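import Groth.Statements.S13863
import Mathlib
import Groth.Agent.Lib.Helper99.PSRoot2

set_option autoImplicit false
universe u
open ASCover

namespace Groth.Agent.S13863

/-- For k an algebraically closed field of characteristic p > 0, n ≥ 1 an integer prime to p, and u ∈
k[[t]] the power series with constant term 1 and u^n · (1 + t^n) = 1, the substitution σ(t) = t·u is
a k-automorphism of k((t)) of order p and, for an integer a, σ acts on the fractional ideal I =
t^a·k[[t]]; transported to B = k[[t]] along h ↦ t^a·h this action is h ↦ u^a · h(t·u). For an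
integer i with a − n ≤ i ≤ a − 1 the element σ(t^i) − t^i lies in I, so t^i defines a class in
H^1(⟨σ⟩, I); the classes with p ∤ i form a basis of this H^1, and when p divides i the class
vanishes, i.e. σ(t^i) − t^i = σ(w) − w for some w ∈ I. (The published statement of this vanishing is
printed with the condition p ∤ i, which contradicts the basis assertion of the same lemma; its proof
treats p | i, and this row states that case.) In transported form, with m = a − i ∈ [1, n] and c ∈
k[[t]] defined by t^m · c = u^i − 1: there is h ∈ k[[t]] with u^a · h(t·u) − h = c. -/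
theorem result {k : Type u} [Field k] [IsAlgClosed k] (p : ℕ)
    [Fact p.Prime] [CharP k p] (n : ℕ) (hn : 0 < n) (hpn : ¬ p ∣ n)
    (u : PowerSeries k) (hu1 : PowerSeries.constantCoeff u = 1)
    (hun : u ^ n * (1 + PowerSeries.X ^ n) = 1) (hu : IsUnit u) (a : ℤ) (m : ℕ)
    (hm1 : 1 ≤ m) (hmn : m ≤ n) (hdvd : (p : ℤ) ∣ a - m) (c : PowerSeries k)
    (hc : PowerSeries.X ^ m * c = ((hu.unit ^ (a - m) : (PowerSeries k)ˣ) : PowerSeries k) - 1) :
    ∃ h : PowerSeries k,
      ((hu.unit ^ a : (PowerSeries k)ˣ) : PowerSeries k) * PowerSeries.subst (PowerSeries.X * u) h - h = c := by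
  classical
  have hp : p.Prime := Fact.out
  have hnk : (n : k) ≠ 0 := by
    intro h0
    exact hpn ((CharP.cast_eq_zero_iff k p n).mp h0)
  obtain ⟨ζ, hζ⟩ := IsAlgClosed.exists_pow_nat_eq (-1 : k) hn
  have hq : 0 < p - 1 := by have := hp.two_le; omega
  obtain ⟨v, hv1, hvn⟩ := Groth.Agent.Lib.Helper99.PSRoot.exists_root_v n (p - 1) hq u hu1 hun ζ hζ
  have hkey := Groth.Agent.Lib.Helper99.PSRoot.key_identity p n hn hnk u v hu1 hun hv1 hvn
  set N := n * (p - 1) with hN
  have hNpos : 0 < N := Nat.mul_pos hn hq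
  have hmN : m ≤ N := le_trans hmn (Nat.le_mul_of_pos_right n hq)
  have hvu : IsUnit v := by
    rw [PowerSeries.isUnit_iff_constantCoeff, hv1]; exact isUnit_one
  set U := hu.unit with hU
  have hUval : (U : PowerSeries k) = u := hu.unit_spec
  set V := hvu.unit with hV
  have hVval : (V : PowerSeries k) = v := hvu.unit_spec
  have hs : PowerSeries.HasSubst (PowerSeries.X * u : PowerSeries k) :=
    PowerSeries.HasSubst.of_constantCoeff_zero' (by
      rw [map_mul, PowerSeries.constantCoeff_X, zero_mul])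
  set τ := PowerSeries.substAlgHom (R := k) hs with hτdef
  have hτ : ∀ f, τ f = PowerSeries.subst (PowerSeries.X * u : PowerSeries k) f := by
    intro f
    rw [hτdef, PowerSeries.coe_substAlgHom]
  have hτX : τ PowerSeries.X = PowerSeries.X * u := by
    rw [hτ, PowerSeries.subst_X hs]
  rw [← hτ] at hkey
  -- `v ≡ 1` modulo `X ^ N`
  obtain ⟨gv, hgv⟩ := Groth.Agent.Lib.Helper99.PSRoot.X_pow_dvd_sub_one n N hnk v
    (-(PowerSeries.X : PowerSeries k) ^ N) hv1 (by rw [← sub_eq_add_neg]; exact hvn)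
    (Dvd.intro (-1) (by ring))
  have hVg : (V : PowerSeries k) = 1 + PowerSeries.X ^ N * gv := by
    rw [hVval, ← hgv]; ring
  obtain ⟨j, hj⟩ := hdvd
  obtain ⟨gj, hgj, -⟩ := Groth.Agent.Lib.Helper99.PSRoot.zpow_eq_one_add N hNpos V gv hVg j
  -- the solution
  refine ⟨-(PowerSeries.X ^ (N - m) * gj), ?_⟩
  set h : PowerSeries k := -(PowerSeries.X ^ (N - m) * gj) with hh
  have hXh : PowerSeries.X ^ m * h = 1 - ((V ^ j : (PowerSeries k)ˣ) : PowerSeries k) := by
    have : (PowerSeries.X : PowerSeries k) ^ N = PowerSeries.X ^ m * PowerSeries.X ^ (N - m) := by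
      rw [← pow_add, Nat.add_sub_cancel' hmN]
    rw [hgj, this, hh]; ring
  -- the action of `τ` on units
  let τu : (PowerSeries k)ˣ →* (PowerSeries k)ˣ := Units.map (τ : PowerSeries k →* PowerSeries k)
  have hτu : ∀ x : (PowerSeries k)ˣ, ((τu x : (PowerSeries k)ˣ) : PowerSeries k) = τ (x : PowerSeries k) :=
    fun x => rfl
  have hτV : U ^ p * τu V = V := by
    apply Units.ext
    rw [Units.val_mul, Units.val_pow_eq_pow_val, hτu, hUval, hVval]
    exact hkey
  have hτV' : τu V = (U ^ p)⁻¹ * V := eq_inv_mul_of_mul_eq hτV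
  set W := U ^ (a - (m : ℤ)) with hW
  have hW' : W = (U ^ p) ^ j := by
    rw [hW, hj, zpow_mul, zpow_natCast]
  have hτVj : τ ((V ^ j : (PowerSeries k)ˣ) : PowerSeries k) =
      ((W⁻¹ * V ^ j : (PowerSeries k)ˣ) : PowerSeries k) := by
    rw [← hτu, map_zpow, hτV', mul_zpow, inv_zpow, ← hW']
  have hUa : ((U ^ a : (PowerSeries k)ˣ) : PowerSeries k) = (W : PowerSeries k) * u ^ m := by
    rw [← hUval, ← Units.val_pow_eq_pow_val, ← Units.val_mul, hW, ← zpow_natCast U m, ← zpow_add]
    congr 2
    ring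
  have hXne : (PowerSeries.X : PowerSeries k) ^ m ≠ 0 := pow_ne_zero _ PowerSeries.X_ne_zero
  apply mul_left_cancel₀ hXne
  rw [hc, ← hτ, mul_sub, hXh]
  have h1 : PowerSeries.X ^ m * (((U ^ a : (PowerSeries k)ˣ) : PowerSeries k) * τ h) =
      (W : PowerSeries k) * τ (PowerSeries.X ^ m * h) := by
    rw [map_mul, map_pow, hτX, mul_pow, hUa]
    ring
  rw [h1, hXh, map_sub, map_one, hτVj, Units.val_mul, mul_sub, mul_one, ← mul_assoc,
    ← Units.val_mul, mul_inv_cancel, Units.val_one, one_mul]
  ring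

end Groth.Agent.S13863
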