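import Groth.Statements.S13864
import Mathlib
import Groth.Agent.Lib.Helper99.PSRoot

set_option autoImplicit false
universe u
open ASCover

namespace Groth.Agent.S13864

/-- Let k be an algebraically closed field of characteristic p > 0, n ≥ 1 an integer prime to p, u ∈
k[[t]] the power series with constant term 1 and u^n · (1 + t^n) = 1 (so σ(t) = t·u is a
k-automorphism of k((t)) of order p), and a an integer; σ acts on I = t^a·k[[t]], and transported to
B = k[[t]] along h ↦ t^a·h the action is h ↦ u^a · h(t·u). For 1 ≤ m ≤ n let c_m ∈ B be determined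
by t^m · c_m = u^(a−m) − 1; this is the cocycle value σ(t^i) − t^i ∈ I of the element t^i, i = a −
m, divided by t^a. The published lemma says that the classes of the t^i with a − n ≤ i ≤ a − 1 and p
∤ i form a basis of H^1(⟨σ⟩, I); this row states their linear independence: if Σ λ_m c_m, summed
over 1 ≤ m ≤ n with p ∤ a − m, equals u^a · h(t·u) − h for some h ∈ B, then every such λ_m is 0.
(Together with the dimension of this H^1, namely n − ⌊(a−1)/p⌋ + ⌊(a−1−n)/p⌋, this gives the basis
statement.) -/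
theorem result {k : Type u} [Field k] [IsAlgClosed k] (p : ℕ)
    [Fact p.Prime] [CharP k p] (n : ℕ) (hn : 0 < n) (hpn : ¬ p ∣ n)
    (u : PowerSeries k) (hu1 : PowerSeries.constantCoeff u = 1)
    (hun : u ^ n * (1 + PowerSeries.X ^ n) = 1) (hu : IsUnit u) (a : ℤ)
    (c : ℕ → PowerSeries k)
    (hc : ∀ m : ℕ, 1 ≤ m → m ≤ n →
      PowerSeries.X ^ m * c m = ((hu.unit ^ (a - m) : (PowerSeries k)ˣ) : PowerSeries k) - 1)
    (coef : ℕ → k) (h : PowerSeries k)
    (hh : ((hu.unit ^ a : (PowerSeries k)ˣ) : PowerSeries k) * PowerSeries.subst (PowerSeries.X * u) h - h =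
      ∑ m ∈ (Finset.Icc 1 n).filter (fun m : ℕ => ¬ (p : ℤ) ∣ a - (m : ℤ)), coef m • c m) :
    ∀ m ∈ (Finset.Icc 1 n).filter (fun m : ℕ => ¬ (p : ℤ) ∣ a - (m : ℤ)), coef m = 0 := by
  classical
  have hp : p.Prime := Fact.out
  have hnk : (n : k) ≠ 0 := by
    intro h0
    exact hpn ((CharP.cast_eq_zero_iff k p n).mp h0)
  obtain ⟨g, hg, hg0⟩ := Groth.Agent.Lib.Helper99.PSRoot.exists_eq_one_add n hn hnk u hu1 hun
  have hg0ne : PowerSeries.constantCoeff g ≠ 0 := by
    intro h0
    rw [h0, zero_mul] at hg0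
    exact one_ne_zero (neg_eq_zero.mp hg0.symm)
  set F := (Finset.Icc 1 n).filter (fun m : ℕ => ¬ (p : ℤ) ∣ a - (m : ℤ)) with hF
  by_contra hcon
  push Not at hcon
  obtain ⟨m1, hm1F, hm1⟩ := hcon
  let S := F.filter (fun m => coef m ≠ 0)
  have hSne : S.Nonempty := ⟨m1, Finset.mem_filter.mpr ⟨hm1F, hm1⟩⟩
  set m₀ := S.max' hSne with hm₀
  have hm₀S : m₀ ∈ S := Finset.max'_mem S hSne
  have hm₀F : m₀ ∈ F := (Finset.mem_filter.mp hm₀S).1
  have hm₀c : coef m₀ ≠ 0 := (Finset.mem_filter.mp hm₀S).2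
  have hmax : ∀ m ∈ F, m₀ < m → coef m = 0 := by
    intro m hm hlt
    by_contra hne
    have := Finset.le_max' S m (Finset.mem_filter.mpr ⟨hm, hne⟩)
    omega
  obtain ⟨hm₀Icc, hm₀p⟩ := Finset.mem_filter.mp hm₀F
  rw [Finset.mem_Icc] at hm₀Icc
  set U := hu.unit with hU
  have hUval : (U : PowerSeries k) = u := hu.unit_spec
  have hs : PowerSeries.HasSubst (PowerSeries.X * u : PowerSeries k) :=
    PowerSeries.HasSubst.of_constantCoeff_zero' (by
      rw [map_mul, PowerSeries.constantCoeff_X, zero_mul])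
  set τ := PowerSeries.substAlgHom (R := k) hs with hτdef
  have hτ : ∀ f, τ f = PowerSeries.subst (PowerSeries.X * u : PowerSeries k) f := by
    intro f
    rw [hτdef, PowerSeries.coe_substAlgHom]
  have hτX : τ PowerSeries.X = PowerSeries.X * u := by
    rw [hτ, PowerSeries.subst_X hs]
  have hUpow : ∀ j : ℕ, ((U ^ (j : ℤ) : (PowerSeries k)ˣ) : PowerSeries k) = u ^ j := by
    intro j
    rw [zpow_natCast, Units.val_pow_eq_pow_val, hUval]
  set e : PowerSeries k := ∑ m ∈ F, coef m • PowerSeries.X ^ (m₀ - m) - PowerSeries.X ^ m₀ * h with he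
  -- the key identity
  have hterm : ∀ m ∈ F, ((U ^ (a - (m₀ : ℤ)) : (PowerSeries k)ˣ) : PowerSeries k) *
      (coef m • (PowerSeries.X * u) ^ (m₀ - m)) =
      coef m • PowerSeries.X ^ (m₀ - m) + PowerSeries.X ^ m₀ * (coef m • c m) := by
    intro m hm
    by_cases hle : m ≤ m₀
    · obtain ⟨hmIcc, _⟩ := Finset.mem_filter.mp hm
      rw [Finset.mem_Icc] at hmIcc
      have h1 : ((U ^ (a - (m₀ : ℤ)) : (PowerSeries k)ˣ) : PowerSeries k) * u ^ (m₀ - m) =
          ((U ^ (a - (m : ℤ)) : (PowerSeries k)ˣ) : PowerSeries k) := by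
        rw [← hUpow, ← Units.val_mul, ← zpow_add]
        congr 2
        rw [Nat.cast_sub hle]
        ring
      have h2 := hc m hmIcc.1 hmIcc.2
      have h3 : ((U ^ (a - (m : ℤ)) : (PowerSeries k)ˣ) : PowerSeries k) =
          1 + PowerSeries.X ^ m * c m := by rw [h2]; ring
      have h4 : (PowerSeries.X : PowerSeries k) ^ m₀ = PowerSeries.X ^ (m₀ - m) * PowerSeries.X ^ m := by
        rw [← pow_add, Nat.sub_add_cancel hle]
      rw [mul_pow, mul_smul_comm]
      have h5 : ((U ^ (a - (m₀ : ℤ)) : (PowerSeries k)ˣ) : PowerSeries k) *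
          (PowerSeries.X ^ (m₀ - m) * u ^ (m₀ - m)) =
          PowerSeries.X ^ (m₀ - m) + PowerSeries.X ^ m₀ * c m := by
        calc ((U ^ (a - (m₀ : ℤ)) : (PowerSeries k)ˣ) : PowerSeries k) *
            (PowerSeries.X ^ (m₀ - m) * u ^ (m₀ - m))
            = PowerSeries.X ^ (m₀ - m) *
              (((U ^ (a - (m₀ : ℤ)) : (PowerSeries k)ˣ) : PowerSeries k) * u ^ (m₀ - m)) := by ring
          _ = PowerSeries.X ^ (m₀ - m) * (1 + PowerSeries.X ^ m * c m) := by rw [h1, h3]
          _ = PowerSeries.X ^ (m₀ - m) + PowerSeries.X ^ m₀ * c m := by rw [h4]; ring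
      rw [h5, smul_add, mul_smul_comm]
    · have h0 : coef m = 0 := hmax m hm (by omega)
      rw [h0, zero_smul, zero_smul, zero_smul, mul_zero, mul_zero, add_zero]
  have hlast : ((U ^ (a - (m₀ : ℤ)) : (PowerSeries k)ˣ) : PowerSeries k) *
      ((PowerSeries.X * u) ^ m₀ * τ h) =
      PowerSeries.X ^ m₀ * (((U ^ a : (PowerSeries k)ˣ) : PowerSeries k) * τ h) := by
    have h1 : ((U ^ (a - (m₀ : ℤ)) : (PowerSeries k)ˣ) : PowerSeries k) * u ^ m₀ =
        ((U ^ a : (PowerSeries k)ˣ) : PowerSeries k) := by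
      rw [← hUpow, ← Units.val_mul, ← zpow_add]
      congr 2
      ring
    rw [← h1, mul_pow]
    ring
  have hkey : ((U ^ (a - (m₀ : ℤ)) : (PowerSeries k)ˣ) : PowerSeries k) * τ e = e := by
    have hτe : τ e = ∑ m ∈ F, coef m • (PowerSeries.X * u) ^ (m₀ - m) -
        (PowerSeries.X * u) ^ m₀ * τ h := by
      rw [he, map_sub, map_sum, map_mul, map_pow, hτX]
      congr 1
      apply Finset.sum_congr rfl
      intro m _
      rw [map_smul, map_pow, hτX]
    rw [hτe, mul_sub, Finset.mul_sum, Finset.sum_congr rfl hterm, hlast, Finset.sum_add_distrib,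
      ← Finset.mul_sum, ← hh, hτ, he]
    ring
  -- compare coefficients of `X ^ n`
  obtain ⟨gi, hgi, hgi0⟩ := Groth.Agent.Lib.Helper99.PSRoot.zpow_eq_one_add n hn U g
    (by rw [hUval]; exact hg) (a - (m₀ : ℤ))
  have hcoeff := congrArg (PowerSeries.coeff n) hkey
  rw [hgi, add_mul, one_mul, map_add, mul_assoc] at hcoeff
  have hc1 : PowerSeries.coeff n (τ e) = PowerSeries.coeff n e := by
    rw [hτ]
    exact Groth.Agent.Lib.Helper99.PSRoot.coeff_subst_of_le n hn hnk u hu1 hun e n le_rfl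
  have hc0 : PowerSeries.constantCoeff (τ e) = PowerSeries.constantCoeff e := by
    have := Groth.Agent.Lib.Helper99.PSRoot.coeff_subst_of_le n hn hnk u hu1 hun e 0 (Nat.zero_le n)
    rw [PowerSeries.coeff_zero_eq_constantCoeff_apply, PowerSeries.coeff_zero_eq_constantCoeff_apply,
      ← hτ] at this
    exact this
  have hc2 : PowerSeries.coeff n (PowerSeries.X ^ n * (gi * τ e)) =
      PowerSeries.constantCoeff gi * PowerSeries.constantCoeff e := by
    have := PowerSeries.coeff_X_pow_mul (gi * τ e) n 0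
    rw [zero_add] at this
    rw [this, PowerSeries.coeff_zero_eq_constantCoeff_apply, map_mul, hc0]
  rw [hc1, hc2] at hcoeff
  have hzero : PowerSeries.constantCoeff gi * PowerSeries.constantCoeff e = 0 := by
    have := hcoeff
    rwa [add_eq_left] at this
  have he0 : PowerSeries.constantCoeff e = coef m₀ := by
    rw [he, map_sub, map_sum, map_mul, map_pow, PowerSeries.constantCoeff_X,
      zero_pow (by omega : m₀ ≠ 0), zero_mul, sub_zero]
    rw [Finset.sum_eq_single m₀]
    · rw [Nat.sub_self, pow_zero]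
      simp
    · intro m hm hne
      by_cases hlt : m < m₀
      · have : m₀ - m ≠ 0 := by omega
        simp [this]
      · have h0 : coef m = 0 := hmax m hm (by omega)
        simp [h0]
    · intro hnot
      exact absurd hm₀F hnot
  rw [he0, hgi0] at hzero
  have h3 : ((a - (m₀ : ℤ) : ℤ) : k) = 0 := by
    rcases mul_eq_zero.mp hzero with h4 | h4
    · rcases mul_eq_zero.mp h4 with h5 | h5
      · exact h5
      · exact absurd h5 hg0ne
    · exact absurd h4 hm₀c
  exact hm₀p ((CharP.intCast_eq_zero_iff k p _).mp h3)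

end Groth.Agent.S13864
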