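import Groth.Statements.S12571
import Groth.Agent.FunFld.LocResFF
import Groth.Agent.FunFld.SepVar
import Groth.Agent.FunFld.KaehlerFF

set_option autoImplicit false
universe u v w
open FunFld

namespace Groth.Agent.S12571

/-- The different exponent `d(Q|P) = v_Q(ω) - e(Q|P) v_P(ω)` of a place `Q` of a finite separable
extension `K'` of a geometric function field of one variable `K/k` over a place `P` does not depend
on the nonzero differential `ω` of `K` used; here `ω = dx` and `ω = dx'`, read through Laurent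
expansions at `P` and at `Q` (separable places). (The published statement allows any finite
extension along which differentials of `K` pull back injectively; this row takes `K'` separable over
`K`.) -/
theorem result (k : Type u) (K K' : Type v) [Field k] [Field K] [Field K'] [Algebra k K] [Algebra K K'] [Algebra k K']
    [IsScalarTower k K K'] [FiniteDimensional K K'] [Algebra.IsSeparable K K']
    (hK : FunFld.IsFunctionField k K) (hg : FunFld.IsGeometric k K)
    (F F' : Type w) [Field F] [Algebra k F] [Field F'] [Algebra k F']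
    (P : FunFld.Place k K) (Q : FunFld.Place k K') (e : ℕ) (he : FunFld.IsOverWith Q P e)
    (φ : K →ₐ[k] LaurentSeries F) (hφ : LocRes.IsExpansionAt P.1 φ)
    (ψ : K' →ₐ[k] LaurentSeries F') (hψ : LocRes.IsExpansionAt Q.1 ψ)
    (x : K) (hx : LocRes.vDiff φ 1 x ≠ 0) (hx' : LocRes.vDiff ψ 1 (algebraMap K K' x) ≠ 0)
    (x' : K) (hx2 : LocRes.vDiff φ 1 x' ≠ 0) (hx2' : LocRes.vDiff ψ 1 (algebraMap K K' x') ≠ 0) :
    LocRes.diffExp φ ψ e x = LocRes.diffExp φ ψ e x' := by
  classical
  obtain ⟨x₀, hx₀, hsep₀⟩ := Groth.Agent.FF.exists_separating hK hg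
  have hrank := Groth.Agent.FF.finrank_kaehler_eq_one_of_separating hx₀
  have hDx : KaehlerDifferential.D k K x ≠ 0 := by
    intro h0
    apply hx
    unfold LocRes.vDiff
    have h1 := Groth.Agent.FF.D_exp_of_D_eq_smul φ (x := x) (x' := x) (u := 0)
      (by rw [h0, smul_zero])
    rw [h1, map_zero, zero_mul, mul_zero, map_zero]
  obtain ⟨c, hc⟩ := (finrank_eq_one_iff_of_nonzero' (KaehlerDifferential.D k K x) hDx).mp hrank
    (KaehlerDifferential.D k K x')
  have hcne : c ≠ 0 := by
    rintro rfl
    apply hx2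
    unfold LocRes.vDiff
    rw [Groth.Agent.FF.D_exp_of_D_eq_smul φ hc.symm, map_zero, zero_mul, mul_zero, map_zero]
  -- the composite expansion
  let ψ' : K →ₐ[k] LaurentSeries F' := ψ.comp (IsScalarTower.toAlgHom k K K')
  have hψ' : ∀ f : K, Valued.v (ψ' f) = (Q.1.comap (algebraMap K K')) f := fun f => hψ.1 _
  have e1 : ∀ y : K, LocRes.vDiff ψ 1 (algebraMap K K' y) = LocRes.vDiff ψ' 1 y := by
    intro y
    unfold LocRes.vDiff
    rw [map_one, map_one]
    rfl
  have e2 : ∀ y : K, LocRes.ordDiff ψ 1 (algebraMap K K' y) = LocRes.ordDiff ψ' 1 y := by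
    intro y
    unfold LocRes.ordDiff
    rw [e1]
  have o1 := Groth.Agent.FF.ordDiff_of_D_eq_smul P.1 φ hφ.1 hc.symm hcne hx
  have o2 := Groth.Agent.FF.ordDiff_of_D_eq_smul (Q.1.comap (algebraMap K K')) ψ' hψ' hc.symm hcne
    (by rw [← e1]; exact hx')
  unfold LocRes.diffExp
  rw [e2, e2, o1, o2, Valuation.comap_apply, he c, WithZero.log_pow]
  simp only [nsmul_eq_mul]
  ring

end Groth.Agent.S12571
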