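import Groth.Statements.S0560
import Groth.Agent.Lib.Helper85.RegularLocal

set_option autoImplicit false
universe u
open CAlg

namespace Groth.Agent.S0560

/-- Regularity of a Noetherian local ring can be checked after dividing out one nonzerodivisor lying in
the maximal ideal: if that quotient is a regular local ring, so is the original ring. -/
theorem result (R : Type u) [CommRing R] [IsLocalRing R]
    [IsNoetherianRing R] (x : R) (hx : x ∈ IsLocalRing.maximalIdeal R) (hreg : x ∈ nonZeroDivisors R)
    [IsRegularLocalRing (R ⧸ Ideal.span ({x} : Set R))] : IsRegularLocalRing R := by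
  classical
  have h1 := ringKrullDim_quotient_succ_le_of_nonZeroDivisor hreg
  have h4 : ringKrullDim (R ⧸ Ideal.span ({x} : Set R)) =
      (IsLocalRing.maximalIdeal (R ⧸ Ideal.span ({x} : Set R))).spanFinrank :=
    (IsRegularLocalRing.spanFinrank_maximalIdeal (R := R ⧸ Ideal.span ({x} : Set R))).symm
  -- embedding dimension of R is at most that of the quotient plus one
  obtain ⟨s, hscard, hs⟩ := Submodule.FG.exists_span_finset_card_eq_spanFinrank
    (IsLocalRing.maximalIdeal (R ⧸ Ideal.span ({x} : Set R))).fg_of_isNoetherianRing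
  have hsurj : Function.Surjective (Ideal.Quotient.mk (Ideal.span ({x} : Set R))) :=
    Ideal.Quotient.mk_surjective
  let t : Finset R := s.image (Function.surjInv hsurj)
  have hts : (Ideal.Quotient.mk (Ideal.span ({x} : Set R))) '' (t : Set R) =
      (s : Set (R ⧸ Ideal.span ({x} : Set R))) := by
    ext y
    simp only [t, Finset.coe_image, Set.mem_image, Finset.mem_coe]
    constructor
    · rintro ⟨x, ⟨z, hz, rfl⟩, rfl⟩
      rw [Function.surjInv_eq hsurj]; exact hz
    · intro hy
      exact ⟨_, ⟨y, hy, rfl⟩, Function.surjInv_eq hsurj y⟩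
  have hmap : (Ideal.span (t : Set R)).map (Ideal.Quotient.mk (Ideal.span ({x} : Set R))) =
      (IsLocalRing.maximalIdeal R).map (Ideal.Quotient.mk (Ideal.span ({x} : Set R))) := by
    rw [Ideal.map_span, hts, Groth.Agent.Lib.Helper85.maximalIdeal_map_of_surjective _ hsurj]
    exact hs
  have hcomap := congrArg (Ideal.comap (Ideal.Quotient.mk (Ideal.span ({x} : Set R)))) hmap
  rw [Ideal.comap_map_of_surjective _ hsurj, Ideal.comap_map_of_surjective _ hsurj,
    ← RingHom.ker_eq_comap_bot, Ideal.mk_ker] at hcomap
  have hxm : Ideal.span ({x} : Set R) ≤ IsLocalRing.maximalIdeal R :=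
    (Ideal.span_singleton_le_iff_mem _).mpr hx
  have heq : IsLocalRing.maximalIdeal R = Ideal.span ((insert x t : Finset R) : Set R) := by
    rw [Finset.coe_insert, Set.insert_eq, Ideal.span_union, sup_comm, hcomap]
    exact (sup_eq_left.mpr hxm).symm
  have hle : (IsLocalRing.maximalIdeal R).spanFinrank ≤
      (IsLocalRing.maximalIdeal (R ⧸ Ideal.span ({x} : Set R))).spanFinrank + 1 := by
    calc (IsLocalRing.maximalIdeal R).spanFinrank
        = (Ideal.span ((insert x t : Finset R) : Set R)).spanFinrank := by rw [← heq]
      _ ≤ ((insert x t : Finset R) : Set R).ncard :=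
          Submodule.spanFinrank_span_le_ncard_of_finite (Finset.finite_toSet _)
      _ = (insert x t : Finset R).card := Set.ncard_coe_finset _
      _ ≤ t.card + 1 := Finset.card_insert_le _ _
      _ ≤ s.card + 1 := Nat.add_le_add_right Finset.card_image_le 1
      _ = _ := by rw [hscard]
  apply IsRegularLocalRing.of_spanFinrank_maximalIdeal_le
  refine le_trans ?_ h1
  rw [h4]
  exact_mod_cast hle

end Groth.Agent.S0560
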