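import Mathlib
import Groth.Statements.S11450
import Groth.Agent.Lib.Helper73.LeftDerivedLES

set_option autoImplicit false
universe u
open CategoryTheory
open DefT

namespace Groth.Agent.S11450

open Groth.Agent.Lib.Helper73 MonoidalCategory Limits

variable {A : Type u} [CommRing A]

/-- `M ⊗ -` -/
abbrev TF (M : ModuleCat.{u} A) : ModuleCat.{u} A ⥤ ModuleCat.{u} A :=
  (tensoringLeft (ModuleCat.{u} A)).obj M

lemma isZero_tor_of_flat (M : ModuleCat.{u} A) [Module.Flat A M] (N : ModuleCat.{u} A) (q : ℕ) :
    IsZero (((TF M).leftDerived (q + 1)).obj N) := by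
  have hlim : PreservesFiniteLimits (TF M) := by
    change PreservesFiniteLimits (tensorLeft M); infer_instance
  have hcolim : PreservesFiniteColimits (TF M) := by
    change PreservesFiniteColimits (tensorLeft M); infer_instance
  have hPH : (TF M).PreservesHomology := inferInstance
  let P := ProjectiveResolution.of N
  have e := P.isoLeftDerivedObj (TF M) (q + 1)
  refine IsZero.of_iso ?_ e
  change IsZero (HomologicalComplex.homology _ _)
  rw [← HomologicalComplex.exactAt_iff_isZero_homology]
  have hex := P.complex_exactAt_succ q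
  rw [HomologicalComplex.exactAt_iff] at hex ⊢
  exact hex.map (TF M)

/-- short exact complex from linear maps -/
lemma shortExact_of_linear {N₁ N₂ N₃ : Type u} [AddCommGroup N₁] [Module A N₁]
    [AddCommGroup N₂] [Module A N₂] [AddCommGroup N₃] [Module A N₃]
    (f : N₁ →ₗ[A] N₂) (g : N₂ →ₗ[A] N₃) (hf : Function.Injective f)
    (hg : Function.Surjective g) (hfg : Function.Exact f g) :
    (ModuleCat.shortComplexOfCompEqZero f g hfg.linearMap_comp_eq_zero).ShortExact :=
  ModuleCat.shortComplex_shortExact _ hfg hf hg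

lemma key [IsNoetherianRing A] (M : ModuleCat.{u} A)
    (h : ∀ p : Ideal A, p.IsPrime →
      IsZero (((TF M).leftDerived 1).obj (ModuleCat.of A (A ⧸ p))))
    (N : Type u) [AddCommGroup N] [Module A N] (hN : Module.Finite A N) :
    IsZero (((TF M).leftDerived 1).obj (ModuleCat.of A N)) := by
  induction hN using IsNoetherianRing.induction_on_isQuotientEquivQuotientPrime A with
  | subsingleton N =>
    have hz : IsZero (ModuleCat.of A N) := ModuleCat.isZero_of_subsingleton _
    have : Projective (ModuleCat.of A N) := hz.projective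
    exact (TF M).isZero_leftDerived_obj_projective_succ 0 _
  | quotient N p f =>
    exact IsZero.of_iso (h p.1 p.2) (((TF M).leftDerived 1).mapIso f.toModuleIso)
  | exact N₁ N₂ N₃ f g hf hg hfg h₁ h₃ =>
    have hS := shortExact_of_linear f g hf hg hfg
    obtain ⟨⟨w₀, hex⟩, -⟩ := leftDerived_les (TF M) hS 1
    exact hex.isZero_of_both_isZero h₁ h₃

lemma mono_tensor_of_isZero (M : ModuleCat.{u} A) {S : ShortComplex (ModuleCat.{u} A)}
    (hS : S.ShortExact) (h : IsZero (((TF M).leftDerived 1).obj S.X₃)) :
    Mono ((TF M).map S.f) := by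
  obtain ⟨-, δ, w₁, w₂, -, hex⟩ := leftDerived_les (TF M) hS 0
  have hmono : Mono (((TF M).leftDerived 0).map S.f) :=
    hex.mono_g (h.eq_of_src _ _)
  have hF : PreservesFiniteColimits (TF M) := by
    change PreservesFiniteColimits (tensorLeft M)
    infer_instance
  let e := (TF M).leftDerivedZeroIsoSelf
  have hnat := e.hom.naturality S.f
  have h3 : e.inv.app S.X₁ ≫ (((TF M).leftDerived 0).map S.f ≫ e.hom.app S.X₂) =
      (TF M).map S.f := by
    rw [hnat, Iso.inv_hom_id_app_assoc]
  rw [← h3]
  have i1 : IsIso (e.hom.app S.X₂) := ⟨⟨e.inv.app S.X₂, by simp, by simp⟩⟩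
  have i2 : IsIso (e.inv.app S.X₁) := ⟨⟨e.hom.app S.X₁, by simp, by simp⟩⟩
  have m1 : Mono (e.hom.app S.X₂) := IsIso.mono_of_iso _
  have m2 : Mono (e.inv.app S.X₁) := IsIso.mono_of_iso _
  have h4 : Mono (((TF M).leftDerived 0).map S.f ≫ e.hom.app S.X₂) := @mono_comp _ _ _ _ _ _ hmono _ m1
  exact @mono_comp _ _ _ _ _ _ m2 _ h4

theorem result (A : Type u) [CommRing A]
    [IsNoetherianRing A] (M : Type u) [AddCommGroup M] [Module A M] :
    Module.Flat A M ↔ ∀ p : Ideal A, p.IsPrime →
      Limits.IsZero (((CategoryTheory.Tor (ModuleCat.{u} A) 1).obj (ModuleCat.of A M)).obj (ModuleCat.of A (A ⧸ p))) := by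
  constructor
  · intro hflat p _
    have : Module.Flat A (ModuleCat.of A M) := hflat
    exact isZero_tor_of_flat (ModuleCat.of A M) _ 0
  · intro h
    rw [Module.Flat.iff_lTensor_injective']
    intro I
    have hS := shortExact_of_linear I.subtype I.mkQ (Submodule.injective_subtype _)
      (Submodule.mkQ_surjective _) (LinearMap.exact_subtype_mkQ I)
    have hz : IsZero (((TF (ModuleCat.of A M)).leftDerived 1).obj (ModuleCat.of A (A ⧸ I))) :=
      key (ModuleCat.of A M) h (A ⧸ I) inferInstance
    have hmono := mono_tensor_of_isZero (ModuleCat.of A M) hS hz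
    rw [ModuleCat.mono_iff_injective] at hmono
    exact hmono

end Groth.Agent.S11450
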