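import Mathlib
import Groth.Statements.S5804

set_option autoImplicit false
universe u
open CategoryTheory
open EGA41

namespace Groth.Agent.S5804

open Limits Abelian

variable {A : Type u} [CommRing A]

/-- Baer criterion in `Ext` form -/
lemma injective_of_ext_one (N : ModuleCat.{u} A)
    (h : ∀ I : Ideal A, Subsingleton (Ext (ModuleCat.of A (A ⧸ I)) N 1)) : Injective N := by
  have hB : Module.Baer A N := by
    intro I g
    have hS : (ModuleCat.shortComplexOfCompEqZero I.subtype I.mkQ
        (LinearMap.exact_subtype_mkQ I).linearMap_comp_eq_zero).ShortExact :=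
      ModuleCat.shortComplex_shortExact _ (LinearMap.exact_subtype_mkQ I)
        (Submodule.injective_subtype _) (Submodule.mkQ_surjective _)
    have := h I
    obtain ⟨x₂, hx₂⟩ := Ext.contravariant_sequence_exact₁ hS N (Ext.mk₀ (ModuleCat.ofHom g))
      (rfl : 1 + 0 = 1) (Subsingleton.elim _ _)
    obtain ⟨g', rfl⟩ := (Ext.mk₀_bijective _ _).2 x₂
    rw [Ext.mk₀_comp_mk₀] at hx₂
    have h3 := (Ext.mk₀_bijective _ _).1 hx₂
    refine ⟨g'.hom, fun x hx => ?_⟩
    have h4 := congrArg (fun φ => φ.hom ⟨x, hx⟩) h3
    exact h4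
  have hI := Module.Baer.injective hB
  exact (Module.injective_iff_injective_object A N).mp hI

lemma injdim (n : ℕ) : ∀ (N : ModuleCat.{u} A),
    (∀ I : Ideal A, Subsingleton (Ext (ModuleCat.of A (A ⧸ I)) N (n + 1))) →
      HasInjectiveDimensionLT N (n + 1) := by
  induction n with
  | zero =>
    intro N h
    have := injective_of_ext_one N h
    infer_instance
  | succ n ih =>
    intro N h
    let ⟨p⟩ := EnoughInjectives.presentation N
    have hS : (ShortComplex.mk _ _ (cokernel.condition p.f)).ShortExact :=
      { exact := ShortComplex.exact_cokernel p.f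
        mono_f := p.mono }
    have hC : ∀ I : Ideal A, Subsingleton (Ext (ModuleCat.of A (A ⧸ I)) (cokernel p.f) (n + 1)) := by
      intro I
      have := h I
      suffices ∀ x : Ext (ModuleCat.of A (A ⧸ I)) (cokernel p.f) (n + 1), x = 0 from
        ⟨fun x y => by rw [this x, this y]⟩
      intro x
      obtain ⟨x₂, rfl⟩ := Ext.covariant_sequence_exact₃ _ hS x (rfl : n + 1 + 1 = n + 2)
        (Subsingleton.elim _ _)
      have := p.injective
      rw [Ext.eq_zero_of_injective x₂, Ext.zero_comp]
    have h5 := ih (cokernel p.f) hC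
    exact (hS.hasInjectiveDimensionLT_X₃_iff n p.injective).mp h5

theorem result (A : Type u) [CommRing A] (n : ℕ)
    (h : ∀ I : Ideal A, HasProjectiveDimensionLT (ModuleCat.of A (A ⧸ I)) (n + 1)) (M : Type u)
    [AddCommGroup M] [Module A M] : HasProjectiveDimensionLT (ModuleCat.of A M) (n + 1) := by
  have hN : ∀ N : ModuleCat.{u} A, HasInjectiveDimensionLT N (n + 1) := fun N =>
    injdim n N (fun I => HasProjectiveDimensionLT.subsingleton _ (n + 1) (n + 1) le_rfl N)
  exact hasProjectiveDimensionLT_of_enoughInjectives _ (n + 1)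
    (fun Y => HasInjectiveDimensionLT.subsingleton Y (n + 1) (n + 1) le_rfl _)

end Groth.Agent.S5804
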