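import Mathlib
import Groth.Statements.S5809
import Groth.Agent.Lib.Helper73.ProjRes
import Groth.Agent.Lib.Helper73.LeftDerivedLES
import Groth.Agent.S11450

set_option autoImplicit false
universe u
open CategoryTheory
open EGA41

namespace Groth.Agent.S5809

open Groth.Agent.Lib.Helper73 MonoidalCategory Limits

variable {A : Type u} [CommRing A]

/-- `X ⊗ -` -/
abbrev TF (X : ModuleCat.{u} A) : ModuleCat.{u} A ⥤ ModuleCat.{u} A :=
  (tensoringLeft (ModuleCat.{u} A)).obj X

/-- a finite presentation short exact sequence `0 → K → A^m → M → 0` -/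
lemma exists_presentation [IsNoetherianRing A] (M : Type u) [AddCommGroup M] [Module A M]
    [Module.Finite A M] :
    ∃ (m : ℕ) (K : Submodule A (Fin m → A)) (g : (Fin m → A) →ₗ[A] M),
      Function.Surjective g ∧ Function.Exact K.subtype g := by
  obtain ⟨m, g, hg⟩ := Module.Finite.exists_fin' A M
  exact ⟨m, LinearMap.ker g, g, hg, LinearMap.exact_subtype_ker_map g⟩

lemma suff [IsLocalRing A] [IsNoetherianRing A] (n : ℕ) :
    ∀ (M : Type u) [AddCommGroup M] [Module A M] [Module.Finite A M],
      IsZero (((TF (ModuleCat.of A (IsLocalRing.ResidueField A))).leftDerived (n + 1)).obj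
        (ModuleCat.of A M)) →
      HasProjectiveDimensionLT (ModuleCat.of A M) (n + 1) := by
  induction n with
  | zero =>
    intro M _ _ _ h
    obtain ⟨m, K, g, hg, hex⟩ := exists_presentation (A := A) M
    have hS := Groth.Agent.S11450.shortExact_of_linear K.subtype g
      (Submodule.injective_subtype _) hg hex
    have hmono := Groth.Agent.S11450.mono_tensor_of_isZero
      (ModuleCat.of A (IsLocalRing.ResidueField A)) hS h
    rw [ModuleCat.mono_iff_injective] at hmono
    have hfree : Module.Free A M :=
      Module.free_of_lTensor_residueField_injective (f := K.subtype) (g := g) hg hex hmono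
    have : Projective (ModuleCat.of A M) :=
      (IsProjective.iff_projective (R := A) M).mp inferInstance
    infer_instance
  | succ n ih =>
    intro M _ _ _ h
    obtain ⟨m, K, g, hg, hex⟩ := exists_presentation (A := A) M
    have hS := Groth.Agent.S11450.shortExact_of_linear K.subtype g
      (Submodule.injective_subtype _) hg hex
    obtain ⟨-, δ, w₁, w₂, -, hex₁⟩ := leftDerived_les
      (TF (ModuleCat.of A (IsLocalRing.ResidueField A))) hS (n + 1)
    have hproj : Projective (ModuleCat.of A (Fin m → A)) :=
      (IsProjective.iff_projective (R := A) (Fin m → A)).mp inferInstance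
    have hz2 : IsZero (((TF (ModuleCat.of A (IsLocalRing.ResidueField A))).leftDerived (n + 1)).obj
        (ModuleCat.of A (Fin m → A))) :=
      (TF (ModuleCat.of A (IsLocalRing.ResidueField A))).isZero_leftDerived_obj_projective_succ n _
    have hzK : IsZero (((TF (ModuleCat.of A (IsLocalRing.ResidueField A))).leftDerived (n + 1)).obj
        (ModuleCat.of A K)) := hex₁.isZero_of_both_isZero h hz2
    have hK := ih K hzK
    exact (hS.hasProjectiveDimensionLT_X₃_iff n hproj).mpr hK

theorem result (A : Type u) [CommRing A] [IsLocalRing A]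
    [IsNoetherianRing A] (M : Type u) [AddCommGroup M] [Module A M] [Module.Finite A M] (n : ℕ) :
    (HasProjectiveDimensionLT (ModuleCat.of A M) (n + 1) →
        ∀ i : ℕ, n < i → Limits.IsZero (((Tor (ModuleCat.{u} A) i).obj
          (ModuleCat.of A (IsLocalRing.ResidueField A))).obj (ModuleCat.of A M))) ∧
      (Limits.IsZero (((Tor (ModuleCat.{u} A) (n + 1)).obj
          (ModuleCat.of A (IsLocalRing.ResidueField A))).obj (ModuleCat.of A M)) →
        HasProjectiveDimensionLT (ModuleCat.of A M) (n + 1)) := by
  refine ⟨fun hpd i hi => ?_, fun h => suff n M h⟩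
  have : HasProjectiveDimensionLE (ModuleCat.of A M) n := hpd
  obtain ⟨P, hP⟩ := exists_finite_resolution n (ModuleCat.of A M)
  exact isZero_leftDerived_obj_of_isZero_resolution
    (TF (ModuleCat.of A (IsLocalRing.ResidueField A))) P i (hP i hi)

end Groth.Agent.S5809
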