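import Mathlib
import Groth.Statements.S5805
import Groth.Agent.Lib.Helper73.TorFirstVar
import Groth.Agent.S11450
import Groth.Agent.S5804
import Groth.Agent.S5809

set_option autoImplicit false
universe u
open CategoryTheory
open EGA41

namespace Groth.Agent.S5805

open Groth.Agent.Lib.Helper73 MonoidalCategory Limits

variable {A : Type u} [CommRing A]

/-- `Tor_i(X, M) = 0` for `i > n` if `X` (first variable) has projective dimension `≤ n`. -/
lemma tor_vanish_of_pd (n : ℕ) : ∀ (X : ModuleCat.{u} A), HasProjectiveDimensionLT X (n + 1) →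
    ∀ (M : ModuleCat.{u} A) (i : ℕ), n < i →
      IsZero (((Tor (ModuleCat.{u} A) i).obj X).obj M) := by
  induction n with
  | zero =>
    intro X hX M i hi
    have : Projective X := projective_iff_hasProjectiveDimensionLT_one.mpr hX
    have : Module.Flat A X := TorFirstVar.flat_of_projective X
    obtain ⟨q, rfl⟩ : ∃ q, i = q + 1 := ⟨i - 1, by omega⟩
    exact Groth.Agent.S11450.isZero_tor_of_flat X M q
  | succ n ih =>
    intro X hX M i hi
    let p : Projective.over X ⟶ X := Projective.π X
    have hS : (ShortComplex.mk (kernel.ι p) p (kernel.condition p)).ShortExact :=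
      { exact := ShortComplex.exact_of_f_is_kernel _ (kernelIsKernel p) }
    have hproj : Projective (Projective.over X) := inferInstance
    have hK : HasProjectiveDimensionLT (kernel p) (n + 1) :=
      (hS.hasProjectiveDimensionLT_X₃_iff n hproj).mp hX
    obtain ⟨j, rfl⟩ : ∃ j, i = j + 1 := ⟨i - 1, by omega⟩
    obtain ⟨-, δ, w₁, w₂, hex₃, -⟩ := tor_les_first hS M j
    have hflat : Module.Flat A (Projective.over X : ModuleCat.{u} A) := TorFirstVar.flat_of_projective _
    have h1 : IsZero (((Tor (ModuleCat.{u} A) (j + 1)).obj (Projective.over X)).obj M) :=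
      Groth.Agent.S11450.isZero_tor_of_flat (Projective.over X) M j
    have h2 : IsZero (((Tor (ModuleCat.{u} A) j).obj (kernel p)).obj M) :=
      ih (kernel p) hK M j (by omega)
    exact hex₃.isZero_of_both_isZero h1 h2

theorem result (A : Type u) [CommRing A] [IsLocalRing A]
    [IsNoetherianRing A] (n : ℕ)
    (hk : HasProjectiveDimensionLT (ModuleCat.of A (IsLocalRing.ResidueField A)) (n + 1)) (M : Type u)
    [AddCommGroup M] [Module A M] : HasProjectiveDimensionLT (ModuleCat.of A M) (n + 1) := by
  refine Groth.Agent.S5804.result A n (fun I => ?_) M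
  refine (Groth.Agent.S5809.result A (A ⧸ I) n).2 ?_
  exact tor_vanish_of_pd n _ hk _ (n + 1) (Nat.lt_succ_self n)

end Groth.Agent.S5805
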