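import Mathlib
import Groth.Statements.S0563
import Groth.Agent.Lib.Helper85.RegularSeq
import Groth.Agent.Lib.Helper85.RegularGens
import Groth.Agent.S5805

set_option autoImplicit false
universe u
open CategoryTheory

namespace Groth.Agent.S0563

open IsLocalRing RingTheory.Sequence

lemma pd_residueField (R : Type u) [CommRing R] [IsRegularLocalRing R] (d : ℕ)
    (hd : ringKrullDim R = d) :
    HasProjectiveDimensionLT (ModuleCat.of R (IsLocalRing.ResidueField R)) (d + 1) := by
  have hspan : (maximalIdeal R).spanFinrank = d := by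
    have := IsRegularLocalRing.spanFinrank_maximalIdeal (R := R)
    rw [hd] at this
    exact_mod_cast this
  obtain ⟨x, hx⟩ := Groth.Agent.Lib.Helper85.exists_fin_span_range_eq (maximalIdeal R)
    (IsNoetherian.noetherian _) hspan
  have reg : IsRegular R (List.ofFn x) :=
    Groth.Agent.Lib.Helper85.isRegular_ofFn_of_span_eq_maximalIdeal d hd x hx
  have hpd := ModuleCat.projectiveDimension_quotient_eq_length.{u} (List.ofFn x) reg
  have hlist : Ideal.ofList (List.ofFn x) = maximalIdeal R := by
    rw [← hx]
    have hset : {r | r ∈ List.ofFn x} = Set.range x := by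
      ext r
      simp only [Set.mem_ofPred_eq, Set.mem_range]
      exact List.mem_ofFn' x r
    change Ideal.span {r | r ∈ List.ofFn x} = _
    rw [hset]
  rw [List.length_ofFn] at hpd
  have h1 : HasProjectiveDimensionLE
      (ModuleCat.of R (Shrink.{u} (R ⧸ Ideal.ofList (List.ofFn x)))) d := by
    rw [← projectiveDimension_le_iff, hpd]
  let e : Shrink.{u} (R ⧸ Ideal.ofList (List.ofFn x)) ≃ₗ[R] IsLocalRing.ResidueField R :=
    (Shrink.linearEquiv R _).trans (Submodule.quotEquivOfEq _ _ hlist)
  exact hasProjectiveDimensionLT_of_iso e.toModuleIso (d + 1)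

theorem result (R : Type u) [CommRing R]
    [IsRegularLocalRing R] (d : ℕ) (hd : ringKrullDim R = d) (M : Type u) [AddCommGroup M]
    [Module R M] : HasProjectiveDimensionLT (ModuleCat.of R M) (d + 1) :=
  Groth.Agent.S5805.result R d (pd_residueField R d hd) M

end Groth.Agent.S0563
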