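import Groth.Statements.S0602
import Groth.Agent.Lib.Helper29.DepthSelf
import Mathlib.RingTheory.LocalProperties.Reduced

set_option autoImplicit false
universe u
open CAlg

namespace Groth.Agent.S0602

/-- In a reduced Noetherian ring the associated primes of the ring are minimal primes. -/
theorem mem_minimalPrimes_of_mem_associatedPrimes_of_isReduced (S : Type*) [CommRing S]
    [IsNoetherianRing S] [IsReduced S] {q : Ideal S} (hq : q ∈ associatedPrimes S S) :
    q ∈ minimalPrimes S := by
  obtain ⟨hqp, x, hx⟩ := isAssociatedPrime_iff.mp hq
  have hx0 : x ∉ sInf (minimalPrimes S) := by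
    have h1 : sInf (minimalPrimes S) = (⊥ : Ideal S) := by
      unfold minimalPrimes
      rw [Ideal.sInf_minimalPrimes]
      exact nilradical_eq_zero S
    rw [h1, Ideal.mem_bot]
    rintro rfl
    apply hqp.ne_top
    rw [hx]
    ext y
    simp [Submodule.mem_colon_singleton]
  rw [Submodule.mem_sInf] at hx0
  push Not at hx0
  obtain ⟨P, hP, hxP⟩ := hx0
  have hqP : q ≤ P := by
    intro y hy
    rw [hx, Submodule.mem_colon_singleton] at hy
    have h2 : y * x ∈ P := by
      have : y * x = 0 := by simpa using hy
      rw [this]; exact P.zero_mem
    have := hP.1.1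
    exact (this.mem_or_mem h2).resolve_right hxP
  have hPq : P ≤ q := hP.2 ⟨hqp, bot_le⟩ hqP
  rw [le_antisymm hqP hPq]
  exact hP

/-- A Noetherian ring is reduced exactly when it satisfies the conditions R₀ and S₁. -/
theorem result (R : Type u) [CommRing R] [IsNoetherianRing R] :
    IsReduced R ↔ (LocCoh.HasRk 0 R ∧ LocCoh.HasSk 1 R R) := by
  open Groth.Agent.Lib.Helper29 in
  constructor
  · intro hred
    constructor
    · intro p hp hht
      have hN : IsNoetherianRing (Localization.AtPrime p) :=
        IsLocalization.isNoetherianRing p.primeCompl _ inferInstance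
      have hdim : ringKrullDim (Localization.AtPrime p) = 0 := by
        rw [IsLocalization.AtPrime.ringKrullDim_eq_height p]
        have : p.height = 0 := le_antisymm (by simpa using hht) bot_le
        rw [this]; rfl
      have hK : Ring.KrullDimLE 0 (Localization.AtPrime p) := by
        rw [Ring.krullDimLE_iff, hdim]; rfl
      have hm : IsLocalRing.maximalIdeal (Localization.AtPrime p) = ⊥ := by
        rw [← Ring.KrullDimLE.nilradical_eq_maximalIdeal, nilradical_eq_zero, Ideal.zero_eq_bot]
      rw [isRegularLocalRing_iff, hm, hdim, Submodule.spanFinrank_bot]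
      rfl
    · rw [hasSk_self_iff]
      intro p hp
      have hN : IsNoetherianRing (Localization.AtPrime p) :=
        IsLocalization.isNoetherianRing p.primeCompl _ inferInstance
      by_cases hd : LocCoh.depth (Localization.AtPrime p) (Localization.AtPrime p) = 0
      · have hmem := (depth_eq_zero_iff (Localization.AtPrime p)
          (Localization.AtPrime p)).mp hd
        have hmin := mem_minimalPrimes_of_mem_associatedPrimes_of_isReduced _ hmem
        have h0 : (IsLocalRing.maximalIdeal (Localization.AtPrime p)).height = 0 :=
          Ideal.height_eq_zero_iff.mpr hmin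
        have h1 : ringKrullDim (Localization.AtPrime p) = 0 := by
          rw [← IsLocalRing.maximalIdeal_height_eq_ringKrullDim, h0]; rfl
        rw [IsLocalization.AtPrime.ringKrullDim_eq_height p] at h1
        have h2 : p.height = 0 := by exact_mod_cast h1
        rw [h2, hd]
        simp
      · have h2 : 1 ≤ LocCoh.depth (Localization.AtPrime p) (Localization.AtPrime p) :=
          Order.one_le_iff_pos.mpr (pos_iff_ne_zero.mpr hd)
        exact (min_le_left _ _).trans (by simpa using h2)
  · rintro ⟨hR0, hS1⟩
    rw [hasSk_self_iff] at hS1
    refine ⟨fun x hx => ?_⟩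
    by_contra hx0
    -- the cyclic submodule generated by `x`
    let N : Submodule R R := Submodule.span R {x}
    have hNnt : Nontrivial N := by
      refine ⟨⟨⟨x, Submodule.mem_span_singleton_self x⟩, 0, ?_⟩⟩
      intro h
      exact hx0 (congrArg Subtype.val h)
    obtain ⟨p, hp⟩ := associatedPrimes.nonempty R N
    have hpR : p ∈ associatedPrimes R R :=
      associatedPrimes.subset_of_injective (f := N.subtype) N.injective_subtype hp
    have hpp : p.IsPrime := IsAssociatedPrime.isPrime hp
    obtain ⟨-, y, hy⟩ := isAssociatedPrime_iff.mp hp
    -- `y` is nilpotent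
    have hynil : IsNilpotent (y : R) := by
      obtain ⟨r, hr⟩ := Submodule.mem_span_singleton.mp y.2
      rw [← hr, smul_eq_mul]
      exact (Commute.all r x).isNilpotent_mul_left hx
    -- depth R_p = 0
    have hd0 := depth_localizedModule_eq_zero_of_mem_associatedPrimes R R p hpR
    rw [depth_localizedModule_self] at hd0
    have h1 := hS1 p
    rw [hd0] at h1
    have hht : p.height = 0 := by
      rcases min_le_iff.mp h1 with h | h
      · simp at h
      · exact le_antisymm h bot_le
    have hreg := hR0 p (by rw [hht]; simp)
    have hN : IsNoetherianRing (Localization.AtPrime p) :=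
      IsLocalization.isNoetherianRing p.primeCompl _ inferInstance
    have hdim : ringKrullDim (Localization.AtPrime p) = 0 := by
      rw [IsLocalization.AtPrime.ringKrullDim_eq_height p, hht]; rfl
    have hm : IsLocalRing.maximalIdeal (Localization.AtPrime p) = ⊥ := by
      have h2 := hreg.spanFinrank_maximalIdeal
      rw [hdim] at h2
      have h3 : (IsLocalRing.maximalIdeal (Localization.AtPrime p)).spanFinrank = 0 := by
        exact_mod_cast h2
      exact (Submodule.spanFinrank_eq_zero_iff_eq_bot
        ((isNoetherianRing_iff_ideal_fg _).mp hN _)).mp h3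
    -- the image of `y` in `R_p` is nilpotent hence zero
    have hyimg : algebraMap R (Localization.AtPrime p) (y : R) = 0 := by
      have h4 : IsNilpotent (algebraMap R (Localization.AtPrime p) (y : R)) := hynil.map _
      have h5 : algebraMap R (Localization.AtPrime p) (y : R) ∈
          IsLocalRing.maximalIdeal (Localization.AtPrime p) := by
        exact nilradical_le_prime _ (mem_nilradical.mpr h4)
      rw [hm] at h5
      simpa using h5
    obtain ⟨s, hs⟩ := (IsLocalization.map_eq_zero_iff p.primeCompl
      (Localization.AtPrime p) (y : R)).mp hyimg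
    have hsp : (s : R) ∈ (⊥ : Submodule R N).colon {y} := by
      rw [Submodule.mem_colon_singleton]
      apply Subtype.ext
      simpa using hs
    exact s.2 (hy.ge hsp)

end Groth.Agent.S0602
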