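import Groth.Statements.S0564
import Groth.Agent.S0562
import Groth.Agent.S0563
-- import your own Groth.Agent.* helpers here

set_option autoImplicit false
universe u
open CategoryTheory
open CAlg

namespace Groth.Agent.S0564

set_option maxSynthPendingDepth 3

/-- `(R/p)_p ≅ κ(p)`: the residue field of `R_p` is the localization of `R ⧸ p`. -/
theorem isLocalizedModule_residueField (R : Type u) [CommRing R] (p : Ideal R) [p.IsPrime] :
    IsLocalizedModule p.primeCompl
      (IsScalarTower.toAlgHom R (R ⧸ p) p.ResidueField).toLinearMap := by
  have : (⊥ : Ideal (R ⧸ p)).LiesOver p := ⟨by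
    rw [Ideal.under, ← RingHom.ker_eq_comap_bot, Ideal.Quotient.algebraMap_eq, Ideal.mk_ker]⟩
  have h1 : IsLocalization (Algebra.algebraMapSubmonoid (R ⧸ p) p.primeCompl) p.ResidueField := by
    rw [Ideal.algebraMapSubmonoid_primeCompl_of_liesOver_surjective (⊥ : Ideal (R ⧸ p)) p
      Ideal.Quotient.mk_surjective, Ideal.primeCompl_bot]
    infer_instance
  infer_instance

/-- finite projective dimension of the residue field of a localization of a regular local ring -/
theorem pd_residueField_localization (R : Type u) [CommRing R]
    [IsRegularLocalRing R] (p : Ideal R) [p.IsPrime] :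
    HasProjectiveDimensionLT (ModuleCat.of (Localization.AtPrime p)
      (IsLocalRing.ResidueField (Localization.AtPrime p)))
      ((IsLocalRing.maximalIdeal R).spanFinrank + 1) := by
  have hd : ringKrullDim R = ((IsLocalRing.maximalIdeal R).spanFinrank : ℕ) :=
    (IsRegularLocalRing.spanFinrank_maximalIdeal (R := R)).symm
  have h1 : HasProjectiveDimensionLE (ModuleCat.of R (R ⧸ p))
      (IsLocalRing.maximalIdeal R).spanFinrank :=
    Groth.Agent.S0563.result R _ hd (R ⧸ p)
  have h2 := ModuleCat.localizedModule_hasProjectiveDimensionLE
    (IsLocalRing.maximalIdeal R).spanFinrank p.primeCompl (ModuleCat.of R (R ⧸ p))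
  have := isLocalizedModule_residueField R p
  let f : (R ⧸ p) →ₗ[R] ((ModuleCat.of R (R ⧸ p)).localizedModule p.primeCompl) :=
    (ModuleCat.of R (R ⧸ p)).localizedModuleMkLinearMap p.primeCompl
  have hf : IsLocalizedModule p.primeCompl f :=
    ModuleCat.localizedModule_isLocalizedModule (ModuleCat.of R (R ⧸ p)) p.primeCompl
  let e0 := IsLocalizedModule.linearEquiv p.primeCompl f
    (IsScalarTower.toAlgHom R (R ⧸ p) p.ResidueField).toLinearMap
  let e := LinearEquiv.extendScalarsOfIsLocalization p.primeCompl (Localization.AtPrime p) e0
  exact ModuleCat.hasProjectiveDimensionLE_of_linearEquiv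
    (M := (ModuleCat.of R (R ⧸ p)).localizedModule p.primeCompl)
    (N := ModuleCat.of (Localization.AtPrime p)
      (IsLocalRing.ResidueField (Localization.AtPrime p))) e _

/-- The localization of a regular local ring at any prime ideal is a regular local ring. -/
theorem result (R : Type u) [CommRing R]
    [IsRegularLocalRing R] (p : Ideal R) [p.IsPrime] :
    IsRegularLocalRing (Localization.AtPrime p) := by
  exact Groth.Agent.S0562.result (Localization.AtPrime p) _ (pd_residueField_localization R p)

end Groth.Agent.S0564
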