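import Groth.Statements.S2468
import Mathlib
import Groth.Agent.Lib.Helper81.PBasisField2
import Groth.Agent.Lib.Helper81.PBasisKaehler

set_option autoImplicit false
universe u
open EGA41

namespace Groth.Agent.S2468

open Groth.Agent.Lib.Helper81.PBasis Groth.Agent.Lib.Helper81.PBasisEGA
  Groth.Agent.Lib.Helper81.PBasisField

/-- the field `k(K^p)(S)` -/
private theorem aux_indep (p : ℕ) [Fact p.Prime] {k K : Type u} [Field k] [Field K]
    [Algebra k K] [CharP K p] {ι : Type u} (x : ι → K) :
    EGA41.IsPIndependent p k x ↔
      LinearIndependent K (fun i => KaehlerDifferential.D k K (x i)) := by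
  classical
  constructor
  · intro h
    apply linearIndependent_D_of_derivations
    intro a
    set F := IntermediateField.adjoin k ((Set.range fun y : K => y ^ p) ∪ x '' {b | b ≠ a}) with hF
    have hFp : ∀ y : K, y ^ p ∈ F := fun y =>
      IntermediateField.subset_adjoin k _ (Or.inl ⟨y, rfl⟩)
    obtain ⟨D, hD1, hD2⟩ := exists_derivation_of_notMem F hFp
      (notMem_adjoin_of_isPIndependent x h a)
    exact ⟨D, fun r => hD1 _ (F.algebraMap_mem r), hD2,
      fun b hb => hD1 _ (IntermediateField.subset_adjoin k _ (Or.inr ⟨b, hb, rfl⟩))⟩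
  · intro h
    apply isPIndependent_of_forall_notMem
    intro a hmem
    have hmem' := mem_algebraAdjoin_of_mem_adjoin (x '' {b | b ≠ a}) hmem
    let x' : {b : ι // b ≠ a} → K := fun b => x b
    have hrange : Set.range x' = x '' {b | b ≠ a} := by
      ext y
      constructor
      · rintro ⟨b, rfl⟩
        exact ⟨b.1, b.2, rfl⟩
      · rintro ⟨b, hb, rfl⟩
        exact ⟨⟨b, hb⟩, rfl⟩
    rw [← hrange] at hmem'
    have h1 := D_mem_of_mem_adjoin (p := p) (A := k) x'
      (Submodule.span K ((fun i => KaehlerDifferential.D k K (x i)) '' {b | b ≠ a}))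
      (fun b => Submodule.subset_span ⟨b.1, b.2, rfl⟩) (x a) hmem'
    exact h.notMem_span_image (s := {b | b ≠ a}) (x := a) (fun h' => h' rfl) h1

private theorem aux_gen (p : ℕ) [Fact p.Prime] {k K : Type u} [Field k] [Field K]
    [Algebra k K] [CharP K p] {ι : Type u} (x : ι → K) :
    EGA41.IsPGenerating p k x ↔
      Submodule.span K (Set.range fun i => KaehlerDifferential.D k K (x i)) = ⊤ := by
  classical
  constructor
  · exact span_D_eq_top_of_isPGenerating x
  · intro h
    rw [isPGenerating_iff_adjoin, eq_top_iff]
    intro z _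
    apply mem_algebraAdjoin_of_mem_adjoin
    by_contra hz
    set F := IntermediateField.adjoin k ((Set.range fun y : K => y ^ p) ∪ Set.range x) with hF
    have hFp : ∀ y : K, y ^ p ∈ F := fun y =>
      IntermediateField.subset_adjoin k _ (Or.inl ⟨y, rfl⟩)
    obtain ⟨D, hD1, hD2⟩ := exists_derivation_of_notMem F hFp hz
    obtain ⟨φ, hφ⟩ := exists_liftKaehler (A := k) D (fun r => hD1 _ (F.algebraMap_mem r))
    have hφ0 : ∀ w ∈ Submodule.span K (Set.range fun i => KaehlerDifferential.D k K (x i)),
        φ w = 0 := by
      intro w hw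
      induction hw using Submodule.span_induction with
      | mem w hw =>
        obtain ⟨i, rfl⟩ := hw
        rw [hφ]
        exact hD1 _ (IntermediateField.subset_adjoin k _ (Or.inr ⟨i, rfl⟩))
      | zero => rw [map_zero]
      | add u v _ _ hu hv => rw [map_add, hu, hv, add_zero]
      | smul c u _ hu => rw [map_smul, hu, smul_zero]
    have := hφ0 (KaehlerDifferential.D k K z) (by rw [h]; trivial)
    rw [hφ, hD2] at this
    exact one_ne_zero this

/-- Let k ⊆ K be fields of characteristic p > 0 and (x_α) a family of elements of K. Then (x_α) is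
p-free over k if and only if the d_{K/k} x_α are linearly independent over K; it is a system of
p-generators of K over k if and only if the d x_α span Ω_{K/k}; and it is a p-basis if and only if
the d x_α form a basis of Ω_{K/k} (stated as the existence of a K-basis of Ω_{K/k} indexed by the
same index set whose members are the d x_α). (With the empty family the second equivalence
specializes to: Ω_{K/k} = 0 iff K = k(K^p).) -/
theorem result (p : ℕ) [Fact p.Prime] {k K : Type u} [Field k] [Field K] [Algebra k K] [CharP K p]
    {ι : Type u} (x : ι → K) :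
    (EGA41.IsPIndependent p k x ↔ LinearIndependent K (fun i => KaehlerDifferential.D k K (x i))) ∧
    (EGA41.IsPGenerating p k x ↔ Submodule.span K (Set.range fun i => KaehlerDifferential.D k K (x i)) = ⊤) ∧
    (EGA41.IsPBasis p k x ↔ ∃ b : Module.Basis ι K (Ω[K⁄k]), ∀ i, b i = KaehlerDifferential.D k K (x i)) := by
  refine ⟨aux_indep p x, aux_gen p x, ?_⟩
  constructor
  · rintro ⟨h1, h2⟩
    have hli := (aux_indep p x).1 h1
    have hsp := (aux_gen p x).1 h2
    refine ⟨Module.Basis.mk hli (le_of_eq hsp.symm), fun i => ?_⟩
    rw [Module.Basis.mk_apply]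
  · rintro ⟨b, hb⟩
    have hfun : (fun i => KaehlerDifferential.D k K (x i)) = ⇑b := funext fun i => (hb i).symm
    refine ⟨(aux_indep p x).2 ?_, (aux_gen p x).2 ?_⟩
    · rw [hfun]; exact b.linearIndependent
    · rw [hfun]; exact b.span_eq

end Groth.Agent.S2468
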