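import Groth.Statements.S2467
import Mathlib
import Groth.Agent.S2468

set_option autoImplicit false
universe u
open EGA41

namespace Groth.Agent.S2467

/-- Let k ⊆ K be fields of characteristic p > 0, S ⊆ K a system of p-generators of K over k and L ⊆ S a
subset which is p-free over k. Then there is a p-basis B of K over k with L ⊆ B ⊆ S. In particular
every extension of k has a p-basis over k. -/
theorem result (p : ℕ) [Fact p.Prime] {k K : Type u} [Field k] [Field K] [Algebra k K] [CharP K p]
    (S L : Set K) (hLS : L ⊆ S) (hS : EGA41.IsPGenerating p k (Subtype.val : S → K)) (hL : EGA41.IsPIndependent p k (Subtype.val : L → K)) :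
    ∃ B : Set K, L ⊆ B ∧ B ⊆ S ∧ EGA41.IsPBasis p k (Subtype.val : B → K) := by
  classical
  have key : ∀ T : Set K,
      (EGA41.IsPIndependent p k (Subtype.val : T → K) ↔
        LinearIndepOn K (KaehlerDifferential.D k K) T) ∧
      (EGA41.IsPGenerating p k (Subtype.val : T → K) ↔
        Submodule.span K (KaehlerDifferential.D k K '' T) = ⊤) := by
    intro T
    obtain ⟨h1, h2, -⟩ := Groth.Agent.S2468.result (k := k) p (Subtype.val : T → K)
    refine ⟨h1, ?_⟩
    rw [h2, Set.image_eq_range]
  have hL' := (key L).1.1 hL
  have hS' := (key S).2.1 hS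
  obtain ⟨B, hBS, hLB, hspan, hli⟩ := exists_linearIndepOn_extension hL' hLS
  refine ⟨B, hLB, hBS, (key B).1.2 hli, (key B).2.2 ?_⟩
  rw [eq_top_iff, ← hS', Submodule.span_le]
  exact hspan

end Groth.Agent.S2467
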