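import Groth.Statements.S4541
import Mathlib
import Groth.Agent.Lib.Helper81.PBasisPerfect

set_option autoImplicit false
universe u
open EGA41

namespace Groth.Agent.S4541

open Groth.Agent.Lib.Helper81.PBasis Groth.Agent.Lib.Helper81.PBasisEGA

/-- Let p be a prime, A a perfect ring of characteristic p and B a reduced A-algebra of characteristic p
which admits a p-basis (x_α) over A. Then B is a formally smooth A-algebra (discrete topologies);
more precisely, for every A-algebra E, every nilpotent ideal R of E, every A-algebra homomorphism v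
: B → E/R and every family (z_α) of elements of E lifting the v(x_α), there is a unique A-algebra
homomorphism w : B → E lifting v with w(x_α) = z_α for all α. (The published statement assumes,
instead of A perfect and B reduced, that the canonical map A^(p) ⊗_A B → B^(p), a ⊗ b ↦ a b^p with
Frobenius-twisted structures, is injective; when A is perfect that condition says exactly that B is
reduced, which is the case stated here. The published statement also treats admissible topological
E; only discrete E is stated.) -/
theorem result (p : ℕ) [Fact p.Prime] {A B : Type u} [CommRing A] [CharP A p]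
    [PerfectRing A p] [CommRing B] [Algebra A B] [CharP B p] [IsReduced B]
    {ι : Type u} (x : ι → B) (hx : EGA41.IsPBasis p A x) :
    Algebra.FormallySmooth A B ∧
    ∀ (E : Type u) [CommRing E] [Algebra A E] (R : Ideal E), IsNilpotent R →
      ∀ (v : B →ₐ[A] E ⧸ R) (z : ι → E), (∀ i, Ideal.Quotient.mk R (z i) = v (x i)) →
        ∃! w : B →ₐ[A] E, (Ideal.Quotient.mkₐ A R).comp w = v ∧ ∀ i, w (x i) = z i := by
  classical
  have hp : p.Prime := Fact.out
  have part2 : ∀ (E : Type u) [CommRing E] [Algebra A E] (R : Ideal E), IsNilpotent R →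
      ∀ (v : B →ₐ[A] E ⧸ R) (z : ι → E), (∀ i, Ideal.Quotient.mk R (z i) = v (x i)) →
        ∃! w : B →ₐ[A] E, (Ideal.Quotient.mkₐ A R).comp w = v ∧ ∀ i, w (x i) = z i := by
    intro E _ _ R hR v z hz
    obtain ⟨n, hn⟩ := hR
    rcases subsingleton_or_nontrivial E with hE | hE
    · -- trivial target
      let W : B →ₐ[A] E :=
        { toFun := fun _ => 0
          map_one' := Subsingleton.elim _ _
          map_mul' := fun _ _ => Subsingleton.elim _ _
          map_zero' := rfl
          map_add' := fun _ _ => Subsingleton.elim _ _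
          commutes' := fun _ => Subsingleton.elim _ _ }
      refine ⟨W, ⟨?_, fun i => Subsingleton.elim _ _⟩, fun W' _ => ?_⟩
      · ext b
        obtain ⟨e, he⟩ := Ideal.Quotient.mk_surjective (v b)
        rw [← he, AlgHom.comp_apply]
        exact congrArg _ (Subsingleton.elim _ _)
      · ext b
        exact Subsingleton.elim _ _
    · have hpE : ((p : ℕ) : E) = 0 := by
        rw [← map_natCast (algebraMap A E), CharP.cast_eq_zero A p, map_zero]
      haveI : CharP E p := ringChar.of_eq (CharP.ringChar_of_prime_eq_zero hp hpE)
      set m := n with hm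
      have hnm : n ≤ p ^ m := (Nat.lt_pow_self hp.one_lt).le
      have hRm : ∀ r ∈ R, r ^ p ^ m = 0 := by
        intro r hr
        have h1 : r ^ p ^ m ∈ R ^ p ^ m := Ideal.pow_mem_pow hr _
        have h2 : R ^ p ^ m ≤ R ^ n := Ideal.pow_le_pow_right hnm
        have h3 := h2 h1
        rwa [hn, Ideal.zero_eq_bot, Ideal.mem_bot] at h3
      let τ : E ⧸ R →+* E := Ideal.Quotient.lift R (iterateFrobenius E p m)
        (fun r hr => by rw [iterateFrobenius_def]; exact hRm r hr)
      have hτ : ∀ e : E, τ (Ideal.Quotient.mk R e) = e ^ p ^ m := fun e => by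
        show Ideal.Quotient.lift R (iterateFrobenius E p m) _ (Ideal.Quotient.mk R e) = _
        rw [Ideal.Quotient.lift_mk, iterateFrobenius_def]
      let θ : B →+* E := τ.comp v.toRingHom
      have hθb : ∀ b, θ b = τ (v b) := fun _ => rfl
      have hθ : ∀ i, θ (x i) = z i ^ p ^ m := fun i => by
        rw [hθb, ← hz i, hτ]
      obtain ⟨hli, hspan⟩ := frobTwist_basis x hx
      obtain ⟨w, ⟨hw1, hw2⟩, hwuniq⟩ := existsUnique_ringHom_frob_pow hli hspan m θ z hθ
      have hmkτ : ∀ y : E ⧸ R, Ideal.Quotient.mk R (τ y) = y ^ p ^ m := by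
        intro y
        obtain ⟨e, rfl⟩ := Ideal.Quotient.mk_surjective y
        rw [hτ, map_pow]
      have hmkw : (Ideal.Quotient.mk R).comp w = v.toRingHom := by
        have hθ' : ∀ i, ((Ideal.Quotient.mk R).comp θ) (x i) =
            (Ideal.Quotient.mk R (z i)) ^ p ^ m := fun i => by
          rw [RingHom.comp_apply, hθ, map_pow]
        refine (existsUnique_ringHom_frob_pow hli hspan m ((Ideal.Quotient.mk R).comp θ)
          (fun i => Ideal.Quotient.mk R (z i)) hθ').unique ⟨?_, ?_⟩ ⟨?_, ?_⟩
        · intro b
          rw [RingHom.comp_apply, hw1]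
          rfl
        · intro i
          rw [RingHom.comp_apply, hw2]
        · intro b
          show v (b ^ p ^ m) = Ideal.Quotient.mk R (τ (v b))
          rw [hmkτ, map_pow]
        · intro i
          exact (hz i).symm
      have hwA : ∀ a : A, w (algebraMap A B a) = algebraMap A E a := by
        intro a
        obtain ⟨c, hc⟩ := (bijective_iterateFrobenius A p m).2 a
        rw [iterateFrobenius_def] at hc
        rw [← hc, map_pow, hw1, hθb, v.commutes, map_pow]
        have : algebraMap A (E ⧸ R) c = Ideal.Quotient.mk R (algebraMap A E c) := rfl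
        rw [this, hτ]
      let W : B →ₐ[A] E := { w with commutes' := hwA }
      have hW : ∀ b, W b = w b := fun _ => rfl
      refine ⟨W, ⟨?_, fun i => by rw [hW, hw2]⟩, ?_⟩
      · ext b
        rw [AlgHom.comp_apply]
        exact congrArg (fun f : B →+* E ⧸ R => f b) hmkw
      · rintro W' ⟨hW'1, hW'2⟩
        have hW'b : ∀ b, Ideal.Quotient.mk R (W' b) = v b := fun b =>
          congrArg (fun f : B →ₐ[A] E ⧸ R => f b) hW'1
        have : W'.toRingHom = w := by
          apply hwuniq
          refine ⟨fun b => ?_, hW'2⟩
          show W' (b ^ p ^ m) = θ b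
          rw [map_pow, hθb, ← hW'b, hτ]
        ext b
        rw [hW, ← this]
        rfl
  refine ⟨?_, part2⟩
  apply Algebra.FormallySmooth.of_comp_surjective
  intro C _ _ I hI f
  choose z hz using fun i => Ideal.Quotient.mk_surjective (f (x i))
  obtain ⟨w, ⟨hw, -⟩, -⟩ := part2 C I ⟨2, hI⟩ f z hz
  exact ⟨w, hw⟩

end Groth.Agent.S4541
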