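import Groth.Statements.S9455
import Mathlib
import Groth.Agent.Lib.Helper58.SmoothNilpotent
import Groth.Agent.Lib.Helper81.SmoothLength

set_option autoImplicit false
universe u
open CAlg

namespace Groth.Agent.S9455
open Groth.Agent.Lib.Helper58.SmoothNilpotent Groth.Agent.Lib.Helper81.FieldSmooth in

/-- If Λ is a Cohen ring (a complete discrete valuation ring with maximal ideal generated by a prime
number p) then Λ/p^nΛ is formally smooth over ℤ/p^nℤ for every n ≥ 1; the ℤ/p^nℤ-algebra structure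
on Λ/p^nΛ is the unique one and is taken as a hypothesis. -/
theorem result (Λ : Type u) [CommRing Λ] [IsDomain Λ]
    [IsDiscreteValuationRing Λ] [IsAdicComplete (IsLocalRing.maximalIdeal Λ) Λ] (p : ℕ)
    (hp : p.Prime) (hm : IsLocalRing.maximalIdeal Λ = Ideal.span {(p : Λ)}) (n : ℕ) (hn : 1 ≤ n)
    [Algebra (ZMod (p ^ n)) (Λ ⧸ Ideal.span {((p : Λ) ^ n)})] :
    Algebra.FormallySmooth (ZMod (p ^ n)) (Λ ⧸ Ideal.span {((p : Λ) ^ n)}) := by
  classical
  haveI : Fact p.Prime := ⟨hp⟩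
  obtain ⟨m, rfl⟩ : ∃ m, n = m + 1 := ⟨n - 1, by omega⟩
  -- `p ≠ 0` in `Λ`
  have hp0 : (p : Λ) ≠ 0 := by
    intro h0
    apply IsDiscreteValuationRing.not_a_field Λ
    rw [hm, h0, Ideal.span_singleton_eq_bot]
  -- the residue field
  haveI hmax : (Ideal.span {(p : Λ)}).IsMaximal := hm ▸ IsLocalRing.maximalIdeal.isMaximal Λ
  letI : Field (Λ ⧸ Ideal.span {(p : Λ)}) := Ideal.Quotient.field _
  have hpK : (p : Λ ⧸ Ideal.span {(p : Λ)}) = 0 := by
    rw [← map_natCast (Ideal.Quotient.mk (Ideal.span {(p : Λ)}))]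
    exact Ideal.Quotient.eq_zero_iff_mem.2 (Ideal.mem_span_singleton_self _)
  haveI : CharP (Λ ⧸ Ideal.span {(p : Λ)}) p := (CharP.charP_iff_prime_eq_zero hp).2 hpK
  -- `Λ` has characteristic zero
  haveI : CharZero Λ := by
    obtain ⟨c, hc⟩ := CharP.exists Λ
    rcases CharP.char_is_prime_or_zero Λ c with hc' | hc'
    · exfalso
      have h1 : (c : Λ) = 0 := CharP.cast_eq_zero Λ c
      have h2 : (c : Λ ⧸ Ideal.span {(p : Λ)}) = 0 := by
        rw [← map_natCast (Ideal.Quotient.mk (Ideal.span {(p : Λ)})), h1, map_zero]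
      have h3 : p ∣ c := (CharP.cast_eq_zero_iff (Λ ⧸ Ideal.span {(p : Λ)}) p c).1 h2
      have h4 : c = p := ((Nat.prime_dvd_prime_iff_eq hp hc').1 h3).symm
      exact hp0 (h4 ▸ h1)
    · subst hc'
      exact CharP.charP_to_charZero Λ
  haveI : Module.Flat ℤ Λ := inferInstance
  -- flatness of `ℤ/p^n → Λ/p^n`
  have hflat0 : (Int.castRingHom Λ).Flat := by
    have : Int.castRingHom Λ = algebraMap ℤ Λ := rfl
    rw [this, RingHom.flat_algebraMap_iff]
    infer_instance
  set I0 : Ideal ℤ := Ideal.span {((p ^ (m + 1) : ℕ) : ℤ)} with hI0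
  have hflat1 := flat_quotientMap (Int.castRingHom Λ) hflat0 I0
  have hI : I0.map (Int.castRingHom Λ) = Ideal.span {((p : Λ) ^ (m + 1))} := by
    rw [hI0, Ideal.map_span, Set.image_singleton]
    simp
  let e2 : (Λ ⧸ I0.map (Int.castRingHom Λ)) ≃+* (Λ ⧸ Ideal.span {((p : Λ) ^ (m + 1))}) :=
    Ideal.quotEquivOfEq hI
  let eU : ULift.{u} (ZMod (p ^ (m + 1))) ≃+* ZMod (p ^ (m + 1)) := ULift.ringEquiv
  let e1 : ULift.{u} (ZMod (p ^ (m + 1))) ≃+* (ℤ ⧸ I0) :=
    eU.trans (Int.quotientSpanNatEquivZMod (p ^ (m + 1))).symm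
  let f : ULift.{u} (ZMod (p ^ (m + 1))) →+* (Λ ⧸ Ideal.span {((p : Λ) ^ (m + 1))}) :=
    (e2 : _ →+* _).comp
      ((Ideal.quotientMap (I0.map (Int.castRingHom Λ)) (Int.castRingHom Λ) Ideal.le_comap_map).comp
        (e1 : _ →+* _))
  have hf : f.Flat :=
    ((RingHom.Flat.of_bijective e1.bijective).comp hflat1).comp
      (RingHom.Flat.of_bijective e2.bijective)
  -- the quotient maps
  let c0 : ZMod (p ^ (m + 1)) →+* ZMod p := ZMod.castHom (dvd_pow_self p (Nat.succ_ne_zero m)) (ZMod p)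
  let qR : ULift.{u} (ZMod (p ^ (m + 1))) →+* ZMod p := c0.comp (eU : _ →+* _)
  have hle : Ideal.span {((p : Λ) ^ (m + 1))} ≤ Ideal.span {(p : Λ)} := by
    rw [Ideal.span_singleton_le_iff_mem]
    exact Ideal.pow_mem_of_mem _ (Ideal.mem_span_singleton_self _) _ (Nat.succ_pos m)
  let qS : (Λ ⧸ Ideal.span {((p : Λ) ^ (m + 1))}) →+* (Λ ⧸ Ideal.span {(p : Λ)}) :=
    Ideal.Quotient.factor hle
  let g : ZMod p →+* (Λ ⧸ Ideal.span {(p : Λ)}) := ZMod.castHom (dvd_refl p) _
  have hg : g.FormallySmooth := by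
    letI := g.toAlgebra
    have : Algebra.FormallySmooth (ZMod p) (Λ ⧸ Ideal.span {(p : Λ)}) := formallySmooth_zmod p _
    exact RingHom.formallySmooth_algebraMap.2 this
  have surjR : Function.Surjective qR := ZMod.ringHom_surjective qR
  have surjS : Function.Surjective qS := Ideal.Quotient.factor_surjective hle
  have comm : qS.comp f = g.comp qR := by
    have h1 : (qS.comp f).comp (eU.symm : ZMod (p ^ (m + 1)) →+* _) =
        (g.comp qR).comp (eU.symm : ZMod (p ^ (m + 1)) →+* _) := RingHom.ext_zmod _ _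
    ext x
    have := congrArg (fun φ : ZMod (p ^ (m + 1)) →+* _ => φ (eU x)) h1
    simpa using this
  have kerR : RingHom.ker qR = Ideal.span {(p : ULift.{u} (ZMod (p ^ (m + 1))))} := by
    apply le_antisymm
    · intro x hx
      rw [RingHom.mem_ker] at hx
      have hx' : c0 x.down = 0 := hx
      have h1 : x.down = ((x.down.val : ℕ) : ZMod (p ^ (m + 1))) := (ZMod.natCast_zmod_val _).symm
      rw [h1, map_natCast, ZMod.natCast_eq_zero_iff] at hx'
      obtain ⟨c, hc⟩ := hx'
      rw [Ideal.mem_span_singleton]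
      refine ⟨ULift.up (c : ZMod (p ^ (m + 1))), ?_⟩
      apply eU.injective
      rw [map_mul, map_natCast]
      change x.down = (p : ZMod (p ^ (m + 1))) * (c : ZMod (p ^ (m + 1)))
      rw [h1, hc]
      push_cast
      rfl
    · rw [Ideal.span_singleton_le_iff_mem, RingHom.mem_ker, map_natCast]
      exact ZMod.natCast_self p
  have nil : RingHom.ker qR ^ (m + 1) = ⊥ := by
    rw [kerR, Ideal.span_singleton_pow, Ideal.span_singleton_eq_bot]
    apply eU.injective
    rw [map_pow, map_natCast, map_zero, ← Nat.cast_pow]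
    exact ZMod.natCast_self _
  have eqmap : RingHom.ker qS = (RingHom.ker qR).map f := by
    rw [kerR, Ideal.map_span, Set.image_singleton, map_natCast, Ideal.Quotient.factor_ker,
      Ideal.map_span, Set.image_singleton, map_natCast]
  have key : f.FormallySmooth :=
    formallySmooth_of_flat_of_pow_eq_bot g hg m f hf qR qS surjR surjS comm nil eqmap
  have hfin : algebraMap (ZMod (p ^ (m + 1))) (Λ ⧸ Ideal.span {((p : Λ) ^ (m + 1))}) =
      f.comp (eU.symm : ZMod (p ^ (m + 1)) →+* _) := RingHom.ext_zmod _ _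
  rw [← RingHom.formallySmooth_algebraMap, hfin]
  exact (RingHom.FormallySmooth.of_bijective eU.symm.bijective).comp key

end Groth.Agent.S9455
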