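import Groth.Statements.S0579
import Mathlib.RingTheory.Smooth.AdicCompletion
import Mathlib.RingTheory.Smooth.Field
import Mathlib.Algebra.Algebra.Rat
import Mathlib.Algebra.Algebra.Hom.Rat

set_option autoImplicit false
universe u
open CAlg

namespace Groth.Agent.S0579

theorem formallySmooth_rat (K : Type u) [Field K] [CharZero K] : Algebra.FormallySmooth ℚ K := by
  obtain ⟨ι, x, hs⟩ := exists_isTranscendenceBasis' ℚ K
  have h1 : Algebra.IsAlgebraic (IntermediateField.adjoin ℚ (Set.range x)) K :=
    hs.isAlgebraic_field
  have h2 : Algebra.IsSeparable (IntermediateField.adjoin ℚ (Set.range x)) K :=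
    inferInstance
  exact Algebra.FormallySmooth.of_algebraicIndependent_of_isSeparable hs.1

theorem isUnit_intCast (R : Type u) [CommRing R] [IsLocalRing R]
    [CharZero (IsLocalRing.ResidueField R)] (n : ℤ) (hn : n ≠ 0) : IsUnit (n : R) := by
  by_contra h
  have h1 : (n : R) ∈ IsLocalRing.maximalIdeal R := (IsLocalRing.mem_maximalIdeal _).2 h
  have h2 : IsLocalRing.residue R (n : R) = 0 := (IsLocalRing.residue_eq_zero_iff _).2 h1
  rw [map_intCast] at h2
  exact hn (by exact_mod_cast h2)


/-- A local ring which is complete with respect to its maximal ideal and whose residue field has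
characteristic zero admits a coefficient field: there is a ring homomorphism from the residue field
to the ring which is a section of the residue map. -/
theorem result (R : Type u) [CommRing R] [IsLocalRing R]
    [IsAdicComplete (IsLocalRing.maximalIdeal R) R] [CharZero (IsLocalRing.ResidueField R)] :
    ∃ s : IsLocalRing.ResidueField R →+* R, (IsLocalRing.residue R).comp s = RingHom.id _ := by
  -- R is a ℚ-algebra
  let ι : ℚ →+* R := IsLocalization.lift (M := nonZeroDivisors ℤ) (S := ℚ) (g := Int.castRingHom R)
    (fun y => by
      have := isUnit_intCast R (y : ℤ) (nonZeroDivisors.ne_zero y.2)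
      simpa using this)
  letI : Algebra ℚ R := ι.toAlgebra
  haveI := formallySmooth_rat (IsLocalRing.ResidueField R)
  let f0 : IsLocalRing.ResidueField R →+* R ⧸ IsLocalRing.maximalIdeal R :=
    RingHom.id (R ⧸ IsLocalRing.maximalIdeal R)
  let f : IsLocalRing.ResidueField R →ₐ[ℚ] R ⧸ IsLocalRing.maximalIdeal R := f0.toRatAlgHom
  obtain ⟨g, hg⟩ := Algebra.FormallySmooth.exists_mkₐ_comp_eq_of_isAdicComplete f
  refine ⟨g.toRingHom, ?_⟩
  ext x
  have := congrArg (fun φ => φ x) hg
  change Ideal.Quotient.mk _ (g x) = x
  exact this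

end Groth.Agent.S0579
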