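import Groth.Statements.S0580
import Mathlib
import Groth.Agent.Lib.Helper81.CohenRing
import Groth.Agent.Lib.Helper81.CohenLift
import Groth.Agent.Lib.Helper90.PSSurj
import Groth.Agent.S0579

set_option autoImplicit false
universe u
open CAlg

namespace Groth.Agent.S0580
open Groth.Agent.Lib.Helper81.CohenRing Groth.Agent.Lib.Helper81.CohenLift
  Groth.Agent.Lib.Helper90 IsLocalRing in

/-- A local ring complete with respect to a finitely generated maximal ideal is a quotient of a power
series ring in finitely many variables over a ring which is either a field or a Cohen ring. -/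
theorem result (R : Type u) [CommRing R]
    [IsLocalRing R] [IsAdicComplete (IsLocalRing.maximalIdeal R) R]
    (hfg : (IsLocalRing.maximalIdeal R).FG) :
    ∃ (Λ : Type u) (_ : CommRing Λ) (n : ℕ) (f : MvPowerSeries (Fin n) Λ →+* R),
      (IsField Λ ∨ CAlg.IsCohenRing Λ) ∧ Function.Surjective f := by
  classical
  obtain ⟨n, x, hx⟩ := Submodule.fg_iff_exists_fin_generating_family.1 hfg
  have hx' : Ideal.span (Set.range x) = maximalIdeal R := hx
  obtain ⟨q, hq⟩ := CharP.exists (ResidueField R)
  rcases CharP.char_is_prime_or_zero (ResidueField R) q with hprime | rfl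
  · haveI : Fact q.Prime := ⟨hprime⟩
    obtain ⟨Λ, _, _, hdom, hdvr, hcomp, hm, ⟨e⟩⟩ := exists_cohenRing q (ResidueField R)
    haveI := hdom
    haveI := hdvr
    haveI := hcomp
    let u : Λ →+* R ⧸ maximalIdeal R := (e : ResidueField Λ →+* ResidueField R).comp (residue Λ)
    have hqI : (q : R) ∈ maximalIdeal R := by
      rw [← IsLocalRing.residue_eq_zero_iff, map_natCast]
      exact CharP.cast_eq_zero _ q
    obtain ⟨v, hv⟩ := exists_lift_complete hprime hm (maximalIdeal R) hqI u
    letI : Algebra Λ R := v.toAlgebra
    have hsurj : Function.Surjective ((Ideal.Quotient.mk (maximalIdeal R)).comp (algebraMap Λ R)) := by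
      have : (Ideal.Quotient.mk (maximalIdeal R)).comp (algebraMap Λ R) = u := hv
      rw [this]
      exact e.surjective.comp (IsLocalRing.residue_surjective)
    obtain ⟨φ, hφ, -⟩ := PSSurj.exists_surjective_eval (B := Λ) (maximalIdeal R) x hx' hsurj
    exact ⟨Λ, inferInstance, n, φ.toRingHom, Or.inr ⟨hdom, hdvr, hcomp, q, hprime, hm⟩, hφ⟩
  · haveI : CharZero (ResidueField R) := CharP.charP_to_charZero _
    obtain ⟨s, hs⟩ := Groth.Agent.S0579.result R
    letI : Algebra (ResidueField R) R := s.toAlgebra
    have hsurj : Function.Surjective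
        ((Ideal.Quotient.mk (maximalIdeal R)).comp (algebraMap (ResidueField R) R)) := by
      have : (Ideal.Quotient.mk (maximalIdeal R)).comp (algebraMap (ResidueField R) R) =
          RingHom.id _ := hs
      rw [this]
      exact Function.surjective_id
    obtain ⟨φ, hφ, -⟩ :=
      PSSurj.exists_surjective_eval (B := ResidueField R) (maximalIdeal R) x hx' hsurj
    exact ⟨ResidueField R, inferInstance, n, φ.toRingHom, Or.inl (Field.toIsField _), hφ⟩

end Groth.Agent.S0580
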