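import Groth.Statements.S5754
import Mathlib.RingTheory.Ideal.AssociatedPrime.Localization
import Mathlib.RingTheory.Support
import Mathlib.RingTheory.QuotSMulTop

set_option autoImplicit false
universe u
open EGA41

namespace Groth.Agent.S5754

/-- Let A be a Noetherian ring, M a finitely generated A-module and t an element of A which is
M-regular. For every associated prime p of M, every prime ideal minimal among those containing p +
tA is an associated prime of M/tM. -/
theorem result (A : Type u) [CommRing A]
    [IsNoetherianRing A] (M : Type u) [AddCommGroup M] [Module A M] [Module.Finite A M] (t : A)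
    (ht : IsSMulRegular M t) (p : Ideal A) (hp : p ∈ associatedPrimes A M) (q : Ideal A)
    (hq : q ∈ (p ⊔ Ideal.span {t}).minimalPrimes) : q ∈ associatedPrimes A (QuotSMulTop t M) := by
  classical
  -- the submodule of elements killed by `p`
  let N : Submodule A M := Submodule.torsionBySet A M (p : Set A)
  have hmemN : ∀ m : M, m ∈ N ↔ ∀ a ∈ p, a • m = 0 := by
    intro m
    simp only [N, Submodule.mem_torsionBySet_iff]
    constructor
    · intro h a ha; exact h ⟨a, ha⟩
    · intro h a; exact h a a.2
  obtain ⟨hpprime, m₀, hm₀⟩ := isAssociatedPrime_iff.mp hp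
  have hm₀' : ∀ a : A, a ∈ p ↔ a • m₀ = 0 := by
    intro a
    rw [hm₀, Submodule.mem_colon_singleton, Submodule.mem_bot]
  -- annihilator of `N` is `p`
  have hm₀N : m₀ ∈ N := by
    rw [hmemN]
    intro a ha
    exact (hm₀' a).mp ha
  have hannN : Module.annihilator A N = p := by
    apply le_antisymm
    · intro a ha
      rw [Module.mem_annihilator] at ha
      have := ha ⟨m₀, hm₀N⟩
      rw [hm₀']
      simpa [Subtype.ext_iff] using this
    · intro a ha
      rw [Module.mem_annihilator]
      rintro ⟨m, hm⟩
      apply Subtype.ext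
      exact (hmemN m).mp hm a ha
  have hNfin : Module.Finite A N := Module.Finite.of_injective N.subtype N.injective_subtype
  -- the map `N/tN → M/tM` is injective
  let φ : QuotSMulTop t N →ₗ[A] QuotSMulTop t M := QuotSMulTop.map t N.subtype
  have hφ : Function.Injective φ := by
    rw [injective_iff_map_eq_zero]
    intro x hx
    obtain ⟨n, rfl⟩ := Submodule.mkQ_surjective _ x
    change φ (Submodule.Quotient.mk n) = 0 at hx
    rw [QuotSMulTop.map_apply_mk] at hx
    rw [Submodule.Quotient.mk_eq_zero] at hx
    obtain ⟨m, -, hm⟩ := (Submodule.mem_smul_pointwise_iff_exists _ _ _).mp hx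
    have hmN : m ∈ N := by
      rw [hmemN]
      intro a ha
      apply ht
      have h1 : t • a • m = a • (N.subtype n) := by
        rw [← hm, smul_comm]
      change t • a • m = t • 0
      rw [h1, smul_zero]
      exact (hmemN _).mp n.2 a ha
    change Submodule.Quotient.mk n = 0
    rw [Submodule.Quotient.mk_eq_zero]
    refine (Submodule.mem_smul_pointwise_iff_exists _ _ _).mpr ⟨⟨m, hmN⟩, Submodule.mem_top, ?_⟩
    apply Subtype.ext
    exact hm
  apply associatedPrimes.subset_of_injective hφ
  apply Module.associatedPrimes.minimalPrimes_annihilator_subset_associatedPrimes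
  -- compare minimal primes
  have key : ∀ q' : Ideal A, q'.IsPrime →
      (Module.annihilator A (QuotSMulTop t N) ≤ q' ↔ p ⊔ Ideal.span {t} ≤ q') := by
    intro q' hq'
    have h1 : (⟨q', hq'⟩ : PrimeSpectrum A) ∈ Module.support A (QuotSMulTop t N) ↔
        Module.annihilator A (QuotSMulTop t N) ≤ q' := by
      rw [Module.support_eq_zeroLocus, PrimeSpectrum.mem_zeroLocus]
      rfl
    rw [← h1, Module.support_quotSMulTop, Set.mem_inter_iff, Module.support_eq_zeroLocus, hannN,
      PrimeSpectrum.mem_zeroLocus, PrimeSpectrum.mem_zeroLocus, sup_le_iff, Ideal.span_le]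
    rfl
  rw [Ideal.minimalPrimes, Set.mem_ofPred_eq] at hq ⊢
  refine ⟨⟨hq.1.1, (key q hq.1.1).mpr hq.1.2⟩, fun q' hq' hle => ?_⟩
  exact hq.2 ⟨hq'.1, (key q' hq'.1).mp hq'.2⟩ hle

end Groth.Agent.S5754
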