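import Groth.Statements.S5788
import Mathlib.Algebra.Category.ModuleCat.InjectiveDimension
import Mathlib.Algebra.Homology.DerivedCategory.Ext.ExactSequences
import Mathlib.Algebra.Homology.ShortComplex.ModuleCat
import Mathlib.Algebra.Module.Injective

set_option autoImplicit false
universe u
open CategoryTheory
open EGA41

namespace Groth.Agent.S5788

open CategoryTheory Abelian in
/-- Baer's criterion, in `Ext` form. -/
theorem injective_of_ext_one {A : Type u} [CommRing A] (M : ModuleCat.{u} A)
    (h : ∀ I : Ideal A, Subsingleton (Ext (ModuleCat.of A (A ⧸ I)) M 1)) : Injective M := by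
  have hB : Module.Baer A M := by
    intro I g
    let S : ShortComplex (ModuleCat.{u} A) :=
      ModuleCat.shortComplexOfCompEqZero I.subtype I.mkQ
        (by ext x; simpa using Ideal.Quotient.eq_zero_iff_mem.mpr x.2)
    have hS : S.ShortExact := ModuleCat.shortComplex_shortExact S
      (by
        intro x
        change I.mkQ x = 0 ↔ x ∈ Set.range I.subtype
        simp [Ideal.Quotient.eq_zero_iff_mem])
      I.injective_subtype I.mkQ_surjective
    have := h I
    obtain ⟨φ, hφ⟩ := Ext.contravariant_sequence_exact₁ hS M
      (Ext.mk₀ (ModuleCat.ofHom g)) (zero_add 1) (Subsingleton.elim _ _)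
    obtain ⟨φ, rfl⟩ := Ext.homEquiv₀.symm.surjective φ
    have h2 : S.f ≫ φ = ModuleCat.ofHom g :=
      Ext.homEquiv₀.symm.injective (by simpa using hφ)
    refine ⟨φ.hom, fun x mem => ?_⟩
    have := congrArg (fun t => t.hom ⟨x, mem⟩) h2
    simpa [S] using this
  have : Module.Injective A M := hB.injective
  exact Module.injective_object_of_injective_module A M

open CategoryTheory Abelian in
theorem aux {A : Type u} [CommRing A] (n : ℕ) : ∀ (M : ModuleCat.{u} A),
    (∀ I : Ideal A, Subsingleton (Ext (ModuleCat.of A (A ⧸ I)) M (n + 1))) →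
      HasInjectiveDimensionLT M (n + 1) := by
  induction n with
  | zero =>
    intro M h
    have := injective_of_ext_one M h
    infer_instance
  | succ n ih =>
    intro M h
    let ⟨E, _, f, _⟩ := EnoughInjectives.presentation M
    have injf : Function.Injective f.hom := (ModuleCat.mono_iff_injective f).mp ‹_›
    let S : ShortComplex (ModuleCat.{u} A) :=
      ModuleCat.shortComplexOfCompEqZero _ _ f.hom.exact_map_mkQ_range.linearMap_comp_eq_zero
    have hS : S.ShortExact := ModuleCat.shortComplex_shortExact S
      f.hom.exact_map_mkQ_range injf (Submodule.mkQ_surjective _)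
    have hE : Injective S.X₂ := ‹Injective E›
    have h3 : HasInjectiveDimensionLT S.X₃ (n + 1) := by
      apply ih
      intro I
      refine ⟨fun a b => ?_⟩
      have h0 : ∀ c : Ext (ModuleCat.of A (A ⧸ I)) S.X₃ (n + 1), c = 0 := fun c => by
        have := h I
        have hc : c.comp hS.extClass (rfl : n + 1 + 1 = n + 1 + 1) = 0 := Subsingleton.elim _ _
        obtain ⟨c₂, hc₂⟩ := Ext.covariant_sequence_exact₃ _ hS c rfl hc
        rw [← hc₂, c₂.eq_zero_of_injective, Ext.zero_comp]
      rw [h0 a, h0 b]
    have := (hS.hasInjectiveDimensionLT_X₃_iff n hE).mp h3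
    exact hasInjectiveDimensionLT_of_iso (Iso.refl _) _

/-- Let A be a ring, M an A-module and n ≥ 0. Then M has injective dimension at most n if and only if
Ext^(n+1)_A(N, M) = 0 for every monogenous A-module N, i.e. for every N of the form A/I with I an
ideal of A. -/
theorem result (A : Type u) [CommRing A] (M : Type u)
    [AddCommGroup M] [Module A M] (n : ℕ) :
    HasInjectiveDimensionLT (ModuleCat.of A M) (n + 1) ↔
      ∀ I : Ideal A, Subsingleton (Abelian.Ext (ModuleCat.of A (A ⧸ I)) (ModuleCat.of A M) (n + 1)) := by
  constructor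
  · intro h I
    exact HasInjectiveDimensionLT.subsingleton _ (n + 1) (n + 1) le_rfl _
  · intro h
    exact aux n _ h

end Groth.Agent.S5788
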