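import Groth.Statements.S0342
import Groth.Agent.S0563

set_option autoImplicit false
universe u v
open Goren

open CategoryTheory

namespace Groth.Agent.S0342

/-- Regular local rings have finite injective dimension over themselves, i.e. are Gorenstein. -/
theorem result (A : Type u) [CommRing A] [IsRegularLocalRing A] : LocCoh.IsGorensteinLocalRing A := by
  have hd : ringKrullDim A = ((IsLocalRing.maximalIdeal A).spanFinrank : ℕ) :=
    (IsRegularLocalRing.spanFinrank_maximalIdeal (R := A)).symm
  refine { exists_hasInjectiveDimensionLT := ⟨(IsLocalRing.maximalIdeal A).spanFinrank + 1, ?_⟩ }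
  refine ⟨fun i hi Y => ?_⟩
  have h := Groth.Agent.S0563.result A _ hd Y
  exact h.subsingleton' i hi (Y := ModuleCat.of A A)

end Groth.Agent.S0342
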