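import Groth.Statements.S14952
import Groth.Agent.H76.Milnor
import Groth.Agent.H76.FlatGlue

set_option autoImplicit false
universe u
open TensorProduct EtAlg

namespace Groth.Agent.S14952

open Groth.Agent.H76 Groth.Agent.H76.FlatGlue

section V

variable {B' B A' : Type*} [CommRing B'] [CommRing B] [CommRing A'] [Algebra B' B] [Algebra B' A']

/-- Key lemma: an injective `B'`-linear map into `A'` with image in the conductor-like ideal `I`
stays injective after tensoring with `L'`. -/
theorem mainV (hS : Function.Surjective (algebraMap B' B)) (I : Ideal A')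
    (h1 : ∀ i ∈ I, ∃ j : B', algebraMap B' B j = 0 ∧ algebraMap B' A' j = i)
    (h2 : ∀ j : B', algebraMap B' B j = 0 → algebraMap B' A' j ∈ I)
    (L' : Type*) [AddCommGroup L'] [Module B' L'] [Module.Flat B (B ⊗[B'] L')]
    [Module.Flat A' (A' ⊗[B'] L')]
    {K : Type*} [AddCommGroup K] [Module B' K] (v : K →ₗ[B'] A')
    (hv : Function.Injective v) (hvI : ∀ k, v k ∈ I) : Function.Injective (v.rTensor L') := by
  let 𝔠 : Ideal A' := Ideal.span (Set.range v)
  have h𝔠I : 𝔠 ≤ I := Ideal.span_le.mpr (by rintro _ ⟨k, rfl⟩; exact hvI k)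
  let v₁ : K →ₗ[B'] 𝔠 :=
    { toFun := fun k => ⟨v k, Ideal.subset_span ⟨k, rfl⟩⟩
      map_add' := fun x y => Subtype.ext (v.map_add x y)
      map_smul' := fun r x => Subtype.ext (v.map_smul r x) }
  have hv₁ : Function.Injective v₁ := fun x y h => hv (congrArg Subtype.val h)
  have hfac : v = (𝔠.subtype.restrictScalars B') ∘ₗ v₁ := LinearMap.ext fun _ => rfl
  -- every element of `I • 𝔠` is in the image of `v`
  have hImg : ∀ c ∈ 𝔠, ∀ i ∈ I, ∃ k, v k = i * c := by
    intro c hc
    induction hc using Submodule.span_induction with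
    | mem x hx =>
      obtain ⟨k₀, rfl⟩ := hx
      intro i hi
      obtain ⟨j, _, hj⟩ := h1 i hi
      refine ⟨j • k₀, ?_⟩
      rw [map_smul, Algebra.smul_def, hj]
    | zero => intro i _; exact ⟨0, by simp⟩
    | add x y _ _ hx hy =>
      intro i hi
      obtain ⟨k₁, hk₁⟩ := hx i hi
      obtain ⟨k₂, hk₂⟩ := hy i hi
      exact ⟨k₁ + k₂, by rw [map_add, hk₁, hk₂, mul_add]⟩
    | smul a x _ hx =>
      intro i hi
      obtain ⟨k, hk⟩ := hx (i * a) (I.mul_mem_right a hi)
      exact ⟨k, by rw [hk, smul_eq_mul, mul_assoc]⟩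
  rw [hfac]
  apply rTensor_injective_comp
  swap
  · exact rTensor_injective_of_flat_baseChange L' 𝔠.subtype 𝔠.injective_subtype
  -- chase for v₁
  let P : Submodule A' 𝔠 := I • ⊤
  let π₁ : 𝔠 →ₗ[B'] (𝔠 ⧸ P) := P.mkQ.restrictScalars B'
  apply rTensor_injective_of_chase L' v₁ π₁
  · -- (a)
    have hmem : ∀ k : LinearMap.ker (π₁ ∘ₗ v₁), v₁ k ∈ P := by
      intro k
      have h0 : (π₁ ∘ₗ v₁) (k : K) = 0 := LinearMap.mem_ker.mp k.2
      exact (Submodule.Quotient.mk_eq_zero P).mp h0
    set K₁ := LinearMap.ker (π₁ ∘ₗ v₁) with hK₁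
    let e : K₁ →ₗ[B'] P :=
      { toFun := fun k => ⟨v₁ k, hmem k⟩
        map_add' := fun x y => Subtype.ext (by simp)
        map_smul' := fun r x => Subtype.ext (by simp) }
    have hfac2 : v₁ ∘ₗ K₁.subtype = (P.subtype.restrictScalars B') ∘ₗ e :=
      LinearMap.ext fun _ => rfl
    rw [hfac2]
    apply rTensor_injective_comp
    · apply rTensor_injective_of_bijective
      constructor
      · intro x y h
        have h' : v₁ x = v₁ y := congrArg Subtype.val h
        exact Subtype.ext (hv₁ h')
      · intro p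
        have hp : ∃ k : K, v₁ k = p.1 := by
          have := p.2
          refine Submodule.smul_induction_on this ?_ ?_
          · intro i hi c _
            obtain ⟨k, hk⟩ := hImg c.1 c.2 i hi
            exact ⟨k, Subtype.ext hk⟩
          · intro x y ⟨k₁, hk₁⟩ ⟨k₂, hk₂⟩
            exact ⟨k₁ + k₂, by rw [map_add, hk₁, hk₂]⟩
        obtain ⟨k, hk⟩ := hp
        have hkK : k ∈ K₁ := by
          rw [hK₁, LinearMap.mem_ker]
          show P.mkQ (v₁ k) = 0
          rw [hk]
          exact (Submodule.Quotient.mk_eq_zero P).mpr p.2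
        exact ⟨⟨k, hkK⟩, Subtype.ext hk⟩
    · exact rTensor_injective_of_flat_baseChange L' P.subtype P.injective_subtype
  · -- (b)
    apply rTensor_injective_of_surjective_of_flat hS L'
    · rw [← LinearMap.ker_eq_bot]
      exact Submodule.ker_liftQ_eq_bot _ _ _ le_rfl
    · intro r hr y
      obtain ⟨c, rfl⟩ := P.mkQ_surjective y
      have : r • c ∈ P := by
        rw [← IsScalarTower.algebraMap_smul A' r c]
        exact Submodule.smul_mem_smul (h2 r hr) Submodule.mem_top
      show r • P.mkQ c = 0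
      rw [Submodule.mkQ_apply, ← Submodule.Quotient.mk_smul]
      exact (Submodule.Quotient.mk_eq_zero P).mpr this

end V

theorem result (B' B A' A : Type u) [CommRing B'] [CommRing B] [CommRing A'] [CommRing A]
    [Algebra B' B] [Algebra B' A'] [Algebra B A] [Algebra A' A] [Algebra B' A] [IsScalarTower B' B A] [IsScalarTower B' A' A]
    (hsq : EtMil.IsFibreSquare B' B A' A)
    (L' : Type u) [AddCommGroup L'] [Module B' L']
    [Module.Flat B (B ⊗[B'] L')] [Module.Flat A' (A' ⊗[B'] L')] : Module.Flat B' L' := by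
  have hS : Function.Surjective (algebraMap B' B) := Milnor.surjective_left hsq
  let I : Ideal A' := RingHom.ker (algebraMap A' A)
  have h1 : ∀ i ∈ I, ∃ j : B', algebraMap B' B j = 0 ∧ algebraMap B' A' j = i := by
    intro i hi
    have : algebraMap B A 0 = algebraMap A' A i := by
      rw [map_zero]; exact ((RingHom.mem_ker).mp hi).symm
    obtain ⟨b', hb', _⟩ := hsq.2 0 i this
    exact ⟨b', hb'⟩
  have h2 : ∀ j : B', algebraMap B' B j = 0 → algebraMap B' A' j ∈ I := by
    intro j hj
    rw [RingHom.mem_ker, ← Milnor.compat (B := B) (A' := A') (A := A) j, hj, map_zero]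
  rw [Module.Flat.iff_rTensor_injective']
  intro 𝔞
  let π : B' →ₗ[B'] B := Algebra.linearMap B' B
  apply rTensor_injective_of_chase L' 𝔞.subtype π
  · -- (a)
    apply rTensor_injective_of_comp L' _ (Algebra.linearMap B' A')
    apply mainV hS I h1 h2 L'
    · intro x y hxy
      have hx := x.2
      have hy := y.2
      rw [LinearMap.mem_ker] at hx hy
      have e1 : algebraMap B' B (x : 𝔞) = algebraMap B' B (y : 𝔞) := by
        have hx' : algebraMap B' B (x : 𝔞) = 0 := hx
        have hy' : algebraMap B' B (y : 𝔞) = 0 := hy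
        rw [hx', hy']
      have e2 : algebraMap B' A' (x : 𝔞) = algebraMap B' A' (y : 𝔞) := hxy
      exact Subtype.ext (Subtype.ext (Milnor.eq_of_maps_eq hsq e1 e2))
    · intro k
      have hk := k.2
      rw [LinearMap.mem_ker] at hk
      have hk' : algebraMap B' B (k : 𝔞) = 0 := hk
      exact h2 _ hk'
  · -- (b)
    apply rTensor_injective_of_surjective_of_flat hS L'
    · rw [← LinearMap.ker_eq_bot]
      exact Submodule.ker_liftQ_eq_bot _ _ _ le_rfl
    · intro r hr y
      rw [Algebra.smul_def, hr, zero_mul]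

end Groth.Agent.S14952
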