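import Groth.Statements.S12909
import Mathlib

set_option autoImplicit false
universe u
open CAlgX

namespace Groth.Agent.S12909

open IsLocalRing TensorProduct

section local_lemma
variable {S : Type*} [CommRing S] [IsLocalRing S]

/-- An element of a module killed by `y` where `y • (𝔪 • ⊤) = 0`. -/
lemma smul_eq_zero_of_mem_smul_top (y : S) (hmy : ∀ m ∈ maximalIdeal S, m * y = 0)
    {F : Type*} [AddCommGroup F] [Module S F] (w : F)
    (hw : w ∈ maximalIdeal S • (⊤ : Submodule S F)) : y • w = 0 := by
  refine Submodule.smul_induction_on hw (fun m hm x _ => ?_) (fun a b ha hb => ?_)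
  · rw [smul_smul, mul_comm, hmy m hm, zero_smul]
  · rw [smul_add, ha, hb, add_zero]

lemma lTensor_injective_of_depth_zero (y : S) (hy : y ≠ 0)
    (hmy : ∀ m ∈ maximalIdeal S, m * y = 0)
    {N F : Type*} [AddCommGroup N] [Module S N] [AddCommGroup F] [Module S F]
    [Module.Free S N]
    (f : N →ₗ[S] F) (hf : Function.Injective f) :
    Function.Injective (f.lTensor (ResidueField S)) := by
  rw [injective_iff_map_eq_zero]
  intro z hz
  obtain ⟨v, rfl⟩ := TensorProduct.mk_surjective S N (ResidueField S)
    Ideal.Quotient.mk_surjective z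
  have h1 : (1 : ResidueField S) ⊗ₜ[S] f v = 0 := by simpa using hz
  have h2 : f v ∈ maximalIdeal S • (⊤ : Submodule S F) := by
    rw [← LinearMap.ker_tensorProductMk]
    exact h1
  have h3 : y • v = 0 := by
    apply hf
    rw [map_smul, map_zero]
    exact smul_eq_zero_of_mem_smul_top y hmy _ h2
  have h4 : v ∈ maximalIdeal S • (⊤ : Submodule S N) := by
    let b := Module.Free.chooseBasis S N
    have hv : v = ∑ i ∈ (b.repr v).support, (b.repr v i) • b i := by
      conv_lhs => rw [← b.linearCombination_repr v]
      rfl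
    rw [hv]
    refine Submodule.sum_mem _ fun i _ => Submodule.smul_mem_smul ?_ trivial
    by_contra hni
    have hu : IsUnit (b.repr v i) := by
      rwa [mem_maximalIdeal, mem_nonunits_iff, not_not] at hni
    have : b.repr (y • v) i = 0 := by rw [h3]; simp
    rw [map_smul, Finsupp.smul_apply, smul_eq_mul] at this
    exact hy (hu.mul_left_eq_zero.mp this)
  have : (TensorProduct.mk S (S ⧸ maximalIdeal S) N 1) v = 0 := by
    rw [← LinearMap.mem_ker, LinearMap.ker_tensorProductMk]
    exact h4
  exact this


theorem free_of_depth_zero (y : S) (hy : y ≠ 0)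
    (hmy : ∀ m ∈ maximalIdeal S, m * y = 0)
    {N F Q : Type*} [AddCommGroup N] [Module S N] [AddCommGroup F] [Module S F]
    [AddCommGroup Q] [Module S Q]
    [Module.Free S N] [Module.Finite S N] [Module.Free S F] [Module.Finite S F]
    (f : N →ₗ[S] F) (g : F →ₗ[S] Q) (hf : Function.Injective f) (hg : Function.Surjective g)
    (hfg : Function.Exact f g) :
    Module.Free S Q ∧ Module.Finite S Q ∧
      Module.finrank S N + Module.finrank S Q = Module.finrank S F := by
  have hinj := lTensor_injective_of_depth_zero y hy hmy f hf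
  haveI hQ : Module.Free S Q := Module.free_of_lTensor_residueField_injective f g hg hfg hinj
  haveI hQf : Module.Finite S Q := Module.Finite.of_surjective g hg
  refine ⟨hQ, hQf, ?_⟩
  obtain ⟨l, hl⟩ := (IsLocalRing.split_injective_iff_lTensor_residueField_injective f).mpr hinj
  obtain ⟨e, -⟩ := hfg.splitInjectiveEquiv hg ⟨l, hl⟩
  rw [e.finrank_eq, Module.finrank_prod]

end local_lemma


section localize
variable {R : Type*} [CommRing R] (P : Ideal R) [P.IsPrime]

/-- `M_P` is finite free of rank `r` over `R_P`. -/
def FreeRk (M : Type*) [AddCommGroup M] [Module R M] (r : ℕ) : Prop :=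
  Module.Free (Localization.AtPrime P) (LocalizedModule P.primeCompl M) ∧
  Module.Finite (Localization.AtPrime P) (LocalizedModule P.primeCompl M) ∧
  Module.finrank (Localization.AtPrime P) (LocalizedModule P.primeCompl M) = r

theorem FreeRk.of_free (M : Type*) [AddCommGroup M] [Module R M] [Module.Free R M]
    [Module.Finite R M] : FreeRk P M (Module.finrank R M) := by
  refine ⟨?_, ?_, ?_⟩
  · exact Module.free_of_isLocalizedModule P.primeCompl
      (LocalizedModule.mkLinearMap P.primeCompl M)
  · exact Module.Finite.of_isLocalizedModule P.primeCompl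
      (LocalizedModule.mkLinearMap P.primeCompl M)
  · exact Module.finrank_of_isLocalizedModule_of_free (Localization.AtPrime P) P.primeCompl
      (LocalizedModule.mkLinearMap P.primeCompl M)

theorem FreeRk.of_equiv {M M' : Type*} [AddCommGroup M] [Module R M] [AddCommGroup M']
    [Module R M'] (e : M ≃ₗ[R] M') {r : ℕ} (h : FreeRk P M r) : FreeRk P M' r := by
  obtain ⟨h1, h2, h3⟩ := h
  let e' : LocalizedModule P.primeCompl M ≃ₗ[Localization.AtPrime P]
      LocalizedModule P.primeCompl M' :=
    IsLocalizedModule.mapEquiv P.primeCompl (LocalizedModule.mkLinearMap P.primeCompl M)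
      (LocalizedModule.mkLinearMap P.primeCompl M') (Localization.AtPrime P) e
  exact ⟨Module.Free.of_equiv e', Module.Finite.equiv e', by rw [← e'.finrank_eq, h3]⟩

theorem FreeRk.step (y : Localization.AtPrime P) (hy : y ≠ 0)
    (hmy : ∀ m ∈ maximalIdeal (Localization.AtPrime P), m * y = 0)
    {N F Q : Type*} [AddCommGroup N] [Module R N] [AddCommGroup F] [Module R F]
    [AddCommGroup Q] [Module R Q] [Module.Free R F] [Module.Finite R F]
    (f : N →ₗ[R] F) (g : F →ₗ[R] Q) (hf : Function.Injective f) (hg : Function.Surjective g)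
    (hfg : Function.Exact f g) {r : ℕ} (hN : FreeRk P N r) :
    FreeRk P Q (Module.finrank R F - r) := by
  obtain ⟨h1, h2, h3⟩ := hN
  obtain ⟨k1, k2, k3⟩ := FreeRk.of_free P F
  have hex : Function.Exact (LocalizedModule.map P.primeCompl f)
      (LocalizedModule.map P.primeCompl g) :=
    LocalizedModule.map_exact P.primeCompl f g hfg
  obtain ⟨q1, q2, q3⟩ := free_of_depth_zero y hy hmy (LocalizedModule.map P.primeCompl f)
    (LocalizedModule.map P.primeCompl g) (LocalizedModule.map_injective _ f hf)
    (LocalizedModule.map_surjective _ g hg) hex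
  refine ⟨q1, q2, ?_⟩
  omega

end localize


section resolution
variable {R : Type*} [CommRing R] (P : Ideal R) [P.IsPrime]

/-- the expected rank of the image of `A i` when `i + d = e'` -/
def aux (n : ℕ → ℕ) : ℕ → ℕ → ℕ
  | 0, i => n (i + 1)
  | d + 1, i => n (i + 1) - aux n d (i + 1)

omit [P.IsPrime] in
lemma nontrivial_of_prime [P.IsPrime] : Nontrivial R :=
  ⟨⟨0, 1, fun h => ‹P.IsPrime›.ne_top ((Ideal.eq_top_iff_one _).mpr (h ▸ P.zero_mem))⟩⟩

theorem freeRk_range (y : Localization.AtPrime P) (hy : y ≠ 0)
    (hmy : ∀ m ∈ maximalIdeal (Localization.AtPrime P), m * y = 0)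
    (n : ℕ → ℕ) (A : (i : ℕ) → Matrix (Fin (n i)) (Fin (n (i + 1))) R) (e' : ℕ)
    (hA : ∀ i, i + 1 ≤ e' →
      LinearMap.ker (A i).mulVecLin = LinearMap.range (A (i + 1)).mulVecLin)
    (hlast : LinearMap.ker (A e').mulVecLin = ⊥) :
    ∀ d i, i + d = e' → FreeRk P (LinearMap.range (A i).mulVecLin) (aux n d i) := by
  haveI := nontrivial_of_prime P
  intro d
  induction d with
  | zero =>
    intro i hi
    obtain rfl : i = e' := by omega
    have h := FreeRk.of_free P (Fin (n (i + 1)) → R)
    rw [Module.finrank_fin_fun] at h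
    exact h.of_equiv P (LinearEquiv.ofInjective (A i).mulVecLin (LinearMap.ker_eq_bot.mp hlast))
  | succ d ih =>
    intro i hi
    have h1 := ih (i + 1) (by omega)
    have hex : Function.Exact (LinearMap.range (A (i + 1)).mulVecLin).subtype
        (A i).mulVecLin.rangeRestrict := by
      rw [LinearMap.exact_iff, LinearMap.ker_rangeRestrict, Submodule.range_subtype]
      exact hA i (by omega)
    have := FreeRk.step P y hy hmy _ _ (Submodule.injective_subtype _)
      (LinearMap.surjective_rangeRestrict _) hex h1
    rwa [Module.finrank_fin_fun] at this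


/-- depth-zero witness at an associated prime -/
theorem exists_depth_zero_witness [IsNoetherianRing R] (hP : P ∈ associatedPrimes R R) :
    ∃ x : R, (∀ a, a ∈ P ↔ a * x = 0) ∧ ∃ y : Localization.AtPrime P, y ≠ 0 ∧
      (∀ m ∈ maximalIdeal (Localization.AtPrime P), m * y = 0) ∧
      y = algebraMap R (Localization.AtPrime P) x := by
  rw [AssociatedPrimes.mem_iff, isAssociatedPrime_iff] at hP
  obtain ⟨_, x, hx⟩ := hP
  have hmem : ∀ a, a ∈ P ↔ a * x = 0 := by
    intro a
    rw [hx, Submodule.mem_colon_singleton, Submodule.mem_bot, smul_eq_mul]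
  refine ⟨x, hmem, algebraMap R _ x, ?_, ?_, rfl⟩
  · intro h0
    rw [IsLocalization.map_eq_zero_iff P.primeCompl] at h0
    obtain ⟨s, hs⟩ := h0
    exact s.2 ((hmem s.1).mpr hs)
  · intro m hm
    obtain ⟨a, s, rfl⟩ := IsLocalization.exists_mk'_eq P.primeCompl m
    rw [IsLocalization.AtPrime.mk'_mem_maximal_iff (Localization.AtPrime P) P] at hm
    rw [mul_comm, IsLocalization.mul_mk'_eq_mk'_of_mul, mul_comm, (hmem a).mp hm,
      IsLocalization.mk'_zero]

end resolution




/-- Let R be a Noetherian ring and I a nonzero ideal with a finite free resolution 0 → R^{n_e} → … →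
R^{n_1} → R^{n_0} → I → 0 with e ≥ 1: the map R^{n_{i+1}} → R^{n_i} is the matrix A_i, the map π :
R^{n_0} → R is linear with image I, the kernel of π is the image of A_0, the kernel of A_i is the
image of A_{i+1} for 0 ≤ i ≤ e - 2, and A_{e-1} is injective. Then I contains a non-zero-divisor of
R. (The hypothesis that I is nonzero is implicit in the published statement: the zero ideal of a
domain has a finite free resolution and contains no non-zero-divisor.) -/
theorem result {R : Type u} [CommRing R] [IsNoetherianRing R]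
    (e : ℕ) (he : 1 ≤ e) (n : ℕ → ℕ) (A : (i : ℕ) → Matrix (Fin (n i)) (Fin (n (i + 1))) R)
    (π : (Fin (n 0) → R) →ₗ[R] R) (hI : LinearMap.range π ≠ ⊥)
    (h0 : LinearMap.ker π = LinearMap.range (A 0).mulVecLin)
    (hA : ∀ i, i + 2 ≤ e → LinearMap.ker (A i).mulVecLin = LinearMap.range (A (i + 1)).mulVecLin)
    (hlast : LinearMap.ker (A (e - 1)).mulVecLin = ⊥) :
    ∃ x : R, x ∈ LinearMap.range π ∧ x ∈ nonZeroDivisors R := by
  obtain ⟨e', rfl⟩ : ∃ e', e = e' + 1 := ⟨e - 1, by omega⟩
  have hlast' : LinearMap.ker (A e').mulVecLin = ⊥ := hlast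
  have hA' : ∀ i, i + 1 ≤ e' →
      LinearMap.ker (A i).mulVecLin = LinearMap.range (A (i + 1)).mulVecLin :=
    fun i hi => hA i (by omega)
  -- the rank of `I` at every associated prime
  have key : ∀ P ∈ associatedPrimes R R, ∀ [P.IsPrime],
      FreeRk P (LinearMap.range π) (n 0 - aux n e' 0) := by
    intro P hP _
    obtain ⟨x, hmem, y, hy, hmy, -⟩ := exists_depth_zero_witness P hP
    have h1 := freeRk_range P y hy hmy n A e' hA' hlast' e' 0 (by omega)
    have hex : Function.Exact (LinearMap.range (A 0).mulVecLin).subtype π.rangeRestrict := by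
      rw [LinearMap.exact_iff, LinearMap.ker_rangeRestrict, Submodule.range_subtype]
      exact h0
    haveI := nontrivial_of_prime P
    have := FreeRk.step P y hy hmy _ _ (Submodule.injective_subtype _)
      (LinearMap.surjective_rangeRestrict _) hex h1
    rwa [Module.finrank_fin_fun] at this
  by_contra hcon
  push Not at hcon
  obtain ⟨I, hIdef⟩ : ∃ I : Ideal R, I = LinearMap.range π := ⟨_, rfl⟩
  rw [← hIdef] at key hI
  have hcon' : ∀ a ∈ I, a ∉ nonZeroDivisors R := by
    intro a ha
    exact hcon a (hIdef ▸ ha)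
  -- step 2 : `I` lies in an associated prime
  obtain ⟨Q, hQ, hIQ⟩ : ∃ Q ∈ associatedPrimes R R, I ≤ Q :=
    (I.subset_union_prime_finite (associatedPrimes.finite R R) (f := id) 0 0
      fun _ h _ _ ↦ h.1).1 <| by
      simp_rw [id, biUnion_associatedPrimes_eq_compl_nonZeroDivisors]
      intro a ha
      exact hcon' a ha
  haveI : Q.IsPrime := hQ.1
  -- step 3 : the rank is zero
  have hχ : n 0 - aux n e' 0 = 0 := by
    obtain ⟨x, hmem, y, hy, hmy, hyx⟩ := exists_depth_zero_witness Q hQ
    obtain ⟨f1, f2, f3⟩ := key Q hQ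
    have hall : ∀ z : LocalizedModule Q.primeCompl I, y • z = 0 := by
      intro z
      induction z using LocalizedModule.induction_on with
      | h a s =>
        rw [hyx, algebraMap_smul, LocalizedModule.smul'_mk]
        have : x • a = 0 := by
          apply Subtype.ext
          show x * a.1 = 0
          rw [mul_comm]
          exact (hmem a.1).mp (hIQ a.2)
        rw [this, LocalizedModule.zero_mk]
    rw [← f3]
    by_contra hne
    have hpos : 0 < Module.finrank (Localization.AtPrime Q) (LocalizedModule Q.primeCompl I) :=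
      Nat.pos_of_ne_zero hne
    let b := Module.Free.chooseBasis (Localization.AtPrime Q) (LocalizedModule Q.primeCompl I)
    rw [Module.finrank_eq_card_chooseBasisIndex] at hpos
    obtain ⟨i⟩ := Fintype.card_pos_iff.mp hpos
    have hkill : y • b i = 0 := hall (b i)
    have h2 : b.repr (y • b i) i = y := by simp
    rw [hkill] at h2
    simp at h2
    exact hy h2.symm
  -- step 4 : the annihilator of `I` is in no associated prime
  have hann : ∀ P ∈ associatedPrimes R R, ¬ Module.annihilator R I ≤ P := by
    intro P hP hle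
    haveI : P.IsPrime := hP.1
    obtain ⟨f1, f2, f3⟩ := key P hP
    rw [hχ, Module.finrank_eq_zero_iff_of_free] at f3
    have : (⟨P, inferInstance⟩ : PrimeSpectrum R) ∉ Module.support R I :=
      Module.notMem_support_iff.mpr f3
    rw [Module.support_eq_zeroLocus] at this
    exact this hle
  -- step 5
  have hex : ∃ s ∈ Module.annihilator R I, s ∈ nonZeroDivisors R := by
    by_contra hno
    push Not at hno
    obtain ⟨P, hP, hle⟩ : ∃ P ∈ associatedPrimes R R, Module.annihilator R I ≤ P :=
      ((Module.annihilator R I).subset_union_prime_finite (associatedPrimes.finite R R)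
        (f := id) 0 0 fun _ h _ _ ↦ h.1).1 <| by
        simp_rw [id, biUnion_associatedPrimes_eq_compl_nonZeroDivisors]
        intro a ha
        exact hno a ha
    exact hann P hP hle
  obtain ⟨s, hs, hsnzd⟩ := hex
  apply hI
  rw [eq_bot_iff]
  intro a ha
  have h1 : s • (⟨a, ha⟩ : I) = 0 := Module.mem_annihilator.mp hs _
  have h2 : s * a = 0 := congrArg Subtype.val h1
  rw [Submodule.mem_bot]
  exact (mem_nonZeroDivisors_iff.mp hsnzd).2 a (by rw [mul_comm]; exact h2)


end Groth.Agent.S12909
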