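import Groth.Statements.S0605
import Groth.Agent.S0604
import Groth.Agent.S0563
import Groth.Agent.Lib.Helper28.RegularCM

set_option autoImplicit false
universe u
open CAlg

namespace Groth.Agent.S0605

open CategoryTheory in
/-- A-B consequence: over a regular local ring of dimension `d`, a nonzero f.g. module `M`
has `pd M + depth M = d`. -/
theorem pd_add_depth (R : Type u) [CommRing R] [IsRegularLocalRing R] (M : Type u)
    [AddCommGroup M] [Module R M] [Module.Finite R M] [Nontrivial M] :
    ∃ e : ℕ, projectiveDimension (ModuleCat.of R M) = e ∧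
      ((IsLocalRing.maximalIdeal R).spanFinrank : ℕ∞) = e + LocCoh.depth R M := by
  have hd : ringKrullDim R = ((IsLocalRing.maximalIdeal R).spanFinrank : ℕ) :=
    (IsRegularLocalRing.spanFinrank_maximalIdeal (R := R)).symm
  have hpd : HasProjectiveDimensionLE (ModuleCat.of R M) (IsLocalRing.maximalIdeal R).spanFinrank :=
    Groth.Agent.S0563.result R _ hd M
  have h1 : projectiveDimension (ModuleCat.of R M) ≤
      ((IsLocalRing.maximalIdeal R).spanFinrank : ℕ) := (projectiveDimension_le_iff _ _).mpr hpd
  have h2 : projectiveDimension (ModuleCat.of R M) ≠ ⊥ := by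
    rw [Ne, projectiveDimension_eq_bot_iff, ModuleCat.isZero_iff_subsingleton]
    exact not_subsingleton M
  have h0 : (0 : WithBot ℕ∞) ≤ projectiveDimension (ModuleCat.of R M) := by
    rcases hx : projectiveDimension (ModuleCat.of R M) with _ | x
    · exact absurd hx h2
    · exact WithBot.coe_le_coe.mpr zero_le
  obtain ⟨e, he⟩ := Groth.Agent.Lib.Helper85.exists_nat_eq_of_le h0 h1
  refine ⟨e, he, ?_⟩
  have hAB := Groth.Agent.S0604.result R M e he
  have hCM := Groth.Agent.Lib.Helper28.isCohenMacaulayModule_self_of_isRegularLocalRing R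
  unfold LocCoh.IsCohenMacaulayModule at hCM
  rw [Module.supportDim_self_eq_ringKrullDim, hd] at hCM
  have h3 : ((IsLocalRing.maximalIdeal R).spanFinrank : ℕ∞) = LocCoh.depth R R := by
    have : (((IsLocalRing.maximalIdeal R).spanFinrank : ℕ∞) : WithBot ℕ∞) =
        ((LocCoh.depth R R : ℕ∞) : WithBot ℕ∞) := by exact_mod_cast hCM
    exact WithBot.coe_injective this
  rw [h3, hAB]

/-- Over a regular local ring, a finitely generated module whose depth equals the dimension of the ring
(a maximal Cohen–Macaulay module) is free. -/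
theorem result (R : Type u) [CommRing R]
    [IsRegularLocalRing R] (M : Type u) [AddCommGroup M] [Module R M] [Module.Finite R M]
    (h : ((LocCoh.depth R M : ℕ∞) : WithBot ℕ∞) = ringKrullDim R) : Module.Free R M := by
  by_cases hM : Subsingleton M
  · exact Module.Free.of_subsingleton R M
  rw [not_subsingleton_iff_nontrivial] at hM
  obtain ⟨e, he, hsum⟩ := pd_add_depth R M
  have hd : ringKrullDim R = ((IsLocalRing.maximalIdeal R).spanFinrank : ℕ) :=
    (IsRegularLocalRing.spanFinrank_maximalIdeal (R := R)).symm
  rw [hd] at h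
  have h4 : LocCoh.depth R M = ((IsLocalRing.maximalIdeal R).spanFinrank : ℕ∞) := by
    have : ((LocCoh.depth R M : ℕ∞) : WithBot ℕ∞) =
        ((((IsLocalRing.maximalIdeal R).spanFinrank : ℕ) : ℕ∞) : WithBot ℕ∞) := by exact_mod_cast h
    exact WithBot.coe_injective this
  rw [h4] at hsum
  have he0 : e = 0 := by
    have : (((IsLocalRing.maximalIdeal R).spanFinrank : ℕ) : ℕ∞) =
        ((e + (IsLocalRing.maximalIdeal R).spanFinrank : ℕ) : ℕ∞) := by exact_mod_cast hsum
    have := ENat.natCast_inj.mp this
    omega
  subst he0
  have hproj : CategoryTheory.Projective (ModuleCat.of R M) := by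
    rw [CategoryTheory.projective_iff_hasProjectiveDimensionLT_one]
    have : CategoryTheory.HasProjectiveDimensionLE (ModuleCat.of R M) 0 :=
      (CategoryTheory.projectiveDimension_le_iff _ 0).mp (le_of_eq he)
    exact this
  rw [← IsProjective.iff_projective] at hproj
  exact Module.free_of_flat_of_isLocalRing

end Groth.Agent.S0605
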