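import Groth.Statements.S0299
import Groth.Agent.Lib.Helper2.InjHull

set_option autoImplicit false
universe u v
open InjHull

namespace Groth.Agent.S0299

/-- Every module over a commutative ring has an injective hull, i.e. an essential injection into an
injective module. -/
theorem result (R : Type u) [CommRing R] (M : Type u) [AddCommGroup M] [Module R M] : ∃ (E : Type u) (_ : AddCommGroup E) (_ : Module R E) (f : M →ₗ[R] E), InjHull.IsInjectiveHull f := by
  obtain ⟨I, _, _, i, hI, hi⟩ := Groth.Agent.Lib.Helper2.exists_injective_embedding R M
  obtain ⟨E, C, hME, hess, hEC⟩ :=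
    Groth.Agent.Lib.Helper2.exists_essIn_isCompl hI (LinearMap.range i)
  exact ⟨E, inferInstance, inferInstance, _,
    Groth.Agent.Lib.Helper2.isInjectiveHull_of_essIn hI i hi hME hess hEC⟩

end Groth.Agent.S0299
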