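import Groth.Statements.S6291
import Mathlib

set_option autoImplicit false
universe u
open CAlg

namespace Groth.Agent.S6291

/-- Let R be a local ring with maximal ideal m and M an R-module of finite length. Then mⁿM = 0 for some
n. -/
theorem result {R : Type u} [CommRing R] [IsLocalRing R] (M : Type u) [AddCommGroup M] [Module R M] (hM : IsFiniteLength R M) : ∃ n : ℕ, (IsLocalRing.maximalIdeal R) ^ n • (⊤ : Submodule R M) = ⊥ := by
  induction hM with
  | of_subsingleton => exact ⟨0, Subsingleton.elim _ _⟩
  | @of_simple_quotient M _ _ N _ hN ih =>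
    obtain ⟨n, hn⟩ := ih
    refine ⟨n + 1, ?_⟩
    have h1 : IsLocalRing.maximalIdeal R • (⊤ : Submodule R M) ≤ N := by
      obtain ⟨I, hI, ⟨e⟩⟩ := isSimpleModule_iff_quot_maximal.mp (inferInstance : IsSimpleModule R (M ⧸ N))
      have hI' : I = IsLocalRing.maximalIdeal R := IsLocalRing.eq_maximalIdeal hI
      rw [Submodule.smul_le]
      intro r hr x _
      rw [← Submodule.Quotient.mk_eq_zero, Submodule.Quotient.mk_smul]
      apply e.injective
      rw [map_smul, map_zero]
      obtain ⟨y, hy⟩ := Ideal.Quotient.mk_surjective (e (Submodule.Quotient.mk x))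
      rw [← hy, ← Ideal.Quotient.mk_eq_mk, ← Submodule.Quotient.mk_smul, Submodule.Quotient.mk_eq_zero,
        smul_eq_mul]
      rw [hI']
      exact Ideal.mul_mem_right _ _ hr
    have h2 : IsLocalRing.maximalIdeal R ^ n • N = ⊥ := by
      have := congrArg (Submodule.map N.subtype) hn
      rwa [Submodule.map_smul'', Submodule.map_top, Submodule.range_subtype, Submodule.map_bot] at this
    rw [eq_bot_iff, pow_succ, Submodule.mul_smul, ← h2]
    exact Submodule.smul_mono le_rfl h1

end Groth.Agent.S6291
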