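import Groth.Statements.S12288
import Groth.Agent.Lib.Helper59.CotTRegSeq
import Groth.Agent.S12283

set_option autoImplicit false
universe u w m
open scoped TensorProduct
open DefT

namespace Groth.Agent.S12288

/-- Let A be a local ring and A → B a surjective ring homomorphism whose kernel is generated by a
regular sequence a_1, …, a_r on A (each a_i is a non-zero-divisor on A/(a_1, …, a_{i-1}) and the
ideal is proper). Then T^2(B/A, M) = 0 for every B-module M, the module being computed from the
choice-free presentation of B over A. -/
theorem result
    (A B : Type u) [CommRing A] [IsLocalRing A] [CommRing B] [Algebra A B]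
    (hs : Function.Surjective (algebraMap A B)) (rs : List A) (hreg : RingTheory.Sequence.IsRegular A rs)
    (hI : RingHom.ker (algebraMap A B) = Ideal.ofList rs) (M : Type u) [AddCommGroup M] [Module B M] :
    Subsingleton (CotT.T2 (CotT.canon A B) M) := by
  let P0 := Groth.Agent.Lib.Helper59.CotTRegSeq.seqPres hs rs hI
  obtain ⟨-, -, ⟨e2⟩⟩ := Groth.Agent.S12283.result A B PEmpty.{u + 1} (ULift.{u} (Fin rs.length)) B
    (CotT.CanonRels A B) P0 (CotT.canon A B) M
  have h2 : Subsingleton (CotT.T2 P0 M) :=
    Groth.Agent.Lib.Helper59.CotTRegSeq.T2_subsingleton hs rs hI hreg.toIsWeaklyRegular M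
  exact e2.symm.toEquiv.subsingleton

end Groth.Agent.S12288
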