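import Groth.Statements.S2167
import Mathlib
import Groth.Agent.Lib.Helper82.CMHeight

set_option autoImplicit false
universe u
open LCI

namespace Groth.Agent.S2167.Aux

set_option linter.style.haveILetI false

open IsLocalRing RingTheory.Sequence

section gens
variable {R : Type u} [CommRing R]

theorem ofList_eq_span_range (ys : List R) :
    Ideal.ofList ys = Ideal.span (Set.range fun i : Fin ys.length => ys.get i) := by
  unfold Ideal.ofList
  congr 1
  ext x
  simp only [Set.mem_ofPred_eq, Set.mem_range]
  exact List.mem_iff_get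

/-- generators of `I` give generators of the conormal module -/
theorem spanFinrank_cotangent_le (I : Ideal R) (ys : List R) (h : Ideal.ofList ys = I) :
    (⊤ : Submodule (R ⧸ I) I.Cotangent).spanFinrank ≤ ys.length := by
  classical
  have hy : ∀ i : Fin ys.length, ys.get i ∈ I := by
    intro i
    rw [← h, ofList_eq_span_range]
    exact Ideal.subset_span ⟨i, rfl⟩
  let v : Fin ys.length → I.Cotangent := fun i => I.toCotangent ⟨ys.get i, hy i⟩
  have hspan : Submodule.span (R ⧸ I) (Set.range v) = ⊤ := by
    rw [eq_top_iff]
    intro y _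
    obtain ⟨⟨z0, hz⟩, rfl⟩ := I.toCotangent_surjective y
    have hz' : z0 ∈ Ideal.span (Set.range fun i : Fin ys.length => ys.get i) := by
      rw [← ofList_eq_span_range, h]; exact hz
    obtain ⟨c, hc⟩ := (Ideal.mem_span_range_iff_exists_fun).mp hz'
    have hzsum : (⟨z0, hz⟩ : I) = ∑ i, c i • (⟨ys.get i, hy i⟩ : I) := by
      apply Subtype.ext
      change z0 = _
      rw [← hc]
      simp [Submodule.coe_sum]
    rw [hzsum, map_sum]
    refine Submodule.sum_mem _ fun i _ => ?_
    rw [map_smul]
    have : c i • I.toCotangent ⟨ys.get i, hy i⟩ =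
        (Ideal.Quotient.mk I (c i)) • I.toCotangent ⟨ys.get i, hy i⟩ := rfl
    rw [this]
    exact Submodule.smul_mem _ _ (Submodule.subset_span ⟨i, rfl⟩)
  rw [← hspan]
  refine le_trans (Submodule.spanFinrank_span_le_ncard_of_finite (Set.finite_range v)) ?_
  have := Set.ncard_image_le (f := v) (s := Set.univ) Set.finite_univ
  rw [Set.image_univ] at this
  simpa using this

/-- generators of the conormal module lift to generators of `I` (Nakayama) -/
theorem exists_list_of_cotangent [IsNoetherianRing R] (I : Ideal R)
    (hI : I ≤ Ideal.jacobson ⊥) :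
    ∃ ys : List R, ys.length = (⊤ : Submodule (R ⧸ I) I.Cotangent).spanFinrank ∧
      Ideal.ofList ys = I := by
  classical
  have hfg : (⊤ : Submodule (R ⧸ I) I.Cotangent).FG := by
    have : Module.Finite (R ⧸ I) I.Cotangent := by
      haveI : Module.Finite R I.Cotangent := Module.Finite.of_surjective _ I.toCotangent_surjective
      exact Module.Finite.of_restrictScalars_finite R (R ⧸ I) I.Cotangent
    exact Module.Finite.fg_top
  obtain ⟨s, hscard, hs⟩ := Submodule.FG.exists_span_finset_card_eq_spanFinrank hfg
  choose ℓ hℓ using I.toCotangent_surjective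
  refine ⟨s.toList.map (fun y => (ℓ y : R)), ?_, ?_⟩
  · rw [List.length_map, Finset.length_toList, hscard]
  · set J := Ideal.ofList (s.toList.map (fun y => (ℓ y : R))) with hJ
    have hJmem : ∀ y ∈ s, (ℓ y : R) ∈ J := by
      intro y hy
      apply Ideal.subset_span
      simp only [Set.mem_ofPred_eq, List.mem_map, Finset.mem_toList]
      exact ⟨y, hy, rfl⟩
    have hJI : J ≤ I := by
      rw [hJ]
      unfold Ideal.ofList
      rw [Ideal.span_le]
      intro x hx
      simp only [Set.mem_ofPred_eq, List.mem_map, Finset.mem_toList] at hx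
      obtain ⟨y, _, rfl⟩ := hx
      exact (ℓ y).2
    apply le_antisymm hJI
    apply Submodule.le_of_le_smul_of_le_jacobson_bot (IsNoetherian.noetherian I) hI
    intro z0 hz
    have hmem : I.toCotangent ⟨z0, hz⟩ ∈ Submodule.span (R ⧸ I) (s : Set I.Cotangent) := by
      rw [hs]; trivial
    obtain ⟨f, -, hf⟩ := Submodule.mem_span_finset.mp hmem
    choose g hg using fun y => Ideal.Quotient.mk_surjective (f y)
    let w : I := ∑ y ∈ s, g y • ℓ y
    have hw : I.toCotangent w = I.toCotangent ⟨z0, hz⟩ := by
      rw [← hf, map_sum]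
      refine Finset.sum_congr rfl fun y _ => ?_
      rw [map_smul, hℓ, ← hg y]
      rfl
    have h2 := (I.toCotangent_eq).mp hw
    have hwJ : (w : R) ∈ J := by
      simp only [w, Submodule.coe_sum, Submodule.coe_smul, smul_eq_mul]
      exact Ideal.sum_mem _ fun y hy => Ideal.mul_mem_left _ _ (hJmem y hy)
    have hz0 : z0 = (w : R) - ((w : R) - z0) := by ring
    rw [hz0]
    refine Submodule.sub_mem _ (Submodule.mem_sup_left hwJ) (Submodule.mem_sup_right ?_)
    rw [smul_eq_mul, ← pow_two]
    exact h2

end gens

section main
variable {R : Type u} [CommRing R] [IsRegularLocalRing R]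

open Groth.Agent.Lib.Helper29 in
theorem supportDim_quot (ys : List R) :
    Module.supportDim R (R ⧸ Ideal.ofList ys • (⊤ : Submodule R R)) =
      ringKrullDim (R ⧸ Ideal.ofList ys) := by
  have hI : (Ideal.ofList ys • (⊤ : Submodule R R)) = Ideal.ofList ys := by
    rw [smul_eq_mul, Ideal.mul_top]
  rw [Module.supportDim_eq_of_equiv (Submodule.quotEquivOfEq _ _ hI),
    Module.supportDim_quotient_eq_ringKrullDim]

theorem main (I : Ideal R) (hI : I ≠ ⊤) :
    (∃ rs : List R, Ideal.ofList rs = I ∧ RingTheory.Sequence.IsRegular R rs) ↔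
      (((⊤ : Submodule (R ⧸ I) I.Cotangent).spanFinrank : WithBot ℕ∞) + ringKrullDim (R ⧸ I)
        ≤ ringKrullDim R) := by
  have hCM := Groth.Agent.Lib.Helper28.isCohenMacaulayModule_self_of_isRegularLocalRing R
  have hIm : I ≤ maximalIdeal R := IsLocalRing.le_maximalIdeal hI
  constructor
  · rintro ⟨rs, hrs, hreg⟩
    have hmem : ∀ x ∈ rs, x ∈ maximalIdeal R := by
      intro x hx
      apply hIm
      rw [← hrs]
      exact Ideal.subset_span hx
    have h1 := (Groth.Agent.Lib.Helper29.isWeaklyRegular_iff_supportDim_of_isCohenMacaulayModule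
      (A := R) R hCM rs hmem).mp hreg.toIsWeaklyRegular
    rw [supportDim_quot, Module.supportDim_self_eq_ringKrullDim, hrs] at h1
    rw [← h1, add_comm]
    gcongr
    exact_mod_cast spanFinrank_cotangent_le I rs hrs
  · intro h
    obtain ⟨ys, hlen, hys⟩ := exists_list_of_cotangent I (by
      rw [Ideal.jacobson_bot, IsLocalRing.ringJacobson_eq_maximalIdeal]
      exact hIm)
    refine ⟨ys, hys, ?_, ?_⟩
    · have hmem : ∀ x ∈ ys, x ∈ maximalIdeal R := by
        intro x hx
        apply hIm
        rw [← hys]
        exact Ideal.subset_span hx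
      rw [Groth.Agent.Lib.Helper29.isWeaklyRegular_iff_supportDim_of_isCohenMacaulayModule
        (A := R) R hCM ys hmem, supportDim_quot, Module.supportDim_self_eq_ringKrullDim, hys]
      apply le_antisymm
      · rw [hlen, add_comm]
        exact h
      · have h2 := ringKrullDim_le_ringKrullDim_quotient_add_encard ({x | x ∈ ys} : Set R) (by
          rw [IsLocalRing.ringJacobson_eq_maximalIdeal]
          exact fun x hx => hmem x hx)
        have h3 : Ideal.span ({x | x ∈ ys} : Set R) = I := hys
        rw [h3] at h2
        refine le_trans h2 ?_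
        gcongr
        exact_mod_cast Groth.Agent.Lib.Helper82.CMHeight.encard_setOf_mem_le_length ys
    · rw [smul_eq_mul, Ideal.mul_top, hys]
      exact fun h => hI h.symm

end main

end Groth.Agent.S2167.Aux

namespace Groth.Agent.S2167

/-- Equivalence of (2) and (3), special case with R already a regular local ring: for a regular local
ring R and a proper ideal I, the ideal I is generated by a regular sequence if and only if the
conormal module I/I^2 can be generated by (dim R - dim R/I) elements, the inequality below being the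
additive form of that count. -/
theorem result {R : Type u} [CommRing R] [IsRegularLocalRing R]
    (I : Ideal R) (hI : I ≠ ⊤) :
    (∃ rs : List R, Ideal.ofList rs = I ∧ RingTheory.Sequence.IsRegular R rs) ↔
      (((⊤ : Submodule (R ⧸ I) I.Cotangent).spanFinrank : WithBot ℕ∞) + ringKrullDim (R ⧸ I)
        ≤ ringKrullDim R) := by
  exact Aux.main I hI

end Groth.Agent.S2167
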