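import Groth.Statements.S2108
import Mathlib
import Groth.Agent.Lib.Helper94.SurjLoc

set_option autoImplicit false
universe u
open Smoothing

namespace Groth.Agent.S2108

open IsLocalRing TensorProduct KaehlerDifferential MvPolynomial
open Groth.Agent.Lib.Helper94

/-- A `c × n` matrix over a field with linearly independent rows has a nonvanishing `c × c` minor
(copied from helper46's `JacobianCrit2`). -/
theorem exists_det_submatrix_ne_zero {K : Type*} [Field K] {c n : ℕ} (A : Matrix (Fin c) (Fin n) K)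
    (h : LinearIndependent K A.row) : ∃ I : Fin c ↪ Fin n, (A.submatrix id I).det ≠ 0 := by
  classical
  have hrank : A.rank = c := by simpa using h.rank_matrix
  obtain ⟨κ, a, ha_inj, hspan, hli⟩ := exists_linearIndependent' K A.col
  have : Finite κ := Finite.of_injective a ha_inj
  have : Fintype κ := Fintype.ofFinite κ
  have hcard : Fintype.card κ = c := by
    rw [← finrank_span_eq_card hli, hspan, ← Matrix.rank_eq_finrank_span_cols, hrank]
  let e : Fin c ≃ κ := (Fintype.equivFinOfCardEq hcard).symm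
  refine ⟨⟨a ∘ e, ha_inj.comp e.injective⟩, ?_⟩
  have hcols : LinearIndependent K (A.submatrix id (a ∘ e)).col := by
    have := hli.comp e e.injective
    exact this
  have hunit : IsUnit (A.submatrix id (a ∘ e)) := Matrix.linearIndependent_cols_iff_isUnit.mp hcols
  exact ((Matrix.isUnit_iff_isUnit_det _).mp hunit).ne_zero

/-- Nakayama for a finite module over a local ring. -/
theorem span_eq_top_of_span_tmul_eq_top {S M : Type*} [CommRing S] [IsLocalRing S]
    [AddCommGroup M] [Module S M] [Module.Finite S M] {ι : Type*} (v : ι → M)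
    (h : Submodule.span (ResidueField S)
      (Set.range fun i => (1 : ResidueField S) ⊗ₜ[S] v i) = ⊤) :
    Submodule.span S (Set.range v) = ⊤ := by
  rw [← IsLocalRing.map_tensorProduct_mk_eq_top, Submodule.map_span,
    ← Submodule.restrictScalars_span S (ResidueField S) Ideal.Quotient.mk_surjective,
    Submodule.restrictScalars_eq_top_iff, ← Set.range_comp]
  exact h

theorem span_tmul_eq_top_of_span_eq_top {S M : Type*} [CommRing S] [IsLocalRing S]
    [AddCommGroup M] [Module S M] {ι : Type*} (v : ι → M)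
    (h : Submodule.span S (Set.range v) = ⊤) :
    Submodule.span (ResidueField S)
      (Set.range fun i => (1 : ResidueField S) ⊗ₜ[S] v i) = ⊤ := by
  rw [eq_top_iff]
  rintro z -
  induction z using TensorProduct.induction_on with
  | zero => exact zero_mem _
  | add x y hx hy => exact add_mem hx hy
  | tmul c ω =>
    have hω : ω ∈ Submodule.span S (Set.range v) := by rw [h]; trivial
    refine Submodule.span_induction ?_ ?_ ?_ ?_ hω
    · rintro _ ⟨i, rfl⟩
      have : c ⊗ₜ[S] v i = c • ((1 : ResidueField S) ⊗ₜ[S] v i) := by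
        rw [TensorProduct.smul_tmul', smul_eq_mul, mul_one]
      rw [this]
      exact Submodule.smul_mem _ _ (Submodule.subset_span ⟨i, rfl⟩)
    · rw [TensorProduct.tmul_zero]; exact zero_mem _
    · intro x y _ _ hx hy
      rw [TensorProduct.tmul_add]; exact add_mem hx hy
    · intro a x _ hx
      have : c ⊗ₜ[S] (a • x) = (algebraMap S (ResidueField S) a) • (c ⊗ₜ[S] x) := by
        rw [TensorProduct.tmul_smul, algebraMap_smul]
      rw [this]
      exact Submodule.smul_mem _ _ hx

theorem baseChange_cc_tmul_mk {R S : Type u} [CommRing R] [CommRing S] [IsLocalRing S] [Algebra R S]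
    (E : Algebra.Extension.{u} R S) {n : ℕ} (b : Module.Basis (Fin n) E.Ring Ω[E.Ring⁄R])
    (x : E.ker) (c : Fin n → E.Ring) (hx : D R E.Ring (x : E.Ring) = ∑ i, c i • b i) :
    (E.cotangentComplex.baseChange (ResidueField S))
        ((1 : ResidueField S) ⊗ₜ[S] Algebra.Extension.Cotangent.mk x) =
      ∑ i, (residue S (algebraMap E.Ring S (c i))) •
        ((b.baseChange S).baseChange (ResidueField S)) i := by
  rw [LinearMap.baseChange_tmul, Algebra.Extension.cotangentComplex_mk, hx,
    TensorProduct.tmul_sum, TensorProduct.tmul_sum]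
  refine Finset.sum_congr rfl fun i _ => ?_
  rw [Module.Basis.baseChange_apply, Module.Basis.baseChange_apply, TensorProduct.tmul_smul,
    ← algebraMap_smul S (c i) ((1 : S) ⊗ₜ[E.Ring] b i), TensorProduct.tmul_smul,
    ← algebraMap_smul (ResidueField S) (algebraMap E.Ring S (c i))]
  rfl

theorem linearIndependent_row_of {κ : Type*} [Field κ] {V : Type*} [AddCommGroup V] [Module κ V]
    {c n : ℕ} (β : Module.Basis (Fin n) κ V) (w : Fin c → V) (J : Matrix (Fin c) (Fin n) κ)
    (hw : LinearIndependent κ w) (hJ : ∀ j, w j = ∑ i, J j i • β i) :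
    LinearIndependent κ J.row := by
  classical
  have h1 := hw.map' β.equivFun.toLinearMap (LinearMap.ker_eq_bot.2 β.equivFun.injective)
  have h2 : J.row = β.equivFun.toLinearMap ∘ w := by
    funext j i
    simp only [Function.comp_apply, LinearEquiv.coe_coe, hJ, map_sum, map_smul,
      Module.Basis.equivFun_self, Matrix.row]
    simp [Pi.single_apply, Finsupp.single_apply, Finset.sum_ite_eq']
  rw [h2]; exact h1

theorem mem_sup_sq_of_span_eq_top {R S : Type u} [CommRing R] [CommRing S] [Algebra R S]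
    (E : Algebra.Extension.{u} R S) {m c : ℕ} (g : Fin m → E.Ring)
    (hg : Ideal.span (Set.range g) = E.ker) (rows : Fin c → Fin m)
    (hrows : Submodule.span S (Set.range fun j : Fin c =>
      (Algebra.Extension.Cotangent.mk ⟨g (rows j), hg.le (Ideal.subset_span ⟨rows j, rfl⟩)⟩ :
        E.Cotangent)) = ⊤) (ℓ : Fin m) :
    g ℓ ∈ Ideal.span (Set.range (g ∘ rows)) ⊔ Ideal.span (Set.range g) ^ 2 := by
  have hgk : ∀ ℓ, g ℓ ∈ E.ker := fun ℓ => hg.le (Ideal.subset_span ⟨ℓ, rfl⟩)
  have h1 : (Algebra.Extension.Cotangent.mk ⟨g ℓ, hgk ℓ⟩ : E.Cotangent) ∈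
      Submodule.span S (Set.range fun j : Fin c =>
        (Algebra.Extension.Cotangent.mk ⟨g (rows j), hgk (rows j)⟩ : E.Cotangent)) := by
    rw [hrows]; trivial
  obtain ⟨bb, hbb⟩ := (Submodule.mem_span_range_iff_exists_fun S).1 h1
  choose bt hbt using fun j => E.algebraMap_surjective (bb j)
  have h2 : (Algebra.Extension.Cotangent.mk ⟨g ℓ, hgk ℓ⟩ : E.Cotangent) =
      Algebra.Extension.Cotangent.mk (∑ j, bt j • (⟨g (rows j), hgk (rows j)⟩ : E.ker)) := by
    rw [← hbb, map_sum]
    refine Finset.sum_congr rfl fun j _ => ?_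
    rw [map_smul, ← hbt j, algebraMap_smul]
  rw [Algebra.Extension.Cotangent.mk_eq_mk_iff_sub_mem] at h2
  have h3 : ((∑ j, bt j • (⟨g (rows j), hgk (rows j)⟩ : E.ker) : E.ker) : E.Ring) =
      ∑ j, bt j * g (rows j) := by
    simp
  rw [h3] at h2
  have h4 : g ℓ = ∑ j, bt j * g (rows j) + (g ℓ - ∑ j, bt j * g (rows j)) := by ring
  rw [h4]
  refine Submodule.add_mem_sup
    (sum_mem fun j _ => Ideal.mul_mem_left _ _ (Ideal.subset_span ⟨j, rfl⟩)) ?_
  rw [hg]; exact h2


/-- **Lemma L**: the abstract local statement. -/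
theorem lemmaL {R S : Type u} [CommRing R] [CommRing S] [IsLocalRing S] [Algebra R S]
    (E : Algebra.Extension.{u} R S)
    [Algebra.FormallySmooth R E.Ring] [Algebra.FormallySmooth R S]
    {n m : ℕ} (b : Module.Basis (Fin n) E.Ring Ω[E.Ring⁄R]) (g : Fin m → E.Ring)
    (hg : Ideal.span (Set.range g) = E.ker)
    (d : Fin m → Fin n → E.Ring) (hd : ∀ ℓ, D R E.Ring (g ℓ) = ∑ i, d ℓ i • b i) :
    ∃ (c : ℕ) (rows : Fin c ↪ Fin m) (cols : Fin c ↪ Fin n),
      residue S (algebraMap E.Ring S
        (Matrix.det (Matrix.of fun j k : Fin c => d (rows j) (cols k)))) ≠ 0 ∧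
      ∀ ℓ, g ℓ ∈ Ideal.span (Set.range (g ∘ rows)) ⊔ Ideal.span (Set.range g) ^ 2 := by
  classical
  haveI : Module.Free E.Ring Ω[E.Ring⁄R] := Module.Free.of_basis b
  haveI : Module.Finite E.Ring Ω[E.Ring⁄R] := Module.Finite.of_basis b
  have hfg : E.ker.FG := by rw [← hg]; exact Submodule.fg_span (Set.finite_range g)
  have hinj := (Algebra.FormallySmooth.iff_injective_lTensor_residueField E hfg).1
    ‹Algebra.FormallySmooth R S›
  -- generators of the cotangent module
  have hgk : ∀ ℓ, g ℓ ∈ E.ker := fun ℓ => hg.le (Ideal.subset_span ⟨ℓ, rfl⟩)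
  let mm : Fin m → E.Cotangent := fun ℓ =>
    Algebra.Extension.Cotangent.mk ⟨g ℓ, hgk ℓ⟩
  have hmm : Submodule.span S (Set.range mm) = ⊤ :=
    Algebra.Extension.Cotangent.span_eq_top_of_span_eq_ker g hg
  haveI : Module.Finite S E.Cotangent :=
    ⟨by rw [← hmm]; exact Submodule.fg_span (Set.finite_range mm)⟩
  let v : Fin m → ResidueField S ⊗[S] E.Cotangent := fun ℓ => 1 ⊗ₜ mm ℓ
  have hv : Submodule.span (ResidueField S) (Set.range v) = ⊤ :=
    span_tmul_eq_top_of_span_eq_top mm hmm
  obtain ⟨κ', a, ha_inj, hspan, hli⟩ := exists_linearIndependent' (ResidueField S) v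
  haveI : Finite κ' := Finite.of_injective a ha_inj
  haveI : Fintype κ' := Fintype.ofFinite κ'
  let e : Fin (Fintype.card κ') ≃ κ' := (Fintype.equivFin κ').symm
  let rows : Fin (Fintype.card κ') ↪ Fin m := ⟨a ∘ e, ha_inj.comp e.injective⟩
  have hli' : LinearIndependent (ResidueField S) (v ∘ rows) := hli.comp e e.injective
  have hspan' : Submodule.span (ResidueField S) (Set.range (v ∘ rows)) = ⊤ := by
    rw [← hv, ← hspan]
    congr 1
    change Set.range ((v ∘ a) ∘ e) = _
    rw [Set.range_comp, e.surjective.range_eq, Set.image_univ]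
  have hrows : Submodule.span S (Set.range (mm ∘ rows)) = ⊤ :=
    span_eq_top_of_span_tmul_eq_top (mm ∘ rows) hspan'
  -- part (i): a nonvanishing minor
  have hinj' : Function.Injective (E.cotangentComplex.baseChange (ResidueField S)) := by
    have : (E.cotangentComplex.baseChange (ResidueField S) :
        ResidueField S ⊗[S] E.Cotangent → ResidueField S ⊗[S] E.CotangentSpace) =
        E.cotangentComplex.lTensor (ResidueField S) := LinearMap.baseChange_eq_ltensor _
    rw [this]; exact hinj
  have hw : LinearIndependent (ResidueField S)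
      ((E.cotangentComplex.baseChange (ResidueField S)) ∘ (v ∘ rows)) :=
    hli'.map' _ (LinearMap.ker_eq_bot.2 hinj')
  let J : Matrix (Fin (Fintype.card κ')) (Fin n) (ResidueField S) :=
    Matrix.of fun j i => residue S (algebraMap E.Ring S (d (rows j) i))
  have hJ : LinearIndependent (ResidueField S) J.row :=
    linearIndependent_row_of ((b.baseChange S).baseChange (ResidueField S)) _ J hw
      (fun j => baseChange_cc_tmul_mk E b ⟨g (rows j), hgk (rows j)⟩ (d (rows j)) (hd (rows j)))
  obtain ⟨cols, hcols⟩ := exists_det_submatrix_ne_zero J hJ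
  refine ⟨Fintype.card κ', rows, cols, ?_, fun ℓ => mem_sup_sq_of_span_eq_top E g hg rows hrows ℓ⟩
  have : residue S (algebraMap E.Ring S
      (Matrix.det (Matrix.of fun j k : Fin (Fintype.card κ') => d (rows j) (cols k)))) =
      (J.submatrix id cols).det := by
    change ((residue S).comp (algebraMap E.Ring S)) _ = _
    rw [RingHom.map_det]
    congr 1
  rw [this]; exact hcols

/-- Lemma L for a surjection `P' → S` (not packaged as an extension). -/
theorem lemmaL' {R P' S : Type u} [CommRing R] [CommRing P'] [CommRing S] [IsLocalRing S]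
    [Algebra R P'] [Algebra R S] [Algebra P' S] [IsScalarTower R P' S]
    [Algebra.FormallySmooth R P'] [Algebra.FormallySmooth R S]
    (hsurj : Function.Surjective (algebraMap P' S))
    {n m : ℕ} (b : Module.Basis (Fin n) P' Ω[P'⁄R]) (g : Fin m → P')
    (hg : Ideal.span (Set.range g) = RingHom.ker (algebraMap P' S))
    (d : Fin m → Fin n → P') (hd : ∀ ℓ, D R P' (g ℓ) = ∑ i, d ℓ i • b i) :
    ∃ (c : ℕ) (rows : Fin c ↪ Fin m) (cols : Fin c ↪ Fin n),
      residue S (algebraMap P' S
        (Matrix.det (Matrix.of fun j k : Fin c => d (rows j) (cols k)))) ≠ 0 ∧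
      ∀ ℓ, g ℓ ∈ Ideal.span (Set.range (g ∘ rows)) ⊔ Ideal.span (Set.range g) ^ 2 :=
  lemmaL (R := R) (S := S)
    { Ring := P', σ := Function.surjInv hsurj, algebraMap_σ := Function.surjInv_eq hsurj }
    b g hg d hd

theorem D_eq_sum_pderiv {R : Type u} [CommRing R] {n : ℕ} (p : MvPolynomial (Fin n) R) :
    D R (MvPolynomial (Fin n) R) p = ∑ i, pderiv i p • D R (MvPolynomial (Fin n) R) (X i) := by
  have := (mvPolynomialBasis R (Fin n)).sum_repr (D R (MvPolynomial (Fin n) R) p)
  rw [← this]
  refine Finset.sum_congr rfl fun i _ => ?_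
  rw [mvPolynomialBasis_repr_apply, mvPolynomialBasis_apply]

theorem D_algebraMap_eq_sum {R : Type u} [CommRing R] {n : ℕ} (P' : Type u) [CommRing P']
    [Algebra R P'] [Algebra (MvPolynomial (Fin n) R) P']
    [IsScalarTower R (MvPolynomial (Fin n) R) P'] (p : MvPolynomial (Fin n) R) :
    D R P' (algebraMap _ P' p) = ∑ i, algebraMap _ P' (pderiv i p) •
      D R P' (algebraMap (MvPolynomial (Fin n) R) P' (X i)) := by
  rw [← KaehlerDifferential.map_D R R (MvPolynomial (Fin n) R) P', D_eq_sum_pderiv, map_sum]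
  refine Finset.sum_congr rfl fun i _ => ?_
  rw [map_smul, KaehlerDifferential.map_D, algebraMap_smul]

/-- Basis of differentials of a localization of a polynomial ring. -/
noncomputable def locBasis {R : Type u} [CommRing R] {n : ℕ} (P' : Type u) [CommRing P']
    [Algebra R P'] [Algebra (MvPolynomial (Fin n) R) P']
    [IsScalarTower R (MvPolynomial (Fin n) R) P']
    [Algebra.FormallyEtale (MvPolynomial (Fin n) R) P'] :
    Module.Basis (Fin n) P' Ω[P'⁄R] :=
  ((mvPolynomialBasis R (Fin n)).baseChange P').map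
    (tensorKaehlerEquivOfFormallyEtale R (MvPolynomial (Fin n) R) P')

theorem locBasis_apply {R : Type u} [CommRing R] {n : ℕ} (P' : Type u) [CommRing P']
    [Algebra R P'] [Algebra (MvPolynomial (Fin n) R) P']
    [IsScalarTower R (MvPolynomial (Fin n) R) P']
    [Algebra.FormallyEtale (MvPolynomial (Fin n) R) P'] (i : Fin n) :
    locBasis (R := R) P' i = D R P' (algebraMap (MvPolynomial (Fin n) R) P' (X i)) := by
  simp [locBasis, tensorKaehlerEquivOfFormallyEtale_apply, mvPolynomialBasis_apply]

theorem exists_mul_mem_of_algebraMap_mem_map {P P' : Type*} [CommRing P] [CommRing P']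
    [Algebra P P'] (M : Submonoid P) [IsLocalization M P'] (L : Ideal P) (x : P)
    (h : algebraMap P P' x ∈ L.map (algebraMap P P')) : ∃ t ∈ M, t * x ∈ L := by
  obtain ⟨⟨y, s⟩, hy⟩ := (IsLocalization.mem_map_algebraMap_iff M P').1 h
  simp only at hy
  rw [← map_mul] at hy
  obtain ⟨c, hc⟩ := (IsLocalization.eq_iff_exists M P').1 hy
  refine ⟨c * s, (c * s).2, ?_⟩
  have : ((c * s : M) : P) * x = c * (x * s) := by push_cast; ring
  change ((c * s : M) : P) * x ∈ L
  rw [this, hc]
  exact Ideal.mul_mem_left _ _ y.2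

theorem local_structure {R A : Type u} [CommRing R] [CommRing A] [Algebra R A] {n m : ℕ}
    (f : Fin m → MvPolynomial (Fin n) R) (φ : MvPolynomial (Fin n) R →ₐ[R] A)
    (hφ : Function.Surjective φ)
    (hker : RingHom.ker φ.toRingHom = Ideal.span (Set.range f)) (q : Ideal A) [q.IsPrime]
    [hsm : Algebra.IsSmoothAt R q] :
    ∃ (c : ℕ) (rows : Fin c ↪ Fin m) (cols : Fin c ↪ Fin n),
      φ (Smoothing.jacobianMinor f rows cols) ∉ q ∧
      ∀ ℓ, ∃ t : MvPolynomial (Fin n) R, φ t ∉ q ∧
        t * f ℓ ∈ Ideal.span (Set.range (f ∘ rows)) ⊔ Ideal.span (Set.range f) ^ 2 := by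
  classical
  have hψsurj := SurjLoc.locHom_surjective φ.toRingHom q hφ
  have hψker := SurjLoc.ker_locHom φ.toRingHom q hφ
  letI : Algebra (Localization.AtPrime (q.comap φ.toRingHom)) (Localization.AtPrime q) :=
    (SurjLoc.locHom φ.toRingHom q).toAlgebra
  have halg : ∀ x, algebraMap (Localization.AtPrime (q.comap φ.toRingHom))
      (Localization.AtPrime q) x = SurjLoc.locHom φ.toRingHom q x := fun _ => rfl
  haveI : IsScalarTower R (Localization.AtPrime (q.comap φ.toRingHom))
      (Localization.AtPrime q) := by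
    refine IsScalarTower.of_algebraMap_eq fun r => ?_
    rw [halg, IsScalarTower.algebraMap_apply R (MvPolynomial (Fin n) R)
      (Localization.AtPrime (q.comap φ.toRingHom)), SurjLoc.locHom_algebraMap,
      IsScalarTower.algebraMap_apply R A (Localization.AtPrime q)]
    congr 1
    exact (φ.commutes r).symm
  haveI : Algebra.FormallyEtale (MvPolynomial (Fin n) R)
      (Localization.AtPrime (q.comap φ.toRingHom)) :=
    Algebra.FormallyEtale.of_isLocalization (q.comap φ.toRingHom).primeCompl
  haveI : Algebra.FormallySmooth R (Localization.AtPrime (q.comap φ.toRingHom)) :=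
    Algebra.FormallySmooth.comp R (MvPolynomial (Fin n) R) _
  haveI : Algebra.FormallySmooth R (Localization.AtPrime q) := hsm
  -- the data for Lemma L
  have hg : Ideal.span (Set.range fun ℓ => algebraMap (MvPolynomial (Fin n) R)
      (Localization.AtPrime (q.comap φ.toRingHom)) (f ℓ)) =
      RingHom.ker (algebraMap (Localization.AtPrime (q.comap φ.toRingHom))
        (Localization.AtPrime q)) := by
    change _ = RingHom.ker (SurjLoc.locHom φ.toRingHom q)
    rw [hψker, hker, Ideal.map_span, ← Set.range_comp]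
    rfl
  obtain ⟨c, rows, cols, h1, h2⟩ := lemmaL' (R := R) hψsurj
    (locBasis (R := R) (Localization.AtPrime (q.comap φ.toRingHom)))
    (fun ℓ => algebraMap (MvPolynomial (Fin n) R)
      (Localization.AtPrime (q.comap φ.toRingHom)) (f ℓ)) hg
    (fun ℓ i => algebraMap (MvPolynomial (Fin n) R)
      (Localization.AtPrime (q.comap φ.toRingHom)) (pderiv i (f ℓ)))
    (fun ℓ => by simp only [locBasis_apply]; exact D_algebraMap_eq_sum _ (f ℓ))
  refine ⟨c, rows, cols, ?_, ?_⟩
  · intro hmem
    apply h1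
    have : Matrix.det (Matrix.of fun j k : Fin c => algebraMap (MvPolynomial (Fin n) R)
        (Localization.AtPrime (q.comap φ.toRingHom)) (pderiv (cols k) (f (rows j)))) =
        algebraMap _ _ (Smoothing.jacobianMinor f rows cols) := by
      rw [Smoothing.jacobianMinor, RingHom.map_det]
      congr 1
    rw [this, halg, SurjLoc.locHom_algebraMap, residue_eq_zero_iff]
    exact (IsLocalization.AtPrime.to_map_mem_maximal_iff _ q _).2 hmem
  · intro ℓ
    have h3 := h2 ℓ
    have hL : Ideal.span (Set.range ((fun ℓ => algebraMap (MvPolynomial (Fin n) R)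
          (Localization.AtPrime (q.comap φ.toRingHom)) (f ℓ)) ∘ rows)) ⊔
        Ideal.span (Set.range fun ℓ => algebraMap (MvPolynomial (Fin n) R)
          (Localization.AtPrime (q.comap φ.toRingHom)) (f ℓ)) ^ 2 =
        (Ideal.span (Set.range (f ∘ rows)) ⊔ Ideal.span (Set.range f) ^ 2).map
          (algebraMap _ (Localization.AtPrime (q.comap φ.toRingHom))) := by
      rw [Ideal.map_sup, Ideal.map_pow, Ideal.map_span, Ideal.map_span, ← Set.range_comp,
        ← Set.range_comp]
      rfl
    rw [hL] at h3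
    obtain ⟨t, ht, htL⟩ := exists_mul_mem_of_algebraMap_mem_map
      (q.comap φ.toRingHom).primeCompl _ (f ℓ) h3
    exact ⟨t, ht, htL⟩

/-- Let `A = R[x_1, …, x_n]/(f_1, …, f_m)` and `𝔮` a prime of `A` at which `R → A` is smooth. Then there
are `a ∈ A ∖ 𝔮`, an integer `c` and injections picking `c` relations and `c` variables such that `a`
is a multiple of the image of the corresponding Jacobian minor and `a f_ℓ` lies in the ideal
generated by the chosen relations plus the square of the relation ideal, for every `ℓ`. -/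
theorem result {R A : Type u} [CommRing R] [CommRing A] [Algebra R A] {n m : ℕ}
    (f : Fin m → MvPolynomial (Fin n) R) (φ : MvPolynomial (Fin n) R →ₐ[R] A) (hφ : Function.Surjective φ)
    (hker : RingHom.ker φ.toRingHom = Ideal.span (Set.range f)) (q : Ideal A) [q.IsPrime] [Algebra.IsSmoothAt R q] :
    ∃ a : A, a ∉ q ∧ ∃ (c : ℕ) (rows : Fin c ↪ Fin m) (cols : Fin c ↪ Fin n) (a' : A),
      a = a' * φ (Smoothing.jacobianMinor f rows cols) ∧
      ∀ a₁ : MvPolynomial (Fin n) R, φ a₁ = a → ∀ ℓ : Fin m,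
        a₁ * f ℓ ∈ Ideal.span (Set.range (f ∘ rows)) ⊔ Ideal.span (Set.range f) ^ 2 := by
  classical
  obtain ⟨c, rows, cols, hminor, ht⟩ := local_structure f φ hφ hker q
  choose t ht1 ht2 using ht
  refine ⟨φ (∏ ℓ, t ℓ) * φ (Smoothing.jacobianMinor f rows cols), ?_, c, rows, cols,
    φ (∏ ℓ, t ℓ), rfl, ?_⟩
  · intro h
    rcases (Ideal.IsPrime.mem_or_mem ‹q.IsPrime› h) with h | h
    · rw [map_prod] at h
      obtain ⟨ℓ, _, hℓ⟩ := (Ideal.IsPrime.prod_mem_iff).1 h
      exact ht1 ℓ hℓ
    · exact hminor h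
  · intro a₁ ha₁ ℓ
    have hI : a₁ - (∏ ℓ, t ℓ) * Smoothing.jacobianMinor f rows cols ∈
        Ideal.span (Set.range f) := by
      rw [← hker, RingHom.mem_ker]
      change φ _ = 0
      rw [map_sub, map_mul, ha₁, sub_self]
    have hfI : f ℓ ∈ Ideal.span (Set.range f) := Ideal.subset_span ⟨ℓ, rfl⟩
    have e : a₁ * f ℓ = (a₁ - (∏ ℓ, t ℓ) * Smoothing.jacobianMinor f rows cols) * f ℓ +
        ((∏ ℓ' ∈ Finset.univ.erase ℓ, t ℓ') * Smoothing.jacobianMinor f rows cols) *
          (t ℓ * f ℓ) := by
      rw [← Finset.mul_prod_erase Finset.univ t (Finset.mem_univ ℓ)]; ring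
    rw [e]
    refine add_mem (Ideal.mem_sup_right ?_) (Ideal.mul_mem_left _ _ (ht2 ℓ))
    rw [pow_two]; exact Ideal.mul_mem_mul hI hfI

end Groth.Agent.S2108
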