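import Groth.Statements.S2026
import Mathlib
import Groth.Agent.S2108
import Groth.Agent.Lib.Helper9.StandardSmoothQuot

set_option autoImplicit false
universe u
open Smoothing

namespace Groth.Agent.S2026

open MvPolynomial

/-- Elementary standard implies strictly standard. -/
theorem isStrictlyStandard_of_isElementaryStandard {R A : Type u} [CommRing R] [CommRing A]
    [Algebra R A] (a : A) (ha : IsElementaryStandard R A a) : IsStrictlyStandard R A a := by
  obtain ⟨P, ⟨a', rfl⟩, hkt⟩ := ha
  exact ⟨P, Ideal.mul_mem_left _ _ (Ideal.subset_span ⟨Fin.castLE P.hcn, rfl⟩), hkt⟩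

/-- At a prime not containing a strictly standard element the algebra is smooth. -/
theorem isSmoothAt_of_isStrictlyStandard {R A : Type u} [CommRing R] [CommRing A] [Algebra R A]
    [Algebra.FinitePresentation R A] (a : A) (ha : IsStrictlyStandard R A a)
    (q : Ideal A) [q.IsPrime] (haq : a ∉ q) : Algebra.IsSmoothAt R q := by
  classical
  obtain ⟨P, hspan, hkt⟩ := ha
  obtain ⟨cols, hcols⟩ : ∃ cols : Fin P.c → Fin P.n,
      P.hom (jacobianMinor P.rel (Fin.castLE P.hcm) cols) ∉ q := by
    by_contra h
    push Not at h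
    exact haq (Ideal.span_le.2 (by rintro _ ⟨cols, rfl⟩; exact h cols) hspan)
  have hinj : Function.Injective cols := by
    intro i j hij
    by_contra hne
    apply hcols
    have : jacobianMinor P.rel (Fin.castLE P.hcm) cols = 0 := by
      rw [jacobianMinor]
      refine Matrix.det_zero_of_column_eq hne fun k => ?_
      simp only [Matrix.of_apply, hij]
    rw [this, map_zero]; exact zero_mem _
  obtain ⟨a₀, ha₀⟩ := P.surj a
  set Δ := jacobianMinor P.rel (Fin.castLE P.hcm) cols with hΔ
  set lead : Fin P.c → MvPolynomial (Fin P.n) R := fun j => P.rel (Fin.castLE P.hcm j) with hlead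
  have hleadJ : Ideal.span (Set.range lead) ≤ Ideal.span (Set.range P.rel) := by
    apply Ideal.span_mono
    rintro _ ⟨j, rfl⟩
    exact ⟨_, rfl⟩
  have himg : P.rel '' {j' : Fin P.m | (j' : ℕ) < P.c} ⊆ Set.range lead := by
    rintro _ ⟨j, hj, rfl⟩
    refine ⟨⟨j, hj⟩, ?_⟩
    simp only [hlead]
    congr 1
  have hss : Algebra.IsStandardSmooth R (Localization.Away (P.hom (a₀ * Δ))) := by
    refine Groth.Agent.Lib.Helper9.isStandardSmooth_away_of_killsTail lead cols hinj P.hom P.surj
      (Ideal.span (Set.range P.rel)) P.ker_eq ⟨(Finset.univ.image P.rel), by simp⟩ hleadJ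
      (a₀ * Δ) (Dvd.intro_left _ rfl) ?_
    intro x hx
    refine Submodule.span_induction ?_ ?_ ?_ ?_ hx
    · rintro _ ⟨j, rfl⟩
      by_cases hj : (j : ℕ) < P.c
      · apply Ideal.mem_sup_left
        apply Ideal.mul_mem_left
        apply Ideal.subset_span
        exact himg ⟨j, hj, rfl⟩
      · have := hkt a₀ ha₀ j (not_lt.mp hj)
        have h2 : a₀ * Δ * P.rel j = Δ * (a₀ * P.rel j) := by ring
        rw [h2]
        exact Ideal.mul_mem_left _ _ ((sup_le_sup_right (Ideal.span_mono himg) _) this)
    · simp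
    · intro x y _ _ hx hy
      rw [mul_add]
      exact add_mem hx hy
    · intro r x _ hx
      rw [smul_eq_mul, mul_left_comm]
      exact Ideal.mul_mem_left _ _ hx
  have hsub := (Algebra.basicOpen_subset_smoothLocus_iff (R := R) (A := A)
    (f := P.hom (a₀ * Δ))).2 inferInstance
  have hmem : (⟨q, inferInstance⟩ : PrimeSpectrum A) ∈
      (PrimeSpectrum.basicOpen (P.hom (a₀ * Δ)) : Set (PrimeSpectrum A)) := by
    rw [SetLike.mem_coe, PrimeSpectrum.mem_basicOpen, map_mul, ha₀]
    intro h
    rcases (Ideal.IsPrime.mem_or_mem ‹q.IsPrime› h) with h | h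
    · exact haq h
    · exact hcols h
  exact hsub hmem

theorem exists_perm_castLE {c n : ℕ} (cols : Fin c ↪ Fin n) (hcn : c ≤ n) :
    ∃ τ : Equiv.Perm (Fin n), ∀ k, τ (Fin.castLE hcn k) = cols k := by
  classical
  let e₁ := (Fin.castLEEmb hcn).toEquivRange
  let e₂ := cols.toEquivRange
  refine ⟨(e₁.symm.trans e₂).extendSubtype, fun k => ?_⟩
  rw [Equiv.extendSubtype_apply_of_mem _ _ ⟨k, rfl⟩]
  have : e₁.symm ⟨Fin.castLE hcn k, ⟨k, rfl⟩⟩ = k :=
    (Fin.castLEEmb hcn).toEquivRange_symm_apply_self k
  simp only [Equiv.trans_apply, this]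
  rfl

/-- A prime in the smooth locus avoids some elementary standard element. -/
theorem exists_isElementaryStandard_notMem {R A : Type u} [CommRing R] [CommRing A] [Algebra R A]
    [Algebra.FinitePresentation R A] (q : Ideal A) [q.IsPrime] [Algebra.IsSmoothAt R q] :
    ∃ a : A, a ∉ q ∧ IsElementaryStandard R A a := by
  classical
  obtain ⟨n, φ, hφ, hfg⟩ := (inferInstance : Algebra.FinitePresentation R A).out
  obtain ⟨m, f, hf⟩ := Submodule.fg_iff_exists_fin_generating_family.1 hfg
  have hker : RingHom.ker φ.toRingHom = Ideal.span (Set.range f) := hf.symm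
  obtain ⟨a, haq, c, rows, cols, a', ha, hkt⟩ := Groth.Agent.S2108.result f φ hφ hker q
  have hcn : c ≤ n := by simpa using Fintype.card_le_of_embedding cols
  obtain ⟨τ, hτ⟩ := exists_perm_castLE cols hcn
  have hτ' : ∀ k, τ.symm (cols k) = Fin.castLE hcn k := fun k => by
    rw [← hτ k, Equiv.symm_apply_apply]
  let ρ : MvPolynomial (Fin n) R ≃ₐ[R] MvPolynomial (Fin n) R := renameEquiv R τ
  let rel : Fin (c + m) → MvPolynomial (Fin n) R :=
    fun j => ρ.symm (Fin.append (f ∘ rows) f j)
  have hrelL : ∀ i : Fin c, rel (Fin.castLE (Nat.le_add_right c m) i) = ρ.symm (f (rows i)) := by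
    intro i
    change ρ.symm (Fin.append (f ∘ rows) f (Fin.castAdd m i)) = _
    rw [Fin.append_left]; rfl
  have hrelR : ∀ i : Fin m, rel (Fin.natAdd c i) = ρ.symm (f i) := by
    intro i
    change ρ.symm (Fin.append (f ∘ rows) f (Fin.natAdd c i)) = _
    rw [Fin.append_right]
  have hrel_mem : ∀ j, ∃ i, rel j = ρ.symm (f i) := by
    intro j
    refine Fin.addCases (fun i => ⟨rows i, ?_⟩) (fun i => ⟨i, hrelR i⟩) j
    exact hrelL i
  have hmapI : (Ideal.span (Set.range f)).map (ρ.symm : MvPolynomial (Fin n) R →+* MvPolynomial (Fin n) R) =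
      Ideal.span (Set.range rel) := by
    rw [Ideal.map_span]
    apply le_antisymm
    · rw [Ideal.span_le]
      rintro _ ⟨_, ⟨i, rfl⟩, rfl⟩
      exact Ideal.subset_span ⟨Fin.natAdd c i, hrelR i⟩
    · rw [Ideal.span_le]
      rintro _ ⟨j, rfl⟩
      obtain ⟨i, hi⟩ := hrel_mem j
      rw [hi]
      exact Ideal.subset_span ⟨f i, ⟨i, rfl⟩, rfl⟩
  have hkerP : RingHom.ker (φ.comp ρ.toAlgHom).toRingHom = Ideal.span (Set.range rel) := by
    rw [← hmapI]
    ext x
    rw [RingHom.mem_ker]
    change φ (ρ x) = 0 ↔ _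
    rw [← RingHom.mem_ker]
    change ρ x ∈ RingHom.ker φ.toRingHom ↔ _
    rw [hker]
    constructor
    · intro h
      have := Ideal.mem_map_of_mem (ρ.symm : MvPolynomial (Fin n) R →+* MvPolynomial (Fin n) R) h
      simpa using this
    · intro h
      have := Ideal.mem_map_of_mem (ρ : MvPolynomial (Fin n) R →+* MvPolynomial (Fin n) R) h
      rw [Ideal.map_map] at this
      have h2 : ((ρ : MvPolynomial (Fin n) R →+* MvPolynomial (Fin n) R).comp
          (ρ.symm : MvPolynomial (Fin n) R →+* MvPolynomial (Fin n) R)) = RingHom.id _ := by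
        ext x <;> simp
      rw [h2, Ideal.map_id] at this
      exact this
  let P : MarkedPresentation R A :=
    { n := n, m := c + m, c := c, hcn := hcn, hcm := Nat.le_add_right c m, rel := rel,
      hom := φ.comp ρ.toAlgHom, surj := hφ.comp ρ.surjective, ker_eq := hkerP }
  refine ⟨a, haq, P, ⟨a', ?_⟩, ?_⟩
  · have h1 : jacobianMinor rel (Fin.castLE (Nat.le_add_right c m)) (Fin.castLE hcn) =
        ρ.symm (jacobianMinor f rows cols) := by
      rw [jacobianMinor, jacobianMinor, AlgEquiv.map_det]
      congr 1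
      refine Matrix.ext fun j k => ?_
      simp only [Matrix.of_apply, AlgEquiv.mapMatrix_apply, Matrix.map_apply]
      rw [hrelL, ← hτ' k]
      exact pderiv_rename τ.symm.injective (cols k) (f (rows j))
    change a = a' * φ (ρ (jacobianMinor rel (Fin.castLE (Nat.le_add_right c m)) (Fin.castLE hcn)))
    rw [h1, AlgEquiv.apply_symm_apply, ha]
  · intro a'' ha'' j hj
    change φ (ρ a'') = a at ha''
    change a'' * rel j ∈ Ideal.span (rel '' {j' : Fin (c + m) | (j' : ℕ) < c}) ⊔
      Ideal.span (Set.range rel) ^ 2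
    have hj' : c ≤ (j : ℕ) := hj
    have hjlt : (j : ℕ) < c + m := j.2
    obtain ⟨i, rfl⟩ : ∃ i : Fin m, Fin.natAdd c i = j :=
      ⟨⟨j - c, by omega⟩, by ext; simp; omega⟩
    have h1 := hkt (ρ a'') ha'' i
    have h2 := Ideal.mem_map_of_mem
      (ρ.symm : MvPolynomial (Fin n) R →+* MvPolynomial (Fin n) R) h1
    rw [map_mul] at h2
    have h3 : (ρ.symm : MvPolynomial (Fin n) R →+* MvPolynomial (Fin n) R) (ρ a'') = a'' :=
      ρ.symm_apply_apply a''
    have h4 : (ρ.symm : MvPolynomial (Fin n) R →+* MvPolynomial (Fin n) R) (f i) =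
        rel (Fin.natAdd c i) := (hrelR i).symm
    rw [h3, h4, Ideal.map_sup, Ideal.map_pow, hmapI, Ideal.map_span] at h2
    have hle : Ideal.span ((ρ.symm : MvPolynomial (Fin n) R →+* MvPolynomial (Fin n) R) ''
          Set.range (f ∘ rows)) ⊔ Ideal.span (Set.range rel) ^ 2 ≤
        Ideal.span (rel '' {j' : Fin (c + m) | (j' : ℕ) < c}) ⊔
          Ideal.span (Set.range rel) ^ 2 := by
      refine sup_le_sup_right (Ideal.span_mono ?_) _
      rintro _ ⟨_, ⟨i', rfl⟩, rfl⟩
      exact ⟨Fin.castLE (Nat.le_add_right c m) i', by simp, hrelL i'⟩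
    exact hle h2

/-- For a finitely presented `R`-algebra `A`, the singular ideal (functions vanishing on the non-smooth
locus) coincides with the radical of the ideal spanned by all strictly standard elements, and
equally with the radical of the ideal spanned by all elementary standard elements. -/
theorem result {R A : Type u} [CommRing R] [CommRing A]
    [Algebra R A] [Algebra.FinitePresentation R A] :
    Smoothing.singularIdeal R A = (Ideal.span {a : A | Smoothing.IsStrictlyStandard R A a}).radical ∧
      Smoothing.singularIdeal R A =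
        (Ideal.span {a : A | Smoothing.IsElementaryStandard R A a}).radical := by
  have h1 : (Ideal.span {a : A | IsElementaryStandard R A a}).radical ≤
      (Ideal.span {a : A | IsStrictlyStandard R A a}).radical :=
    Ideal.radical_mono (Ideal.span_mono fun a ha => isStrictlyStandard_of_isElementaryStandard a ha)
  have h2 : (Ideal.span {a : A | IsStrictlyStandard R A a}).radical ≤ singularIdeal R A := by
    have hrad : (singularIdeal R A).IsRadical := PrimeSpectrum.isRadical_vanishingIdeal _
    rw [hrad.radical_le_iff, Ideal.span_le]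
    intro a ha
    rw [SetLike.mem_coe, singularIdeal, PrimeSpectrum.mem_vanishingIdeal]
    intro x hx
    by_contra hax
    exact hx (isSmoothAt_of_isStrictlyStandard a ha x.asIdeal hax)
  have h3 : singularIdeal R A ≤ (Ideal.span {a : A | IsElementaryStandard R A a}).radical := by
    rw [← PrimeSpectrum.vanishingIdeal_zeroLocus_eq_radical, singularIdeal]
    apply PrimeSpectrum.vanishingIdeal_anti_mono
    intro x hx hsm
    haveI : Algebra.IsSmoothAt R x.asIdeal := hsm
    obtain ⟨a, hax, hae⟩ := exists_isElementaryStandard_notMem (R := R) x.asIdeal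
    exact hax (hx (Ideal.subset_span hae))
  exact ⟨le_antisymm (h3.trans h1) h2, le_antisymm h3 (h1.trans h2)⟩

end Groth.Agent.S2026
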