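import Groth.Statements.S2027
import Groth.Agent.H34.PopDesing
import Groth.Agent.S2026

set_option autoImplicit false
universe u
open Smoothing

namespace Groth.Agent.S2027

open MvPolynomial in
/-- Let `R` be Noetherian, `Λ` an `R`-algebra, `π ∈ R` with the annihilators of `π` and `π²` in `Λ`
equal, and `A → Λ` an `R`-algebra map with `A` finitely presented. Suppose `π` is strictly standard
in `A` over `R` and there is an `R`-algebra map `A → R/π⁴R` compatible with the maps to `Λ/π⁴Λ`.
Then `A → Λ` factors through a finitely presented `R`-algebra `B` such that every `r ∈ R` which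
multiplies the annihilator of `π²` into the annihilator of `π` maps into the singular ideal of `B`
over `R`. -/
theorem result {R Λ A : Type u} [CommRing R] [IsNoetherianRing R] [CommRing Λ]
    [Algebra R Λ] (π : R) (hΛ : ∀ x : Λ, π ^ 2 • x = 0 → π • x = 0) [CommRing A] [Algebra R A]
    [Algebra.FinitePresentation R A] (φ : A →ₐ[R] Λ)
    (hπ : Smoothing.IsStrictlyStandard R A (algebraMap R A π))
    (ρ : A →ₐ[R] R ⧸ Ideal.span {π ^ 4})
    (hρ : ∀ (a : A) (r : R), Ideal.Quotient.mk (Ideal.span {π ^ 4}) r = ρ a →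
      algebraMap R Λ r - φ a ∈ Ideal.span {algebraMap R Λ (π ^ 4)}) :
    ∃ (B : Type u) (_ : CommRing B) (_ : Algebra R B), Algebra.FinitePresentation R B ∧
      ∃ (α : A →ₐ[R] B) (β : B →ₐ[R] Λ), β.comp α = φ ∧
        ∀ r : R, (∀ x : R, π ^ 2 * x = 0 → π * (r * x) = 0) →
          algebraMap R B r ∈ Smoothing.singularIdeal R B := by
  classical
  have hsm : ∀ (q : Ideal A) [q.IsPrime], algebraMap R A π ∉ q → Algebra.IsSmoothAt R q :=
    fun q _ hq => Groth.Agent.S2026.isSmoothAt_of_isStrictlyStandard _ hπ q hq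
  obtain ⟨P, hmin, hkt⟩ := hπ
  have htail : ∀ j : Fin P.m, P.c ≤ (j : ℕ) → MvPolynomial.C π * P.rel j ∈
      Ideal.span (P.rel '' {j' : Fin P.m | (j' : ℕ) < P.c}) ⊔
        Ideal.span (Set.range P.rel) ^ 2 := by
    intro j hj
    refine hkt (MvPolynomial.C π) ?_ j hj
    rw [← MvPolynomial.algebraMap_eq, AlgHom.commutes]
  -- the point `r`
  have hr : ∀ i, ∃ ri : R, Ideal.Quotient.mk (Ideal.span {π ^ 4}) ri = ρ (P.hom (X i)) :=
    fun i => Ideal.Quotient.mk_surjective _
  choose r hr using hr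
  have hρeval : ∀ p, ρ (P.hom p) = Ideal.Quotient.mk (Ideal.span {π ^ 4}) (eval r p) := by
    intro p
    induction p using MvPolynomial.induction_on with
    | C a =>
      rw [← MvPolynomial.algebraMap_eq, AlgHom.commutes, AlgHom.commutes,
        MvPolynomial.algebraMap_eq, eval_C]
      rfl
    | add p q hp hq => rw [map_add, map_add, hp, hq, map_add, map_add]
    | mul_X p i hp => rw [map_mul, map_mul, hp, ← hr, map_mul, eval_X, map_mul]
  -- the `λ'`
  have hl : ∀ i, ∃ li : Λ, φ (P.hom (X i)) =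
      algebraMap R Λ (r i) + algebraMap R Λ (π ^ 4) * li := by
    intro i
    obtain ⟨z, hz⟩ := Ideal.mem_span_singleton'.1 (hρ (P.hom (X i)) (r i) (hr i))
    refine ⟨-z, ?_⟩
    have : φ (P.hom (X i)) = algebraMap R Λ (r i) - z * algebraMap R Λ (π ^ 4) := by
      rw [hz]; ring
    rw [this]; ring
  choose l' hl' using hl
  -- the `t`
  have hker0 : ∀ x ∈ Ideal.span (Set.range P.rel), P.hom x = 0 := by
    intro x hx
    have : x ∈ RingHom.ker P.hom.toRingHom := by rw [P.ker_eq]; exact hx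
    exact this
  have ht : ∀ j, ∃ tj : R, eval r (P.rel j) = π ^ 4 * tj := by
    intro j
    have h1 : Ideal.Quotient.mk (Ideal.span {π ^ 4}) (eval r (P.rel j)) = 0 := by
      rw [← hρeval, hker0 _ (Ideal.subset_span ⟨j, rfl⟩), map_zero]
    rw [Ideal.Quotient.eq_zero_iff_mem, Ideal.mem_span_singleton'] at h1
    obtain ⟨z, hz⟩ := h1
    exact ⟨z, by rw [← hz]; ring⟩
  choose t ht using ht
  -- the matrix `s`
  obtain ⟨acoef, hacoef⟩ := (Ideal.mem_span_range_iff_exists_fun).1 hmin
  have hat : ∀ cols, ∃ a : R, Ideal.Quotient.mk (Ideal.span {π ^ 4}) a = ρ (acoef cols) :=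
    fun cols => Ideal.Quotient.mk_surjective _
  choose at' hat' using hat
  obtain ⟨Mat, hMat⟩ : ∃ Mat : Matrix (Fin P.c) (Fin P.n) R, Mat =
      Matrix.of fun (j : Fin P.c) (i : Fin P.n) =>
        eval r (pderiv i (P.rel (Fin.castLE P.hcm j))) := ⟨_, rfl⟩
  have hminor : ∀ cols : Fin P.c → Fin P.n,
      eval r (jacobianMinor P.rel (Fin.castLE P.hcm) cols) = (Mat.submatrix id cols).det := by
    intro cols
    rw [jacobianMinor, RingHom.map_det, hMat]
    rfl
  have hd : ∃ t₀ : R, ∑ cols : Fin P.c → Fin P.n, at' cols * (Mat.submatrix id cols).det =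
      π * (1 - π ^ 3 * t₀) := by
    have h1 := congrArg ρ hacoef
    rw [map_sum, AlgHom.commutes] at h1
    have h2 : Ideal.Quotient.mk (Ideal.span {π ^ 4})
        (π - ∑ cols : Fin P.c → Fin P.n, at' cols * (Mat.submatrix id cols).det) = 0 := by
      rw [map_sub, map_sum]
      have : algebraMap R (R ⧸ Ideal.span {π ^ 4}) π = Ideal.Quotient.mk _ π := rfl
      rw [← this, ← h1, sub_eq_zero]
      refine Finset.sum_congr rfl fun cols _ => ?_
      rw [map_mul, hρeval, hminor, ← hat', map_mul]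
    rw [Ideal.Quotient.eq_zero_iff_mem, Ideal.mem_span_singleton'] at h2
    obtain ⟨t₀, ht₀⟩ := h2
    refine ⟨t₀, ?_⟩
    have : ∑ cols : Fin P.c → Fin P.n, at' cols * (Mat.submatrix id cols).det =
        π - t₀ * π ^ 4 := by rw [ht₀]; ring
    rw [this]; ring
  obtain ⟨t₀, ht₀⟩ := hd
  obtain ⟨s, hs⟩ := Groth.Agent.H34.PopDesA.exists_mul_eq_smul_one Mat at' _ ht₀
  rw [hMat] at hs
  exact Groth.Agent.H34.PopDesing.desing_core π hΛ φ P.hcm P.rel P.hom P.surj P.ker_eq htail hsm
    r l' hl' t ht s t₀ hs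

end Groth.Agent.S2027
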