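import Groth.Statements.S6829
import Mathlib

set_option autoImplicit false
universe u
open Smoothing

namespace Groth.Agent.S6829

open TensorProduct MvPolynomial

/-- The base change of a marked presentation. -/
noncomputable def bcPres {R A : Type u} [CommRing R] [CommRing A] [Algebra R A]
    (R' : Type u) [CommRing R'] [Algebra R R'] (P : MarkedPresentation R A) :
    Algebra.Presentation R' (R' ⊗[R] A) (Fin P.n) (Fin P.m) :=
  let G : Algebra.Generators R A (Fin P.n) :=
    Algebra.Generators.ofSurjective (fun i => P.hom (X i)) (by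
      have : (aeval (R := R) fun i => P.hom (X i)) = P.hom := by
        ext i; simp
      rw [this]; exact P.surj)
  let Q : Algebra.Presentation R A (Fin P.n) (Fin P.m) :=
    { toGenerators := G
      relation := P.rel
      span_range_relation_eq_ker := by
        rw [Algebra.Generators.ker_eq_ker_aeval_val]
        have : (aeval (R := R) G.val) = P.hom := by
          ext i; simp [G]
        rw [this, ← P.ker_eq]
        rfl }
  Q.baseChange R'

theorem bcPres_val {R A : Type u} [CommRing R] [CommRing A] [Algebra R A]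
    (R' : Type u) [CommRing R'] [Algebra R R'] (P : MarkedPresentation R A) (i : Fin P.n) :
    (bcPres R' P).val i = (1 : R') ⊗ₜ[R] P.hom (X i) := rfl

theorem bcPres_relation {R A : Type u} [CommRing R] [CommRing A] [Algebra R A]
    (R' : Type u) [CommRing R'] [Algebra R R'] (P : MarkedPresentation R A) (j : Fin P.m) :
    (bcPres R' P).relation j = MvPolynomial.map (algebraMap R R') (P.rel j) := rfl

/-- The base-changed marked presentation. -/
noncomputable abbrev bcMarked {R A : Type u} [CommRing R] [CommRing A] [Algebra R A]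
    (R' : Type u) [CommRing R'] [Algebra R R'] (P : MarkedPresentation R A) :
    MarkedPresentation R' (R' ⊗[R] A) where
  n := P.n
  m := P.m
  c := P.c
  hcn := P.hcn
  hcm := P.hcm
  rel := fun j => MvPolynomial.map (algebraMap R R') (P.rel j)
  hom := aeval (bcPres R' P).val
  surj := (bcPres R' P).aeval_val_surjective
  ker_eq := by
    have h1 := (bcPres R' P).span_range_relation_eq_ker
    rw [Algebra.Generators.ker_eq_ker_aeval_val] at h1
    have h2 : RingHom.ker (aeval (R := R') (bcPres R' P).val).toRingHom =
        RingHom.ker (aeval (R := R') (bcPres R' P).val) := rfl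
    rw [h2, ← h1]
    rfl

theorem bcMarked_hom_map {R A : Type u} [CommRing R] [CommRing A] [Algebra R A]
    (R' : Type u) [CommRing R'] [Algebra R R'] (P : MarkedPresentation R A)
    (q : MvPolynomial (Fin P.n) R) :
    (bcMarked R' P).hom (MvPolynomial.map (algebraMap R R') q) = (1 : R') ⊗ₜ[R] P.hom q := by
  change aeval (bcPres R' P).val (MvPolynomial.map (algebraMap R R') q) = _
  induction q using MvPolynomial.induction_on with
  | C a =>
    simp only [map_C, aeval_C]
    have h1 : P.hom (C a) = algebraMap R A a := by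
      rw [← MvPolynomial.algebraMap_eq, AlgHom.commutes]
    rw [h1, Algebra.TensorProduct.algebraMap_apply, Algebra.algebraMap_self, RingHom.id_apply,
      Algebra.algebraMap_eq_smul_one, Algebra.algebraMap_eq_smul_one (A := A),
      TensorProduct.smul_tmul]
  | add p q hp hq => simp only [map_add, hp, hq, TensorProduct.tmul_add]
  | mul_X p i hp =>
    simp only [map_mul, map_X, aeval_X, hp, bcPres_val]
    rw [Algebra.TensorProduct.tmul_mul_tmul, mul_one]

theorem jacobianMinor_map {R : Type u} [CommRing R] (R' : Type u) [CommRing R'] [Algebra R R']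
    {n m c : ℕ} (f : Fin m → MvPolynomial (Fin n) R) (rows : Fin c → Fin m)
    (cols : Fin c → Fin n) :
    jacobianMinor (fun j => MvPolynomial.map (algebraMap R R') (f j)) rows cols =
      MvPolynomial.map (algebraMap R R') (jacobianMinor f rows cols) := by
  unfold jacobianMinor
  rw [RingHom.map_det]
  congr 1
  ext j k
  simp [pderiv_map]

theorem killsTail_bc {R A : Type u} [CommRing R] [CommRing A] [Algebra R A]
    (R' : Type u) [CommRing R'] [Algebra R R'] (P : MarkedPresentation R A) (a : A)
    (h : KillsTail P a) : KillsTail (bcMarked R' P) ((1 : R') ⊗ₜ[R] a) := by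
  intro b' hb' j hj
  obtain ⟨a₀, ha₀⟩ := P.surj a
  have h0 := h a₀ ha₀ j hj
  set φ := MvPolynomial.map (σ := Fin P.n) (algebraMap R R') with hφ
  -- the image of the relation ideal
  have hrange : Set.range (bcMarked R' P).rel = φ '' Set.range P.rel := by
    ext x; constructor
    · rintro ⟨i, rfl⟩; exact ⟨P.rel i, ⟨i, rfl⟩, rfl⟩
    · rintro ⟨_, ⟨i, rfl⟩, rfl⟩; exact ⟨i, rfl⟩
  have himage : (bcMarked R' P).rel '' {j' : Fin (bcMarked R' P).m | (j' : ℕ) < (bcMarked R' P).c} =
      φ '' (P.rel '' {j' : Fin P.m | (j' : ℕ) < P.c}) := by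
    ext x; constructor
    · rintro ⟨i, hi, rfl⟩; exact ⟨P.rel i, ⟨i, hi, rfl⟩, rfl⟩
    · rintro ⟨_, ⟨i, hi, rfl⟩, rfl⟩; exact ⟨i, hi, rfl⟩
  have hmap : φ (a₀ * P.rel j) ∈
      Ideal.span ((bcMarked R' P).rel '' {j' : Fin (bcMarked R' P).m |
        (j' : ℕ) < (bcMarked R' P).c}) ⊔ Ideal.span (Set.range (bcMarked R' P).rel) ^ 2 := by
    have := Ideal.mem_map_of_mem φ h0
    rw [Ideal.map_sup, Ideal.map_pow, Ideal.map_span, Ideal.map_span] at this
    rw [hrange, himage]
    exact this
  have hdiff : b' - φ a₀ ∈ Ideal.span (Set.range (bcMarked R' P).rel) := by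
    rw [← (bcMarked R' P).ker_eq]
    change (bcMarked R' P).hom (b' - φ a₀) = 0
    rw [map_sub, hb', bcMarked_hom_map, ha₀, sub_self]
  have hrel : (bcMarked R' P).rel j ∈ Ideal.span (Set.range (bcMarked R' P).rel) :=
    Ideal.subset_span ⟨j, rfl⟩
  have e : b' * (bcMarked R' P).rel j =
      φ (a₀ * P.rel j) + (b' - φ a₀) * (bcMarked R' P).rel j := by
    rw [map_mul]
    change _ = φ a₀ * (bcMarked R' P).rel j + _
    ring
  rw [e]
  refine Ideal.add_mem _ hmap (Ideal.mem_sup_right ?_)
  rw [pow_two]
  exact Ideal.mul_mem_mul hdiff hrel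


open TensorProduct in
/-- Let A be a finitely presented R-algebra, R → R' a ring map and a ∈ A. If a is elementary standard,
resp. strictly standard, in A over R, then a ⊗ 1 is elementary standard, resp. strictly standard, in
A ⊗_R R' over R' (written here as 1 ⊗ a in R' ⊗_R A). -/
theorem result {R A R' : Type u} [CommRing R] [CommRing A] [Algebra R A]
    [Algebra.FinitePresentation R A] [CommRing R'] [Algebra R R'] (a : A) :
    (Smoothing.IsElementaryStandard R A a →
        Smoothing.IsElementaryStandard R' (R' ⊗[R] A) ((1 : R') ⊗ₜ[R] a)) ∧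
      (Smoothing.IsStrictlyStandard R A a →
        Smoothing.IsStrictlyStandard R' (R' ⊗[R] A) ((1 : R') ⊗ₜ[R] a)) := by
  constructor
  · rintro ⟨P, ⟨a', ha'⟩, hk⟩
    refine ⟨bcMarked R' P, ⟨(1 : R') ⊗ₜ[R] a', ?_⟩, killsTail_bc R' P a hk⟩
    have : jacobianMinor (bcMarked R' P).rel (Fin.castLE (bcMarked R' P).hcm)
        (Fin.castLE (bcMarked R' P).hcn) =
        MvPolynomial.map (algebraMap R R') (jacobianMinor P.rel (Fin.castLE P.hcm)
          (Fin.castLE P.hcn)) := jacobianMinor_map R' P.rel _ _
    rw [this, bcMarked_hom_map, ha', Algebra.TensorProduct.tmul_mul_tmul, mul_one]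
  · rintro ⟨P, hmem, hk⟩
    refine ⟨bcMarked R' P, ?_, killsTail_bc R' P a hk⟩
    have h1 := Ideal.mem_map_of_mem
      (Algebra.TensorProduct.includeRight (R := R) (A := R') (B := A)).toRingHom hmem
    rw [Ideal.map_span] at h1
    have hset : (Set.range fun cols : Fin (bcMarked R' P).c → Fin (bcMarked R' P).n =>
        (bcMarked R' P).hom (jacobianMinor (bcMarked R' P).rel
          (Fin.castLE (bcMarked R' P).hcm) cols)) =
        (Algebra.TensorProduct.includeRight (R := R) (A := R') (B := A)).toRingHom ''
          (Set.range fun cols : Fin P.c → Fin P.n =>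
            P.hom (jacobianMinor P.rel (Fin.castLE P.hcm) cols)) := by
      ext x
      constructor
      · rintro ⟨cols, rfl⟩
        refine ⟨_, ⟨cols, rfl⟩, ?_⟩
        have : jacobianMinor (bcMarked R' P).rel (Fin.castLE (bcMarked R' P).hcm) cols =
            MvPolynomial.map (algebraMap R R') (jacobianMinor P.rel (Fin.castLE P.hcm) cols) :=
          jacobianMinor_map R' P.rel _ _
        simp only
        rw [this, bcMarked_hom_map]
        rfl
      · rintro ⟨_, ⟨cols, rfl⟩, rfl⟩
        refine ⟨cols, ?_⟩
        have : jacobianMinor (bcMarked R' P).rel (Fin.castLE (bcMarked R' P).hcm) cols =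
            MvPolynomial.map (algebraMap R R') (jacobianMinor P.rel (Fin.castLE P.hcm) cols) :=
          jacobianMinor_map R' P.rel _ _
        simp only
        rw [this, bcMarked_hom_map]
        rfl
    rw [hset]
    exact h1

end Groth.Agent.S6829
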