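import Groth.Statements.S2025
import Mathlib
import Groth.Agent.Lib.Helper86.SmoothRetractGen
import Groth.Agent.Lib.Helper86.SmoothRetract

set_option autoImplicit false
universe u
open Smoothing

namespace Groth.Agent.S2025

open KaehlerDifferential Groth.Agent.Lib.Helper86.SmoothRetractGen
  Groth.Agent.Lib.Helper86.SmoothRetract

theorem result {R A : Type u} [CommRing R] [CommRing A]
    [Algebra R A] [Algebra.Smooth R A] :
    ∃ (B : Type u) (_ : CommRing B) (_ : Algebra R B) (_ : Algebra A B) (_ : IsScalarTower R A B),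
      Algebra.Smooth A B ∧ Nonempty (B →ₐ[A] A) ∧ Algebra.IsStandardSmooth R B := by
  classical
  -- generators
  obtain ⟨t, ht⟩ := (Algebra.FiniteType.out : (⊤ : Subalgebra R A).FG)
  let n := t.card
  let x : Fin n → A := fun i => (t.equivFin.symm i : A)
  have hx : Algebra.adjoin R (Set.range x) = ⊤ := by
    rw [← ht]
    congr 1
    ext a
    constructor
    · rintro ⟨i, rfl⟩
      exact (t.equivFin.symm i).2
    · intro ha
      exact ⟨t.equivFin ⟨a, ha⟩, by simp [x]⟩
  have hq := q_surjective (R := R) x hx
  obtain ⟨s, hs⟩ := Module.projective_lifting_property (q (R := R) x) LinearMap.id hq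
  have hs' : ∀ ω, q (R := R) x (s ω) = ω := fun ω => congr($hs ω)
  let P := ↥(LinearMap.ker (q (R := R) x))
  let j : P →ₗ[A] (Fin n → A) := (LinearMap.ker (q (R := R) x)).subtype
  let π : (Fin n → A) →ₗ[A] P :=
    (LinearMap.id - s ∘ₗ q (R := R) x).codRestrict (LinearMap.ker (q (R := R) x)) (fun v => by
      simp [hs'])
  have hπj : π ∘ₗ j = LinearMap.id := by
    refine LinearMap.ext fun p => Subtype.ext ?_
    have : q (R := R) x p.1 = 0 := p.2
    change (p : Fin n → A) - s (q (R := R) x p.1) = p
    rw [this, map_zero, sub_zero]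
  have hqj : q (R := R) x ∘ₗ j = 0 := by
    refine LinearMap.ext fun p => ?_
    exact p.2
  have hsplit : s ∘ₗ q (R := R) x + j ∘ₗ π = LinearMap.id := by
    refine LinearMap.ext fun v => ?_
    change s (q (R := R) x v) + (v - s (q (R := R) x v)) = v
    abel
  have hsmA : Algebra.Smooth A (SymmetricAlgebra A P) := smooth_symmetricAlgebra j π hπj
  have hsmR : Algebra.Smooth R (SymmetricAlgebra A P) := Algebra.Smooth.comp R A _
  obtain ⟨g, hρg, hK, hC⟩ := exists_g (R := R) x j π s hq hπj hqj hsplit
  have hsmB₀B : Algebra.Smooth (SymmetricAlgebra A P) (Localization.Away g) :=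
    Algebra.Smooth.of_isLocalization_Away g
  have hsmAB : Algebra.Smooth A (Localization.Away g) :=
    Algebra.Smooth.comp A (SymmetricAlgebra A P) (Localization.Away g)
  have hsmRB : Algebra.Smooth R (Localization.Away g) :=
    Algebra.Smooth.comp R (SymmetricAlgebra A P) (Localization.Away g)
  refine ⟨Localization.Away g, inferInstance, inferInstance, inferInstance, inferInstance, hsmAB,
    ⟨?_⟩, ?_⟩
  · refine IsLocalization.liftAlgHom (M := Submonoid.powers g) (f := ρ) ?_
    rintro ⟨_, k, rfl⟩
    simp [hρg]
  · let l₁ : (Fin n →₀ SymmetricAlgebra A P) →ₗ[SymmetricAlgebra A P]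
        (Fin n →₀ Localization.Away g) :=
      Finsupp.mapRange.linearMap (Algebra.linearMap (SymmetricAlgebra A P) (Localization.Away g))
    let l₂ : Ω[SymmetricAlgebra A P⁄R] →ₗ[SymmetricAlgebra A P] Ω[Localization.Away g⁄R] :=
      KaehlerDifferential.map R R (SymmetricAlgebra A P) (Localization.Away g)
    let e' : (Fin n →₀ SymmetricAlgebra A P) →ₗ[SymmetricAlgebra A P] Ω[SymmetricAlgebra A P⁄R] :=
      Finsupp.linearCombination (SymmetricAlgebra A P) fun i => D R _ (bgen x π i)
    have he' : ∀ m, e' m = emap (R := R) x π (m : Fin n → SymmetricAlgebra A P) := by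
      intro m
      simp [e', emap, Finsupp.linearCombination_apply, Finsupp.sum_fintype,
        Fintype.linearCombination_apply]
    have h : Function.Bijective (IsLocalizedModule.map (Submonoid.powers g) l₁ l₂ e') := by
      refine isLocalizedModule_map_bijective_of_smul g l₁ l₂ e' ?_ ?_
      · intro m hm
        rw [he'] at hm
        have := hK _ hm
        ext i
        have := congrFun this i
        simpa using this
      · intro ω
        obtain ⟨m, hm⟩ := hC ω
        refine ⟨Finsupp.equivFunOnFinite.symm m, ?_⟩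
        rw [he', ← hm]
        simp
    let eₜ' : (Fin n →₀ Localization.Away g) →ₗ[Localization.Away g] Ω[Localization.Away g⁄R] :=
      IsLocalizedModule.mapExtendScalars (Submonoid.powers g) l₁ l₂ (Localization.Away g) e'
    refine .of_basis_kaehlerDifferential (.ofRepr (LinearEquiv.ofBijective eₜ' h).symm) ?_
    rintro - ⟨i, rfl⟩
    refine ⟨algebraMap (SymmetricAlgebra A P) _ (bgen x π i), ?_⟩
    have h1 : (Finsupp.single i 1 : Fin n →₀ Localization.Away g) = l₁ (Finsupp.single i 1) := by
      simp [l₁]
    have h2 : e' (Finsupp.single i 1) = D R _ (bgen x π i) := by simp [e']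
    change _ = eₜ' (Finsupp.single i 1)
    rw [h1]
    change _ = IsLocalizedModule.map (Submonoid.powers g) l₁ l₂ e' (l₁ (Finsupp.single i 1))
    rw [IsLocalizedModule.map_apply, h2]
    simp [l₂]

end Groth.Agent.S2025
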