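import Groth.Statements.S2023
import Mathlib
import Groth.Agent.S2025
import Groth.Agent.Lib.Helper9.StdSmoothLift
import Groth.Agent.Lib.Helper9.LiftOnce

set_option autoImplicit false
universe u
open Smoothing

namespace Groth.Agent.S2023

/-- Let `I` be an ideal of square zero in `R` and `Λ` an `R`-algebra with `Λ/IΛ` ind-smooth over `R/I`.
Any `R`-algebra map `A → Λ` with `A` finitely presented factors through a quotient `B/J`, where `B`
is a smooth `R`-algebra and `J` is a finitely generated ideal contained in `IB`. -/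
theorem result {R Λ A : Type u} [CommRing R] [CommRing Λ] [Algebra R Λ] (I : Ideal R)
    (hI : I ^ 2 = ⊥) (h : Smoothing.IndSmooth (R ⧸ I) (Λ ⧸ I.map (algebraMap R Λ)))
    [CommRing A] [Algebra R A] [Algebra.FinitePresentation R A] (φ : A →ₐ[R] Λ) :
    ∃ (B : Type u) (_ : CommRing B) (_ : Algebra R B), Algebra.Smooth R B ∧
      ∃ J : Ideal B, J ≤ I.map (algebraMap R B) ∧ J.FG ∧
        ∃ (g : A →ₐ[R] B ⧸ J) (k : (B ⧸ J) →ₐ[R] Λ), k.comp g = φ := by
  classical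
  open TensorProduct in
  let fb : (R ⧸ I) ⊗[R] A →ₐ[R ⧸ I] (Λ ⧸ I.map (algebraMap R Λ)) :=
    Algebra.TensorProduct.lift (Algebra.ofId (R ⧸ I) (Λ ⧸ I.map (algebraMap R Λ)))
      ((Ideal.Quotient.mkₐ R (I.map (algebraMap R Λ))).comp φ) (fun _ _ => Commute.all _ _)
  obtain ⟨Cb, _, _, hCsm, g1, h1, h1g1⟩ := h (TensorProduct R (R ⧸ I) A) inferInstance fb
  obtain ⟨Bb, _, _, _, _, hsm, ⟨ρ⟩, hstd⟩ := Groth.Agent.S2025.result (R := R ⧸ I) (A := Cb)
  obtain ⟨B, _, _, hBstd, ⟨ε⟩⟩ :=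
    Groth.Agent.Lib.Helper9.StdSmoothLift.exists_standardSmooth_lift R I Bb
  letI : Algebra R Bb := ((algebraMap (R ⧸ I) Bb).comp (Ideal.Quotient.mk I)).toAlgebra
  haveI : IsScalarTower R (R ⧸ I) Bb := .of_algebraMap_eq' rfl
  letI : Algebra R Cb := ((algebraMap (R ⧸ I) Cb).comp (Ideal.Quotient.mk I)).toAlgebra
  haveI : IsScalarTower R (R ⧸ I) Cb := .of_algebraMap_eq' rfl
  haveI : Algebra.Smooth R B := inferInstance
  let π : B →ₐ[R] Bb :=
    (ε.toAlgHom.restrictScalars R).comp (Ideal.Quotient.mkₐ R (I.map (algebraMap R B)))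
  have hπ : Function.Surjective π := by
    intro y
    obtain ⟨z, rfl⟩ := ε.surjective y
    obtain ⟨x, rfl⟩ := Ideal.Quotient.mk_surjective z
    exact ⟨x, rfl⟩
  have hker : RingHom.ker π.toRingHom = I.map (algebraMap R B) := by
    ext x
    rw [RingHom.mem_ker]
    show ε (Ideal.Quotient.mk _ x) = 0 ↔ _
    rw [map_eq_zero_iff ε ε.injective, Ideal.Quotient.eq_zero_iff_mem]
  have hIBb : ∀ i ∈ I, algebraMap R Bb i = 0 := by
    intro i hi
    rw [IsScalarTower.algebraMap_apply R (R ⧸ I) Bb]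
    have : algebraMap R (R ⧸ I) i = 0 := Ideal.Quotient.eq_zero_iff_mem.mpr hi
    rw [this, map_zero]
  let gb : A →ₐ[R] Bb :=
    (((IsScalarTower.toAlgHom (R ⧸ I) Cb Bb).comp g1).restrictScalars R).comp
      (Algebra.TensorProduct.includeRight (R := R) (A := R ⧸ I) (B := A))
  let hb : Bb →ₐ[R] Λ ⧸ I.map (algebraMap R Λ) :=
    (h1.comp (ρ.restrictScalars (R ⧸ I))).restrictScalars R
  have hcomp : hb.comp gb = (Ideal.Quotient.mkₐ R (I.map (algebraMap R Λ))).comp φ := by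
    ext a
    show h1 (ρ (algebraMap Cb Bb (g1 ((1 : R ⧸ I) ⊗ₜ[R] a)))) = Ideal.Quotient.mk _ (φ a)
    rw [ρ.commutes]
    have := congr($h1g1 ((1 : R ⧸ I) ⊗ₜ[R] a))
    rw [AlgHom.comp_apply] at this
    show h1 (g1 ((1 : R ⧸ I) ⊗ₜ[R] a)) = _
    rw [this]
    simp [fb]
  exact Groth.Agent.Lib.Helper9.LiftOnce.lift_once_core I hI φ hIBb π hπ hker gb hb hcomp

end Groth.Agent.S2023
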