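import Groth.Statements.S4553
import Mathlib.RingTheory.Ideal.Quotient.Operations
import Mathlib.RingTheory.Ideal.Prod

set_option autoImplicit false
universe u
open EGA41

namespace Groth.Agent.S4553

section Aux

variable {A B : Type u} [CommRing A] [CommRing B] [Algebra A B] (𝔞 : Ideal A) (𝔟 : Ideal B)

/-- Test of formal smoothness of `B₀/A₀` against `A`-algebras killed by `𝔞`. -/
theorem lift_of_quotient
    (h₀ : EGA41.IsFormallySmoothAdic (A ⧸ 𝔞) ⊥ (B ⧸ 𝔞.map (algebraMap A B))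
      (𝔟.map (Ideal.Quotient.mk (𝔞.map (algebraMap A B)))))
    (E : Type u) [CommRing E] [Algebra A E] (hE : 𝔞.map (algebraMap A E) = ⊥)
    (J : Ideal E) (hJ : IsNilpotent J) (ψ : B →ₐ[A] E ⧸ J) (hψ : ∃ m : ℕ, ∀ x ∈ 𝔟 ^ m, ψ x = 0) :
    ∃ χ : B →ₐ[A] E, (Ideal.Quotient.mkₐ A J).comp χ = ψ := by
  have hE' : ∀ a ∈ 𝔞, algebraMap A E a = 0 := by
    intro a ha
    have : algebraMap A E a ∈ 𝔞.map (algebraMap A E) := Ideal.mem_map_of_mem _ ha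
    rwa [hE, Ideal.mem_bot] at this
  letI : Algebra (A ⧸ 𝔞) E := (Ideal.Quotient.lift 𝔞 (algebraMap A E) hE').toAlgebra
  haveI : IsScalarTower A (A ⧸ 𝔞) E := IsScalarTower.of_algebraMap_eq (fun _ => rfl)
  haveI : IsScalarTower A (A ⧸ 𝔞) (E ⧸ J) := IsScalarTower.of_algebraMap_eq (fun _ => rfl)
  have hsurj : Function.Surjective (algebraMap A (A ⧸ 𝔞)) := Ideal.Quotient.mk_surjective
  -- ψ kills 𝔞B
  have hψ𝔞 : ∀ x ∈ 𝔞.map (algebraMap A B), ψ x = 0 := by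
    intro x hx
    have h1 : 𝔞.map (algebraMap A B) ≤ RingHom.ker ψ.toRingHom := by
      rw [Ideal.map_le_iff_le_comap]
      intro a ha
      rw [Ideal.mem_comap, RingHom.mem_ker]
      change ψ (algebraMap A B a) = 0
      rw [AlgHom.commutes, IsScalarTower.algebraMap_apply A E (E ⧸ J), hE' a ha, map_zero]
    exact h1 hx
  let ψ₁ : (B ⧸ 𝔞.map (algebraMap A B)) →ₐ[A] E ⧸ J := Ideal.Quotient.liftₐ _ ψ hψ𝔞
  let ψ₀ : (B ⧸ 𝔞.map (algebraMap A B)) →ₐ[A ⧸ 𝔞] E ⧸ J := ψ₁.extendScalarsOfSurjective hsurj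
  have hC : ∃ k : ℕ, ((⊥ : Ideal (A ⧸ 𝔞)) ^ k).map (algebraMap (A ⧸ 𝔞) E) = ⊥ :=
    ⟨1, by rw [pow_one, Ideal.map_bot]⟩
  have hψ₀ : ∃ k : ℕ, ∀ x ∈ (𝔟.map (Ideal.Quotient.mk (𝔞.map (algebraMap A B)))) ^ k, ψ₀ x = 0 := by
    obtain ⟨m, hm⟩ := hψ
    refine ⟨m, fun x hx => ?_⟩
    rw [← Ideal.map_pow] at hx
    obtain ⟨b, hb, rfl⟩ := (Ideal.mem_map_iff_of_surjective _ Ideal.Quotient.mk_surjective).1 hx
    exact hm b hb
  obtain ⟨χ₀, hχ₀⟩ := h₀ E J hJ hC ψ₀ hψ₀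
  refine ⟨(χ₀.restrictScalars A).comp (Ideal.Quotient.mkₐ A _), ?_⟩
  ext b
  have := AlgHom.congr_fun hχ₀ (Ideal.Quotient.mk _ b)
  exact this

variable {C : Type u} [CommRing C] [Algebra A C]

/-- The abstract core of the base case: `E` plays the role of the fibre product `B ×_{C/J} C`. -/
theorem core
    (h₀ : EGA41.IsFormallySmoothAdic (A ⧸ 𝔞) ⊥ (B ⧸ 𝔞.map (algebraMap A B))
      (𝔟.map (Ideal.Quotient.mk (𝔞.map (algebraMap A B)))))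
    (J : Ideal C) (u : B →ₐ[A] C ⧸ J)
    {E : Type u} [CommRing E] [Algebra A E] (p₁ : E →ₐ[A] B) (p₂ : E →ₐ[A] C)
    (hp : ∀ e, u (p₁ e) = Ideal.Quotient.mk J (p₂ e))
    (ι : B →ₗ[A] E) (hι : ∀ b, p₁ (ι b) = b)
    (I₃ : Ideal E) (h𝔞 : 𝔞.map (algebraMap A E) ≤ I₃) (M : ℕ) (hI₃ : ∀ x ∈ 𝔟 ^ M, ι x ∈ I₃)
    (huniq : ∀ e e' : E, p₁ e = p₁ e' → Ideal.Quotient.mk I₃ e = Ideal.Quotient.mk I₃ e' → p₂ e = p₂ e')
    (hker : RingHom.ker p₁.toRingHom ^ 2 = ⊥) :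
    ∃ v : B →ₐ[A] C, (Ideal.Quotient.mkₐ A J).comp v = u := by
  let JE : Ideal E := RingHom.ker p₁.toRingHom
  let J₃ : Ideal (E ⧸ I₃) := JE.map (Ideal.Quotient.mk I₃)
  have hE₃ : 𝔞.map (algebraMap A (E ⧸ I₃)) = ⊥ := by
    rw [IsScalarTower.algebraMap_eq A E (E ⧸ I₃), ← Ideal.map_map,
      Ideal.Quotient.algebraMap_eq, Ideal.map_eq_bot_iff_le_ker, Ideal.mk_ker]
    exact h𝔞
  have hJ₃ : IsNilpotent J₃ := by
    refine ⟨2, ?_⟩
    have h1 := Ideal.map_pow (Ideal.Quotient.mk I₃) JE 2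
    rw [hker, Ideal.map_bot] at h1
    exact h1.symm
  have hcls : ∀ e e' : E, p₁ e = p₁ e' →
      Ideal.Quotient.mk J₃ (Ideal.Quotient.mk I₃ e) = Ideal.Quotient.mk J₃ (Ideal.Quotient.mk I₃ e') := by
    intro e e' h
    rw [Ideal.Quotient.eq, ← map_sub]
    apply Ideal.mem_map_of_mem
    change p₁ (e - e') = 0
    rw [map_sub, h, sub_self]
  let ψl : B →ₗ[A] (E ⧸ I₃) ⧸ J₃ :=
    (Ideal.Quotient.mkₐ A J₃).toLinearMap ∘ₗ (Ideal.Quotient.mkₐ A I₃).toLinearMap ∘ₗ ι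
  have hψl : ∀ b, ψl b = Ideal.Quotient.mk J₃ (Ideal.Quotient.mk I₃ (ι b)) := fun b => rfl
  let ψ : B →ₐ[A] (E ⧸ I₃) ⧸ J₃ := AlgHom.ofLinearMap ψl
    (by
      rw [hψl]
      exact hcls _ 1 (by rw [hι, map_one]))
    (by
      intro x y
      rw [hψl, hψl, hψl, ← (Ideal.Quotient.mk J₃).map_mul, ← (Ideal.Quotient.mk I₃).map_mul]
      exact hcls _ _ (by rw [hι, map_mul p₁, hι, hι]))
  have hψapp : ∀ b, ψ b = Ideal.Quotient.mk J₃ (Ideal.Quotient.mk I₃ (ι b)) := fun b => rfl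
  have hψ : ∃ m : ℕ, ∀ x ∈ 𝔟 ^ m, ψ x = 0 := by
    refine ⟨M, fun x hx => ?_⟩
    rw [hψapp, Ideal.Quotient.eq_zero_iff_mem.2 (hI₃ x hx), map_zero]
  obtain ⟨χ, hχ⟩ := lift_of_quotient 𝔞 𝔟 h₀ (E ⧸ I₃) hE₃ J₃ hJ₃ ψ hψ
  have hex : ∀ b : B, ∃ e : E, p₁ e = b ∧ Ideal.Quotient.mk I₃ e = χ b := by
    intro b
    obtain ⟨e', he'⟩ := Ideal.Quotient.mk_surjective (χ b)
    have h1 : Ideal.Quotient.mk J₃ (χ b) = ψ b := AlgHom.congr_fun hχ b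
    have h2 : Ideal.Quotient.mk I₃ (e' - ι b) ∈ J₃ := by
      rw [map_sub, ← Ideal.Quotient.eq, he', h1, hψapp]
    obtain ⟨jE, hjE, hjE'⟩ := (Ideal.mem_map_iff_of_surjective _ Ideal.Quotient.mk_surjective).1 h2
    refine ⟨ι b + jE, ?_, ?_⟩
    · have : p₁ jE = 0 := hjE
      rw [map_add, hι, this, add_zero]
    · rw [map_add, hjE', map_sub, he']
      abel
  choose e he1 he2 using hex
  refine ⟨{ toFun := fun b => p₂ (e b)
            map_one' := ?_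
            map_mul' := ?_
            map_zero' := ?_
            map_add' := ?_
            commutes' := ?_ }, ?_⟩
  · rw [← map_one p₂]
    exact huniq (e 1) 1 (by rw [he1, map_one]) (by rw [he2, map_one, map_one])
  · intro x y
    rw [← map_mul p₂]
    exact huniq (e (x * y)) (e x * e y) (by rw [map_mul, he1, he1, he1])
      (by rw [he2, map_mul, map_mul, he2, he2])
  · rw [← map_zero p₂]
    exact huniq (e 0) 0 (by rw [he1, map_zero]) (by rw [he2, map_zero, map_zero])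
  · intro x y
    rw [← map_add p₂]
    exact huniq (e (x + y)) (e x + e y) (by rw [map_add, he1, he1, he1])
      (by rw [he2, map_add, map_add, he2, he2])
  · intro a
    rw [← p₂.commutes a]
    exact huniq (e (algebraMap A B a)) (algebraMap A E a) (by rw [he1, AlgHom.commutes])
      (by rw [he2, AlgHom.commutes]; rfl)
  · ext b
    change Ideal.Quotient.mk J (p₂ (e b)) = u b
    rw [← hp, he1]

end Aux

section Base

variable {A B C : Type u} [CommRing A] [CommRing B] [CommRing C] [Algebra A B] [Algebra A C]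
  (J : Ideal C) (u : B →ₐ[A] C ⧸ J)

/-- The fibre product `B ×_{C/J} C`. -/
def fib : Subalgebra A (B × C) :=
  AlgHom.equalizer (u.comp (AlgHom.fst A B C)) ((Ideal.Quotient.mkₐ A J).comp (AlgHom.snd A B C))

lemma mem_fib (p : B × C) : p ∈ fib J u ↔ u p.1 = Ideal.Quotient.mk J p.2 := Iff.rfl

variable (w : B →ₗ[A] C) (hw : ∀ b, Ideal.Quotient.mk J (w b) = u b)

/-- `b ↦ (b, w b)`. -/
def iw : B →ₗ[A] fib J u :=
  LinearMap.codRestrict (Subalgebra.toSubmodule (fib J u)) (LinearMap.prod LinearMap.id w)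
    (fun b => (hw b).symm)

lemma iw_fst (b : B) : (iw J u w hw b).1.1 = b := rfl
lemma iw_snd (b : B) : (iw J u w hw b).1.2 = w b := rfl

/-- `(b, c) ↦ c - w b`. -/
def rho : fib J u →ₗ[A] C :=
  (LinearMap.snd A B C - w.comp (LinearMap.fst A B C)).comp (Subalgebra.toSubmodule (fib J u)).subtype

lemma rho_apply (e : fib J u) : rho J u w e = e.1.2 - w e.1.1 := rfl

include hw in
lemma rho_mem (e : fib J u) : rho J u w e ∈ J := by
  rw [rho_apply, ← Ideal.Quotient.eq, hw]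
  exact e.2.symm

variable (𝔞 : Ideal A) (𝔟 : Ideal B)

/-- The ideal `(𝔟^M × 0) ∩ E` of the fibre product. -/
def Ib (M : ℕ) : Ideal (fib J u) :=
  Ideal.comap (fib J u).val.toRingHom (Ideal.prod (𝔟 ^ M) ⊥)

lemma mem_Ib (M : ℕ) (e : fib J u) : e ∈ Ib J u 𝔟 M ↔ e.1.1 ∈ 𝔟 ^ M ∧ e.1.2 = 0 := by
  change (e.1 : B × C) ∈ Ideal.prod (𝔟 ^ M) ⊥ ↔ _
  rw [Ideal.mem_prod, Ideal.mem_bot]

/-- The ideal `0 × J` of the fibre product. -/
def JE : Ideal (fib J u) :=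
  Ideal.comap (fib J u).val.toRingHom (Ideal.prod ⊥ ⊤)

lemma mem_JE (e : fib J u) : e ∈ JE J u ↔ e.1.1 = 0 := by
  change (e.1 : B × C) ∈ Ideal.prod ⊥ ⊤ ↔ _
  rw [Ideal.mem_prod, Ideal.mem_bot]
  simp

lemma snd_mem_of_mem_JE (e : fib J u) (he : e ∈ JE J u) : e.1.2 ∈ J := by
  rw [mem_JE] at he
  have := e.2
  rw [mem_fib, he, map_zero] at this
  exact Ideal.Quotient.eq_zero_iff_mem.1 this.symm

lemma JE_sq (hJ : J ^ 2 = ⊥) : JE J u ^ 2 = ⊥ := by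
  rw [eq_bot_iff, pow_two, Ideal.mul_le]
  intro x hx y hy
  rw [Ideal.mem_bot]
  apply Subtype.ext
  apply Prod.ext
  · change x.1.1 * y.1.1 = 0
    rw [(mem_JE J u x).1 hx, zero_mul]
  · change x.1.2 * y.1.2 = 0
    have : x.1.2 * y.1.2 ∈ J ^ 2 := by
      rw [pow_two]
      exact Ideal.mul_mem_mul (snd_mem_of_mem_JE J u x hx) (snd_mem_of_mem_JE J u y hy)
    rwa [hJ, Ideal.mem_bot] at this

/-- The ideal by which the fibre product is divided. -/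
def I3 (M : ℕ) : Ideal (fib J u) := 𝔞.map (algebraMap A (fib J u)) ⊔ Ib J u 𝔟 M

include hw in
lemma rho_eq_zero_of_mem_I3 (h𝔞J : ∀ a ∈ 𝔞, ∀ j ∈ J, a • j = 0) (M : ℕ)
    (hwM : ∀ x ∈ 𝔟 ^ M, w x = 0) (d : fib J u) (hd : d ∈ I3 J u 𝔞 𝔟 M) : rho J u w d = 0 := by
  obtain ⟨d₁, hd₁, d₂, hd₂, rfl⟩ := Submodule.mem_sup.1 hd
  rw [map_add]
  have h2 : rho J u w d₂ = 0 := by
    rw [mem_Ib] at hd₂
    rw [rho_apply, hd₂.2, hwM _ hd₂.1, sub_zero]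
  have h1 : rho J u w d₁ = 0 := by
    have hd₁' : d₁ ∈ (𝔞 • ⊤ : Submodule A (fib J u)) := by
      rw [Ideal.smul_top_eq_map]
      exact hd₁
    refine Submodule.smul_induction_on hd₁' ?_ ?_
    · intro a ha e _
      rw [map_smul]
      exact h𝔞J a ha _ (rho_mem J u w hw e)
    · intro x y hx hy
      rw [map_add, hx, hy, add_zero]
  rw [h1, h2, add_zero]

include hw in
/-- Uniqueness: an element of the fibre product is determined by its first component and its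
class modulo `I3`. -/
lemma snd_eq_of_mk_eq (h𝔞J : ∀ a ∈ 𝔞, ∀ j ∈ J, a • j = 0) (M : ℕ)
    (hwM : ∀ x ∈ 𝔟 ^ M, w x = 0) (e e' : fib J u) (h1 : e.1.1 = e'.1.1)
    (h2 : Ideal.Quotient.mk (I3 J u 𝔞 𝔟 M) e = Ideal.Quotient.mk (I3 J u 𝔞 𝔟 M) e') :
    e.1.2 = e'.1.2 := by
  have hd : e - e' ∈ I3 J u 𝔞 𝔟 M := Ideal.Quotient.eq.1 h2
  have h3 := rho_eq_zero_of_mem_I3 J u w hw 𝔞 𝔟 h𝔞J M hwM _ hd
  rw [rho_apply] at h3
  change (e.1.2 - e'.1.2) - w (e.1.1 - e'.1.1) = 0 at h3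
  rw [h1, sub_self, map_zero, sub_zero] at h3
  exact sub_eq_zero.1 h3

end Base

section BaseCase

variable {A B : Type u} [CommRing A] [CommRing B] [Algebra A B] (𝔞 : Ideal A) (𝔟 : Ideal B)

theorem base_case
    (hproj : ∀ (n : ℕ) (P Q : Type u) [AddCommGroup P] [Module A P] [AddCommGroup Q] [Module A Q],
      (∀ a ∈ 𝔞 ^ n, ∀ y : P, a • y = 0) → (∀ a ∈ 𝔞 ^ n, ∀ y : Q, a • y = 0) →
      ∀ f : P →ₗ[A] Q, Function.Surjective f → ∀ v : B →ₗ[A] Q, (∃ m : ℕ, ∀ x ∈ 𝔟 ^ m, v x = 0) →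
        ∃ w : B →ₗ[A] P, (∃ m : ℕ, ∀ x ∈ 𝔟 ^ m, w x = 0) ∧ f ∘ₗ w = v)
    (h₀ : EGA41.IsFormallySmoothAdic (A ⧸ 𝔞) ⊥ (B ⧸ 𝔞.map (algebraMap A B))
      (𝔟.map (Ideal.Quotient.mk (𝔞.map (algebraMap A B)))))
    (C : Type u) [CommRing C] [Algebra A C] (k' : ℕ) (hC : (𝔞 ^ k').map (algebraMap A C) = ⊥)
    (J : Ideal C) (hJ2 : J ^ 2 = ⊥) (h𝔞J : ∀ a ∈ 𝔞, ∀ j ∈ J, a • j = 0)
    (u : B →ₐ[A] C ⧸ J) (hu : ∃ m : ℕ, ∀ x ∈ 𝔟 ^ m, u x = 0) :
    ∃ v : B →ₐ[A] C, (Ideal.Quotient.mkₐ A J).comp v = u := by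
  -- the linear lift
  have hC1 : ∀ a ∈ 𝔞 ^ k', ∀ y : C, a • y = 0 := by
    intro a ha y
    have : algebraMap A C a ∈ (𝔞 ^ k').map (algebraMap A C) := Ideal.mem_map_of_mem _ ha
    rw [hC, Ideal.mem_bot] at this
    rw [Algebra.smul_def, this, zero_mul]
  have hC2 : ∀ a ∈ 𝔞 ^ k', ∀ y : C ⧸ J, a • y = 0 := by
    intro a ha y
    obtain ⟨y, rfl⟩ := Ideal.Quotient.mk_surjective y
    rw [← Ideal.Quotient.mkₐ_eq_mk A, ← map_smul, hC1 a ha y, map_zero]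
  obtain ⟨w, ⟨m', hm'⟩, hwu⟩ := hproj k' C (C ⧸ J) hC1 hC2 (Ideal.Quotient.mkₐ A J).toLinearMap
    Ideal.Quotient.mk_surjective u.toLinearMap hu
  obtain ⟨m, hm⟩ := hu
  have hw : ∀ b, Ideal.Quotient.mk J (w b) = u b := fun b => LinearMap.congr_fun hwu b
  have hwM : ∀ x ∈ 𝔟 ^ (max m m'), w x = 0 := fun x hx =>
    hm' x (Ideal.pow_le_pow_right (le_max_right _ _) hx)
  refine core 𝔞 𝔟 h₀ J u ((AlgHom.fst A B C).comp (fib J u).val)
    ((AlgHom.snd A B C).comp (fib J u).val) (fun e => e.2) (iw J u w hw) (fun b => rfl)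
    (I3 J u 𝔞 𝔟 (max m m')) le_sup_left (max m m') ?_
    (snd_eq_of_mk_eq J u w hw 𝔞 𝔟 h𝔞J (max m m') hwM) ?_
  · intro x hx
    apply Ideal.mem_sup_right
    rw [mem_Ib]
    exact ⟨hx, hwM x hx⟩
  · have : RingHom.ker ((AlgHom.fst A B C).comp (fib J u).val).toRingHom = JE J u := by
      ext e
      rw [RingHom.mem_ker, mem_JE]
      rfl
    rw [this]
    exact JE_sq J u hJ2

end BaseCase

section Induction

variable {A B : Type u} [CommRing A] [CommRing B] [Algebra A B] (𝔞 : Ideal A) (𝔟 : Ideal B)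

/-- A lift of a continuous map modulo a nilpotent ideal is continuous. -/
lemma continuous_of_lift {C : Type u} [CommRing C] [Algebra A C] (J : Ideal C) (hJ : IsNilpotent J)
    (v : B →ₐ[A] C) (hv : ∃ m : ℕ, ∀ x ∈ 𝔟 ^ m, Ideal.Quotient.mk J (v x) = 0) :
    ∃ m : ℕ, ∀ x ∈ 𝔟 ^ m, v x = 0 := by
  obtain ⟨m, hm⟩ := hv
  obtain ⟨s, hs⟩ := hJ
  refine ⟨m * s, fun x hx => ?_⟩
  have h1 : (𝔟 ^ m).map v.toRingHom ≤ J := by
    rw [Ideal.map_le_iff_le_comap]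
    intro y hy
    rw [Ideal.mem_comap, ← Ideal.Quotient.eq_zero_iff_mem]
    exact hm y hy
  have h2 : v x ∈ (𝔟 ^ (m * s)).map v.toRingHom := Ideal.mem_map_of_mem _ hx
  rw [pow_mul, Ideal.map_pow] at h2
  have h3 := Ideal.pow_right_mono h1 s h2
  rw [hs] at h3
  exact h3

theorem induction_step
    (hproj : ∀ (n : ℕ) (P Q : Type u) [AddCommGroup P] [Module A P] [AddCommGroup Q] [Module A Q],
      (∀ a ∈ 𝔞 ^ n, ∀ y : P, a • y = 0) → (∀ a ∈ 𝔞 ^ n, ∀ y : Q, a • y = 0) →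
      ∀ f : P →ₗ[A] Q, Function.Surjective f → ∀ v : B →ₗ[A] Q, (∃ m : ℕ, ∀ x ∈ 𝔟 ^ m, v x = 0) →
        ∃ w : B →ₗ[A] P, (∃ m : ℕ, ∀ x ∈ 𝔟 ^ m, w x = 0) ∧ f ∘ₗ w = v)
    (h₀ : EGA41.IsFormallySmoothAdic (A ⧸ 𝔞) ⊥ (B ⧸ 𝔞.map (algebraMap A B))
      (𝔟.map (Ideal.Quotient.mk (𝔞.map (algebraMap A B)))))
    (r : ℕ) :
    ∀ (C : Type u) [CommRing C] [Algebra A C], (∃ k' : ℕ, (𝔞 ^ k').map (algebraMap A C) = ⊥) →
      ∀ J : Ideal C, J * (𝔞.map (algebraMap A C) ⊔ J) ^ r = ⊥ →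
      ∀ u : B →ₐ[A] C ⧸ J, (∃ m : ℕ, ∀ x ∈ 𝔟 ^ m, u x = 0) →
        ∃ v : B →ₐ[A] C, (Ideal.Quotient.mkₐ A J).comp v = u := by
  induction r with
  | zero =>
    intro C _ _ _ J hJ u _
    rw [pow_zero, Ideal.one_eq_top, Ideal.mul_top] at hJ
    subst hJ
    refine ⟨((AlgEquiv.quotientBot A C : (C ⧸ (⊥ : Ideal C)) →ₐ[A] C)).comp u, ?_⟩
    ext b
    obtain ⟨c, hc⟩ := Ideal.Quotient.mk_surjective (u b)
    change Ideal.Quotient.mk ⊥ (AlgEquiv.quotientBot A C (u b)) = u b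
    rw [← hc, AlgEquiv.quotientBot_mk]
  | succ r ih =>
    intro C _ _ hC J hJ u hu
    obtain ⟨k', hk'⟩ := hC
    let N : Ideal C := 𝔞.map (algebraMap A C) ⊔ J
    let K : Ideal C := J * N
    have hKJ : K ≤ J := Ideal.mul_le_left
    let J' : Ideal (C ⧸ K) := J.map (Ideal.Quotient.mkₐ A K)
    let e : ((C ⧸ K) ⧸ J') ≃ₐ[A] C ⧸ J := DoubleQuot.quotQuotEquivQuotOfLEₐ A hKJ
    let u' : B →ₐ[A] (C ⧸ K) ⧸ J' := (e.symm : _ →ₐ[A] _).comp u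
    have hJ'2 : J' ^ 2 = ⊥ := by
      change (J.map (Ideal.Quotient.mk K)) ^ 2 = ⊥
      rw [← Ideal.map_pow, Ideal.map_eq_bot_iff_le_ker, Ideal.mk_ker, pow_two]
      exact Ideal.mul_mono_right le_sup_right
    have h𝔞J' : ∀ a ∈ 𝔞, ∀ j ∈ J', a • j = 0 := by
      intro a ha j hj
      obtain ⟨c, hc, rfl⟩ := (Ideal.mem_map_iff_of_surjective (Ideal.Quotient.mkₐ A K)
        Ideal.Quotient.mk_surjective).1 hj
      rw [← map_smul, Ideal.Quotient.mkₐ_eq_mk, Ideal.Quotient.eq_zero_iff_mem, Algebra.smul_def,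
        mul_comm]
      exact Ideal.mul_mem_mul hc (Ideal.mem_sup_left (Ideal.mem_map_of_mem _ ha))
    have hCK : (𝔞 ^ k').map (algebraMap A (C ⧸ K)) = ⊥ := by
      rw [IsScalarTower.algebraMap_eq A C (C ⧸ K), ← Ideal.map_map, hk', Ideal.map_bot]
    have hu' : ∃ m : ℕ, ∀ x ∈ 𝔟 ^ m, u' x = 0 := by
      obtain ⟨m, hm⟩ := hu
      refine ⟨m, fun x hx => ?_⟩
      change e.symm (u x) = 0
      rw [hm x hx, map_zero]
    obtain ⟨v', hv'⟩ := base_case 𝔞 𝔟 hproj h₀ (C ⧸ K) k' hCK J' hJ'2 h𝔞J' u' hu'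
    have hv'c : ∃ m : ℕ, ∀ x ∈ 𝔟 ^ m, v' x = 0 := by
      apply continuous_of_lift 𝔟 J' ⟨2, hJ'2⟩ v'
      obtain ⟨m, hm⟩ := hu'
      refine ⟨m, fun x hx => ?_⟩
      have := AlgHom.congr_fun hv' x
      change Ideal.Quotient.mk J' (v' x) = u' x at this
      rw [this, hm x hx]
    have hK : K * (𝔞.map (algebraMap A C) ⊔ K) ^ r = ⊥ := by
      rw [eq_bot_iff, ← hJ, pow_succ', ← mul_assoc]
      exact Ideal.mul_mono_right (Ideal.pow_right_mono (sup_le_sup_left hKJ _) r)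
    obtain ⟨v, hv⟩ := ih C ⟨k', hk'⟩ K hK v' hv'c
    refine ⟨v, ?_⟩
    ext b
    change Ideal.Quotient.mk J (v b) = u b
    have h1 : Ideal.Quotient.mk K (v b) = v' b := AlgHom.congr_fun hv b
    have h2 : Ideal.Quotient.mk J' (v' b) = u' b := AlgHom.congr_fun hv' b
    have h3 : e (Ideal.Quotient.mk J' (Ideal.Quotient.mk K (v b))) = Ideal.Quotient.mk J (v b) := rfl
    rw [← h3, h1, h2]
    change e (e.symm (u b)) = u b
    exact e.apply_symm_apply _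

end Induction


/-- Let A be 𝔞-adic (a preadmissible ring with ideal of definition 𝔞), B a topological A-algebra for the
𝔟-adic topology (a power of 𝔞 maps into 𝔟) which is a formally projective topological A-module, and
put A₀ = A/𝔞, B₀ = B/𝔞B with the quotient topologies (A₀ discrete). Then B is a formally smooth
A-algebra if and only if B₀ is a formally smooth A₀-algebra. -/
theorem result {A B : Type u} [CommRing A] [CommRing B] [Algebra A B]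
    (𝔞 : Ideal A) (𝔟 : Ideal B) (hAB : ∃ k : ℕ, (𝔞 ^ k).map (algebraMap A B) ≤ 𝔟)
    (hproj : ∀ (n : ℕ) (P Q : Type u) [AddCommGroup P] [Module A P] [AddCommGroup Q] [Module A Q],
      (∀ a ∈ 𝔞 ^ n, ∀ y : P, a • y = 0) → (∀ a ∈ 𝔞 ^ n, ∀ y : Q, a • y = 0) →
      ∀ f : P →ₗ[A] Q, Function.Surjective f → ∀ v : B →ₗ[A] Q, (∃ m : ℕ, ∀ x ∈ 𝔟 ^ m, v x = 0) →
        ∃ w : B →ₗ[A] P, (∃ m : ℕ, ∀ x ∈ 𝔟 ^ m, w x = 0) ∧ f ∘ₗ w = v) :
    EGA41.IsFormallySmoothAdic A 𝔞 B 𝔟 ↔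
      EGA41.IsFormallySmoothAdic (A ⧸ 𝔞) ⊥ (B ⧸ 𝔞.map (algebraMap A B))
        (𝔟.map (Ideal.Quotient.mk (𝔞.map (algebraMap A B)))) := by
  constructor
  · intro hB D _ _ J hJ _ u₀ hu₀
    letI : Algebra A D := ((algebraMap (A ⧸ 𝔞) D).comp (Ideal.Quotient.mk 𝔞)).toAlgebra
    haveI : IsScalarTower A (A ⧸ 𝔞) D := IsScalarTower.of_algebraMap_eq (fun _ => rfl)
    haveI : IsScalarTower A (A ⧸ 𝔞) (D ⧸ J) := IsScalarTower.of_algebraMap_eq (fun _ => rfl)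
    have hsurj : Function.Surjective (algebraMap A (A ⧸ 𝔞)) := Ideal.Quotient.mk_surjective
    have hD0 : ∀ a ∈ 𝔞, algebraMap A D a = 0 := by
      intro a ha
      change algebraMap (A ⧸ 𝔞) D (Ideal.Quotient.mk 𝔞 a) = 0
      rw [Ideal.Quotient.eq_zero_iff_mem.2 ha, map_zero]
    have hD : ∃ k : ℕ, (𝔞 ^ k).map (algebraMap A D) = ⊥ := by
      refine ⟨1, ?_⟩
      rw [pow_one, eq_bot_iff, Ideal.map_le_iff_le_comap]
      intro a ha
      rw [Ideal.mem_comap, Ideal.mem_bot]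
      exact hD0 a ha
    let u : B →ₐ[A] D ⧸ J := (u₀.restrictScalars A).comp (Ideal.Quotient.mkₐ A _)
    have hu : ∃ k : ℕ, ∀ x ∈ 𝔟 ^ k, u x = 0 := by
      obtain ⟨m, hm⟩ := hu₀
      refine ⟨m, fun x hx => ?_⟩
      change u₀ (Ideal.Quotient.mk _ x) = 0
      apply hm
      rw [← Ideal.map_pow]
      exact Ideal.mem_map_of_mem _ hx
    obtain ⟨v, hv⟩ := hB D J hJ hD u hu
    have hv𝔞 : ∀ x ∈ 𝔞.map (algebraMap A B), v x = 0 := by
      intro x hx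
      have h1 : 𝔞.map (algebraMap A B) ≤ RingHom.ker v.toRingHom := by
        rw [Ideal.map_le_iff_le_comap]
        intro a ha
        rw [Ideal.mem_comap, RingHom.mem_ker]
        change v (algebraMap A B a) = 0
        rw [AlgHom.commutes, hD0 a ha]
      exact h1 hx
    let v₁ : (B ⧸ 𝔞.map (algebraMap A B)) →ₐ[A] D := Ideal.Quotient.liftₐ _ v hv𝔞
    refine ⟨v₁.extendScalarsOfSurjective hsurj, ?_⟩
    ext x
    obtain ⟨b, rfl⟩ := Ideal.Quotient.mk_surjective x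
    exact AlgHom.congr_fun hv b
  · intro h₀ C _ _ J hJ hC u hu
    obtain ⟨n, hn⟩ := hJ
    obtain ⟨k', hk'⟩ := hC
    refine induction_step 𝔞 𝔟 hproj h₀ (k' + n) C ⟨k', hk'⟩ J ?_ u hu
    rw [eq_bot_iff]
    refine Ideal.mul_le_right.trans ?_
    refine Ideal.sup_pow_add_le_pow_sup_pow.trans ?_
    rw [← Ideal.map_pow, hk', hn, Ideal.zero_eq_bot, bot_sup_eq]

end Groth.Agent.S4553
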