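import Groth.Statements.S2466
import Mathlib
import Groth.Agent.Lib.Helper81.PBasisDer
import Groth.Agent.Lib.Helper81.PBasisEGA

set_option autoImplicit false
universe u
open EGA41

namespace Groth.Agent.S2466

open Groth.Agent.Lib.Helper81.PBasis Groth.Agent.Lib.Helper81.PBasisEGA

/-- Let p be a prime, B an A-algebra of characteristic p and (x_α) a p-basis of B over A. Then the
family of differentials (d_{B/A} x_α) is a basis of the B-module Ω_{B/A}. -/
theorem result (p : ℕ) [Fact p.Prime] {A B : Type u} [CommRing A] [CommRing B] [Algebra A B] [CharP B p]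
    {ι : Type u} (x : ι → B) (hx : EGA41.IsPBasis p A x) :
    ∃ b : Module.Basis ι B (Ω[B⁄A]), ∀ i, b i = KaehlerDifferential.D A B (x i) := by
  classical
  have hp : p.Prime := Fact.out
  have hpB : ∀ b : B, p • b = 0 := fun b => by
    rw [← Nat.cast_smul_eq_nsmul B, CharP.cast_eq_zero B p, zero_smul]
  have hpΩ : ∀ w : Ω[B⁄A], p • w = 0 := fun w => by
    rw [← Nat.cast_smul_eq_nsmul B, CharP.cast_eq_zero B p, zero_smul]
  obtain ⟨hli, hspan⟩ := hx
  rw [isPIndependent_iff] at hli
  rw [isPGenerating_iff] at hspan
  set A' := EGA41.pPowerSubalgebra p A B with hA'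
  let a : ι → A' := fun i => ⟨x i ^ p, pow_mem_pPowerSubalgebra p (x i)⟩
  have hxa : ∀ i, x i ^ p = algebraMap A' B (a i) := fun i => rfl
  set v : ι → Ω[B⁄A] := fun i => KaehlerDifferential.D A B (x i) with hv
  -- the partial derivatives
  have hpartial : ∀ i, ∃ φ : Ω[B⁄A] →ₗ[B] B, ∀ j, φ (v j) = if j = i then 1 else 0 := by
    intro i
    obtain ⟨d, ⟨hd1, hd2⟩, -⟩ := existsUnique_derivation (L := B) hp hxa hli hspan
      (0 : Derivation ℤ A' B) (fun _ => rfl) (fun j => if j = i then (1 : B) else 0)
    have hdA : ∀ (r : A) (b : B), d (r • b) = r • d b := by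
      intro r b
      have h0 : d (algebraMap A B r) = 0 := by
        have := hd1 (algebraMap A A' r)
        rwa [Derivation.coe_zero, Pi.zero_apply] at this
      rw [Algebra.smul_def r b, Derivation.leibniz, h0, smul_zero, add_zero, smul_eq_mul,
        ← Algebra.smul_def]
    let dA : Derivation A B B := Derivation.mk'
      { toFun := d, map_add' := map_add d, map_smul' := hdA }
      (fun b c => Derivation.leibniz d b c)
    refine ⟨dA.liftKaehlerDifferential, fun j => ?_⟩
    rw [hv]
    simp only
    rw [Derivation.liftKaehlerDifferential_comp_D]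
    exact hd2 j
  choose φ hφ using hpartial
  have hindep : LinearIndependent B v := by
    rw [linearIndependent_iff']
    intro s g hg i hi
    have := congrArg (φ i) hg
    rw [map_sum, map_zero] at this
    simp only [map_smul, hφ, smul_eq_mul, mul_ite, mul_one, mul_zero] at this
    rwa [Finset.sum_ite_eq' s i, if_pos hi] at this
  -- spanning
  have hgen : ⊤ ≤ Submodule.span B (Set.range v) := by
    set N := Submodule.span B (Set.range v) with hN
    let T : Subalgebra A B :=
      { carrier := {b | KaehlerDifferential.D A B b ∈ N}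
        mul_mem' := fun {b c} hb hc => by
          show KaehlerDifferential.D A B (b * c) ∈ N
          rw [Derivation.leibniz]
          exact N.add_mem (N.smul_mem _ hc) (N.smul_mem _ hb)
        add_mem' := fun {b c} hb hc => by
          show KaehlerDifferential.D A B (b + c) ∈ N
          rw [map_add]
          exact N.add_mem hb hc
        algebraMap_mem' := fun r => by
          show KaehlerDifferential.D A B (algebraMap A B r) ∈ N
          rw [Derivation.map_algebraMap]
          exact N.zero_mem }
    have hT : ∀ b, b ∈ T ↔ KaehlerDifferential.D A B b ∈ N := fun _ => Iff.rfl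
    have hxT : ∀ i, x i ∈ T := fun i => (hT _).2 (Submodule.subset_span ⟨i, rfl⟩)
    have hA'T : A' ≤ T := by
      apply Algebra.adjoin_le
      rintro _ ⟨b, rfl⟩
      show KaehlerDifferential.D A B (b ^ p) ∈ N
      rw [Derivation.leibniz_pow, hpΩ]
      exact N.zero_mem
    have hall : ∀ b : B, b ∈ T := by
      intro b
      have hb : b ∈ Submodule.span A' (Set.range (redMon p x)) := by rw [hspan]; trivial
      induction hb using Submodule.span_induction with
      | mem b hb =>
        obtain ⟨e, rfl⟩ := hb
        exact T.prod_mem fun i _ => T.pow_mem (hxT i) _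
      | zero => exact T.zero_mem
      | add b c _ _ hb hc => exact T.add_mem hb hc
      | smul c b _ hb =>
        rw [Algebra.smul_def]
        exact T.mul_mem (hA'T c.2) hb
    rw [← KaehlerDifferential.span_range_derivation A B, Submodule.span_le]
    rintro _ ⟨b, rfl⟩
    exact hall b
  refine ⟨Module.Basis.mk hindep hgen, fun i => ?_⟩
  rw [Module.Basis.mk_apply]

end Groth.Agent.S2466
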