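import Groth.Statements.S2451
import Mathlib
import Groth.Agent.Lib.Helper81.GeomRedSmooth
import Groth.Agent.Lib.Helper81.SmoothGeomRed
import Groth.Agent.Lib.Helper50.GeomReduced

set_option autoImplicit false
universe u
open EGA41

namespace Groth.Agent.S2451
open Groth.Agent.Lib.Helper81.FieldSmooth in
private theorem charP_case (p : ℕ) [Fact p.Prime] {k K : Type u} [Field k] [Field K] [Algebra k K]
    [CharP k p] : Algebra.FormallySmooth k K ↔ Algebra.IsGeometricallyReduced k K := by
  constructor
  · intro h
    apply Groth.Agent.Lib.Helper50.isGeometricallyReduced_of_forall_finite_isPurelyInseparable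
    intro k' _ _ _ _
    exact isReduced_tensor_of_formallySmooth p
  · intro h
    -- the prime field of `k`
    let P : Subfield k := ⊥
    letI : Algebra (ZMod p) k := ZMod.algebra k p
    have hbot : (⊥ : Subfield k) = (algebraMap (ZMod p) k).fieldRange :=
      Subfield.bot_eq_of_zMod_algebra p
    haveI : Finite P := by
      show Finite (⊥ : Subfield k)
      rw [hbot]
      exact Set.finite_range _
    haveI : CharP P p := RingHom.charP (algebraMap P k) (algebraMap P k).injective p
    haveI : PerfectRing P p := PerfectRing.ofFiniteOfIsReduced p P
    exact formallySmooth_of_isGeometricallyReduced_charP p (P := P)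


/-- Let k ⊆ K be fields with the discrete topologies. Then K is a formally smooth k-algebra if and only
if K is separable over k (K ⊗_k k' reduced for every extension k', i.e. geometrically reduced). -/
theorem result {k K : Type u} [Field k] [Field K] [Algebra k K] :
    Algebra.FormallySmooth k K ↔ Algebra.IsGeometricallyReduced k K := by
  rcases CharP.exists' k with h0 | ⟨p, hp, hpk⟩
  · haveI := h0
    constructor
    · intro _
      haveI : Algebra.IsSeparable k (AlgebraicClosure k) :=
        Algebra.IsAlgebraic.isSeparable_of_perfectField
      have h1 : IsReduced (TensorProduct k K (AlgebraicClosure k)) :=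
        Groth.Agent.Lib.Helper50.isReduced_tensor_of_isSeparable
      rw [Algebra.isGeometricallyReduced_field_iff]
      exact isReduced_of_injective (Algebra.TensorProduct.comm k (AlgebraicClosure k) K)
        (Algebra.TensorProduct.comm k (AlgebraicClosure k) K).injective
    · intro _
      exact Groth.Agent.Lib.Helper81.FieldSmooth.formallySmooth_of_charZero
  · haveI := hp
    haveI := hpk
    exact charP_case p

end Groth.Agent.S2451
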