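import Groth.Statements.S4542
import Groth.Agent.Lib.Helper21.QuotientGlue
import Mathlib.RingTheory.AdicCompletion.RingHom

set_option autoImplicit false
universe u
open EGA41

namespace Groth.Agent.S4542

open Groth.Agent.Lib.Helper21

section Aux

variable {A B C : Type u} [CommRing A] [CommRing B] [CommRing C] [Algebra A B] [Algebra A C]

lemma sup_pow_le_of_pow_le (𝔠 J : Ideal C) (t : ℕ) (hJ : J ^ t ≤ 𝔠) : (J ⊔ 𝔠) ^ t ≤ 𝔠 := by
  have h1 : ((J ⊔ 𝔠) ^ t).map (Ideal.Quotient.mk 𝔠) = ⊥ := by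
    rw [Ideal.map_pow, Ideal.map_sup, Ideal.map_quotient_self, sup_bot_eq, ← Ideal.map_pow,
      Ideal.map_eq_bot_iff_le_ker, Ideal.mk_ker]
    exact hJ
  rw [Ideal.map_eq_bot_iff_le_ker, Ideal.mk_ker] at h1
  exact h1

theorem step {𝔞 : Ideal A} {𝔟 : Ideal B} {𝔠 : Ideal C} (hB : EGA41.IsFormallySmoothAdic A 𝔞 B 𝔟)
    (k : ℕ) (hAC : (𝔞 ^ k).map (algebraMap A C) ≤ 𝔠)
    (J : Ideal C) (t : ℕ) (hJ : J ^ t ≤ 𝔠) (u : B →ₐ[A] C ⧸ J) (ku : ℕ)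
    (hu : (𝔟 ^ ku).map u.toRingHom ≤ 𝔠.map (Ideal.Quotient.mk J))
    (n : ℕ) (vn : B →ₐ[A] C ⧸ 𝔠 ^ n)
    (hP : ∀ b, ∃ c : C, Ideal.Quotient.mk J c = u b ∧ Ideal.Quotient.mk (𝔠 ^ n) c = vn b)
    (hQ : ∃ m, ∀ x ∈ 𝔟 ^ m, vn x = 0) :
    ∃ v' : B →ₐ[A] C ⧸ 𝔠 ^ (n + 1),
      (∀ b, ∃ c : C, Ideal.Quotient.mk J c = u b ∧ Ideal.Quotient.mk (𝔠 ^ (n + 1)) c = v' b) ∧
      (∃ m, ∀ x ∈ 𝔟 ^ m, v' x = 0) ∧
      (Ideal.Quotient.factorₐ A (Ideal.pow_le_pow_right n.le_succ)).comp v' = vn := by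
  let I₂ : Ideal C := J ⊔ 𝔠 ^ (n + 1)
  let K : Ideal C := 𝔠 ^ n ⊓ I₂
  have hcK : 𝔠 ^ (n + 1) ≤ K := le_inf (Ideal.pow_le_pow_right n.le_succ) le_sup_right
  let u₂ : B →ₐ[A] C ⧸ I₂ := (Ideal.Quotient.factorₐ A (le_sup_left : J ≤ I₂)).comp u
  have hu₂ : ∀ (b : B) (c : C), Ideal.Quotient.mk J c = u b → Ideal.Quotient.mk I₂ c = u₂ b := by
    intro b c hc
    change _ = Ideal.Quotient.factorₐ A (le_sup_left : J ≤ I₂) (u b)
    rw [← hc]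
    rfl
  have hcommon : ∀ b, ∃ c, Ideal.Quotient.mk (𝔠 ^ n) c = vn b ∧ Ideal.Quotient.mk I₂ c = u₂ b := by
    intro b
    obtain ⟨c, hc1, hc2⟩ := hP b
    exact ⟨c, hc2, hu₂ b c hc1⟩
  obtain ⟨f, hf⟩ := exists_algHom_quotient_inf (𝔠 ^ n) I₂ vn u₂ hcommon
  let J' : Ideal (C ⧸ 𝔠 ^ (n + 1)) := K.map (Ideal.Quotient.mkₐ A (𝔠 ^ (n + 1)))
  let e : ((C ⧸ 𝔠 ^ (n + 1)) ⧸ J') ≃ₐ[A] C ⧸ K := DoubleQuot.quotQuotEquivQuotOfLEₐ A hcK
  let u' : B →ₐ[A] (C ⧸ 𝔠 ^ (n + 1)) ⧸ J' := (e.symm : C ⧸ K →ₐ[A] _).comp f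
  have hKle : K ≤ J ⊔ 𝔠 := by
    refine inf_le_right.trans (sup_le le_sup_left ?_)
    exact (Ideal.pow_le_self (Nat.succ_ne_zero n)).trans le_sup_right
  have hJ' : IsNilpotent J' := by
    refine ⟨t * (n + 1), ?_⟩
    change (K.map (Ideal.Quotient.mk (𝔠 ^ (n + 1)))) ^ (t * (n + 1)) = ⊥
    rw [← Ideal.map_pow, Ideal.map_eq_bot_iff_le_ker, Ideal.mk_ker, pow_mul]
    exact Ideal.pow_right_mono ((Ideal.pow_right_mono hKle t).trans
      (sup_pow_le_of_pow_le 𝔠 J t hJ)) (n + 1)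
  have hC' : ∃ k', (𝔞 ^ k').map (algebraMap A (C ⧸ 𝔠 ^ (n + 1))) = ⊥ := by
    refine ⟨k * (n + 1), ?_⟩
    rw [IsScalarTower.algebraMap_eq A C (C ⧸ 𝔠 ^ (n + 1)), ← Ideal.map_map,
      Ideal.Quotient.algebraMap_eq, Ideal.map_eq_bot_iff_le_ker, Ideal.mk_ker, pow_mul,
      Ideal.map_pow]
    exact Ideal.pow_right_mono hAC (n + 1)
  have hu' : ∃ m, ∀ x ∈ 𝔟 ^ m, u' x = 0 := by
    obtain ⟨m, hm⟩ := hQ
    refine ⟨max m (ku * (n + 1)), fun x hx => ?_⟩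
    have hx1 : x ∈ 𝔟 ^ m := Ideal.pow_le_pow_right (le_max_left _ _) hx
    have hx2 : x ∈ 𝔟 ^ (ku * (n + 1)) := Ideal.pow_le_pow_right (le_max_right _ _) hx
    have h0 : f x = 0 := by
      rw [hf x 0 (by rw [map_zero, hm x hx1]) ?_, map_zero]
      rw [map_zero]
      have h1 : u x ∈ (𝔠.map (Ideal.Quotient.mk J)) ^ (n + 1) := by
        have h2 : u x ∈ (𝔟 ^ (ku * (n + 1))).map u.toRingHom := Ideal.mem_map_of_mem _ hx2
        rw [pow_mul, Ideal.map_pow] at h2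
        exact Ideal.pow_right_mono hu (n + 1) h2
      rw [← Ideal.map_pow] at h1
      obtain ⟨c, hc, hcu⟩ := (Ideal.mem_map_iff_of_surjective _ Ideal.Quotient.mk_surjective).1 h1
      rw [← hu₂ x c hcu, eq_comm, Ideal.Quotient.eq_zero_iff_mem]
      exact Ideal.mem_sup_right hc
    change e.symm (f x) = 0
    rw [h0, map_zero]
  obtain ⟨v', hv'⟩ := hB (C ⧸ 𝔠 ^ (n + 1)) J' hJ' hC' u' hu'
  -- key fact
  have key : ∀ (b : B) (x c : C), Ideal.Quotient.mk (𝔠 ^ (n + 1)) x = v' b →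
      Ideal.Quotient.mk J c = u b → Ideal.Quotient.mk (𝔠 ^ n) c = vn b → x - c ∈ K := by
    intro b x c hx hc1 hc2
    have h1 : Ideal.Quotient.mk J' (v' b) = u' b := AlgHom.congr_fun hv' b
    have h2 : e (Ideal.Quotient.mk J' (v' b)) = f b := by
      rw [h1]
      change e (e.symm (f b)) = f b
      exact e.apply_symm_apply _
    rw [← hx, hf b c hc2 (hu₂ b c hc1)] at h2
    rw [← Ideal.Quotient.eq]
    exact h2
  refine ⟨v', ?_, ?_, ?_⟩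
  · intro b
    obtain ⟨x, hx⟩ := Ideal.Quotient.mk_surjective (v' b)
    obtain ⟨c, hc1, hc2⟩ := hP b
    have h3 : x - c ∈ I₂ := (key b x c hx hc1 hc2).2
    obtain ⟨j, hj, z, hz, hjz⟩ := Submodule.mem_sup.1 h3
    refine ⟨c + j, ?_, ?_⟩
    · rw [map_add, Ideal.Quotient.eq_zero_iff_mem.2 hj, add_zero, hc1]
    · rw [← hx, Ideal.Quotient.eq]
      have : c + j - x = -z := by linear_combination hjz
      rw [this]
      exact neg_mem hz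
  · obtain ⟨m, hm⟩ := hu'
    obtain ⟨s, hs⟩ := hJ'
    refine ⟨m * s, fun x hx => ?_⟩
    have h1 : (𝔟 ^ m).map v'.toRingHom ≤ J' := by
      rw [Ideal.map_le_iff_le_comap]
      intro y hy
      rw [Ideal.mem_comap, ← Ideal.Quotient.eq_zero_iff_mem]
      have := AlgHom.congr_fun hv' y
      change Ideal.Quotient.mk J' (v' y) = u' y at this
      change Ideal.Quotient.mk J' (v' y) = 0
      rw [this, hm y hy]
    have h2 : v' x ∈ (𝔟 ^ (m * s)).map v'.toRingHom := Ideal.mem_map_of_mem _ hx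
    rw [pow_mul, Ideal.map_pow] at h2
    have h3 := Ideal.pow_right_mono h1 s h2
    rw [hs] at h3
    exact h3
  · ext b
    obtain ⟨x, hx⟩ := Ideal.Quotient.mk_surjective (v' b)
    obtain ⟨c, hc1, hc2⟩ := hP b
    have h3 : x - c ∈ 𝔠 ^ n := (key b x c hx hc1 hc2).1
    change Ideal.Quotient.factorₐ A (Ideal.pow_le_pow_right n.le_succ) (v' b) = vn b
    rw [← hx, ← hc2]
    change Ideal.Quotient.mk (𝔠 ^ n) x = _
    rw [Ideal.Quotient.eq]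
    exact h3

/-- The approximation property at level `n`. -/
def Good (𝔟 : Ideal B) (𝔠 J : Ideal C) (u : B →ₐ[A] C ⧸ J) (n : ℕ) (v : B →ₐ[A] C ⧸ 𝔠 ^ n) : Prop :=
  (∀ b, ∃ c : C, Ideal.Quotient.mk J c = u b ∧ Ideal.Quotient.mk (𝔠 ^ n) c = v b) ∧
    (∃ m, ∀ x ∈ 𝔟 ^ m, v x = 0)

lemma exists_base (𝔟 : Ideal B) (𝔠 J : Ideal C) (u : B →ₐ[A] C ⧸ J) :
    ∃ v : B →ₐ[A] C ⧸ 𝔠 ^ 0, Good 𝔟 𝔠 J u 0 v := by
  haveI : Subsingleton (C ⧸ 𝔠 ^ 0) := Ideal.Quotient.subsingleton_iff.2 ((pow_zero 𝔠).trans Ideal.one_eq_top)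
  refine ⟨{ toFun := fun _ => 0
            map_one' := Subsingleton.elim _ _
            map_mul' := fun _ _ => Subsingleton.elim _ _
            map_zero' := rfl
            map_add' := fun _ _ => Subsingleton.elim _ _
            commutes' := fun _ => Subsingleton.elim _ _ }, ?_, ⟨0, fun _ _ => Subsingleton.elim _ _⟩⟩
  intro b
  obtain ⟨c, hc⟩ := Ideal.Quotient.mk_surjective (u b)
  exact ⟨c, hc, Subsingleton.elim _ _⟩

end Aux

/-- Let B (𝔟-adic) be formally smooth over A (𝔞-adic); let C be a topological A-algebra for the 𝔠-adic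
topology (a power of 𝔞 maps into 𝔠) which is complete, and J an ideal which is closed, i.e. C/J is
Hausdorff for the 𝔠-adic topology, and whose powers tend to 0, i.e. some power of J lies in 𝔠. Then
every continuous A-algebra homomorphism u : B → C/J (a power of 𝔟 maps into the image of 𝔠) factors
as B → C → C/J with B → C a continuous A-algebra homomorphism (a power of 𝔟 maps into 𝔠). -/
theorem result {A B C : Type u} [CommRing A] [CommRing B] [CommRing C] [Algebra A B]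
    [Algebra A C] (𝔞 : Ideal A) (𝔟 : Ideal B) (𝔠 : Ideal C) (hB : EGA41.IsFormallySmoothAdic A 𝔞 B 𝔟)
    [IsAdicComplete 𝔠 C] (hAC : ∃ k : ℕ, (𝔞 ^ k).map (algebraMap A C) ≤ 𝔠)
    (J : Ideal C) (hJ : ∃ t : ℕ, J ^ t ≤ 𝔠) [IsHausdorff (𝔠.map (Ideal.Quotient.mk J)) (C ⧸ J)]
    (u : B →ₐ[A] C ⧸ J) (hu : ∃ k : ℕ, (𝔟 ^ k).map u.toRingHom ≤ 𝔠.map (Ideal.Quotient.mk J)) :
    ∃ v : B →ₐ[A] C, (∃ k : ℕ, (𝔟 ^ k).map v.toRingHom ≤ 𝔠) ∧ (Ideal.Quotient.mkₐ A J).comp v = u := by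
  obtain ⟨k, hk⟩ := hAC
  obtain ⟨t, ht⟩ := hJ
  obtain ⟨ku, hku⟩ := hu
  have hstep : ∀ (n : ℕ) (s : {v : B →ₐ[A] C ⧸ 𝔠 ^ n // Good 𝔟 𝔠 J u n v}),
      ∃ s' : {v : B →ₐ[A] C ⧸ 𝔠 ^ (n + 1) // Good 𝔟 𝔠 J u (n + 1) v},
        (Ideal.Quotient.factorₐ A (Ideal.pow_le_pow_right n.le_succ)).comp s'.1 = s.1 := by
    intro n s
    obtain ⟨v', h1, h2, h3⟩ := step hB k hk J t ht u ku hku n s.1 s.2.1 s.2.2
    exact ⟨⟨v', h1, h2⟩, h3⟩
  obtain ⟨v0, hv0⟩ := exists_base 𝔟 𝔠 J u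
  let seq : ∀ n : ℕ, {v : B →ₐ[A] C ⧸ 𝔠 ^ n // Good 𝔟 𝔠 J u n v} := fun n =>
    Nat.rec (motive := fun n => {v : B →ₐ[A] C ⧸ 𝔠 ^ n // Good 𝔟 𝔠 J u n v}) ⟨v0, hv0⟩
      (fun n s => Classical.choose (hstep n s)) n
  have hseq : ∀ n, (Ideal.Quotient.factorₐ A (Ideal.pow_le_pow_right n.le_succ)).comp
      (seq (n + 1)).1 = (seq n).1 := fun n => Classical.choose_spec (hstep n (seq n))
  have hcompat : ∀ {m n : ℕ} (hle : m ≤ n),
      (Ideal.Quotient.factorₐ A (Ideal.pow_le_pow_right hle)).comp (seq n).1 = (seq m).1 := by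
    intro m n hle
    induction n, hle using Nat.le_induction with
    | base =>
      rw [Ideal.Quotient.factorₐ_refl]
      exact AlgHom.id_comp _
    | succ n hmn ih =>
      rw [← ih, ← hseq n, ← AlgHom.comp_assoc, Ideal.Quotient.factorₐ_comp]
  let v : B →ₐ[A] C := IsAdicComplete.liftAlgHom 𝔠 (fun n => (seq n).1) hcompat
  have hv : ∀ (n : ℕ) (b : B), Ideal.Quotient.mk (𝔠 ^ n) (v b) = (seq n).1 b := fun n b =>
    IsAdicComplete.mk_liftAlgHom 𝔠 (fun n => (seq n).1) hcompat n b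
  refine ⟨v, ?_, ?_⟩
  · obtain ⟨m, hm⟩ := (seq 1).2.2
    refine ⟨m, ?_⟩
    rw [Ideal.map_le_iff_le_comap]
    intro x hx
    rw [Ideal.mem_comap]
    have h1 := hv 1 x
    rw [hm x hx, Ideal.Quotient.eq_zero_iff_mem, pow_one] at h1
    exact h1
  · ext b
    change Ideal.Quotient.mk J (v b) = u b
    rw [← sub_eq_zero]
    apply IsHausdorff.haus (I := 𝔠.map (Ideal.Quotient.mk J)) inferInstance
    intro n
    rw [SModEq.zero, smul_eq_mul, Ideal.mul_top]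
    obtain ⟨c, hc1, hc2⟩ := (seq n).2.1 b
    rw [← hv n b, Ideal.Quotient.eq] at hc2
    rw [← hc1, ← map_sub, ← Ideal.map_pow]
    have : v b - c = -(c - v b) := by ring
    rw [this]
    exact Ideal.mem_map_of_mem _ (neg_mem hc2)

end Groth.Agent.S4542
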