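import Groth.Statements.S4533
import Groth.Agent.Lib.Helper21.PowerSeriesAdic

set_option autoImplicit false
universe u
open EGA41 Groth.Agent.Lib.Helper21

namespace Groth.Agent.S4533

/-- Let A carry the 𝔞-adic topology and let B = A[[T_1, …, T_n]] carry the product topology, i.e. the
adic topology of the ideal 𝔞B + (T_1, …, T_n) (the kernel of the constant-coefficient map added to
the extension of 𝔞). Then B is a formally smooth A-algebra for these topologies. (The published
statement allows any linearly topologized base ring and any set of indeterminates with the product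
topology; this row takes an adic base and finitely many indeterminates, where the product topology
is adic.) -/
theorem result (A : Type u) [CommRing A] (𝔞 : Ideal A) (n : ℕ) :
    EGA41.IsFormallySmoothAdic A 𝔞 (MvPowerSeries (Fin n) A)
      (𝔞.map (MvPowerSeries.C : A →+* MvPowerSeries (Fin n) A) ⊔
        RingHom.ker (MvPowerSeries.constantCoeff : MvPowerSeries (Fin n) A →+* A)) := by
  intro C _ _ J hJ _ u hu
  obtain ⟨k, hk⟩ := hu
  obtain ⟨e, he⟩ := hJ
  have hsurj : Function.Surjective (Ideal.Quotient.mk J) := Ideal.Quotient.mk_surjective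
  let c : Fin n → C := fun i => Function.surjInv hsurj (u (MvPowerSeries.X i))
  have hc : ∀ i, Ideal.Quotient.mk J (c i) = u (MvPowerSeries.X i) :=
    fun i => Function.surjInv_eq hsurj _
  have hXmem : ∀ i : Fin n, (MvPowerSeries.X i : MvPowerSeries (Fin n) A) ∈
      (𝔞.map (MvPowerSeries.C : A →+* MvPowerSeries (Fin n) A) ⊔
        RingHom.ker (MvPowerSeries.constantCoeff : MvPowerSeries (Fin n) A →+* A)) := fun i =>
    Ideal.mem_sup_right (by rw [RingHom.mem_ker]; exact MvPowerSeries.constantCoeff_X i)
  have hcnil : ∀ i, c i ^ (k * e) = 0 := by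
    intro i
    have h1 : c i ^ k ∈ J := by
      rw [← Ideal.Quotient.eq_zero_iff_mem, map_pow, hc, ← map_pow]
      exact hk _ (Ideal.pow_mem_pow (hXmem i) k)
    rw [pow_mul]
    have := Ideal.pow_mem_pow h1 e
    rw [he] at this
    exact this
  refine ⟨PSAdic.evalNilp (R := A) c (k * e) hcnil, ?_⟩
  ext f
  let N := n * (k * e) + k + 1
  let p := MvPowerSeries.truncTotal N f
  have hr : f - (p : MvPowerSeries (Fin n) A) ∈
      (𝔞.map (MvPowerSeries.C : A →+* MvPowerSeries (Fin n) A) ⊔
        RingHom.ker (MvPowerSeries.constantCoeff : MvPowerSeries (Fin n) A →+* A)) ^ k := by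
    apply Ideal.pow_right_mono le_sup_right k
    apply PSAdic.mem_ker_pow_of_coeff_eq_zero
    intro x hx
    rw [map_sub, MvPolynomial.coeff_coe, MvPowerSeries.coeff_truncTotal _ (by omega), sub_self]
  have h1 : u f = u (p : MvPowerSeries (Fin n) A) := by
    have := hk _ hr
    rwa [map_sub, sub_eq_zero] at this
  have h2 : u (p : MvPowerSeries (Fin n) A) = Ideal.Quotient.mk J (MvPolynomial.aeval c p) := by
    have : (u.comp (MvPolynomial.coeToMvPowerSeries.algHom A)) =
        (Ideal.Quotient.mkₐ A J).comp (MvPolynomial.aeval c) := by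
      apply MvPolynomial.algHom_ext
      intro i
      simp [hc]
    have h3 := AlgHom.congr_fun this p
    simpa using h3
  change Ideal.Quotient.mk J (PSAdic.evalNilp (R := A) c (k * e) hcnil f) = u f
  rw [h1, h2, PSAdic.evalNilp_eq_aeval_truncTotal c _ hcnil N (by omega)]

end Groth.Agent.S4533
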