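import Groth.Statements.S4534
-- import your own Groth.Agent.* helpers here

set_option autoImplicit false
universe u
open EGA41

namespace Groth.Agent.S4534

/-- Let A → B → C be continuous homomorphisms of adic rings (A with the 𝔞-adic, B the 𝔟-adic, C the
𝔠-adic topology; continuity: a power of 𝔞 maps into 𝔟 and a power of 𝔟 into 𝔠). If B is formally
smooth over A and C formally smooth over B, then C is formally smooth over A. -/
theorem result {A B C : Type u} [CommRing A] [CommRing B] [CommRing C] [Algebra A B] [Algebra B C]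
    [Algebra A C] [IsScalarTower A B C] (𝔞 : Ideal A) (𝔟 : Ideal B) (𝔠 : Ideal C)
    (hAB : ∃ k : ℕ, (𝔞 ^ k).map (algebraMap A B) ≤ 𝔟) (hBC : ∃ k : ℕ, (𝔟 ^ k).map (algebraMap B C) ≤ 𝔠)
    (hB : EGA41.IsFormallySmoothAdic A 𝔞 B 𝔟) (hC : EGA41.IsFormallySmoothAdic B 𝔟 C 𝔠) :
    EGA41.IsFormallySmoothAdic A 𝔞 C 𝔠 := by
  intro D _ _ J hJ hD u hu
  obtain ⟨k₁, hk₁⟩ := hBC
  obtain ⟨k₂, hk₂⟩ := hu
  obtain ⟨N, hN⟩ := hJ
  -- Step 1: lift the restriction of `u` to `B`.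
  let u₀ : B →ₐ[A] D ⧸ J := u.comp (IsScalarTower.toAlgHom A B C)
  have hu₀ : ∀ x ∈ 𝔟 ^ (k₁ * k₂), u₀ x = 0 := by
    intro x hx
    change u (algebraMap B C x) = 0
    apply hk₂
    have h1 : algebraMap B C x ∈ ((𝔟 ^ k₁) ^ k₂).map (algebraMap B C) := by
      rw [← pow_mul]
      exact Ideal.mem_map_of_mem _ hx
    rw [Ideal.map_pow] at h1
    exact Ideal.pow_right_mono hk₁ k₂ h1
  obtain ⟨v₀, hv₀⟩ := hB D J ⟨N, hN⟩ hD u₀ ⟨k₁ * k₂, hu₀⟩
  have hv₀' : ∀ b : B, Ideal.Quotient.mk J (v₀ b) = u (algebraMap B C b) := fun b =>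
    congrArg (fun f : B →ₐ[A] D ⧸ J => f b) hv₀
  -- Step 2: regard `D` as a `B`-algebra through `v₀`.
  letI algBD : Algebra B D := v₀.toRingHom.toAlgebra
  have hBD : ∀ b : B, algebraMap B D b = v₀ b := fun _ => rfl
  -- some power of `𝔟` dies in `D`
  have hpowJ : ∀ x ∈ 𝔟 ^ (k₁ * k₂), v₀ x ∈ J := by
    intro x hx
    rw [← Ideal.Quotient.eq_zero_iff_mem, hv₀']
    exact hu₀ x hx
  have hkill : (((𝔟 ^ (k₁ * k₂)) ^ N).map (algebraMap B D)) = ⊥ := by
    rw [Ideal.map_pow, eq_bot_iff, ← Ideal.zero_eq_bot, ← hN]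
    refine Ideal.pow_right_mono ?_ N
    rw [Ideal.map_le_iff_le_comap]
    intro x hx
    exact hpowJ x hx
  let u' : C →ₐ[B] D ⧸ J :=
    { u.toRingHom with
      commutes' := fun b => by
        change u (algebraMap B C b) = Ideal.Quotient.mk J (algebraMap B D b)
        rw [hBD, hv₀'] }
  obtain ⟨v, hv⟩ := hC D J ⟨N, hN⟩ ⟨k₁ * k₂ * N, by rw [pow_mul]; exact hkill⟩ u' ⟨k₂, hk₂⟩
  have hv' : ∀ c : C, Ideal.Quotient.mk J (v c) = u c := fun c =>
    congrArg (fun f : C →ₐ[B] D ⧸ J => f c) hv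
  refine ⟨{ v.toRingHom with
      commutes' := fun a => by
        change v (algebraMap A C a) = algebraMap A D a
        rw [IsScalarTower.algebraMap_apply A B C, v.commutes, hBD, v₀.commutes] }, ?_⟩
  ext c
  exact hv' c

end Groth.Agent.S4534
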