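import Groth.Statements.S9443
import Mathlib
import Groth.Agent.Lib.Helper90.PSUniv
import Groth.Agent.Lib.Helper85.RegularSeq
import Groth.Agent.Lib.Helper18.RegQuasiReg

set_option autoImplicit false
universe u
open CAlg

namespace Groth.Agent.S9443.Aux

set_option autoImplicit false

open Groth.Agent.Lib.Helper18 Groth.Agent.Lib.Helper85 Groth.Agent.Lib.Helper90

theorem main (R : Type u) [CommRing R] [IsRegularLocalRing R]
    [IsAdicComplete (IsLocalRing.maximalIdeal R) R]
    (k : Type u) [Field k] [Algebra k R]
    (hk : Function.Bijective (algebraMap k (IsLocalRing.ResidueField R))) :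
    ∃ d : ℕ, Nonempty (R ≃ₐ[k] MvPowerSeries (Fin d) k) := by
  classical
  obtain ⟨s, hs1, hs2⟩ := Submodule.FG.exists_span_finset_card_eq_spanFinrank
    (IsNoetherian.noetherian (IsLocalRing.maximalIdeal R))
  set d := (IsLocalRing.maximalIdeal R).spanFinrank with hd
  have hdim : ringKrullDim R = d := (IsRegularLocalRing.spanFinrank_maximalIdeal).symm
  let e : Fin d ≃ s := (s.equivFinOfCardEq hs1).symm
  let x : Fin d → R := fun i => (e i : R)
  have hx : Ideal.span (Set.range x) = IsLocalRing.maximalIdeal R := by
    rw [← hs2]
    congr 1
    ext y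
    constructor
    · rintro ⟨i, rfl⟩
      exact (e i).2
    · intro hy
      exact ⟨e.symm ⟨y, hy⟩, by simp [x]⟩
  have hreg := isRegular_ofFn_of_span_eq_maximalIdeal d hdim x hx
  have hq : CAlgX.IsQuasiRegular x :=
    isQuasiRegular_of_isWeaklyRegular d x hreg.toIsWeaklyRegular
  have hbij : Function.Bijective
      ((Ideal.Quotient.mk (IsLocalRing.maximalIdeal R)).comp (algebraMap k R)) := hk
  obtain ⟨e', -, -⟩ := PSUniv.exists_algEquiv (B := k) (IsLocalRing.maximalIdeal R) x hx
    (by
      intro n F hF hev
      have := hq n F hF (by rw [hx]; exact hev)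
      intro d'
      have := this d'
      rwa [hx] at this) hbij
  exact ⟨d, ⟨e'.symm⟩⟩

end Groth.Agent.S9443.Aux

namespace Groth.Agent.S9443

/-- A complete regular local ring R with a coefficient field k (a subfield mapping isomorphically onto
the residue field) is k-isomorphic to a power series ring over k in finitely many variables
(existence of an isomorphism only; the number of variables is then the dimension of R). -/
theorem result (R : Type u)
    [CommRing R] [IsRegularLocalRing R] [IsAdicComplete (IsLocalRing.maximalIdeal R) R]
    (k : Type u) [Field k] [Algebra k R]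
    (hk : Function.Bijective (algebraMap k (IsLocalRing.ResidueField R))) :
    ∃ d : ℕ, Nonempty (R ≃ₐ[k] MvPowerSeries (Fin d) k) := by
  exact Aux.main R k hk

end Groth.Agent.S9443
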