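import Groth.Statements.S2453
import Mathlib
import Groth.Agent.Lib.Helper90.SmoothRegular2
import Groth.Agent.Lib.Helper90.PSIdeal
import Groth.Agent.S11741

set_option autoImplicit false
universe u
open EGA41

namespace Groth.Agent.S2453.Aux

set_option linter.style.haveILetI false

open IsLocalRing MvPowerSeries Groth.Agent.Lib.Helper90 Groth.Agent.Lib.Helper90.SmoothRegular

theorem isRegularLocalRing_mvPowerSeries (K : Type u) [Field K] (n : ℕ) :
    IsRegularLocalRing (MvPowerSeries (Fin n) K) := by
  apply IsRegularLocalRing.of_spanFinrank_maximalIdeal_le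
  rw [Groth.Agent.S11741.ringKrullDim_mvPowerSeries, PSIdeal.maximalIdeal_eq_span_X]
  have h1 := Submodule.spanFinrank_span_le_ncard_of_finite (R := MvPowerSeries (Fin n) K)
    (Set.finite_range (MvPowerSeries.X : Fin n → MvPowerSeries (Fin n) K))
  have h2 : (Set.range (MvPowerSeries.X : Fin n → MvPowerSeries (Fin n) K)).ncard ≤ n := by
    have := Set.ncard_image_le (f := (MvPowerSeries.X : Fin n → MvPowerSeries (Fin n) K))
      (s := Set.univ) Set.finite_univ
    rw [Set.image_univ] at this
    simpa using this
  have h3 : (Ideal.span (Set.range (MvPowerSeries.X : Fin n → MvPowerSeries (Fin n) K))).spanFinrank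
      ≤ n := le_trans h1 h2
  exact_mod_cast h3

/-- coefficientwise ring isomorphism of power series rings -/
noncomputable def mapEquiv {K L : Type u} [CommRing K] [CommRing L] (σ : Type*) (f : K ≃+* L) :
    MvPowerSeries σ K ≃+* MvPowerSeries σ L :=
  RingEquiv.ofRingHom (MvPowerSeries.map (f : K →+* L)) (MvPowerSeries.map (f.symm : L →+* K))
    (by
      rw [← MvPowerSeries.map_comp]
      have : (f : K →+* L).comp (f.symm : L →+* K) = RingHom.id L := by ext; simp
      rw [this, MvPowerSeries.map_id])
    (by
      rw [← MvPowerSeries.map_comp]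
      have : (f.symm : L →+* K).comp (f : K →+* L) = RingHom.id K := by ext; simp
      rw [this, MvPowerSeries.map_id])

theorem mapEquiv_C {K L : Type u} [CommRing K] [CommRing L] (σ : Type*) (f : K ≃+* L) (a : K) :
    mapEquiv σ f (MvPowerSeries.C a) = MvPowerSeries.C (f a) :=
  MvPowerSeries.map_C (f : K →+* L) a

theorem main {k A : Type u} [Field k] [CommRing A] [IsLocalRing A] [IsNoetherianRing A] [Algebra k A]
    [Algebra.IsGeometricallyReduced k (ResidueField A)] :
    [CAlgX.IsAdicFormallySmooth k A (maximalIdeal A),
     ∃ (n : ℕ) (e : AdicCompletion (maximalIdeal A) A ≃+* MvPowerSeries (Fin n) (ResidueField A)),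
       ∀ x : k, e (algebraMap A (AdicCompletion (maximalIdeal A) A) (algebraMap k A x)) =
         algebraMap (ResidueField A) (MvPowerSeries (Fin n) (ResidueField A)) (algebraMap k (ResidueField A) x),
     ∃ n : ℕ, Nonempty (AdicCompletion (maximalIdeal A) A ≃+* MvPowerSeries (Fin n) (ResidueField A)),
     IsRegularLocalRing A].TFAE := by
  have hiff := (Groth.Agent.Lib.Helper29.ringKrullDim_adicCompletion_eq_and_isRegularLocalRing_iff A
    (maximalIdeal A) Ideal.IsPrime.ne_top').2
  tfae_have 1 → 4 := fun h => regular_of_smooth h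
  tfae_have 4 → 1 := fun h => by
    haveI := h
    exact smooth_of_regular
  tfae_have 4 → 2 := fun h => by
    haveI := hiff.mp h
    haveI := geomRed_completion (k := k) (A := A)
    haveI := Groth.Agent.S0543.result A (maximalIdeal A)
    obtain ⟨n, ⟨e⟩⟩ := exists_algEquiv_of_regular_complete (k := k)
      (A := AdicCompletion (maximalIdeal A) A)
    let ρ : ResidueField (AdicCompletion (maximalIdeal A) A) ≃ₐ[k] ResidueField A :=
      (residueEquiv (k := k) (A := A)).symm
    refine ⟨n, e.toRingEquiv.trans
      (mapEquiv (Fin n) ρ.toRingEquiv), fun x => ?_⟩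
    have h1 : algebraMap A (AdicCompletion (maximalIdeal A) A) (algebraMap k A x) =
        algebraMap k (AdicCompletion (maximalIdeal A) A) x := rfl
    rw [h1, RingEquiv.trans_apply]
    have h2 : e.toRingEquiv (algebraMap k (AdicCompletion (maximalIdeal A) A) x) =
        algebraMap k (MvPowerSeries (Fin n) (ResidueField (AdicCompletion (maximalIdeal A) A))) x :=
      e.commutes x
    rw [h2, MvPowerSeries.algebraMap_apply, MvPowerSeries.algebraMap_apply]
    rw [mapEquiv_C]
    congr 1
    exact ρ.commutes x
  tfae_have 2 → 3 := fun ⟨n, e, _⟩ => ⟨n, ⟨e⟩⟩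
  tfae_have 3 → 4 := fun ⟨n, ⟨e⟩⟩ => by
    haveI := isRegularLocalRing_mvPowerSeries (ResidueField A) n
    exact hiff.mpr (IsRegularLocalRing.of_ringEquiv e.symm)
  tfae_finish

end Groth.Agent.S2453.Aux

namespace Groth.Agent.S2453

open IsLocalRing in
/-- Let k be a field and A a Noetherian local k-algebra with maximal ideal 𝔪 and residue field K
separable over k; give A the 𝔪-adic topology (k discrete). The following are equivalent: (a) A is
formally smooth over k; (b) the 𝔪-adic completion of A is isomorphic to some K[[T_1, …, T_n]] by an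
isomorphism carrying the image of k in A to the image of k under k → K → K[[T]]; (b') the completion
is isomorphic as a ring to some K[[T_1, …, T_n]]; (c) A is a regular local ring. -/
theorem result {k A : Type u} [Field k] [CommRing A] [IsLocalRing A] [IsNoetherianRing A] [Algebra k A]
    [Algebra.IsGeometricallyReduced k (ResidueField A)] :
    [CAlgX.IsAdicFormallySmooth k A (maximalIdeal A),
     ∃ (n : ℕ) (e : AdicCompletion (maximalIdeal A) A ≃+* MvPowerSeries (Fin n) (ResidueField A)),
       ∀ x : k, e (algebraMap A (AdicCompletion (maximalIdeal A) A) (algebraMap k A x)) =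
         algebraMap (ResidueField A) (MvPowerSeries (Fin n) (ResidueField A)) (algebraMap k (ResidueField A) x),
     ∃ n : ℕ, Nonempty (AdicCompletion (maximalIdeal A) A ≃+* MvPowerSeries (Fin n) (ResidueField A)),
     IsRegularLocalRing A].TFAE := by
  exact Aux.main

end Groth.Agent.S2453
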