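import Groth.Statements.S4588
import Mathlib
import Groth.Agent.S0564
import Groth.Agent.Lib.Helper55.KrullDimIntegral

set_option autoImplicit false
universe u
open IsLocalRing
open EGA41

namespace Groth.Agent.S4588

theorem sub_C_constantCoeff_mem {A : Type u} [CommRing A] {σ : Type*} (P : MvPolynomial σ A) :
    P - MvPolynomial.C (MvPolynomial.constantCoeff P) ∈
      Ideal.span (Set.range (MvPolynomial.X : σ → MvPolynomial σ A)) := by
  induction P using MvPolynomial.induction_on with
  | C a => simp
  | add p q hp hq =>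
    have : p + q - MvPolynomial.C (MvPolynomial.constantCoeff (p + q)) =
        (p - MvPolynomial.C (MvPolynomial.constantCoeff p)) +
          (q - MvPolynomial.C (MvPolynomial.constantCoeff q)) := by
      rw [map_add, map_add]; ring
    rw [this]; exact Ideal.add_mem _ hp hq
  | mul_X p i _ =>
    have : MvPolynomial.constantCoeff (p * MvPolynomial.X i) = 0 := by simp
    rw [this, map_zero, sub_zero]
    exact Ideal.mul_mem_left _ _ (Ideal.subset_span ⟨i, rfl⟩)

/-- Monic polynomials of positive degree acquire roots in a ring extension. -/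
theorem exists_ext : ∀ (r : ℕ) (A : Type u) [CommRing A] (P : Fin r → Polynomial A),
    (∀ i, (P i).Monic) → (∀ i, 0 < (P i).natDegree) →
    ∃ (B : Type u) (_ : CommRing B) (φ : A →+* B) (t : Fin r → B),
      Function.Injective φ ∧ ∀ i, Polynomial.eval₂ φ (t i) (P i) = 0 := by
  intro r
  induction r with
  | zero =>
    intro A _ P _ _
    exact ⟨A, inferInstance, RingHom.id A, Fin.elim0, Function.injective_id, fun i => i.elim0⟩
  | succ r ih =>
    intro A _ P hP hdeg
    rcases subsingleton_or_nontrivial A with hA | hA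
    · refine ⟨A, inferInstance, RingHom.id A, fun _ => 0, Function.injective_id, fun i => ?_⟩
      exact Subsingleton.elim _ _
    · have hinj₁ : Function.Injective (AdjoinRoot.of (P 0)) := by
        rw [injective_iff_map_eq_zero]
        intro a ha
        by_contra hne
        have h1 := AdjoinRoot.mk_ne_zero_of_natDegree_lt (hP 0) (g := Polynomial.C a)
          (by simpa using hne) (by rw [Polynomial.natDegree_C]; exact hdeg 0)
        exact h1 ha
      have hnt : Nontrivial (AdjoinRoot (P 0)) := hinj₁.nontrivial
      obtain ⟨B, hB, φ, t, hφ, ht⟩ := ih (AdjoinRoot (P 0))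
        (fun i => (P i.succ).map (AdjoinRoot.of (P 0))) (fun i => (hP i.succ).map _)
        (fun i => by rw [(hP i.succ).natDegree_map]; exact hdeg i.succ)
      refine ⟨B, hB, φ.comp (AdjoinRoot.of (P 0)), Fin.cons (φ (AdjoinRoot.root (P 0))) t,
        hφ.comp hinj₁, ?_⟩
      intro i
      refine Fin.cases ?_ (fun j => ?_) i
      · rw [Fin.cons_zero, ← Polynomial.hom_eval₂, AdjoinRoot.eval₂_root, map_zero]
      · rw [Fin.cons_succ]
        have h2 := ht j
        rwa [Polynomial.eval₂_map] at h2

theorem sum_smul_toCotangent {R : Type u} [CommRing R] [IsLocalRing R] {r : ℕ} (x : Fin r → R)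
    (hx : ∀ i, x i ∈ maximalIdeal R) (a : Fin r → R) :
    ∑ i, (residue R (a i)) • (maximalIdeal R).toCotangent ⟨x i, hx i⟩ =
      (maximalIdeal R).toCotangent ⟨∑ i, a i * x i,
        Ideal.sum_mem _ fun i _ => Ideal.mul_mem_left _ _ (hx i)⟩ := by
  have h1 : (⟨∑ i, a i * x i, Ideal.sum_mem _ fun i _ => Ideal.mul_mem_left _ _ (hx i)⟩ :
      maximalIdeal R) = ∑ i, a i • (⟨x i, hx i⟩ : maximalIdeal R) := by
    apply Subtype.ext
    rw [Submodule.coe_sum]
    rfl
  rw [h1, map_sum]
  refine Finset.sum_congr rfl fun i _ => ?_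
  rw [map_smul]
  exact algebraMap_smul (ResidueField R) (a i) _

theorem li_cotangent_iff {R : Type u} [CommRing R] [IsLocalRing R] {r : ℕ} (x : Fin r → R)
    (hx : ∀ i, x i ∈ maximalIdeal R) :
    LinearIndependent (ResidueField R) (fun i => (maximalIdeal R).toCotangent ⟨x i, hx i⟩) ↔
      ∀ a : Fin r → R, ∑ i, a i * x i ∈ maximalIdeal R ^ 2 → ∀ i, a i ∈ maximalIdeal R := by
  constructor
  · intro h a ha i
    have h1 := Fintype.linearIndependent_iff.mp h (fun i => residue R (a i)) (by
      rw [sum_smul_toCotangent x hx a, Ideal.toCotangent_eq_zero]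
      exact ha) i
    exact (residue_eq_zero_iff _).mp h1
  · intro h
    rw [Fintype.linearIndependent_iff]
    intro g hg i
    choose a ha using fun i => residue_surjective (g i)
    have hg' : ∑ i, (residue R (a i)) • (maximalIdeal R).toCotangent ⟨x i, hx i⟩ = 0 := by
      rw [← hg]
      exact Finset.sum_congr rfl fun i _ => by rw [ha i]
    rw [sum_smul_toCotangent x hx a, Ideal.toCotangent_eq_zero] at hg'
    rw [← ha i, residue_eq_zero_iff]
    exact h a hg' i

theorem exists_extend_gens {R : Type u} [CommRing R] [IsLocalRing R] [IsNoetherianRing R] {r : ℕ}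
    (x : Fin r → R) (hx : ∀ i, x i ∈ maximalIdeal R)
    (hli : LinearIndependent (ResidueField R)
      (fun i => (maximalIdeal R).toCotangent ⟨x i, hx i⟩)) :
    ∃ (s : ℕ) (z : Fin s → R), r + s = Module.finrank (ResidueField R) (CotangentSpace R) ∧
      (∀ j, z j ∈ maximalIdeal R) ∧
      Ideal.span (Set.range x ∪ Set.range z) = maximalIdeal R := by
  classical
  let v : Fin r → CotangentSpace R := fun i => (maximalIdeal R).toCotangent ⟨x i, hx i⟩
  let W : Submodule (ResidueField R) (CotangentSpace R) := Submodule.span _ (Set.range v)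
  have hW : Module.finrank (ResidueField R) W = r := by
    have := finrank_span_eq_card hli
    simpa using this
  have hsum := Submodule.finrank_quotient_add_finrank W
  let b := Module.finBasis (ResidueField R) (CotangentSpace R ⧸ W)
  choose u hu using fun j => Submodule.mkQ_surjective W (b j)
  choose z' hz' using fun j => Ideal.toCotangent_surjective (maximalIdeal R) (u j)
  let S : Set (maximalIdeal R) := Set.range (fun i => (⟨x i, hx i⟩ : maximalIdeal R)) ∪ Set.range z'
  have hWle : W ≤ Submodule.span (ResidueField R) ((maximalIdeal R).toCotangent '' S) := by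
    apply Submodule.span_mono
    rintro _ ⟨i, rfl⟩
    exact ⟨⟨x i, hx i⟩, Or.inl ⟨i, rfl⟩, rfl⟩
  have hspan : Submodule.span (ResidueField R) ((maximalIdeal R).toCotangent '' S) = ⊤ := by
    rw [eq_top_iff]
    intro y _
    have h1 : W.mkQ y = W.mkQ (∑ j, b.repr (W.mkQ y) j • u j) := by
      rw [map_sum]
      conv_lhs => rw [← b.sum_repr (W.mkQ y)]
      exact Finset.sum_congr rfl fun j _ => by rw [map_smul, hu j]
    have h2 : y - ∑ j, b.repr (W.mkQ y) j • u j ∈ W := (Submodule.Quotient.eq W).mp h1
    have h3 : y = (y - ∑ j, b.repr (W.mkQ y) j • u j) + ∑ j, b.repr (W.mkQ y) j • u j := by abel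
    rw [h3]
    refine add_mem (hWle h2) (Submodule.sum_mem _ fun j _ => Submodule.smul_mem _ _ ?_)
    exact Submodule.subset_span ⟨z' j, Or.inr ⟨j, rfl⟩, hz' j⟩
  have hS : Submodule.span R S = ⊤ := CotangentSpace.span_image_eq_top_iff.mp hspan
  refine ⟨_, fun j => (z' j : R), ?_, fun j => (z' j).2, ?_⟩
  · rw [← hsum, hW, add_comm]
  · have h4 : (Submodule.span R S).map (maximalIdeal R).subtype = maximalIdeal R := by
      rw [hS, Submodule.map_subtype_top]
    rw [Submodule.map_span] at h4
    have h5 : (maximalIdeal R).subtype '' S = Set.range x ∪ Set.range fun j => (z' j : R) := by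
      ext y
      constructor
      · rintro ⟨w, hw | hw, rfl⟩
        · obtain ⟨i, rfl⟩ := hw; exact Or.inl ⟨i, rfl⟩
        · obtain ⟨j, rfl⟩ := hw; exact Or.inr ⟨j, rfl⟩
      · rintro (⟨i, rfl⟩ | ⟨j, rfl⟩)
        · exact ⟨⟨x i, hx i⟩, Or.inl ⟨i, rfl⟩, rfl⟩
        · exact ⟨z' j, Or.inr ⟨j, rfl⟩, rfl⟩
    rw [h5] at h4
    exact h4



/-- Let A be a regular local ring with maximal ideal m and residue field K, and F_i(T_i) = T_i^{d_i} +
Σ_{k<d_i} c_{ik} T_i^k (1 ≤ i ≤ r) monic one-variable polynomials of degrees d_i ≥ 2 with all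
non-leading coefficients in m; put A' = A[T_1, …, T_r]/(F_1, …, F_r). Then (i) A' is local with
residue field K, and (ii) A' is regular if and only if the classes in m/m² of the constant terms
c_{i0} are linearly independent over K. -/
theorem result {A : Type u} [CommRing A]
    [IsRegularLocalRing A] {r : ℕ} (d : Fin r → ℕ) (hd : ∀ i, 2 ≤ d i) (c : Fin r → ℕ → A)
    (hc : ∀ i k, c i k ∈ maximalIdeal A) :
    let F : Fin r → MvPolynomial (Fin r) A := fun i =>
      MvPolynomial.X i ^ d i + (Finset.range (d i)).sum fun k => MvPolynomial.C (c i k) * MvPolynomial.X i ^ k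
    IsLocalRing (MvPolynomial (Fin r) A ⧸ Ideal.span (Set.range F)) ∧
    (∀ (M : Ideal (MvPolynomial (Fin r) A ⧸ Ideal.span (Set.range F))) [M.IsMaximal],
      Function.Surjective ((Ideal.Quotient.mk M).comp (algebraMap A _))) ∧
    (IsRegularRing (MvPolynomial (Fin r) A ⧸ Ideal.span (Set.range F)) ↔
      LinearIndependent (ResidueField A) (fun i => (maximalIdeal A).toCotangent ⟨c i 0, hc i 0⟩)) := by
  intro F
  classical
  set I : Ideal (MvPolynomial (Fin r) A) := Ideal.span (Set.range F) with hI
  let mk : MvPolynomial (Fin r) A →+* MvPolynomial (Fin r) A ⧸ I := Ideal.Quotient.mk I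
  have hmk_surj : Function.Surjective mk := Ideal.Quotient.mk_surjective
  have halg : algebraMap A (MvPolynomial (Fin r) A ⧸ I) = mk.comp MvPolynomial.C := rfl
  have hFI : ∀ i, mk (F i) = 0 := fun i =>
    Ideal.Quotient.eq_zero_iff_mem.mpr (Ideal.subset_span ⟨i, rfl⟩)
  let J₀ : Ideal (MvPolynomial (Fin r) A) :=
    (maximalIdeal A).map (MvPolynomial.C : A →+* MvPolynomial (Fin r) A) ⊔
      Ideal.span (Set.range (MvPolynomial.X : Fin r → MvPolynomial (Fin r) A))
  let J : Ideal (MvPolynomial (Fin r) A ⧸ I) := J₀.map mk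
  have hCJ₀ : ∀ a ∈ maximalIdeal A, MvPolynomial.C a ∈ J₀ := fun a ha =>
    Ideal.mem_sup_left (Ideal.mem_map_of_mem _ ha)
  have hXJ₀ : ∀ i, (MvPolynomial.X i : MvPolynomial (Fin r) A) ∈ J₀ := fun i =>
    Ideal.mem_sup_right (Ideal.subset_span ⟨i, rfl⟩)
  have hCJ : ∀ a ∈ maximalIdeal A, mk (MvPolynomial.C a) ∈ J := fun a ha =>
    Ideal.mem_map_of_mem _ (hCJ₀ a ha)
  have hXJ : ∀ i, mk (MvPolynomial.X i) ∈ J := fun i => Ideal.mem_map_of_mem _ (hXJ₀ i)
  have hrel : ∀ i, mk (MvPolynomial.X i) ^ d i =
      - ∑ k ∈ Finset.range (d i), mk (MvPolynomial.C (c i k)) * mk (MvPolynomial.X i) ^ k := by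
    intro i
    have := hFI i
    simp only [F, map_add, map_pow, map_sum, map_mul] at this
    exact eq_neg_of_add_eq_zero_left this
  -- the residue map
  let ρ₀ : MvPolynomial (Fin r) A →+* ResidueField A :=
    MvPolynomial.eval₂Hom (IsLocalRing.residue A) (fun _ => 0)
  have hρ₀C : ∀ a, ρ₀ (MvPolynomial.C a) = IsLocalRing.residue A a := fun a =>
    MvPolynomial.eval₂Hom_C _ _ a
  have hρ₀X : ∀ i, ρ₀ (MvPolynomial.X i) = 0 := fun i => MvPolynomial.eval₂Hom_X' _ _ i
  have hρ₀F : ∀ i, ρ₀ (F i) = 0 := by
    intro i
    simp only [F, map_add, map_pow, map_sum, map_mul, hρ₀C, hρ₀X]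
    rw [zero_pow (by have := hd i; omega), zero_add]
    refine Finset.sum_eq_zero fun k _ => ?_
    rw [(IsLocalRing.residue_eq_zero_iff _).mpr (hc i k), zero_mul]
  have hIker : ∀ a ∈ I, ρ₀ a = 0 := by
    intro a ha
    have : I ≤ RingHom.ker ρ₀ := Ideal.span_le.mpr (by rintro _ ⟨i, rfl⟩; exact hρ₀F i)
    exact this ha
  let ρ : MvPolynomial (Fin r) A ⧸ I →+* ResidueField A := Ideal.Quotient.lift I ρ₀ hIker
  have hρmk : ∀ P, ρ (mk P) = ρ₀ P := fun P => Ideal.Quotient.lift_mk _ _ _
  have hρsurj : Function.Surjective ρ := by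
    intro y
    obtain ⟨a, rfl⟩ := IsLocalRing.residue_surjective y
    exact ⟨mk (MvPolynomial.C a), by rw [hρmk, hρ₀C]⟩
  have hXker : Ideal.span (Set.range (MvPolynomial.X : Fin r → MvPolynomial (Fin r) A)) ≤
      RingHom.ker ρ₀ := Ideal.span_le.mpr (by rintro _ ⟨i, rfl⟩; exact hρ₀X i)
  have hρ₀cc : ∀ P, ρ₀ P = IsLocalRing.residue A (MvPolynomial.constantCoeff P) := by
    intro P
    have h1 := sub_C_constantCoeff_mem P
    have h2 : ρ₀ (P - MvPolynomial.C (MvPolynomial.constantCoeff P)) = 0 := hXker h1
    rw [map_sub, hρ₀C, sub_eq_zero] at h2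
    exact h2
  have hJ₀mem : ∀ P, P ∈ J₀ ↔ MvPolynomial.constantCoeff P ∈ maximalIdeal A := by
    intro P
    constructor
    · intro hP
      have h1 : J₀ ≤ RingHom.ker ρ₀ := by
        refine sup_le ?_ hXker
        rw [Ideal.map_le_iff_le_comap]
        intro a ha
        show ρ₀ (MvPolynomial.C a) = 0
        rw [hρ₀C, IsLocalRing.residue_eq_zero_iff]; exact ha
      have h2 : ρ₀ P = 0 := h1 hP
      rwa [hρ₀cc, IsLocalRing.residue_eq_zero_iff] at h2
    · intro hP
      have : P = (P - MvPolynomial.C (MvPolynomial.constantCoeff P)) +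
          MvPolynomial.C (MvPolynomial.constantCoeff P) := by ring
      rw [this]
      exact Ideal.add_mem _ (Ideal.mem_sup_right (sub_C_constantCoeff_mem P)) (hCJ₀ _ hP)
  have hkerρ : RingHom.ker ρ = J := by
    apply le_antisymm
    · intro x hx
      obtain ⟨P, rfl⟩ := hmk_surj x
      rw [RingHom.mem_ker, hρmk, hρ₀cc, IsLocalRing.residue_eq_zero_iff] at hx
      exact Ideal.mem_map_of_mem _ ((hJ₀mem P).mpr hx)
    · show J ≤ RingHom.ker ρ
      rw [Ideal.map_le_iff_le_comap]
      intro P hP
      show ρ (mk P) = 0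
      rw [hρmk, hρ₀cc, IsLocalRing.residue_eq_zero_iff]
      exact (hJ₀mem P).mp hP
  have hJmax : J.IsMaximal := by
    rw [← hkerρ]
    exact RingHom.ker_isMaximal_of_surjective ρ hρsurj
  -- integrality
  have hint : Algebra.IsIntegral A (MvPolynomial (Fin r) A ⧸ I) := by
    have hX : ∀ i, IsIntegral A (mk (MvPolynomial.X i)) := by
      intro i
      refine ⟨Polynomial.X ^ d i + ∑ k ∈ Finset.range (d i),
        Polynomial.C (c i k) * Polynomial.X ^ k, ?_, ?_⟩
      · apply Polynomial.monic_X_pow_add
        rw [Finset.sum_range]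
        exact Polynomial.degree_sum_fin_lt _
      · rw [halg, ← hFI i]
        simp only [F, Polynomial.eval₂_add, Polynomial.eval₂_pow, Polynomial.eval₂_X,
          Polynomial.eval₂_finsetSum, Polynomial.eval₂_mul, Polynomial.eval₂_C, map_add, map_pow,
          map_sum, map_mul, RingHom.comp_apply]
    refine ⟨fun x => ?_⟩
    obtain ⟨P, rfl⟩ := hmk_surj x
    induction P using MvPolynomial.induction_on with
    | C a => exact isIntegral_algebraMap (R := A) (x := a)
    | add p q hp hq => rw [map_add]; exact hp.add hq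
    | mul_X p i hp => rw [map_mul]; exact hp.mul (hX i)
  -- injectivity
  have hinj : Function.Injective (algebraMap A (MvPolynomial (Fin r) A ⧸ I)) := by
    obtain ⟨B, hB, φ, t, hφ, ht⟩ := exists_ext r A
      (fun i => Polynomial.X ^ d i + ∑ k ∈ Finset.range (d i),
        Polynomial.C (c i k) * Polynomial.X ^ k)
      (fun i => by
        apply Polynomial.monic_X_pow_add
        rw [Finset.sum_range]
        exact Polynomial.degree_sum_fin_lt _)
      (fun i => by
        have hlt : (∑ k ∈ Finset.range (d i), Polynomial.C (c i k) * Polynomial.X ^ k).degree <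
            (Polynomial.X ^ d i : Polynomial A).degree := by
          rw [Polynomial.degree_X_pow, Finset.sum_range]
          exact Polynomial.degree_sum_fin_lt _
        rw [Polynomial.natDegree_add_eq_left_of_degree_lt hlt, Polynomial.natDegree_X_pow]
        have := hd i; omega)
    let ψ₀ : MvPolynomial (Fin r) A →+* B := MvPolynomial.eval₂Hom φ t
    have hψ₀F : ∀ i, ψ₀ (F i) = 0 := by
      intro i
      rw [← ht i]
      simp only [F, ψ₀, map_add, map_pow, map_sum, map_mul, MvPolynomial.eval₂Hom_C,
        MvPolynomial.eval₂Hom_X', Polynomial.eval₂_add, Polynomial.eval₂_pow, Polynomial.eval₂_X,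
        Polynomial.eval₂_finsetSum, Polynomial.eval₂_mul, Polynomial.eval₂_C]
    have hIψ : I ≤ RingHom.ker ψ₀ := Ideal.span_le.mpr (by rintro _ ⟨i, rfl⟩; exact hψ₀F i)
    rw [injective_iff_map_eq_zero]
    intro a ha
    rw [halg, RingHom.comp_apply] at ha
    have h1 : MvPolynomial.C a ∈ I := Ideal.Quotient.eq_zero_iff_mem.mp ha
    have h2 : ψ₀ (MvPolynomial.C a) = 0 := hIψ h1
    rw [MvPolynomial.eval₂Hom_C] at h2
    exact hφ (by rw [h2, map_zero])
  -- uniqueness of the maximal ideal
  have huniq : ∀ M : Ideal (MvPolynomial (Fin r) A ⧸ I), M.IsMaximal → M = J := by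
    intro M hM
    have hMp : M.IsPrime := hM.isPrime
    have h1 : (M.comap (algebraMap A (MvPolynomial (Fin r) A ⧸ I))).IsMaximal :=
      Ideal.isMaximal_comap_of_isIntegral_of_isMaximal M
    have h2 := IsLocalRing.eq_maximalIdeal h1
    have hC : ∀ a ∈ maximalIdeal A, mk (MvPolynomial.C a) ∈ M := by
      intro a ha
      rw [← h2] at ha
      exact ha
    have hX : ∀ i, mk (MvPolynomial.X i) ∈ M := by
      intro i
      apply hMp.mem_of_pow_mem (d i)
      rw [hrel i]
      exact neg_mem (Ideal.sum_mem _ fun k _ => Ideal.mul_mem_right _ _ (hC _ (hc i k)))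
    have hJM : J ≤ M := by
      rw [Ideal.map_le_iff_le_comap]
      refine sup_le ?_ ?_
      · rw [Ideal.map_le_iff_le_comap]
        intro a ha
        exact hC a ha
      · rw [Ideal.span_le]
        rintro _ ⟨i, rfl⟩
        exact hX i
    exact (hJmax.eq_of_le hM.ne_top hJM).symm
  have hloc : IsLocalRing (MvPolynomial (Fin r) A ⧸ I) :=
    IsLocalRing.of_unique_max_ideal ⟨J, hJmax, fun M hM => huniq M hM⟩
  have hmaxJ : maximalIdeal (MvPolynomial (Fin r) A ⧸ I) = J :=
    huniq _ (maximalIdeal.isMaximal _)
  refine ⟨hloc, ?_, ?_⟩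
  · intro M hM y
    obtain ⟨x, rfl⟩ := Ideal.Quotient.mk_surjective y
    obtain ⟨P, rfl⟩ := hmk_surj x
    refine ⟨MvPolynomial.constantCoeff P, ?_⟩
    rw [RingHom.comp_apply, Ideal.Quotient.eq, huniq M hM, halg, RingHom.comp_apply]
    rw [← map_sub, ← neg_sub, map_neg]
    exact neg_mem
      (Ideal.mem_map_of_mem _ (Ideal.mem_sup_right (sub_C_constantCoeff_mem P)))
  · have hdim : ringKrullDim (MvPolynomial (Fin r) A ⧸ I) = ringKrullDim A :=
      Groth.Agent.Lib.Helper55.ringKrullDim_eq_of_isIntegral_of_injective A _ hinj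
    have hnoeth : IsNoetherianRing (MvPolynomial (Fin r) A ⧸ I) := inferInstance
    have hregA : (Module.finrank (ResidueField A) (CotangentSpace A) : WithBot ℕ∞) =
        ringKrullDim A := (IsRegularLocalRing.iff_finrank_cotangentSpace A).mp inferInstance
    have hRR : IsRegularRing (MvPolynomial (Fin r) A ⧸ I) ↔
        IsRegularLocalRing (MvPolynomial (Fin r) A ⧸ I) := by
      constructor
      · intro h; exact IsRegularLocalRing.of_isRegularRing_of_isLocalRing _
      · intro h; exact isRegularRing_iff.mpr fun p _ => Groth.Agent.S0564.result _ p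
    have hccF : ∀ i, MvPolynomial.constantCoeff (F i) = c i 0 := by
      intro i
      simp only [F, map_add, map_pow, map_sum, map_mul, MvPolynomial.constantCoeff_X,
        MvPolynomial.constantCoeff_C]
      rw [zero_pow (by have := hd i; omega), zero_add, Finset.sum_eq_single 0]
      · simp
      · intro k _ hk; rw [zero_pow hk, mul_zero]
      · intro h; exfalso; apply h; rw [Finset.mem_range]; have := hd i; omega
    rw [hRR]
    constructor
    · -- regular implies independent
      intro hreg
      have hregA' : (Module.finrank (ResidueField (MvPolynomial (Fin r) A ⧸ I))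
          (CotangentSpace (MvPolynomial (Fin r) A ⧸ I)) : WithBot ℕ∞) =
          ringKrullDim (MvPolynomial (Fin r) A ⧸ I) :=
        (IsRegularLocalRing.iff_finrank_cotangentSpace _).mp hreg
      have hfr : Module.finrank (ResidueField (MvPolynomial (Fin r) A ⧸ I))
          (CotangentSpace (MvPolynomial (Fin r) A ⧸ I)) =
          Module.finrank (ResidueField A) (CotangentSpace A) := by
        have h1 : (Module.finrank (ResidueField (MvPolynomial (Fin r) A ⧸ I))
            (CotangentSpace (MvPolynomial (Fin r) A ⧸ I)) : WithBot ℕ∞) =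
            (Module.finrank (ResidueField A) (CotangentSpace A) : WithBot ℕ∞) := by
          rw [hregA', hdim, hregA]
        exact_mod_cast h1
      have hXm : ∀ i, mk (MvPolynomial.X i) ∈ maximalIdeal (MvPolynomial (Fin r) A ⧸ I) :=
        fun i => by rw [hmaxJ]; exact hXJ i
      have hliX : LinearIndependent (ResidueField (MvPolynomial (Fin r) A ⧸ I))
          (fun i => (maximalIdeal (MvPolynomial (Fin r) A ⧸ I)).toCotangent
            ⟨mk (MvPolynomial.X i), hXm i⟩) := by
        rw [li_cotangent_iff]
        intro a' ha' i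
        choose Q hQ using fun j => hmk_surj (a' j)
        have h1 : mk (∑ j, Q j * MvPolynomial.X j) ∈ (J₀ ^ 2).map mk := by
          rw [Ideal.map_pow, map_sum]
          simp only [map_mul, hQ]
          rw [hmaxJ] at ha'
          exact ha'
        have h2 : ∑ j, Q j * MvPolynomial.X j ∈ J₀ ^ 2 ⊔ I := by
          have := Ideal.mem_comap.mpr h1
          rwa [Ideal.comap_map_of_surjective mk hmk_surj, ← RingHom.ker_eq_comap_bot,
            Ideal.mk_ker] at this
        let Dh : MvPolynomial (Fin r) A →+*
            TrivSqZeroExt (ResidueField A) (ResidueField A) :=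
          MvPolynomial.eval₂Hom
            ((TrivSqZeroExt.inlHom (ResidueField A) (ResidueField A)).comp (residue A))
            (fun j => if j = i then TrivSqZeroExt.inr 1 else 0)
        have hDC : ∀ a, Dh (MvPolynomial.C a) = TrivSqZeroExt.inl (residue A a) := fun a =>
          MvPolynomial.eval₂Hom_C _ _ a
        have hDX : ∀ j, Dh (MvPolynomial.X j) =
            if j = i then TrivSqZeroExt.inr 1 else 0 := fun j =>
          MvPolynomial.eval₂Hom_X' _ _ j
        have hfst : ∀ P, (Dh P).fst = ρ₀ P := by
          intro P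
          have h3 : ((TrivSqZeroExt.fstHom (ResidueField A) (ResidueField A)
              (ResidueField A) : _ →+* _).comp Dh : MvPolynomial (Fin r) A →+* ResidueField A)
              = ρ₀ := by
            apply MvPolynomial.ringHom_ext
            · intro a
              rw [RingHom.comp_apply, hDC, hρ₀C]
              rfl
            · intro j
              rw [RingHom.comp_apply, hDX, hρ₀X]
              split_ifs <;> rfl
          exact RingHom.congr_fun h3 P
        have hmul0 : ∀ x y : TrivSqZeroExt (ResidueField A) (ResidueField A),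
            x.fst = 0 → y.fst = 0 → x * y = 0 := by
          intro x y hx hy
          apply TrivSqZeroExt.ext
          · rw [TrivSqZeroExt.fst_mul, hx, zero_mul]; rfl
          · rw [TrivSqZeroExt.snd_mul, hx, hy]; simp
        have hDJ₀ : ∀ p ∈ J₀, (Dh p).fst = 0 := by
          intro p hp
          rw [hfst, hρ₀cc, residue_eq_zero_iff]
          exact (hJ₀mem p).mp hp
        have hDJ₀sq : ∀ u ∈ J₀ ^ 2, Dh u = 0 := by
          intro u hu
          rw [pow_two] at hu
          refine Submodule.mul_induction_on hu (fun p hp q hq => ?_) (fun x y hx hy => ?_)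
          · rw [map_mul]
            exact hmul0 _ _ (hDJ₀ p hp) (hDJ₀ q hq)
          · rw [map_add, hx, hy, add_zero]
        have hDI : ∀ v ∈ I, Dh v = 0 := by
          intro v hv
          have h3 : I ≤ RingHom.ker Dh := Ideal.span_le.mpr (by
            rintro _ ⟨j, rfl⟩
            show Dh (F j) = 0
            simp only [F, map_add, map_pow, map_sum, map_mul, hDC, hDX]
            have hpow : (if j = i then (TrivSqZeroExt.inr 1 :
                TrivSqZeroExt (ResidueField A) (ResidueField A)) else 0) ^ d j = 0 := by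
              obtain ⟨e, he⟩ : ∃ e, d j = e + 2 := ⟨d j - 2, by have := hd j; omega⟩
              rw [he, pow_add, pow_two]
              split_ifs
              · rw [TrivSqZeroExt.inr_mul_inr, mul_zero]
              · rw [mul_zero, mul_zero]
            rw [hpow, zero_add]
            refine Finset.sum_eq_zero fun k _ => ?_
            rw [(residue_eq_zero_iff _).mpr (hc j k), TrivSqZeroExt.inl_zero, zero_mul])
          exact h3 hv
        obtain ⟨u, hu, v, hv, huv⟩ := Submodule.mem_sup.mp h2
        have h3 : Dh (∑ j, Q j * MvPolynomial.X j) = 0 := by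
          rw [← huv, map_add, hDJ₀sq u hu, hDI v hv, add_zero]
        have h4 : Dh (∑ j, Q j * MvPolynomial.X j) = Dh (Q i) * TrivSqZeroExt.inr 1 := by
          rw [map_sum, Finset.sum_eq_single i]
          · rw [map_mul, hDX, if_pos rfl]
          · intro j _ hj; rw [map_mul, hDX, if_neg hj, mul_zero]
          · intro h; exact absurd (Finset.mem_univ i) h
        have h5 : (Dh (Q i)).fst = 0 := by
          have h6 := congrArg TrivSqZeroExt.snd (h4.symm.trans h3)
          simpa [TrivSqZeroExt.snd_mul] using h6
        have hcc : MvPolynomial.constantCoeff (Q i) ∈ maximalIdeal A := by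
          rw [hfst, hρ₀cc, residue_eq_zero_iff] at h5; exact h5
        rw [hmaxJ, ← hQ i]
        exact Ideal.mem_map_of_mem _ ((hJ₀mem _).mpr hcc)
      obtain ⟨s, z', hrs, hz', hspan'⟩ :=
        exists_extend_gens (fun i => mk (MvPolynomial.X i)) hXm hliX
      choose P hP using fun j => hmk_surj (z' j)
      have hy : ∀ j, MvPolynomial.constantCoeff (P j) ∈ maximalIdeal A := by
        intro j
        have h1 : mk (P j) ∈ J := by rw [hP j, ← hmaxJ]; exact hz' j
        rw [← hkerρ, RingHom.mem_ker, hρmk, hρ₀cc, residue_eq_zero_iff] at h1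
        exact h1
      have hmspan : Ideal.span (Set.range (fun i => c i 0) ∪
          Set.range (fun j => MvPolynomial.constantCoeff (P j))) = maximalIdeal A := by
        apply le_antisymm
        · rw [Ideal.span_le]
          rintro _ (⟨i, rfl⟩ | ⟨j, rfl⟩)
          · exact hc i 0
          · exact hy j
        · intro a ha
          have h1 : mk (MvPolynomial.C a) ∈ Ideal.span (Set.range (fun i => mk (MvPolynomial.X i)) ∪
              Set.range z') := by rw [hspan', hmaxJ]; exact hCJ a ha
          have h2 : Ideal.span (Set.range (fun i => mk (MvPolynomial.X i)) ∪ Set.range z') =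
              (Ideal.span (Set.range (MvPolynomial.X : Fin r → MvPolynomial (Fin r) A) ∪
                Set.range P)).map mk := by
            rw [Ideal.map_span, Set.image_union, ← Set.range_comp, ← Set.range_comp]
            have h3 : (mk ∘ P : Fin s → _) = z' := funext hP
            rw [h3]
            rfl
          rw [h2] at h1
          have h3 : MvPolynomial.C a ∈ Ideal.span (Set.range (MvPolynomial.X :
              Fin r → MvPolynomial (Fin r) A) ∪ Set.range P) ⊔ I := by
            have := Ideal.mem_comap.mpr h1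
            rwa [Ideal.comap_map_of_surjective mk hmk_surj, ← RingHom.ker_eq_comap_bot,
              Ideal.mk_ker] at this
          have h4 : (Ideal.span (Set.range (MvPolynomial.X : Fin r → MvPolynomial (Fin r) A) ∪
              Set.range P) ⊔ I).map (MvPolynomial.constantCoeff : MvPolynomial (Fin r) A →+* A) ≤
              Ideal.span (Set.range (fun i => c i 0) ∪
                Set.range (fun j => MvPolynomial.constantCoeff (P j))) := by
            rw [Ideal.map_sup, Ideal.map_span, Ideal.map_span]
            refine sup_le ?_ ?_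
            · rw [Ideal.span_le]
              rintro _ ⟨_, (⟨i, rfl⟩ | ⟨j, rfl⟩), rfl⟩
              · rw [MvPolynomial.constantCoeff_X]; exact Ideal.zero_mem _
              · exact Ideal.subset_span (Or.inr ⟨j, rfl⟩)
            · rw [Ideal.span_le]
              rintro _ ⟨_, ⟨i, rfl⟩, rfl⟩
              rw [hccF i]
              exact Ideal.subset_span (Or.inl ⟨i, rfl⟩)
          have h5 := h4 (Ideal.mem_map_of_mem _ h3)
          rwa [MvPolynomial.constantCoeff_C] at h5
      let w : Fin r ⊕ Fin s → CotangentSpace A :=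
        Sum.elim (fun i => (maximalIdeal A).toCotangent ⟨c i 0, hc i 0⟩)
          (fun j => (maximalIdeal A).toCotangent ⟨MvPolynomial.constantCoeff (P j), hy j⟩)
      have hwspan : ⊤ ≤ Submodule.span (ResidueField A) (Set.range w) := by
        let S : Set (maximalIdeal A) :=
          Set.range (fun i => (⟨c i 0, hc i 0⟩ : maximalIdeal A)) ∪
            Set.range (fun j => (⟨MvPolynomial.constantCoeff (P j), hy j⟩ : maximalIdeal A))
        have hS : Submodule.span A S = ⊤ := by
          apply Submodule.map_injective_of_injective (Submodule.injective_subtype (maximalIdeal A))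
          rw [Submodule.map_span, Submodule.map_subtype_top]
          have h1 : (maximalIdeal A).subtype '' S = Set.range (fun i => c i 0) ∪
              Set.range (fun j => MvPolynomial.constantCoeff (P j)) := by
            ext y
            constructor
            · rintro ⟨_, (⟨i, rfl⟩ | ⟨j, rfl⟩), rfl⟩
              · exact Or.inl ⟨i, rfl⟩
              · exact Or.inr ⟨j, rfl⟩
            · rintro (⟨i, rfl⟩ | ⟨j, rfl⟩)
              · exact ⟨⟨c i 0, hc i 0⟩, Or.inl ⟨i, rfl⟩, rfl⟩
              · exact ⟨⟨MvPolynomial.constantCoeff (P j), hy j⟩, Or.inr ⟨j, rfl⟩, rfl⟩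
          rw [h1]
          exact hmspan
        have h2 := CotangentSpace.span_image_eq_top_iff.mpr hS
        rw [← h2]
        apply Submodule.span_mono
        rintro _ ⟨_, (⟨i, rfl⟩ | ⟨j, rfl⟩), rfl⟩
        · exact ⟨Sum.inl i, rfl⟩
        · exact ⟨Sum.inr j, rfl⟩
      have hcard : Fintype.card (Fin r ⊕ Fin s) =
          Module.finrank (ResidueField A) (CotangentSpace A) := by
        rw [Fintype.card_sum, Fintype.card_fin, Fintype.card_fin, hrs, hfr]
      have hwli := linearIndependent_of_top_le_span_of_card_eq_finrank hwspan hcard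
      exact hwli.comp Sum.inl Sum.inl_injective
    · -- independent implies regular
      intro hli
      obtain ⟨s, z, hrs, hz, hspan⟩ :=
        exists_extend_gens (fun i => c i 0) (fun i => hc i 0) hli
      apply IsRegularLocalRing.of_spanFinrank_maximalIdeal_le
      let t : Finset (MvPolynomial (Fin r) A ⧸ I) :=
        (Finset.univ.image fun i => mk (MvPolynomial.X i)) ∪
          (Finset.univ.image fun j => mk (MvPolynomial.C (z j)))
      have htcard : t.card ≤ r + s := by
        refine (Finset.card_union_le _ _).trans (add_le_add ?_ ?_)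
        · exact Finset.card_image_le.trans (by simp)
        · exact Finset.card_image_le.trans (by simp)
      have hXt : ∀ i, mk (MvPolynomial.X i) ∈ Ideal.span (t : Set (MvPolynomial (Fin r) A ⧸ I)) :=
        fun i => Ideal.subset_span (by
          rw [Finset.mem_coe, Finset.mem_union]
          exact Or.inl (Finset.mem_image.mpr ⟨i, Finset.mem_univ _, rfl⟩))
      have hzt : ∀ j, mk (MvPolynomial.C (z j)) ∈
          Ideal.span (t : Set (MvPolynomial (Fin r) A ⧸ I)) :=
        fun j => Ideal.subset_span (by
          rw [Finset.mem_coe, Finset.mem_union]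
          exact Or.inr (Finset.mem_image.mpr ⟨j, Finset.mem_univ _, rfl⟩))
      have hc0t : ∀ i, mk (MvPolynomial.C (c i 0)) ∈
          Ideal.span (t : Set (MvPolynomial (Fin r) A ⧸ I)) := by
        intro i
        have hd2 := hd i
        have h0 : mk (MvPolynomial.C (c i 0)) = -(mk (MvPolynomial.X i) ^ d i +
            ∑ k ∈ Finset.Ico 1 (d i), mk (MvPolynomial.C (c i k)) * mk (MvPolynomial.X i) ^ k) := by
          have := hFI i
          simp only [F, map_add, map_pow, map_sum, map_mul] at this
          rw [Finset.sum_range_eq_add_Ico _ (by omega : 0 < d i), pow_zero, mul_one] at this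
          linear_combination this
        rw [h0]
        apply neg_mem
        apply Ideal.add_mem
        · exact Ideal.pow_mem_of_mem _ (hXt i) _ (by omega)
        · refine Ideal.sum_mem _ fun k hk => Ideal.mul_mem_left _ _ ?_
          exact Ideal.pow_mem_of_mem _ (hXt i) _ (Finset.mem_Ico.mp hk).1
      have hCt : (maximalIdeal A).map (mk.comp MvPolynomial.C) ≤
          Ideal.span (t : Set (MvPolynomial (Fin r) A ⧸ I)) := by
        rw [← hspan, Ideal.map_span, Ideal.span_le]
        rintro _ ⟨_, (⟨i, rfl⟩ | ⟨j, rfl⟩), rfl⟩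
        · exact hc0t i
        · exact hzt j
      have hJt : J = Ideal.span (t : Set (MvPolynomial (Fin r) A ⧸ I)) := by
        apply le_antisymm
        · rw [Ideal.map_le_iff_le_comap]
          refine sup_le ?_ ?_
          · rw [Ideal.map_le_iff_le_comap]
            intro a ha
            exact hCt (Ideal.mem_map_of_mem (mk.comp MvPolynomial.C) ha)
          · rw [Ideal.span_le]
            rintro _ ⟨i, rfl⟩
            exact hXt i
        · rw [Ideal.span_le]
          intro x hx
          rw [Finset.mem_coe, Finset.mem_union, Finset.mem_image, Finset.mem_image] at hx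
          rcases hx with ⟨i, -, rfl⟩ | ⟨j, -, rfl⟩
          · exact hXJ i
          · exact hCJ _ (hz j)
      rw [hmaxJ, hJt, hdim, ← hregA]
      have h1 := Submodule.spanFinrank_span_le_ncard_of_finite
        (R := MvPolynomial (Fin r) A ⧸ I) t.finite_toSet
      rw [Set.ncard_coe_finset] at h1
      have h2 : (Ideal.span (t : Set (MvPolynomial (Fin r) A ⧸ I))).spanFinrank ≤
          Module.finrank (ResidueField A) (CotangentSpace A) := by
        rw [← hrs]; exact h1.trans htcard
      exact_mod_cast h2

end Groth.Agent.S4588
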