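import Groth.Statements.S4595
import Mathlib
import Groth.Agent.Lib.Helper88.PQuotKaehler

set_option autoImplicit false
universe u
open TensorProduct IsLocalRing
open EGA41

namespace Groth.Agent.S4595

open Groth.Agent.Lib.Helper88.PQuot in
theorem main {A : Type u} [CommRing A] [IsArtinianRing A] [IsLocalRing A]
    (hm : maximalIdeal A ^ 2 = ⊥) (p : ℕ) [Fact p.Prime] [CharP A p] {r : ℕ} (f : Fin r → A)
    [IsLocalRing (Bq p f)] :
    Module.finrank (ResidueField A) (CotangentSpace A) =
        Module.finrank (ResidueField (Bq p f)) (CotangentSpace (Bq p f)) ↔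
      LinearIndependent (ResidueField A)
        (fun i => (1 : ResidueField A) ⊗ₜ[A] KaehlerDifferential.D ℤ A (f i)) := by
  classical
  have hK : CharP (ResidueField A) p := charP_residueField p
  have hlh : IsLocalHom (algebraMap A (Bq p f)) := isLocalHom p f hm
  have hP1 := charP_bot p (ResidueField A)
  have hP2 := perfectRing_bot p (ResidueField A)
  -- a `p`-independent subfamily of the residues
  obtain ⟨Γ, hΓs, hΓ, hadj'⟩ := exists_pIndep_subset (p := p)
    (k := (⊥ : Subfield (ResidueField A))) (Finset.univ.image (fun j => residue A (f j)))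
  have hadj : ∀ j, residue A (f j) ∈ Algebra.adjoin
      (EGA41.pPowerSubalgebra p (⊥ : Subfield (ResidueField A)) (ResidueField A)) Γ :=
    fun j => hadj' _ (Finset.mem_image_of_mem _ (Finset.mem_univ j))
  have hex : ∀ y : Γ, ∃ j, residue A (f j) = y := fun y => by
    have := hΓs y.2
    simpa using this
  choose g hg using hex
  -- the coefficient field
  obtain ⟨σ, hσ, hσΓ⟩ := exists_section hm hK Γ hΓ (fun y => f (g y)) hg
  choose H hH using fun j => exists_frobEval_eq (k := (⊥ : Subfield (ResidueField A))) Γ
    (residue A (f j)) (hadj j)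
  have hcount := finrank_cotangentSpace_Bq hσ hσΓ hm H hH hΓ
  rw [li_differentials_iff hσ hσΓ hm hΓ hadj, linearIndependent_iff_card_eq_finrank_span,
    Set.finrank]
  rw [Nat.card_eq_fintype_card] at hcount
  constructor
  · intro h
    omega
  · intro h
    omega

/-- Let A be an Artinian local ring of characteristic p > 0 with maximal ideal m of square zero and
residue field K, f_1, …, f_r ∈ A, and B = A[T_1, …, T_r]/(T_1^p − f_1, …, T_r^p − f_r). Then B is
local, and dim_K m = dim_{K'}(m'/m'²) (m', K' the maximal ideal and residue field of B) if and only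
if the d f_i ⊗ 1 are linearly independent in Ω_A ⊗_A K. -/
theorem result {A : Type u} [CommRing A]
    [IsArtinianRing A] [IsLocalRing A] (hm : maximalIdeal A ^ 2 = ⊥) (p : ℕ) [Fact p.Prime] [CharP A p]
    {r : ℕ} (f : Fin r → A) :
    let B := MvPolynomial (Fin r) A ⧸ Ideal.span (Set.range fun i => MvPolynomial.X i ^ p - MvPolynomial.C (f i))
    ∃ _ : IsLocalRing B,
      (Module.finrank (ResidueField A) (CotangentSpace A) = Module.finrank (ResidueField B) (CotangentSpace B) ↔
        LinearIndependent (ResidueField A) (fun i => (1 : ResidueField A) ⊗ₜ[A] KaehlerDifferential.D ℤ A (f i))) := by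
  intro B
  exact ⟨Groth.Agent.Lib.Helper88.PQuot.isLocalRing p f hm,
    @main A _ _ _ hm p _ _ r f (Groth.Agent.Lib.Helper88.PQuot.isLocalRing p f hm)⟩

end Groth.Agent.S4595
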