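import Groth.Statements.S4573
import Mathlib
import Groth.Agent.S2471
import Groth.Agent.S2451
import Groth.Agent.Lib.Helper88.FSKaehler
import Groth.Agent.Lib.Helper90.SmoothRegular3

set_option autoImplicit false
universe u
open TensorProduct IsLocalRing
open EGA41

namespace Groth.Agent.S4573

/-- field extensions in characteristic zero are formally smooth -/
theorem formallySmooth_of_charZero (k K : Type u) [Field k] [Field K] [Algebra k K] [CharZero k] :
    Algebra.FormallySmooth k K := by
  have : CharZero K := charZero_of_injective_algebraMap (algebraMap k K).injective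
  obtain ⟨s, hs⟩ := exists_isTranscendenceBasis k K
  have halg : Algebra.IsAlgebraic (IntermediateField.adjoin k (Set.range ((↑) : s → K))) K :=
    hs.isAlgebraic_field
  exact Algebra.FormallySmooth.of_algebraicIndependent_of_isSeparable hs.1


/-- Let k be a field of characteristic exponent p and A a Noetherian local k-algebra. Then A is formally
smooth over k for the adic topology of its maximal ideal if and only if, for every finite extension
k' of k with k'^p ⊆ k, the ring k' ⊗_k A is regular. -/
theorem result {k A : Type u} [Field k] (p : ℕ)
    [ExpChar k p] [CommRing A] [IsLocalRing A] [IsNoetherianRing A] [Algebra k A] :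
    CAlgX.IsAdicFormallySmooth k A (maximalIdeal A) ↔
      ∀ (k' : Type u) [Field k'] [Algebra k k'], Module.Finite k k' →
        (∀ x : k', x ^ p ∈ (algebraMap k k').range) → IsRegularRing (k' ⊗[k] A) := by
  constructor
  · intro h k' _ _ hfin _
    have := hfin
    exact Groth.Agent.Lib.Helper90.SmoothRegular.isRegularRing_tensor_of_smooth h k'
  · intro H
    -- `A` is regular
    have hregA : IsRegularRing A := by
      have h1 : IsRegularRing (k ⊗[k] A) := H k (Module.Finite.self k) (fun x => ⟨x ^ p, rfl⟩)
      exact IsRegularRing.of_ringEquiv (Algebra.TensorProduct.lid k A).toRingEquiv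
    have hregL : IsRegularLocalRing A := IsRegularLocalRing.of_isRegularRing_of_isLocalRing A
    rcases ‹ExpChar k p› with _ | ⟨hprime⟩
    · -- characteristic zero
      have hfs : Algebra.FormallySmooth k (ResidueField A) :=
        formallySmooth_of_charZero k (ResidueField A)
      have hgr : Algebra.IsGeometricallyReduced k (ResidueField A) :=
        Groth.Agent.S2451.result.mp hfs
      exact Groth.Agent.Lib.Helper90.SmoothRegular.smooth_of_regular
    · -- characteristic `p`
      have : Fact p.Prime := ⟨hprime⟩
      exact Groth.Agent.S2471.result.mpr
        ⟨hregL, Groth.Agent.Lib.Helper88.FSKaehler.injective_of_radReg p H⟩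

end Groth.Agent.S4573
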