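import Groth.Statements.S19379
-- import your own Groth.Agent.* helpers here
import Mathlib
import Groth.Agent.Lib.Helper47.SmoothFlat
import Groth.Agent.Lib.Helper90.GeomRegBridge
import Groth.Agent.Lib.Helper62.LocalJacobianAdic

set_option autoImplicit false
universe u
open CAlg

namespace Groth.Agent.S19379

/-- Let A and B be Noetherian rings and let B be an A-algebra which is formally smooth for the discrete
topologies. Then A → B is a regular homomorphism, that is, flat with (Noetherian) geometrically
regular fibres. -/
theorem result
    (A B : Type u) [CommRing A] [CommRing B] [Algebra A B]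
    [IsNoetherianRing A] [IsNoetherianRing B] [Algebra.FormallySmooth A B] :
    CAlg.IsRegularHom A B := by
  refine ⟨?_, fun p hp => ?_⟩
  · -- flatness, checked at the maximal ideals of `B`
    refine Module.flat_of_isLocalized_maximal B B (fun P _ => Localization.AtPrime P)
      (fun P _ => Algebra.linearMap B (Localization.AtPrime P)) (fun P hP => ?_)
    let p : Ideal A := P.under A
    let _ : Algebra (Localization.AtPrime p) (Localization.AtPrime P) :=
      Localization.AtPrime.algebraOfLiesOver p P
    have hfs : Algebra.FormallySmooth (Localization.AtPrime p) (Localization.AtPrime P) :=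
      Algebra.FormallySmooth.localization_base p.primeCompl
    have hloc : IsLocalHom (algebraMap (Localization.AtPrime p) (Localization.AtPrime P)) := by
      show IsLocalHom (Localization.localRingHom p P (algebraMap A B) Ideal.LiesOver.over)
      infer_instance
    have hflat : Module.Flat (Localization.AtPrime p) (Localization.AtPrime P) :=
      Groth.Agent.Lib.Helper47.SmoothFlat.flat_of_isAdicFormallySmooth
        (Groth.Agent.Lib.Helper62.LocalJacobianAdic.isAdicFormallySmooth_of_formallySmooth _)
    exact Module.Flat.trans A (Localization.AtPrime p) (Localization.AtPrime P)
  · have hN : IsNoetherianRing (p.Fiber B) := by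
      have h1 : IsNoetherianRing (TensorProduct A B p.ResidueField) :=
        Algebra.EssFiniteType.isNoetherianRing B _
      exact isNoetherianRing_of_ringEquiv _
        (Algebra.TensorProduct.comm A B p.ResidueField).toRingEquiv
    refine ⟨hN, ?_⟩
    exact Groth.Agent.Lib.Helper90.GeomRegBridge.isGeometricallyRegular_iff.mpr fun q _ =>
      Groth.Agent.Lib.Helper62.LocalJacobianAdic.isAdicFormallySmooth_of_formallySmooth _

end Groth.Agent.S19379
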