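import Groth.Statements.S9294
import Groth.Agent.Lib.Helper73.GeomFibreComp

set_option maxSynthPendingDepth 3

set_option autoImplicit false
universe u
open CAlg

namespace Groth.Agent.S9294

/-- If A → B and B → C are regular ring maps and every fibre ring of the composite A → C is Noetherian,
the composite is regular. -/
theorem result (A B C : Type u) [CommRing A] [CommRing B] [CommRing C]
    [Algebra A B] [Algebra B C] [Algebra A C] [IsScalarTower A B C]
    (hAB : CAlg.IsRegularHom A B) (hBC : CAlg.IsRegularHom B C)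
    (hN : ∀ (p : Ideal A) [p.IsPrime], IsNoetherianRing (p.Fiber C)) :
    CAlg.IsRegularHom A C := by
  obtain ⟨hflatAB, hfibAB⟩ := hAB
  obtain ⟨hflatBC, hfibBC⟩ := hBC
  refine ⟨Module.Flat.trans A B C, fun p _ => ⟨hN p, ?_⟩⟩
  intro k' _ _ hfin
  have hB' := (hfibAB p).2 k' hfin
  have hNB := (hfibAB p).1
  have hNC := hN p
  exact Groth.Agent.Lib.Helper73.geomFibre_comp (fun R _ => IsRegularRing R)
    (fun R R' _ _ e h => IsRegularRing.of_ringEquiv e)
    (fun R S _ _ _ _ _ _ hR hf => Groth.Agent.Lib.Helper73.isRegularRing_of_flat_of_fibers hR hf)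
    A B C (fun q _ k'' _ _ hfin'' => (hfibBC q).2 k'' hfin'') p k' hfin hB'
    (Groth.Agent.Lib.Helper73.isNoetherianRing_tensor_of_finite _ k' _)
    (Groth.Agent.Lib.Helper73.isNoetherianRing_tensor_of_finite _ k' _)

end Groth.Agent.S9294
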