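import Groth.Statements.S4704
import Groth.Agent.Lib.Helper73.CplMap
import Groth.Agent.Lib.Helper29.FibreDescent
import Groth.Agent.S9294
import Groth.Agent.S9295

set_option maxSynthPendingDepth 3

set_option autoImplicit false
universe u
open EGA4

namespace Groth.Agent.S4704

/-- Let A → A' be a local homomorphism of Noetherian local rings which is regular (flat, with
geometrically regular fibres). If the completion map of A' is regular (the formal fibres of A' are
geometrically regular), then the completion map of A is regular. -/
theorem result (A A' : Type u) [CommRing A] [CommRing A'] [IsNoetherianRing A]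
    [IsNoetherianRing A'] [IsLocalRing A] [IsLocalRing A'] [Algebra A A'] [IsLocalHom (algebraMap A A')]
    (hf : CAlg.IsRegularHom A A') (hA' : CAlg.IsRegularHom A' (EGA4.Cpl A')) :
    CAlg.IsRegularHom A (EGA4.Cpl A) := by
  classical
  have hflat : Module.Flat A A' := hf.1
  letI := Groth.Agent.Lib.Helper73.CplMap.cplAlgebra A A'
  have hN : IsNoetherianRing (EGA4.Cpl A') :=
    Groth.Agent.Lib.Helper73.CplMap.isNoetherianRing_cpl A'
  have hAC : CAlg.IsRegularHom A (EGA4.Cpl A') :=
    Groth.Agent.S9294.result A A' (EGA4.Cpl A') hf hA'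
      (fun p _ => Groth.Agent.Lib.Helper29.isNoetherianRing_fiber A (EGA4.Cpl A') p)
  have hfl := Groth.Agent.Lib.Helper73.CplMap.flat_cpl A A'
  have hff := Groth.Agent.Lib.Helper73.CplMap.faithfullyFlat_cpl A A'
  exact Groth.Agent.S9295.result A (EGA4.Cpl A) (EGA4.Cpl A') hAC
    PrimeSpectrum.comap_surjective_of_faithfullyFlat

end Groth.Agent.S4704
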