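import Groth.Statements.S9407
import Mathlib

set_option autoImplicit false
universe u
open CAlg

namespace Groth.Agent.S9407

theorem natDegree_eq_zero_of_isIntegral_of_isDomain (A : Type u) [CommRing A] [IsDomain A]
    (y : Polynomial A) (hy : IsIntegral A y) : y.natDegree = 0 := by
  obtain ⟨p, hpm, hp⟩ := hy
  have hp' : p.comp y = 0 := by
    rw [Polynomial.comp]
    simpa [Polynomial.algebraMap_eq] using hp
  have hdeg := Polynomial.natDegree_comp (p := p) (q := y)
  rw [hp', Polynomial.natDegree_zero] at hdeg
  by_contra hne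
  have hp0 : p.natDegree = 0 := by
    rcases Nat.eq_zero_or_pos p.natDegree with h | h
    · exact h
    · exfalso
      have : 0 < p.natDegree * y.natDegree := Nat.mul_pos h (Nat.pos_of_ne_zero hne)
      omega
  have hp1 : p = 1 := hpm.natDegree_eq_zero.mp hp0
  rw [hp1, Polynomial.one_comp] at hp'
  exact one_ne_zero hp'

theorem coeff_one_eq_zero_of_isIntegral_of_isReduced (R : Type u) [CommRing R] [IsReduced R]
    (y : Polynomial R) (hy : IsIntegral R y) : y.coeff 1 = 0 := by
  have hnil : y.coeff 1 ∈ nilradical R := by
    rw [nilradical_eq_sInf, Ideal.mem_sInf]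
    intro P hP
    have : P.IsPrime := hP
    have h1 : IsIntegral R (Polynomial.mapAlg R (R ⧸ P) y) := hy.map _
    have h2 : IsIntegral (R ⧸ P) (Polynomial.mapAlg R (R ⧸ P) y) := h1.tower_top
    have h3 := natDegree_eq_zero_of_isIntegral_of_isDomain (R ⧸ P) _ h2
    have h4 : (Polynomial.mapAlg R (R ⧸ P) y).coeff 1 = 0 :=
      Polynomial.coeff_eq_zero_of_natDegree_lt (by omega)
    rw [Polynomial.mapAlg_eq_map, Polynomial.coeff_map] at h4
    exact Ideal.Quotient.eq_zero_iff_mem.mp h4
  have : IsNilpotent (y.coeff 1) := (mem_nilradical).mp hnil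
  exact this.eq_zero

/-- Reducedness ascends along smooth ring maps: if R is reduced and S is smooth over R then S is
reduced. -/
theorem result (R : Type u) [CommRing R] (S : Type u) [CommRing S]
    [Algebra R S] [Algebra.Smooth R S] [IsReduced R] : IsReduced S := by
  classical
  constructor
  intro s hs
  -- the functional "coefficient of X"
  let π : TensorProduct R S (Polynomial R) →ₗ[R] S :=
    (TensorProduct.rid R S).toLinearMap ∘ₗ (LinearMap.lTensor S (Polynomial.lcoeff R 1))
  have hπ : ∀ (a : S) (f : Polynomial R), π (a ⊗ₜ[R] f) = f.coeff 1 • a := by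
    intro a f
    simp [π]
  let z : TensorProduct R S (Polynomial R) := s ⊗ₜ[R] Polynomial.X
  have hznil : IsNilpotent z := by
    obtain ⟨n, hn⟩ := hs
    refine ⟨n, ?_⟩
    simp only [z, Algebra.TensorProduct.tmul_pow, hn, TensorProduct.zero_tmul]
  have hzint : IsIntegral S z := by
    obtain ⟨n, hn⟩ := hznil
    exact ⟨Polynomial.X ^ n, Polynomial.monic_X_pow n, by simp [hn]⟩
  obtain ⟨w, hw⟩ := (TensorProduct.toIntegralClosure_bijective_of_smooth (R := R) (S := S)
    (B := Polynomial R)).2 ⟨z, hzint⟩
  have hw' : Algebra.TensorProduct.map (AlgHom.id S S) (integralClosure R (Polynomial R)).val w = z := by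
    have := congrArg Subtype.val hw
    simpa [TensorProduct.toIntegralClosure] using this
  have hzero : ∀ w : TensorProduct R S (integralClosure R (Polynomial R)),
      π (Algebra.TensorProduct.map (AlgHom.id S S) (integralClosure R (Polynomial R)).val w) = 0 := by
    intro w
    induction w using TensorProduct.induction_on with
    | zero => simp
    | tmul a y =>
      simp only [Algebra.TensorProduct.map_tmul, AlgHom.coe_id, id_eq, Subalgebra.coe_val, hπ]
      rw [coeff_one_eq_zero_of_isIntegral_of_isReduced R y.1 y.2, zero_smul]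
    | add x y hx hy => simp only [map_add, hx, hy, add_zero]
  have h1 := hzero w
  rw [hw', hπ] at h1
  simpa using h1

end Groth.Agent.S9407
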