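import Groth.Statements.S9246
import Groth.Agent.S9245
import Groth.Agent.Lib.Helper47.RegularLocalFlat
import Mathlib.RingTheory.Unramified.LocalRing
import Mathlib.RingTheory.Etale.Basic

set_option autoImplicit false
universe u
open CAlg

namespace Groth.Agent.S9246

/-- Let A → B be an étale ring map and q a prime of B lying over the prime p of A. Then A_p is a regular
local ring if and only if B_q is a regular local ring. -/
theorem result (A B : Type u) [CommRing A] [CommRing B]
    [Algebra A B] [Algebra.Etale A B] (q : Ideal B) [q.IsPrime] :
    IsRegularLocalRing (Localization.AtPrime (Ideal.comap (algebraMap A B) q)) ↔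
      IsRegularLocalRing (Localization.AtPrime q) := by
  set p := Ideal.comap (algebraMap A B) q with hp
  have hlo : q.LiesOver p := ⟨rfl⟩
  let _ := Localization.AtPrime.algebraOfLiesOver p q
  have hloc : IsLocalHom (algebraMap (Localization.AtPrime p) (Localization.AtPrime q)) := by
    rw [RingHom.algebraMap_toAlgebra]
    exact Localization.isLocalHom_localRingHom p q (algebraMap A B) Ideal.LiesOver.over
  have hff : Module.FaithfullyFlat (Localization.AtPrime p) (Localization.AtPrime q) :=
    Module.FaithfullyFlat.of_flat_of_isLocalHom
  have h1 : Algebra.EssFiniteType A (Localization.AtPrime q) :=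
    Algebra.EssFiniteType.comp A B (Localization.AtPrime q)
  have h2 : Algebra.EssFiniteType (Localization.AtPrime p) (Localization.AtPrime q) :=
    Algebra.EssFiniteType.of_comp A (Localization.AtPrime p) (Localization.AtPrime q)
  have h3 : Algebra.FormallyUnramified A (Localization.AtPrime q) :=
    Algebra.FormallyUnramified.comp A B (Localization.AtPrime q)
  have h4 : Algebra.FormallyUnramified (Localization.AtPrime p) (Localization.AtPrime q) :=
    Algebra.FormallyUnramified.of_restrictScalars A (Localization.AtPrime p)
      (Localization.AtPrime q)
  have hmax : (IsLocalRing.maximalIdeal (Localization.AtPrime p)).map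
      (algebraMap (Localization.AtPrime p) (Localization.AtPrime q)) =
      IsLocalRing.maximalIdeal (Localization.AtPrime q) :=
    Algebra.FormallyUnramified.map_maximalIdeal
  constructor
  · intro h
    have hN : IsNoetherianRing (Localization.AtPrime q) :=
      Algebra.EssFiniteType.isNoetherianRing (Localization.AtPrime p) (Localization.AtPrime q)
    exact (Groth.Agent.Lib.Helper47.isRegularLocalRing_iff_of_flat_of_map_maximalIdeal hmax).mp h
  · intro h
    have hN : IsNoetherianRing (Localization.AtPrime p) :=
      Groth.Agent.S9245.isNoetherianRing_of_faithfullyFlat (Localization.AtPrime p)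
        (Localization.AtPrime q)
    exact (Groth.Agent.Lib.Helper47.isRegularLocalRing_iff_of_flat_of_map_maximalIdeal hmax).mpr h

end Groth.Agent.S9246
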