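import Groth.Statements.S1535
import Mathlib
import Groth.Agent.S9246
import Groth.Agent.Lib.Helper24.SmoothNormalStalk

set_option autoImplicit false
universe u
open CategoryTheory CategoryTheory.Limits AlgebraicGeometry
open Variety

namespace Groth.Agent.S1535

open Groth.Agent.Lib.Helper24 in
/-- Localizations of a smooth algebra over a regular ring are regular local rings. -/
theorem isRegularLocalRing_atPrime_of_smooth (R S : Type u) [CommRing R] [IsRegularRing R]
    [CommRing S] [Algebra R S] [Algebra.Smooth R S] (q : Ideal S) [q.IsPrime] :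
    IsRegularLocalRing (Localization.AtPrime q) := by
  obtain ⟨f, hfq, n, _, _, _⟩ :=
    Algebra.IsSmoothAt.exists_isStandardEtale_mvPolynomial (R := R) (p := q)
  obtain ⟨q', hq', ⟨e⟩⟩ := exists_atPrime_ringEquiv_of_disjoint (S' := Localization.Away f)
    (.powers f) q ((Ideal.disjoint_powers_iff_notMem_of_isPrime _).mpr hfq)
  have h1 : IsRegularLocalRing (Localization.AtPrime q') :=
    (Groth.Agent.S9246.result (MvPolynomial (Fin n) R) (Localization.Away f) q').mp inferInstance
  exact IsRegularLocalRing.of_ringEquiv e.symm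

/-- If X is smooth over a field then every local ring of X is a regular local ring. -/
theorem result (k : Type u) [Field k] (X : Scheme.{u}) [X.Over (Spec (CommRingCat.of k))] [Smooth (X ↘ (Spec (CommRingCat.of k)))] (x : X) :
    IsRegularLocalRing (X.presheaf.stalk x) := by
  let f : X ⟶ Spec (CommRingCat.of k) := X ↘ (Spec (CommRingCat.of k))
  obtain ⟨V, hV, hxV⟩ : ∃ V : X.Opens, IsAffineOpen V ∧ x ∈ V := by
    obtain ⟨V, hV, hxV, -⟩ := exists_isAffineOpen_mem_and_subset (X := X) (x := x) (U := ⊤) trivial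
    exact ⟨V, hV, hxV⟩
  have hU : IsAffineOpen (⊤ : (Spec (CommRingCat.of k)).Opens) := isAffineOpen_top _
  have hVU : V ≤ f ⁻¹ᵁ ⊤ := le_top
  have Hs : (f.appLE ⊤ V hVU).hom.Smooth := Smooth.smooth_appLE f hU hV hVU
  algebraize [(f.appLE ⊤ V hVU).hom]
  have : IsRegularRing Γ(Spec (CommRingCat.of k), ⊤) :=
    IsRegularRing.of_ringEquiv (R := k) (Scheme.ΓSpecIso (CommRingCat.of k)).commRingCatIsoToRingEquiv.symm
  obtain ⟨e2⟩ := Groth.Agent.Lib.Helper24.stalk_ringEquiv_atPrime hV x hxV
  have := isRegularLocalRing_atPrime_of_smooth Γ(Spec (CommRingCat.of k), ⊤) Γ(X, V)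
    (hV.primeIdealOf ⟨x, hxV⟩).asIdeal
  exact IsRegularLocalRing.of_ringEquiv e2.symm

end Groth.Agent.S1535
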