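import Groth.Statements.S1468
import Mathlib
import Groth.Agent.S1535

set_option autoImplicit false
universe u
open FlatMor

namespace Groth.Agent.S1468

open TensorProduct in
/-- A smooth algebra over a field is a regular ring. -/
theorem isRegularRing_of_smooth_field (K S : Type u) [Field K] [CommRing S] [Algebra K S]
    [Algebra.Smooth K S] : IsRegularRing S := by
  have : Algebra.FiniteType K S := inferInstance
  have : IsNoetherianRing S := Algebra.FiniteType.isNoetherianRing K S
  rw [isRegularRing_iff]
  intro q hq
  exact Groth.Agent.S1535.isRegularLocalRing_atPrime_of_smooth K S q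

open TensorProduct in
/-- A smooth ring map is regular. -/
theorem isRegularHom_of_smooth (R S : Type u) [CommRing R] [CommRing S] [Algebra R S]
    [Algebra.Smooth R S] : CAlg.IsRegularHom R S := by
  refine ⟨inferInstance, fun p hp => ?_⟩
  have h1 : Algebra.Smooth p.ResidueField (p.Fiber S) := inferInstance
  refine ⟨?_, ?_⟩
  · have : Algebra.FiniteType p.ResidueField (p.Fiber S) := inferInstance
    exact Algebra.FiniteType.isNoetherianRing p.ResidueField (p.Fiber S)
  · intro k' _ _ _
    have : Algebra.Smooth k' (k' ⊗[p.ResidueField] p.Fiber S) := inferInstance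
    exact isRegularRing_of_smooth_field k' _

open AlgebraicGeometry CategoryTheory Limits in
/-- A smooth morphism is regular; concretely, for affine opens U ⊆ f⁻¹(V) the ring map O_Y(V) → O_X(U)
is a regular ring map (flat, with Noetherian and geometrically regular fibre rings). -/
theorem result {X Y : Scheme.{u}} (f : X ⟶ Y) [Smooth f] (U : X.Opens) (V : Y.Opens) (hU : IsAffineOpen U) (hV : IsAffineOpen V) (hUV : U ≤ f ⁻¹ᵁ V) :
    letI := (f.appLE V U hUV).hom.toAlgebra
    CAlg.IsRegularHom Γ(Y, V) Γ(X, U) := by
  have Hs : (f.appLE V U hUV).hom.Smooth := Smooth.smooth_appLE f hV hU hUV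
  algebraize [(f.appLE V U hUV).hom]
  exact isRegularHom_of_smooth Γ(Y, V) Γ(X, U)

end Groth.Agent.S1468
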