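import Groth.Statements.S2116
import Groth.Agent.S1535
import Groth.Agent.Lib.Helper85.RegularGens
import Mathlib

set_option autoImplicit false
universe u
open CAlg

namespace Groth.Agent.S2116

open IsLocalRing TensorProduct KaehlerDifferential

theorem mem_maximalIdeal_of_sum_mem_sq {P : Type u} [CommRing P] [IsRegularLocalRing P] {d : ℕ}
    (hd : ringKrullDim P = d) (x : Fin d → P) (hx : Ideal.span (Set.range x) = maximalIdeal P)
    {ι : Type*} [Fintype ι] (e : ι → Fin d) (he : Function.Injective e)
    (p : ι → P) (hp : ∑ i, p i * x (e i) ∈ maximalIdeal P ^ 2) : ∀ i, p i ∈ maximalIdeal P := by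
  have hxm : ∀ i, x i ∈ maximalIdeal P := fun i => by
    rw [← hx]; exact Ideal.subset_span ⟨i, rfl⟩
  let x' : Fin d → maximalIdeal P := fun i => ⟨x i, hxm i⟩
  let v : Fin d → CotangentSpace P := fun i => (maximalIdeal P).toCotangent (x' i)
  have hspan' : Submodule.span P (Set.range x') = ⊤ := by
    apply Submodule.map_injective_of_injective (f := (maximalIdeal P).subtype)
      Subtype.val_injective
    rw [Submodule.map_span, Submodule.map_top, Submodule.range_subtype, ← Set.range_comp]
    exact hx
  have hspan : Submodule.span (ResidueField P) (Set.range v) = ⊤ := by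
    have : Set.range v = (maximalIdeal P).toCotangent '' (Set.range x') := by
      rw [← Set.range_comp]; rfl
    rw [this, CotangentSpace.span_image_eq_top_iff]
    exact hspan'
  have hfin : Module.finrank (ResidueField P) (CotangentSpace P) = d := by
    have h1 := (IsRegularLocalRing.iff_finrank_cotangentSpace P).mp inferInstance
    rw [hd] at h1
    exact_mod_cast h1
  have hli : LinearIndependent (ResidueField P) v :=
    linearIndependent_of_top_le_span_of_card_eq_finrank hspan.ge (by simp [hfin])
  have hli' : LinearIndependent (ResidueField P) (v ∘ e) := hli.comp e he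
  have hmem : ∑ i, p i * x (e i) ∈ maximalIdeal P := Ideal.pow_le_self two_ne_zero hp
  have h0 : (maximalIdeal P).toCotangent ⟨∑ i, p i * x (e i), hmem⟩ = 0 := by
    rw [Ideal.toCotangent_eq_zero]; exact hp
  have h1 : (⟨∑ i, p i * x (e i), hmem⟩ : maximalIdeal P) = ∑ i, p i • x' (e i) := by
    ext; simp [x']
  rw [h1, map_sum] at h0
  have h2 : ∑ i, residue P (p i) • (v ∘ e) i = 0 := by
    rw [← h0]
    refine Finset.sum_congr rfl fun i _ => ?_
    rw [map_smul]
    rfl
  intro i
  have := (Fintype.linearIndependent_iff.mp hli') (fun i => residue P (p i)) h2 i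
  rwa [residue_eq_zero_iff] at this

theorem formallySmooth_of_isRegularLocalRing (k : Type u) [Field k] (S : Type u) [CommRing S]
    [Algebra k S] [Algebra.FiniteType k S] (q : Ideal S) [q.IsPrime]
    [Algebra.FormallySmooth k q.ResidueField]
    [IsRegularLocalRing (Localization.AtPrime q)] :
    Algebra.FormallySmooth k (Localization.AtPrime q) := by
  obtain ⟨n, f₀, hf₀⟩ := Algebra.FiniteType.iff_quotient_mvPolynomial''.mp
    (inferInstance : Algebra.FiniteType k S)
  let Q : Ideal (MvPolynomial (Fin n) k) := q.comap f₀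
  have hQ : Q.IsPrime := Ideal.comap_isPrime f₀ q
  let P := Localization.AtPrime Q
  let B := Localization.AtPrime q
  let fP : P →ₐ[k] B := IsLocalization.liftAlgHom (M := Q.primeCompl)
      (f := (IsScalarTower.toAlgHom k S B).comp f₀) fun x ↦ by
    simpa using IsLocalization.map_units (M := q.primeCompl) B ⟨f₀ x.1, x.2⟩
  have hf₁ : Function.Surjective fP := by
    intro x
    obtain ⟨x, ⟨s, hs⟩, rfl⟩ := IsLocalization.exists_mk'_eq q.primeCompl x
    obtain ⟨x, rfl⟩ := hf₀ x
    obtain ⟨s, rfl⟩ := hf₀ s
    refine ⟨IsLocalization.mk' (M := Q.primeCompl) _ x ⟨s, hs⟩, ?_⟩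
    simp [fP, IsLocalization.lift_mk', Units.mul_inv_eq_iff_eq_mul, IsUnit.liftRight]
  algebraize [fP.toRingHom]
  have : IsScalarTower k P B := .of_algebraMap_eq' fP.comp_algebraMap.symm
  have : Algebra.FormallyEtale (MvPolynomial (Fin n) k) P := .of_isLocalization Q.primeCompl
  have : Algebra.FormallySmooth k P := .comp _ (MvPolynomial (Fin n) k) _
  have : Module.Free P Ω[P⁄k] :=
    .of_equiv (KaehlerDifferential.tensorKaehlerEquivOfFormallyEtale k (MvPolynomial (Fin n) k) P)
  have : Module.Finite P Ω[P⁄k] :=
    Module.Finite.equiv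
      (KaehlerDifferential.tensorKaehlerEquivOfFormallyEtale k (MvPolynomial (Fin n) k) P)
  have h₂ : (RingHom.ker (algebraMap P B)).FG := IsNoetherian.noetherian _
  have hsurjPB : Function.Surjective (algebraMap P B) := hf₁
  rw [Algebra.FormallySmooth.iff_injective_cotangentComplexBaseChange_residueField
    (R := k) (S := B) P hsurjPB h₂]
  -- regularity of P and generators of the kernel
  have hregP : IsRegularLocalRing P := IsRegularRing.isRegularLocalRing_localization Q
  let I : Ideal P := RingHom.ker (algebraMap P B)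
  have hregQ : IsRegularLocalRing (P ⧸ I) :=
    IsRegularLocalRing.of_ringEquiv (RingHom.quotientKerEquivOfSurjective hsurjPB).symm
  have hd : ringKrullDim P = ((maximalIdeal P).spanFinrank : ℕ) :=
    (IsRegularLocalRing.spanFinrank_maximalIdeal (R := P)).symm
  obtain ⟨x, c, hc, hxspan, hI⟩ :=
    Groth.Agent.Lib.Helper85.exists_generators_of_quotient_regular _ hd I hregQ
  -- the residue field
  let κ := ResidueField B
  have hsurjκ : Function.Surjective (algebraMap P κ) := by
    rw [IsScalarTower.algebraMap_eq P B κ]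
    exact (residue_surjective (R := B)).comp hsurjPB
  have hJ : RingHom.ker (algebraMap P κ) = maximalIdeal P := by
    have hmax : (RingHom.ker (algebraMap P κ)).IsMaximal :=
      RingHom.ker_isMaximal_of_surjective _ hsurjκ
    exact IsLocalRing.eq_maximalIdeal hmax
  have hsmκ : Algebra.FormallySmooth k κ := ‹Algebra.FormallySmooth k q.ResidueField›
  obtain ⟨l, hl⟩ := (Algebra.FormallySmooth.iff_split_injection (R := k) (P := P) (A := κ)
    hsurjκ).mp hsmκ
  have hIJ : I ≤ RingHom.ker (algebraMap P κ) := by
    intro y hy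
    rw [RingHom.mem_ker, IsScalarTower.algebraMap_apply P B κ, (RingHom.mem_ker).mp hy, map_zero]
  rw [injective_iff_map_eq_zero]
  intro z hz
  have hrep : ∀ z : κ ⊗[P] I, ∃ y : I, z = (1 : κ) ⊗ₜ[P] y := by
    intro z
    induction z using TensorProduct.induction_on with
    | zero => exact ⟨0, (TensorProduct.tmul_zero _ _).symm⟩
    | tmul a y =>
      obtain ⟨p, rfl⟩ := hsurjκ a
      refine ⟨p • y, ?_⟩
      rw [TensorProduct.tmul_smul, TensorProduct.smul_tmul', Algebra.smul_def, mul_one]
    | add z z' h h' =>
      obtain ⟨y, rfl⟩ := h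
      obtain ⟨y', rfl⟩ := h'
      exact ⟨y + y', (TensorProduct.tmul_add _ _ _).symm⟩
  obtain ⟨y, rfl⟩ := hrep z
  rw [cotangentComplexBaseChange_tmul, one_smul, kerToTensor_apply] at hz
  have hyJ : (y : P) ∈ RingHom.ker (algebraMap P κ) := hIJ y.2
  have h1 : kerCotangentToTensor k P κ
      ((RingHom.ker (algebraMap P κ)).toCotangent ⟨y, hyJ⟩) = 0 := by
    rw [kerCotangentToTensor_toCotangent]; exact hz
  have h2 : (RingHom.ker (algebraMap P κ)).toCotangent ⟨y, hyJ⟩ = 0 := by
    have := congrArg l h1
    rwa [← LinearMap.comp_apply, hl, LinearMap.id_apply, map_zero] at this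
  rw [Ideal.toCotangent_eq_zero] at h2
  replace h2 : (y : P) ∈ maximalIdeal P ^ 2 := hJ ▸ h2
  have hy : (y : P) ∈ Ideal.span (Set.range (fun i : Fin c => x (Fin.castLE hc i))) := hI ▸ y.2
  obtain ⟨cf, hcf⟩ := Ideal.mem_span_range_iff_exists_fun.mp hy
  have hcm : ∀ i, cf i ∈ maximalIdeal P :=
    mem_maximalIdeal_of_sum_mem_sq hd x hxspan (Fin.castLE hc) (Fin.castLE_injective hc) cf
      (hcf ▸ h2)
  have hxi : ∀ i : Fin c, x (Fin.castLE hc i) ∈ I := fun i => by
    rw [hI]; exact Ideal.subset_span ⟨i, rfl⟩
  have hy' : y = ∑ i, cf i • (⟨x (Fin.castLE hc i), hxi i⟩ : I) := by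
    ext; simp [← hcf]
  rw [hy', TensorProduct.tmul_sum]
  refine Finset.sum_eq_zero fun i _ => ?_
  rw [TensorProduct.tmul_smul, TensorProduct.smul_tmul', Algebra.smul_def, mul_one]
  have : algebraMap P κ (cf i) = 0 := by
    rw [← RingHom.mem_ker, hJ]; exact hcm i
  rw [this, TensorProduct.zero_tmul]

theorem isRegularLocalRing_of_isSmoothAt (k : Type u) [Field k] (S : Type u) [CommRing S]
    [Algebra k S] [Algebra.FiniteType k S] (q : Ideal S) [q.IsPrime]
    (h : Algebra.IsSmoothAt k q) : IsRegularLocalRing (Localization.AtPrime q) := by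
  have hfp : Algebra.FinitePresentation k S := Algebra.FinitePresentation.of_finiteType.mp inferInstance
  obtain ⟨f, hfq, hsm⟩ := Algebra.IsSmoothAt.exists_notMem_smooth k q
  obtain ⟨q', hq', ⟨e⟩⟩ := Groth.Agent.Lib.Helper24.exists_atPrime_ringEquiv_of_disjoint
    (S' := Localization.Away f) (.powers f) q
    ((Ideal.disjoint_powers_iff_notMem_of_isPrime _).mpr hfq)
  have h1 : IsRegularLocalRing (Localization.AtPrime q') :=
    Groth.Agent.S1535.isRegularLocalRing_atPrime_of_smooth k (Localization.Away f) q'
  exact IsRegularLocalRing.of_ringEquiv e.symm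

theorem formallySmooth_of_bijective (k K : Type u) [Field k] [CommRing K] [Algebra k K]
    (h : Function.Bijective (algebraMap k K)) : Algebra.FormallySmooth k K :=
  Algebra.FormallySmooth.of_equiv (AlgEquiv.ofBijective (Algebra.ofId k K) h)

/-- Let `k` be algebraically closed, `S` of finite type over `k` and `𝔪` a maximal ideal of `S`. Then
the local ring `S_𝔪` is regular if and only if `S` is smooth over `k` at `𝔪`. -/
theorem result {k S : Type u} [Field k] [IsAlgClosed k] [CommRing S] [Algebra k S]
    [Algebra.FiniteType k S] (m : Ideal S) [m.IsMaximal] :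
    IsRegularLocalRing (Localization.AtPrime m) ↔ Algebra.IsSmoothAt k m := by
  constructor
  · intro h
    let _ : Field (S ⧸ m) := Ideal.Quotient.field m
    have hfin : Module.Finite k (S ⧸ m) := finite_of_finite_type_of_isJacobsonRing k (S ⧸ m)
    have hb1 : Function.Bijective (algebraMap k (S ⧸ m)) :=
      IsAlgClosed.algebraMap_bijective_of_isIntegral
    have hb2 : Function.Bijective (algebraMap (S ⧸ m) m.ResidueField) :=
      Ideal.bijective_algebraMap_quotient_residueField m
    have hb : Function.Bijective (algebraMap k m.ResidueField) := by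
      rw [IsScalarTower.algebraMap_eq k (S ⧸ m) m.ResidueField]
      exact hb2.comp hb1
    have : Algebra.FormallySmooth k m.ResidueField := formallySmooth_of_bijective _ _ hb
    exact formallySmooth_of_isRegularLocalRing k S m
  · intro h
    exact isRegularLocalRing_of_isSmoothAt k S m h

end Groth.Agent.S2116
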