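import Groth.Statements.S9408
import Groth.Agent.S1535
import Mathlib

set_option autoImplicit false
universe u
open CAlg

namespace Groth.Agent.S9408

open TensorProduct

theorem isRegularRing_of_smooth (R S : Type u) [CommRing R] [IsRegularRing R]
    [CommRing S] [Algebra R S] [Algebra.Smooth R S] : IsRegularRing S := by
  have hfp : Algebra.FinitePresentation R S := inferInstance
  have hN : IsNoetherianRing S := Algebra.FiniteType.isNoetherianRing R S
  rw [isRegularRing_iff]
  intro q hq
  exact Groth.Agent.S1535.isRegularLocalRing_atPrime_of_smooth R S q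

/-- Over a field k, geometric regularity ascends along smooth maps of k-algebras: for A Noetherian and
geometrically regular over k and B smooth over A, B is geometrically regular over k. -/
theorem result (k : Type u) [Field k] (A : Type u) [CommRing A]
    [Algebra k A] [IsNoetherianRing A] (B : Type u) [CommRing B] [Algebra k B] [Algebra A B]
    [IsScalarTower k A B] [Algebra.Smooth A B] (hA : CAlg.IsGeometricallyRegular k A) :
    CAlg.IsGeometricallyRegular k B := by
  intro k' _ _ hfin
  have hreg : IsRegularRing (k' ⊗[k] A) := hA k' hfin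
  let A' := A ⊗[k] k'
  have hreg' : IsRegularRing A' :=
    IsRegularRing.of_ringEquiv (Algebra.TensorProduct.comm k k' A).toRingEquiv
  have : Algebra.Smooth A' (A' ⊗[A] B) := inferInstance
  have h1 : IsRegularRing (A' ⊗[A] B) := isRegularRing_of_smooth A' (A' ⊗[A] B)
  let e1 : A' ⊗[A] B ≃ₐ[A] B ⊗[A] A' := Algebra.TensorProduct.comm A A' B
  let e2 : B ⊗[A] A' ≃ₐ[A] B ⊗[k] k' := Algebra.TensorProduct.cancelBaseChange k A A B k'
  let e3 : B ⊗[k] k' ≃ₐ[k] k' ⊗[k] B := Algebra.TensorProduct.comm k B k'
  exact IsRegularRing.of_ringEquiv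
    ((e1.toRingEquiv.trans e2.toRingEquiv).trans e3.toRingEquiv)

end Groth.Agent.S9408
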