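import Groth.Statements.S9293
import Mathlib
import Groth.Agent.Lib.Helper90.GeomRegBridge
import Groth.Agent.S2674
import Groth.Agent.S2692

set_option autoImplicit false
universe u
open CAlg

namespace Groth.Agent.S9293.Aux

open TensorProduct IsLocalRing
open Groth.Agent.Lib.Helper90 Groth.Agent.Lib.Helper90.GeomRegBridge

/-- the fibre of a base change, as an algebra over the residue field -/
noncomputable def fiberBaseChangeAlgEquiv (B B' C : Type u) [CommRing B] [CommRing B'] [CommRing C]
    [Algebra B B'] [Algebra B C] (q' : Ideal B') [q'.IsPrime]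
    [Algebra (Localization.AtPrime (q'.under B)) (Localization.AtPrime q')]
    [Localization.AtPrime.IsLiesOverAlgebra (q'.under B) q'] :
    q'.Fiber (B' ⊗[B] C) ≃ₐ[q'.ResidueField]
      q'.ResidueField ⊗[(q'.under B).ResidueField] (q'.under B).Fiber C :=
  (Algebra.TensorProduct.cancelBaseChange B B' q'.ResidueField q'.ResidueField C).trans
    (Algebra.TensorProduct.cancelBaseChange B (q'.under B).ResidueField q'.ResidueField
      q'.ResidueField C).symm

theorem main (R Λ R' : Type u) [CommRing R] [CommRing Λ] [CommRing R']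
    [Algebra R Λ] [Algebra R R'] [Algebra.FiniteType R R'] (h : CAlg.IsRegularHom R Λ) :
    CAlg.IsRegularHom R' (R' ⊗[R] Λ) := by
  have hflat : Module.Flat R Λ := h.1
  refine ⟨inferInstance, fun p' _ => ?_⟩
  letI := Localization.AtPrime.algebraOfLiesOver (p'.under R) p'
  obtain ⟨hN, hG⟩ := h.2 (p'.under R)
  have hess : Algebra.EssFiniteType (p'.under R).ResidueField p'.ResidueField := inferInstance
  have h1 : CAlg.IsGeometricallyRegular p'.ResidueField
      (p'.ResidueField ⊗[(p'.under R).ResidueField] (p'.under R).Fiber Λ) :=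
    (Groth.Agent.S2674.result _ _ p'.ResidueField).mp hG
  have hN1 := isNoetherianRing_tensor_of_essFiniteType (k := (p'.under R).ResidueField)
    (S := (p'.under R).Fiber Λ) p'.ResidueField
  let e := fiberBaseChangeAlgEquiv R R' Λ p'
  exact ⟨isNoetherianRing_of_ringEquiv _ e.symm.toRingEquiv,
    Groth.Agent.S2692.Aux.geomReg_of_algEquiv e.symm h1⟩

end Groth.Agent.S9293.Aux

namespace Groth.Agent.S9293

/-- If R → Λ is a regular ring map and R' is an R-algebra of finite type, then R' → R' ⊗_R Λ is again
regular. -/
theorem result (R Λ R' : Type u) [CommRing R] [CommRing Λ] [CommRing R']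
    [Algebra R Λ] [Algebra R R'] [Algebra.FiniteType R R'] (h : CAlg.IsRegularHom R Λ) :
    CAlg.IsRegularHom R' (TensorProduct R R' Λ) := by
  exact Aux.main R Λ R' h

end Groth.Agent.S9293
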