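import Groth.Statements.S4695
import Mathlib
import Groth.Agent.Lib.Helper90.GeomRegBridge
import Groth.Agent.Lib.Helper24.GeomRegularSmooth
import Groth.Agent.S1468
import Groth.Agent.S2674
import Groth.Agent.S2692
import Groth.Agent.S9293

set_option autoImplicit false
universe u
open EGA4

namespace Groth.Agent.S4695.Aux

open TensorProduct IsLocalRing
open Groth.Agent.Lib.Helper90 Groth.Agent.Lib.Helper90.GeomRegBridge

/-- a regular homomorphism of finite type between Noetherian rings is smooth -/
theorem smooth_of_isRegularHom (A B : Type u) [CommRing A] [CommRing B] [IsNoetherianRing A]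
    [Algebra A B] [Algebra.FiniteType A B] (h : CAlg.IsRegularHom A B) : Algebra.Smooth A B := by
  have hfp : Algebra.FinitePresentation A B :=
    Algebra.FinitePresentation.of_finiteType.mp inferInstance
  have hflat : Module.Flat A B := h.1
  apply Algebra.Smooth.of_formallySmooth_fiber
  intro I _
  have hs : Algebra.Smooth I.ResidueField (I.Fiber B) :=
    Groth.Agent.Lib.Helper24.smooth_of_isGeometricallyRegular _ _ (h.2 I).2
  infer_instance

theorem isNoetherianRing_fiber (A B : Type u) [CommRing A] [CommRing B] [IsNoetherianRing B]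
    [Algebra A B] (p : Ideal A) [p.IsPrime] : IsNoetherianRing (p.Fiber B) := by
  haveI : IsNoetherianRing (B ⊗[A] p.ResidueField) :=
    Algebra.EssFiniteType.isNoetherianRing B (B ⊗[A] p.ResidueField)
  exact isNoetherianRing_of_ringEquiv _ (Algebra.TensorProduct.comm A B p.ResidueField).toRingEquiv

/-- descent of geometric regularity along an arbitrary field extension -/
theorem geomReg_descent {k K S : Type u} [Field k] [Field K] [Algebra k K] [CommRing S]
    [Algebra k S] (H : CAlg.IsGeometricallyRegular K (K ⊗[k] S)) :
    CAlg.IsGeometricallyRegular k S := by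
  intro k' _ _ hfin
  obtain ⟨K', _, _, _, _, _, _, hfin'⟩ := Groth.Agent.S2674.Aux.exists_compositum k K k'
  have h1 : IsRegularRing (K' ⊗[K] (K ⊗[k] S)) := H K' hfin'
  have h2 : IsRegularRing (K' ⊗[k] S) :=
    IsRegularRing.of_ringEquiv (Algebra.TensorProduct.cancelBaseChange k K K' K' S).toRingEquiv
  exact Groth.Agent.S2674.Aux.regular_descent (K' := K') h2

theorem main (A B A' : Type u) [CommRing A] [CommRing B] [CommRing A']
    [IsNoetherianRing A] [IsNoetherianRing B] [IsNoetherianRing A'] [Algebra A B] [Algebra A A']
    (hft : Algebra.FiniteType A B ∨ Algebra.FiniteType A A') :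
    (CAlg.IsRegularHom A B → CAlg.IsRegularHom A' (A' ⊗[A] B)) ∧
      (Module.FaithfullyFlat A A' → CAlg.IsRegularHom A' (A' ⊗[A] B) → CAlg.IsRegularHom A B) := by
  constructor
  · intro h
    rcases hft with hB | hA'
    · have := smooth_of_isRegularHom A B h
      have : Algebra.Smooth A' (A' ⊗[A] B) := inferInstance
      exact Groth.Agent.S1468.isRegularHom_of_smooth A' (A' ⊗[A] B)
    · exact Groth.Agent.S9293.Aux.main A B A' h
  · intro hff h'
    have hflat' : Module.Flat A' (A' ⊗[A] B) := h'.1
    refine ⟨Module.Flat.of_flat_tensorProduct A B A', fun p hp => ?_⟩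
    obtain ⟨⟨p', hp'⟩, hpp⟩ := PrimeSpectrum.comap_surjective_of_faithfullyFlat (B := A') ⟨p, hp⟩
    have hpe : p'.under A = p := congrArg PrimeSpectrum.asIdeal hpp
    subst hpe
    refine ⟨isNoetherianRing_fiber A B _, ?_⟩
    letI := Localization.AtPrime.algebraOfLiesOver (p'.under A) p'
    let e := Groth.Agent.S9293.Aux.fiberBaseChangeAlgEquiv A A' B p'
    have h1 := Groth.Agent.S2692.Aux.geomReg_of_algEquiv (B := p'.Fiber (A' ⊗[A] B))
      (B' := p'.ResidueField ⊗[(p'.under A).ResidueField] (p'.under A).Fiber B) e (h'.2 p').2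
    exact geomReg_descent h1

end Groth.Agent.S4695.Aux

namespace Groth.Agent.S4695

open TensorProduct in
/-- Case of regular morphisms, affine form: let A → B be a homomorphism of Noetherian rings and A' a
Noetherian A-algebra, and assume that B or A' is of finite type over A. If A → B is regular then the
base change A' → A' ⊗_A B is regular; the converse holds when A' is faithfully flat over A. -/
theorem result (A B A' : Type u) [CommRing A] [CommRing B] [CommRing A']
    [IsNoetherianRing A] [IsNoetherianRing B] [IsNoetherianRing A'] [Algebra A B] [Algebra A A']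
    (hft : Algebra.FiniteType A B ∨ Algebra.FiniteType A A') :
    (CAlg.IsRegularHom A B → CAlg.IsRegularHom A' (A' ⊗[A] B)) ∧
      (Module.FaithfullyFlat A A' → CAlg.IsRegularHom A' (A' ⊗[A] B) → CAlg.IsRegularHom A B) := by
  exact Aux.main A B A' hft

end Groth.Agent.S4695
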