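import Groth.Statements.S14953
import Groth.Agent.H76.Milnor
import Groth.Agent.H76.TensorFinite
import Groth.Agent.S14949

set_option autoImplicit false
universe u
open scoped TensorProduct
open EtAlg

namespace Groth.Agent.S14953

theorem result (B' B A' A : Type u) [CommRing B'] [CommRing B] [CommRing A'] [CommRing A]
    [Algebra B' B] [Algebra B' A'] [Algebra B A] [Algebra A' A] [Algebra B' A] [IsScalarTower B' B A] [IsScalarTower B' A' A]
    (hsq : EtMil.IsFibreSquare B' B A' A)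
    (L' : Type u) [AddCommGroup L'] [Module B' L']
    [Module.Finite B (B ⊗[B'] L')] [Module.Finite A' (A' ⊗[B'] L')] : Module.Finite B' L' := by
  obtain ⟨N₁, hN₁, h₁⟩ :=
    Groth.Agent.H76.TensorFinite.exists_fg_tensor_quotient_subsingleton (R := B') (S := B) (M := L')
  obtain ⟨N₂, hN₂, h₂⟩ :=
    Groth.Agent.H76.TensorFinite.exists_fg_tensor_quotient_subsingleton (R := B') (S := A') (M := L')
  have hfg : (N₁ ⊔ N₂).FG := hN₁.sup hN₂
  have := h₁ (N₁ ⊔ N₂) le_sup_left
  have := h₂ (N₁ ⊔ N₂) le_sup_right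
  have hsub : Subsingleton (L' ⧸ (N₁ ⊔ N₂)) :=
    Groth.Agent.S14949.result B' B A' A hsq (L' ⧸ (N₁ ⊔ N₂))
  have htop : N₁ ⊔ N₂ = ⊤ := Submodule.Quotient.subsingleton_iff.mp hsub
  rw [Module.finite_def, ← htop]
  exact hfg

end Groth.Agent.S14953
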