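import Groth.Statements.S6916
import Groth.Agent.H76.Milnor
import Mathlib.LinearAlgebra.TensorProduct.RightExactness

set_option autoImplicit false
universe u
open TensorProduct EtAlg

namespace Groth.Agent.S6916

open Groth.Agent.H76

theorem result (B' B A' A : Type u) [CommRing B'] [CommRing B] [CommRing A'] [CommRing A]
    [Algebra B' B] [Algebra B' A'] [Algebra B A] [Algebra A' A] [Algebra B' A] [IsScalarTower B' B A] [IsScalarTower B' A' A]
    (hsq : EtMil.IsFibreSquare B' B A' A)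
    (L' : Type u) [AddCommGroup L'] [Module B' L'] (x : B ⊗[B'] L') (y : A' ⊗[B'] L')
    (hxy : (IsScalarTower.toAlgHom B' B A).toLinearMap.rTensor L' x = (IsScalarTower.toAlgHom B' A' A).toLinearMap.rTensor L' y) :
    ∃ l : L', (1 : B) ⊗ₜ[B'] l = x ∧ (1 : A') ⊗ₜ[B'] l = y := by
  have hsurjB := Milnor.surjective_left hsq
  set f : B →ₗ[B'] A := (IsScalarTower.toAlgHom B' B A).toLinearMap with hf
  set g : A' →ₗ[B'] A := (IsScalarTower.toAlgHom B' A' A).toLinearMap with hg
  have hgsurj : Function.Surjective g := hsq.1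
  -- Step 1
  have key : ∀ x : B ⊗[B'] L', ∃ l : L', x = (1 : B) ⊗ₜ[B'] l := by
    intro x
    induction x with
    | zero => exact ⟨0, by simp⟩
    | tmul b l =>
      obtain ⟨b', rfl⟩ := hsurjB b
      refine ⟨b' • l, ?_⟩
      rw [← TensorProduct.smul_tmul, Algebra.smul_def, mul_one]
    | add x y hx hy =>
      obtain ⟨a, rfl⟩ := hx
      obtain ⟨b, rfl⟩ := hy
      exact ⟨a + b, by rw [TensorProduct.tmul_add]⟩
  obtain ⟨l₀, rfl⟩ := key x
  -- Step 2
  have h2 : g.rTensor L' (y - (1 : A') ⊗ₜ[B'] l₀) = 0 := by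
    rw [map_sub, ← hxy]
    simp [f, g]
  -- Step 3
  have hex : Function.Exact ((LinearMap.ker g).subtype.rTensor L') (g.rTensor L') :=
    rTensor_exact L' (LinearMap.exact_subtype_ker_map g) hgsurj
  obtain ⟨w, hw⟩ := (hex _).mp h2
  -- Step 4
  have h4 : ∀ w : (LinearMap.ker g) ⊗[B'] L', ∃ l₁ : L',
      (LinearMap.ker g).subtype.rTensor L' w = (1 : A') ⊗ₜ[B'] l₁ ∧
        ((1 : B) ⊗ₜ[B'] l₁ : B ⊗[B'] L') = 0 := by
    intro w
    induction w with
    | zero => exact ⟨0, by simp⟩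
    | tmul i l =>
      have hi : algebraMap A' A (i : A') = 0 := LinearMap.mem_ker.mp i.2
      have : algebraMap B A 0 = algebraMap A' A (i : A') := by rw [map_zero, hi]
      obtain ⟨j, ⟨hj1, hj2⟩, _⟩ := hsq.2 0 (i : A') this
      refine ⟨j • l, ?_, ?_⟩
      · rw [LinearMap.rTensor_tmul, Submodule.subtype_apply, ← hj2,
          Algebra.algebraMap_eq_smul_one, TensorProduct.smul_tmul]
      · rw [← TensorProduct.smul_tmul, Algebra.smul_def, hj1, zero_mul, TensorProduct.zero_tmul]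
    | add x y hx hy =>
      obtain ⟨a, ha1, ha2⟩ := hx
      obtain ⟨b, hb1, hb2⟩ := hy
      refine ⟨a + b, ?_, ?_⟩
      · rw [map_add, ha1, hb1, TensorProduct.tmul_add]
      · rw [TensorProduct.tmul_add, ha2, hb2, add_zero]
  obtain ⟨l₁, hl1, hl2⟩ := h4 w
  refine ⟨l₀ + l₁, ?_, ?_⟩
  · rw [TensorProduct.tmul_add, hl2, add_zero]
  · rw [TensorProduct.tmul_add, ← hl1, hw]
    abel

end Groth.Agent.S6916
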