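import Groth.Statements.S17972
import Mathlib
import Groth.Agent.Lib.Helper3.HenselEtale

set_option autoImplicit false
universe u
open Hensel

namespace Groth.Agent.S17972.Aux

open MvPolynomial IsLocalRing
open Groth.Agent.Lib.Helper3


section
variable (A : Type u) [CommRing A] (n : ℕ) (P : Fin n → MvPolynomial (Fin n) A)

/-- Jacobian determinant polynomial -/
noncomputable def Dl : MvPolynomial (Fin n) A := (Matrix.of fun i j => pderiv j (P i)).det

noncomputable def vv : Fin n ⊕ Unit → MvPolynomial (Fin n ⊕ Unit) A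
  | Sum.inl i => rename Sum.inl (P i)
  | Sum.inr _ => X (Sum.inr ()) * rename Sum.inl (Dl A n P) - 1

abbrev SS := MvPolynomial (Fin n ⊕ Unit) A ⧸ Ideal.span (Set.range (vv A n P))

noncomputable def pre :
    Algebra.PreSubmersivePresentation A (SS A n P) (Fin n ⊕ Unit) (Fin n ⊕ Unit) :=
  Algebra.PreSubmersivePresentation.naive (v := vv A n P) id Function.injective_id

theorem pderiv_inr_rename (p : MvPolynomial (Fin n) A) :
    pderiv (Sum.inr () : Fin n ⊕ Unit) (rename Sum.inl p) = 0 := by
  induction p using MvPolynomial.induction_on with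
  | C a => simp
  | add p q hp hq => simp [hp, hq]
  | mul_X p a h =>
    simp only [map_mul, rename_X, Derivation.leibniz, h, smul_zero, add_zero]
    rw [pderiv_X_of_ne (by simp)]
    simp

theorem jac_det :
    (pre A n P).jacobiMatrix.det = (rename Sum.inl (Dl A n P)) ^ 2 := by
  classical
  have hM : (pre A n P).jacobiMatrix =
      Matrix.fromBlocks
        (Matrix.of fun i j : Fin n => rename (Sum.inl : Fin n → Fin n ⊕ Unit) (pderiv i (P j)))
        (Matrix.of fun (i : Fin n) (_ : Unit) =>
          pderiv (Sum.inl i : Fin n ⊕ Unit) (vv A n P (Sum.inr ())))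
        0
        (Matrix.of fun (_ _ : Unit) => rename (Sum.inl : Fin n → Fin n ⊕ Unit) (Dl A n P)) := by
    refine Matrix.ext fun i j => ?_
    rw [pre, Algebra.PreSubmersivePresentation.jacobiMatrix_naive]
    rcases i with i | i <;> rcases j with j | j
    · simp only [id, vv, Matrix.fromBlocks_apply₁₁, Matrix.of_apply]
      exact pderiv_rename Sum.inl_injective i (P j)
    · simp only [id, Matrix.fromBlocks_apply₁₂, Matrix.of_apply]
    · simp only [id, vv, Matrix.fromBlocks_apply₂₁, Matrix.zero_apply]
      exact pderiv_inr_rename A n (P j)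
    · simp only [id, vv, Matrix.fromBlocks_apply₂₂, Matrix.of_apply]
      rw [map_sub, Derivation.leibniz, pderiv_inr_rename, pderiv_X_self]
      simp
  have hU : (Matrix.of fun (_ _ : Unit) =>
      rename (Sum.inl : Fin n → Fin n ⊕ Unit) (Dl A n P)).det
        = rename (Sum.inl : Fin n → Fin n ⊕ Unit) (Dl A n P) := by
    rw [Matrix.det_unique, Matrix.of_apply]
  rw [hM, Matrix.det_fromBlocks_zero₂₁, hU, pow_two]
  congr 1
  have : (Matrix.of fun i j : Fin n => rename (Sum.inl : Fin n → Fin n ⊕ Unit) (pderiv i (P j)))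
      = ((rename (Sum.inl : Fin n → Fin n ⊕ Unit) : MvPolynomial (Fin n) A →ₐ[A] _).mapMatrix
          (Matrix.of fun i j => pderiv j (P i))).transpose := by
    refine Matrix.ext fun i j => ?_
    simp
  rw [this, Matrix.det_transpose, ← AlgHom.map_det]
  rfl

theorem algebraMap_pre (p : MvPolynomial (Fin n ⊕ Unit) A) :
    algebraMap (pre A n P).Ring (SS A n P) p = Ideal.Quotient.mk _ p := by
  rw [Algebra.Generators.algebraMap_apply]
  have : (aeval (pre A n P).val : MvPolynomial (Fin n ⊕ Unit) A →ₐ[A] SS A n P)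
      = Ideal.Quotient.mkₐ A _ := by
    apply MvPolynomial.algHom_ext
    intro i
    simp [pre, Algebra.PreSubmersivePresentation.naive, Algebra.Presentation.naive,
      Algebra.Generators.naive]
  exact congrArg (fun f => f p) this

theorem isUnit_Dl : IsUnit (Ideal.Quotient.mk (Ideal.span (Set.range (vv A n P)))
    (rename Sum.inl (Dl A n P))) := by
  have h : Ideal.Quotient.mk (Ideal.span (Set.range (vv A n P)))
      (X (Sum.inr ()) * rename Sum.inl (Dl A n P) - 1) = 0 := by
    rw [Ideal.Quotient.eq_zero_iff_mem]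
    exact Ideal.subset_span ⟨Sum.inr (), rfl⟩
  rw [map_sub, map_mul, map_one, sub_eq_zero] at h
  exact IsUnit.of_mul_eq_one _ (by rw [mul_comm]; exact h)

noncomputable def sub : Algebra.SubmersivePresentation A (SS A n P) (Fin n ⊕ Unit) (Fin n ⊕ Unit) where
  toPreSubmersivePresentation := pre A n P
  jacobian_isUnit := by
    classical
    rw [Algebra.PreSubmersivePresentation.jacobian_eq_jacobiMatrix_det, jac_det, algebraMap_pre,
      map_pow]
    exact (isUnit_Dl A n P).pow 2

instance : Algebra.Etale A (SS A n P) := by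
  have : Algebra.IsStandardSmoothOfRelativeDimension 0 A (SS A n P) :=
    (sub A n P).isStandardSmoothOfRelativeDimension (by
      simp [Algebra.Presentation.dimension])
  infer_instance

end

theorem main (A : Type u) [CommRing A] [HenselianLocalRing A] (n : ℕ)
    (P : Fin n → MvPolynomial (Fin n) A) (a₀ : Fin n → A)
    (h₀ : ∀ i, MvPolynomial.eval a₀ (P i) ∈ IsLocalRing.maximalIdeal A)
    (hJ : IsUnit (Matrix.of (fun i j => MvPolynomial.eval a₀ (MvPolynomial.pderiv j (P i)))).det) :
    ∃ a : Fin n → A, (∀ i, MvPolynomial.eval a (P i) = 0) ∧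
      ∀ j, a j - a₀ j ∈ IsLocalRing.maximalIdeal A := by
  classical
  -- value of Dl at a₀
  have hD : eval a₀ (Dl A n P) = (Matrix.of (fun i j => eval a₀ (pderiv j (P i)))).det := by
    rw [Dl, RingHom.map_det]
    congr 1
  have hDu : IsUnit (eval a₀ (Dl A n P)) := by rw [hD]; exact hJ
  have hDr : residue A (eval a₀ (Dl A n P)) ≠ 0 := by
    intro h
    exact (IsLocalRing.residue_ne_zero_iff_isUnit _).mpr hDu h
  -- the residue point
  let pt : Fin n ⊕ Unit → ResidueField A :=
    Sum.elim (fun j => residue A (a₀ j)) (fun _ => (residue A (eval a₀ (Dl A n P)))⁻¹)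
  have hpt : ∀ p : MvPolynomial (Fin n) A,
      aeval pt (rename Sum.inl p) = residue A (eval a₀ p) := by
    intro p
    rw [aeval_rename]
    have : (aeval (pt ∘ Sum.inl) : MvPolynomial (Fin n) A →ₐ[A] ResidueField A)
        = (residueAlgHom A).comp (aeval a₀) := by
      apply MvPolynomial.algHom_ext
      intro i
      simp [pt]
    rw [this]
    simp [MvPolynomial.aeval_eq_eval]  
  have hker : ∀ x ∈ Ideal.span (Set.range (vv A n P)), (aeval pt : _ →ₐ[A] ResidueField A) x = 0 := by
    intro x hx
    have : Ideal.span (Set.range (vv A n P)) ≤ RingHom.ker (aeval pt : _ →ₐ[A] ResidueField A) := by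
      rw [Ideal.span_le]
      rintro _ ⟨i, rfl⟩
      rw [SetLike.mem_coe, RingHom.mem_ker]
      rcases i with i | i
      · simp only [vv]
        rw [hpt]
        exact (IsLocalRing.residue_eq_zero_iff _).mpr (h₀ i)
      · simp only [vv]
        rw [map_sub, map_mul, hpt, aeval_X, map_one]
        simp only [pt, Sum.elim_inr]
        rw [inv_mul_cancel₀ hDr, sub_self]
    exact this hx
  let φ : SS A n P →ₐ[A] ResidueField A := Ideal.Quotient.liftₐ _ (aeval pt) hker
  obtain ⟨σ, hσ⟩ := exists_algHom_of_etale φ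
  refine ⟨fun j => σ (Ideal.Quotient.mk _ (X (Sum.inl j))), ?_, ?_⟩
  · intro i
    have e : ∀ p : MvPolynomial (Fin n) A,
        eval (fun j => σ (Ideal.Quotient.mk _ (X (Sum.inl j)))) p
          = σ (Ideal.Quotient.mk _ (rename Sum.inl p)) := by
      intro p
      have : (aeval (fun j => σ (Ideal.Quotient.mk (Ideal.span (Set.range (vv A n P))) (X (Sum.inl j))))
            : MvPolynomial (Fin n) A →ₐ[A] A)
          = (σ.comp (Ideal.Quotient.mkₐ A _)).comp (rename Sum.inl) := by
        apply MvPolynomial.algHom_ext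
        intro j
        simp
      have h2 := congrArg (fun f => f p) this
      simpa [MvPolynomial.aeval_eq_eval] using h2
    rw [e]
    have : Ideal.Quotient.mk (Ideal.span (Set.range (vv A n P))) (rename Sum.inl (P i)) = 0 := by
      rw [Ideal.Quotient.eq_zero_iff_mem]
      exact Ideal.subset_span ⟨Sum.inl i, rfl⟩
    rw [this, map_zero]
  · intro j
    have h1 := congrArg (fun f => f (Ideal.Quotient.mk _ (X (Sum.inl j)))) hσ
    simp only [AlgHom.comp_apply, residueAlgHom_apply] at h1
    have h2 : φ (Ideal.Quotient.mk _ (X (Sum.inl j))) = residue A (a₀ j) := by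
      have : φ (Ideal.Quotient.mk _ (X (Sum.inl j))) = aeval pt (X (Sum.inl j) : MvPolynomial (Fin n ⊕ Unit) A) :=
        Ideal.Quotient.liftₐ_apply _ _ hker _
      rw [this]
      simp [pt]
    rw [h2] at h1
    rw [← Ideal.Quotient.eq] at *
    exact h1

end Groth.Agent.S17972.Aux

namespace Groth.Agent.S17972

/-- Let A be a henselian local ring with maximal ideal m, let P_1, …, P_n be polynomials over A in n
variables and a₀ ∈ A^n a point with P_i(a₀) ∈ m for all i whose Jacobian determinant
det(∂P_i/∂T_j)(a₀) is a unit of A, i.e. nonzero in the residue field. Then there is a ∈ A^n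
congruent to a₀ modulo m in each coordinate with P_i(a) = 0 for all i. -/
theorem result
    (A : Type u) [CommRing A] [HenselianLocalRing A] (n : ℕ)
    (P : Fin n → MvPolynomial (Fin n) A) (a₀ : Fin n → A)
    (h₀ : ∀ i, MvPolynomial.eval a₀ (P i) ∈ IsLocalRing.maximalIdeal A)
    (hJ : IsUnit (Matrix.of (fun i j => MvPolynomial.eval a₀ (MvPolynomial.pderiv j (P i)))).det) :
    ∃ a : Fin n → A, (∀ i, MvPolynomial.eval a (P i) = 0) ∧
      ∀ j, a j - a₀ j ∈ IsLocalRing.maximalIdeal A := by
  exact Aux.main A n P a₀ h₀ hJ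

end Groth.Agent.S17972
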