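import Groth.Statements.S11544
import Mathlib
import Groth.Agent.S0497
import Groth.Agent.S0525
import Groth.Agent.Lib.Helper3.CompleteFinite

set_option autoImplicit false
universe u
open AdicRing

namespace Groth.Agent.S11544

set_option linter.style.haveILetI false
open Polynomial IsLocalRing

/-- A complete height-one valuation ring is a henselian local ring. -/
theorem henselianLocalRing (R : Type u) [CommRing R] [IsDomain R] [ValuationRing R]
    [Ring.KrullDimLE 1 R] (t : R) (ht : t ≠ 0) [IsAdicComplete (Ideal.span {t}) R] :
    HenselianLocalRing R := by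
  have htu : ¬ IsUnit t := by
    intro hu
    have h1 : Ideal.span {t} = ⊤ := Ideal.span_singleton_eq_top.2 hu
    have h2 : IsHausdorff (Ideal.span {t}) R := inferInstance
    rw [h1] at h2
    have := h2.subsingleton
    exact not_subsingleton R this
  have hrad : (Ideal.span {t}).radical = (maximalIdeal R).radical := by
    rw [Ideal.radical_eq_sInf, (Ideal.IsMaximal.isPrime' (maximalIdeal R)).radical]
    apply le_antisymm
    · apply sInf_le
      refine ⟨?_, inferInstance⟩
      rw [Ideal.span_singleton_le_iff_mem]
      exact htu
    · apply le_sInf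
      rintro J ⟨hJ, hJp⟩
      have hJ0 : J ≠ ⊥ := by
        rintro rfl
        rw [Ideal.span_singleton_le_iff_mem, Ideal.mem_bot] at hJ
        exact ht hJ
      have := hJp.isMaximal_of_ne_bot hJ0
      rw [IsLocalRing.eq_maximalIdeal this]
  haveI : HenselianRing R (maximalIdeal R) :=
    (Groth.Agent.S0525.result R _ _ hrad).1 inferInstance
  exact Groth.Agent.Lib.Helper3.henselianLocalRing_of_henselianRing_maximalIdeal R

set_option maxHeartbeats 800000 in
/-- Over a henselian valuation ring, a monic irreducible polynomial over the fraction field with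
integral constant coefficient has all coefficients integral. -/
theorem coeff_mem_of_irreducible (R : Type u) [CommRing R] [IsDomain R] [ValuationRing R]
    [HenselianLocalRing R] (K : Type u) [Field K] [Algebra R K] [IsFractionRing R K]
    (f : K[X]) (hf : f.Monic) (hirr : Irreducible f)
    (h0 : f.coeff 0 ∈ (algebraMap R K).range) (i : ℕ) : f.coeff i ∈ (algebraMap R K).range := by
  classical
  by_contra hcon
  set v := ValuationRing.valuation R K with hv
  have hint : ∀ x : K, v x ≤ 1 ↔ x ∈ (algebraMap R K).range := by
    intro x
    rw [← Valuation.mem_integer_iff, ValuationRing.mem_integer_iff]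
    rfl
  set n := f.natDegree with hn
  have hi_le : i ≤ n := by
    by_contra h
    rw [not_le] at h
    rw [coeff_eq_zero_of_natDegree_lt h] at hcon
    exact hcon (zero_mem _)
  -- the maximal valuation
  obtain ⟨j₀, hj₀mem, hj₀⟩ := Finset.exists_max_image (Finset.range (n + 1)) (fun i => v (f.coeff i))
    ⟨0, by simp⟩
  set M := v (f.coeff j₀) with hM
  have hM1 : 1 < M := by
    have h1 : ¬ v (f.coeff i) ≤ 1 := fun h => hcon ((hint _).1 h)
    rw [not_le] at h1
    exact lt_of_lt_of_le h1 (hj₀ i (by simp; omega))
  -- the largest index with maximal valuation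
  set S := (Finset.range (n + 1)).filter (fun i => v (f.coeff i) = M) with hS
  have hSne : S.Nonempty := ⟨j₀, Finset.mem_filter.2 ⟨hj₀mem, rfl⟩⟩
  set j := S.max' hSne with hj
  have hjS : j ∈ S := Finset.max'_mem S hSne
  have hjle : j ≤ n := by
    have := (Finset.mem_filter.1 hjS).1
    simp at this; omega
  have hvj : v (f.coeff j) = M := (Finset.mem_filter.1 hjS).2
  have hle : ∀ k, v (f.coeff k) ≤ M := by
    intro k
    by_cases hk : k ≤ n
    · exact hj₀ k (by simp; omega)
    · rw [coeff_eq_zero_of_natDegree_lt (by omega), map_zero]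
      exact zero_le
  have hlt : ∀ k, j < k → v (f.coeff k) < M := by
    intro k hk
    refine lt_of_le_of_ne (hle k) fun h => ?_
    have hkn : k ≤ n := by
      by_contra hkn
      rw [coeff_eq_zero_of_natDegree_lt (by omega), map_zero] at h
      rw [← h] at hM1
      exact not_lt.2 zero_le hM1
    have : k ∈ S := Finset.mem_filter.2 ⟨by simp; omega, h⟩
    have := Finset.le_max' S k this
    omega
  have hjn : j ≠ n := by
    intro h
    rw [h, hn, hf.coeff_natDegree, map_one] at hvj
    rw [← hvj] at hM1
    exact lt_irrefl _ hM1
  have hj0 : j ≠ 0 := by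
    intro h
    rw [h] at hvj
    have := (hint _).2 h0
    rw [hvj] at this
    exact not_lt.2 this hM1
  set c := f.coeff j with hc
  have hc0 : c ≠ 0 := by
    intro h
    rw [h, map_zero] at hvj
    rw [← hvj] at hM1
    exact not_lt.2 zero_le hM1
  have hM0 : M ≠ 0 := by rw [← hvj]; exact (Valuation.ne_zero_iff _).2 hc0
  -- integral coefficients
  have hb : ∀ k, ∃ r : R, algebraMap R K r = f.coeff k / c := by
    intro k
    have : v (f.coeff k / c) ≤ 1 := by
      rw [map_div₀, hvj]
      exact div_le_one_of_le₀ (hle k) zero_le
    exact (hint _).1 this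
  choose r hr using hb
  have hinj : Function.Injective (algebraMap R K) := IsFractionRing.injective R K
  have hrj : r j = 1 := by
    apply hinj
    rw [hr, map_one, div_self hc0]
  have hrk : ∀ k, j < k → r k ∈ maximalIdeal R := by
    intro k hk
    rw [mem_maximalIdeal, mem_nonunits_iff]
    intro hu
    obtain ⟨s, hs⟩ := hu.exists_right_inv
    have h1 : v (algebraMap R K (r k)) * v (algebraMap R K s) = 1 := by
      rw [← map_mul, ← map_mul, hs, map_one, map_one]
    have h2 : v (algebraMap R K s) ≤ 1 := (hint _).2 ⟨s, rfl⟩
    have h3 : v (algebraMap R K (r k)) < 1 := by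
      rw [hr, map_div₀, hvj]
      exact (div_lt_one₀ (zero_lt_iff.2 hM0)).2 (hlt k hk)
    have h4 : v (algebraMap R K (r k)) * v (algebraMap R K s) ≤ v (algebraMap R K (r k)) * 1 :=
      mul_le_mul_right h2 _
    rw [h1, mul_one] at h4
    exact not_lt.2 h4 h3
  -- the integral polynomial
  set g : R[X] := ∑ k ∈ Finset.range (n + 1), monomial k (r k) with hg
  have hgcoeff : ∀ k, g.coeff k = if k ≤ n then r k else 0 := by
    intro k
    rw [hg, finsetSum_coeff]
    simp only [coeff_monomial]
    rw [Finset.sum_ite_eq' (Finset.range (n + 1)) k]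
    simp only [Finset.mem_range, Nat.lt_succ_iff]
  have hgmap : g.map (algebraMap R K) = C c⁻¹ * f := by
    ext k
    rw [coeff_map, hgcoeff, coeff_C_mul]
    split_ifs with hk
    · rw [hr, div_eq_inv_mul]
    · rw [map_zero, coeff_eq_zero_of_natDegree_lt (by omega), mul_zero]
  set gbar := g.map (residue R) with hgbar
  have hgbar_coeff_gt : ∀ k, j < k → gbar.coeff k = 0 := by
    intro k hk
    rw [hgbar, coeff_map, hgcoeff]
    split_ifs with hkn
    · exact (residue_eq_zero_iff _).2 (hrk k hk)
    · exact map_zero _
  have hgbar_coeff_j : gbar.coeff j = 1 := by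
    rw [hgbar, coeff_map, hgcoeff, if_pos hjle, hrj, map_one]
  have hgbar_deg : gbar.natDegree = j := by
    apply le_antisymm
    · rw [natDegree_le_iff_coeff_eq_zero]
      exact hgbar_coeff_gt
    · apply le_natDegree_of_ne_zero
      rw [hgbar_coeff_j]; exact one_ne_zero
  have hgbar_monic : gbar.Monic := by
    rw [Monic, leadingCoeff, hgbar_deg, hgbar_coeff_j]
  obtain ⟨G, H, hGH, hGm, hG0, hH0⟩ := Groth.Agent.S0497.result R g gbar 1 hgbar_monic
    isCoprime_one_right (by rw [mul_one])
  have hGdeg : G.natDegree = j := by
    rw [← hGm.natDegree_map (residue R), hG0, hgbar_deg]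
  set GK := G.map (algebraMap R K) with hGK
  set HK := H.map (algebraMap R K) with hHK
  have hGKm : GK.Monic := hGm.map _
  have hGKdeg : GK.natDegree = j := by rw [hGK, hGm.natDegree_map, hGdeg]
  have hfac : f = (C c * GK) * HK := by
    have h1 : C c * g.map (algebraMap R K) = f := by
      rw [hgmap, ← mul_assoc, ← C_mul, mul_inv_cancel₀ hc0, C_1, one_mul]
    rw [← h1, hGH, Polynomial.map_mul, mul_assoc]
  have hdeg1 : (C c * GK).natDegree = j := by
    rw [natDegree_C_mul hc0, hGKdeg]
  rcases hirr.isUnit_or_isUnit hfac with h | h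
  · have := natDegree_eq_zero_of_isUnit h
    rw [hdeg1] at this
    exact hj0 this
  · have h2 := natDegree_eq_zero_of_isUnit h
    have h3 : f.natDegree = (C c * GK).natDegree + HK.natDegree := by
      conv_lhs => rw [hfac]
      apply natDegree_mul
      · intro h0
        rw [h0, natDegree_zero] at hdeg1
        exact hj0 hdeg1.symm
      · exact h.ne_zero
    rw [h2, hdeg1, add_zero] at h3
    exact hjn h3.symm


/-- Let R be a complete valuation ring of height one with t a nonzero element generating an ideal of
definition, K its field of fractions, L an algebraic extension field of K and α an element of L.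
Then α is integral over R if and only if the norm of α from K(α) down to K lies in R. -/
theorem result
    (R : Type u) [CommRing R] [IsDomain R] [ValuationRing R] [Ring.KrullDimLE 1 R]
    (t : R) (ht : t ≠ 0) [IsAdicComplete (Ideal.span {t}) R]
    (L : Type u) [Field L] [Algebra R L] [Algebra (FractionRing R) L]
    [IsScalarTower R (FractionRing R) L] [Algebra.IsAlgebraic (FractionRing R) L] (α : L) :
    IsIntegral R α ↔
      Algebra.norm (FractionRing R) (IntermediateField.AdjoinSimple.gen (FractionRing R) α) ∈
        (algebraMap R (FractionRing R)).range := by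
  classical
  haveI hHens : HenselianLocalRing R := henselianLocalRing R t ht
  set K := FractionRing R with hK
  have hαK : IsIntegral K α := (Algebra.IsAlgebraic.isAlgebraic α).isIntegral
  have hnorm : Algebra.norm K (IntermediateField.AdjoinSimple.gen K α) =
      (-1) ^ (minpoly K α).natDegree * (minpoly K α).coeff 0 := by
    have h1 := Algebra.PowerBasis.norm_gen_eq_coeff_zero_minpoly (IntermediateField.adjoin.powerBasis hαK)
    rw [IntermediateField.adjoin.powerBasis_gen, IntermediateField.minpoly_gen,
      IntermediateField.adjoin.powerBasis_dim] at h1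
    exact h1
  rw [hnorm]
  have hsign : ((-1 : K) ^ (minpoly K α).natDegree) ∈ (algebraMap R K).range :=
    ⟨(-1) ^ (minpoly K α).natDegree, by simp⟩
  constructor
  · intro hint
    have h1 : minpoly K α = (minpoly R α).map (algebraMap R K) :=
      minpoly.isIntegrallyClosed_eq_field_fractions' K hint
    refine Subring.mul_mem _ hsign ?_
    rw [h1, coeff_map]
    exact ⟨_, rfl⟩
  · intro hN
    have h0 : (minpoly K α).coeff 0 ∈ (algebraMap R K).range := by
      have h2 := Subring.mul_mem _ hsign hN
      rw [← mul_assoc, ← pow_add, ← two_mul, pow_mul] at h2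
      simpa using h2
    have hall : ∀ i, (minpoly K α).coeff i ∈ (algebraMap R K).range :=
      coeff_mem_of_irreducible R K (minpoly K α) (minpoly.monic hαK) (minpoly.irreducible hαK) h0
    have hlift : minpoly K α ∈ Polynomial.lifts (algebraMap R K) := by
      rw [Polynomial.lifts_iff_coeff_lifts]
      intro n
      obtain ⟨r, hr⟩ := hall n
      exact ⟨r, hr⟩
    obtain ⟨q, hq, -, hqm⟩ := Polynomial.lifts_and_natDegree_eq_and_monic hlift (minpoly.monic hαK)
    refine ⟨q, hqm, ?_⟩
    have h3 : eval₂ (algebraMap R L) α q = eval₂ (algebraMap K L) α (q.map (algebraMap R K)) := by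
      rw [eval₂_map, ← IsScalarTower.algebraMap_eq]
    rw [h3, hq, ← aeval_def, minpoly.aeval]

end Groth.Agent.S11544
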