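import Groth.Statements.S16688
import Groth.Agent.Lib.Helper84.Antipode
-- import your own Groth.Agent.* helpers here

set_option autoImplicit false
universe u v w
open ComodSub

namespace Groth.Agent.S16688

open TensorProduct

section
variable {k : Type u} [CommRing k] {A : Type v} [CommRing A] [HopfAlgebra k A]
  {M : Type w} [AddCommGroup M] [Module k M]

local notation "𝑺" => (HopfAlgebraStruct.antipode (R := k) (A := A))
local notation "Δ" => (CoalgebraStruct.comul (R := k) (A := A))
local notation "ε" => (CoalgebraStruct.counit (R := k) (A := A))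

theorem N1 (l : ComodSub.LComod k A M) (x : A ⊗[k] M) :
    (ComodSub.rcoactOfLeft l).rTensor A (TensorProduct.comm k A M (LinearMap.rTensor M 𝑺 x)) =
      TensorProduct.comm k A (M ⊗[k] A)
        (TensorProduct.map 𝑺 ((TensorProduct.comm k A M).toLinearMap ∘ₗ LinearMap.rTensor M 𝑺)
          (l.coact.lTensor A x)) := by
  induction x using TensorProduct.induction_on with
  | zero => simp
  | tmul a u =>
    simp only [LinearMap.rTensor_tmul, TensorProduct.comm_tmul, LinearMap.lTensor_tmul,
      TensorProduct.map_tmul, LinearMap.comp_apply, LinearEquiv.coe_coe]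
    rw [ComodSub.rcoactOfLeft_apply]
  | add x y hx hy => simp only [map_add, hx, hy]

theorem N2 (x : A ⊗[k] M) :
    LinearMap.lTensor M Δ (TensorProduct.comm k A M (LinearMap.rTensor M 𝑺 x)) =
      TensorProduct.comm k (A ⊗[k] A) M
        ((TensorProduct.map 𝑺 𝑺 ∘ₗ (TensorProduct.comm k A A).toLinearMap).rTensor M
          (LinearMap.rTensor M Δ x)) := by
  induction x using TensorProduct.induction_on with
  | zero => simp
  | tmul a u =>
    simp only [LinearMap.rTensor_tmul, TensorProduct.comm_tmul, LinearMap.lTensor_tmul,
      LinearMap.comp_apply, LinearEquiv.coe_coe]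
    rw [Groth.Agent.Lib.Helper84.comul_antipode]
  | add x y hx hy => simp only [map_add, hx, hy]

theorem N3 (w : (A ⊗[k] A) ⊗[k] M) :
    TensorProduct.assoc k M A A (TensorProduct.comm k A (M ⊗[k] A)
        (TensorProduct.map 𝑺 ((TensorProduct.comm k A M).toLinearMap ∘ₗ LinearMap.rTensor M 𝑺)
          (TensorProduct.assoc k A A M w))) =
      TensorProduct.comm k (A ⊗[k] A) M
        ((TensorProduct.map 𝑺 𝑺 ∘ₗ (TensorProduct.comm k A A).toLinearMap).rTensor M w) := by
  induction w using TensorProduct.induction_on with
  | zero => simp
  | tmul ab u =>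
    induction ab using TensorProduct.induction_on with
    | zero => simp
    | tmul a b => simp
    | add x y hx hy => simp only [add_tmul, map_add, hx, hy]
  | add x y hx hy => simp only [map_add, hx, hy]

theorem N4 (x : A ⊗[k] M) :
    LinearMap.lTensor M ε (TensorProduct.comm k A M (LinearMap.rTensor M 𝑺 x)) =
      TensorProduct.comm k k M (LinearMap.rTensor M ε x) := by
  induction x using TensorProduct.induction_on with
  | zero => simp
  | tmul a u => simp
  | add x y hx hy => simp only [map_add, hx, hy]

end


/-- Let `k` be a commutative ring, `A` a commutative Hopf algebra over `k` with antipode `S`, and `M` a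
`k`-module with a left `A`-comodule structure `m ↦ Σ m₋₁ ⊗ m₀`. Then the map `M → M ⊗ A`, `m ↦ Σ m₀
⊗ S(m₋₁)`, is coassociative and counital: it is the coaction of a right `A`-comodule structure on
`M` (a right structure is determined by its coaction, so this structure is unique). -/
theorem result (k : Type u) [CommRing k]
    (A : Type v) [CommRing A] [HopfAlgebra k A]
    (M : Type w) [AddCommGroup M] [Module k M] (l : ComodSub.LComod k A M) :
    ∃ c : HopfRep.Comod k A M, c.coact = ComodSub.rcoactOfLeft l := by
  refine ⟨{ coact := ComodSub.rcoactOfLeft l, coassoc := ?_, counit_comp := ?_ }, rfl⟩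
  · ext v
    simp only [LinearMap.comp_apply, LinearEquiv.coe_coe]
    have hco := LinearMap.congr_fun l.coassoc v
    simp only [LinearMap.comp_apply, LinearEquiv.coe_coe] at hco
    conv_lhs => rw [ComodSub.rcoactOfLeft_apply, N1, hco, N3, ← N2, ← ComodSub.rcoactOfLeft_apply]
  · ext v
    simp only [LinearMap.comp_apply]
    have hcu := LinearMap.congr_fun l.counit_comp v
    simp only [LinearMap.comp_apply] at hcu
    rw [ComodSub.rcoactOfLeft_apply, N4, hcu]
    simp

end Groth.Agent.S16688
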