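import Groth.Statements.S17328
import Mathlib
import Groth.Agent.Lib.Helper86.HopfDer
import Groth.Agent.Lib.Helper86.HopfDer2

set_option autoImplicit false
universe u v
open Hopf

namespace Groth.Agent.S17328

open Groth.Agent.Lib.Helper86.HopfDer

section Aux

variable (k : Type u) [Field k] (A : Type v) [CommRing A] [Bialgebra k A]

local notation "ε" => Bialgebra.counitAlgHom k A
local notation "I" => RingHom.ker (Bialgebra.counitAlgHom k A)

lemma sub_mem_ker (a : A) : a - algebraMap k A (ε a) ∈ I := by
  rw [RingHom.mem_ker, map_sub, AlgHom.commutes]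
  simp

/-- the projection `A → I/I²`, `a ↦ class of a - ε a`. -/
noncomputable def P : A →ₗ[k] (I).Cotangent where
  toFun a := (I).toCotangent ⟨a - algebraMap k A (ε a), sub_mem_ker k A a⟩
  map_add' a b := by
    rw [← map_add]
    congr 1
    ext
    simp only [map_add, Submodule.coe_add]
    ring
  map_smul' c a := by
    rw [RingHom.id_apply, ← LinearMap.map_smul_of_tower]
    congr 1
    apply Subtype.ext
    rw [Submodule.coe_smul_of_tower]
    show c • a - algebraMap k A (ε (c • a)) = c • (a - algebraMap k A (ε a))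
    rw [map_smul, smul_eq_mul, map_mul, smul_sub, Algebra.smul_def, Algebra.smul_def]

lemma P_apply (a : A) :
    P k A a = (I).toCotangent ⟨a - algebraMap k A (ε a), sub_mem_ker k A a⟩ := rfl

lemma P_of_mem (a : A) (ha : a ∈ I) : P k A a = (I).toCotangent ⟨a, ha⟩ := by
  rw [P_apply]
  congr 1
  apply Subtype.ext
  rw [RingHom.mem_ker] at ha
  simp [ha]

lemma P_mul (a b : A) : P k A (a * b) = (ε a) • P k A b + (ε b) • P k A a := by
  simp only [P_apply]
  rw [← LinearMap.map_smul_of_tower, ← LinearMap.map_smul_of_tower, ← map_add,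
    Ideal.toCotangent_eq]
  have e : ((⟨a * b - algebraMap k A (ε (a * b)), sub_mem_ker k A (a * b)⟩ : I) : A) -
      (((ε a) • (⟨b - algebraMap k A (ε b), sub_mem_ker k A b⟩ : I) +
        (ε b) • (⟨a - algebraMap k A (ε a), sub_mem_ker k A a⟩ : I) : I) : A) =
      (a - algebraMap k A (ε a)) * (b - algebraMap k A (ε b)) := by
    rw [Submodule.coe_add, Submodule.coe_smul_of_tower, Submodule.coe_smul_of_tower]
    simp only [map_mul, Algebra.smul_def]
    ring
  rw [e, pow_two]
  exact Ideal.mul_mem_mul (sub_mem_ker k A a) (sub_mem_ker k A b)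

end Aux

theorem result (k : Type u) [Field k] [IsAlgClosed k]
    (p : ℕ) [Fact p.Prime] [CharP k p] (A : Type v) [CommRing A] [HopfAlgebra k A] [Module.Finite k A]
    (h1 : ∀ f : A, Bialgebra.counitAlgHom k A f = 0 → f ^ p = 0) :
    Module.finrank k A = p ^ Module.finrank k (RingHom.ker (Bialgebra.counitAlgHom k A)).Cotangent := by
  classical
  set I := RingHom.ker (Bialgebra.counitAlgHom k A) with hIdef
  have hNoeth : IsNoetherian k A := inferInstance
  have hNR : IsNoetherianRing A := isNoetherian_of_tower k hNoeth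
  have hfinI : Module.Finite k I :=
    Module.Finite.of_injective (I.subtype.restrictScalars k) Subtype.val_injective
  have hfinC : Module.Finite k I.Cotangent :=
    Module.Finite.of_surjective (I.toCotangent.restrictScalars k) I.toCotangent_surjective
  set n := Module.finrank k I.Cotangent with hn
  let b : Module.Basis (Fin n) k I.Cotangent := Module.finBasis k I.Cotangent
  choose y hy using fun i => I.toCotangent_surjective (b i)
  let x : Fin n → A := fun i => (y i : A)
  have hx : ∀ i, x i ∈ I := fun i => (y i).2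
  have hPx : ∀ i, P k A (x i) = b i := by
    intro i
    rw [P_of_mem k A (x i) (hx i)]
    exact hy i
  -- the ε-derivations
  let d : Fin n → A →ₗ[k] k := fun j => (b.coord j) ∘ₗ (P k A)
  have hd : ∀ j, IsEpsDer (d j) := by
    intro j a c
    show b.coord j (P k A (a * c)) = Coalgebra.counit (R := k) a * b.coord j (P k A c) +
      b.coord j (P k A a) * Coalgebra.counit (R := k) c
    rw [P_mul, map_add, map_smul, map_smul, smul_eq_mul, smul_eq_mul,
      Bialgebra.counitAlgHom_apply, Bialgebra.counitAlgHom_apply]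
    ring
  let D : Fin n → Derivation k A A := fun j => invDer (d j) (hd j)
  have hDx : ∀ i j, D j (x i) - (if i = j then 1 else 0) ∈ I := by
    intro i j
    rw [hIdef, RingHom.mem_ker, map_sub, Bialgebra.counitAlgHom_apply, counit_invDer]
    simp only [d, LinearMap.comp_apply, hPx, Module.Basis.coord_apply, Module.Basis.repr_self,
      Finsupp.single_apply]
    split_ifs <;> simp
  have hI : I ≠ ⊤ := by
    intro h
    have : (1 : A) ∈ I := by rw [h]; exact Submodule.mem_top
    rw [hIdef, RingHom.mem_ker, map_one] at this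
    exact one_ne_zero this
  have hsplit : ∀ a : A, ∃ c : k, a - algebraMap k A c ∈ I :=
    fun a => ⟨Bialgebra.counitAlgHom k A a, sub_mem_ker k A a⟩
  have hgen : ∀ a ∈ I, ∃ c : Fin n → k, a - ∑ i, c i • x i ∈ I ^ 2 := by
    intro a ha
    refine ⟨fun i => b.repr (I.toCotangent ⟨a, ha⟩) i, ?_⟩
    have h2 : I.toCotangent ⟨a, ha⟩ =
        I.toCotangent (∑ i, b.repr (I.toCotangent ⟨a, ha⟩) i • y i) := by
      rw [map_sum]
      conv_lhs => rw [← b.sum_repr (I.toCotangent ⟨a, ha⟩)]
      refine Finset.sum_congr rfl fun i _ => ?_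
      rw [LinearMap.map_smul_of_tower, hy]
    rw [Ideal.toCotangent_eq] at h2
    convert h2 using 2
    simp only [Submodule.coe_sum, Submodule.coe_smul_of_tower]
    rfl
  have hpow : ∀ a ∈ I, a ^ p = 0 := fun a ha => h1 a ha
  have hnilp : ∃ N, I ^ N = ⊥ := by
    have hfg : I.FG := (isNoetherianRing_iff_ideal_fg A).1 hNR I
    have hle : I ≤ nilradical A := fun a ha => ⟨p, hpow a ha⟩
    obtain ⟨N, hN⟩ := (Ideal.FG.isNilpotent_iff_le_nilradical hfg).2 hle
    exact ⟨N, hN⟩
  have := finrank_eq_pow p I hI x hx D hDx hsplit hgen hpow hnilp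
  rw [this, Fintype.card_fin]


end Groth.Agent.S17328
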