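import Groth.Statements.S16211
import Mathlib

set_option autoImplicit false
universe u v
open InvTh

namespace Groth.Agent.S16211

/-- Let R be a commutative ring, O a formally smooth R-algebra and G a finite group whose order is
invertible in R, acting on O by R-algebra automorphisms. Then the largest quotient algebra of O on
which G acts trivially, namely the quotient of O by the ideal generated by all g • f - f (the
coordinate ring of the subscheme of G-fixed points of Spec O), is again formally smooth over R:
invariant homomorphisms lift along square-zero extensions. The published statement is about a scheme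
X smooth and of finite presentation over the base and concludes that its fixed-point scheme is
smooth; this row, the affine step of its proof, assumes only that O is formally smooth over R and
concludes only formal smoothness. -/
theorem result (R : Type u) [CommRing R]
    (O : Type u) [CommRing O] [Algebra R O] [Algebra.FormallySmooth R O]
    (G : Type v) [Group G] [Finite G] [MulSemiringAction G O] [SMulCommClass G R O]
    (hG : IsUnit (Nat.card G : R)) :
    Algebra.FormallySmooth R (O ⧸ Ideal.span {x : O | ∃ (g : G) (f : O), x = g • f - f}) := by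
  classical
  cases nonempty_fintype G
  obtain ⟨u, hu⟩ := hG.exists_left_inv
  rw [Nat.card_eq_fintype_card] at hu
  set J : Ideal O := Ideal.span {x : O | ∃ (g : G) (f : O), x = g • f - f} with hJ
  apply Algebra.FormallySmooth.of_comp_surjective
  intro B _ _ I hI ψ
  have hI2 : ∀ a ∈ I, ∀ b ∈ I, a * b = 0 := by
    intro a ha b hb
    have : a * b ∈ I ^ 2 := by rw [pow_two]; exact Ideal.mul_mem_mul ha hb
    rw [hI] at this
    exact this
  let q : O →ₐ[R] O ⧸ J := Ideal.Quotient.mkₐ R J
  have hq : ∀ (g : G) (x : O), q (g • x) = q x := by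
    intro g x
    have : g • x - x ∈ J := Ideal.subset_span ⟨g, x, rfl⟩
    have h2 : q (g • x - x) = 0 := by
      show Ideal.Quotient.mk J (g • x - x) = 0
      exact Ideal.Quotient.eq_zero_iff_mem.2 this
    rw [map_sub, sub_eq_zero] at h2
    exact h2
  obtain ⟨φ, hφ⟩ := Algebra.FormallySmooth.comp_surjective R O I hI (ψ.comp q)
  have hφ' : ∀ x : O, Ideal.Quotient.mk I (φ x) = ψ (q x) := fun x => DFunLike.congr_fun hφ x
  -- differences lie in I
  have hδ : ∀ (g : G) (x : O), φ (g • x) - φ x ∈ I := by
    intro g x
    rw [← Ideal.Quotient.eq_zero_iff_mem, map_sub, hφ', hφ', hq, sub_self]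
  let D : O → B := fun x => u • ∑ g : G, (φ (g • x) - φ x)
  have hD : ∀ x, D x ∈ I := fun x =>
    Submodule.smul_of_tower_mem I u (Ideal.sum_mem _ (fun g _ => hδ g x))
  have hcardsmul : ∀ b : B, u • ((Fintype.card G : ℕ) • b) = b := by
    intro b
    rw [← Nat.cast_smul_eq_nsmul R, ← mul_smul, hu, one_smul]
  have hφD : ∀ x, φ x + D x = u • ∑ g : G, φ (g • x) := by
    intro x
    simp only [D]
    rw [Finset.sum_sub_distrib, Finset.sum_const, Finset.card_univ, smul_sub, hcardsmul]
    abel
  have hDmul : ∀ x y, D (x * y) = φ x * D y + D x * φ y := by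
    intro x y
    simp only [D]
    rw [mul_smul_comm, smul_mul_assoc, ← smul_add, Finset.mul_sum, Finset.sum_mul,
      ← Finset.sum_add_distrib]
    congr 1
    refine Finset.sum_congr rfl (fun g _ => ?_)
    have h0 := hI2 _ (hδ g x) _ (hδ g y)
    rw [smul_mul', map_mul, map_mul]
    have : φ (g • x) * φ (g • y) - φ x * φ y
        = φ x * (φ (g • y) - φ y) + (φ (g • x) - φ x) * φ y
          + (φ (g • x) - φ x) * (φ (g • y) - φ y) := by ring
    rw [this, h0, add_zero]
  let φ' : O →ₐ[R] B :=
    { toFun := fun x => φ x + D x
      map_one' := by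
        simp only [D]
        simp
      map_mul' := by
        intro x y
        rw [hDmul, map_mul]
        have h0 := hI2 _ (hD x) _ (hD y)
        have : (φ x + D x) * (φ y + D y) = φ x * φ y + (φ x * D y + D x * φ y) + D x * D y := by
          ring
        rw [this, h0, add_zero]
      map_zero' := by
        simp only [D]
        simp
      map_add' := by
        intro x y
        rw [hφD, hφD, hφD, ← smul_add, ← Finset.sum_add_distrib]
        congr 1
        refine Finset.sum_congr rfl (fun g _ => ?_)
        rw [smul_add, map_add]
      commutes' := by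
        intro r
        simp only [D]
        simp [smul_algebraMap] }
  have hφ'apply : ∀ x, φ' x = u • ∑ g : G, φ (g • x) := hφD
  have hinv : ∀ (h : G) (x : O), φ' (h • x) = φ' x := by
    intro h x
    rw [hφ'apply, hφ'apply]
    congr 1
    simp_rw [← mul_smul]
    exact Fintype.sum_equiv (Equiv.mulRight h) _ _ (fun _ => rfl)
  have hJker : ∀ a ∈ J, φ' a = 0 := by
    intro a ha
    have : J ≤ RingHom.ker φ'.toRingHom := by
      rw [hJ, Ideal.span_le]
      rintro _ ⟨g, f, rfl⟩
      show φ' (g • f - f) = 0
      rw [map_sub, hinv, sub_self]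
    exact this ha
  refine ⟨Ideal.Quotient.liftₐ J φ' hJker, ?_⟩
  apply AlgHom.ext
  intro x
  obtain ⟨x, rfl⟩ := Ideal.Quotient.mk_surjective x
  show Ideal.Quotient.mk I (φ' x) = ψ (Ideal.Quotient.mk J x)
  have : Ideal.Quotient.mk I (φ' x) = Ideal.Quotient.mk I (φ x) := by
    rw [← sub_eq_zero, ← map_sub, Ideal.Quotient.eq_zero_iff_mem]
    show φ x + D x - φ x ∈ I
    rw [add_sub_cancel_left]
    exact hD x
  rw [this, hφ']
  rfl

end Groth.Agent.S16211
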