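import Groth.Statements.S5375
import Groth.Agent.Lib.Helper84.MatCoeff
import Groth.Agent.H40.Comod
-- import your own Groth.Agent.* helpers here

set_option autoImplicit false
universe u
open CategoryTheory CategoryTheory.Limits MonoidalCategory CartesianMonoidalCategory MonObj GrpObj AlgebraicGeometry
open SGA3

namespace Groth.Agent.S5375

/-- Let A be a commutative Hopf algebra over a field k (an affine k-group, not necessarily of finite
type) and x an element of A. Then there is a subalgebra B of A of finite type over k containing x
which is a sub-Hopf-algebra: the comultiplication sends B into B ⊗ B and the antipode preserves B. -/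
theorem result (k : Type u) [Field k] (A : Type u) [CommRing A] [HopfAlgebra k A] (x : A) :
    ∃ B : Subalgebra k A, x ∈ B ∧ B.FG ∧ SGA3.IsHopfSubalgebra k A B := by
  classical
  obtain ⟨W, hfin, hxW, hW⟩ :=
    Groth.Agent.H40.exists_finite_subcomod_mem (k := k) (C := A) (V := A) x
  let b := Module.finBasis k W
  obtain ⟨a, ha1, ha2, ha3⟩ :=
    Groth.Agent.Lib.Helper84.MatCoeff.exists_matCoeff_regular (k := k) (C := A) W hW b
  refine ⟨Groth.Agent.Lib.Helper84.MatCoeff.genAlg (k := k) a, ?_,
    Groth.Agent.Lib.Helper84.MatCoeff.genAlg_fg a,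
    fun y hy => Groth.Agent.Lib.Helper84.MatCoeff.comul_mem_genAlg a ha1 y hy,
    fun y hy => Groth.Agent.Lib.Helper84.MatCoeff.antipode_mem_genAlg' a y hy⟩
  -- x ∈ W ⊆ span of the a j i
  have hWle : ∀ w : W, (w : A) ∈ Groth.Agent.Lib.Helper84.MatCoeff.genAlg (k := k) a := by
    intro w
    have hw := b.sum_repr w
    have hw' : (w : A) = ∑ i, b.repr w i • ((b i : W) : A) := by
      have := congrArg (W.subtype) hw
      rw [map_sum] at this
      simpa using this.symm
    rw [hw']
    apply Subalgebra.sum_mem
    intro i _
    apply Subalgebra.smul_mem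
    rw [ha3 i]
    apply Subalgebra.sum_mem
    intro j _
    apply Subalgebra.smul_mem
    exact Groth.Agent.Lib.Helper84.MatCoeff.mem_genAlg a j i
  exact hWle ⟨x, hxW⟩

end Groth.Agent.S5375
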