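import Groth.Statements.S19445
import Mathlib

set_option autoImplicit false
universe u
open CAlg

namespace Groth.Agent.S19445

open IsLocalRing

section helpers

variable {k : Type u} [Field k] {A : Type u} [CommRing A] [Algebra k A]
  {G : Type u} [Group G] [Fintype G] [MulSemiringAction G A] [SMulCommClass G k A]

/-- the averaging operator -/
noncomputable def avg (k : Type u) [Field k] {A : Type u} [CommRing A] [Algebra k A]
    (G : Type u) [Group G] [Fintype G] [MulSemiringAction G A] [SMulCommClass G k A] : A →ₗ[k] A :=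
  ((Fintype.card G : k)⁻¹) • ∑ g : G, DistribSMul.toLinearMap k A g

theorem avg_apply (a : A) : avg k G a = ((Fintype.card G : k)⁻¹) • ∑ g : G, g • a := by
  simp only [avg, LinearMap.smul_apply, LinearMap.sum_apply, DistribSMul.toLinearMap_apply]

theorem smul_avg (h : G) (a : A) : h • avg k G a = avg k G a := by
  rw [avg_apply, smul_comm, Finset.smul_sum]
  congr 1
  simp_rw [← mul_smul]
  exact Fintype.sum_equiv (Equiv.mulLeft h) _ _ (fun g => rfl)

theorem avg_smul (h : G) (a : A) : avg k G (h • a) = avg k G a := by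
  rw [avg_apply, avg_apply]
  congr 1
  simp_rw [← mul_smul]
  exact Fintype.sum_equiv (Equiv.mulRight h) _ _ (fun g => rfl)

theorem avg_of_fixed (hG : (Fintype.card G : k) ≠ 0) (a : A) (ha : ∀ g : G, g • a = a) :
    avg k G a = a := by
  rw [avg_apply]
  simp_rw [ha]
  rw [Finset.sum_const, Finset.card_univ, ← Nat.cast_smul_eq_nsmul k, smul_smul,
    inv_mul_cancel₀ hG, one_smul]

theorem sub_avg_mem (hG : (Fintype.card G : k) ≠ 0) (I : Ideal A)
    (hI : ∀ (g : G) (a : A), g • a - a ∈ I) (a : A) : a - avg k G a ∈ I := by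
  have h1 : a - avg k G a = ((Fintype.card G : k)⁻¹) • ∑ g : G, (a - g • a) := by
    rw [avg_apply, Finset.sum_sub_distrib, smul_sub, Finset.sum_const, Finset.card_univ,
      ← Nat.cast_smul_eq_nsmul k, smul_smul, inv_mul_cancel₀ hG, one_smul]
  rw [h1, Algebra.smul_def]
  refine I.mul_mem_left _ (I.sum_mem fun g _ => ?_)
  rw [← neg_sub]
  exact I.neg_mem (hI g a)

theorem smul_mem_maximalIdeal [IsLocalRing A] (g : G) {a : A} (ha : a ∈ maximalIdeal A) :
    g • a ∈ maximalIdeal A := by
  rw [mem_maximalIdeal, mem_nonunits_iff] at ha ⊢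
  have := isUnit_map_iff (MulSemiringAction.toRingEquiv G A g) a
  rw [MulSemiringAction.toRingEquiv_apply_apply] at this
  rwa [this]

theorem smul_mem_maximalIdeal_pow [IsLocalRing A] (g : G) (n : ℕ) {a : A}
    (ha : a ∈ maximalIdeal A ^ n) : g • a ∈ maximalIdeal A ^ n := by
  have h1 : (maximalIdeal A).map (MulSemiringAction.toRingHom G A g) ≤ maximalIdeal A := by
    rw [Ideal.map_le_iff_le_comap]
    intro x hx
    exact smul_mem_maximalIdeal g hx
  have h2 : (maximalIdeal A ^ n).map (MulSemiringAction.toRingHom G A g) ≤ maximalIdeal A ^ n := by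
    rw [Ideal.map_pow]
    exact Ideal.pow_right_mono h1 n
  exact h2 (Ideal.mem_map_of_mem _ ha)

theorem avg_mem_of_stable (I : Ideal A) (hI : ∀ (g : G) (a : A), a ∈ I → g • a ∈ I) {a : A}
    (ha : a ∈ I) : avg k G a ∈ I := by
  rw [avg_apply, Algebra.smul_def]
  exact I.mul_mem_left _ (I.sum_mem fun g _ => hI g a ha)


/-- the conjugation-averaged projection -/
noncomputable def cavg (k : Type u) [Field k] {A : Type u} [CommRing A] [Algebra k A]
    (G : Type u) [Group G] [Fintype G] [MulSemiringAction G A] [SMulCommClass G k A]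
    (p : A →ₗ[k] A) : A →ₗ[k] A :=
  ((Fintype.card G : k)⁻¹) • ∑ g : G,
    (DistribSMul.toLinearMap k A g) ∘ₗ p ∘ₗ (DistribSMul.toLinearMap k A g⁻¹)

theorem cavg_apply (p : A →ₗ[k] A) (a : A) :
    cavg k G p a = ((Fintype.card G : k)⁻¹) • ∑ g : G, g • p (g⁻¹ • a) := by
  simp only [cavg, LinearMap.smul_apply, LinearMap.sum_apply, LinearMap.comp_apply,
    DistribSMul.toLinearMap_apply]

theorem cavg_smul (p : A →ₗ[k] A) (h : G) (a : A) : cavg k G p (h • a) = h • cavg k G p a := by
  rw [cavg_apply, cavg_apply]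
  have : ∑ g : G, g • p (g⁻¹ • h • a) = h • ∑ g : G, g • p (g⁻¹ • a) := by
    rw [Finset.smul_sum]
    symm
    refine Fintype.sum_equiv (Equiv.mulLeft h) (fun g : G => h • g • p (g⁻¹ • a))
      (fun g : G => g • p (g⁻¹ • h • a)) (fun g => ?_)
    simp only [Equiv.coe_mulLeft, mul_inv_rev, mul_smul, inv_smul_smul]
  rw [this]
  exact (smul_comm h _ _).symm

theorem cavg_mem (p : A →ₗ[k] A) (I : Ideal A) (hI : ∀ (g : G) (a : A), a ∈ I → g • a ∈ I)
    (hp : ∀ a, p a ∈ I) (a : A) : cavg k G p a ∈ I := by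
  rw [cavg_apply, Algebra.smul_def]
  exact I.mul_mem_left _ (I.sum_mem fun g _ => hI g _ (hp _))

theorem cavg_of_mem (hG : (Fintype.card G : k) ≠ 0) (p : A →ₗ[k] A) (I : Ideal A)
    (hI : ∀ (g : G) (a : A), a ∈ I → g • a ∈ I)
    (hp : ∀ a ∈ I, p a = a) (a : A) (ha : a ∈ I) : cavg k G p a = a := by
  rw [cavg_apply]
  have : ∀ g : G, g • p (g⁻¹ • a) = a := fun g => by
    rw [hp _ (hI _ _ ha), smul_inv_smul]
  simp_rw [this]
  rw [Finset.sum_const, Finset.card_univ, ← Nat.cast_smul_eq_nsmul k, smul_smul,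
    inv_mul_cancel₀ hG, one_smul]

theorem avg_cavg (p : A →ₗ[k] A) (a : A) : cavg k G p (avg k G a) = avg k G (cavg k G p a) := by
  rw [avg_apply, map_smul, map_sum, avg_apply (k := k) (G := G)]
  simp_rw [cavg_smul]

/-- existence of a `k`-linear projection onto an ideal -/
theorem exists_proj (I : Ideal A) : ∃ p : A →ₗ[k] A, (∀ a, p a ∈ I) ∧ ∀ a ∈ I, p a = a := by
  obtain ⟨C, hC⟩ := Submodule.exists_isCompl (I.restrictScalars k)
  refine ⟨(I.restrictScalars k).subtype ∘ₗ Submodule.projectionOnto _ _ hC, ?_, ?_⟩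
  · intro a
    exact (Submodule.projectionOnto _ _ hC a).2
  · intro a ha
    have := Submodule.projectionOnto_apply_left hC ⟨a, ha⟩
    simp only [LinearMap.comp_apply, Submodule.subtype_apply]
    exact congrArg Subtype.val this


omit [Fintype G] in
/-- Krull: ideals of a Noetherian local ring are closed. -/
theorem mem_of_forall_mem_sup_pow [IsLocalRing A] [IsNoetherianRing A] (I : Ideal A)
    (hI : I ≤ maximalIdeal A) (x : A) (hx : ∀ n : ℕ, x ∈ I ⊔ maximalIdeal A ^ n) : x ∈ I := by
  have hne : I ≠ ⊤ := fun h => (maximalIdeal.isMaximal A).ne_top (top_le_iff.mp (h ▸ hI))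
  haveI : Nontrivial (A ⧸ I) := Ideal.Quotient.nontrivial_iff.mpr hne
  haveI : IsLocalRing (A ⧸ I) :=
    IsLocalRing.of_surjective' (Ideal.Quotient.mk I) Ideal.Quotient.mk_surjective
  have h1 : (maximalIdeal A).map (Ideal.Quotient.mk I) ≠ ⊤ := by
    intro h
    have h2 : (1 : A ⧸ I) ∈ (maximalIdeal A).map (Ideal.Quotient.mk I) := h ▸ Submodule.mem_top
    obtain ⟨m, hm, hm1⟩ := (Ideal.mem_map_iff_of_surjective _ Ideal.Quotient.mk_surjective).mp h2
    have h3 : m - 1 ∈ I := by
      rw [← Ideal.Quotient.eq_zero_iff_mem, map_sub, hm1, map_one, sub_self]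
    have h4 : (1 : A) ∈ maximalIdeal A := by
      have := (maximalIdeal A).sub_mem hm (hI h3)
      simp at this
    exact (maximalIdeal.isMaximal A).ne_top ((Ideal.eq_top_iff_one _).mpr h4)
  have h5 := Ideal.iInf_pow_eq_bot_of_isLocalRing _ h1
  rw [← Ideal.Quotient.eq_zero_iff_mem, ← Ideal.mem_bot, ← h5, Ideal.mem_iInf]
  intro n
  obtain ⟨i, hi, m, hm, rfl⟩ := Submodule.mem_sup.mp (hx n)
  rw [map_add, Ideal.Quotient.eq_zero_iff_mem.mpr hi, zero_add, ← Ideal.map_pow]
  exact Ideal.mem_map_of_mem _ hm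

omit [Fintype G] in
theorem exists_const_add_mem [IsLocalRing A]
    (hres : Function.Surjective (algebraMap k (ResidueField A))) (a : A) :
    ∃ (c : k) (m : A), m ∈ maximalIdeal A ∧ a = algebraMap k A c + m := by
  obtain ⟨c, hc⟩ := hres (residue A a)
  refine ⟨c, a - algebraMap k A c, ?_, by ring⟩
  rw [← residue_eq_zero_iff, map_sub, ← hc]
  exact sub_self _

omit [Fintype G] in
theorem finrank_le_spanFinrank [IsLocalRing A] [IsNoetherianRing A]
    (hres : Function.Surjective (algebraMap k (ResidueField A)))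
    (W : Submodule k A) (p : A →ₗ[k] A) (hpW : ∀ w ∈ W, p w = w)
    (hp2 : ∀ x ∈ maximalIdeal A ^ 2, p x = 0) (hWM : ∀ w ∈ W, w ∈ maximalIdeal A) :
    Module.Finite k W ∧ Module.finrank k W ≤ (maximalIdeal A).spanFinrank := by
  classical
  obtain ⟨s, hs1, hs2⟩ := Submodule.FG.exists_span_finset_card_eq_spanFinrank
    (IsNoetherian.noetherian (maximalIdeal A))
  have hle : W ≤ Submodule.span k ((s.image p : Finset A) : Set A) := by
    intro w hw
    have hwM : w ∈ Submodule.span A (s : Set A) := by rw [hs2]; exact hWM w hw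
    obtain ⟨c, hc, rfl⟩ := Submodule.mem_span_finset.mp hwM
    rw [← hpW _ hw, map_sum]
    refine Submodule.sum_mem _ fun z hz => ?_
    obtain ⟨c₀, m, hm, hcz⟩ := exists_const_add_mem hres (c z)
    have hzM : z ∈ maximalIdeal A := by rw [← hs2]; exact Submodule.subset_span hz
    have h1 : c z • z = c₀ • z + m * z := by
      rw [hcz, smul_eq_mul, add_mul, Algebra.smul_def]
    rw [h1, map_add, map_smul, hp2 (m * z) (by rw [pow_two]; exact Ideal.mul_mem_mul hm hzM), add_zero]
    refine Submodule.smul_mem _ _ (Submodule.subset_span ?_)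
    exact Finset.mem_coe.mpr (Finset.mem_image_of_mem p hz)
  haveI : Module.Finite k (Submodule.span k ((s.image p : Finset A) : Set A)) :=
    Module.Finite.span_finset k _
  refine ⟨Module.Finite.of_injective (Submodule.inclusion hle) (Submodule.inclusion_injective hle), ?_⟩
  calc Module.finrank k W ≤ Module.finrank k (Submodule.span k ((s.image p : Finset A) : Set A)) :=
        Submodule.finrank_mono hle
    _ ≤ (s.image p).card := finrank_span_finset_le_card _
    _ ≤ s.card := Finset.card_image_le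
    _ = _ := hs1


omit [Fintype G] in
theorem maximalIdeal_quotient_eq [IsLocalRing A] (I : Ideal A) (hI : I ≤ maximalIdeal A)
    [IsLocalRing (A ⧸ I)] :
    maximalIdeal (A ⧸ I) = (maximalIdeal A).map (Ideal.Quotient.mk I) := by
  apply le_antisymm
  · intro x hx
    obtain ⟨a, rfl⟩ := Ideal.Quotient.mk_surjective x
    refine Ideal.mem_map_of_mem _ ?_
    rw [mem_maximalIdeal, mem_nonunits_iff] at hx ⊢
    exact fun h => hx (h.map _)
  · apply le_maximalIdeal
    intro h
    have h2 : (1 : A ⧸ I) ∈ (maximalIdeal A).map (Ideal.Quotient.mk I) := h ▸ Submodule.mem_top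
    obtain ⟨m, hm, hm1⟩ := (Ideal.mem_map_iff_of_surjective _ Ideal.Quotient.mk_surjective).mp h2
    have h3 : m - 1 ∈ I := by
      rw [← Ideal.Quotient.eq_zero_iff_mem, map_sub, hm1, map_one, sub_self]
    have h4 : (1 : A) ∈ maximalIdeal A := by
      have := (maximalIdeal A).sub_mem hm (hI h3)
      simp at this
    exact (maximalIdeal.isMaximal A).ne_top ((Ideal.eq_top_iff_one _).mpr h4)


end helpers

theorem ncard_range_le {α : Type*} {n : ℕ} (f : Fin n → α) : (Set.range f).ncard ≤ n := by
  classical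
  have : Set.range f = ((Finset.univ.image f : Finset α) : Set α) := by simp
  rw [this, Set.ncard_coe_finset]
  exact Finset.card_image_le.trans (by simp)

/-- Local form: let k be a field and A a regular local k-algebra with maximal ideal M and residue field
k (k maps onto A/M); let a finite group G whose order is invertible in k act on A by k-algebra
automorphisms. Then A/J is a regular local ring, where J is the ideal generated by the elements g·a
− a (J defines the fixed-point subscheme, so the fixed locus of G is smooth at the point). The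
accompanying identification of its tangent space with the G-invariants of the tangent space of A is
not restated here. -/
theorem result (k : Type u) [Field k] (A : Type u) [CommRing A]
    [Algebra k A] [IsRegularLocalRing A]
    (hres : Function.Surjective (algebraMap k (IsLocalRing.ResidueField A)))
    (G : Type u) [Group G] [Finite G] [MulSemiringAction G A] [SMulCommClass G k A]
    (hG : (Nat.card G : k) ≠ 0) :
    IsRegularLocalRing (A ⧸ Ideal.span {x : A | ∃ (g : G) (a : A), x = g • a - a}) := by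
  classical
  haveI : Fintype G := Fintype.ofFinite G
  rw [Nat.card_eq_fintype_card] at hG
  generalize hJ : Ideal.span {x : A | ∃ (g : G) (a : A), x = g • a - a} = J
  have hJmem : ∀ (g : G) (a : A), g • a - a ∈ J := fun g a => by
    rw [← hJ]; exact Ideal.subset_span ⟨g, a, rfl⟩
  have hsmulalg : ∀ (g : G) (c : k), g • algebraMap k A c = algebraMap k A c := fun g c => by
    rw [Algebra.algebraMap_eq_smul_one, smul_comm, smul_one]
  have hJM : J ≤ maximalIdeal A := by
    rw [← hJ, Ideal.span_le]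
    rintro _ ⟨g, a, rfl⟩
    obtain ⟨c, m, hm, rfl⟩ := exists_const_add_mem hres a
    have : g • (algebraMap k A c + m) - (algebraMap k A c + m) = g • m - m := by
      rw [smul_add, hsmulalg]; ring
    rw [this]
    exact (maximalIdeal A).sub_mem (smul_mem_maximalIdeal g hm) hm
  obtain ⟨p₀, hp₀1, hp₀2⟩ := exists_proj (k := k) (maximalIdeal A ^ 2)
  have hM2stable : ∀ (g : G) (a : A), a ∈ maximalIdeal A ^ 2 → g • a ∈ maximalIdeal A ^ 2 :=
    fun g a ha => smul_mem_maximalIdeal_pow g 2 ha
  have hπ1 : ∀ a, cavg k G p₀ a ∈ maximalIdeal A ^ 2 := cavg_mem p₀ _ hM2stable hp₀1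
  have hπ2 : ∀ a ∈ maximalIdeal A ^ 2, cavg k G p₀ a = a := cavg_of_mem hG p₀ _ hM2stable hp₀2
  have hπ3 : ∀ (h : G) a, cavg k G p₀ (h • a) = h • cavg k G p₀ a := cavg_smul p₀
  have hπe : ∀ a, cavg k G p₀ (avg k G a) = avg k G (cavg k G p₀ a) := avg_cavg p₀
  generalize cavg k G p₀ = π at hπ1 hπ2 hπ3 hπe
  have hM2M : maximalIdeal A ^ 2 ≤ maximalIdeal A := Ideal.pow_le_self two_ne_zero
  have hMstable : ∀ (g : G) (a : A), a ∈ maximalIdeal A → g • a ∈ maximalIdeal A :=
    fun g a ha => smul_mem_maximalIdeal g ha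
  have havgidem : ∀ a : A, avg k G (avg k G a) = avg k G a := fun a =>
    avg_of_fixed hG _ (fun g => smul_avg g a)
  -- the `G`-stable complement
  let W : Submodule k A := ((maximalIdeal A).restrictScalars k) ⊓ LinearMap.ker π
  have hW : ∀ w, w ∈ W ↔ w ∈ maximalIdeal A ∧ π w = 0 := fun w => by
    simp only [W, Submodule.mem_inf, Submodule.restrictScalars_mem, LinearMap.mem_ker]
  have hWstable : ∀ (g : G) w, w ∈ W → g • w ∈ W := fun g w hw => by
    rw [hW] at hw ⊢
    exact ⟨hMstable g w hw.1, by rw [hπ3, hw.2, smul_zero]⟩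
  have hWavg : ∀ w ∈ W, avg k G w ∈ W := fun w hw => by
    rw [hW] at hw ⊢
    exact ⟨avg_mem_of_stable _ hMstable hw.1, by rw [hπe, hw.2, map_zero]⟩
  let q : A →ₗ[k] A := LinearMap.id - π
  have hqapply : ∀ a, q a = a - π a := fun a => rfl
  have hqW : ∀ w ∈ W, q w = w := fun w hw => by
    rw [hqapply, ((hW w).mp hw).2, sub_zero]
  have hq2 : ∀ x ∈ maximalIdeal A ^ 2, q x = 0 := fun x hx => by
    rw [hqapply, hπ2 x hx, sub_self]
  have hqM : ∀ m ∈ maximalIdeal A, q m ∈ W := fun m hm => by
    rw [hW, hqapply]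
    refine ⟨(maximalIdeal A).sub_mem hm (hM2M (hπ1 m)), ?_⟩
    rw [map_sub, hπ2 _ (hπ1 m), sub_self]
  obtain ⟨hfin, hrank⟩ := finrank_le_spanFinrank hres W q hqW hq2 (fun w hw => ((hW w).mp hw).1)
  have hMW : maximalIdeal A ≤ Ideal.span (W : Set A) := by
    apply Submodule.le_of_le_smul_of_le_jacobson_bot (IsNoetherian.noetherian (maximalIdeal A))
      (IsLocalRing.maximalIdeal_le_jacobson ⊥)
    intro m hm
    have hmq : m = q m + π m := by rw [hqapply]; ring
    rw [hmq]
    refine Submodule.add_mem_sup (Ideal.subset_span (hqM m hm)) ?_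
    have := hπ1 m
    rwa [pow_two] at this
  -- the averaging operator on `W`
  let eW : W →ₗ[k] W := (avg k G).restrict hWavg
  have heW : ∀ w : W, ((eW w : W) : A) = avg k G (w : A) := fun w => rfl
  -- the ideal generated by the kernel of `eW`
  generalize hI' : Ideal.span {a : A | ∃ w : W, eW w = 0 ∧ a = (w : A)} = I'
  have hI'mem : ∀ w : W, eW w = 0 → (w : A) ∈ I' := fun w hw => by
    rw [← hI']; exact Ideal.subset_span ⟨w, hw, rfl⟩
  have hI'J : I' ≤ J := by
    rw [← hI', Ideal.span_le]
    rintro _ ⟨w, hw, rfl⟩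
    have h1 : avg k G (w : A) = 0 := by rw [← heW, hw]; rfl
    have h2 := sub_avg_mem hG J hJmem (w : A)
    rwa [h1, sub_zero] at h2
  have hI'stable : ∀ (g : G) (a : A), a ∈ I' → g • a ∈ I' := by
    intro g a ha
    rw [← hI'] at ha
    induction ha using Submodule.span_induction with
    | mem x hx =>
      obtain ⟨w, hw, rfl⟩ := hx
      have h1 : eW ⟨g • (w : A), hWstable g _ w.2⟩ = 0 := by
        apply Subtype.ext
        rw [heW]
        show avg k G (g • (w : A)) = 0
        rw [avg_smul, ← heW, hw]; rfl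
      exact hI'mem _ h1
    | zero => rw [smul_zero]; exact I'.zero_mem
    | add x y _ _ hx hy => rw [smul_add]; exact I'.add_mem hx hy
    | smul a x _ hx => rw [smul_eq_mul, smul_mul']; exact I'.mul_mem_left _ hx
  -- the subalgebra of elements on which `G` acts trivially modulo `I'`
  have hTalg : ∀ (c : k) (g : G), g • algebraMap k A c - algebraMap k A c ∈ I' := fun c g => by
    rw [hsmulalg, sub_self]; exact I'.zero_mem
  have hTadd : ∀ a b : A, (∀ g : G, g • a - a ∈ I') → (∀ g : G, g • b - b ∈ I') →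
      ∀ g : G, g • (a + b) - (a + b) ∈ I' := fun a b ha hb g => by
    have : g • (a + b) - (a + b) = (g • a - a) + (g • b - b) := by rw [smul_add]; ring
    rw [this]; exact I'.add_mem (ha g) (hb g)
  have hTmul : ∀ a b : A, (∀ g : G, g • a - a ∈ I') → (∀ g : G, g • b - b ∈ I') →
      ∀ g : G, g • (a * b) - (a * b) ∈ I' := fun a b ha hb g => by
    have : g • (a * b) - (a * b) = (g • a) * (g • b - b) + (g • a - a) * b := by
      rw [smul_mul']; ring
    rw [this]
    exact I'.add_mem (I'.mul_mem_left _ (hb g)) (I'.mul_mem_right _ (ha g))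
  have hTW : ∀ w ∈ W, ∀ g : G, g • w - w ∈ I' := fun w hw g => by
    have h1 : eW (⟨w, hw⟩ - eW ⟨w, hw⟩) = 0 := by
      apply Subtype.ext
      rw [map_sub]
      show avg k G w - avg k G (avg k G w) = 0
      rw [havgidem, sub_self]
    have h2 : w - avg k G w ∈ I' := hI'mem _ h1
    have h3 : g • w - w = g • (w - avg k G w) - (w - avg k G w) := by
      rw [smul_sub, smul_avg]; ring
    rw [h3]
    exact I'.sub_mem (hI'stable g _ h2) h2
  have hTsum : ∀ (N : ℕ) (f : Fin N → A), (∀ i, ∀ g : G, g • f i - f i ∈ I') →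
      ∀ g : G, g • (∑ i, f i) - ∑ i, f i ∈ I' := by
    intro N f hf g
    rw [Finset.smul_sum, ← Finset.sum_sub_distrib]
    exact I'.sum_mem fun i _ => hf i g
  have happrox : ∀ (n : ℕ) (a : A), ∃ t : A, (∀ g : G, g • t - t ∈ I') ∧
      a - t ∈ maximalIdeal A ^ n := by
    intro n
    induction n with
    | zero =>
      intro a
      exact ⟨0, fun g => by rw [smul_zero, sub_self]; exact I'.zero_mem, by simp⟩
    | succ n ih =>
      intro a
      obtain ⟨c, m, hm, rfl⟩ := exists_const_add_mem hres a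
      obtain ⟨N, f, w, rfl⟩ := Submodule.mem_span_set'.mp (hMW hm)
      choose t ht1 ht2 using fun i => ih (f i)
      refine ⟨algebraMap k A c + ∑ i, t i * (w i : A), ?_, ?_⟩
      · refine hTadd _ _ (hTalg c) (hTsum N _ fun i => hTmul _ _ (ht1 i) (hTW _ (w i).2))
      · have : algebraMap k A c + ∑ i, f i • (w i : A) - (algebraMap k A c + ∑ i, t i * (w i : A)) =
            ∑ i, (f i - t i) * (w i : A) := by
          simp only [smul_eq_mul, sub_mul, Finset.sum_sub_distrib]; ring
        rw [this, pow_succ]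
        exact Ideal.sum_mem _ fun i _ => Ideal.mul_mem_mul (ht2 i) ((hW _).mp (w i).2).1
  have hJI' : J ≤ I' := by
    rw [← hJ, Ideal.span_le]
    rintro _ ⟨g, a, rfl⟩
    apply mem_of_forall_mem_sup_pow I' (hI'J.trans hJM)
    intro n
    obtain ⟨t, ht1, ht2⟩ := happrox n a
    have : g • a - a = (g • t - t) + (g • (a - t) - (a - t)) := by rw [smul_sub]; ring
    rw [this]
    exact Submodule.add_mem_sup (ht1 g)
      (Ideal.sub_mem _ (smul_mem_maximalIdeal_pow g n ht2) ht2)
  have hJeq : J = I' := le_antisymm hJI' hI'J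
  -- counting generators
  haveI := hfin
  have hrn := LinearMap.finrank_range_add_finrank_ker eW
  haveI : Module.Free k (LinearMap.ker eW) :=
    @Module.Free.of_divisionRing k (LinearMap.ker eW) _ (Submodule.addCommGroup _) _
  haveI : Module.Free k (LinearMap.range eW) :=
    @Module.Free.of_divisionRing k (LinearMap.range eW) _ (Submodule.addCommGroup _) _
  let b' := Module.finBasis k (LinearMap.ker eW)
  let bG := Module.finBasis k (LinearMap.range eW)
  have hJspan : J = Ideal.span (Set.range fun i => (((b' i : LinearMap.ker eW) : W) : A)) := by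
    rw [hJeq, ← hI']
    apply le_antisymm
    · rw [Ideal.span_le]
      rintro _ ⟨w, hw, rfl⟩
      have h1 := b'.sum_repr ⟨w, hw⟩
      have h2 : (w : A) = ∑ i, (b'.repr ⟨w, hw⟩ i) • (((b' i : LinearMap.ker eW) : W) : A) := by
        have := congrArg (fun x : LinearMap.ker eW => ((x : W) : A)) h1
        simp only [Submodule.coe_sum, Submodule.coe_smul] at this
        exact this.symm
      rw [h2]
      refine Ideal.sum_mem _ fun i _ => ?_
      rw [Algebra.smul_def]
      exact Ideal.mul_mem_left _ _ (Ideal.subset_span ⟨i, rfl⟩)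
    · rw [Ideal.span_le]
      rintro _ ⟨i, rfl⟩
      exact Ideal.subset_span ⟨_, (b' i).2, rfl⟩
  have hJrank : J.spanFinrank ≤ Module.finrank k (LinearMap.ker eW) := by
    rw [hJspan]
    exact (Submodule.spanFinrank_span_le_ncard_of_finite (Set.finite_range _)).trans (ncard_range_le _)
  have hJne : J ≠ ⊤ := fun h => (maximalIdeal.isMaximal A).ne_top (top_le_iff.mp (h ▸ hJM))
  haveI : Nontrivial (A ⧸ J) := Ideal.Quotient.nontrivial_iff.mpr hJne
  haveI : IsLocalRing (A ⧸ J) :=
    IsLocalRing.of_surjective' (Ideal.Quotient.mk J) Ideal.Quotient.mk_surjective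
  have hmax : maximalIdeal (A ⧸ J) = Ideal.span (Set.range fun i =>
      Ideal.Quotient.mk J (((bG i : LinearMap.range eW) : W) : A)) := by
    rw [maximalIdeal_quotient_eq J hJM]
    apply le_antisymm
    · rw [Ideal.map_le_iff_le_comap]
      refine hMW.trans ?_
      rw [Ideal.span_le]
      intro w hw
      rw [SetLike.mem_coe, Ideal.mem_comap]
      -- w = avg w + (w - avg w)
      have h1 : eW (⟨w, hw⟩ - eW ⟨w, hw⟩) = 0 := by
        apply Subtype.ext
        rw [map_sub]
        show avg k G w - avg k G (avg k G w) = 0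
        rw [havgidem, sub_self]
      have h2 : w - avg k G w ∈ J := hI'J (hI'mem _ h1)
      have h3 : Ideal.Quotient.mk J w = Ideal.Quotient.mk J (avg k G w) := by
        rw [← sub_eq_zero, ← map_sub]; exact Ideal.Quotient.eq_zero_iff_mem.mpr h2
      rw [h3]
      have h4 := bG.sum_repr ⟨eW ⟨w, hw⟩, ⟨_, rfl⟩⟩
      have h5 : avg k G w = ∑ i, (bG.repr ⟨eW ⟨w, hw⟩, ⟨_, rfl⟩⟩ i) •
          (((bG i : LinearMap.range eW) : W) : A) := by
        have := congrArg (fun x : LinearMap.range eW => ((x : W) : A)) h4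
        simp only [Submodule.coe_sum, Submodule.coe_smul] at this
        exact this.symm
      rw [h5, map_sum]
      refine Ideal.sum_mem _ fun i _ => ?_
      rw [Algebra.smul_def, map_mul]
      exact Ideal.mul_mem_left _ _ (Ideal.subset_span ⟨i, rfl⟩)
    · rw [Ideal.span_le]
      rintro _ ⟨i, rfl⟩
      exact Ideal.mem_map_of_mem _ ((hW _).mp ((bG i : LinearMap.range eW) : W).2).1
  have hmaxrank : (maximalIdeal (A ⧸ J)).spanFinrank ≤ Module.finrank k (LinearMap.range eW) := by
    rw [hmax]
    exact (Submodule.spanFinrank_span_le_ncard_of_finite (Set.finite_range _)).trans (ncard_range_le _)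
  apply IsRegularLocalRing.of_spanFinrank_maximalIdeal_le
  have h1 : ringKrullDim A ≤ ringKrullDim (A ⧸ J) + (J.spanFinrank : WithBot ℕ∞) :=
    ringKrullDim_le_ringKrullDim_quotient_add_spanFinrank J
      (hJM.trans (by rw [IsLocalRing.ringJacobson_eq_maximalIdeal]))
  have h2 : ((Module.finrank k W : ℕ) : WithBot ℕ∞) ≤ ringKrullDim A := by
    rw [← IsRegularLocalRing.spanFinrank_maximalIdeal]
    exact_mod_cast hrank
  have h3 : ((Module.finrank k (LinearMap.range eW) : ℕ) : WithBot ℕ∞) +
      ((Module.finrank k (LinearMap.ker eW) : ℕ) : WithBot ℕ∞) ≤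
      ringKrullDim (A ⧸ J) + ((Module.finrank k (LinearMap.ker eW) : ℕ) : WithBot ℕ∞) := by
    calc _ = ((Module.finrank k W : ℕ) : WithBot ℕ∞) := by rw [← hrn]; push_cast; rfl
      _ ≤ ringKrullDim A := h2
      _ ≤ ringKrullDim (A ⧸ J) + (J.spanFinrank : WithBot ℕ∞) := h1
      _ ≤ _ := by gcongr
  rw [ENat.WithBot.add_le_add_natCast_right_iff] at h3
  exact le_trans (by exact_mod_cast hmaxrank) h3

end Groth.Agent.S19445
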