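import Groth.Statements.S4999
import Mathlib
import Groth.Agent.Lib.Helper94.JacobianCore
import Groth.Agent.S2451
import Groth.Agent.S2116

set_option autoImplicit false
universe u
open Unram17

namespace Groth.Agent.S4999

open IsLocalRing TensorProduct KaehlerDifferential

/-- The localization of a ring at a minimal prime is a field as soon as it is reduced. -/
theorem isField_localization_of_mem_minimalPrimes {A : Type u} [CommRing A] (p : Ideal A)
    [p.IsPrime] (hp : p ∈ minimalPrimes A) [IsReduced (Localization.AtPrime p)] :
    IsField (Localization.AtPrime p) := by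
  rw [IsLocalRing.isField_iff_maximalIdeal_eq, ← Localization.AtPrime.map_eq_maximalIdeal,
    ← IsLocalization.AtPrime.radical_map_of_mem_minimalPrimes (Localization.AtPrime p) p ⊥ hp,
    Ideal.map_bot]
  exact nilradical_eq_zero _

/-- At a minimal prime, smoothness is the same as geometric reducedness of the local ring. -/
theorem isSmoothAt_iff_of_mem_minimalPrimes (k A : Type u) [Field k] [CommRing A]
    [Algebra k A] [Algebra.FiniteType k A] (p : Ideal A) [p.IsPrime] (hp : p ∈ minimalPrimes A) :
    Algebra.IsSmoothAt k p ↔ Algebra.IsGeometricallyReduced k (Localization.AtPrime p) := by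
  constructor
  · intro h
    haveI : IsRegularLocalRing (Localization.AtPrime p) :=
      Groth.Agent.S2116.isRegularLocalRing_of_isSmoothAt k A p h
    haveI : IsDomain (Localization.AtPrime p) := Groth.Agent.S0558.result _
    have hF := isField_localization_of_mem_minimalPrimes p hp
    letI : Field (Localization.AtPrime p) := hF.toField
    exact (Groth.Agent.S2451.result (k := k) (K := Localization.AtPrime p)).mp h
  · intro h
    haveI : IsReduced (Localization.AtPrime p) := Algebra.isReduced_of_isGeometricallyReduced k
    have hF := isField_localization_of_mem_minimalPrimes p hp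
    letI : Field (Localization.AtPrime p) := hF.toField
    exact (Groth.Agent.S2451.result (k := k) (K := Localization.AtPrime p)).mpr h

theorem isLocalization_atPrime_congr {A C : Type*} [CommRing A] [CommRing C] [Algebra A C]
    (P P' : Ideal A) [P.IsPrime] [P'.IsPrime] (h : P = P')
    (hl : IsLocalization.AtPrime C P) : IsLocalization.AtPrime C P' := by
  subst h; exact hl

/-- If `Ω[A⁄k]` is projective and `A` is smooth at a generization `p₀` of `q`, then `A` is smooth
at `q`. -/
theorem isSmoothAt_of_projective_of_le (k A : Type u) [Field k] [CommRing A]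
    [Algebra k A] [Algebra.FiniteType k A] [Module.Projective A Ω[A⁄k]]
    (q p₀ : Ideal A) [q.IsPrime] [p₀.IsPrime] (hle : p₀ ≤ q) (h0 : Algebra.IsSmoothAt k p₀) :
    Algebra.IsSmoothAt k q := by
  obtain ⟨n, f₀, hf₀⟩ := Algebra.FiniteType.iff_quotient_mvPolynomial''.mp
    (inferInstance : Algebra.FiniteType k A)
  let Q : Ideal (MvPolynomial (Fin n) k) := q.comap f₀
  have hQ : Q.IsPrime := Ideal.comap_isPrime f₀ q
  let P := Localization.AtPrime Q
  let B := Localization.AtPrime q
  let fP : P →ₐ[k] B := IsLocalization.liftAlgHom (M := Q.primeCompl)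
      (f := (IsScalarTower.toAlgHom k A B).comp f₀) fun x ↦ by
    simpa using IsLocalization.map_units (M := q.primeCompl) B ⟨f₀ x.1, x.2⟩
  have hf₁ : Function.Surjective fP := by
    intro x
    obtain ⟨x, ⟨s, hs⟩, rfl⟩ := IsLocalization.exists_mk'_eq q.primeCompl x
    obtain ⟨x, rfl⟩ := hf₀ x
    obtain ⟨s, rfl⟩ := hf₀ s
    refine ⟨IsLocalization.mk' (M := Q.primeCompl) _ x ⟨s, hs⟩, ?_⟩
    simp [fP, IsLocalization.lift_mk', Units.mul_inv_eq_iff_eq_mul, IsUnit.liftRight]
  algebraize [fP.toRingHom]
  have : IsScalarTower k P B := .of_algebraMap_eq' fP.comp_algebraMap.symm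
  have hsurjPB : Function.Surjective (algebraMap P B) := hf₁
  let E : Algebra.Extension.{u} k B := ⟨P, Function.surjInv hsurjPB, Function.surjInv_eq hsurjPB⟩
  haveI : IsRegularLocalRing E.Ring :=
    (IsRegularRing.isRegularLocalRing_localization Q : IsRegularLocalRing P)
  haveI : Algebra.FormallySmooth k E.Ring :=
    (inferInstance : Algebra.FormallySmooth k P)
  haveI : Module.Finite E.Ring Ω[E.Ring⁄k] := (inferInstance : Module.Finite P Ω[P⁄k])
  haveI : Module.Free E.Ring Ω[E.Ring⁄k] :=
    (Module.free_of_flat_of_isLocalRing : Module.Free P Ω[P⁄k])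
  -- projectivity of Ω[B⁄k]
  haveI : Module.Projective B Ω[B⁄k] := by
    have e1 := IsLocalizedModule.iso q.primeCompl (KaehlerDifferential.map k k A B)
    have e2 := e1.extendScalarsOfIsLocalization q.primeCompl B
    exact Module.Projective.of_equiv e2
  -- the prime of `B` corresponding to `p₀`
  have hdisj : Disjoint (q.primeCompl : Set A) p₀ :=
    Set.disjoint_left.mpr fun a ha ha' => ha (hle ha')
  have hp'prime : (p₀.map (algebraMap A B)).IsPrime :=
    IsLocalization.isPrime_of_isPrime_disjoint q.primeCompl B p₀ inferInstance hdisj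
  let p' : PrimeSpectrum B := ⟨p₀.map (algebraMap A B), hp'prime⟩
  have hcomap : p'.asIdeal.comap (algebraMap A B) = p₀ :=
    IsLocalization.under_map_of_isPrime_disjoint q.primeCompl B inferInstance hdisj
  have hp' : p' ∉ Module.support B (Algebra.H1Cotangent k B) := by
    have hloc0 : IsLocalization.AtPrime (Localization.AtPrime p'.asIdeal)
        (p'.asIdeal.comap (algebraMap A B)) :=
      IsLocalization.isLocalization_isLocalization_atPrime_isLocalization q.primeCompl _ p'.asIdeal
    have hloc : IsLocalization.AtPrime (Localization.AtPrime p'.asIdeal) p₀ :=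
      isLocalization_atPrime_congr _ _ hcomap hloc0
    have e : Localization.AtPrime p₀ ≃ₐ[k] Localization.AtPrime p'.asIdeal :=
      (IsLocalization.algEquiv p₀.primeCompl _ _).restrictScalars k
    have hsm : Algebra.FormallySmooth k (Localization.AtPrime p'.asIdeal) :=
      Algebra.FormallySmooth.of_equiv e
    have hmem : p' ∈ Algebra.smoothLocus k B := hsm
    rw [Algebra.smoothLocus_eq_compl_support_inter] at hmem
    exact hmem.1
  exact Groth.Agent.Lib.Helper94.JacobianCore.formallySmooth_of_extension E p' hp'

/-- Let A be an algebra of finite type over a field k. Then A is smooth over k if and only if the module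
of differentials of A over k is projective (locally free) and, at every minimal prime p of A, the
local ring A_p is geometrically reduced over k, which for this Artinian local ring says that A_p is
a field and a separable (not necessarily algebraic) extension of k. -/
theorem result (k A : Type u) [Field k] [CommRing A]
    [Algebra k A] [Algebra.FiniteType k A] :
    Algebra.Smooth k A ↔
      Module.Projective A (KaehlerDifferential k A) ∧
        ∀ (p : Ideal A) [p.IsPrime], p ∈ minimalPrimes A →
          Algebra.IsGeometricallyReduced k (Localization.AtPrime p) := by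
  have hfp : Algebra.FinitePresentation k A :=
    Algebra.FinitePresentation.of_finiteType.mp inferInstance
  constructor
  · intro hsm
    refine ⟨inferInstance, fun p _ hp => ?_⟩
    rw [← isSmoothAt_iff_of_mem_minimalPrimes k A p hp]
    have h1 : (⟨p, inferInstance⟩ : PrimeSpectrum A) ∈ Algebra.smoothLocus k A := by
      rw [Algebra.smoothLocus_eq_univ]; exact Set.mem_univ _
    exact h1
  · rintro ⟨hproj, hgen⟩
    refine ⟨?_, hfp⟩
    rw [← Algebra.smoothLocus_eq_univ_iff]
    refine Set.eq_univ_of_forall fun q => ?_
    obtain ⟨p₀, hp₀, hle⟩ := Ideal.exists_minimalPrimes_le (bot_le : (⊥ : Ideal A) ≤ q.asIdeal)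
    haveI : p₀.IsPrime := hp₀.1.1
    have h0 : Algebra.IsSmoothAt k p₀ :=
      (isSmoothAt_iff_of_mem_minimalPrimes k A p₀ hp₀).mpr (hgen p₀ hp₀)
    exact isSmoothAt_of_projective_of_le k A q.asIdeal p₀ hle h0

end Groth.Agent.S4999
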