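import Groth.Statements.S10837
import Mathlib.AlgebraicGeometry.Morphisms.UniversallyOpen

set_option autoImplicit false
universe u
open CategoryTheory AlgebraicGeometry Topology
open Mor

namespace Groth.Agent.S10837

open PrimeSpectrum in
/-- Ring-level statement: if `Spec A → Spec B` is open then it is generalizing. -/
theorem generalizingMap_comap_of_isOpenMap {A B : Type*} [CommRing A] [CommRing B]
    (φ : B →+* A) (hφ : IsOpenMap (comap φ)) : GeneralizingMap (comap φ) := by
  intro p q hq
  -- `q ⤳ comap φ p`
  let Ap := Localization.AtPrime p.asIdeal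
  let ψ : B →+* Ap := (algebraMap A Ap).comp φ
  have hmem : q ∈ Set.range (comap ψ) := by
    rw [PrimeSpectrum.mem_range_comap_iff]
    refine le_antisymm ?_ Ideal.le_comap_map
    intro b hb
    rw [Ideal.mem_comap] at hb
    have hb' : algebraMap A Ap (φ b) ∈ Ideal.map (algebraMap A Ap) (Ideal.map φ q.asIdeal) := by
      rw [Ideal.map_map]; exact hb
    rw [IsLocalization.mem_map_algebraMap_iff p.asIdeal.primeCompl] at hb'
    obtain ⟨⟨a, s⟩, has⟩ := hb'
    rw [← map_mul, IsLocalization.eq_iff_exists p.asIdeal.primeCompl] at has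
    obtain ⟨t, ht⟩ := has
    -- g = t * s ∉ p, and g * φ b ∈ map φ q
    set g : A := (t : A) * (s : A) with hg
    have hgp : g ∉ p.asIdeal := by
      intro h
      rcases p.2.mem_or_mem h with h | h
      · exact t.2 h
      · exact s.2 h
    have hgb : g * φ b ∈ Ideal.map φ q.asIdeal := by
      have : g * φ b = (t : A) * (a : A) := by
        rw [hg, ← ht]; ring
      rw [this]
      exact Ideal.mul_mem_left _ _ a.2
    -- the image of `basicOpen g` is open and contains `comap φ p`, hence `q`
    have hopen : IsOpen (comap φ '' (basicOpen g : Set (PrimeSpectrum A))) :=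
      hφ _ (basicOpen g).2
    have hpmem : comap φ p ∈ comap φ '' (basicOpen g : Set (PrimeSpectrum A)) :=
      ⟨p, hgp, rfl⟩
    obtain ⟨P, hP, hPq⟩ := hq.mem_open hopen hpmem
    have hle : Ideal.map φ q.asIdeal ≤ P.asIdeal := by
      rw [Ideal.map_le_iff_le_comap, ← hPq]; rfl
    have := hle hgb
    rcases P.2.mem_or_mem this with h | h
    · exact absurd h hP
    · rw [← hPq]; exact h
  obtain ⟨P', hP'⟩ := hmem
  refine ⟨comap (algebraMap A Ap) P', ?_, ?_⟩
  · change comap (algebraMap A Ap) P' ⤳ p
    rw [← PrimeSpectrum.le_iff_specializes]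
    change Ideal.comap (algebraMap A Ap) P'.asIdeal ≤ p.asIdeal
    intro a ha
    by_contra hap
    have hu : IsUnit (algebraMap A Ap a) :=
      IsLocalization.map_units Ap (⟨a, hap⟩ : p.asIdeal.primeCompl)
    exact P'.2.ne_top (Ideal.eq_top_of_isUnit_mem _ ha hu)
  · rw [← hP']
    rfl

/-- For a morphism of schemes f : X → Y which is open as a map of topological spaces, generalizations
lift along f: every generalization of f(x) is the image of a generalization of x. -/
theorem result {X Y : Scheme.{u}} (f : X ⟶ Y) (hf : IsOpenMap f.base) :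
    GeneralizingMap f.base := by
  change topologically GeneralizingMap f
  replace hf : topologically IsOpenMap f := hf
  wlog hY : ∃ R, Y = Spec R
  · rw [IsZariskiLocalAtTarget.iff_of_openCover (P := topologically GeneralizingMap) Y.affineCover]
    intro i
    dsimp only [Scheme.Cover.pullbackHom]
    refine this _ ?_ ⟨_, rfl⟩
    exact IsZariskiLocalAtTarget.of_isPullback (P := topologically IsOpenMap)
      (iY := Y.affineCover.f i) (IsPullback.of_hasPullback ..) hf
  obtain ⟨R, rfl⟩ := hY
  wlog hX : ∃ S, X = Spec S
  · rw [IsZariskiLocalAtSource.iff_of_openCover (P := topologically GeneralizingMap) X.affineCover]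
    intro i
    refine this _ _ ?_ ⟨_, rfl⟩
    exact IsZariskiLocalAtSource.comp (P := topologically IsOpenMap) hf _
  obtain ⟨S, rfl⟩ := hX
  obtain ⟨φ, rfl⟩ := Spec.map_surjective f
  exact generalizingMap_comap_of_isOpenMap φ.hom hf

end Groth.Agent.S10837
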