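import Groth.Statements.S10838
import Groth.Agent.S10837
import Mathlib.Topology.KrullDimension
import Mathlib.Topology.Specialization

set_option autoImplicit false
universe u
open CategoryTheory AlgebraicGeometry Topology
open Mor

namespace Groth.Agent.S10838

open Order

/-- Lifting chains along a monotone surjective "fibration". -/
theorem exists_ltSeries_lift {α β : Type*} [Preorder α] [Preorder β] (f : α → β)
    (hmono : Monotone f) (hsurj : Function.Surjective f)
    (hfib : ∀ a b, f a ≤ b → ∃ a', a ≤ a' ∧ f a' = b) (p : LTSeries β) :
    ∃ q : LTSeries α, q.length = p.length ∧ f q.last = p.last := by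
  induction p using RelSeries.inductionOn' with
  | singleton x =>
    obtain ⟨a, rfl⟩ := hsurj x
    exact ⟨RelSeries.singleton _ a, rfl, rfl⟩
  | snoc p x hx ih =>
    obtain ⟨q, hql, hqlast⟩ := ih
    have hx' : p.last < x := hx
    obtain ⟨a', ha', rfl⟩ := hfib q.last x (hqlast ▸ hx'.le)
    have hlt : q.last < a' := by
      refine lt_of_le_not_ge ha' (fun h => ?_)
      have := hmono h
      rw [hqlast] at this
      exact (lt_irrefl _ (lt_of_lt_of_le hx' this))
    refine ⟨q.snoc a' hlt, ?_, ?_⟩
    · simp [hql]
    · simp

theorem krullDim_le_of_fibration {α β : Type*} [Preorder α] [Preorder β] (f : α → β)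
    (hmono : Monotone f) (hsurj : Function.Surjective f)
    (hfib : ∀ a b, f a ≤ b → ∃ a', a ≤ a' ∧ f a' = b) :
    krullDim β ≤ krullDim α := by
  rw [krullDim]
  refine iSup_le fun p => ?_
  obtain ⟨q, hq, -⟩ := exists_ltSeries_lift f hmono hsurj hfib p
  rw [← hq]
  exact q.length_le_krullDim

/-- The dimension of the specialization preorder is at most the topological Krull dimension. -/
theorem krullDim_specialization_le (X : Type*) [TopologicalSpace X] :
    krullDim (Specialization X) ≤ topologicalKrullDim X := by
  let g : Specialization X → TopologicalSpace.IrreducibleCloseds X := fun a =>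
    ⟨closure {Specialization.ofEquiv a}, isIrreducible_singleton.closure, isClosed_closure⟩
  refine krullDim_le_of_strictMono g ?_
  intro a b hab
  have h1 : Specialization.ofEquiv b ⤳ Specialization.ofEquiv a := hab.le
  have h2 : ¬ Specialization.ofEquiv a ⤳ Specialization.ofEquiv b := fun h => hab.not_ge h
  refine lt_of_le_not_ge ?_ ?_
  · exact specializes_iff_closure_subset.mp h1
  · intro h
    exact h2 (specializes_iff_closure_subset.mpr h)

attribute [local instance] specializationOrder in
/-- For a sober space, the topological Krull dimension is the dimension of the specialization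
order. -/
theorem topologicalKrullDim_le_specialization (Y : Type*) [TopologicalSpace Y] [QuasiSober Y]
    [T0Space Y] : topologicalKrullDim Y ≤ krullDim (Specialization Y) := by
  refine krullDim_le_of_strictMono
    (fun s => Specialization.toEquiv (irreducibleSetEquivPoints (α := Y) s)) ?_
  intro a b hab
  exact (irreducibleSetEquivPoints (α := Y)).strictMono hab

/-- A continuous surjective generalizing map onto a sober space does not lower the dimension. -/
theorem topologicalKrullDim_le_of_generalizingMap {X Y : Type*} [TopologicalSpace X]
    [TopologicalSpace Y] [QuasiSober Y] [T0Space Y] (f : X → Y) (hf : Continuous f)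
    (hsurj : Function.Surjective f) (hgen : GeneralizingMap f) :
    topologicalKrullDim Y ≤ topologicalKrullDim X := by
  refine (topologicalKrullDim_le_specialization Y).trans
    (le_trans ?_ (krullDim_specialization_le X))
  refine krullDim_le_of_fibration
    (fun a => Specialization.toEquiv (f (Specialization.ofEquiv a))) ?_ ?_ ?_
  · intro a b hab
    have h : Specialization.ofEquiv b ⤳ Specialization.ofEquiv a := hab
    exact h.map hf
  · intro b
    obtain ⟨a, ha⟩ := hsurj (Specialization.ofEquiv b)
    exact ⟨Specialization.toEquiv a, by simp [ha]⟩
  · intro a b hab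
    have : Specialization.ofEquiv b ⤳ f (Specialization.ofEquiv a) := hab
    obtain ⟨a', ha', hfa'⟩ := hgen this
    exact ⟨Specialization.toEquiv a', ha', by simp [hfa']⟩

/-- For a morphism of schemes f : X → Y which is open as a map of topological spaces, the Krull
dimension of the image f(X) (with the subspace topology from Y) is at most the Krull dimension of X. -/
theorem result {X Y : Scheme.{u}} (f : X ⟶ Y) (hf : IsOpenMap f.base) :
    topologicalKrullDim ↥(Set.range f.base) ≤ topologicalKrullDim ↥X := by
  have hgen : GeneralizingMap f.base := Groth.Agent.S10837.result f hf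
  have hopen : IsOpen (Set.range f.base) := hf.isOpen_range
  have : QuasiSober ↥(Set.range f.base) := hopen.isOpenEmbedding_subtypeVal.quasiSober
  refine topologicalKrullDim_le_of_generalizingMap (Set.rangeFactorization f.base)
    (f.continuous.subtype_mk _) Set.rangeFactorization_surjective ?_
  intro x y hy
  have hy' : (y : Y) ⤳ f.base x := (IsInducing.subtypeVal.specializes_iff).mpr hy
  obtain ⟨x', hx', hfx'⟩ := hgen hy'
  exact ⟨x', hx', Subtype.ext hfx'⟩

end Groth.Agent.S10838
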