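import Groth.Statements.S9798
-- import your own Groth.Agent.* helpers here
import Mathlib.AlgebraicGeometry.Artinian

set_option autoImplicit false
universe u
open CategoryTheory AlgebraicGeometry TopologicalSpace
open Props

namespace Groth.Agent.S9798

/-- A point of a locally Noetherian scheme has local dimension zero exactly when it is isolated. -/
theorem result (X : Scheme.{u}) [IsLocallyNoetherian X] (x : X) :
    FlatMor.localDim X x = 0 ↔ IsOpen ({x} : Set X) := by
  unfold FlatMor.localDim
  have hnonneg : ∀ U : {U : TopologicalSpace.Opens X // x ∈ U},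
      0 ≤ topologicalKrullDim (U.1 : Set X) := by
    intro U
    have : Nonempty (TopologicalSpace.IrreducibleCloseds (U.1 : Set X)) :=
      ⟨⟨closure {⟨x, U.2⟩}, isIrreducible_singleton.closure, isClosed_closure⟩⟩
    exact Order.krullDim_nonneg
  constructor
  · intro h
    have : Nonempty {U : TopologicalSpace.Opens X // x ∈ U} := ⟨⟨⊤, trivial⟩⟩
    obtain ⟨U, hU⟩ := ciInf_mem (fun U : {U : TopologicalSpace.Opens X // x ∈ U} ↦
      topologicalKrullDim (U.1 : Set X))
    have hU0 : topologicalKrullDim (U.1 : Set X) = 0 := by
      rw [← h]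
      exact hU
    have hA : IsLocallyArtinian (U.1 : Scheme.{u}) :=
      IsLocallyArtinian.of_topologicalKrullDim_le_zero hU0.le
    have hd : DiscreteTopology (U.1 : Scheme.{u}) := inferInstance
    have ho : IsOpen ({⟨x, U.2⟩} : Set (U.1 : Scheme.{u})) := isOpen_discrete _
    have := U.1.2.isOpenMap_subtype_val _ ho
    have e : ({x} : Set X) = Subtype.val '' ({⟨x, U.2⟩} : Set (U.1 : Set X)) := by
      rw [Set.image_singleton]
    rw [e]
    exact this
  · intro h
    apply le_antisymm
    · refine (iInf_le _ (⟨⟨{x}, h⟩, rfl⟩ : {U : TopologicalSpace.Opens X // x ∈ U})).trans ?_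
      change topologicalKrullDim (({x} : Set X)) ≤ 0
      have : Subsingleton (({x} : Set X)) := Set.subsingleton_singleton.coe_sort
      have : DiscreteTopology (({x} : Set X)) := Subsingleton.discreteTopology
      exact topologicalKrullDim_zero_of_discreteTopology _
    · exact le_iInf hnonneg

end Groth.Agent.S9798
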