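import Groth.Statements.S9218
import Groth.Agent.Lib.Helper13.LimDescent

set_option autoImplicit false
universe u
open CategoryTheory AlgebraicGeometry
open Lim

namespace Groth.Agent.S9218

open Groth.Agent.Lib.Helper13.LimDescent Limits in
set_option backward.isDefEq.respectTransparency false in
/-- Let S = lim S_i be a cofiltered limit of schemes with affine transition morphisms (the S_i are not
assumed quasi-compact or quasi-separated), i an index, and X_i → S_i, Y_i → S_i morphisms locally of
finite presentation with X_i, Y_i quasi-compact and quasi-separated; let X, Y be their base changes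
to S (pullback squares). Then every S-morphism f : X → Y comes from some stage: for some index j
over i there is an S_j-morphism f_j : X_i ×_{S_i} S_j → Y_i ×_{S_i} S_j whose base change to S is f,
in the sense that the canonical morphisms X → X_i ×_{S_i} S_j and Y → Y_i ×_{S_i} S_j intertwine f
and f_j. This is the fullness part of the equivalence between the colimit of the categories of
quasi-compact quasi-separated schemes locally of finite presentation over the S_i and the
corresponding category over S. -/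
theorem result {I : Type u} [SmallCategory I] [IsCofiltered I]
    (D : I ⥤ Scheme.{u}) (c : Limits.Cone D) (hc : Limits.IsLimit c)
    [∀ (i j : I) (f : i ⟶ j), IsAffineHom (D.map f)] (i : I)
    {Xi Yi : Scheme.{u}} (xi : Xi ⟶ D.obj i) (yi : Yi ⟶ D.obj i)
    [CompactSpace Xi] [QuasiSeparatedSpace Xi] [LocallyOfFinitePresentation xi]
    [CompactSpace Yi] [QuasiSeparatedSpace Yi] [LocallyOfFinitePresentation yi]
    {X Y : Scheme.{u}} (qX : X ⟶ Xi) (pX : X ⟶ c.pt) (hX : IsPullback qX pX xi (c.π.app i))
    (qY : Y ⟶ Yi) (pY : Y ⟶ c.pt) (hY : IsPullback qY pY yi (c.π.app i))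
    (f : X ⟶ Y) (hf : f ≫ pY = pX) :
    ∃ (j : I) (φ : j ⟶ i) (fj : pullback xi (D.map φ) ⟶ pullback yi (D.map φ))
      (sX : X ⟶ pullback xi (D.map φ)) (sY : Y ⟶ pullback yi (D.map φ)),
      fj ≫ pullback.snd yi (D.map φ) = pullback.snd xi (D.map φ) ∧
      sX ≫ pullback.fst xi (D.map φ) = qX ∧ sX ≫ pullback.snd xi (D.map φ) = pX ≫ c.π.app j ∧
      sY ≫ pullback.fst yi (D.map φ) = qY ∧ sY ≫ pullback.snd yi (D.map φ) = pY ≫ c.π.app j ∧
      sX ≫ fj = f ≫ sY := by
  have hD : ∀ {a b : I} (f : a ⟶ b), IsAffineHom (D.map f) := fun f => inferInstance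
  -- the structure maps of the system of base changes
  let t : sys D i xi ⟶ (Functor.const (Over i)).obj (D.obj i) :=
    { app := fun k => pullback.snd (D.map k.hom) xi ≫ xi
      naturality := fun k k' a => by
        dsimp only [Functor.const_obj_obj, Functor.const_obj_map]
        rw [Category.comp_id, ← Category.assoc, sys_map_snd] }
  have e : pullback.snd (c.π.app i) xi = hX.flip.isoPullback.inv ≫ qX := by
    rw [Iso.eq_inv_comp]; exact hX.flip.isoPullback_hom_snd
  have e' : pullback.fst (c.π.app i) xi = hX.flip.isoPullback.inv ≫ pX := by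
    rw [Iso.eq_inv_comp]; exact hX.flip.isoPullback_hom_fst
  obtain ⟨k, g, hg, hg'⟩ : ∃ (k : Over i) (g : pullback (D.map k.hom) xi ⟶ Yi),
      (sysCone D c i xi).π.app k ≫ g = hX.flip.isoPullback.inv ≫ f ≫ qY ∧
      g ≫ yi = pullback.snd (D.map k.hom) xi ≫ xi :=
    Scheme.exists_π_app_comp_eq_of_locallyOfFinitePresentation
    (sys D i xi) t yi (sysCone D c i xi) (isLimitSysCone D c i xi hc)
    (hX.flip.isoPullback.inv ≫ f ≫ qY) (by
      ext k
      dsimp only [NatTrans.comp_app, Functor.const_map_app, t]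
      rw [← Category.assoc, sysCone_π_snd, e, Category.assoc, Category.assoc, Category.assoc,
        hY.w, ← Category.assoc f, hf, hX.w])
  -- the three morphisms
  have w1 : ((pullbackSymmetry xi (D.map k.hom)).hom ≫ g) ≫ yi =
      pullback.snd xi (D.map k.hom) ≫ D.map k.hom := by
    rw [Category.assoc, hg', ← Category.assoc, pullbackSymmetry_hom_comp_snd, pullback.condition]
  have w2 : qX ≫ xi = (pX ≫ c.π.app k.left) ≫ D.map k.hom := by
    rw [hX.w, Category.assoc, c.w]
  have w3 : qY ≫ yi = (pY ≫ c.π.app k.left) ≫ D.map k.hom := by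
    rw [hY.w, Category.assoc, c.w]
  obtain ⟨fj, hfj1, hfj2⟩ : ∃ fj : pullback xi (D.map k.hom) ⟶ pullback yi (D.map k.hom),
      fj ≫ pullback.fst yi (D.map k.hom) = (pullbackSymmetry xi (D.map k.hom)).hom ≫ g ∧
      fj ≫ pullback.snd yi (D.map k.hom) = pullback.snd xi (D.map k.hom) :=
    ⟨pullback.lift _ _ w1, pullback.lift_fst _ _ _, pullback.lift_snd _ _ _⟩
  obtain ⟨sX, hsX1, hsX2⟩ : ∃ sX : X ⟶ pullback xi (D.map k.hom),
      sX ≫ pullback.fst xi (D.map k.hom) = qX ∧
      sX ≫ pullback.snd xi (D.map k.hom) = pX ≫ c.π.app k.left :=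
    ⟨pullback.lift _ _ w2, pullback.lift_fst _ _ _, pullback.lift_snd _ _ _⟩
  obtain ⟨sY, hsY1, hsY2⟩ : ∃ sY : Y ⟶ pullback yi (D.map k.hom),
      sY ≫ pullback.fst yi (D.map k.hom) = qY ∧
      sY ≫ pullback.snd yi (D.map k.hom) = pY ≫ c.π.app k.left :=
    ⟨pullback.lift _ _ w3, pullback.lift_fst _ _ _, pullback.lift_snd _ _ _⟩
  refine ⟨k.left, k.hom, fj, sX, sY, hfj2, hsX1, hsX2, hsY1, hsY2, ?_⟩
  -- `sX ≫ symm` is the canonical map to the stage
  have h1 : sX ≫ (pullbackSymmetry xi (D.map k.hom)).hom =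
      hX.flip.isoPullback.hom ≫ (sysCone D c i xi).π.app k := by
    apply pullback.hom_ext
    · rw [Category.assoc, pullbackSymmetry_hom_comp_fst, hsX2, Category.assoc]
      erw [sysCone_π_fst]
      rw [← Category.assoc, hX.flip.isoPullback_hom_fst]
    · rw [Category.assoc, pullbackSymmetry_hom_comp_snd, hsX1, Category.assoc]
      erw [sysCone_π_snd]
      rw [hX.flip.isoPullback_hom_snd]
  apply pullback.hom_ext
  · rw [Category.assoc, Category.assoc, hfj1, hsY1, ← Category.assoc, h1, Category.assoc, hg,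
      Iso.hom_inv_id_assoc]
  · rw [Category.assoc, Category.assoc, hfj2, hsY2, hsX2, ← Category.assoc, hf]

end Groth.Agent.S9218
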