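import Groth.Statements.S4600
import Mathlib

set_option autoImplicit false
universe u
open CategoryTheory CategoryTheory.Limits TensorProduct
open EGA41

namespace Groth.Agent.S4600

/-- Let (A_i) be a filtered system of rings with colimit A and B a finitely presented A-algebra. Then
some stage A_i carries a finitely presented algebra B_i with B isomorphic to A ⊗_{A_i} B_i as
A-algebras (existence of an isomorphism; the base change is along the colimit map A_i → A). -/
theorem result {I : Type u} [SmallCategory I] [IsFiltered I]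
    (D : I ⥤ CommRingCat.{u}) (c : Cocone D) (hc : IsColimit c) (B : Type u) [CommRing B] [Algebra c.pt B]
    [Algebra.FinitePresentation c.pt B] :
    ∃ (i : I) (Bi : Type u) (_ : CommRing Bi) (_ : Algebra (D.obj i) Bi),
      Algebra.FinitePresentation (D.obj i) Bi ∧
      (letI : Algebra (D.obj i) c.pt := (c.ι.app i).hom.toAlgebra
       Nonempty (B ≃ₐ[c.pt] (c.pt ⊗[D.obj i] Bi))) := by
  classical
  let P := Algebra.Presentation.ofFinitePresentation c.pt B
  let A₀ := P.Core
  let B₀ := P.ModelOfHasCoeffs A₀
  have e : TensorProduct A₀ c.pt B₀ ≃ₐ[c.pt] B := P.tensorModelOfHasCoeffsEquiv A₀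
  haveI : Algebra.FiniteType ℤ A₀ := inferInstance
  haveI : Algebra.FinitePresentation ℤ A₀ := Algebra.FinitePresentation.of_finiteType.mp inferInstance
  let R₁ : CommRingCat.{u} := CommRingCat.of (ULift.{u} ℤ)
  let S₁ : CommRingCat.{u} := CommRingCat.of A₀
  let f : R₁ ⟶ S₁ := CommRingCat.isInitial.to S₁
  let α : (Functor.const I).obj R₁ ⟶ D :=
    { app := fun i => CommRingCat.isInitial.to (D.obj i)
      naturality := fun i j φ => CommRingCat.isInitial.hom_ext _ _ }
  let g : S₁ ⟶ c.pt := CommRingCat.ofHom (algebraMap A₀ c.pt)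
  have hf : f.hom.FinitePresentation := by
    have h1 : (algebraMap ℤ A₀).FinitePresentation :=
      RingHom.finitePresentation_algebraMap.mpr inferInstance
    have h2 : (ULift.ringEquiv : ULift.{u} ℤ ≃+* ℤ).toRingHom.FinitePresentation :=
      RingHom.FinitePresentation.of_surjective _ ULift.ringEquiv.surjective (by
        have : RingHom.ker (ULift.ringEquiv : ULift.{u} ℤ ≃+* ℤ).toRingHom = ⊥ :=
          (RingHom.injective_iff_ker_eq_bot _).mp ULift.ringEquiv.injective
        rw [this]
        exact Submodule.fg_bot)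
    have h3 : f.hom = (algebraMap ℤ A₀).comp (ULift.ringEquiv : ULift.{u} ℤ ≃+* ℤ).toRingHom := by
      have : f = CommRingCat.ofHom ((algebraMap ℤ A₀).comp
          (ULift.ringEquiv : ULift.{u} ℤ ≃+* ℤ).toRingHom) :=
        CommRingCat.isInitial.hom_ext _ _
      rw [this]
      rfl
    rw [h3]
    exact h1.comp h2
  obtain ⟨i, g', -, hg'⟩ := RingHom.EssFiniteType.exists_eq_comp_ι_app_of_isColimit R₁ D α f c hc hf g
    (fun i => CommRingCat.isInitial.hom_ext _ _)
  letI : Algebra A₀ (D.obj i) := g'.hom.toAlgebra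
  letI : Algebra (D.obj i) c.pt := (c.ι.app i).hom.toAlgebra
  haveI : IsScalarTower A₀ (D.obj i) c.pt := IsScalarTower.of_algebraMap_eq (fun x => by
    have := congrArg (fun h => h.hom x) hg'
    exact this)
  refine ⟨i, TensorProduct A₀ (D.obj i) B₀, inferInstance, inferInstance, inferInstance, ?_⟩
  exact ⟨e.symm.trans (Algebra.TensorProduct.cancelBaseChange A₀ (D.obj i) c.pt c.pt B₀).symm⟩

end Groth.Agent.S4600
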