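import Groth.Statements.S4442
-- import your own Groth.Agent.* helpers here

import Groth.Agent.Lib.Helper55.LocalDimAffine
import Groth.Agent.Lib.Helper55.ResidueFieldTrdeg

set_option autoImplicit false
universe u
open CategoryTheory CategoryTheory.Limits AlgebraicGeometry
attribute [local instance] Curv2.resAlgebra
open EGA2

namespace Groth.Agent.S4442

open Groth.Agent.Lib.Helper55

section aux

variable (k : Type u) [Field k] (X : Scheme.{u}) [X.Over (Spec (CommRingCat.of k))]
  [LocallyOfFiniteType (X ↘ (Spec (CommRingCat.of k)))]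

omit [X.Over (Spec (CommRingCat.of k))] [LocallyOfFiniteType (X ↘ (Spec (CommRingCat.of k)))] in
theorem le_iff_specializes_fromSpec {U : X.Opens} (hU : IsAffineOpen U)
    (a b : PrimeSpectrum Γ(X, U)) : a ≤ b ↔ hU.fromSpec a ⤳ hU.fromSpec b := by
  rw [PrimeSpectrum.le_iff_specializes]
  exact (hU.fromSpec.isOpenEmbedding.isInducing.specializes_iff (x := a) (y := b)).symm

omit [X.Over (Spec (CommRingCat.of k))] [LocallyOfFiniteType (X ↘ (Spec (CommRingCat.of k)))] in
theorem primeIdealOf_le_iff {U : X.Opens} (hU : IsAffineOpen U) (x y : X) (hx : x ∈ U)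
    (hy : y ∈ U) : hU.primeIdealOf ⟨x, hx⟩ ≤ hU.primeIdealOf ⟨y, hy⟩ ↔ x ⤳ y := by
  rw [le_iff_specializes_fromSpec X hU, hU.fromSpec_primeIdealOf ⟨x, hx⟩,
    hU.fromSpec_primeIdealOf ⟨y, hy⟩]

omit [X.Over (Spec (CommRingCat.of k))] [LocallyOfFiniteType (X ↘ (Spec (CommRingCat.of k)))] in
theorem primeIdealOf_injective {U : X.Opens} (hU : IsAffineOpen U) (x y : X) (hx : x ∈ U)
    (hy : y ∈ U) (h : hU.primeIdealOf ⟨x, hx⟩ = hU.primeIdealOf ⟨y, hy⟩) : x = y := by
  have h1 := hU.fromSpec_primeIdealOf ⟨x, hx⟩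
  have h2 := hU.fromSpec_primeIdealOf ⟨y, hy⟩
  rw [h] at h1
  exact h1.symm.trans h2

/-- A closed point has residue field algebraic over `k`. -/
theorem trdeg_eq_zero_of_isClosed (x : X) (hx : IsClosed ({x} : Set X)) :
    Algebra.trdeg k (X.residueField x) = 0 ∧ ∀ (U : X.Opens) (hU : IsAffineOpen U) (hxU : x ∈ U),
      (hU.primeIdealOf ⟨x, hxU⟩).asIdeal.IsMaximal := by
  have hmax : ∀ (U : X.Opens) (hU : IsAffineOpen U) (hxU : x ∈ U),
      (hU.primeIdealOf ⟨x, hxU⟩).asIdeal.IsMaximal := by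
    intro U hU hxU
    rw [← PrimeSpectrum.isClosed_singleton_iff_isMaximal]
    have h2 : ({hU.primeIdealOf ⟨x, hxU⟩} : Set (PrimeSpectrum Γ(X, U))) =
        hU.fromSpec ⁻¹' {x} := by
      ext y
      simp only [Set.mem_singleton_iff]
      constructor
      · rintro rfl
        exact hU.fromSpec_primeIdealOf ⟨x, hxU⟩
      · intro hy
        apply hU.fromSpec.isOpenEmbedding.injective
        rw [hy]
        exact (hU.fromSpec_primeIdealOf ⟨x, hxU⟩).symm
    rw [h2]
    exact hx.preimage hU.fromSpec.continuous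
  refine ⟨?_, hmax⟩
  obtain ⟨U, hU, hxU, -⟩ := exists_isAffineOpen_mem_and_subset (x := x) (U := ⊤) trivial
  have hfield : ringKrullDim (Γ(X, U) ⧸ (hU.primeIdealOf ⟨x, hxU⟩).asIdeal) = 0 :=
    ringKrullDim_eq_zero_of_isField
      ((Ideal.Quotient.maximal_ideal_iff_isField_quotient _).mp (hmax U hU hxU))
  obtain ⟨s, hs1, hs2⟩ :=
    exists_ringKrullDim_quotient_eq_and_trdeg_residueField_eq_of_isAffineOpen k X U hU x hxU
  rw [hfield] at hs1
  have : s = 0 := by exact_mod_cast hs1.symm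
  rw [hs2, this]
  rfl

/-- A point whose residue field is algebraic over `k` is closed. -/
theorem isClosed_singleton_of_trdeg_eq_zero (x : X)
    (hx : Algebra.trdeg k (X.residueField x) = 0) : IsClosed ({x} : Set X) := by
  rw [← closure_subset_iff_isClosed]
  intro x' hx'
  have hsp : x ⤳ x' := specializes_iff_mem_closure.mpr hx'
  obtain ⟨U, hU, hx'U, -⟩ := exists_isAffineOpen_mem_and_subset (x := x') (U := ⊤) trivial
  have hxU : x ∈ U := hsp.mem_open U.2 hx'U
  obtain ⟨s, hs1, hs2⟩ :=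
    exists_ringKrullDim_quotient_eq_and_trdeg_residueField_eq_of_isAffineOpen k X U hU x hxU
  rw [hx] at hs2
  have hs0 : s = 0 := by exact_mod_cast hs2.symm
  rw [hs0] at hs1
  have hdom : IsDomain (Γ(X, U) ⧸ (hU.primeIdealOf ⟨x, hxU⟩).asIdeal) :=
    (Ideal.Quotient.isDomain_iff_prime _).mpr (hU.primeIdealOf ⟨x, hxU⟩).isPrime
  have hle : Ring.KrullDimLE 0 (Γ(X, U) ⧸ (hU.primeIdealOf ⟨x, hxU⟩).asIdeal) := by
    rw [Ring.krullDimLE_iff, hs1]
  have hfield : IsField (Γ(X, U) ⧸ (hU.primeIdealOf ⟨x, hxU⟩).asIdeal) :=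
    Ring.KrullDimLE.isField_of_isDomain
  have hmax : (hU.primeIdealOf ⟨x, hxU⟩).asIdeal.IsMaximal :=
    (Ideal.Quotient.maximal_ideal_iff_isField_quotient _).mpr hfield
  have hle' : hU.primeIdealOf ⟨x, hxU⟩ ≤ hU.primeIdealOf ⟨x', hx'U⟩ :=
    (primeIdealOf_le_iff X hU x x' hxU hx'U).mpr hsp
  have heq : (hU.primeIdealOf ⟨x, hxU⟩).asIdeal = (hU.primeIdealOf ⟨x', hx'U⟩).asIdeal :=
    hmax.eq_of_le (hU.primeIdealOf ⟨x', hx'U⟩).isPrime.ne_top hle'
  have := primeIdealOf_injective X hU x x' hxU hx'U (PrimeSpectrum.ext heq)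
  exact this.symm

omit [X.Over (Spec (CommRingCat.of k))] [LocallyOfFiniteType (X ↘ (Spec (CommRingCat.of k)))] in
/-- Minimal primes of affine charts give irreducible components. -/
theorem closure_mem_irreducibleComponents_of_mem_minimalPrimes {U : X.Opens} (hU : IsAffineOpen U)
    (y : X) (hyU : y ∈ U) (hmin : (hU.primeIdealOf ⟨y, hyU⟩).asIdeal ∈ minimalPrimes Γ(X, U)) :
    closure ({y} : Set X) ∈ irreducibleComponents (X : Type u) := by
  refine ⟨isIrreducible_singleton.closure, ?_⟩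
  intro t ht hyt
  obtain ⟨z, hz⟩ := QuasiSober.sober ht.closure isClosed_closure
  have hzy : z ⤳ y := by
    rw [specializes_iff_mem_closure, hz.def]
    exact subset_closure (hyt (subset_closure rfl))
  have hzU : z ∈ U := hzy.mem_open U.2 hyU
  have h1 : hU.primeIdealOf ⟨z, hzU⟩ ≤ hU.primeIdealOf ⟨y, hyU⟩ :=
    (primeIdealOf_le_iff X hU z y hzU hyU).mpr hzy
  have h2 : (hU.primeIdealOf ⟨y, hyU⟩).asIdeal ≤ (hU.primeIdealOf ⟨z, hzU⟩).asIdeal :=
    hmin.2 ⟨(hU.primeIdealOf ⟨z, hzU⟩).isPrime, bot_le⟩ h1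
  have h3 : y ⤳ z := (primeIdealOf_le_iff X hU y z hyU hzU).mp h2
  have h4 : closure ({z} : Set X) ⊆ closure {y} := specializes_iff_closure_subset.mp h3
  exact (subset_closure.trans hz.def.symm.subset).trans h4

omit [X.Over (Spec (CommRingCat.of k))] [LocallyOfFiniteType (X ↘ (Spec (CommRingCat.of k)))] in
/-- Generic points of irreducible components give minimal primes of affine charts. -/
theorem mem_minimalPrimes_of_closure_mem_irreducibleComponents {U : X.Opens} (hU : IsAffineOpen U)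
    (y : X) (hyU : y ∈ U) (hy : closure ({y} : Set X) ∈ irreducibleComponents (X : Type u)) :
    (hU.primeIdealOf ⟨y, hyU⟩).asIdeal ∈ minimalPrimes Γ(X, U) := by
  refine ⟨⟨(hU.primeIdealOf ⟨y, hyU⟩).isPrime, bot_le⟩, ?_⟩
  rintro 𝔯 ⟨h𝔯, -⟩ hle
  set z : X := hU.fromSpec ⟨𝔯, h𝔯⟩ with hz
  have hzU : z ∈ U := by
    have := hU.range_fromSpec
    have hmem : z ∈ Set.range hU.fromSpec := ⟨_, rfl⟩
    rw [this] at hmem
    exact hmem
  have hzp : hU.primeIdealOf ⟨z, hzU⟩ = ⟨𝔯, h𝔯⟩ := by
    apply hU.fromSpec.isOpenEmbedding.injective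
    rw [hU.fromSpec_primeIdealOf ⟨z, hzU⟩]
  have hzy : z ⤳ y := by
    rw [← primeIdealOf_le_iff X hU z y hzU hyU, hzp]
    exact hle
  have h1 : closure ({y} : Set X) ⊆ closure {z} := specializes_iff_closure_subset.mp hzy
  have h2 : closure ({z} : Set X) ⊆ closure {y} :=
    hy.2 isIrreducible_singleton.closure h1
  have h3 : y ⤳ z := specializes_iff_closure_subset.mpr h2
  have h4 := (primeIdealOf_le_iff X hU y z hyU hzU).mpr h3
  rw [hzp] at h4
  exact h4

omit [X.Over (Spec (CommRingCat.of k))] [LocallyOfFiniteType (X ↘ (Spec (CommRingCat.of k)))] in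
theorem ringKrullDim_stalk_eq_height {U : X.Opens} (hU : IsAffineOpen U) (x : X) (hxU : x ∈ U) :
    ringKrullDim (X.presheaf.stalk x) = (hU.primeIdealOf ⟨x, hxU⟩).asIdeal.height := by
  let _ : Algebra Γ(X, U) (X.presheaf.stalk x) := (X.presheaf.germ U x hxU).hom.toAlgebra
  have hloc : IsLocalization.AtPrime (X.presheaf.stalk x) (hU.primeIdealOf ⟨x, hxU⟩).asIdeal :=
    hU.isLocalization_stalk ⟨x, hxU⟩
  exact IsLocalization.AtPrime.ringKrullDim_eq_height (hU.primeIdealOf ⟨x, hxU⟩).asIdeal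
    (X.presheaf.stalk x)

end aux

/-- (a) ⇔ (b): let X be a scheme of finite type over a field k. The residue fields of the generic points
of the irreducible components of X all have transcendence degree one over k if and only if the local
ring of X at every closed point has dimension one. (The published statement has a third equivalent
condition: the irreducible closed subsets of X other than the irreducible components are exactly the
closed points of X. This row states only the equivalence of the first two.) -/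
theorem result (k : Type u) [Field k] (X : Scheme.{u})
    [X.Over (Spec (CommRingCat.of k))] [LocallyOfFiniteType (X ↘ (Spec (CommRingCat.of k)))]
    [QuasiCompact (X ↘ (Spec (CommRingCat.of k)))] :
    (∀ x : X, closure ({x} : Set X) ∈ irreducibleComponents (X : Type u) → Algebra.trdeg k (X.residueField x) = 1) ↔
      ∀ x : X, IsClosed ({x} : Set X) → ringKrullDim (X.presheaf.stalk x) = 1 := by
  constructor
  · intro H x hx
    obtain ⟨U, hU, hxU, -⟩ := exists_isAffineOpen_mem_and_subset (x := x) (U := ⊤) trivial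
    let _ : Algebra k Γ(X, U) := (sectionsMap k X U).toAlgebra
    have hft : Algebra.FiniteType k Γ(X, U) := sectionsMap_finiteType k X U hU
    obtain ⟨-, hmax⟩ := trdeg_eq_zero_of_isClosed k X x hx
    have hmax' := hmax U hU hxU
    have hfield : ringKrullDim (Γ(X, U) ⧸ (hU.primeIdealOf ⟨x, hxU⟩).asIdeal) = 0 :=
      ringKrullDim_eq_zero_of_isField
        ((Ideal.Quotient.maximal_ideal_iff_isField_quotient _).mp hmax')
    obtain ⟨𝔮, h𝔮min, h𝔮le, h𝔮dim⟩ :=
      exists_minimalPrimes_ringKrullDim_quotient_eq k Γ(X, U) (hU.primeIdealOf ⟨x, hxU⟩).asIdeal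
    have h𝔮 : 𝔮.IsPrime := h𝔮min.1.1
    set y : X := hU.fromSpec ⟨𝔮, h𝔮⟩ with hy
    have hyU : y ∈ U := by
      have hmem : y ∈ Set.range hU.fromSpec := ⟨_, rfl⟩
      rw [hU.range_fromSpec] at hmem
      exact hmem
    have hyp : hU.primeIdealOf ⟨y, hyU⟩ = ⟨𝔮, h𝔮⟩ := by
      apply hU.fromSpec.isOpenEmbedding.injective
      rw [hU.fromSpec_primeIdealOf ⟨y, hyU⟩]
    have hcomp : closure ({y} : Set X) ∈ irreducibleComponents (X : Type u) := by
      apply closure_mem_irreducibleComponents_of_mem_minimalPrimes X hU y hyU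
      rw [hyp]
      exact h𝔮min
    have h1 := H y hcomp
    obtain ⟨s, hs1, hs2⟩ :=
      exists_ringKrullDim_quotient_eq_and_trdeg_residueField_eq_of_isAffineOpen k X U hU y hyU
    rw [hyp] at hs1
    rw [h1] at hs2
    have hs : s = 1 := by exact_mod_cast hs2.symm
    rw [ringKrullDim_stalk_eq_height X hU x hxU]
    rw [hfield, zero_add, hs1, hs] at h𝔮dim
    rw [← h𝔮dim]
    rfl
  · intro H y hy
    obtain ⟨U, hU, hyU, -⟩ := exists_isAffineOpen_mem_and_subset (x := y) (U := ⊤) trivial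
    let _ : Algebra k Γ(X, U) := (sectionsMap k X U).toAlgebra
    have hft : Algebra.FiniteType k Γ(X, U) := sectionsMap_finiteType k X U hU
    have hmin := mem_minimalPrimes_of_closure_mem_irreducibleComponents X hU y hyU hy
    have hht : (hU.primeIdealOf ⟨y, hyU⟩).asIdeal.height = 0 := Ideal.height_eq_zero_iff.mpr hmin
    obtain ⟨𝔪, h𝔪, hle, hdim⟩ :=
      exists_isMaximal_height_eq k Γ(X, U) (hU.primeIdealOf ⟨y, hyU⟩).asIdeal
    have h𝔪p : 𝔪.IsPrime := h𝔪.isPrime
    set x : X := hU.fromSpec ⟨𝔪, h𝔪p⟩ with hx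
    have hxU : x ∈ U := by
      have hmem : x ∈ Set.range hU.fromSpec := ⟨_, rfl⟩
      rw [hU.range_fromSpec] at hmem
      exact hmem
    have hxp : hU.primeIdealOf ⟨x, hxU⟩ = ⟨𝔪, h𝔪p⟩ := by
      apply hU.fromSpec.isOpenEmbedding.injective
      rw [hU.fromSpec_primeIdealOf ⟨x, hxU⟩]
    -- `x` is closed
    have hxclosed : IsClosed ({x} : Set X) := by
      apply isClosed_singleton_of_trdeg_eq_zero k X x
      obtain ⟨s, hs1, hs2⟩ :=
        exists_ringKrullDim_quotient_eq_and_trdeg_residueField_eq_of_isAffineOpen k X U hU x hxU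
      rw [hxp] at hs1
      have hfield : ringKrullDim (Γ(X, U) ⧸ 𝔪) = 0 :=
        ringKrullDim_eq_zero_of_isField
          ((Ideal.Quotient.maximal_ideal_iff_isField_quotient _).mp h𝔪)
      rw [hfield] at hs1
      have : s = 0 := by exact_mod_cast hs1.symm
      rw [hs2, this]
      rfl
    have h1 := H x hxclosed
    rw [ringKrullDim_stalk_eq_height X hU x hxU, hxp] at h1
    change ((𝔪.height : ℕ∞) : WithBot ℕ∞) = 1 at h1
    rw [hht] at hdim
    rw [h1] at hdim
    obtain ⟨s, hs1, hs2⟩ :=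
      exists_ringKrullDim_quotient_eq_and_trdeg_residueField_eq_of_isAffineOpen k X U hU y hyU
    rw [hs1] at hdim
    have hs : s = 1 := by
      have : ((1 : ℕ) : WithBot ℕ∞) = ((s : ℕ) : WithBot ℕ∞) := by
        rw [Nat.cast_one, hdim]
        simp
      exact_mod_cast this.symm
    rw [hs2, hs]
    rfl

end Groth.Agent.S4442
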