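import Groth.Statements.S7406
import Mathlib.AlgebraicGeometry.Morphisms.FormallyUnramified
import Mathlib.RingTheory.Etale.Field
import Mathlib.RingTheory.Unramified.LocalRing

set_option autoImplicit false
universe u
open CategoryTheory AlgebraicGeometry
open Desc

namespace Groth.Agent.S7406


/-- The residue field extension of a formally unramified morphism locally of finite type is
finite. -/
theorem finite_residueFieldMap {X Y : Scheme.{u}} (f : X ⟶ Y) [FormallyUnramified f]
    [LocallyOfFiniteType f] (x : X) :
    letI : Algebra (Y.residueField (f x)) (X.residueField x) :=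
      (f.residueFieldMap x).hom.toAlgebra
    Module.Finite (Y.residueField (f x)) (X.residueField x) := by
  algebraize [(f.stalkMap x).hom]
  have : IsLocalHom (algebraMap (Y.presheaf.stalk (f x)) (X.presheaf.stalk x)) :=
    inferInstanceAs <| IsLocalHom (f.stalkMap x).hom
  suffices h : Module.Finite
      (IsLocalRing.ResidueField <| Y.presheaf.stalk (f x))
      (IsLocalRing.ResidueField <| X.presheaf.stalk x) by
    have halg : ((f.residueFieldMap x).hom.toAlgebra :
        Algebra (Y.residueField (f x)) (X.residueField x)) =
        (inferInstance : Algebra (IsLocalRing.ResidueField <| Y.presheaf.stalk (f x))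
          (IsLocalRing.ResidueField <| X.presheaf.stalk x)) := by
      refine Algebra.algebra_ext _ _ fun x ↦ ?_
      obtain ⟨x, rfl⟩ := IsLocalRing.residue_surjective x
      rfl
    rw [halg]
    exact h
  have : Algebra.EssFiniteType (Y.presheaf.stalk (f x)) (X.presheaf.stalk x) := by
    rw [← RingHom.essFiniteType_algebraMap, RingHom.algebraMap_toAlgebra]
    exact LocallyOfFiniteType.stalkMap f x
  have : Algebra.FormallyUnramified (Y.presheaf.stalk (f x)) (X.presheaf.stalk x) := by
    rw [← RingHom.formallyUnramified_algebraMap, RingHom.algebraMap_toAlgebra]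
    exact FormallyUnramified.stalkMap f x
  infer_instance

/-- The map on spectra of residue fields induced by an étale morphism is étale. -/
theorem etale_specMap_residueFieldMap {X Y : Scheme.{u}} (f : X ⟶ Y) [Etale f] (x : X) :
    Etale (Spec.map (f.residueFieldMap x)) := by
  rw [HasRingHomProperty.Spec_iff (P := @Etale)]
  letI : Algebra (Y.residueField (f x)) (X.residueField x) :=
    (f.residueFieldMap x).hom.toAlgebra
  have h1 : Module.Finite (Y.residueField (f x)) (X.residueField x) := finite_residueFieldMap f x
  have h2 : Algebra.IsSeparable (Y.residueField (f x)) (X.residueField x) := inferInstance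
  have h3 : Algebra.FormallyEtale (Y.residueField (f x)) (X.residueField x) :=
    Algebra.FormallyEtale.of_isSeparable _ _
  have h4 : Algebra.FinitePresentation (Y.residueField (f x)) (X.residueField x) :=
    Algebra.FinitePresentation.of_finiteType.mp inferInstance
  have : Algebra.Etale (Y.residueField (f x)) (X.residueField x) := ⟨h3, h4⟩
  exact this

/-- Consider a commutative square of schemes with horizontal maps `h' : U' → V'`, `h : U → V` and étale
vertical maps `a : U' → U`, `b : V' → V`, and let `v' ∈ V'` with image `v = b(v')`. Then the induced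
morphism of fibres `U'_{v'} → U_v` is étale. (The morphism of fibres is characterised by its
compatibility with `a` and with `Spec κ(v') → Spec κ(v)`.) -/
theorem result {U U' V V' : Scheme.{u}} (h : U ⟶ V) (h' : U' ⟶ V') (a : U' ⟶ U)
    (b : V' ⟶ V) [Etale a] [Etale b] (comm : h' ≫ b = a ≫ h) (v' : V')
    (φ : h'.fiber v' ⟶ h.fiber (b v')) (hφ1 : φ ≫ h.fiberι (b v') = h'.fiberι v' ≫ a)
    (hφ2 : φ ≫ h.fiberToSpecResidueField (b v') = h'.fiberToSpecResidueField v' ≫ Spec.map (b.residueFieldMap v')) :
    Etale φ := by
  open Limits in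
  -- notation
  set ιv := h.fiberι (b v') with hιv
  set τv := h.fiberToSpecResidueField (b v') with hτv
  set sv := V.fromSpecResidueField (b v') with hsv
  set ιv' := h'.fiberι v' with hιv'
  set τv' := h'.fiberToSpecResidueField v' with hτv'
  set sv' := V'.fromSpecResidueField v' with hsv'
  set r := Spec.map (b.residueFieldMap v') with hr
  have hPv : IsPullback ιv τv h sv := IsPullback.of_hasPullback _ _
  have hPv' : IsPullback ιv' τv' h' sv' := IsPullback.of_hasPullback _ _
  have hrs : r ≫ sv = sv' ≫ b := Scheme.Hom.SpecMap_residueFieldMap_fromSpecResidueField b v'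
  have hr_et : Etale r := etale_specMap_residueFieldMap b v'
  -- `W = U ×_V V'`
  have hPW : IsPullback (pullback.fst h b) (pullback.snd h b) h b := IsPullback.of_hasPullback _ _
  let c : U' ⟶ pullback h b := pullback.lift a h' comm.symm
  have hc1 : c ≫ pullback.fst h b = a := pullback.lift_fst _ _ _
  have hc2 : c ≫ pullback.snd h b = h' := pullback.lift_snd _ _ _
  have hc_et : Etale c := by
    have : Etale (c ≫ pullback.fst h b) := by rw [hc1]; infer_instance
    exact Etale.of_comp c (pullback.fst h b)
  -- `M = U_v ×_{κ(v)} κ(v')`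
  have hPM : IsPullback (pullback.fst τv r) (pullback.snd τv r) τv r :=
    IsPullback.of_hasPullback _ _
  have hμ1_et : Etale (pullback.fst τv r) := inferInstance
  let m : pullback τv r ⟶ pullback h b :=
    pullback.lift (pullback.fst τv r ≫ ιv) (pullback.snd τv r ≫ sv') (by
      rw [Category.assoc, hPv.w, ← Category.assoc, hPM.w, Category.assoc, hrs, Category.assoc])
  have hm1 : m ≫ pullback.fst h b = pullback.fst τv r ≫ ιv := pullback.lift_fst _ _ _
  have hm2 : m ≫ pullback.snd h b = pullback.snd τv r ≫ sv' := pullback.lift_snd _ _ _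
  have hPbig : IsPullback (m ≫ pullback.fst h b) (pullback.snd τv r) h (sv' ≫ b) := by
    rw [hm1, ← hrs]
    exact hPM.paste_horiz hPv
  have hPMW : IsPullback m (pullback.snd τv r) (pullback.snd h b) sv' :=
    IsPullback.of_right hPbig hm2 hPW
  -- the fibre of `h'`
  let φ₁ : h'.fiber v' ⟶ pullback τv r := pullback.lift φ τv' hφ2
  have hφ₁1 : φ₁ ≫ pullback.fst τv r = φ := pullback.lift_fst _ _ _
  have hφ₁2 : φ₁ ≫ pullback.snd τv r = τv' := pullback.lift_snd _ _ _
  have hcomm : ιv' ≫ c = φ₁ ≫ m := by
    apply pullback.hom_ext
    · rw [Category.assoc, hc1, Category.assoc, hm1, ← Category.assoc, hφ₁1, hφ1]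
    · rw [Category.assoc, hc2, Category.assoc, hm2, ← Category.assoc, hφ₁2, hPv'.w]
  have hPfib : IsPullback ιv' φ₁ c m := by
    refine IsPullback.of_bot ?_ hcomm hPMW
    rw [hφ₁2, hc2]
    exact hPv'
  have hφ₁_et : Etale φ₁ := MorphismProperty.of_isPullback (P := @Etale) hPfib hc_et
  rw [← hφ₁1]
  infer_instance

end Groth.Agent.S7406
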