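import Groth.Statements.S7408
import Groth.Agent.S7406
import Groth.Agent.H52.DimLocal2
import Groth.Agent.Lib.Helper55.FiberBaseChange

set_option autoImplicit false
universe u
open CategoryTheory AlgebraicGeometry
open Desc

namespace Groth.Agent.S7408

/-- The local dimension of the fibre at a point is étale local on the source-and-target: for a
commutative square with horizontal maps `h' : U' → V'`, `h : U → V`, étale vertical maps `a : U' →
U`, `b : V' → V` and `u' ∈ U'`, the local dimension at `a(u')` of the fibre of `h` equals the local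
dimension at `u'` of the fibre of `h'`. -/
theorem result {U U' V V' : Scheme.{u}} (h : U ⟶ V) (h' : U' ⟶ V') (a : U' ⟶ U)
    (b : V' ⟶ V) [Etale a] [Etale b] (comm : h' ≫ b = a ≫ h) (u' : U') :
    FlatMor.fibreDimAt h (a u') = FlatMor.fibreDimAt h' u' := by
  have hrs : Spec.map (b.residueFieldMap (h' u')) ≫ V.fromSpecResidueField (b (h' u')) =
      V'.fromSpecResidueField (h' u') ≫ b :=
    Scheme.Hom.SpecMap_residueFieldMap_fromSpecResidueField b (h' u')
  have hcond : (h'.fiberι (h' u') ≫ a) ≫ h =
      (h'.fiberToSpecResidueField (h' u') ≫ Spec.map (b.residueFieldMap (h' u'))) ≫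
        V.fromSpecResidueField (b (h' u')) := by
    rw [Category.assoc, ← comm, Category.assoc, hrs, ← Category.assoc, ← Category.assoc]
    congr 1
    exact Limits.pullback.condition
  let φ : h'.fiber (h' u') ⟶ h.fiber (b (h' u')) := Limits.pullback.lift _ _ hcond
  have hφ1 : φ ≫ h.fiberι (b (h' u')) = h'.fiberι (h' u') ≫ a := Limits.pullback.lift_fst _ _ _
  have hφ2 : φ ≫ h.fiberToSpecResidueField (b (h' u')) =
      h'.fiberToSpecResidueField (h' u') ≫ Spec.map (b.residueFieldMap (h' u')) :=
    Limits.pullback.lift_snd _ _ _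
  have hφ : Etale φ := Groth.Agent.S7406.result h h' a b comm (h' u') φ hφ1 hφ2
  have e := Groth.Agent.H52.localDim_eq_of_etale φ (h'.asFiber u')
  have hx : h (a u') = b (h' u') := by
    rw [← Scheme.Hom.comp_apply, ← Scheme.Hom.comp_apply, comm]
  have hz : h.fiberι (b (h' u')) (φ (h'.asFiber u')) = a u' := by
    rw [← Scheme.Hom.comp_apply, hφ1, Scheme.Hom.comp_apply, h'.fiberι_asFiber]
  have e2 := Groth.Agent.Lib.Helper55.localDim_fiber_eq_fibreDimAt' h (b (h' u')) (a u') hx
    (φ (h'.asFiber u')) hz
  rw [← e2, ← e]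
  rfl

end Groth.Agent.S7408
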