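import Groth.Statements.S3444
import Groth.Agent.Lib.Helper16.FibreRadicial
import Groth.Agent.Lib.Helper16.ProCons

set_option autoImplicit false
open CategoryTheory AlgebraicGeometry
universe u
open EGA43

namespace Groth.Agent.S3444

open CategoryTheory.Limits in
/-- Let g : Y ⟶ S and f : X ⟶ Y be such that X and Y are of finite presentation over S (locally of
finite presentation, quasi-compact and quasi-separated). For each point s of S let f_s be the
induced morphism from the fibre of f ≫ g over s to the fibre of g over s. Then the set of s for
which f_s is radicial (universally injective) is locally constructible in S. -/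
theorem result {X Y S : Scheme.{u}} (f : X ⟶ Y) (g : Y ⟶ S)
    [LocallyOfFinitePresentation g] [QuasiCompact g] [QuasiSeparated g]
    [LocallyOfFinitePresentation (f ≫ g)] [QuasiCompact (f ≫ g)] [QuasiSeparated (f ≫ g)] :
    Topology.IsLocallyConstructible {s : S |
      UniversallyInjective (pullback.lift (pullback.fst (f ≫ g) (S.fromSpecResidueField s) ≫ f) (pullback.snd (f ≫ g) (S.fromSpecResidueField s))
          ((Category.assoc _ _ _).trans pullback.condition) :
        pullback (f ≫ g) (S.fromSpecResidueField s) ⟶ pullback g (S.fromSpecResidueField s))} := by
  have hf_lfp : LocallyOfFinitePresentation f :=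
    Groth.Agent.Lib.Helper16.locallyOfFinitePresentation_of_comp f g inferInstance inferInstance
  have hf_qc : QuasiCompact f := QuasiCompact.of_comp f g
  have hf_qs : QuasiSeparated f := QuasiSeparated.of_comp f g
  have hΔ_qc : QuasiCompact (Limits.pullback.diagonal f) := inferInstance
  have hW : LocallyOfFinitePresentation (Limits.pullback.fst f f ≫ f ≫ g) := inferInstance
  have hWqc : QuasiCompact (Limits.pullback.fst f f ≫ f ≫ g) := inferInstance
  have hΔ_lfp : LocallyOfFinitePresentation (Limits.pullback.diagonal f) := by
    apply Groth.Agent.Lib.Helper16.locallyOfFinitePresentation_of_comp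
      (Limits.pullback.diagonal f) (Limits.pullback.fst f f ≫ f ≫ g)
    · rw [Limits.pullback.diagonal_fst_assoc]
      infer_instance
    · infer_instance
  have h1 : Topology.IsLocallyConstructible (Set.range (Limits.pullback.diagonal f).base) := by
    rw [← Set.image_univ]
    exact (Limits.pullback.diagonal f).isLocallyConstructible_image
      Topology.IsLocallyConstructible.univ
  have h2 := ((Limits.pullback.fst f f ≫ f ≫ g).isLocallyConstructible_image h1.compl').compl'
  convert h2 using 1
  ext s
  rw [Set.mem_ofPred_eq, Groth.Agent.Lib.Helper16.universallyInjective_fibreMap_iff]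
  constructor
  · rintro hsub ⟨y, hy, rfl⟩
    exact hy (hsub rfl)
  · intro hs y hy
    by_contra hyf
    exact hs ⟨y, hyf, hy⟩

end Groth.Agent.S3444
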