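import Groth.Statements.S3386
import Groth.Agent.Lib.Helper13.EquidimAffSpace
import Groth.Agent.Lib.Helper13.AffSpaceQF

set_option autoImplicit false
open CategoryTheory AlgebraicGeometry
universe u
open EGA43

namespace Groth.Agent.S3386


open Groth.Agent.Lib.Helper55 Groth.Agent.Lib.Helper13.EquidimAffSpace
  Groth.Agent.Lib.Helper13.AffSpaceNorm Topology

/-- A maximal point of an open subscheme is a maximal point of the ambient scheme. -/
theorem maximal_of_maximal_open {X : Scheme.{u}} (U : X.Opens) (ζ' : ↥(U : Scheme.{u}))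
    (hζ' : ∀ w' : ↥(U : Scheme.{u}), w' ⤳ ζ' → ζ' ⤳ w') (w : X) (hw : w ⤳ U.ι ζ') :
    U.ι ζ' ⤳ w := by
  have hwU : w ∈ U := hw.mem_open U.2 ζ'.2
  have h2 : (⟨w, hwU⟩ : ↥(U : Scheme.{u})) ⤳ ζ' :=
    (U.ι.isOpenEmbedding.isInducing.specializes_iff).mp hw
  exact (hζ' _ h2).map U.ι.continuous

/-- Transcendence degree along `U → 𝔸^e_Y → Y` for a locally quasi-finite `g`. -/
theorem trdeg_affineSpace_eq {X Y : Scheme.{u}} (f : X ⟶ Y) (e : ℕ) (U : X.Opens)
    (g : (U : Scheme.{u}) ⟶ 𝔸(ULift.{u} (Fin e); Y))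
    (hg : g ≫ (𝔸(ULift.{u} (Fin e); Y) ↘ Y) = U.ι ≫ f) [LocallyQuasiFinite g]
    [LocallyOfFiniteType g] (w : ↥(U : Scheme.{u})) :
    @Algebra.trdeg (Y.residueField ((𝔸(ULift.{u} (Fin e); Y) ↘ Y) (g w)))
      ((𝔸(ULift.{u} (Fin e); Y)).residueField (g w)) _ _
        ((𝔸(ULift.{u} (Fin e); Y) ↘ Y).residueFieldMap (g w)).hom.toAlgebra =
    @Algebra.trdeg (Y.residueField (f (U.ι w))) (X.residueField (U.ι w)) _ _
        (f.residueFieldMap (U.ι w)).hom.toAlgebra := by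
  have h1 := trdeg_residueField_comp g (𝔸(ULift.{u} (Fin e); Y) ↘ Y) w
  rw [trdeg_eq_zero_of_locallyQuasiFinite g w, add_zero] at h1
  rw [h1, ← trdeg_residueField_ι_comp f U w]
  have key : ∀ h : (U : Scheme.{u}) ⟶ Y, h = g ≫ (𝔸(ULift.{u} (Fin e); Y) ↘ Y) →
      @Algebra.trdeg (Y.residueField (h w)) ((U : Scheme.{u}).residueField w) _ _
        (h.residueFieldMap w).hom.toAlgebra =
      @Algebra.trdeg (Y.residueField ((𝔸(ULift.{u} (Fin e); Y) ↘ Y) (g w)))
        ((U : Scheme.{u}).residueField w) _ _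
        ((g ≫ (𝔸(ULift.{u} (Fin e); Y) ↘ Y)).residueFieldMap w).hom.toAlgebra := by
    rintro h rfl
    rfl
  exact (key _ hg.symm).symm


theorem forward {X Y : Scheme.{u}} (f : X ⟶ Y) [LocallyOfFiniteType f] (x : X)
    (h : EGA43.IsEquidimAt f x) :
    ∃ (e : ℕ) (U : X.Opens) (g : (U : Scheme.{u}) ⟶ 𝔸(ULift.{u} (Fin e); Y)),
        x ∈ U ∧ g ≫ (𝔸(ULift.{u} (Fin e); Y) ↘ Y) = U.ι ≫ f ∧ LocallyQuasiFinite g ∧
        ∀ Z ∈ irreducibleComponents (↥U : Type u),
          closure (g.base '' Z) ∈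
            irreducibleComponents (↥𝔸(ULift.{u} (Fin e); Y) : Type u) := by
  obtain ⟨e, U₁, hxU₁, h1, h2⟩ := h
  have hfd : FlatMor.fibreDimAt f x = e := fibreDimAt_eq_of_isEquidimAt f x h2 hxU₁
  obtain ⟨V, hV, hfxV, -⟩ := exists_isAffineOpen_mem_and_subset (x := f x) (U := ⊤) trivial
  obtain ⟨U, hU, hxU, g₀, π, hg₀, hπ, hqf, hlft⟩ :=
    exists_quasiFinite_toAffineSpace f x V hV hfxV e hfd
  set U' : X.Opens := U ⊓ U₁ with hU'
  let j : (U' : Scheme.{u}) ⟶ (U : Scheme.{u}) := X.homOfLE inf_le_left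
  have hj : j ≫ U.ι = U'.ι := X.homOfLE_ι _
  let m : 𝔸(ULift.{u} (Fin e); (V : Scheme.{u})) ⟶ 𝔸(ULift.{u} (Fin e); Y) :=
    AffineSpace.map _ V.ι
  have hm : IsOpenImmersion m :=
    MorphismProperty.of_isPullback (P := @IsOpenImmersion)
      (AffineSpace.isPullback_map (n := ULift.{u} (Fin e)) V.ι).flip inferInstance
  set G := j ≫ π ≫ m with hG
  have hGq : G ≫ (𝔸(ULift.{u} (Fin e); Y) ↘ Y) = U'.ι ≫ f := by
    rw [hG, Category.assoc, Category.assoc, AffineSpace.map_over, ← Category.assoc π, hπ, hg₀,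
      ← Category.assoc, hj]
  have hGqf : LocallyQuasiFinite G := inferInstance
  have hGlft : LocallyOfFiniteType G := inferInstance
  refine ⟨e, U', G, ⟨hxU, hxU₁⟩, hGq, hGqf, ?_⟩
  intro Z hZ
  have hqs : QuasiSober ↥(U' : Scheme.{u}) := inferInstance
  obtain ⟨ξ', hξ'⟩ := hqs.sober hZ.1 (isClosed_of_mem_irreducibleComponents Z hZ)
  have hξ'max : ∀ w' : ↥(U' : Scheme.{u}), w' ⤳ ξ' → ξ' ⤳ w' :=
    specializes_of_closure_mem_irreducibleComponents ξ' (by rw [hξ'.def]; exact hZ)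
  have hmax := maximal_of_maximal_open U' ξ' hξ'max
  have hξU₁ : U'.ι ξ' ∈ U₁ := ξ'.2.2
  have hηmax := map_maximal_of_isEquidimAt f x h1 (U'.ι ξ') hξU₁ hmax
  have htr := trdeg_eq_of_isEquidimAt f h2 (U'.ι ξ') hξU₁ (fun w₁ _ hw => hmax w₁ hw)
  rw [closure_image_eq_of_isGenericPoint G Z ξ' hξ']
  apply closure_mem_irreducibleComponents_of_maximal
  have hqG : (𝔸(ULift.{u} (Fin e); Y) ↘ Y) (G ξ') = f (U'.ι ξ') := by
    have := congr(($hGq) ξ')
    rwa [Scheme.Hom.comp_apply, Scheme.Hom.comp_apply] at this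
  apply maximal_affineSpace_of_trdeg e Y (G ξ')
  · rw [hqG]; exact hηmax
  · rw [trdeg_affineSpace_eq f e U' G hGq ξ']; exact htr

theorem backward {X Y : Scheme.{u}} (f : X ⟶ Y) [LocallyOfFiniteType f] (x : X)
    [IsLocallyNoetherian Y] (e : ℕ) (U₀ : X.Opens)
    (g : (U₀ : Scheme.{u}) ⟶ 𝔸(ULift.{u} (Fin e); Y))
    (hxU₀ : x ∈ U₀) (hg : g ≫ (𝔸(ULift.{u} (Fin e); Y) ↘ Y) = U₀.ι ≫ f)
    [LocallyQuasiFinite g]
    (hcomp : ∀ Z ∈ irreducibleComponents (↥U₀ : Type u),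
      closure (g.base '' Z) ∈ irreducibleComponents (↥𝔸(ULift.{u} (Fin e); Y) : Type u)) :
    EGA43.IsEquidimAt f x := by
  have hX : IsLocallyNoetherian X := LocallyOfFiniteType.isLocallyNoetherian f
  have hglft : LocallyOfFiniteType g := by
    haveI : LocallyOfFiniteType (g ≫ (𝔸(ULift.{u} (Fin e); Y) ↘ Y)) := by
      rw [hg]; infer_instance
    exact locallyOfFiniteType_of_comp g (𝔸(ULift.{u} (Fin e); Y) ↘ Y)
  obtain ⟨W, hxW, hW⟩ := exists_open_forall_maximal_specializes x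
  have hqg : ∀ ζ' : ↥(U₀ : Scheme.{u}),
      (𝔸(ULift.{u} (Fin e); Y) ↘ Y) (g ζ') = f (U₀.ι ζ') := by
    intro ζ'
    have := congr(($hg) ζ')
    rwa [Scheme.Hom.comp_apply, Scheme.Hom.comp_apply] at this
  -- maximal points in `U₀`
  have hgen : ∀ ζ : X, ζ ∈ U₀ → (∀ w : X, w ⤳ ζ → ζ ⤳ w) →
      (∀ v : Y, v ⤳ f ζ → f ζ ⤳ v) ∧
      @Algebra.trdeg (Y.residueField (f ζ)) (X.residueField ζ) _ _
        (f.residueFieldMap ζ).hom.toAlgebra = e := by
    intro ζ hζU₀ hmax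
    set ζ' : ↥(U₀ : Scheme.{u}) := ⟨ζ, hζU₀⟩ with hζ'
    have hιζ : U₀.ι ζ' = ζ := rfl
    have hmax' : ∀ w' : ↥(U₀ : Scheme.{u}), w' ⤳ ζ' → ζ' ⤳ w' := by
      intro w' hw'
      have h2 : U₀.ι w' ⤳ ζ := hw'.map U₀.ι.continuous
      exact (U₀.ι.isOpenEmbedding.isInducing.specializes_iff).mp (hmax _ h2)
    have hc := closure_mem_irreducibleComponents_of_maximal ζ' hmax'
    have h3 := hcomp _ hc
    rw [closure_image_eq_of_isGenericPoint g _ ζ' rfl] at h3
    have hθmax := specializes_of_closure_mem_irreducibleComponents (g ζ') h3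
    obtain ⟨hA, hB⟩ := map_maximal_affineSpace e Y (g ζ') hθmax
    rw [hqg ζ'] at hA
    refine ⟨hA, ?_⟩
    rw [trdeg_affineSpace_eq f e U₀ g hg ζ'] at hB
    exact hB
  -- fibre dimension bound
  have hle : ∀ p : X, p ∈ U₀ → FlatMor.fibreDimAt f p ≤ e := by
    intro p hp
    set p' : ↥(U₀ : Scheme.{u}) := ⟨p, hp⟩ with hp'
    have hsq := Groth.Agent.H52.fibreDimAt_eq_of_etale_square U₀.ι (𝟙 Y) (U₀.ι ≫ f) f
      (by rw [Category.comp_id]) p'
    change FlatMor.fibreDimAt f (U₀.ι p') ≤ e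
    rw [← hsq]
    have h4 := (fibreDimAt_comp_le g (𝔸(ULift.{u} (Fin e); Y) ↘ Y) p').1
    rw [Groth.Agent.H52.fibreDimAt_eq_zero_of_locallyQuasiFinite g p',
      fibreDimAt_affineSpace, zero_add, hg] at h4
    exact h4
  let U : X.Opens := U₀ ⊓ W
  have hxU : x ∈ U := ⟨hxU₀, hxW⟩
  refine ⟨e, U, hxU, ?_, ?_⟩
  · intro Z hZ
    have hqs : QuasiSober ↥(U : Scheme.{u}) := inferInstance
    obtain ⟨ζ', hζ'⟩ := hqs.sober hZ.1 (isClosed_of_mem_irreducibleComponents Z hZ)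
    have hζ'max : ∀ w' : ↥(U : Scheme.{u}), w' ⤳ ζ' → ζ' ⤳ w' :=
      specializes_of_closure_mem_irreducibleComponents ζ' (by rw [hζ'.def]; exact hZ)
    have hmax := maximal_of_maximal_open U ζ' hζ'max
    have hζx : U.ι ζ' ⤳ x := hW _ ζ'.2.2 hmax
    obtain ⟨Ha, -⟩ := hgen _ ζ'.2.1 hmax
    refine ⟨closure ({f (U.ι ζ')} : Set Y),
      closure_mem_irreducibleComponents_of_maximal (f (U.ι ζ')) Ha,
      specializes_iff_mem_closure.mp (hζx.map f.continuous), ?_⟩
    exact closure_image_eq_of_isGenericPoint (U.ι ≫ f) Z ζ' hζ'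
  · intro p
    have hlft : LocallyOfFiniteType ((U.ι ≫ f).fiberToSpecResidueField ((U.ι ≫ f) p)) :=
      MorphismProperty.pullback_snd (P := @LocallyOfFiniteType) _ _ inferInstance
    refine (forall_irreducibleComponents_dim_eq_iff
      (k := ↑(Y.residueField ((U.ι ≫ f) p)))
      ((U.ι ≫ f).fiberToSpecResidueField ((U.ι ≫ f) p)) (e : WithBot ℕ∞)).mpr ?_
    intro zf
    rw [localDim_fiber_eq_fibreDimAt (U.ι ≫ f) _ zf]
    have hsq := Groth.Agent.H52.fibreDimAt_eq_of_etale_square U.ι (𝟙 Y) (U.ι ≫ f) f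
      (by rw [Category.comp_id]) ((U.ι ≫ f).fiberι _ zf)
    rw [hsq]
    apply le_antisymm
    · exact hle _ ((U.ι ≫ f).fiberι _ zf).2.1
    · set P : X := U.ι ((U.ι ≫ f).fiberι _ zf) with hP
      obtain ⟨Xj, hXj, hPXj⟩ := exists_mem_irreducibleComponents_subset_of_isIrreducible
        (closure ({P} : Set X)) isIrreducible_singleton.closure
      obtain ⟨ζ, hζ⟩ := QuasiSober.sober hXj.1 (isClosed_of_mem_irreducibleComponents Xj hXj)
      have hζP : ζ ⤳ P := by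
        rw [specializes_iff_mem_closure, hζ.def]
        exact hPXj (subset_closure rfl)
      have hζmax : ∀ w : X, w ⤳ ζ → ζ ⤳ w :=
        specializes_of_closure_mem_irreducibleComponents ζ (by rw [hζ.def]; exact hXj)
      have hζU : ζ ∈ U := hζP.mem_open U.2 ((U.ι ≫ f).fiberι _ zf).2
      obtain ⟨-, htr⟩ := hgen ζ hζU.1 hζmax
      exact trdeg_le_fibreDimAt_of_specializes f ζ P hζP e htr

open CategoryTheory.Limits in
/-- Conditions a) and b): let f : X ⟶ Y be locally of finite type and fix a point x of X. Condition a)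
is equidimensionality of f at x (the definition used here); condition b): there are a natural number
e, an open neighbourhood U of x and a Y-morphism g from U to the affine space of dimension e over Y
which is locally quasi-finite and sends the generic point of every irreducible component of U to the
generic point of an irreducible component of the affine space. Then a) implies b); and b) implies a)
when Y is locally Noetherian. (The source states the equivalence over an arbitrary base; the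
implication b) ⟹ a) uses that irreducible components are locally finite and fails without some such
hypothesis.) -/
theorem result {X Y : Scheme.{u}}
    (f : X ⟶ Y) [LocallyOfFiniteType f] (x : X) :
    (EGA43.IsEquidimAt f x → (∃ (e : ℕ) (U : X.Opens) (g : (U : Scheme.{u}) ⟶ 𝔸(ULift.{u} (Fin e); Y)),
        x ∈ U ∧ g ≫ (𝔸(ULift.{u} (Fin e); Y) ↘ Y) = U.ι ≫ f ∧ LocallyQuasiFinite g ∧
        ∀ Z ∈ irreducibleComponents (↥U : Type u),
          closure (g.base '' Z) ∈ irreducibleComponents (↥𝔸(ULift.{u} (Fin e); Y) : Type u))) ∧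
    (IsLocallyNoetherian Y → (∃ (e : ℕ) (U : X.Opens) (g : (U : Scheme.{u}) ⟶ 𝔸(ULift.{u} (Fin e); Y)),
        x ∈ U ∧ g ≫ (𝔸(ULift.{u} (Fin e); Y) ↘ Y) = U.ι ≫ f ∧ LocallyQuasiFinite g ∧
        ∀ Z ∈ irreducibleComponents (↥U : Type u),
          closure (g.base '' Z) ∈ irreducibleComponents (↥𝔸(ULift.{u} (Fin e); Y) : Type u)) → EGA43.IsEquidimAt f x) := by
  refine ⟨forward f x, ?_⟩
  rintro hY ⟨e, U, g, hxU, hg, hqf, hcomp⟩
  exact backward f x e U g hxU hg hcomp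

end Groth.Agent.S3386
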