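import Groth.Statements.S2595
import Groth.Agent.S3386
import Groth.Agent.S0386
import Groth.Agent.Lib.Helper13.MiracleLQF

set_option autoImplicit false
open CategoryTheory AlgebraicGeometry
universe u
open EGA43

namespace Groth.Agent.S2595


open Groth.Agent.Lib.Helper55 Groth.Agent.Lib.Helper13.EquidimAffSpace
  Groth.Agent.Lib.Helper13.AffSpaceNorm Groth.Agent.Lib.Helper13.MiracleLQF Topology

/-- Flatness of stalk maps is insensitive to precomposition with an open immersion. -/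
theorem flat_stalkMap_comp_openImmersion_iff {A B C : Scheme.{u}} (j : A ⟶ B) [IsOpenImmersion j]
    (h : B ⟶ C) (z : A) :
    ((j ≫ h).stalkMap z).hom.Flat ↔ (h.stalkMap (j z)).hom.Flat := by
  rw [Scheme.Hom.stalkMap_comp]
  exact RingHom.Flat.comp_iff_of_bijective_left
    (ConcreteCategory.bijective_of_isIso (j.stalkMap z))

theorem locallyOfFinitePresentation_of_isLocallyNoetherian {X Y : Scheme.{u}} (f : X ⟶ Y)
    [LocallyOfFiniteType f] [IsLocallyNoetherian Y] : LocallyOfFinitePresentation f := by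
  rw [HasRingHomProperty.iff_appLE (P := @LocallyOfFinitePresentation)]
  intro U V e
  have : IsNoetherianRing Γ(Y, U.1) := IsLocallyNoetherian.component_noetherian U
  exact RingHom.FinitePresentation.of_finiteType.1
    (HasRingHomProperty.appLE (P := @LocallyOfFiniteType) f inferInstance U V e)

/-- Let Y be locally Noetherian, f : X ⟶ Y locally of finite type and x a point of X. If O_{Y,f x} ⟶
O_{X,x} is flat and the local ring at x of the fibre through x is Cohen–Macaulay, then f is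
equidimensional at x. -/
theorem result {X Y : Scheme.{u}} [IsLocallyNoetherian Y] (f : X ⟶ Y)
    [LocallyOfFiniteType f] (x : X) (hflat : (f.stalkMap x).hom.Flat)
    (hCM : LocCoh.IsCohenMacaulayLocalRing ((f.fiber (f.base x)).presheaf.stalk (f.asFiber x))) :
    EGA43.IsEquidimAt f x := by
  have hX : IsLocallyNoetherian X := LocallyOfFiniteType.isLocallyNoetherian f
  -- the fibre dimension is a natural number
  obtain ⟨e, he⟩ : ∃ e : ℕ, FlatMor.fibreDimAt f x = e := by
    obtain ⟨n, -, hn⟩ := fibreDimAt_eq_stalk_fiber_add_trdeg f x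
    obtain ⟨k, hk⟩ := exists_nat_ringKrullDim_stalk_fiber f x
    exact ⟨k + n, by rw [hn, hk]; push_cast; rfl⟩
  obtain ⟨V, hV, hfxV, -⟩ := exists_isAffineOpen_mem_and_subset (x := f x) (U := ⊤) trivial
  obtain ⟨U, hU, hxU, g₀, π, hg₀, hπ, hqf, hlft⟩ :=
    exists_quasiFinite_toAffineSpace f x V hV hfxV e he
  let m : 𝔸(ULift.{u} (Fin e); (V : Scheme.{u})) ⟶ 𝔸(ULift.{u} (Fin e); Y) :=
    AffineSpace.map _ V.ι
  have hm : IsOpenImmersion m :=
    MorphismProperty.of_isPullback (P := @IsOpenImmersion)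
      (AffineSpace.isPullback_map (n := ULift.{u} (Fin e)) V.ι).flip inferInstance
  set π' := π ≫ m with hπ'
  have hπ'q : π' ≫ (𝔸(ULift.{u} (Fin e); Y) ↘ Y) = U.ι ≫ f := by
    rw [hπ', Category.assoc, AffineSpace.map_over, ← Category.assoc π, hπ, hg₀]
  haveI hπ'qf : LocallyQuasiFinite π' := inferInstance
  haveI hπ'lft : LocallyOfFiniteType π' := inferInstance
  haveI hsm : SmoothOfRelativeDimension e (𝔸(ULift.{u} (Fin e); Y) ↘ Y) :=
    smoothOfRelativeDimension_affineSpace _ e (by simp) Y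
  haveI hsm' : Smooth (𝔸(ULift.{u} (Fin e); Y) ↘ Y) := SmoothOfRelativeDimension.smooth e _
  set x' : ↥(U : Scheme.{u}) := ⟨x, hxU⟩ with hx'
  -- hypotheses at `x'`
  have hflat' : ((π' ≫ (𝔸(ULift.{u} (Fin e); Y) ↘ Y)).stalkMap x').hom.Flat := by
    rw [hπ'q]
    exact (flat_stalkMap_comp_openImmersion_iff U.ι f x').mpr hflat
  have hdim' : FlatMor.fibreDimAt (π' ≫ (𝔸(ULift.{u} (Fin e); Y) ↘ Y)) x' = e := by
    rw [hπ'q, Groth.Agent.H52.fibreDimAt_eq_of_etale_square U.ι (𝟙 Y) (U.ι ≫ f) f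
      (by rw [Category.comp_id]) x']
    exact he
  have hcm' : LocCoh.IsCohenMacaulayLocalRing ((U : Scheme.{u}).presheaf.stalk x' ⧸
      Ideal.map ((π' ≫ (𝔸(ULift.{u} (Fin e); Y) ↘ Y)).stalkMap x').hom
        (IsLocalRing.maximalIdeal (Y.presheaf.stalk
          ((π' ≫ (𝔸(ULift.{u} (Fin e); Y) ↘ Y)) x')))) := by
    have gen : ∀ h : (U : Scheme.{u}) ⟶ Y, h = U.ι ≫ f →
        LocCoh.IsCohenMacaulayLocalRing ((U : Scheme.{u}).presheaf.stalk x' ⧸
          Ideal.map (h.stalkMap x').hom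
            (IsLocalRing.maximalIdeal (Y.presheaf.stalk (h x')))) := by
      rintro h rfl
      obtain ⟨E2⟩ := nonempty_stalk_fiber_equiv f (f x) (f.asFiber x) x (f.fiberι_asFiber x)
      have h1 := Groth.Agent.Lib.Helper29.isCohenMacaulayLocalRing_of_ringEquiv E2.symm hCM
      let φ : X.presheaf.stalk x ≃+* (U : Scheme.{u}).presheaf.stalk x' :=
        (asIso (U.ι.stalkMap x')).commRingCatIsoToRingEquiv
      have hJ : Ideal.map ((U.ι ≫ f).stalkMap x').hom
          (IsLocalRing.maximalIdeal (Y.presheaf.stalk ((U.ι ≫ f) x'))) =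
          Ideal.map (φ : X.presheaf.stalk x →+* (U : Scheme.{u}).presheaf.stalk x')
            (Ideal.map (f.stalkMap x).hom
              (IsLocalRing.maximalIdeal (Y.presheaf.stalk (f x)))) := by
        rw [Ideal.map_map, Scheme.Hom.stalkMap_comp]
        rfl
      exact Groth.Agent.Lib.Helper29.isCohenMacaulayLocalRing_of_ringEquiv
        (Ideal.quotientEquiv _ _ φ hJ) h1
    exact gen _ hπ'q
  have key := flat_stalkMap_of_lqf_over_smooth' π' (𝔸(ULift.{u} (Fin e); Y) ↘ Y) e
    (fibreDimAt_affineSpace e Y) x' hflat' hcm' hdim'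
  -- the flat locus of `π'` is open
  haveI hNA : IsLocallyNoetherian 𝔸(ULift.{u} (Fin e); Y) :=
    LocallyOfFiniteType.isLocallyNoetherian (𝔸(ULift.{u} (Fin e); Y) ↘ Y)
  haveI hlfp : LocallyOfFinitePresentation π' :=
    locallyOfFinitePresentation_of_isLocallyNoetherian π'
  have hopen := Groth.Agent.S0386.result π'
  let W : (U : Scheme.{u}).Opens := ⟨{z | (π'.stalkMap z).hom.Flat}, hopen⟩
  have hx'W : x' ∈ W := key
  let U₀ : X.Opens := U.ι ''ᵁ W
  have hxU₀ : x ∈ U₀ := ⟨x', hx'W, rfl⟩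
  have hle : U₀ ≤ U := by
    rintro _ ⟨z, -, rfl⟩
    exact z.2
  let j : (U₀ : Scheme.{u}) ⟶ (U : Scheme.{u}) := X.homOfLE hle
  have hj : j ≫ U.ι = U₀.ι := X.homOfLE_ι _
  have hjW : ∀ z : ↥(U₀ : Scheme.{u}), j z ∈ W := by
    intro z
    obtain ⟨w, hw, hwz⟩ := z.2
    have h1 : U.ι (j z) = U.ι w := by
      have := congr(($hj) z)
      rw [Scheme.Hom.comp_apply] at this
      rw [this]
      exact hwz.symm
    rw [U.ι.isOpenEmbedding.injective h1]
    exact hw
  set g := j ≫ π' with hg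
  have hgq : g ≫ (𝔸(ULift.{u} (Fin e); Y) ↘ Y) = U₀.ι ≫ f := by
    rw [hg, Category.assoc, hπ'q, ← Category.assoc, hj]
  haveI hgqf : LocallyQuasiFinite g := inferInstance
  haveI hgflat : Flat g := by
    apply Flat.of_stalkMap
    intro z
    exact (flat_stalkMap_comp_openImmersion_iff j π' z).mpr (hjW z)
  have hgen : GeneralizingMap g := Flat.generalizingMap g
  refine Groth.Agent.S3386.backward f x e U₀ g hxU₀ hgq ?_
  intro Z hZ
  have hqs : QuasiSober ↥(U₀ : Scheme.{u}) := inferInstance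
  obtain ⟨ξ, hξ⟩ := hqs.sober hZ.1 (isClosed_of_mem_irreducibleComponents Z hZ)
  have hξmax : ∀ w : ↥(U₀ : Scheme.{u}), w ⤳ ξ → ξ ⤳ w :=
    specializes_of_closure_mem_irreducibleComponents ξ (by rw [hξ.def]; exact hZ)
  rw [closure_image_eq_of_isGenericPoint g Z ξ hξ]
  apply closure_mem_irreducibleComponents_of_maximal
  intro w hw
  obtain ⟨ξ', hξ', rfl⟩ := hgen hw
  exact (hξmax ξ' hξ').map g.continuous

end Groth.Agent.S2595
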