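import Groth.Statements.S6894
import Mathlib
import Groth.Agent.Lib.Helper10.Fitting
-- import your own Groth.Agent.* helpers here

set_option autoImplicit false
universe u
open TensorProduct
open Fitt

namespace Groth.Agent.S6894

open Groth.Agent.Lib.Helper10.Fitting

/-- Let `M` be a finite `R`-module, `k ≥ 0` and `𝔭 ⊆ R` a prime. Then each of the following conditions
implies all the others: the Fitting ideal `Fit_k(M)` is not contained in `𝔭`; the fiber `M ⊗_R κ(𝔭)`
has dimension at most `k` over `κ(𝔭)`; some `k` elements span the localization `M_𝔭` over `R_𝔭`; and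
for some `f ∉ 𝔭`, the module `M_f` is spanned over `R_f` by `k` elements. -/
theorem result {R : Type u} [CommRing R] (M : Type u) [AddCommGroup M] [Module R M]
    [Module.Finite R M] (k : ℕ) (p : Ideal R) [p.IsPrime] :
    (¬ Fitt.ideal R M k ≤ p ↔ Module.finrank p.ResidueField (p.ResidueField ⊗[R] M) ≤ k) ∧
    (¬ Fitt.ideal R M k ≤ p ↔
      ∃ g : Fin k → LocalizedModule p.primeCompl M, Submodule.span (Localization.AtPrime p) (Set.range g) = ⊤) ∧
    (¬ Fitt.ideal R M k ≤ p ↔ ∃ f : R, f ∉ p ∧
      ∃ g : Fin k → LocalizedModule (Submonoid.powers f) M,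
        Submodule.span (Localization.Away f) (Set.range g) = ⊤) := by
  classical
  have hb1 : ¬ Fitt.ideal R M k ≤ p →
      ∃ g : Fin k → LocalizedModule p.primeCompl M,
        Submodule.span (Localization.AtPrime p) (Set.range g) = ⊤ := by
    intro h
    apply exists_span_eq_top_of_fitt_eq_top (A := Localization.AtPrime p)
      (N := LocalizedModule p.primeCompl M)
    rw [fitt_isLocalizedModule p.primeCompl (Localization.AtPrime p)
      (LocalizedModule.mkLinearMap p.primeCompl M) k]
    obtain ⟨d, hdI, hdp⟩ := Set.not_subset.mp h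
    apply Ideal.eq_top_of_isUnit_mem _ (Ideal.mem_map_of_mem _ hdI)
    exact IsLocalization.map_units (Localization.AtPrime p) (⟨d, hdp⟩ : p.primeCompl)
  have hb2 : (∃ g : Fin k → LocalizedModule p.primeCompl M,
        Submodule.span (Localization.AtPrime p) (Set.range g) = ⊤) → ¬ Fitt.ideal R M k ≤ p := by
    rintro ⟨g, hg⟩ hle
    have h1 := fitt_eq_top_of_span g hg le_rfl
    rw [fitt_isLocalizedModule p.primeCompl (Localization.AtPrime p)
      (LocalizedModule.mkLinearMap p.primeCompl M) k] at h1
    have h2 : (Fitt.ideal R M k).map (algebraMap R (Localization.AtPrime p)) ≤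
        IsLocalRing.maximalIdeal (Localization.AtPrime p) := by
      rw [← Localization.AtPrime.map_eq_maximalIdeal]
      exact Ideal.map_mono hle
    rw [h1] at h2
    exact (IsLocalRing.maximalIdeal.isMaximal _).ne_top (top_le_iff.mp h2)
  refine ⟨?_, ⟨hb1, hb2⟩, ?_, ?_⟩
  · rw [not_le_prime_iff_map_residueField_eq_top, ← fitt_baseChange, fitt_eq_top_iff_finrank_le]
  · intro h
    obtain ⟨g, hg⟩ := hb1 h
    exact exists_span_away_of_span_atPrime p g hg
  · rintro ⟨f, hf, g, hg⟩ hle
    have h1 := fitt_eq_top_of_span g hg le_rfl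
    rw [fitt_isLocalizedModule (Submonoid.powers f) (Localization.Away f)
      (LocalizedModule.mkLinearMap (Submonoid.powers f) M) k] at h1
    have h2 : p.map (algebraMap R (Localization.Away f)) ≠ ⊤ := by
      rw [IsLocalization.map_algebraMap_ne_top_iff_disjoint (Submonoid.powers f)]
      rw [Set.disjoint_left]
      rintro _ ⟨n, rfl⟩ hmem
      exact hf (Ideal.IsPrime.mem_of_pow_mem ‹_› n hmem)
    apply h2
    rw [eq_top_iff, ← h1]
    exact Ideal.map_mono hle

end Groth.Agent.S6894
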