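import Groth.Statements.S6896
import Mathlib
import Groth.Agent.Lib.Helper10.FittingMinors
-- import your own Groth.Agent.* helpers here

set_option autoImplicit false
universe u
open Fitt

namespace Groth.Agent.S6896

open Groth.Agent.Lib.Helper10.Fitting

/-- Let `R` be a local ring, `M` a finite `R`-module and `k ≥ 0` with `Fit_k(M) = (f)` principal. Then
the quotient `M'` of `M` by the submodule `{x ∈ M | f x = 0}` can be generated by `k` elements. -/
theorem result {R : Type u} [CommRing R] [IsLocalRing R]
    (M : Type u) [AddCommGroup M] [Module R M] [Module.Finite R M] (k : ℕ) (f : R)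
    (hf : Fitt.ideal R M k = Ideal.span {f}) :
    ∃ g : Fin k → M ⧸ LinearMap.ker (f • (LinearMap.id : M →ₗ[R] M)),
      Submodule.span R (Set.range g) = ⊤ := by
  classical
  set K := LinearMap.ker (f • (LinearMap.id : M →ₗ[R] M)) with hK
  have hKmem : ∀ y, y ∈ K ↔ f • y = 0 := by
    intro y
    simp [hK]
  obtain ⟨n, x, hx⟩ := Module.Finite.exists_fin (R := R) (M := M)
  have hxq : Submodule.span R (Set.range (fun i => K.mkQ (x i))) = ⊤ := by
    have h1 : Set.range (fun i => K.mkQ (x i)) = K.mkQ '' Set.range x := by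
      rw [← Set.range_comp]
      rfl
    rw [h1, ← Submodule.map_span, hx, Submodule.map_top, Submodule.range_mkQ]
  by_cases hnk : n ≤ k
  · refine ⟨fun i => if h : (i : ℕ) < n then K.mkQ (x ⟨i, h⟩) else 0, ?_⟩
    rw [eq_top_iff, ← hxq]
    apply Submodule.span_mono
    rintro _ ⟨j, rfl⟩
    refine ⟨⟨j, by omega⟩, ?_⟩
    simp
  rw [not_le] at hnk
  by_cases hf0 : f = 0
  · refine ⟨fun _ => 0, ?_⟩
    rw [eq_top_iff]
    rintro q -
    obtain ⟨y, rfl⟩ := Submodule.mkQ_surjective K q
    have : K.mkQ y = 0 := by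
      rw [Submodule.mkQ_apply, Submodule.Quotient.mk_eq_zero, hKmem, hf0, zero_smul]
    rw [this]
    exact zero_mem _
  have hpk : (n - k) + k = n := by omega
  have hMin : Minors (Rel R x : Set (Fin n → R)) (n - k) = Ideal.span {f} := by
    rw [← hf, fitt_eq_G x hx k,
      G_eq_Minors x _ (fun _ h => h) Submodule.subset_span (n - k) k (by
        rw [Fintype.card_fin]; exact hpk)]
  -- some minor generates
  have hex : ∃ (z : Fin (n - k) → (Fin n → R)) (e : Fin (n - k) → Fin n) (u : R),
      (∀ b, z b ∈ Rel R x) ∧ IsUnit u ∧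
        Matrix.det (Matrix.of fun a b => z b (e a)) = u * f := by
    by_contra hcon
    have hle : Minors (Rel R x : Set (Fin n → R)) (n - k) ≤
        IsLocalRing.maximalIdeal R • Ideal.span {f} := by
      unfold Minors
      rw [Ideal.span_le]
      rintro d ⟨z, e, hz, rfl⟩
      have hd : Matrix.det (Matrix.of fun a b => z b (e a)) ∈ Ideal.span {f} := by
        rw [← hMin]
        exact Ideal.subset_span ⟨z, e, hz, rfl⟩
      obtain ⟨s, hs⟩ := Ideal.mem_span_singleton'.mp hd
      have hsu : ¬ IsUnit s := by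
        intro hu
        exact hcon ⟨z, e, s, hz, hu, hs.symm⟩
      rw [← hs]
      exact Submodule.smul_mem_smul ((IsLocalRing.mem_maximalIdeal s).mpr hsu)
        (Ideal.subset_span rfl)
    rw [hMin] at hle
    have hbot := Submodule.eq_bot_of_le_smul_of_le_jacobson_bot (IsLocalRing.maximalIdeal R)
      (Ideal.span {f}) (Submodule.fg_span_singleton f) hle
      (by rw [IsLocalRing.jacobson_eq_maximalIdeal ⊥ bot_ne_top])
    apply hf0
    have : f ∈ (⊥ : Ideal R) := by
      rw [← hbot]
      exact Ideal.subset_span rfl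
    simpa using this
  obtain ⟨z, e, u, hz, hu, hdet⟩ := hex
  -- `e` is injective
  have hinj : Function.Injective e := by
    by_contra hni
    rw [Function.Injective] at hni
    simp only [not_forall] at hni
    obtain ⟨a, a', hea, hne⟩ := hni
    have h0 : (Matrix.of fun a b => z b (e a)).det = 0 := by
      apply Matrix.det_zero_of_row_eq hne
      funext b
      show z b (e a) = z b (e a')
      rw [hea]
    rw [h0] at hdet
    have : f = 0 := by
      have h1 : u * f = 0 := hdet.symm
      exact (hu.mul_right_eq_zero).mp h1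
    exact hf0 this
  set Ze : Matrix (Fin (n - k)) (Fin (n - k)) R := Matrix.of fun b a => z b (e a) with hZe
  have hZedet : Ze.det = u * f := by
    rw [← hdet, ← Matrix.det_transpose]
    rfl
  let Y : Fin (n - k) → (Fin n → R) := fun b => ∑ b', Ze.adjugate b b' • z b'
  have hYrel : ∀ b, Y b ∈ Rel R x := by
    intro b
    apply Submodule.sum_mem
    intro b' _
    exact Submodule.smul_mem _ _ (hz b')
  have hYapp : ∀ b j, Y b j = ∑ b', Ze.adjugate b b' * z b' j := by
    intro b j
    simp only [Y, Finset.sum_apply, Pi.smul_apply, smul_eq_mul]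
  have hYe : ∀ b a, Y b (e a) = if b = a then u * f else 0 := by
    intro b a
    rw [hYapp]
    have h1 : ∑ b', Ze.adjugate b b' * z b' (e a) = (Ze.adjugate * Ze) b a := by
      rw [Matrix.mul_apply]
      rfl
    rw [h1, Matrix.adjugate_mul, hZedet, Matrix.smul_apply, Matrix.one_apply, smul_eq_mul]
    split_ifs <;> simp
  have hYmem : ∀ b j, Y b j ∈ Ideal.span {f} := by
    intro b j
    rw [← hMin, hYapp]
    have h1 : ∑ b', Ze.adjugate b b' * z b' j = Ze.cramer (fun b' => z b' j) b := by
      rw [Matrix.cramer_eq_adjugate_mulVec]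
      rfl
    rw [h1, Matrix.cramer_apply]
    apply Ideal.subset_span
    refine ⟨z, Function.update e b j, hz, ?_⟩
    rw [← Matrix.det_transpose]
    congr 1
    ext a' b'
    rw [Matrix.transpose_apply, Matrix.updateCol_apply, Matrix.of_apply]
    by_cases hab : a' = b
    · rw [if_pos hab, hab, Function.update_self]
    · rw [if_neg hab, Function.update_of_ne hab]
      rfl
  have hc : ∀ b j, ∃ c, c * f = Y b j := fun b j => Ideal.mem_span_singleton'.mp (hYmem b j)
  choose c hc using hc
  -- the elements killed by `f`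
  have hkey : ∀ b, u • x (e b) + ∑ j ∈ (Finset.univ.image e)ᶜ, c b j • x j ∈ K := by
    intro b
    rw [hKmem]
    have hrel := (mem_Rel x (Y b)).mp (hYrel b)
    rw [← Finset.sum_add_sum_compl (Finset.univ.image e), Finset.sum_image hinj.injOn] at hrel
    have h1 : ∑ a, Y b (e a) • x (e a) = (u * f) • x (e b) := by
      rw [Finset.sum_eq_single b]
      · rw [hYe, if_pos rfl]
      · intro a _ hab
        rw [hYe, if_neg (Ne.symm hab), zero_smul]
      · intro h
        exact absurd (Finset.mem_univ b) h
    rw [h1] at hrel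
    rw [smul_add, Finset.smul_sum, ← hrel]
    congr 1
    · rw [smul_smul, mul_comm]
    · apply Finset.sum_congr rfl
      intro j _
      rw [smul_smul, mul_comm, hc]
  -- generation
  set T := (Finset.univ.image e)ᶜ with hT
  have hTcard : T.card = k := by
    rw [hT, Finset.card_compl, Finset.card_image_of_injective _ hinj, Finset.card_univ,
      Fintype.card_fin, Fintype.card_fin]
    omega
  let ρ : Fin k ≃ {j // j ∈ T} := (Fintype.equivFinOfCardEq (by
    rw [Fintype.card_coe, hTcard])).symm
  refine ⟨fun i => K.mkQ (x (ρ i).1), ?_⟩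
  set N := Submodule.span R (Set.range fun i => K.mkQ (x (ρ i).1)) with hN
  have hT_in : ∀ j ∈ T, K.mkQ (x j) ∈ N := by
    intro j hj
    apply Submodule.subset_span
    exact ⟨ρ.symm ⟨j, hj⟩, by simp⟩
  have he_in : ∀ b, K.mkQ (x (e b)) ∈ N := by
    intro b
    have h1 : K.mkQ (u • x (e b) + ∑ j ∈ T, c b j • x j) = 0 := by
      rw [Submodule.mkQ_apply, Submodule.Quotient.mk_eq_zero]
      exact hkey b
    rw [map_add, map_smul, map_sum] at h1
    have h2 : u • K.mkQ (x (e b)) = - ∑ j ∈ T, K.mkQ (c b j • x j) := eq_neg_of_add_eq_zero_left h1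
    have h3 : u • K.mkQ (x (e b)) ∈ N := by
      rw [h2]
      apply Submodule.neg_mem
      apply Submodule.sum_mem
      intro j hj
      rw [map_smul]
      exact Submodule.smul_mem _ _ (hT_in j hj)
    have h4 := Submodule.smul_mem N (↑hu.unit⁻¹ : R) h3
    rwa [smul_smul, IsUnit.val_inv_mul, one_smul] at h4
  rw [eq_top_iff, ← hxq, Submodule.span_le]
  rintro _ ⟨i, rfl⟩
  by_cases hi : i ∈ T
  · exact hT_in i hi
  · rw [hT, Finset.mem_compl, not_not, Finset.mem_image] at hi
    obtain ⟨b, -, rfl⟩ := hi
    exact he_in b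

end Groth.Agent.S6896
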