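import Groth.Statements.S6914
import Mathlib
import Groth.Agent.Lib.Helper10.FittingMinors
import Groth.Agent.S6894
import Groth.Agent.S6896
-- import your own Groth.Agent.* helpers here

set_option autoImplicit false
universe u
open TensorProduct
open Fitt

namespace Groth.Agent.S6914

open Groth.Agent.Lib.Helper10.Fitting

/-- If `Fit_k(M₁) = (a₁)` and `T` contains the `a₁`-torsion, then `Fit_k(M₁ / T)` is the unit
ideal. -/
theorem fitt_quotient_eq_top {R₁ : Type u} [CommRing R₁] (M₁ : Type u) [AddCommGroup M₁]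
    [Module R₁ M₁] [Module.Finite R₁ M₁] (k : ℕ) (a₁ : R₁)
    (hfit : Fitt.ideal R₁ M₁ k = Ideal.span {a₁}) (T : Submodule R₁ M₁)
    (hT : ∀ m : M₁, a₁ • m = 0 → m ∈ T) : Fitt.ideal R₁ (M₁ ⧸ T) k = ⊤ := by
  classical
  by_contra hne
  obtain ⟨q, hqmax, hle⟩ := Ideal.exists_le_maximal _ hne
  haveI := hqmax.isPrime
  refine (Groth.Agent.S6894.result (M₁ ⧸ T) k q).2.1.mpr ?_ hle
  have hN : Fitt.ideal (Localization.AtPrime q) (LocalizedModule q.primeCompl M₁) k =
      Ideal.span {algebraMap R₁ (Localization.AtPrime q) a₁} := by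
    rw [fitt_isLocalizedModule q.primeCompl (Localization.AtPrime q)
      (LocalizedModule.mkLinearMap q.primeCompl M₁) k, hfit, Ideal.map_span, Set.image_singleton]
  obtain ⟨g₀, hg₀⟩ := Groth.Agent.S6896.result (LocalizedModule q.primeCompl M₁) k
    (algebraMap R₁ (Localization.AtPrime q) a₁) hN
  let Φ := LocalizedModule.map q.primeCompl T.mkQ
  have hΦsurj : Function.Surjective Φ :=
    LocalizedModule.map_surjective q.primeCompl T.mkQ (Submodule.mkQ_surjective T)
  have hker : LinearMap.ker ((algebraMap R₁ (Localization.AtPrime q) a₁) •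
      (LinearMap.id : LocalizedModule q.primeCompl M₁ →ₗ[Localization.AtPrime q]
        LocalizedModule q.primeCompl M₁)) ≤ LinearMap.ker Φ := by
    intro y hy
    rw [LinearMap.mem_ker, LinearMap.smul_apply, LinearMap.id_apply] at hy
    rw [LinearMap.mem_ker]
    induction y using LocalizedModule.induction_on with
    | h m s =>
      rw [algebraMap_smul, LocalizedModule.smul'_mk, ← LocalizedModule.zero_mk s,
        LocalizedModule.mk_eq] at hy
      obtain ⟨t, ht⟩ := hy
      have h1 : a₁ • (((t * s : q.primeCompl) : R₁) • m) = 0 := by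
        have h2 : (t : R₁) • (s : R₁) • a₁ • m = 0 := by
          have := ht
          simp only [smul_zero] at this
          exact this
        rw [← h2]
        simp only [Submonoid.coe_mul, smul_smul]
        congr 1
        ring
      have h3 := hT _ h1
      show LocalizedModule.map q.primeCompl T.mkQ (LocalizedModule.mk m s) = 0
      rw [LocalizedModule.map_mk, ← LocalizedModule.zero_mk s, LocalizedModule.mk_eq]
      refine ⟨t * s, ?_⟩
      rw [smul_zero, smul_zero, Submonoid.smul_def, Submonoid.smul_def, smul_smul, ← map_smul,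
        Submodule.mkQ_apply, Submodule.Quotient.mk_eq_zero]
      have h4 : ((t * s : q.primeCompl) : R₁) * (s : R₁) = (s : R₁) * ((t * s : q.primeCompl) : R₁) :=
        mul_comm _ _
      rw [h4, mul_smul]
      exact Submodule.smul_mem _ _ h3
  let Φbar := (LinearMap.ker ((algebraMap R₁ (Localization.AtPrime q) a₁) •
      (LinearMap.id : LocalizedModule q.primeCompl M₁ →ₗ[Localization.AtPrime q]
        LocalizedModule q.primeCompl M₁))).liftQ Φ hker
  have hΦbar : Function.Surjective Φbar := by
    intro w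
    obtain ⟨y, rfl⟩ := hΦsurj w
    exact ⟨Submodule.Quotient.mk y, rfl⟩
  refine ⟨fun i => Φbar (g₀ i), ?_⟩
  have h5 : Set.range (fun i => Φbar (g₀ i)) = Φbar '' Set.range g₀ := by
    rw [← Set.range_comp]
    rfl
  rw [h5, ← Submodule.map_span, hg₀, Submodule.map_top, LinearMap.range_eq_top]
  exact hΦbar

/-- Let `M` be a finite `R`-module, `k ≥ 0`, `I = Fit_k(M)` and `a ∈ I`; let `R₁ ≅ R[I/a]` be (a copy
of) the affine blow-up algebra and `M' = (M ⊗_R R₁)/(a-power torsion)` the strict transform. Then
`Fit_k(M') = R₁`. -/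
theorem result {R : Type u} [CommRing R] (M : Type u) [AddCommGroup M] [Module R M]
    [Module.Finite R M] (k : ℕ) (a : R) (ha : a ∈ Fitt.ideal R M k)
    (R₁ : Type u) [CommRing R₁] [Algebra R R₁] (e : R₁ ≃ₐ[R] ↥(BlowUp.affineAlgebra R (Fitt.ideal R M k) a)) :
    Fitt.ideal R₁ ((R₁ ⊗[R] M) ⧸ FlatCA.powTorsion R₁ (algebraMap R R₁ a) (R₁ ⊗[R] M)) k = ⊤ := by
  classical
  set I := Fitt.ideal R M k with hI
  set a₁ := algebraMap R R₁ a with ha₁
  have hmap : I.map (algebraMap R R₁) = Ideal.span {a₁} := by
    apply le_antisymm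
    · rw [Ideal.map_le_iff_le_comap]
      intro x hx
      rw [Ideal.mem_comap, Ideal.mem_span_singleton']
      have hq : IsLocalization.mk' (Localization.Away a) x
          (⟨a, Submonoid.mem_powers a⟩ : Submonoid.powers a) ∈ BlowUp.affineAlgebra R I a :=
        Algebra.subset_adjoin ⟨x, hx, rfl⟩
      refine ⟨e.symm ⟨_, hq⟩, ?_⟩
      apply e.injective
      rw [map_mul, AlgEquiv.apply_symm_apply, ha₁, AlgEquiv.commutes, AlgEquiv.commutes]
      apply Subtype.ext
      show IsLocalization.mk' (Localization.Away a) x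
          (⟨a, Submonoid.mem_powers a⟩ : Submonoid.powers a) *
            algebraMap R (Localization.Away a) a = algebraMap R (Localization.Away a) x
      rw [mul_comm]
      exact IsLocalization.mk'_spec' (Localization.Away a) x
        (⟨a, Submonoid.mem_powers a⟩ : Submonoid.powers a)
    · rw [Ideal.span_le, Set.singleton_subset_iff]
      exact Ideal.mem_map_of_mem _ ha
  have hfit : Fitt.ideal R₁ (R₁ ⊗[R] M) k = Ideal.span {a₁} := by
    rw [fitt_baseChange R₁ k, ← hI, hmap]
  apply fitt_quotient_eq_top (R₁ ⊗[R] M) k a₁ hfit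
  intro m hm
  unfold FlatCA.powTorsion
  apply Submodule.mem_iSup_of_mem 1
  rw [Submodule.mem_torsionBy_iff, pow_one]
  exact hm

end Groth.Agent.S6914
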