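import Groth.Statements.S6895
import Mathlib
import Groth.Agent.Lib.Helper10.Fitting
import Groth.Agent.S6894
-- import your own Groth.Agent.* helpers here

set_option autoImplicit false
universe u
open Fitt

namespace Groth.Agent.S6895

open Groth.Agent.Lib.Helper10.Fitting

theorem nontrivial_away {R : Type*} [CommRing R] (p : Ideal R) [p.IsPrime] (f : R) (hf : f ∉ p) :
    Nontrivial (Localization.Away f) := by
  have h2 : p.map (algebraMap R (Localization.Away f)) ≠ ⊤ := by
    rw [IsLocalization.map_algebraMap_ne_top_iff_disjoint (Submonoid.powers f)]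
    rw [Set.disjoint_left]
    rintro _ ⟨n, rfl⟩ hmem
    exact hf (Ideal.IsPrime.mem_of_pow_mem ‹_› n hmem)
  by_contra hcon
  rw [not_nontrivial_iff_subsingleton] at hcon
  exact h2 (Subsingleton.elim _ _)

theorem det_one_updateRow {n : Type*} [Fintype n] [DecidableEq n] {α : Type*} [CommRing α]
    (i : n) (c : n → α) : ((1 : Matrix n n α).updateRow i c).det = c i := by
  rw [← Matrix.det_transpose, ← Matrix.updateCol_transpose, Matrix.transpose_one,
    ← Matrix.cramer_apply, Matrix.cramer_one]
  rfl

/-- (1) ⇔ (3): let `M` be a finite `R`-module and `r ≥ 0`. Then `M` is finite locally free of rank `r`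
(every prime has a basic open neighbourhood `D(f)` with `M_f` free of rank `r` over `R_f`) if and
only if `Fit_k(M) = 0` for `k < r` and `Fit_k(M) = R` for `k ≥ r`. -/
theorem result {R : Type u} [CommRing R] (M : Type u) [AddCommGroup M] [Module R M]
    [Module.Finite R M] (r : ℕ) :
    (∀ (p : Ideal R) [p.IsPrime], ∃ f : R, f ∉ p ∧
      Module.Free (Localization.Away f) (LocalizedModule (Submonoid.powers f) M) ∧
        Module.finrank (Localization.Away f) (LocalizedModule (Submonoid.powers f) M) = r) ↔
    ((∀ k, k < r → Fitt.ideal R M k = ⊥) ∧ (∀ k, r ≤ k → Fitt.ideal R M k = ⊤)) := by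
  classical
  constructor
  · intro hloc
    constructor
    · intro k hk
      rw [eq_bot_iff]
      intro d hd
      rw [Ideal.mem_bot]
      by_contra hd0
      have hann : (Ideal.span {d}).annihilator ≠ ⊤ := by
        intro h
        have h1 : (1 : R) ∈ (Ideal.span {d}).annihilator := by rw [h]; trivial
        rw [Submodule.mem_annihilator_span_singleton] at h1
        exact hd0 (by simpa using h1)
      obtain ⟨p, hpmax, hle⟩ := Ideal.exists_le_maximal _ hann
      haveI := hpmax.isPrime
      obtain ⟨f, hf, hfree, hrank⟩ := hloc p
      haveI := nontrivial_away p f hf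
      have hbot : Fitt.ideal (Localization.Away f) (LocalizedModule (Submonoid.powers f) M) k = ⊥ := by
        apply fitt_eq_bot_of_basis (Module.finBasis (Localization.Away f)
          (LocalizedModule (Submonoid.powers f) M))
        rw [Fintype.card_fin, hrank]
        exact hk
      rw [fitt_isLocalizedModule (Submonoid.powers f) (Localization.Away f)
        (LocalizedModule.mkLinearMap (Submonoid.powers f) M) k] at hbot
      have h0 : algebraMap R (Localization.Away f) d = 0 := by
        have : algebraMap R (Localization.Away f) d ∈
            (Fitt.ideal R M k).map (algebraMap R (Localization.Away f)) :=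
          Ideal.mem_map_of_mem _ hd
        rwa [hbot, Ideal.mem_bot] at this
      rw [IsLocalization.map_eq_zero_iff (Submonoid.powers f)] at h0
      obtain ⟨⟨_, n, rfl⟩, hm⟩ := h0
      have hmem : f ^ n ∈ (Ideal.span {d}).annihilator := by
        rw [Submodule.mem_annihilator_span_singleton]
        exact hm
      exact hf (Ideal.IsPrime.mem_of_pow_mem ‹_› n (hle hmem))
    · intro k hk
      by_contra hne
      obtain ⟨p, hpmax, hle⟩ := Ideal.exists_le_maximal _ hne
      haveI := hpmax.isPrime
      obtain ⟨f, hf, hfree, hrank⟩ := hloc p
      haveI := nontrivial_away p f hf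
      let b := (Module.finBasis (Localization.Away f)
        (LocalizedModule (Submonoid.powers f) M)).reindex (finCongr hrank)
      have h1 : ¬ Fitt.ideal R M r ≤ p :=
        (Groth.Agent.S6894.result M r p).2.2.mpr ⟨f, hf, ⇑b, b.span_eq⟩
      exact h1 (le_trans (fitt_mono hk) hle)
  · rintro ⟨hbot, htop⟩ p hp
    have h1 : ¬ Fitt.ideal R M r ≤ p := by
      rw [htop r le_rfl]
      intro h
      exact hp.ne_top (top_le_iff.mp h)
    obtain ⟨f, hf, g, hg⟩ := (Groth.Agent.S6894.result M r p).2.2.mp h1
    haveI := nontrivial_away p f hf
    refine ⟨f, hf, ?_⟩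
    have hli : LinearIndependent (Localization.Away f) g := by
      rw [Fintype.linearIndependent_iff]
      intro c hc i₀
      have hr : r - 1 < r := by
        have := i₀.2
        omega
      have hGbot : G (Localization.Away f) g (r - 1) = ⊥ := by
        rw [← fitt_eq_G g hg (r - 1), fitt_isLocalizedModule (Submonoid.powers f)
          (Localization.Away f) (LocalizedModule.mkLinearMap (Submonoid.powers f) M) (r - 1),
          hbot (r - 1) hr, Ideal.map_bot]
      have hmem : ((1 : Matrix (Fin r) (Fin r) (Localization.Away f)).updateRow i₀ c).det ∈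
          G (Localization.Away f) g (r - 1) := by
        apply det_mem_G
        unfold nonRelCard
        have hsub : (Finset.univ.filter fun i =>
            ((1 : Matrix (Fin r) (Fin r) (Localization.Away f)).updateRow i₀ c) i ∉
              Rel (Localization.Away f) g) ⊆ Finset.univ.erase i₀ := by
          intro i hi
          rw [Finset.mem_filter] at hi
          rw [Finset.mem_erase]
          refine ⟨?_, Finset.mem_univ i⟩
          rintro rfl
          apply hi.2
          rw [Matrix.updateRow_self, mem_Rel]
          exact hc
        refine le_trans (Finset.card_le_card hsub) ?_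
        rw [Finset.card_erase_of_mem (Finset.mem_univ i₀), Finset.card_univ, Fintype.card_fin]
      rw [hGbot, Ideal.mem_bot, det_one_updateRow] at hmem
      exact hmem
    let b : Module.Basis (Fin r) (Localization.Away f) (LocalizedModule (Submonoid.powers f) M) :=
      Module.Basis.mk hli (by rw [hg])
    refine ⟨Module.Free.of_basis b, ?_⟩
    rw [Module.finrank_eq_card_basis b, Fintype.card_fin]

end Groth.Agent.S6895
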