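import Groth.Statements.S6915
import Mathlib
import Groth.Agent.Lib.Helper10.FittingMinors
import Groth.Agent.S6895
import Groth.Agent.S6914
-- import your own Groth.Agent.* helpers here

set_option autoImplicit false
universe u
open TensorProduct
open Fitt

namespace Groth.Agent.S6915

open Groth.Agent.Lib.Helper10.Fitting

theorem mem_powTorsion {S : Type u} [CommRing S] (x : S) {N : Type u} [AddCommGroup N]
    [Module S N] {m : N} (hm : m ∈ FlatCA.powTorsion S x N) : ∃ n : ℕ, x ^ n • m = 0 := by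
  unfold FlatCA.powTorsion at hm
  rw [Submodule.mem_iSup_of_directed] at hm
  · obtain ⟨n, hn⟩ := hm
    exact ⟨n, (Submodule.mem_torsionBy_iff _ _).mp hn⟩
  · apply Monotone.directed_le
    intro n₁ n₂ h
    exact Submodule.torsionBy_le_torsionBy_of_dvd _ _ (pow_dvd_pow x h)

/-- If `a₁` is a nonzerodivisor and `Fit_j(N)` is `a₁`-power torsion, then the `j`-th Fitting
ideal of the quotient of `N` by its `a₁`-power torsion vanishes. -/
theorem fitt_quotient_powTorsion_eq_bot {R₁ : Type u} [CommRing R₁] (N : Type u) [AddCommGroup N]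
    [Module R₁ N] [Module.Finite R₁ N] (j : ℕ) (a₁ : R₁) (ha₁ : a₁ ∈ nonZeroDivisors R₁)
    (htors : ∀ z ∈ Fitt.ideal R₁ N j, ∃ n : ℕ, a₁ ^ n * z = 0) :
    Fitt.ideal R₁ (N ⧸ FlatCA.powTorsion R₁ a₁ N) j = ⊥ := by
  classical
  obtain ⟨n, x, hx⟩ := Module.Finite.exists_fin (R := R₁) (M := N)
  set T := FlatCA.powTorsion R₁ a₁ N with hT
  have hx' : Submodule.span R₁ (Set.range (T.mkQ ∘ x)) = ⊤ := by
    rw [Set.range_comp, ← Submodule.map_span, hx, Submodule.map_top, Submodule.range_mkQ]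
  rw [fitt_eq_G (T.mkQ ∘ x) hx' j, eq_bot_iff, G_le_iff]
  intro A hA
  rw [Ideal.mem_bot]
  have hrow : ∀ i, A i ∈ Rel R₁ (T.mkQ ∘ x) → ∃ m : ℕ, (a₁ ^ m) • A i ∈ Rel R₁ x := by
    intro i hi
    rw [mem_Rel] at hi
    have h1 : ∑ l, A i l • x l ∈ T := by
      rw [← Submodule.Quotient.mk_eq_zero, ← Submodule.mkQ_apply, map_sum]
      simpa using hi
    obtain ⟨m, hm⟩ := mem_powTorsion a₁ h1
    refine ⟨m, ?_⟩
    rw [mem_Rel]
    rw [Finset.smul_sum] at hm
    rw [← hm]
    apply Finset.sum_congr rfl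
    intro l _
    rw [Pi.smul_apply, smul_eq_mul, mul_smul]
  choose! m hm using hrow
  let c : Fin n → R₁ := fun i => if A i ∈ Rel R₁ (T.mkQ ∘ x) then a₁ ^ m i else 1
  let B : Matrix (Fin n) (Fin n) R₁ := Matrix.of fun i l => c i * A i l
  have hdet : B.det = (∏ i, c i) * A.det := Matrix.det_mul_column c A
  have hB : nonRelCard x B ≤ j := by
    refine le_trans ?_ hA
    unfold nonRelCard
    apply Finset.card_le_card
    intro i hi
    rw [Finset.mem_filter] at hi ⊢
    refine ⟨Finset.mem_univ _, ?_⟩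
    intro hAi
    apply hi.2
    have h2 : B i = (a₁ ^ m i) • A i := by
      funext l
      show c i * A i l = _
      simp only [c, if_pos hAi, Pi.smul_apply, smul_eq_mul]
    rw [h2]
    exact hm i hAi
  have hBmem : B.det ∈ Fitt.ideal R₁ N j := by
    rw [fitt_eq_G x hx j]
    exact det_mem_G x j B hB
  obtain ⟨n', hn'⟩ := htors _ hBmem
  rw [hdet, ← mul_assoc] at hn'
  have hnzd : a₁ ^ n' * ∏ i, c i ∈ nonZeroDivisors R₁ := by
    apply mul_mem (pow_mem ha₁ _)
    apply Submonoid.prod_mem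
    intro i _
    simp only [c]
    split_ifs
    · exact pow_mem ha₁ _
    · exact one_mem _
  exact (mem_nonZeroDivisors_iff.mp hnzd).1 _ hn'

/-- If `M` is free of rank `k` at all primes not containing `Fit_k(M)`, then for `j < k`
every element of `Fit_j(M)` is killed by a power of any `a ∈ Fit_k(M)`. -/
theorem fitt_lt_pow_torsion {R : Type u} [CommRing R] (M : Type u) [AddCommGroup M]
    [Module R M] [Module.Finite R M] (k j : ℕ) (hj : j < k)
    (hfree : ∀ (p : Ideal R) [p.IsPrime], ¬ Fitt.ideal R M k ≤ p →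
      Module.Free (Localization.AtPrime p) (LocalizedModule p.primeCompl M) ∧
        Module.finrank (Localization.AtPrime p) (LocalizedModule p.primeCompl M) = k)
    (a : R) (ha : a ∈ Fitt.ideal R M k) (y : R) (hy : y ∈ Fitt.ideal R M j) :
    ∃ n : ℕ, a ^ n * y = 0 := by
  classical
  let K : Ideal R := LinearMap.ker (LinearMap.toSpanSingleton R R y)
  have hK : ∀ r : R, r ∈ K ↔ r * y = 0 := by
    intro r
    show r ∈ LinearMap.ker (LinearMap.toSpanSingleton R R y) ↔ _
    rw [LinearMap.mem_ker, LinearMap.toSpanSingleton_apply, smul_eq_mul]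
  have hrad : a ∈ K.radical := by
    rw [Ideal.radical_eq_sInf, Ideal.mem_sInf]
    rintro p ⟨hKp, hp⟩
    by_contra hap
    haveI := hp
    have hnot : ¬ Fitt.ideal R M k ≤ p := fun hle => hap (hle ha)
    obtain ⟨hfr, hrk⟩ := hfree p hnot
    haveI := hfr
    let b := Module.finBasisOfFinrankEq (Localization.AtPrime p)
      (LocalizedModule p.primeCompl M) hrk
    have hbot : Fitt.ideal (Localization.AtPrime p) (LocalizedModule p.primeCompl M) j = ⊥ :=
      fitt_eq_bot_of_basis b (by simpa using hj)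
    rw [fitt_isLocalizedModule p.primeCompl (Localization.AtPrime p)
      (LocalizedModule.mkLinearMap p.primeCompl M) j] at hbot
    have h0 : algebraMap R (Localization.AtPrime p) y = 0 := by
      have : algebraMap R (Localization.AtPrime p) y ∈
          (Fitt.ideal R M j).map (algebraMap R (Localization.AtPrime p)) :=
        Ideal.mem_map_of_mem _ hy
      rw [hbot] at this
      exact this
    rw [IsLocalization.map_eq_zero_iff p.primeCompl] at h0
    obtain ⟨s, hs⟩ := h0
    exact s.2 (hKp ((hK _).mpr hs))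
  obtain ⟨n, hn⟩ := hrad
  exact ⟨n, (hK _).mp hn⟩

theorem algebraMap_mem_nonZeroDivisors {R : Type u} [CommRing R] (I : Ideal R) (a : R)
    (R₁ : Type u) [CommRing R₁] [Algebra R R₁] (e : R₁ ≃ₐ[R] ↥(BlowUp.affineAlgebra R I a)) :
    algebraMap R R₁ a ∈ nonZeroDivisors R₁ := by
  rw [mem_nonZeroDivisors_iff_right]
  intro z hz
  apply e.injective
  rw [map_zero]
  have h1 : e z * e (algebraMap R R₁ a) = 0 := by rw [← map_mul, hz, map_zero]
  rw [AlgEquiv.commutes] at h1
  have h2 : ((e z : ↥(BlowUp.affineAlgebra R I a)) : Localization.Away a) *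
      algebraMap R (Localization.Away a) a = 0 := by
    have := congrArg (Subtype.val) h1
    simpa using this
  have hu : IsUnit (algebraMap R (Localization.Away a) a) :=
    IsLocalization.Away.algebraMap_isUnit a
  apply Subtype.ext
  exact (hu.mul_left_eq_zero).mp h2

/-- Let `M` be a finite `R`-module, `k ≥ 0` and `I = Fit_k(M)`, and assume `M_𝔭` is free of rank `k` for
every prime `𝔭` not containing `I`. Then for every `a ∈ I` and (a copy `R₁` of) the affine blow-up
algebra `R[I/a]`, the strict transform `M' = (M ⊗_R R₁)/(a-power torsion)` is finite locally free of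
rank `k`: every prime of `R₁` has a basic open neighbourhood over which `M'` is free of rank `k`. -/
theorem result {R : Type u} [CommRing R] (M : Type u) [AddCommGroup M]
    [Module R M] [Module.Finite R M] (k : ℕ)
    (hfree : ∀ (p : Ideal R) [p.IsPrime], ¬ Fitt.ideal R M k ≤ p →
      Module.Free (Localization.AtPrime p) (LocalizedModule p.primeCompl M) ∧
        Module.finrank (Localization.AtPrime p) (LocalizedModule p.primeCompl M) = k)
    (a : R) (ha : a ∈ Fitt.ideal R M k) (R₁ : Type u) [CommRing R₁] [Algebra R R₁] (e : R₁ ≃ₐ[R] ↥(BlowUp.affineAlgebra R (Fitt.ideal R M k) a)) :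
    ∀ (p' : Ideal R₁) [p'.IsPrime], ∃ g : R₁, g ∉ p' ∧
      Module.Free (Localization.Away g) (LocalizedModule (Submonoid.powers g) ((R₁ ⊗[R] M) ⧸ FlatCA.powTorsion R₁ (algebraMap R R₁ a) (R₁ ⊗[R] M))) ∧
      Module.finrank (Localization.Away g) (LocalizedModule (Submonoid.powers g) ((R₁ ⊗[R] M) ⧸ FlatCA.powTorsion R₁ (algebraMap R R₁ a) (R₁ ⊗[R] M))) = k := by
  classical
  intro p' hp'
  set a₁ := algebraMap R R₁ a with ha₁
  have hnzd : a₁ ∈ nonZeroDivisors R₁ := algebraMap_mem_nonZeroDivisors _ a R₁ e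
  refine (Groth.Agent.S6895.result
    ((R₁ ⊗[R] M) ⧸ FlatCA.powTorsion R₁ a₁ (R₁ ⊗[R] M)) k).mpr ⟨?_, ?_⟩ p'
  · intro j hj
    apply fitt_quotient_powTorsion_eq_bot (R₁ ⊗[R] M) j a₁ hnzd
    intro z hz
    rw [fitt_baseChange R₁ j] at hz
    unfold Ideal.map at hz
    induction hz using Submodule.span_induction with
    | mem z hz =>
      obtain ⟨y, hy, rfl⟩ := hz
      obtain ⟨n, hn⟩ := fitt_lt_pow_torsion M k j hj hfree a ha y hy
      refine ⟨n, ?_⟩
      rw [ha₁, ← map_pow, ← map_mul, hn, map_zero]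
    | zero => exact ⟨0, by simp⟩
    | add z₁ z₂ _ _ h₁ h₂ =>
      obtain ⟨n₁, h₁⟩ := h₁
      obtain ⟨n₂, h₂⟩ := h₂
      refine ⟨n₁ + n₂, ?_⟩
      rw [mul_add, pow_add]
      have e1 : a₁ ^ n₁ * a₁ ^ n₂ * z₁ = a₁ ^ n₂ * (a₁ ^ n₁ * z₁) := by ring
      have e2 : a₁ ^ n₁ * a₁ ^ n₂ * z₂ = a₁ ^ n₁ * (a₁ ^ n₂ * z₂) := by ring
      rw [e1, e2, h₁, h₂, mul_zero, mul_zero, add_zero]
    | smul r z _ h =>
      obtain ⟨n, h⟩ := h
      refine ⟨n, ?_⟩
      rw [smul_eq_mul, mul_left_comm, h, mul_zero]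
  · intro j hj
    have htop := Groth.Agent.S6914.result M k a ha R₁ e
    exact top_le_iff.mp (htop ▸ fitt_mono hj)

end Groth.Agent.S6915
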