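import Groth.Statements.S4652
import Groth.Agent.Lib.Helper49.FinLocFree
import Groth.Agent.Lib.Helper49.FinLocFreeRetract
import Groth.Agent.Lib.Helper49.FreeNear
import Groth.Agent.Lib.Helper49.StalkNbhd2

set_option autoImplicit false
open CategoryTheory AlgebraicGeometry
universe u
open FDesc

namespace Groth.Agent.S4652

open CategoryTheory AlgebraicGeometry Groth.Agent.Lib Groth.Agent.Lib.Helper49

attribute [local instance] Groth.Agent.Lib.Helper45.stalkModuleSections

theorem isFinLocFree_of_iso {X : Scheme.{u}} {M N : X.Modules} (e : M ≅ N)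
    (h : FlatMod.IsFinLocFree M) : FlatMod.IsFinLocFree N := by
  intro x
  obtain ⟨U, n, hxU, ⟨φ⟩⟩ := h x
  exact ⟨U, n, hxU, ⟨(Scheme.Modules.restrictFunctor U.ι).mapIso e.symm ≪≫ φ⟩⟩

/-- A trivialisation of `F` along an open immersion `f` gives one over the range of `f`. -/
theorem nonempty_iso_freeMod_opensRange {X Y : Scheme.{u}} (F : X.Modules) (f : Y ⟶ X)
    [IsOpenImmersion f] (n : ℕ) (φ : F.restrict f ≅ FlatMod.freeMod Y n) :
    Nonempty (F.restrict f.opensRange.ι ≅ FlatMod.freeMod (↑f.opensRange) n) := by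
  let e : (f.opensRange : Scheme.{u}) ≅ Y :=
    (IsOpenImmersion.isoOfRangeEq f f.opensRange.ι (by simp)).symm
  have he : e.hom ≫ f = f.opensRange.ι := by simp [e]
  exact ⟨((Scheme.Modules.restrictFunctorCongr he.symm ≪≫
      Scheme.Modules.restrictFunctorComp e.hom f).app F) ≪≫
    (Scheme.Modules.restrictFunctor e.hom).mapIso φ ≪≫ restrictFreeIso n e.hom⟩

/-- If `F` is free of finite rank on an open `W`, its stalks at points of `W` are free. -/
theorem free_stalk_of_iso_freeMod {X : Scheme.{u}} (F : X.Modules) [F.IsQuasicoherent]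
    {W : X.Opens} (n : ℕ) (ψ : F.restrict W.ι ≅ FlatMod.freeMod (↑W) n) (x : X) (hx : x ∈ W) :
    Module.Free (X.presheaf.stalk x) ↑(F.presheaf.stalk x) := by
  obtain ⟨_, ⟨V, hV : IsAffineOpen V, rfl⟩, hxV, hVW⟩ :=
    X.isBasis_affineOpens.exists_subset_of_mem_open hx W.2
  obtain ⟨xV, rfl⟩ : ∃ xV : V, (xV : X) = x := ⟨⟨x, hxV⟩, rfl⟩
  have e := sectionsEquivOfIsoFree F n (isoFreeOfLE hVW F n ψ)
  have := Helper45.isLocalizedModule_germₗ hV F xV
  have := hV.isLocalization_stalk xV
  have : Module.Free Γ(X, V) Γ(F, V) := Module.Free.of_equiv e.symm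
  exact Module.free_of_isLocalizedModule (hV.primeIdealOf xV).asIdeal.primeCompl
    (Helper45.germₗ F xV)


/-- Let X be a scheme, F a finitely presented O_X-module and x a point of X. Then F_x is a flat module
over the local ring O_{X,x} if and only if x has an open neighbourhood U such that the restriction
of F to U is finite locally free. -/
theorem result {X : Scheme.{u}} (F : X.Modules) (hF : CohB1.IsFP F) (x : X) :
    FlatMod.IsFlatAt F x ↔ ∃ U : X.Opens, x ∈ U ∧ FlatMod.IsFinLocFree ((Scheme.Modules.pullback U.ι).obj F) := by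
  have hq : F.IsQuasicoherent := isQuasicoherent_of_isFinitePresentation F hF
  constructor
  · intro h
    have hflat : Module.Flat (X.presheaf.stalk x) ↑(F.presheaf.stalk x) := h
    have := finitePresentation_stalk_of_isFinitePresentation F hF x
    have hfree : Module.Free (X.presheaf.stalk x) ↑(F.presheaf.stalk x) :=
      Module.free_of_flat_of_isLocalRing
    obtain ⟨U, n, hxU, ⟨e⟩⟩ := exists_iso_restrict_freeMod_of_stalk_free F hF x hfree
    refine ⟨U, hxU, ?_⟩
    exact isFinLocFree_of_iso (e.symm ≪≫ (Scheme.Modules.restrictFunctorIsoPullback U.ι).app F)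
      (isFinLocFree_freeMod (↑U) n)
  · rintro ⟨U, hxU, h⟩
    have h' : FlatMod.IsFinLocFree (F.restrict U.ι) :=
      isFinLocFree_of_iso ((Scheme.Modules.restrictFunctorIsoPullback U.ι).app F).symm h
    obtain ⟨y, hy⟩ := exists_ι_eq U x hxU
    obtain ⟨W', n, hyW', ⟨φ⟩⟩ := h' y
    let f : (↑W' : Scheme.{u}) ⟶ X := W'.ι ≫ U.ι
    let φ' : F.restrict f ≅ FlatMod.freeMod (↑W') n :=
      (Scheme.Modules.restrictFunctorComp W'.ι U.ι).app F ≪≫ φ
    obtain ⟨ψ⟩ := nonempty_iso_freeMod_opensRange F f n φ'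
    have hxf : x ∈ f.opensRange := by
      obtain ⟨z, hz⟩ := exists_ι_eq W' y hyW'
      refine ⟨z, ?_⟩
      change U.ι (W'.ι z) = x
      rw [hz, hy]
    have := free_stalk_of_iso_freeMod F n ψ x hxf
    exact Module.Flat.of_free

end Groth.Agent.S4652
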