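import Groth.Statements.S8872
import Mathlib
import Groth.Agent.Lib.Helper10.Fitting
import Groth.Agent.Lib.Helper45.FittSheaf
import Groth.Agent.Lib.Helper18.IdealComap
import Groth.Agent.Lib.Helper16.FlatPull.Chart
import Groth.Agent.Lib.Helper49.FiniteTypeAffine
import Groth.Agent.Lib.Helper49.FiniteTypeLocal
-- import your own Groth.Agent.* helpers here

set_option autoImplicit false
universe u
open CategoryTheory CategoryTheory.Limits AlgebraicGeometry TopologicalSpace
open SDiv

namespace Groth.Agent.S8872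

open Groth.Agent.Lib.Helper10.Fitting

/-- Sections of the pullback over an adapted affine chart form a finite module. -/
theorem finite_sections_pullback {T S : Scheme.{u}} (f : T ⟶ S) (F : S.Modules)
    [F.IsQuasicoherent] [SheafOfModules.IsFiniteType (R := S.ringCatSheaf) F]
    {V : S.Opens} (hV : IsAffineOpen V) {W : T.Opens} (hW : IsAffineOpen W)
    (e : W ≤ f ⁻¹ᵁ V) : Module.Finite Γ(T, W) Γ((Scheme.Modules.pullback f).obj F, W) := by
  obtain ⟨g, hg⟩ := Groth.Agent.Lib.Helper16.FlatPull.exists_isBaseChange_sections f hV hW e F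
  letI := (f.appLE V W e).hom.toAlgebra
  letI : Module Γ(S, V) Γ((Scheme.Modules.pullback f).obj F, W) :=
    Module.compHom _ (f.appLE V W e).hom
  haveI : IsScalarTower Γ(S, V) Γ(T, W) Γ((Scheme.Modules.pullback f).obj F, W) :=
    IsScalarTower.of_compHom _ _ _
  haveI : Module.Finite Γ(S, V) Γ(F, V) :=
    Groth.Agent.Lib.Helper45.finite_sections_of_isFiniteType hV F
  exact Module.Finite.equiv hg.equiv

/-- The pullback of a quasi-coherent module of finite type is of finite type. -/
theorem isFiniteType_pullback {T S : Scheme.{u}} (f : T ⟶ S) (F : S.Modules)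
    [F.IsQuasicoherent] [SheafOfModules.IsFiniteType (R := S.ringCatSheaf) F] :
    SheafOfModules.IsFiniteType (R := T.ringCatSheaf) ((Scheme.Modules.pullback f).obj F) := by
  haveI hq' : ((Scheme.Modules.pullback f).obj F).IsQuasicoherent :=
    Groth.Agent.Lib.Helper16.FlatPull.isQuasicoherent_pullback f F
  have : ∀ p : {p : S.affineOpens × T.affineOpens // p.2.1 ≤ f ⁻¹ᵁ p.1.1},
      IsOpenImmersion (p.1.2.2.fromSpec) := fun p => IsAffineOpen.isOpenImmersion_fromSpec _
  refine Groth.Agent.Lib.Helper49.isFiniteType_of_forall_restrict _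
    (ι := {p : S.affineOpens × T.affineOpens // p.2.1 ≤ f ⁻¹ᵁ p.1.1})
    (fun p => Spec Γ(T, p.1.2.1)) (fun p => p.1.2.2.fromSpec) (fun x => ?_) (fun p => ?_)
  · obtain ⟨U, W, hU, hW, hWU, hxW⟩ := Groth.Agent.Lib.Helper16.FlatPull.exists_charts f x
    refine ⟨⟨(⟨U, hU⟩, ⟨W, hW⟩), hWU⟩, ?_⟩
    rw [hW.range_fromSpec]
    exact hxW
  · have : (((Scheme.Modules.pullback f).obj F).restrict p.1.2.2.fromSpec).IsQuasicoherent :=
      Scheme.Modules.isQuasicoherent_restrictFunctor _ _
    refine (Groth.Agent.Lib.Helper49.isFiniteType_iff_finite_Γ Γ(T, p.1.2.1)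
      (((Scheme.Modules.pullback f).obj F).restrict p.1.2.2.fromSpec)).mpr ?_
    have := finite_sections_pullback f F p.1.1.2 p.1.2.2 p.2
    exact Module.Finite.equiv
      (Groth.Agent.Lib.Helper49.sectionsFromSpecTopEquiv p.1.2.2
        ((Scheme.Modules.pullback f).obj F)).symm

/-- Let f : T ⟶ S be a morphism of schemes and F a quasi-coherent O_S-module of finite type. Then for
every i the inverse image ideal sheaf on T of the i-th Fitting ideal of F is the i-th Fitting ideal
of f^*F. -/
theorem result {T S : Scheme.{u}} (f : T ⟶ S) (F : S.Modules) (hF : Coh.IsQCoh F) (hft : CohB1.IsFT F)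
    (i : ℕ) : (Fitt.sheafIdeal F i).comap f = Fitt.sheafIdeal ((Scheme.Modules.pullback f).obj F) i := by
  haveI : F.IsQuasicoherent := hF
  haveI : SheafOfModules.IsFiniteType (R := S.ringCatSheaf) F := hft
  haveI hq' : ((Scheme.Modules.pullback f).obj F).IsQuasicoherent :=
    Groth.Agent.Lib.Helper16.FlatPull.isQuasicoherent_pullback f F
  haveI hft' : SheafOfModules.IsFiniteType (R := T.ringCatSheaf)
      ((Scheme.Modules.pullback f).obj F) := isFiniteType_pullback f F
  refine Groth.Agent.Lib.Helper18.ext_of_le_preimage f (fun W V e => ?_)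
  rw [Groth.Agent.Lib.Helper18.ideal_comap_of_le f _ W V e,
    Groth.Agent.Lib.Helper45.sheafIdeal_ideal, Groth.Agent.Lib.Helper45.sheafIdeal_ideal]
  obtain ⟨g, hg⟩ := Groth.Agent.Lib.Helper16.FlatPull.exists_isBaseChange_sections f V.2 W.2 e F
  letI := (f.appLE V.1 W.1 e).hom.toAlgebra
  letI : Module Γ(S, V.1) Γ((Scheme.Modules.pullback f).obj F, W.1) :=
    Module.compHom _ (f.appLE V.1 W.1 e).hom
  haveI : IsScalarTower Γ(S, V.1) Γ(T, W.1) Γ((Scheme.Modules.pullback f).obj F, W.1) :=
    IsScalarTower.of_compHom _ _ _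
  haveI : Module.Finite Γ(S, V.1) Γ(F, V.1) :=
    Groth.Agent.Lib.Helper45.finite_sections_of_isFiniteType V.2 F
  exact (fitt_isBaseChange hg i).symm

end Groth.Agent.S8872
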