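import Groth.Statements.S8913
import Groth.Agent.Lib.Helper45.StrictTransform
import Groth.Agent.Lib.Helper18.IdealComap
import Groth.Agent.Lib.Helper49.FinitePresentation2
import Groth.Agent.Lib.Helper49.FreeNear
import Groth.Agent.S8872
import Groth.Agent.S4652

set_option autoImplicit false
set_option linter.style.haveILetI false
universe u
open CategoryTheory CategoryTheory.Limits AlgebraicGeometry TopologicalSpace
open SDiv

namespace Groth.Agent.S8913

open Groth.Agent.Lib.Helper45 Groth.Agent.Lib.Helper49 Groth.Agent.Lib.Helper10.Fitting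

set_option backward.isDefEq.respectTransparency false in
theorem isFiniteType_of_isFinitePresentation {X : Scheme.{u}} (F : X.Modules)
    (hF : SheafOfModules.IsFinitePresentation (R := X.ringCatSheaf) F) :
    SheafOfModules.IsFiniteType (R := X.ringCatSheaf) F := by
  haveI := hF
  infer_instance

/-- Where `F` is locally free of rank `k`, sections over small affine opens are free of rank `k`. -/
theorem exists_affine_sectionsEquiv {S : Scheme.{u}} (F : S.Modules) [F.IsQuasicoherent]
    (k : ℕ) (C : S.Opens) (hfree : FlatMod.IsFinLocFreeOfRank k (F.restrict C.ι)) (x : S)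
    (hx : x ∈ C) :
    ∃ W' : S.affineOpens, x ∈ W'.1 ∧ W'.1 ≤ C ∧
      Nonempty (Γ(F, W'.1) ≃ₗ[Γ(S, W'.1)] (Fin k → Γ(S, W'.1))) := by
  obtain ⟨xC, rfl⟩ : ∃ xC : C, (xC : S) = x := ⟨⟨x, hx⟩, rfl⟩
  obtain ⟨U', hxU', ⟨φ⟩⟩ := hfree xC
  let φ' : F.restrict (U'.ι ≫ C.ι) ≅ FlatMod.freeMod (↑U') k :=
    (Scheme.Modules.restrictFunctorComp U'.ι C.ι).app F ≪≫ φ
  obtain ⟨ψ⟩ := Groth.Agent.S4652.nonempty_iso_freeMod_opensRange F (U'.ι ≫ C.ι) k φ'
  have hxW₀ : (xC : S) ∈ (U'.ι ≫ C.ι).opensRange := by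
    refine ⟨⟨xC, hxU'⟩, ?_⟩
    rfl
  have hW₀C : (U'.ι ≫ C.ι).opensRange ≤ C := by
    rintro _ ⟨y, rfl⟩
    exact (U'.ι y).2
  obtain ⟨_, ⟨W', hW' : IsAffineOpen W', rfl⟩, hxW', hW'W₀⟩ :=
    S.isBasis_affineOpens.exists_subset_of_mem_open hxW₀ (U'.ι ≫ C.ι).opensRange.2
  exact ⟨⟨W', hW'⟩, hxW', fun a ha => hW₀C (hW'W₀ ha),
    ⟨sectionsEquivOfIsoFree F k (isoFreeOfLE hW'W₀ F k ψ)⟩⟩

/-- If `F` is locally free of rank `r ≥ 1` on a schematically dense open, then `Fit_{r-1}(F) = 0`. -/
theorem sheafIdeal_eq_bot_of_schematicallyDense {X : Scheme.{u}} (F : X.Modules)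
    [F.IsQuasicoherent] [SheafOfModules.IsFiniteType (R := X.ringCatSheaf) F] (U : X.Opens)
    (hU : CInt.IsSchematicallyDense U) (r : ℕ) (hr : 1 ≤ r)
    (hfree : FlatMod.IsFinLocFreeOfRank r (F.restrict U.ι)) :
    Fitt.sheafIdeal F (r - 1) = ⊥ := by
  refine Scheme.IdealSheafData.ext (funext fun V => ?_)
  rw [Scheme.IdealSheafData.ideal_bot, Pi.bot_apply, eq_bot_iff]
  intro z hz
  rw [Ideal.mem_bot]
  apply hU V.1
  rw [map_zero]
  refine TopCat.Presheaf.section_ext X.sheaf (V.1 ⊓ U) _ _ (fun x hx => ?_)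
  obtain ⟨W', hxW', hW'U, ⟨e⟩⟩ := exists_affine_sectionsEquiv F r U hfree x hx.2
  have hW'bot : (Fitt.sheafIdeal F (r - 1)).ideal W' = ⊥ := by
    rw [sheafIdeal_ideal]
    exact fitt_eq_bot_of_basis (Module.Basis.ofEquivFun e) (by simp only [Fintype.card_fin]; omega)
  obtain ⟨_, ⟨W₁, hW₁ : IsAffineOpen W₁, rfl⟩, hxW₁, hW₁le⟩ :=
    X.isBasis_affineOpens.exists_subset_of_mem_open
      (show x ∈ (V.1 ⊓ U) ⊓ W'.1 from ⟨hx, hxW'⟩) ((V.1 ⊓ U) ⊓ W'.1).2
  have hW₁VU : W₁ ≤ V.1 ⊓ U := fun a ha => (hW₁le ha).1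
  have hW₁W' : W₁ ≤ W'.1 := fun a ha => (hW₁le ha).2
  have hW₁V : W₁ ≤ V.1 := hW₁VU.trans inf_le_left
  have hJbot : (Fitt.sheafIdeal F (r - 1)).ideal ⟨W₁, hW₁⟩ = ⊥ := by
    rw [← (Fitt.sheafIdeal F (r - 1)).map_ideal (U := ⟨W₁, hW₁⟩) (V := W') hW₁W', hW'bot,
      Ideal.map_bot]
  have hzW₁ : X.presheaf.map (homOfLE hW₁V).op z = 0 := by
    have : X.presheaf.map (homOfLE hW₁V).op z ∈ (Fitt.sheafIdeal F (r - 1)).ideal ⟨W₁, hW₁⟩ := by
      rw [← (Fitt.sheafIdeal F (r - 1)).map_ideal (U := ⟨W₁, hW₁⟩) (V := V) hW₁V]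
      exact Ideal.mem_map_of_mem _ hz
    rw [hJbot] at this
    exact this
  change X.presheaf.germ (V.1 ⊓ U) x hx
      (X.presheaf.map (homOfLE (inf_le_left : V.1 ⊓ U ≤ V.1)).op z) =
    X.presheaf.germ (V.1 ⊓ U) x hx 0
  rw [map_zero, ← TopCat.Presheaf.germ_res_apply X.presheaf (homOfLE hW₁VU) x hxW₁]
  have h3 : X.presheaf.map (homOfLE hW₁VU).op
      (X.presheaf.map (homOfLE (inf_le_left : V.1 ⊓ U ≤ V.1)).op z) =
      X.presheaf.map (homOfLE hW₁V).op z := by
    rw [← ConcreteCategory.comp_apply, ← Functor.map_comp]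
    rfl
  rw [h3, hzW₁, map_zero]

/-- The pullback of a finitely presented module is finitely presented. -/
theorem isFinitePresentation_pullback {T S : Scheme.{u}} (f : T ⟶ S) (F : S.Modules)
    (hF : SheafOfModules.IsFinitePresentation (R := S.ringCatSheaf) F) :
    SheafOfModules.IsFinitePresentation (R := T.ringCatSheaf)
      ((Scheme.Modules.pullback f).obj F) := by
  haveI : F.IsQuasicoherent := isQuasicoherent_of_isFinitePresentation F hF
  haveI hq' : ((Scheme.Modules.pullback f).obj F).IsQuasicoherent :=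
    Groth.Agent.Lib.Helper16.FlatPull.isQuasicoherent_pullback f F
  refine isFinitePresentation_of_affine_cover _ (fun x => ?_)
  obtain ⟨V, W, hV, hW, hWV, hxW⟩ := Groth.Agent.Lib.Helper16.FlatPull.exists_charts f x
  refine ⟨W, hW, hxW, ?_⟩
  obtain ⟨g, hg⟩ := Groth.Agent.Lib.Helper16.FlatPull.exists_isBaseChange_sections f hV hW hWV F
  letI := (f.appLE V W hWV).hom.toAlgebra
  letI : Module Γ(S, V) Γ((Scheme.Modules.pullback f).obj F, W) :=
    Module.compHom _ (f.appLE V W hWV).hom
  haveI : IsScalarTower Γ(S, V) Γ(T, W) Γ((Scheme.Modules.pullback f).obj F, W) :=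
    IsScalarTower.of_compHom _ _ _
  haveI : Module.FinitePresentation Γ(S, V) Γ(F, V) :=
    finitePresentation_sections_of_isFinitePresentation F hF hV
  exact FinitePresentation.of_isBaseChange g hg

/-- Sections of the kernel are the kernel on sections. -/
theorem kernel_app_exact {X : Scheme.{u}} {N G : X.Modules} (π : N ⟶ G) [Epi π] (W : X.Opens) :
    Function.Exact ((kernel.ι π).app W) (π.app W) := by
  let S : ShortComplex X.Modules := ShortComplex.mk (kernel.ι π) π (kernel.condition π)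
  have hS : S.ShortExact :=
    { exact := S.exact_of_f_is_kernel (kernelIsKernel π)
      mono_f := inferInstanceAs (Mono (kernel.ι π))
      epi_g := inferInstanceAs (Epi π) }
  exact app_exact_of_shortExact S hS W

/-- A quasi-coherent ideal sheaf is the unit ideal on affine opens missing its support. -/
theorem ideal_eq_top_of_disjoint_support {X : Scheme.{u}} (I : X.IdealSheafData)
    (W : X.affineOpens) (h : Disjoint (I.support : Set X) (W.1 : Set X)) : I.ideal W = ⊤ := by
  have h1 := I.coe_support_inter W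
  rw [Set.disjoint_iff_inter_eq_empty.mp h, ← W.2.fromSpec_image_zeroLocus] at h1
  have h2 : PrimeSpectrum.zeroLocus (I.ideal W : Set Γ(X, W.1)) = ∅ :=
    Set.image_eq_empty.mp h1.symm
  exact PrimeSpectrum.zeroLocus_empty_iff_eq_top.mp h2

/-- Let X be a scheme, F a finitely presented O_X-module and U ⊆ X an open subscheme which is
scheme-theoretically dense and over which F is locally free of constant finite rank r. Then: (1)
Fit_r(F) is of finite type with support disjoint from U, so a blowing up b : X' ⟶ X of X in Fit_r(F)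
is U-admissible; (2) the strict transform G of F along such b is locally free of rank r; (3) the
kernel of the surjection b^*F ⟶ G is finitely presented and restricts to zero over b⁻¹U. This row
does not assert that b^*F and the kernel are perfect of tor dimension at most one. -/
theorem result (X : Scheme.{u}) (F : X.Modules) (hF : CohB1.IsFP F)
    (U : X.Opens) (hU : CInt.IsSchematicallyDense U) (r : ℕ) (hfree : FlatMod.IsFinLocFreeOfRank r (F.restrict U.ι)) :
    BlowUp.IsAdmissibleFor U (Fitt.sheafIdeal F r) ∧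
      ∀ (X' : Scheme.{u}) (b : X' ⟶ X), BlowUp.IsBlowUp b (Fitt.sheafIdeal F r) →
        ∀ (G : X'.Modules) (π : (Scheme.Modules.pullback b).obj F ⟶ G), BlowUp.IsStrictTransform b (Fitt.sheafIdeal F r) F G π →
          FlatMod.IsFinLocFreeOfRank r G ∧ CohB1.IsFP (kernel π) ∧ IsZero ((kernel π).restrict (b ⁻¹ᵁ U).ι) := by
  have hq : F.IsQuasicoherent := isQuasicoherent_of_isFinitePresentation F hF
  haveI := hq
  haveI hft : SheafOfModules.IsFiniteType (R := X.ringCatSheaf) F :=
    isFiniteType_of_isFinitePresentation F hF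
  -- the support of `Fit_r(F)` misses `U`
  have hdisj : Disjoint ((Fitt.sheafIdeal F r).support : Set X) (U : Set X) := by
    rw [Set.disjoint_left]
    intro x hxs hxU
    obtain ⟨W', hxW', hW'U, ⟨e⟩⟩ := exists_affine_sectionsEquiv F r U hfree x hxU
    rw [SetLike.mem_coe, Scheme.IdealSheafData.mem_support_iff_of_mem (U := W') hxW',
      sheafIdeal_ideal] at hxs
    have htop : Fitt.ideal Γ(X, W'.1) Γ(F, W'.1) r = ⊤ :=
      fitt_eq_top_of_span (fun i => (Module.Basis.ofEquivFun e) i)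
        (Module.Basis.ofEquivFun e).span_eq le_rfl
    rw [htop, Scheme.mem_zeroLocus_iff] at hxs
    have h1 := hxs 1 trivial
    rw [Scheme.basicOpen_of_isUnit _ isUnit_one] at h1
    exact h1 hxW'
  refine ⟨⟨fun V => ?_, hdisj⟩, ?_⟩
  · rw [sheafIdeal_ideal]
    haveI := finitePresentation_sections_of_isFinitePresentation F hF V.2
    exact fitt_fg_of_finitePresentation r
  intro X' b hb G π hG
  have hNfp : SheafOfModules.IsFinitePresentation (R := X'.ringCatSheaf)
      ((Scheme.Modules.pullback b).obj F) := isFinitePresentation_pullback b F hF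
  haveI hq' : ((Scheme.Modules.pullback b).obj F).IsQuasicoherent :=
    Groth.Agent.Lib.Helper16.FlatPull.isQuasicoherent_pullback b F
  haveI hft' : SheafOfModules.IsFiniteType (R := X'.ringCatSheaf)
      ((Scheme.Modules.pullback b).obj F) := Groth.Agent.S8872.isFiniteType_pullback b F
  have hE : (Fitt.sheafIdeal F r).comap b = Fitt.sheafIdeal ((Scheme.Modules.pullback b).obj F) r :=
    Groth.Agent.S8872.result b F hq hft r
  haveI : Epi π := hG.1
  -- `Fit_{r-1}(b^*F) = 0`
  have hJ : 1 ≤ r → ∀ W : X'.affineOpens,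
      Fitt.ideal Γ(X', W.1) Γ((Scheme.Modules.pullback b).obj F, W.1) (r - 1) = ⊥ := by
    intro hr W
    have h1 := sheafIdeal_eq_bot_of_schematicallyDense F U hU r hr hfree
    have h2 : Fitt.sheafIdeal ((Scheme.Modules.pullback b).obj F) (r - 1) = ⊥ := by
      rw [← Groth.Agent.S8872.result b F hq hft (r - 1), h1]
      refine Groth.Agent.Lib.Helper18.ext_of_le_preimage b (fun W V e => ?_)
      rw [Groth.Agent.Lib.Helper18.ideal_comap_of_le b _ W V e]
      simp only [Scheme.IdealSheafData.ideal_bot, Pi.bot_apply, Ideal.map_bot]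
    rw [← sheafIdeal_ideal, h2]
    rfl
  -- local splitting data
  have key : ∀ s' : X', ∃ (V : X'.affineOpens) (g : Γ(X', V.1)), s' ∈ X'.basicOpen g ∧
      ∃ (t : Fin r → Γ((Scheme.Modules.pullback b).obj F, X'.basicOpen g))
        (ρ : Γ((Scheme.Modules.pullback b).obj F, X'.basicOpen g) →ₗ[Γ(X', X'.basicOpen g)]
          (Fin r → Γ(X', X'.basicOpen g))),
        (∀ i, ρ (t i) = Pi.single i 1) ∧
        (∀ m : Γ((Scheme.Modules.pullback b).obj F, X'.basicOpen g),
          π.app (X'.basicOpen g) (∑ i, ρ m i • t i) = π.app (X'.basicOpen g) m) ∧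
        (∀ (W : X'.Opens), IsAffineOpen W → W ≤ X'.basicOpen g →
          ∀ m : Γ((Scheme.Modules.pullback b).obj F, W), π.app W m = 0 →
          ∃ a : Γ(X', W), (∀ c : Γ(X', W), a * c = 0 → c = 0) ∧ a • m = 0) ∧
        (∀ m : Γ((Scheme.Modules.pullback b).obj F, X'.basicOpen g),
          ρ m = 0 ↔ π.app (X'.basicOpen g) m = 0) := by
    intro s'
    obtain ⟨V, hs'V, f, hf, hfV⟩ := hb.1 s'
    have hfV' : Fitt.ideal Γ(X', V.1) Γ((Scheme.Modules.pullback b).obj F, V.1) r =
        Ideal.span {f} := by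
      rw [← sheafIdeal_ideal, ← hE]
      exact hfV
    obtain ⟨g, hg, t, ρ, h1, h2, h3, h4⟩ := exists_retraction_of_fitt
      ((Scheme.Modules.pullback b).obj F) G π r V.2 s' hs'V f hf hfV'
      (fun W hW hWV m => by
        rw [hG.2 ⟨W, hW⟩ m]
        exact killedByPowerNear_iff _ _ hfV ⟨W, hW⟩ hWV m)
      (by
        rcases Nat.eq_zero_or_pos r with hr | hr
        · exact Or.inl hr
        · refine Or.inr (fun W hW hWV z hz => ⟨0, ?_⟩)
          rw [hJ hr ⟨W, hW⟩, Ideal.mem_bot] at hz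
          rw [hz, mul_zero])
    exact ⟨V, g, hg, t, ρ, h1, h2, h3, h4⟩
  refine ⟨?_, ?_, ?_⟩
  · -- `G` is locally free of rank `r`
    intro s'
    obtain ⟨V, g, hg, t, ρ, h1, h2, h3, h4⟩ := key s'
    exact ⟨X'.basicOpen g, hg,
      nonempty_iso_freeMod_of_retraction (V.2.basicOpen g) _ G π t ρ h1 h2 h3⟩
  · -- the kernel is finitely presented
    choose V g hg t ρ h1 h2 h3 h4 using key
    have hKq : (kernel π).IsQuasicoherent := by
      refine isQuasicoherent_of_forall_restrict (kernel π) (ι := ↥X')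
        (fun s' => (↑(X'.basicOpen (g s')) : Scheme.{u})) (fun s' => (X'.basicOpen (g s')).ι)
        (fun x => ⟨x, ?_⟩) (fun s' => ?_)
      · rw [Scheme.Opens.range_ι]
        exact hg x
      · obtain ⟨φ₀, ρ', hid, hiso, hπ'⟩ := exists_splitting_of_retraction
          ((V s').2.basicOpen (g s')) _ G π (t s') (ρ s') (h1 s') (h2 s') (h3 s')
        haveI := hiso
        exact isQuasicoherent_restrict_kernel_of_splitting _ G π φ₀ ρ' hπ'
    haveI := hKq
    refine isFinitePresentation_of_affine_cover (kernel π) (fun s' =>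
      ⟨X'.basicOpen (g s'), (V s').2.basicOpen (g s'), hg s', ?_⟩)
    haveI : Module.FinitePresentation Γ(X', X'.basicOpen (g s'))
        Γ((Scheme.Modules.pullback b).obj F, X'.basicOpen (g s')) :=
      finitePresentation_sections_of_isFinitePresentation _ hNfp ((V s').2.basicOpen (g s'))
    refine Module.finitePresentation_of_projective_of_exact
      (Groth.Agent.Lib.Helper45.appₗ (kernel.ι π) (X'.basicOpen (g s'))) (ρ s') ?_ ?_ ?_
    · exact Groth.Agent.Lib.Helper45.app_injective_of_mono (kernel.ι π) _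
    · intro c
      refine ⟨∑ i, c i • t s' i, ?_⟩
      simp only [map_sum, map_smul, h1]
      funext j
      simp [Finset.sum_apply, Pi.single_apply]
    · intro m
      rw [h4 s' m]
      exact kernel_app_exact π (X'.basicOpen (g s')) m
  · -- the kernel vanishes over `b⁻¹ U`
    rw [isZero_iff_stalk_subsingleton]
    intro y
    refine subsingleton_stalk_restrict (b ⁻¹ᵁ U).ι (kernel π) y ?_
    have hy : ((b ⁻¹ᵁ U).ι y) ∈ b ⁻¹ᵁ U := y.2
    refine ⟨fun a₁ a₂ => ?_⟩
    have hzero : ∀ a : ↑((kernel π).presheaf.stalk ((b ⁻¹ᵁ U).ι y)), a = 0 := by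
      intro a
      obtain ⟨W', hyW', s₀, rfl⟩ := TopCat.Presheaf.exists_germ_eq (kernel π).presheaf a
      obtain ⟨_, ⟨W, hW : IsAffineOpen W, rfl⟩, hyW, hWle⟩ :=
        X'.isBasis_affineOpens.exists_subset_of_mem_open
          (show (b ⁻¹ᵁ U).ι y ∈ W' ⊓ b ⁻¹ᵁ U from ⟨hyW', hy⟩) (W' ⊓ b ⁻¹ᵁ U).2
      have hWW' : W ≤ W' := fun a ha => (hWle ha).1
      have hWU : W ≤ b ⁻¹ᵁ U := fun a ha => (hWle ha).2
      rw [← TopCat.Presheaf.germ_res_apply (kernel π).presheaf (homOfLE hWW') _ hyW]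
      have hs : (kernel π).presheaf.map (homOfLE hWW').op s₀ = 0 := by
        apply Groth.Agent.Lib.Helper45.app_injective_of_mono (kernel.ι π) W
        rw [map_zero]
        set m := (kernel.ι π).app W ((kernel π).presheaf.map (homOfLE hWW').op s₀) with hm
        have hπm : π.app W m = 0 := by
          have := (kernel_app_exact π W m).mpr ⟨_, rfl⟩
          exact this
        obtain ⟨n, hn⟩ := (hG.2 ⟨W, hW⟩ m).mp hπm
        have hEW : ((Fitt.sheafIdeal F r).comap b).ideal ⟨W, hW⟩ = ⊤ := by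
          refine ideal_eq_top_of_disjoint_support _ ⟨W, hW⟩ ?_
          rw [Scheme.IdealSheafData.support_comap, Set.disjoint_left]
          intro z hz hzW
          exact Set.disjoint_left.mp hdisj hz (hWU hzW)
        have h1m : (1 : Γ(X', W)) ∈ ((BlowUp.exceptional b (Fitt.sheafIdeal F r)) ^ n).ideal
            ⟨W, hW⟩ := by
          rw [Scheme.IdealSheafData.ideal_pow, Pi.pow_apply, hEW, Ideal.top_pow]
          trivial
        have := hn 1 h1m
        rwa [one_smul] at this
      rw [hs, map_zero]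
    rw [hzero a₁, hzero a₂]

end Groth.Agent.S8913
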