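import Groth.Statements.S4407
import Groth.Agent.Lib.Helper11.GenLocusBasis

set_option autoImplicit false
universe u
open CategoryTheory CategoryTheory.Limits AlgebraicGeometry
open EGA2

namespace Groth.Agent.S4407

open TopologicalSpace Opposite

open Groth.Agent.Lib.Helper11.GenLocus Groth.Agent.Lib.Helper49 Groth.Agent.Lib.Helper45

variable {X : Scheme.{u}} {F : X.Modules}

/-- A map from a free module is an epimorphism if its components generate `F` locally. -/
theorem epi_sigma_desc {ι : Type u} (σ : ι → (Coh.structureModule X ⟶ F))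
    (h : ∀ (V : X.Opens) (a : Γ(F, V)) (x : X), x ∈ V → ∃ (W : X.Opens) (hWV : W ≤ V), x ∈ W ∧
      mres F hWV a ∈ Submodule.span Γ(X, W) (Set.range fun i => sec (σ i) W)) :
    Epi (Sigma.desc σ : (SheafOfModules.free ι : X.Modules) ⟶ F) := by
  suffices H : ∀ (N : X.Modules) (ψ : F ⟶ N), (Sigma.desc σ : (SheafOfModules.free ι : X.Modules) ⟶ F) ≫ ψ = 0 → ψ = 0 from
    Preadditive.epi_of_cancel_zero _ fun {N} ψ hψ => H N ψ hψ
  intro N ψ hψ
  have hi : ∀ i, σ i ≫ ψ = 0 := by
    intro i
    have : Sigma.ι (fun _ : ι => Coh.structureModule X) i ≫ Sigma.desc σ = σ i :=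
      Sigma.ι_desc _ _
    have h2 : (Sigma.ι (fun _ : ι => Coh.structureModule X) i ≫ Sigma.desc σ) ≫ ψ = 0 := by
      rw [Category.assoc]
      exact (congrArg (fun t => Sigma.ι (fun _ : ι => Coh.structureModule X) i ≫ t) hψ).trans
        comp_zero
    rwa [this] at h2
  have hz : ∀ (i : ι) (W : X.Opens), (ψ.app W).hom (sec (σ i) W) = 0 := by
    intro i W
    have := congrArg (fun φ : Coh.structureModule X ⟶ N => (φ.app W).hom (toO W 1)) (hi i)
    exact this
  apply Scheme.Modules.hom_ext
  intro V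
  ext a
  choose W hWV hxW hmem using h V a
  refine TopCat.Sheaf.eq_of_locally_eq' ⟨N.presheaf, N.isSheaf⟩
    (fun (p : V) => W p.1 p.2) V (fun p => homOfLE (hWV p.1 p.2)) ?_ _ _ (fun p => ?_)
  · intro x hx
    exact Opens.mem_iSup.mpr ⟨⟨x, hx⟩, hxW x hx⟩
  · change N.presheaf.map (homOfLE (hWV p.1 p.2)).op (ψ.app V a) =
      N.presheaf.map (homOfLE (hWV p.1 p.2)).op 0
    rw [map_zero]
    have e1 := app_res ψ (hWV p.1 p.2) a
    refine e1.trans ?_
    have hm := hmem p.1 p.2
    have key : ∀ b ∈ Submodule.span Γ(X, W p.1 p.2) (Set.range fun i => sec (σ i) (W p.1 p.2)),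
        (ψ.app (W p.1 p.2)).hom b = 0 := by
      intro b hb
      induction hb using Submodule.span_induction with
      | mem b hb =>
        obtain ⟨i, rfl⟩ := hb
        exact hz i _
      | zero => exact map_zero _
      | add b c _ _ hb hc => rw [map_add, hb, hc, add_zero]
      | smul r b _ hb =>
        refine (Scheme.Modules.Hom.app_smul ψ r b).trans ?_
        rw [hb, smul_zero]
    exact key _ hm

/-- (a) ⇒ (e): let X be a quasi-affine scheme. Then every quasi-coherent O_X-module is generated by its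
global sections (it is a quotient of a free O_X-module on some index set). -/
theorem result (X : Scheme.{u}) [X.IsQuasiAffine] (F : X.Modules)
    (hF : Coh.IsQCoh F) : Curv2.IsGloballyGenerated F := by
  have hq : F.IsQuasicoherent := hF
  have hqs : QuasiSeparatedSpace X := by
    have : X.IsSeparated := inferInstance
    infer_instance
  refine ⟨Γ(F, ⊤), Sigma.desc (fun s : Γ(F, ⊤) => homOfSection F s), ?_⟩
  apply epi_sigma_desc
  intro V a x hxV
  obtain ⟨_, ⟨_, ⟨r, hr, rfl⟩, rfl⟩, hxr, hrV⟩ :=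
    (Scheme.IsQuasiAffine.isBasis_basicOpen X).exists_subset_of_mem_open hxV V.2
  obtain ⟨n, y, hy⟩ := exists_restrict_eq_pow_smul_of_qcqs F (U := ⊤)
    (by simpa using isCompact_univ) (by simpa using isQuasiSeparated_univ) r (mres F hrV a)
  refine ⟨X.basicOpen r, hrV, hxr, ?_⟩
  have hu : IsUnit (fres (X.basicOpen_le r) r) := RingedSpace.isUnit_res_basicOpen _ r
  obtain ⟨v, hv⟩ := (hu.pow n)
  have : mres F hrV a = (v⁻¹ : (Γ(X, X.basicOpen r))ˣ).1 • sec (homOfSection F y) (X.basicOpen r) := by
    rw [sec_homOfSection, hy, ← hv, smul_smul, Units.inv_mul, one_smul]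
  rw [this]
  exact Submodule.smul_mem _ _ (Submodule.subset_span ⟨y, rfl⟩)

end Groth.Agent.S4407
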