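import Groth.Statements.S2327
import Mathlib
import Groth.Agent.Lib.Helper11.AmpleBasis

set_option autoImplicit false
universe u
open CategoryTheory CategoryTheory.Limits AlgebraicGeometry
open EGA2

namespace Groth.Agent.S2327

section helpers

open AlgebraicGeometry CategoryTheory Limits TopologicalSpace
open Groth.Agent.Lib.Helper11.GenLocus

theorem main_S2327 (X : Scheme.{u}) [CompactSpace X] (L : X.Modules)
    (hL : PicF.IsInvertible L) (n : ℕ) (hn : 0 < n) :
    CohB1.IsAmple L ↔ CohB1.IsAmple (CohB1.tensorPow L n) := by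
  obtain ⟨n', rfl⟩ := Nat.exists_eq_succ_of_ne_zero hn.ne'
  constructor
  · rintro ⟨-, -, h⟩
    refine ⟨isInvertible_tensorPow hL _, inferInstance, fun x => ?_⟩
    obtain ⟨k, s, hx, ha⟩ := h x
    have e1 := genLocus_powHom (isInvertible_tensorPow hL (k + 1)) s n'
    have e2 := genLocus_comp_iso (SecTwist.powHom s (n' + 1)) (tensorPowComm L (k + 1) (n' + 1))
    refine ⟨k, SecTwist.powHom s (n' + 1) ≫ (tensorPowComm L (k + 1) (n' + 1)).hom, ?_, ?_⟩
    · rw [e2, e1]; exact hx
    · rw [e2, e1]; exact ha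
  · rintro ⟨-, -, h⟩
    refine ⟨hL, inferInstance, fun x => ?_⟩
    obtain ⟨k, s, hx, ha⟩ := h x
    obtain ⟨N, hN⟩ : ∃ N, (n' + 1) * (k + 1) = N + 1 :=
      Nat.exists_eq_succ_of_ne_zero (Nat.mul_ne_zero (Nat.succ_ne_zero _) (Nat.succ_ne_zero _))
    have e2 := genLocus_comp_iso s
      (tensorPowMul L (n' + 1) (k + 1) ≪≫ eqToIso (congrArg (CohB1.tensorPow L) hN))
    refine ⟨N, s ≫ (tensorPowMul L (n' + 1) (k + 1) ≪≫
      eqToIso (congrArg (CohB1.tensorPow L) hN)).hom, ?_, ?_⟩
    · rw [e2]; exact hx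
    · rw [e2]; exact ha

end helpers


/-- Let X be a quasi-compact separated scheme, L an invertible module and n > 0. Then L is ample if and
only if L^{⊗n} is ample. -/
theorem result (X : Scheme.{u}) [CompactSpace X] [X.IsSeparated] (L : X.Modules) (hL : PicF.IsInvertible L) (n : ℕ) (hn : 0 < n) :
    CohB1.IsAmple L ↔ CohB1.IsAmple (CohB1.tensorPow L n) := by
  exact main_S2327 X L hL n hn

end Groth.Agent.S2327
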