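import Groth.Statements.S2107
import Groth.Agent.Lib.Helper31.FPInjLocal

set_option autoImplicit false
universe u
open CAlg

namespace Groth.Agent.S2107

/-- Let `R → S` be a local homomorphism of local rings with `S` essentially of finite presentation over
`R`, `M`, `N` finitely presented `S`-modules with `N` flat over `R`, and `u : M → N` an `S`-linear
map which is injective modulo `𝔪_R`. Then `u` is injective and its cokernel is flat over `R`. -/
theorem result {R S M N : Type u} [CommRing R] [CommRing S] [IsLocalRing R]
    [IsLocalRing S] [Algebra R S] [IsLocalHom (algebraMap R S)] (hS : CAlgX.IsEssFinitePresentation R S)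
    [AddCommGroup M] [Module S M] [Module R M] [IsScalarTower R S M] [Module.FinitePresentation S M]
    [AddCommGroup N] [Module S N] [Module R N] [IsScalarTower R S N] [Module.FinitePresentation S N] [Module.Flat R N]
    (u : M →ₗ[S] N)
    (hu : ∀ x : M, u x ∈ (IsLocalRing.maximalIdeal R).map (algebraMap R S) • (⊤ : Submodule S N) →
      x ∈ (IsLocalRing.maximalIdeal R).map (algebraMap R S) • (⊤ : Submodule S M)) :
    Function.Injective u ∧ Module.Flat R (N ⧸ LinearMap.range u) := by
  have hkey := Groth.Agent.Lib.Helper31.FPInjLocal.key hS u (fun x hx => by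
    rw [← Groth.Agent.Lib.Helper31.FPInjNoeth.mem_map_smul_top_iff (S := S)] at hx ⊢
    exact hu x hx)
  have h2 := Groth.Agent.Lib.Helper31.FPInjLocal.injective_and_flat_of_elementwise
    (u.restrictScalars R) (fun I x hx => hkey I x hx)
  refine ⟨h2.1, ?_⟩
  haveI := h2.2
  have hr : LinearMap.range (u.restrictScalars R) = (LinearMap.range u).restrictScalars R :=
    LinearMap.range_restrictScalars u
  rw [hr] at this
  exact Module.Flat.of_linearEquiv
    (Submodule.Quotient.restrictScalarsEquiv R (LinearMap.range u)).symm

end Groth.Agent.S2107
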