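import Groth.Statements.S4628
import Mathlib.AlgebraicGeometry.Geometrically.Reduced
import Mathlib.Combinatorics.Quiver.ReflQuiver
import Mathlib.RingTheory.Flat.TorsionFree
import Mathlib.RingTheory.RegularLocalRing.Defs
import Mathlib.RingTheory.SimpleRing.Principal
import Mathlib.Tactic

set_option autoImplicit false
open CategoryTheory AlgebraicGeometry
universe u
open FBase

namespace Groth.Agent.S4628

open CategoryTheory.Limits in
/-- Precomposing a geometrically reduced morphism with an open immersion. -/
theorem geometricallyReduced_comp_openImmersion {U X Y : Scheme.{u}} (j : U ⟶ X) (f : X ⟶ Y)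
    [IsOpenImmersion j] [GeometricallyReduced f] : GeometricallyReduced (j ≫ f) := by
  refine ⟨fun K _ y Z fst snd hpb => ?_⟩
  have hP : IsReduced (pullback f y) :=
    pullback_of_geometrically (GeometricallyReduced.geometrically_isReduced (f := f)) K y
  let w : Z ⟶ pullback f y := pullback.lift (fst ≫ j) snd (by rw [Category.assoc, hpb.w])
  have hsq : IsPullback w fst (pullback.fst f y) j := by
    refine IsPullback.of_right ?_ (pullback.lift_fst _ _ _) (IsPullback.of_hasPullback f y).flip
    rw [pullback.lift_snd]
    exact hpb.flip
  have : IsOpenImmersion w := MorphismProperty.of_isPullback (P := @IsOpenImmersion) hsq.flip inferInstance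
  exact isReduced_of_isOpenImmersion w

open CategoryTheory.Limits TensorProduct in
/-- The affine case, with both maps coming from algebra structures. -/
theorem affine_case_alg (k : Type u) [Field k] (A B : Type u) [CommRing A] [CommRing B] [Algebra k A] [Algebra k B]
    [GeometricallyReduced (Spec.map (CommRingCat.ofHom (algebraMap k A)))] [_root_.IsReduced B] :
    _root_.IsReduced (A ⊗[k] B) := by
  apply IsReduced.tensorProduct_of_flat_of_forall_fg
  intro B' hB'
  have hB'red : _root_.IsReduced B' := isReduced_of_injective B'.val Subtype.val_injective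
  have hft : Algebra.FiniteType k B' := (Subalgebra.fg_iff_finiteType B').mp hB'
  have hnoeth : IsNoetherianRing B' := Algebra.FiniteType.isNoetherianRing k B'
  have h1 : IsReduced (Spec (CommRingCat.of B')) := inferInstance
  have h2 : IsLocallyNoetherian (Spec (CommRingCat.of B')) := inferInstance
  have h3 : IsReduced (pullback (Spec.map (CommRingCat.ofHom (algebraMap k A)))
      (Spec.map (CommRingCat.ofHom (algebraMap k B')))) := inferInstance
  have h4 : IsReduced (Spec (CommRingCat.of (A ⊗[k] B'))) :=
    isReduced_of_isOpenImmersion (pullbackSpecIso k A B').inv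
  exact (affine_isReduced_iff _).mp h4

open CategoryTheory.Limits TensorProduct in
/-- The affine case. -/
theorem affine_case (k : Type u) [Field k] (A B : CommRingCat.{u})
    (φ : Spec A ⟶ Spec (CommRingCat.of k)) (ψ : Spec B ⟶ Spec (CommRingCat.of k))
    [GeometricallyReduced φ] [IsReduced (Spec B)] : IsReduced (pullback φ ψ) := by
  obtain ⟨a, rfl⟩ := Spec.map_surjective φ
  obtain ⟨b, rfl⟩ := Spec.map_surjective ψ
  algebraize [a.hom, b.hom]
  have hB : _root_.IsReduced B := (affine_isReduced_iff B).mp inferInstance
  have ha : a = CommRingCat.ofHom (algebraMap k A) := rfl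
  have hb : b = CommRingCat.ofHom (algebraMap k B) := rfl
  rw [ha] at *
  rw [hb]
  have h := affine_case_alg k A B
  have h4 : IsReduced (Spec (CommRingCat.of (A ⊗[k] B))) := inferInstance
  exact isReduced_of_isOpenImmersion (pullbackSpecIso k A B).hom

open CategoryTheory.Limits in
/-- Let X be a scheme over a field k which is geometrically reduced (X ⊗_k K is reduced for every
extension field K of k), and let S be any reduced scheme over k. Then the product X ×_k S is
reduced. (No Noetherian or finiteness assumption on S.) -/
theorem result {k : Type u} [Field k] {X S : Scheme.{u}}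
    (f : X ⟶ Spec (CommRingCat.of k)) (g : S ⟶ Spec (CommRingCat.of k)) [GeometricallyReduced f]
    [AlgebraicGeometry.IsReduced S] : AlgebraicGeometry.IsReduced (pullback f g) := by
  apply +allowSynthFailures @IsReduced.of_openCover
    (𝒰 := Scheme.Pullback.openCoverOfLeftRight X.affineCover S.affineCover f g)
  rintro ⟨i, j⟩
  have h1 : GeometricallyReduced (X.affineCover.f i ≫ f) :=
    geometricallyReduced_comp_openImmersion _ _
  have h2 : IsReduced (S.affineCover.X j) := isReduced_of_isOpenImmersion (S.affineCover.f j)
  exact @affine_case k _ _ _ (X.affineCover.f i ≫ f) (S.affineCover.f j ≫ g) h1 h2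

end Groth.Agent.S4628
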