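import Groth.Statements.S3447
import Groth.Agent.Lib.Helper49.FiberStalk

set_option autoImplicit false
open CategoryTheory AlgebraicGeometry
universe u
open EGA43

namespace Groth.Agent.S3447

open Groth.Agent.Lib.Helper49

/-- Ring-level statement: for a local homomorphism `φ : A → B` of local rings with `B` Noetherian,
`dim B ≤ dim A + dim B / 𝔪_A B`. -/
theorem ringKrullDim_le_add_quotient {A B : Type u} [CommRing A] [CommRing B] [IsLocalRing A]
    [IsLocalRing B] [IsNoetherianRing A] [IsNoetherianRing B] (φ : A →+* B) [IsLocalHom φ] :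
    ringKrullDim B ≤ ringKrullDim A +
      ringKrullDim (B ⧸ Ideal.map φ (IsLocalRing.maximalIdeal A)) := by
  algebraize [φ]
  have hover : (IsLocalRing.maximalIdeal B).LiesOver (IsLocalRing.maximalIdeal A) := by
    constructor
    exact (IsLocalRing.maximalIdeal_comap φ).symm
  have h := Ideal.height_le_height_add_of_liesOver (IsLocalRing.maximalIdeal A)
    (IsLocalRing.maximalIdeal B)
  have hI : Ideal.map φ (IsLocalRing.maximalIdeal A) ≠ ⊤ :=
    (IsLocalRing.map_maximalIdeal_lt_top φ).ne
  have hnt : Nontrivial (B ⧸ Ideal.map φ (IsLocalRing.maximalIdeal A)) :=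
    Ideal.Quotient.nontrivial_iff.mpr hI
  have hloc : IsLocalRing (B ⧸ Ideal.map φ (IsLocalRing.maximalIdeal A)) :=
    IsLocalRing.of_surjective' (Ideal.Quotient.mk _) Ideal.Quotient.mk_surjective
  have hmax : ((IsLocalRing.maximalIdeal B).map
      (Ideal.Quotient.mk (Ideal.map φ (IsLocalRing.maximalIdeal A)))).IsMaximal := by
    refine Ideal.IsMaximal.map_of_surjective_of_ker_le Ideal.Quotient.mk_surjective ?_
    rw [Ideal.mk_ker]
    exact IsLocalRing.le_maximalIdeal hI
  have heq : (IsLocalRing.maximalIdeal B).map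
      (Ideal.Quotient.mk (Ideal.map φ (IsLocalRing.maximalIdeal A))) =
      IsLocalRing.maximalIdeal (B ⧸ Ideal.map φ (IsLocalRing.maximalIdeal A)) :=
    IsLocalRing.eq_maximalIdeal hmax
  change (IsLocalRing.maximalIdeal B).height ≤ (IsLocalRing.maximalIdeal A).height +
    ((IsLocalRing.maximalIdeal B).map
      (Ideal.Quotient.mk (Ideal.map φ (IsLocalRing.maximalIdeal A)))).height at h
  rw [heq] at h
  rw [← IsLocalRing.maximalIdeal_height_eq_ringKrullDim (R := B),
    ← IsLocalRing.maximalIdeal_height_eq_ringKrullDim (R := A),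
    ← IsLocalRing.maximalIdeal_height_eq_ringKrullDim
      (R := B ⧸ Ideal.map φ (IsLocalRing.maximalIdeal A)), ← WithBot.coe_add]
  exact WithBot.coe_le_coe.mpr h

/-- The dimension inequality at a point of a fibre. -/
theorem dim_stalk_le {X Y : Scheme.{u}} [IsLocallyNoetherian X] [IsLocallyNoetherian Y] (f : X ⟶ Y) (s : Y)
    (y : ↥(f.fiber s)) :
    ringKrullDim (X.presheaf.stalk ((f.fiberι s).base y)) ≤
      ringKrullDim (Y.presheaf.stalk (f.base ((f.fiberι s).base y))) +
        ringKrullDim ((f.fiber s).presheaf.stalk y) := by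
  have h := ringKrullDim_le_add_quotient (f.stalkMap ((f.fiberι s).base y)).hom
  have hker : RingHom.ker ((f.fiberι s).stalkMap y).hom =
      Ideal.map (f.stalkMap ((f.fiberι s).base y)).hom
        (IsLocalRing.maximalIdeal (Y.presheaf.stalk (f.base ((f.fiberι s).base y)))) :=
    le_antisymm (ker_le_map f s y) (map_le_ker f s y)
  have hsurj : Function.Surjective ((f.fiberι s).stalkMap y).hom :=
    (f.fiberι s).stalkMap_surjective y
  have e := RingHom.quotientKerEquivOfSurjective hsurj
  rw [← ringKrullDim_eq_of_ringEquiv e, hker]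
  exact h

/-- Let Y be locally Noetherian, f : X ⟶ Y of finite type and x a point of X with y = f x. Then dim
O_{X,x} ≤ dim O_{Y,y} + dim O_{X_y,x}, where X_y is the fibre through x. -/
theorem result {X Y : Scheme.{u}} [IsLocallyNoetherian Y] (f : X ⟶ Y)
    [LocallyOfFiniteType f] [QuasiCompact f] (x : X) :
    ringKrullDim (X.presheaf.stalk x) ≤
      ringKrullDim (Y.presheaf.stalk (f.base x)) + ringKrullDim ((f.fiber (f.base x)).presheaf.stalk (f.asFiber x)) := by
  have hX : IsLocallyNoetherian X := LocallyOfFiniteType.isLocallyNoetherian f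
  have h := dim_stalk_le f (f.base x) (f.asFiber x)
  have hx : (f.fiberι (f.base x)).base (f.asFiber x) = x := f.fiberι_asFiber x
  have h1 := congrArg (fun z => ringKrullDim (X.presheaf.stalk z)) hx
  have h2 := congrArg (fun z => ringKrullDim (Y.presheaf.stalk (f.base z))) hx
  simp only at h1 h2
  rw [h1, h2] at h
  exact h

end Groth.Agent.S3447
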