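import Groth.Statements.S2082
import Groth.Agent.Lib.Helper73.RegSeqTor
import Groth.Agent.H76.LocalCrit
import Groth.Agent.Lib.Helper29.DepthCM
import Groth.Agent.Lib.Helper85.RegularGens

set_option maxSynthPendingDepth 3

set_option autoImplicit false
universe u
open CAlg

namespace Groth.Agent.S2082

/-- Take a local homomorphism `R → S` between Noetherian local rings, where `R` is regular, `S` is
Cohen–Macaulay, and `dim S = dim R + dim (S/𝔪_R S)`. Then `S` is flat over `R`. -/
theorem result {R S : Type u} [CommRing R] [CommRing S] [IsRegularLocalRing R]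
    [LocCoh.IsCohenMacaulayLocalRing S] [Algebra R S] [IsLocalHom (algebraMap R S)]
    (hdim : ringKrullDim S = ringKrullDim R +
      ringKrullDim (S ⧸ (IsLocalRing.maximalIdeal R).map (algebraMap R S))) :
    Module.Flat R S := by
  classical
  obtain ⟨d, hd⟩ : ∃ d : ℕ, (IsLocalRing.maximalIdeal R).spanFinrank = d := ⟨_, rfl⟩
  have hdR : ringKrullDim R = (d : ℕ) := by
    rw [← hd]
    exact (IsRegularLocalRing.spanFinrank_maximalIdeal (R := R)).symm
  obtain ⟨x, hx⟩ := Groth.Agent.Lib.Helper85.exists_fin_span_range_eq (IsLocalRing.maximalIdeal R)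
    (IsLocalRing.maximalIdeal R).fg_of_isNoetherianRing hd
  have hxs : Ideal.ofList (List.ofFn x) = IsLocalRing.maximalIdeal R := by
    refine Eq.trans ?_ hx
    unfold Ideal.ofList
    congr 1
    ext r
    simp [List.mem_ofFn]
  have hys_mem : ∀ y ∈ (List.ofFn x).map (algebraMap R S), y ∈ IsLocalRing.maximalIdeal S := by
    intro y hy
    obtain ⟨r, hr, rfl⟩ := List.mem_map.mp hy
    have hr' : r ∈ IsLocalRing.maximalIdeal R := by
      rw [← hxs]
      exact Ideal.subset_span hr
    exact map_nonunit (algebraMap R S) r hr'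
  have hys : Ideal.ofList ((List.ofFn x).map (algebraMap R S)) =
      (IsLocalRing.maximalIdeal R).map (algebraMap R S) := by
    rw [← Ideal.map_ofList, hxs]
  have hCM : LocCoh.IsCohenMacaulayModule S S :=
    LocCoh.IsCohenMacaulayLocalRing.supportDim_eq_depth
  have hreg : RingTheory.Sequence.IsWeaklyRegular S ((List.ofFn x).map (algebraMap R S)) := by
    rw [Groth.Agent.Lib.Helper29.isWeaklyRegular_iff_supportDim_of_isCohenMacaulayModule S S hCM _
      hys_mem]
    have h1 : (Ideal.ofList ((List.ofFn x).map (algebraMap R S)) • (⊤ : Submodule S S)) =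
        (IsLocalRing.maximalIdeal R).map (algebraMap R S) := by
      rw [hys, smul_eq_mul, Ideal.mul_top]
    rw [h1, Module.supportDim_self_eq_ringKrullDim, hdim, hdR, List.length_map, List.length_ofFn,
      add_comm]
    congr 1
    exact Module.supportDim_quotient_eq_ringKrullDim _
  have hreg' : RingTheory.Sequence.IsWeaklyRegular S (List.ofFn x) :=
    (RingTheory.Sequence.isWeaklyRegular_map_algebraMap_iff (S := S) (M := S) (List.ofFn x)).mp hreg
  have hinj := Groth.Agent.Lib.Helper73.RegSeqTor.rTensor_subtype_injective_of_isWeaklyRegular S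
    (List.ofFn x) hreg'
  rw [hxs] at hinj
  letI := Ideal.Quotient.field (IsLocalRing.maximalIdeal R)
  haveI : Module.Flat (R ⧸ IsLocalRing.maximalIdeal R)
      (TensorProduct R (R ⧸ IsLocalRing.maximalIdeal R) S) := inferInstance
  exact Groth.Agent.H76.LocalCrit.flat_of_local (R := R) (S := S) (M := S)
    (IsLocalRing.maximalIdeal R) (IsLocalRing.maximalIdeal.isMaximal R).ne_top hinj

end Groth.Agent.S2082
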