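import Groth.Statements.S14103
import Mathlib

set_option autoImplicit false
universe u
open CategoryTheory CategoryTheory.Limits AlgebraicGeometry Opposite TopologicalSpace
open CInt
namespace Groth.Agent.S14103

theorem dim_fiberStalk_le {X S : Scheme.{u}} (f : X ⟶ S) (y : X) :
    ringKrullDim ↑(CInt.fiberStalk f y) ≤ ringKrullDim ↑(X.presheaf.stalk y) := by
  have hsurj : Function.Surjective ((f.fiberι (f y)).stalkMap (f.asFiber y)) :=
    (f.fiberι (f y)).stalkMap_surjective (f.asFiber y)
  have h1 := ringKrullDim_le_of_surjective
    ((f.fiberι (f y)).stalkMap (f.asFiber y)).hom hsurj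
  have h2 : ∀ y' : X, y' = y →
      ringKrullDim ↑(X.presheaf.stalk y') = ringKrullDim ↑(X.presheaf.stalk y) := by
    rintro _ rfl; rfl
  rw [h2 _ (f.fiberι_asFiber y)] at h1
  exact h1

/-- Let f : X → S be a morphism of locally Noetherian schemes and Y a closed subset of X. The
codimension of Y in X relative to f, namely the infimum over the points y of Y of the Krull
dimension of the local ring at y of the fibre of f through y, is at most the codimension of Y in X,
the infimum over y ∈ Y of the Krull dimension of O_{X,y}. -/
theorem result {X S : Scheme.{u}} [IsLocallyNoetherian X] [IsLocallyNoetherian S]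
    (f : X ⟶ S) (Y : Set ↥X) (hY : IsClosed Y) :
    (⨅ y : Y, ringKrullDim ↑(CInt.fiberStalk f y.1)) ≤ ⨅ y : Y, ringKrullDim ↑(X.presheaf.stalk y.1) := by
  exact iInf_mono fun y => dim_fiberStalk_le f y.1
end Groth.Agent.S14103
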