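import Groth.Statements.S9146
import Mathlib
import Groth.Agent.H46.SyntLocal

set_option autoImplicit false
universe u
open Synt
open TensorProduct

namespace Groth.Agent.S9146

/-- Being syntomic is local on the target ring: if finitely many elements of S generating the unit ideal
have syntomic localizations R → S_g, then R → S is syntomic. -/
theorem result (R S : Type u) [CommRing R] [CommRing S] [Algebra R S]
    (s : Finset S) (hs : Ideal.span (s : Set S) = ⊤)
    (h : ∀ g ∈ s, Synt.IsSyntomic R (Localization.Away g)) : Synt.IsSyntomic R S := by
  have hflat : Module.Flat R S := by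
    rw [← RingHom.flat_algebraMap_iff]
    refine RingHom.Flat.ofLocalizationSpanTarget (algebraMap R S) (s : Set S) hs (fun g => ?_)
    rw [← IsScalarTower.algebraMap_eq]
    show (algebraMap R (Localization.Away g.1)).Flat
    rw [RingHom.flat_algebraMap_iff]
    exact (h g g.2).1
  have hfp : Algebra.FinitePresentation R S := by
    rw [← RingHom.finitePresentation_algebraMap]
    refine RingHom.finitePresentation_ofLocalizationSpanTarget (algebraMap R S) (s : Set S) hs
      (fun g => ?_)
    rw [← IsScalarTower.algebraMap_eq, RingHom.finitePresentation_algebraMap]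
    exact (h g g.2).2.1
  refine ⟨hflat, hfp, fun p => ?_⟩
  refine Groth.Agent.H46.isLCIOver_of_span (k := p.asIdeal.ResidueField) (F := p.asIdeal.Fiber S)
    ((fun g : S => (1 : p.asIdeal.ResidueField) ⊗ₜ[R] g) '' (s : Set S)) ?_ ?_
  · have : Ideal.map (Algebra.TensorProduct.includeRight :
        S →ₐ[R] p.asIdeal.Fiber S).toRingHom (Ideal.span (s : Set S)) = ⊤ := by
      rw [hs, Ideal.map_top]
    rw [Ideal.map_span] at this
    exact this
  · rintro _ ⟨g, hg, rfl⟩
    let _ : Algebra (p.asIdeal.Fiber S) (p.asIdeal.Fiber (Localization.Away g)) :=
      (Algebra.TensorProduct.map (AlgHom.id R p.asIdeal.ResidueField)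
        (IsScalarTower.toAlgHom R S (Localization.Away g))).toRingHom.toAlgebra
    have htower : IsScalarTower p.asIdeal.ResidueField (p.asIdeal.Fiber S)
        (p.asIdeal.Fiber (Localization.Away g)) :=
      .of_algebraMap_eq (by
        intro x
        show algebraMap p.asIdeal.ResidueField (p.asIdeal.Fiber (Localization.Away g)) x =
          (Algebra.TensorProduct.map (AlgHom.id R p.asIdeal.ResidueField)
            (IsScalarTower.toAlgHom R S (Localization.Away g)))
            (algebraMap p.asIdeal.ResidueField (p.asIdeal.Fiber S) x)
        simp [Algebra.TensorProduct.algebraMap_apply])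
    have hloc : IsLocalization.Away ((1 : p.asIdeal.ResidueField) ⊗ₜ[R] g)
        (p.asIdeal.Fiber (Localization.Away g)) := by
      have := IsLocalization.tensorProduct_tensorProduct_right R p.asIdeal.ResidueField
        (Submonoid.powers g) (Localization.Away g)
        (by ext; simp [RingHom.algebraMap_toAlgebra])
      simpa [Submonoid.map_powers] using this
    exact ⟨p.asIdeal.Fiber (Localization.Away g), inferInstance, inferInstance, inferInstance,
      htower, hloc, (h g hg).2.2 p⟩

end Groth.Agent.S9146
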