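import Groth.Statements.S10209
import Groth.Agent.H53.EtaleMor
import Groth.Agent.H52.FibreProd

set_option autoImplicit false
universe u
open CategoryTheory CategoryTheory.Limits AlgebraicGeometry Topology TopologicalSpace
open AlgSp

namespace Groth.Agent.S10209

/-- Etaleness of morphisms of algebraic spaces is preserved by every base change: let f : X ⟶ Y and g :
Z ⟶ Y be morphisms of algebraic spaces over a scheme S and P an algebraic space with morphisms P ⟶ Z
and P ⟶ X making the square of underlying sheaves cartesian (P = Z ×_Y X). If f is etale (every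
composite of f with a representable etale map h_U ⟶ X from a scheme U is representable etale), then
the projection P ⟶ Z is etale. -/
theorem result {S : Scheme.{u}} {X Y Z P : AlgSp.Space S} (f : X ⟶ Y) (g : Z ⟶ Y)
    (fst : P ⟶ Z) (snd : P ⟶ X) (h : IsPullback fst.hom snd.hom g.hom f.hom) (hf : AlgSp.IsEtaleMor f.hom) :
    AlgSp.IsEtaleMor fst.hom := by
  obtain ⟨U, pZ, hZe, hZs⟩ := Z.property.atlas
  obtain ⟨W, pX, hXe, hXs⟩ := X.property.atlas
  obtain ⟨V, q, a, b, hq1, -, sqab, hq⟩ :=
    H52.exists_chart_of_isPullback h (fun _ t => Y.property.representable_from_yon t) pZ pX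
  have hqe : AlgSp.RepWith @Etale q := hq @Etale hZe hXe
  have hqs : AlgSp.RepWith @Surjective q := hq @Surjective hZs hXs
  have ha : Etale a.left := (hf pX hXe).property (pZ ≫ g.hom) _ _ sqab.flip
  refine H53.isEtaleMor_of_chart (fun T t => Z.property.representable_from_yon t) fst.hom q
    hqe hqs ?_
  rw [hq1]
  exact (AlgSp.RepWith (S := S) @Etale).comp_mem _ _ ((AlgSp.repWith_yon_map_iff _ _).2 ha) hZe

end Groth.Agent.S10209
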