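import Groth.Statements.S9900
import Groth.Agent.H52.DiagSp

set_option autoImplicit false
universe u
open CategoryTheory CategoryTheory.Limits AlgebraicGeometry
open AlgSp

namespace Groth.Agent.S9900

/-- For a morphism of algebraic spaces the relative diagonal is representable by schemes, locally of
finite type, a monomorphism, separated and locally quasi-finite (each in the representable sense). -/
theorem result {S : Scheme.{u}} {X Y : AlgSp.Space S} (f : X ⟶ Y) :
    AlgSp.Representable (pullback.diagonal f.hom) ∧
    AlgSp.RepWith @LocallyOfFiniteType (pullback.diagonal f.hom) ∧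
    AlgSp.RepWith (MorphismProperty.monomorphisms Scheme.{u}) (pullback.diagonal f.hom) ∧
    AlgSp.RepWith @IsSeparated (pullback.diagonal f.hom) ∧
    AlgSp.RepWith (@LocallyQuasiFinite ⊓ @LocallyOfFiniteType) (pullback.diagonal f.hom) := by
  have sq := Groth.Agent.H52.isPullback_diagonal_diag f.hom
  have hrep : AlgSp.Representable (pullback.diagonal f.hom) :=
    MorphismProperty.of_isPullback sq X.property.diag
  have hlft : AlgSp.RepWith @LocallyOfFiniteType (pullback.diagonal f.hom) :=
    MorphismProperty.of_isPullback sq (Groth.Agent.H52.repWith_lft_diag X.property)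
  have hmono : AlgSp.RepWith (MorphismProperty.monomorphisms Scheme.{u}) (pullback.diagonal f.hom) :=
    Groth.Agent.H52.repWith_mono_of_mono _ hrep
  refine ⟨hrep, hlft, hmono, ⟨hrep, fun U V g fst snd sq' => ?_⟩, ⟨hrep, fun U V g fst snd sq' => ?_⟩⟩
  · have : Mono snd.left := hmono.2 g fst snd sq'
    exact (inferInstance : IsSeparated snd.left)
  · have : Mono snd.left := hmono.2 g fst snd sq'
    have : LocallyOfFiniteType snd.left := hlft.2 g fst snd sq'
    exact ⟨(inferInstance : LocallyQuasiFinite snd.left), this⟩

end Groth.Agent.S9900
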