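import Groth.Statements.S10519
import Groth.Agent.Lib.Helper54.FpqcCover
import Groth.Agent.H52.QC5

set_option autoImplicit false
universe u
open CategoryTheory CategoryTheory.Limits AlgebraicGeometry
open AlgSp

namespace Groth.Agent.S10519

/-- The property of morphisms of algebraic spaces over S given by f is quasi-compact is fpqc local on
the base: for an fpqc covering of an algebraic space Y by algebraic spaces Y_i, a morphism f : X ⟶ Y
of algebraic spaces and cartesian squares X_i = Y_i ×_Y X, f has the property if and only if every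
X_i ⟶ Y_i has it. -/
theorem result (S : Scheme.{u}) :
    AlgSp.IsLocalOnBase (AlgSp.IsFpqcCover (S := S)) AlgSp.IsQuasiCompactMor := by
  intro ι Y Yi g hY hYi hcov X f hX Xi p q hXi sq
  constructor
  · intro hf i
    exact Groth.Agent.H52.isQuasiCompactMor_of_isPullback (sq i) hf
  · intro hp
    apply Groth.Agent.H52.isQuasiCompactMor_of_affine hX hY f
    intro Z hZ a P pfst psnd sqP
    have hP : AlgSp.IsAlgSpace P :=
      Groth.Agent.H52.isAlgSpace_of_isPullback sqP hX hY (AlgSp.IsAlgSpace.yon_obj Z)
    obtain ⟨m, W, c, haff, hflat, hsurj, hlift⟩ := hcov.2 Z hZ a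
    choose i l hl using hlift
    refine Groth.Agent.H52.isQuasiCompactSp_of_finite_family_pullback hP psnd
      (fun j => (AlgSp.yon S).obj (W j)) (fun j => (AlgSp.yon S).map (c j)) (fun y => ?_)
      (fun j => pullback psnd ((AlgSp.yon S).map (c j))) (fun j => pullback.fst _ _)
      (fun j => pullback.snd _ _) (fun j => IsPullback.of_hasPullback _ _) (fun j => ?_)
    · obtain ⟨z, rfl⟩ := Groth.Agent.Lib.Helper54.exists_ofScheme_eq Z y
      obtain ⟨j, w, hw⟩ := hsurj z
      refine ⟨j, AlgSp.Points.ofScheme (W j) w, ?_⟩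
      rw [Groth.Agent.H52.points_map_ofScheme, hw]
    · have sqQ := IsPullback.of_hasPullback psnd ((AlgSp.yon S).map (c j))
      have big := sqQ.paste_horiz sqP
      have hcomp : (pullback.fst psnd ((AlgSp.yon S).map (c j)) ≫ pfst) ≫ f =
          (pullback.snd psnd ((AlgSp.yon S).map (c j)) ≫ l j) ≫ g (i j) := by
        rw [Category.assoc, Category.assoc, hl]; exact big.w
      have hlift1 : (sq (i j)).lift _ _ hcomp ≫ q (i j) =
          pullback.fst psnd ((AlgSp.yon S).map (c j)) ≫ pfst := (sq (i j)).lift_fst _ _ _
      have hlift2 : (sq (i j)).lift _ _ hcomp ≫ p (i j) =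
          pullback.snd psnd ((AlgSp.yon S).map (c j)) ≫ l j := (sq (i j)).lift_snd _ _ _
      have sqL : IsPullback ((sq (i j)).lift _ _ hcomp) (pullback.snd psnd ((AlgSp.yon S).map (c j)))
          (p (i j)) (l j) := by
        refine IsPullback.of_right ?_ hlift2 (sq (i j))
        rw [hlift1, hl]
        exact big
      have : IsAffine (W j).left := haff j
      exact hp (i j) (AlgSp.IsAlgSpace.yon_obj (W j)) (Groth.Agent.H52.isQuasiCompactSp_yon (W j))
        (l j) _ _ sqL

end Groth.Agent.S10519
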