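import Groth.Statements.S0079

set_option autoImplicit false
open CategoryTheory CategoryTheory.Limits AlgebraicGeometry Opposite
universe u
open EtBase

namespace Groth.Agent.S0079

/-- Quasi-compactness of a morphism descends along a quasi-compact flat surjective base change: if the
base change of a morphism g along a quasi-compact, flat, surjective morphism to its target is
quasi-compact, then g is quasi-compact. (Stated for a single quasi-compact faithfully flat cover;
combined with Zariski-locality on the target this gives the fpqc-local form.) -/
theorem result :
    MorphismProperty.DescendsAlong @QuasiCompact (@Surjective ⊓ @Flat ⊓ @QuasiCompact : MorphismProperty Scheme.{u}) := by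
  apply IsZariskiLocalAtTarget.descendsAlong
  intro R X Y f g hf h
  have hfs : Surjective f := hf.1.1
  have hfq : QuasiCompact f := hf.2
  have h1 : CompactSpace X := QuasiCompact.compactSpace_of_compactSpace f
  have h2 : CompactSpace ↥(pullback f g) := QuasiCompact.compactSpace_of_compactSpace (pullback.fst f g)
  have h3 : Surjective (pullback.snd f g) := inferInstance
  have h4 : CompactSpace Y := by
    constructor
    rw [← Set.range_eq_univ.mpr (pullback.snd f g).surjective]
    exact isCompact_range (pullback.snd f g).continuous
  rw [HasAffineProperty.iff_of_isAffine (P := @QuasiCompact)]
  exact h4

end Groth.Agent.S0079
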