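import Groth.Statements.S10536
-- import your own Groth.Agent.* helpers here
import Groth.Agent.S10535
import Groth.Agent.S10528
import Groth.Agent.S10521

set_option autoImplicit false
universe u
open CategoryTheory CategoryTheory.Limits AlgebraicGeometry
open AlgSp

namespace Groth.Agent.S10536

/-- The property of morphisms of algebraic spaces over S given by f is proper (separated, of finite type
and universally closed) is fpqc local on the base: for an fpqc covering of an algebraic space Y by
algebraic spaces Y_i, a morphism f : X ⟶ Y of algebraic spaces and cartesian squares X_i = Y_i ×_Y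
X, f has the property if and only if every X_i ⟶ Y_i has it. -/
theorem result (S : Scheme.{u}) :
    AlgSp.IsLocalOnBase (AlgSp.IsFpqcCover (S := S)) AlgSp.IsProperMor := by
  intro ι Y Yi g hY hYi hcov X f hX Xi p q hXi sq
  have h1 := Groth.Agent.S10535.result S Yi g hY hYi hcov f hX Xi p q hXi sq
  have h2 := Groth.Agent.S10528.result S Yi g hY hYi hcov f hX Xi p q hXi sq
  have h3 := Groth.Agent.S10521.result S Yi g hY hYi hcov f hX Xi p q hXi sq
  constructor
  · rintro ⟨a, b, c⟩ i
    exact ⟨h1.1 a i, h2.1 b i, h3.1 c i⟩
  · intro h
    exact ⟨h1.2 fun i => (h i).1, h2.2 fun i => (h i).2.1, h3.2 fun i => (h i).2.2⟩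

end Groth.Agent.S10536
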