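import Groth.Statements.S10541
import Groth.Agent.Lib.Helper54.FpqcLocP
import Groth.Agent.Lib.Helper54.EtLocalInst
import Groth.Agent.S10519

set_option autoImplicit false
universe u
open CategoryTheory CategoryTheory.Limits AlgebraicGeometry
open AlgSp

namespace Groth.Agent.S10541

/-- The properties of morphisms of algebraic spaces over S given by locally quasi-finite (locally
quasi-finite and locally of finite type on etale charts) and by quasi-finite (the same together with
quasi-compact) are both fpqc local on the base: for an fpqc covering of an algebraic space Y by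
algebraic spaces Y_i, a morphism f : X ⟶ Y of algebraic spaces and cartesian squares X_i = Y_i ×_Y
X, f has the property if and only if every X_i ⟶ Y_i has it. -/
theorem result (S : Scheme.{u}) :
    AlgSp.IsLocalOnBase (AlgSp.IsFpqcCover (S := S)) (AlgSp.LocP (@LocallyQuasiFinite ⊓ @LocallyOfFiniteType)) ∧
    AlgSp.IsLocalOnBase (AlgSp.IsFpqcCover (S := S))
      (fun _ _ f => AlgSp.LocP (@LocallyQuasiFinite ⊓ @LocallyOfFiniteType) f ∧ AlgSp.IsQuasiCompactMor f) := by
  have : IsZariskiLocalAtTarget (@LocallyQuasiFinite ⊓ @LocallyOfFiniteType : MorphismProperty Scheme.{u}) :=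
    MorphismProperty.IsLocalAtTarget.inf _ _
  have : MorphismProperty.DescendsAlong
      (@LocallyQuasiFinite ⊓ @LocallyOfFiniteType : MorphismProperty Scheme.{u})
      (@Surjective ⊓ @Flat ⊓ @QuasiCompact) := MorphismProperty.DescendsAlong.inf
  have key : AlgSp.IsLocalOnBase (AlgSp.IsFpqcCover (S := S))
      (AlgSp.LocP (@LocallyQuasiFinite ⊓ @LocallyOfFiniteType)) := by
    intro ι Y Yi g hY hYi hcov X f hX Xi p q hXi sq
    constructor
    · intro hf i
      exact Groth.Agent.Lib.Helper54.locP_of_isPullback_of_isAlgSpace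
        Groth.Agent.Lib.Helper54.etLocal_lqf hX hY (sq i) hf
    · intro hp
      refine Groth.Agent.Lib.Helper54.locP_of_fpqc_local Groth.Agent.Lib.Helper54.etLocal_lqf f g hcov.2 p q sq
        (fun i => ?_)
      obtain ⟨U, a, hae, has⟩ := (hXi i).atlas
      obtain ⟨V, b, hbe, hbs⟩ := (hYi i).atlas
      exact Groth.Agent.Lib.Helper54.locPU_of_locP Groth.Agent.Lib.Helper54.etLocal_lqf (hp i) a hae has b hbe hbs
  refine ⟨key, ?_⟩
  intro ι Y Yi g hY hYi hcov X f hX Xi p q hXi sq
  have h1 := key Yi g hY hYi hcov f hX Xi p q hXi sq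
  have h2 := Groth.Agent.S10519.result S Yi g hY hYi hcov f hX Xi p q hXi sq
  constructor
  · rintro ⟨a, b⟩ i
    exact ⟨h1.1 a i, h2.1 b i⟩
  · intro h
    exact ⟨h1.2 (fun i => (h i).1), h2.2 (fun i => (h i).2)⟩

end Groth.Agent.S10541
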