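import Mathlib
import Groth.Statements.S9208
import Groth.Agent.Lib.Helper23.LfpOfColim

set_option autoImplicit false
universe u
open CategoryTheory AlgebraicGeometry
open Lim
open Groth.Agent.Lib.Helper23

namespace Groth.Agent.S9208

/-- Let f : X → S be a morphism of schemes. Suppose that for every inverse system (T_j) of affine
schemes over S indexed by a nonempty directed preordered set, with limit T, the canonical map
colim_j Mor_S(T_j, X) → Mor_S(T, X) is surjective: every S-morphism T → X is the composite of the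
projection T → T_j with an S-morphism T_j → X for some j. Then f is locally of finite presentation
(surjectivity alone suffices; bijectivity is not required). -/
theorem result {X S : Scheme.{u}} (f : X ⟶ S)
    (h : ∀ (J : Type u) [Preorder J] [IsDirected J (· ≤ ·)] [Nonempty J] (D : Jᵒᵖ ⥤ Scheme.{u})
      (t : D ⟶ (Functor.const Jᵒᵖ).obj S) (c : Limits.Cone D) (_ : Limits.IsLimit c),
      (∀ j, IsAffine (D.obj j)) → ∀ (j₀ : Jᵒᵖ) (g : c.pt ⟶ X), g ≫ f = c.π.app j₀ ≫ t.app j₀ →
        ∃ (j : Jᵒᵖ) (gj : D.obj j ⟶ X), gj ≫ f = t.app j ∧ c.π.app j ≫ gj = g) :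
    LocallyOfFinitePresentation f := by
  apply locallyOfFinitePresentation_of_factorization
  intro U hU J _ _ _ F cc hcc G hG
  let t : specDiagram F ⟶ (Functor.const Jᵒᵖ).obj S :=
    { app := fun j => Spec.map (F.obj j.unop).hom ≫ hU.fromSpec
      naturality := by
        intro i j a
        have hw : (F.obj j.unop).hom ≫ (F.map a.unop).right = (F.obj i.unop).hom :=
          Under.w (F.map a.unop)
        change Spec.map (F.map a.unop).right ≫ Spec.map (F.obj j.unop).hom ≫ hU.fromSpec =
          (Spec.map (F.obj i.unop).hom ≫ hU.fromSpec) ≫ 𝟙 _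
        rw [Category.comp_id, ← Category.assoc, ← Spec.map_comp, hw] }
  let j₀ : J := Classical.arbitrary J
  have hG' : G ≫ f = (specCone F cc).π.app (Opposite.op j₀) ≫ t.app (Opposite.op j₀) := by
    have hw : (F.obj j₀).hom ≫ (cc.ι.app j₀).right = cc.pt.hom := Under.w (cc.ι.app j₀)
    change G ≫ f = Spec.map (cc.ι.app j₀).right ≫ Spec.map (F.obj j₀).hom ≫ hU.fromSpec
    rw [hG, ← Category.assoc, ← Spec.map_comp, hw]
  obtain ⟨j, gj, h1, h2⟩ := h J (specDiagram F) t (specCone F cc) (isLimitSpecCone F hcc)
    (fun j => inferInstance) (Opposite.op j₀) G hG'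
  exact ⟨j.unop, gj, h1, h2⟩

end Groth.Agent.S9208
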