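import Groth.Statements.S10025
import Mathlib
import Groth.Prelude.Def_AlgSpRep

set_option autoImplicit false
universe u
open CategoryTheory CategoryTheory.Limits AlgebraicGeometry
open AlgSp

namespace Groth.Agent.S10025.Aux

open CategoryTheory CategoryTheory.Limits AlgebraicGeometry Opposite

namespace RLP

variable {S : Scheme.{u}}

/-- elementwise naturality -/
lemma nat_apply {F G : AlgSp.PSp S} (a : F ⟶ G) {X Y : (Over S)ᵒᵖ} (g : X ⟶ Y) (x : F.obj X) :
    a.app Y (F.map g x) = G.map g (a.app X x) :=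
  NatTrans.naturality_apply a g x

lemma map_map_apply (F : AlgSp.PSp S) {X Y Z : Over S} (g : X ⟶ Y) (h : Y ⟶ Z) (t : F.obj (op Z)) :
    F.map g.op (F.map h.op t) = F.map (g ≫ h).op t := by
  rw [op_comp, Functor.map_comp_apply]

lemma map_id_apply (F : AlgSp.PSp S) {X : Over S} (g : X ⟶ X) (hg : g = 𝟙 X) (t : F.obj (op X)) :
    F.map g.op t = t := by
  subst hg
  simp

lemma map_inj_of_comp_eq_id (F : AlgSp.PSp S) {X Y : Over S} (g : Y ⟶ X) (h : X ⟶ Y)
    (hgh : g ≫ h = 𝟙 Y) {t t' : F.obj (op Y)} (ht : F.map h.op t = F.map h.op t') : t = t' := by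
  have h2 := congrArg (F.map g.op) ht
  rw [map_map_apply, map_map_apply, map_id_apply F _ hgh, map_id_apply F _ hgh] at h2
  exact h2

section Rebase

variable (T : Over S) {I : Type u} [SmallCategory I] (D : I ⥤ Over T.left)
  (cc : Cone D) (i : I)

/-- the scheme `D i` over `S` -/
abbrev Ti : Over S := (Over.map T.hom).obj (D.obj i)

/-- the system over `D i` -/
abbrev D' : Over i ⥤ Over (D.obj i).left := Over.post (D ⋙ Over.forget T.left)

/-- the cone over `D i` -/
abbrev cc' : Cone (D' T D i) := ((Over.forget T.left).mapCone cc).overPost i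

/-- the restricted cone is still a limit cone of schemes -/
noncomputable def isLimit' [IsCofiltered I] (hcc : IsLimit ((Over.forget T.left).mapCone cc)) :
    IsLimit ((Over.forget (D.obj i).left).mapCone (cc' T D cc i)) := by
  have h1 : IsLimit (((Over.forget T.left).mapCone cc).whisker (Over.forget i)) :=
    (Functor.Initial.isLimitWhiskerEquiv (Over.forget i) _).symm hcc
  exact IsLimit.ofIsoLimit h1 (Cone.ext (Iso.refl _) (fun _ => by simp; rfl))

/-- comparison at stage `m` -/
def θ (m : Over i) :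
    (Over.map (Ti T D i).hom).obj ((D' T D i).obj m) ⟶ (Over.map T.hom).obj (D.obj m.left) :=
  Over.homMk (𝟙 _) (by
    have h := Over.w (D.map m.hom)
    change 𝟙 _ ≫ ((D.obj m.left).hom ≫ T.hom) = (D.map m.hom).left ≫ (D.obj i).hom ≫ T.hom
    rw [Category.id_comp, ← Category.assoc, h])

def θinv (m : Over i) :
    (Over.map T.hom).obj (D.obj m.left) ⟶ (Over.map (Ti T D i).hom).obj ((D' T D i).obj m) :=
  Over.homMk (𝟙 _) (by
    have h := Over.w (D.map m.hom)
    change 𝟙 _ ≫ ((D.map m.hom).left ≫ (D.obj i).hom ≫ T.hom) = (D.obj m.left).hom ≫ T.hom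
    rw [Category.id_comp, ← Category.assoc, h])

/-- comparison at the cone point -/
def θpt :
    (Over.map (Ti T D i).hom).obj (cc' T D cc i).pt ⟶ (Over.map T.hom).obj cc.pt :=
  Over.homMk (𝟙 _) (by
    have h : (cc.π.app i).left ≫ (D.obj i).hom = cc.pt.hom := Over.w (cc.π.app i)
    change 𝟙 _ ≫ (cc.pt.hom ≫ T.hom) = (cc.π.app i).left ≫ (D.obj i).hom ≫ T.hom
    rw [Category.id_comp, ← Category.assoc, h])

def θptinv :
    (Over.map T.hom).obj cc.pt ⟶ (Over.map (Ti T D i).hom).obj (cc' T D cc i).pt :=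
  Over.homMk (𝟙 _) (by
    have h : (cc.π.app i).left ≫ (D.obj i).hom = cc.pt.hom := Over.w (cc.π.app i)
    change 𝟙 _ ≫ ((cc.π.app i).left ≫ (D.obj i).hom ≫ T.hom) = cc.pt.hom ≫ T.hom
    rw [Category.id_comp, ← Category.assoc, h])

lemma θptinv_θpt : θptinv T D cc i ≫ θpt T D cc i = 𝟙 _ := by
  ext
  change 𝟙 _ ≫ 𝟙 _ = 𝟙 _
  simp

lemma θinv_θ (m : Over i) : θinv T D i m ≫ θ T D i m = 𝟙 _ := by
  ext
  change 𝟙 _ ≫ 𝟙 _ = 𝟙 _
  simp

lemma θpt_overHom :
    θpt T D cc i ≫ (Over.map T.hom).map (cc.π.app i) =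
      AlgSp.overHom (Ti T D i) (cc' T D cc i).pt := by
  ext
  change 𝟙 _ ≫ (cc.π.app i).left = (cc.π.app i).left
  simp

lemma θinv_overHom (m : Over i) :
    θinv T D i m ≫ AlgSp.overHom (Ti T D i) ((D' T D i).obj m) =
      (Over.map T.hom).map (D.map m.hom) := by
  ext
  change 𝟙 _ ≫ (D.map m.hom).left = (D.map m.hom).left
  simp

lemma θ_overHom (m : Over i) :
    θ T D i m ≫ (Over.map T.hom).map (D.map m.hom) =
      AlgSp.overHom (Ti T D i) ((D' T D i).obj m) := by
  ext
  change 𝟙 _ ≫ (D.map m.hom).left = (D.map m.hom).left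
  simp

lemma θinv_naturality (m : Over i) :
    (Over.map T.hom).map (cc.π.app m.left) ≫ θinv T D i m =
      θptinv T D cc i ≫ (Over.map (Ti T D i).hom).map ((cc' T D cc i).π.app m) := by
  ext
  change (cc.π.app m.left).left ≫ 𝟙 _ = 𝟙 _ ≫ (cc.π.app m.left).left
  simp

lemma θ_naturality (m : Over i) :
    (Over.map (Ti T D i).hom).map ((cc' T D cc i).π.app m) ≫ θ T D i m =
      θpt T D cc i ≫ (Over.map T.hom).map (cc.π.app m.left) := by
  ext
  change (cc.π.app m.left).left ≫ 𝟙 _ = 𝟙 _ ≫ (cc.π.app m.left).left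
  simp

lemma θ_map {m' m : Over i} (g : m' ⟶ m) :
    (Over.map (Ti T D i).hom).map ((D' T D i).map g) ≫ θ T D i m =
      θ T D i m' ≫ (Over.map T.hom).map (D.map g.left) := by
  ext
  change (D.map g.left).left ≫ 𝟙 _ = 𝟙 _ ≫ (D.map g.left).left
  simp

variable {F G : AlgSp.PSp S} (a : F ⟶ G) [IsCofiltered I]

include a in
theorem abs_surj (ha : AlgSp.IsRelLimitPreserving a)
    (hcc : IsLimit ((Over.forget T.left).mapCone cc)) (hD : ∀ i, IsAffine (D.obj i).left)
    (hT : IsAffine cc.pt.left)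
    (z : G.obj (op (Ti T D i))) (x : F.obj (op ((Over.map T.hom).obj cc.pt)))
    (hx : a.app _ x = G.map ((Over.map T.hom).map (cc.π.app i)).op z) :
    ∃ (m : Over i) (xm : F.obj (op ((Over.map T.hom).obj (D.obj m.left)))),
      a.app _ xm = G.map ((Over.map T.hom).map (D.map m.hom)).op z ∧
      F.map ((Over.map T.hom).map (cc.π.app m.left)).op xm = x := by
  obtain ⟨hcol⟩ := ha (Ti T D i) z (D' T D i) (cc' T D cc i) (isLimit' T D cc i hcc)
    (fun m => hD m.left) hT
  -- the element of the fibre over the cone point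
  let x' : (AlgSp.fiberFun a (Ti T D i) z).obj (op (cc' T D cc i).pt) :=
    ⟨F.map (θpt T D cc i).op x, by
      rw [nat_apply, hx, map_map_apply, θpt_overHom]⟩
  obtain ⟨m, xm', hxm'⟩ := Types.jointly_surjective_of_isColimit hcol x'
  let xm1 : F.obj (op ((Over.map (Ti T D i).hom).obj ((D' T D i).obj m.unop))) := xm'.1
  have h2 : a.app (op ((Over.map (Ti T D i).hom).obj ((D' T D i).obj m.unop))) xm1 =
      G.map (AlgSp.overHom (Ti T D i) ((D' T D i).obj m.unop)).op z := xm'.2
  refine ⟨m.unop, F.map (θinv T D i m.unop).op xm1, ?_, ?_⟩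
  · rw [nat_apply, h2, map_map_apply, θinv_overHom]
  · rw [map_map_apply, θinv_naturality, ← map_map_apply]
    have h1 := congrArg Subtype.val hxm'
    change F.map ((Over.map (Ti T D i).hom).map ((cc' T D cc i).π.app m.unop)).op xm1 =
      F.map (θpt T D cc i).op x at h1
    rw [h1, map_map_apply]
    exact map_id_apply F _ (θptinv_θpt T D cc i) x

include a in
theorem abs_inj (ha : AlgSp.IsRelLimitPreserving a)
    (hcc : IsLimit ((Over.forget T.left).mapCone cc)) (hD : ∀ i, IsAffine (D.obj i).left)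
    (hT : IsAffine cc.pt.left)
    (z : G.obj (op (Ti T D i))) (m : Over i)
    (x x' : F.obj (op ((Over.map T.hom).obj (D.obj m.left))))
    (hx : a.app _ x = G.map ((Over.map T.hom).map (D.map m.hom)).op z)
    (hx' : a.app _ x' = G.map ((Over.map T.hom).map (D.map m.hom)).op z)
    (h : F.map ((Over.map T.hom).map (cc.π.app m.left)).op x =
      F.map ((Over.map T.hom).map (cc.π.app m.left)).op x') :
    ∃ (m' : Over i) (g : m' ⟶ m),
      F.map ((Over.map T.hom).map (D.map g.left)).op x =
        F.map ((Over.map T.hom).map (D.map g.left)).op x' := by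
  obtain ⟨hcol⟩ := ha (Ti T D i) z (D' T D i) (cc' T D cc i) (isLimit' T D cc i hcc)
    (fun m => hD m.left) hT
  let xx : (AlgSp.fiberFun a (Ti T D i) z).obj (op ((D' T D i).obj m)) :=
    ⟨F.map (θ T D i m).op x, by rw [nat_apply, hx, map_map_apply, θ_overHom]⟩
  let xx' : (AlgSp.fiberFun a (Ti T D i) z).obj (op ((D' T D i).obj m)) :=
    ⟨F.map (θ T D i m).op x', by rw [nat_apply, hx', map_map_apply, θ_overHom]⟩
  have hEq : ((AlgSp.fiberFun a (Ti T D i) z).mapCocone (cc' T D cc i).op).ι.app (op m) xx =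
      ((AlgSp.fiberFun a (Ti T D i) z).mapCocone (cc' T D cc i).op).ι.app (op m) xx' := by
    apply Subtype.ext
    change F.map ((Over.map (Ti T D i).hom).map ((cc' T D cc i).π.app m)).op
        (F.map (θ T D i m).op x) =
      F.map ((Over.map (Ti T D i).hom).map ((cc' T D cc i).π.app m)).op
        (F.map (θ T D i m).op x')
    rw [map_map_apply, map_map_apply, θ_naturality, ← map_map_apply, ← map_map_apply, h]
  obtain ⟨k, f, hk⟩ := (Types.FilteredColimit.isColimit_eq_iff' hcol _ _).1 hEq
  refine ⟨k.unop, f.unop, ?_⟩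
  have h1 := congrArg Subtype.val hk
  change F.map ((Over.map (Ti T D i).hom).map ((D' T D i).map f.unop)).op
        (F.map (θ T D i m).op x) =
      F.map ((Over.map (Ti T D i).hom).map ((D' T D i).map f.unop)).op
        (F.map (θ T D i m).op x') at h1
  rw [map_map_apply, map_map_apply, θ_map, ← map_map_apply, ← map_map_apply] at h1
  exact map_inj_of_comp_eq_id F _ _ (θinv_θ T D i k.unop) h1

end Rebase

end RLP

namespace RLP

variable {S : Scheme.{u}} {F G H : AlgSp.PSp S}

/-- the image under `a` of an element of the fibre of `a ≫ b` lies in the fibre of `b`. -/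
def pushFib (a : F ⟶ G) (b : G ⟶ H) (T : Over S) (y : H.obj (op T)) (T' : (Over T.left)ᵒᵖ)
    (x : (AlgSp.fiberFun (a ≫ b) T y).obj T') : (AlgSp.fiberFun b T y).obj T' :=
  ⟨a.app _ x.1, x.2⟩

lemma pushFib_map (a : F ⟶ G) (b : G ⟶ H) (T : Over S) (y : H.obj (op T))
    {T' T'' : (Over T.left)ᵒᵖ} (g : T' ⟶ T'') (x : (AlgSp.fiberFun (a ≫ b) T y).obj T') :
    (AlgSp.fiberFun b T y).map g (pushFib a b T y T' x) =
      pushFib a b T y T'' ((AlgSp.fiberFun (a ≫ b) T y).map g x) := by
  apply Subtype.ext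
  change G.map _ (a.app _ x.1) = a.app _ (F.map _ x.1)
  rw [nat_apply]

theorem comp (a : F ⟶ G) (b : G ⟶ H)
    (ha : AlgSp.IsRelLimitPreserving a) (hb : AlgSp.IsRelLimitPreserving b) :
    AlgSp.IsRelLimitPreserving (a ≫ b) := by
  intro T y I _ _ D c hc hD hT
  obtain ⟨hΨ⟩ := hb T y D c hc hD hT
  refine ⟨Types.FilteredColimit.isColimitOf' _ _ ?_ ?_⟩
  · -- surjectivity
    intro x
    obtain ⟨j, zj, hzj⟩ := Types.jointly_surjective_of_isColimit hΨ (pushFib a b T y _ x)
    let z1 : G.obj (op (Ti T D j.unop)) := zj.1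
    have hz1 : b.app (op (Ti T D j.unop)) z1 = H.map (AlgSp.overHom T (D.obj j.unop)).op y := zj.2
    have h1 := congrArg Subtype.val hzj
    change G.map ((Over.map T.hom).map (c.π.app j.unop)).op z1 = a.app _ x.1 at h1
    obtain ⟨m, xm, hxm1, hxm2⟩ := abs_surj T D c j.unop a ha hc hD hT z1 x.1 h1.symm
    refine ⟨op m.left, ⟨xm, ?_⟩, ?_⟩
    · change b.app _ (a.app _ xm) = _
      rw [hxm1, nat_apply, hz1, map_map_apply, AlgSp.map_comp_overHom]
      rfl
    · apply Subtype.ext
      exact hxm2.symm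
  · -- injectivity
    intro j x x' h
    have hEq : ((AlgSp.fiberFun b T y).mapCocone c.op).ι.app j (pushFib a b T y _ x) =
        ((AlgSp.fiberFun b T y).mapCocone c.op).ι.app j (pushFib a b T y _ x') := by
      change (AlgSp.fiberFun b T y).map (c.π.app j.unop).op (pushFib a b T y _ x) =
        (AlgSp.fiberFun b T y).map (c.π.app j.unop).op (pushFib a b T y _ x')
      rw [pushFib_map, pushFib_map]
      congr 1
    obtain ⟨k, f, hk⟩ := (Types.FilteredColimit.isColimit_eq_iff' hΨ _ _).1 hEq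
    change (AlgSp.fiberFun b T y).map (D.map f.unop).op (pushFib a b T y _ x) =
        (AlgSp.fiberFun b T y).map (D.map f.unop).op (pushFib a b T y _ x') at hk
    rw [pushFib_map, pushFib_map] at hk
    have hk1 := congrArg Subtype.val hk
    change a.app _ (F.map ((Over.map T.hom).map (D.map f.unop)).op x.1) =
      a.app _ (F.map ((Over.map T.hom).map (D.map f.unop)).op x'.1) at hk1
    -- the common image
    let xk : F.obj (op ((Over.map T.hom).obj (D.obj k.unop))) :=
      F.map ((Over.map T.hom).map (D.map f.unop)).op x.1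
    let xk' : F.obj (op ((Over.map T.hom).obj (D.obj k.unop))) :=
      F.map ((Over.map T.hom).map (D.map f.unop)).op x'.1
    let z : G.obj (op (Ti T D k.unop)) := a.app _ xk
    let m : Over k.unop := Over.mk (𝟙 k.unop)
    have hid : ∀ t : G.obj (op (Ti T D k.unop)),
        G.map ((Over.map T.hom).map (D.map m.hom)).op t = t := by
      intro t
      apply map_id_apply
      change (Over.map T.hom).map (D.map (𝟙 k.unop)) = 𝟙 _
      rw [D.map_id, CategoryTheory.Functor.map_id]
    have hxk : a.app _ xk = G.map ((Over.map T.hom).map (D.map m.hom)).op z := (hid z).symm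
    have hxk' : a.app _ xk' = G.map ((Over.map T.hom).map (D.map m.hom)).op z := by
      rw [hid z]
      exact hk1.symm
    have hpt : F.map ((Over.map T.hom).map (c.π.app m.left)).op xk =
        F.map ((Over.map T.hom).map (c.π.app m.left)).op xk' := by
      change F.map ((Over.map T.hom).map (c.π.app k.unop)).op
          (F.map ((Over.map T.hom).map (D.map f.unop)).op x.1) =
        F.map ((Over.map T.hom).map (c.π.app k.unop)).op
          (F.map ((Over.map T.hom).map (D.map f.unop)).op x'.1)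
      rw [map_map_apply, map_map_apply, ← Functor.map_comp, c.w f.unop]
      have h2 := congrArg Subtype.val h
      exact h2
    obtain ⟨m', g, hg⟩ := abs_inj T D c k.unop a ha hc hD hT z m xk xk' hxk hxk' hpt
    refine ⟨op m'.left, (g.left ≫ f.unop).op, ?_⟩
    apply Subtype.ext
    change F.map ((Over.map T.hom).map (D.map (g.left ≫ f.unop))).op x.1 =
      F.map ((Over.map T.hom).map (D.map (g.left ≫ f.unop))).op x'.1
    rw [D.map_comp, Functor.map_comp, ← map_map_apply, ← map_map_apply]
    exact hg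

end RLP

end Groth.Agent.S10025.Aux

namespace Groth.Agent.S10025

/-- The composite of two relatively limit preserving transformations of presheaves of sets on schemes
over `S` is relatively limit preserving. -/
theorem result (S : Scheme.{u}) {F G H : AlgSp.PSp S} (a : F ⟶ G) (b : G ⟶ H)
    (ha : AlgSp.IsRelLimitPreserving a) (hb : AlgSp.IsRelLimitPreserving b) :
    AlgSp.IsRelLimitPreserving (a ≫ b) := by
  exact Aux.RLP.comp a b ha hb

end Groth.Agent.S10025
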