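import Groth.Statements.S3571
import Groth.Agent.Lib.Helper45.QCohStalk
import Mathlib.AlgebraicGeometry.Normalization

set_option autoImplicit false
universe u
open CategoryTheory AlgebraicGeometry TopologicalSpace
open EGA2

namespace Groth.Agent.S3571

open Groth.Agent.Lib.Helper45 Opposite Limits

section Loc

variable {S : Scheme.{u}}
    (B : Sheaf (Opens.grothendieckTopology S) CommRingCat.{u}) (φ : S.sheaf ⟶ B)

/-- `B` as an `O_S`-module. -/
noncomputable abbrev M : S.Modules := ((SheafOfModules.restrictScalars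
      ((sheafCompose (Opens.grothendieckTopology S) (forget₂ CommRingCat.{u} RingCat.{u})).map φ)).obj
      (SheafOfModules.unit ((sheafCompose (Opens.grothendieckTopology S) (forget₂ CommRingCat.{u} RingCat.{u})).obj B)))

/-- the structure map as a morphism of presheaves -/
noncomputable abbrev α : S.presheaf ⟶ B.obj := φ.hom

theorem naturality_apply (α : S.presheaf ⟶ B.obj) {U V : S.Opens} (i : U ⟶ V) (r : Γ(S, V)) :
    (B.obj.map i.op).hom ((α.app (op V)).hom r) =
      (α.app (op U)).hom ((S.presheaf.map i.op).hom r) := by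
  have := α.naturality i.op
  exact (congr($(this).hom r)).symm

theorem isLocalization_away [(M B φ).IsQuasicoherent] {U : S.Opens} (hU : IsAffineOpen U)
    (r : Γ(S, U)) :
    letI := (B.obj.map (homOfLE (S.basicOpen_le r)).op).hom.toAlgebra
    IsLocalization.Away (((α B φ).app (op U)).hom r) (B.obj.obj (op (S.basicOpen r))) := by
  let _ := (B.obj.map (homOfLE (S.basicOpen_le r)).op).hom.toAlgebra
  have halg : ∀ x : B.obj.obj (op U), algebraMap (B.obj.obj (op U)) (B.obj.obj (op (S.basicOpen r))) x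
      = (B.obj.map (homOfLE (S.basicOpen_le r)).op).hom x := fun _ => rfl
  have key1 : ∀ z : B.obj.obj (op (S.basicOpen r)), ∃ (n : ℕ) (t : B.obj.obj (op U)),
      (B.obj.map (homOfLE (S.basicOpen_le r)).op).hom t =
      ((α B φ).app (op (S.basicOpen r))).hom ((S.presheaf.map (homOfLE (S.basicOpen_le r)).op).hom r ^ n) * z := by
    intro z
    obtain ⟨n, t, ht⟩ := exists_restrict_eq_pow_smul hU (M B φ) r z
    exact ⟨n, t, ht⟩
  have key2 : ∀ x : B.obj.obj (op U), (B.obj.map (homOfLE (S.basicOpen_le r)).op).hom x = 0 →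
      ∃ n : ℕ, ((α B φ).app (op U)).hom (r ^ n) * x = 0 := by
    intro x hx
    obtain ⟨n, hn⟩ := exists_pow_smul_eq_zero_of_restrict_eq_zero hU (M B φ) r x hx
    exact ⟨n, hn⟩
  generalize α B φ = a at *
  have hunit : IsUnit ((B.obj.map (homOfLE (S.basicOpen_le r)).op).hom ((a.app (op U)).hom r)) := by
    rw [naturality_apply]
    exact (RingedSpace.isUnit_res_basicOpen S.toRingedSpace r).map _
  refine ⟨?_, ?_, ?_⟩
  · rintro ⟨_, n, rfl⟩
    rw [halg, map_pow]
    exact hunit.pow n
  · intro z
    obtain ⟨n, t, ht⟩ := key1 z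
    refine ⟨⟨t, ⟨_, n, rfl⟩⟩, ?_⟩
    rw [halg, halg]
    simp only
    rw [map_pow, naturality_apply, mul_comm, ht, map_pow]
  · intro x y hxy
    rw [halg, halg] at hxy
    obtain ⟨n, hn⟩ := key2 (x - y) (by rw [map_sub, hxy, sub_self])
    refine ⟨⟨_, n, rfl⟩, ?_⟩
    rw [map_pow, mul_sub, sub_eq_zero] at hn
    exact hn


end Loc

section Glue

open Scheme AffineZariskiSite

variable {S : Scheme.{u}}
    (B : Sheaf (Opens.grothendieckTopology S) CommRingCat.{u}) (a : S.presheaf ⟶ B.obj)

/-- restriction of `B` to the affine site -/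
noncomputable abbrev F : S.AffineZariskiSiteᵒᵖ ⥤ CommRingCat.{u} := (toOpensFunctor S).op ⋙ B.obj

noncomputable abbrev αF : (toOpensFunctor S).op ⋙ S.presheaf ⟶ F B :=
  (toOpensFunctor S).op.whiskerLeft a

variable (H : ∀ (U : S.Opens) (_ : IsAffineOpen U) (r : Γ(S, U)),
    letI := (B.obj.map (homOfLE (S.basicOpen_le r)).op).hom.toAlgebra
    IsLocalization.Away ((a.app (op U)).hom r) (B.obj.obj (op (S.basicOpen r))))

include H in
theorem coequifibered : (αF B a).Coequifibered := by
  refine coequifibered_iff_forall_isLocalizationAway.mpr fun U r ↦ ?_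
  exact H U.1 U.2 r

noncomputable def D : (directedCover S).RelativeGluingData := relativeGluingData (coequifibered B a H)

instance : ((D B a H).functor ⋙ Scheme.forget).IsLocallyDirected :=
  Cover.RelativeGluingData.instIsLocallyDirectedI₀CompFunctorForgetOfIsThin ..

noncomputable def X : Scheme.{u} := (D B a H).glued
noncomputable def f : X B a H ⟶ S := (D B a H).toBase

lemma aff (U : S.AffineZariskiSite) : IsAffineOpen U.toOpens := U.2

lemma toOpens_le {U V : S.AffineZariskiSite} (i : U ⟶ V) : U.toOpens ≤ V.toOpens :=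
  toOpens_mono i.le

/-- the affine charts of the relative spectrum -/
noncomputable def ι (U : S.AffineZariskiSite) : Spec (B.obj.obj (op U.toOpens)) ⟶ X B a H :=
  (D B a H).cover.f U

instance (U : S.AffineZariskiSite) : IsOpenImmersion (ι B a H U) :=
  inferInstanceAs (IsOpenImmersion ((D B a H).cover.f _))

@[reassoc]
lemma ι_f (U : S.AffineZariskiSite) :
    ι B a H U ≫ f B a H = Spec.map (a.app (op U.toOpens)) ≫ (aff U).fromSpec :=
  colimit.ι_desc _ _

lemma f_preimage (U : S.AffineZariskiSite) :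
    f B a H ⁻¹ᵁ U.toOpens = (ι B a H U).opensRange := by
  simpa using! (D B a H).toBase_preimage_eq_opensRange_ι U

instance : IsAffineHom (f B a H) := by
  refine ⟨fun U hU => ?_⟩
  rw [f_preimage B a H ⟨U, hU⟩]
  exact isAffineOpen_opensRange _

@[reassoc]
lemma ι_w {U V : S.AffineZariskiSite} (i : U ⟶ V) :
    Spec.map (B.obj.map (homOfLE (toOpens_le i)).op) ≫ ι B a H V = ι B a H U :=
  colimit.w (D B a H).functor i

lemma ι_preimage (U : S.AffineZariskiSite) : ι B a H U ⁻¹ᵁ f B a H ⁻¹ᵁ U.toOpens = ⊤ := by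
  rw [f_preimage]; simp

/-- The comparison map on an affine open. -/
noncomputable def η (U : S.AffineZariskiSite) :
    Γ(X B a H, f B a H ⁻¹ᵁ U.toOpens) ⟶ B.obj.obj (op U.toOpens) :=
  (ι B a H U).appLE (f B a H ⁻¹ᵁ U.toOpens) ⊤ (ι_preimage B a H U).ge ≫
    (Scheme.ΓSpecIso (B.obj.obj (op U.toOpens))).hom

lemma isIso_appLE_of_eq {X Y : Scheme.{u}} (g : X ⟶ Y) [IsOpenImmersion g] (V : Y.Opens) (W : X.Opens)
    (h1 : V ≤ g.opensRange) (h2 : W = g ⁻¹ᵁ V) : IsIso (g.appLE V W h2.le) := by
  subst h2
  rw [← Scheme.Hom.app_eq_appLE]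
  exact Scheme.Hom.isIso_app g V h1

instance (U : S.AffineZariskiSite) : IsIso (η B a H U) := by
  have := isIso_appLE_of_eq (ι B a H U) (f B a H ⁻¹ᵁ U.toOpens) ⊤ (by rw [f_preimage])
    (ι_preimage B a H U).symm
  unfold η
  infer_instance

@[reassoc]
lemma appLE_comp_appTop {X Y Z : Scheme.{u}} (g : X ⟶ Y) (h : Y ⟶ Z) (U : Z.Opens)
    (e : ⊤ ≤ h ⁻¹ᵁ U) :
    h.appLE U ⊤ e ≫ g.appTop = (g ≫ h).appLE U ⊤ (by
      rw [Scheme.Hom.comp_preimage, top_le_iff.mp e]; simp) := by
  have : g.appTop = g.appLE ⊤ ⊤ le_top := by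
    rw [Scheme.Hom.appLE]
    exact (Category.comp_id _).symm.trans (by congr 1; exact (X.presheaf.map_id _).symm)
  rw [this, Scheme.Hom.appLE_comp_appLE]

lemma η_naturality {U V : S.AffineZariskiSite} (i : U ⟶ V) :
    (X B a H).presheaf.map (homOfLE ((f B a H).preimage_mono (toOpens_le i))).op ≫ η B a H U =
      η B a H V ≫ B.obj.map (homOfLE (toOpens_le i)).op := by
  unfold η
  rw [Scheme.Hom.map_appLE_assoc, Category.assoc, ← Scheme.ΓSpecIso_naturality,
    appLE_comp_appTop_assoc]
  simp_rw [ι_w B a H i]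

lemma fromSpec_appLE_top {U : S.Opens} (hU : IsAffineOpen U) :
    hU.fromSpec.appLE U ⊤ (by rw [hU.fromSpec_preimage_self]) = (Scheme.ΓSpecIso Γ(S, U)).inv := by
  rw [Scheme.Hom.appLE, hU.fromSpec_app_self, Category.assoc, ← Functor.map_comp]
  exact (congrArg _ (by convert (Spec Γ(S, U)).presheaf.map_id _; exact Subsingleton.elim _ _)).trans
    (Category.comp_id _)

lemma a_eq (U : S.AffineZariskiSite) :
    a.app (op U.toOpens) = (f B a H).app U.toOpens ≫ η B a H U := by
  unfold η
  rw [Scheme.Hom.app_eq_appLE, Scheme.Hom.appLE_comp_appLE_assoc]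
  simp_rw [ι_f B a H U]
  rw [← appLE_comp_appTop_assoc _ _ _ (by rw [(aff U).fromSpec_preimage_self]),
    Scheme.ΓSpecIso_naturality, fromSpec_appLE_top, Iso.inv_hom_id_assoc]

variable (S) in
/-- restriction of sheaves to the affine site -/
noncomputable abbrev R : Sheaf (Opens.grothendieckTopology S) CommRingCat.{u} ⥤
    Sheaf (grothendieckTopology S) CommRingCat.{u} :=
  (toOpensFunctor S).sheafPushforwardContinuous CommRingCat.{u} (grothendieckTopology S)
    (Opens.grothendieckTopology S)

/-- the direct image of the structure sheaf -/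
noncomputable abbrev P : Sheaf (Opens.grothendieckTopology S) CommRingCat.{u} :=
  (TopCat.Sheaf.pushforward CommRingCat.{u} (f B a H).base).obj (X B a H).sheaf

noncomputable def ηI (U : S.AffineZariskiSite) :
    Γ(X B a H, f B a H ⁻¹ᵁ U.toOpens) ≅ B.obj.obj (op U.toOpens) := asIso (η B a H U)

noncomputable def ηIso : (R S).obj (P B a H) ≅ (R S).obj B :=
  (fullyFaithfulSheafToPresheaf _ _).preimageIso
    (NatIso.ofComponents (fun U => ηI B a H U.unop) (by
      rintro ⟨V⟩ ⟨U⟩ ⟨i⟩
      exact η_naturality B a H i))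

noncomputable def e : B ≅ P B a H := ((R S).preimageIso (ηIso B a H)).symm

/-- `f.c` as a morphism of sheaves -/
noncomputable def fc : (show Sheaf (Opens.grothendieckTopology S) CommRingCat.{u} from S.sheaf) ⟶ P B a H :=
  ⟨(f B a H).c⟩

lemma compat (φ : (show Sheaf (Opens.grothendieckTopology S) CommRingCat.{u} from S.sheaf) ⟶ B)
    (hφ : φ.hom = a) : φ ≫ (e B a H).hom = fc B a H := by
  apply (R S).map_injective
  rw [Functor.map_comp]
  have : (R S).map (e B a H).hom = (ηIso B a H).inv := by
    simp [e]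
  rw [this, Iso.comp_inv_eq]
  apply Sheaf.hom_ext
  apply NatTrans.ext
  funext U
  subst hφ
  exact a_eq B φ.hom H U.unop


end Glue

/-- Let S be a scheme and B a sheaf of commutative rings on S with a morphism O_S → B making B a
quasi-coherent O_S-module (a quasi-coherent O_S-algebra). Then there are a scheme X and an affine
morphism f : X → S together with an isomorphism of sheaves of rings B ≅ f_*O_X compatible with the
two structure maps from O_S (X is the relative spectrum of B; it is in fact unique up to unique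
S-isomorphism, but only existence is asserted here). -/
theorem result {S : Scheme.{u}}
    (B : Sheaf (Opens.grothendieckTopology S) CommRingCat.{u}) (φ : S.sheaf ⟶ B)
    (hB : Coh.IsQCoh ((SheafOfModules.restrictScalars
      ((sheafCompose (Opens.grothendieckTopology S) (forget₂ CommRingCat.{u} RingCat.{u})).map φ)).obj
      (SheafOfModules.unit ((sheafCompose (Opens.grothendieckTopology S) (forget₂ CommRingCat.{u} RingCat.{u})).obj B)))) :
    ∃ (X : Scheme.{u}) (f : X ⟶ S) (_ : IsAffineHom f)
      (e : B ≅ (TopCat.Sheaf.pushforward CommRingCat.{u} f.base).obj X.sheaf),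
      (φ ≫ e.hom).hom = f.c := by
  have hB' : (M B φ).IsQuasicoherent := hB
  have H : ∀ (U : S.Opens) (_ : IsAffineOpen U) (r : Γ(S, U)),
      letI := (B.obj.map (homOfLE (S.basicOpen_le r)).op).hom.toAlgebra
      IsLocalization.Away (((α B φ).app (op U)).hom r) (B.obj.obj (op (S.basicOpen r))) :=
    fun U hU r => isLocalization_away B φ hU r
  refine ⟨X B (α B φ) H, f B (α B φ) H, inferInstance, e B (α B φ) H, ?_⟩
  exact congrArg (fun g => g.hom) (compat B (α B φ) H φ rfl)

end Groth.Agent.S3571
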