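import Groth.Statements.S2151
import Groth.Agent.Lib.Helper13.AffLim

set_option autoImplicit false
universe u
open CategoryTheory AlgebraicGeometry
open Lim

namespace Groth.Agent.S2151

/-- Existence of the limit and part (1): a diagram of schemes indexed by a small cofiltered category all
of whose transition morphisms are affine has a limit in the category of schemes, and every
projection from the limit is an affine morphism. -/
theorem result {I : Type u} [SmallCategory I] [IsCofiltered I] (D : I ⥤ Scheme.{u})
    [∀ (i j : I) (f : i ⟶ j), IsAffineHom (D.map f)] :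
    ∃ (c : Limits.Cone D) (_ : Limits.IsLimit c), ∀ i, IsAffineHom (c.π.app i) := by
  obtain ⟨i₀⟩ := IsCofiltered.nonempty (C := I)
  have hD : ∀ {i j : I} (f : i ⟶ j), IsAffineHom (D.map f) := fun f => inferInstance
  have h1 : Limits.HasLimit (Over.forget i₀ ⋙ D) :=
    @Groth.Agent.Lib.Helper13.AffLim.hasLimit _ _ (Over.forget i₀ ⋙ D) (D.obj i₀)
      (fun j => D.map j.hom)
      (fun {j k} φ => by
        change D.map φ.left ≫ D.map k.hom = D.map j.hom
        rw [← D.map_comp, Over.w])
      inferInstance (fun j => hD j.hom)
  have : Limits.HasLimit D := Functor.Initial.hasLimit_of_comp (Over.forget i₀)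
  exact ⟨Limits.limit.cone D, Limits.limit.isLimit D,
    fun i => isAffineHom_π_app D _ (Limits.limit.isLimit D) i⟩

end Groth.Agent.S2151
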