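import Groth.Statements.S10067
import Mathlib
import Groth.Prelude.Def_AlgSpRep

set_option autoImplicit false
universe u
open CategoryTheory CategoryTheory.Limits AlgebraicGeometry
open AlgSp

namespace Groth.Agent.S10067.Aux

open CategoryTheory CategoryTheory.Limits AlgebraicGeometry Opposite

namespace RLP2

variable {S : Scheme.{u}}

/-- elementwise naturality -/
lemma nat_apply {F G : AlgSp.PSp S} (a : F ⟶ G) {X Y : (Over S)ᵒᵖ} (g : X ⟶ Y) (x : F.obj X) :
    a.app Y (F.map g x) = G.map g (a.app X x) :=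
  NatTrans.naturality_apply a g x

lemma map_map_apply (F : AlgSp.PSp S) {X Y Z : Over S} (g : X ⟶ Y) (h : Y ⟶ Z) (t : F.obj (op Z)) :
    F.map g.op (F.map h.op t) = F.map (g ≫ h).op t := by
  rw [op_comp, Functor.map_comp_apply]

lemma map_id_apply (F : AlgSp.PSp S) {X : Over S} (g : X ⟶ X) (hg : g = 𝟙 X) (t : F.obj (op X)) :
    F.map g.op t = t := by
  subst hg
  simp

lemma map_inj_of_comp_eq_id (F : AlgSp.PSp S) {X Y : Over S} (g : Y ⟶ X) (h : X ⟶ Y)
    (hgh : g ≫ h = 𝟙 Y) {t t' : F.obj (op Y)} (ht : F.map h.op t = F.map h.op t') : t = t' := by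
  have h2 := congrArg (F.map g.op) ht
  rw [map_map_apply, map_map_apply, map_id_apply F _ hgh, map_id_apply F _ hgh] at h2
  exact h2

section Rebase

variable {I : Type u} [SmallCategory I] (D : I ⥤ Over S) (cc : Cone D) (i : I)

/-- the system over `D i` -/
abbrev D' : Over i ⥤ Over (D.obj i).left := Over.post (D ⋙ Over.forget S)

/-- the cone over `D i` -/
abbrev cc' : Cone (D' D i) := ((Over.forget S).mapCone cc).overPost i

/-- the restricted cone is still a limit cone of schemes -/
noncomputable def isLimit' [IsCofiltered I] (hcc : IsLimit ((Over.forget S).mapCone cc)) :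
    IsLimit ((Over.forget (D.obj i).left).mapCone (cc' D cc i)) := by
  have h1 : IsLimit (((Over.forget S).mapCone cc).whisker (Over.forget i)) :=
    (Functor.Initial.isLimitWhiskerEquiv (Over.forget i) _).symm hcc
  exact IsLimit.ofIsoLimit h1 (Cone.ext (Iso.refl _) (fun _ => by simp; rfl))

/-- comparison at stage `m` -/
def θ (m : Over i) :
    (Over.map (D.obj i).hom).obj ((D' D i).obj m) ⟶ D.obj m.left :=
  Over.homMk (𝟙 _) (by
    have h := Over.w (D.map m.hom)
    change 𝟙 _ ≫ (D.obj m.left).hom = (D.map m.hom).left ≫ (D.obj i).hom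
    rw [Category.id_comp, h])

def θinv (m : Over i) :
    D.obj m.left ⟶ (Over.map (D.obj i).hom).obj ((D' D i).obj m) :=
  Over.homMk (𝟙 _) (by
    have h := Over.w (D.map m.hom)
    change 𝟙 _ ≫ ((D.map m.hom).left ≫ (D.obj i).hom) = (D.obj m.left).hom
    rw [Category.id_comp, h])

/-- comparison at the cone point -/
def θpt :
    (Over.map (D.obj i).hom).obj (cc' D cc i).pt ⟶ cc.pt :=
  Over.homMk (𝟙 _) (by
    have h : (cc.π.app i).left ≫ (D.obj i).hom = cc.pt.hom := Over.w (cc.π.app i)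
    change 𝟙 _ ≫ cc.pt.hom = (cc.π.app i).left ≫ (D.obj i).hom
    rw [Category.id_comp, h])

def θptinv :
    cc.pt ⟶ (Over.map (D.obj i).hom).obj (cc' D cc i).pt :=
  Over.homMk (𝟙 _) (by
    have h : (cc.π.app i).left ≫ (D.obj i).hom = cc.pt.hom := Over.w (cc.π.app i)
    change 𝟙 _ ≫ ((cc.π.app i).left ≫ (D.obj i).hom) = cc.pt.hom
    rw [Category.id_comp, h])

lemma θptinv_θpt : θptinv D cc i ≫ θpt D cc i = 𝟙 _ := by
  ext
  change 𝟙 _ ≫ 𝟙 _ = 𝟙 _
  simp

lemma θinv_θ (m : Over i) : θinv D i m ≫ θ D i m = 𝟙 _ := by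
  ext
  change 𝟙 _ ≫ 𝟙 _ = 𝟙 _
  simp

lemma θpt_overHom :
    θpt D cc i ≫ cc.π.app i = AlgSp.overHom (D.obj i) (cc' D cc i).pt := by
  ext
  change 𝟙 _ ≫ (cc.π.app i).left = (cc.π.app i).left
  simp

lemma θinv_overHom (m : Over i) :
    θinv D i m ≫ AlgSp.overHom (D.obj i) ((D' D i).obj m) = D.map m.hom := by
  ext
  change 𝟙 _ ≫ (D.map m.hom).left = (D.map m.hom).left
  simp

lemma θ_overHom (m : Over i) :
    θ D i m ≫ D.map m.hom = AlgSp.overHom (D.obj i) ((D' D i).obj m) := by
  ext
  change 𝟙 _ ≫ (D.map m.hom).left = (D.map m.hom).left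
  simp

lemma θinv_naturality (m : Over i) :
    cc.π.app m.left ≫ θinv D i m =
      θptinv D cc i ≫ (Over.map (D.obj i).hom).map ((cc' D cc i).π.app m) := by
  ext
  change (cc.π.app m.left).left ≫ 𝟙 _ = 𝟙 _ ≫ (cc.π.app m.left).left
  simp

lemma θ_naturality (m : Over i) :
    (Over.map (D.obj i).hom).map ((cc' D cc i).π.app m) ≫ θ D i m =
      θpt D cc i ≫ cc.π.app m.left := by
  ext
  change (cc.π.app m.left).left ≫ 𝟙 _ = 𝟙 _ ≫ (cc.π.app m.left).left
  simp

lemma θ_map {m' m : Over i} (g : m' ⟶ m) :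
    (Over.map (D.obj i).hom).map ((D' D i).map g) ≫ θ D i m =
      θ D i m' ≫ D.map g.left := by
  ext
  change (D.map g.left).left ≫ 𝟙 _ = 𝟙 _ ≫ (D.map g.left).left
  simp

variable {F G : AlgSp.PSp S} (a : F ⟶ G) [IsCofiltered I]

include a in
theorem abs_surj (ha : AlgSp.IsRelLimitPreserving a)
    (hcc : IsLimit ((Over.forget S).mapCone cc)) (hD : ∀ i, IsAffine (D.obj i).left)
    (hT : IsAffine cc.pt.left)
    (z : G.obj (op (D.obj i))) (x : F.obj (op cc.pt))
    (hx : a.app _ x = G.map (cc.π.app i).op z) :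
    ∃ (m : Over i) (xm : F.obj (op (D.obj m.left))),
      a.app _ xm = G.map (D.map m.hom).op z ∧
      F.map (cc.π.app m.left).op xm = x := by
  obtain ⟨hcol⟩ := ha (D.obj i) z (D' D i) (cc' D cc i) (isLimit' D cc i hcc)
    (fun m => hD m.left) hT
  -- the element of the fibre over the cone point
  let x' : (AlgSp.fiberFun a (D.obj i) z).obj (op (cc' D cc i).pt) :=
    ⟨F.map (θpt D cc i).op x, by
      rw [nat_apply, hx, map_map_apply, θpt_overHom]⟩
  obtain ⟨m, xm', hxm'⟩ := Types.jointly_surjective_of_isColimit hcol x'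
  let xm1 : F.obj (op ((Over.map (D.obj i).hom).obj ((D' D i).obj m.unop))) := xm'.1
  have h2 : a.app (op ((Over.map (D.obj i).hom).obj ((D' D i).obj m.unop))) xm1 =
      G.map (AlgSp.overHom (D.obj i) ((D' D i).obj m.unop)).op z := xm'.2
  refine ⟨m.unop, F.map (θinv D i m.unop).op xm1, ?_, ?_⟩
  · rw [nat_apply, h2, map_map_apply, θinv_overHom]
  · rw [map_map_apply, θinv_naturality, ← map_map_apply]
    have h1 := congrArg Subtype.val hxm'
    change F.map ((Over.map (D.obj i).hom).map ((cc' D cc i).π.app m.unop)).op xm1 =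
      F.map (θpt D cc i).op x at h1
    rw [h1, map_map_apply]
    exact map_id_apply F _ (θptinv_θpt D cc i) x

include a in
theorem abs_inj (ha : AlgSp.IsRelLimitPreserving a)
    (hcc : IsLimit ((Over.forget S).mapCone cc)) (hD : ∀ i, IsAffine (D.obj i).left)
    (hT : IsAffine cc.pt.left)
    (z : G.obj (op (D.obj i))) (m : Over i)
    (x x' : F.obj (op (D.obj m.left)))
    (hx : a.app _ x = G.map (D.map m.hom).op z)
    (hx' : a.app _ x' = G.map (D.map m.hom).op z)
    (h : F.map (cc.π.app m.left).op x = F.map (cc.π.app m.left).op x') :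
    ∃ (m' : Over i) (g : m' ⟶ m),
      F.map (D.map g.left).op x = F.map (D.map g.left).op x' := by
  obtain ⟨hcol⟩ := ha (D.obj i) z (D' D i) (cc' D cc i) (isLimit' D cc i hcc)
    (fun m => hD m.left) hT
  let xx : (AlgSp.fiberFun a (D.obj i) z).obj (op ((D' D i).obj m)) :=
    ⟨F.map (θ D i m).op x, by rw [nat_apply, hx, map_map_apply, θ_overHom]⟩
  let xx' : (AlgSp.fiberFun a (D.obj i) z).obj (op ((D' D i).obj m)) :=
    ⟨F.map (θ D i m).op x', by rw [nat_apply, hx', map_map_apply, θ_overHom]⟩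
  have hEq : ((AlgSp.fiberFun a (D.obj i) z).mapCocone (cc' D cc i).op).ι.app (op m) xx =
      ((AlgSp.fiberFun a (D.obj i) z).mapCocone (cc' D cc i).op).ι.app (op m) xx' := by
    apply Subtype.ext
    change F.map ((Over.map (D.obj i).hom).map ((cc' D cc i).π.app m)).op
        (F.map (θ D i m).op x) =
      F.map ((Over.map (D.obj i).hom).map ((cc' D cc i).π.app m)).op
        (F.map (θ D i m).op x')
    rw [map_map_apply, map_map_apply, θ_naturality, ← map_map_apply, ← map_map_apply, h]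
  obtain ⟨k, f, hk⟩ := (Types.FilteredColimit.isColimit_eq_iff' hcol _ _).1 hEq
  refine ⟨k.unop, f.unop, ?_⟩
  have h1 := congrArg Subtype.val hk
  change F.map ((Over.map (D.obj i).hom).map ((D' D i).map f.unop)).op
        (F.map (θ D i m).op x) =
      F.map ((Over.map (D.obj i).hom).map ((D' D i).map f.unop)).op
        (F.map (θ D i m).op x') at h1
  rw [map_map_apply, map_map_apply, θ_map, ← map_map_apply, ← map_map_apply] at h1
  exact map_inj_of_comp_eq_id F _ _ (θinv_θ D i k.unop) h1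

end Rebase

end RLP2

namespace RLP2

variable {S : Scheme.{u}} {F G : AlgSp.PSp S}

section Fwd

variable (a : F ⟶ G) {I : Type u} [SmallCategory I] (D : I ⥤ Over S) (c : Cone D)

lemma colimMap_ι (j : Iᵒᵖ) (x : F.obj (op (D.obj j.unop))) :
    colimMap (Functor.whiskerLeft D.op a) (colimit.ι (D.op ⋙ F) j x) =
      colimit.ι (D.op ⋙ G) j (a.app _ x) :=
  ConcreteCategory.congr_hom (ι_colimMap (Functor.whiskerLeft D.op a) j) x

lemma descF_ι (j : Iᵒᵖ) (x : F.obj (op (D.obj j.unop))) :
    colimit.desc (D.op ⋙ F) (F.mapCocone c.op) (colimit.ι (D.op ⋙ F) j x) =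
      F.map (c.π.app j.unop).op x :=
  ConcreteCategory.congr_hom (colimit.ι_desc (F.mapCocone c.op) j) x

lemma ι_map (F : AlgSp.PSp S) {j k : Iᵒᵖ} (f : j ⟶ k) (x : F.obj (op (D.obj j.unop))) :
    colimit.ι (D.op ⋙ F) k (F.map (D.map f.unop).op x) = colimit.ι (D.op ⋙ F) j x :=
  ConcreteCategory.congr_hom (colimit.w (D.op ⋙ F) f) x

theorem isPullback_of_rlp [IsCofiltered I] (ha : AlgSp.IsRelLimitPreserving a)
    (hc : IsLimit ((Over.forget S).mapCone c)) (hD : ∀ i, IsAffine (D.obj i).left)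
    (hT : IsAffine c.pt.left) :
    IsPullback (colimMap (Functor.whiskerLeft D.op a))
      (colimit.desc (D.op ⋙ F) (F.mapCocone c.op))
      (colimit.desc (D.op ⋙ G) (G.mapCocone c.op)) (a.app (Opposite.op c.pt)) := by
  rw [Types.isPullback_iff]
  refine ⟨?_, ?_, ?_⟩
  · apply colimit.hom_ext
    intro j
    ext x
    change colimit.desc (D.op ⋙ G) (G.mapCocone c.op)
        (colimMap (Functor.whiskerLeft D.op a) (colimit.ι (D.op ⋙ F) j x)) =
      a.app _ (colimit.desc (D.op ⋙ F) (F.mapCocone c.op) (colimit.ι (D.op ⋙ F) j x))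
    rw [colimMap_ι, descF_ι, descF_ι, nat_apply]
    rfl
  · rintro w w' ⟨h1, h2⟩
    obtain ⟨j, x, x', rfl, rfl⟩ := Types.FilteredColimit.jointly_surjective_of_isColimit₂
      (colimit.isColimit (D.op ⋙ F)) w w'
    change colimMap (Functor.whiskerLeft D.op a) (colimit.ι (D.op ⋙ F) j x) =
      colimMap (Functor.whiskerLeft D.op a) (colimit.ι (D.op ⋙ F) j x') at h1
    change colimit.desc (D.op ⋙ F) (F.mapCocone c.op) (colimit.ι (D.op ⋙ F) j x) =
      colimit.desc (D.op ⋙ F) (F.mapCocone c.op) (colimit.ι (D.op ⋙ F) j x') at h2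
    change colimit.ι (D.op ⋙ F) j x = colimit.ι (D.op ⋙ F) j x'
    rw [colimMap_ι, colimMap_ι] at h1
    rw [descF_ι, descF_ι] at h2
    obtain ⟨k, f, hk⟩ := (Types.FilteredColimit.isColimit_eq_iff'
      (colimit.isColimit (D.op ⋙ G)) _ _).1 h1
    change G.map (D.map f.unop).op (a.app _ x) = G.map (D.map f.unop).op (a.app _ x') at hk
    rw [← nat_apply, ← nat_apply] at hk
    -- the common image
    let xk : F.obj (op (D.obj k.unop)) := F.map (D.map f.unop).op x
    let xk' : F.obj (op (D.obj k.unop)) := F.map (D.map f.unop).op x'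
    let z : G.obj (op (D.obj k.unop)) := a.app _ xk
    let m : Over k.unop := Over.mk (𝟙 k.unop)
    have hid : ∀ t : G.obj (op (D.obj k.unop)), G.map (D.map m.hom).op t = t := by
      intro t
      apply map_id_apply
      change D.map (𝟙 k.unop) = 𝟙 _
      rw [D.map_id]
    have hxk : a.app _ xk = G.map (D.map m.hom).op z := (hid z).symm
    have hxk' : a.app _ xk' = G.map (D.map m.hom).op z := by
      rw [hid z]
      exact hk.symm
    have hpt : F.map (c.π.app m.left).op xk = F.map (c.π.app m.left).op xk' := by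
      change F.map (c.π.app k.unop).op (F.map (D.map f.unop).op x) =
        F.map (c.π.app k.unop).op (F.map (D.map f.unop).op x')
      rw [map_map_apply, map_map_apply, c.w f.unop]
      exact h2
    obtain ⟨m', g, hg⟩ := abs_inj D c k.unop a ha hc hD hT z m xk xk' hxk hxk' hpt
    rw [← ι_map D F f x, ← ι_map D F f x']
    rw [← ι_map D F (j := k) (k := op m'.left) g.left.op, ← ι_map D F (j := k) (k := op m'.left) g.left.op]
    exact congrArg _ hg
  · intro z x hzx
    obtain ⟨j, zj, rfl⟩ := Types.jointly_surjective' z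
    have h1 : G.map (c.π.app j.unop).op zj = a.app (op c.pt) x :=
      (ConcreteCategory.congr_hom (colimit.ι_desc (G.mapCocone c.op) j) zj).symm.trans hzx
    obtain ⟨m, xm, hxm1, hxm2⟩ := abs_surj D c j.unop a ha hc hD hT zj x h1.symm
    refine ⟨colimit.ι (D.op ⋙ F) (op m.left) xm, ?_, ?_⟩
    · exact (colimMap_ι a D (op m.left) xm).trans
        ((congrArg (colimit.ι (D.op ⋙ G) (op m.left)) hxm1).trans
          (ι_map D G (j := j) (k := op m.left) m.hom.op zj))
    · change colimit.desc (D.op ⋙ F) (F.mapCocone c.op)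
        (colimit.ι (D.op ⋙ F) (op m.left) xm) = x
      rw [descF_ι]
      exact hxm2

end Fwd

end RLP2

namespace RLP2

variable {S : Scheme.{u}} {F G : AlgSp.PSp S}

theorem rlp_of_isPullback (a : F ⟶ G)
    (h : ∀ ⦃I : Type u⦄ [SmallCategory I] [IsCofiltered I] (D : I ⥤ Over S) (c : Cone D),
        IsLimit ((Over.forget S).mapCone c) → (∀ i, IsAffine (D.obj i).left) →
          IsAffine c.pt.left →
          IsPullback (colimMap (Functor.whiskerLeft D.op a))
            (colimit.desc (D.op ⋙ F) (F.mapCocone c.op))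
            (colimit.desc (D.op ⋙ G) (G.mapCocone c.op)) (a.app (Opposite.op c.pt))) :
    AlgSp.IsRelLimitPreserving a := by
  intro T y I _ _ D c hc hD hT
  -- the system over `S`
  let D₁ : I ⥤ Over S := D ⋙ Over.map T.hom
  let c₁ : Cone D₁ := (Over.map T.hom).mapCone c
  have hc₁ : IsLimit ((Over.forget S).mapCone c₁) := hc
  have hpb := h D₁ c₁ hc₁ hD hT
  rw [Types.isPullback_iff] at hpb
  obtain ⟨-, hinj, hex⟩ := hpb
  refine ⟨Types.FilteredColimit.isColimitOf' _ _ ?_ ?_⟩
  · intro x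
    obtain ⟨j₀⟩ := IsCofiltered.nonempty (C := I)
    let zj0 : G.obj (op (D₁.obj j₀)) := G.map (AlgSp.overHom T (D.obj j₀)).op y
    have hx2 : a.app _ x.1 = G.map (AlgSp.overHom T c.pt).op y := x.2
    obtain ⟨w, hw1, hw2⟩ := hex (colimit.ι (D₁.op ⋙ G) (op j₀) zj0) x.1 (by
      have e1 := ConcreteCategory.congr_hom (colimit.ι_desc (G.mapCocone c₁.op) (op j₀)) zj0
      refine e1.trans ?_
      change G.map ((Over.map T.hom).map (c.π.app j₀)).op (G.map (AlgSp.overHom T (D.obj j₀)).op y)
        = a.app _ x.1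
      rw [map_map_apply, AlgSp.map_comp_overHom, hx2]
      rfl)
    obtain ⟨j, xj, rfl⟩ := Types.jointly_surjective' w
    have hw1' : colimit.ι (D₁.op ⋙ G) j (a.app _ xj) = colimit.ι (D₁.op ⋙ G) (op j₀) zj0 :=
      (colimMap_ι a D₁ j xj).symm.trans hw1
    obtain ⟨k, f, g, hk⟩ := (Types.FilteredColimit.colimit_eq_iff (D₁.op ⋙ G)).1 hw1'
    have hk' : G.map (D₁.map f.unop).op (a.app _ xj) = G.map (D₁.map g.unop).op zj0 := hk
    have hw2' : F.map (c₁.π.app j.unop).op xj = x.1 :=
      (descF_ι D₁ c₁ j xj).symm.trans hw2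
    refine ⟨k, ⟨F.map (D₁.map f.unop).op xj, ?_⟩, ?_⟩
    · rw [nat_apply, hk']
      change G.map ((Over.map T.hom).map (D.map g.unop)).op
        (G.map (AlgSp.overHom T (D.obj j₀)).op y) = _
      rw [map_map_apply, AlgSp.map_comp_overHom]
      rfl
    · apply Subtype.ext
      change x.1 = F.map (c₁.π.app k.unop).op (F.map (D₁.map f.unop).op xj)
      rw [map_map_apply, c₁.w f.unop, hw2']
  · intro j x x' hxx'
    have h1 := congrArg Subtype.val hxx'
    change F.map (c₁.π.app j.unop).op x.1 = F.map (c₁.π.app j.unop).op x'.1 at h1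
    have hx2 : a.app _ x.1 = G.map (AlgSp.overHom T (D.obj j.unop)).op y := x.2
    have hx2' : a.app _ x'.1 = G.map (AlgSp.overHom T (D.obj j.unop)).op y := x'.2
    have key : colimit.ι (D₁.op ⋙ F) j x.1 = colimit.ι (D₁.op ⋙ F) j x'.1 := by
      apply hinj
      constructor
      · refine (colimMap_ι a D₁ j x.1).trans ?_
        refine Eq.trans ?_ (colimMap_ι a D₁ j x'.1).symm
        exact congrArg _ (hx2.trans hx2'.symm)
      · refine (descF_ι D₁ c₁ j x.1).trans ?_
        refine Eq.trans ?_ (descF_ι D₁ c₁ j x'.1).symm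
        exact h1
    obtain ⟨k, f, hk⟩ := (Types.FilteredColimit.isColimit_eq_iff'
      (colimit.isColimit (D₁.op ⋙ F)) _ _).1 key
    refine ⟨k, f, ?_⟩
    apply Subtype.ext
    exact hk

end RLP2

end Groth.Agent.S10067.Aux

namespace Groth.Agent.S10067

/-- A transformation `a : F ⟶ G` of presheaves of sets on schemes over `S` is relatively limit
preserving if and only if, for every directed limit `T = lim T_i` of affine schemes over `S` (with
`T` affine), the square formed by `colim F(T_i) → F(T)`, `colim G(T_i) → G(T)` and the two maps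
induced by `a` is cartesian in sets. -/
theorem result (S : Scheme.{u}) {F G : AlgSp.PSp S} (a : F ⟶ G) :
    AlgSp.IsRelLimitPreserving a ↔
      ∀ ⦃I : Type u⦄ [SmallCategory I] [IsCofiltered I] (D : I ⥤ Over S) (c : Cone D),
        IsLimit ((Over.forget S).mapCone c) → (∀ i, IsAffine (D.obj i).left) → IsAffine c.pt.left →
          IsPullback (colimMap (Functor.whiskerLeft D.op a)) (colimit.desc (D.op ⋙ F) (F.mapCocone c.op))
            (colimit.desc (D.op ⋙ G) (G.mapCocone c.op)) (a.app (Opposite.op c.pt)) := by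
  constructor
  · intro ha I _ _ D c hc hD hT
    exact Aux.RLP2.isPullback_of_rlp a D c ha hc hD hT
  · intro h
    exact Aux.RLP2.rlp_of_isPullback a h

end Groth.Agent.S10067
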