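import Groth.Statements.S0466
import Groth.Agent.Lib.Lead.CechH1

set_option autoImplicit false
universe u
open CohTop

namespace Groth.Agent.S0466

open TopologicalSpace Opposite in
/-- Consider a short exact sequence of abelian sheaves with kernel F, middle term G and quotient H, and
an open U. If every open covering of U admits a refinement on which the first Cech cohomology of F
vanishes, then sections of G over U map onto sections of H over U. -/
theorem result {X : TopCat.{u}}
    (S : CategoryTheory.ShortComplex (CohTop.Ab X)) (hS : S.ShortExact) (U : Opens X)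
    (h : ∀ (ι : Type u) (V : ι → Opens X), iSup V = U →
      ∃ (κ : Type u) (W : κ → Opens X) (r : κ → ι), iSup W = U ∧ (∀ k, W k ≤ V (r k)) ∧
        CategoryTheory.Limits.IsZero (CohTop.cechH S.X₁.obj W 1)) :
    Function.Surjective (S.g.hom.app (op U)) := by
  intro s
  have hls := (TopCat.Sheaf.isLocallySurjective_iff_epi S.g).mpr hS.epi_g
  have hloc := (TopCat.Presheaf.isLocallySurjective_iff S.g.hom).mp hls U s
  choose V hVU hV hxV using fun x : U => hloc x.1 x.2
  have hsup : iSup V = U := by
    apply le_antisymm
    · exact iSup_le hVU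
    · intro x hx
      exact Opens.mem_iSup.2 ⟨⟨x, hx⟩, hxV ⟨x, hx⟩⟩
  obtain ⟨κ, W, r, hW, hWV, hH1⟩ := h U V hsup
  choose t ht using hV
  refine Groth.Agent.Lib.Lead.exists_lift_of_cech_h1 S hS U W hW hH1 s
    (fun k => Groth.Agent.Lib.Lead.res S.X₂.obj (hWV k) (t (r k))) (fun k => ?_)
  rw [Groth.Agent.Lib.Lead.res_naturality, ht]
  exact Groth.Agent.Lib.Lead.res_res S.X₃.obj (hWV k) (hVU (r k)) s

end Groth.Agent.S0466
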