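import Groth.Statements.S0493
import Groth.Agent.Lib.Lead.CechSES
import Groth.Agent.S0466

set_option autoImplicit false
universe u
open CohTop

namespace Groth.Agent.S0493

open TopologicalSpace CategoryTheory.Limits in
/-- Let B be a basis of opens of X and Cov a class of families of opens such that (1) every family in
Cov has its union, its members and all finite intersections of members in B, (2) for U in B every
open covering of U is refined by a family in Cov with union U, and (3) the Cech cohomology of F in
positive degrees vanishes for every family in Cov. Then H^(p+1)(U, F) = 0 for every U in B. -/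
theorem result {X : TopCat.{u}} (F : CohTop.Ab X)
    (B : Set (Opens X)) (hB : Opens.IsBasis B) (Cov : ∀ (ι : Type u), (ι → Opens X) → Prop)
    (h1 : ∀ (ι : Type u) (V : ι → Opens X), Cov ι V →
      iSup V ∈ B ∧ ∀ (p : ℕ) (a : Fin (p + 1) → ι), (iInf fun k => V (a k)) ∈ B)
    (h2 : ∀ U ∈ B, ∀ (κ : Type u) (W : κ → Opens X), iSup W = U →
      ∃ (ι : Type u) (V : ι → Opens X), Cov ι V ∧ iSup V = U ∧ ∀ i, ∃ k, V i ≤ W k)
    (h3 : ∀ (ι : Type u) (V : ι → Opens X), Cov ι V → ∀ p : ℕ, IsZero (CohTop.cechH F.obj V (p + 1)))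
    (U : Opens X) (hU : U ∈ B) (p : ℕ) : Subsingleton (CohTop.HU F (p + 1) U) := by
  open Groth.Agent.Lib.Lead CategoryTheory Opposite in
  refine HU_subsingleton_of_resolving B
    (fun G => ∀ (ι : Type u) (V : ι → Opens X), Cov ι V → ∀ p : ℕ,
      IsZero (CohTop.cechH G.obj V (p + 1))) ?_ F h3 U hU p
  intro G hG
  let S : ShortComplex (CohTop.Ab X) :=
    ShortComplex.mk (Injective.ι G) (cokernel.π (Injective.ι G)) (cokernel.condition _)
  have hS : S.ShortExact :=
    { exact := ShortComplex.exact_of_g_is_cokernel _ (cokernelIsCokernel S.f) }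
  haveI hI : Injective S.X₂ := inferInstanceAs (Injective (Injective.under G))
  -- surjectivity on sections over members of `B`
  have hsurj : ∀ W ∈ B, Function.Surjective (S.g.hom.app (op W)) := by
    intro W hW
    refine Groth.Agent.S0466.result S hS W ?_
    intro κ V hV
    obtain ⟨ι', V', hcov, hsup, href⟩ := h2 W hW κ V hV
    choose r hr using href
    exact ⟨ι', V', r, hsup, hr, hG ι' V' hcov 0⟩
  refine ⟨S, hS, rfl, hI, ?_, hsurj⟩
  intro ι V hcov n
  refine cech_shift_up V S hS n ?_ (hG ι V hcov (n + 1)) (isZero_cechH_of_injective S.X₂ V n)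
  intro x
  apply hsurj
  rw [cechOpen_eq]
  exact (h1 ι V hcov).2 (n + 1) x

end Groth.Agent.S0493
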