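import Groth.Statements.S0007
import Groth.Agent.S0493
import Groth.Agent.Lib.Helper1.Cech.Affine
import Groth.Agent.Lib.Helper1.ShCohTop

set_option autoImplicit false
universe u
open Coherent

namespace Groth.Agent.S0007

open AlgebraicGeometry in
/-- On an affine scheme every quasi-coherent module has zero cohomology in all positive degrees (stated
as Subsingleton of Coh.HH X M p for 0 < p). (The published statement is given for every affine open
of a scheme; that form follows by restricting.) -/
theorem result (X : Scheme.{u}) [IsAffine X] (M : X.Modules)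
    [Coh.IsQCoh M] (p : ℕ) (hp : 0 < p) : Subsingleton (Coh.HH X M p) := by
  obtain ⟨p, rfl⟩ : ∃ p', p = p' + 1 := ⟨p - 1, by omega⟩
  have h := Groth.Agent.S0493.result (X := X.toTopCat) (Coh.toAb M)
    (Set.range (X.basicOpen : Γ(X, ⊤) → X.Opens)) (isBasis_basicOpen X)
    (fun ι V => Groth.Agent.Lib.Helper1.Cech.StdCov X ι V)
    (fun ι V hV => ⟨hV.iSup_mem, fun p a => hV.iInf_mem p a⟩)
    (fun U hU κ W hW => Groth.Agent.Lib.Helper1.Cech.StdCov.exists_refinement U hU κ W hW)
    (fun ι V hV p => (HomologicalComplex.exactAt_iff_isZero_homology _ _).mp (hV.exactAt M p))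
    ⊤ ⟨1, X.basicOpen_one⟩ p
  exact (Groth.Agent.Lib.Helper1.HUTopEquivH (Coh.toAb M) (p + 1)).symm.subsingleton

end Groth.Agent.S0007
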