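import Groth.Statements.S0463
import Groth.Agent.Lib.Helper5.ExtAdjunction
import Groth.Agent.Lib.Helper5.ExtByZero
import Mathlib.CategoryTheory.Adjunction.Whiskering

set_option autoImplicit false
universe u
open CategoryTheory
open CohTop

namespace Groth.Agent.S0463

open Opposite CategoryTheory.Limits TopologicalSpace Abelian Groth.Agent.Lib.Helper5

/-- two objects corepresenting the same functor are isomorphic -/
def isoOfCorepresent {C : Type*} [Category C] {A B : C} {T : C → Type*}
    (m : ∀ {F G : C}, (F ⟶ G) → T F → T G)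
    (α : ∀ F, (A ⟶ F) ≃ T F) (β : ∀ F, (B ⟶ F) ≃ T F)
    (hα : ∀ {F G : C} (f : F ⟶ G) (g : A ⟶ F), α G (g ≫ f) = m f (α F g))
    (hβ : ∀ {F G : C} (f : F ⟶ G) (g : B ⟶ F), β G (g ≫ f) = m f (β F g)) : A ≅ B where
  hom := (α B).symm (β B (𝟙 B))
  inv := (β A).symm (α A (𝟙 A))
  hom_inv_id := by
    apply (α A).injective
    rw [hα, Equiv.apply_symm_apply, ← hβ, Category.id_comp, Equiv.apply_symm_apply]
  inv_hom_id := by
    apply (β B).injective
    rw [hβ, Equiv.apply_symm_apply, ← hα, Category.id_comp, Equiv.apply_symm_apply]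

/-- `Ext` groups out of isomorphic objects are isomorphic -/
noncomputable def extIsoLeft {C : Type*} [Category C] [Abelian C] [HasExt.{u} C] {A B : C}
    (e : A ≅ B) (F : C) (n : ℕ) : Ext.{u} A F n ≃+ Ext.{u} B F n where
  toFun x := (Ext.mk₀ e.inv).comp x (zero_add n)
  invFun y := (Ext.mk₀ e.hom).comp y (zero_add n)
  left_inv x := by
    dsimp only
    rw [Ext.mk₀_comp_mk₀_assoc, e.hom_inv_id, Ext.mk₀_id_comp]
  right_inv y := by
    dsimp only
    rw [Ext.mk₀_comp_mk₀_assoc, e.inv_hom_id, Ext.mk₀_id_comp]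
  map_add' x y := Ext.comp_add _ _ _ _

variable {X : TopCat.{u}}

/-- the adjunction between presheaves of sets and abelian sheaves -/
noncomputable def freeAdj :
    (Functor.whiskeringRight (Opens X)ᵒᵖ _ _).obj AddCommGrpCat.free.{u} ⋙
      presheafToSheaf (Opens.grothendieckTopology X) AddCommGrpCat.{u} ⊣
      sheafToPresheaf (Opens.grothendieckTopology X) AddCommGrpCat.{u} ⋙
        (Functor.whiskeringRight (Opens X)ᵒᵖ _ _).obj (forget AddCommGrpCat.{u}) :=
  (Adjunction.whiskerRight (Opens X)ᵒᵖ AddCommGrpCat.adj).comp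
    (sheafificationAdjunction (Opens.grothendieckTopology X) AddCommGrpCat.{u})

/-- the free abelian sheaf on an open subset -/
noncomputable abbrev freeSheaf (V : Opens X) : Ab X :=
  (presheafToSheaf (Opens.grothendieckTopology X) AddCommGrpCat.{u}).obj
    (yoneda.obj V ⋙ AddCommGrpCat.free.{u})

/-- morphisms from the free sheaf on `V` are sections over `V` -/
noncomputable def β (V : Opens X) (F : Ab X) : (freeSheaf V ⟶ F) ≃ F.obj.obj (op V) :=
  (freeAdj.homEquiv (yoneda.obj V) F).trans yonedaEquiv

lemma β_naturality (V : Opens X) {F G : Ab X} (f : F ⟶ G) (g : freeSheaf V ⟶ F) :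
    β V G (g ≫ f) = f.hom.app (op V) (β V F g) := by
  dsimp only [β, Equiv.trans_apply]
  rw [Adjunction.homEquiv_naturality_right, yonedaEquiv_comp]
  rfl

variable (U : Opens X)

/-- the constant sheaf `ℤ` on `U` -/
noncomputable abbrev cZ : Ab (TopCat.of U) :=
  (constantSheaf (Opens.grothendieckTopology (TopCat.of U)) AddCommGrpCat.{u}).obj
    (AddCommGrpCat.of (ULift ℤ))

/-- morphisms from the extension by zero of the constant sheaf are sections over `U` -/
noncomputable def α (F : Ab X) :
    ((extByZero U).obj (cZ U) ⟶ F) ≃ F.obj.obj (op ((jU U).obj ⊤)) :=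
  ((extByZeroAdj U).homEquiv (cZ U) F).trans
    (((constantSheafAdj (Opens.grothendieckTopology (TopCat.of U)) AddCommGrpCat.{u}
      (isTerminalTop (α := Opens (TopCat.of U)))).homEquiv (AddCommGrpCat.of (ULift ℤ))
        ((U.sheafRestrict (C := AddCommGrpCat.{u})).obj F)).trans
      (AddCommGrpCat.uliftZMultiplesAddEquiv _).toEquiv)

lemma α_naturality {F G : Ab X} (f : F ⟶ G) (g : (extByZero U).obj (cZ U) ⟶ F) :
    α U G (g ≫ f) = f.hom.app (op ((jU U).obj ⊤)) (α U F g) := by
  dsimp only [α, Equiv.trans_apply]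
  rw [Adjunction.homEquiv_naturality_right, Adjunction.homEquiv_naturality_right]
  rfl

/-- the extension by zero of the constant sheaf on `U` is the free sheaf on `U` -/
noncomputable def isoFree (V : Opens X) (h : (jU U).obj ⊤ = V) :
    (extByZero U).obj (cZ U) ≅ freeSheaf V := by
  subst h
  exact isoOfCorepresent (T := fun F : Ab X => F.obj.obj (op ((jU U).obj ⊤)))
    (fun f x => f.hom.app _ x) (α U) (β _) (α_naturality U) (β_naturality _)

open TopologicalSpace in
/-- For an abelian sheaf F on X and an open U, H^n(U, F) (derived functors of sections over U) is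
isomorphic to H^n(U, F|_U) computed on the space U. -/
theorem result {X : TopCat.{u}} (F : CohTop.Ab X) (U : Opens X) (n : ℕ) :
    Nonempty (CohTop.HU F n U ≃+ CohTop.H (CohTop.restr F U) n) := by
  have hU : (jU U).obj ⊤ = U := Opens.isOpenEmbedding_obj_top U
  exact ⟨(extIsoLeft (isoFree U U hU) F n).symm.trans
    (extAdjAddEquiv (extByZeroAdj U) (cZ U) F n)⟩

end Groth.Agent.S0463
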