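import Groth.Statements.S14350
import Groth.Agent.Lib.Helper5.S14350C

set_option autoImplicit false
universe u
open CategoryTheory
open CohTop

namespace Groth.Agent.S14350

open Opposite CategoryTheory.Limits TopologicalSpace Abelian Groth.Agent.Lib.Helper5
  Groth.Agent.S0463 Groth.Agent.S0464 Groth.Agent.Lib.Helper28.ShCoh Groth.Agent.Lib.Lead

variable {X : TopCat.{u}}

section

variable {S : ShortComplex (Ab X)} (hS : S.ShortExact)

lemma bdryNat_exact : (ShortComplex.mk S.g.hom (bdryNat hS) (g_comp_bdryNat hS)).Exact := by
  apply shortComplex_exact_of_evaluation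
  intro U
  rw [ShortComplex.ab_exact_iff]
  intro s hs
  exact (bdryNat_app_eq_zero_iff hS U s).1 hs

instance epi_bdryNat [Injective S.X₂] : Epi (bdryNat hS) := by
  have : ∀ U, Epi ((bdryNat hS).app U) := fun U =>
    (AddCommGrpCat.epi_iff_surjective _).2 (bdryNat_app_surjective hS U)
  exact NatTrans.epi_of_epi_app _

end

/-- degree one -/
lemma oneIso {S : ShortComplex (Ab X)} (hS : S.ShortExact) [Injective S.X₂] :
    Nonempty (((sheafToPresheaf (Opens.grothendieckTopology X) AddCommGrpCat.{u}).rightDerived 1).obj
      S.X₁ ≅ Sheaf.cohomologyPresheaf.{u} S.X₁ 1) := by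
  obtain ⟨π, w, hex, hπ⟩ := exact_and_epi_toRightDerivedOne
    (sheafToPresheaf (Opens.grothendieckTopology X) AddCommGrpCat.{u}) hS
  have h1 : IsColimit (CokernelCofork.ofπ π w) := hex.gIsCokernel
  have h2 : IsColimit (CokernelCofork.ofπ (bdryNat hS) (g_comp_bdryNat hS)) :=
    (bdryNat_exact hS).gIsCokernel
  exact ⟨IsColimit.coconePointUniqueUpToIso h1 h2⟩

theorem main (p : ℕ) (F : Ab X) :
    Nonempty (((sheafToPresheaf (Opens.grothendieckTopology X) AddCommGrpCat.{u}).rightDerived p).obj F ≅
      Sheaf.cohomologyPresheaf.{u} F p) := by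
  cases p with
  | zero =>
    exact ⟨(sheafToPresheaf (Opens.grothendieckTopology X)
      AddCommGrpCat.{u}).rightDerivedZeroIsoSelf.app F ≪≫ (zeroIso F).symm⟩
  | succ p =>
    induction p generalizing F with
    | zero => exact oneIso (sesInj_shortExact F)
    | succ n ih =>
      have hS := sesInj_shortExact F
      obtain ⟨e⟩ := ih (sesInj F).X₃
      have := isIso_δ_of_injective
        (sheafToPresheaf (Opens.grothendieckTopology X) AddCommGrpCat.{u}) hS n
      exact ⟨(asIso ((Groth.Agent.Lib.Helper83.derivedLES
        (sheafToPresheaf (Opens.grothendieckTopology X) AddCommGrpCat.{u})).δ _ hS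
          (n + 1) (n + 2) rfl)).symm ≪≫ e ≪≫ shiftIso hS n⟩

/-- For a sheaf of abelian groups F on a topological space X and p ≥ 0, the value at F of the p-th right
derived functor of the (left exact) forgetful functor from abelian sheaves to abelian presheaves on
X is isomorphic, as a presheaf, to the cohomology presheaf U ↦ H^p(U, F). Existence of an
isomorphism of presheaves only. (The published statement is for O_X-modules and presheaves of
O_X-modules on a scheme X; this row is the case of sheaves of abelian groups on a topological
space.) -/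
theorem result {X : TopCat.{u}}
    (F : CohTop.Ab X) (p : ℕ) :
    Nonempty (((sheafToPresheaf (Opens.grothendieckTopology X) AddCommGrpCat.{u}).rightDerived p).obj F ≅
      Sheaf.cohomologyPresheaf.{u} F p) := by
  exact main p F

end Groth.Agent.S14350
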