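import Groth.Statements.S0461
import Groth.Agent.S14350
import Groth.Agent.Lib.Helper5.RDerExact
import Groth.Prelude.Def_RDer

set_option autoImplicit false
universe u
open CategoryTheory
open CohTop

namespace Groth.Agent.S0461

open Opposite CategoryTheory.Limits TopologicalSpace Groth.Agent.Lib.Helper5

variable {X Y : TopCat.{u}} (f : X ⟶ Y)

/-- precomposition with `f⁻¹` followed by sheafification -/
noncomputable abbrev E : ((Opens X)ᵒᵖ ⥤ AddCommGrpCat.{u}) ⥤ CohTop.Ab Y :=
  (Functor.whiskeringLeft (Opens Y)ᵒᵖ (Opens X)ᵒᵖ AddCommGrpCat.{u}).obj (Opens.map f).op ⋙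
    presheafToSheaf (Opens.grothendieckTopology Y) AddCommGrpCat.{u}

/-- sheafification of the underlying presheaf of a sheaf -/
noncomputable def counitIso :
    sheafToPresheaf (Opens.grothendieckTopology Y) AddCommGrpCat.{u} ⋙
      presheafToSheaf (Opens.grothendieckTopology Y) AddCommGrpCat.{u} ≅ 𝟭 (CohTop.Ab Y) :=
  haveI : IsIso (sheafificationAdjunction (Opens.grothendieckTopology Y)
      AddCommGrpCat.{u}).counit := NatIso.isIso_of_isIso_app _
  asIso (sheafificationAdjunction (Opens.grothendieckTopology Y) AddCommGrpCat.{u}).counit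

/-- the direct image functor is the composition of the forgetful functor to presheaves with `E` -/
noncomputable def θ : CohTop.push f ≅
    sheafToPresheaf (Opens.grothendieckTopology X) AddCommGrpCat.{u} ⋙ E f :=
  (CohTop.push f).rightUnitor.symm ≪≫ Functor.isoWhiskerLeft (CohTop.push f) counitIso.symm ≪≫
    (Functor.associator _ _ _).symm ≪≫
    Functor.isoWhiskerRight (Iso.refl _ : CohTop.push f ⋙
      sheafToPresheaf (Opens.grothendieckTopology Y) AddCommGrpCat.{u} ≅
      sheafToPresheaf (Opens.grothendieckTopology X) AddCommGrpCat.{u} ⋙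
        (Functor.whiskeringLeft (Opens Y)ᵒᵖ (Opens X)ᵒᵖ AddCommGrpCat.{u}).obj (Opens.map f).op)
      (presheafToSheaf (Opens.grothendieckTopology Y) AddCommGrpCat.{u}) ≪≫
    Functor.associator _ _ _

instance : (E f).Additive := by
  dsimp only [E]
  infer_instance

instance : PreservesFiniteLimits (E f) := by
  dsimp only [E]
  infer_instance

instance : PreservesFiniteColimits (E f) := by
  dsimp only [E]
  infer_instance

instance : (E f).PreservesHomology := preservesHomology_of_exact (E f)

/-- For a continuous map f : X → Y and an abelian sheaf F on X, R^i f_* F is isomorphic to the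
sheafification of the presheaf V ↦ H^i(f⁻¹(V), F) (with the restriction maps of cohomology). We
assert the existence of an isomorphism of sheaves. -/
theorem result {X Y : TopCat.{u}} (f : X ⟶ Y) (F : CohTop.Ab X) (i : ℕ) :
    Nonempty ((CohTop.Rpush f i).obj F ≅
      (presheafToSheaf (Opens.grothendieckTopology Y) AddCommGrpCat.{u}).obj
        ((Opens.map f).op ⋙ Sheaf.cohomologyPresheaf.{u} F i)) := by
  obtain ⟨e⟩ := S14350.main i F
  exact ⟨(RDer.rightDerivedIso (θ f) i).app F ≪≫
    rightDerivedCompExactIso (sheafToPresheaf (Opens.grothendieckTopology X) AddCommGrpCat.{u})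
      (E f) F i ≪≫ (E f).mapIso e⟩

end Groth.Agent.S0461
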