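import Groth.Statements.S0028
import Groth.Agent.S0461
import Groth.Agent.Lib.Helper1.SheafifyZero
import Groth.Agent.Lib.Helper1.AffineVanishing

set_option autoImplicit false
universe u
open Coherent

namespace Groth.Agent.S0028

open AlgebraicGeometry CategoryTheory in
/-- If f : X → S is an affine morphism and F is a quasi-coherent O_X-module, then R^i f_* F = 0 for all
i > 0 (higher direct images of the underlying abelian sheaf). -/
theorem result {X S : Scheme.{u}} (f : X ⟶ S) [IsAffineHom f]
    (M : X.Modules) [Coh.IsQCoh M] (i : ℕ) (hi : 0 < i) :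
    Limits.IsZero ((Coh.RpushAb f i).obj (Coh.toAb M)) := by
  obtain ⟨i, rfl⟩ : ∃ i', i = i' + 1 := ⟨i - 1, by omega⟩
  obtain ⟨e⟩ := Groth.Agent.S0461.result f.base (Coh.toAb M) (i + 1)
  refine Limits.IsZero.of_iso ?_ e
  refine Groth.Agent.Lib.Helper1.isZero_presheafToSheaf_of_basis _ _ S.isBasis_affineOpens ?_
  intro V hV
  have hV' : IsAffineOpen (f ⁻¹ᵁ V) := IsAffineOpen.preimage (hV : IsAffineOpen V) f
  exact Groth.Agent.Lib.Helper1.subsingleton_HU_of_isAffineOpen M _ hV' i

end Groth.Agent.S0028
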