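import Groth.Statements.S0904
-- import your own Groth.Agent.* helpers here

set_option autoImplicit false
universe u
open CategoryTheory
open CohTop

namespace Groth.Agent.S0904

attribute [local instance] CategoryTheory.Limits.reflectsLimits_of_reflectsIsomorphisms in
/-- The inverse image functor of abelian sheaves along a continuous map is left exact. -/
theorem preservesFiniteLimits_pull {X Y : TopCat.{u}} (f : X ⟶ Y) :
    Limits.PreservesFiniteLimits (CohTop.pull f) := by
  have h1 : Limits.PreservesFiniteLimits ((TopologicalSpace.Opens.map f).op.lan :
    ((TopologicalSpace.Opens Y)ᵒᵖ ⥤ AddCommGrpCat.{u}) ⥤ _) :=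
      lan_preservesFiniteLimits_of_flat AddCommGrpCat.{u} (TopologicalSpace.Opens.map f)
  exact Functor.sheafPullbackConstruction.preservesFiniteLimits _ _ _ _

/-- Abelian sheaves, for which every continuous map is flat: for a continuous map f : X -> Y and an
injective abelian sheaf I on X, the direct image f_* I is an injective abelian sheaf on Y. -/
theorem result {X Y : TopCat.{u}} (f : X ⟶ Y) (I : CohTop.Ab X) [Injective I] :
    Injective ((CohTop.push f).obj I) := by
  have : Limits.PreservesFiniteLimits (CohTop.pull f) := preservesFiniteLimits_pull f
  have : (CohTop.pull f).PreservesMonomorphisms :=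
    CategoryTheory.preservesMonomorphisms_of_preservesLimitsOfShape _
  exact @Injective.injective_of_adjoint _ _ _ _ (CohTop.pull f) (CohTop.push f) this
    (TopCat.Sheaf.pullbackPushforwardAdjunction AddCommGrpCat.{u} f) I _

end Groth.Agent.S0904
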