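import Mathlib
import Groth.Statements.S14402

set_option autoImplicit false
universe u
open CategoryTheory CategoryTheory.Limits
open CohTop

namespace Groth.Agent.S14402

open TopologicalSpace Opposite TopCat

/-- sections over an empty open are all equal -/
lemma subsingleton_of_eq_bot {X : TopCat.{u}} (H : CohTop.Ab X) {U : Opens X} (hU : U = ⊥) :
    Subsingleton (H.obj.obj (op U)) := by
  have hT : IsTerminal (H.obj.obj (op U)) := TopCat.Sheaf.isTerminalOfEqEmpty H hU
  constructor
  intro a b
  have h1 : (𝟙 (H.obj.obj (op U))) = 0 := hT.hom_ext _ _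
  have ha : a = (𝟙 (H.obj.obj (op U)) : _ ⟶ _) a := rfl
  have hb : b = (𝟙 (H.obj.obj (op U)) : _ ⟶ _) b := rfl
  rw [ha, hb, h1]
  rfl

/-- pushforward along a closed embedding preserves epimorphisms -/
lemma epi_push {X Y : TopCat.{u}} (f : X ⟶ Y) (hf : Topology.IsClosedEmbedding f)
    {G H : CohTop.Ab X} (φ : G ⟶ H) [Epi φ] : Epi ((CohTop.push f).map φ) := by
  refine (TopCat.Sheaf.isLocallySurjective_iff_epi (F := (CohTop.push f).obj G)
    (G := (CohTop.push f).obj H) ((CohTop.push f).map φ)).mp ?_
  rw [TopCat.Presheaf.isLocallySurjective_iff]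
  have hφ := (TopCat.Sheaf.isLocallySurjective_iff_epi (F := G) (G := H) φ).mpr ‹_›
  rw [TopCat.Presheaf.isLocallySurjective_iff] at hφ
  intro V t y hy
  by_cases hyf : y ∈ Set.range f
  · obtain ⟨x, rfl⟩ := hyf
    obtain ⟨U', hU', ⟨s, hs⟩, hxU'⟩ := hφ ((Opens.map f).obj V) t x hy
    obtain ⟨W', hW'o, hW'⟩ := hf.isInducing.isOpen_iff.mp U'.isOpen
    let W : Opens Y := ⟨W', hW'o⟩ ⊓ V
    have hWU' : (Opens.map f).obj W = U' := by
      ext z
      constructor
      · rintro ⟨hz1, _⟩
        have : z ∈ f ⁻¹' W' := hz1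
        rw [hW'] at this
        exact this
      · intro hz
        refine ⟨?_, hU' hz⟩
        have : z ∈ f ⁻¹' W' := by rw [hW']; exact hz
        exact this
    refine ⟨W, inf_le_right, ⟨?_, ?_⟩, ?_⟩
    · exact G.obj.map (eqToHom (by rw [hWU'])).op s
    · have hnat := ConcreteCategory.congr_hom
        (φ.hom.naturality (eqToHom (by rw [hWU']) : (Opens.map f).obj W ⟶ U').op) s
      rw [ConcreteCategory.comp_apply, ConcreteCategory.comp_apply, hs] at hnat
      refine hnat.trans ?_
      change (H.obj.map _ ≫ H.obj.map _) t = H.obj.map _ t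
      rw [← Functor.map_comp]
      rfl
    · refine ⟨?_, hy⟩
      have : x ∈ f ⁻¹' W' := by rw [hW']; exact hxU'
      exact this
  · let W : Opens Y := V ⊓ ⟨(Set.range f)ᶜ, hf.isClosed_range.isOpen_compl⟩
    have hWbot : (Opens.map f).obj W = ⊥ := by
      ext z
      simp only [Opens.coe_bot, Set.mem_empty_iff_false, iff_false]
      rintro ⟨_, hz2⟩
      exact hz2 ⟨z, rfl⟩
    have : Subsingleton (((CohTop.push f).obj H).obj.obj (op W)) :=
      subsingleton_of_eq_bot H hWbot
    refine ⟨W, inf_le_left, ⟨0, Subsingleton.elim _ _⟩, hy, hyf⟩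

theorem result {X Y : TopCat.{u}} (f : X ⟶ Y)
    (hf : Topology.IsClosedEmbedding f) (F : CohTop.Ab X) (q : ℕ) :
    IsZero ((CohTop.Rpush f (q + 1)).obj F) := by
  have hlim : PreservesFiniteLimits (CohTop.push f) := by
    have : (CohTop.push f).IsRightAdjoint :=
      (TopCat.Sheaf.pullbackPushforwardAdjunction AddCommGrpCat.{u} f).isRightAdjoint
    infer_instance
  have hSE : ∀ S : ShortComplex (CohTop.Ab X), S.ShortExact →
      (S.map (CohTop.push f)).ShortExact := by
    intro S hS
    have h0 : ∀ (S : ShortComplex (CohTop.Ab X)), S.ShortExact →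
        (S.map (CohTop.push f)).Exact ∧ Mono ((CohTop.push f).map S.f) :=
      ((Functor.preservesFiniteLimits_tfae (CohTop.push f)).out 3 0).mp hlim
    have h1 := h0 S hS
    have : Mono (S.map (CohTop.push f)).f := h1.2
    have : Epi (S.map (CohTop.push f)).g := by
      have := hS.epi_g
      exact epi_push f hf S.g
    exact ⟨h1.1⟩
  have hPH : (CohTop.push f).PreservesHomology :=
    ((Functor.exact_tfae (CohTop.push f)).out 0 2).mp hSE
  let I := InjectiveResolution.of F
  have e := I.isoRightDerivedObj (CohTop.push f) (q + 1)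
  refine IsZero.of_iso ?_ e
  change IsZero (HomologicalComplex.homology _ _)
  rw [← HomologicalComplex.exactAt_iff_isZero_homology]
  have hex := I.cocomplex_exactAt_succ q
  rw [HomologicalComplex.exactAt_iff] at hex ⊢
  exact hex.map (CohTop.push f)

end Groth.Agent.S14402
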