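import Groth.Statements.S0464
import Groth.Agent.S0463
import Groth.Agent.Lib.Lead.CechInjective
import Groth.Agent.Lib.Helper5.CechSES
import Groth.Agent.Lib.Helper5.CechZero
import Groth.Agent.Lib.Helper5.ExtShift

set_option autoImplicit false
universe u
open CategoryTheory
open CohTop

namespace Groth.Agent.S0464

open Opposite CategoryTheory.Limits TopologicalSpace Abelian Groth.Agent.Lib.Helper5
  Groth.Agent.Lib.Lead Groth.Agent.S0463

variable {X : TopCat.{u}}

/-- additive version of `S0463.β` -/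
noncomputable def βAdd (V : Opens X) (G : Ab X) : (freeSheaf V ⟶ G) ≃+ G.obj.obj (op V) :=
  { β V G with
    map_add' := fun f g => by
      have h : ∀ k : freeSheaf V ⟶ G, β V G k = k.hom.app (op V) (β V _ (𝟙 _)) := fun k => by
        rw [← β_naturality, Category.id_comp]
      change β V G (f + g) = β V G f + β V G g
      rw [h (f + g), h f, h g, Sheaf.Hom.add_app]
      rfl }

lemma βAdd_naturality (V : Opens X) {F G : Ab X} (f : F ⟶ G) (g : freeSheaf V ⟶ F) :
    βAdd V G (g ≫ f) = f.hom.app (op V) (βAdd V F g) := β_naturality V f g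

lemma βAdd_symm_naturality (V : Opens X) {F G : Ab X} (f : F ⟶ G) (s : F.obj.obj (op V)) :
    (βAdd V G).symm (f.hom.app (op V) s) = (βAdd V F).symm s ≫ f := by
  apply (βAdd V G).injective
  rw [AddEquiv.apply_symm_apply, βAdd_naturality, AddEquiv.apply_symm_apply]

/-- two surjections with the same kernel have isomorphic targets -/
noncomputable def addEquivOfKerEq {B C₁ C₂ : Type*} [AddCommGroup B] [AddCommGroup C₁]
    [AddCommGroup C₂] (g₁ : B →+ C₁) (g₂ : B →+ C₂) (h₁ : Function.Surjective g₁)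
    (h₂ : Function.Surjective g₂) (hk : g₁.ker = g₂.ker) : C₁ ≃+ C₂ :=
  (QuotientAddGroup.quotientKerEquivOfSurjective g₁ h₁).symm.trans
    ((QuotientAddGroup.quotientAddEquivOfEq hk).trans
      (QuotientAddGroup.quotientKerEquivOfSurjective g₂ h₂))

variable {ι : Type u} (U : ι → Opens X)

/-- the acyclicity hypothesis on all finite intersections -/
def Acyc (F : Ab X) : Prop :=
  ∀ (n : ℕ) (x : Fin (n + 1) → ι) (q : ℕ),
    Subsingleton (Ext.{u} (freeSheaf (cechOpen U x)) F (q + 1))

/-- the short exact sequence `0 ⟶ F ⟶ I ⟶ Q ⟶ 0` with `I` injective -/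
noncomputable def sesInj (F : Ab X) : ShortComplex (Ab X) :=
  ShortComplex.mk (Injective.ι F) (cokernel.π (Injective.ι F)) (cokernel.condition _)

lemma sesInj_shortExact (F : Ab X) : (sesInj F).ShortExact :=
  { exact := ShortComplex.exact_of_g_is_cokernel _ (cokernelIsCokernel _)
    mono_f := inferInstanceAs (Mono (Injective.ι F))
    epi_g := inferInstanceAs (Epi (cokernel.π (Injective.ι F))) }

instance (F : Ab X) : Injective (sesInj F).X₂ := inferInstanceAs (Injective (Injective.under F))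

lemma acyc_sesInj_X₃ (F : Ab X) (hF : Acyc U F) : Acyc U (sesInj F).X₃ := by
  intro n x q
  have : Subsingleton (Ext.{u} (freeSheaf (cechOpen U x)) (sesInj F).X₁ (q + 2)) := hF n x (q + 1)
  exact subsingleton_ext_of_shift (sesInj_shortExact F) _ q

/-- sections over `V` of a short exact sequence with `H¹(V, S.X₁) = 0` form a short exact
sequence -/
lemma shortExact_sections {S : ShortComplex (Ab X)} (hS : S.ShortExact) (V : Opens X)
    [Subsingleton (Ext.{u} (freeSheaf V) S.X₁ 1)] :
    ((S.map (sheafToPresheaf _ _)).map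
      ((evaluation (Opens X)ᵒᵖ AddCommGrpCat.{u}).obj (op V))).ShortExact := by
  have h := (Functor.preservesFiniteLimits_iff_forall_exact_map_and_mono
    (sheafToPresheaf (Opens.grothendieckTopology X) AddCommGrpCat.{u} ⋙
      (evaluation (Opens X)ᵒᵖ AddCommGrpCat.{u}).obj (op V))).1 inferInstance S hS
  have hepi : Epi (S.g.hom.app (op V)) := by
    rw [AddCommGrpCat.epi_iff_surjective]
    intro s
    obtain ⟨φ, hφ⟩ := exists_lift_of_subsingleton_ext_one hS (freeSheaf V) ((βAdd V S.X₃).symm s)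
    refine ⟨βAdd V S.X₂ φ, ?_⟩
    rw [← βAdd_naturality, hφ, AddEquiv.apply_symm_apply]
  exact ShortComplex.ShortExact.mk' h.1 h.2 hepi

/-- the short exact sequence of Čech complexes attached to `0 ⟶ F ⟶ I ⟶ Q ⟶ 0` -/
lemma cech_shortExact_sesInj (F : Ab X) (hF : Acyc U F) :
    (((sesInj F).map (sheafToPresheaf _ _)).map (cechComplexFunctor U)).ShortExact := by
  apply cech_shortExact
  intro n x
  have : Subsingleton (Ext.{u} (freeSheaf (cechOpen U x)) (sesInj F).X₁ 1) := hF n x 0
  exact shortExact_sections (sesInj_shortExact F) (cechOpen U x)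

/-- degree `0` -/
lemma base0 (F : Ab X) :
    Nonempty (cechH F.obj U 0 ≃+ Ext.{u} (freeSheaf (iSup U)) F 0) :=
  ⟨((asIso (cechEta U F.obj)).addCommGroupIsoToAddEquiv.symm.trans
    (βAdd (iSup U) F).symm).trans Ext.addEquiv₀.symm⟩

/-- the inductive step -/
lemma step (n : ℕ)
    (ih : ∀ F : Ab X, Acyc U F →
      Nonempty (cechH F.obj U (n + 1) ≃+ Ext.{u} (freeSheaf (iSup U)) F (n + 1)))
    (F : Ab X) (hF : Acyc U F) :
    Nonempty (cechH F.obj U (n + 2) ≃+ Ext.{u} (freeSheaf (iSup U)) F (n + 2)) := by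
  have hT := cech_shortExact_sesInj U F hF
  obtain ⟨e⟩ := ih _ (acyc_sesInj_X₃ U F hF)
  have e' := hT.δIso (n + 1) (n + 2) rfl
    (isZero_cechH_of_injective (sesInj F).X₂ U n) (isZero_cechH_of_injective (sesInj F).X₂ U (n + 1))
  exact ⟨(e'.symm.addCommGroupIsoToAddEquiv.trans e).trans
    (extShiftAddEquiv (sesInj_shortExact F) (freeSheaf (iSup U)) n)⟩

/-- degree `1` -/
lemma base1 (F : Ab X) (hF : Acyc U F) :
    Nonempty (cechH F.obj U 1 ≃+ Ext.{u} (freeSheaf (iSup U)) F 1) := by
  have hS := sesInj_shortExact F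
  have hT := cech_shortExact_sesInj U F hF
  let gW : (sesInj F).X₂.obj.obj (op (iSup U)) →+ (sesInj F).X₃.obj.obj (op (iSup U)) :=
    ((sesInj F).g.hom.app (op (iSup U))).hom
  have hnat : ∀ t : (sesInj F).X₂.obj.obj (op (iSup U)),
      (HomologicalComplex.homologyMap ((cechComplexFunctor U).map (sesInj F).g.hom) 0)
        (cechEta U (sesInj F).X₂.obj t) = cechEta U (sesInj F).X₃.obj (gW t) := fun t => by
    have := ConcreteCategory.congr_hom (cechEta_naturality U (sesInj F).g.hom) t
    rwa [ConcreteCategory.comp_apply, ConcreteCategory.comp_apply] at this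
  -- Čech side
  let g₁ : (sesInj F).X₃.obj.obj (op (iSup U)) →+ cechH F.obj U 1 :=
    (cechEta U (sesInj F).X₃.obj ≫ hT.δ 0 1 rfl).hom
  have hg₁ : Function.Surjective g₁ := by
    have h1 : Epi (hT.δ 0 1 rfl) := hT.epi_δ 0 1 rfl (isZero_cechH_of_injective (sesInj F).X₂ U 0)
    have h2 : Epi (cechEta U (sesInj F).X₃.obj ≫ hT.δ 0 1 rfl) :=
      epi_comp' (IsIso.epi_of_iso (cechEta U (sesInj F).X₃.obj)) h1
    exact (AddCommGrpCat.epi_iff_surjective _).1 h2
  have hk₁ : g₁.ker = gW.range := by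
    ext s
    rw [AddMonoidHom.mem_ker, AddMonoidHom.mem_range]
    constructor
    · intro hs
      obtain ⟨y, hy⟩ := (ShortComplex.ab_exact_iff _).1 (hT.homology_exact₃ 0 1 rfl)
        (cechEta U (sesInj F).X₃.obj s) hs
      obtain ⟨t, rfl⟩ := (ConcreteCategory.bijective_of_isIso (cechEta U (sesInj F).X₂.obj)).2 y
      refine ⟨t, ?_⟩
      apply (ConcreteCategory.bijective_of_isIso (cechEta U (sesInj F).X₃.obj)).1
      rw [← hy]
      exact (hnat t).symm
    · rintro ⟨t, rfl⟩
      change (hT.δ 0 1 rfl) (cechEta U (sesInj F).X₃.obj (gW t)) = 0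
      rw [← hnat t]
      have := ConcreteCategory.congr_hom (hT.comp_δ 0 1 rfl) (cechEta U (sesInj F).X₂.obj t)
      rwa [ConcreteCategory.comp_apply] at this
  -- derived side
  let g₂ : (sesInj F).X₃.obj.obj (op (iSup U)) →+ Ext.{u} (freeSheaf (iSup U)) F 1 :=
    (extBoundary₀ hS (freeSheaf (iSup U))).comp (βAdd (iSup U) (sesInj F).X₃).symm.toAddMonoidHom
  have hg₂ : Function.Surjective g₂ :=
    (extBoundary₀_surjective hS (freeSheaf (iSup U))).comp (βAdd (iSup U) (sesInj F).X₃).symm.surjective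
  have hk₂ : g₂.ker = gW.range := by
    ext s
    rw [AddMonoidHom.mem_ker, AddMonoidHom.mem_range]
    change extBoundary₀ hS (freeSheaf (iSup U)) ((βAdd (iSup U) (sesInj F).X₃).symm s) = 0 ↔ _
    rw [extBoundary₀_eq_zero_iff]
    constructor
    · rintro ⟨φ, hφ⟩
      refine ⟨βAdd (iSup U) (sesInj F).X₂ φ, ?_⟩
      change (sesInj F).g.hom.app (op (iSup U)) (βAdd (iSup U) (sesInj F).X₂ φ) = s
      rw [← βAdd_naturality, hφ, AddEquiv.apply_symm_apply]
    · rintro ⟨t, rfl⟩
      exact ⟨(βAdd (iSup U) (sesInj F).X₂).symm t, (βAdd_symm_naturality _ _ _).symm⟩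
  exact ⟨addEquivOfKerEq g₁ g₂ hg₁ hg₂ (hk₁.trans hk₂.symm)⟩

/-- the comparison in all degrees -/
theorem main (p : ℕ) (F : Ab X) (hF : Acyc U F) :
    Nonempty (cechH F.obj U p ≃+ Ext.{u} (freeSheaf (iSup U)) F p) := by
  cases p with
  | zero => exact base0 U F
  | succ p =>
    induction p generalizing F with
    | zero => exact base1 U F hF
    | succ n ih => exact step U n (fun G hG => ih G hG) F hF

open TopologicalSpace in
/-- Let U_i be a family of opens with union U. If H^(q+1)(U_{i_0} ∩ … ∩ U_{i_p}, F) = 0 for all q and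
all finite tuples of indices, then the p-th Cech cohomology of F for this family is isomorphic to
H^p(U, F). -/
theorem result {X : TopCat.{u}} (F : CohTop.Ab X) {ι : Type u}
    (U : ι → Opens X)
    (h : ∀ (p : ℕ) (a : Fin (p + 1) → ι) (q : ℕ), Subsingleton (CohTop.HU F (q + 1) (iInf fun k => U (a k))))
    (p : ℕ) : Nonempty (CohTop.cechH F.obj U p ≃+ CohTop.HU F p (iSup U)) := by
  apply main U p F
  intro n x q
  have := h n x q
  rw [← cechOpen_eq U x] at this
  exact this

end Groth.Agent.S0464
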