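import Groth.Statements.S12215
import Groth.Agent.Lib.Helper45.WeakAssPoint

set_option autoImplicit false
universe u
open CategoryTheory CategoryTheory.Limits AlgebraicGeometry
open Divisors

namespace Groth.Agent.S12215
open Groth.Agent.Lib.Helper45

noncomputable section
set_option backward.isDefEq.respectTransparency.types false in
theorem aux (A : CommRingCat.{u}) (M : ModuleCat.{u} A) (q : PrimeSpectrum.Top A) :
    q.asIdeal ∈ FlatCA.weakAss A M ↔ Curv2.IsWeakAssPoint (tilde M) (show Spec A from q) := by
  rw [Groth.Agent.Lib.Helper45.isWeakAssPoint_iff_exists_radical_annEl]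
  have hq : q.asIdeal.IsPrime := q.isPrime
  let _ : Algebra A ((Spec A).presheaf.stalk q) :=
    inferInstanceAs (Algebra A ((structurePresheafInCommRingCat A).stalk q))
  have h1 : IsLocalization.AtPrime ((Spec A).presheaf.stalk q) q.asIdeal :=
    inferInstanceAs (IsLocalization.AtPrime ((structurePresheafInCommRingCat A).stalk q) q.asIdeal)
  have h2 : IsLocalizedModule q.asIdeal.primeCompl (tilde.toStalk M q).hom := inferInstance
  have h3 : IsScalarTower A ((Spec A).presheaf.stalk q) ((tilde M).presheaf.stalk q) := 
    inferInstanceAs (IsScalarTower A ((structurePresheafInCommRingCat A).stalk q)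
      ↑(TopCat.Presheaf.stalk (moduleStructurePresheaf A M).presheaf q))
  exact Groth.Agent.Lib.Helper45.mem_weakAss_iff_exists_radical_annEl_eq_maximalIdeal q.asIdeal
    ((Spec A).presheaf.stalk q) (tilde.toStalk M q).hom

end

theorem result (A : CommRingCat.{u}) (M : ModuleCat.{u} A) (p : Spec A) :
    p.asIdeal ∈ FlatCA.weakAss A M ↔ Curv2.IsWeakAssPoint (tilde M) p := 
  aux A M p

end Groth.Agent.S12215
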