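import Groth.Statements.S9586
import Groth.Agent.Lib.Helper45.WeakAss

set_option autoImplicit false
universe u
open CAlg

namespace Groth.Agent.S9586

open Groth.Agent.Lib.Helper45

/-- If every element of a finitely generated ideal `Q` can be multiplied into `I` by an element
outside the prime `p`, then a single element outside `p` does it for all of `Q`. -/
theorem exists_forall_mul_mem_of_fg {R : Type*} [CommRing R] (p : Ideal R) [p.IsPrime]
    (I Q : Ideal R) (hQ : Q.FG) (h : ∀ z ∈ Q, ∃ t ∉ p, t * z ∈ I) :
    ∃ t ∉ p, ∀ z ∈ Q, t * z ∈ I := by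
  classical
  obtain ⟨T, rfl⟩ := hQ
  choose! t ht htz using h
  refine ⟨∏ x ∈ T, t x, ?_, ?_⟩
  · intro hmem
    rw [Ideal.IsPrime.prod_mem_iff] at hmem
    obtain ⟨x, hx, hxp⟩ := hmem
    exact ht x (Ideal.subset_span hx) hxp
  · intro z hz
    induction hz using Submodule.span_induction with
    | mem x hx =>
      obtain ⟨c, hc⟩ := Finset.dvd_prod_of_mem t hx
      rw [hc, mul_right_comm]
      exact I.mul_mem_right _ (htz x (Ideal.subset_span hx))
    | zero => simp
    | add x y _ _ hx hy => rw [mul_add]; exact I.add_mem hx hy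
    | smul a x _ hx => rw [smul_eq_mul, mul_left_comm]; exact I.mul_mem_left _ hx

/-- For a ring R, an R-module M and a finitely generated prime ideal p of R, p is associated to M (equal
to the annihilator of an element) if and only if p is weakly associated to M (minimal over the
annihilator of an element). -/
theorem result {R : Type u} [CommRing R] (M : Type u) [AddCommGroup M] [Module R M] (p : Ideal R) [p.IsPrime] (hp : p.FG) :
    p ∈ FlatCA.ass R M ↔ p ∈ FlatCA.weakAss R M := by
  constructor
  · rintro ⟨_, m, hm⟩
    refine ⟨m, ?_⟩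
    rw [← hm, Ideal.minimalPrimes_eq_subsingleton_self]
    exact rfl
  · rintro ⟨m, hm⟩
    replace hm : p ∈ (annEl R m).minimalPrimes := hm
    have hA : ∃ N, ∃ s ∉ p, ∀ z ∈ p ^ N, s * z ∈ annEl R m := by
      have hrad := IsLocalization.AtPrime.radical_map_of_mem_minimalPrimes
        (Localization.AtPrime p) p _ hm
      obtain ⟨k, hk⟩ := Ideal.exists_pow_le_of_le_radical_of_fg hrad.ge (hp.map _)
      refine ⟨k, exists_forall_mul_mem_of_fg p _ (p ^ k) (hp.pow) ?_⟩
      intro z hz
      have hzk : algebraMap R (Localization.AtPrime p) z ∈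
          (annEl R m).map (algebraMap R (Localization.AtPrime p)) :=
        hk (by rw [← Ideal.map_pow]; exact Ideal.mem_map_of_mem _ hz)
      rw [IsLocalization.algebraMap_mem_map_algebraMap_iff p.primeCompl] at hzk
      obtain ⟨t, ht, htz⟩ := hzk
      exact ⟨t, ht, htz⟩
    classical
    obtain ⟨s, hs, hsN⟩ := Nat.find_spec hA
    have hN0 : Nat.find hA ≠ 0 := by
      intro h0
      rw [h0, pow_zero] at hsN
      have := hsN 1 (by simp)
      rw [mul_one] at this
      exact hs (hm.1.2 this)
    obtain ⟨N', hN'⟩ := Nat.exists_eq_succ_of_ne_zero hN0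
    have hmin := Nat.find_min hA (m := N') (by omega)
    have hz : ∃ z ∈ p ^ N', ∀ t, t * (s * z) ∈ annEl R m → t ∈ p := by
      by_contra hcon
      push Not at hcon
      apply hmin
      exact exists_forall_mul_mem_of_fg p _ (p ^ N') hp.pow (fun z hz => by
        obtain ⟨t, ht1, ht2⟩ := hcon z hz
        refine ⟨t * s, ?_, by rwa [mul_assoc]⟩
        intro hts
        rcases Ideal.IsPrime.mem_or_mem inferInstance hts with h | h
        · exact ht2 h
        · exact hs h)
    obtain ⟨z, hz, hzt⟩ := hz
    refine ⟨inferInstance, (s * z) • m, ?_⟩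
    apply le_antisymm
    · intro x hx
      show x ∈ annEl R ((s * z) • m)
      rw [mem_annEl, smul_smul]
      have hxz : x * z ∈ p ^ Nat.find hA := by
        rw [hN', pow_succ']
        exact Ideal.mul_mem_mul hx hz
      have := hsN _ hxz
      rw [mem_annEl] at this
      rw [← this]
      congr 1
      ring
    · intro t ht
      apply hzt
      replace ht : t ∈ annEl R ((s * z) • m) := ht
      rw [mem_annEl, smul_smul] at ht
      rw [mem_annEl, ht]

end Groth.Agent.S9586
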