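import Groth.Statements.S1578
import Groth.Agent.S12215
import Groth.Agent.S9586
import Groth.Agent.Lib.Helper45.AssPoint
import Groth.Agent.Lib.Helper45.WeakAssNoeth

set_option autoImplicit false
universe u
open CategoryTheory CategoryTheory.Limits AlgebraicGeometry
open Divisors

namespace Groth.Agent.S1578

open Groth.Agent.Lib.Helper45 in
/-- Mathlib's associated primes (radical of an annihilator) are weakly associated. -/
theorem associatedPrimes_subset_weakAss {R : Type*} [CommRing R] {M : Type*} [AddCommGroup M]
    [Module R M] : associatedPrimes R M ⊆ FlatCA.weakAss R M := by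
  rintro p ⟨hp, m, hm⟩
  refine ⟨m, ?_⟩
  show p ∈ (annEl R m).minimalPrimes
  rw [← colon_bot_singleton_eq_annEl, ← Ideal.radical_minimalPrimes, ← hm,
    Ideal.minimalPrimes_eq_subsingleton_self]
  exact rfl

open Groth.Agent.Lib.Helper45 in
/-- A finitely generated weakly associated prime is an associated prime. -/
theorem mem_associatedPrimes_of_mem_weakAss_of_fg {R : Type u} [CommRing R] {M : Type u}
    [AddCommGroup M] [Module R M] {p : Ideal R} (hfg : p.FG) (hp : p ∈ FlatCA.weakAss R M) :
    p ∈ associatedPrimes R M := by
  have hP : p.IsPrime := isPrime_of_mem_weakAss hp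
  obtain ⟨_, m, hm⟩ := (Groth.Agent.S9586.result M p hfg).mpr hp
  refine ⟨hP, m, ?_⟩
  rw [colon_bot_singleton_eq_annEl]
  show p = (annEl R m).radical
  have : annEl R m = p := hm.symm
  rw [this, hP.radical]

/-- Let M be a module over a ring A, F the associated quasi-coherent module on Spec A, and p a prime of
A. If p is an associated prime of M then p is an associated point of F; the converse holds when p is
finitely generated. -/
theorem result (A : CommRingCat.{u}) (M : ModuleCat.{u} A)
    (p : Spec A) :
    (p.asIdeal ∈ associatedPrimes A M → Curv2.IsAssPoint (tilde M) p) ∧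
    (p.asIdeal.FG → Curv2.IsAssPoint (tilde M) p → p.asIdeal ∈ associatedPrimes A M) := by
  constructor
  · intro h
    rw [Groth.Agent.Lib.Helper45.isAssPoint_iff_isWeakAssPoint, ← Groth.Agent.S12215.result]
    exact associatedPrimes_subset_weakAss h
  · intro hfg h
    rw [Groth.Agent.Lib.Helper45.isAssPoint_iff_isWeakAssPoint, ← Groth.Agent.S12215.result] at h
    exact mem_associatedPrimes_of_mem_weakAss_of_fg hfg h

end Groth.Agent.S1578
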