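import Groth.Statements.S8870
import Groth.Agent.Lib.Helper45.WeakAssPoint
import Groth.Agent.Lib.Helper45.ModulesExact

set_option autoImplicit false
universe u
open CategoryTheory CategoryTheory.Limits AlgebraicGeometry TopologicalSpace
open SDiv

namespace Groth.Agent.S8870

open Groth.Agent.Lib.Helper45

/-- Let X be a scheme and 0 → F₁ → F₂ → F₃ → 0 a short exact sequence of quasi-coherent O_X-modules.
Then WeakAss(F₂) ⊆ WeakAss(F₁) ∪ WeakAss(F₃) and WeakAss(F₁) ⊆ WeakAss(F₂). -/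
theorem result (X : Scheme.{u}) (S : ShortComplex X.Modules) (hS : S.ShortExact)
    (h₁ : Coh.IsQCoh S.X₁) (h₂ : Coh.IsQCoh S.X₂) (h₃ : Coh.IsQCoh S.X₃) :
    (∀ x : ↥X, Curv2.IsWeakAssPoint S.X₂ x → Curv2.IsWeakAssPoint S.X₁ x ∨ Curv2.IsWeakAssPoint S.X₃ x) ∧
      (∀ x : ↥X, Curv2.IsWeakAssPoint S.X₁ x → Curv2.IsWeakAssPoint S.X₂ x) := by
  have : S.X₁.IsQuasicoherent := h₁
  have : S.X₂.IsQuasicoherent := h₂
  have : S.X₃.IsQuasicoherent := h₃
  have : Mono S.f := hS.mono_f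
  constructor
  · intro x hx
    obtain ⟨_, ⟨U, hU : IsAffineOpen U, rfl⟩, hxU, -⟩ :=
      X.isBasis_affineOpens.exists_subset_of_mem_open (Set.mem_univ x) isOpen_univ
    rw [isWeakAssPoint_iff_of_isAffineOpen hU _ ⟨x, hxU⟩] at hx
    rw [isWeakAssPoint_iff_of_isAffineOpen hU S.X₁ ⟨x, hxU⟩,
      isWeakAssPoint_iff_of_isAffineOpen hU S.X₃ ⟨x, hxU⟩]
    exact weakAss_subset_union_of_exact (appₗ S.f U) (appₗ S.g U)
      (app_injective_of_mono S.f U) (app_exact_of_shortExact S hS U) hx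
  · intro x hx
    obtain ⟨_, ⟨U, hU : IsAffineOpen U, rfl⟩, hxU, -⟩ :=
      X.isBasis_affineOpens.exists_subset_of_mem_open (Set.mem_univ x) isOpen_univ
    rw [isWeakAssPoint_iff_of_isAffineOpen hU _ ⟨x, hxU⟩] at hx
    rw [isWeakAssPoint_iff_of_isAffineOpen hU S.X₂ ⟨x, hxU⟩]
    exact weakAss_subset_of_injective (appₗ S.f U) (app_injective_of_mono S.f U) hx

end Groth.Agent.S8870
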