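import Groth.Statements.S1576
import Groth.Agent.Lib.Helper45.FiniteType
import Groth.Agent.Lib.Helper45.WeakAssNoeth
import Groth.Agent.Lib.Helper45.AssPoint
import Groth.Agent.Lib.Helper45.AffinePoints

set_option autoImplicit false
universe u
open CategoryTheory CategoryTheory.Limits AlgebraicGeometry
open Divisors

namespace Groth.Agent.S1576

open Groth.Agent.Lib.Helper45

/-- On a locally Noetherian scheme, a coherent module has finitely many weakly associated points
in any affine open. -/
theorem finite_weakAssPoints_affine {X : Scheme.{u}} [IsLocallyNoetherian X] (F : X.Modules)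
    (hF : Coh.IsCoh F) {V : X.Opens} (hV : IsAffineOpen V) :
    {x : X | x ∈ V ∧ Curv2.IsWeakAssPoint F x}.Finite := by
  have hq : SheafOfModules.IsQuasicoherent.{u, u, u} F := hF.1
  have : IsNoetherianRing Γ(X, V) := IsLocallyNoetherian.component_noetherian ⟨V, hV⟩
  have : Module.Finite Γ(X, V) Γ(F, V) := finite_sections_of_isCoh hV F hF
  have hfin : (FlatCA.weakAss Γ(X, V) Γ(F, V)).Finite := weakAss_finite
  -- the map `x ↦ prime of x` is injective on `V` and sends weakly associated points into `weakAss`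
  have hsub : {x : X | x ∈ V ∧ Curv2.IsWeakAssPoint F x} ⊆
      (fun x : V => (x : X)) '' {x : V | (hV.primeIdealOf x).asIdeal ∈
        FlatCA.weakAss Γ(X, V) Γ(F, V)} := by
    rintro x ⟨hxV, hx⟩
    exact ⟨⟨x, hxV⟩, (isWeakAssPoint_iff_of_isAffineOpen hV F ⟨x, hxV⟩).mp hx, rfl⟩
  refine Set.Finite.subset (Set.Finite.image _ ?_) hsub
  have hinj : Set.InjOn (fun x : V => (hV.primeIdealOf x).asIdeal)
      {x : V | (hV.primeIdealOf x).asIdeal ∈ FlatCA.weakAss Γ(X, V) Γ(F, V)} := by
    intro x _ y _ hxy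
    exact primeIdealOf_injective hV (PrimeSpectrum.ext hxy)
  exact Set.Finite.of_finite_image (hfin.subset (by rintro _ ⟨x, hx, rfl⟩; exact hx)) hinj

/-- Let X be locally Noetherian and F coherent. Then the associated points of F lying in any
quasi-compact open subset form a finite set. -/
theorem result (X : Scheme.{u}) [IsLocallyNoetherian X]
    (F : X.Modules) (hF : Coh.IsCoh F) (U : X.Opens) (hU : IsCompact (U : Set X)) :
    {x : X | x ∈ U ∧ Curv2.IsAssPoint F x}.Finite := by
  -- cover the quasi-compact open `U` by finitely many affine opens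
  obtain ⟨s, hs⟩ := hU.elim_finite_subcover
    (fun V : X.affineOpens => ((V : X.Opens) : Set X)) (fun V => (V : X.Opens).2)
    (by
      intro x _
      obtain ⟨_, ⟨V, hV : IsAffineOpen V, rfl⟩, hxV, -⟩ :=
        X.isBasis_affineOpens.exists_subset_of_mem_open (Set.mem_univ x) isOpen_univ
      exact Set.mem_iUnion.mpr ⟨⟨V, hV⟩, hxV⟩)
  have hsub : {x : X | x ∈ U ∧ Curv2.IsAssPoint F x} ⊆
      ⋃ V ∈ s, {x : X | x ∈ (V : X.Opens) ∧ Curv2.IsWeakAssPoint F x} := by
    rintro x ⟨hxU, hx⟩
    obtain ⟨V, hVs, hxV⟩ := Set.mem_iUnion₂.mp (hs hxU)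
    exact Set.mem_iUnion₂.mpr ⟨V, hVs, hxV, (isAssPoint_iff_isWeakAssPoint F x).mp hx⟩
  refine Set.Finite.subset (Set.Finite.biUnion s.finite_toSet ?_) hsub
  intro V _
  exact finite_weakAssPoints_affine F hF V.2

end Groth.Agent.S1576
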