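import Groth.Statements.S8868
import Groth.Agent.Lib.Helper45.WeakAssPoint
import Groth.Agent.Lib.Helper45.ModulesBasic

set_option autoImplicit false
universe u
open CategoryTheory CategoryTheory.Limits AlgebraicGeometry TopologicalSpace
open SDiv

namespace Groth.Agent.S8868

open Groth.Agent.Lib.Helper45

/-- Let X be a scheme and F a quasi-coherent O_X-module. Then F is zero if and only if F has no weakly
associated point. -/
theorem result (X : Scheme.{u}) (F : X.Modules) (hF : Coh.IsQCoh F) :
    IsZero F ↔ ∀ x : ↥X, ¬ Curv2.IsWeakAssPoint F x := by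
  have : F.IsQuasicoherent := hF
  constructor
  · intro h x hx
    have hsub := (isZero_iff_stalk_subsingleton F).mp h x
    rw [isWeakAssPoint_iff_mem_weakAss_stalk] at hx
    have hempty := (weakAss_eq_empty_iff (R := X.presheaf.stalk x)
      (M := F.presheaf.stalk x)).mpr hsub
    rw [hempty] at hx
    exact hx
  · intro h
    rw [isZero_iff_stalk_subsingleton]
    intro x
    obtain ⟨_, ⟨U, hU : IsAffineOpen U, rfl⟩, hxU, -⟩ :=
      X.isBasis_affineOpens.exists_subset_of_mem_open (Set.mem_univ x) isOpen_univ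
    have hM : Subsingleton Γ(F, U) := by
      rw [← weakAss_eq_empty_iff (R := Γ(X, U))]
      rw [Set.eq_empty_iff_forall_notMem]
      intro p hp
      have hpp : p.IsPrime := isPrime_of_mem_weakAss hp
      obtain ⟨y, hy⟩ := exists_primeIdealOf_eq hU ⟨p, hpp⟩
      apply h y
      rw [isWeakAssPoint_iff_of_isAffineOpen hU F y, hy]
      exact hp
    let _ := stalkModuleSections F (⟨x, hxU⟩ : U)
    have hloc := isLocalizedModule_germₗ hU F ⟨x, hxU⟩
    refine ⟨fun a b => ?_⟩
    obtain ⟨⟨m, s⟩, hs⟩ := IsLocalizedModule.surj (hU.primeIdealOf ⟨x, hxU⟩).asIdeal.primeCompl (germₗ F (⟨x, hxU⟩ : U)) a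
    obtain ⟨⟨m', s'⟩, hs'⟩ := IsLocalizedModule.surj (hU.primeIdealOf ⟨x, hxU⟩).asIdeal.primeCompl (germₗ F (⟨x, hxU⟩ : U)) b
    have hunit := IsLocalizedModule.map_units (germₗ F (⟨x, hxU⟩ : U)) s
    have hunit' := IsLocalizedModule.map_units (germₗ F (⟨x, hxU⟩ : U)) s'
    rw [Module.End.isUnit_iff] at hunit hunit'
    have ha : a = 0 := by
      apply hunit.1
      rw [Module.algebraMap_end_apply, Module.algebraMap_end_apply, smul_zero]
      rw [Submonoid.smul_def] at hs
      rw [hs, hM.elim m 0, map_zero]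
    have hb : b = 0 := by
      apply hunit'.1
      rw [Module.algebraMap_end_apply, Module.algebraMap_end_apply, smul_zero]
      rw [Submonoid.smul_def] at hs'
      rw [hs', hM.elim m' 0, map_zero]
    rw [ha, hb]

end Groth.Agent.S8868
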