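import Groth.Statements.S1707
import Groth.Agent.Lib.Helper45.AssPoint
import Groth.Agent.Lib.Helper45.AffinePoints

set_option autoImplicit false
universe u
open CategoryTheory CategoryTheory.Limits AlgebraicGeometry TopologicalSpace
open SDiv

namespace Groth.Agent.S1707

open Groth.Agent.Lib.Helper45

/-- Let X be a scheme, F a quasi-coherent module and x a point of the support of F such that no other
point of the support specializes to x. Then x is weakly associated to F. -/
theorem result (X : Scheme.{u}) (F : X.Modules) (hF : Coh.IsQCoh F) (x : ↥X)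
    (hx : x ∈ CohB1.support F) (hmax : ∀ y : ↥X, y ∈ CohB1.support F → y ⤳ x → y = x) : Curv2.IsWeakAssPoint F x := by
  have : F.IsQuasicoherent := hF
  obtain ⟨_, ⟨V, hV : IsAffineOpen V, rfl⟩, hxV, -⟩ :=
    X.isBasis_affineOpens.exists_subset_of_mem_open (Set.mem_univ x) isOpen_univ
  -- a section whose germ at `x` is nonzero
  have hex : ∃ m : Γ(F, V), F.presheaf.germ V x hxV m ≠ 0 := by
    by_contra hcon
    push Not at hcon
    apply hx
    refine ⟨fun a b => ?_⟩
    let _ := stalkModuleSections F (⟨x, hxV⟩ : V)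
    have hloc := isLocalizedModule_germₗ hV F ⟨x, hxV⟩
    have key : ∀ c : F.presheaf.stalk x, c = 0 := by
      intro c
      obtain ⟨⟨m, t⟩, ht⟩ := IsLocalizedModule.surj
        (hV.primeIdealOf ⟨x, hxV⟩).asIdeal.primeCompl (germₗ F (⟨x, hxV⟩ : V)) c
      have hunit := IsLocalizedModule.map_units (germₗ F (⟨x, hxV⟩ : V)) t
      rw [Module.End.isUnit_iff] at hunit
      apply hunit.1
      rw [Module.algebraMap_end_apply, Module.algebraMap_end_apply, smul_zero]
      rw [Submonoid.smul_def] at ht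
      rw [ht]
      exact hcon m
    rw [key a, key b]
  obtain ⟨m, hm⟩ := hex
  -- the annihilator of `m` is contained in the prime of `x`
  have hle : annEl Γ(X, V) m ≤ (hV.primeIdealOf ⟨x, hxV⟩).asIdeal := by
    intro t ht
    by_contra htp
    apply hm
    let _ := stalkModuleSections F (⟨x, hxV⟩ : V)
    have hloc := isLocalizedModule_germₗ hV F ⟨x, hxV⟩
    exact (IsLocalizedModule.eq_zero_iff (hV.primeIdealOf ⟨x, hxV⟩).asIdeal.primeCompl
      (germₗ F (⟨x, hxV⟩ : V))).mpr ⟨⟨t, htp⟩, mem_annEl.mp ht⟩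
  obtain ⟨q, hq, hqp⟩ := Ideal.exists_minimalPrimes_le hle
  have hqP : q.IsPrime := hq.1.1
  obtain ⟨y, hy⟩ := exists_primeIdealOf_eq hV ⟨q, hqP⟩
  have hyq : (hV.primeIdealOf y).asIdeal = q := congrArg PrimeSpectrum.asIdeal hy
  have hyx : (y : X) ⤳ x := by
    have hle' : (hV.primeIdealOf y).asIdeal ≤ (hV.primeIdealOf ⟨x, hxV⟩).asIdeal :=
      hyq.le.trans hqp
    exact (primeIdealOf_le_iff hV ⟨x, hxV⟩ y).mp hle'
  have hysupp : (y : X) ∈ CohB1.support F := by
    intro hsub
    have h0 : F.presheaf.germ V y y.2 m = 0 := hsub.elim _ _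
    let _ := stalkModuleSections F y
    have hloc := isLocalizedModule_germₗ hV F y
    obtain ⟨t, ht⟩ := (IsLocalizedModule.eq_zero_iff (hV.primeIdealOf y).asIdeal.primeCompl
      (germₗ F y)).mp h0
    have htq : (t : Γ(X, V)) ∈ (hV.primeIdealOf y).asIdeal :=
      hyq.ge (hq.1.2 (mem_annEl.mpr ht))
    exact t.2 htq
  have hyeq : (y : X) = x := hmax y hysupp hyx
  have hy' : y = ⟨x, hxV⟩ := Subtype.ext hyeq
  rw [isWeakAssPoint_iff_of_isAffineOpen hV F ⟨x, hxV⟩, ← hy', hyq]
  exact ⟨m, hq⟩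

end Groth.Agent.S1707
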