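import Groth.Statements.S4636
import Groth.Agent.S2506
import Groth.Agent.S1707
import Groth.Agent.Lib.Helper45.FiniteType

set_option autoImplicit false
open CategoryTheory AlgebraicGeometry
universe u
open AssSch

namespace Groth.Agent.S4636

open Groth.Agent.Lib.Helper45

attribute [local instance] stalkModuleSections

/-- An associated point has a nonzero stalk. -/
theorem nontrivial_stalk_of_isAssPoint {X : Scheme.{u}} (F : X.Modules) (x : X)
    (hx : Curv2.IsAssPoint F x) : Nontrivial ↑(F.presheaf.stalk x) := by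
  by_contra hnt
  rw [not_nontrivial_iff_subsingleton] at hnt
  obtain ⟨hprime, a, ha⟩ : IsAssociatedPrime (IsLocalRing.maximalIdeal (X.presheaf.stalk x))
    (F.presheaf.stalk x) := hx
  have htop : (⊥ : Submodule (X.presheaf.stalk x) (F.presheaf.stalk x)).colon {a} = ⊤ := by
    rw [Ideal.eq_top_iff_one, Submodule.mem_colon_singleton]
    exact Subsingleton.elim _ _
  rw [htop, Ideal.radical_top] at ha
  exact hprime.ne_top ha

/-- If the stalk of the quasi-coherent module `F` at a point `y` of the affine open `V` is nonzero,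
the prime of `y` is in the support of `Γ(F, V)`. -/
theorem primeIdealOf_mem_support {X : Scheme.{u}} (F : X.Modules) [F.IsQuasicoherent]
    {V : X.Opens} (hV : IsAffineOpen V) (y : V) (hy : Nontrivial ↑(F.presheaf.stalk (y : X))) :
    hV.primeIdealOf y ∈ Module.support Γ(X, V) Γ(F, V) := by
  rw [Module.mem_support_iff]
  have := isLocalizedModule_germₗ hV F y
  exact (IsLocalizedModule.iso (hV.primeIdealOf y).asIdeal.primeCompl (germₗ F y)).toEquiv.nontrivial

/-- Let X be a locally Noetherian scheme, F a coherent O_X-module and x a point of X. Then x is a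
maximal associated point of F (an associated point such that every associated point specialising to
x equals x) if and only if x is the generic point of an irreducible component of Supp F, i.e. F_x ≠
0 and every point y with F_y ≠ 0 that specialises to x equals x. -/
theorem result {X : Scheme.{u}} [IsLocallyNoetherian X] (F : X.Modules)
    (hF : Coh.IsCoh F) (x : X) :
    (x ∈ AssSch.Ass F ∧ ∀ y ∈ AssSch.Ass F, y ⤳ x → y = x) ↔
      (Nontrivial ↑(F.presheaf.stalk x) ∧ ∀ y : X, Nontrivial ↑(F.presheaf.stalk y) → y ⤳ x → y = x) := by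
  have hq : SheafOfModules.IsQuasicoherent.{u, u, u} F := hF.1
  constructor
  · rintro ⟨hx, hmax⟩
    refine ⟨nontrivial_stalk_of_isAssPoint F x hx, ?_⟩
    intro y hy hyx
    obtain ⟨_, ⟨V, hV : IsAffineOpen V, rfl⟩, hxV, -⟩ :=
      X.isBasis_affineOpens.exists_subset_of_mem_open (Set.mem_univ x) isOpen_univ
    have hyV : y ∈ V := hyx.mem_open V.2 hxV
    obtain ⟨x, rfl⟩ : ∃ x' : V, (x' : X) = x := ⟨⟨x, hxV⟩, rfl⟩
    obtain ⟨y, rfl⟩ : ∃ y' : V, (y' : X) = y := ⟨⟨y, hyV⟩, rfl⟩
    have : IsNoetherianRing Γ(X, V) := IsLocallyNoetherian.component_noetherian ⟨V, hV⟩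
    have : Module.Finite Γ(X, V) Γ(F, V) := finite_sections_of_isCoh hV F hF
    have hsupp := primeIdealOf_mem_support F hV y hy
    have hann : Module.annihilator Γ(X, V) Γ(F, V) ≤ (hV.primeIdealOf y).asIdeal :=
      Module.annihilator_le_of_mem_support hsupp
    obtain ⟨q0, hq0, hq0q⟩ := Ideal.exists_minimalPrimes_le hann
    have hq0ass : q0 ∈ associatedPrimes Γ(X, V) Γ(F, V) :=
      Module.associatedPrimes.minimalPrimes_annihilator_subset_associatedPrimes _ _ hq0
    have hq0P : q0.IsPrime := hq0.1.1
    obtain ⟨z, hz⟩ := exists_primeIdealOf_eq hV ⟨q0, hq0P⟩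
    have hzq : (hV.primeIdealOf z).asIdeal = q0 := congrArg PrimeSpectrum.asIdeal hz
    have hzass : Curv2.IsAssPoint F (z : X) := by
      rw [Groth.Agent.S2506.isAssPoint_iff_mem_associatedPrimes F hV z, hzq]
      exact hq0ass
    have hzy : (z : X) ⤳ (y : X) := by
      rw [← primeIdealOf_le_iff hV y z, hzq]
      exact hq0q
    have hzx : (z : X) = (x : X) := hmax z hzass (hzy.trans hyx)
    have hxy : (x : X) ⤳ (y : X) := hzx ▸ hzy
    exact (hyx.antisymm hxy).eq
  · rintro ⟨hnt, hmax⟩
    have hsupp : x ∈ CohB1.support F := not_subsingleton_iff_nontrivial.mpr hnt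
    have hw := Groth.Agent.S1707.result X F hF.1 x hsupp
      (fun y hy hyx => hmax y (not_subsingleton_iff_nontrivial.mp hy) hyx)
    refine ⟨(isAssPoint_iff_isWeakAssPoint F x).mpr hw, ?_⟩
    intro y hy hyx
    exact hmax y (nontrivial_stalk_of_isAssPoint F y hy) hyx

end Groth.Agent.S4636
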