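import Groth.Statements.S0045
import Groth.Agent.Lib.Helper49.StalkNbhd2
import Groth.Agent.Lib.Helper45.FiniteType
import Groth.Agent.Lib.Helper45.ModulesExact

set_option autoImplicit false
universe u
open Coherent

namespace Groth.Agent.S0045

open AlgebraicGeometry CategoryTheory Groth.Agent.Lib.Helper45 Groth.Agent.Lib.Helper49

attribute [local instance] stalkModuleSections

/-- A morphism of quasi-coherent modules which is bijective on sections over the members of an
affine open cover is an isomorphism. -/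
theorem isIso_of_app_bijective_of_cover {X : Scheme.{u}} {A B : X.Modules}
    [A.IsQuasicoherent] [B.IsQuasicoherent] (φ : A ⟶ B)
    (h : ∀ x : X, ∃ U : X.Opens, IsAffineOpen U ∧ x ∈ U ∧ Function.Bijective (φ.app U)) :
    IsIso φ := by
  apply isIso_of_stalkMap_bijective
  intro x
  obtain ⟨U, hU, hxU, hbij⟩ := h x
  obtain ⟨x, rfl⟩ : ∃ x' : U, (x' : X) = x := ⟨⟨x, hxU⟩, rfl⟩
  have h1 := isLocalizedModule_germₗ hU A x
  have h2 := isLocalizedModule_germₗ hU B x
  have heq := stalkMapₗ_eq_map φ hU x
  have hinj : Function.Injective (stalkMapₗ φ x) := by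
    rw [heq]
    exact IsLocalizedModule.map_injective _ _ _ _ hbij.1
  have hsurj : Function.Surjective (stalkMapₗ φ x) := by
    rw [heq]
    exact IsLocalizedModule.map_surjective _ _ _ _ hbij.2
  exact ⟨hinj, hsurj⟩

open AlgebraicGeometry CategoryTheory in
/-- On a Noetherian scheme, any increasing sequence of quasi-coherent submodules of a coherent module is
eventually constant. -/
theorem result (X : Scheme.{u}) [IsNoetherian X] (M : X.Modules)
    (hM : Coh.IsCoh M) (F : ℕ →o Subobject M) (hF : ∀ n, Coh.IsQCoh ((F n : Subobject M) : X.Modules)) :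
    ∃ n : ℕ, ∀ m : ℕ, n ≤ m → F m = F n := by
  classical
  have hMq : SheafOfModules.IsQuasicoherent.{u, u, u} M := hM.1
  have hq : ∀ n, ((F n : Subobject M) : X.Modules).IsQuasicoherent := hF
  -- the submodule of sections of `F n` over `U`
  let sec : ∀ (U : X.affineOpens), ℕ → Submodule Γ(X, U.1) Γ(M, U.1) := fun U n =>
    LinearMap.range (Groth.Agent.Lib.Helper45.appₗ (F n).arrow U.1)
  have hsec_mono : ∀ (U : X.affineOpens), Monotone (sec U) := by
    intro U n m hnm
    rintro _ ⟨s, rfl⟩
    refine ⟨(Subobject.ofLE (F n) (F m) (F.monotone hnm)).app U.1 s, ?_⟩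
    change (F m).arrow.app U.1 ((Subobject.ofLE (F n) (F m) (F.monotone hnm)).app U.1 s) =
      (F n).arrow.app U.1 s
    rw [← ConcreteCategory.comp_apply, ← Scheme.Modules.Hom.comp_app, Subobject.ofLE_arrow]
  -- stabilisation over each affine open
  have hstab : ∀ U : X.affineOpens, ∃ N : ℕ, ∀ m, N ≤ m → sec U N = sec U m := by
    intro U
    have : IsNoetherianRing Γ(X, U.1) := IsLocallyNoetherian.component_noetherian U
    have : Module.Finite Γ(X, U.1) Γ(M, U.1) := finite_sections_of_isCoh U.2 M hM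
    have hN : IsNoetherian Γ(X, U.1) Γ(M, U.1) := isNoetherian_of_isNoetherianRing_of_finite _ _
    exact monotone_stabilizes_iff_noetherian.2 hN ⟨sec U, hsec_mono U⟩
  choose N hN using hstab
  -- finite affine cover
  obtain ⟨t, ht⟩ := isCompact_univ.elim_finite_subcover
    (fun U : X.affineOpens => ((U.1 : X.Opens) : Set X)) (fun U => U.1.isOpen) (by
      intro x _
      obtain ⟨U, hU, hx, -⟩ := exists_isAffineOpen_mem_and_subset (x := x) (U := ⊤) trivial
      exact Set.mem_iUnion.2 ⟨⟨U, hU⟩, hx⟩)
  refine ⟨t.sup N, fun m hm => ?_⟩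
  have hle : F (t.sup N) ≤ F m := F.monotone hm
  refine le_antisymm ?_ hle
  let φ := Subobject.ofLE (F (t.sup N)) (F m) hle
  have hφ : φ ≫ (F m).arrow = (F (t.sup N)).arrow := Subobject.ofLE_arrow hle
  have : Mono φ := inferInstance
  have hiso : IsIso φ := by
    apply isIso_of_app_bijective_of_cover
    intro x
    obtain ⟨U, hUt, hxU⟩ : ∃ U ∈ t, x ∈ (U.1 : X.Opens) := by
      have := ht (Set.mem_univ x)
      simpa using this
    refine ⟨U.1, U.2, hxU, Groth.Agent.Lib.Helper45.app_injective_of_mono φ U.1, ?_⟩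
    intro b
    have h1 : sec U (t.sup N) = sec U m := by
      rw [← hN U (t.sup N) (Finset.le_sup hUt), ← hN U m ((Finset.le_sup hUt).trans hm)]
    have hb : (F m).arrow.app U.1 b ∈ sec U m := ⟨b, rfl⟩
    rw [← h1] at hb
    obtain ⟨a, ha⟩ := hb
    refine ⟨a, ?_⟩
    apply Groth.Agent.Lib.Helper45.app_injective_of_mono (F m).arrow U.1
    rw [← ConcreteCategory.comp_apply, ← Scheme.Modules.Hom.comp_app, hφ]
    exact ha
  exact Subobject.le_of_comm (inv φ) (by rw [IsIso.inv_comp_eq, hφ])

end Groth.Agent.S0045
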