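import Groth.Statements.S0027
import Groth.Agent.Lib.Helper67.DevMain

set_option autoImplicit false
universe u
open Coherent

namespace Groth.Agent.S0027

open AlgebraicGeometry CategoryTheory CategoryTheory.Limits in
/-- Let X be a nonempty Noetherian scheme and P an isomorphism-invariant property of O_X-modules such
that (1) in a short exact sequence of coherent modules, P for the two outer terms implies P for the
middle term, and (2) P holds for the direct image of every quasi-coherent ideal sheaf of every
integral closed subscheme of X. Then P holds for every coherent O_X-module. (Nonemptiness of X is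
needed for the zero module; the published statement leaves it implicit.) -/
theorem result (X : Scheme.{u}) [IsNoetherian X] [Nonempty X]
    (P : X.Modules → Prop) (hP : ∀ M N : X.Modules, Nonempty (M ≅ N) → P M → P N)
    (h₁ : ∀ S : ShortComplex X.Modules, S.ShortExact → Coh.IsCoh S.X₁ → Coh.IsCoh S.X₂ →
      Coh.IsCoh S.X₃ → P S.X₁ → P S.X₃ → P S.X₂)
    (h₂ : ∀ (Z : Scheme.{u}) (i : Z ⟶ X), IsClosedImmersion i → IsIntegral Z →
      ∀ (I : Z.Modules) (ι : I ⟶ Coh.structureModule Z), Mono ι → Coh.IsQCoh I →
        P ((Coh.push i).obj I))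
    (M : X.Modules) (hM : Coh.IsCoh M) : P M := by
  obtain ⟨m, F, φ, h0, ⟨e⟩, hcoh, hstep⟩ := Groth.Agent.Lib.Helper67.Devissage.hasFilt M hM
  -- `P` holds for zero modules
  have hzero : ∀ N : X.Modules, IsZero N → P N := by
    intro N hN
    obtain ⟨x₀⟩ := ‹Nonempty X›
    let Z := (Groth.Agent.Lib.Helper67.Devissage.IZ x₀).subscheme
    let i : Z ⟶ X := (Groth.Agent.Lib.Helper67.Devissage.IZ x₀).subschemeι
    obtain ⟨I, hI⟩ : ∃ I : Z.Modules, IsZero I := HasZeroObject.zero
    have hmono : Mono (0 : I ⟶ Coh.structureModule Z) := ⟨fun _ _ _ => hI.eq_of_tgt _ _⟩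
    have h := h₂ Z i inferInstance inferInstance I 0 hmono
      (Groth.Agent.Lib.Helper1.isQuasicoherent_of_isZero I hI)
    have hz : IsZero ((Coh.push i).obj I) := (Coh.push i).map_isZero hI
    exact hP _ _ ⟨hz.iso hN⟩ h
  have key : ∀ j, j ≤ m → P (F j) := by
    intro j
    induction j with
    | zero => exact fun _ => hzero _ h0
    | succ j ih =>
      intro hj
      have hjm : j < m := hj
      obtain ⟨hmono, Z, i, hi, hZ, I, ι, hι, hqI, hI, ⟨ε⟩⟩ := hstep j hjm
      have := hmono
      let S : ShortComplex X.Modules :=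
        ShortComplex.mk (φ j) (cokernel.π (φ j)) (cokernel.condition _)
      have hS : S.ShortExact :=
        ShortComplex.ShortExact.mk' (S.exact_of_g_is_cokernel (cokernelIsCokernel _))
          hmono (inferInstanceAs (Epi (cokernel.π (φ j))))
      have hc1 := hcoh j hjm.le
      have hc2 := hcoh (j + 1) hj
      have hc3 : Coh.IsCoh (cokernel (φ j)) :=
        ⟨Groth.Agent.Lib.Helper49.isQuasicoherent_cokernel (φ j) hc1.1 hc2.1,
          Groth.Agent.Lib.Helper49.isFiniteType_of_epi (cokernel.π (φ j)) hc2.2⟩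
      exact h₁ S hS hc1 hc2 hc3 (ih hjm.le) (hP _ _ ⟨ε.symm⟩ (h₂ Z i hi hZ I ι hι hqI))
  exact hP _ _ ⟨e⟩ (key m le_rfl)

end Groth.Agent.S0027
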