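import Groth.Statements.S10386
-- import your own Groth.Agent.* helpers here
import Groth.Agent.Lib.Helper51.DecentZar
import Groth.Agent.H52.FibreProd
import Groth.Agent.H52.Points

set_option autoImplicit false
universe u
open CategoryTheory CategoryTheory.Limits AlgebraicGeometry Topology TopologicalSpace
open AlgSp

namespace Groth.Agent.S10386

/-- (3) ⇒ (1): let S be a scheme, X and Y algebraic spaces over S, and f : X ⟶ Y a morphism such that Z
×_Y X is decent for every affine scheme Z and every Z ⟶ Y. Then f is decent, i.e. T ×_Y X is decent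
for every scheme T over Y. -/
theorem result {S : Scheme.{u}} {X Y : AlgSp.Space S} (f : X ⟶ Y)
    (h : ∀ (Z : Over S) (g : (AlgSp.yon S).obj Z ⟶ Y.obj) (P : AlgSp.Sp S) (fst : P ⟶ X.obj)
      (snd : P ⟶ (AlgSp.yon S).obj Z), IsAffine Z.left → IsPullback fst snd f.hom g → AlgSp.IsDecent P) :
    AlgSp.IsDecentMor f.hom := by
  intro T F' g fst snd sq
  have hF' : AlgSp.IsAlgSpace F' :=
    Groth.Agent.H52.isAlgSpace_of_isPullback sq X.property Y.property (AlgSp.IsAlgSpace.yon_obj T)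
  -- the affine opens of `T`
  let Tk : T.left.affineOpens → Over S := fun k => Over.mk ((k : T.left.Opens).ι ≫ T.hom)
  let ιk : ∀ k, Tk k ⟶ T := fun k => Over.homMk (k : T.left.Opens).ι rfl
  have hιk : ∀ k, AlgSp.RepWith @IsOpenImmersion ((AlgSp.yon S).map (ιk k)) := fun k =>
    (AlgSp.repWith_yon_map_iff _ _).2 (inferInstanceAs (IsOpenImmersion (k : T.left.Opens).ι))
  have sqk : ∀ k, IsPullback (pullback.fst snd ((AlgSp.yon S).map (ιk k)))
      (pullback.snd snd ((AlgSp.yon S).map (ιk k))) snd ((AlgSp.yon S).map (ιk k)) :=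
    fun k => IsPullback.of_hasPullback _ _
  have big : ∀ k, IsPullback (pullback.fst snd ((AlgSp.yon S).map (ιk k)) ≫ fst)
      (pullback.snd snd ((AlgSp.yon S).map (ιk k))) f.hom ((AlgSp.yon S).map (ιk k) ≫ g) :=
    fun k => (sqk k).paste_horiz sq
  have hdk : ∀ k, AlgSp.IsDecent (pullback snd ((AlgSp.yon S).map (ιk k))) := fun k =>
    h (Tk k) _ _ _ _ k.2 (big k)
  have hAk : ∀ k, AlgSp.IsAlgSpace (pullback snd ((AlgSp.yon S).map (ιk k))) := fun k =>
    Groth.Agent.H52.isAlgSpace_of_isPullback (big k) X.property Y.property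
      (AlgSp.IsAlgSpace.yon_obj _)
  have hopen : ∀ k, AlgSp.RepWith @IsOpenImmersion (pullback.fst snd ((AlgSp.yon S).map (ιk k))) :=
    fun k => MorphismProperty.of_isPullback (sqk k).flip (hιk k)
  refine Groth.Agent.Lib.Helper51.isDecent_of_isZarCover (⟨F', hF'⟩ : AlgSp.Space S)
    (fun k => (⟨_, hAk k⟩ : AlgSp.Space S))
    (fun k => ObjectProperty.homMk (pullback.fst snd ((AlgSp.yon S).map (ιk k)))) ⟨hopen, ?_⟩ hdk
  intro x'
  -- the image point in `T`
  obtain ⟨t, ht⟩ : ∃ t, AlgSp.Points.ofScheme T t = AlgSp.Points.map snd x' :=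
    ⟨_, AlgSp.Points.ofScheme_toScheme T _⟩
  obtain ⟨_, ⟨U, hU : IsAffineOpen U, rfl⟩, htU, -⟩ :=
    T.left.isBasis_affineOpens.exists_subset_of_mem_open (Set.mem_univ t) isOpen_univ
  let k : T.left.affineOpens := ⟨U, hU⟩
  have hz : AlgSp.Points.map snd x' =
      AlgSp.Points.map ((AlgSp.yon S).map (ιk k)) (AlgSp.Points.ofScheme (Tk k) ⟨t, htU⟩) := by
    rw [Groth.Agent.H52.points_map_ofScheme, ← ht]
    rfl
  obtain ⟨w, hw1, -⟩ := Groth.Agent.H52.exists_point_of_isPullback (sqk k) x' _ hz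
  exact ⟨k, w, hw1⟩

end Groth.Agent.S10386
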