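import Groth.Statements.S1303
import Groth.Agent.Lib.Helper6.Thickening

set_option autoImplicit false
universe u
open FlatMor

namespace Groth.Agent.S1303

open AlgebraicGeometry CategoryTheory Limits in
/-- For a morphism of thickenings, that is a commutative square whose horizontal maps are thickenings
(closed immersions that are surjective on points), the morphism between the thin schemes is
quasi-compact if and only if the morphism between the thick ones is. -/
theorem result {X X' S S' : Scheme.{u}} (iX : X ⟶ X') (iS : S ⟶ S') (f : X ⟶ S) (f' : X' ⟶ S')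
    (hX : MoreMor.IsThickening iX) (hS : MoreMor.IsThickening iS) (w : iX ≫ f' = f ≫ iS) :
    QuasiCompact f ↔ QuasiCompact f' := by
  have hiX := Lib.Helper6.thick_isHomeomorph hX
  have hiS := Lib.Helper6.thick_isHomeomorph hS
  have hw : ∀ x, f' (iX x) = iS (f x) := fun x => by
    rw [← Scheme.Hom.comp_apply, ← Scheme.Hom.comp_apply, w]
  constructor
  · intro h
    refine ⟨fun U hU hUc => ?_⟩
    have h1 : IsCompact (f ⁻¹' (iS ⁻¹' U)) :=
      h.1 _ (hU.preimage iS.continuous) (hiS.isClosedEmbedding.isCompact_preimage hUc)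
    have h2 : f' ⁻¹' U = iX '' (f ⁻¹' (iS ⁻¹' U)) := by
      ext x'
      obtain ⟨x, rfl⟩ := hiX.surjective x'
      simp only [Set.mem_preimage, hw, Set.mem_image]
      constructor
      · intro hx; exact ⟨x, hx, rfl⟩
      · rintro ⟨y, hy, hxy⟩
        rwa [← hiX.injective hxy]
    rw [h2]
    exact h1.image iX.continuous
  · intro h
    refine ⟨fun U hU hUc => ?_⟩
    have h1 : IsCompact (f' ⁻¹' (iS '' U)) :=
      h.1 _ (hiS.isOpenMap _ hU) (hUc.image iS.continuous)
    have h2 : f ⁻¹' U = iX ⁻¹' (f' ⁻¹' (iS '' U)) := by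
      ext x
      simp only [Set.mem_preimage, hw, Set.mem_image]
      constructor
      · intro hx; exact ⟨_, hx, rfl⟩
      · rintro ⟨y, hy, hxy⟩
        rwa [← hiS.injective hxy]
    rw [h2]
    exact hiX.isClosedEmbedding.isCompact_preimage h1

end Groth.Agent.S1303
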