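import Groth.Statements.S1315
import Groth.Agent.S1314
import Groth.Agent.S1307
import Mathlib.AlgebraicGeometry.Morphisms.IsIso

set_option autoImplicit false
universe u
open FlatMor

namespace Groth.Agent.S1315

open AlgebraicGeometry CategoryTheory Limits in
/-- Let Y ⟶ Y' be a thickening, let X be the base change to Y of a scheme X' over Y', and assume both X
⟶ Y and X' ⟶ Y' are locally of finite type. Then X ⟶ Y is a monomorphism if and only if X' ⟶ Y' is. -/
theorem result {X X' Y Y' : Scheme.{u}} (iX : X ⟶ X') (iY : Y ⟶ Y') (f : X ⟶ Y) (f' : X' ⟶ Y')
    (hY : MoreMor.IsThickening iY) (hc : IsPullback iX f f' iY) [LocallyOfFiniteType f] [LocallyOfFiniteType f'] :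
    Mono f ↔ Mono f' := by
  constructor
  · intro hmono
    have hunr : FormallyUnramified f := inferInstance
    have hunr' : FormallyUnramified f' := (Groth.Agent.S1314.result iX iY f f' hY hc).mp hunr
    have hX : MoreMor.IsThickening iX :=
      ⟨MorphismProperty.of_isPullback hc.flip hY.1, MorphismProperty.of_isPullback hc.flip hY.2⟩
    have hinj : UniversallyInjective f := inferInstance
    have hinj' : UniversallyInjective f' :=
      (Groth.Agent.S1307.result iX iY f f' hX hY hc.w).mp hinj
    have hsurj : Surjective (pullback.diagonal f') := (UniversallyInjective.iff_diagonal f').mp hinj'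
    have hopen : IsOpenImmersion (pullback.diagonal f') := inferInstance
    have hiso : IsIso (pullback.diagonal f') :=
      (isIso_iff_isOpenImmersion_and_surjective _).mpr ⟨hopen, hsurj⟩
    exact (pullback.isIso_diagonal_iff f').mp hiso
  · intro hmono
    constructor
    intro T g₁ g₂ hg
    refine hc.hom_ext ?_ hg
    rw [← cancel_mono f', Category.assoc, Category.assoc, hc.w, ← Category.assoc, hg,
      Category.assoc]

end Groth.Agent.S1315
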