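import Groth.Statements.S10022
import Groth.Agent.H52.LimRep
import Groth.Agent.H52.DiagSp2
import Groth.Agent.H52.DiagLfp
import Groth.Agent.H52.FibreProd
import Groth.Agent.H52.QC5
import Groth.Agent.H53.OpenSub

set_option autoImplicit false
universe u
open CategoryTheory CategoryTheory.Limits AlgebraicGeometry
open AlgSp

namespace Groth.Agent.S10022

/-- Let `S` be a quasi-separated scheme and `B` the limit, in fppf sheaves over `S`, of a cofiltered
system `(B_i)` of algebraic spaces over `S` whose transition maps are affine; fix an index `i₀` such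
that `B_{i₀}` is quasi-compact and quasi-separated over `S`, and a morphism `f₀ : X₀ ⟶ Y₀` of
algebraic spaces over `B_{i₀}` whose source and target are quasi-compact and quasi-separated over
`S`. Write `f_i` (for `i` mapping to `i₀`) and `f` for the base changes of `f₀` to `B_i` and to `B`,
given by pullback squares. If `f` is a monomorphism and `f₀` locally of finite type, then for some
`i` mapping to `i₀` every such base change `f_i` is a monomorphism. (The published statement allows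
any base scheme and uses absolute quasi-separatedness; this row assumes the base quasi-separated,
over which quasi-separatedness relative to the base is the absolute notion.) -/
theorem result (S : Scheme.{u}) [QuasiSeparatedSpace S] {I : Type u} [SmallCategory I] [IsCofiltered I]
    (D : I ⥤ AlgSp.Sp S) (hD : ∀ i, AlgSp.IsAlgSpace (D.obj i))
    (hDa : ∀ (i j : I) (φ : i ⟶ j), AlgSp.IsAffineMor (D.map φ))
    (c : Cone D) (hc : IsLimit c) (i₀ : I)
    (hBqc : AlgSp.IsQuasiCompactSp (D.obj i₀)) (hBqs : AlgSp.IsQuasiSeparatedSp (D.obj i₀))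
    (X₀ Y₀ : AlgSp.Space S) (f₀ : X₀.obj ⟶ Y₀.obj) (b₀ : Y₀.obj ⟶ D.obj i₀)
    (hXqc : AlgSp.IsQuasiCompactSp X₀.obj) (hXqs : AlgSp.IsQuasiSeparatedSp X₀.obj)
    (hYqc : AlgSp.IsQuasiCompactSp Y₀.obj) (hYqs : AlgSp.IsQuasiSeparatedSp Y₀.obj)
    (X Y : AlgSp.Sp S) (f : X ⟶ Y) (pY : Y ⟶ Y₀.obj) (qY : Y ⟶ c.pt)
    (hY : IsPullback pY qY b₀ (c.π.app i₀)) (pX : X ⟶ X₀.obj) (hX : IsPullback pX f f₀ pY)
    [Mono f] (hf₀ : AlgSp.LocP @LocallyOfFiniteType f₀) :
    ∃ (i : I) (φ : i ⟶ i₀), ∀ (Xi Yi : AlgSp.Sp S) (fi : Xi ⟶ Yi) (pYi : Yi ⟶ Y₀.obj) (qYi : Yi ⟶ D.obj i)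
      (_ : IsPullback pYi qYi b₀ (D.map φ)) (pXi : Xi ⟶ X₀.obj) (_ : IsPullback pXi fi f₀ pYi),
      Mono fi := by
  have hX₀ := X₀.property
  have hY₀ := Y₀.property
  have sqP := IsPullback.of_hasPullback f₀ f₀
  have hZ₀ : AlgSp.IsAlgSpace (pullback f₀ f₀) :=
    Groth.Agent.H52.isAlgSpace_of_isPullback sqP hX₀ hY₀ hX₀
  have hZqs : AlgSp.IsQuasiSeparatedSp (pullback f₀ f₀) :=
    Groth.Agent.H52.repWith_diag_of_isPullback @QuasiCompact sqP hXqs hXqs
  have hf₀qc : AlgSp.IsQuasiCompactMor f₀ :=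
    Groth.Agent.H52.isQuasiCompactMor_of_isQuasiSeparatedSp hX₀ hY₀ f₀ hXqc hYqs
  have hZqc : AlgSp.IsQuasiCompactSp (pullback f₀ f₀) := hf₀qc hX₀ hXqc f₀ _ _ sqP
  obtain ⟨hΔrep, -, -, hΔsep, -⟩ := Groth.Agent.H52.diagonal_properties hX₀ f₀
  have hΔqs : AlgSp.RepWith @QuasiSeparated (pullback.diagonal f₀) :=
    Groth.Agent.H53.repWith_of_le (fun A B φ hφ => by
      have : IsSeparated φ := hφ
      infer_instance) hΔsep
  have hΔlfp : AlgSp.RepWith @LocallyOfFinitePresentation (pullback.diagonal f₀) :=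
    Groth.Agent.H52.isEtLocal_lfp.repWith_of_locP hZ₀ _ hΔrep
      (Groth.Agent.H52.locP_lfp_diagonal hX₀ hY₀ f₀ hf₀)
  obtain ⟨sqZ, sqΔ⟩ := Groth.Agent.H52.LimRep.diag_stage hY hX
  have hΔf : AlgSp.RepWith (MorphismProperty.isomorphisms Scheme.{u}) (pullback.diagonal f) := by
    have : IsIso (pullback.diagonal f) := (pullback.isIso_diagonal_iff f).mpr inferInstance
    exact Groth.Agent.H52.repWith_of_isIso _ _
  obtain ⟨i, φ, h⟩ := Groth.Agent.H52.LimRep.rep_descend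
    Groth.Agent.H52.LimRep.schDescendsAbs_isomorphisms D hDa c hc i₀ hX₀ hZ₀
    (pullback.diagonal f₀) ((pullback.fst f₀ f₀ ≫ f₀) ≫ b₀) hΔlfp hΔqs hXqc hZqc hZqs
    (pullback.diagonal f) _ _ sqZ pX sqΔ hΔf
  refine ⟨i, φ, fun Xi Yi fi pYi qYi hYi pXi hXi => ?_⟩
  obtain ⟨sqZi, sqΔi⟩ := Groth.Agent.H52.LimRep.diag_stage hYi hXi
  have := Groth.Agent.H53.isIso_of_repWith_isomorphisms _ (h _ _ _ _ _ sqZi pXi sqΔi)
  exact (pullback.isIso_diagonal_iff fi).mp this


end Groth.Agent.S10022
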