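import Groth.Statements.S10021
import Groth.Agent.H52.LimStage
import Groth.Agent.H52.LimDescend2
import Groth.Agent.H53.Unram2
import Groth.Agent.H53.DenseFactor
import Groth.Agent.Lib.Helper78.DeformIso
import Groth.Agent.S10015
import Groth.Agent.S10022

set_option autoImplicit false
universe u
open CategoryTheory CategoryTheory.Limits AlgebraicGeometry
open AlgSp

namespace Groth.Agent.S10021

/-- Let `S` be a quasi-separated scheme and `B` the limit, in fppf sheaves over `S`, of a cofiltered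
system `(B_i)` of algebraic spaces over `S` whose transition maps are affine; fix an index `i₀` such
that `B_{i₀}` is quasi-compact and quasi-separated over `S`, and a morphism `f₀ : X₀ ⟶ Y₀` of
algebraic spaces over `B_{i₀}` whose source and target are quasi-compact and quasi-separated over
`S`. Write `f_i` (for `i` mapping to `i₀`) and `f` for the base changes of `f₀` to `B_i` and to `B`,
given by pullback squares. If `f` is an isomorphism and `f₀` locally of finite presentation, then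
for some `i` mapping to `i₀` every such base change `f_i` is an isomorphism. (The published
statement allows any base scheme and uses absolute quasi-separatedness; this row assumes the base
quasi-separated, over which quasi-separatedness relative to the base is the absolute notion.) -/
theorem result (S : Scheme.{u}) [QuasiSeparatedSpace S] {I : Type u} [SmallCategory I] [IsCofiltered I]
    (D : I ⥤ AlgSp.Sp S) (hD : ∀ i, AlgSp.IsAlgSpace (D.obj i))
    (hDa : ∀ (i j : I) (φ : i ⟶ j), AlgSp.IsAffineMor (D.map φ))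
    (c : Cone D) (hc : IsLimit c) (i₀ : I)
    (hBqc : AlgSp.IsQuasiCompactSp (D.obj i₀)) (hBqs : AlgSp.IsQuasiSeparatedSp (D.obj i₀))
    (X₀ Y₀ : AlgSp.Space S) (f₀ : X₀.obj ⟶ Y₀.obj) (b₀ : Y₀.obj ⟶ D.obj i₀)
    (hXqc : AlgSp.IsQuasiCompactSp X₀.obj) (hXqs : AlgSp.IsQuasiSeparatedSp X₀.obj)
    (hYqc : AlgSp.IsQuasiCompactSp Y₀.obj) (hYqs : AlgSp.IsQuasiSeparatedSp Y₀.obj)
    (X Y : AlgSp.Sp S) (f : X ⟶ Y) (pY : Y ⟶ Y₀.obj) (qY : Y ⟶ c.pt)
    (hY : IsPullback pY qY b₀ (c.π.app i₀)) (pX : X ⟶ X₀.obj) (hX : IsPullback pX f f₀ pY)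
    [IsIso f] (hf₀ : AlgSp.LocP @LocallyOfFinitePresentation f₀) :
    ∃ (i : I) (φ : i ⟶ i₀), ∀ (Xi Yi : AlgSp.Sp S) (fi : Xi ⟶ Yi) (pYi : Yi ⟶ Y₀.obj) (qYi : Yi ⟶ D.obj i)
      (_ : IsPullback pYi qYi b₀ (D.map φ)) (pXi : Xi ⟶ X₀.obj) (_ : IsPullback pXi fi f₀ pYi),
      IsIso fi := by
  have hX₀ := X₀.property
  have hY₀ := Y₀.property
  have hEt : AlgSp.IsEtaleMor f := by
    intro U a ha
    exact (AlgSp.RepWith @Etale).comp_mem _ _ ha (Groth.Agent.H52.repWith_of_isIso _ f)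
  have hlft : AlgSp.LocP @LocallyOfFiniteType f₀ := fun U V a b h ha hb w => by
    have : LocallyOfFinitePresentation h.left := hf₀ a b h ha hb w
    infer_instance
  have e₁ : ∃ (i : I) (φ : i ⟶ i₀),
      Groth.Agent.H52.LimStage.AtStage D f₀ b₀ (AlgSp.LocP @Etale) φ :=
    Groth.Agent.H52.LimDescend.descend_locP Groth.Agent.H52.isEtLocal_etale
      Groth.Agent.H52.LimDescend.schDescendsAff_etale D hDa c hc i₀ hX₀ hY₀ f₀ b₀
      hXqc hYqc hYqs f pY qY hY pX hX (Groth.Agent.H53.locP_etale_of_isEtaleMor f hEt) hf₀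
  have e₂ : ∃ (i : I) (φ : i ⟶ i₀),
      Groth.Agent.H52.LimStage.AtStage D f₀ b₀ AlgSp.IsSurjectiveMor φ :=
    Groth.Agent.S10015.result S D hD hDa c hc i₀ hBqc hBqs X₀ Y₀ f₀ b₀ hXqc hXqs hYqc hYqs X Y f
      pY qY hY pX hX (Groth.Agent.Lib.Helper78.DeformIso.isSurjectiveMor_of_isIso f) hf₀
  have e₃ : ∃ (i : I) (φ : i ⟶ i₀),
      Groth.Agent.H52.LimStage.AtStage D f₀ b₀ (MorphismProperty.monomorphisms (AlgSp.Sp S)) φ :=
    Groth.Agent.S10022.result S D hD hDa c hc i₀ hBqc hBqs X₀ Y₀ f₀ b₀ hXqc hXqs hYqc hYqs X Y f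
      pY qY hY pX hX hlft
  obtain ⟨i, φ, h⟩ := Groth.Agent.H52.LimStage.exists_atStage_inf D f₀ b₀ hD hX₀ hY₀
    (Groth.Agent.H52.LimStage.bcStable_inf
      (Groth.Agent.H52.LimStage.bcStable_locP Groth.Agent.H52.isEtLocal_etale)
      Groth.Agent.H52.LimStage.bcStable_isSurjectiveMor)
    Groth.Agent.H52.LimStage.bcStable_mono
    (Groth.Agent.H52.LimStage.exists_atStage_inf D f₀ b₀ hD hX₀ hY₀
      (Groth.Agent.H52.LimStage.bcStable_locP Groth.Agent.H52.isEtLocal_etale)
      Groth.Agent.H52.LimStage.bcStable_isSurjectiveMor e₁ e₂) e₃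
  refine ⟨i, φ, fun Xi Yi fi pYi qYi hYi pXi hXi => ?_⟩
  obtain ⟨⟨het, hsurj⟩, hmono⟩ := h Xi Yi fi pYi qYi hYi pXi hXi
  have hYialg : AlgSp.IsAlgSpace Yi :=
    Groth.Agent.H52.isAlgSpace_of_isPullback hYi hY₀ (hD i₀) (hD i)
  have hXialg : AlgSp.IsAlgSpace Xi :=
    Groth.Agent.H52.isAlgSpace_of_isPullback hXi hX₀ hY₀ hYialg
  have : Mono fi := hmono
  have hflat : AlgSp.LocP @Flat fi := fun U V a b h ha hb w => by
    have : Etale h.left := het a b h ha hb w
    infer_instance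
  have hlfp : AlgSp.LocP @LocallyOfFinitePresentation fi := fun U V a b h ha hb w => by
    have : Etale h.left := het a b h ha hb w
    infer_instance
  have : Epi fi := Groth.Agent.H53.DenseFactor.epi_of_fppf hXialg hYialg fi hsurj hflat hlfp
  exact isIso_of_mono_of_epi fi


end Groth.Agent.S10021
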