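import Groth.Statements.S10530
import Groth.Agent.Lib.Helper54.SourceLocal

set_option autoImplicit false
universe u
open CategoryTheory CategoryTheory.Limits AlgebraicGeometry
open AlgSp

namespace Groth.Agent.S10530

/-- The property of morphisms of algebraic spaces over S given by f is flat (on etale charts) is fpqc
local on the base: for an fpqc covering of an algebraic space Y by algebraic spaces Y_i, a morphism
f : X ⟶ Y of algebraic spaces and cartesian squares X_i = Y_i ×_Y X, f has the property if and only
if every X_i ⟶ Y_i has it. -/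
theorem result (S : Scheme.{u}) :
    AlgSp.IsLocalOnBase (AlgSp.IsFpqcCover (S := S)) (AlgSp.LocP @Flat) := by
  intro ι Y Yi g hY hYi hcov X f hX Xi p q hXi sq
  constructor
  · intro hf i
    exact Groth.Agent.Lib.Helper54.locP_of_isPullback_of_isAlgSpace
      Groth.Agent.Lib.Helper54.etLocal_flat hX hY (sq i) hf
  · intro hp
    refine Groth.Agent.Lib.Helper54.locP_of_source_cover Groth.Agent.Lib.Helper54.etLocal_flat
      Groth.Agent.Lib.Helper54.etLocal_flat ?_ hX hY hXi q (fun i => ?_) (fun x => ?_) f (fun i => ?_)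
    · intro ι' U V Ui k h hk hsurj hkh
      exact Groth.Agent.Lib.Helper54.flat_of_flat_comp_of_family Ui k h hk hsurj hkh
    · exact Groth.Agent.Lib.Helper54.locP_of_isPullback_of_isAlgSpace
        Groth.Agent.Lib.Helper54.etLocal_flat (hYi i) hY (sq i).flip (hcov.1 i)
    · obtain ⟨i, yi, hyi⟩ := Groth.Agent.Lib.Helper54.points_surjective_of_isFpqcCover g hcov
        (AlgSp.Points.map f x)
      obtain ⟨w, hw, -⟩ := Groth.Agent.Lib.Helper54.exists_point_of_isPullback (sq i) x yi hyi.symm
      exact ⟨i, w, hw⟩
    · rw [(sq i).w]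
      obtain ⟨V, b, hbe, hbs⟩ := (hYi i).atlas
      exact Groth.Agent.Lib.Helper54.locP_comp Groth.Agent.Lib.Helper54.etLocal_flat (p i) (g i) b hbe hbs
        (hp i) (hcov.1 i)

end Groth.Agent.S10530
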