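import Groth.Statements.S10532
import Groth.Agent.Lib.Helper54.FpqcDescent
import Groth.Agent.Lib.Helper54.SourceLocal
import Groth.Agent.S10530
import Groth.Agent.S10519

set_option autoImplicit false
universe u
open CategoryTheory CategoryTheory.Limits AlgebraicGeometry
open AlgSp

namespace Groth.Agent.S10532

/-- The property of morphisms of algebraic spaces over S given by f is an isomorphism is fpqc local on
the base: for an fpqc covering of an algebraic space Y by algebraic spaces Y_i, a morphism f : X ⟶ Y
of algebraic spaces and cartesian squares X_i = Y_i ×_Y X, f has the property if and only if every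
X_i ⟶ Y_i has it. -/
theorem result (S : Scheme.{u}) :
    AlgSp.IsLocalOnBase (AlgSp.IsFpqcCover (S := S)) (MorphismProperty.isomorphisms (AlgSp.Sp S)) := by
  intro ι Y Yi g hY hYi hcov X f hX Xi p q hXi sq
  constructor
  · intro hf i
    have : IsIso f := hf
    exact (MorphismProperty.isomorphisms.iff _).2 (sq i).isIso_snd_of_isIso
  · intro hp
    have hiso : ∀ i, IsIso (p i) := fun i => (MorphismProperty.isomorphisms.iff _).1 (hp i)
    have hmono : Mono f := Groth.Agent.Lib.Helper54.mono_of_fpqc_local hX f g hcov.2 p q sq
      (fun i => by have := hiso i; infer_instance)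
    have hflat : AlgSp.LocP @Flat f := by
      refine (Groth.Agent.S10530.result S Yi g hY hYi hcov f hX Xi p q hXi sq).2 (fun i => ?_)
      have := hiso i
      exact Groth.Agent.H52.locP_of_repWith (p i) @Flat (fun _ _ φ hφ => by
        have : Etale φ := hφ
        infer_instance) (Groth.Agent.H52.repWith_of_isIso _ _)
    have hqc : AlgSp.IsQuasiCompactMor f := by
      refine (Groth.Agent.S10519.result S Yi g hY hYi hcov f hX Xi p q hXi sq).2 (fun i => ?_)
      have := hiso i
      exact Groth.Agent.H52.isQuasiCompactMor_of_repWith_quasiCompact _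
        (Groth.Agent.H52.repWith_of_isIso _ _)
    have hsurj : AlgSp.IsSurjectiveMor f := by
      intro y
      obtain ⟨i, yi, hyi⟩ := Groth.Agent.Lib.Helper54.points_surjective_of_isFpqcCover g hcov y
      have := hiso i
      refine ⟨AlgSp.Points.map (q i) (AlgSp.Points.map (inv (p i)) yi), ?_⟩
      rw [← AlgSp.Points.map_comp, ← AlgSp.Points.map_comp, (sq i).w,
        IsIso.inv_hom_id_assoc]
      exact hyi
    exact (MorphismProperty.isomorphisms.iff _).2
      (Groth.Agent.Lib.Helper54.isIso_of_qc_flat_surjective_mono hX hY f hqc hflat hsurj)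

end Groth.Agent.S10532
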