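import Groth.Statements.S10533
import Groth.Agent.Lib.Helper54.AffineDescent
import Groth.Agent.H52.AffineMor
import Groth.Agent.H52.QS
import Groth.Agent.H53.IntegralComp
import Groth.Agent.H53.ZarGlueAff
import Groth.Agent.H53.Proper
import Groth.Agent.H52.QC
import Groth.Agent.S10519
import Groth.Agent.S10532
import Groth.Agent.S10535

set_option autoImplicit false
universe u
open CategoryTheory CategoryTheory.Limits AlgebraicGeometry
open AlgSp

namespace Groth.Agent.S10533

/-- The property of morphisms of algebraic spaces over S given by f is affine (every base change to an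
affine scheme is an affine scheme) is fpqc local on the base: for an fpqc covering of an algebraic
space Y by algebraic spaces Y_i, a morphism f : X ⟶ Y of algebraic spaces and cartesian squares X_i
= Y_i ×_Y X, f has the property if and only if every X_i ⟶ Y_i has it. -/
theorem result (S : Scheme.{u}) :
    AlgSp.IsLocalOnBase (AlgSp.IsFpqcCover (S := S)) AlgSp.IsAffineMor := by
  intro ι Y Yi g hY hYi hcov X f hX Xi p q hXi sq
  constructor
  · intro hf i
    exact Groth.Agent.H52.isAffineMor_of_isPullback (sq i) hf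
  · intro hp
    have hqc : AlgSp.IsQuasiCompactMor f :=
      (Groth.Agent.S10519.result S Yi g hY hYi hcov f hX Xi p q hXi sq).2 (fun i =>
        Groth.Agent.H52.isQuasiCompactMor_of_repWith_quasiCompact _
          (Groth.Agent.H53.repWith_of_le
            (fun _ _ φ hφ => by have : IsAffineHom φ := hφ; infer_instance)
            (Groth.Agent.H53.ZarGlue.repWith_isAffineHom_of_isAffineMor (hp i))))
    have hsep : AlgSp.IsSeparatedMor f :=
      (Groth.Agent.S10535.result S Yi g hY hYi hcov f hX Xi p q hXi sq).2 (fun i =>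
        Groth.Agent.H53.isSeparatedMor_of_isAffineMor (hXi i) (p i) (hp i))
    intro Z hZ gZ
    have sqZ := IsPullback.of_hasPullback f gZ
    have hXZ : AlgSp.IsAlgSpace (pullback f gZ) :=
      Groth.Agent.H52.isAlgSpace_of_isPullback sqZ hX hY (IsAlgSpace.yon_obj Z)
    have hXZqc : AlgSp.IsQuasiCompactSp (pullback f gZ) := by
      have : IsAffine Z.left := hZ
      exact hqc (IsAlgSpace.yon_obj Z) (Groth.Agent.H52.isQuasiCompactSp_yon Z) gZ _ _ sqZ
    have hsepZ : AlgSp.IsSeparatedMor (pullback.snd f gZ) :=
      Groth.Agent.H52.repWith_diagonal_of_isPullback @IsClosedImmersion sqZ hsep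
    obtain ⟨m, W, c, haff, hflat, hsurj, hl⟩ := hcov.2 Z hZ gZ
    obtain ⟨V, v, e, hV, he⟩ := Groth.Agent.Lib.Helper54.exists_iso_yon_of_affine_family
      (Groth.Agent.S10532.result S) hZ hXZ (pullback.snd f gZ) hXZqc hsepZ W c haff hflat hsurj
      (fun j => by
        obtain ⟨i, l, hl⟩ := hl j
        obtain ⟨Vj, ij, fstj, sqj, hVj⟩ := hp i (haff j) l
        have sqP := sqj.paste_horiz (sq i)
        rw [hl] at sqP
        have hw : (fstj ≫ q i) ≫ f = ((AlgSp.yon S).map ij ≫ (AlgSp.yon S).map (c j)) ≫ gZ := by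
          rw [sqP.w, Category.assoc]
        refine ⟨Vj, sqZ.lift (fstj ≫ q i) ((AlgSp.yon S).map ij ≫ (AlgSp.yon S).map (c j)) hw,
          ij, ?_, hVj⟩
        refine IsPullback.of_right ?_ (sqZ.lift_snd _ _ _) sqZ
        rw [sqZ.lift_fst]
        exact sqP)
    refine ⟨V, v, e.hom ≫ pullback.fst f gZ, ?_, hV⟩
    have sqe : IsPullback e.hom ((AlgSp.yon S).map v) (pullback.snd f gZ) (𝟙 _) :=
      IsPullback.of_horiz_isIso ⟨by rw [he, Category.comp_id]⟩
    have := sqe.paste_horiz sqZ
    rwa [Category.id_comp] at this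

end Groth.Agent.S10533
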