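import Groth.Statements.S9868
import Groth.Agent.H52.Bootstrap5
import Groth.Agent.Lib.Helper51.EffEqvRel
import Groth.Agent.S10531

set_option autoImplicit false
universe u
open CategoryTheory CategoryTheory.Limits AlgebraicGeometry
open AlgSp

namespace Groth.Agent.S9868

/-- Let `s, t : R ⟶ U` be an etale equivalence relation on a scheme `U` over `S` (for every scheme `T`
over `S` the map from `T`-points of `R` to pairs of `T`-points of `U` is injective with image an
equivalence relation, and `s`, `t` are etale). Then the quotient sheaf `U/R` (the coequalizer of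
`h_s, h_t` in fppf sheaves of sets over `S`) is an algebraic space over `S`. -/
theorem result (S : Scheme.{u}) {R U : Over S} (s t : R ⟶ U)
    (h : AlgSp.IsEtaleEqvRel s t) :
    AlgSp.IsAlgSpace (QuotSh.quot Scheme.fppfPrecoverage s t) := by
  have hpb := Groth.Agent.Lib.Helper51.isPullback_yon_quotπ Scheme.fppfPrecoverage s t
    h.injective h.equivalence
  have hepi : Epi ((QuotSh.repIsoUliftYoneda Scheme.fppfPrecoverage U).inv ≫
      QuotSh.quotπ Scheme.fppfPrecoverage s t) := epi_comp _ _
  have het : Etale t.left := h.etale_right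
  have hrep : AlgSp.Representable ((QuotSh.repIsoUliftYoneda Scheme.fppfPrecoverage U).inv ≫
      QuotSh.quotπ Scheme.fppfPrecoverage s t) :=
    Groth.Agent.H52.Bootstrap.representable_of_epi_of_kernelPair _ s t hpb inferInstance
  have he : AlgSp.RepWith @Etale ((QuotSh.repIsoUliftYoneda Scheme.fppfPrecoverage U).inv ≫
      QuotSh.quotπ Scheme.fppfPrecoverage s t) :=
    Groth.Agent.H53.Residual.repWith_etale_of_epi_of_kernelPair _ hrep t s hpb het
  have hs : AlgSp.RepWith @Surjective ((QuotSh.repIsoUliftYoneda Scheme.fppfPrecoverage U).inv ≫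
      QuotSh.quotπ Scheme.fppfPrecoverage s t) :=
    Groth.Agent.H52.repWith_surjective_of_epi _ hrep
  exact Groth.Agent.Lib.Helper54.isAlgSpace_of_chart (Groth.Agent.S10531.result S) _ he hs

end Groth.Agent.S9868
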