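import Groth.Statements.S9885
-- import your own Groth.Agent.* helpers here
import Groth.Agent.Lib.Helper51.AlgSpBasic

set_option autoImplicit false
universe u
open CategoryTheory CategoryTheory.Limits AlgebraicGeometry
open AlgSp

namespace Groth.Agent.S9885

/-- Let `a : F ⟶ G` be a map of fppf sheaves of sets over `S` which is representable by schemes, flat,
locally of finite presentation and surjective (in the representable sense). Then `a` is surjective
as a map of sheaves (locally surjective). -/
theorem result (S : Scheme.{u}) (F G : AlgSp.Sp S) (a : F ⟶ G)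
    (h₁ : AlgSp.RepWith @Flat a) (h₂ : AlgSp.RepWith @LocallyOfFinitePresentation a)
    (h₃ : AlgSp.RepWith @Surjective a) : Sheaf.IsLocallySurjective a := by
  refine ⟨fun {U} s ↦ ?_⟩
  obtain ⟨V, snd, fst, hpb⟩ := h₁.1 (Groth.Agent.Lib.Helper51.yonEquiv.symm s)
  have i1 : Flat snd.left := h₁.2 _ fst snd hpb
  have i2 : LocallyOfFinitePresentation snd.left := h₂.2 _ fst snd hpb
  have i3 : Surjective snd.left := h₃.2 _ fst snd hpb
  refine Groth.Agent.Lib.Helper51.mem_J_of_fppf snd _ ?_
  refine ⟨Groth.Agent.Lib.Helper51.yonEquiv fst, ?_⟩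
  have h := Groth.Agent.Lib.Helper51.yonEquiv_naturality
    (Groth.Agent.Lib.Helper51.yonEquiv.symm s) snd
  rw [Equiv.apply_symm_apply] at h
  erw [h, ← hpb.w, Groth.Agent.Lib.Helper51.yonEquiv_comp]

end Groth.Agent.S9885
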