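import Groth.Statements.S9884
-- import your own Groth.Agent.* helpers here
import Groth.Agent.Lib.Helper51.AlgSpBasic

set_option autoImplicit false
universe u
open CategoryTheory CategoryTheory.Limits AlgebraicGeometry
open AlgSp

namespace Groth.Agent.S9884

/-- Let `a : F ⟶ G` be a map of fppf sheaves of sets over `S` which is representable by schemes, `b : H
⟶ G` a surjective map of sheaves, and `a' : H ×_G F ⟶ H` the base change of `a` along `b` (a
pullback square in sheaves). Let `P` be a property of morphisms of schemes stable under base change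
and fppf local on the base. If `a'` has `P` in the representable sense, then so does `a`. (The
published statement is for presheaves, with `b` inducing a surjection of fppf sheafifications; this
row is the case of sheaves.) -/
theorem result (S : Scheme.{u}) (F G H : AlgSp.Sp S) (a : F ⟶ G)
    (ha : AlgSp.Representable a) (b : H ⟶ G) [Sheaf.IsLocallySurjective b] (Q : AlgSp.Sp S) (b' : Q ⟶ F)
    (a' : Q ⟶ H) (sq : IsPullback b' a' a b) (P : MorphismProperty Scheme.{u}) [P.IsStableUnderBaseChange]
    [P.IsLocalAtTarget Scheme.fppfPrecoverage] (h : AlgSp.RepWith P a') : AlgSp.RepWith P a := by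
  refine ⟨ha, fun U V hU fst snd hpb ↦ ?_⟩
  have hloc := Presheaf.imageSieve_mem (AlgSp.J S) b.hom
    (U := Opposite.op U) (Groth.Agent.Lib.Helper51.yonEquiv hU)
  refine Groth.Agent.Lib.Helper51.of_forall_mem_J P snd _ hloc fun {T} g hg ↦ ?_
  obtain ⟨t, ht⟩ := hg
  -- the section `t` of `H` over `T` as a map `k : h_T ⟶ H` with `k ≫ b = h_g ≫ hU`
  have hk : Groth.Agent.Lib.Helper51.yonEquiv.symm t ≫ b = (AlgSp.yon S).map g ≫ hU := by
    apply Groth.Agent.Lib.Helper51.yonEquiv.injective
    rw [Groth.Agent.Lib.Helper51.yonEquiv_comp, Equiv.apply_symm_apply,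
      ← Groth.Agent.Lib.Helper51.yonEquiv_naturality]
    exact ht
  refine ⟨pullback snd g, pullback.fst snd g, pullback.snd snd g, IsPullback.of_hasPullback snd g, ?_⟩
  have h1 : IsPullback ((AlgSp.yon S).map (pullback.fst snd g)) ((AlgSp.yon S).map (pullback.snd snd g))
      ((AlgSp.yon S).map snd) ((AlgSp.yon S).map g) := (IsPullback.of_hasPullback snd g).map (AlgSp.yon S)
  have h2 := h1.paste_horiz hpb
  rw [← hk] at h2
  have h3 := IsPullback.of_right (h₁₁ := sq.lift ((AlgSp.yon S).map (pullback.fst snd g) ≫ fst)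
      ((AlgSp.yon S).map (pullback.snd snd g) ≫ Groth.Agent.Lib.Helper51.yonEquiv.symm t) h2.w)
    (by rwa [sq.lift_fst]) (sq.lift_snd _ _ _) sq
  exact h.2 _ _ _ h3

end Groth.Agent.S9884
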