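import Groth.Statements.S9869
-- import your own Groth.Agent.* helpers here
import Groth.Agent.S9884
import Groth.Agent.Lib.Helper51.EffEqvRel
import Groth.Agent.Lib.Helper51.FppfLocalSurj

set_option autoImplicit false
universe u
open CategoryTheory CategoryTheory.Limits AlgebraicGeometry
open AlgSp

namespace Groth.Agent.S9869

/-- Let `s, t : R ⟶ U` be an etale equivalence relation on a scheme `U` over `S` and suppose that the
fppf quotient sheaf `U/R` is an algebraic space over `S`. Then the quotient map `h_U ⟶ U/R` is
representable etale and representable surjective, and `(U, R, h_U ⟶ U/R)` is a presentation of `U/R`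
(in particular `h_R`, with `h_t` and `h_s`, is the fibre product `h_U ×_{U/R} h_U`). The quotient
map is written on `h_U` through the canonical identification of `h_U` with the sheafified
representable presheaf. -/
theorem result (S : Scheme.{u}) {R U : Over S} (s t : R ⟶ U)
    (h : AlgSp.IsEtaleEqvRel s t) (hq : AlgSp.IsAlgSpace (QuotSh.quot Scheme.fppfPrecoverage s t)) :
    AlgSp.IsPresentation s t
      ((QuotSh.repIsoUliftYoneda Scheme.fppfPrecoverage U).inv ≫ QuotSh.quotπ Scheme.fppfPrecoverage s t) := by
  have hpb := Groth.Agent.Lib.Helper51.isPullback_yon_quotπ Scheme.fppfPrecoverage s t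
    h.injective h.equivalence
  have hrep : AlgSp.Representable
      ((QuotSh.repIsoUliftYoneda Scheme.fppfPrecoverage U).inv ≫
        QuotSh.quotπ Scheme.fppfPrecoverage s t) := hq.representable_from_yon _
  have : Epi ((QuotSh.repIsoUliftYoneda Scheme.fppfPrecoverage U).inv ≫
      QuotSh.quotπ Scheme.fppfPrecoverage s t) := epi_comp _ _
  have : Sheaf.IsLocallySurjective ((QuotSh.repIsoUliftYoneda Scheme.fppfPrecoverage U).inv ≫
      QuotSh.quotπ Scheme.fppfPrecoverage s t) :=
    (Sheaf.isLocallySurjective_iff_epi _).2 inferInstance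
  have hsurj : Surjective s.left := by
    refine ⟨fun x => ?_⟩
    obtain ⟨r, h1, h2⟩ := (h.equivalence U).refl (𝟙 U)
    refine ⟨r.left x, ?_⟩
    have : r.left ≫ s.left = 𝟙 U.left := by
      rw [← Over.comp_left, h2, Over.id_left]
    rw [← Scheme.Hom.comp_apply, this]
    rfl
  refine ⟨h, ?_, ?_, hpb⟩
  · exact Groth.Agent.S9884.result S _ _ _ _ hrep _ _ _ _ hpb @Etale
      ((AlgSp.repWith_yon_map_iff @Etale s).2 h.etale_left)
  · exact Groth.Agent.S9884.result S _ _ _ _ hrep _ _ _ _ hpb @Surjective
      ((AlgSp.repWith_yon_map_iff @Surjective s).2 hsurj)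

end Groth.Agent.S9869
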