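import Groth.Statements.S7407
import Mathlib.AlgebraicGeometry.Morphisms.Etale
import Mathlib.AlgebraicGeometry.Morphisms.FormallyUnramified
import Mathlib.RingTheory.AlgebraicIndependent.TranscendenceBasis

set_option autoImplicit false
universe u
open CategoryTheory AlgebraicGeometry
open Desc

namespace Groth.Agent.S7407

/-- Transcendence degrees along two towers with algebraic top/bottom steps agree. -/
theorem trdeg_eq_of_towers {K L K' L' : Type u} [Field K] [Field L] [Field K'] [Field L']
    (i : K →+* L) (j : L →+* L') (i' : K →+* K') (j' : K' →+* L')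
    (hcomm : j.comp i = j'.comp i')
    (hj : @Algebra.IsAlgebraic L L' _ _ j.toAlgebra)
    (hi' : @Algebra.IsAlgebraic K K' _ _ i'.toAlgebra) :
    @Algebra.trdeg K L _ _ i.toAlgebra = @Algebra.trdeg K' L' _ _ j'.toAlgebra := by
  let _ := i.toAlgebra
  let _ := j.toAlgebra
  let _ := i'.toAlgebra
  let _ := j'.toAlgebra
  let _ : Algebra K L' := (j.comp i).toAlgebra
  have : IsScalarTower K L L' := IsScalarTower.of_algebraMap_eq (fun x => rfl)
  have : IsScalarTower K K' L' := IsScalarTower.of_algebraMap_eq (fun x => by
    show (j.comp i) x = j' (i' x)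
    rw [hcomm]
    rfl)
  have h1 := trdeg_add_eq K L (A := L')
  have h2 := trdeg_add_eq K K' (A := L')
  rw [trdeg_eq_zero (R := L) (A := L'), add_zero] at h1
  rw [trdeg_eq_zero (R := K) (A := K'), zero_add] at h2
  rw [h1, h2]

theorem aux {U U' V V' : Scheme.{u}} (h' : U' ⟶ V') (a : U' ⟶ U)
    (b : V' ⟶ V) [Etale a] [Etale b] (u' : U') (v : V) (e : v = b (h' u'))
    (i : V.residueField v ⟶ U.residueField (a u'))
    (hi : i ≫ a.residueFieldMap u' =
      (V.residueFieldCongr e).hom ≫ b.residueFieldMap (h' u') ≫ h'.residueFieldMap u') :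
    @Algebra.trdeg (V.residueField v) (U.residueField (a u')) _ _ i.hom.toAlgebra =
      @Algebra.trdeg (V'.residueField (h' u')) (U'.residueField u') _ _
        (h'.residueFieldMap u').hom.toAlgebra := by
  subst e
  rw [Scheme.residueFieldCongr_refl, Iso.refl_hom, Category.id_comp] at hi
  refine trdeg_eq_of_towers i.hom (a.residueFieldMap u').hom (b.residueFieldMap (h' u')).hom
    (h'.residueFieldMap u').hom ?_ ?_ ?_
  · rw [← CommRingCat.hom_comp, ← CommRingCat.hom_comp, hi]
  · let _ : Algebra (U.residueField (a u')) (U'.residueField u') :=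
      (a.residueFieldMap u').hom.toAlgebra
    have : Algebra.IsSeparable (U.residueField (a u')) (U'.residueField u') := inferInstance
    exact Algebra.IsSeparable.isAlgebraic _ _
  · let _ : Algebra (V.residueField (b (h' u'))) (V'.residueField (h' u')) :=
      (b.residueFieldMap (h' u')).hom.toAlgebra
    have : Algebra.IsSeparable (V.residueField (b (h' u'))) (V'.residueField (h' u')) :=
      inferInstance
    exact Algebra.IsSeparable.isAlgebraic _ _

/-- The transcendence degree of the residue field extension `κ(x)/κ(s)` of a morphism of germs `(X, x) →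
(S, s)` is étale local on the source-and-target: for a commutative square with horizontal maps `h' :
U' → V'`, `h : U → V`, étale vertical maps `a : U' → U`, `b : V' → V` and `u' ∈ U'` with `u =
a(u')`, the transcendence degree of `κ(u)` over `κ(h(u))` equals that of `κ(u')` over `κ(h'(u'))`. -/
theorem result {U U' V V' : Scheme.{u}} (h : U ⟶ V) (h' : U' ⟶ V') (a : U' ⟶ U)
    (b : V' ⟶ V) [Etale a] [Etale b] (comm : h' ≫ b = a ≫ h) (u' : U') :
    @Algebra.trdeg (V.residueField (h (a u'))) (U.residueField (a u')) _ _ (h.residueFieldMap (a u')).hom.toAlgebra =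
      @Algebra.trdeg (V'.residueField (h' u')) (U'.residueField u') _ _ (h'.residueFieldMap u').hom.toAlgebra := by
  have e : h (a u') = b (h' u') := by
    rw [← Scheme.Hom.comp_apply, ← Scheme.Hom.comp_apply, comm]
  refine aux h' a b u' (h (a u')) e (h.residueFieldMap (a u')) ?_
  have h1 := Scheme.Hom.residueFieldMap_congr comm.symm u'
  rw [Scheme.residueFieldMap_comp, Scheme.residueFieldMap_comp] at h1
  exact h1

end Groth.Agent.S7407
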