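import Groth.Statements.S9839
-- import your own Groth.Agent.* helpers here
import Mathlib.AlgebraicGeometry.Sites.ConstantSheaf

set_option autoImplicit false
open CategoryTheory CategoryTheory.Limits AlgebraicGeometry Opposite
universe u
open Desc

namespace Groth.Agent.S9839

/-- Let f i : T i ⟶ T be an fpqc covering family of a scheme T (a family in the fpqc precoverage) and W
i ⊆ T i open subsets such that for all i, j the inverse images of W i and W j under the two
projections of T i ×_T T j coincide. Then there is a unique open subset W ⊆ T with (f i)⁻¹(W) = W i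
for every i. -/
theorem result {ι : Type u} {T : Scheme.{u}} {Ti : ι → Scheme.{u}}
    (f : ∀ i, Ti i ⟶ T) (hf : Presieve.ofArrows Ti f ∈ Scheme.fpqcPrecoverage T)
    (W : ∀ i, (Ti i).Opens)
    (hW : ∀ i j, (pullback.fst (f i) (f j)) ⁻¹ᵁ (W i) = (pullback.snd (f i) (f j)) ⁻¹ᵁ (W j)) :
    ∃! V : T.Opens, ∀ i, (f i) ⁻¹ᵁ V = W i := by
  have hF := (isSheaf_iff_isSheaf_of_type _ _).mp
    (isSheaf_fpqcTopology_continuousMapPresheaf.{0, u} Prop)
  have hmem : Sieve.generate (Presieve.ofArrows Ti f) ∈ Scheme.fpqcTopology.{u} T :=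
    Precoverage.generate_mem_toGrothendieck hf
  have h1 := hF.isSheafFor (Presieve.ofArrows Ti f) hmem
  rw [Presieve.isSheafFor_arrows_iff_pullbacks] at h1
  have hcompat : Presieve.Arrows.PullbackCompatible (continuousMapPresheaf.{0, u} Prop) f
      (fun i ↦ (⟨fun x ↦ x ∈ W i, continuous_Prop.mpr (W i).isOpen⟩ : C(Ti i, Prop))) := by
    intro i j
    apply ContinuousMap.ext
    intro x
    have := congr(x ∈ $(hW i j))
    exact this
  obtain ⟨v, hv, hvu⟩ := h1 _ hcompat
  let v' : C(T, Prop) := v
  refine ⟨⟨{x | v' x}, continuous_Prop.mp v'.continuous⟩, ?_, ?_⟩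
  · intro i
    ext x
    have hvi : (v'.comp (f i).base.hom : C(Ti i, Prop)) =
      ⟨fun x ↦ x ∈ W i, continuous_Prop.mpr (W i).isOpen⟩ := hv i
    have := congr($hvi x)
    exact propext_iff.mp this
  · intro V' hV'
    have : (⟨fun x ↦ x ∈ V', continuous_Prop.mpr V'.isOpen⟩ : C(T, Prop)) = v' := by
      apply hvu
      intro i
      apply ContinuousMap.ext
      intro x
      have := congr(x ∈ $(hV' i))
      exact this
    ext x
    have := congr($this x)
    exact propext_iff.mp this

end Groth.Agent.S9839
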