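import Groth.Statements.S9866
-- import your own Groth.Agent.* helpers here
import Groth.Agent.Lib.Helper51.DescSecOpen

set_option autoImplicit false
open CategoryTheory CategoryTheory.Limits AlgebraicGeometry Opposite
universe u
open Desc

namespace Groth.Agent.S9866

/-- Let p : X ⟶ S be a surjective, flat, quasi-compact morphism of schemes and D = (V, φ) a descent
datum for schemes relative to p. Suppose every point v of V lies in the image of some morphism of
descent data D' ⟶ D whose underlying morphism of schemes over X is an open immersion and whose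
source D' is effective (isomorphic to the canonical descent datum of a scheme over S). Then D is
effective. (A φ-stable open W ⊆ V with its restricted descent datum, as in the published statement,
is the same thing as such a morphism D' ⟶ D up to isomorphism.) -/
theorem result {X S : Scheme.{u}} (p : X ⟶ S) [Surjective p] [Flat p] [QuasiCompact p]
    (D : Desc.SchDD p)
    (h : ∀ v : D.obj.left, ∃ (D' : Desc.SchDD p) (j : D' ⟶ D), IsOpenImmersion j.hom.left ∧
      v ∈ Set.range j.hom.left.base ∧ ∃ U' : Over S, Nonempty ((Desc.toDD p).obj U' ≅ D')) :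
    ∃ U : Over S, Nonempty ((Desc.toDD p).obj U ≅ D) := by
  classical
  let fU : PUnit.{u + 1} → (X ⟶ S) := fun _ => p
  have hU : Presieve.ofArrows (fun _ : PUnit.{u + 1} => X) fU ∈ Scheme.fpqcPrecoverage S := by
    rw [Presieve.ofArrows_pUnit]
    exact p.singleton_mem_fpqcPrecoverage
  let E : SchDDFam fU := (SchDDFam.ofSchDD p).obj D
  choose D' j hopen hmem U' hiso using h
  -- the charts
  let C : D.obj.left → Over S := U'
  let e0 : ∀ v, (Over.mk ((C v).hom ≫ 𝟙 S) : Over S) ≅ U' v := fun v =>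
    Over.isoMk (Iso.refl _) (by simp [C])
  let b : ∀ v, canonicalDDFam fU (Over.mk ((C v).hom ≫ 𝟙 S)) ⟶ E := fun v =>
    (toDDFam fU).map (e0 v).hom ≫ (SchDDFam.ofSchDD p).map ((hiso v).some.hom ≫ j v)
  have hbl : ∀ v i, ((b v).hom i).left =
      (((toDDFam fU).map (e0 v).hom).hom i).left ≫ ((hiso v).some.hom.hom).left ≫
        (j v).hom.left := fun v i => rfl
  have hiso1 : ∀ v i, IsIso (((toDDFam fU).map (e0 v).hom).hom i).left := by
    intro v i
    have h1 : IsIso ((toDDFam fU).map (e0 v).hom) := inferInstance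
    have h2 : ((toDDFam fU).map (e0 v).hom).hom i ≫ (inv ((toDDFam fU).map (e0 v).hom)).hom i =
        𝟙 _ := by
      rw [← SchDDFam.comp_hom, IsIso.hom_inv_id]
      rfl
    have h3 : (inv ((toDDFam fU).map (e0 v).hom)).hom i ≫ ((toDDFam fU).map (e0 v).hom).hom i =
        𝟙 _ := by
      rw [← SchDDFam.comp_hom, IsIso.inv_hom_id]
      rfl
    exact ⟨⟨((inv ((toDDFam fU).map (e0 v).hom)).hom i).left,
      by rw [← Over.comp_left, h2]; rfl, by rw [← Over.comp_left, h3]; rfl⟩⟩
  have hiso2 : ∀ v, IsIso ((hiso v).some.hom.hom).left := by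
    intro v
    have h2 : (hiso v).some.hom.hom ≫ (hiso v).some.inv.hom = 𝟙 _ :=
      congrArg SchDD.Hom.hom (hiso v).some.hom_inv_id
    have h3 : (hiso v).some.inv.hom ≫ (hiso v).some.hom.hom = 𝟙 _ :=
      congrArg SchDD.Hom.hom (hiso v).some.inv_hom_id
    exact ⟨⟨(hiso v).some.inv.hom.left,
      by rw [← Over.comp_left, h2]; rfl, by rw [← Over.comp_left, h3]; rfl⟩⟩
  have hbo : ∀ v i, IsOpenImmersion ((b v).hom i).left := by
    intro v i
    rw [hbl]
    exact Groth.Agent.Lib.Helper51.DescSec.isOpenImmersion_comp₃ _ _ _ (hiso1 v i) (hiso2 v)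
      (hopen v)
  have hcov : ∀ (i : PUnit.{u + 1}) (v : (E.obj i).left),
      ∃ α, v ∈ Set.range ((b α).hom i).left := by
    intro i v
    refine ⟨v, ?_⟩
    rw [hbl]
    exact Groth.Agent.Lib.Helper51.DescSec.mem_range_comp₃ _ _ _ (hiso1 v i) (hiso2 v) v (hmem v)
  obtain ⟨D₀, θ, hθ⟩ := Groth.Agent.Lib.Helper51.DescSec.exists_rep_of_open_charts E (𝟙 S) hU
    C b hcov
  let ρ : Groth.Agent.Lib.Helper51.DescSec.SecRep E (fun _ : PUnit.{u + 1} => 𝟙 S) :=
    ⟨fun _ => D₀, fun _ => θ, fun _ => hθ⟩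
  obtain ⟨iso⟩ := Groth.Agent.Lib.Helper51.DescSec.isEffective_of_secRep hU ρ
  exact ⟨D₀, ⟨(SchDDFam.toSchDD p).mapIso iso⟩⟩

end Groth.Agent.S9866
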