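import Groth.Statements.S4449
import Groth.Agent.Lib.Helper20.CompVal
import Mathlib.AlgebraicGeometry.ValuativeCriterion
import Mathlib.AlgebraicGeometry.Stalk

set_option autoImplicit false
universe u
open CategoryTheory CategoryTheory.Limits AlgebraicGeometry
open EGA2

namespace Groth.Agent.S4449

open IsLocalRing Groth.Agent.Lib.Helper20.CompVal

lemma isDominant_SpecMap_of_injective {A B : CommRingCat.{u}} (φ : A ⟶ B)
    (h : Function.Injective φ.hom) : IsDominant (Spec.map φ) := by
  constructor
  show DenseRange (PrimeSpectrum.comap φ.hom)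
  rw [PrimeSpectrum.denseRange_comap_iff_ker_le_nilRadical,
    (RingHom.injective_iff_ker_eq_bot _).mp h]
  exact bot_le

/-- two morphisms from the spectrum of a domain to a separated scheme that agree at the generic
point (after an injective ring map) are equal -/
lemma ext_of_injective {A B : CommRingCat.{u}} [IsDomain A] (φ : A ⟶ B)
    (h : Function.Injective φ.hom) {Z : Scheme.{u}} [Z.IsSeparated] (l₁ l₂ : Spec A ⟶ Z)
    (hl : Spec.map φ ≫ l₁ = Spec.map φ ≫ l₂) : l₁ = l₂ := by
  have := isDominant_SpecMap_of_injective φ h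
  exact ext_of_isDominant_of_isSeparated (terminal.from Z) (terminal.hom_ext _ _) (Spec.map φ) hl

/-- Case of an arbitrary integral separated base: let Y and X be integral separated schemes and f : X ⟶
Y a dominant morphism of finite type, ξ the generic point of X. Suppose that every valuation subring
R of K(X) other than K(X) itself which dominates the local ring of Y at a point y (via O_{Y,y} →
O_{Y,f(ξ)} → K(X)) dominates the local ring of X at some point x (via O_{X,x} → K(X)). Then f is
proper. (Compare the locally Noetherian variant with discrete valuation rings.) -/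
theorem result {X Y : Scheme.{u}} [IsIntegral X] [IsIntegral Y]
    [X.IsSeparated] [Y.IsSeparated] (f : X ⟶ Y) [IsDominant f] [LocallyOfFiniteType f] [QuasiCompact f]
    (h : ∀ (R : ValuationSubring X.functionField), R ≠ ⊤ →
      ∀ (y : Y) (hy : f.base (genericPoint X) ⤳ y),
        ((∀ a : Y.presheaf.stalk y, (Y.presheaf.stalkSpecializes hy ≫ f.stalkMap (genericPoint X)).hom a ∈ R) ∧
          ∀ a ∈ IsLocalRing.maximalIdeal (Y.presheaf.stalk y),
            R.valuation ((Y.presheaf.stalkSpecializes hy ≫ f.stalkMap (genericPoint X)).hom a) < 1) →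
        ∃ x : X, (∀ a : X.presheaf.stalk x, algebraMap (X.presheaf.stalk x) X.functionField a ∈ R) ∧
          ∀ a ∈ IsLocalRing.maximalIdeal (X.presheaf.stalk x), R.valuation (algebraMap (X.presheaf.stalk x) X.functionField a) < 1) :
    IsProper f := by
  have huc : UniversallyClosed f := by
    apply UniversallyClosed.of_valuativeCriterion
    intro S
    -- the data of the square
    set ξ := genericPoint X with hξ
    let x' : X := S.i₁.base (closedPoint S.K)
    let φ : X.presheaf.stalk x' ⟶ CommRingCat.of S.K := Scheme.stalkClosedPointTo S.i₁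
    have hφ : Spec.map φ ≫ X.fromSpecStalk x' = S.i₁ :=
      Scheme.Spec_stalkClosedPointTo_fromSpecStalk S.i₁
    have hφloc : IsLocalHom φ.hom := Scheme.isLocalHom_stalkClosedPointTo' S.i₁
    let y : Y := S.i₂.base (closedPoint S.R)
    let ψ : Y.presheaf.stalk y ⟶ CommRingCat.of S.R := Scheme.stalkClosedPointTo S.i₂
    have hψ : Spec.map ψ ≫ Y.fromSpecStalk y = S.i₂ :=
      Scheme.Spec_stalkClosedPointTo_fromSpecStalk S.i₂
    have hψloc : IsLocalHom ψ.hom := Scheme.isLocalHom_stalkClosedPointTo' S.i₂
    have hξx' : ξ ⤳ x' := (genericPoint_spec X).specializes trivial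
    let ι : X.presheaf.stalk x' →+* X.functionField := (X.presheaf.stalkSpecializes hξx').hom
    obtain ⟨V, R, hRV, hV, hVloc, h2, h3⟩ :=
      exists_comp_valuationSubring (X.presheaf.stalk x') X.functionField ι S.K φ.hom S.R
    -- `f x' ⤳ y`
    have hfx'y : f.base x' ⤳ y := by
      have h1 : (Spec.map (CommRingCat.ofHom (algebraMap S.R S.K))).base (closedPoint S.K) ⤳
          closedPoint S.R := IsLocalRing.specializes_closedPoint _
      have h2 := h1.map S.i₂.base.hom.continuous
      have h3 : S.i₂.base ((Spec.map (CommRingCat.ofHom (algebraMap S.R S.K))).base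
          (closedPoint S.K)) = f.base x' := by
        rw [← Scheme.Hom.comp_apply, ← S.commSq.w, Scheme.Hom.comp_apply]
      rw [← h3]
      exact h2
    have hy : f.base ξ ⤳ y := (hξx'.map f.base.hom.continuous).trans hfx'y
    -- key identities
    have E1 : Y.presheaf.stalkSpecializes hfx'y ≫ f.stalkMap x' ≫ φ =
        ψ ≫ CommRingCat.ofHom (algebraMap S.R S.K) := by
      apply Spec.map_injective
      have : Mono (Y.fromSpecStalk y) := inferInstance
      rw [← cancel_mono (Y.fromSpecStalk y)]
      rw [Spec.map_comp, Spec.map_comp, Spec.map_comp, Category.assoc, Category.assoc, Category.assoc,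
        Scheme.SpecMap_stalkSpecializes_fromSpecStalk, Scheme.SpecMap_stalkMap_fromSpecStalk,
        reassoc_of% hφ, hψ, S.commSq.w]
    have E2 : Y.presheaf.stalkSpecializes hy ≫ f.stalkMap ξ =
        Y.presheaf.stalkSpecializes hfx'y ≫ f.stalkMap x' ≫ X.presheaf.stalkSpecializes hξx' := by
      rw [← Scheme.Hom.stalkSpecializes_stalkMap, ← Category.assoc,
        TopCat.Presheaf.stalkSpecializes_comp]
    -- `R` dominates `O_{Y,y}`
    have hdom : (∀ a : Y.presheaf.stalk y,
        (Y.presheaf.stalkSpecializes hy ≫ f.stalkMap ξ).hom a ∈ R) ∧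
        ∀ a ∈ IsLocalRing.maximalIdeal (Y.presheaf.stalk y),
          R.valuation ((Y.presheaf.stalkSpecializes hy ≫ f.stalkMap ξ).hom a) < 1 := by
      have key : ∀ a : Y.presheaf.stalk y,
          (Y.presheaf.stalkSpecializes hy ≫ f.stalkMap ξ).hom a ∈ R ∧
          (¬ IsUnit (ψ.hom a) →
            R.valuation ((Y.presheaf.stalkSpecializes hy ≫ f.stalkMap ξ).hom a) < 1) := by
        intro a
        rw [E2]
        let b : X.presheaf.stalk x' := (Y.presheaf.stalkSpecializes hfx'y ≫ f.stalkMap x').hom a
        have hb : φ.hom b = algebraMap S.R S.K (ψ.hom a) :=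
          congrArg (fun g => g.hom a) E1
        exact h2 b (ψ.hom a) hb
      refine ⟨fun a => (key a).1, fun a ha => (key a).2 fun hu => ?_⟩
      exact (mem_maximalIdeal a).mp ha (hψloc.map_nonunit a hu)
    -- a point `x` whose local ring is dominated by `R`
    obtain ⟨x, hx1, -⟩ : ∃ x : X, (∀ a : X.presheaf.stalk x,
        algebraMap (X.presheaf.stalk x) X.functionField a ∈ R) ∧
        ∀ a ∈ IsLocalRing.maximalIdeal (X.presheaf.stalk x),
          R.valuation (algebraMap (X.presheaf.stalk x) X.functionField a) < 1 := by
      by_cases hR : R = ⊤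
      · refine ⟨ξ, fun a => by rw [hR]; trivial, fun a ha => ?_⟩
        have ha0 : a = 0 := by
          by_contra hne
          exact (mem_maximalIdeal a).mp ha (isUnit_iff_ne_zero.mpr hne)
        rw [ha0, map_zero, map_zero]
        exact zero_lt_one
      · exact h R hR y hy hdom
    have hξx : ξ ⤳ x := (genericPoint_spec X).specializes trivial
    have halg : ∀ a : X.presheaf.stalk x, algebraMap (X.presheaf.stalk x) X.functionField a =
        (X.presheaf.stalkSpecializes hξx).hom a := fun a => rfl
    -- `x' ⤳ x` by separatedness of `X`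
    have hx'x : x' ⤳ x := by
      let ρ : X.presheaf.stalk x' ⟶ CommRingCat.of V :=
        CommRingCat.ofHom (ι.codRestrict V.toSubring hV)
      have hρloc : IsLocalHom ρ.hom := by
        constructor
        intro o ho
        by_contra hnu
        have h1 := hVloc o hnu
        have h2 := (V.valuation_eq_one_iff _).mp ho
        have h3 : V.valuation (ι o) = 1 := h2
        rw [h3] at h1
        exact lt_irrefl _ h1
      let ρ₂ : X.presheaf.stalk x ⟶ CommRingCat.of V :=
        CommRingCat.ofHom ((X.presheaf.stalkSpecializes hξx).hom.codRestrict V.toSubring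
          (fun a => hRV (hx1 a)))
      let inc : CommRingCat.of V ⟶ X.functionField := CommRingCat.ofHom V.subtype
      have hinc : Function.Injective inc.hom := Subtype.val_injective
      have e1 : ρ ≫ inc = X.presheaf.stalkSpecializes hξx' := by
        ext a; rfl
      have e2 : ρ₂ ≫ inc = X.presheaf.stalkSpecializes hξx := by
        ext a; rfl
      have hl : Spec.map ρ ≫ X.fromSpecStalk x' = Spec.map ρ₂ ≫ X.fromSpecStalk x := by
        apply ext_of_injective inc hinc
        rw [← Spec.map_comp_assoc, ← Spec.map_comp_assoc, e1, e2,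
          Scheme.SpecMap_stalkSpecializes_fromSpecStalk,
          Scheme.SpecMap_stalkSpecializes_fromSpecStalk]
      have h1 : (Spec.map ρ ≫ X.fromSpecStalk x').base (closedPoint V) = x' := by
        rw [Scheme.Hom.comp_apply, Spec_closedPoint (f := ρ), Scheme.fromSpecStalk_closedPoint]
      have h2 : (Spec.map ρ₂ ≫ X.fromSpecStalk x).base (closedPoint V) ∈
          Set.range (X.fromSpecStalk x).base := by
        rw [Scheme.Hom.comp_apply]
        exact ⟨_, rfl⟩
      rw [Scheme.range_fromSpecStalk, ← hl, h1] at h2
      exact h2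
    -- the ring map `O_{X,x} → S.R`
    let g : X.presheaf.stalk x →+* S.K := (X.presheaf.stalkSpecializes hx'x ≫ φ).hom
    have hinj : Function.Injective (algebraMap S.R S.K) := IsFractionRing.injective S.R S.K
    have hg : ∀ a, g a ∈ (algebraMap S.R S.K).range := by
      intro a
      let a' : X.presheaf.stalk x' := (X.presheaf.stalkSpecializes hx'x).hom a
      have ha' : ι a' = algebraMap (X.presheaf.stalk x) X.functionField a := by
        rw [halg]
        have := TopCat.Presheaf.stalkSpecializes_comp X.presheaf hξx' hx'x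
        exact congrArg (fun g => g.hom a) this
      have hmem : ι a' ∈ R := by rw [ha']; exact hx1 a
      obtain ⟨r, hr, -⟩ := h3 a' hmem
      exact ⟨r, hr⟩
    let e : S.R ≃+* (algebraMap S.R S.K).range :=
      RingEquiv.ofBijective (algebraMap S.R S.K).rangeRestrict
        ⟨fun a b hab => hinj (congrArg Subtype.val hab),
          (algebraMap S.R S.K).rangeRestrict_surjective⟩
    let θ : X.presheaf.stalk x →+* S.R :=
      e.symm.toRingHom.comp (g.codRestrict (algebraMap S.R S.K).range hg)
    have hθ : ∀ a, algebraMap S.R S.K (θ a) = g a := by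
      intro a
      have h1 : e (θ a) = g.codRestrict (algebraMap S.R S.K).range hg a := e.apply_symm_apply _
      exact congrArg Subtype.val h1
    let θ' : X.presheaf.stalk x ⟶ CommRingCat.of S.R := CommRingCat.ofHom θ
    have hθ' : θ' ≫ CommRingCat.ofHom (algebraMap S.R S.K) =
        X.presheaf.stalkSpecializes hx'x ≫ φ := by
      ext a
      exact hθ a
    let l : Spec (CommRingCat.of S.R) ⟶ X := Spec.map θ' ≫ X.fromSpecStalk x
    have hl1 : Spec.map (CommRingCat.ofHom (algebraMap S.R S.K)) ≫ l = S.i₁ := by
      show _ ≫ Spec.map θ' ≫ X.fromSpecStalk x = _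
      rw [← Spec.map_comp_assoc, hθ', Spec.map_comp, Category.assoc,
        Scheme.SpecMap_stalkSpecializes_fromSpecStalk, hφ]
    have hl2 : l ≫ f = S.i₂ := by
      apply ext_of_injective (CommRingCat.ofHom (algebraMap S.R S.K)) hinj
      rw [reassoc_of% hl1, S.commSq.w]
    exact ⟨⟨⟨l, hl1, hl2⟩⟩⟩
  exact { }


end Groth.Agent.S4449
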