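import Groth.Statements.S10534
import Groth.Statements.S10534
import Groth.Agent.Lib.Helper54.ClosedDescent
import Groth.Agent.Lib.Helper1.AffineAndDescent
import Groth.Agent.H53.ZarGlueAff
import Groth.Agent.H53.Proper
import Groth.Agent.H52.QC
import Groth.Agent.S10519

set_option autoImplicit false
universe u
open CategoryTheory CategoryTheory.Limits AlgebraicGeometry
open AlgSp

namespace Groth.Agent.S10534

/-- The property of morphisms of algebraic spaces over S given by f is a closed immersion (representable
by closed immersions of schemes) is fpqc local on the base: for an fpqc covering of an algebraic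
space Y by algebraic spaces Y_i, a morphism f : X ⟶ Y of algebraic spaces and cartesian squares X_i
= Y_i ×_Y X, f has the property if and only if every X_i ⟶ Y_i has it. -/
theorem result (S : Scheme.{u}) :
    AlgSp.IsLocalOnBase (AlgSp.IsFpqcCover (S := S)) (AlgSp.RepWith @IsClosedImmersion) := by
  intro ι Y Yi g hY hYi hcov X f hX Xi p q hXi sq
  have hbc : (AlgSp.RepWith (S := S) @IsClosedImmersion).IsStableUnderBaseChange :=
    repWith_isStableUnderBaseChange _
  constructor
  · intro hf i
    exact MorphismProperty.of_isPullback (sq i) hf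
  · intro hp
    have hdesc : MorphismProperty.DescendsAlong @IsClosedImmersion
        (@Surjective ⊓ @Flat ⊓ @QuasiCompact : MorphismProperty Scheme.{u}) :=
      Groth.Agent.Lib.Helper1.descendsAlong_isClosedImmersion_fpqc
    have hmono : Mono f :=
      Groth.Agent.Lib.Helper54.mono_of_fpqc_local hX f g hcov.2 p q sq (fun i =>
        Groth.Agent.H52.mono_of_repWith (p i) @IsClosedImmersion
          (fun _ _ φ hφ => by have : IsClosedImmersion φ := hφ; infer_instance) (hp i))
    have hqc : AlgSp.IsQuasiCompactMor f :=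
      (Groth.Agent.S10519.result S Yi g hY hYi hcov f hX Xi p q hXi sq).2 (fun i =>
        Groth.Agent.H52.isQuasiCompactMor_of_repWith_quasiCompact _
          (Groth.Agent.H53.repWith_of_le
            (fun _ _ φ hφ => by have : IsClosedImmersion φ := hφ; infer_instance) (hp i)))
    have hloc : ∀ (T : Over S), IsAffine T.left → ∀ y : (AlgSp.yon S).obj T ⟶ Y,
        ∃ (m : ℕ) (W : Fin m → Over S) (c : ∀ j, W j ⟶ T),
          (∀ j, IsAffine (W j).left) ∧ (∀ j, Flat (c j).left) ∧
          (∀ t : ↥T.left, ∃ j, t ∈ Set.range (c j).left) ∧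
          ∀ j, ∃ (A' : AlgSp.Sp S) (a : A' ⟶ X) (φ' : A' ⟶ (AlgSp.yon S).obj (W j)),
            IsPullback a φ' f ((AlgSp.yon S).map (c j) ≫ y) ∧ AlgSp.RepWith @IsClosedImmersion φ' := by
      intro T hT y
      obtain ⟨m, W, c, haff, hflat, hsurj, hl⟩ := hcov.2 T hT y
      refine ⟨m, W, c, haff, hflat, hsurj, fun j => ?_⟩
      obtain ⟨i, l, hl⟩ := hl j
      refine ⟨pullback (p i) l, pullback.fst _ _ ≫ q i, pullback.snd _ _, ?_,
        MorphismProperty.of_isPullback (IsPullback.of_hasPullback (p i) l) (hp i)⟩
      have := (IsPullback.of_hasPullback (p i) l).paste_horiz (sq i)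
      rwa [hl] at this
    have hrep : AlgSp.Representable f := by
      refine Groth.Agent.H53.ZarGlue.representable_of_affine_local (fun Z hZ gZ => ?_)
      have sqZ := IsPullback.of_hasPullback f gZ
      have hXZqc : AlgSp.IsQuasiCompactSp (pullback f gZ) := by
        have : IsAffine Z.left := hZ
        exact hqc (IsAlgSpace.yon_obj Z) (Groth.Agent.H52.isQuasiCompactSp_yon Z) gZ _ _ sqZ
      obtain ⟨m, W, c, haff, hflat, hsurj, hloc'⟩ := hloc Z hZ gZ
      obtain ⟨V, ι, e, -, he⟩ := Groth.Agent.Lib.Helper54.exists_iso_yon_of_closed_family hZ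
        (pullback.snd f gZ) hXZqc W c haff hflat hsurj (fun j => by
          obtain ⟨A', a, φ', sqA, hφ'⟩ := hloc' j
          have hw : a ≫ f = (φ' ≫ (AlgSp.yon S).map (c j)) ≫ gZ := by
            rw [sqA.w, Category.assoc]
          refine ⟨A', sqZ.lift a (φ' ≫ (AlgSp.yon S).map (c j)) hw, φ', ?_, hφ'⟩
          refine IsPullback.of_right ?_ (sqZ.lift_snd _ _ _) sqZ
          rw [sqZ.lift_fst]
          exact sqA)
      refine ⟨V, ι, e.hom ≫ pullback.fst f gZ, ?_⟩
      have sqe : IsPullback e.hom ((AlgSp.yon S).map ι) (pullback.snd f gZ) (𝟙 _) :=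
        IsPullback.of_horiz_isIso ⟨by rw [he, Category.comp_id]⟩
      have := sqe.paste_horiz sqZ
      rwa [Category.id_comp] at this
    exact Groth.Agent.Lib.Helper54.repWith_of_fpqc_local @IsClosedImmersion f hrep hloc

end Groth.Agent.S10534
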