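import Groth.Statements.S10547
import Groth.Agent.H52.ImmDescent
import Groth.Agent.S10534
import Groth.Agent.S10505

set_option autoImplicit false
universe u
open CategoryTheory CategoryTheory.Limits AlgebraicGeometry
open AlgSp

namespace Groth.Agent.S10547

/-- The property of morphisms of algebraic spaces over S given by immersions (representable by
immersions of schemes) is fppf local on the base: for an fppf covering of an algebraic space Y by
algebraic spaces Y_i (each Y_i ⟶ Y flat and locally of finite presentation, jointly surjective on
points), a morphism f : X ⟶ Y of algebraic spaces and cartesian squares X_i = Y_i ×_Y X, f is an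
immersion if and only if every X_i ⟶ Y_i is. -/
theorem result (S : Scheme.{u}) :
    AlgSp.IsLocalOnBase (AlgSp.IsFppfCover (S := S)) (AlgSp.RepWith @IsImmersion) := by
  have hCl : AlgSp.IsLocalOnBase (AlgSp.IsFppfCover (S := S)) (AlgSp.RepWith @IsClosedImmersion) := by
    intro ι Y Yi g hY hYi hcov X f hX Xi p q hXi sq
    have hfpqc : AlgSp.IsFpqcCover Yi g :=
      Groth.Agent.S10505.result (S := S) ⟨Y, hY⟩ (fun i => ⟨Yi i, hYi i⟩)
        (fun i => ObjectProperty.homMk (g i)) hcov
    exact Groth.Agent.S10534.result S Yi g hY hYi hfpqc f hX Xi p q hXi sq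
  intro ι Y Yi g hY hYi hcov X f hX Xi p q hXi sq
  constructor
  · intro hf i
    exact MorphismProperty.of_isPullback (sq i) hf
  · intro h
    exact Groth.Agent.H52.repWith_isImmersion_of_fppf_local hCl Yi g hY hYi hcov f hX Xi p q sq h

end Groth.Agent.S10547
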