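import Groth.Statements.S9932
import Groth.Agent.S10547
import Groth.Agent.S10531
import Groth.Agent.H52.FibreProd

set_option autoImplicit false
universe u
open CategoryTheory CategoryTheory.Limits AlgebraicGeometry
open AlgSp

namespace Groth.Agent.S9932

/-- (4) ⇒ (1): for P = closed immersion, open immersion or immersion, being representable with P
descends along a surjective etale base change from a scheme. -/
theorem result {S : Scheme.{u}} (P : MorphismProperty Scheme.{u})
    (hP : P = @IsClosedImmersion ∨ P = @IsOpenImmersion ∨ P = @IsImmersion) {X Y : AlgSp.Space S} (f : X ⟶ Y)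
    (V : Over S) (p : (AlgSp.yon S).obj V ⟶ Y.obj) (hp : AlgSp.RepWith @Etale p) (hps : AlgSp.RepWith @Surjective p)
    {P₀ : AlgSp.Sp S} (fst : P₀ ⟶ X.obj) (snd : P₀ ⟶ (AlgSp.yon S).obj V) (sq : IsPullback fst snd f.hom p)
    (h : AlgSp.RepWith P snd) : AlgSp.RepWith P f.hom := by
  have hfppf : ∀ (Q : MorphismProperty (AlgSp.Sp S)),
      AlgSp.IsLocalOnBase (AlgSp.IsFpqcCover (S := S)) Q →
      AlgSp.IsLocalOnBase (AlgSp.IsFppfCover (S := S)) Q := by
    intro Q hQ ι Y Yi g hY hYi hcov X f hX Xi p q hXi sq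
    have hfpqc : AlgSp.IsFpqcCover Yi g :=
      Groth.Agent.S10505.result (S := S) ⟨Y, hY⟩ (fun i => ⟨Yi i, hYi i⟩)
        (fun i => ObjectProperty.homMk (g i)) hcov
    exact hQ Yi g hY hYi hfpqc f hX Xi p q hXi sq
  have hloc : AlgSp.IsLocalOnBase (AlgSp.IsFppfCover (S := S)) (AlgSp.RepWith P) := by
    rcases hP with rfl | rfl | rfl
    · exact hfppf _ (Groth.Agent.S10534.result S)
    · exact hfppf _ (Groth.Agent.S10531.result S)
    · exact Groth.Agent.S10547.result S
  have hpe : AlgSp.IsEtaleMor p := Groth.Agent.H52.isEtaleMor_of_repWith_etale p hp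
  have hQ : AlgSp.LocP @Flat p ∧ AlgSp.LocP @LocallyOfFinitePresentation p :=
    ⟨Groth.Agent.Lib.Helper54.locP_mono (fun _ _ φ hφ => by have : Etale φ := hφ; infer_instance)
        (Groth.Agent.Lib.Helper54.locP_etale_of_isEtaleMor hpe),
      Groth.Agent.Lib.Helper54.locP_mono (fun _ _ φ hφ => by have : Etale φ := hφ; infer_instance)
        (Groth.Agent.Lib.Helper54.locP_etale_of_isEtaleMor hpe)⟩
  have hP₀ : AlgSp.IsAlgSpace P₀ :=
    Groth.Agent.H52.isAlgSpace_of_isPullback sq X.property Y.property (AlgSp.IsAlgSpace.yon_obj V)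
  exact Groth.Agent.Lib.Helper54.descend_of_isLocalOnBase Groth.Agent.Lib.Helper54.covClass_fppf hloc
    X.property Y.property hP₀ (AlgSp.IsAlgSpace.yon_obj V) sq hQ
    (Groth.Agent.H52.surjective_points_of_repWith_surjective p hps) h

end Groth.Agent.S9932
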