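import Groth.Statements.S4716
import Mathlib

set_option autoImplicit false
universe u
open EGA4

namespace Groth.Agent.S4716

open Order in
/-- If `f` is monotone and lower sets lift along `f` (every `b ≤ f a` is the image of some `a' ≤ a`),
then heights do not decrease along `f`. -/
theorem height_le_height_of_lifting {α β : Type*} [Preorder α] [Preorder β] (f : α → β)
    (hlift : ∀ a b, b ≤ f a → ∃ a', a' ≤ a ∧ f a' = b) (hmono : Monotone f) (a : α) :
    height (f a) ≤ height a := by
  suffices h : ∀ n : ℕ, ∀ a, (n : ℕ∞) ≤ height (f a) → (n : ℕ∞) ≤ height a by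
    exact ENat.forall_natCast_le_iff_le.mp fun n hn => h n a hn
  intro n
  induction n with
  | zero => intro a _; simp
  | succ n ih =>
    intro a hn
    obtain ⟨p, hlast, hlen⟩ := exists_series_of_le_height (f a) hn
    have hpos : p.length ≠ 0 := by omega
    -- the second-to-last element
    set b := p.eraseLast.last with hb
    have hblt : b < f a := by
      rw [← hlast]
      exact p.eraseLast_last_rel_last hpos
    have hbh : (n : ℕ∞) ≤ height b := by
      have := length_le_height_last (p := p.eraseLast)
      have hl : p.eraseLast.length = n := by simp [hlen]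
      rwa [hl] at this
    obtain ⟨a', ha'le, ha'⟩ := hlift a b hblt.le
    have ha'lt : a' < a := by
      refine lt_of_le_not_ge ha'le fun hge => ?_
      have := hmono hge
      rw [ha'] at this
      exact (lt_irrefl _ (lt_of_lt_of_le hblt this))
    have h1 := ih a' (by rw [ha']; exact hbh)
    calc ((n + 1 : ℕ) : ℕ∞) = (n : ℕ∞) + 1 := by push_cast; rfl
      _ ≤ height a' + 1 := by gcongr
      _ ≤ height a := height_add_one_le ha'lt

open Order in
theorem krullDim_le_of_lifting {α β : Type*} [Preorder α] [Preorder β] (f : α → β)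
    (hlift : ∀ a b, b ≤ f a → ∃ a', a' ≤ a ∧ f a' = b) (hmono : Monotone f)
    (hsurj : Function.Surjective f) : krullDim β ≤ krullDim α := by
  rw [krullDim_eq_iSup_height, krullDim_eq_iSup_height]
  refine iSup_le fun b => ?_
  obtain ⟨a, rfl⟩ := hsurj b
  refine le_trans ?_ (le_iSup (fun a => ((height a : ℕ∞) : WithBot ℕ∞)) a)
  exact WithBot.coe_le_coe.mpr (height_le_height_of_lifting f hlift hmono a)

open Order in
theorem krullDim_le_of_lifting' {α β : Type*} [Preorder α] [Preorder β] (f : α → β)
    (hlift : ∀ a b, f a ≤ b → ∃ a', a ≤ a' ∧ f a' = b) (hmono : Monotone f)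
    (hsurj : Function.Surjective f) : krullDim β ≤ krullDim α := by
  rw [← krullDim_orderDual (α := α), ← krullDim_orderDual (α := β)]
  exact krullDim_le_of_lifting (α := αᵒᵈ) (β := βᵒᵈ) f (fun a b h => hlift a b h) hmono.dual hsurj

attribute [local instance] specializationOrder in
theorem topologicalKrullDim_eq_krullDim (X : Type*) [TopologicalSpace X] [QuasiSober X] [T0Space X] :
    topologicalKrullDim X = Order.krullDim X :=
  Order.krullDim_eq_of_orderIso irreducibleSetEquivPoints

/-- In a Noetherian quasi-sober space, a point in the closure of a fibre of a continuous map to a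
T0 space specializes from a point of that fibre. -/
theorem exists_specializes_of_mem_closure_fiber {X Y : Type*} [TopologicalSpace X]
    [TopologicalSpace Y] [TopologicalSpace.NoetherianSpace X] [QuasiSober X] [T0Space Y]
    (f : X → Y) (hc : Continuous f) (y' : Y) (x : X) (hx : x ∈ closure (f ⁻¹' {y'})) :
    ∃ x', x' ⤳ x ∧ f x' = y' := by
  classical
  set S : Set X := f ⁻¹' {y'} with hS
  -- minimal closed `T` with `x ∈ closure (S ∩ T)`
  let 𝒯 : Set (TopologicalSpace.Closeds X) := {T | x ∈ closure (S ∩ (T : Set X))}
  have hne : 𝒯.Nonempty := ⟨⊤, by simpa [𝒯] using hx⟩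
  obtain ⟨T, hT, hmin⟩ := (wellFounded_lt (α := TopologicalSpace.Closeds X)).has_min 𝒯 hne
  have hmin' : ∀ T' ∈ 𝒯, T' ≤ T → T' = T := by
    intro T' hT' hle
    by_contra hne'
    exact hmin T' hT' (lt_of_le_of_ne hle hne')
  -- `T = closure (S ∩ T)`
  have hTeq : closure (S ∩ (T : Set X)) = (T : Set X) := by
    let T' : TopologicalSpace.Closeds X := ⟨closure (S ∩ (T : Set X)), isClosed_closure⟩
    have hle : T' ≤ T := by
      change closure (S ∩ (T : Set X)) ⊆ (T : Set X)
      exact closure_minimal Set.inter_subset_right T.isClosed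
    have hT' : T' ∈ 𝒯 := by
      change x ∈ closure (S ∩ closure (S ∩ (T : Set X)))
      refine closure_mono ?_ hT
      exact fun z hz => ⟨hz.1, subset_closure hz⟩
    have := hmin' T' hT' hle
    exact congrArg (fun T : TopologicalSpace.Closeds X => (T : Set X)) this
  have hxT : x ∈ (T : Set X) := hTeq ▸ hT
  -- `T` is irreducible
  have hirr : IsIrreducible (T : Set X) := by
    refine ⟨⟨x, hxT⟩, ?_⟩
    rw [isPreirreducible_iff_isClosed_union_isClosed]
    intro A B hA hB hAB
    have hcov : S ∩ (T : Set X) ⊆ (S ∩ ((T : Set X) ∩ A)) ∪ (S ∩ ((T : Set X) ∩ B)) := by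
      rintro z ⟨hzS, hzT⟩
      rcases hAB hzT with h | h
      · exact Or.inl ⟨hzS, hzT, h⟩
      · exact Or.inr ⟨hzS, hzT, h⟩
    have hx' := closure_mono hcov hT
    rw [closure_union] at hx'
    rcases hx' with h | h
    · left
      let T' : TopologicalSpace.Closeds X := ⟨(T : Set X) ∩ A, T.isClosed.inter hA⟩
      have := hmin' T' h Set.inter_subset_left
      have h2 : (T : Set X) ∩ A = (T : Set X) :=
        congrArg (fun T : TopologicalSpace.Closeds X => (T : Set X)) this
      exact fun z hz => (h2.symm.subset hz).2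
    · right
      let T' : TopologicalSpace.Closeds X := ⟨(T : Set X) ∩ B, T.isClosed.inter hB⟩
      have := hmin' T' h Set.inter_subset_left
      have h2 : (T : Set X) ∩ B = (T : Set X) :=
        congrArg (fun T : TopologicalSpace.Closeds X => (T : Set X)) this
      exact fun z hz => (h2.symm.subset hz).2
  -- generic point
  have hgen : IsGenericPoint hirr.genericPoint (T : Set X) := by
    have := hirr.isGenericPoint_genericPoint_closure
    rwa [T.isClosed.closure_eq] at this
  refine ⟨hirr.genericPoint, hgen.specializes hxT, ?_⟩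
  -- `S ∩ T` is nonempty
  obtain ⟨s, hsS, hsT⟩ : (S ∩ (T : Set X)).Nonempty := by
    rw [← closure_nonempty_iff]; exact ⟨x, hT⟩
  have hfs : f s = y' := hsS
  have h1 : f hirr.genericPoint ⤳ y' := hfs ▸ (hgen.specializes hsT).map hc
  have h2 : y' ⤳ f hirr.genericPoint := by
    rw [specializes_iff_mem_closure]
    have hsub : f '' (T : Set X) ⊆ closure {y'} := by
      rw [← hTeq]
      refine (image_closure_subset_closure_image hc).trans (closure_mono ?_)
      rintro _ ⟨z, ⟨hzS, -⟩, rfl⟩
      exact hzS
    exact hsub ⟨_, hgen.mem, rfl⟩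
  exact (h1.antisymm h2).eq

/-- Open continuous maps out of a locally Noetherian quasi-sober space into a T0 space are
generalizing. -/
theorem generalizingMap_of_isOpenMap {X Y : Type*} [TopologicalSpace X]
    [TopologicalSpace Y] [QuasiSober X] [T0Space Y]
    (hX : ∀ x : X, ∃ U : TopologicalSpace.Opens X, x ∈ U ∧ TopologicalSpace.NoetherianSpace U)
    (f : X → Y) (hc : Continuous f) (ho : IsOpenMap f) : GeneralizingMap f := by
  intro x y' hy'
  obtain ⟨U, hxU, hU⟩ := hX x
  have : QuasiSober U := U.isOpen.isOpenEmbedding_subtypeVal.quasiSober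
  let g : U → Y := f ∘ Subtype.val
  have hgc : Continuous g := hc.comp continuous_subtype_val
  have hgo : IsOpenMap g := ho.comp U.isOpen.isOpenMap_subtype_val
  have hmem : (⟨x, hxU⟩ : U) ∈ closure (g ⁻¹' {y'}) := by
    rw [mem_closure_iff]
    intro V hV hxV
    have hopen : IsOpen (g '' V) := hgo V hV
    have hfx : f x ∈ g '' V := ⟨⟨x, hxU⟩, hxV, rfl⟩
    have : y' ∈ g '' V := hy'.mem_open hopen hfx
    obtain ⟨z, hzV, hz⟩ := this
    exact ⟨z, hzV, hz⟩
  obtain ⟨x', hx', hfx'⟩ := exists_specializes_of_mem_closure_fiber g hgc y' ⟨x, hxU⟩ hmem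
  exact ⟨x'.1, hx'.map continuous_subtype_val, hfx'⟩

attribute [local instance] specializationOrder in
/-- Topological core. -/
theorem topologicalKrullDim_le_of_surjective {X Y : Type*} [TopologicalSpace X] [TopologicalSpace Y]
    [QuasiSober X] [T0Space X] [QuasiSober Y] [T0Space Y]
    (hX : ∀ x : X, ∃ U : TopologicalSpace.Opens X, x ∈ U ∧ TopologicalSpace.NoetherianSpace U)
    (f : X → Y) (hc : Continuous f)
    (hs : Function.Surjective f) (h : IsOpenMap f ∨ IsClosedMap f) :
    topologicalKrullDim Y ≤ topologicalKrullDim X := by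
  rw [topologicalKrullDim_eq_krullDim, topologicalKrullDim_eq_krullDim]
  rcases h with h | h
  · -- open maps are generalizing
    have hg : GeneralizingMap f := generalizingMap_of_isOpenMap hX f hc h
    refine krullDim_le_of_lifting' f (fun a b hab => ?_) hc.specialization_monotone hs
    obtain ⟨a', ha', hfa'⟩ := hg hab
    exact ⟨a', ha', hfa'⟩
  · have hg : SpecializingMap f := h.specializingMap
    refine krullDim_le_of_lifting f (fun a b hab => ?_) hc.specialization_monotone hs
    obtain ⟨a', ha', hfa'⟩ := hg hab
    exact ⟨a', ha', hfa'⟩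

open AlgebraicGeometry CategoryTheory in
/-- Consider locally Noetherian schemes X and Y and a morphism f : X → Y that is surjective and whose
underlying map is either open or closed. Then dim X ≥ dim Y. -/
theorem result {X Y : Scheme.{u}} (f : X ⟶ Y) [IsLocallyNoetherian X]
    [IsLocallyNoetherian Y] (hs : Function.Surjective f.base) (h : IsOpenMap f.base ∨ IsClosedMap f.base) :
    topologicalKrullDim Y ≤ topologicalKrullDim X := by
  refine topologicalKrullDim_le_of_surjective ?_ f.base f.continuous hs h
  intro x
  obtain ⟨_, ⟨U, hU, rfl⟩, hxU, -⟩ :=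
    X.isBasis_affineOpens.exists_subset_of_mem_open (Set.mem_univ x) isOpen_univ
  have : IsNoetherianRing Γ(X, U) := IsLocallyNoetherian.component_noetherian ⟨U, hU⟩
  exact ⟨U, hxU, noetherianSpace_of_isAffineOpen U hU⟩

end Groth.Agent.S4716
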