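import Groth.Statements.S10619
import Groth.Agent.Lib.Helper55.InfSq

set_option autoImplicit false
universe u
open CategoryTheory CategoryTheory.Limits AlgebraicGeometry
open AlgSp

namespace Groth.Agent.S10619

open Groth.Agent.Lib.Helper55

theorem smooth_comp {S : Scheme.{u}} {F G H : AlgSp.Sp S} (a : F ⟶ G) (b : G ⟶ H)
    (ha : AlgSp.IsFormallySmoothMor a) (hb : AlgSp.IsFormallySmoothMor b) :
    AlgSp.IsFormallySmoothMor (a ≫ b) := by
  intro sq
  obtain ⟨l', hl'1, hl'2⟩ := (InfSq.change_hasLift_iff sq b (sq.top ≫ a) sq.bot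
    (by rw [Category.assoc]; exact sq.comm)).1 (hb _)
  obtain ⟨l, hl1, hl2⟩ := (InfSq.change_hasLift_iff sq a sq.top l' hl'1.symm).1 (ha _)
  refine ⟨l, hl1, ?_⟩
  rw [← Category.assoc, hl2, hl'2]

theorem unramified_comp {S : Scheme.{u}} {F G H : AlgSp.Sp S} (a : F ⟶ G) (b : G ⟶ H)
    (ha : AlgSp.IsFormallyUnramifiedMor a) (hb : AlgSp.IsFormallyUnramifiedMor b) :
    AlgSp.IsFormallyUnramifiedMor (a ≫ b) := by
  intro sq l l' h1 h2 h1' h2'
  have key : l ≫ a = l' ≫ a := by
    refine (InfSq.change_hasUniq_iff sq b (sq.top ≫ a) sq.bot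
      (by rw [Category.assoc]; exact sq.comm)).1 (hb _) (l ≫ a) (l' ≫ a) ?_ ?_ ?_ ?_
    · rw [← Category.assoc, h1]
    · rw [Category.assoc]; exact h2
    · rw [← Category.assoc, h1']
    · rw [Category.assoc]; exact h2'
  exact (InfSq.change_hasUniq_iff sq a sq.top (l ≫ a) (by rw [← Category.assoc, h1])).1 (ha _)
    l l' h1 rfl h1' key.symm

/-- A composition of formally smooth, resp. formally etale, resp. formally unramified morphisms of fppf
sheaves on (Sch/S) is again formally smooth, resp. formally etale, resp. formally unramified. (The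
published statement is for transformations of arbitrary presheaves of sets on (Sch/S)_fppf; this row
takes fppf sheaves, the case of algebraic spaces.) -/
theorem result {S : Scheme.{u}} {F G H : AlgSp.Sp S} (a : F ⟶ G) (b : G ⟶ H) :
    (AlgSp.IsFormallySmoothMor a → AlgSp.IsFormallySmoothMor b → AlgSp.IsFormallySmoothMor (a ≫ b)) ∧
    (AlgSp.IsFormallyEtaleMor a → AlgSp.IsFormallyEtaleMor b → AlgSp.IsFormallyEtaleMor (a ≫ b)) ∧
    (AlgSp.IsFormallyUnramifiedMor a → AlgSp.IsFormallyUnramifiedMor b → AlgSp.IsFormallyUnramifiedMor (a ≫ b)) := by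
  refine ⟨smooth_comp a b, ?_, unramified_comp a b⟩
  intro ha hb
  rw [isFormallyEtaleMor_iff] at ha hb ⊢
  exact ⟨smooth_comp a b ha.1 hb.1, unramified_comp a b ha.2 hb.2⟩

end Groth.Agent.S10619
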