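import Groth.Statements.S10011
import Groth.Agent.H52.LimChart2
import Groth.Agent.H52.UCAssembly
import Groth.Agent.H52.LocPCalc6
import Groth.Agent.H52.Descent
import Groth.Agent.H52.AffineMor
import Groth.Agent.H53.OpenSub
import Groth.Agent.H53.ZarGlueAff
import Mathlib.AlgebraicGeometry.AffineTransitionLimit

set_option autoImplicit false
universe u
open CategoryTheory CategoryTheory.Limits AlgebraicGeometry
open AlgSp

namespace Groth.Agent.S10011

/-- Let `B` be an algebraic space over `S` and `X` the limit in fppf sheaves of a cofiltered system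
`(X_i)` of quasi-compact algebraic spaces over `B`, each locally of finite type over `B`, whose
transition morphisms are closed immersions. If `X ⟶ B` is locally of finite presentation, then the
projection `X ⟶ X_i` is an isomorphism for all `i` mapping to some `i₀`. -/
theorem result (S : Scheme.{u}) {I : Type u} [SmallCategory I] [IsCofiltered I]
    (B : AlgSp.Space S) (D : I ⥤ AlgSp.Sp S) (hD : ∀ i, AlgSp.IsAlgSpace (D.obj i))
    (t : D ⟶ (Functor.const I).obj B.obj)
    (hDc : ∀ (i j : I) (φ : i ⟶ j), AlgSp.RepWith @IsClosedImmersion (D.map φ))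
    (c : Cone D) (hc : IsLimit c)
    (hqc : ∀ i, AlgSp.IsQuasiCompactSp (D.obj i)) (hft : ∀ i, AlgSp.LocP @LocallyOfFiniteType (t.app i)) (i₁ : I)
    (hX : AlgSp.LocP @LocallyOfFinitePresentation (c.π.app i₁ ≫ t.app i₁)) :
    ∃ i₀ : I, ∀ (i : I) (_ : i ⟶ i₀), IsIso (c.π.app i) := by
  classical
  have hDa : ∀ (i j : I) (φ : i ⟶ j), AlgSp.IsAffineMor (D.map φ) := fun i j φ =>
    Groth.Agent.H52.isAffineMor_of_repWith_isClosedImmersion _ (hDc i j φ)
  have hπaff : ∀ i, AlgSp.IsAffineMor (c.π.app i) :=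
    fun i => Groth.Agent.H52.LimChart.isAffineMor_π_app D c hc i hDa
  have hlfp₁ : AlgSp.LocP @LocallyOfFinitePresentation (c.π.app i₁) :=
    Groth.Agent.H52.isEtLocal_lfp.locP_of_comp' (Q := @LocallyOfFiniteType)
      (fun A B C f g hfg hg => Groth.Agent.H52.lfp_of_comp_of_lft hfg hg) B.property
      (c.π.app i₁) (t.app i₁) hX (hft i₁)
  obtain ⟨V₀, ξ, hV₀, hξe, hξs⟩ := Groth.Agent.H52.UC.exists_affine_etale_chart' (hqc i₁)
  haveI : IsAffine V₀.left := hV₀
  obtain ⟨cs⟩ := Groth.Agent.H52.LimChart.nonempty_chartSystem D c hc i₁ ξ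
    (fun j => hDa _ _ j.hom)
  have hbe : AlgSp.RepWith @Etale cs.b := MorphismProperty.of_isPullback cs.sqlim.flip hξe
  haveI hqlfp : LocallyOfFinitePresentation cs.q.left := hlfp₁ cs.b ξ cs.q hbe hξe cs.sqlim.w
  have hpcl : ∀ j, IsClosedImmersion (cs.p j).left :=
    fun j => (hDc _ _ j.hom).property ξ (cs.a j) (cs.p j) (cs.sq j)
  -- scheme-level: the identity of the limit descends to a retraction at some stage
  haveI : ∀ {j k : Over i₁} (φ : j ⟶ k), IsAffineHom ((cs.E ⋙ Over.forget S).map φ) :=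
    fun φ => cs.affE φ
  have haffE : ∀ j, IsAffine ((cs.E ⋙ Over.forget S).obj j) := fun j => by
    have := cs.affp j
    have h : IsAffine (cs.E.obj j).left := isAffine_of_isAffineHom (cs.p j).left
    exact h
  haveI : ∀ j, CompactSpace ↥((cs.E ⋙ Over.forget S).obj j) := fun j => by
    have := haffE j
    infer_instance
  haveI : ∀ j, QuasiSeparatedSpace ↥((cs.E ⋙ Over.forget S).obj j) := fun j => by
    have := haffE j
    infer_instance
  let tt : (cs.E ⋙ Over.forget S) ⟶ (Functor.const (Over i₁)).obj V₀.left :=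
    { app := fun j => (cs.p j).left
      naturality := fun j k φ => by
        change (cs.E.map φ).left ≫ (cs.p k).left = (cs.p j).left ≫ 𝟙 _
        rw [← Over.comp_left, cs.hp, Category.comp_id] }
  obtain ⟨qq, hqq⟩ : ∃ qq : ((Over.forget S).mapCone cs.cE).pt ⟶ V₀.left, qq = cs.q.left :=
    ⟨_, rfl⟩
  haveI : LocallyOfFinitePresentation qq := by rw [hqq]; exact hqlfp
  obtain ⟨j, g, hg1, hg2⟩ := Scheme.exists_π_app_comp_eq_of_locallyOfFinitePresentation
    (cs.E ⋙ Over.forget S) tt qq ((Over.forget S).mapCone cs.cE) cs.hcE' (𝟙 _) (by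
      ext j
      change (cs.cE.π.app j).left ≫ (cs.p j).left = 𝟙 _ ≫ qq
      rw [← Over.comp_left, cs.hq, Category.id_comp, hqq])
  have hg1' : (cs.cE.π.app j).left ≫ g = 𝟙 _ := hg1
  have hg2' : g ≫ cs.q.left = (cs.p j).left := by rw [← hqq]; exact hg2
  haveI := hpcl j
  have hq' : (cs.cE.π.app j).left ≫ (cs.p j).left = cs.q.left := by
    rw [← Over.comp_left, cs.hq]
  have hg3 : g ≫ (cs.cE.π.app j).left = 𝟙 _ := by
    apply (cancel_mono (cs.p j).left).1
    calc (g ≫ (cs.cE.π.app j).left) ≫ (cs.p j).left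
        = g ≫ ((cs.cE.π.app j).left ≫ (cs.p j).left) := Category.assoc _ _ _
      _ = g ≫ cs.q.left := congrArg (g ≫ ·) hq'
      _ = (cs.p j).left := hg2'
      _ = 𝟙 _ ≫ (cs.p j).left := (Category.id_comp _).symm
  have hisoL : IsIso (cs.cE.π.app j).left := ⟨g, hg1', hg3⟩
  have hisoL' : IsIso ((Over.forget S).map (cs.cE.π.app j)) := hisoL
  have hisoO : IsIso (cs.cE.π.app j) := isIso_of_reflects_iso _ (Over.forget S)
  -- descent to `X ⟶ X_j`
  have haje : AlgSp.RepWith @Etale (cs.a j) := MorphismProperty.of_isPullback (cs.sq j).flip hξe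
  have hajs : AlgSp.RepWith @Surjective (cs.a j) :=
    MorphismProperty.of_isPullback (cs.sq j).flip hξs
  have hrepj : AlgSp.Representable (c.π.app j.left) :=
    Groth.Agent.H53.ZarGlue.representable_of_isAffineMor (hπaff j.left)
  have hRI : AlgSp.RepWith (MorphismProperty.isomorphisms Scheme.{u}) (c.π.app j.left) :=
    Groth.Agent.H52.repWith_of_etale_surjective_base_change (MorphismProperty.isomorphisms Scheme.{u})
      (cs.sqj j).flip hrepj haje hajs ((AlgSp.repWith_yon_map_iff _ _).2 hisoL)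
  haveI hiso : IsIso (c.π.app j.left) := Groth.Agent.H53.isIso_of_repWith_isomorphisms _ hRI
  refine ⟨j.left, fun i φ => ?_⟩
  have hw : c.π.app i ≫ D.map φ = c.π.app j.left := c.w φ
  haveI : Mono (D.map φ) := Groth.Agent.H52.mono_of_repWith _ _ (fun _ _ g hg => by
    have : IsClosedImmersion g := hg
    infer_instance) (hDc _ _ φ)
  have hsec : (inv (c.π.app j.left) ≫ c.π.app i) ≫ D.map φ = 𝟙 _ := by
    rw [Category.assoc, hw, IsIso.inv_hom_id]
  haveI : IsSplitEpi (D.map φ) := ⟨⟨⟨_, hsec⟩⟩⟩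
  haveI : IsIso (D.map φ) := isIso_of_mono_of_isSplitEpi _
  have h5 : c.π.app i = c.π.app j.left ≫ inv (D.map φ) := by
    rw [← hw, Category.assoc, IsIso.hom_inv_id, Category.comp_id]
  rw [h5]
  infer_instance


end Groth.Agent.S10011
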