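import Mathlib
import Groth.Statements.S2152
import Groth.Agent.Lib.Helper23.LimPoints

set_option autoImplicit false
universe u
open CategoryTheory AlgebraicGeometry Topology
open Groth.Agent.Lib.Helper23

namespace Groth.Agent.S2152

theorem eq_iInf_induced {X : Type*} {ι : Type*} {Y : ι → Type*} [t : TopologicalSpace X]
    [∀ i, TopologicalSpace (Y i)] (f : ∀ i, X → Y i) (hf : ∀ i, Continuous (f i))
    (h : ∀ U : Set X, IsOpen U → ∀ x ∈ U, ∃ i, ∃ V : Set (Y i), IsOpen V ∧ f i x ∈ V ∧
      f i ⁻¹' V ⊆ U) : t = ⨅ i, TopologicalSpace.induced (f i) inferInstance := by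
  refine le_antisymm ?_ ?_
  · exact le_iInf fun i => (hf i).le_induced
  · have key : ∀ i, (⨅ j, TopologicalSpace.induced (f j) inferInstance) ≤
        TopologicalSpace.induced (f i) inferInstance := fun i => iInf_le _ i
    generalize (⨅ j, TopologicalSpace.induced (f j) inferInstance) = τ at key ⊢
    intro U hU
    refine (@isOpen_iff_forall_mem_open _ τ U).mpr fun x hx => ?_
    obtain ⟨i, V, hV, hxV, hVU⟩ := h U hU x hx
    exact ⟨f i ⁻¹' V, hVU, key i _ (isOpen_induced_iff.mpr ⟨V, hV, rfl⟩), hxV⟩

/-- Let `c` be a limit cone of a diagram of schemes indexed by a small cofiltered category with affine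
transition morphisms. Then the image of `c` under the forgetful functor to topological spaces is a
limit cone: the underlying space of the limit scheme is the limit of the underlying spaces. -/
theorem result {I : Type u} [SmallCategory I] [IsCofiltered I] (D : I ⥤ Scheme.{u})
    [∀ (i j : I) (f : i ⟶ j), IsAffineHom (D.map f)] (c : Limits.Cone D) (hc : Limits.IsLimit c) :
    Nonempty (Limits.IsLimit (Scheme.forgetToTop.mapCone c)) := by
  have inst : ∀ {i j : I} (f : i ⟶ j), IsAffineHom (D.map f) := fun f => inferInstance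
  have hT : Nonempty (Limits.IsLimit ((forget TopCat).mapCone (Scheme.forgetToTop.mapCone c))) := by
    rw [Limits.Types.isLimit_iff]
    intro s hs
    obtain ⟨p, hp⟩ := exists_point_of_compatible D c hc (fun i => s i)
      (fun {i j} f => hs f)
    exact ⟨p, hp, fun q hq => eq_of_forall_π_app_eq D c hc fun i => (hq i).trans (hp i).symm⟩
  obtain ⟨hT⟩ := hT
  rw [TopCat.nonempty_isLimit_iff_eq_induced _ hT]
  refine eq_iInf_induced (X := c.pt) (Y := fun i => D.obj i) (fun i => ⇑(c.π.app i))
    (fun i => (c.π.app i).continuous) ?_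
  intro U hU x hx
  obtain ⟨i, V, -, hxV, hVU⟩ := exists_preimage_subset_of_mem_isOpen D c hc hU hx
  exact ⟨i, V, V.2, hxV, hVU⟩

end Groth.Agent.S2152
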