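import Groth.Statements.S9394
import Mathlib
import Groth.Agent.Lib.Helper48.Japanese

set_option autoImplicit false
universe u
open CAlg

namespace Groth.Agent.S9394

/-- Being N-2 (Japanese) can be checked on a finite cover of Spec R by principal opens whose rings are
N-2 domains. -/
theorem result (R : Type u) [CommRing R] [IsDomain R]
    {ι : Type u} [Finite ι] (f : ι → R) (hf : Ideal.span (Set.range f) = ⊤)
    (Rf : ι → Type u) [∀ i, CommRing (Rf i)] [∀ i, IsDomain (Rf i)] [∀ i, Algebra R (Rf i)]
    [∀ i, IsLocalization.Away (f i) (Rf i)] (h : ∀ i, CAlg.IsN2 (Rf i)) : CAlg.IsN2 R := by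
  classical
  intro L _ _ _ _ hfin
  let K := FractionRing R
  have hM : ∀ i, Submonoid.powers (f i) ≤ nonZeroDivisors R := fun i =>
    Groth.Agent.Lib.Helper48.le_nonZeroDivisors_of_isLocalization_of_nontrivial _ (Rf i)
  have hunit : ∀ i, ∀ y : Submonoid.powers (f i), IsUnit (algebraMap R K y) := fun i y =>
    IsLocalization.map_units K (⟨y, hM i y.2⟩ : nonZeroDivisors R)
  letI algK : ∀ i, Algebra (Rf i) K := fun i =>
    (IsLocalization.lift (M := Submonoid.powers (f i)) (g := algebraMap R K) (hunit i)).toAlgebra
  haveI tower : ∀ i, IsScalarTower R (Rf i) K := fun i =>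
    IsScalarTower.of_algebraMap_eq (fun x => (IsLocalization.lift_eq (hunit i) x).symm)
  haveI : ∀ i, IsFractionRing (Rf i) K := fun i =>
    IsFractionRing.isFractionRing_of_isDomain_of_isLocalization (Submonoid.powers (f i)) (Rf i) K
  letI algL : ∀ i, Algebra (Rf i) L := fun i =>
    ((algebraMap K L).comp (algebraMap (Rf i) K)).toAlgebra
  haveI towerKL : ∀ i, IsScalarTower (Rf i) K L := fun i => IsScalarTower.of_algebraMap_eq' rfl
  haveI towerL : ∀ i, IsScalarTower R (Rf i) L := fun i =>
    IsScalarTower.of_algebraMap_eq (fun x => by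
      show algebraMap R L x = algebraMap K L (algebraMap (Rf i) K (algebraMap R (Rf i) x))
      rw [← IsScalarTower.algebraMap_apply R (Rf i) K, ← IsScalarTower.algebraMap_apply R K L])
  refine Groth.Agent.Lib.Helper48.finite_integralClosure_of_span_eq_top f hf Rf L (fun i => ?_)
  let e : FractionRing (Rf i) ≃ₐ[Rf i] K := FractionRing.algEquiv (Rf i) K
  letI algFL : Algebra (FractionRing (Rf i)) L :=
    ((algebraMap K L).comp e.toRingEquiv.toRingHom).toAlgebra
  haveI : IsScalarTower (Rf i) (FractionRing (Rf i)) L := IsScalarTower.of_algebraMap_eq (fun x => by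
    show algebraMap K L (algebraMap (Rf i) K x) =
      algebraMap K L (e (algebraMap (Rf i) (FractionRing (Rf i)) x))
    rw [e.commutes])
  have hfin' : FiniteDimensional (FractionRing (Rf i)) L :=
    Module.Finite.of_equiv_equiv (A₁ := K) (B₁ := L) (A₂ := FractionRing (Rf i)) (B₂ := L)
      e.symm.toRingEquiv (RingEquiv.refl L) (by
        ext x
        show algebraMap K L (e (e.symm x)) = algebraMap K L x
        rw [AlgEquiv.apply_symm_apply])
  exact h i L hfin'

end Groth.Agent.S9394
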