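import Groth.Statements.S9399
import Mathlib
import Groth.Agent.S9394

set_option autoImplicit false
universe u
open CAlg

namespace Groth.Agent.S9399

/-- Being universally Japanese can be checked on a finite cover of Spec R by principal opens. -/
theorem result (R : Type u) [CommRing R]
    {ι : Type u} [Finite ι] (f : ι → R) (hf : Ideal.span (Set.range f) = ⊤)
    (h : ∀ i, CAlg.IsUniversallyJapanese (Localization.Away (f i))) :
    CAlg.IsUniversallyJapanese R := by
  classical
  intro S _ _ _ hft
  let ι' := {i : ι // algebraMap R S (f i) ≠ 0}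
  let g : ι' → S := fun i => algebraMap R S (f i.1)
  have hg : Ideal.span (Set.range g) = ⊤ := by
    rw [eq_top_iff]
    have h1 : Ideal.map (algebraMap R S) (Ideal.span (Set.range f)) = ⊤ := by
      rw [hf, Ideal.map_top]
    rw [← h1, Ideal.map_span, Ideal.span_le]
    rintro _ ⟨_, ⟨i, rfl⟩, rfl⟩
    by_cases hi : algebraMap R S (f i) = 0
    · rw [hi]; exact Ideal.zero_mem _
    · exact Ideal.subset_span ⟨⟨i, hi⟩, rfl⟩
  let Sg : ι' → Type u := fun i => Localization.Away (g i)
  haveI hdom : ∀ i, IsDomain (Sg i) := fun i =>
    IsLocalization.isDomain_localization (powers_le_nonZeroDivisors_of_noZeroDivisors i.2)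
  have hN2 : ∀ i, CAlg.IsN2 (Sg i) := fun i => by
    letI : Algebra (Localization.Away (f i.1)) (Sg i) :=
      (IsLocalization.Away.map (Localization.Away (f i.1)) (Sg i) (algebraMap R S) (f i.1)).toAlgebra
    have hft' : Algebra.FiniteType (Localization.Away (f i.1)) (Sg i) :=
      RingHom.finiteType_algebraMap.mp
        (RingHom.localization_away_map_finiteType R S (Localization.Away (f i.1)) (Sg i)
          (algebraMap R S) (f i.1) (RingHom.finiteType_algebraMap.mpr hft))
    exact h i.1 (Sg i) hft'
  exact Groth.Agent.S9394.result S g hg Sg hN2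

end Groth.Agent.S9399
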