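import Groth.Statements.S9400
import Mathlib
import Groth.Agent.S9394

set_option autoImplicit false
universe u
open CAlg

namespace Groth.Agent.S9400

/-- Being a Nagata ring can be checked on a finite cover of Spec R by principal opens. -/
theorem result (R : Type u) [CommRing R]
    {ι : Type u} [Finite ι] (f : ι → R) (hf : Ideal.span (Set.range f) = ⊤)
    (h : ∀ i, CAlg.IsNagata (Localization.Away (f i))) : CAlg.IsNagata R := by
  classical
  refine ⟨?_, ?_⟩
  · -- Noetherian
    rw [isNoetherianRing_iff_ideal_fg]
    intro I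
    refine Ideal.fg_of_localizationSpan (Set.range f) hf (fun g => ?_)
    obtain ⟨g, i, rfl⟩ := g
    haveI : IsNoetherianRing (Localization.Away (f i)) := (h i).1
    exact (isNoetherianRing_iff_ideal_fg _).mp inferInstance _
  · intro p hp
    let ι' := {i : ι // f i ∉ p}
    let g : ι' → R ⧸ p := fun i => Ideal.Quotient.mk p (f i.1)
    have hg : Ideal.span (Set.range g) = ⊤ := by
      rw [eq_top_iff]
      have h1 : Ideal.map (Ideal.Quotient.mk p) (Ideal.span (Set.range f)) = ⊤ := by
        rw [hf, Ideal.map_top]
      rw [← h1, Ideal.map_span, Ideal.span_le]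
      rintro _ ⟨_, ⟨i, rfl⟩, rfl⟩
      by_cases hi : f i ∈ p
      · rw [Ideal.Quotient.eq_zero_iff_mem.mpr hi]; exact Ideal.zero_mem _
      · exact Ideal.subset_span ⟨⟨i, hi⟩, rfl⟩
    let q : ∀ i : ι', Ideal (Localization.Away (f i.1)) := fun i =>
      p.map (algebraMap R (Localization.Away (f i.1)))
    have hdisj : ∀ i : ι', Disjoint (Submonoid.powers (f i.1) : Set R) (p : Set R) := by
      intro i
      rw [Set.disjoint_left]
      rintro _ ⟨n, rfl⟩ hn
      exact i.2 (hp.mem_of_pow_mem n hn)
    haveI hq : ∀ i : ι', (q i).IsPrime := fun i =>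
      IsLocalization.isPrime_of_isPrime_disjoint (Submonoid.powers (f i.1)) _ p hp (hdisj i)
    let Sg : ι' → Type u := fun i => Localization.Away (f i.1) ⧸ q i
    haveI hloc : ∀ i : ι', IsLocalization.Away (g i) (Sg i) := fun i => by
      have : IsLocalization (Algebra.algebraMapSubmonoid (R ⧸ p) (Submonoid.powers (f i.1))) (Sg i) :=
        inferInstance
      have heq : Algebra.algebraMapSubmonoid (R ⧸ p) (Submonoid.powers (f i.1)) =
          Submonoid.powers (g i) := by
        simp only [Algebra.algebraMapSubmonoid, Submonoid.map_powers]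
        rfl
      rw [heq] at this
      exact this
    have hN2 : ∀ i, CAlg.IsN2 (Sg i) := fun i => (h i.1).2 (q i)
    exact Groth.Agent.S9394.result (R ⧸ p) g hg Sg hN2

end Groth.Agent.S9400
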