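import Groth.Statements.S10030
import Groth.Agent.H52.LocLim3

set_option autoImplicit false
universe u
open CategoryTheory CategoryTheory.Limits AlgebraicGeometry
open AlgSp

namespace Groth.Agent.S10030

/-- Let `F` be an fppf sheaf of sets on schemes over `S` and `{U_j ⟶ S}` an fppf covering (flat
morphisms locally of finite presentation, jointly surjective). If the restriction of `F` to schemes
over each `U_j` is limit preserving, then `F` is limit preserving. -/
theorem result (S : Scheme.{u}) (F : AlgSp.PSp S)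
    (hF : Presheaf.IsSheaf (AlgSp.J S) F) {ι : Type u} (U : ι → Over S)
    (hfl : ∀ j, Flat (U j).hom) (hfp : ∀ j, LocallyOfFinitePresentation (U j).hom)
    (hsurj : ∀ s : ↥S, ∃ (j : ι) (x : ↥(U j).left), (U j).hom.base x = s)
    (hloc : ∀ j, AlgSp.IsLimitPreserving (S := (U j).left) ((Over.map (U j).hom).op ⋙ F)) :
    AlgSp.IsLimitPreserving F := by
  intro I _ _ D c hc hD hT
  obtain ⟨i₀⟩ := IsCofiltered.nonempty (C := I)
  have hD' : ∀ i, IsAffine ((Groth.Agent.H52.LocLim.ES D).obj i) := hD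
  have : IsAffine (D.obj i₀).left := hD i₀
  -- the fppf family over the stage `i₀`
  let W : ι → Scheme.{u} := fun j => pullback (D.obj i₀).hom (U j).hom
  let g : ∀ j, W j ⟶ (D.obj i₀).left := fun j => pullback.fst _ _
  have hgfl : ∀ j, Flat (g j) := fun j => by
    have := hfl j
    exact inferInstanceAs (Flat (pullback.fst (D.obj i₀).hom (U j).hom))
  have hgfp : ∀ j, LocallyOfFinitePresentation (g j) := fun j => by
    have := hfp j
    exact inferInstanceAs (LocallyOfFinitePresentation (pullback.fst (D.obj i₀).hom (U j).hom))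
  have hgopen : ∀ j, IsOpenMap (g j) := fun j => by
    have := hgfl j
    have := hgfp j
    have : UniversallyOpen (g j) := inferInstance
    exact (g j).isOpenMap
  have hgsurj : ∀ t : ↥(D.obj i₀).left, ∃ (j : ι) (y : ↥(W j)), g j y = t := by
    intro t
    obtain ⟨j, x, hx⟩ := hsurj ((D.obj i₀).hom t)
    obtain ⟨z, hz1, -⟩ := Scheme.Pullback.exists_preimage_pullback (f := (D.obj i₀).hom)
      (g := (U j).hom) t x hx.symm
    exact ⟨j, z, hz1⟩
  obtain ⟨n, jidx, O, hO, hcov⟩ :=
    Groth.Agent.H52.LocLim.exists_finite_affine_refinement W g hgopen hgsurj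
  -- the data of the finite affine family
  let V₀ : Fin n → Scheme.{u} := fun k => (O k).toScheme
  have hV₀ : ∀ k, IsAffine (V₀ k) := fun k => hO k
  let v₀ : ∀ k, V₀ k ⟶ (Groth.Agent.H52.LocLim.ES D).obj i₀ := fun k => (O k).ι ≫ g (jidx k)
  let u : ∀ k, V₀ k ⟶ (U (jidx k)).left := fun k => (O k).ι ≫ pullback.snd _ _
  have hu : ∀ k, u k ≫ (U (jidx k)).hom = v₀ k ≫ (D.obj i₀).hom := by
    intro k
    change ((O k).ι ≫ pullback.snd _ _) ≫ (U (jidx k)).hom =
      ((O k).ι ≫ pullback.fst _ _) ≫ (D.obj i₀).hom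
    rw [Category.assoc, Category.assoc, pullback.condition]
  have hv₀fl : ∀ k, Flat (v₀ k) := fun k => by
    have := hgfl (jidx k)
    exact inferInstanceAs (Flat ((O k).ι ≫ g (jidx k)))
  have hv₀fp : ∀ k, LocallyOfFinitePresentation (v₀ k) := fun k => by
    have := hgfp (jidx k)
    exact inferInstanceAs (LocallyOfFinitePresentation ((O k).ι ≫ g (jidx k)))
  have hv₀surj : ∀ t : ↥((Groth.Agent.H52.LocLim.ES D).obj i₀),
      ∃ (k : Fin n) (y : ↥(V₀ k)), v₀ k y = t := by
    intro t
    obtain ⟨k, y, hyO, hy⟩ := hcov t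
    exact ⟨k, ⟨y, hyO⟩, hy⟩
  have hcE : IsLimit (Groth.Agent.H52.LocLim.cES D c) := hc
  refine Groth.Agent.H52.LocLim.isColimit_of_local D c i₀ hF (fun k => U (jidx k)) v₀ u hu
    hv₀fl hv₀fp hv₀surj ?_ ?_
  · intro k
    have := hV₀ k
    exact hloc (jidx k) (Groth.Agent.H52.LocLim.VsysB D i₀ (U (jidx k)) (v₀ k) (u k))
      (Groth.Agent.H52.LocLim.VconeB D c i₀ (U (jidx k)) (v₀ k) (u k))
      (Groth.Agent.H52.LocLim.isLimitVconeB D c i₀ (U (jidx k)) (v₀ k) (u k) hcE)
      (fun κ => by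
        have := hD' κ.left
        have := hD' i₀
        exact inferInstanceAs (IsAffine (pullback ((Groth.Agent.H52.LocLim.ES D).map κ.hom) (v₀ k))))
      (by
        have : IsAffine (((Functor.const I).obj (Groth.Agent.H52.LocLim.cES D c).pt).obj i₀) := hT
        have := hD' i₀
        exact inferInstanceAs (IsAffine (pullback ((Groth.Agent.H52.LocLim.cES D c).π.app i₀) (v₀ k))))
  · intro k l
    have := hV₀ k
    have := hV₀ l
    have := hD' i₀
    exact hloc (jidx k) (Groth.Agent.H52.LocLim.VsysB D i₀ (U (jidx k))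
        (Groth.Agent.H52.LocLim.v₁₂ D i₀ (v₀ k) (v₀ l))
        (Groth.Agent.H52.LocLim.u₁₂ D i₀ (U (jidx k)) (v₀ k) (u k) (v₀ l)))
      (Groth.Agent.H52.LocLim.VconeB D c i₀ (U (jidx k))
        (Groth.Agent.H52.LocLim.v₁₂ D i₀ (v₀ k) (v₀ l))
        (Groth.Agent.H52.LocLim.u₁₂ D i₀ (U (jidx k)) (v₀ k) (u k) (v₀ l)))
      (Groth.Agent.H52.LocLim.isLimitVconeB D c i₀ (U (jidx k)) _ _ hcE)
      (fun κ => by
        have := hD' κ.left
        exact inferInstanceAs (IsAffine (pullback ((Groth.Agent.H52.LocLim.ES D).map κ.hom)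
          (Groth.Agent.H52.LocLim.v₁₂ D i₀ (v₀ k) (v₀ l)))))
      (by
        have : IsAffine (((Functor.const I).obj (Groth.Agent.H52.LocLim.cES D c).pt).obj i₀) := hT
        exact inferInstanceAs (IsAffine (pullback ((Groth.Agent.H52.LocLim.cES D c).π.app i₀)
          (Groth.Agent.H52.LocLim.v₁₂ D i₀ (v₀ k) (v₀ l)))))

end Groth.Agent.S10030
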