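import Groth.Statements.S1562
import Mathlib
import Groth.Agent.Lib.Helper24.SmoothRationalPoint

set_option autoImplicit false
universe u
open CategoryTheory CategoryTheory.Limits AlgebraicGeometry
open Variety

namespace Groth.Agent.S1562

/-- Let X be locally of finite type over a field k and x a point of X. Then X is geometrically regular
at x (regular local rings at all points over x after every finitely generated field extension) if
and only if x lies in the smooth locus of X → Spec k. -/
theorem result (k : Type u) [Field k] (X : Scheme.{u}) [X.Over (Spec (CommRingCat.of k))] [LocallyOfFinitePresentation (X ↘ (Spec (CommRingCat.of k)))] (x : X) :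
    Curv2.IsGeomRegularAt k X x ↔ x ∈ (X ↘ (Spec (CommRingCat.of k))).smoothLocus := by
  open AlgebraicGeometry CategoryTheory Limits Groth.Agent.Lib.Helper24 in
  constructor
  · intro hx
    -- the residue field as an extension of `k`
    let ρ : CommRingCat.of k ⟶ X.residueField x :=
      ((Scheme.ΓSpecIso (CommRingCat.of k)).inv ≫
        (Spec (CommRingCat.of k)).presheaf.germ ⊤ ((X ↘ Spec (CommRingCat.of k)) x) trivial) ≫
        (X ↘ Spec (CommRingCat.of k)).stalkMap x ≫ X.residue x
    have hρ : Spec.map ρ = X.fromSpecResidueField x ≫ (X ↘ Spec (CommRingCat.of k)) := by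
      rw [Spec.map_comp, Spec.map_comp, ← Spec.fromSpecStalk_eq, Category.assoc,
        Scheme.SpecMap_stalkMap_fromSpecStalk, ← Category.assoc]
      rfl
    let _ : Algebra k (X.residueField x) := ρ.hom.toAlgebra
    have hess : Algebra.EssFiniteType k (X.residueField x) := by
      have h1a : (Scheme.ΓSpecIso (CommRingCat.of k)).inv.hom.EssFiniteType :=
        (RingHom.FiniteType.of_surjective _
          ((ConcreteCategory.isIso_iff_bijective (Scheme.ΓSpecIso (CommRingCat.of k)).inv).mp
            inferInstance).2).essFiniteType
      have h1b : ((Spec (CommRingCat.of k)).presheaf.germ ⊤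
          ((X ↘ Spec (CommRingCat.of k)) x) trivial).hom.EssFiniteType := by
        let _ := TopCat.Presheaf.algebra_section_stalk (Spec (CommRingCat.of k)).presheaf
          (U := ⊤) ⟨(X ↘ Spec (CommRingCat.of k)) x, trivial⟩
        have := (isAffineOpen_top (Spec (CommRingCat.of k))).isLocalization_stalk
          ⟨(X ↘ Spec (CommRingCat.of k)) x, trivial⟩
        exact RingHom.EssFiniteType.holdsForLocalization _
          (((isAffineOpen_top (Spec (CommRingCat.of k))).primeIdealOf
            ⟨(X ↘ Spec (CommRingCat.of k)) x, trivial⟩).asIdeal.primeCompl)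
      have h2 : ((X ↘ Spec (CommRingCat.of k)).stalkMap x).hom.EssFiniteType :=
        LocallyOfFiniteType.stalkMap _ x
      have h3 : (X.residue x).hom.EssFiniteType :=
        (RingHom.FiniteType.of_surjective _ (X.residue_surjective x)).essFiniteType
      exact ((h1a.comp h1b).comp (h2.comp h3) : ρ.hom.EssFiniteType)
    have hfg : (⊤ : IntermediateField k (X.residueField x)).FG := IntermediateField.fg_top k _
    -- the rational point
    let σ : Spec (CommRingCat.of (X.residueField x)) ⟶ Curv2.bc k X (X.residueField x) :=
      pullback.lift (X.fromSpecResidueField x) (𝟙 _) (by rw [Category.id_comp]; exact hρ.symm)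
    have hσ1 : σ ≫ Curv2.bcFst k X (X.residueField x) = X.fromSpecResidueField x :=
      pullback.lift_fst _ _ _
    have hσ2 : σ ≫ Curv2.bcSnd k X (X.residueField x) = 𝟙 _ := pullback.lift_snd _ _ _
    let pt : Spec (CommRingCat.of (X.residueField x)) := IsLocalRing.closedPoint (X.residueField x)
    have hpt : Curv2.bcFst k X (X.residueField x) (σ pt) = x := by
      rw [← Scheme.Hom.comp_apply, hσ1]
      exact Scheme.fromSpecResidueField_apply x pt
    have hreg := hx (X.residueField x) hfg (σ pt) hpt
    have hsm := mem_smoothLocus_of_isRegularLocalRing_of_section (X.residueField x)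
      (Curv2.bcSnd k X (X.residueField x)) σ hσ2 pt hreg
    have H : IsPullback (Curv2.bcFst k X (X.residueField x)) (Curv2.bcSnd k X (X.residueField x))
        (X ↘ Spec (CommRingCat.of k))
        (Spec.map (CommRingCat.ofHom (algebraMap k (X.residueField x)))) :=
      IsPullback.of_hasPullback _ _
    exact Groth.Agent.Lib.Helper14.mem_smoothLocus_of_isPullback_field
      (K := CommRingCat.of (X.residueField x)) (Field.toIsField _) H (σ pt) x hpt
      (Flat.stalkMap _ x) hsm
  · intro hx k' _ _ hfg x' hx'
    have H : IsPullback (Curv2.bcFst k X k') (Curv2.bcSnd k X k') (X ↘ Spec (CommRingCat.of k))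
        (Spec.map (CommRingCat.ofHom (algebraMap k k'))) := IsPullback.of_hasPullback _ _
    have h1 : x' ∈ (Curv2.bcSnd k X k').smoothLocus :=
      Groth.Agent.Lib.Helper14.mem_smoothLocus_of_isPullback H x' (by rw [hx']; exact hx)
    exact isRegularLocalRing_stalk_of_mem_smoothLocus k' (Curv2.bcSnd k X k') x' h1

end Groth.Agent.S1562
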