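import Groth.Statements.S1563
import Mathlib
import Groth.Agent.S0565
import Groth.Agent.Lib.Helper7.NoetherianDescent
import Groth.Agent.Lib.Helper14.FlatBaseChangeStalk

set_option autoImplicit false
universe u
open CategoryTheory CategoryTheory.Limits AlgebraicGeometry
open Variety

namespace Groth.Agent.S1563

/-- Regularity descends along flat local homomorphisms (no Noetherian hypothesis on the source). -/
theorem isRegularLocalRing_of_flat_local {R S : Type u} [CommRing R] [CommRing S] [IsLocalRing R]
    [IsRegularLocalRing S] (φ : R →+* S) [hloc : IsLocalHom φ] (hφ : φ.Flat) :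
    IsRegularLocalRing R := by
  algebraize [φ]
  have : IsLocalHom (algebraMap R S) := hloc
  have : Module.Flat R S := hφ
  have : Module.FaithfullyFlat R S := Module.FaithfullyFlat.of_flat_of_isLocalHom
  have : IsNoetherianRing R := Groth.Agent.Lib.Helper7.isNoetherianRing_of_faithfullyFlat R S
  exact Groth.Agent.S0565.result R S

/-- Geometric regularity descends along a morphism f of locally Noetherian k-schemes which is flat at
the point x (the map of local rings at x is flat): if X has it at x then Y has it at f(x). -/
theorem result (k : Type u) [Field k] (X Y : Scheme.{u}) [X.Over (Spec (CommRingCat.of k))] [Y.Over (Spec (CommRingCat.of k))]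
    [IsLocallyNoetherian X] [IsLocallyNoetherian Y] (f : X ⟶ Y) (hf : f ≫ (Y ↘ (Spec (CommRingCat.of k))) = X ↘ (Spec (CommRingCat.of k)))
    (x : X) (hflat : (f.stalkMap x).hom.Flat) (hx : Curv2.IsGeomRegularAt k X x) :
    Curv2.IsGeomRegularAt k Y (f.base x) := by
  open AlgebraicGeometry CategoryTheory Limits in
  intro k' _ _ hfg y' hy'
  let sX := X ↘ Spec (CommRingCat.of k)
  let sY := Y ↘ Spec (CommRingCat.of k)
  let c := Spec.map (CommRingCat.ofHom (algebraMap k k'))
  let f' : Curv2.bc k X k' ⟶ Curv2.bc k Y k' :=
    pullback.map sX c sY c f (𝟙 _) (𝟙 _) (by rw [Category.comp_id, hf]) (by simp)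
  have hf'1 : f' ≫ pullback.fst sY c = pullback.fst sX c ≫ f := pullback.lift_fst _ _ _
  have hf'2 : f' ≫ pullback.snd sY c = pullback.snd sX c :=
    (pullback.lift_snd _ _ _).trans (Category.comp_id _)
  have H : IsPullback f' (pullback.fst sX c) (pullback.fst sY c) f := by
    refine IsPullback.of_right (h₁₂ := pullback.snd sY c) (h₂₂ := sY) (v₁₃ := c) ?_ hf'1
      (IsPullback.of_hasPullback sY c).flip
    rw [hf'2, hf]
    exact (IsPullback.of_hasPullback sX c).flip
  obtain ⟨x', hx'1, hx'2⟩ := Scheme.exists_preimage_of_isPullback H y' x hy'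
  have hreg : IsRegularLocalRing ((Curv2.bc k X k').presheaf.stalk x') := hx k' hfg x' hx'2
  have hflat' : (f'.stalkMap x').hom.Flat := by
    refine Groth.Agent.Lib.Helper14.flat_stalkMap_fst_of_isPullback H x' ?_
    rw [hx'2]
    exact hflat
  have key : IsRegularLocalRing ((Curv2.bc k Y k').presheaf.stalk (f' x')) :=
    isRegularLocalRing_of_flat_local (f'.stalkMap x').hom hflat'
  rw [hx'1] at key
  exact key

end Groth.Agent.S1563
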