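import Groth.Statements.S2156
import Groth.Agent.Lib.Helper14.SmoothFibre

set_option autoImplicit false
universe u
open CategoryTheory AlgebraicGeometry
open Mor

namespace Groth.Agent.S2156

/-- Let `f : X → S` be locally of finite presentation and `x ∈ X` with image `s`. Then `f` is smooth at
`x` if and only if `O_{S,s} → O_{X,x}` is flat and the fibre `X_s → Spec κ(s)` is smooth at the
point corresponding to `x`. -/
theorem result {X S : Scheme.{u}} (f : X ⟶ S) [LocallyOfFinitePresentation f] (x : X)
    [LocallyOfFinitePresentation (f.fiberToSpecResidueField (f.base x))] :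
    x ∈ f.smoothLocus ↔
      (f.stalkMap x).hom.Flat ∧ f.asFiber x ∈ (f.fiberToSpecResidueField (f.base x)).smoothLocus := by
  have H : IsPullback (f.fiberι (f x)) (f.fiberToSpecResidueField (f x)) f
      (S.fromSpecResidueField (f x)) := IsPullback.of_hasPullback _ _
  constructor
  · intro hx
    refine ⟨?_, ?_⟩
    · obtain ⟨U, hxU, hU⟩ :=
        (Groth.Agent.Lib.Helper14.exists_smooth_nhd_iff_mem_smoothLocus f x).mpr hx
      have h1 := Flat.stalkMap (U.ι ≫ f) ⟨x, hxU⟩
      exact Groth.Agent.Lib.Helper14.stalkMap_property_of_nhd f (fun φ => φ.Flat)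
        RingHom.Flat.respectsIso U ⟨x, hxU⟩ h1
    · refine Groth.Agent.Lib.Helper14.mem_smoothLocus_of_isPullback H (f.asFiber x) ?_
      rw [f.fiberι_asFiber]
      exact hx
  · rintro ⟨hflat, hfib⟩
    exact Groth.Agent.Lib.Helper14.mem_smoothLocus_of_isPullback_field
      (K := S.residueField (f x)) (Field.toIsField _) H (f.asFiber x) x (f.fiberι_asFiber x)
      hflat hfib

end Groth.Agent.S2156
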