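import Groth.Statements.S4656
import Mathlib

set_option autoImplicit false
open CategoryTheory AlgebraicGeometry
universe u
open FDesc

namespace Groth.Agent.S4656

open TensorProduct in
/-- Flatness descends along a faithfully flat map on the target: if `A → B → C` with `C` faithfully
flat over `B` and flat over `A`, then `B` is flat over `A`. -/
theorem flat_of_faithfullyFlat_tower (A B C : Type*) [CommRing A] [CommRing B] [CommRing C]
    [Algebra A B] [Algebra B C] [Algebra A C] [IsScalarTower A B C]
    [Module.FaithfullyFlat B C] [Module.Flat A C] : Module.Flat A B := by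
  rw [Module.Flat.iff_lTensor_preserves_injective_linearMap]
  intro N P _ _ _ _ f hf
  let g : B ⊗[A] N →ₗ[B] B ⊗[A] P := AlgebraTensorModule.map (LinearMap.id : B →ₗ[B] B) f
  have hg : (g : B ⊗[A] N → B ⊗[A] P) = LinearMap.lTensor B f := by
    ext x
    induction x using TensorProduct.induction_on with
    | zero => simp
    | tmul b n => simp [g]
    | add x y hx hy => simp [map_add, hx, hy]
  rw [← hg, ← Module.FaithfullyFlat.lTensor_injective_iff_injective B C g]
  have key : (AlgebraTensorModule.cancelBaseChange A B B C P).toLinearMap ∘ₗ LinearMap.lTensor C g =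
      (AlgebraTensorModule.map (LinearMap.id : C →ₗ[B] C) f) ∘ₗ
        (AlgebraTensorModule.cancelBaseChange A B B C N).toLinearMap := by
    ext c n
    simp [g]
  have hinj : Function.Injective
      ((AlgebraTensorModule.map (LinearMap.id : C →ₗ[B] C) f) ∘ₗ
        (AlgebraTensorModule.cancelBaseChange A B B C N).toLinearMap) := by
    have h1 : Function.Injective (LinearMap.lTensor C f) :=
      Module.Flat.lTensor_preserves_injective_linearMap f hf
    have h2 : ((AlgebraTensorModule.map (LinearMap.id : C →ₗ[B] C) f) : C ⊗[A] N → C ⊗[A] P) =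
        LinearMap.lTensor C f := by
      ext x
      induction x using TensorProduct.induction_on with
      | zero => simp
      | tmul b n => simp
      | add x y hx hy => simp [map_add, hx, hy]
    rw [LinearMap.coe_comp, h2]
    exact h1.comp (LinearEquiv.injective _)
  rw [← key, LinearMap.coe_comp] at hinj
  exact Function.Injective.of_comp hinj

/-- Ring hom version. -/
theorem flat_of_comp_of_flat_of_isLocalHom {A B C : Type*} [CommRing A] [CommRing B] [CommRing C]
    [IsLocalRing B] [IsLocalRing C]
    (φ : A →+* B) (ψ : B →+* C) [IsLocalHom ψ] (hψ : ψ.Flat) (h : (ψ.comp φ).Flat) : φ.Flat := by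
  algebraize [φ, ψ, ψ.comp φ]
  have : IsLocalHom (algebraMap B C) := ‹IsLocalHom ψ›
  have : Module.FaithfullyFlat B C := Module.FaithfullyFlat.of_flat_of_isLocalHom
  exact flat_of_faithfullyFlat_tower A B C

/-- Let f : X → Y and g : Y → Z be morphisms of schemes and x a point of X at which f is flat (the local
ring of X at x is flat over that of Y at f(x)). Then the composite g ∘ f is flat at x if and only if
g is flat at f(x). -/
theorem result {X Y Z : Scheme.{u}} (f : X ⟶ Y) (g : Y ⟶ Z) (x : X)
    (hf : (f.stalkMap x).hom.Flat) :
    ((f ≫ g).stalkMap x).hom.Flat ↔ (g.stalkMap (f x)).hom.Flat := by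
  rw [Scheme.Hom.stalkMap_comp]
  constructor
  · intro h
    have h' : ((f.stalkMap x).hom.comp (g.stalkMap (f x)).hom).Flat := h
    exact flat_of_comp_of_flat_of_isLocalHom _ _ hf h'
  · intro hg
    exact RingHom.Flat.comp hg hf

end Groth.Agent.S4656
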