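import Groth.Statements.S10540
import Groth.Agent.Lib.Helper54.AffineDescentRep
import Groth.Agent.Lib.Helper1.AffineAndDescent
import Groth.Agent.H53.ZarGlueInt
import Groth.Agent.S10533

set_option backward.isDefEq.respectTransparency false

set_option autoImplicit false
universe u
open CategoryTheory CategoryTheory.Limits AlgebraicGeometry
open AlgSp

namespace Groth.Agent.S10540

/-- The property of morphisms of algebraic spaces over S given by f is finite (every base change to an
affine scheme is an affine scheme finite over it) is fpqc local on the base: for an fpqc covering of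
an algebraic space Y by algebraic spaces Y_i, a morphism f : X ⟶ Y of algebraic spaces and cartesian
squares X_i = Y_i ×_Y X, f has the property if and only if every X_i ⟶ Y_i has it. -/
theorem result (S : Scheme.{u}) :
    AlgSp.IsLocalOnBase (AlgSp.IsFpqcCover (S := S)) AlgSp.IsFiniteMor := by
  have hdesc : MorphismProperty.DescendsAlong @IsFinite
      (@Surjective ⊓ @Flat ⊓ @QuasiCompact : MorphismProperty Scheme.{u}) :=
    Groth.Agent.Lib.Helper1.descendsAlong_isFinite_fpqc
  have key := Groth.Agent.Lib.Helper54.repWith_isLocalOnBase_fpqc_of_le_isAffineHom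
    (Groth.Agent.S10533.result S) @IsFinite
    (fun _ _ φ hφ => by have : IsFinite φ := hφ; infer_instance)
  intro ι Y Yi g hY hYi hcov X f hX Xi p q hXi sq
  rw [Groth.Agent.H53.ZarGlue.isFiniteMor_iff_repWith]
  refine (key Yi g hY hYi hcov f hX Xi p q hXi sq).trans (forall_congr' fun i => ?_)
  rw [Groth.Agent.H53.ZarGlue.isFiniteMor_iff_repWith]

end Groth.Agent.S10540
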