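import Groth.Statements.S10545
import Groth.Agent.Lib.Helper54.AffineDescentRep
import Groth.Agent.Lib.Helper1.AffineAndDescent
import Groth.Agent.Lib.Helper26.FlatLocal
import Groth.Agent.H53.ZarGlueCover
import Groth.Agent.S10533

set_option backward.isDefEq.respectTransparency false

set_option autoImplicit false
universe u
open CategoryTheory CategoryTheory.Limits AlgebraicGeometry
open AlgSp

namespace Groth.Agent.S10545

/-- The property of morphisms of algebraic spaces over S given by f is finite locally free
(representable by finite, flat, locally finitely presented morphisms of schemes) is fpqc local on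
the base: for an fpqc covering of an algebraic space Y by algebraic spaces Y_i, a morphism f : X ⟶ Y
of algebraic spaces and cartesian squares X_i = Y_i ×_Y X, f has the property if and only if every
X_i ⟶ Y_i has it. -/
theorem result (S : Scheme.{u}) :
    AlgSp.IsLocalOnBase (AlgSp.IsFpqcCover (S := S)) AlgSp.IsFinLocFreeMor := by
  have hdesc : MorphismProperty.DescendsAlong @IsFinite
      (@Surjective ⊓ @Flat ⊓ @QuasiCompact : MorphismProperty Scheme.{u}) :=
    Groth.Agent.Lib.Helper1.descendsAlong_isFinite_fpqc
  have hdesc2 : MorphismProperty.DescendsAlong @Flat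
      (@Surjective ⊓ @Flat ⊓ @QuasiCompact : MorphismProperty Scheme.{u}) :=
    Groth.Agent.Lib.Helper26.FlatLocal.flat_descendsAlong_fpqc
  have hdesc3 : MorphismProperty.DescendsAlong (AlgSp.finLocFree.{u})
      (@Surjective ⊓ @Flat ⊓ @QuasiCompact : MorphismProperty Scheme.{u}) := by
    rw [Groth.Agent.H53.ZarGlue.finLocFree_eq_inf]
    infer_instance
  exact Groth.Agent.Lib.Helper54.repWith_isLocalOnBase_fpqc_of_le_isAffineHom
    (Groth.Agent.S10533.result S) AlgSp.finLocFree
    (fun _ _ φ hφ => by have : IsFinite φ := hφ.1; infer_instance)

end Groth.Agent.S10545
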