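import Groth.Statements.S2080
import Groth.Agent.Lib.Helper69.GenericFinite2

set_option autoImplicit false
universe u
open CategoryTheory AlgebraicGeometry
open Mor

namespace Groth.Agent.S2080
open Groth.Agent.Lib.Helper69 TopologicalSpace

/-- The image of a quasi-compact open mapping into an affine open: closure points are
specializations of image points. -/
theorem exists_specializes_of_mem_closure_image_of_isCompact {Z Y : Scheme.{u}} (g : Z ⟶ Y)
    (Q : Z.Opens) (hQ : IsCompact (Q : Set Z)) (V₀ : Y.Opens) (hV₀ : IsAffineOpen V₀)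
    (hQV : Q ≤ g ⁻¹ᵁ V₀) (y : Y) (hyV₀ : y ∈ V₀) (hy : y ∈ closure (g '' (Q : Set Z))) :
    ∃ z ∈ Q, g z ⤳ y := by
  obtain ⟨R, h, hh⟩ := isCompact_iff_exists.mp hQ
  have hk : Set.range (h ≫ g) ⊆ Set.range hV₀.fromSpec := by
    rw [hV₀.range_fromSpec]
    rintro _ ⟨a, rfl⟩
    have : h a ∈ (Q : Set Z) := hh ▸ ⟨a, rfl⟩
    exact hQV this
  let l : Spec R ⟶ Spec Γ(Y, V₀) := IsOpenImmersion.lift hV₀.fromSpec (h ≫ g) hk
  have hl : l ≫ hV₀.fromSpec = h ≫ g := IsOpenImmersion.lift_fac _ _ _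
  obtain ⟨φ, hφ⟩ : ∃ φ, Spec.map φ = l := ⟨Spec.preimage l, Spec.map_preimage l⟩
  have hlapp : ∀ a, hV₀.fromSpec (l a) = g (h a) := fun a => by
    rw [← Scheme.Hom.comp_apply, hl, Scheme.Hom.comp_apply]
  have himg : g '' (Q : Set Z) ⊆ hV₀.fromSpec '' (l '' Set.univ) := by
    rintro _ ⟨z, hzQ, rfl⟩
    have : z ∈ Set.range h := hh ▸ hzQ
    obtain ⟨a, rfl⟩ := this
    exact ⟨l a, ⟨a, trivial, rfl⟩, hlapp a⟩
  set q := hV₀.primeIdealOf ⟨y, hyV₀⟩ with hqdef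
  have hq : hV₀.fromSpec q = y := hV₀.fromSpec_primeIdealOf ⟨y, hyV₀⟩
  have hq2 : q ∈ closure (l '' Set.univ) := by
    have hind := hV₀.fromSpec.isOpenEmbedding.isInducing
    rw [hind.closure_eq_preimage_closure_image]
    change hV₀.fromSpec q ∈ closure (hV₀.fromSpec '' (l '' Set.univ))
    rw [hq]
    exact closure_mono himg hy
  rw [← hφ] at hq2
  obtain ⟨p, -, hp⟩ := exists_specializes_of_mem_closure_image_comap φ.hom Set.univ isClosed_univ
    q hq2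
  refine ⟨h p, (hh ▸ ⟨p, rfl⟩ : h p ∈ (Q : Set Z)), ?_⟩
  have h3 := hp.map hV₀.fromSpec.continuous
  rw [hq] at h3
  have h4 : hV₀.fromSpec (PrimeSpectrum.comap φ.hom p) = g (h p) := by
    rw [← hlapp p, ← hφ]
    rfl
  rwa [h4] at h3

theorem exists_isFinite_of_finite_fiber {X Y : Scheme.{u}} (f : X ⟶ Y) [LocallyOfFiniteType f]
    [QuasiCompact f] [QuasiSeparated f] (η : Y) (hη : closure {η} ∈ irreducibleComponents Y)
    (hfin : (f ⁻¹' {η}).Finite) :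
    ∃ V : Y.Opens, IsAffineOpen V ∧ η ∈ V ∧ IsFinite (f ∣_ V) := by
  obtain ⟨_, ⟨V₀, hV₀ : IsAffineOpen V₀, rfl⟩, hηV₀, -⟩ :=
    Y.isBasis_affineOpens.exists_subset_of_mem_open (Set.mem_univ η) isOpen_univ
  have : Finite (f ⁻¹' {η}) := hfin.to_subtype
  have : Finite (f.fiber η) := (f.fiberHomeo η).finite_iff.mpr hfin
  have : DiscreteTopology (f.fiber η) := inferInstance
  have hdisc : DiscreteTopology (f ⁻¹' {η}) := (f.fiberHomeo η).discreteTopology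
  have hex : ∀ x : f ⁻¹' {η}, ∃ U : X.Opens, IsAffineOpen U ∧ x.1 ∈ U ∧ U ≤ f ⁻¹ᵁ V₀ ∧
      (U : Set X) ∩ f ⁻¹' {η} ⊆ {x.1} := by
    intro x
    obtain ⟨O, hO, hOx⟩ := isOpen_induced_iff.mp (isOpen_discrete ({x} : Set (f ⁻¹' {η})))
    have hxO : x.1 ∈ O := by
      have : x ∈ Subtype.val ⁻¹' O := hOx ▸ Set.mem_singleton x
      exact this
    have hxV₀ : x.1 ∈ (f ⁻¹ᵁ V₀ : X.Opens) := by
      show f x.1 ∈ V₀
      rw [x.2]; exact hηV₀
    obtain ⟨_, ⟨U, hU : IsAffineOpen U, rfl⟩, hxU, hUsub⟩ :=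
      X.isBasis_affineOpens.exists_subset_of_mem_open
        (⟨hxO, hxV₀⟩ : x.1 ∈ O ∩ (f ⁻¹ᵁ V₀ : X.Opens)) (hO.inter (f ⁻¹ᵁ V₀).2)
    refine ⟨U, hU, hxU, fun z hz => (hUsub hz).2, ?_⟩
    rintro z ⟨hzU, hzη⟩
    have : (⟨z, hzη⟩ : f ⁻¹' {η}) ∈ Subtype.val ⁻¹' O := (hUsub hzU).1
    rw [hOx] at this
    exact congrArg Subtype.val this
  choose U hU hxU hUle hUη using hex
  have hsep : ∀ x y : f ⁻¹' {η}, x ≠ y → η ∉ closure (f '' ((U x : Set X) ∩ U y)) := by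
    intro x y hxy hmem
    have hQ : IsCompact ((U x ⊓ U y : X.Opens) : Set X) :=
      f.isQuasiSeparated_preimage hV₀.isQuasiSeparated (U x) (U y) (hUle x) (U x).2
        (hU x).isCompact (hUle y) (U y).2 (hU y).isCompact
    obtain ⟨z, hzQ, hz⟩ := exists_specializes_of_mem_closure_image_of_isCompact f (U x ⊓ U y) hQ
      V₀ hV₀ (inf_le_left.trans (hUle x)) η hηV₀ hmem
    have hzη : f z = η := eq_of_specializes_generic _ _ hη hz
    have h1 : z = x.1 := hUη x ⟨hzQ.1, hzη⟩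
    have h2 : z = y.1 := hUη y ⟨hzQ.2, hzη⟩
    exact hxy (Subtype.ext (h1.symm.trans h2))
  obtain ⟨V, hV, hηV, -, hfinV⟩ := exists_isFinite_morphismRestrict_of_cover f η hη V₀ hV₀ hηV₀ U hU
    hUle (fun x => hfin.subset Set.inter_subset_right)
    (fun x hx => Set.mem_iUnion.mpr ⟨⟨x, hx⟩, hxU ⟨x, hx⟩⟩) hsep
  exact ⟨V, hV, hηV, hfinV⟩

theorem finite_preimage_of_isFinite_morphismRestrict {X Y : Scheme.{u}} (f : X ⟶ Y)
    (V : Y.Opens) (η : Y) (hηV : η ∈ V) (h : IsFinite (f ∣_ V)) : (f ⁻¹' {η}).Finite := by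
  have h1 := (f ∣_ V).finite_preimage_singleton ⟨η, hηV⟩
  refine (h1.image (f ⁻¹ᵁ V).ι).subset ?_
  intro x hx
  have hxV : x ∈ f ⁻¹ᵁ V := by
    show f x ∈ V
    rw [hx]; exact hηV
  refine ⟨⟨x, hxV⟩, ?_, rfl⟩
  apply Subtype.ext
  exact (morphismRestrict_base_coe f V ⟨x, hxV⟩).trans hx

/-- Let `f : X → Y` be locally of finite type, quasi-compact and quasi-separated, and `η` a generic
point of an irreducible component of `Y`. Then `f⁻¹{η}` is finite if and only if there is an affine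
open `V ∋ η` such that `f⁻¹(V) → V` is finite. -/
theorem result {X Y : Scheme.{u}} (f : X ⟶ Y) [LocallyOfFiniteType f]
    [QuasiCompact f] [QuasiSeparated f] (η : Y) (hη : closure {η} ∈ irreducibleComponents (Y : Type u)) :
    (f.base ⁻¹' {η}).Finite ↔ ∃ V : Y.Opens, IsAffineOpen V ∧ η ∈ V ∧ IsFinite (f ∣_ V) := by
  constructor
  · intro hfin
    exact exists_isFinite_of_finite_fiber f η hη hfin
  · rintro ⟨V, -, hηV, hfinV⟩
    exact finite_preimage_of_isFinite_morphismRestrict f V η hηV hfinV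

end Groth.Agent.S2080
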