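import Groth.Statements.S10168
import Groth.Agent.H53.LinTopBasic

set_option autoImplicit false
universe u v w
open LinTop

namespace Groth.Agent.S10168

open Groth.Agent.H53 in
/-- Let φ : A → B be a taut homomorphism of linearly topologized rings such that for every open ideal I
of A, with J the closure of φ(I)B, the induced map A/I → B/J is faithfully flat. If B is
pre-admissible, then A is pre-admissible. -/
theorem result
    (A : Type u) [CommRing A] [TopologicalSpace A] [IsTopologicalRing A] [IsLinearTopology A A]
    (B : Type v) [CommRing B] [TopologicalSpace B] [IsTopologicalRing B] [IsLinearTopology B B]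
    (φ : A →+* B) (hφ : LinTop.IsTautFFlat φ) (hB : LinTop.IsPreadmissible B) :
    LinTop.IsPreadmissible A := by
  obtain ⟨-, J, hJo, hJn⟩ := hB
  refine ⟨inferInstance, J.comap φ, isOpen_comap φ hφ.1.1 J hJo, fun U hU => ?_⟩
  obtain ⟨K, hK, hKU⟩ := (IsLinearTopology.hasBasis_open_ideal (R := A)).mem_iff.mp hU
  have hL := hφ.1.2.1 K hK
  obtain ⟨n, hn0, hn⟩ := hJn _ (hL.mem_nhds (subset_closure (K.map φ).zero_mem))
  refine ⟨n, hn0, subset_trans ?_ hKU⟩
  have h1 : (J.comap φ) ^ n ≤ (K.map φ).closure.comap φ := by
    have h2 : ((J.comap φ) ^ n).map φ ≤ (K.map φ).closure := by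
      rw [Ideal.map_pow]
      exact (Ideal.pow_right_mono Ideal.map_comap_le n).trans hn
    exact Ideal.map_le_iff_le_comap.mp h2
  rwa [comap_closure_map_eq_of_isTautFFlat hφ K hK] at h1

end Groth.Agent.S10168
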