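import Groth.Statements.S10174
import Groth.Agent.H52.Top2

set_option autoImplicit false
universe u
open CategoryTheory CategoryTheory.Limits AlgebraicGeometry Topology TopologicalSpace
open AlgSp

namespace Groth.Agent.S10174

/-- An algebraic space X over a scheme S is quasi-compact (that is, it has a surjective etale chart from
a scheme whose underlying space is quasi-compact) if and only if the space of points |X| is
quasi-compact. -/
theorem result {S : Scheme.{u}} (X : AlgSp.Space S) :
    AlgSp.IsQuasiCompactSp X.obj ↔ CompactSpace (AlgSp.Points X.obj) := by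
  open Groth.Agent.H52 in
  constructor
  · rintro ⟨U, p, hpe, hps, hU⟩
    have : CompactSpace ↥U.left := hU
    have hsurj : Function.Surjective (AlgSp.Points.map p ∘ AlgSp.Points.ofScheme U) :=
      (surjective_points_of_repWith_surjective p hps).comp (AlgSp.Points.schemeEquiv U).surjective
    exact hsurj.compactSpace ((AlgSp.Points.continuous_map p).comp (AlgSp.Points.schemeHomeo U).continuous)
  · intro hc
    obtain ⟨U, p, hpe, hps⟩ := X.property.atlas
    have hopen : IsOpenMap (AlgSp.Points.map p) := isOpenMap_points_of_etale p hpe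
    have hsurj := surjective_points_of_repWith_surjective p hps
    have : ∀ u : ↥U.left, ∃ O : U.left.Opens, IsAffineOpen O ∧ u ∈ O := fun u => by
      obtain ⟨O, hO, hmem, -⟩ := exists_isAffineOpen_mem_and_subset (x := u) (U := ⊤) trivial
      exact ⟨O, hO, hmem⟩
    choose O hOaff hOmem using this
    obtain ⟨t, ht⟩ := isCompact_univ.elim_finite_subcover
      (fun u : ↥U.left => AlgSp.Points.map p '' (AlgSp.Points.ofScheme U '' (O u : Set ↥U.left)))
      (fun u => hopen _ ((AlgSp.Points.schemeHomeo U).isOpenMap _ (O u).isOpen))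
      (fun y _ => by
        obtain ⟨x, rfl⟩ := hsurj y
        obtain ⟨u, rfl⟩ := (AlgSp.Points.schemeEquiv U).surjective x
        exact Set.mem_iUnion.2 ⟨u, _, ⟨u, hOmem u, rfl⟩, rfl⟩)
    let V' : U.left.Opens := ⨆ u ∈ t, O u
    have hV'c : CompactSpace ↥(overOpen U V').left := by
      change CompactSpace ↥(V' : Scheme)
      apply isCompact_iff_compactSpace.mp
      simp only [V', TopologicalSpace.Opens.iSup_mk, TopologicalSpace.Opens.carrier_eq_coe,
        TopologicalSpace.Opens.coe_mk]
      exact t.finite_toSet.isCompact_biUnion fun u _ => (hOaff u).isCompact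
    have hq'e : AlgSp.RepWith @Etale ((AlgSp.yon S).map (overOpenι U V') ≫ p) :=
      (AlgSp.RepWith (S := S) @Etale).comp_mem _ _ (repWith_etale_overOpenι U V') hpe
    refine ⟨overOpen U V', (AlgSp.yon S).map (overOpenι U V') ≫ p, hq'e, ?_, hV'c⟩
    apply repWith_surjective_of_surjective_points _ hq'e.rep
    intro y
    have := ht (Set.mem_univ y)
    simp only [Set.mem_iUnion, exists_prop] at this
    obtain ⟨u0, hu0, _, ⟨u', hu', rfl⟩, rfl⟩ := this
    have hv : u' ∈ V' := by
      simp only [V', TopologicalSpace.Opens.mem_iSup]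
      exact ⟨u0, hu0, hu'⟩
    refine ⟨AlgSp.Points.ofScheme (overOpen U V') ⟨u', hv⟩, ?_⟩
    rw [AlgSp.Points.map_comp, points_map_ofScheme]
    rfl

end Groth.Agent.S10174
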