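import Groth.Statements.S10482
import Groth.Agent.H52.DimZero
open Groth.Agent.H52

set_option autoImplicit false
universe u
open CategoryTheory CategoryTheory.Limits AlgebraicGeometry Topology TopologicalSpace
open AlgSp

namespace Groth.Agent.S10482

/-- (1) ⇔ (2): let k be a field and X an algebraic space over k. Then X is locally quasi-finite over k
if and only if X is locally of finite type over k of dimension at most 0. (The published statement
says dimension 0; dimension at most 0 is used so that the empty space, whose dimension is the bottom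
element, is covered by both sides.) -/
theorem result (k : Type u) [Field k] (X : AlgSp.Space (Spec (CommRingCat.of k))) (p : X.obj ⟶ (AlgSp.yon (Spec (CommRingCat.of k))).obj (Over.mk (𝟙 _))) :
    AlgSp.LocP (@LocallyQuasiFinite ⊓ @LocallyOfFiniteType : MorphismProperty Scheme.{u}) p ↔ AlgSp.LocP @LocallyOfFiniteType p ∧ AlgSp.dim X.obj ≤ 0 := by
  constructor
  · intro hf
    refine ⟨fun U V a b h ha hb comm => (hf a b h ha hb comm).2, ?_⟩
    unfold AlgSp.dim
    refine iSup_le fun U => iSup_le fun a => iSup_le fun ha => ?_
    obtain ⟨h, hh⟩ := (AlgSp.yon _).map_surjective (a ≫ p)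
    have hP := hf a (𝟙 _) h ha (AlgSp.repWith_id _ _) (by rw [Category.comp_id, hh])
    have : LocallyQuasiFinite h.left := hP.1
    refine (topologicalKrullDim_le_of_locallyQuasiFinite h.left).trans ?_
    have : Subsingleton ↥(Over.mk (𝟙 (Spec (CommRingCat.of k)))).left :=
      inferInstanceAs (Subsingleton ↥(Spec (CommRingCat.of k)))
    exact topologicalKrullDim_le_zero_of_subsingleton _
  · rintro ⟨hlft, hdim⟩ U V a b h ha hb comm
    have h1 : LocallyOfFiniteType h.left := hlft a b h ha hb comm
    refine ⟨?_, h1⟩
    obtain ⟨h0, hh0⟩ := (AlgSp.yon _).map_surjective (a ≫ p)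
    have h2 : LocallyOfFiniteType h0.left :=
      hlft a (𝟙 _) h0 ha (AlgSp.repWith_id _ _) (by rw [Category.comp_id, hh0])
    have hU : topologicalKrullDim ↥U.left ≤ 0 := (topologicalKrullDim_le_dim a ha).trans hdim
    have : IsLocallyNoetherian (Over.mk (𝟙 (Spec (CommRingCat.of k)))).left :=
      inferInstanceAs (IsLocallyNoetherian (Spec (CommRingCat.of k)))
    have h3 : LocallyQuasiFinite h0.left := locallyQuasiFinite_of_dim_le_zero h0.left hU
    have e1 : h0.left = U.hom := by
      have := Over.w h0
      simpa using this
    have e2 : h.left ≫ V.hom = U.hom := Over.w h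
    rw [e1, ← e2] at h3
    exact LocallyQuasiFinite.of_comp h.left V.hom

end Groth.Agent.S10482
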