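import Groth.Statements.S12597
import Groth.Agent.H57.Orders2


set_option autoImplicit false
open FunFld

namespace Groth.Agent.S12597

/-- Over an algebraically closed constant field, multiplying a projective map `φ = (φ₀, …, φₙ)` by a
nonzero function `y` does not change its `τ`-order sequence `J`, and multiplies the Wronskian `det
[τ(φ) | D^(j₁) φ | ⋯ | D^(jₙ) φ]` taken at that sequence by `τ(y) yⁿ`. -/
theorem result
    (k K : Type*) [Field k] [IsAlgClosed k] [Field K] [Algebra k K]
    (hK : FunFld.IsFunctionField k K) {n : ℕ} (φ : Fin (n + 1) → K) (hφ : LinearIndependent k φ)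
    (τ : K →ₐ[k] K) (s : K) (H : K →ₐ[k] PowerSeries K) (hH : LocRes.IsHasseFamily s H) (y : K) (hy : y ≠ 0) :
    (∀ J : Fin n → ℕ, FunFld.IsOrders K (FunFld.hcol τ H (y • φ)) J ↔ FunFld.IsOrders K (FunFld.hcol τ H φ) J) ∧
    ∀ J : Fin n → ℕ, FunFld.IsOrders K (FunFld.hcol τ H φ) J →
      (FunFld.wrMat τ H (y • φ) J).det = τ y * y ^ n * (FunFld.wrMat τ H φ J).det := by
  classical
  set u : ℕ → K := fun j => Nat.casesOn (motive := fun _ => K) j (τ y) (fun _ => y) with hu
  have hτy : τ y ≠ 0 := by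
    intro h0
    exact hy ((map_eq_zero τ).1 h0)
  have hune : ∀ j, u j ≠ 0 := by
    intro j
    cases j with
    | zero => exact hτy
    | succ j => exact hy
  have htri : ∀ j, hcol τ H (y • φ) j - u j • hcol τ H φ j ∈
      Submodule.span K (hcol τ H φ '' Set.Iio j) := fun j =>
    Groth.Agent.H57.hcol_smul_sub_mem τ s H hH φ y j
  have hjump : ∀ j, IsJump K (hcol τ H (y • φ)) j ↔ IsJump K (hcol τ H φ) j :=
    Groth.Agent.H57.isJump_iff_of_triangular _ _ u hune htri
  refine ⟨fun J => Groth.Agent.H57.isOrders_congr_of_isJump _ _ hjump J, ?_⟩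
  intro J hJ
  obtain ⟨hJmono, hJrange⟩ := hJ
  set d : Fin (n + 1) → K := fun q => Fin.cases (motive := fun _ => K) (τ y) (fun _ => y) q with hd
  have hprod : ∏ q, d q = τ y * y ^ n := by
    rw [Fin.prod_univ_succ]
    simp [d]
  rw [← hprod]
  apply Groth.Agent.H57.det_eq_prod_mul_det_of_triangular
  intro q
  rw [Groth.Agent.H57.wrMat_col, Groth.Agent.H57.wrMat_col]
  refine Fin.cases ?_ (fun l => ?_) q
  · have := htri 0
    simp only [Fin.cases_zero, d]
    have h0 : hcol τ H (y • φ) 0 - τ y • hcol τ H φ 0 = 0 := by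
      rw [Groth.Agent.H57.hcol_smul_zero, sub_self]
    rw [h0]
    exact Submodule.zero_mem _
  · simp only [Fin.cases_succ, d]
    have h1 := htri (J l + 1)
    simp only [u] at h1
    rw [Groth.Agent.H57.span_Iio_eq_span_jumps] at h1
    refine (Submodule.span_le.2 ?_) h1
    rintro _ ⟨j, ⟨hjlt, hjj⟩, rfl⟩
    apply Submodule.subset_span
    rcases Nat.eq_zero_or_pos j with h0 | hpos
    · subst h0
      refine ⟨0, ?_, ?_⟩
      · exact Fin.succ_pos l
      · rw [Groth.Agent.H57.wrMat_col]; rfl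
    · obtain ⟨j', rfl⟩ : ∃ j', j = j' + 1 := ⟨j - 1, by omega⟩
      obtain ⟨m, hm⟩ := (hJrange j').2 hjj
      have hml : m < l := by
        by_contra hml
        push Not at hml
        have := hJmono.monotone hml
        omega
      refine ⟨Fin.succ m, ?_, ?_⟩
      · exact Fin.succ_lt_succ_iff.2 hml
      · rw [Groth.Agent.H57.wrMat_col, ← hm]
        rfl

end Groth.Agent.S12597
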