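import Groth.Statements.S12598
import Groth.Agent.H57.HasseChange
import Groth.Agent.H57.Orders2


set_option autoImplicit false
open FunFld

namespace Groth.Agent.S12598

/-- Over an algebraically closed constant field, the `τ`-order sequence `J = (j₁, …, jₙ)` of a
projective map `φ` does not depend on the separating variable used for the Hasse derivatives, and
the Wronskians with respect to `t` and to `s` differ by the factor `(ds/dt)^(j₁ + ⋯ + jₙ)`, where
`ds/dt` is the first Hasse derivative of `s` with respect to `t`. -/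
theorem result
    (k K : Type*) [Field k] [IsAlgClosed k] [Field K] [Algebra k K]
    (hK : FunFld.IsFunctionField k K) {n : ℕ} (φ : Fin (n + 1) → K) (hφ : LinearIndependent k φ)
    (τ : K →ₐ[k] K) (s : K) (Hs : K →ₐ[k] PowerSeries K) (hHs : LocRes.IsHasseFamily s Hs)
    (t : K) (Ht : K →ₐ[k] PowerSeries K) (hHt : LocRes.IsHasseFamily t Ht) :
    (∀ J : Fin n → ℕ, FunFld.IsOrders K (FunFld.hcol τ Ht φ) J ↔ FunFld.IsOrders K (FunFld.hcol τ Hs φ) J) ∧
    ∀ J : Fin n → ℕ, FunFld.IsOrders K (FunFld.hcol τ Hs φ) J →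
      (FunFld.wrMat τ Ht φ J).det =
        LocRes.hasseD Ht 1 s ^ (∑ l, J l) * (FunFld.wrMat τ Hs φ J).det := by
  classical
  set e : K := LocRes.hasseD Ht 1 s with he
  have he0 : e ≠ 0 := by
    intro h0
    have := Groth.Agent.H57.hasseD_one_mul_hasseD_one hK s Hs hHs t Ht hHt
    rw [← he, h0, mul_zero] at this
    exact zero_ne_one this
  set g : PowerSeries K := Ht s - PowerSeries.C s with hg
  have hg0 : PowerSeries.constantCoeff g = 0 := by
    rw [hg, map_sub, hHt.2, PowerSeries.constantCoeff_C, sub_self]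
  have hg1 : PowerSeries.coeff 1 g = e := by
    rw [hg, map_sub, PowerSeries.coeff_C, if_neg (by omega), sub_zero]
    rfl
  set u : ℕ → K := fun j => Nat.casesOn (motive := fun _ => K) j 1 (fun j' => e ^ j') with hu
  have hune : ∀ j, u j ≠ 0 := by
    intro j
    cases j with
    | zero => exact one_ne_zero
    | succ j => exact pow_ne_zero _ he0
  have htri : ∀ j, hcol τ Ht φ j - u j • hcol τ Hs φ j ∈
      Submodule.span K (hcol τ Hs φ '' Set.Iio j) := by
    intro j
    cases j with
    | zero =>
      have : hcol τ Ht φ 0 - u 0 • hcol τ Hs φ 0 = 0 := by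
        change hcol τ Ht φ 0 - (1 : K) • hcol τ Hs φ 0 = 0
        rw [one_smul]
        exact sub_self _
      rw [this]
      exact Submodule.zero_mem _
    | succ j =>
      have hexp : hcol τ Ht φ (j + 1) = ∑ d ∈ Finset.range (j + 1),
          PowerSeries.coeff j (g ^ d) • hcol τ Hs φ (d + 1) := by
        funext i
        change LocRes.hasseD Ht j (φ i) = _
        rw [Groth.Agent.H57.hasseD_change_var hK s Hs hHs t Ht hHt, Finset.sum_apply]
        refine Finset.sum_congr rfl fun d _ => ?_
        change _ = PowerSeries.coeff j (g ^ d) * LocRes.hasseD Hs d (φ i)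
        rw [mul_comm]
      rw [hexp, Finset.sum_range_succ,
        Groth.Agent.H57.coeff_pow_self_of_constantCoeff_eq_zero g hg0, hg1]
      change _ + e ^ j • hcol τ Hs φ (j + 1) - e ^ j • hcol τ Hs φ (j + 1) ∈ _
      rw [add_sub_cancel_right]
      refine Submodule.sum_mem _ fun d hd => ?_
      rw [Finset.mem_range] at hd
      refine Submodule.smul_mem _ _ (Submodule.subset_span ⟨d + 1, ?_, rfl⟩)
      rw [Set.mem_Iio]
      omega
  have hjump : ∀ j, IsJump K (hcol τ Ht φ) j ↔ IsJump K (hcol τ Hs φ) j :=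
    Groth.Agent.H57.isJump_iff_of_triangular _ _ u hune htri
  refine ⟨fun J => Groth.Agent.H57.isOrders_congr_of_isJump _ _ hjump J, ?_⟩
  intro J hJ
  obtain ⟨hJmono, hJrange⟩ := hJ
  set d : Fin (n + 1) → K := fun q => Fin.cases (motive := fun _ => K) 1 (fun l => e ^ J l) q
    with hd
  have hprod : ∏ q, d q = e ^ (∑ l, J l) := by
    rw [Fin.prod_univ_succ]
    simp only [d, Fin.cases_zero, Fin.cases_succ, one_mul]
    rw [Finset.prod_pow_eq_pow_sum]
  rw [← hprod]
  apply Groth.Agent.H57.det_eq_prod_mul_det_of_triangular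
  intro q
  rw [Groth.Agent.H57.wrMat_col, Groth.Agent.H57.wrMat_col]
  refine Fin.cases ?_ (fun l => ?_) q
  · simp only [Fin.cases_zero, d]
    have h0 : hcol τ Ht φ 0 - (1 : K) • hcol τ Hs φ 0 = 0 := by
      rw [one_smul]
      exact sub_self _
    rw [h0]
    exact Submodule.zero_mem _
  · simp only [Fin.cases_succ, d]
    have h1 := htri (J l + 1)
    simp only [u] at h1
    rw [Groth.Agent.H57.span_Iio_eq_span_jumps] at h1
    refine (Submodule.span_le.2 ?_) h1
    rintro _ ⟨j, ⟨hjlt, hjj⟩, rfl⟩
    apply Submodule.subset_span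
    rcases Nat.eq_zero_or_pos j with h0 | hpos
    · subst h0
      refine ⟨0, ?_, ?_⟩
      · exact Fin.succ_pos l
      · rw [Groth.Agent.H57.wrMat_col]; rfl
    · obtain ⟨j', rfl⟩ : ∃ j', j = j' + 1 := ⟨j - 1, by omega⟩
      obtain ⟨m, hm⟩ := (hJrange j').2 hjj
      have hml : m < l := by
        by_contra hml
        push Not at hml
        have := hJmono.monotone hml
        omega
      refine ⟨Fin.succ m, ?_, ?_⟩
      · exact Fin.succ_lt_succ_iff.2 hml
      · rw [Groth.Agent.H57.wrMat_col, ← hm]
        rfl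

end Groth.Agent.S12598
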