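import Groth.Statements.S12614
import Groth.Agent.H57.WDivInvar
import Groth.Agent.H57.OrdersExist
import Groth.Agent.S12596
import Groth.Agent.S12597
import Groth.Agent.S12598

set_option autoImplicit false
open FunFld

namespace Groth.Agent.S12614

/-- Over an algebraically closed constant field, the Weierstrass divisor `W_s(φ, τ) = [w_s(φ, τ)] +
[τ(φ)] + n[φ] + j(φ, τ)[ds]` does not depend on the separating variable `s` and does not change when
`φ` is replaced by an equivalent map `y · Aφ` (`A` invertible over `k`, `y ≠ 0`). Divisors of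
differentials are read through a fixed family of Laurent expansions. -/
theorem result
    (k K : Type*) [Field k] [IsAlgClosed k] [Field K] [Algebra k K]
    (hK : FunFld.IsFunctionField k K) {n : ℕ} (φ : Fin (n + 1) → K) (hφ : LinearIndependent k φ)
    (τ : K →ₐ[k] K) (s : K) (Hs : K →ₐ[k] PowerSeries K) (hHs : LocRes.IsHasseFamily s Hs)
    (t : K) (Ht : K →ₐ[k] PowerSeries K) (hHt : LocRes.IsHasseFamily t Ht)
    (J : Fin n → ℕ) (hJ : FunFld.IsOrders K (FunFld.hcol τ Hs φ) J)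
    (A : Matrix (Fin (n + 1)) (Fin (n + 1)) k) (hA : A.det ≠ 0) (y : K) (hy : y ≠ 0)
    (φ' : Fin (n + 1) → K) (hφ' : ∀ i, φ' i = y * ∑ j, A i j • φ j)
    (Φ : FunFld.Place k K → (K →ₐ[k] LaurentSeries k))
    (hΦ : ∀ P : FunFld.Place k K, LocRes.IsExpansionAt P.1 (Φ P)) :
    FunFld.wDiv τ Ht Φ t φ' J = FunFld.wDiv τ Hs Φ s φ J := by
  classical
  open Groth.Agent.H57 Groth.Agent.FF in
  -- the tuple `y • φ`
  set φ₂ : Fin (n + 1) → K := y • φ with hφ₂def
  have hφ₂ : LinearIndependent k φ₂ := by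
    have hker : LinearMap.ker (LinearMap.mulLeft k y) = ⊥ := by
      rw [LinearMap.ker_eq_bot]
      intro a b hab
      exact mul_left_cancel₀ hy hab
    exact hφ.map' (LinearMap.mulLeft k y) hker
  have hφ'₂ : ∀ i, φ' i = ∑ j, A i j • φ₂ j := by
    intro i
    rw [hφ' i, Finset.mul_sum]
    refine Finset.sum_congr rfl fun j _ => ?_
    change _ = A i j • (y * φ j)
    rw [mul_smul_comm]
  -- determinants
  have hJt : FunFld.IsOrders K (FunFld.hcol τ Ht φ) J :=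
    ((Groth.Agent.S12598.result k K hK φ hφ τ s Hs hHs t Ht hHt).1 J).2 hJ
  have hd1 := (Groth.Agent.S12596.result k K hK φ₂ hφ₂ τ t Ht hHt A hA φ' hφ'₂).2 J
  have hd2 := (Groth.Agent.S12597.result k K hK φ hφ τ t Ht hHt y hy).2 J hJt
  have hd3 := (Groth.Agent.S12598.result k K hK φ hφ τ s Hs hHs t Ht hHt).2 J hJ
  have hc0 : FunFld.hcol τ Hs φ 0 ≠ 0 := by
    intro h
    have h1 := congrFun h 0
    change τ (φ 0) = 0 at h1
    exact hφ.ne_zero 0 ((map_eq_zero τ).1 h1)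
  have hdet0 : (FunFld.wrMat τ Hs φ J).det ≠ 0 := det_wrMat_ne_zero_of_isOrders τ Hs φ J hJ hc0
  have hst := hasseD_one_mul_hasseD_one hK s Hs hHs t Ht hHt
  have hDs0 : LocRes.hasseD Hs 1 t ≠ 0 := left_ne_zero_of_mul_eq_one hst
  have hDt0 : LocRes.hasseD Ht 1 s ≠ 0 := right_ne_zero_of_mul_eq_one hst
  have hτy : τ y ≠ 0 := fun h0 => hy ((map_eq_zero τ).1 h0)
  have hA0 : algebraMap k K A.det ≠ 0 := fun h0 => hA ((map_eq_zero _).1 h0)
  -- the tuple `τ ∘ φ`
  have hτφ : LinearIndependent k (τ ∘ φ) := hφ.map' τ.toLinearMap (by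
    rw [LinearMap.ker_eq_bot]
    exact τ.toRingHom.injective)
  have hτφ' : ∀ i, (τ ∘ φ') i = τ y * ∑ j, A i j • (τ ∘ φ) j := by
    intro i
    change τ (φ' i) = _
    rw [hφ' i, map_mul, map_sum]
    congr 1
    refine Finset.sum_congr rfl fun j _ => ?_
    rw [map_smul]
    rfl
  ext P
  rw [wDiv_apply, wDiv_apply, div_apply hK, div_apply hK,
    mapDiv_equiv_apply hK (τ ∘ φ) hτφ A hA (τ y) hτy (τ ∘ φ') hτφ' P,
    mapDiv_equiv_apply hK φ hφ A hA y hy φ' hφ' P,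
    divDiff_one_apply hK t Ht hHt Φ hΦ P, divDiff_one_apply hK s Hs hHs Φ hΦ P,
    ordDiff_change hK s Hs hHs t hDs0 P (Φ P) (hΦ P), hd1, hd2, hd3]
  have ho : P.ord (LocRes.hasseD Hs 1 t) + P.ord (LocRes.hasseD Ht 1 s) = 0 := by
    rw [← ord_mul P hDs0 hDt0, hst, ord_one]
  have hpow0 : LocRes.hasseD Ht 1 s ^ (∑ l, J l) ≠ 0 := pow_ne_zero _ hDt0
  have hyn0 : y ^ n ≠ 0 := pow_ne_zero _ hy
  rw [ord_mul P hA0 (mul_ne_zero (mul_ne_zero hτy hyn0) (mul_ne_zero hpow0 hdet0)),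
    ord_mul P (mul_ne_zero hτy hyn0) (mul_ne_zero hpow0 hdet0), ord_mul P hτy hyn0,
    ord_mul P hpow0 hdet0, ord_algebraMap, ord_pow, ord_pow]
  have hsum : ((∑ l, J l : ℕ) : ℤ) = ∑ l, (J l : ℤ) := by push_cast; rfl
  rw [hsum]
  have ho' : P.ord (LocRes.hasseD Ht 1 s) = - P.ord (LocRes.hasseD Hs 1 t) := by omega
  rw [ho']
  ring

end Groth.Agent.S12614
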