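import Groth.Statements.S12603
import Groth.Agent.H57.WDivNonneg
import Groth.Agent.H57.OrdersExist
import Groth.Agent.H57.MapDivTau
import Groth.Agent.S12614

set_option autoImplicit false
open FunFld

namespace Groth.Agent.S12603

/-- Over an algebraically closed constant field, the Weierstrass divisor `W(φ, τ) = [w_s(φ, τ)] + [τ(φ)]
+ n[φ] + j(φ, τ)[ds]` of a linearly independent tuple `φ = (φ₀, …, φₙ)` with respect to a
`k`-endomorphism `τ` is nonnegative, and its degree is `(deg τ + n) deg φ + (2g - 2) j(φ, τ)`, where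
`deg τ = [K : τ(K)]`, `deg φ` is the degree of the divisor of `φ`, `g` is the genus and `j(φ, τ)`
the sum of the `τ`-orders. The divisor of `ds` is read through a family of Laurent expansions at the
places. -/
theorem result
    (k K : Type*) [Field k] [IsAlgClosed k] [Field K] [Algebra k K]
    (hK : FunFld.IsFunctionField k K) {n : ℕ} (φ : Fin (n + 1) → K) (hφ : LinearIndependent k φ)
    (τ : K →ₐ[k] K) (s : K) (H : K →ₐ[k] PowerSeries K) (hH : LocRes.IsHasseFamily s H)
    (J : Fin n → ℕ) (hJ : FunFld.IsOrders K (FunFld.hcol τ H φ) J)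
    (Φ : FunFld.Place k K → (K →ₐ[k] LaurentSeries k))
    (hΦ : ∀ P : FunFld.Place k K, LocRes.IsExpansionAt P.1 (Φ P)) :
    0 ≤ FunFld.wDiv τ H Φ s φ J ∧
    (FunFld.wDiv τ H Φ s φ J).deg =
      ((Module.finrank τ.fieldRange K : ℤ) + n) * (FunFld.mapDiv k φ).deg +
        (2 * (FunFld.genus k K : ℤ) - 2) * ∑ l, (J l : ℤ) := by
  classical
  open Groth.Agent.H57 Groth.Agent.FF in
  refine ⟨?_, ?_⟩
  · intro P
    rw [Finsupp.zero_apply]
    -- a local parameter at `P` with its Hasse family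
    obtain ⟨t, ht⟩ := P.2.2 (WithZero.exp (-1 : ℤ))
    obtain ⟨Ht, hHt⟩ := exists_local_hasse hK s H hH P (Φ P) (hΦ P) t ht
    -- normalization at `P`
    obtain ⟨i₀, hi₀⟩ := Finite.exists_max (fun i => P.1 (φ i))
    have hφ0 : ∀ i, φ i ≠ 0 := fun i => hφ.ne_zero i
    set y : K := (φ i₀)⁻¹ with hy
    have hy0 : y ≠ 0 := inv_ne_zero (hφ0 i₀)
    set φ' : Fin (n + 1) → K := y • φ with hφ'def
    have hφ'A : ∀ i, φ' i = y * ∑ j, (1 : Matrix (Fin (n + 1)) (Fin (n + 1)) k) i j • φ j := by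
      intro i
      simp [Matrix.one_apply, hφ'def]
    have hinv := Groth.Agent.S12614.result k K hK φ hφ τ s H hH t Ht hHt J hJ 1
      (by rw [Matrix.det_one]; exact one_ne_zero) y hy0 φ' hφ'A Φ hΦ
    rw [← hinv]
    have hnorm : ∀ i, P.1 (φ' i) ≤ 1 := by
      intro i
      change P.1 (y * φ i) ≤ 1
      rw [hy, map_mul, map_inv₀, inv_mul_le_iff₀ (zero_lt_iff.2 ((P.1.ne_zero_iff).2 (hφ0 i₀))),
        mul_one]
      exact hi₀ i
    have hunit : ∃ i, P.1 (φ' i) = 1 := by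
      refine ⟨i₀, ?_⟩
      change P.1 (y * φ i₀) = 1
      rw [hy, inv_mul_cancel₀ (hφ0 i₀), map_one]
    have hφ'0 : ∀ i, φ' i ≠ 0 := fun i => mul_ne_zero hy0 (hφ0 i)
    have hJt : FunFld.IsOrders K (FunFld.hcol τ Ht φ) J :=
      ((Groth.Agent.S12598.result k K hK φ hφ τ s H hH t Ht hHt).1 J).2 hJ
    have hJt' : FunFld.IsOrders K (FunFld.hcol τ Ht φ') J :=
      ((Groth.Agent.S12597.result k K hK φ hφ τ t Ht hHt y hy0).1 J).2 hJt
    have hc0 : FunFld.hcol τ Ht φ' 0 ≠ 0 := by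
      intro h
      have h1 := congrFun h i₀
      change τ (y * φ i₀) = 0 at h1
      rw [hy, inv_mul_cancel₀ (hφ0 i₀), map_one] at h1
      exact one_ne_zero h1
    have hdet0 : (FunFld.wrMat τ Ht φ' J).det ≠ 0 :=
      det_wrMat_ne_zero_of_isOrders τ Ht φ' J hJt' hc0
    exact wDiv_apply_nonneg hK P τ φ' hφ'0 hnorm hunit t ht Ht hHt J hdet0 Φ (hΦ P)
  · have deg_zsmul : ∀ (m : ℤ) (D : FunFld.Divisor k K), (m • D).deg = m * D.deg := by
      intro m D
      have := map_zsmul (Groth.Agent.FF.degHom (k := k) (K := K)) m D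
      rw [Groth.Agent.FF.degHom_apply, Groth.Agent.FF.degHom_apply, smul_eq_mul] at this
      exact this
    unfold FunFld.wDiv
    rw [deg_add, deg_add, deg_add, deg_zsmul, deg_zsmul, deg_div_eq_zero hK, deg_mapDiv_tau hK τ φ hφ,
      deg_divDiff hK s H hH Φ hΦ]
    ring

end Groth.Agent.S12603
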