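import Groth.Statements.S12607
import Groth.Agent.H57.OrdersAt


set_option autoImplicit false
open FunFld

namespace Groth.Agent.S12607

/-- Over an algebraically closed constant field, let `φ = (φ₀, …, φₙ)` be an effective projective map
normalized at the place `P`, `t` a local parameter at `P` and `j'₁ < ⋯ < j'ₙ` the orders of `φ` at
`P`, `j'₀ = 0`. Then the span of `φ` has a basis `φ'₀, …, φ'ₙ` with `φ'ₗ = t^(j'ₗ) · (1 + higher
order terms)` at `P`; in particular `j` is one of the `j'ₗ` exactly when some function in the span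
of `φ` has order `j` at `P`. -/
theorem result
    (k K : Type*) [Field k] [IsAlgClosed k] [Field K] [Algebra k K]
    (hK : FunFld.IsFunctionField k K) (P : FunFld.Place k K) {n : ℕ} (φ : Fin (n + 1) → K) (hφ : LinearIndependent k φ)
    (heff : (1 : K) ∈ Submodule.span k (Set.range φ)) (hnorm : ∀ i, P.1 (φ i) ≤ 1)
    (t : K) (ht : P.1 t = WithZero.exp (-1))
    (Ht : K →ₐ[k] PowerSeries K) (hHt : LocRes.IsHasseFamily t Ht)
    (J' : Fin n → ℕ) (hJ' : FunFld.IsOrders (IsLocalRing.ResidueField P.O) (FunFld.hcolAt P Ht φ) J') :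
    (∃ φ' : Fin (n + 1) → K,
      Submodule.span k (Set.range φ') = Submodule.span k (Set.range φ) ∧
      P.1 (φ' 0) = 1 ∧ FunFld.evalP P (φ' 0) = 1 ∧
      ∀ l : Fin n, P.1 (φ' l.succ) = WithZero.exp (-(J' l : ℤ)) ∧
        FunFld.evalP P (φ' l.succ / t ^ J' l) = 1) ∧
    ∀ j : ℕ, (j = 0 ∨ j ∈ Set.range J') ↔
      ∃ f ∈ Submodule.span k (Set.range φ), P.1 f = WithZero.exp (-(j : ℤ)) := by
  open Groth.Agent.H57 Groth.Agent.FF in
  classical
  have hnot1 : ¬ FunFld.IsJump (IsLocalRing.ResidueField P.O) (FunFld.hcolAt P Ht φ) (0 + 1) := by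
    intro h
    apply h
    rw [zero_add, ← hcolAt_zero_eq_one P t φ Ht hHt]
    exact Submodule.subset_span ⟨0, by simp, rfl⟩
  have hiff : ∀ j : ℕ, (j = 0 ∨ j ∈ Set.range J') ↔
      ∃ f ∈ Submodule.span k (Set.range φ), P.1 f = WithZero.exp (-(j : ℤ)) := by
    intro j
    constructor
    · rintro (rfl | hj)
      · exact ⟨1, heff, by simp⟩
      · have hjump := (hJ'.2 j).1 hj
        have hj1 : 1 ≤ j := by
          rcases Nat.eq_zero_or_pos j with rfl | h
          · exact absurd hjump hnot1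
          · exact h
        exact (isJump_hcolAt_succ_iff hK P t ht φ hnorm Ht hHt j hj1).1 hjump
    · intro hf
      rcases Nat.eq_zero_or_pos j with rfl | h
      · exact Or.inl rfl
      · exact Or.inr ((hJ'.2 j).2 ((isJump_hcolAt_succ_iff hK P t ht φ hnorm Ht hHt j h).2 hf))
  refine ⟨?_, hiff⟩
  have hJpos : ∀ l, 1 ≤ J' l := by
    intro l
    have hjump := (hJ'.2 (J' l)).1 ⟨l, rfl⟩
    rcases Nat.eq_zero_or_pos (J' l) with h0 | h
    · rw [h0] at hjump
      exact absurd hjump hnot1
    · exact h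
  choose f hfV hfval using fun l : Fin n => (hiff (J' l)).1 (Or.inr ⟨l, rfl⟩)
  choose a ha0 ha using fun l : Fin n => exists_normalize hK P t ht (f l) (J' l) (hfval l)
  let φ' : Fin (n + 1) → K := Fin.cons 1 (fun l => a l • f l)
  have hφ'0 : φ' 0 = 1 := rfl
  have hφ'succ : ∀ l : Fin n, φ' l.succ = a l • f l := fun l => by
    simp only [φ', Fin.cons_succ]
  have hval : ∀ l : Fin n, P.1 (φ' l.succ) = WithZero.exp (-(J' l : ℤ)) := fun l => by
    rw [hφ'succ, val_smul P (ha0 l), hfval]
  have hle : Submodule.span k (Set.range φ') ≤ Submodule.span k (Set.range φ) := by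
    rw [Submodule.span_le]
    rintro _ ⟨i, rfl⟩
    refine Fin.cases ?_ (fun l => ?_) i
    · rw [hφ'0]; exact heff
    · rw [hφ'succ]; exact Submodule.smul_mem _ _ (hfV l)
  have hanti : StrictAnti fun i => P.1 (φ' i) := by
    intro i i' hii'
    revert hii'
    refine Fin.cases ?_ (fun l => ?_) i <;> refine Fin.cases ?_ (fun l' => ?_) i'
    · intro h; exact absurd h (lt_irrefl _)
    · intro _
      change P.1 (φ' l'.succ) < P.1 (φ' 0)
      rw [hval, hφ'0, map_one, ← WithZero.exp_zero, WithZero.exp_lt_exp]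
      have := hJpos l'
      omega
    · intro h; exact absurd h (Fin.not_lt_zero _)
    · intro h
      change P.1 (φ' l'.succ) < P.1 (φ' l.succ)
      rw [hval, hval, WithZero.exp_lt_exp]
      have := hJ'.1 (Fin.succ_lt_succ_iff.1 h)
      omega
  have hne : ∀ i, φ' i ≠ 0 := by
    intro i
    refine Fin.cases ?_ (fun l => ?_) i
    · rw [hφ'0]; exact one_ne_zero
    · rw [← P.1.ne_zero_iff, hval]; exact WithZero.exp_ne_zero
  have hli := linearIndependent_of_strictAnti_val P φ' hanti hne
  refine ⟨φ', ?_, by rw [hφ'0, map_one], ?_, fun l => ⟨hval l, ?_⟩⟩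
  · have hfd : FiniteDimensional k (Submodule.span k (Set.range φ)) :=
      FiniteDimensional.span_of_finite k (Set.finite_range φ)
    apply Submodule.eq_of_le_of_finrank_eq hle
    rw [finrank_span_eq_card hli, finrank_span_eq_card hφ]
  · rw [hφ'0, evalP_eq_algebraMap_rho P hK 1 (by simp)]
    have : (⟨1, (Valuation.mem_valuationSubring_iff _ _).2 (by simp)⟩ : P.O) = 1 := rfl
    rw [this, map_one, map_one]
  · rw [hφ'succ]; exact ha l

end Groth.Agent.S12607
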