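import Groth.Statements.S12605
import Groth.Agent.H57.WronskAt
import Groth.Agent.H57.Orders
import Groth.Agent.S12607


set_option autoImplicit false
open FunFld

namespace Groth.Agent.S12605

/-- Over an algebraically closed constant field, let `τ` be a `k`-endomorphism of `K`, `P` a fixed point
of `τ`, `φ = (φ₀, …, φₙ)` an effective projective map normalized at `P`, `t` a local parameter at
`P`, `J = (j₁ < ⋯ < jₙ)` the orders of `φ` at `P` and `I = (i₁ < ⋯ < iₙ)` strictly increasing. Then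
the order at `P` of `det [τ(φ) | D_t^(i₁) φ | ⋯ | D_t^(iₙ) φ]` is at least `Σ (jₗ - iₗ)`; if all `iₗ
> 0` or `P` is a strong fixed point of `τ`, it equals `Σ (jₗ - iₗ)` exactly when the matrix of
binomial coefficients `(j_r choose i_s)`, read in `k`, has nonzero determinant. -/
theorem result
    (k K : Type*) [Field k] [IsAlgClosed k] [Field K] [Algebra k K]
    (hK : FunFld.IsFunctionField k K) (τ : K →ₐ[k] K) (P : FunFld.Place k K) (hP : FunFld.IsFixedPt τ P)
    {n : ℕ} (φ : Fin (n + 1) → K) (hφ : LinearIndependent k φ)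
    (heff : (1 : K) ∈ Submodule.span k (Set.range φ)) (hnorm : ∀ i, P.1 (φ i) ≤ 1)
    (t : K) (ht : P.1 t = WithZero.exp (-1))
    (Ht : K →ₐ[k] PowerSeries K) (hHt : LocRes.IsHasseFamily t Ht)
    (J : Fin n → ℕ) (hJ : FunFld.IsOrders (IsLocalRing.ResidueField P.O) (FunFld.hcolAt P Ht φ) J)
    (I : Fin n → ℕ) (hI : StrictMono I) :
    P.1 (FunFld.wrMat τ Ht φ I).det ≤ WithZero.exp (-(∑ l, ((J l : ℤ) - I l))) ∧
    (((∀ l, 0 < I l) ∨ FunFld.IsStrongFixedPt τ P) →
      (P.1 (FunFld.wrMat τ Ht φ I).det = WithZero.exp (-(∑ l, ((J l : ℤ) - I l))) ↔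
        (FunFld.binomMat k J I).det ≠ 0)) := by
  open Groth.Agent.H57 Groth.Agent.FF in
  classical
  have hbij := bijective_algebraMap_residueField hK P
  have hnot1 : ¬ FunFld.IsJump (IsLocalRing.ResidueField P.O) (FunFld.hcolAt P Ht φ) (0 + 1) := by
    intro h
    apply h
    rw [zero_add, ← hcolAt_zero_eq_one P t φ Ht hHt]
    exact Submodule.subset_span ⟨0, by simp, rfl⟩
  have hJpos : ∀ l, 1 ≤ J l := by
    intro l
    have hjump := (hJ.2 (J l)).1 ⟨l, rfl⟩
    rcases Nat.eq_zero_or_pos (J l) with h0 | h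
    · rw [h0] at hjump
      exact absurd hjump hnot1
    · exact h
  obtain ⟨⟨φ', hspan, h0v, h0e, hl⟩, -⟩ :=
    Groth.Agent.S12607.result k K hK P φ hφ heff hnorm t ht Ht hHt J hJ
  -- convert evalP to rhoK
  have hconv : ∀ w : K, P.1 w ≤ 1 → FunFld.evalP P w = 1 → rhoK hK P w = 1 := by
    intro w hw h1
    rw [evalP_eq_algebraMap_rho P hK w hw] at h1
    rw [rhoK_eq hK P w hw]
    apply hbij.1
    rw [h1, map_one]
  have h0e' : rhoK hK P (φ' 0) = 1 := hconv _ h0v.le h0e
  have hv : ∀ l : Fin n, P.1 (φ' l.succ) = WithZero.exp (-(J l : ℤ)) := fun l => (hl l).1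
  have he : ∀ l : Fin n, rhoK hK P (φ' l.succ / t ^ J l) = 1 := by
    intro l
    apply hconv _ _ (hl l).2
    exact val_div_pow_le_one P t ht _ _ (hv l).le
  have hmain := val_det_wrMat_adapted hK P t ht Ht hHt τ hP φ' J I hJpos h0v h0e' hv he
  -- matrices relating φ and φ'
  have hA : ∃ A : Matrix (Fin (n + 1)) (Fin (n + 1)) k, ∀ i, φ' i = ∑ j, A i j • φ j := by
    have : ∀ i, ∃ a : Fin (n + 1) → k, ∑ j, a j • φ j = φ' i := by
      intro i
      apply (Submodule.mem_span_range_iff_exists_fun k).1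
      rw [← hspan]
      exact Submodule.subset_span ⟨i, rfl⟩
    choose A hA using this
    exact ⟨Matrix.of A, fun i => (hA i).symm⟩
  have hB : ∃ B : Matrix (Fin (n + 1)) (Fin (n + 1)) k, ∀ i, φ i = ∑ j, B i j • φ' j := by
    have : ∀ i, ∃ a : Fin (n + 1) → k, ∑ j, a j • φ' j = φ i := by
      intro i
      apply (Submodule.mem_span_range_iff_exists_fun k).1
      rw [hspan]
      exact Submodule.subset_span ⟨i, rfl⟩
    choose B hB using this
    exact ⟨Matrix.of B, fun i => (hB i).symm⟩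
  obtain ⟨A, hA⟩ := hA
  obtain ⟨B, hB⟩ := hB
  have hle : ∀ (ψ ψ' : Fin (n + 1) → K) (A : Matrix (Fin (n + 1)) (Fin (n + 1)) k),
      (∀ i, ψ' i = ∑ j, A i j • ψ j) →
      P.1 (FunFld.wrMat τ Ht ψ' I).det ≤ P.1 (FunFld.wrMat τ Ht ψ I).det := by
    intro ψ ψ' A hA
    rw [wrMat_matrix_smul τ Ht ψ ψ' A hA I, Matrix.det_mul, map_mul]
    have : (A.map (algebraMap k K)).det = algebraMap k K A.det :=
      (RingHom.map_det (algebraMap k K) A).symm
    rw [this]
    exact (mul_le_mul' (val_algebraMap_le P _) le_rfl).trans_eq (one_mul _)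
  have heq : P.1 (FunFld.wrMat τ Ht φ I).det = P.1 (FunFld.wrMat τ Ht φ' I).det :=
    le_antisymm (hle φ' φ B hB) (hle φ φ' A hA)
  rw [heq]
  exact hmain

end Groth.Agent.S12605
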