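import Groth.Statements.S12608
import Groth.Agent.H57.WDivAt
import Groth.Agent.S12605


set_option autoImplicit false
open FunFld

namespace Groth.Agent.S12608

/-- Over an algebraically closed constant field, let `φ = (φ₀, …, φₙ)` be an effective projective map
normalized at the place `P`, `t` a local parameter at `P`, `j₁, …, jₙ` the orders of `φ` and `j'₁,
…, j'ₙ` the orders of `φ` at `P`. Then `jₗ ≤ j'ₗ` for all `l`, and the following are equivalent: all
`j'ₗ = jₗ`; the Wronskian `w_t(φ)` does not vanish at `P`; the Weierstrass divisor `W(φ)` has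
coefficient `0` at `P` (the divisor of `dt` in it read through a family of Laurent expansions). -/
theorem result
    (k K : Type*) [Field k] [IsAlgClosed k] [Field K] [Algebra k K]
    (hK : FunFld.IsFunctionField k K) (P : FunFld.Place k K) {n : ℕ} (φ : Fin (n + 1) → K) (hφ : LinearIndependent k φ)
    (heff : (1 : K) ∈ Submodule.span k (Set.range φ)) (hnorm : ∀ i, P.1 (φ i) ≤ 1)
    (t : K) (ht : P.1 t = WithZero.exp (-1))
    (Ht : K →ₐ[k] PowerSeries K) (hHt : LocRes.IsHasseFamily t Ht)
    (J : Fin n → ℕ) (hJ : FunFld.IsOrders K (FunFld.hcol (AlgHom.id k K) Ht φ) J)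
    (J' : Fin n → ℕ) (hJ' : FunFld.IsOrders (IsLocalRing.ResidueField P.O) (FunFld.hcolAt P Ht φ) J')
    (Φ : FunFld.Place k K → (K →ₐ[k] LaurentSeries k))
    (hΦ : ∀ P : FunFld.Place k K, LocRes.IsExpansionAt P.1 (Φ P)) :
    (∀ l, J l ≤ J' l) ∧
    ((∀ l, J' l = J l) ↔ FunFld.evalP P (FunFld.wrMat (AlgHom.id k K) Ht φ J).det ≠ 0) ∧
    ((∀ l, J' l = J l) ↔ FunFld.wDiv (AlgHom.id k K) Ht Φ t φ J P = 0) := by
  open Groth.Agent.H57 Groth.Agent.FF in
  classical
  have hbij := bijective_algebraMap_residueField hK P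
  have hfix : FunFld.IsFixedPt (AlgHom.id k K) P := fun z hz => hz
  have hnot1 : ¬ FunFld.IsJump (IsLocalRing.ResidueField P.O) (FunFld.hcolAt P Ht φ) (0 + 1) := by
    intro h
    apply h
    rw [zero_add, ← hcolAt_zero_eq_one P t φ Ht hHt]
    exact Submodule.subset_span ⟨0, by simp, rfl⟩
  have hJ'pos : ∀ l, 0 < J' l := by
    intro l
    have hjump := (hJ'.2 (J' l)).1 ⟨l, rfl⟩
    rcases Nat.eq_zero_or_pos (J' l) with h0 | h
    · rw [h0] at hjump
      exact absurd hjump hnot1
    · exact h
  -- the binomial matrix of J' against itself is unitriangular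
  have hbinom : (FunFld.binomMat k J' J').det ≠ 0 := by
    have htri : (FunFld.binomMat k J' J').BlockTriangular OrderDual.toDual := by
      intro r s hrs
      change ((((J' r).choose (J' s) : ℕ)) : k) = 0
      have : J' r < J' s := hJ'.1 hrs
      rw [Nat.choose_eq_zero_of_lt this, Nat.cast_zero]
    rw [Matrix.det_of_isLowerTriangular _ htri]
    have : ∀ i, FunFld.binomMat k J' J' i i = 1 := by
      intro i
      change ((((J' i).choose (J' i) : ℕ)) : k) = 1
      rw [Nat.choose_self, Nat.cast_one]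
    simp only [this, Finset.prod_const_one]
    exact one_ne_zero
  have h1 := Groth.Agent.S12605.result k K hK (AlgHom.id k K) P hfix φ hφ heff hnorm t ht Ht hHt
    J' hJ' J' hJ'.1
  have hval1 : P.1 (FunFld.wrMat (AlgHom.id k K) Ht φ J').det = 1 := by
    have := (h1.2 (Or.inl hJ'pos)).2 hbinom
    simpa using this
  have hdet1 : (FunFld.wrMat (AlgHom.id k K) Ht φ J').det ≠ 0 := by
    rw [← P.1.ne_zero_iff, hval1]; exact one_ne_zero
  -- (i)
  have hle : ∀ l, J l ≤ J' l :=
    orders_le_of_linearIndependent (FunFld.hcol (AlgHom.id k K) Ht φ) J hJ J' hJ'.1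
      (linearIndependent_hcol_of_det_wrMat_ne_zero (AlgHom.id k K) Ht φ J' hdet1)
  -- the Wronskian at J
  have h2 := Groth.Agent.S12605.result k K hK (AlgHom.id k K) P hfix φ hφ heff hnorm t ht Ht hHt
    J' hJ' J hJ.1
  have hφ0 : FunFld.hcol (AlgHom.id k K) Ht φ 0 ≠ 0 := by
    intro h
    have := congrFun h 0
    exact hφ.ne_zero 0 this
  have hdetJ : (FunFld.wrMat (AlgHom.id k K) Ht φ J).det ≠ 0 :=
    det_wrMat_ne_zero_of_isOrders (AlgHom.id k K) Ht φ J hJ hφ0
  -- key equivalence
  have hkey : (∀ l, J' l = J l) ↔ P.1 (FunFld.wrMat (AlgHom.id k K) Ht φ J).det = 1 := by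
    constructor
    · intro h
      have : J' = J := funext h
      rw [← this]
      exact hval1
    · intro h
      have h3 := h2.1
      rw [h, ← WithZero.exp_zero, WithZero.exp_le_exp] at h3
      have hsum : ∑ l, ((J' l : ℤ) - J l) ≤ 0 := by omega
      have hnn : ∀ l ∈ Finset.univ, (0 : ℤ) ≤ (J' l : ℤ) - J l := by
        intro l _
        have := hle l
        omega
      have hzero := (Finset.sum_eq_zero_iff_of_nonneg hnn).1
        (le_antisymm hsum (Finset.sum_nonneg hnn))
      intro l
      have := hzero l (Finset.mem_univ l)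
      omega
  refine ⟨hle, ?_, ?_⟩
  · rw [hkey]
    constructor
    · intro h
      rw [evalP_eq_algebraMap_rho P hK _ h.le, Ne, ← map_zero (algebraMap k _), hbij.1.eq_iff,
        rho_eq_zero_iff]
      exact not_lt.2 h.ge
    · intro h
      by_cases hle1 : P.1 (FunFld.wrMat (AlgHom.id k K) Ht φ J).det ≤ 1
      · rw [evalP_eq_algebraMap_rho P hK _ hle1, Ne, ← map_zero (algebraMap k _), hbij.1.eq_iff,
          rho_eq_zero_iff, not_lt] at h
        exact le_antisymm hle1 h
      · exfalso
        apply h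
        unfold FunFld.evalP
        rw [dif_neg hle1]
  · rw [hkey, wDiv_apply_of_fixedPt hK P (AlgHom.id k K) hfix φ heff hnorm t ht Ht J Φ (hΦ P),
      val_eq_one_iff P hdetJ]

end Groth.Agent.S12608
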