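import Groth.Statements.S12609
import Groth.Agent.H57.OrdersAt
import Groth.Agent.H57.CanonOrders


set_option autoImplicit false
open FunFld

namespace Groth.Agent.S12609

/-- Over an algebraically closed constant field, let `φ` be the canonical map (a basis of `L(C)`, `C`
canonical), normalized at the place `P` after multiplication by `y ≠ 0`, and `t` a local parameter
at `P`. For `j ≥ 1`: the canonical orders at `P` include `j` exactly when `j + 1` is a gap number at
`P`, i.e. `L((j+1)P) = L(jP)`. -/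
theorem result
    (k K : Type*) [Field k] [IsAlgClosed k] [Field K] [Algebra k K]
    (hK : FunFld.IsFunctionField k K) (C : FunFld.Divisor k K) (hC : FunFld.IsCanonical k K C)
    {n : ℕ} (φ : Fin (n + 1) → K) (hφ : LinearIndependent k φ)
    (hspan : Submodule.span k (Set.range φ) = FunFld.L C)
    (P : FunFld.Place k K) (y : K) (hy : y ≠ 0)
    (heff : (1 : K) ∈ Submodule.span k (Set.range (y • φ))) (hnorm : ∀ i, P.1 (y * φ i) ≤ 1)
    (t : K) (ht : P.1 t = WithZero.exp (-1))
    (Ht : K →ₐ[k] PowerSeries K) (hHt : LocRes.IsHasseFamily t Ht) (j : ℕ) (hj : 1 ≤ j) :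
    FunFld.IsJump (IsLocalRing.ResidueField P.O) (FunFld.hcolAt P Ht (y • φ)) (j + 1) ↔
      FunFld.L (Finsupp.single P ((j : ℤ) + 1)) = FunFld.L (Finsupp.single P (j : ℤ)) := by
  open Groth.Agent.H57 Groth.Agent.FF in
  classical
  have hdegP := deg_eq_one_of_isAlgClosed hK P
  have hnorm' : ∀ i, P.1 ((y • φ) i) ≤ 1 := fun i => hnorm i
  rw [isJump_hcolAt_succ_iff hK P t ht (y • φ) hnorm' Ht hHt j hj]
  -- genus is positive
  have hell := ell_canonical hK hC
  have hgenus : FunFld.genus k K ≠ 0 := by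
    rw [← hell]
    unfold FunFld.ell
    rw [← hspan, finrank_span_eq_card hφ, Fintype.card_fin]
    omega
  -- membership in the span of y • φ
  have hmemspan : ∀ f : K, f ∈ Submodule.span k (Set.range (y • φ)) ↔ ∃ g ∈ FunFld.L C, f = y * g := by
    intro f
    constructor
    · intro hf
      refine ⟨y⁻¹ * f, ?_, by rw [← mul_assoc, mul_inv_cancel₀ hy, one_mul]⟩
      rw [← hspan]
      induction hf using Submodule.span_induction with
      | mem x hx =>
        obtain ⟨i, rfl⟩ := hx
        change y⁻¹ * (y * φ i) ∈ _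
        rw [← mul_assoc, inv_mul_cancel₀ hy, one_mul]
        exact Submodule.subset_span ⟨i, rfl⟩
      | zero => rw [mul_zero]; exact Submodule.zero_mem _
      | add x x' _ _ hx hx' => rw [mul_add]; exact Submodule.add_mem _ hx hx'
      | smul c x _ hx => rw [mul_smul_comm]; exact Submodule.smul_mem _ c hx
    · rintro ⟨g, hg, rfl⟩
      rw [← hspan] at hg
      induction hg using Submodule.span_induction with
      | mem x hx =>
        obtain ⟨i, rfl⟩ := hx
        exact Submodule.subset_span ⟨i, rfl⟩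
      | zero => rw [mul_zero]; exact Submodule.zero_mem _
      | add x x' _ _ hx hx' => rw [mul_add]; exact Submodule.add_mem _ hx hx'
      | smul c x _ hx => rw [mul_smul_comm]; exact Submodule.smul_mem _ c hx
  -- ord y = C P
  have hordy : P.ord y = C P := by
    apply le_antisymm
    · obtain ⟨g, hg, h1⟩ := (hmemspan 1).1 heff
      have hg0 : g ≠ 0 := by rintro rfl; rw [mul_zero] at h1; exact one_ne_zero h1
      have hgy : g = y⁻¹ := eq_inv_of_mul_eq_one_right h1.symm
      have := hg P
      rw [val_le_exp_iff P hg0, hgy, ord_inv] at this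
      omega
    · obtain ⟨g, hg, hg0, hgord⟩ := exists_ord_eq_neg_canonical hK hC hgenus P
      have h1 : P.1 (y * g) ≤ 1 :=
        val_le_one_of_mem_span (y • φ) P hnorm' ((hmemspan _).2 ⟨g, hg, rfl⟩)
      rw [val_le_one_iff P (mul_ne_zero hy hg0), ord_mul P hy hg0, hgord] at h1
      omega
  -- the divisors
  set Dj : FunFld.Divisor k K := C - Finsupp.single P (j : ℤ) with hDj
  have hDj1 : C - Finsupp.single P ((j : ℤ) + 1) = Dj - Finsupp.single P 1 := by
    rw [hDj, Finsupp.single_add]
    abel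
  have hDjP : Dj P = C P - j := by
    rw [hDj, Finsupp.sub_apply, Finsupp.single_eq_same]
  have hDjle : Dj ≤ C := sub_le_self _ (single_nonneg' P (by omega))
  -- step E
  have hE : (∃ f ∈ Submodule.span k (Set.range (y • φ)), P.1 f = WithZero.exp (-(j : ℤ))) ↔
      ∃ g, g ∈ FunFld.L Dj ∧ g ∉ FunFld.L (Dj - Finsupp.single P 1) := by
    constructor
    · rintro ⟨f, hf, hfv⟩
      obtain ⟨g, hg, rfl⟩ := (hmemspan f).1 hf
      have hg0 : g ≠ 0 := by
        rintro rfl
        rw [mul_zero, map_zero] at hfv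
        exact WithZero.exp_ne_zero hfv.symm
      have hordg : P.ord g = j - C P := by
        have h1 : P.ord (y * g) = j := by
          unfold FunFld.Place.ord
          rw [hfv, WithZero.log_exp, neg_neg]
        rw [ord_mul P hy hg0, hordy] at h1
        omega
      refine ⟨g, (mem_L_not_mem_L_sub_iff Dj P g).2 ⟨?_, hg0, by rw [hordg, hDjP]; ring⟩⟩
      intro Q
      by_cases hQ : Q = P
      · subst hQ
        rw [hDjP, val_le_exp_iff Q hg0, hordg]
        omega
      · rw [hDj, Finsupp.sub_apply, Finsupp.single_eq_of_ne hQ, sub_zero]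
        exact hg Q
    · rintro ⟨g, hg1, hg2⟩
      obtain ⟨-, hg0, hordg⟩ := (mem_L_not_mem_L_sub_iff Dj P g).1 ⟨hg1, hg2⟩
      refine ⟨y * g, (hmemspan _).2 ⟨g, L_mono hDjle hg1, rfl⟩, ?_⟩
      rw [val_eq_exp_neg_ord P (mul_ne_zero hy hg0), ord_mul P hy hg0, hordy, hordg, hDjP]
      congr 1
      ring
  rw [hE]
  -- step F
  have hle1 : Dj - Finsupp.single P 1 ≤ Dj := sub_le_self _ (single_nonneg' P (by norm_num))
  have hle2 : (Finsupp.single P (j : ℤ) : FunFld.Divisor k K) ≤ Finsupp.single P ((j : ℤ) + 1) :=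
    single_le_single_of_le P (by omega)
  have hrr1 := riemann_roch hK hC (Finsupp.single P (j : ℤ))
  have hrr2 := riemann_roch hK hC (Finsupp.single P ((j : ℤ) + 1))
  rw [hDj1] at hrr2
  rw [← hDj] at hrr1
  rw [deg_single, hdegP] at hrr1 hrr2
  have hm1 := ell_mono hK hle1
  have hm2 := ell_mono hK hle2
  have hiff1 : (∃ g, g ∈ FunFld.L Dj ∧ g ∉ FunFld.L (Dj - Finsupp.single P 1)) ↔
      FunFld.ell (Dj - Finsupp.single P 1) ≠ FunFld.ell Dj := by
    rw [Ne, ← L_eq_iff_ell_eq hK hle1]
    constructor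
    · rintro ⟨g, hg1, hg2⟩ h
      rw [h] at hg2
      exact hg2 hg1
    · intro h
      have hlt : FunFld.L (Dj - Finsupp.single P 1) < FunFld.L Dj := lt_of_le_of_ne (L_mono hle1) h
      obtain ⟨g, hg1, hg2⟩ := SetLike.exists_of_lt hlt
      exact ⟨g, hg1, hg2⟩
  rw [hiff1, eq_comm, L_eq_iff_ell_eq hK hle2]
  push_cast at hrr1 hrr2
  constructor
  · intro h
    omega
  · intro h
    omega

end Groth.Agent.S12609
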