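import Groth.Statements.S12600
import Groth.Agent.H57.OrdersExist
import Groth.Agent.H57.HasseIndep


set_option autoImplicit false
open FunFld

namespace Groth.Agent.S12600

/-- Over an algebraically closed constant field, for a linearly independent tuple `φ = (φ₀, …, φₙ)`, a
`k`-endomorphism `τ` and a total Hasse derivative `H`, there are exactly `n` `τ`-orders `j₁ < ⋯ <
jₙ` and the Wronskian `det [τ(φ) | D^(j₁) φ | ⋯ | D^(jₙ) φ]` is nonzero. -/
theorem result
    (k K : Type*) [Field k] [IsAlgClosed k] [Field K] [Algebra k K]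
    (hK : FunFld.IsFunctionField k K) {n : ℕ} (φ : Fin (n + 1) → K) (hφ : LinearIndependent k φ)
    (τ : K →ₐ[k] K) (s : K) (H : K →ₐ[k] PowerSeries K) (hH : LocRes.IsHasseFamily s H) :
    ∃ J : Fin n → ℕ, FunFld.IsOrders K (FunFld.hcol τ H φ) J ∧ (FunFld.wrMat τ H φ J).det ≠ 0 := by
  classical
  set c := hcol τ H φ with hc
  have hspan : Submodule.span K (Set.range c) = ⊤ := by
    by_contra hne
    have hlt : Submodule.span K (Set.range c) < ⊤ := lt_top_iff_ne_top.2 hne
    obtain ⟨f, hf0, hf⟩ := Submodule.exists_le_ker_of_lt_top _ hlt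
    set a : Fin (n + 1) → K := fun i => f (Pi.single i 1) with ha
    have hfv : ∀ v : Fin (n + 1) → K, f v = ∑ i, a i * v i := by
      intro v
      have hv : v = ∑ i, v i • (Pi.single i (1 : K) : Fin (n + 1) → K) := by
        funext l
        simp [Finset.sum_apply, Pi.single_apply]
      conv_lhs => rw [hv]
      rw [map_sum]
      refine Finset.sum_congr rfl fun i _ => ?_
      rw [map_smul, smul_eq_mul, mul_comm]
    have ha0 : a = 0 := by
      apply Groth.Agent.H57.hasse_rows_independent hK s H hH φ hφ a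
      intro j
      have hmem : c (j + 1) ∈ Submodule.span K (Set.range c) := Submodule.subset_span ⟨j + 1, rfl⟩
      have h1 := hf hmem
      rw [LinearMap.mem_ker, hfv] at h1
      exact h1
    apply hf0
    apply LinearMap.ext
    intro v
    rw [hfv, ha0]
    simp
  have hc0 : c 0 ≠ 0 := by
    intro h
    have h1 := congrFun h 0
    change τ (φ 0) = 0 at h1
    exact hφ.ne_zero 0 ((map_eq_zero τ).1 h1)
  obtain ⟨J, hJ⟩ := Groth.Agent.H57.exists_isOrders_of_span_eq_top c hspan hc0
    (n := n) (by simp)
  exact ⟨J, hJ, Groth.Agent.H57.det_wrMat_ne_zero_of_isOrders τ H φ J hJ hc0⟩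

end Groth.Agent.S12600
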