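import Groth.Statements.S12599
import Groth.Agent.H57.Expansion


set_option autoImplicit false
open FunFld

namespace Groth.Agent.S12599

/-- Over an algebraically closed constant field, for a place `P` with local parameter `t`, and a
linearly independent tuple `φ = (φ₀, …, φₙ)` of functions integral at `P`, the matrix of values at
`P` of the Hasse derivatives `D_t^(j)(φᵢ)`, `j = 0, 1, …`, has rank `n + 1`: its rows are linearly
independent over the residue field. -/
theorem result
    (k K : Type*) [Field k] [IsAlgClosed k] [Field K] [Algebra k K]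
    (hK : FunFld.IsFunctionField k K) {n : ℕ} (φ : Fin (n + 1) → K) (hφ : LinearIndependent k φ)
    (P : FunFld.Place k K) (hint : ∀ i, P.1 (φ i) ≤ 1) (t : K) (ht : P.1 t = WithZero.exp (-1))
    (Ht : K →ₐ[k] PowerSeries K) (hHt : LocRes.IsHasseFamily t Ht) :
    LinearIndependent (IsLocalRing.ResidueField P.O)
      (fun i : Fin (n + 1) => fun j : ℕ => FunFld.evalP P (LocRes.hasseD Ht j (φ i))) := by
  open Groth.Agent.H57 in
  rw [Fintype.linearIndependent_iff]
  intro a ha
  have hbij := bijective_algebraMap_residueField hK P
  choose c hc using fun i => hbij.2 (a i)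
  have hmem : ∀ i, φ i ∈ P.O := fun i => (Valuation.mem_valuationSubring_iff _ _).2 (hint i)
  -- the combination
  let y : P.O := ∑ i, algebraMap k P.O (c i) * ⟨φ i, hmem i⟩
  have hy : ∀ j, ecoeff hK P t ht j y = 0 := by
    intro j
    have h1 := congrFun ha j
    simp only [Finset.sum_apply, Pi.smul_apply, Pi.zero_apply, smul_eq_mul] at h1
    apply hbij.1
    rw [map_zero, ← h1]
    have : ecoeff hK P t ht j y = ∑ i, c i * ecoeff hK P t ht j ⟨φ i, hmem i⟩ := by
      rw [← coeff_expandO, map_sum, map_sum]
      refine Finset.sum_congr rfl fun i _ => ?_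
      rw [coeff_expandO, ecoeff_algebraMap_mul]
    rw [this, map_sum]
    refine Finset.sum_congr rfl fun i _ => ?_
    rw [map_mul, hc i, evalP_hasseD hK P t ht Ht hHt (φ i) (hint i) j]
  have hy0 : y = 0 := by
    apply expandO_injective hK P t ht
    rw [map_zero]
    ext j
    rw [coeff_expandO, hy j, map_zero]
  have hyK : ∑ i, c i • φ i = 0 := by
    have := congrArg (fun z : P.O => (z : K)) hy0
    simp only [y] at this
    rw [ZeroMemClass.coe_zero] at this
    rw [← this]
    push_cast
    refine Finset.sum_congr rfl fun i _ => ?_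
    rw [Algebra.smul_def]
    rfl
  have hc0 := Fintype.linearIndependent_iff.1 hφ c hyK
  intro i
  rw [← hc i, hc0 i, map_zero]

end Groth.Agent.S12599
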