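import Groth.Statements.S12604
import Groth.Agent.H57.ExpandAt
import Groth.Agent.H57.Classical
import Groth.Agent.H57.Gaps
import Groth.Agent.S12603
import Groth.Agent.S12606
import Groth.Agent.S12615

set_option autoImplicit false
open FunFld

namespace Groth.Agent.S12604

/-- Over an algebraically closed constant field, let `τ` be a `k`-endomorphism of the function field `K`
of genus `g`, of degree `deg τ = [K : τ(K)]`, and `φ = (φ₀, …, φₙ)` a projective map such that
`τ(φ)` is not a `K`-multiple of `φ`, with `τ`-orders `j₁, …, jₙ`. Then the number `N` of strong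
fixed points of `τ` (places whose maximal ideal `τ` maps into its square) is finite and `n N ≤ (n +
deg τ) deg φ + (2g - 2)(j₁ + ⋯ + jₙ)`, i.e. `N ≤ (1/n) deg W(φ, τ)`. -/
theorem result
    (k K : Type*) [Field k] [IsAlgClosed k] [Field K] [Algebra k K]
    (hK : FunFld.IsFunctionField k K) (τ : K →ₐ[k] K) {n : ℕ} (φ : Fin (n + 1) → K) (hφ : LinearIndependent k φ)
    (hτφ : ¬ ∃ y : K, ∀ i, τ (φ i) = y * φ i) (s : K) (H : K →ₐ[k] PowerSeries K) (hH : LocRes.IsHasseFamily s H)
    (J : Fin n → ℕ) (hJ : FunFld.IsOrders K (FunFld.hcol τ H φ) J) :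
    {P : FunFld.Place k K | FunFld.IsStrongFixedPt τ P}.Finite ∧
    (n : ℤ) * (Set.ncard {P : FunFld.Place k K | FunFld.IsStrongFixedPt τ P} : ℤ) ≤
      ((n : ℤ) + Module.finrank τ.fieldRange K) * (FunFld.mapDiv k φ).deg +
        (2 * (FunFld.genus k K : ℤ) - 2) * ∑ l, (J l : ℤ) := by
  classical
  open Groth.Agent.H57 Groth.Agent.FF in
  obtain ⟨Φ, hΦ⟩ := exists_expansion_family hK
  have hn : 0 < n := by
    rcases Nat.eq_zero_or_pos n with h0 | h
    · exfalso
      subst h0
      apply hτφ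
      refine ⟨τ (φ 0) / φ 0, fun i => ?_⟩
      have : i = 0 := by
        apply Fin.ext
        have := i.2
        simp only [Fin.val_zero] 
        omega
      subst this
      rw [div_mul_cancel₀ _ (hφ.ne_zero 0)]
    · exact h
  have hW := Groth.Agent.S12603.result k K hK φ hφ τ s H hH J hJ Φ hΦ
  set W := FunFld.wDiv τ H Φ s φ J with hWdef
  -- key: the coefficient at a strong fixed point is at least `n`
  have hkey : ∀ P, FunFld.IsStrongFixedPt τ P → (n : ℤ) ≤ W P := by
    intro P hP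
    have hPfix : FunFld.IsFixedPt τ P := by
      intro z hz
      refine (hP z hz).trans_lt ?_
      rw [← WithZero.exp_zero, WithZero.exp_lt_exp]
      norm_num
    obtain ⟨t, ht⟩ := P.2.2 (WithZero.exp (-1 : ℤ))
    obtain ⟨Ht, hHt⟩ := exists_local_hasse hK s H hH P (Φ P) (hΦ P) t ht
    obtain ⟨i₀, hi₀⟩ := Finite.exists_max (fun i => P.1 (φ i))
    have hφ0 : ∀ i, φ i ≠ 0 := fun i => hφ.ne_zero i
    set y : K := (φ i₀)⁻¹ with hy
    have hy0 : y ≠ 0 := inv_ne_zero (hφ0 i₀)
    set φ' : Fin (n + 1) → K := y • φ with hφ'def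
    have hφ'A : ∀ i, φ' i = y * ∑ j, (1 : Matrix (Fin (n + 1)) (Fin (n + 1)) k) i j • φ j := by
      intro i
      simp [Matrix.one_apply, hφ'def]
    have hinv := Groth.Agent.S12614.result k K hK φ hφ τ s H hH t Ht hHt J hJ 1
      (by rw [Matrix.det_one]; exact one_ne_zero) y hy0 φ' hφ'A Φ hΦ
    rw [hWdef, ← hinv]
    have hnorm : ∀ i, P.1 (φ' i) ≤ 1 := by
      intro i
      change P.1 (y * φ i) ≤ 1
      rw [hy, map_mul, map_inv₀, inv_mul_le_iff₀ (zero_lt_iff.2 ((P.1.ne_zero_iff).2 (hφ0 i₀))),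
        mul_one]
      exact hi₀ i
    have hone : φ' i₀ = 1 := by
      change y * φ i₀ = 1
      rw [hy, inv_mul_cancel₀ (hφ0 i₀)]
    have heff : (1 : K) ∈ Submodule.span k (Set.range φ') :=
      Submodule.subset_span ⟨i₀, hone⟩
    have hunit : P.1 (φ' i₀) = 1 := by rw [hone, map_one]
    have hφ'li : LinearIndependent k φ' := by
      have hker : LinearMap.ker (LinearMap.mulLeft k y) = ⊥ := by
        rw [LinearMap.ker_eq_bot]
        intro a b hab
        exact mul_left_cancel₀ hy0 hab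
      exact hφ.map' (LinearMap.mulLeft k y) hker
    have hJt : FunFld.IsOrders K (FunFld.hcol τ Ht φ) J :=
      ((Groth.Agent.S12598.result k K hK φ hφ τ s H hH t Ht hHt).1 J).2 hJ
    have hJt' : FunFld.IsOrders K (FunFld.hcol τ Ht φ') J :=
      ((Groth.Agent.S12597.result k K hK φ hφ τ t Ht hHt y hy0).1 J).2 hJt
    have hτφ' : ¬ ∃ z : K, ∀ i, τ (φ' i) = z * φ' i := by
      rintro ⟨z, hz⟩
      apply hτφ
      have hτy : τ y ≠ 0 := fun h0 => hy0 ((map_eq_zero τ).1 h0)
      refine ⟨z * y / τ y, fun i => ?_⟩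
      have := hz i
      change τ (y * φ i) = z * (y * φ i) at this
      rw [map_mul] at this
      field_simp
      rw [mul_comm (τ (φ i)), this]
      ring
    obtain ⟨J', hJ'⟩ := exists_isOrders_hcolAt hK P φ' hφ'li hnorm i₀ hunit t ht Ht hHt
    have hpos : ∀ l, 0 < J' l := by
      intro l
      by_contra h
      have h0 : J' l = 0 := by omega
      have hj := (hJ'.2 0).1 ⟨l, h0⟩
      apply hj
      rw [zero_add, ← hcolAt_zero_eq_one P t φ' Ht hHt]
      exact Submodule.subset_span ⟨0, by simp, rfl⟩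
    have h606 := Groth.Agent.S12606.result k K hK τ P hP hn φ' hφ'li heff hnorm hτφ' t ht Ht hHt
      J hJt' J' hJ'
    have h615 := (Groth.Agent.S12615.result k K hK τ P hPfix φ' hφ'li heff hnorm t ht Ht hHt
      J hJt' J' hJ' Φ hΦ).1
    refine le_trans ?_ h615
    have hterm : ∀ l : Fin n, (1 : ℤ) ≤ (J' l : ℤ) - J l := by
      intro l
      have h1 := h606 l
      have h2 := hpos ⟨0, hn⟩
      omega
    calc (n : ℤ) = ∑ _l : Fin n, (1 : ℤ) := by simp
      _ ≤ ∑ l, ((J' l : ℤ) - J l) := Finset.sum_le_sum fun l _ => hterm l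
  -- counting
  have hsub : {P : FunFld.Place k K | FunFld.IsStrongFixedPt τ P} ⊆ (W.support : Set _) := by
    intro P hP
    rw [Finset.mem_coe, Finsupp.mem_support_iff]
    have := hkey P hP
    have hn' : (1 : ℤ) ≤ n := by exact_mod_cast hn
    omega
  have hfin : {P : FunFld.Place k K | FunFld.IsStrongFixedPt τ P}.Finite :=
    (W.support.finite_toSet).subset hsub
  refine ⟨hfin, ?_⟩
  rw [add_comm (n : ℤ) (Module.finrank τ.fieldRange K : ℤ), ← hW.2]
  have hdeg : W.deg = ∑ P ∈ W.support, W P := by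
    unfold FunFld.Divisor.deg Finsupp.sum
    refine Finset.sum_congr rfl fun P _ => ?_
    change W P * (P.deg : ℤ) = W P
    rw [Groth.Agent.H57.deg_eq_one_of_isAlgClosed hK P, Nat.cast_one, mul_one]
  rw [hdeg, Set.ncard_eq_toFinset_card _ hfin]
  have hsub' : hfin.toFinset ⊆ W.support := by
    intro P hP
    exact hsub ((Set.Finite.mem_toFinset hfin).1 hP)
  calc (n : ℤ) * (hfin.toFinset.card : ℤ) = ∑ _P ∈ hfin.toFinset, (n : ℤ) := by
        rw [Finset.sum_const, nsmul_eq_mul, mul_comm]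
    _ ≤ ∑ P ∈ hfin.toFinset, W P := Finset.sum_le_sum fun P hP =>
        hkey P ((Set.Finite.mem_toFinset hfin).1 hP)
    _ ≤ ∑ P ∈ W.support, W P := Finset.sum_le_sum_of_subset_of_nonneg hsub'
        (fun P _ _ => by have := hW.1 P; simpa using this)

end Groth.Agent.S12604
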