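import Groth.Statements.S11044
import Groth.Agent.H57.Gaps


set_option autoImplicit false
open FunFld

namespace Groth.Agent.S11044

/-- Over an algebraically closed constant field, if the genus `g` is positive and `D` has degree at
least `2g` or is canonical, then `ℓ(D - P) < ℓ(D)` for every place `P`; that is, `D` is the divisor
of the projective map given by `L(D)`. -/
theorem result
    (k K : Type*) [Field k] [IsAlgClosed k] [Field K] [Algebra k K]
    (hK : FunFld.IsFunctionField k K) (hg : 0 < FunFld.genus k K)
    (D : FunFld.Divisor k K)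
    (hD : 2 * (FunFld.genus k K : ℤ) ≤ D.deg ∨ FunFld.IsCanonical k K D) (P : FunFld.Place k K) :
    FunFld.ell (D - Finsupp.single P 1) < FunFld.ell D := by
  classical
  have hdegP := Groth.Agent.H57.deg_eq_one_of_isAlgClosed hK P
  have hdegsub : (D - Finsupp.single P 1).deg = D.deg - 1 := by
    rw [Groth.Agent.FF.deg_sub, Groth.Agent.FF.deg_single, hdegP]; simp
  rcases hD with hD | hD
  · have h1 := Groth.Agent.FF.ell_eq_of_deg_ge hK D (by linarith)
    have h2 := Groth.Agent.FF.ell_eq_of_deg_ge hK (D - Finsupp.single P 1) (by rw [hdegsub]; linarith)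
    rw [hdegsub] at h2
    have : (FunFld.ell (D - Finsupp.single P 1) : ℤ) < FunFld.ell D := by linarith
    exact_mod_cast this
  · -- `1` is a gap at `P` since the genus is positive
    have hgap1 : Groth.Agent.H57.IsGapAt P 1 := by
      by_contra hng
      have hall : ∀ m : ℕ, 1 ≤ m → ¬ Groth.Agent.H57.IsGapAt P m := by
        intro m hm
        induction m, hm using Nat.le_induction with
        | base => exact hng
        | succ m hm ih => exact Groth.Agent.H57.not_isGapAt_add P m 1 hm le_rfl ih hng
      have hcount := Groth.Agent.H57.gapCount_eq_genus hK P (2 * FunFld.genus k K - 1) le_rfl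
      have hzero : Groth.Agent.H57.gapCount (Groth.Agent.H57.IsGapAt P)
          (2 * FunFld.genus k K - 1) = 0 := by
        have := Groth.Agent.H57.gapCount_eq_of_no_gap (Groth.Agent.H57.IsGapAt P)
          (N := 0) (M := 2 * FunFld.genus k K - 1) (Nat.zero_le _)
          (fun m h1 _ => hall m h1)
        rw [this]
        unfold Groth.Agent.H57.gapCount
        simp
      omega
    have hellP : FunFld.ell (Finsupp.single P 1 : FunFld.Divisor k K) = 1 := by
      have := (Groth.Agent.H57.isGapAt_iff_ell_eq hK P 1).1 hgap1
      simp only [Nat.cast_one, sub_self, Finsupp.single_zero] at this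
      rw [this, Groth.Agent.FF.ell_zero hK]
    have hrr := Groth.Agent.FF.riemann_roch hK hD (D - Finsupp.single P 1)
    rw [hdegsub, Groth.Agent.FF.deg_canonical hK hD, sub_sub_cancel, hellP] at hrr
    have hell := Groth.Agent.FF.ell_canonical hK hD
    have : (FunFld.ell (D - Finsupp.single P 1) : ℤ) < FunFld.ell D := by
      rw [hell]; push_cast at hrr ⊢; linarith
    exact_mod_cast this

end Groth.Agent.S11044
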