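import Groth.Statements.S0481
-- import your own Groth.Agent.* helpers here

set_option autoImplicit false
universe v u
open CategoryTheory
open CohDer

namespace Groth.Agent.S0481

open CategoryTheory.Limits in
/-- Let u : A ⥤ B be right adjoint to an exact additive functor w : B ⥤ A between abelian categories.
Then u applied termwise sends K-injective complexes to K-injective complexes. -/
theorem result {A : Type u} [Category.{v} A] [Abelian A]
    {B : Type u} [Category.{v} B] [Abelian B] (u : A ⥤ B) (w : B ⥤ A) (adj : w ⊣ u)
    [u.Additive] [w.Additive] [PreservesFiniteLimits w] [PreservesFiniteColimits w]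
    (I : CochainComplex A ℤ) (h : I.IsKInjective) :
    CochainComplex.IsKInjective ((u.mapHomologicalComplex (ComplexShape.up ℤ)).obj I) := by
  refine ⟨fun {K} f hK => ?_⟩
  -- the adjoint chain map `w K ⟶ I`
  let g : (w.mapHomologicalComplex (ComplexShape.up ℤ)).obj K ⟶ I :=
    { f := fun n => (adj.homEquiv (K.X n) (I.X n)).symm (f.f n)
      comm' := fun i j _ => by
        show (adj.homEquiv (K.X i) (I.X i)).symm (f.f i) ≫ I.d i j =
          w.map (K.d i j) ≫ (adj.homEquiv (K.X j) (I.X j)).symm (f.f j)
        rw [← adj.homEquiv_naturality_left_symm, ← adj.homEquiv_naturality_right_symm]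
        congr 1
        exact (f.comm i j) }
  -- `w K` is acyclic
  have hwK : ((w.mapHomologicalComplex (ComplexShape.up ℤ)).obj K).Acyclic := by
    intro i
    have := hK i
    rw [HomologicalComplex.exactAt_iff] at this ⊢
    exact this.map w
  obtain ⟨H⟩ := h.nonempty_homotopy_zero g hwK
  -- the unit chain map `K ⟶ u (w K)`
  let η : K ⟶ (u.mapHomologicalComplex (ComplexShape.up ℤ)).obj
      ((w.mapHomologicalComplex (ComplexShape.up ℤ)).obj K) :=
    { f := fun n => adj.unit.app (K.X n)
      comm' := fun i j _ => by
        exact (adj.unit.naturality (K.d i j)).symm }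
  have key : ∀ {X : B} {Y : A} (φ : X ⟶ u.obj Y),
      φ = adj.unit.app X ≫ u.map ((adj.homEquiv X Y).symm φ) := by
    intro X Y φ
    have := adj.homEquiv_unit (X := X) (Y := Y) (f := (adj.homEquiv X Y).symm φ)
    rw [← this]
    simp
  have hf : f = η ≫ (u.mapHomologicalComplex (ComplexShape.up ℤ)).map g := by
    ext n
    exact key (X := K.X n) (Y := I.X n) (f.f n)
  have H' := (u.mapHomotopy H).compLeft η
  refine ⟨(Homotopy.ofEq hf).trans (H'.trans (Homotopy.ofEq ?_))⟩
  simp

end Groth.Agent.S0481
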