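import Groth.Statements.S0484
import Mathlib

set_option autoImplicit false
universe u
open CategoryTheory
open CohSite

namespace Groth.Agent.S0484

/-- For a sheaf of rings O on a small site, the category of O-modules has exact filtered colimits and a
generator, so it is a Grothendieck abelian category. -/
theorem result {C : Type u} [SmallCategory C] (J : GrothendieckTopology C)
    (R : Sheaf J RingCat.{u}) : IsGrothendieckAbelian.{u} (SheafOfModules.{u} R) := by
  let L := PresheafOfModules.sheafification.{u} (𝟙 R.obj)
  let G := SheafOfModules.forget.{u} R ⋙ PresheafOfModules.restrictScalars (𝟙 R.obj)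
  let adj : L ⊣ G := PresheafOfModules.sheafificationAdjunction (𝟙 R.obj)
  have hsep : ObjectProperty.IsSeparating (.ofObj (fun X : C =>
      L.obj ((yoneda ⋙ PresheafOfModules.free R.obj).obj X))) := by
    intro M N f g hfg
    refine G.map_injective (PresheafOfModules.freeYoneda.isSeparating R.obj _ _ ?_)
    rintro _ ⟨X⟩ a
    apply (adj.homEquiv _ _).symm.injective
    simpa only [← Adjunction.homEquiv_naturality_right_symm] using
      hfg _ (ObjectProperty.ofObj_apply _ X) ((adj.homEquiv _ _).symm a)
  have hsepr : HasSeparator (SheafOfModules.{u} R) := ⟨_, hsep.isSeparator_coproduct⟩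
  have ab5 : AB5OfSize.{u, u} (SheafOfModules.{u} R) := by
    refine ⟨fun Λ _ _ => ?_⟩
    have : HasExactColimitsOfShape Λ (Cᵒᵖ ⥤ AddCommGrpCat.{u}) := inferInstance
    have : Limits.PreservesFiniteLimits (PresheafOfModules.toPresheaf R.obj) := inferInstance
    have : Limits.PreservesColimitsOfShape Λ (PresheafOfModules.toPresheaf R.obj) := inferInstance
    have : (PresheafOfModules.toPresheaf R.obj).ReflectsIsomorphisms := inferInstance
    have : Limits.ReflectsFiniteLimits (PresheafOfModules.toPresheaf R.obj) :=
      ⟨fun K _ _ => Limits.reflectsLimitsOfShape_of_reflectsIsomorphisms⟩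
    have h1 : HasExactColimitsOfShape Λ (PresheafOfModules.{u} R.obj) :=
      HasExactColimitsOfShape.domain_of_functor Λ (PresheafOfModules.toPresheaf R.obj)
    have : Limits.PreservesFiniteLimits (PresheafOfModules.sheafification (𝟙 R.obj)) := inferInstance
    exact (PresheafOfModules.sheafificationAdjunction (𝟙 R.obj)).hasExactColimitsOfShape Λ
  exact { }

end Groth.Agent.S0484
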