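import Groth.Statements.S0861
import Groth.Agent.S0859
import Groth.Agent.Lib.Lead.FreeSheaf
import Groth.Agent.Lib.Helper4.FreeSheafSite

set_option autoImplicit false
universe u
open CategoryTheory
open CohSite

namespace Groth.Agent.S0861

open CategoryTheory.Limits in
/-- Let C be a site with fibre products, B a class of objects and Cov a class of covering families
(indexed families of objects over a member of B). Assume: (1) for a family in Cov over U, U and all
iterated fibre products U_{i_0} x_U ... x_U U_{i_p} lie in B; (2) every covering sieve of a member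
of B contains a family from Cov; (3) the abelian sheaf F has vanishing Cech cohomology in positive
degrees for every family in Cov. Then H^p(U, F) = 0 for all p > 0 and U in B. -/
theorem result {C : Type u} [SmallCategory C] [HasPullbacks C]
    (J : GrothendieckTopology C) (B : Set C) (Cov : ∀ (U : C) (ι : Type u), (ι → Over U) → Prop)
    (h1 : ∀ (U : C) (ι : Type u) (Y : ι → Over U), Cov U ι Y → U ∈ B ∧
      Sieve.ofArrows (fun i => (Y i).left) (fun i => (Y i).hom) ∈ J U ∧
      ∀ (p : ℕ) (a : Fin (p + 1) → ι), (∏ᶜ fun k => Y (a k)).left ∈ B)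
    (h2 : ∀ U ∈ B, ∀ T ∈ J U, ∃ (ι : Type u) (Y : ι → Over U), Cov U ι Y ∧ ∀ i, T.arrows (Y i).hom)
    (F : Sheaf J AddCommGrpCat.{u})
    (h3 : ∀ (U : C) (ι : Type u) (Y : ι → Over U), Cov U ι Y → ∀ p : ℕ, IsZero (CohCx.cechH F.obj Y (p + 1)))
    (U : C) (hU : U ∈ B) (p : ℕ) : Subsingleton (CohSite.HU F (p + 1) U) := by
  open Groth.Agent.Lib.Lead Groth.Agent.Lib.Helper4 Opposite in
  have key := ext_succ_eq_zero (Groth.Agent.Lib.Helper4.ZU J U)
    (fun G : Sheaf J AddCommGrpCat.{u} => ∀ (V : C) (ι : Type u) (Y : ι → Over V), Cov V ι Y →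
      ∀ p : ℕ, IsZero (CohCx.cechH G.obj Y (p + 1))) (fun G hG => by
    let S : ShortComplex (Sheaf J AddCommGrpCat.{u}) :=
      ShortComplex.mk (Injective.ι G) (cokernel.π (Injective.ι G)) (cokernel.condition _)
    have hS : S.ShortExact :=
      { exact := ShortComplex.exact_of_g_is_cokernel _ (cokernelIsCokernel S.f) }
    haveI hI : Injective S.X₂ := inferInstanceAs (Injective (Injective.under G))
    have hsurj : ∀ W ∈ B, Function.Surjective (S.g.hom.app (op W)) := by
      intro W hW
      refine Groth.Agent.S0859.result S hS W ?_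
      intro T hT
      obtain ⟨ι', Y', hcov, hT'⟩ := h2 W hW T hT
      exact ⟨ι', Y', hT', (h1 W ι' Y' hcov).2.1, hG W ι' Y' hcov 0⟩
    refine ⟨S, hS, rfl, hI, ?_, fun ψ => Groth.Agent.Lib.Helper4.ZU_lift U S.g (hsurj U hU) ψ⟩
    intro V ι Y hcov n
    refine sCech_shift_up Y S hS n ?_ (hG V ι Y hcov (n + 1))
      (isZero_sCechH_of_injective Y J S.X₂ n)
    intro x
    apply hsurj
    exact (h1 V ι Y hcov).2.2 (n + 1) x) p F h3
  exact subsingleton_of_forall_eq 0 key

end Groth.Agent.S0861
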