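import Groth.Statements.S0862
-- import your own Groth.Agent.* helpers here
import Groth.Agent.Lib.Helper4.CechColim
import Groth.Agent.Lib.Helper4.ExtFilteredColim
import Groth.Agent.Lib.Helper4.FreeSheafSite
import Groth.Agent.S0861

set_option autoImplicit false
universe u
open CategoryTheory
open CohSite

namespace Groth.Agent.S0862

open Opposite CategoryTheory.Limits Groth.Agent.Lib.Helper4 Groth.Agent.Lib.Helper4.ColimSections
  Groth.Agent.Lib.Helper4.CechColim Groth.Agent.Lib.Helper4.ExtFilteredColim Groth.Agent.Lib.Lead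
  CategoryTheory.Abelian

section

variable {C : Type u} [SmallCategory C] [HasPullbacks C]
    {J : GrothendieckTopology C} {B : Set C} {Cov : ∀ (U : C) (ι : Type u), (ι → Over U) → Prop}
    (h1 : ∀ (U : C) (ι : Type u) (Y : ι → Over U), Cov U ι Y → Finite ι ∧ U ∈ B ∧
      Sieve.ofArrows (fun i => (Y i).left) (fun i => (Y i).hom) ∈ J U ∧
      ∀ (p : ℕ) (a : Fin (p + 1) → ι), (∏ᶜ fun k => Y (a k)).left ∈ B)
    (h2 : ∀ U ∈ B, ∀ T ∈ J U, ∃ (ι : Type u) (Y : ι → Over U), Cov U ι Y ∧ ∀ i, T.arrows (Y i).hom)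

include h1 h2 in
lemma isQC_of_mem (U : C) (hU : U ∈ B) : IsQC J U := by
  intro T hT
  obtain ⟨ι, Y, hY, hYT⟩ := h2 U hU T hT
  obtain ⟨hfin, -, hcov, -⟩ := h1 U ι Y hY
  exact ⟨ι, hfin, Y, hYT, hcov⟩

/-- the pair family -/
def pairFam {ι : Type u} (i k : ι) : Fin 2 → ι := fun t => if t = 0 then i else k

include h1 h2 in
lemma hasQCOverlapCovers_of_mem (U : C) (hU : U ∈ B) : HasQCOverlapCovers J U := by
  intro T hT
  obtain ⟨ι, Y, hY, hYT⟩ := h2 U hU T hT
  obtain ⟨hfin, -, hcov, hprod⟩ := h1 U ι Y hY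
  refine ⟨ι, hfin, Y, hYT, hcov, fun i k => ?_⟩
  let a : Fin 2 → ι := pairFam i k
  let W : Over U := ∏ᶜ fun t => Y (a t)
  have hW : W.left ∈ B := hprod 1 a
  let p : W ⟶ Y i := Pi.π (fun t => Y (a t)) 0
  let q : W ⟶ Y k := Pi.π (fun t => Y (a t)) 1
  refine ⟨W.left, p.left, q.left, ?_, isQC_of_mem h1 h2 _ hW, ?_⟩
  · rw [Over.w p, Over.w q]
  · intro Z gi gk h
    let Z' : Over U := Over.mk (gi ≫ (Y i).hom)
    let fi : Z' ⟶ Y i := Over.homMk gi rfl
    let fk : Z' ⟶ Y k := Over.homMk gk h.symm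
    let f : ∀ t : Fin 2, Z' ⟶ Y (a t) := fun t =>
      match t with
      | 0 => fi
      | 1 => fk
    let l : Z' ⟶ W := Pi.lift f
    refine ⟨l.left, ?_, ?_⟩
    · have : l ≫ p = fi := Pi.lift_π f 0
      exact congrArg (fun φ => φ.left) this
    · have : l ≫ q = fk := Pi.lift_π f 1
      exact congrArg (fun φ => φ.left) this

end


open Opposite CategoryTheory.Limits in
/-- Let C be a site with fibre products, B a class of objects and Cov a class of finite covering
families such that (1) for a family in Cov over U, U and all iterated fibre products of its members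
lie in B, and (2) every covering sieve of a member of B contains a family from Cov. Then for every U
in B, every p and every filtered diagram of abelian sheaves, colim_i H^p(U, F_i) -> H^p(U, colim_i
F_i) is an isomorphism (phrased: H^p(U, -) preserves the colimit). -/
theorem result {C : Type u} [SmallCategory C] [HasPullbacks C]
    (J : GrothendieckTopology C) (B : Set C) (Cov : ∀ (U : C) (ι : Type u), (ι → Over U) → Prop)
    (h1 : ∀ (U : C) (ι : Type u) (Y : ι → Over U), Cov U ι Y → Finite ι ∧ U ∈ B ∧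
      Sieve.ofArrows (fun i => (Y i).left) (fun i => (Y i).hom) ∈ J U ∧
      ∀ (p : ℕ) (a : Fin (p + 1) → ι), (∏ᶜ fun k => Y (a k)).left ∈ B)
    (h2 : ∀ U ∈ B, ∀ T ∈ J U, ∃ (ι : Type u) (Y : ι → Over U), Cov U ι Y ∧ ∀ i, T.arrows (Y i).hom)
    (U : C) (hU : U ∈ B) (p : ℕ) (I : Type u) [SmallCategory I] [IsFiltered I]
    (F : I ⥤ Sheaf J AddCommGrpCat.{u}) :
    PreservesColimit F ((Sheaf.cohomologyPresheafFunctor J p).flip.obj (op U)) := by
  -- quasi-compactness facts
  have hqc : ∀ V ∈ B, IsQC J V := fun V hV => isQC_of_mem h1 h2 V hV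
  have hov : ∀ V ∈ B, HasQCOverlapCovers J V := fun V hV => hasQCOverlapCovers_of_mem h1 h2 V hV
  -- (A) colimits of injectives are acyclic on `B`
  have hacyc : ∀ (G : I ⥤ Sheaf J AddCommGrpCat.{u}), (∀ j, Injective (G.obj j)) → ∀ q : ℕ,
      Subsingleton (Ext (Lib.Helper4.ZU J U) (colimit G) (q + 1)) := by
    intro G hG q
    refine Groth.Agent.S0861.result J B Cov (fun V ι Y hY => ?_) h2 (colimit G)
      (fun V ι Y hY n => ?_) U hU q
    · obtain ⟨-, hV, hcov, hprod⟩ := h1 V ι Y hY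
      exact ⟨hV, hcov, hprod⟩
    · obtain ⟨hfin, hV, hcov, hprod⟩ := h1 V ι Y hY
      exact isZero_cechH_colimit G Y n (fun x => hov _ (hprod (n + 1) x))
        (fun x => hqc _ (hprod (n + 2) x))
        (fun j => isZero_sCechH_of_injective Y J (G.obj j) n)
  -- (B) degree zero
  have h0 : ∀ G : I ⥤ Sheaf J AddCommGrpCat.{u}, ColimProp (Lib.Helper4.ZU J U) 0 G := by
    intro G
    refine ⟨fun x => ?_, fun j y hy => ?_⟩
    · obtain ⟨φ, rfl⟩ := (Ext.mk₀_bijective _ _).surjective x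
      obtain ⟨j, s, hs⟩ := colimit_ι_surjective G U (hov U hU) (Lib.Helper4.ZUev U _ φ)
      obtain ⟨ψ, hψ⟩ := (Lib.Helper4.ZUev_bijective U (G.obj j)).2 s
      refine ⟨j, Ext.mk₀ ψ, ?_⟩
      rw [Ext.mk₀_comp_mk₀]
      congr 1
      apply (Lib.Helper4.ZUev_bijective U _).1
      rw [Lib.Helper4.ZUev_comp, hψ, hs]
    · obtain ⟨ψ, rfl⟩ := (Ext.mk₀_bijective _ _).surjective y
      rw [Ext.mk₀_comp_mk₀] at hy
      have hy' : ψ ≫ colimit.ι G j = 0 := by
        apply (Ext.mk₀_bijective _ _).injective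
        rw [hy, Ext.mk₀_zero]
      have hz : (colimit.ι G j).hom.app (op U) (Lib.Helper4.ZUev U _ ψ) = 0 := by
        rw [← Lib.Helper4.ZUev_comp, hy']
        unfold Lib.Helper4.ZUev
        rfl
      obtain ⟨j', a, ha⟩ := colimit_ι_eq_zero G U (hqc U hU) j _ hz
      refine ⟨j', a, ?_⟩
      rw [Ext.mk₀_comp_mk₀]
      have : ψ ≫ G.map a = 0 := by
        apply (Lib.Helper4.ZUev_bijective U _).1
        rw [Lib.Helper4.ZUev_comp, ha]
        unfold Lib.Helper4.ZUev
        rfl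
      rw [this, Ext.mk₀_zero]
  have hmain := colimProp_of_zero_of_acyclic (Lib.Helper4.ZU J U) h0 hacyc p F
  exact preservesColimit_extFunctorObj (Lib.Helper4.ZU J U) p F hmain

end Groth.Agent.S0862
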