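import Groth.Statements.S0468
-- import your own Groth.Agent.* helpers here
import Groth.Agent.S0862

set_option autoImplicit false
universe u
open CategoryTheory
open CohTop

namespace Groth.Agent.S0468

open TopologicalSpace Opposite CategoryTheory.Limits

section

variable {X : TopCat.{u}}

/-- the class of compact opens -/
def Bc (X : TopCat.{u}) : Set (Opens X) := {W | IsCompact (W : Set X)}

/-- finite covering families by compact opens of compact opens -/
def Covc (X : TopCat.{u}) (W : Opens X) (κ : Type u) (Y : κ → Over W) : Prop :=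
  Finite κ ∧ IsCompact (W : Set X) ∧
    Sieve.ofArrows (fun i => (Y i).left) (fun i => (Y i).hom) ∈ Opens.grothendieckTopology X W ∧
    ∀ i, IsCompact ((Y i).left : Set X)

lemma prod_left_eq {W : Opens X} {κ : Type u} (Y : κ → Over W) (n : ℕ) (a : Fin (n + 1) → κ) :
    ((∏ᶜ fun k => Y (a k)).left : Opens X) = ⨅ k, (Y (a k)).left := by
  apply le_antisymm
  · apply le_iInf
    intro k
    exact leOfHom (Pi.π (fun k => Y (a k)) k).left
  · let Z : Over W := Over.mk (homOfLE ((iInf_le _ 0).trans (leOfHom (Y (a 0)).hom)) :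
      (⨅ k, (Y (a k)).left) ⟶ W)
    let f : ∀ k, Z ⟶ Y (a k) := fun k => Over.homMk (homOfLE (iInf_le _ k)) (Subsingleton.elim _ _)
    exact leOfHom (Pi.lift f).left

lemma isCompact_iInf [QuasiSeparatedSpace X] (n : ℕ) (V : Fin (n + 1) → Opens X)
    (hV : ∀ k, IsCompact (V k : Set X)) : IsCompact ((⨅ k, V k : Opens X) : Set X) := by
  have h : ((⨅ k, V k : Opens X) : Set X) = ⋂₀ (Set.range fun k => (V k : Set X)) := by
    rw [Opens.coe_iInf, Set.sInter_range]
  rw [h]
  refine QuasiSeparatedSpace.isCompact_sInter_of_nonempty (Set.finite_range _)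
    (Set.range_nonempty _) ?_ ?_
  · rintro _ ⟨k, rfl⟩
    exact Or.inl (V k).isOpen
  · rintro _ ⟨k, rfl⟩
    exact hV k

end


open TopologicalSpace Opposite CategoryTheory.Limits in
/-- Let X be a space whose compact opens form a basis and are stable under pairwise intersections, U a
compact open and (F_i) a directed system of abelian sheaves. Then colim H^q(U, F_i) → H^q(U, colim
F_i) is an isomorphism; stated as: H^q(U, -) preserves colimits of shape ι for every nonempty
directed preorder ι. -/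
theorem result {X : TopCat.{u}} [PrespectralSpace X] [QuasiSeparatedSpace X]
    (U : Opens X) (hU : IsCompact (U : Set X))
    (ι : Type u) [Preorder ι] [IsDirected ι (· ≤ ·)] [Nonempty ι] (q : ℕ) :
    PreservesColimitsOfShape ι
      ((Sheaf.cohomologyPresheafFunctor (Opens.grothendieckTopology X) q).flip.obj (op U) :
        CohTop.Ab X ⥤ AddCommGrpCat.{u}) := by
  constructor
  intro F
  refine Groth.Agent.S0862.result (Opens.grothendieckTopology X) (Bc X) (Covc X) ?_ ?_ U hU q ι F
  · -- h1
    rintro W κ Y ⟨hfin, hW, hcov, hY⟩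
    refine ⟨hfin, hW, hcov, fun n a => ?_⟩
    change IsCompact (((∏ᶜ fun k => Y (a k)).left : Opens X) : Set X)
    rw [prod_left_eq Y n a]
    exact isCompact_iInf n _ (fun k => hY (a k))
  · -- h2
    intro W hW T hT
    rw [Opens.mem_grothendieckTopology] at hT
    choose V f hf hxV using hT
    have hK : ∀ (x : X) (hx : x ∈ W), ∃ K : Set X, IsCompact K ∧ IsOpen K ∧ {x} ⊆ K ∧
        K ⊆ (V x hx : Set X) := fun x hx =>
      PrespectralSpace.exists_isCompact_and_isOpen_between isCompact_singleton (V x hx).isOpen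
        (Set.singleton_subset_iff.2 (hxV x hx))
    choose K hKc hKo hxK hKV using hK
    obtain ⟨t, ht⟩ := IsCompact.elim_finite_subcover (ι := ↥W) hW (fun x => K x.1 x.2)
      (fun x => hKo x.1 x.2) (fun x hx => Set.mem_iUnion.2 ⟨⟨x, hx⟩, hxK x hx rfl⟩)
    have hKW : ∀ x : ↥W, (⟨K x.1 x.2, hKo x.1 x.2⟩ : Opens X) ≤ W := fun x y hy =>
      (leOfHom (f x.1 x.2)) (hKV x.1 x.2 hy)
    let Y : {x // x ∈ t} → Over W := fun x => Over.mk (homOfLE (hKW x.1))
    refine ⟨{x // x ∈ t}, Y, ⟨inferInstance, hW, ?_, fun x => hKc x.1.1 x.1.2⟩, fun x => ?_⟩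
    · rw [Opens.mem_grothendieckTopology]
      intro y hy
      obtain ⟨x, hxt, hyx⟩ : ∃ x ∈ t, y ∈ K x.1 x.2 := by
        have := ht hy
        simpa only [Set.mem_iUnion, exists_prop] using this
      exact ⟨(Y ⟨x, hxt⟩).left, (Y ⟨x, hxt⟩).hom, Sieve.ofArrows_mk _ _ (⟨x, hxt⟩ : {x // x ∈ t}), hyx⟩
    · have hle : (⟨K x.1.1 x.1.2, hKo x.1.1 x.1.2⟩ : Opens X) ≤ V x.1.1 x.1.2 :=
        fun y hy => hKV x.1.1 x.1.2 hy
      have h := T.downward_closed (hf x.1.1 x.1.2) (homOfLE hle)
      have e : homOfLE hle ≫ f x.1.1 x.1.2 = (Y x).hom := Subsingleton.elim _ _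
      rw [e] at h
      exact h

end Groth.Agent.S0468
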