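import Groth.Statements.S0864
import Mathlib.CategoryTheory.Sites.Adjunction

set_option autoImplicit false
universe u
open CategoryTheory

namespace Groth.Agent.S0864

open Abelian in
theorem subsingleton_ext_of_iso {A : Type*} [Category A] [Abelian A] [HasExt A]
    {X X' Y : A} (e : X' ≅ X) (n : ℕ) [h : Subsingleton (Ext X Y n)] :
    Subsingleton (Ext X' Y n) := by
  refine ⟨fun a b => ?_⟩
  have key : ∀ y : Ext X' Y n, y = 0 := by
    intro y
    have h0 : (Ext.mk₀ e.inv).comp y (zero_add n) = 0 := Subsingleton.elim _ _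
    have : y = (Ext.mk₀ e.hom).comp ((Ext.mk₀ e.inv).comp y (zero_add n)) (zero_add n) := by
      rw [Ext.mk₀_comp_mk₀_assoc, e.hom_inv_id, Ext.mk₀_id_comp]
    rw [this, h0, Ext.comp_zero]
  rw [key a, key b]

/-- A totally acyclic abelian sheaf F on a site satisfies H^p(U, F) = 0 for every object U and every p >
0. -/
theorem result {C : Type u} [SmallCategory C] {J : GrothendieckTopology C}
    (F : Sheaf J AddCommGrpCat.{u}) (hF : CohCx.IsTotallyAcyclic F) (U : C) (p : ℕ) :
    Subsingleton (CohSite.HU F (p + 1) U) := by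
  let K : Sheaf J (Type u) := (presheafToSheaf J (Type u)).obj (yoneda.obj U)
  have h1 : Subsingleton (Abelian.Ext ((presheafToSheaf J AddCommGrpCat.{u}).obj
    (K.obj ⋙ AddCommGrpCat.free.{u})) F (p + 1)) := hF K p
  have : J.PreservesSheafification AddCommGrpCat.free.{u} :=
    Sheaf.preservesSheafification_of_adjunction J AddCommGrpCat.adj
  have e : (presheafToSheaf J AddCommGrpCat.{u}).obj (K.obj ⋙ AddCommGrpCat.free.{u}) ≅
     (presheafToSheaf J AddCommGrpCat.{u}).obj (yoneda.obj U ⋙ AddCommGrpCat.free.{u}) :=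
    (presheafToSheafCompComposeAndSheafifyIso J AddCommGrpCat.free.{u}).app (yoneda.obj U)
  have h2 : Subsingleton (Abelian.Ext ((presheafToSheaf J AddCommGrpCat.{u}).obj
      (yoneda.obj U ⋙ AddCommGrpCat.free.{u})) F (p + 1)) :=
    subsingleton_ext_of_iso e.symm (p + 1)
  exact h2

end Groth.Agent.S0864
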