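import Groth.Statements.S0943
import Mathlib.CategoryTheory.Triangulated.Yoneda
import Mathlib.CategoryTheory.Triangulated.HomologicalFunctor
import Mathlib.Algebra.Homology.ShortComplex.Ab

set_option autoImplicit false
universe v' u' u
open CategoryTheory CategoryTheory.Limits Opposite
open CohSite
namespace Groth.Agent.S0943

section General

open Pretriangulated

variable {D : Type u'} [Category.{v'} D] [Preadditive D] [HasZeroObject D] [HasShift D ℤ]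
  [∀ n : ℤ, (shiftFunctor D n).Additive] [Pretriangulated D]

theorem milnor (Z : D) (K : ℕ → D) (t : ∀ n, K (n + 1) ⟶ K n) [HasProduct K]
    (L : D) (a : ∀ n, L ⟶ K n) (hL : CohCx.IsRlimVia K t L a) (m : ℤ) :
    (∀ x : ∀ n, Z ⟶ (K n)⟦m⟧, (∀ n, x (n + 1) ≫ (t n)⟦m⟧' = x n) →
      ∃ y : Z ⟶ L⟦m⟧, ∀ n, y ≫ (a n)⟦m⟧' = x n) ∧
    (CohCx.LimOneIsZero (fun n => Z ⟶ (K n)⟦m - 1⟧)
        (fun n => Preadditive.rightComp _ ((t n)⟦m - 1⟧')) →
      ∀ y : Z ⟶ L⟦m⟧, (∀ n, y ≫ (a n)⟦m⟧' = 0) → y = 0) := by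
  obtain ⟨c, hT⟩ := hL
  let f₁ : L ⟶ ∏ᶜ K := Pi.lift a
  let f₂ : ∏ᶜ K ⟶ ∏ᶜ K := Pi.lift fun n => Pi.π K n - Pi.π K (n + 1) ≫ t n
  let T := Triangle.mk f₁ f₂ c
  have hT : T ∈ distTriang D := hT
  let F := preadditiveCoyoneda.obj (op Z)
  have hlim : ∀ k : ℤ, IsLimit ((shiftFunctor D k).mapCone (limit.cone (Discrete.functor K))) :=
    fun k => isLimitOfPreserves (shiftFunctor D k) (limit.isLimit (Discrete.functor K))
  have hext : ∀ (k : ℤ) {f g : Z ⟶ (∏ᶜ K)⟦k⟧},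
      (∀ n, f ≫ (Pi.π K n)⟦k⟧' = g ≫ (Pi.π K n)⟦k⟧') → f = g := by
    intro k f g h
    exact (hlim k).hom_ext (fun ⟨n⟩ => h n)
  have hlift : ∀ (k : ℤ) (x : ∀ n, Z ⟶ (K n)⟦k⟧),
      ∃ w : Z ⟶ (∏ᶜ K)⟦k⟧, ∀ n, w ≫ (Pi.π K n)⟦k⟧' = x n := by
    intro k x
    let s : Cone (Discrete.functor K ⋙ shiftFunctor D k) :=
      { pt := Z, π := Discrete.natTrans fun ⟨n⟩ => x n }
    exact ⟨(hlim k).lift s, fun n => (hlim k).fac s ⟨n⟩⟩
  have hmor₁ : ∀ n, f₁ ≫ Pi.π K n = a n := fun n => Pi.lift_π _ _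
  have hmor₂ : ∀ n, f₂ ≫ Pi.π K n = Pi.π K n - Pi.π K (n + 1) ≫ t n := fun n => Pi.lift_π _ _
  have hcomp₂ : ∀ (k : ℤ) (w : Z ⟶ (∏ᶜ K)⟦k⟧) (n : ℕ),
      (w ≫ f₂⟦k⟧') ≫ (Pi.π K n)⟦k⟧' =
        w ≫ (Pi.π K n)⟦k⟧' - (w ≫ (Pi.π K (n + 1))⟦k⟧') ≫ (t n)⟦k⟧' := by
    intro k w n
    rw [Category.assoc, ← Functor.map_comp, hmor₂, Functor.map_sub, Functor.map_comp,
      Preadditive.comp_sub, Category.assoc]
  constructor
  · intro x hx
    obtain ⟨w, hw⟩ := hlift m x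
    have hw0 : w ≫ f₂⟦m⟧' = 0 := by
      apply hext m
      intro n
      rw [hcomp₂, hw, hw, hx, sub_self, zero_comp]
    have hex' : ∀ w : Z ⟶ (∏ᶜ K)⟦m⟧, w ≫ f₂⟦m⟧' = 0 → ∃ y : Z ⟶ L⟦m⟧, y ≫ f₁⟦m⟧' = w := by
      have hex := F.homologySequence_exact₂ T hT m
      rw [ShortComplex.ab_exact_iff] at hex
      exact fun w hw => hex w hw
    obtain ⟨y, hy'⟩ := hex' w hw0
    refine ⟨y, fun n => ?_⟩
    rw [← hw n, ← hy', Category.assoc, ← Functor.map_comp, hmor₁]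
  · intro hlim1 y hy
    have hy0 : y ≫ f₁⟦m⟧' = 0 := by
      apply hext m
      intro n
      rw [Category.assoc, ← Functor.map_comp, hmor₁, hy, zero_comp]
    have hex' : ∀ y : Z ⟶ L⟦m⟧, y ≫ f₁⟦m⟧' = 0 → ∃ g : Z ⟶ (∏ᶜ K)⟦m - 1⟧,
        (F.homologySequenceδ T (m - 1) m (by lia)) g = y := by
      have hex := F.homologySequence_exact₁ T hT (m - 1) m (by lia)
      rw [ShortComplex.ab_exact_iff] at hex
      exact fun y hy => hex y hy
    obtain ⟨g, hg'⟩ := hex' y hy0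
    -- components of g
    obtain ⟨w', hw'⟩ := hlim1 (fun n => g ≫ (Pi.π K n)⟦m - 1⟧')
    obtain ⟨w, hw⟩ := hlift (m - 1) w'
    have hgw : g = w ≫ f₂⟦m - 1⟧' := by
      apply hext (m - 1)
      intro n
      rw [hcomp₂, hw, hw]
      exact (congrFun hw' n).symm
    rw [← hg', hgw]
    have := F.comp_homologySequenceδ T hT (m - 1) m (by lia)
    exact ConcreteCategory.congr_hom this w

end General

open CategoryTheory.Limits in
/-- Abelian sheaves; the short exact sequence 0 -> R^1 lim H^{m-1}(U, K_n) -> H^m(U, R lim K_n) -> lim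
H^m(U, K_n) -> 0 rendered by two consequences: let (K_n) be an inverse system in the derived
category of abelian sheaves on a site with a derived limit L through maps a_n : L -> K_n, U an
object and m an integer. Then every compatible family of classes in the H^m(U, K_n) lifts to H^m(U,
L), and if the system H^{m-1}(U, K_n) has vanishing R^1 lim the lift is unique (a class with zero
images is zero). -/
theorem result {C : Type u} [SmallCategory C] {J : GrothendieckTopology C}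
    [HasDerivedCategory.{u} (Sheaf J AddCommGrpCat.{u})]
    (K : ℕ → DerivedCategory (Sheaf J AddCommGrpCat.{u})) (t : ∀ n, K (n + 1) ⟶ K n) [HasProduct K]
    (L : DerivedCategory (Sheaf J AddCommGrpCat.{u})) (a : ∀ n, L ⟶ K n) (hL : CohCx.IsRlimVia K t L a)
    (U : C) (m : ℤ) :
    (∀ x : ∀ n, CohCx.HDU (K n) m U,
      (∀ n, x (n + 1) ≫ (shiftFunctor _ m).map (t n) = x n) →
      ∃ y : CohCx.HDU L m U, ∀ n, y ≫ (shiftFunctor _ m).map (a n) = x n) ∧
    (CohCx.LimOneIsZero (fun n => CohCx.HDU (K n) (m - 1) U)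
        (fun n => Preadditive.rightComp _ ((shiftFunctor _ (m - 1)).map (t n))) →
      ∀ y : CohCx.HDU L m U, (∀ n, y ≫ (shiftFunctor _ m).map (a n) = 0) → y = 0) := by
  exact milnor ((DerivedCategory.singleFunctor (Sheaf J AddCommGrpCat.{u}) 0).obj (CohCx.freeSheaf J U))
    K t L a hL m

end Groth.Agent.S0943
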