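import Groth.Statements.S0880
import Groth.Agent.Lib.Helper83.SheafHDInj
import Groth.Agent.S0943
-- import your own Groth.Agent.* helpers here

set_option autoImplicit false
universe u
open CategoryTheory
open CohSite

namespace Groth.Agent.S0880
lemma a_succ {T : Type*} [Category T] [Preadditive T] [Limits.HasZeroObject T] [HasShift T ℤ]
    [∀ n : ℤ, (shiftFunctor T n).Additive] [Pretriangulated T]
    (K : ℕ → T) (t : ∀ n, K (n + 1) ⟶ K n) [Limits.HasProduct K] (L : T) (a : ∀ n, L ⟶ K n)
    (hL : CohCx.IsRlimVia K t L a) (n : ℕ) : a (n + 1) ≫ t n = a n := by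
  obtain ⟨c, hc⟩ := hL
  have h1 : Limits.Pi.lift a ≫
      (Limits.Pi.lift fun n => Limits.Pi.π K n - Limits.Pi.π K (n + 1) ≫ t n) = 0 :=
    Pretriangulated.comp_distTriang_mor_zero₁₂ _ hc
  have h2 := h1 =≫ Limits.Pi.π K n
  simp only [Category.assoc, Limits.Pi.lift_π, Preadditive.comp_sub,
    Limits.Pi.lift_π_assoc] at h2
  rw [Limits.zero_comp] at h2
  exact (sub_eq_zero.1 h2).symm

lemma a_transition {T : Type*} [Category T] [Preadditive T] [Limits.HasZeroObject T] [HasShift T ℤ]
    [∀ n : ℤ, (shiftFunctor T n).Additive] [Pretriangulated T]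
    (K : ℕ → T) (t : ∀ n, K (n + 1) ⟶ K n) [Limits.HasProduct K] (L : T) (a : ∀ n, L ⟶ K n)
    (hL : CohCx.IsRlimVia K t L a) (n k : ℕ) : a (n + k) ≫ CohCx.transition K t n k = a n := by
  induction k with
  | zero => exact Category.comp_id _
  | succ k ih =>
    change a (n + k + 1) ≫ t (n + k) ≫ CohCx.transition K t n k = a n
    rw [← Category.assoc, a_succ K t L a hL, ih]

open Opposite CategoryTheory.Limits in
/-- Let (K_n) be an inverse system in the derived category of abelian sheaves on a site with derived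
limit L through maps a_n : L -> K_n, V an object and m an integer. Suppose there is an index n(V)
such that every covering sieve of V contains a covering family {V_i -> V} with, for each i, (1)
vanishing R^1 lim of the system H^{m-1}(V_i, K_n) and (2) H^m(V_i, K_n) -> H^m(V_i, K_{n(V)})
injective for n >= n(V). Then H^m(L)(V) -> H^m(K_{n(V)})(V) is injective. -/
theorem result {C : Type u} [SmallCategory C]
    {J : GrothendieckTopology C} [HasDerivedCategory.{u} (Sheaf J AddCommGrpCat.{u})]
    (K : ℕ → DerivedCategory (Sheaf J AddCommGrpCat.{u})) (t : ∀ n, K (n + 1) ⟶ K n) [HasProduct K]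
    (L : DerivedCategory (Sheaf J AddCommGrpCat.{u})) (a : ∀ n, L ⟶ K n) (hL : CohCx.IsRlimVia K t L a)
    (V : C) (m : ℤ) (nV : ℕ)
    (h : ∀ T ∈ J V, ∃ (ι : Type u) (Y : ι → C) (f : ∀ i, Y i ⟶ V), (∀ i, T.arrows (f i)) ∧
      Sieve.ofArrows Y f ∈ J V ∧ ∀ i,
        CohCx.LimOneIsZero (fun n => CohCx.HDU (K n) (m - 1) (Y i))
          (fun n => Preadditive.rightComp _ ((shiftFunctor _ (m - 1)).map (t n))) ∧
        ∀ k : ℕ, Function.Injective
          (Preadditive.rightComp _ ((shiftFunctor _ m).map (CohCx.transition K t nV k)) :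
            CohCx.HDU (K (nV + k)) m (Y i) → CohCx.HDU (K nV) m (Y i))) :
    Function.Injective (((DerivedCategory.homologyFunctor _ m).map (a nV)).hom.app (op V)) := by

  -- reduce to `H^0` of the shifted objects
  let A := Sheaf J AddCommGrpCat.{u}
  let sm := shiftFunctor (DerivedCategory A) m
  let σ := (DerivedCategory.homologyFunctor A 0).shiftIso m 0 m (by simp)
  have hcore : Function.Injective (((DerivedCategory.homologyFunctor A 0).map (sm.map (a nV))).hom.app
      (op V)) := by
    apply Groth.Agent.Lib.Helper83.SheafHDInj.injective_H0_app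
    intro T hT
    obtain ⟨ι, Y, f, hfT, hcov, hprop⟩ := h T hT
    refine ⟨ι, Y, f, hfT, hcov, fun i y hy => ?_⟩
    obtain ⟨hlim, hinj⟩ := hprop i
    refine (Groth.Agent.S0943.result K t L a hL (Y i) m).2 hlim y (fun n => ?_)
    by_cases hn : nV ≤ n
    · obtain ⟨k, rfl⟩ := Nat.exists_eq_add_of_le hn
      apply hinj k
      change (y ≫ sm.map (a (nV + k))) ≫ sm.map (CohCx.transition K t nV k) =
        (0 : _ ⟶ sm.obj (K (nV + k))) ≫ sm.map (CohCx.transition K t nV k)
      rw [Category.assoc, ← Functor.map_comp, a_transition K t L a hL, Limits.zero_comp]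
      exact hy
    · obtain ⟨k, rfl⟩ := Nat.exists_eq_add_of_le (Nat.le_of_not_le hn)
      rw [← a_transition K t L a hL n k, Functor.map_comp, ← Category.assoc]
      change (y ≫ sm.map (a (n + k))) ≫ _ = 0
      rw [hy, Limits.zero_comp]
  intro s₁ s₂ hs
  have hnat : ∀ s : (CohCx.HD L m).obj.obj (op V),
      ((DerivedCategory.homologyFunctor A 0).map (sm.map (a nV))).hom.app (op V)
        ((σ.inv.app L).hom.app (op V) s) =
      (σ.inv.app (K nV)).hom.app (op V)
        (((DerivedCategory.homologyFunctor A m).map (a nV)).hom.app (op V) s) := by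
    intro s
    have h1 := σ.inv.naturality (a nV)
    have h2 := congrArg (fun φ => φ.hom.app (op V) s) h1
    exact h2.symm
  have h3 : (σ.inv.app L).hom.app (op V) s₁ = (σ.inv.app L).hom.app (op V) s₂ :=
    hcore ((hnat s₁).trans ((congrArg _ hs).trans (hnat s₂).symm))
  have h4 : ∀ s : (CohCx.HD L m).obj.obj (op V),
      (σ.hom.app L).hom.app (op V) ((σ.inv.app L).hom.app (op V) s) = s := by
    intro s
    have h5 := congrArg (fun φ => φ.hom.app (op V) s) (σ.inv_hom_id_app L)
    exact h5
  rw [← h4 s₁, ← h4 s₂, h3]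
end Groth.Agent.S0880
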