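import Groth.Statements.S9047
import Groth.Agent.S0862
import Groth.Agent.S0484
import Groth.Agent.Lib.Helper83.ExtCoprod
import Groth.Agent.Lib.Helper83.SingleLift
import Groth.Agent.Lib.Helper30.ModSAFT
import Groth.Agent.Lib.Helper74.ModTrunc.ModTower
import Groth.Agent.Lib.Helper74.ModQc.FreeOnCompact

set_option autoImplicit false
universe u
open CategoryTheory CategoryTheory.Limits Opposite
open ModSite

namespace Groth.Agent.S9047.Aux

open CategoryTheory CategoryTheory.Limits Opposite Abelian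
open Groth.Agent.Lib.Helper83.ExtAcyc Groth.Agent.Lib.Helper83.CoprodDecomp
open Groth.Agent.Lib.Helper83.ExtCoprod

variable {C : Type u} [SmallCategory C] [HasPullbacks C] {J : GrothendieckTopology C}
  (B : Set C) (Cov : ∀ (U : C) (ι : Type u), (ι → Over U) → Prop)
  (h1 : ∀ (U : C) (ι : Type u) (Y : ι → Over U), Cov U ι Y → Finite ι ∧ U ∈ B ∧
    Sieve.ofArrows (fun i => (Y i).left) (fun i => (Y i).hom) ∈ J U ∧
    ∀ (p : ℕ) (a : Fin (p + 1) → ι), (∏ᶜ fun k => Y (a k)).left ∈ B)
  (h2 : ∀ U ∈ B, ∀ T ∈ J U, ∃ (ι : Type u) (Y : ι → Over U), Cov U ι Y ∧ ∀ i, T.arrows (Y i).hom)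

include h1 h2 in
/-- members of `B` are quasi-compact -/
lemma isQCSite_of_mem {U : C} (hU : U ∈ B) : ToposFin.IsQCSite J U := by
  intro S hS
  obtain ⟨ι, Y, hY, hYS⟩ := h2 U hU S hS
  obtain ⟨hfin, -, hcov, -⟩ := h1 U ι Y hY
  obtain ⟨n, ⟨e⟩⟩ := Finite.exists_equiv_fin ι
  refine ⟨n, fun k => (Y (e.symm k)).left, fun k => (Y (e.symm k)).hom, fun k => hYS _, ?_⟩
  refine J.superset_covering ?_ hcov
  rintro W f ⟨Z, c, _, ⟨i⟩, rfl⟩
  obtain ⟨k, rfl⟩ : ∃ k, i = e.symm k := ⟨e i, (e.symm_apply_apply i).symm⟩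
  exact ⟨_, c, _, Presieve.ofArrows.mk k, rfl⟩

include h1 h2 in
/-- the cohomology over a member of `B` of a coproduct of abelian sheaves vanishes when that of
the summands does -/
lemma subsingleton_HU_sigma {U : C} (hU : U ∈ B) {I : Type u}
    (A : I → Sheaf J AddCommGrpCat.{u}) (p : ℕ)
    (hA : ∀ i, Subsingleton (CohSite.HU (A i) p U)) : Subsingleton (CohSite.HU (∐ A) p U) := by
  let G : Sheaf J AddCommGrpCat.{u} ⥤ AddCommGrpCat.{u} :=
    (Sheaf.cohomologyPresheafFunctor J p).flip.obj (op U)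
  have hadd : G.Additive :=
    inferInstanceAs (Abelian.extFunctorObj (CohCx.freeSheaf J U) p).Additive
  let D := CoproductsFromFiniteFiltered.liftToFinsetObj (Discrete.functor A)
  have hc := CoproductsFromFiniteFiltered.isColimitFiniteSubproductsCocone A
  have hp : PreservesColimit D G :=
    Groth.Agent.S0862.result J B Cov h1 h2 U hU p (Finset (Discrete I)) D
  have hc' := isColimitOfPreserves G hc
  have hz : ∀ S : Finset (Discrete I), IsZero (G.obj (D.obj S)) := by
    intro S
    have hcS : IsColimit (Cofan.mk (G.obj (∐ fun x : ↥S => (Discrete.functor A).obj x.1))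
        (fun x => G.map (Sigma.ι (fun x : ↥S => (Discrete.functor A).obj x.1) x))) :=
      isColimitMapCoconeCofanMkEquiv _ _ _
        (isColimitOfPreserves G (coproductIsCoproduct _))
    refine isZero_pt_of_isColimit _ hcS (fun x => ?_)
    have : Subsingleton (G.obj ((Discrete.functor A).obj x.1)) := hA x.1.as
    exact AddCommGrpCat.isZero_of_subsingleton _
  have hzero : IsZero (G.obj (∐ A)) := by
    rw [IsZero.iff_id_eq_zero]
    apply hc'.hom_ext
    intro S
    exact (hz S).eq_of_src _ _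
  exact AddCommGrpCat.subsingleton_of_isZero hzero

variable (O : Sheaf J CommRingCat.{u})

include h1 h2 in
/-- coproducts of injective modules are acyclic for `Ext(freeOn O U, -)`, `U ∈ B` -/
lemma EA_sigma_injective [HasExt.{u} (ModSite.Mod O)] {U : C} (hU : U ∈ B) {I : Type u}
    (X : I → ModSite.Mod O) (hX : ∀ i, Injective (X i)) :
    EA.{u} (ModSite.freeOn O U) (∐ X) := by
  intro p hp x
  obtain ⟨q, rfl⟩ : ∃ q, p = q + 1 := ⟨p - 1, by omega⟩
  have hsub : Subsingleton (Ext (ModSite.freeOn O U) (∐ X) (q + 1)) := by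
    apply Groth.Agent.Lib.Helper74.ModTrunc.subsingleton_ext_freeOn
    let T := SheafOfModules.toSheaf (ModSite.ringSh O)
    let e : T.obj (∐ X) ≅ ∐ fun i => T.obj (X i) := PreservesCoproduct.iso T X
    have h := subsingleton_HU_sigma B Cov h1 h2 hU (fun i => T.obj (X i)) (q + 1) (fun i => by
      have := hX i
      exact Groth.Agent.S0864.result _
        (Groth.Agent.Lib.Helper83.ModAcyclic.isTotallyAcyclic_toSheaf_of_injective
          (ModSite.ringSh O) (X i)) U q)
    let G : Sheaf J AddCommGrpCat.{u} ⥤ AddCommGrpCat.{u} :=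
      (Sheaf.cohomologyPresheafFunctor J (q + 1)).flip.obj (op U)
    have hiso : G.obj (T.obj (∐ X)) ≅ G.obj (∐ fun i => T.obj (X i)) := G.mapIso e
    have h' : Subsingleton (G.obj (∐ fun i => T.obj (X i))) := h
    have : Subsingleton (G.obj (T.obj (∐ X))) :=
      hiso.addCommGroupIsoToAddEquiv.injective.subsingleton
    exact this
  exact Subsingleton.elim _ _

end Groth.Agent.S9047.Aux

namespace Groth.Agent.S9047

/-- Let (C, O) be a ringed site with fibre products, B a class of objects and Cov a class of finite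
covering families such that (1) for a family in Cov over U, U and all iterated fibre products of its
members lie in B, and (2) every covering sieve of a member of B contains a family from Cov. Then for
U in B the module j_{U!} O_U behaves as a compact object of D^+(O), meaning: for every family (M_i)
of objects of D(O) which is uniformly bounded below and whose direct sum exists, ⊕_i Hom(j_{U!} O_U,
M_i) → Hom(j_{U!} O_U, ⊕_i M_i) is bijective. The derived category of O-modules is an instance
hypothesis. -/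
theorem result
    {C : Type u} [SmallCategory C] [HasPullbacks C] {J : GrothendieckTopology C} (O : Sheaf J CommRingCat.{u})
    (B : Set C) (Cov : ∀ (U : C) (ι : Type u), (ι → Over U) → Prop)
    (h1 : ∀ (U : C) (ι : Type u) (Y : ι → Over U), Cov U ι Y → Finite ι ∧ U ∈ B ∧
      Sieve.ofArrows (fun i => (Y i).left) (fun i => (Y i).hom) ∈ J U ∧
      ∀ (p : ℕ) (a : Fin (p + 1) → ι), (∏ᶜ fun k => Y (a k)).left ∈ B)
    (h2 : ∀ U ∈ B, ∀ T ∈ J U, ∃ (ι : Type u) (Y : ι → Over U), Cov U ι Y ∧ ∀ i, T.arrows (Y i).hom)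
    [HasDerivedCategory.{u} (ModSite.Mod O)]
    (U : C) (hU : U ∈ B) {I : Type u} (M : I → DerivedCategory (ModSite.Mod O)) [HasCoproduct M]
    (a : ℤ) (hM : ∀ i, (M i).IsGE a) :
    Function.Bijective (CohDer.homSumToHomCoprod
      ((DerivedCategory.singleFunctor (ModSite.Mod O) 0).obj (ModSite.freeOn O U)) M) := by
  classical
  have hGA : IsGrothendieckAbelian.{u} (ModSite.Mod O) :=
    Groth.Agent.S0484.result J (ModSite.ringSh O)
  have hfb : HasFiniteBiproducts (ModSite.Mod O) := HasFiniteBiproducts.of_hasFiniteProducts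
  have hex : HasExactColimitsOfShape (Discrete I) (ModSite.Mod O) :=
    hasExactColimitsOfShape_discrete_of_hasExactColimitsOfShape_finset_discrete
      (ModSite.Mod O) I
  -- models by bounded below complexes of injectives
  have hmod : ∀ i, ∃ (L : CochainComplex (ModSite.Mod O) ℤ), L.IsStrictlyGE a ∧
      (∀ n, Injective (L.X n)) ∧ Nonempty (DerivedCategory.Q.obj L ≅ M i) := by
    intro i
    have := hM i
    obtain ⟨L₀, hL₀, ⟨e⟩⟩ := (M i).exists_iso_Q_obj_of_isGE a
    obtain ⟨L, j, h1', h2', h3'⟩ :=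
      CochainComplex.Plus.modelCategoryQuillen.exists_quasiIso_injective L₀ a
    exact ⟨L, h3', h2', ⟨(e ≪≫ asIso (DerivedCategory.Q.map j)).symm⟩⟩
  choose L hLa hLinj hLe using hmod
  let e : ∀ i, DerivedCategory.Q.obj (L i) ≅ M i := fun i => (hLe i).some
  -- `freeOn O U` is quasi-compact
  have hqc : ToposFin.IsQCSite J U := Groth.Agent.S9047.Aux.isQCSite_of_mem B Cov h1 h2 hU
  have hprA : ∀ (Y : I → ModSite.Mod O) (j : I),
      Groth.Agent.Lib.Helper83.CoprodDecomp.prA Y j =
        Groth.Agent.Lib.Helper74.ModQc.prj Y j := by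
    intro Y j
    apply Sigma.hom_ext
    intro i
    by_cases hij : i = j
    · subst hij
      rw [Groth.Agent.Lib.Helper83.CoprodDecomp.ι_prA_self,
        Groth.Agent.Lib.Helper74.ModQc.ι_prj_self]
    · rw [Groth.Agent.Lib.Helper83.CoprodDecomp.ι_prA_ne Y hij,
        Groth.Agent.Lib.Helper74.ModQc.ι_prj_ne Y hij]
  have hS : Groth.Agent.Lib.Helper83.CoprodDecomp.DecompObj I (ModSite.freeOn O U) := by
    intro Y g
    obtain ⟨T, hT⟩ := Groth.Agent.Lib.Helper74.ModQc.exists_finset_decomp hqc Y g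
    refine ⟨T, ?_⟩
    simp only [hprA]
    exact hT
  have hEA : ∀ k, Groth.Agent.Lib.Helper83.ExtAcyc.EA (ModSite.freeOn O U)
      ((Groth.Agent.Lib.Helper32.DCoprod.sigmaCx L).X k) := fun k =>
    Groth.Agent.S9047.Aux.EA_sigma_injective B Cov h1 h2 O hU (fun i => (L i).X k)
      (fun i => hLinj i k)
  have hGE : (Groth.Agent.Lib.Helper32.DCoprod.sigmaCx L).IsStrictlyGE a := by
    rw [CochainComplex.isStrictlyGE_iff]
    intro k hk
    rw [IsZero.iff_id_eq_zero]
    apply Limits.Sigma.hom_ext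
    intro i
    exact ((L i).isZero_of_isStrictlyGE a k hk).eq_of_src _ _
  have h0 := Groth.Agent.Lib.Helper83.CoprodDecomp.finSum_cofanQ_single hS L
    (fun φ => Groth.Agent.Lib.Helper83.SingleLift.exists_qm_eq_of_EA _ _ a hEA φ)
  have h1' := Groth.Agent.Lib.Helper74.ModQc.FinSum.of_iso e
    (Groth.Agent.Lib.Helper32.DCoprod.cofanQ L) h0
  have h2' := Groth.Agent.Lib.Helper74.ModQc.FinSum.of_isColimit
    (Groth.Agent.Lib.Helper74.ModQc.isColimitCofanOfIso e
      (Groth.Agent.Lib.Helper32.DCoprod.cofanQ L)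
      (Groth.Agent.Lib.Helper32.DCoprod.isColimitCofanQ L))
    (coproductIsCoproduct M) h1'
  exact Groth.Agent.Lib.Helper74.ModQc.homSumToHomCoprod_bijective_of_finSum _ M h2'

end Groth.Agent.S9047
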