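import Groth.Statements.S6152
import Mathlib

set_option autoImplicit false
universe u
open CategoryTheory
open ModSite

namespace Groth.Agent.S6152


section Helpers
open Opposite

variable {C : Type u} [SmallCategory C] {J : GrothendieckTopology C}

/-- the section of `F|_Y` given by `t ∈ F(Y)` -/
noncomputable def sectionOfElem (O : Sheaf J CommRingCat.{u}) (Y : C) (F : ModSite.Mod O)
    (t : F.val.obj (op Y)) : ((ModSite.restr O Y).obj F).sections :=
  PresheafOfModules.sectionsMk (fun W => F.val.map (W.unop.hom).op t) (by
    intro W W' g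
    show F.val.map g.unop.left.op (F.val.map W.unop.hom.op t) = F.val.map W'.unop.hom.op t
    rw [← PresheafOfModules.map_comp_apply]
    apply PresheafOfModules.congr_map_apply
    rw [← op_comp, Over.w])

lemma app_eq_of_comp_eq (O : Sheaf J CommRingCat.{u}) (Y : C) {F F' : ModSite.Mod O} (f g : F ⟶ F')
    (H : ∀ h : ModSite.freeOn O Y ⟶ F, h ≫ f = h ≫ g) (t : F.val.obj (op Y)) :
    f.val.app (op Y) t = g.val.app (op Y) t := by
  let σ := sectionOfElem O Y F t
  let h' : SheafOfModules.unit _ ⟶ (ModSite.restr O Y).obj F :=
    ((ModSite.restr O Y).obj F).unitHomEquiv.symm σ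
  let h : ModSite.freeOn O Y ⟶ F := ((ModSite.extZeroAdj O Y).homEquiv _ _).symm h'
  have h1 := H h
  have h2 : h' ≫ (ModSite.restr O Y).map f = h' ≫ (ModSite.restr O Y).map g := by
    have := congrArg ((ModSite.extZeroAdj O Y).homEquiv _ _) h1
    rw [Adjunction.homEquiv_naturality_right, Adjunction.homEquiv_naturality_right] at this
    simpa [h] using this
  rw [SheafOfModules.unitHomEquiv_symm_comp, SheafOfModules.unitHomEquiv_symm_comp] at h2
  have h3 := (Equiv.injective _ h2)
  have h4 := congrArg (fun s => s.val (op (Over.mk (𝟙 Y)))) h3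
  have ht : F.val.map (𝟙 Y).op t = t := by
    have e : F.val.map (𝟙 Y).op t = F.val.map (𝟙 (op Y)) t :=
      PresheafOfModules.congr_map_apply F.val op_id t
    rw [e, PresheafOfModules.map_id]
    rfl
  have h5 : f.val.app (op Y) (F.val.map (𝟙 Y).op t) = g.val.app (op Y) (F.val.map (𝟙 Y).op t) := h4
  rwa [ht] at h5

end Helpers

/-- Second assertion (ringed topos of sheaves on a small site (C, J) with commutative structure sheaf
O): if G is a topologically generating family of objects (every object of C admits a covering family
by members of G), then the free O-modules A_X = j_{X!}(O|X), X in G, form a generating family of the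
category of O-modules; stated as: this family detects isomorphisms and is separating. -/
theorem result {C : Type u} [SmallCategory C] {J : GrothendieckTopology C}
    (O : Sheaf J CommRingCat.{u}) (G : Set C)
    (hG : ∀ X : C, ∃ (ι : Type u) (Y : ι → C) (f : ∀ i, Y i ⟶ X), Sieve.ofArrows Y f ∈ J X ∧ ∀ i, Y i ∈ G) :
    (ObjectProperty.ofObj fun X : G => ModSite.freeOn O (X : C)).IsDetecting ∧
    (ObjectProperty.ofObj fun X : G => ModSite.freeOn O (X : C)).IsSeparating := by
  have hsep : (ObjectProperty.ofObj fun X : G => ModSite.freeOn O (X : C)).IsSeparating := by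
    intro F F' f g H
    have key : ∀ (Y : C), Y ∈ G → ∀ t : F.val.obj (Opposite.op Y),
        f.val.app (Opposite.op Y) t = g.val.app (Opposite.op Y) t := by
      intro Y hY t
      exact app_eq_of_comp_eq O Y f g
        (fun h => H _ (ObjectProperty.ofObj_apply _ (⟨Y, hY⟩ : G)) h) t
    apply SheafOfModules.hom_ext
    apply PresheafOfModules.hom_ext
    intro U
    ext s
    obtain ⟨ι, Y, φ, hcov, hYG⟩ := hG U.unop
    apply (F'.isSheaf).isSeparated _ _ hcov
    rintro Z p ⟨W, a, b, ⟨i⟩, rfl⟩
    have e1 : F'.val.map (φ i).op (f.val.app U s) = F'.val.map (φ i).op (g.val.app U s) := by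
      rw [← PresheafOfModules.naturality_apply, ← PresheafOfModules.naturality_apply]
      exact key _ (hYG i) _
    show F'.val.map (a ≫ φ i).op (f.val.app U s) = F'.val.map (a ≫ φ i).op (g.val.app U s)
    rw [PresheafOfModules.congr_map_apply F'.val (op_comp (f := a) (g := φ i)),
      PresheafOfModules.congr_map_apply F'.val (op_comp (f := a) (g := φ i)),
      PresheafOfModules.map_comp_apply, PresheafOfModules.map_comp_apply, e1]
  exact ⟨hsep.isDetecting, hsep⟩

end Groth.Agent.S6152
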