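import Groth.Statements.S6165
import Mathlib
import Groth.Agent.Lib.Helper30.ModTensor
import Groth.Agent.S6152

set_option autoImplicit false
universe u
open CategoryTheory
open ModSite

namespace Groth.Agent.S6165


open Groth.Agent.Lib.Helper30.ModTensor CategoryTheory.Limits MonoidalCategory

section Helpers

variable {C : Type u} [SmallCategory C] {J : GrothendieckTopology C}
  (O : Sheaf J CommRingCat.{u}) (N : ModSite.Mod O)

/-- the functor `- ⊗_O N`. -/
noncomputable abbrev tensN : ModSite.Mod O ⥤ ModSite.Mod O := (ModSite.tensorBi O).flip.obj N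

/-- `N` as a presheaf of modules in `PM O`. -/
abbrev Nval : PM O := N.val

/-- underlying morphism of presheaves of modules, in `PM O`. -/
abbrev valPM {A B : ModSite.Mod O} (g : A ⟶ B) : @Quiver.Hom (PM O) _ A.val B.val := g.val

/-- comparison `sheafify (P ⊗ N) ≅ sheafify P ⊗_O N`. -/
noncomputable def tauIso : tensorRight (Nval O N) ⋙ shf O ≅ shf O ⋙ tensN O N :=
  NatIso.ofComponents
    (fun P => @asIso _ _ _ _ ((shf O).map (shfUnit P ▷ Nval O N))
      (isIso_shf_map_whiskerRight (shfUnit P) (Nval O N) (isIso_shf_map_unit P)))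
    (by
      intro P P' f
      show (shf O).map (f ▷ Nval O N) ≫ (shf O).map (shfUnit P' ▷ Nval O N) =
        (shf O).map (shfUnit P ▷ Nval O N) ≫ (shf O).map (valPM O ((shf O).map f) ▷ Nval O N)
      have hnat : f ≫ shfUnit P' = shfUnit P ≫ valPM O ((shf O).map f) :=
        (PresheafOfModules.sheafificationAdjunction.{u} (𝟙 (RS O).obj)).unit.naturality f
      rw [← Functor.map_comp, ← Functor.map_comp, ← comp_whiskerRight, ← comp_whiskerRight, hnat])

instance shf_isLeftAdjoint : (shf O).IsLeftAdjoint :=
  inferInstanceAs (PresheafOfModules.sheafification.{u} (𝟙 (RS O).obj)).IsLeftAdjoint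

lemma shf_comp_tensN_preservesColimits :
    PreservesColimitsOfSize.{u, u} (shf O ⋙ tensN O N) :=
  preservesColimits_of_natIso (tauIso O N)

lemma tensN_preservesColimits : PreservesColimitsOfSize.{u, u} (tensN O N) := by
  have hb := shf_comp_tensN_preservesColimits O N
  constructor; intro K _; constructor; intro D
  let D' : K ⥤ PM O := D ⋙ SheafOfModules.forget (RS O)
  let ec := asIso (PresheafOfModules.sheafificationAdjunction.{u} (𝟙 (RS O).obj)).counit
  let e : D' ⋙ shf O ≅ D :=
    Functor.associator _ _ _ ≪≫ Functor.isoWhiskerLeft D ec ≪≫ D.rightUnitor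
  have : PreservesColimit (D' ⋙ shf O) (tensN O N) :=
    preservesColimit_of_preserves_colimit_cocone
      (isColimitOfPreserves (shf O) (colimit.isColimit D'))
      (isColimitOfPreserves (shf O ⋙ tensN O N) (colimit.isColimit D'))
  exact preservesColimit_of_iso_diagram _ e

end Helpers

/-- Ringed topos of sheaves on a small site with commutative structure sheaf O; A = B = O: for every
O-module N the functor M |-> M (x)_O N on O-modules is a left adjoint, i.e. a right adjoint Hom_O(N,
-) (an internal hom functor) EXISTS, giving the tensor-hom adjunction Hom_O(M (x)_O N, P) = Hom_O(M,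
Hom_O(N, P)) natural in M and P. Only the existence of a right adjoint is asserted and no particular
functor is pinned; `ModSite.sheafHom N` then denotes the chosen right adjoint, and statements about
its values go through `ModSite.sheafHomAdj N`. -/
theorem result {C : Type u} [SmallCategory C] {J : GrothendieckTopology C}
    (O : Sheaf J CommRingCat.{u}) (N : ModSite.Mod O) : ModSite.HasSheafHom N := by
  have hcol := tensN_preservesColimits O N
  have hG : ∀ X : C, ∃ (ι : Type u) (Y : ι → C) (f : ∀ i, Y i ⟶ X),
      Sieve.ofArrows Y f ∈ J X ∧ ∀ i, Y i ∈ (Set.univ : Set C) := by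
    intro X
    refine ⟨PUnit, fun _ => X, fun _ => 𝟙 X, ?_, fun _ => Set.mem_univ _⟩
    have h1 : Sieve.ofArrows (fun _ : PUnit.{u + 1} => X) (fun _ => 𝟙 X) (𝟙 X) :=
      Sieve.ofArrows_mk _ _ PUnit.unit
    rw [Sieve.id_mem_iff_eq_top.mp h1]
    exact J.top_mem X
  obtain ⟨hdet, hsep⟩ := Groth.Agent.S6152.result O Set.univ hG
  have hwp : WellPowered.{u} (ModSite.Mod O) := wellPowered_of_isDetecting hdet
  have hwp' : WellPowered.{u} (ModSite.Mod O)ᵒᵖ := inferInstance
  exact isLeftAdjoint_of_preservesColimits_of_isSeparating hsep (tensN O N)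

end Groth.Agent.S6165
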