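import Groth.Statements.S0865
-- import your own Groth.Agent.* helpers here
import Groth.Agent.S0864
import Groth.Agent.Lib.Helper4.FreeSheafSite
import Groth.Agent.Lib.Helper5.RDerShift

set_option autoImplicit false
universe u
open CategoryTheory
open CohSite

namespace Groth.Agent.S0865

open Groth.Agent.Lib.Helper4 CategoryTheory.Abelian Opposite CategoryTheory.Limits

/-- The canonical short exact sequence `0 ⟶ F ⟶ I ⟶ Q ⟶ 0` with `I` injective. -/
noncomputable def ses {C : Type u} [SmallCategory C] {J : GrothendieckTopology C}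
    (F : Sheaf J AddCommGrpCat.{u}) : ShortComplex (Sheaf J AddCommGrpCat.{u}) :=
  ShortComplex.mk (Injective.ι F) (cokernel.π (Injective.ι F)) (by simp)

lemma ses_shortExact {C : Type u} [SmallCategory C] {J : GrothendieckTopology C}
    (F : Sheaf J AddCommGrpCat.{u}) : (ses F).ShortExact :=
  { exact := ShortComplex.exact_cokernel _
    mono_f := by dsimp [ses]; infer_instance
    epi_g := by dsimp [ses]; infer_instance }

instance {C : Type u} [SmallCategory C] {J : GrothendieckTopology C}
    (F : Sheaf J AddCommGrpCat.{u}) : Injective (ses F).X₂ := by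
  dsimp [ses]; infer_instance

/-- The quotient of a totally acyclic sheaf by... rather: `I/F` is totally acyclic when `F` is. -/
lemma totallyAcyclic_X₃ {C : Type u} [SmallCategory C] {J : GrothendieckTopology C}
    (F : Sheaf J AddCommGrpCat.{u}) (hF : CohCx.IsTotallyAcyclic F) :
    CohCx.IsTotallyAcyclic (ses F).X₃ := by
  intro K p
  refine subsingleton_of_forall_eq 0 (fun y => ?_)
  have hS := ses_shortExact F
  have h1 : y.comp hS.extClass (rfl : p + 1 + 1 = p + 2) = 0 :=
    @Subsingleton.elim _ (hF K (p + 1)) _ _
  obtain ⟨z, rfl⟩ := Ext.covariant_sequence_exact₃ _ hS y rfl h1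
  rw [Ext.eq_zero_of_injective z, Ext.zero_comp]

/-- For a totally acyclic `F`, `I ⟶ I/F` is surjective on sections. -/
lemma surjective_g {C : Type u} [SmallCategory C] {J : GrothendieckTopology C}
    (F : Sheaf J AddCommGrpCat.{u}) (hF : CohCx.IsTotallyAcyclic F) (U : C) :
    Function.Surjective ((ses F).g.hom.app (op U)) := by
  intro s
  have hS := ses_shortExact F
  obtain ⟨ψ, rfl⟩ := (ZUev_bijective U (ses F).X₃).2 s
  have h0 : Subsingleton (Ext (ZU J U) (ses F).X₁ 1) := Groth.Agent.S0864.result F hF U 0
  have h1 : (Ext.mk₀ ψ).comp hS.extClass (zero_add 1) = 0 := Subsingleton.elim _ _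
  obtain ⟨z, hz⟩ := Ext.covariant_sequence_exact₃ _ hS (Ext.mk₀ ψ) (zero_add 1) h1
  obtain ⟨ψ', rfl⟩ := (Ext.mk₀_bijective _ _).surjective z
  rw [Ext.mk₀_comp_mk₀] at hz
  have hz' : ψ' ≫ (ses F).g = ψ := (Ext.mk₀_bijective _ _).injective hz
  refine ⟨ZUev U _ ψ', ?_⟩
  rw [← ZUev_comp, hz']

/-- Part (4) (for a morphism of topoi coming from a continuous functor of sites u : D -> C): if F is a
totally acyclic abelian sheaf on C then R^p u_* F = 0 for all p > 0, where u_* F is the sheaf V ↦
F(u(V)) and R^p u_* its right derived functors. -/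
theorem result {C D : Type u} [SmallCategory C] [SmallCategory D]
    (J : GrothendieckTopology C) (K : GrothendieckTopology D) (u : D ⥤ C) [u.IsContinuous K J]
    (F : Sheaf J AddCommGrpCat.{u}) (hF : CohCx.IsTotallyAcyclic F) (p : ℕ) :
    IsZero ((CohSite.Rpush J K u (p + 1)).obj F) := by
  have : PreservesFiniteLimits (CohSite.push J K u) := by
    have : (CohSite.push J K u).IsRightAdjoint := inferInstance
    infer_instance
  induction p generalizing F with
  | zero =>
    have hS := ses_shortExact F
    have hepi : Epi ((CohSite.push J K u).map (ses F).g) := by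
      have : Sheaf.IsLocallySurjective ((CohSite.push J K u).map (ses F).g) := by
        apply Presheaf.isLocallySurjective_of_surjective
        intro V
        exact surjective_g F hF (u.obj V.unop)
      exact (Sheaf.isLocallySurjective_iff_epi' (φ := (CohSite.push J K u).map (ses F).g)).1
        inferInstance
    exact Groth.Agent.Lib.Helper5.isZero_rightDerived_one_X₁ (CohSite.push J K u) hS hepi
  | succ n ih =>
    have hS := ses_shortExact F
    exact Groth.Agent.Lib.Helper5.isZero_rightDerived_succ_succ_X₁ (CohSite.push J K u) hS n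
      (ih (ses F).X₃ (totallyAcyclic_X₃ F hF))

end Groth.Agent.S0865
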