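import Groth.Statements.S11319
import Groth.Agent.Lib.Helper5.RDerExchange2
import Groth.Agent.Lib.Helper83.ModAcyclic
import Groth.Agent.Lib.Helper83.ModCoh
import Groth.Agent.S0865

set_option autoImplicit false
universe u
open CategoryTheory AlgebraicGeometry
open Coherent

namespace Groth.Agent.S11319

/-- Let f : X → Y be a morphism of schemes, M an O_X-module and n ≥ 0. Then the underlying abelian sheaf
of the n-th higher direct image R^n f_* M computed in the category of O-modules (the n-th right
derived functor of f_* : Mod(O_X) → Mod(O_Y), which needs the stated instance that Mod(O_X) has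
injective resolutions — it does) is isomorphic to the n-th higher direct image of the underlying
abelian sheaf of M (the right derived functor of f_* on abelian sheaves). (Stated for schemes; the
published statement is for ringed spaces. Existence of an isomorphism only.) -/
theorem result {X Y : Scheme.{u}} (f : X ⟶ Y)
    [HasInjectiveResolutions X.Modules] (M : X.Modules) (n : ℕ) :
    Nonempty (Coh.toAb ((Coh.Rpush f n).obj M) ≅ (Coh.RpushAb f n).obj (Coh.toAb M)) := by
  open Groth.Agent.Lib.Helper83.ModCoh in
  let E₁ : X.Modules ⥤ Sheaf (Opens.grothendieckTopology X) AddCommGrpCat.{u} :=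
    SheafOfModules.toSheaf X.ringCatSheaf
  let E₂ : Y.Modules ⥤ Sheaf (Opens.grothendieckTopology Y) AddCommGrpCat.{u} :=
    SheafOfModules.toSheaf Y.ringCatSheaf
  have hE₁a : E₁.Additive := inferInstanceAs (SheafOfModules.toSheaf X.ringCatSheaf).Additive
  have hE₁l : Limits.PreservesFiniteLimits E₁ :=
    inferInstanceAs (Limits.PreservesFiniteLimits (SheafOfModules.toSheaf X.ringCatSheaf))
  have hE₁c : Limits.PreservesFiniteColimits E₁ :=
    inferInstanceAs (Limits.PreservesFiniteColimits (SheafOfModules.toSheaf X.ringCatSheaf))
  have hE₂a : E₂.Additive := inferInstanceAs (SheafOfModules.toSheaf Y.ringCatSheaf).Additive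
  have hE₂l : Limits.PreservesFiniteLimits E₂ :=
    inferInstanceAs (Limits.PreservesFiniteLimits (SheafOfModules.toSheaf Y.ringCatSheaf))
  have hE₂c : Limits.PreservesFiniteColimits E₂ :=
    inferInstanceAs (Limits.PreservesFiniteColimits (SheafOfModules.toSheaf Y.ringCatSheaf))
  have hl : Limits.PreservesFiniteLimits (Scheme.Modules.pushforward f) := by
    have := (Scheme.Modules.pullbackPushforwardAdjunction f).rightAdjoint_preservesLimits
    infer_instance
  have hl' : Limits.PreservesFiniteLimits (Coh.pushAb f) := by
    have h : Limits.PreservesLimitsOfSize.{0,0} (Coh.pushAb f) :=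
      (TopCat.Sheaf.pullbackPushforwardAdjunction AddCommGrpCat.{u} f.base).rightAdjoint_preservesLimits
    exact Limits.PreservesLimitsOfSize.preservesFiniteLimits _
  let e₀ : Scheme.Modules.pushforward f ⋙ E₂ ≅ E₁ ⋙ Coh.pushAb f :=
    NatIso.ofComponents (fun M => Iso.refl _) (fun g => by
      simp only [Iso.refl_hom]
      rfl)
  obtain ⟨e⟩ := Groth.Agent.Lib.Helper5.RDerExchange2.nonempty_rightDerived_exchange_iso₂ E₁ E₂
    (Scheme.Modules.pushforward f) (Coh.pushAb f) e₀ (by
      intro I hI k
      have hI' : Injective (C := SheafOfModules.{u} X.ringCatSheaf) I := hI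
      have hac := @Groth.Agent.Lib.Helper83.ModAcyclic.isTotallyAcyclic_toSheaf_of_injective
        _ _ _ X.ringCatSheaf I hI'
      exact Groth.Agent.S0865.result _ _ (TopologicalSpace.Opens.map f.base) _ hac k) n
  exact ⟨e.app M⟩

end Groth.Agent.S11319
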