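import Groth.Statements.S1030
-- import your own Groth.Agent.* helpers here
import Groth.Agent.Lib.Helper32.RelResLeft

set_option autoImplicit false
universe v u
open CategoryTheory CategoryTheory.Limits
open CohDer

namespace Groth.Agent.S1030

open Groth.Agent.Lib.Helper32
section tower
variable {A : Type u} [Category.{v} A] [Abelian A] (P : ObjectProperty A) (K : CochainComplex A ℤ)

/-- transition map between truncations -/
noncomputable def truncTrans (a b : ℤ) (hab : a ≤ b) : K.truncLE a ⟶ K.truncLE b :=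
  haveI : (K.truncLE a).IsStrictlyLE b := (K.truncLE a).isStrictlyLE_of_le a b hab
  inv ((K.truncLE a).ιTruncLE b) ≫ CochainComplex.truncLEMap (K.ιTruncLE a) b

@[reassoc]
lemma truncTrans_ι (a b : ℤ) (hab : a ≤ b) : truncTrans K a b hab ≫ K.ιTruncLE b = K.ιTruncLE a := by
  haveI : (K.truncLE a).IsStrictlyLE b := (K.truncLE a).isStrictlyLE_of_le a b hab
  dsimp only [truncTrans]
  rw [Category.assoc, CochainComplex.ιTruncLE_naturality, IsIso.inv_hom_id_assoc]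

structure TStage (n : ℕ) where
  Q : CochainComplex A ℤ
  π : Q ⟶ K.truncLE (n : ℤ)
  qis : QuasiIso π
  epi : ∀ i, Epi (π.f i)
  bdd : ∃ b : ℤ, Q.IsStrictlyLE b
  prop : ∀ i, P (Q.X i)

variable {P K}
variable [P.IsClosedUnderIsomorphisms]
    (hP0 : ∃ Z : A, IsZero Z ∧ P Z) (hPsum : ∀ X Y : A, P X → P Y → P (X ⊞ Y))
    (hP : ∀ X : A, ∃ (Y : A) (π : Y ⟶ X), P Y ∧ Epi π)

include hP0 hPsum hP in
lemma exists_next {n : ℕ} (st : TStage P K n) :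
    ∃ (st' : TStage P K (n + 1)) (ι : st.Q ⟶ st'.Q),
      (∀ i, (∃ r : st'.Q.X i ⟶ st.Q.X i, ι.f i ≫ r = 𝟙 _) ∧ P (cokernel (ι.f i))) ∧
      st.π ≫ K.ιTruncLE (n : ℤ) = ι ≫ st'.π ≫ K.ιTruncLE ((n + 1 : ℕ) : ℤ) := by
  obtain ⟨b₀, hb₀⟩ := st.bdd
  let b : ℤ := max b₀ ((n + 1 : ℕ) : ℤ)
  haveI : st.Q.IsStrictlyLE b := st.Q.isStrictlyLE_of_le b₀ b (le_max_left _ _)
  haveI : (K.truncLE ((n + 1 : ℕ) : ℤ)).IsStrictlyLE b :=
    (K.truncLE ((n + 1 : ℕ) : ℤ)).isStrictlyLE_of_le _ b (le_max_right _ _)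
  let β : st.Q ⟶ K.truncLE ((n + 1 : ℕ) : ℤ) :=
    st.π ≫ truncTrans K (n : ℤ) ((n + 1 : ℕ) : ℤ) (by push_cast; lia)
  obtain ⟨M, γ, j, hjγ, hγ, hγepi, hM, hPM, hj⟩ :=
    RelResLeft.exists_relative_left P hP0 hPsum hP β b st.prop
  refine ⟨⟨M, γ, hγ, hγepi, ⟨b, hM⟩, hPM⟩, j, hj, ?_⟩
  dsimp only
  rw [← Category.assoc j, hjγ, Category.assoc, truncTrans_ι]

include hP0 hP in
lemma nonempty_stage0 : Nonempty (TStage P K 0) := by
  obtain ⟨L, α, hL, hPL, hepi, hqi⟩ :=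
    LeftRes.exists_of_isStrictlyLE P hP hP0 (K.truncLE ((0 : ℕ) : ℤ)) ((0 : ℕ) : ℤ)
  exact ⟨⟨L, α, hqi, hepi, ⟨_, hL⟩, hPL⟩⟩

variable (K) in
noncomputable def tseq : (n : ℕ) → TStage P K n
  | 0 => Classical.choice (nonempty_stage0 hP0 hP)
  | n + 1 => (exists_next hP0 hPsum hP (tseq n)).choose

variable (K) in
noncomputable def tι (n : ℕ) : (tseq K hP0 hPsum hP n).Q ⟶ (tseq K hP0 hPsum hP (n + 1)).Q :=
  (exists_next hP0 hPsum hP (tseq K hP0 hPsum hP n)).choose_spec.choose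

variable (K) in
lemma tι_spec (n : ℕ) :
    (∀ i, (∃ r : (tseq K hP0 hPsum hP (n + 1)).Q.X i ⟶ (tseq K hP0 hPsum hP n).Q.X i,
      (tι K hP0 hPsum hP n).f i ≫ r = 𝟙 _) ∧ P (cokernel ((tι K hP0 hPsum hP n).f i))) ∧
      (tseq K hP0 hPsum hP n).π ≫ K.ιTruncLE (n : ℤ) =
        tι K hP0 hPsum hP n ≫ (tseq K hP0 hPsum hP (n + 1)).π ≫ K.ιTruncLE ((n + 1 : ℕ) : ℤ) :=
  (exists_next hP0 hPsum hP (tseq K hP0 hPsum hP n)).choose_spec.choose_spec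

end tower

theorem aux {A : Type u} [Category.{v} A] [Abelian A] (P : ObjectProperty A) [P.IsClosedUnderIsomorphisms]
    (hP0 : ∃ Z : A, IsZero Z ∧ P Z) (hPsum : ∀ X Y : A, P X → P Y → P (X ⊞ Y))
    (hP : ∀ X : A, ∃ (Y : A) (π : Y ⟶ X), P Y ∧ Epi π) (K : CochainComplex A ℤ) :
    ∃ (Q : ℕ → CochainComplex A ℤ) (ι : ∀ n, Q n ⟶ Q (n + 1)) (π : ∀ n : ℕ, Q n ⟶ K.truncLE (n : ℤ)),
      (∀ n, QuasiIso (π n) ∧ ∀ i, Epi ((π n).f i)) ∧
      (∀ n, ∃ b : ℤ, (Q n).IsStrictlyLE b) ∧ (∀ n i, P ((Q n).X i)) ∧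
      (∀ n i, (∃ r : (Q (n + 1)).X i ⟶ (Q n).X i, (ι n).f i ≫ r = 𝟙 _) ∧ P (cokernel ((ι n).f i))) ∧
      (∀ n : ℕ, π n ≫ K.ιTruncLE (n : ℤ) = ι n ≫ π (n + 1) ≫ K.ιTruncLE ((n + 1 : ℕ) : ℤ)) := by
  refine ⟨fun n => (tseq K hP0 hPsum hP n).Q, fun n => tι K hP0 hPsum hP n,
    fun n => (tseq K hP0 hPsum hP n).π, ?_, ?_, ?_, ?_, ?_⟩
  · intro n
    exact ⟨(tseq K hP0 hPsum hP n).qis, (tseq K hP0 hPsum hP n).epi⟩
  · intro n
    exact (tseq K hP0 hPsum hP n).bdd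
  · intro n i
    exact (tseq K hP0 hPsum hP n).prop i
  · intro n i
    exact (tι_spec K hP0 hPsum hP n).1 i
  · intro n
    exact (tι_spec K hP0 hPsum hP n).2

/-- Let P be a class of objects of an abelian category, closed under isomorphisms, which holds for some
zero object, is closed under binary direct sums, and such that every object is a quotient of an
object satisfying P. For any cochain complex K there are bounded above complexes Pₙ (n ≥ 0) with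
terms satisfying P, termwise surjective quasi-isomorphisms πₙ : Pₙ ⟶ τ_{≤ n}K and termwise split
injections ιₙ : Pₙ ⟶ Pₙ₊₁ whose cokernels satisfy P termwise, compatible in the sense that Pₙ ⟶
τ_{≤n}K ⟶ K equals Pₙ ⟶ Pₙ₊₁ ⟶ τ_{≤n+1}K ⟶ K. (The source indexes from 1.) -/
theorem result {A : Type u} [Category.{v} A] [Abelian A] (P : ObjectProperty A) [P.IsClosedUnderIsomorphisms]
    (hP0 : ∃ Z : A, IsZero Z ∧ P Z) (hPsum : ∀ X Y : A, P X → P Y → P (X ⊞ Y))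
    (hP : ∀ X : A, ∃ (Y : A) (π : Y ⟶ X), P Y ∧ Epi π) (K : CochainComplex A ℤ) :
    ∃ (Q : ℕ → CochainComplex A ℤ) (ι : ∀ n, Q n ⟶ Q (n + 1)) (π : ∀ n : ℕ, Q n ⟶ K.truncLE (n : ℤ)),
      (∀ n, QuasiIso (π n) ∧ ∀ i, Epi ((π n).f i)) ∧
      (∀ n, ∃ b : ℤ, (Q n).IsStrictlyLE b) ∧ (∀ n i, P ((Q n).X i)) ∧
      (∀ n i, (∃ r : (Q (n + 1)).X i ⟶ (Q n).X i, (ι n).f i ≫ r = 𝟙 _) ∧ P (cokernel ((ι n).f i))) ∧
      (∀ n : ℕ, π n ≫ K.ιTruncLE (n : ℤ) = ι n ≫ π (n + 1) ≫ K.ιTruncLE ((n + 1 : ℕ) : ℤ)) := by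
  exact aux P hP0 hPsum hP K

end Groth.Agent.S1030
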