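import Groth.Statements.S9057
import Groth.Agent.Lib.Helper5.KFlatTot
-- import your own Groth.Agent.* helpers here

set_option autoImplicit false
universe u
open CategoryTheory CategoryTheory.Limits Opposite
attribute [local instance] HasDerivedCategory.standard
open ModSite

namespace Groth.Agent.S9057

/-- On a ringed site (C, O), let 0 → K₁ → K₂ → K₃ → 0 be a short exact sequence of complexes of
O-modules whose third complex K₃ has flat terms. If two of K₁, K₂, K₃ are K-flat then so is the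
third. -/
theorem result
    {C : Type u} [SmallCategory C] {J : GrothendieckTopology C} (O : Sheaf J CommRingCat.{u})
    (S : ShortComplex (CochainComplex (ModSite.Mod O) ℤ)) (hS : S.ShortExact)
    (h3 : ∀ n : ℤ, ModSite.IsFlat (S.X₃.X n)) :
    (ModSite.IsKFlat S.X₁ → ModSite.IsKFlat S.X₂ → ModSite.IsKFlat S.X₃) ∧
    (ModSite.IsKFlat S.X₁ → ModSite.IsKFlat S.X₃ → ModSite.IsKFlat S.X₂) ∧
    (ModSite.IsKFlat S.X₂ → ModSite.IsKFlat S.X₃ → ModSite.IsKFlat S.X₁) := by
  have key : ∀ F : CochainComplex (ModSite.Mod O) ℤ,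
      ∃ w : ((ModSite.tensorCx O).obj F).map S.f ≫ ((ModSite.tensorCx O).obj F).map S.g = 0,
        (ShortComplex.mk _ _ w).ShortExact :=
    fun F => Groth.Agent.Lib.Helper5.KFlatTot.tensorCx_shortExact O F S hS h3
  refine ⟨?_, ?_, ?_⟩
  · intro h1 h2 F hF n
    obtain ⟨w, hT⟩ := key F
    exact (hT.homology_exact₃ n (n + 1) rfl).isZero_of_both_zeros ((h2 F hF n).eq_of_src _ _)
      ((h1 F hF (n + 1)).eq_of_tgt _ _)
  · intro h1 h3' F hF n
    obtain ⟨w, hT⟩ := key F
    exact (hT.homology_exact₂ n).isZero_of_both_zeros ((h1 F hF n).eq_of_src _ _)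
      ((h3' F hF n).eq_of_tgt _ _)
  · intro h2 h3' F hF n
    obtain ⟨w, hT⟩ := key F
    exact (hT.homology_exact₁ (n - 1) n (by simp)).isZero_of_both_zeros
      ((h3' F hF (n - 1)).eq_of_src _ _) ((h2 F hF n).eq_of_tgt _ _)

end Groth.Agent.S9057
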