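import Groth.Statements.S9058
import Groth.Agent.Lib.Helper5.BrutalTrunc
import Groth.Agent.Lib.Helper5.KFlatSingle
import Groth.Agent.Lib.Helper5.KFlatColim
import Groth.Agent.Lib.Helper30.AcyclicFlat
import Groth.Agent.S9057

set_option autoImplicit false
universe u
open CategoryTheory CategoryTheory.Limits Opposite
attribute [local instance] HasDerivedCategory.standard
open ModSite


namespace Groth.Agent.S9058
open Groth.Agent.Lib.Helper5.BrutalTrunc Groth.Agent.Lib.Helper5.KFlatSingle
  Groth.Agent.Lib.Helper5.KFlatColim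

/-- the terms of the brutal truncation of a complex with flat terms are flat. -/
lemma isFlat_sigmaGE_X
    {C : Type u} [SmallCategory C] {J : GrothendieckTopology C} (O : Sheaf J CommRingCat.{u})
    (K : CochainComplex (ModSite.Mod O) ℤ) (hfl : ∀ q : ℤ, ModSite.IsFlat (K.X q)) (a q : ℤ) :
    ModSite.IsFlat ((sigmaGE K a).X q) := by
  by_cases h : a ≤ q
  · exact isFlat_of_iso O (sigmaGEXIso h).symm (hfl q)
  · exact Groth.Agent.Lib.Helper30.AcyclicFlat.isFlat_of_isZero O _ (isZero_sigmaGE_X K h)

/-- a bounded complex of flat modules is K-flat. -/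
theorem isKFlat_of_bounded
    {C : Type u} [SmallCategory C] {J : GrothendieckTopology C} (O : Sheaf J CommRingCat.{u})
    (n : ℕ) : ∀ (K : CochainComplex (ModSite.Mod O) ℤ) (a : ℤ)
    (_ : ∀ q : ℤ, q < a → IsZero (K.X q)) (_ : ∀ q : ℤ, a + n < q → IsZero (K.X q))
    (_ : ∀ q : ℤ, ModSite.IsFlat (K.X q)), ModSite.IsKFlat K := by
  induction n with
  | zero =>
    intro K a hlo hhi hfl
    refine isKFlat_of_concentrated O K a (fun q hq => ?_) (hfl a)
    rcases lt_or_gt_of_ne hq with h | h
    · exact hlo q h
    · exact hhi q (by simpa using h)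
  | succ n ih =>
    intro K a hlo hhi hfl
    let π : K ⟶ (HomologicalComplex.single (ModSite.Mod O) (ComplexShape.up ℤ) a).obj (K.X a) :=
      HomologicalComplex.mkHomToSingle (𝟙 (K.X a)) (fun i hi =>
        (hlo i (by have : i + 1 = a := hi; omega)).eq_of_src _ _)
    have hπ : π.f a = 𝟙 (K.X a) ≫ (HomologicalComplex.singleObjXSelf (ComplexShape.up ℤ) a
        (K.X a)).inv := HomologicalComplex.mkHomToSingle_f _ _
    have w : sigmaGEι K (a + 1) ≫ π = 0 := by
      refine HomologicalComplex.hom_ext _ _ (fun q => ?_)
      by_cases hq : a + 1 ≤ q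
      · exact (HomologicalComplex.isZero_single_obj_X (ComplexShape.up ℤ) a (K.X a) q
          (by omega)).eq_of_tgt _ _
      · exact (isZero_sigmaGE_X K hq).eq_of_src _ _
    let S : ShortComplex (CochainComplex (ModSite.Mod O) ℤ) := ShortComplex.mk _ _ w
    have hS : S.ShortExact := by
      apply HomologicalComplex.shortExact_of_degreewise_shortExact
      intro q
      by_cases hq : a + 1 ≤ q
      · have hz : IsZero ((S.map (HomologicalComplex.eval _ _ q)).X₃) :=
          HomologicalComplex.isZero_single_obj_X (ComplexShape.up ℤ) a (K.X a) q (by omega)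
        have : IsIso (S.map (HomologicalComplex.eval _ _ q)).f :=
          isIso_sigmaGEι_f K hq
        exact
          { exact := ((S.map (HomologicalComplex.eval _ _ q)).exact_iff_epi
              (hz.eq_of_tgt _ _)).mpr inferInstance
            mono_f := inferInstance
            epi_g := ⟨fun _ _ _ => hz.eq_of_src _ _⟩ }
      · have hz : IsZero ((S.map (HomologicalComplex.eval _ _ q)).X₁) :=
          isZero_sigmaGE_X K hq
        by_cases hqa : q = a
        · subst hqa
          have : IsIso (S.map (HomologicalComplex.eval _ _ q)).g := by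
            change IsIso (π.f q)
            rw [hπ]
            infer_instance
          exact
            { exact := ((S.map (HomologicalComplex.eval _ _ q)).exact_iff_mono
                (hz.eq_of_src _ _)).mpr inferInstance
              mono_f := ⟨fun _ _ _ => hz.eq_of_tgt _ _⟩
              epi_g := inferInstance }
        · have hz2 : IsZero ((S.map (HomologicalComplex.eval _ _ q)).X₂) :=
            hlo q (by omega)
          have hz3 : IsZero ((S.map (HomologicalComplex.eval _ _ q)).X₃) :=
            HomologicalComplex.isZero_single_obj_X (ComplexShape.up ℤ) a (K.X a) q hqa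
          exact
            { exact := ShortComplex.exact_of_isZero_X₂ _ hz2
              mono_f := ⟨fun _ _ _ => hz.eq_of_tgt _ _⟩
              epi_g := ⟨fun _ _ _ => hz3.eq_of_src _ _⟩ }
    have h1 : ModSite.IsKFlat S.X₁ := by
      refine ih (sigmaGE K (a + 1)) (a + 1) (fun q hq => isZero_sigmaGE_X K (by omega))
        (fun q hq => ?_) (isFlat_sigmaGE_X O K hfl (a + 1))
      have hq' : a + 1 ≤ q := by omega
      exact IsZero.of_iso (hhi q (by push_cast; omega)) (sigmaGEXIso hq')
    have h3 : ModSite.IsKFlat S.X₃ := isKFlat_single O (K.X a) (hfl a) a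
    have h3' : ∀ q : ℤ, ModSite.IsFlat (S.X₃.X q) := by
      intro q
      by_cases hqa : q = a
      · subst hqa
        exact isFlat_of_iso O
          (HomologicalComplex.singleObjXSelf (ComplexShape.up ℤ) q (K.X q)).symm (hfl q)
      · exact Groth.Agent.Lib.Helper30.AcyclicFlat.isFlat_of_isZero O _
          (HomologicalComplex.isZero_single_obj_X (ComplexShape.up ℤ) a (K.X a) q hqa)
    exact (Groth.Agent.S9057.result O S hS h3').2.1 h1 h3

end Groth.Agent.S9058

namespace Groth.Agent.S9058

/-- On a ringed site (C, O), a bounded above complex of flat O-modules is K-flat. -/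
theorem result
    {C : Type u} [SmallCategory C] {J : GrothendieckTopology C} (O : Sheaf J CommRingCat.{u})
    (K : CochainComplex (ModSite.Mod O) ℤ) (b : ℤ) (hb : K.IsStrictlyLE b)
    (hflat : ∀ n : ℤ, ModSite.IsFlat (K.X n)) : ModSite.IsKFlat K := by
  have := Groth.Agent.Lib.Helper5.KFlatColim.hasExactColimitsOfShape_nat O
  refine Groth.Agent.Lib.Helper5.KFlatColim.isKFlat_of_isColimit O
    (Groth.Agent.Lib.Helper5.BrutalTrunc.tower K b)
    (Groth.Agent.Lib.Helper5.BrutalTrunc.towerCocone K b)
    (Groth.Agent.Lib.Helper5.BrutalTrunc.isColimitTowerCocone K b) (fun n => ?_)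
  refine isKFlat_of_bounded O n (Groth.Agent.Lib.Helper5.BrutalTrunc.sigmaGE K (b - n)) (b - n)
    (fun q hq => Groth.Agent.Lib.Helper5.BrutalTrunc.isZero_sigmaGE_X K (by omega))
    (fun q hq => ?_) (isFlat_sigmaGE_X O K hflat (b - n))
  by_cases h : b - (n : ℤ) ≤ q
  · exact IsZero.of_iso (CochainComplex.isZero_of_isStrictlyLE K b q (by omega))
      (Groth.Agent.Lib.Helper5.BrutalTrunc.sigmaGEXIso h)
  · exact Groth.Agent.Lib.Helper5.BrutalTrunc.isZero_sigmaGE_X K h

end Groth.Agent.S9058
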