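import Groth.Statements.S0953
import Groth.Agent.Lib.Helper5.StalkFlat
import Groth.Agent.S9058

set_option autoImplicit false
universe u
open CategoryTheory
attribute [local instance] HasDerivedCategory.standard
open DCoh

namespace Groth.Agent.S0953

open AlgebraicGeometry in
/-- A bounded above complex of O_X-modules all of whose terms are flat (stalkwise) is K-flat. -/
theorem result {X : Scheme.{u}} (K : CochainComplex X.Modules ℤ) (b : ℤ) (hb : K.IsStrictlyLE b)
    (hflat : ∀ n : ℤ, FlatMod.IsFlat (K.X n)) : DCoh.IsKFlat K := by
  refine Groth.Agent.S9058.result X.sheaf K b hb (fun n => ?_)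
  exact Groth.Agent.Lib.Helper5.StalkFlat.isFlat_of_stalks X.sheaf (K.X n) (fun x => hflat n x)

end Groth.Agent.S0953
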