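import Groth.Statements.S9052
import Groth.Agent.Lib.Helper5.KFlatSingleLeft
import Groth.Agent.Lib.Helper30.ExtZeroFlat
import Groth.Agent.S9051

set_option autoImplicit false
universe u
open CategoryTheory CategoryTheory.Limits Opposite
open ModSite


namespace Groth.Agent.S9052
open Groth.Agent.Lib.Helper5.KFlatSingleLeft Groth.Agent.Lib.Helper30.ExtZero
  Groth.Agent.Lib.Helper30.ModTensorAdj

section General

variable {A B : Type*} [Category A] [Category B] [Abelian A] [Abelian B]

/-- purity: if `K` is exact in degree `n` and a right exact functor `T` keeps `K` exact in degree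
`n - 1`, then `T` maps the inclusion of the `n`-cycles to a monomorphism. -/
lemma mono_map_iCycles (T : A ⥤ B) [T.Additive] [T.PreservesEpimorphisms]
    (K : CochainComplex A ℤ) (n₀ n₁ n : ℤ) (_h₀ : n₀ + 1 = n₁) (h₁ : n₁ + 1 = n)
    (hK : K.ExactAt n)
    (hT : (ShortComplex.mk (T.map (K.d n₀ n₁)) (T.map (K.d n₁ n))
      (by rw [← Functor.map_comp, K.d_comp_d, Functor.map_zero])).Exact) :
    Mono (T.map (K.iCycles n)) := by
  -- `π : K^{n-1} ⟶ Z^n` is an epimorphism
  have hπ : Epi (K.toCycles n₁ n) := by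
    have hex : (K.sc' n₁ n (n + 1)).Exact :=
      (HomologicalComplex.exactAt_iff' K n₁ n (n + 1) (by simp; lia) (by simp)).1 hK
    have h1 : Epi (K.sc' n₁ n (n + 1)).toCycles := hex.epi_toCycles
    have h2 := K.toCycles_cyclesIsoSc'_hom n₁ n (n + 1) (by simp; lia) (by simp)
    have h3 : Epi (K.toCycles n₁ n ≫ (K.cyclesIsoSc' n₁ n (n + 1) (by simp; lia) (by simp)).hom) := by
      rw [h2]; exact h1
    have h4 : K.toCycles n₁ n = (K.toCycles n₁ n ≫
        (K.cyclesIsoSc' n₁ n (n + 1) (by simp; lia) (by simp)).hom) ≫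
        (K.cyclesIsoSc' n₁ n (n + 1) (by simp; lia) (by simp)).inv := by
      rw [Category.assoc, Iso.hom_inv_id, Category.comp_id]
    rw [h4]
    exact epi_comp _ _
  have hTπ : Epi (T.map (K.toCycles n₁ n)) := T.map_epi _
  have hπi : T.map (K.toCycles n₁ n) ≫ T.map (K.iCycles n) = T.map (K.d n₁ n) := by
    rw [← Functor.map_comp, K.toCycles_i]
  have hdπ : T.map (K.d n₀ n₁) ≫ T.map (K.toCycles n₁ n) = 0 := by
    rw [← Functor.map_comp, K.d_toCycles, Functor.map_zero]
  rw [Preadditive.mono_iff_cancel_zero]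
  intro W x hx
  obtain ⟨W', p, hp, y, hy⟩ := surjective_up_to_refinements_of_epi (T.map (K.toCycles n₁ n)) x
  have hy0 : y ≫ T.map (K.d n₁ n) = 0 := by
    rw [← hπi, ← Category.assoc, ← hy, Category.assoc, hx, comp_zero]
  obtain ⟨W'', p', hp', z, hz⟩ := hT.exact_up_to_refinements y hy0
  have h5 : (p' ≫ p) ≫ x = 0 := by
    rw [Category.assoc, hy, ← Category.assoc, hz]
    change (z ≫ T.map (K.d n₀ n₁)) ≫ T.map (K.toCycles n₁ n) = 0
    rw [Category.assoc, hdπ, comp_zero]
  have : Epi (p' ≫ p) := epi_comp _ _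
  exact (cancel_epi (p' ≫ p)).1 (h5.trans comp_zero.symm)

/-- a morphism between acyclic complexes is a quasi-isomorphism. -/
lemma quasiIso_of_acyclic {K L : CochainComplex A ℤ} (α : K ⟶ L) (hK : K.Acyclic)
    (hL : L.Acyclic) : QuasiIso α := by
  rw [quasiIso_iff]
  intro i
  rw [quasiIsoAt_iff_isIso_homologyMap]
  have h1 : IsZero (K.homology i) := (hK i).isZero_homology
  have h2 : IsZero (L.homology i) := (hL i).isZero_homology
  exact ⟨⟨0, h1.eq_of_src _ _, h2.eq_of_tgt _ _⟩⟩

/-- the source of a quasi-isomorphism with acyclic target is acyclic. -/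
lemma acyclic_of_quasiIso {K L : CochainComplex A ℤ} (α : K ⟶ L) [QuasiIso α]
    (hL : L.Acyclic) : K.Acyclic := by
  intro i
  rw [HomologicalComplex.exactAt_iff_isZero_homology]
  exact IsZero.of_iso (hL i).isZero_homology (asIso (HomologicalComplex.homologyMap α i))

end General

section Site

variable {C : Type u} [SmallCategory C] {J : GrothendieckTopology C} (O : Sheaf J CommRingCat.{u})

/-- the total complex `Tot(L ⊗ Z)` with `Z` a zero complex is acyclic. -/
lemma acyclic_mapBifunctor_of_isZero (L Z : CochainComplex (ModSite.Mod O) ℤ) (hZ : IsZero Z) :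
    (HomologicalComplex.mapBifunctor L Z (ModSite.tensorBi O) (ComplexShape.up ℤ)).Acyclic := by
  intro n
  apply HomologicalComplex.ExactAt.of_isZero
  rw [IsZero.iff_id_eq_zero]
  apply HomologicalComplex.mapBifunctor.hom_ext
  intro p q h
  have hq : IsZero (Z.X q) :=
    Functor.map_isZero (HomologicalComplex.eval (ModSite.Mod O) (ComplexShape.up ℤ) q) hZ
  have h0 : IsZero (((ModSite.tensorBi O).obj (L.X p)).obj (Z.X q)) :=
    Functor.map_isZero _ hq
  exact h0.eq_of_src _ _

end Site

end Groth.Agent.S9052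

namespace Groth.Agent.S9052

/-- On a ringed site (C, O), let K be a K-flat, acyclic complex of O-modules whose terms are flat. Then
for every n the kernel of K^n → K^{n+1} (the module of n-cycles) is a flat O-module. Here a complex
K of O-modules is called K-flat when for every acyclic complex L of O-modules the total complex
Tot(L ⊗_O K) is acyclic; this property enters only as a hypothesis. The instance binders saying that
the tensor bifunctor preserves zero morphisms always hold and are needed only to form total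
complexes. -/
theorem result
    {C : Type u} [SmallCategory C] {J : GrothendieckTopology C} (O : Sheaf J CommRingCat.{u})
    [(ModSite.tensorBi O).PreservesZeroMorphisms] [∀ X : ModSite.Mod O, ((ModSite.tensorBi O).obj X).PreservesZeroMorphisms]
    (K : CochainComplex (ModSite.Mod O) ℤ)
    (hK : ∀ L : CochainComplex (ModSite.Mod O) ℤ, L.Acyclic →
      (HomologicalComplex.mapBifunctor L K (ModSite.tensorBi O) (ComplexShape.up ℤ)).Acyclic)
    (hac : K.Acyclic) (hfl : ∀ i : ℤ, ModSite.IsFlat (K.X i)) (n : ℤ) :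
    ModSite.IsFlat (K.cycles n) := by
  -- Step 0: `M ⊗ K` is exact for every module `M`
  have hMK : ∀ (M : ModSite.Mod O) (n₁ n n₃ : ℤ) (h₁ : n₁ + 1 = n) (h₃ : n + 1 = n₃),
      (ShortComplex.mk (((ModSite.tensorBi O).obj M).map (K.d n₁ n))
        (((ModSite.tensorBi O).obj M).map (K.d n n₃))
        (by rw [← Functor.map_comp, K.d_comp_d, Functor.map_zero])).Exact := by
    intro M n₁ n n₃ h₁ h₃
    let F : CochainComplex (ModSite.Mod O) ℤ :=
      (HomologicalComplex.single (ModSite.Mod O) (ComplexShape.up ℤ) 0).obj M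
    have hF : ∀ p : ℤ, p ≠ 0 → IsZero (F.X p) := fun p hp =>
      HomologicalComplex.isZero_single_obj_X (ComplexShape.up ℤ) 0 M p hp
    obtain ⟨Z, hZ⟩ := (inferInstance : HasZeroObject (CochainComplex (ModSite.Mod O) ℤ)).zero
    have hZac : Z.Acyclic := fun i => HomologicalComplex.ExactAt.of_isZero
      (Functor.map_isZero (HomologicalComplex.eval (ModSite.Mod O) (ComplexShape.up ℤ) i) hZ)
    have hq : QuasiIso (0 : K ⟶ Z) := quasiIso_of_acyclic _ hac hZac
    have hq' := Groth.Agent.S9051.result O K Z hK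
      (fun L _ => acyclic_mapBifunctor_of_isZero O L Z hZ) (0 : K ⟶ Z) F
    have hFK : (HomologicalComplex.mapBifunctor F K (ModSite.tensorBi O)
        (ComplexShape.up ℤ)).Acyclic :=
      @acyclic_of_quasiIso _ _ _ _ _ (HomologicalComplex.mapBifunctorMap (𝟙 F) (0 : K ⟶ Z)
        (ModSite.tensorBi O) (ComplexShape.up ℤ)) hq' (acyclic_mapBifunctor_of_isZero O F Z hZ)
    have hex := (Groth.Agent.Lib.Helper5.KFlatSingleLeft.exactAt_of_concentrated_left_iff (ModSite.tensorBi O) F K hF n₁ n n₃ h₁ h₃).1
      (hFK n)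
    let e : F.X 0 ≅ M := HomologicalComplex.singleObjXSelf (ComplexShape.up ℤ) 0 M
    refine (ShortComplex.exact_iff_of_iso (ShortComplex.isoMk
      (((ModSite.tensorBi O).mapIso e).app (K.X n₁)) (((ModSite.tensorBi O).mapIso e).app (K.X n))
      (((ModSite.tensorBi O).mapIso e).app (K.X n₃)) ?_ ?_)).1 hex
    · exact (((ModSite.tensorBi O).map e.hom).naturality (K.d n₁ n)).symm
    · exact (((ModSite.tensorBi O).map e.hom).naturality (K.d n n₃)).symm
  -- Step 1: `M ⊗ Z^n ⟶ M ⊗ K^n` is a monomorphism for every `M`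
  have hmono : ∀ M : ModSite.Mod O, Mono (((ModSite.tensorBi O).obj M).map (K.iCycles n)) := by
    intro M
    exact mono_map_iCycles ((ModSite.tensorBi O).obj M) K (n - 2) (n - 1) n (by lia) (by lia)
      (hac n) (hMK M (n - 2) (n - 1) n (by lia) (by lia))
  -- Step 2: flatness
  apply Groth.Agent.Lib.Helper30.ExtZero.isFlat_of_preservesMono
  constructor
  intro A' A f hf
  have hflK := Groth.Agent.Lib.Helper30.ExtZero.preservesMono_of_isFlat O (K.X n) (hfl n)
  have h1 : Mono (((ModSite.tensorBi O).flip.obj (K.X n)).map f) := inferInstance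
  have h2 : Mono (((ModSite.tensorBi O).obj A').map (K.iCycles n)) := hmono A'
  have h3 : ((ModSite.tensorBi O).flip.obj (K.cycles n)).map f ≫
      ((ModSite.tensorBi O).obj A).map (K.iCycles n) =
      ((ModSite.tensorBi O).obj A').map (K.iCycles n) ≫
        ((ModSite.tensorBi O).flip.obj (K.X n)).map f :=
    (((ModSite.tensorBi O).map f).naturality (K.iCycles n)).symm
  have h4 : Mono (((ModSite.tensorBi O).flip.obj (K.cycles n)).map f ≫
      ((ModSite.tensorBi O).obj A).map (K.iCycles n)) := by
    rw [h3]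
    exact mono_comp _ _
  exact mono_of_mono _ (((ModSite.tensorBi O).obj A).map (K.iCycles n))

end Groth.Agent.S9052
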