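import Groth.Statements.S4380
import Mathlib
import Groth.Agent.Lib.Helper11.AmpleLocal

set_option autoImplicit false
universe u
open CategoryTheory CategoryTheory.Limits AlgebraicGeometry
open EGA2

namespace Groth.Agent.S4380

section helpers

open AlgebraicGeometry CategoryTheory Limits TopologicalSpace
open Groth.Agent.Lib.Helper11.GenLocus

theorem main_S4380 {X Y : Scheme.{u}} (f : X ⟶ Y) [QuasiCompact f] (L : X.Modules)
    {ι : Type u} (U : ι → Y.Opens) (hU : ⨆ i, U i = ⊤) :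
    RelAmple.IsRelAmple f L ↔
      ∀ i, RelAmple.IsRelAmple (f ∣_ (U i)) (L.restrict (f ⁻¹ᵁ (U i)).ι) := by
  constructor
  · intro h i
    refine ⟨inferInstance, fun V' => ?_⟩
    have haff : IsAffineOpen ((U i).ι ''ᵁ V'.1) := V'.2.image_of_isOpenImmersion _
    have h1 := h.2 ⟨_, haff⟩
    refine (isAmple_restrict_restrict_iff ((f ∣_ U i) ⁻¹ᵁ V'.1).ι (f ⁻¹ᵁ U i).ι
      (f ⁻¹ᵁ ((U i).ι ''ᵁ V'.1)).ι ?_ L).mpr h1
    rw [range_ι_comp_ι, image_morphismRestrict_preimage, Scheme.Opens.range_ι]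
  · intro h
    refine ⟨inferInstance, fun V => ?_⟩
    have hc : IsCompact ((f ⁻¹ᵁ V.1 : X.Opens) : Set X) :=
      QuasiCompact.isCompact_preimage (f := f) V.1.1 V.1.2 V.2.isCompact
    have hloc : ∀ y : V.1, ∃ (i : ι) (a : Γ(Y, V.1)), y.1 ∈ Y.basicOpen a ∧
        Y.basicOpen a ≤ U i := by
      intro y
      have hy : y.1 ∈ ⨆ i, U i := hU ▸ trivial
      obtain ⟨i, hi⟩ := Opens.mem_iSup.mp hy
      obtain ⟨a, haU, hya⟩ := V.2.exists_basicOpen_le (V := U i) ⟨y.1, hi⟩ y.2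
      exact ⟨i, a, hya, haU⟩
    choose i a hya haU using hloc
    apply isAmple_restrict_preimage_of_basicOpen_cover f L V.1 hc a
      (fun y hy => ⟨⟨y, hy⟩, hya ⟨y, hy⟩⟩)
    intro y
    have e : (U (i y)).ι ''ᵁ ((U (i y)).ι ⁻¹ᵁ Y.basicOpen (a y)) = Y.basicOpen (a y) := by
      rw [(U (i y)).ι.image_preimage_eq_opensRange_inf, (U (i y)).opensRange_ι,
        inf_eq_right.mpr (haU y)]
    have haff : IsAffineOpen ((U (i y)).ι ⁻¹ᵁ Y.basicOpen (a y)) := by
      rw [← Scheme.Hom.isAffineOpen_iff_of_isOpenImmersion (U (i y)).ι, e]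
      exact V.2.basicOpen (a y)
    have h1 := (h (i y)).2 ⟨_, haff⟩
    refine (isAmple_restrict_restrict_iff
      ((f ∣_ U (i y)) ⁻¹ᵁ ((U (i y)).ι ⁻¹ᵁ Y.basicOpen (a y))).ι (f ⁻¹ᵁ U (i y)).ι
      (f ⁻¹ᵁ Y.basicOpen (a y)).ι ?_ L).mp h1
    rw [range_ι_comp_ι, image_morphismRestrict_preimage, e, Scheme.Opens.range_ι]


end helpers

/-- Let f : X → Y be a quasi-compact morphism, L an O_X-module and (U_i) a cover of Y by open subsets.
Then L is ample relative to f if and only if, for every i, the restriction of L to f⁻¹(U_i) is ample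
relative to the restriction f⁻¹(U_i) → U_i of f. -/
theorem result {X Y : Scheme.{u}} (f : X ⟶ Y) [QuasiCompact f] (L : X.Modules)
    {ι : Type u} (U : ι → Y.Opens) (hU : ⨆ i, U i = ⊤) :
    RelAmple.IsRelAmple f L ↔ ∀ i, RelAmple.IsRelAmple (f ∣_ (U i)) (L.restrict (f ⁻¹ᵁ (U i)).ι) := by
  exact main_S4380 f L U hU

end Groth.Agent.S4380
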