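import Groth.Statements.S4381
import Mathlib
import Groth.Agent.Lib.Helper11.RestrictTensor

set_option autoImplicit false
universe u
open CategoryTheory CategoryTheory.Limits AlgebraicGeometry
open EGA2

namespace Groth.Agent.S4381

section helpers

open AlgebraicGeometry CategoryTheory Limits TopologicalSpace
open Groth.Agent.Lib.Helper11.GenLocus

theorem main_S4381 {X Y : Scheme.{u}} [IsAffine Y] (f : X ⟶ Y) [QuasiCompact f] (L : X.Modules) :
    RelAmple.IsRelAmple f L ↔ CohB1.IsAmple L := by
  constructor
  · intro h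
    have h1 := h.2 ⟨⊤, isAffineOpen_top Y⟩
    have hiso : IsIso (f ⁻¹ᵁ (⊤ : Y.Opens)).ι :=
      (inferInstance : IsIso X.topIso.hom)
    exact isAmple_of_isAmple_restrict_of_isIso (f ⁻¹ᵁ (⊤ : Y.Opens)).ι h1
  · intro hL
    refine ⟨inferInstance, fun V => ?_⟩
    have hc : CompactSpace ((f ⁻¹ᵁ V.1 : X.Opens) : Scheme.{u}) :=
      isCompact_iff_compactSpace.mp
        (QuasiCompact.isCompact_preimage (f := f) V.1.1 V.1.2 V.2.isCompact)
    exact isAmple_restrict (f ⁻¹ᵁ V.1).ι hL

end helpers

/-- Let Y be an affine scheme, f : X → Y a quasi-compact morphism and L an O_X-module. Then L is ample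
relative to f if and only if L is an ample O_X-module. -/
theorem result {X Y : Scheme.{u}} [IsAffine Y] (f : X ⟶ Y) [QuasiCompact f] (L : X.Modules) :
    RelAmple.IsRelAmple f L ↔ CohB1.IsAmple L := by
  exact main_S4381 f L

end Groth.Agent.S4381
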