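import Groth.Statements.S9819
import Groth.Agent.Lib.Helper18.LSubSection
import Groth.Agent.Lib.Helper18.FTApprox

set_option autoImplicit false
universe u
open CategoryTheory CategoryTheory.Limits AlgebraicGeometry TopologicalSpace Opposite
open Props

namespace Groth.Agent.S9819

/-- On a quasi-compact quasi-separated scheme, every local section of a quasi-coherent module over an
affine open lies in some quasi-coherent submodule of finite type; hence the module is the directed
union of its quasi-coherent submodules of finite type. -/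
theorem result {X : Scheme.{u}} [CompactSpace X]
    [QuasiSeparatedSpace X] (F : X.Modules) [Coh.IsQCoh F] (U : X.affineOpens)
    (s : F.val.obj (op (U : X.Opens))) :
    ∃ (G : X.Modules) (i : G ⟶ F), Mono i ∧ Coh.IsQCoh G ∧ CohB1.IsFT G ∧
      ∃ g : G.val.obj (op (U : X.Opens)), (i.val.app (op (U : X.Opens))).hom g = s := by
  classical
  obtain ⟨T, hT⟩ := Groth.Agent.Lib.Helper18.FTApprox.exists_finite_affine_cover X
  let ε := T.equivFin
  let V : Fin T.card → X.Opens := fun k => ((ε.symm k : ↥T) : X.affineOpens).1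
  have hV : ∀ l, IsAffineOpen (V l) := fun l => ((ε.symm l : ↥T) : X.affineOpens).2
  have hcov : ⨆ l, V l = ⊤ := by
    rw [← hT]
    exact ε.symm.iSup_comp (g := fun W : ↥T => (W.1 : X.affineOpens).1)
  have hW : ∀ l, IsCompact ((V l : Set X) ∩ ⋃ m ∈ Set.Iio l, (V m : Set X)) := by
    intro l
    rw [Set.inter_iUnion₂]
    refine (Set.finite_Iio l).isCompact_biUnion fun m _ => ?_
    exact QuasiSeparatedSpace.inter_isCompact _ _ (V l).2 (hV l).isCompact (V m).2 (hV m).isCompact
  have hW₀ : ∀ l, IsCompact ((V l : Set X) ∩ ((U : X.Opens) : Set X)) := by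
    intro l
    exact QuasiSeparatedSpace.inter_isCompact _ _ (V l).2 (hV l).isCompact U.1.2 U.2.isCompact
  obtain ⟨K, hq, hft, hs⟩ := Groth.Agent.Lib.Helper18.LSubM.exists_sub_through_section
    (F := F) V hV hcov hW U.2 hW₀ s
  exact ⟨K.toModules, K.ι, inferInstance, hq, hft, K.sec U.1 s hs, rfl⟩

end Groth.Agent.S9819
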