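import Mathlib
import Groth.Statements.S9514
import Groth.Agent.Lib.Helper49.CohNoeth

set_option autoImplicit false
universe u
open Coherent

namespace Groth.Agent.S9514

open CategoryTheory CategoryTheory.Limits AlgebraicGeometry in
/-- Let X be a locally Noetherian scheme and φ : F → G a morphism of O_X-modules with F and G coherent.
Then the kernel and the cokernel of φ, taken in the category of O_X-modules, are coherent. -/
theorem result (X : Scheme.{u}) [IsLocallyNoetherian X] {F G : X.Modules}
    (hF : Coh.IsCoh F) (hG : Coh.IsCoh G) (φ : F ⟶ G) :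
    Coh.IsCoh (kernel φ) ∧ Coh.IsCoh (cokernel φ) := by
  open Groth.Agent.Lib.Helper49 in
  obtain ⟨hF1, hF2⟩ := hF
  obtain ⟨hG1, hG2⟩ := hG
  have hk : (kernel φ).IsQuasicoherent := isQuasicoherent_kernel φ hF1 hG1
  have hc : (cokernel φ).IsQuasicoherent := isQuasicoherent_cokernel φ hF1 hG1
  have : F.IsQuasicoherent := hF1
  exact ⟨⟨hk, isFiniteType_of_mono (kernel.ι φ) hF2⟩, ⟨hc, isFiniteType_of_epi (cokernel.π φ) hG2⟩⟩

end Groth.Agent.S9514
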