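import Mathlib
import Groth.Statements.S0932
import Groth.Agent.Lib.Helper30.LocalLift

set_option autoImplicit false
universe u
open CategoryTheory
attribute [local instance] HasDerivedCategory.standard
open DCoh

namespace Groth.Agent.S0932
open AlgebraicGeometry CategoryTheory.Limits
open Groth.Agent.Lib.Helper30.LocalLift

variable {X : Scheme.{u}} {E F : CochainComplex X.Modules ℤ} (α : E ⟶ F)

/-- a family of candidate homotopy components over `V`. -/
abbrev Fam (E F : CochainComplex X.Modules ℤ) (V : X.Opens) :=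
  ∀ p q : ℤ, (Scheme.Modules.restrictFunctor V.ι).obj (E.X p) ⟶ (Scheme.Modules.restrictFunctor V.ι).obj (F.X q)

/-- the homotopy relation in degree `k` over `V`. -/
def Rel (V : X.Opens) (h : Fam E F V) (k : ℤ) : Prop :=
  ∀ (k' k'' : ℤ), k' + 1 = k → k + 1 = k'' →
    (Scheme.Modules.restrictFunctor V.ι).map (α.f k) =
      (Scheme.Modules.restrictFunctor V.ι).map (E.d k k'') ≫ h k'' k +
        h k k' ≫ (Scheme.Modules.restrictFunctor V.ι).map (F.d k' k)

lemma Rel_Tr {V' V : X.Opens} (hV : V' ≤ V) (h : Fam E F V) (k : ℤ) (hk : Rel α V h k) :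
    Rel α V' (fun p q => Tr hV (h p q)) k := by
  intro k' k'' h1 h2
  rw [← Tr_map hV, hk k' k'' h1 h2, Tr_add, Tr_comp, Tr_comp, Tr_map, Tr_map]

lemma Rel_of_isZero (V : X.Opens) (h : Fam E F V) (k : ℤ) (hk : IsZero (E.X k)) : Rel α V h k := by
  intro k' k'' _ _
  exact ((Scheme.Modules.restrictFunctor V.ι).map_isZero hk).eq_of_src _ _

/-- the inductive step: extend the relations one degree down. -/
lemma step (hfl : ∀ i, FlatMod.IsFinLocFree (E.X i)) (x : X) (i : ℤ)
    (hFi : IsZero (F.homology i))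
    (V : X.Opens) (hxV : x ∈ V) (h : Fam E F V) (H : ∀ k, i < k → Rel α V h k) :
    ∃ (V' : X.Opens) (h' : Fam E F V'), x ∈ V' ∧ ∀ k, i ≤ k → Rel α V' h' k := by
  let rV := Scheme.Modules.restrictFunctor V.ι
  let S : ShortComplex X.Modules := F.sc' (i - 1) i (i + 1)
  have hS : S.Exact :=
    (F.exactAt_iff' (i - 1) i (i + 1) (by simp) (by simp)).mp
      ((F.exactAt_iff_isZero_homology i).mpr hFi)
  let β : rV.obj (E.X i) ⟶ rV.obj (F.X i) := rV.map (α.f i) - rV.map (E.d i (i + 1)) ≫ h (i + 1) i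
  have hβ : β ≫ rV.map (F.d i (i + 1)) = 0 := by
    have hR := H (i + 1) (by omega) i (i + 1 + 1) rfl rfl
    have hcomm : rV.map (α.f i) ≫ rV.map (F.d i (i + 1)) =
        rV.map (E.d i (i + 1)) ≫ rV.map (α.f (i + 1)) := by
      rw [← Functor.map_comp, ← Functor.map_comp, α.comm]
    have hdd : rV.map (E.d i (i + 1)) ≫ rV.map (E.d (i + 1) (i + 1 + 1)) = 0 := by
      rw [← Functor.map_comp, E.d_comp_d, Functor.map_zero]
    change (rV.map (α.f i) - rV.map (E.d i (i + 1)) ≫ h (i + 1) i) ≫ rV.map (F.d i (i + 1)) = 0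
    rw [Preadditive.sub_comp, hcomm, hR, Preadditive.comp_add, reassoc_of% hdd, zero_comp, zero_add,
      Category.assoc, sub_self]
  obtain ⟨U, hUV, V', hV'U, ℓ0, hxV', hℓ0⟩ :=
    exists_local_lift_exact (hfl i) S hS V x hxV β hβ
  let ℓ : (Scheme.Modules.restrictFunctor V'.ι).obj (E.X i) ⟶
      (Scheme.Modules.restrictFunctor V'.ι).obj (F.X (i - 1)) := ℓ0
  have hℓ : ℓ ≫ (Scheme.Modules.restrictFunctor V'.ι).map (F.d (i - 1) i) = Tr hV'U (Tr hUV β) := hℓ0
  let h₀ : Fam E F V' := fun p q => Tr hV'U (Tr hUV (h p q))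
  let h' : Fam E F V' := Function.update h₀ i (Function.update (h₀ i) (i - 1) ℓ)
  refine ⟨V', h', hxV', ?_⟩
  intro k hk
  rcases eq_or_lt_of_le hk with rfl | hk
  · intro k' k'' h1 h2
    obtain rfl : k' = i - 1 := by omega
    subst h2
    have e1 : h' (i + 1) i = h₀ (i + 1) i := by
      change Function.update h₀ i (Function.update (h₀ i) (i - 1) ℓ) (i + 1) i = _
      rw [Function.update_of_ne (by omega)]
    have e2 : h' i (i - 1) = ℓ := by
      change Function.update h₀ i (Function.update (h₀ i) (i - 1) ℓ) i (i - 1) = _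
      rw [Function.update_self, Function.update_self]
    rw [e1, e2]
    rw [hℓ]
    change _ = _ + Tr hV'U (Tr hUV (rV.map (α.f i) - rV.map (E.d i (i + 1)) ≫ h (i + 1) i))
    rw [Tr_sub, Tr_sub, Tr_map, Tr_map, Tr_comp, Tr_comp, Tr_map, Tr_map]
    abel
  · have e : ∀ q, h' k q = h₀ k q := by
      intro q
      change Function.update h₀ i (Function.update (h₀ i) (i - 1) ℓ) k q = _
      rw [Function.update_of_ne (by omega)]
    intro k' k'' h1 h2
    have e1 : h' k'' k = h₀ k'' k := by
      change Function.update h₀ i (Function.update (h₀ i) (i - 1) ℓ) k'' k = _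
      rw [Function.update_of_ne (by omega)]
    rw [e1, e k']
    exact Rel_Tr α hV'U _ k (Rel_Tr α hUV h k (H k hk)) k' k'' h1 h2

lemma exists_partial (hfl : ∀ i, FlatMod.IsFinLocFree (E.X i)) (a b : ℤ)
    (hEa : ∀ i : ℤ, i < a → IsZero (E.X i)) (hEb : ∀ i : ℤ, b < i → IsZero (E.X i))
    (hF : ∀ i : ℤ, a ≤ i → IsZero (F.homology i)) (x : X) (m : ℕ) :
    ∃ (V : X.Opens) (h : Fam E F V), x ∈ V ∧ ∀ k, b - m < k → Rel α V h k := by
  induction m with
  | zero =>
    refine ⟨⊤, fun _ _ => 0, trivial, fun k hk => Rel_of_isZero α _ _ k (hEb k (by simpa using hk))⟩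
  | succ m ih =>
    obtain ⟨V, h, hxV, H⟩ := ih
    by_cases hi : a ≤ b - m
    · obtain ⟨V', h', hxV', H'⟩ := step α hfl x (b - m) (hF _ hi) V hxV h H
      refine ⟨V', h', hxV', fun k hk => H' k ?_⟩
      push_cast at hk
      omega
    · refine ⟨V, h, hxV, fun k hk => ?_⟩
      push_cast at hk
      by_cases hk' : b - m < k
      · exact H k hk'
      · exact Rel_of_isZero α _ _ k (hEa k (by omega))

/-- the homotopy assembled from a family satisfying all relations. -/
noncomputable def mkHomotopy (V : X.Opens) (h : Fam E F V) (H : ∀ k, Rel α V h k) :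
    Homotopy ((DCoh.restrictCx V).map α) 0 where
  hom p q := if q + 1 = p then h p q else 0
  zero p q hpq := if_neg hpq
  comm k := by
    rw [dNext_eq _ (show (ComplexShape.up ℤ).Rel k (k + 1) from rfl),
      prevD_eq _ (show (ComplexShape.up ℤ).Rel (k - 1) k by simp)]
    rw [if_pos rfl, if_pos (by omega : k - 1 + 1 = k)]
    simp only [HomologicalComplex.zero_f, add_zero]
    exact H k (k - 1) (k + 1) (by omega) rfl

open AlgebraicGeometry CategoryTheory.Limits in
/-- Let X be a scheme, E and F cochain complexes of O_X-modules with E strictly perfect and zero in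
degrees < a, and α : E → F a chain map. Assume the cohomology sheaves H^i(F) vanish for all i ≥ a.
Then every point of X has an open neighbourhood V such that the restriction of α to V is homotopic
to zero. (The case of an acyclic complex F is a special case.) -/
theorem result {X : Scheme.{u}} {E F : CochainComplex X.Modules ℤ}
    (α : E ⟶ F) (hE : DCoh.IsStrictlyPerfect E) (a : ℤ) (hEa : ∀ i : ℤ, i < a → IsZero (E.X i))
    (hF : ∀ i : ℤ, a ≤ i → IsZero (F.homology i)) (x : X) :
    ∃ V : X.Opens, x ∈ V ∧ Nonempty (Homotopy ((DCoh.restrictCx V).map α) 0) := by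
  obtain ⟨⟨a', b, hab⟩, hfl⟩ := hE
  have hEb : ∀ i : ℤ, b < i → IsZero (E.X i) := fun i hi => hab i (Or.inr hi)
  obtain ⟨V, h, hxV, H⟩ := exists_partial α hfl a b hEa hEb hF x (b - a + 1).toNat
  refine ⟨V, hxV, ⟨mkHomotopy α V h fun k => ?_⟩⟩
  by_cases hk : b - ((b - a + 1).toNat : ℤ) < k
  · exact H k hk
  · have h1 : b - a + 1 ≤ ((b - a + 1).toNat : ℤ) := Int.self_le_toNat _
    exact Rel_of_isZero α _ _ k (hEa k (by omega))

end Groth.Agent.S0932
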