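import Mathlib
import Groth.Statements.S0933
import Groth.Agent.S0932
import Groth.Agent.Lib.Helper30.ConeLift

set_option autoImplicit false
universe u
open CategoryTheory
attribute [local instance] HasDerivedCategory.standard
open DCoh

namespace Groth.Agent.S0933

open AlgebraicGeometry CategoryTheory.Limits in
/-- Let E be a strictly perfect complex of O_X-modules with E^j = 0 for j < a, let f : G -> F be a
morphism of complexes inducing isomorphisms on cohomology sheaves in degrees > a and an epimorphism
in degree a, and let α : E -> F. Then every point has an open neighbourhood V over which there is β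
: E|_V -> G|_V with β ≫ f|_V homotopic to α|_V. -/
theorem result {X : Scheme.{u}} {E F G : CochainComplex X.Modules ℤ}
    (α : E ⟶ F) (f : G ⟶ F) (hE : DCoh.IsStrictlyPerfect E) (a : ℤ) (hEa : ∀ j : ℤ, j < a → IsZero (E.X j))
    (hf : ∀ j : ℤ, a < j → IsIso (HomologicalComplex.homologyMap f j))
    (hfa : Epi (HomologicalComplex.homologyMap f a)) (x : X) :
    ∃ (V : X.Opens) (β : (DCoh.restrictCx V).obj E ⟶ (DCoh.restrictCx V).obj G), x ∈ V ∧
      Nonempty (Homotopy (β ≫ (DCoh.restrictCx V).map f) ((DCoh.restrictCx V).map α)) := by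
  have hC : ∀ j : ℤ, a ≤ j → IsZero ((CochainComplex.mappingCone f).homology j) := by
    intro j hj
    have h2 : Mono (HomologicalComplex.homologyMap f (j + 1)) := by
      have := hf (j + 1) (by omega)
      infer_instance
    have h1 : Epi (HomologicalComplex.homologyMap f j) := by
      rcases eq_or_lt_of_le hj with rfl | hj
      · exact hfa
      · have := hf j hj
        infer_instance
    exact Groth.Agent.Lib.Helper30.ConeLift.isZero_homology_mappingCone f j h1 h2
  obtain ⟨V, hxV, ⟨H0⟩⟩ := Groth.Agent.S0932.result (α ≫ CochainComplex.mappingCone.inr f) hE a hEa hC x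
  let R := DCoh.restrictCx V
  let κ := CochainComplex.mappingCone.mapHomologicalComplexIso f (Scheme.Modules.restrictFunctor V.ι)
  have hκ : R.map (CochainComplex.mappingCone.inr f) ≫ κ.hom =
      CochainComplex.mappingCone.inr (R.map f) :=
    CochainComplex.mappingCone.map_inr f (Scheme.Modules.restrictFunctor V.ι)
  have e1 : R.map α ≫ CochainComplex.mappingCone.inr (R.map f) =
      R.map (α ≫ CochainComplex.mappingCone.inr f) ≫ κ.hom := by
    rw [Functor.map_comp, Category.assoc, hκ]
  have H1 : Homotopy (R.map α ≫ CochainComplex.mappingCone.inr (R.map f)) 0 :=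
    (Homotopy.ofEq e1).trans ((H0.compRight κ.hom).trans (Homotopy.ofEq zero_comp))
  obtain ⟨β, hβ⟩ := Groth.Agent.Lib.Helper30.ConeLift.exists_lift_of_homotopy_inr (R.map f) (R.map α) H1
  exact ⟨V, β, hxV, hβ⟩

end Groth.Agent.S0933
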