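import Mathlib
import Groth.Statements.S0944
import Groth.Agent.S0933

set_option autoImplicit false
universe u
open CategoryTheory
attribute [local instance] HasDerivedCategory.standard
open DCoh

namespace Groth.Agent.S0944

open AlgebraicGeometry CategoryTheory.Limits in
/-- Let X be a scheme, E a strictly perfect complex of O_X-modules, F any complex of O_X-modules and α :
E → F a morphism in the derived category D(O_X). Then every point of X has an open neighbourhood V
such that the restriction of α to D(O_V) is induced by an actual morphism of complexes E|_V → F|_V,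
the two being compared through the canonical identification of restricting-then-localising with
localising-then-restricting. (Stated for schemes. The published statement has a second part, which
is not asserted here. Restriction D(O_X) → D(O_V) is the prelude's functor DCoh.restrictD, which is
available under the binder that restriction of O_X-modules to V preserves finite limits; the
conclusion is stated under that binder.) -/
theorem result {X : Scheme.{u}} {E F : CochainComplex X.Modules ℤ}
    (hE : DCoh.IsStrictlyPerfect E) (α : DCoh.toD X E ⟶ DCoh.toD X F) (x : X) :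
    ∃ V : X.Opens, x ∈ V ∧ ∀ [PreservesFiniteLimits (Scheme.Modules.restrictFunctor V.ι)],
      ∃ β : (DCoh.restrictCx V).obj E ⟶ (DCoh.restrictCx V).obj F,
        (DCoh.restrictD V.ι).map α =
          (Scheme.Modules.restrictFunctor V.ι).mapDerivedCategoryFactors.hom.app E ≫ DerivedCategory.Q.map β ≫
            (Scheme.Modules.restrictFunctor V.ι).mapDerivedCategoryFactors.inv.app F := by
  obtain ⟨Y', g, s, hs, hα⟩ := DerivedCategory.left_fac α
  have hα' : α ≫ DerivedCategory.Q.map s = DerivedCategory.Q.map g := by
    rw [hα, Category.assoc, IsIso.inv_hom_id, Category.comp_id]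
  have hqi : QuasiIso s := (DerivedCategory.isIso_Q_map_iff_quasiIso (φ := s)).mp hs
  have hiso : ∀ j : ℤ, IsIso (HomologicalComplex.homologyMap s j) := fun j =>
    (quasiIsoAt_iff_isIso_homologyMap s j).mp (hqi.quasiIsoAt j)
  obtain ⟨⟨a, b, hab⟩, hfl⟩ := hE
  obtain ⟨V, β, hxV, ⟨H⟩⟩ := Groth.Agent.S0933.result g s ⟨⟨a, b, hab⟩, hfl⟩ a
    (fun j hj => hab j (Or.inl hj)) (fun j _ => hiso j) (by have := hiso a; infer_instance) x
  refine ⟨V, hxV, ?_⟩
  intro inst
  refine ⟨β, ?_⟩
  let φ := (Scheme.Modules.restrictFunctor V.ι).mapDerivedCategoryFactors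
  let R := DCoh.restrictCx V
  let D := DCoh.restrictD V.ι
  have hmono : IsIso (D.map (DerivedCategory.Q.map s)) := inferInstance
  rw [← cancel_mono (D.map (DerivedCategory.Q.map s)), ← D.map_comp, hα']
  have n1 := φ.hom.naturality g
  have n2 := φ.inv.naturality s
  have hQ : DerivedCategory.Q.map (β ≫ R.map s) = DerivedCategory.Q.map (R.map g) :=
    DerivedCategory.Q_map_eq_of_homotopy (h := H)
  have n1' : D.map (DerivedCategory.Q.map g) = φ.hom.app E ≫ DerivedCategory.Q.map (R.map g) ≫ φ.inv.app Y' := by
    have : D.map (DerivedCategory.Q.map g) ≫ φ.hom.app Y' = φ.hom.app E ≫ DerivedCategory.Q.map (R.map g) := n1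
    rw [← Category.assoc, ← this, Category.assoc, Iso.hom_inv_id_app]
    exact (Category.comp_id _).symm
  have n2' : φ.inv.app F ≫ D.map (DerivedCategory.Q.map s) = DerivedCategory.Q.map (R.map s) ≫ φ.inv.app Y' :=
    n2.symm
  rw [n1', Category.assoc, Category.assoc, n2', ← hQ, Functor.map_comp, Category.assoc]

end Groth.Agent.S0944
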