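import Groth.Statements.S6516
import Groth.Agent.Lib.Helper16.LFRes.LFHyp
import Groth.Agent.Lib.Helper14.ParaFFree

set_option autoImplicit false
universe u
open CategoryTheory
open DCoh

namespace Groth.Agent.S6516

open AlgebraicGeometry in
/-- Schemes; with the bounded finite-locally-free reading of strictly perfect used throughout this
problem's derived-category definitions: the mapping cone of a morphism between strictly perfect
complexes of O_X-modules is strictly perfect. -/
theorem result {X : Scheme.{u}} {E F : CochainComplex X.Modules ℤ} (φ : E ⟶ F)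
    (hE : DCoh.IsStrictlyPerfect E) (hF : DCoh.IsStrictlyPerfect F) :
    DCoh.IsStrictlyPerfect (CochainComplex.mappingCone φ) := by
  obtain ⟨⟨a, b, hab⟩, hEf⟩ := hE
  obtain ⟨⟨a', b', hab'⟩, hFf⟩ := hF
  have hiso : ∀ i : ℤ, (CochainComplex.mappingCone φ).X i ≅ E.X (i + 1) ⊞ F.X i := fun i =>
    HomologicalComplex.homotopyCofiber.XIsoBiprod φ i (i + 1) rfl
  refine ⟨⟨min (a - 1) a', max (b - 1) b', fun i hi => ?_⟩, fun i => ?_⟩
  · refine CategoryTheory.Limits.IsZero.of_iso ?_ (hiso i)
    rw [CategoryTheory.Limits.biprod_isZero_iff]
    constructor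
    · apply hab
      rcases hi with hi | hi
      · left
        have := lt_of_lt_of_le hi (min_le_left _ _)
        omega
      · right
        have := lt_of_le_of_lt (le_max_left _ _) hi
        omega
    · apply hab'
      rcases hi with hi | hi
      · left
        exact lt_of_lt_of_le hi (min_le_right _ _)
      · right
        exact lt_of_le_of_lt (le_max_right _ _) hi
  · refine Groth.Agent.Lib.Helper14.isFinLocFree_of_iso (hiso i).symm ?_
    refine Groth.Agent.Lib.Helper16.LFRes.isFinLocFree_of_ses_ext ?_ (hEf (i + 1)) (hFf i)
    exact ⟨CategoryTheory.Limits.biprod.inl, CategoryTheory.Limits.biprod.snd,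
      CategoryTheory.Limits.biprod.inl_snd,
      (CategoryTheory.ShortComplex.Splitting.ofHasBinaryBiproduct (E.X (i + 1)) (F.X i)).shortExact⟩

end Groth.Agent.S6516
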