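import Groth.Statements.S0952
import Groth.Agent.Lib.Helper28.StalkKFlat
import Groth.Agent.Lib.Helper28.PullbackStalk
import Groth.Agent.S6906

set_option autoImplicit false
universe u
open CategoryTheory
attribute [local instance] HasDerivedCategory.standard
open DCoh

open Groth.Agent.Lib.Helper28

namespace Groth.Agent.S0952

open AlgebraicGeometry in
/-- For a morphism f : X -> Y and a K-flat complex K of O_Y-modules, the termwise pullback f^* K is a
K-flat complex of O_X-modules. -/
theorem result {X Y : Scheme.{u}} (f : X ⟶ Y) (K : CochainComplex Y.Modules ℤ) (hK : DCoh.IsKFlat K) :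
    DCoh.IsKFlat (((Scheme.Modules.pullback f).mapHomologicalComplex (ComplexShape.up ℤ)).obj K) := by
  rw [Groth.Agent.Lib.Helper28.StalkKFlat.isKFlat_iff_stalks]
  intro x
  let e : (Groth.Agent.Lib.Helper5.StalkTensorCx.stalkCx X x).obj
      (((Scheme.Modules.pullback f).mapHomologicalComplex (ComplexShape.up ℤ)).obj K) ≅
      ((ModuleCat.extendScalars.{u, u, u} (f.stalkMap x).hom).mapHomologicalComplex
        (ComplexShape.up ℤ)).obj
          ((Groth.Agent.Lib.Helper5.StalkTensorCx.stalkCx Y (f.base x)).obj K) :=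
    (Functor.mapHomologicalComplexCompIso
      (Groth.Agent.Lib.Helper28.SkyMod.pullbackStalkIso f x) (ComplexShape.up ℤ)).app K ≪≫
    (Functor.mapHomologicalComplexCompIso (Iso.refl
      (DerSch.stalkFunctor Y (f.base x) ⋙ ModuleCat.extendScalars.{u, u, u} (f.stalkMap x).hom))
      (ComplexShape.up ℤ)).symm.app K
  have h0 := Groth.Agent.Lib.Helper28.StalkKFlat.isKFlat_stalk (f.base x) K hK
  have h1 := Groth.Agent.S6906.result _ _ (f.stalkMap x).hom _ h0
  intro L hL i
  exact CategoryTheory.Limits.IsZero.of_iso (h1 L hL i)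
    ((HomologicalComplex.homologyFunctor _ _ i).mapIso
      (MonoidalCategory.tensorIso (Iso.refl L) e))

end Groth.Agent.S0952
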