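import Groth.Statements.S6508
-- import your own Groth.Agent.* helpers here
import Groth.Agent.Lib.Helper32.RDerCrit
import Groth.Agent.Lib.Helper32.OpenKInj

set_option autoImplicit false
universe u
open CategoryTheory
attribute [local instance] HasDerivedCategory.standard
open DCoh

namespace Groth.Agent.S6508

open AlgebraicGeometry CategoryTheory.Limits Groth.Agent.Lib.Helper32.KInjDerived
  Groth.Agent.Lib.Helper32.RDerCrit Groth.Agent.Lib.Helper32.OpenKInj

open AlgebraicGeometry CategoryTheory.Limits in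
/-- Let f : X → Y be a morphism of schemes, V ⊆ Y open, U = f⁻¹(V) and g : U → V the induced morphism.
Then (Rf_* E)|_V ≅ Rg_*(E|_U) naturally in E ∈ D(O_X); asserted here as the existence of an
isomorphism between the two composite functors D(O_X) → D(O_V), the derived functors being assumed
to exist. (The published statement is for ringed spaces; this row is for schemes.) -/
theorem result {X Y : Scheme.{u}} (f : X ⟶ Y) (V : Y.Opens)
    [DCoh.HasRpush f] [DCoh.HasRpush (f ∣_ V)]
    [PreservesFiniteLimits (Scheme.Modules.restrictFunctor V.ι)]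
    [PreservesFiniteLimits (Scheme.Modules.restrictFunctor (f ⁻¹ᵁ V).ι)] :
    Nonempty (DCoh.Rpush f ⋙ DCoh.restrictD V.ι ≅ DCoh.restrictD (f ⁻¹ᵁ V).ι ⋙ DCoh.Rpush (f ∣_ V)) := by
  let U : X.Opens := f ⁻¹ᵁ V
  let g : (U : Scheme.{u}) ⟶ (V : Scheme.{u}) := f ∣_ V
  let WX := HomotopyCategory.quasiIso X.Modules (ComplexShape.up ℤ)
  let WU := HomotopyCategory.quasiIso (U : Scheme.{u}).Modules (ComplexShape.up ℤ)
  have hX := hasKInjRes X
  have hU := hasKInjRes (U : Scheme.{u})
  have hLX := hasTerminalArrows_Qh hX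
  -- first functor
  let αf := (pushKh f).totalRightDerivedUnit DerivedCategory.Qh WX
  let β₁ : pushKh f ⋙ DCoh.restrictD V.ι ⟶
      DerivedCategory.Qh ⋙ (DCoh.Rpush f ⋙ DCoh.restrictD V.ι) :=
    Functor.whiskerRight αf (DCoh.restrictD V.ι) ≫ (Functor.associator _ _ _).hom
  have h₁ : (DCoh.Rpush f ⋙ DCoh.restrictD V.ι).IsRightDerivedFunctor β₁ WX :=
    isRightDerivedFunctor_comp hLX WX (DCoh.Rpush f) αf (DCoh.restrictD V.ι)
  -- second functor
  let resU := Scheme.Modules.restrictFunctor U.ι
  let αg := (pushKh g).totalRightDerivedUnit DerivedCategory.Qh WU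
  let F₂ : HomotopyCategory X.Modules (ComplexShape.up ℤ) ⥤ D (V : Scheme.{u}) :=
    resU.mapHomotopyCategory (ComplexShape.up ℤ) ⋙ pushKh g
  let β₂ : F₂ ⟶ DerivedCategory.Qh ⋙ (DCoh.restrictD U.ι ⋙ DCoh.Rpush g) :=
    Functor.whiskerLeft (resU.mapHomotopyCategory (ComplexShape.up ℤ)) αg ≫
      (Functor.associator _ _ _).inv ≫
      Functor.whiskerRight (resU.mapDerivedCategoryFactorsh).inv (DCoh.Rpush g) ≫
      (Functor.associator _ _ _).hom
  have h₂ : (DCoh.restrictD U.ι ⋙ DCoh.Rpush g).IsRightDerivedFunctor β₂ WX := by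
    apply isRightDerivedFunctor_of_isIso hX
    intro I hI
    have hI' := isKInjective_restrict U I hI
    have h1 : IsIso (αg.app ((HomotopyCategory.quotient _ (ComplexShape.up ℤ)).obj
        ((resU.mapHomologicalComplex (ComplexShape.up ℤ)).obj I))) :=
      isIso_app_kInjective hU (DCoh.Rpush g) αg _
    have h2 : β₂.app ((HomotopyCategory.quotient _ (ComplexShape.up ℤ)).obj I) =
        αg.app ((HomotopyCategory.quotient _ (ComplexShape.up ℤ)).obj
          ((resU.mapHomologicalComplex (ComplexShape.up ℤ)).obj I)) ≫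
        (DCoh.Rpush g).map ((resU.mapDerivedCategoryFactorsh).inv.app
          ((HomotopyCategory.quotient _ (ComplexShape.up ℤ)).obj I)) := by
      simp [β₂]
      rfl
    rw [h2]
    have h3 : IsIso ((DCoh.Rpush g).map ((resU.mapDerivedCategoryFactorsh).inv.app
          ((HomotopyCategory.quotient _ (ComplexShape.up ℤ)).obj I))) := inferInstance
    exact IsIso.comp_isIso' h1 h3
  -- comparison of the underived functors
  let e₀ := pushforwardRestrictIso f V
  let τ : pushKh f ⋙ DCoh.restrictD V.ι ≅ F₂ :=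
    Functor.associator _ _ _ ≪≫
      Functor.isoWhiskerLeft _ ((Scheme.Modules.restrictFunctor V.ι).mapDerivedCategoryFactorsh) ≪≫
      (Functor.associator _ _ _).symm ≪≫
      Functor.isoWhiskerRight
        (Functor.mapHomotopyCategoryCompIso e₀ (ComplexShape.up ℤ) ≪≫
          (Functor.mapHomotopyCategoryCompIso (Iso.refl (resU ⋙ Scheme.Modules.pushforward g))
            (ComplexShape.up ℤ)).symm) DerivedCategory.Qh ≪≫
      Functor.associator _ _ _
  exact ⟨Functor.rightDerivedNatIso _ _ β₁ β₂ WX τ⟩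

end Groth.Agent.S6508
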