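import Groth.Statements.S1040
import Mathlib
import Groth.Agent.Lib.Helper32.OpenKInj
import Groth.Agent.Lib.Helper32.DCoprod
import Groth.Agent.Lib.Helper49.QCohLocal
import Groth.Agent.Lib.Helper6.ExactDC

set_option autoImplicit false
universe u
open CategoryTheory CategoryTheory.Limits AlgebraicGeometry
attribute [local instance] HasDerivedCategory.standard
open Perf

namespace Groth.Agent.S1040

/-- Let X be a scheme and Kᵢ a family of objects of D(O_X) with quasi-coherent cohomology sheaves,
indexed by a small type, whose direct sum exists in D(O_X). Then ∐ Kᵢ has quasi-coherent cohomology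
sheaves. -/
theorem result (X : Scheme.{u}) {ι : Type u} (K : ι → DCoh.D X) (hK : ∀ i, DCoh.IsQCohD (K i)) [HasCoproduct K] :
    DCoh.IsQCohD (∐ K) := by
  intro n
  let A := X.Modules
  have instG := Groth.Agent.Lib.Helper32.OpenKInj.isGrothendieckAbelian_modules X
  let E : ι → CochainComplex X.Modules ℤ := fun i => DerivedCategory.Q.objPreimage (K i)
  let e : ∀ i, DerivedCategory.Q.obj (E i) ≅ K i := fun i => DerivedCategory.Q.objObjPreimageIso (K i)
  have hc := Groth.Agent.Lib.Helper32.DCoprod.isColimitCofanQ E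
  -- the coproduct is represented by the termwise coproduct
  have : HasColimit (Discrete.functor (fun j => DerivedCategory.Q.obj (E j))) := ⟨⟨_, hc⟩⟩
  let e₁ : ∐ K ≅ DerivedCategory.Q.obj (Groth.Agent.Lib.Helper32.DCoprod.sigmaCx E) :=
    HasColimit.isoOfNatIso (F := Discrete.functor K)
      (G := Discrete.functor (fun j => DerivedCategory.Q.obj (E j)))
      (Discrete.natIso (fun ⟨i⟩ => (e i).symm)) ≪≫
      colimit.isoColimitCocone ⟨_, hc⟩
  let colimF : (Discrete ι ⥤ X.Modules) ⥤ X.Modules := colim
  have hadd : colimF.Additive := Groth.Agent.Lib.Helper32.DCoprod.additive_colim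
  have hla : colimF.IsLeftAdjoint := ⟨_, ⟨colimConstAdj⟩⟩
  have hpc : PreservesFiniteColimits colimF := inferInstance
  have hpl : PreservesFiniteLimits colimF := inferInstance
  let FC := Groth.Agent.Lib.Helper32.DCoprod.famCx E
  let e₂ : (Groth.Agent.Lib.Helper32.DCoprod.sigmaCx E).homology n ≅ colimF.obj (FC.homology n) :=
    (Groth.Agent.Lib.Helper6.ExactDC.homologyIsoCx colimF n).app FC
  let e₃ : DCoh.HD (DerivedCategory.Q.obj (Groth.Agent.Lib.Helper32.DCoprod.sigmaCx E)) n ≅
      (Groth.Agent.Lib.Helper32.DCoprod.sigmaCx E).homology n :=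
    (DerivedCategory.homologyFunctorFactors X.Modules n).app _
  have hcomp : ∀ j : Discrete ι, ((FC.homology n).obj j).IsQuasicoherent := by
    rintro ⟨j⟩
    let ev : (Discrete ι ⥤ X.Modules) ⥤ X.Modules := (evaluation (Discrete ι) X.Modules).obj ⟨j⟩
    let e₄ : ((ev.mapHomologicalComplex (ComplexShape.up ℤ)).obj FC).homology n ≅
        ev.obj (FC.homology n) :=
      (Groth.Agent.Lib.Helper6.ExactDC.homologyIsoCx ev n).app FC
    let e₅ : (ev.mapHomologicalComplex (ComplexShape.up ℤ)).obj FC ≅ E j :=
      HomologicalComplex.Hom.isoOfComponents (fun q => Iso.refl _) (by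
        intro p q _
        exact (Category.id_comp _).trans (Category.comp_id _).symm)
    let e₆ : (E j).homology n ≅ DCoh.HD (K j) n :=
      ((DerivedCategory.homologyFunctorFactors X.Modules n).app (E j)).symm ≪≫
        (DerivedCategory.homologyFunctor X.Modules n).mapIso (e j)
    exact Groth.Agent.Lib.Helper49.isQuasicoherent_of_iso
      (e₆.symm ≪≫ (HomologicalComplex.homologyFunctor _ _ n).mapIso e₅.symm ≪≫ e₄) (hK j n)
  have hcol : (colimit (FC.homology n)).IsQuasicoherent :=
    Groth.Agent.Lib.Helper49.isQuasicoherent_colimit (FC.homology n) hcomp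
  exact Groth.Agent.Lib.Helper49.isQuasicoherent_of_iso
    (((DerivedCategory.homologyFunctor X.Modules n).mapIso e₁ ≪≫ e₃ ≪≫ e₂).symm) hcol

end Groth.Agent.S1040
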