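import Groth.Statements.S12556
import Groth.Agent.Lib.Helper59.LinRed

set_option autoImplicit false
universe u
open TensorProduct
open GIT

namespace Groth.Agent.S12556

/-- Let k be a field, G = Spec A a linearly reductive affine group (A a commutative Hopf algebra whose
finite-dimensional comodules are all semisimple) acting on the affine scheme Spec R (a
multiplicative coaction of A on the commutative k-algebra R), and E : R → R a linear map commuting
with the coaction, idempotent, and fixing exactly the invariant elements. Then E(x · y) = E(x) · y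
for all x in R and all invariant y. -/
theorem result (k : Type u) [Field k] (A : Type u) [CommRing A] [HopfAlgebra k A]
    (hG : HopfRep.IsLinearlyReductive k A)
    (R : Type u) [CommRing R] [Algebra k R] [HopfRep.Comod k A R] [GLin.IsCoactAlg k A R]
    (E : R →ₗ[k] R) (h₁ : Hoch.IsComodHom A E) (h₂ : E ∘ₗ E = E)
    (h₃ : ∀ x : R, E x = x ↔ x ∈ GLin.invariants k A R)
    (x y : R) (hy : y ∈ GLin.invariants k A R) : E (x * y) = E x * y := by
  have hE : Groth.Agent.Lib.Helper59.LinRed.IsReynolds (A := A) E := ⟨h₁, h₂, h₃⟩
  -- multiplication by an invariant element is a comodule map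
  have hmul : Hoch.IsComodHom A (LinearMap.mulRight k y) := by
    apply LinearMap.ext
    intro z
    have hy' : HopfRep.Comod.coact (k := k) (A := A) y = y ⊗ₜ[k] (1 : A) := hy
    have key : ∀ t : R ⊗[k] A, (LinearMap.mulRight k y).rTensor A t = t * (y ⊗ₜ[k] (1 : A)) := by
      intro t
      induction t using TensorProduct.induction_on with
      | zero => simp
      | tmul a b => simp [Algebra.TensorProduct.tmul_mul_tmul]
      | add a b ha hb => simp only [map_add, ha, hb, add_mul]
    simp only [LinearMap.comp_apply, LinearMap.mulRight_apply]
    rw [GLin.IsCoactAlg.coact_mul, hy', key]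
  have hg : Hoch.IsComodHom A (E ∘ₗ LinearMap.mulRight k y) := by
    rw [Groth.Agent.Lib.Helper93.Comod.isComodHom_iff]
    intro φ u
    rw [LinearMap.comp_apply, LinearMap.comp_apply,
      Groth.Agent.Lib.Helper93.Comod.dualAct_comm_of_isComodHom E h₁,
      Groth.Agent.Lib.Helper93.Comod.dualAct_comm_of_isComodHom _ hmul]
  have h := hE.comp_eq hG (E ∘ₗ LinearMap.mulRight k y) hg (fun z => hE.apply_mem _) x
  simp only [LinearMap.comp_apply, LinearMap.mulRight_apply] at h
  rw [← h]
  apply hE.apply_of_mem
  have h1 : E x ∈ GLin.invariants k A R := hE.apply_mem x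
  exact (GLin.invariants k A R).mul_mem h1 hy

end Groth.Agent.S12556
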