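import Groth.Statements.S12579
import Groth.Agent.H57.TateAdele3
import Groth.Agent.FunFld.LocResFF

set_option autoImplicit false
universe u v w
open FunFld

namespace Groth.Agent.S12579

/-- For a function field of one variable `K/k` and `u, v ∈ K`, the local residues `Res_P(u dv)` vanish
for almost all places `P` and `∑_P Res_P(u dv) = 0`; stated through Laurent expansions over `k` at
every place (so for function fields all of whose places are separable), the residue at `P` being the
trace to `k` of the coefficient of `X⁻¹`. -/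
theorem result (k : Type u) (K : Type v) [Field k] [Field K] [Algebra k K] (hK : FunFld.IsFunctionField k K)
    (F : FunFld.Place k K → Type w) [∀ P, Field (F P)] [∀ P, Algebra k (F P)] [∀ P, FiniteDimensional k (F P)]
    (φ : ∀ P, K →ₐ[k] LaurentSeries (F P)) (hφ : ∀ P, LocRes.IsExpansionAt P.1 (φ P))
    (u v : K) :
    (Function.support fun P => LocRes.locRes (φ P) u v).Finite ∧ ∑ᶠ P, LocRes.locRes (φ P) u v = 0 := by
  classical
  have hfin : {P : FunFld.Place k K | ¬ (P.1 u ≤ 1 ∧ P.1 v ≤ 1)}.Finite := by
    apply ((Groth.Agent.FF.finite_not_val_le_one hK u).union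
      (Groth.Agent.FF.finite_not_val_le_one hK v)).subset
    intro P hP
    rw [Set.mem_ofPred_eq, not_and_or] at hP
    exact hP
  have hzero : ∀ P : FunFld.Place k K, (P.1 u ≤ 1 ∧ P.1 v ≤ 1) →
      LocRes.locRes (φ P) u v = 0 := by
    intro P hP
    unfold LocRes.locRes
    rw [Groth.Agent.FF.resExp_eq_zero_of_le_one P.1 (φ P) (hφ P) hP.1 hP.2, map_zero]
  have hsupp : (Function.support fun P => LocRes.locRes (φ P) u v) ⊆ hfin.toFinset := by
    intro P hP
    rw [Set.Finite.coe_toFinset, Set.mem_ofPred_eq]
    intro hcon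
    exact hP (hzero P hcon)
  refine ⟨hfin.subset (by simpa using hsupp), ?_⟩
  rw [finsum_eq_sum_of_support_subset _ hsupp]
  choose πP hπ hπtr using fun P : FunFld.Place k K =>
    Groth.Agent.H57.Tate.exists_isProj_fpTrace_eq (k := k) P.1 (φ P) (hφ P) P.2.1
  have := Groth.Agent.H57.Tate.sum_fpTrace_eq_zero hK πP hπ u v hfin.toFinset (by
    intro Q hQ
    rw [Set.Finite.mem_toFinset, Set.mem_ofPred_eq, not_not] at hQ
    exact hQ)
  rw [← this]
  exact Finset.sum_congr rfl (fun P _ => (hπtr P u v).symm)

end Groth.Agent.S12579
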