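import Groth.Statements.S4925
import Groth.Agent.Lib.Helper24.UnivOpenAt

set_option autoImplicit false
open CategoryTheory AlgebraicGeometry
universe u v w
open EGA43

namespace Groth.Agent.S4925

open Groth.Agent.Lib.Helper24 CategoryTheory.Limits in
/-- Let f : X ⟶ Y and g : Y ⟶ Z be morphisms of schemes and x a point of X. If f is universally open at
x and g is universally open at f x, then f ≫ g is universally open at x. -/
theorem result {X Y Z : Scheme.{u}} (f : X ⟶ Y) (g : Y ⟶ Z) (x : X)
    (hf : EGA43.IsUnivOpenAt f x) (hg : EGA43.IsUnivOpenAt g (f.base x)) :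
    EGA43.IsUnivOpenAt (f ≫ g) x := by
  intro Z' h x' hx'
  -- the intermediate pullback
  let l : pullback (f ≫ g) h ⟶ pullback g h :=
    pullback.lift (pullback.fst (f ≫ g) h ≫ f) (pullback.snd (f ≫ g) h)
      (by rw [Category.assoc, pullback.condition])
  have hl1 : l ≫ pullback.fst g h = pullback.fst (f ≫ g) h ≫ f := pullback.lift_fst _ _ _
  have hl2 : l ≫ pullback.snd g h = pullback.snd (f ≫ g) h := pullback.lift_snd _ _ _
  have big : IsPullback (pullback.fst (f ≫ g) h) (l ≫ pullback.snd g h) (f ≫ g) h := by
    rw [hl2]; exact IsPullback.of_hasPullback _ _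
  have sq : IsPullback (pullback.fst (f ≫ g) h) l f (pullback.fst g h) :=
    IsPullback.of_bot big hl1.symm (IsPullback.of_hasPullback g h)
  have h1 : IsOpenAt l.base x' := isOpenAt_snd_of_isUnivOpenAt hf sq x' hx'
  have h2 : IsOpenAt (pullback.snd g h).base (l.base x') := by
    refine hg Z' h _ ?_
    rw [← Scheme.Hom.comp_apply, hl1, Scheme.Hom.comp_apply, hx']
  have := isOpenAt_comp h1 h2
  have e : (pullback.snd g h).base ∘ l.base = (pullback.snd (f ≫ g) h).base := by
    ext q
    simp only [Function.comp_apply]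
    rw [← Scheme.Hom.comp_apply, hl2]
  rwa [e] at this

end Groth.Agent.S4925
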