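import Groth.Statements.S4926
import Groth.Agent.Lib.Helper24.UnivOpenAt

set_option autoImplicit false
open CategoryTheory AlgebraicGeometry
universe u v w
open EGA43

namespace Groth.Agent.S4926

open Groth.Agent.Lib.Helper24 CategoryTheory.Limits in
/-- Let f : X ⟶ Y and g : Y ⟶ Z be morphisms of schemes and x a point of X. If f ≫ g is universally open
at x, then g is universally open at the point f x. -/
theorem result {X Y Z : Scheme.{u}} (f : X ⟶ Y) (g : Y ⟶ Z) (x : X)
    (h : EGA43.IsUnivOpenAt (f ≫ g) x) : EGA43.IsUnivOpenAt g (f.base x) := by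
  intro Z' k y' hy'
  let l : pullback (f ≫ g) k ⟶ pullback g k :=
    pullback.lift (pullback.fst (f ≫ g) k ≫ f) (pullback.snd (f ≫ g) k)
      (by rw [Category.assoc, pullback.condition])
  have hl1 : l ≫ pullback.fst g k = pullback.fst (f ≫ g) k ≫ f := pullback.lift_fst _ _ _
  have hl2 : l ≫ pullback.snd g k = pullback.snd (f ≫ g) k := pullback.lift_snd _ _ _
  have big : IsPullback (pullback.fst (f ≫ g) k) (l ≫ pullback.snd g k) (f ≫ g) k := by
    rw [hl2]; exact IsPullback.of_hasPullback _ _
  have sq : IsPullback (pullback.fst (f ≫ g) k) l f (pullback.fst g k) :=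
    IsPullback.of_bot big hl1.symm (IsPullback.of_hasPullback g k)
  obtain ⟨x', hx'1, hx'2⟩ := exists_preimage_of_isPullback sq x y' hy'.symm
  have h1 : IsOpenAt (pullback.snd (f ≫ g) k).base x' := h Z' k x' hx'1
  have e : (pullback.snd g k).base ∘ l.base = (pullback.snd (f ≫ g) k).base := by
    ext q
    simp only [Function.comp_apply]
    rw [← Scheme.Hom.comp_apply, hl2]
  rw [← e] at h1
  have := isOpenAt_of_comp l.continuous h1
  rwa [hx'2] at this

end Groth.Agent.S4926
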