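import Groth.Statements.S3570
import Mathlib.AlgebraicGeometry.Morphisms.Separated
-- import your own Groth.Agent.* helpers here

set_option autoImplicit false
universe u
open CategoryTheory CategoryTheory.Limits AlgebraicGeometry
open EGA2

namespace Groth.Agent.S3570

theorem algHom_app {X Y S : Scheme.{u}} (f : X ⟶ S) (g : Y ⟶ S) (h : Y ⟶ X) (w : h ≫ f = g)
    (V : S.Opens) :
    (AffAlg.algHom f g h w).app (Opposite.op V) =
      h.app (f ⁻¹ᵁ V) ≫ Y.presheaf.map (eqToHom (by subst w; rfl)).op := by
  subst w
  simp [AffAlg.algHom]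
  rfl

/-- Let f : X → S and g : Y → S be affine morphisms and h : Y → X an S-morphism. Then h is an
isomorphism if and only if A(h) : f_*O_X → g_*O_Y is an isomorphism (of presheaves of rings on S). -/
theorem result {X Y S : Scheme.{u}} (f : X ⟶ S) [IsAffineHom f] (g : Y ⟶ S)
    [IsAffineHom g] (h : Y ⟶ X) (w : h ≫ f = g) :
    IsIso h ↔ IsIso (AffAlg.algHom f g h w) := by
  constructor
  · intro hh
    rw [AffAlg.algHom]
    have : IsIso h.c := inferInstance
    infer_instance
  · intro hiso
    have haff : IsAffineHom h := by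
      have : IsAffineHom (h ≫ f) := by rw [w]; infer_instance
      exact IsAffineHom.of_comp h f
    have hcover : (⨆ V : S.affineOpens, f ⁻¹ᵁ V.1) = ⊤ := by
      rw [← Scheme.Hom.preimage_iSup, iSup_affineOpens_eq_top, Scheme.Hom.preimage_top]
    rw [← MorphismProperty.isomorphisms.iff,
      IsZariskiLocalAtTarget.iff_of_iSup_eq_top (P := MorphismProperty.isomorphisms Scheme) _ hcover]
    intro V
    rw [MorphismProperty.isomorphisms.iff,
      isIso_morphismRestrict_iff_isIso_app h (V.2.preimage f)]
    have h1 : IsIso ((AffAlg.algHom f g h w).app (Opposite.op V.1)) := inferInstance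
    rw [algHom_app] at h1
    exact @IsIso.of_isIso_comp_right _ _ _ _ _ _ _ inferInstance h1

end Groth.Agent.S3570
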