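import Groth.Statements.S3569
import Groth.Agent.S3570
import Mathlib.AlgebraicGeometry.Normalization

set_option autoImplicit false
universe u
open CategoryTheory CategoryTheory.Limits AlgebraicGeometry
open EGA2

namespace Groth.Agent.S3569

variable {X Y S : Scheme.{u}}

/-- Key formula: a morphism restricted to an open mapping into an affine open is determined by
its `appLE`. -/
lemma ι_comp_eq (h : Y ⟶ X) {W : X.Opens} (hW : IsAffineOpen W) (V : Y.Opens) (e : V ≤ h ⁻¹ᵁ W) :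
    V.ι ≫ h = V.toSpecΓ ≫ Spec.map (h.appLE W V e) ≫ hW.fromSpec := by
  rw [Scheme.Opens.toSpecΓ_SpecMap_appLE_assoc, hW.toSpecΓ_fromSpec, Scheme.Hom.resLE_comp_ι]

lemma algOf_injective (f : X ⟶ S) [IsAffineHom f] (g : Y ⟶ S) :
    Function.Injective (AffAlg.algOf f g) := by
  rintro ⟨h₁, w₁⟩ ⟨h₂, w₂⟩ heq
  have heq' : AffAlg.algHom f g h₁ w₁ = AffAlg.algHom f g h₂ w₂ := congrArg Subtype.val heq
  apply Subtype.ext
  change h₁ = h₂
  refine Scheme.Cover.hom_ext (Y.openCoverOfIsOpenCover _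
    (.comap (iSup_affineOpens_eq_top S) g.base.1)) _ _ fun U ↦ ?_
  change (g ⁻¹ᵁ U.1).ι ≫ h₁ = (g ⁻¹ᵁ U.1).ι ≫ h₂
  have hfU : IsAffineOpen (f ⁻¹ᵁ U.1) := U.2.preimage f
  have e₁ : g ⁻¹ᵁ U.1 ≤ h₁ ⁻¹ᵁ (f ⁻¹ᵁ U.1) := by rw [← w₁]; exact le_rfl
  have e₂ : g ⁻¹ᵁ U.1 ≤ h₂ ⁻¹ᵁ (f ⁻¹ᵁ U.1) := by rw [← w₂]; exact le_rfl
  rw [ι_comp_eq h₁ hfU _ e₁, ι_comp_eq h₂ hfU _ e₂]
  congr 2
  have := congrArg (fun ω => ω.app (Opposite.op U.1)) heq'
  simp only [Groth.Agent.S3570.algHom_app] at this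
  congr 1


lemma toSpecΓ_SpecMap_injective {Z : Scheme.{u}} (V : Z.Opens) {A : CommRingCat.{u}}
    (φ₁ φ₂ : A ⟶ Γ(Z, V)) (h : V.toSpecΓ ≫ Spec.map φ₁ = V.toSpecΓ ≫ Spec.map φ₂) : φ₁ = φ₂ := by
  have := congrArg Scheme.Hom.appTop h
  simp only [Scheme.Hom.comp_appTop, Scheme.Opens.toSpecΓ_appTop] at this
  rw [Scheme.ΓSpecIso_naturality_assoc, Scheme.ΓSpecIso_naturality_assoc] at this
  have h2 := (cancel_mono (V.topIso.inv)).mp
    (by simpa only [Category.assoc] using this : ((Scheme.ΓSpecIso A).hom ≫ φ₁) ≫ V.topIso.inv =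
      ((Scheme.ΓSpecIso A).hom ≫ φ₂) ≫ V.topIso.inv)
  exact (cancel_epi (Scheme.ΓSpecIso A).hom).mp h2

/-- Morphisms of presheaves into `g_* O_Y` are determined on affine opens. -/
lemma hom_ext_of_affine (g : Y ⟶ S) {P : TopCat.Presheaf CommRingCat.{u} S}
    (α β : P ⟶ AffAlg.alg g)
    (H : ∀ U : S.affineOpens, α.app (Opposite.op U.1) = β.app (Opposite.op U.1)) : α = β := by
  ext V s
  refine TopCat.Sheaf.eq_of_locally_eq' Y.sheaf
    (fun U : {U : S.affineOpens // U.1 ≤ V} => g ⁻¹ᵁ U.1.1) (g ⁻¹ᵁ V)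
    (fun U => homOfLE (g.preimage_mono U.2)) ?_ _ _ fun U => ?_
  · intro y hy
    obtain ⟨_, ⟨W, hW, rfl⟩, hyW, hWV⟩ := S.isBasis_affineOpens.exists_subset_of_mem_open
      (show g y ∈ (V : Set S) from hy) V.2
    exact TopologicalSpace.Opens.mem_iSup.mpr ⟨⟨⟨W, hW⟩, hWV⟩, hyW⟩
  · have h1 := congrArg (fun φ => φ.hom s) (α.naturality (homOfLE U.2).op)
    have h2 := congrArg (fun φ => φ.hom s) (β.naturality (homOfLE U.2).op)
    simp only [CommRingCat.hom_comp, RingHom.comp_apply] at h1 h2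
    rw [H U.1] at h1
    exact h1.symm.trans h2

section Surj

open AlgebraicGeometry.Scheme.AffineZariskiSite

variable (f : X ⟶ S) [IsAffineHom f] (g : Y ⟶ S) (ω : AffAlg.alg f ⟶ AffAlg.alg g)

/-- The local pieces of the morphism attached to an algebra homomorphism. -/
noncomputable def piece (U : S.AffineZariskiSite) : (g ⁻¹ᵁ U.1 : Scheme.{u}) ⟶ X :=
  (g ⁻¹ᵁ U.1).toSpecΓ ≫ Spec.map (ω.app (Opposite.op U.1)) ≫ (U.2.preimage f).fromSpec

lemma piece_comp {U V : S.AffineZariskiSite} (hUV : U.1 ≤ V.1) :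
    Y.homOfLE (g.preimage_mono hUV) ≫ piece f g ω V = piece f g ω U := by
  have hnat := ω.naturality (homOfLE hUV).op
  have h1 : Spec.map (X.presheaf.map (homOfLE (f.preimage_mono hUV)).op) ≫
      (V.2.preimage f).fromSpec = (U.2.preimage f).fromSpec :=
    (V.2.preimage f).map_fromSpec (U.2.preimage f) (homOfLE (f.preimage_mono hUV)).op
  simp only [piece]
  rw [← Scheme.Opens.toSpecΓ_SpecMap_presheaf_map_assoc, ← h1, ← Spec.map_comp_assoc,
    ← Spec.map_comp_assoc]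
  congr 2
  exact congrArg Spec.map hnat.symm


set_option backward.defeqAttrib.useBackward true in
set_option backward.isDefEq.respectTransparency false in
lemma glue_compat {U V : S.AffineZariskiSite} (i : U ⟶ V) :
    Scheme.Cover.trans ((directedCover S).pullback₁ g) i ≫
      (pullbackRestrictIsoRestrict g V.1).hom ≫ piece f g ω V =
    (pullbackRestrictIsoRestrict g U.1).hom ≫ piece f g ω U := by
  have : (pullbackRestrictIsoRestrict g U.1).inv ≫
      Scheme.Cover.trans ((directedCover S).pullback₁ g) i ≫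
      (pullbackRestrictIsoRestrict g V.1).hom = Y.homOfLE
        (g.preimage_mono (toOpens_mono i.1.1)) := by
    rw [← cancel_mono (Scheme.Opens.ι _)]
    simp +instances [Scheme.Cover.trans, Scheme.Cover.locallyDirectedPullbackCover]
  rw [← Iso.inv_comp_eq, reassoc_of% this, piece_comp f g ω (toOpens_mono i.1.1)]

/-- The glued morphism. -/
noncomputable def glued : Y ⟶ X :=
  Scheme.OpenCover.glueMorphismsOfLocallyDirected
    ((directedCover S).pullback₁ g)
    (fun U ↦ (pullbackRestrictIsoRestrict g _).hom ≫ piece f g ω U)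
    (fun i ↦ glue_compat f g ω i)

set_option backward.isDefEq.respectTransparency.types false in
set_option backward.defeqAttrib.useBackward true in
lemma ι_glued (U : S.AffineZariskiSite) :
    (g ⁻¹ᵁ U.1).ι ≫ glued f g ω = piece f g ω U := by
  rw [← cancel_epi (pullbackRestrictIsoRestrict g U.1).hom, ← Category.assoc]
  trans ((directedCover S).pullback₁ g).f U ≫ glued f g ω
  · congr 1; simp
  exact Scheme.OpenCover.map_glueMorphismsOfLocallyDirected _ _ (fun i ↦ glue_compat f g ω i) U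


set_option backward.isDefEq.respectTransparency false in
lemma glued_comp (hω : f.c ≫ ω = g.c) : glued f g ω ≫ f = g := by
  refine Scheme.Cover.hom_ext (Y.openCoverOfIsOpenCover _
    (.comap (iSup_affineOpens_eq_top S) g.base.1)) _ _ fun U ↦ ?_
  change (g ⁻¹ᵁ U.1).ι ≫ glued f g ω ≫ f = (g ⁻¹ᵁ U.1).ι ≫ g
  rw [reassoc_of% (ι_glued f g ω ⟨U.1, U.2⟩)]
  simp only [piece, Category.assoc]
  have h1 : (U.2.preimage f).fromSpec ≫ f = Spec.map (f.app U.1) ≫ U.2.fromSpec := by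
    have := IsAffineOpen.SpecMap_appLE_fromSpec f U.2 (U.2.preimage f) le_rfl
    rw [← this, Scheme.Hom.appLE_eq_app]
  have h2 : f.app U.1 ≫ ω.app (Opposite.op U.1) = g.app U.1 :=
    congrArg (fun α => α.app (Opposite.op U.1)) hω
  rw [h1, ← Spec.map_comp_assoc, h2]
  change (g ⁻¹ᵁ U.1).toSpecΓ ≫ Spec.map (g.app _) ≫ U.2.fromSpec = (g ⁻¹ᵁ U.1).ι ≫ _
  simp


lemma algHom_glued (hω : f.c ≫ ω = g.c) :
    AffAlg.algHom f g (glued f g ω) (glued_comp f g ω hω) = ω := by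
  apply hom_ext_of_affine g
  intro U
  rw [Groth.Agent.S3570.algHom_app]
  have hfU : IsAffineOpen (f ⁻¹ᵁ U.1) := U.2.preimage f
  have e : g ⁻¹ᵁ U.1 ≤ (glued f g ω) ⁻¹ᵁ (f ⁻¹ᵁ U.1) := by
    rw [← Scheme.Hom.comp_preimage, glued_comp f g ω hω]
  have h1 : (glued f g ω).app (f ⁻¹ᵁ U.1) ≫ Y.presheaf.map (eqToHom (by
      rw [← Scheme.Hom.comp_preimage, glued_comp f g ω hω])).op =
      (glued f g ω).appLE (f ⁻¹ᵁ U.1) (g ⁻¹ᵁ U.1) e := rfl
  refine h1.trans ?_
  apply toSpecΓ_SpecMap_injective (g ⁻¹ᵁ U.1)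
  rw [← cancel_mono hfU.fromSpec, Category.assoc, Category.assoc, ← ι_comp_eq _ hfU _ e,
    ι_glued f g ω ⟨U.1, U.2⟩]
  rfl

end Surj

/-- Let f : X → S be an affine morphism and g : Y → S any morphism. Then h ↦ A(h) = f_*(h^♯) is a
bijection from the set of S-morphisms Y → X onto the set of O_S-algebra homomorphisms f_*O_X →
g_*O_Y (morphisms of sheaves of rings compatible with the structure maps from O_S). -/
theorem result {X Y S : Scheme.{u}} (f : X ⟶ S) [IsAffineHom f] (g : Y ⟶ S) :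
    Function.Bijective (AffAlg.algOf f g) := by
  refine ⟨algOf_injective f g, ?_⟩
  rintro ⟨ω, hω⟩
  exact ⟨⟨glued f g ω, glued_comp f g ω hω⟩, Subtype.ext (algHom_glued f g ω hω)⟩

end Groth.Agent.S3569
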