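import Groth.Statements.S9380
import Groth.Agent.S3569

set_option autoImplicit false
universe u
open QAff

namespace Groth.Agent.S9380

open AlgebraicGeometry CategoryTheory Opposite TopologicalSpace
open Groth.Agent.S3569

section
variable {S : Scheme.{u}} (A : RelSpec.QCAlg S)

lemma isIso_appLE_of_eq {X Y : Scheme.{u}} (g : X ⟶ Y) [IsOpenImmersion g] (V : Y.Opens) (W : X.Opens)
    (h1 : V ≤ g.opensRange) (h2 : W = g ⁻¹ᵁ V) : IsIso (g.appLE V W h2.le) := by
  subst h2
  rw [← Scheme.Hom.app_eq_appLE]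
  exact Scheme.Hom.isIso_app g V h1

instance isIso_gammaAff (U : S.Opens) (hU : IsAffineOpen U) : IsIso (A.gammaAff U hU) := by
  have := isIso_appLE_of_eq (A.ι U hU) (A.π ⁻¹ᵁ U) ⊤ (by rw [A.π_preimage U hU])
    (by rw [A.π_preimage U hU]; simp)
  unfold RelSpec.QCAlg.gammaAff
  infer_instance

end

section
variable {X S : Scheme.{u}} (f : X ⟶ S) [QuasiCompact f] [QuasiSeparated f]

/-- the quasi-coherent algebra `f_* O_X` -/
noncomputable abbrev A := RelSpec.QCAlg.directImage f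

/-- the canonical morphism `X ⟶ Spec (f_* O_X)` -/
noncomputable def can : X ⟶ (A f).spec := glued (A f).π f (A f).gammaMap

lemma can_π : can f ≫ (A f).π = f := glued_comp (A f).π f (A f).gammaMap (A f).π_c_gammaMap

lemma algHom_can : AffAlg.algHom (A f).π f (can f) (can_π f) = (A f).gammaMap :=
  algHom_glued (A f).π f (A f).gammaMap (A f).π_c_gammaMap

lemma ι_can (U : S.Opens) (hU : IsAffineOpen U) :
    (f ⁻¹ᵁ U).ι ≫ can f = (f ⁻¹ᵁ U).toSpecΓ ≫ Spec.map ((A f).gammaAff U hU) ≫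
      (hU.preimage (A f).π).fromSpec := by
  have := ι_glued (A f).π f (A f).gammaMap ⟨U, hU⟩
  rw [piece, (A f).gammaMap_app U hU] at this
  exact this

lemma isOpenImmersion_ι_comp_of_eq {Y Z : Scheme.{u}} (g : Y ⟶ Z) {U U' : Y.Opens} (h : U = U')
    [IsOpenImmersion (U'.ι ≫ g)] : IsOpenImmersion (U.ι ≫ g) := by
  subst h; infer_instance

lemma isOpenImmersion_can (hf : MoreMor.IsQuasiAffineHom f) : IsOpenImmersion (can f) := by
  rw [IsZariskiLocalAtTarget.iff_of_iSup_eq_top (P := @IsOpenImmersion)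
    (fun V : S.affineOpens => (A f).π ⁻¹ᵁ V.1)
    (TopologicalSpace.IsOpenCover.comap (iSup_affineOpens_eq_top S) (A f).π.base.1).iSup_eq_top]
  intro V
  have hV : Scheme.IsQuasiAffine (f ⁻¹ᵁ V.1 : Scheme.{u}) := hf.2 V.1 V.2
  have h1 : IsOpenImmersion ((f ⁻¹ᵁ V.1).ι ≫ can f) := by
    rw [ι_can f V.1 V.2]
    have : IsOpenImmersion (f ⁻¹ᵁ V.1).toSpecΓ := by
      unfold Scheme.Opens.toSpecΓ
      infer_instance
    have : IsIso ((A f).gammaAff V.1 V.2) := isIso_gammaAff (A f) V.1 V.2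
    have : IsIso (Spec.map ((A f).gammaAff V.1 V.2)) := inferInstance
    have : IsOpenImmersion (V.2.preimage (A f).π).fromSpec := inferInstance
    have h23 : IsOpenImmersion (Spec.map ((A f).gammaAff V.1 V.2) ≫
        (V.2.preimage (A f).π).fromSpec) := inferInstance
    exact @IsOpenImmersion.comp _ _ _ (f ⁻¹ᵁ V.1).toSpecΓ _ ‹_› h23
  have h2 : can f ⁻¹ᵁ ((A f).π ⁻¹ᵁ V.1) = f ⁻¹ᵁ V.1 := by
    rw [← Scheme.Hom.comp_preimage, can_π]
  have h3 : IsOpenImmersion ((can f ⁻¹ᵁ ((A f).π ⁻¹ᵁ V.1)).ι ≫ can f) :=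
    isOpenImmersion_ι_comp_of_eq (can f) h2
  rw [← morphismRestrict_ι] at h3
  exact IsOpenImmersion.of_comp _ ((A f).π ⁻¹ᵁ V.1).ι

lemma quasiCompact_can : QuasiCompact (can f) := by
  apply MorphismProperty.of_postcomp (W := @QuasiCompact) (W' := @QuasiSeparated) _ (A f).π
  · infer_instance
  · rw [can_π]
    infer_instance

end

open AlgebraicGeometry CategoryTheory in
/-- A quasi-compact quasi-separated morphism f : X → S is quasi-affine if and only if the canonical
S-morphism X → Spec_S(f_*O_X) (the one inducing the comparison map on direct-image algebras) exists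
as a quasi-compact open immersion. -/
theorem result {X S : Scheme.{u}} (f : X ⟶ S) [QuasiCompact f] [QuasiSeparated f] :
    MoreMor.IsQuasiAffineHom f ↔
      ∃ (c : X ⟶ (RelSpec.QCAlg.directImage f).spec) (e : c ≫ (RelSpec.QCAlg.directImage f).π = f),
        (RelSpec.QCAlg.directImage f).gammaMap = AffAlg.algHom (RelSpec.QCAlg.directImage f).π f c e ∧
          QuasiCompact c ∧ IsOpenImmersion c := by
  constructor
  · intro hf
    exact ⟨can f, can_π f, (algHom_can f).symm, quasiCompact_can f, isOpenImmersion_can f hf⟩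
  · rintro ⟨c, e, -, hqc, hoi⟩
    refine ⟨inferInstance, fun V hV => ?_⟩
    have hle : f ⁻¹ᵁ V ≤ c ⁻¹ᵁ ((RelSpec.QCAlg.directImage f).π ⁻¹ᵁ V) := by
      rw [← Scheme.Hom.comp_preimage, e]
    have h1 : IsAffine ((RelSpec.QCAlg.directImage f).π ⁻¹ᵁ V : Scheme.{u}) :=
      hV.preimage (RelSpec.QCAlg.directImage f).π
    have h2 : CompactSpace (f ⁻¹ᵁ V : Scheme.{u}) :=
      isCompact_iff_compactSpace.mp (f.isCompact_preimage hV.isCompact)
    exact Scheme.IsQuasiAffine.of_isImmersion (c.resLE _ _ hle)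

end Groth.Agent.S9380
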