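import Groth.Statements.S0395
import Groth.Agent.S0393
import Mathlib.LinearAlgebra.TensorProduct.Quotient

set_option autoImplicit false
universe u
open FlatMor

namespace Groth.Agent.S0395

open TensorProduct nonZeroDivisors in
/-- For a flat local homomorphism R → S of Noetherian local rings and an element f of S that is regular
on the fibre ring S/mS, the quotient of S by f is again R-flat and f is regular on S. -/
theorem result {R S : Type u} [CommRing R] [CommRing S] [IsLocalRing R] [IsLocalRing S] [IsNoetherianRing R] [IsNoetherianRing S] [Algebra R S] [IsLocalHom (algebraMap R S)] [Module.Flat R S]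
    (f : S) (hf : Ideal.Quotient.mk ((IsLocalRing.maximalIdeal R).map (algebraMap R S)) f ∈ nonZeroDivisors (S ⧸ ((IsLocalRing.maximalIdeal R).map (algebraMap R S)))) :
    Module.Flat R (S ⧸ Ideal.span {f}) ∧ f ∈ nonZeroDivisors S := by
  set I : Ideal S := (IsLocalRing.maximalIdeal R).map (algebraMap R S) with hI
  let u : S →ₗ[R] S := LinearMap.mulLeft R f
  have hu' : Function.Injective (LinearMap.lTensor (R ⧸ IsLocalRing.maximalIdeal R) u) := by
    rw [injective_iff_map_eq_zero]
    intro z hz
    let e := TensorProduct.quotTensorEquivQuotSMul S (IsLocalRing.maximalIdeal R)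
    obtain ⟨w, rfl⟩ := e.symm.surjective z
    obtain ⟨s, rfl⟩ := Submodule.Quotient.mk_surjective _ w
    have h1 : e.symm (Submodule.Quotient.mk s) = (1 : R ⧸ IsLocalRing.maximalIdeal R) ⊗ₜ[R] s :=
      TensorProduct.quotTensorEquivQuotSMul_symm_mk _ s
    rw [h1] at hz ⊢
    have h2 : (LinearMap.lTensor (R ⧸ IsLocalRing.maximalIdeal R) u)
        ((1 : R ⧸ IsLocalRing.maximalIdeal R) ⊗ₜ[R] s) =
        (1 : R ⧸ IsLocalRing.maximalIdeal R) ⊗ₜ[R] (f * s) := rfl
    rw [h2] at hz
    have h3 : e ((1 : R ⧸ IsLocalRing.maximalIdeal R) ⊗ₜ[R] (f * s)) = 0 := by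
      rw [hz, map_zero]
    rw [TensorProduct.quotTensorEquivQuotSMul_mk_one_tmul, Submodule.Quotient.mk_eq_zero,
      Ideal.smul_top_eq_map, Submodule.restrictScalars_mem] at h3
    have h4 : Ideal.Quotient.mk I f * Ideal.Quotient.mk I s = 0 := by
      rw [← map_mul]
      exact Ideal.Quotient.eq_zero_iff_mem.mpr h3
    have h5 : Ideal.Quotient.mk I s = 0 := (mul_left_mem_nonZeroDivisors_eq_zero_iff hf).mp h4
    have h6 : s ∈ IsLocalRing.maximalIdeal R • (⊤ : Submodule R S) := by
      rw [Ideal.smul_top_eq_map, Submodule.restrictScalars_mem]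
      exact Ideal.Quotient.eq_zero_iff_mem.mp h5
    rw [← h1, (Submodule.Quotient.mk_eq_zero _).mpr h6, map_zero]
  have hu : Function.Injective (LinearMap.lTensor (IsLocalRing.ResidueField R) u) := hu'
  obtain ⟨hinj, hflat⟩ := Groth.Agent.S0393.result (R := R) (S := S) (M := S) (N := S) u hu
  refine ⟨?_, ?_⟩
  · have hrange : LinearMap.range u = (Ideal.span {f}).restrictScalars R := by
      ext x
      rw [LinearMap.mem_range, Submodule.restrictScalars_mem, Ideal.mem_span_singleton']
      constructor
      · rintro ⟨y, rfl⟩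
        exact ⟨y, mul_comm y f⟩
      · rintro ⟨y, rfl⟩
        exact ⟨y, mul_comm f y⟩
    haveI := hflat
    exact Module.Flat.of_linearEquiv
      ((Submodule.Quotient.restrictScalarsEquiv R (Ideal.span {f})).symm ≪≫ₗ
        (Submodule.quotEquivOfEq _ _ hrange).symm)
  · rw [mem_nonZeroDivisors_iff_left]
    intro x hx
    exact hinj (by rw [map_zero]; exact hx)

end Groth.Agent.S0395
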