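import Groth.Statements.S3393
-- import your own Groth.Agent.* helpers here
import Groth.Agent.Lib.Helper55.FibreComponents
import Groth.Agent.Lib.Helper55.ChevalleyBound
import Groth.Agent.Lib.Helper55.DimPoint

set_option autoImplicit false
open CategoryTheory AlgebraicGeometry
universe u
open EGA43

namespace Groth.Agent.S3393

open Groth.Agent.Lib.Helper55 in
/-- For `ξ` over `η`, the trace of `closure {ξ}` on the fibre over `η` has dimension
`trdeg κ(ξ)/κ(η)`. -/
theorem dim_closure_inter_fibre {X Y : Scheme.{u}} (f : X ⟶ Y) [LocallyOfFiniteType f]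
    (η : Y) (ξ : X) (hξ : f ξ = η) :
    ∃ m : ℕ, topologicalKrullDim ↥(closure ({ξ} : Set X) ∩ f ⁻¹' {η}) = m ∧
      @Algebra.trdeg (Y.residueField (f ξ)) (X.residueField ξ) _ _
        (f.residueFieldMap ξ).hom.toAlgebra = m := by
  have hξr : ξ ∈ Set.range (f.fiberι η) := by
    rw [f.range_fiberι]
    exact hξ
  obtain ⟨ξ', hξ'⟩ := hξr
  obtain ⟨m, hm1, hm2⟩ := exists_dim_closure_fiber_eq_trdeg f η ξ' ξ hξ'
  refine ⟨m, ?_, hm2⟩
  have h := topologicalKrullDim_closure_inter_range_eq (f.fiberι η) (f.fiberι η).isEmbedding ξ'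
  rw [hξ', f.range_fiberι] at h
  rw [h, hm1]

open Groth.Agent.Lib.Helper55 in
/-- In an irreducible scheme, a maximal point is the generic point. -/
theorem eq_genericPoint_of_maximal {Y : Scheme.{u}} [IrreducibleSpace Y] (w : Y)
    (hw : ∀ t : Y, t ⤳ w → w ⤳ t) : w = genericPoint ↥Y := by
  have h1 : genericPoint ↥Y ⤳ w := (genericPoint_spec ↥Y).specializes (Set.mem_univ _)
  exact ((hw _ h1).antisymm h1).eq

/-- Let Y be an irreducible locally Noetherian scheme with generic point η, f : X ⟶ Y a morphism of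
finite type and y a point of Y. Condition (b): for every point z of the fibre over y at which the
local ring of the fibre has dimension 0, dim O_{X,z} = dim O_{Y,y}. Condition (c): for every such z
there is an irreducible component X' of X containing z such that the dimension of X' ∩ f⁻¹(η)
(topology induced from X) equals the local dimension at z of the fibre over y (the dimension of the
irreducible component of the fibre with generic point z). Then (b) implies (c), and (c) implies (b)
if O_{Y,y} is universally catenary. -/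
theorem result {X Y : Scheme.{u}} [IrreducibleSpace Y] [IsLocallyNoetherian Y]
    (f : X ⟶ Y) [LocallyOfFiniteType f] [QuasiCompact f] (y : Y) :
    ((∀ z : X, f.base z = y → ringKrullDim ((f.fiber (f.base z)).presheaf.stalk (f.asFiber z)) = 0 →
        ringKrullDim (X.presheaf.stalk z) = ringKrullDim (Y.presheaf.stalk (f.base z))) →
      (∀ z : X, f.base z = y → ringKrullDim ((f.fiber (f.base z)).presheaf.stalk (f.asFiber z)) = 0 →
        ∃ X' ∈ irreducibleComponents (X : Type u), z ∈ X' ∧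
          topologicalKrullDim ↥(X' ∩ f.base ⁻¹' {genericPoint Y}) = FlatMor.fibreDimAt f z)) ∧
    (CAlg.IsUniversallyCatenary (Y.presheaf.stalk y) →
      (∀ z : X, f.base z = y → ringKrullDim ((f.fiber (f.base z)).presheaf.stalk (f.asFiber z)) = 0 →
        ∃ X' ∈ irreducibleComponents (X : Type u), z ∈ X' ∧
          topologicalKrullDim ↥(X' ∩ f.base ⁻¹' {genericPoint Y}) = FlatMor.fibreDimAt f z) →
      (∀ z : X, f.base z = y → ringKrullDim ((f.fiber (f.base z)).presheaf.stalk (f.asFiber z)) = 0 →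
        ringKrullDim (X.presheaf.stalk z) = ringKrullDim (Y.presheaf.stalk (f.base z)))) := by
  have hX : IsLocallyNoetherian X := LocallyOfFiniteType.isLocallyNoetherian f
  refine ⟨?_, ?_⟩
  · -- (b) ⇒ (c)
    intro hb z hzy h0
    have hdimz := hb z hzy h0
    obtain ⟨V, hV, hyV, -⟩ := exists_isAffineOpen_mem_and_subset (x := f z) (U := ⊤) trivial
    obtain ⟨U, hU, hzU, e⟩ := exists_isAffineOpen_mem_and_subset (x := z) (U := f ⁻¹ᵁ V) hyV
    obtain ⟨ξ, hξU, hξz, hξmax, hcz⟩ := Lib.Helper55.exists_maximal_point_chart hU z hzU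
    obtain ⟨n, hn, hfd⟩ := Lib.Helper55.fibreDimAt_eq_stalk_fiber_add_trdeg f z
    rw [h0, zero_add] at hfd
    obtain ⟨m, hm⟩ := Lib.Helper55.exists_trdeg_residueField_eq_natCast f ξ
    have hche := Lib.Helper55.trdeg_le_fibreDimAt_of_specializes f ξ z hξz m hm
    rw [hfd] at hche
    have hmn : m ≤ n := by exact_mod_cast hche
    have hK := Lib.Helper55.chart_height_add_trdeg_le f hV hU e ξ z hξU hzU hξz n m hn hm
    obtain ⟨cz, hcz'⟩ := Lib.Helper55.exists_nat_height_map_quotient hU ξ z hξU hzU hξz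
    obtain ⟨h, hh'⟩ := Lib.Helper55.exists_nat_height_map_quotient hV (f ξ) (f z) (e hξU) (e hzU)
      (hξz.map f.continuous)
    obtain ⟨D, hD⟩ := Lib.Helper55.exists_nat_ringKrullDim_stalk (f z)
    obtain ⟨k, hk⟩ := Lib.Helper55.exists_nat_ringKrullDim_stalk (f ξ)
    have hpz : (hV.primeIdealOf ⟨f z, e hzU⟩).asIdeal.IsPrime := (hV.primeIdealOf _).2
    have hpξ : (hV.primeIdealOf ⟨f ξ, e hξU⟩).asIdeal.IsPrime := (hV.primeIdealOf _).2
    have hle : (hV.primeIdealOf ⟨f ξ, e hξU⟩).asIdeal ≤ (hV.primeIdealOf ⟨f z, e hzU⟩).asIdeal :=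
      (Lib.Helper55.primeIdealOf_le_iff_specializes hV (f ξ) (f z) (e hξU) (e hzU)).mpr
        (hξz.map f.continuous)
    have hPp : ((hV.primeIdealOf ⟨f z, e hzU⟩).asIdeal.map
        (Ideal.Quotient.mk (hV.primeIdealOf ⟨f ξ, e hξU⟩).asIdeal)).IsPrime :=
      Lib.Helper55.map_mk_isPrime_of_le _ _ hle
    have hadd := Groth.Agent.H8.DimFormula.height_map_mk_add_height_le Γ(Y, V)
      (hV.primeIdealOf ⟨f ξ, e hξU⟩).asIdeal (hV.primeIdealOf ⟨f z, e hzU⟩).asIdeal hle
    rw [hh'] at hadd hK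
    rw [hcz'] at hK
    have hDh : ((hV.primeIdealOf ⟨f z, e hzU⟩).asIdeal.height : WithBot ℕ∞) = D := by
      rw [← hD, Groth.Agent.S4442.ringKrullDim_stalk_eq_height Y hV (f z) (e hzU)]
    have hkh : ((hV.primeIdealOf ⟨f ξ, e hξU⟩).asIdeal.height : WithBot ℕ∞) = k := by
      rw [← hk, Groth.Agent.S4442.ringKrullDim_stalk_eq_height Y hV (f ξ) (e hξU)]
    have hDh' : (hV.primeIdealOf ⟨f z, e hzU⟩).asIdeal.height = (D : ℕ∞) := by exact_mod_cast hDh
    have hkh' : (hV.primeIdealOf ⟨f ξ, e hξU⟩).asIdeal.height = (k : ℕ∞) := by exact_mod_cast hkh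
    rw [hDh', hkh'] at hadd
    have haddn : h + k ≤ D := by exact_mod_cast hadd
    have hKn : cz + n ≤ h + m := by exact_mod_cast hK
    have hczD : cz = D := by
      have h1 : ringKrullDim (X.presheaf.stalk z) = (cz : WithBot ℕ∞) := by
        rw [Groth.Agent.S4442.ringKrullDim_stalk_eq_height X hU z hzU, ← hcz, hcz']
        rfl
      rw [h1, hD] at hdimz
      exact_mod_cast hdimz
    have hk0 : k = 0 := by omega
    have hnm : m = n := by omega
    have hfξ : f ξ = genericPoint ↥Y := by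
      have h1 : genericPoint ↥Y ⤳ f ξ := (genericPoint_spec ↥Y).specializes (Set.mem_univ _)
      exact (Lib.Helper55.eq_of_specializes_of_ringKrullDim_stalk_eq_zero (f ξ) (genericPoint ↥Y)
        (by rw [hk, hk0]; rfl) h1).symm
    obtain ⟨m', hm'1, hm'2⟩ := dim_closure_inter_fibre f (genericPoint ↥Y) ξ hfξ
    have hm'm : m' = m := by
      have : ((m' : ℕ) : Cardinal) = ((m : ℕ) : Cardinal) := by rw [← hm'2, ← hm]
      exact_mod_cast this
    refine ⟨closure {ξ}, Lib.Helper55.closure_mem_irreducibleComponents_of_maximal ξ hξmax,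
      specializes_iff_mem_closure.mp hξz, ?_⟩
    rw [hm'1, hfd, hm'm, hnm]
  · -- (c) ⇒ (b)
    intro hcat hc z hzy h0
    obtain ⟨X', hX', hzX', hdimX'⟩ := hc z hzy h0
    refine le_antisymm ?_ ?_
    · have h := Lib.Helper55.ringKrullDim_stalk_le_add_stalk_fiber f z
      rw [h0, add_zero] at h
      exact h
    obtain ⟨n, hn, hfd⟩ := Lib.Helper55.fibreDimAt_eq_stalk_fiber_add_trdeg f z
    rw [h0, zero_add] at hfd
    rw [hfd] at hdimX'
    -- the generic point of `X'`
    have hX'cl : IsClosed X' := isClosed_of_mem_irreducibleComponents X' hX'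
    have hq : closure {hX'.1.genericPoint} = X' := (hX'.1.isGenericPoint_genericPoint hX'cl).def
    set ξ := hX'.1.genericPoint with hξdef
    have hξz : ξ ⤳ z := by
      rw [specializes_iff_mem_closure, hq]
      exact hzX'
    -- `X' ∩ f⁻¹(η)` is nonempty
    have hne : Nonempty ↥(X' ∩ f.base ⁻¹' {genericPoint ↥Y}) := by
      by_contra hemp
      rw [not_nonempty_iff] at hemp
      have hemp' : IsEmpty (TopologicalSpace.IrreducibleCloseds
          ↥(X' ∩ f.base ⁻¹' {genericPoint ↥Y})) :=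
        ⟨fun s => hemp.elim s.isIrreducible'.nonempty.some⟩
      have hbot : topologicalKrullDim ↥(X' ∩ f.base ⁻¹' {genericPoint ↥Y}) = ⊥ :=
        Order.krullDim_eq_bot_iff.mpr hemp'
      rw [hbot] at hdimX'
      exact WithBot.bot_ne_coe hdimX'
    obtain ⟨⟨w, hwX', hwη⟩⟩ := hne
    have hfξ : f ξ = genericPoint ↥Y := by
      have h1 : genericPoint ↥Y ⤳ f ξ := (genericPoint_spec ↥Y).specializes (Set.mem_univ _)
      have h2 : ξ ⤳ w := by
        rw [specializes_iff_mem_closure, hq]
        exact hwX'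
      have h3 : f ξ ⤳ f w := h2.map f.continuous
      have h4 : f w = genericPoint ↥Y := hwη
      rw [h4] at h3
      exact (h3.antisymm h1).eq
    obtain ⟨m, hm1, hm2⟩ := dim_closure_inter_fibre f (genericPoint ↥Y) ξ hfξ
    rw [hq, hdimX'] at hm1
    have hnm : n = m := by exact_mod_cast hm1
    -- charts
    obtain ⟨V, hV, hyV, -⟩ := exists_isAffineOpen_mem_and_subset (x := f z) (U := ⊤) trivial
    obtain ⟨U, hU, hzU, e⟩ := exists_isAffineOpen_mem_and_subset (x := z) (U := f ⁻¹ᵁ V) hyV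
    have hξU : ξ ∈ U := hξz.mem_open U.2 hzU
    have hcat' : CAlg.IsUniversallyCatenary (Y.presheaf.stalk (f z)) := by rw [hzy]; exact hcat
    have E1 := Lib.Helper55.chart_height_add_trdeg_eq_local f hV hU e ξ z hξU hzU hξz hcat' n m
      hn hm2
    -- the maximal point below `f z` is the generic point
    obtain ⟨η', hη'V, hη'z, hη'max, hη'ht⟩ := Lib.Helper55.exists_maximal_point_chart hV (f z)
      (e hzU)
    have hη' : η' = f ξ := by
      rw [hfξ]
      exact eq_genericPoint_of_maximal η' hη'max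
    subst hη'
    rw [hη'ht] at E1
    obtain ⟨cz, hcz'⟩ := Lib.Helper55.exists_nat_height_map_quotient hU ξ z hξU hzU hξz
    obtain ⟨D, hD⟩ := Lib.Helper55.exists_nat_ringKrullDim_stalk (f z)
    have hDh : ((hV.primeIdealOf ⟨f z, e hzU⟩).asIdeal.height : WithBot ℕ∞) = D := by
      rw [← hD, Groth.Agent.S4442.ringKrullDim_stalk_eq_height Y hV (f z) (e hzU)]
    have hDh' : (hV.primeIdealOf ⟨f z, e hzU⟩).asIdeal.height = (D : ℕ∞) := by exact_mod_cast hDh
    rw [hcz', hDh'] at E1
    have E1n : cz + n = D + m := by exact_mod_cast E1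
    have hczD : cz = D := by omega
    have hpz : (hU.primeIdealOf ⟨z, hzU⟩).asIdeal.IsPrime := (hU.primeIdealOf _).2
    have hle : (hU.primeIdealOf ⟨ξ, hξU⟩).asIdeal ≤ (hU.primeIdealOf ⟨z, hzU⟩).asIdeal :=
      (Lib.Helper55.primeIdealOf_le_iff_specializes hU ξ z hξU hzU).mpr hξz
    have hht := Lib.Helper55.height_map_quotient_le (hU.primeIdealOf ⟨ξ, hξU⟩).asIdeal
      (hU.primeIdealOf ⟨z, hzU⟩).asIdeal hle
    rw [hcz', hczD] at hht
    rw [hD, Groth.Agent.S4442.ringKrullDim_stalk_eq_height X hU z hzU]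
    exact_mod_cast hht

end Groth.Agent.S3393
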