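import Groth.Statements.S4985
-- import your own Groth.Agent.* helpers here
import Groth.Agent.Lib.Helper55.ClosedSubschemeDim

set_option autoImplicit false
open CategoryTheory AlgebraicGeometry
universe u v w
open EGA43

namespace Groth.Agent.S4985

open Groth.Agent.Lib.Helper55 in
/-- Setup shared by S4985/S4986: the subschemes are irreducible and the generic points match. -/
theorem setup {X Y : Scheme.{u}} (f : X ⟶ Y) (X' : TopologicalSpace.Closeds X)
    (hirr : IsIrreducible (X' : Set X)) (η' : Y)
    (hη' : closure ({η'} : Set Y) = closure (f.base '' (X' : Set X))) :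
    ∃ (_ : IrreducibleSpace ↥(Scheme.IdealSheafData.vanishingIdeal X').subscheme)
      (_ : IrreducibleSpace ↥(Scheme.IdealSheafData.vanishingIdeal
        (⟨closure (f.base '' (X' : Set X)), isClosed_closure⟩ :
          TopologicalSpace.Closeds Y)).subscheme),
      Set.range (Scheme.IdealSheafData.vanishingIdeal X').subschemeι = (X' : Set X) ∧
      f ((Scheme.IdealSheafData.vanishingIdeal X').subschemeι
        (genericPoint ↥(Scheme.IdealSheafData.vanishingIdeal X').subscheme)) = η' ∧
      (Scheme.IdealSheafData.vanishingIdeal
        (⟨closure (f.base '' (X' : Set X)), isClosed_closure⟩ :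
          TopologicalSpace.Closeds Y)).subschemeι
        (genericPoint ↥(Scheme.IdealSheafData.vanishingIdeal
        (⟨closure (f.base '' (X' : Set X)), isClosed_closure⟩ :
          TopologicalSpace.Closeds Y)).subscheme) = η' := by
  have hrX : Set.range (Scheme.IdealSheafData.vanishingIdeal X').subschemeι = (X' : Set X) := by
    rw [Scheme.IdealSheafData.range_subschemeι, Scheme.IdealSheafData.coe_support_vanishingIdeal]
  have hrY : Set.range (Scheme.IdealSheafData.vanishingIdeal
      (⟨closure (f.base '' (X' : Set X)), isClosed_closure⟩ :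
        TopologicalSpace.Closeds Y)).subschemeι = closure (f.base '' (X' : Set X)) := by
    rw [Scheme.IdealSheafData.range_subschemeι, Scheme.IdealSheafData.coe_support_vanishingIdeal]
    rfl
  have hiX : IrreducibleSpace ↥(Scheme.IdealSheafData.vanishingIdeal X').subscheme :=
    irreducibleSpace_of_isEmbedding _
      (Scheme.IdealSheafData.vanishingIdeal X').subschemeι.isEmbedding (by rw [hrX]; exact hirr)
  have hiY : IrreducibleSpace ↥(Scheme.IdealSheafData.vanishingIdeal
      (⟨closure (f.base '' (X' : Set X)), isClosed_closure⟩ :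
        TopologicalSpace.Closeds Y)).subscheme :=
    irreducibleSpace_of_isEmbedding _
      (Scheme.IdealSheafData.vanishingIdeal _).subschemeι.isEmbedding
      (by rw [hrY]; exact (hirr.image f.base f.continuous.continuousOn).closure)
  refine ⟨hiX, hiY, hrX, ?_, ?_⟩
  · -- `f (ιX ξ) = η'`
    set ιX := (Scheme.IdealSheafData.vanishingIdeal X').subschemeι with hιX
    have h1 : closure ({ιX (genericPoint ↥(Scheme.IdealSheafData.vanishingIdeal X').subscheme)} :
        Set X) = (X' : Set X) := by
      have := ιX.isClosedEmbedding.closure_image_eq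
        ({genericPoint ↥(Scheme.IdealSheafData.vanishingIdeal X').subscheme} : Set _)
      rw [Set.image_singleton, (genericPoint_spec _).def, Set.image_univ, hrX] at this
      exact this
    have h2 : closure ({f (ιX (genericPoint ↥(Scheme.IdealSheafData.vanishingIdeal X').subscheme))} :
        Set Y) = closure (f.base '' (X' : Set X)) := by
      apply subset_antisymm
      · apply closure_mono
        rintro _ rfl
        exact ⟨_, h1 ▸ subset_closure rfl, rfl⟩
      · apply closure_minimal _ isClosed_closure
        rintro _ ⟨p, hp, rfl⟩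
        rw [← h1] at hp
        exact specializes_iff_mem_closure.mp
          ((specializes_iff_mem_closure.mpr hp).map f.continuous)
    have hg1 : IsGenericPoint (f (ιX (genericPoint
        ↥(Scheme.IdealSheafData.vanishingIdeal X').subscheme))) (closure (f.base '' (X' : Set X))) :=
      h2
    have hg2 : IsGenericPoint η' (closure (f.base '' (X' : Set X))) := hη'
    exact hg1.eq hg2
  · set ιY := (Scheme.IdealSheafData.vanishingIdeal
      (⟨closure (f.base '' (X' : Set X)), isClosed_closure⟩ :
        TopologicalSpace.Closeds Y)).subschemeι with hιY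
    have h1 : closure ({ιY (genericPoint _)} : Set Y) = closure (f.base '' (X' : Set X)) := by
      have := ιY.isClosedEmbedding.closure_image_eq ({genericPoint _} : Set _)
      rw [Set.image_singleton, (genericPoint_spec _).def, Set.image_univ, hrY] at this
      exact this
    have hg1 : IsGenericPoint (ιY (genericPoint _)) (closure (f.base '' (X' : Set X))) := h1
    have hg2 : IsGenericPoint η' (closure (f.base '' (X' : Set X))) := hη'
    exact hg1.eq hg2

/-- Let Y be a locally Noetherian scheme, f : X ⟶ Y a morphism of finite type, x a point of X with y = f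
x, X' an irreducible closed subset of X containing x, regarded as a reduced closed subscheme, and Y'
the closure of f(X') regarded as a reduced closed subscheme of Y, with generic point η'. Write A, B,
A', B' for the local rings of Y at y, of X at x, of Y' at y and of X' at x, and B ⊗ κ(y), B' ⊗ κ(y)
for the local rings at x of the fibres over y of X and of X'. Then dim B' = dim A + dim(B ⊗ κ(y)) if
and only if all of the following hold: (i) dim A' = dim A; (ii) dim(B' ⊗ κ(y)) = dim(B ⊗ κ(y));
(iii) X' is equidimensional over Y' at x, i.e. the local dimension at x of the fibre of X' over y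
equals dim(X' ∩ f⁻¹(η')); (iv) dim B' = dim A' + dim(B' ⊗ κ(y)) (the published (iv) carries the
correction term dim_x − dim of (iii), which vanishes under (iii)). -/
theorem result {X Y : Scheme.{u}} [IsLocallyNoetherian Y] (f : X ⟶ Y)
    [LocallyOfFiniteType f] [QuasiCompact f] (x : X) (X' : TopologicalSpace.Closeds X) (hirr : IsIrreducible (X' : Set X))
    (hx : x ∈ X') (w : ↥(Scheme.IdealSheafData.vanishingIdeal X').subscheme)
    (hw : (Scheme.IdealSheafData.vanishingIdeal X').subschemeι.base w = x)
    (v : ↥(Scheme.IdealSheafData.vanishingIdeal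
      (⟨closure (f.base '' (X' : Set X)), isClosed_closure⟩ : TopologicalSpace.Closeds Y)).subscheme)
    (hv : (Scheme.IdealSheafData.vanishingIdeal
      (⟨closure (f.base '' (X' : Set X)), isClosed_closure⟩ : TopologicalSpace.Closeds Y)).subschemeι.base v = f.base x)
    (η' : Y) (hη' : closure ({η'} : Set Y) = closure (f.base '' (X' : Set X))) :
    letI ιX := (Scheme.IdealSheafData.vanishingIdeal X').subschemeι
    letI dA := ringKrullDim (Y.presheaf.stalk (f.base x))
    letI dB := ringKrullDim (X.presheaf.stalk x)
    letI dA' := ringKrullDim ((Scheme.IdealSheafData.vanishingIdeal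
      (⟨closure (f.base '' (X' : Set X)), isClosed_closure⟩ : TopologicalSpace.Closeds Y)).subscheme.presheaf.stalk v)
    letI dB' := ringKrullDim ((Scheme.IdealSheafData.vanishingIdeal X').subscheme.presheaf.stalk w)
    letI dBk := ringKrullDim ((f.fiber (f.base x)).presheaf.stalk (f.asFiber x))
    letI dB'k := ringKrullDim (((ιX ≫ f).fiber ((ιX ≫ f).base w)).presheaf.stalk ((ιX ≫ f).asFiber w))
    letI e' := topologicalKrullDim ↥((X' : Set X) ∩ f.base ⁻¹' {η'})
    (dB' = dA + dBk ↔
      (dA' = dA ∧ dB'k = dBk ∧ FlatMor.fibreDimAt (ιX ≫ f) w = e' ∧ dB' = dA' + dB'k)) := by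
  subst hw
  obtain ⟨hiX, hiY, hrX, hξη, hηη⟩ := setup f X' hirr η' hη'
  obtain ⟨a, a', b', k, k', t, m, ha, ha', hb', hk, hk', hfg, hff, hm, h1, h2, h3, h4⟩ :=
    Lib.Helper55.closed_subscheme_dim_chain f (Scheme.IdealSheafData.vanishingIdeal X').subschemeι
      (Scheme.IdealSheafData.vanishingIdeal
        (⟨closure (f.base '' (X' : Set X)), isClosed_closure⟩ :
          TopologicalSpace.Closeds Y)).subschemeι (hηη.trans hξη.symm) w v hv
  rw [hrX, hξη] at hm
  have key : ∀ (A A' B' K K' F E : WithBot ℕ∞), A = a → A' = a' → B' = b' → K = k → K' = k' →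
      F = ((k' + t : ℕ) : WithBot ℕ∞) → E = m →
      (B' = A + K ↔ (A' = A ∧ K' = K ∧ F = E ∧ B' = A' + K')) := by
    intro A A' B' K K' F E hA hA' hB' hK hK' hF hE
    subst hA hA' hB' hK hK' hF hE
    norm_cast
    omega
  exact key _ _ _ _ _ _ _ ha ha' hb' hk hk' hfg hm

end Groth.Agent.S4985
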