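import Groth.Statements.S14255
import Mathlib.RingTheory.Flat.EquationalCriterion
import Mathlib.Tactic

set_option autoImplicit false
universe u
open FrobAlg

namespace Groth.Agent.S14255

section
variable (p : ℕ) [Fact p.Prime]

theorem exists_common {A A' : Type u} [CommRing A] [CommRing A'] (i : A →+* A') [IsPRadical i p]
    (l : ℕ) (f : Fin l → A') :
    ∃ n, ∀ N, n ≤ N → ∃ a : Fin l → A, ∀ k, i (a k) = (f k) ^ p ^ N := by
  choose n a ha using fun k => IsPRadical.pow_mem i p (f k)
  refine ⟨Finset.univ.sup n, fun N hN => ⟨fun k => (a k) ^ p ^ (N - n k), fun k => ?_⟩⟩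
  have hk : n k ≤ N := (Finset.le_sup (Finset.mem_univ k)).trans hN
  rw [map_pow, ha k, ← pow_mul, ← pow_add, Nat.add_sub_cancel' hk]

/-- the `p^n`-th root on a perfect ring commutes with ring maps -/
theorem map_root {A' B' : Type u} [CommRing A'] [CommRing B'] [CharP A' p] [CharP B' p]
    [PerfectRing A' p] [PerfectRing B' p] (φ' : A' →+* B') (n : ℕ) (z : A') :
    φ' ((iterateFrobeniusEquiv A' p n).symm z) = (iterateFrobeniusEquiv B' p n).symm (φ' z) := by
  apply (iterateFrobeniusEquiv B' p n).injective
  rw [RingEquiv.apply_symm_apply, iterateFrobeniusEquiv_def, ← map_pow]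
  congr 1
  have := (iterateFrobeniusEquiv A' p n).apply_symm_apply z
  rwa [iterateFrobeniusEquiv_def] at this

theorem eq_root_of_pow_eq {A' : Type u} [CommRing A'] [CharP A' p] [PerfectRing A' p] (n : ℕ)
    (x z : A') (h : z = x ^ p ^ n) : x = (iterateFrobeniusEquiv A' p n).symm z := by
  apply (iterateFrobeniusEquiv A' p n).injective
  rw [RingEquiv.apply_symm_apply, iterateFrobeniusEquiv_def, h]

end


/-- Let p be a prime, φ : A → B a flat map of commutative rings of characteristic p, i : A → A' and j :
B → B' perfect closures (A', B' perfect rings of characteristic p, every element of A' resp. B' has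
a p^n-th power in the image of i resp. j, the kernels of i and j consist of nilpotent elements), and
φ' : A' → B' the induced map, φ' ∘ i = j ∘ φ. Then φ' is flat. (The published statement is that the
perfection of a flat morphism of schemes over the prime field is flat; this row is its affine case,
to which the published proof reduces.) -/
theorem result (p : ℕ) [Fact p.Prime]
    {A B A' B' : Type u} [CommRing A] [CommRing B] [CommRing A'] [CommRing B']
    [CharP A p] [CharP B p] [CharP A' p] [CharP B' p] [PerfectRing A' p] [PerfectRing B' p]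
    (φ : A →+* B) (hflat : φ.Flat) (i : A →+* A') (j : B →+* B') [IsPerfectClosure i p] [IsPerfectClosure j p]
    (φ' : A' →+* B') (hφ : φ'.comp i = j.comp φ) : φ'.Flat := by
  have hp : p.Prime := Fact.out
  unfold RingHom.Flat at hflat ⊢
  letI := φ.toAlgebra
  letI := φ'.toAlgebra
  apply Module.Flat.of_forall_isTrivialRelation
  intro l f x hrel
  have hrel' : ∑ k, φ' (f k) * x k = 0 := hrel
  have hφ' : ∀ z : A, j (φ z) = φ' (i z) := fun z => (RingHom.congr_fun hφ z).symm
  obtain ⟨nA, hA⟩ := exists_common p i l f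
  obtain ⟨nB, hB⟩ := exists_common p j l x
  obtain ⟨a, ha⟩ := hA (max nA nB) (le_max_left _ _)
  obtain ⟨b, hb⟩ := hB (max nA nB) (le_max_right _ _)
  set n := max nA nB with hn
  -- s = Σ φ (a k) * b k is in the kernel of j
  have hs : j (∑ k, φ (a k) * b k) = 0 := by
    rw [map_sum]
    have h1 : ∀ k, j (φ (a k) * b k) = (φ' (f k) * x k) ^ p ^ n := by
      intro k
      rw [map_mul, mul_pow, ← hb k, ← map_pow, ← ha k, hφ']
    simp only [h1]
    rw [← sum_pow_char_pow, hrel', zero_pow (pow_pos hp.pos n).ne']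
  have hnil := IsPRadical.ker_le j p (show _ ∈ RingHom.ker j from hs)
  rw [mem_pNilradical] at hnil
  obtain ⟨m, hm⟩ := hnil
  rw [sum_pow_char_pow] at hm
  have hrelAB : ∑ k, (a k ^ p ^ m) • (b k ^ p ^ m) = 0 := by
    rw [← hm]
    apply Finset.sum_congr rfl
    intro k _
    change φ (a k ^ p ^ m) * b k ^ p ^ m = (φ (a k) * b k) ^ p ^ m
    rw [map_pow, mul_pow]
  obtain ⟨κ, c, y, hby, hc⟩ := Module.Flat.isTrivialRelation_of_sum_smul_eq_zero (R := A) (M := B)
    (f := fun k => a k ^ p ^ m) (x := fun k => b k ^ p ^ m) hrelAB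
  replace hby : ∀ k, b k ^ p ^ m = ∑ t, c k t • y t := hby
  replace hc : ∀ t, ∑ k, a k ^ p ^ m * c k t = 0 := hc
  have hf : ∀ k, f k = (iterateFrobeniusEquiv A' p (n + m)).symm (i (a k ^ p ^ m)) := by
    intro k
    apply eq_root_of_pow_eq
    rw [map_pow, ha k, ← pow_mul, ← pow_add]
  have hx : ∀ k, x k = (iterateFrobeniusEquiv B' p (n + m)).symm (j (b k ^ p ^ m)) := by
    intro k
    apply eq_root_of_pow_eq
    rw [map_pow, hb k, ← pow_mul, ← pow_add]
  refine ⟨κ, fun k t => (iterateFrobeniusEquiv A' p (n + m)).symm (i (c k t)),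
    fun t => (iterateFrobeniusEquiv B' p (n + m)).symm (j (y t)), fun k => ?_, fun t => ?_⟩
  · rw [hx k, hby k, map_sum, map_sum]
    apply Finset.sum_congr rfl
    intro t _
    change (iterateFrobeniusEquiv B' p (n + m)).symm (j (φ (c k t) * y t)) =
      φ' ((iterateFrobeniusEquiv A' p (n + m)).symm (i (c k t))) *
        (iterateFrobeniusEquiv B' p (n + m)).symm (j (y t))
    rw [map_mul, map_mul, map_root, hφ']
  · simp only [hf]
    rw [← map_zero (iterateFrobeniusEquiv A' p (n + m)).symm, ← map_zero i, ← hc t, map_sum, map_sum]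
    apply Finset.sum_congr rfl
    intro k _
    rw [map_mul, map_mul]

end Groth.Agent.S14255
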