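import Groth.Statements.S2562
import Groth.Agent.Lib.Helper13.ValFlatPtSch
import Groth.Agent.Lib.Helper54.GenericPt

set_option autoImplicit false
open CategoryTheory AlgebraicGeometry
universe u
open EGA43

namespace Groth.Agent.S2562

open CategoryTheory.Limits in
/-- Let f : X ⟶ Y be locally of finite presentation, x a point of X, y = f x, and suppose the local ring
O_{Y,y} is reduced and Noetherian. Then O_{Y,y} ⟶ O_{X,x} is flat if and only if, for every discrete
valuation ring A' and every local homomorphism O_{Y,y} ⟶ A', the base change X' = X ×_Y Spec A' ⟶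
Spec A' is flat at every point of X' lying over x and over the closed point of Spec A'. -/
theorem result {X Y : Scheme.{u}} (f : X ⟶ Y) [LocallyOfFinitePresentation f]
    (x : X) [IsNoetherianRing (Y.presheaf.stalk (f.base x))] [_root_.IsReduced (Y.presheaf.stalk (f.base x))] :
    (f.stalkMap x).hom.Flat ↔
      ∀ (A' : Type u) [CommRing A'] [IsDomain A'] [IsDiscreteValuationRing A']
        (φ : (Y.presheaf.stalk (f.base x) : Type u) →+* A') [IsLocalHom φ],
        ∀ x' : ↥(pullback f (Spec.map (CommRingCat.ofHom φ) ≫ Y.fromSpecStalk (f.base x))),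
          (pullback.fst f _).base x' = x →
          (pullback.snd f _).base x' = IsLocalRing.closedPoint A' →
          ((pullback.snd f (Spec.map (CommRingCat.ofHom φ) ≫ Y.fromSpecStalk (f.base x))).stalkMap x').hom.Flat := by
  constructor
  · -- flatness is stable under base change
    intro hflat A' _ _ _ φ _ x' hx'1 _
    have Hpb : IsPullback
        (pullback.snd f (Spec.map (CommRingCat.ofHom φ) ≫ Y.fromSpecStalk (f.base x)))
        (pullback.fst f (Spec.map (CommRingCat.ofHom φ) ≫ Y.fromSpecStalk (f.base x)))
        (Spec.map (CommRingCat.ofHom φ) ≫ Y.fromSpecStalk (f.base x)) f :=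
      (IsPullback.of_hasPullback f _).flip
    apply Groth.Agent.Lib.Helper14.flat_stalkMap_fst_of_isPullback Hpb x'
    have : (pullback.fst f (Spec.map (CommRingCat.ofHom φ) ≫ Y.fromSpecStalk (f.base x))) x' = x :=
      hx'1
    rw [this]
    exact hflat
  · intro H
    -- base change to the spectrum of the local ring
    haveI hgflat : Flat (Y.fromSpecStalk (f.base x)) :=
      Groth.Agent.Lib.Helper54.flat_fromSpecStalk Y (f.base x)
    have hcl : (Y.fromSpecStalk (f.base x))
        (IsLocalRing.closedPoint (Y.presheaf.stalk (f.base x))) = f.base x :=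
      Scheme.fromSpecStalk_closedPoint
    obtain ⟨p, hp1, hp2⟩ := Scheme.Pullback.exists_preimage_pullback (f := f)
      (g := Y.fromSpecStalk (f.base x)) x
      (IsLocalRing.closedPoint (Y.presheaf.stalk (f.base x))) hcl.symm
    have Hpb : IsPullback (pullback.fst f (Y.fromSpecStalk (f.base x)))
        (pullback.snd f (Y.fromSpecStalk (f.base x))) f (Y.fromSpecStalk (f.base x)) :=
      IsPullback.of_hasPullback f _
    have h3 : ∀ z, ((Y.fromSpecStalk (f.base x)).stalkMap z).hom.Flat := fun z =>
      Flat.stalkMap _ z
    have h1 : ((pullback.fst f (Y.fromSpecStalk (f.base x))).stalkMap p).hom.Flat :=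
      Groth.Agent.Lib.Helper14.flat_stalkMap_fst_of_isPullback Hpb p (h3 _)
    have h2 : ((pullback.snd f (Y.fromSpecStalk (f.base x))).stalkMap p).hom.Flat := by
      refine @Groth.Agent.Lib.Helper13.ValFlatPt.flat_stalkMap_of_forall_dvr_Spec
        (Y.presheaf.stalk (f.base x)) _ inferInstance inferInstance inferInstance _
        (pullback.snd f (Y.fromSpecStalk (f.base x))) inferInstance p hp2 ?_
      intro A' _ _ _ φ _ x'' hx''1 hx''2
      -- compare the two fibre products
      let θ := pullbackLeftPullbackSndIso f (Y.fromSpecStalk (f.base x))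
        (Spec.map (CommRingCat.ofHom (R := (Y.presheaf.stalk (f.base x) : Type u)) φ))
      have hθsnd : θ.hom ≫ pullback.snd f
          (Spec.map (CommRingCat.ofHom (R := (Y.presheaf.stalk (f.base x) : Type u)) φ) ≫ Y.fromSpecStalk (f.base x)) =
          pullback.snd (pullback.snd f (Y.fromSpecStalk (f.base x)))
            (Spec.map (CommRingCat.ofHom (R := (Y.presheaf.stalk (f.base x) : Type u)) φ)) := pullbackLeftPullbackSndIso_hom_snd _ _ _
      have hθfst : θ.hom ≫ pullback.fst f
          (Spec.map (CommRingCat.ofHom (R := (Y.presheaf.stalk (f.base x) : Type u)) φ) ≫ Y.fromSpecStalk (f.base x)) =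
          pullback.fst (pullback.snd f (Y.fromSpecStalk (f.base x)))
            (Spec.map (CommRingCat.ofHom (R := (Y.presheaf.stalk (f.base x) : Type u)) φ)) ≫ pullback.fst f (Y.fromSpecStalk (f.base x)) :=
        pullbackLeftPullbackSndIso_hom_fst _ _ _
      have hx'1 : (pullback.fst f (Spec.map (CommRingCat.ofHom (R := (Y.presheaf.stalk (f.base x) : Type u)) φ) ≫
          Y.fromSpecStalk (f.base x))).base (θ.hom x'') = x := by
        have e1 : (θ.hom ≫ pullback.fst f
            (Spec.map (CommRingCat.ofHom (R := (Y.presheaf.stalk (f.base x) : Type u)) φ) ≫ Y.fromSpecStalk (f.base x))) x'' =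
            (pullback.fst (pullback.snd f (Y.fromSpecStalk (f.base x)))
              (Spec.map (CommRingCat.ofHom (R := (Y.presheaf.stalk (f.base x) : Type u)) φ)) ≫ pullback.fst f (Y.fromSpecStalk (f.base x))) x'' := by
          rw [hθfst]
        rw [Scheme.Hom.comp_apply, Scheme.Hom.comp_apply, hx''1] at e1
        exact e1.trans hp1
      have hx'2 : (pullback.snd f (Spec.map (CommRingCat.ofHom (R := (Y.presheaf.stalk (f.base x) : Type u)) φ) ≫
          Y.fromSpecStalk (f.base x))).base (θ.hom x'') = IsLocalRing.closedPoint A' := by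
        have e1 : (θ.hom ≫ pullback.snd f
            (Spec.map (CommRingCat.ofHom (R := (Y.presheaf.stalk (f.base x) : Type u)) φ) ≫ Y.fromSpecStalk (f.base x))) x'' =
            (pullback.snd (pullback.snd f (Y.fromSpecStalk (f.base x)))
              (Spec.map (CommRingCat.ofHom (R := (Y.presheaf.stalk (f.base x) : Type u)) φ))) x'' := by
          rw [hθsnd]
        rw [Scheme.Hom.comp_apply] at e1
        exact e1.trans hx''2
      have hfl := H A' φ (θ.hom x'') hx'1 hx'2
      have h23 : ((θ.hom ≫ pullback.snd f
          (Spec.map (CommRingCat.ofHom (R := (Y.presheaf.stalk (f.base x) : Type u)) φ) ≫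
            Y.fromSpecStalk (f.base x))).stalkMap x'').hom.Flat := by
        have hbij : (θ.hom.stalkMap x'').hom.Flat := RingHom.Flat.of_bijective
          (ConcreteCategory.bijective_of_isIso (θ.hom.stalkMap x''))
        have := RingHom.Flat.comp hfl hbij
        rw [← CommRingCat.hom_comp, ← Scheme.Hom.stalkMap_comp] at this
        exact this
      rw [Scheme.Hom.stalkMap_congr_hom _ _ hθsnd.symm, CommRingCat.hom_comp,
        RingHom.Flat.respectsIso.cancel_left_isIso]
      exact h23
    have key := Groth.Agent.Lib.Helper14.flat_stalkMap_of_commSq Hpb.w p h1 h2 (h3 _)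
    have hpx : (pullback.fst f (Y.fromSpecStalk (f.base x))) p = x := hp1
    rw [hpx] at key
    exact key

end Groth.Agent.S2562
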