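import Groth.Statements.S14254
import Groth.Agent.H72.PerfUH

set_option autoImplicit false
set_option linter.style.haveILetI false
universe u
open CategoryTheory AlgebraicGeometry
open FrobAlg

namespace Groth.Agent.S14254

/-- Let p be a prime, φ : A → B a map of commutative rings of characteristic p, i : A → A' and j : B →
B' perfect closures (A' and B' are perfect rings of characteristic p, every element of A' resp. B'
has a p^n-th power in the image of i resp. j, and the kernels of i and j consist of nilpotent
elements), and φ' : A' → B' the induced map, φ' ∘ i = j ∘ φ. Then Spec φ : Spec B ⟶ Spec A is a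
universal homeomorphism if and only if φ' is bijective. (The published statement is for an arbitrary
morphism of schemes over the prime field and its perfection; this row is the case of affine schemes,
the perfection of Spec A being Spec of the perfect closure of A.) -/
theorem result (p : ℕ) [Fact p.Prime]
    {A B A' B' : Type u} [CommRing A] [CommRing B] [CommRing A'] [CommRing B']
    [CharP A p] [CharP B p] [CharP A' p] [CharP B' p] [PerfectRing A' p] [PerfectRing B' p]
    (φ : A →+* B) (i : A →+* A') (j : B →+* B') [IsPerfectClosure i p] [IsPerfectClosure j p]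
    (φ' : A' →+* B') (hφ : φ'.comp i = j.comp φ) :
    FlatMor.IsUnivHomeo (Spec.map (CommRingCat.ofHom φ)) ↔ Function.Bijective φ' := by
  -- the four `Spec` maps
  have hsq : Spec.map (CommRingCat.ofHom φ') ≫ Spec.map (CommRingCat.ofHom i) =
      Spec.map (CommRingCat.ofHom j) ≫ Spec.map (CommRingCat.ofHom φ) := by
    rw [← Spec.map_comp, ← Spec.map_comp, ← CommRingCat.ofHom_comp, ← CommRingCat.ofHom_comp, hφ]
  haveI hri : IsPRadical (CommRingCat.ofHom i).hom p := ‹IsPerfectClosure i p›
  haveI hrj : IsPRadical (CommRingCat.ofHom j).hom p := ‹IsPerfectClosure j p›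
  have hPi := Groth.Agent.H72.Perf.isPerfection_Spec_of_isPRadical p (CommRingCat.of A)
    (CommRingCat.of A') (CommRingCat.ofHom i)
  have hPj := Groth.Agent.H72.Perf.isPerfection_Spec_of_isPRadical p (CommRingCat.of B)
    (CommRingCat.of B') (CommRingCat.ofHom j)
  haveI := Groth.Agent.H72.Perf.isIntegralHom_of_isPerfection p _ hPi
  haveI := Groth.Agent.H72.Perf.surjective_of_isPerfection p _ hPi
  haveI := Groth.Agent.H72.Perf.universallyInjective_of_isPerfection p _ hPi
  haveI := Groth.Agent.H72.Perf.isIntegralHom_of_isPerfection p _ hPj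
  haveI := Groth.Agent.H72.Perf.surjective_of_isPerfection p _ hPj
  haveI := Groth.Agent.H72.Perf.universallyInjective_of_isPerfection p _ hPj
  constructor
  · intro h
    obtain ⟨h1, h2, h3⟩ := (Groth.Agent.H72.Perf.isUnivHomeo_iff _).mp h
    haveI := h1
    haveI := h2
    haveI := h3
    haveI : IsIntegralHom (Spec.map (CommRingCat.ofHom φ)) :=
      IsIntegralHom.iff_universallyClosed_and_isAffineHom.mpr ⟨h2, inferInstance⟩
    haveI : IsIntegralHom (Spec.map (CommRingCat.ofHom φ') ≫ Spec.map (CommRingCat.ofHom i)) := by
      rw [hsq]; infer_instance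
    haveI : UniversallyInjective
        (Spec.map (CommRingCat.ofHom φ') ≫ Spec.map (CommRingCat.ofHom i)) := by
      rw [hsq]
      exact MorphismProperty.comp_mem @UniversallyInjective _ _ inferInstance inferInstance
    haveI : Surjective (Spec.map (CommRingCat.ofHom φ') ≫ Spec.map (CommRingCat.ofHom i)) := by
      rw [hsq]; infer_instance
    haveI : IsIntegralHom (Spec.map (CommRingCat.ofHom φ')) :=
      IsIntegralHom.of_comp _ (Spec.map (CommRingCat.ofHom i))
    haveI : UniversallyInjective (Spec.map (CommRingCat.ofHom φ')) :=
      Groth.Agent.H72.Perf.universallyInjective_of_comp _ (Spec.map (CommRingCat.ofHom i))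
    haveI : Surjective (Spec.map (CommRingCat.ofHom φ')) := by
      refine ⟨fun y => ?_⟩
      obtain ⟨x, hx⟩ := (Spec.map (CommRingCat.ofHom φ') ≫
        Spec.map (CommRingCat.ofHom i)).surjective (Spec.map (CommRingCat.ofHom i) y)
      refine ⟨x, ?_⟩
      apply (Spec.map (CommRingCat.ofHom i)).injective
      rw [← Scheme.Hom.comp_apply]
      exact hx
    exact Groth.Agent.H72.PerfUH.bijective_of_isUnivHomeo p φ'
      (Groth.Agent.H72.Perf.isUnivHomeo_of _)
  · intro h
    haveI : IsIso (Spec.map (CommRingCat.ofHom φ')) := by
      haveI : IsIso (CommRingCat.ofHom φ') :=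
        (ConcreteCategory.isIso_iff_bijective (CommRingCat.ofHom φ')).mpr h
      infer_instance
    haveI : UniversallyInjective
        (Spec.map (CommRingCat.ofHom j) ≫ Spec.map (CommRingCat.ofHom φ)) := by
      rw [← hsq]
      exact MorphismProperty.comp_mem @UniversallyInjective _ _ inferInstance inferInstance
    haveI : UniversallyClosed
        (Spec.map (CommRingCat.ofHom j) ≫ Spec.map (CommRingCat.ofHom φ)) := by
      rw [← hsq]; infer_instance
    haveI : Surjective (Spec.map (CommRingCat.ofHom j) ≫ Spec.map (CommRingCat.ofHom φ)) := by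
      rw [← hsq]; infer_instance
    haveI : UniversallyInjective (Spec.map (CommRingCat.ofHom φ)) :=
      Groth.Agent.H72.Perf.universallyInjective_of_comp_surjective
        (Spec.map (CommRingCat.ofHom j)) _
    haveI : UniversallyClosed (Spec.map (CommRingCat.ofHom φ)) :=
      UniversallyClosed.of_comp_surjective (Spec.map (CommRingCat.ofHom j)) _
    haveI : Surjective (Spec.map (CommRingCat.ofHom φ)) :=
      Surjective.of_comp (Spec.map (CommRingCat.ofHom j)) _
    exact Groth.Agent.H72.Perf.isUnivHomeo_of _

end Groth.Agent.S14254
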