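import Groth.Statements.S4641
import Groth.Agent.S2510
import Groth.Agent.Lib.Helper29.Depth
import Groth.Agent.Lib.Helper45.AssStructure
import Mathlib.RingTheory.Flat.TorsionFree

set_option autoImplicit false
open CategoryTheory AlgebraicGeometry
universe u
open AssSch

namespace Groth.Agent.S4641

open Groth.Agent.Lib.Helper45

/-- Let `φ : A → B` be a local homomorphism of local rings with `A` Noetherian and `N` a `B`-module
which is flat over `A`.  If the maximal ideal of `B` is associated to `N`, the maximal ideal of `A`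
is associated to `A`. -/
theorem maximalIdeal_mem_associatedPrimes_of_flat {A B : Type u} [CommRing A] [IsLocalRing A]
    [IsNoetherianRing A] [CommRing B] [IsLocalRing B] (φ : A →+* B) [IsLocalHom φ]
    {N : Type u} [AddCommGroup N] [Module B N] [Module A N]
    (hsm : ∀ (a : A) (n : N), a • n = φ a • n) [Module.Flat A N]
    (hass : IsAssociatedPrime (IsLocalRing.maximalIdeal B) N) :
    IsLocalRing.maximalIdeal A ∈ associatedPrimes A A := by
  rw [← Groth.Agent.Lib.Helper29.forall_not_isSMulRegular_iff_mem_associatedPrimes A A]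
  intro a ha hreg
  have hreg' : IsRegular a := by
    have hl : IsLeftRegular a := hreg
    exact isLeftRegular_iff_isRegular.mp hl
  have hN : IsSMulRegular N a := Module.Flat.isSMulRegular_of_isRegular hreg'
  obtain ⟨hprime, n, hn⟩ := hass
  have hφa : φ a ∈ IsLocalRing.maximalIdeal B := by
    rw [IsLocalRing.mem_maximalIdeal] at ha ⊢
    exact fun hu => ha (isUnit_of_map_unit φ a hu)
  rw [hn] at hφa
  obtain ⟨k, hk⟩ := hφa
  rw [Submodule.mem_colon_singleton, Submodule.mem_bot, ← map_pow, ← hsm] at hk
  have hn0 : n = 0 := (isSMulRegular_iff_right_eq_zero_of_smul.mp (hN.pow k)) n hk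
  have htop : (⊥ : Submodule B N).colon {n} = ⊤ := by
    rw [Ideal.eq_top_iff_one, Submodule.mem_colon_singleton, hn0, smul_zero]
    exact Submodule.zero_mem _
  rw [htop, Ideal.radical_top] at hn
  exact hprime.ne_top hn

/-- Let f : X → Y be a morphism of locally Noetherian schemes such that Y has no embedded associated
points, and let F be a quasi-coherent O_X-module which is flat over Y. Then for every associated
point x of F, f(x) is a maximal point of Y (every point of Y specialising to f(x) equals f(x)). (The
published statement assumes only Y locally Noetherian; X is taken locally Noetherian here so that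
associated points are those whose maximal ideal is an annihilator.) -/
theorem result {X Y : Scheme.{u}} (f : X ⟶ Y) [IsLocallyNoetherian X]
    [IsLocallyNoetherian Y] (hY : AssSch.NoEmbedded (Coh.structureModule Y)) (F : X.Modules) (hF : Coh.IsQCoh F)
    (hfl : FlatMod.IsFlatOver f F) (x : X) (hx : x ∈ AssSch.Ass F) (y : Y) (hy : y ⤳ f x) : y = f x := by
  -- `f x` is an associated point of `O_Y`
  have hfx : Curv2.IsWeakAssPoint (Coh.structureModule Y) (f x) := by
    rw [← isAssociatedPrime_stalk_iff_isWeakAssPoint]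
    let _ := FlatMod.moduleStalkOver f F x
    have hflat : Module.Flat (Y.presheaf.stalk (f x)) (F.presheaf.stalk x) := hfl x
    have : IsNoetherianRing (Y.presheaf.stalk (f x)) := inferInstance
    exact maximalIdeal_mem_associatedPrimes_of_flat (f.stalkMap x).hom (fun a n => rfl) hx
  obtain ⟨_, ⟨V, hV : IsAffineOpen V, rfl⟩, hxV, -⟩ :=
    Y.isBasis_affineOpens.exists_subset_of_mem_open (Set.mem_univ (f x)) isOpen_univ
  have hyV : y ∈ V := hy.mem_open V.2 hxV
  obtain ⟨q, hq, hqle⟩ := Ideal.exists_minimalPrimes_le
    (bot_le : (⊥ : Ideal Γ(Y, V)) ≤ (hV.primeIdealOf ⟨y, hyV⟩).asIdeal)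
  have hqP : q.IsPrime := hq.1.1
  obtain ⟨z, hz⟩ := exists_primeIdealOf_eq hV ⟨q, hqP⟩
  have hzq : (hV.primeIdealOf z).asIdeal = q := congrArg PrimeSpectrum.asIdeal hz
  have hzw : Curv2.IsWeakAssPoint (Coh.structureModule Y) (z : Y) := by
    rw [isWeakAssPoint_structureModule_iff hV z, hzq]
    exact Groth.Agent.S2510.mem_weakAss_self_of_mem_minimalPrimes hq
  have hzy : (z : Y) ⤳ y := by
    have := (primeIdealOf_le_iff hV ⟨y, hyV⟩ z).mp (hzq ▸ hqle)
    exact this
  have hfz : f x = (z : Y) :=
    hY (f x) ((isAssPoint_iff_isWeakAssPoint _ _).mpr hfx) (z : Y)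
      ((isAssPoint_iff_isWeakAssPoint _ _).mpr hzw) (hzy.trans hy)
  have hyz : y ⤳ (z : Y) := hfz ▸ hy
  rw [hfz]
  exact (hyz.antisymm hzy).eq

end Groth.Agent.S4641
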