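import Groth.Statements.S9648
import Groth.Agent.Lib.Helper50.FiberMod

set_option autoImplicit false
universe u
open CAlg

namespace Groth.Agent.S9648

open TensorProduct in
/-- The inclusion, valid for any ring R: let R → S be a ring map, M an R-module and N an S-module which
is flat over R. For an associated prime p of M (a prime equal to the annihilator of an element) and
an associated prime Q of the fibre module N ⊗_R κ(p) over the fibre ring S ⊗_R κ(p), the inverse
image of Q in S is an associated prime of N ⊗_R M. -/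
theorem result {R S : Type u} [CommRing R] [CommRing S] [Algebra R S] (M : Type u) [AddCommGroup M] [Module R M] (N : Type u) [AddCommGroup N] [Module S N] [Module R N] [IsScalarTower R S N] [Module.Flat R N]
    (p : Ideal R) [p.IsPrime] (hp : p ∈ FlatCA.ass R M) (Q : Ideal (p.Fiber S)) (hQ : Q ∈ FlatCA.ass (p.Fiber S) (FlatCA.fiberMod p S N)) :
    Q.comap (Algebra.TensorProduct.includeRight (R := R) (A := p.ResidueField) (B := S)).toRingHom ∈ FlatCA.ass S (N ⊗[R] M) := by
  rw [Groth.Agent.Lib.Helper50.mem_ass_iff] at hp hQ ⊢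
  obtain ⟨_, m₀, hm₀⟩ := hp
  obtain ⟨hQ', m, hm⟩ := hQ
  obtain ⟨r₀, hr₀, n₀, hn₀⟩ := Groth.Agent.Lib.Helper50.fiberMod_exists_smul_eq p N m
  refine ⟨Ideal.comap_isPrime _ _, n₀ ⊗ₜ[R] m₀, fun s => ?_⟩
  rw [Ideal.mem_comap, hm]
  have e1 : ((Algebra.TensorProduct.includeRight (R := R) (A := p.ResidueField) (B := S)).toRingHom s)
      • m = s • m := Groth.Agent.Lib.Helper50.fiberMod_one_tmul_smul p N s m
  rw [e1, ← Groth.Agent.Lib.Helper50.fiberMod_smul_eq_zero_iff p N hr₀, smul_comm, hn₀, ← map_smul,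
    Groth.Agent.Lib.Helper50.toFiberMod_eq_zero_iff_of_flat,
    Groth.Agent.Lib.Helper50.mem_map_smul_top_iff, TensorProduct.smul_tmul',
    Groth.Agent.Lib.Helper50.tmul_eq_zero_iff_of_flat p N m₀ hm₀]

end Groth.Agent.S9648
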