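import Groth.Statements.S9669
import Groth.Agent.Lib.Helper50.FiberMod

set_option autoImplicit false
universe u
open CAlg

namespace Groth.Agent.S9669

/-- Part (4): (A = A_fin = A'_fin): let R → S be a ring map, N an S-module flat over R and p a prime of
R; an associated prime of a module is a prime ideal equal to the annihilator of some element. Then
the set of associated primes of the S-module N/pN equals the set of associated primes of the
S-module N ⊗_R κ(p) (the fibre module over p, an S-module by restriction of scalars), and every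
prime in this set lies over p. -/
theorem result {R S : Type u} [CommRing R] [CommRing S] [Algebra R S] (N : Type u) [AddCommGroup N] [Module S N] [Module R N] [IsScalarTower R S N] [Module.Flat R N] (p : Ideal R) [p.IsPrime] :
    FlatCA.ass S (N ⧸ (p.map (algebraMap R S)) • (⊤ : Submodule S N)) = FlatCA.ass S (FlatCA.fiberMod p S N) ∧
      ∀ q ∈ FlatCA.ass S (N ⧸ (p.map (algebraMap R S)) • (⊤ : Submodule S N)), q.comap (algebraMap R S) = p := by
  have hiff : ∀ (s : S) (n : N), s • FlatCA.toFiberMod p S N n = 0 ↔
      s • (Submodule.Quotient.mk n : N ⧸ (p.map (algebraMap R S)) • (⊤ : Submodule S N)) = 0 := by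
    intro s n
    rw [← map_smul, Groth.Agent.Lib.Helper50.toFiberMod_eq_zero_iff_of_flat,
      ← Submodule.Quotient.mk_smul, Submodule.Quotient.mk_eq_zero]
  constructor
  · ext q
    rw [Groth.Agent.Lib.Helper50.mem_ass_iff, Groth.Agent.Lib.Helper50.mem_ass_iff]
    refine and_congr Iff.rfl ⟨?_, ?_⟩
    · rintro ⟨x, hx⟩
      obtain ⟨n, rfl⟩ := Submodule.Quotient.mk_surjective _ x
      exact ⟨FlatCA.toFiberMod p S N n, fun s => by rw [hx, hiff]⟩
    · rintro ⟨m, hm⟩
      obtain ⟨r₀, hr₀, n₀, hn₀⟩ := Groth.Agent.Lib.Helper50.fiberMod_exists_smul_eq p N m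
      refine ⟨Submodule.Quotient.mk n₀, fun s => ?_⟩
      rw [← hiff, ← hn₀, smul_comm, Groth.Agent.Lib.Helper50.fiberMod_smul_eq_zero_iff p N hr₀, hm]
  · intro q hq
    rw [Groth.Agent.Lib.Helper50.mem_ass_iff] at hq
    obtain ⟨hq', x, hx⟩ := hq
    obtain ⟨n, rfl⟩ := Submodule.Quotient.mk_surjective _ x
    have hn : n ∉ (p.map (algebraMap R S)) • (⊤ : Submodule S N) := by
      intro hn
      apply hq'.ne_top
      rw [Ideal.eq_top_iff_one, hx, one_smul, Submodule.Quotient.mk_eq_zero]
      exact hn
    ext r
    rw [Ideal.mem_comap, hx, ← Submodule.Quotient.mk_smul, Submodule.Quotient.mk_eq_zero]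
    constructor
    · intro h
      by_contra hr
      exact hn (Groth.Agent.Lib.Helper50.mem_map_smul_top_of_smul_mem_of_flat p N hr h)
    · intro hr
      exact Submodule.smul_mem_smul (Ideal.mem_map_of_mem _ hr) Submodule.mem_top

end Groth.Agent.S9669
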