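import Groth.Statements.S0500
import Groth.Agent.Lib.Helper3.HenselRoot

set_option autoImplicit false
universe u
open Hensel

namespace Groth.Agent.S0500

open Groth.Agent.Lib.Helper3 Polynomial IsLocalRing

/-- In a ring isomorphic to a finite product of local rings, for every maximal ideal `n₀` there is
an idempotent `e ∉ n₀` such that `n₀` is the only maximal ideal not containing `e`. -/
theorem exists_idempotent_of_pi_local {B : Type u} [CommRing B] {ι : Type u} [Fintype ι]
    {A : ι → Type u} [∀ i, CommRing (A i)] [∀ i, IsLocalRing (A i)] (φ : B ≃+* (∀ i, A i))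
    (n₀ : Ideal B) (hn₀ : n₀.IsMaximal) :
    ∃ e : B, IsIdempotentElem e ∧ e ∉ n₀ ∧ ∀ 𝔮 : Ideal B, 𝔮.IsMaximal → e ∉ 𝔮 → 𝔮 = n₀ := by
  classical
  let ε : ι → B := fun i => φ.symm (Pi.single i 1)
  have hsum : ∑ i, ε i = 1 := by
    simp only [ε, ← map_sum]
    rw [Finset.univ_sum_single]
    exact map_one φ.symm
  obtain ⟨i₀, hi₀⟩ : ∃ i, ε i ∉ n₀ := by
    by_contra hcon
    push Not at hcon
    apply hn₀.ne_top
    rw [Ideal.eq_top_iff_one, ← hsum]
    exact Ideal.sum_mem _ (fun i _ => hcon i)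
  let π : B →+* A i₀ := (Pi.evalRingHom A i₀).comp φ.toRingHom
  have hπe : π (ε i₀) = 1 := by simp [π, ε]
  have hker : ∀ b, π b = 0 → b * ε i₀ = 0 := by
    intro b hb
    apply φ.injective
    rw [map_mul, map_zero]
    ext j
    simp only [ε, RingEquiv.apply_symm_apply, Pi.mul_apply, Pi.zero_apply]
    by_cases hj : j = i₀
    · subst hj
      have : φ b j = 0 := hb
      rw [this, zero_mul]
    · rw [Pi.single_eq_of_ne hj, mul_zero]
  have key : ∀ 𝔮 : Ideal B, 𝔮.IsMaximal → ε i₀ ∉ 𝔮 →
      𝔮 = Ideal.comap π (maximalIdeal (A i₀)) := by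
    intro 𝔮 h𝔮 he
    have hprime : (Ideal.comap π (maximalIdeal (A i₀))).IsPrime := Ideal.comap_isPrime _ _
    refine h𝔮.eq_of_le hprime.ne_top ?_
    intro b hb
    rw [Ideal.mem_comap]
    by_contra hnot
    rw [mem_maximalIdeal, mem_nonunits_iff, not_not] at hnot
    obtain ⟨c, hc⟩ := hnot.exists_right_inv
    obtain ⟨c', rfl⟩ : ∃ c', π c' = c := by
      obtain ⟨y, hy⟩ := φ.surjective (Pi.single i₀ c)
      exact ⟨y, by simp [π, hy]⟩
    have h1 : π (b * c' - ε i₀) = 0 := by rw [map_sub, map_mul, hc, hπe, sub_self]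
    have h2 := hker _ h1
    have h3 : ε i₀ * ε i₀ = ε i₀ := by
      simp only [ε, ← map_mul]
      congr 1
      ext j
      by_cases hj : j = i₀
      · subst hj; simp
      · simp [Pi.single_eq_of_ne hj]
    have h4 : ε i₀ = b * (c' * ε i₀) := by linear_combination -h2 - h3
    apply he
    rw [h4]
    exact 𝔮.mul_mem_right _ hb
  refine ⟨ε i₀, ?_, hi₀, fun 𝔮 h𝔮 he => (key 𝔮 h𝔮 he).trans (key n₀ hn₀ hi₀).symm⟩
  show ε i₀ * ε i₀ = ε i₀
  simp only [ε, ← map_mul]
  congr 1
  ext j
  by_cases hj : j = i₀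
  · subst hj; simp
  · simp [Pi.single_eq_of_ne hj]

/-- If every algebra over a local ring that is finitely generated as a module is ring-isomorphic to a
finite product of local rings, then the local ring is henselian. -/
theorem result (R : Type u) [CommRing R] [IsLocalRing R]
    (h : ∀ (S : Type u) [CommRing S] [Algebra R S], Module.Finite R S →
      ∃ (ι : Type u) (_ : Fintype ι) (A : ι → Type u) (_ : ∀ i, CommRing (A i)),
        (∀ i, IsLocalRing (A i)) ∧ Nonempty (S ≃+* (∀ i, A i))) :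
    HenselianLocalRing R := by
  refine ((HenselianLocalRing.TFAE R).out 1 0).mp ?_
  intro f hf ab₀ h₁ h₂
  obtain ⟨a₀, rfl⟩ := residue_surjective ab₀
  have hfin : Module.Finite R (AdjoinRoot f) := hf.finite_adjoinRoot
  have hfree : Module.Free R (AdjoinRoot f) := hf.free_adjoinRoot
  obtain ⟨ι, _, A, _, hA, ⟨φ⟩⟩ := h (AdjoinRoot f) hfin
  have h₁' : f.eval a₀ ∈ maximalIdeal R := by
    rw [← residue_eq_zero_iff, ← aeval_residue]; exact h₁
  have h₂' : IsUnit (f.derivative.eval a₀) := by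
    rw [aeval_residue] at h₂
    have : f.derivative.eval a₀ ∉ maximalIdeal R := by
      rw [← residue_eq_zero_iff]; exact h₂
    rwa [mem_maximalIdeal, mem_nonunits_iff, not_not] at this
  let ev : AdjoinRoot f →ₐ[R] ResidueField R :=
    AdjoinRoot.liftAlgHom f (Algebra.ofId R (ResidueField R)) (residue R a₀) (by
      rw [← h₁, aeval_def]; rfl)
  have hev : ev (AdjoinRoot.root f) = residue R a₀ := AdjoinRoot.liftAlgHom_root _ _ _ _
  have hevsurj : Function.Surjective ev := by
    intro y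
    obtain ⟨r, rfl⟩ := residue_surjective y
    exact ⟨algebraMap R _ r, by rw [AlgHom.commutes]; rfl⟩
  have hmax : (RingHom.ker ev.toRingHom).IsMaximal :=
    RingHom.ker_isMaximal_of_surjective ev.toRingHom hevsurj
  obtain ⟨e, he, hee, hloc⟩ := exists_idempotent_of_pi_local φ _ hmax
  have := exists_root_of_idempotent (AdjoinRoot.root f) AdjoinRoot.adjoinRoot_eq_top f
    (by rw [AdjoinRoot.aeval_eq, AdjoinRoot.mk_self]) a₀ h₁' h₂' ev hev e he hee hloc
  exact this

end Groth.Agent.S0500
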