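import Groth.Statements.S4362
-- import your own Groth.Agent.* helpers here

set_option autoImplicit false
universe u
open FinCond

namespace Groth.Agent.S4362

open AlgebraicGeometry in
open CategoryTheory in
/-- If X is a Noetherian scheme, every increasing sequence of quasi-coherent sheaves of ideals of the
structure sheaf is eventually constant; equivalently the ordered set of quasi-coherent ideal sheaves
of X is well-founded for the reverse order. (On a locally Noetherian scheme quasi-coherent and
coherent ideal sheaves coincide.) -/
theorem result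
    (X : Scheme.{u}) [IsNoetherian X] : WellFoundedGT X.IdealSheafData := by
  rw [wellFoundedGT_iff_monotone_chain_condition]
  intro a
  obtain ⟨s, hs, e⟩ := (isCompact_iff_finite_and_eq_biUnion_affineOpens (U := (⊤ : X.Opens))).mp
    (by simpa using CompactSpace.isCompact_univ)
  have hcov : ⨆ i : s, (i.1 : X.affineOpens).1 = ⊤ := by
    rw [e, iSup_subtype]
  have hfin : Finite s := hs
  -- each chain of ideals stabilizes
  have hstab : ∀ i : s, ∃ n, ∀ m, n ≤ m → (a n).ideal i.1 = (a m).ideal i.1 := by
    intro i
    have : IsNoetherianRing Γ(X, i.1.1) := IsLocallyNoetherian.component_noetherian i.1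
    have hw : WellFoundedGT (Ideal Γ(X, i.1.1)) := inferInstance
    exact hw.monotone_chain_condition
      ⟨fun n => (a n).ideal i.1, fun n m hnm => Scheme.IdealSheafData.ideal_mono (a.mono hnm) i.1⟩
  choose N hN using hstab
  obtain ⟨M, hM⟩ : ∃ M, ∀ i, N i ≤ M := by
    have := Fintype.ofFinite s
    exact ⟨Finset.univ.sup N, fun i => Finset.le_sup (Finset.mem_univ i)⟩
  refine ⟨M, fun m hm => ?_⟩
  refine Scheme.IdealSheafData.ext_of_iSup_eq_top (fun i : s => i.1) hcov fun i => ?_
  rw [← hN i M (hM i), ← hN i m ((hM i).trans hm)]

end Groth.Agent.S4362
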