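import Mathlib
import Groth.Statements.S14422
import Groth.Agent.Lib.Helper73.LeftDerivedLES

set_option autoImplicit false
universe u
open CategoryTheory
open CAlg

namespace Groth.Agent.S14422

open Groth.Agent.Lib.Helper73 MonoidalCategory Limits

theorem result (A : Type u) [CommRing A] (M : ModuleCat.{u} A)
    (S : ShortComplex (ModuleCat.{u} A)) (hS : S.ShortExact) (i : ℕ) :
    (∃ w₀ : ((Tor (ModuleCat.{u} A) i).obj M).map S.f ≫ ((Tor (ModuleCat.{u} A) i).obj M).map S.g = 0,
        (ShortComplex.mk (((Tor (ModuleCat.{u} A) i).obj M).map S.f) (((Tor (ModuleCat.{u} A) i).obj M).map S.g) w₀).Exact) ∧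
      Epi (((Tor (ModuleCat.{u} A) 0).obj M).map S.g) ∧
      ∃ (δ : ((Tor (ModuleCat.{u} A) (i + 1)).obj M).obj S.X₃ ⟶ ((Tor (ModuleCat.{u} A) i).obj M).obj S.X₁)
        (w₁ : ((Tor (ModuleCat.{u} A) (i + 1)).obj M).map S.g ≫ δ = 0)
        (w₂ : δ ≫ ((Tor (ModuleCat.{u} A) i).obj M).map S.f = 0),
        (ShortComplex.mk (((Tor (ModuleCat.{u} A) (i + 1)).obj M).map S.g) δ w₁).Exact ∧
          (ShortComplex.mk δ (((Tor (ModuleCat.{u} A) i).obj M).map S.f) w₂).Exact := by
  obtain ⟨h1, h2⟩ := leftDerived_les ((tensoringLeft (ModuleCat.{u} A)).obj M) hS i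
  refine ⟨h1, ?_, h2⟩
  -- epi at degree 0
  have : Epi S.g := hS.epi_g
  have hF : PreservesFiniteColimits ((tensoringLeft (ModuleCat.{u} A)).obj M) := by
    change PreservesFiniteColimits (tensorLeft M)
    infer_instance
  let e := ((tensoringLeft (ModuleCat.{u} A)).obj M).leftDerivedZeroIsoSelf
  have hnat := e.hom.naturality S.g
  have hPE : ((tensoringLeft (ModuleCat.{u} A)).obj M).PreservesEpimorphisms := by
    have : PreservesColimitsOfShape WalkingSpan ((tensoringLeft (ModuleCat.{u} A)).obj M) :=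
      hF.preservesFiniteColimits _
    exact preservesEpimorphisms_of_preservesColimitsOfShape _
  have hepi : Epi (((tensoringLeft (ModuleCat.{u} A)).obj M).map S.g) :=
    ((tensoringLeft (ModuleCat.{u} A)).obj M).map_epi S.g
  change Epi ((((tensoringLeft (ModuleCat.{u} A)).obj M).leftDerived 0).map S.g)
  have : Epi ((((tensoringLeft (ModuleCat.{u} A)).obj M).leftDerived 0).map S.g ≫ e.hom.app S.X₃) := by
    rw [hnat]
    infer_instance
  have h3 : ((((tensoringLeft (ModuleCat.{u} A)).obj M).leftDerived 0).map S.g ≫ e.hom.app S.X₃) ≫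
      e.inv.app S.X₃ = (((tensoringLeft (ModuleCat.{u} A)).obj M).leftDerived 0).map S.g := by
    rw [Category.assoc, Iso.hom_inv_id_app, Category.comp_id]
  rw [← h3]
  infer_instance

end Groth.Agent.S14422
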