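import Groth.Statements.S14954
import Groth.Agent.S14952
import Groth.Agent.S14953
import Mathlib.RingTheory.Flat.Equalizer
import Mathlib.Algebra.Module.FinitePresentation
import Mathlib.RingTheory.Finiteness.Cardinality

set_option autoImplicit false
universe u
open TensorProduct EtAlg

namespace Groth.Agent.S14954

/-- If `L` is flat and `S ⊗ L` is finitely presented over `S`, then the base change of the kernel
of a surjection from a finite module onto `L` is a finite `S`-module. -/
theorem finite_baseChange_ker {R : Type u} [CommRing R] (S : Type u) [CommRing S] [Algebra R S]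
    {F L : Type u} [AddCommGroup F] [Module R F] [Module.Finite R F]
    [AddCommGroup L] [Module R L] [Module.Flat R L]
    [Module.FinitePresentation S (S ⊗[R] L)]
    (f : F →ₗ[R] L) (hf : Function.Surjective f) :
    Module.Finite S (S ⊗[R] LinearMap.ker f) := by
  set K := LinearMap.ker f with hK
  have hinj : Function.Injective (K.subtype.lTensor S) :=
    LinearMap.lTensor_injective_of_exact_of_flat f hf K.subtype K.subtype_injective
      (LinearMap.exact_subtype_ker_map f) S
  have hex : Function.Exact (K.subtype.lTensor S) (f.lTensor S) :=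
    lTensor_exact S (LinearMap.exact_subtype_ker_map f) hf
  let gS : S ⊗[R] K →ₗ[S] S ⊗[R] F := K.subtype.baseChange S
  let fS : S ⊗[R] F →ₗ[S] S ⊗[R] L := f.baseChange S
  have hgS : ∀ z, gS z = K.subtype.lTensor S z := fun z => rfl
  have hfS : ∀ z, fS z = f.lTensor S z := fun z => rfl
  have hinjS : Function.Injective gS := fun x y h => hinj (by rw [← hgS, ← hgS, h])
  have hsurjS : Function.Surjective fS := by
    intro y
    obtain ⟨x, hx⟩ := LinearMap.lTensor_surjective S hf y
    exact ⟨x, hx⟩
  have hker : (LinearMap.ker fS).FG := Module.FinitePresentation.fg_ker fS hsurjS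
  have hrange : LinearMap.range gS = LinearMap.ker fS := by
    ext z
    rw [LinearMap.mem_ker, hfS, hex z]
    constructor
    · rintro ⟨w, rfl⟩; exact ⟨w, rfl⟩
    · rintro ⟨w, hw⟩; exact ⟨w, hw⟩
  haveI : Module.Finite S (LinearMap.range gS) := by
    rw [Module.Finite.iff_fg, hrange]; exact hker
  exact Module.Finite.equiv (LinearEquiv.ofInjective gS hinjS).symm

theorem result (B' B A' A : Type u) [CommRing B'] [CommRing B] [CommRing A'] [CommRing A]
    [Algebra B' B] [Algebra B' A'] [Algebra B A] [Algebra A' A] [Algebra B' A] [IsScalarTower B' B A] [IsScalarTower B' A' A]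
    (hsq : EtMil.IsFibreSquare B' B A' A)
    (L' : Type u) [AddCommGroup L'] [Module B' L']
    [Module.Flat B (B ⊗[B'] L')] [Module.FinitePresentation B (B ⊗[B'] L')]
    [Module.Flat A' (A' ⊗[B'] L')] [Module.FinitePresentation A' (A' ⊗[B'] L')] :
    Module.FinitePresentation B' L' := by
  haveI : Module.Flat B' L' := Groth.Agent.S14952.result B' B A' A hsq L'
  haveI : Module.Finite B' L' := Groth.Agent.S14953.result B' B A' A hsq L'
  obtain ⟨n, f, hf⟩ := Module.Finite.exists_fin' B' L'
  haveI : Module.Finite B (B ⊗[B'] LinearMap.ker f) := finite_baseChange_ker B f hf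
  haveI : Module.Finite A' (A' ⊗[B'] LinearMap.ker f) := finite_baseChange_ker A' f hf
  haveI : Module.Finite B' (LinearMap.ker f) :=
    Groth.Agent.S14953.result B' B A' A hsq (LinearMap.ker f)
  exact Module.finitePresentation_of_free_of_surjective f hf
    (Module.Finite.iff_fg.mp inferInstance)

end Groth.Agent.S14954
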