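import Groth.Statements.S1368
import Groth.Agent.H76.RelAssChart
import Groth.Agent.Lib.Helper45.FiniteType

set_option autoImplicit false
universe u
open FlatMor

namespace Groth.Agent.S1368

open AlgebraicGeometry CategoryTheory Limits in
/-- Let f be of finite type with irreducible target, F a quasi-coherent module of finite type on the
source and U an open of the source. If the associated points of F restricted to the generic fibre
all lie in U, then over some nonempty open of the target the associated points of F restricted to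
every fibre lie in U. -/
theorem result {X Y : Scheme.{u}} (f : X ⟶ Y) [IrreducibleSpace ↑Y] [LocallyOfFiniteType f] [QuasiCompact f]
    (F : X.Modules) (hF : Coh.IsCoh F) (U : X.Opens)
    (h : ∀ x ∈ MoreMor.relAss f F, f x = genericPoint ↑Y → x ∈ U) :
    ∃ V : Y.Opens, (V : Set ↑Y).Nonempty ∧ ∀ x ∈ MoreMor.relAss f F, f x ∈ V → x ∈ U := by
  classical
  haveI : F.IsQuasicoherent := hF.1
  set η := genericPoint ↑Y with hη
  -- an affine open neighbourhood of the generic point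
  obtain ⟨_, ⟨V₀, hV₀, rfl⟩, hηV₀, -⟩ :=
    Y.isBasis_affineOpens.exists_subset_of_mem_open (Set.mem_univ η) isOpen_univ
  have hV₀' : IsAffineOpen V₀ := hV₀
  -- finitely many affine charts cover `f⁻¹ V₀`
  have hcomp : IsCompact (f ⁻¹ᵁ V₀ : Set X) := f.isCompact_preimage hV₀'.isCompact
  have hcov : ∀ x : X, x ∈ f ⁻¹ᵁ V₀ → ∃ W : X.Opens, IsAffineOpen W ∧ x ∈ W ∧ W ≤ f ⁻¹ᵁ V₀ := by
    intro x hx
    obtain ⟨_, ⟨W, hW, rfl⟩, hxW, hWle⟩ :=
      X.isBasis_affineOpens.exists_subset_of_mem_open hx (f ⁻¹ᵁ V₀).2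
    exact ⟨W, hW, hxW, hWle⟩
  choose! Wc hWaff hxW hWle using hcov
  obtain ⟨t, htcov⟩ := hcomp.elim_nhds_subcover' (fun x hx => (Wc x : Set X))
    (fun x hx => (Wc x).2.mem_nhds (hxW x hx))
  -- the prime of the generic point
  set p₀ : Ideal Γ(Y, V₀) := (hV₀'.primeIdealOf ⟨η, hηV₀⟩).asIdeal with hp₀
  haveI hprime : p₀.IsPrime := (hV₀'.primeIdealOf ⟨η, hηV₀⟩).2
  -- chart-level statement
  have hchart : ∀ x : (f ⁻¹ᵁ V₀ : Set X), ∃ a : Γ(Y, V₀), a ∉ p₀ ∧ ∀ z : (Wc x.1 : X.Opens),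
      (z : X) ∈ MoreMor.relAss f F →
      a ∉ ((hWaff x.1 x.2).primeIdealOf z).asIdeal.comap (f.appLE V₀ (Wc x.1) (hWle x.1 x.2)).hom →
      (z : X) ∈ U := by
    intro x
    have hW := hWaff x.1 x.2
    have hle := hWle x.1 x.2
    haveI : Module.Finite Γ(X, Wc x.1) Γ(F, Wc x.1) :=
      Groth.Agent.Lib.Helper45.finite_sections_of_isCoh hW F hF
    have hft : (f.appLE V₀ (Wc x.1) hle).hom.FiniteType :=
      HasRingHomProperty.appLE (P := @LocallyOfFiniteType) f inferInstance ⟨V₀, hV₀'⟩ ⟨_, hW⟩ hle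
    have hcomap : ∀ z : (Wc x.1 : X.Opens),
        (hW.primeIdealOf z).asIdeal.comap (f.appLE V₀ (Wc x.1) hle).hom =
          (hV₀'.primeIdealOf ⟨f (z : X), hle z.2⟩).asIdeal := fun z =>
      (Groth.Agent.Lib.Helper55.primeIdealOf_comap f hle (z : X) z.2 hW hV₀').symm
    have hh : ∀ z : (Wc x.1 : X.Opens), (z : X) ∈ MoreMor.relAss f F →
        (hW.primeIdealOf z).asIdeal.comap (f.appLE V₀ (Wc x.1) hle).hom = p₀ → (z : X) ∈ U := by
      intro z hz hzp
      apply h _ hz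
      rw [hcomap, hp₀] at hzp
      exact Groth.Agent.Lib.Helper55.primeIdealOf_injective hV₀' (f (z : X)) η (hle z.2) hηV₀
        (PrimeSpectrum.ext hzp)
    obtain ⟨a, ha, key⟩ := Groth.Agent.H76.RelAss.chart_generic_subset f hle hV₀' hW F hft p₀ U hh
    refine ⟨a, ha, fun z hz haz => key z hz ?_ haz⟩
    rw [hcomap, hp₀,
      Groth.Agent.Lib.Helper55.primeIdealOf_le_iff_specializes hV₀' η (f (z : X)) hηV₀ (hle z.2)]
    exact genericPoint_specializes _
  choose ac hac hkey using hchart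
  -- the product of the `a`'s
  set a : Γ(Y, V₀) := ∏ x ∈ t, ac x with ha
  have hap₀ : a ∉ p₀ := by
    rw [ha]
    intro hmem
    obtain ⟨x, -, hx⟩ := (hprime.prod_mem_iff).mp hmem
    exact hac x hx
  refine ⟨Y.basicOpen a, ⟨η, ?_⟩, ?_⟩
  · exact (Groth.Agent.Lib.Helper45.mem_basicOpen_iff_not_mem_primeIdealOf hV₀' ⟨η, hηV₀⟩ a).mpr hap₀
  · intro z hz hfz
    have hfzV₀ : f z ∈ V₀ := Y.basicOpen_le a hfz
    obtain ⟨x, hxt, hzx⟩ := Set.mem_iUnion₂.mp (htcov (show z ∈ (f ⁻¹ᵁ V₀ : Set X) from hfzV₀))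
    have hzW : z ∈ Wc x.1 := hzx
    refine hkey x ⟨z, hzW⟩ hz ?_
    have hW := hWaff x.1 x.2
    have hle := hWle x.1 x.2
    rw [← Groth.Agent.Lib.Helper55.primeIdealOf_comap f hle z hzW hW hV₀']
    intro hmem
    have hnot : a ∉ (hV₀'.primeIdealOf ⟨f z, hle hzW⟩).asIdeal :=
      (Groth.Agent.Lib.Helper45.mem_basicOpen_iff_not_mem_primeIdealOf hV₀' ⟨f z, hle hzW⟩ a).mp hfz
    apply hnot
    rw [ha]
    exact ((hV₀'.primeIdealOf ⟨f z, hle hzW⟩).2.prod_mem_iff).mpr ⟨x, hxt, hmem⟩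

end Groth.Agent.S1368
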