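import Groth.Statements.S1369
import Groth.Agent.H76.RelAssChart
import Groth.Agent.Lib.Helper45.FiniteType

set_option autoImplicit false
universe u
open FlatMor

namespace Groth.Agent.S1369

open AlgebraicGeometry CategoryTheory Limits in
/-- Let f be of finite type with irreducible target, F a quasi-coherent module of finite type on the
source and U an open of the source. If some associated point of F restricted to the generic fibre is
not in U, then over some nonempty open of the target every fibre carries an associated point of F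
(restricted to that fibre) outside U. -/
theorem result {X Y : Scheme.{u}} (f : X ⟶ Y) [IrreducibleSpace ↑Y] [LocallyOfFiniteType f] [QuasiCompact f]
    (F : X.Modules) (hF : Coh.IsCoh F) (U : X.Opens)
    (h : ∃ x ∈ MoreMor.relAss f F, f x = genericPoint ↑Y ∧ x ∉ U) :
    ∃ V : Y.Opens, (V : Set ↑Y).Nonempty ∧ ∀ y ∈ V, ∃ x ∈ MoreMor.relAss f F, f x = y ∧ x ∉ U := by
  classical
  haveI : F.IsQuasicoherent := hF.1
  obtain ⟨x₀, hx₀, hfx₀, hx₀U⟩ := h
  set η := genericPoint ↑Y with hη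
  -- an affine open neighbourhood of the generic point
  obtain ⟨_, ⟨V₀, hV₀, rfl⟩, hηV₀, -⟩ :=
    Y.isBasis_affineOpens.exists_subset_of_mem_open (Set.mem_univ η) isOpen_univ
  have hV₀' : IsAffineOpen V₀ := hV₀
  have hx₀V₀ : x₀ ∈ f ⁻¹ᵁ V₀ := by
    change f x₀ ∈ V₀
    rw [hfx₀]; exact hηV₀
  obtain ⟨_, ⟨W, hW, rfl⟩, hx₀W, hWle⟩ :=
    X.isBasis_affineOpens.exists_subset_of_mem_open hx₀V₀ (f ⁻¹ᵁ V₀).2
  have hW' : IsAffineOpen W := hW
  have hle : W ≤ f ⁻¹ᵁ V₀ := hWle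
  haveI : Module.Finite Γ(X, W) Γ(F, W) :=
    Groth.Agent.Lib.Helper45.finite_sections_of_isCoh hW' F hF
  have hft : (f.appLE V₀ W hle).hom.FiniteType :=
    HasRingHomProperty.appLE (P := @LocallyOfFiniteType) f inferInstance ⟨V₀, hV₀'⟩ ⟨_, hW'⟩ hle
  obtain ⟨a, ha, key⟩ := Groth.Agent.H76.RelAss.chart_generic_exists f hle hV₀' hW' F hft
    ⟨x₀, hx₀W⟩ hx₀
  refine ⟨Y.basicOpen a, ⟨η, ?_⟩, ?_⟩
  · refine (Groth.Agent.Lib.Helper45.mem_basicOpen_iff_not_mem_primeIdealOf hV₀' ⟨η, hηV₀⟩ a).mpr ?_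
    have h1 : (⟨f x₀, hle hx₀W⟩ : V₀) = ⟨η, hηV₀⟩ := Subtype.ext hfx₀
    rw [← h1]
    exact ha
  · intro y hy
    have hyV₀ : y ∈ V₀ := Y.basicOpen_le a hy
    have hay : a ∉ (hV₀'.primeIdealOf ⟨y, hyV₀⟩).asIdeal :=
      (Groth.Agent.Lib.Helper45.mem_basicOpen_iff_not_mem_primeIdealOf hV₀' ⟨y, hyV₀⟩ a).mp hy
    have hsp : f x₀ ⤳ y := by
      change f x₀ ⤳ y
      rw [hfx₀]; exact genericPoint_specializes y
    obtain ⟨z, hz, hfz, hx₀z⟩ := key ⟨y, hyV₀⟩ hsp hay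
    refine ⟨z, hz, hfz, fun hzU => hx₀U ?_⟩
    exact hx₀z.mem_open U.2 hzU

end Groth.Agent.S1369
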