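import Groth.Statements.S4920
-- import your own Groth.Agent.* helpers here
import Groth.Agent.Lib.Helper55.OpenAtComponent

set_option autoImplicit false
open CategoryTheory AlgebraicGeometry
universe u v w
open EGA43

namespace Groth.Agent.S4920

/-- Let Y be an irreducible locally Noetherian scheme with generic point η, f : X ⟶ Y a morphism locally
of finite type and y a point of Y such that f is open at every point of the fibre over y. For z in Y
write E(z) for the set of dimensions of the irreducible components of the fibre X_z. Then E(y) ⊆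
E(η), and consequently dim X_y ≤ dim X_η. -/
theorem result {X Y : Scheme.{u}} [IrreducibleSpace Y] [IsLocallyNoetherian Y]
    (f : X ⟶ Y) [LocallyOfFiniteType f] (y : Y) (h : ∀ x : X, f.base x = y → EGA43.IsOpenAt f.base x) :
    letI E : Y → Set (WithBot ℕ∞) := fun z =>
      (fun Z : Set ↥(f.fiber z) => topologicalKrullDim ↥Z) '' irreducibleComponents ↥(f.fiber z)
    E y ⊆ E (genericPoint Y) ∧
      topologicalKrullDim ↥(f.fiber y) ≤ topologicalKrullDim ↥(f.fiber (genericPoint Y)) := by
  have hpart1 : (fun Z : Set ↥(f.fiber y) => topologicalKrullDim ↥Z) ''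
      irreducibleComponents ↥(f.fiber y) ⊆
      (fun Z : Set ↥(f.fiber (genericPoint Y)) => topologicalKrullDim ↥Z) ''
        irreducibleComponents ↥(f.fiber (genericPoint Y)) := by
    rintro _ ⟨Z, hZ, rfl⟩
    have hqs : QuasiSober ↥(f.fiber y) := inferInstance
    obtain ⟨ζF, hζF⟩ := hqs.sober hZ.1 (isClosed_of_mem_irreducibleComponents Z hZ)
    have hζFmax : ∀ w : ↥(f.fiber y), w ⤳ ζF → ζF ⤳ w :=
      Lib.Helper55.specializes_of_closure_mem_irreducibleComponents ζF
        (by rw [hζF.def]; exact hZ)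
    have hfζ : f (f.fiberι y ζF) = y := by
      have : f.fiberι y ζF ∈ Set.range (f.fiberι y) := ⟨ζF, rfl⟩
      rw [f.range_fiberι] at this
      exact this
    have hmaxζ : ∀ w : X, f w = f (f.fiberι y ζF) → w ⤳ f.fiberι y ζF → w = f.fiberι y ζF := by
      intro w hw hwζ
      have hwr : w ∈ Set.range (f.fiberι y) := by
        rw [f.range_fiberι]; exact hw.trans hfζ
      obtain ⟨wF, rfl⟩ := hwr
      have h1 : wF ⤳ ζF := (f.fiberι y).isEmbedding.isInducing.specializes_iff.mp hwζ
      have h2 := hζFmax wF h1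
      rw [(h1.antisymm h2).eq]
    obtain ⟨ξ, d, hξmax, hξζ, hfξ, htrξ, htrζ, -⟩ :=
      Lib.Helper55.exists_dominant_maximal_point_of_isOpenAt f (f.fiberι y ζF)
        (h _ hfζ) hmaxζ
    obtain ⟨n, hn1, hn2⟩ := Lib.Helper55.exists_dim_closure_fiber_eq_trdeg f y ζF _ rfl
    have hnd : n = d := by exact_mod_cast hn2.symm.trans htrζ
    have hξr : ξ ∈ Set.range (f.fiberι (genericPoint Y)) := by
      rw [f.range_fiberι]; exact hfξ
    obtain ⟨ξF, hξF⟩ := hξr
    obtain ⟨n', hn1', hn2'⟩ :=
      Lib.Helper55.exists_dim_closure_fiber_eq_trdeg f (genericPoint Y) ξF ξ hξF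
    have hn'd : n' = d := by exact_mod_cast hn2'.symm.trans htrξ
    refine ⟨closure {ξF}, Lib.Helper55.closure_mem_irreducibleComponents_of_maximal ξF ?_, ?_⟩
    · intro w hw
      have h1 : f.fiberι (genericPoint Y) w ⤳ ξ :=
        hξF ▸ hw.map (f.fiberι (genericPoint Y)).continuous
      have h2 := hξmax _ h1
      apply (f.fiberι (genericPoint Y)).isEmbedding.isInducing.specializes_iff.mp
      rw [hξF]
      exact h2
    · change topologicalKrullDim ↥(closure ({ξF} : Set ↥(f.fiber (genericPoint Y)))) =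
        topologicalKrullDim ↥Z
      rw [hn1', ← hζF.def, hn1, hnd, hn'd]
  refine ⟨hpart1, ?_⟩
  have hqs : QuasiSober ↥(f.fiber y) := inferInstance
  have ht0 : T0Space ↥(f.fiber y) := inferInstance
  rw [Lib.Helper55.topologicalKrullDim_eq_iSup_closure (X := ↥(f.fiber y))]
  apply iSup_le
  intro zF
  obtain ⟨Z, hZ, hzZ⟩ := exists_mem_irreducibleComponents_subset_of_isIrreducible
    (closure ({zF} : Set ↥(f.fiber y))) isIrreducible_singleton.closure
  have h1 : topologicalKrullDim ↥(closure ({zF} : Set ↥(f.fiber y))) ≤ topologicalKrullDim ↥Z :=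
    Lib.Helper55.topologicalKrullDim_mono_set hzZ
  obtain ⟨Z', hZ', hdim⟩ := hpart1 ⟨Z, hZ, rfl⟩
  have hdim' : topologicalKrullDim ↥Z' = topologicalKrullDim ↥Z := hdim
  calc topologicalKrullDim ↥(closure ({zF} : Set ↥(f.fiber y))) ≤ topologicalKrullDim ↥Z := h1
    _ = topologicalKrullDim ↥Z' := hdim'.symm
    _ ≤ topologicalKrullDim ↥(f.fiber (genericPoint Y)) := topologicalKrullDim_subspace_le _ Z'

end Groth.Agent.S4920
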