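import Groth.Statements.S4571
import Mathlib
import Groth.Agent.S4570
import Groth.Agent.Lib.Helper81.PrimeField
import Groth.Agent.Lib.Helper81.KaehlerCompare2

set_option autoImplicit false
universe u
open TensorProduct KaehlerDifferential IsLocalRing
open EGA41

namespace Groth.Agent.S4571

/-- For an arbitrary local algebra: let k be a field and A a local k-algebra with maximal ideal m and
residue field K. Then A is formally smooth over k for the m-adic topology if and only if the
canonical maps Sym^n_K(m/m²) → m^n/m^(n+1) are bijective for n ≥ 1 and the canonical map Ω_{k/ℤ} ⊗_k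
K → Ω_{A/ℤ} ⊗_A K is injective (absolute differentials, which agree with differentials over the
prime field). -/
theorem result {k A : Type u} [Field k] [CommRing A]
    [IsLocalRing A] [Algebra k A] :
    CAlgX.IsAdicFormallySmooth k A (maximalIdeal A) ↔
      (PP16.SymGrBijective A (maximalIdeal A) ∧
        Function.Injective ((mapBaseChange ℤ k A).lTensor (ResidueField A))) := by
  haveI : Subsingleton Ω[(⊥ : Subfield k)⁄ℤ] :=
    Groth.Agent.Lib.Helper81.PrimeField.subsingleton_kaehler_bot k
  haveI hK : Algebra.FormallySmooth (⊥ : Subfield k) (A ⧸ maximalIdeal A) :=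
    Groth.Agent.Lib.Helper81.PrimeField.formallySmooth_bot k (ResidueField A)
  haveI hk : Algebra.FormallySmooth (⊥ : Subfield k) k :=
    Groth.Agent.Lib.Helper81.PrimeField.formallySmooth_bot k k
  have hcmp := Groth.Agent.Lib.Helper81.KaehlerCompare.lTensor_mapBaseChange_injective_iff
    ℤ (⊥ : Subfield k) k A (ResidueField A)
  have h := Groth.Agent.S4570.result (Λ := (⊥ : Subfield k)) (A := k) (B := A) (maximalIdeal A)
  constructor
  · intro hA
    obtain ⟨-, hβ, hγ, -⟩ := h.2 hk hA
    exact ⟨hβ, hcmp.2 hγ⟩
  · rintro ⟨hβ, hγ⟩
    refine h.1 ⟨?_, hβ, hcmp.1 hγ, ?_⟩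
    · exact (Module.Projective.of_free : Module.Projective (ResidueField A) (CotangentSpace A))
    · exact (Module.Projective.of_free :
        Module.Projective (ResidueField A) ((ResidueField A) ⊗[A] (Ω[A⁄k])))

end Groth.Agent.S4571
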