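import Groth.Statements.S4616
import Mathlib
import Groth.Agent.S4571
import Groth.Agent.Lib.Helper81.RelJac6
import Groth.Agent.Lib.Helper81.DescKaehler2

set_option autoImplicit false
universe u
open TensorProduct KaehlerDifferential IsLocalRing
open EGA41

namespace Groth.Agent.S4616

/-- Let k be a field of characteristic p > 0, A a local k-algebra with maximal ideal m and residue field
K, (k_α) a decreasing directed family of subfields of k with ⋂ k_α(k^p) = k^p. Then A is formally
smooth over k for the m-adic topology if and only if the maps Sym^n_K(m/m²) → m^n/m^(n+1) are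
bijective (n ≥ 1) and, for all large α, Ω_{k/k_α} ⊗_k K → Ω_{A/k_α} ⊗_A K is injective. -/
theorem result {k A : Type u}
    [Field k] (p : ℕ) [Fact p.Prime] [CharP k p] [CommRing A] [IsLocalRing A] [Algebra k A]
    {ι : Type u} [Preorder ι] [IsDirected ι (fun a b => a ≤ b)] [Nonempty ι] (kα : ι → Subfield k)
    (hanti : Antitone kα) (hint : ⨅ α, (kα α ⊔ (frobenius k p).fieldRange) = (frobenius k p).fieldRange) :
    CAlgX.IsAdicFormallySmooth k A (maximalIdeal A) ↔
      (PP16.SymGrBijective A (maximalIdeal A) ∧ ∃ α₀ : ι, ∀ α : ι, α₀ ≤ α →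
        Function.Injective ((mapBaseChange (kα α) k A).lTensor (ResidueField A))) := by
  constructor
  · intro hA
    refine ⟨(Groth.Agent.S4571.result.1 hA).1, Classical.arbitrary ι, fun α _ => ?_⟩
    exact Groth.Agent.Lib.Helper81.RelJac.injective_lTensor_mapBaseChange (Λ := kα α) hA
  · rintro ⟨hβ, α₀, hα₀⟩
    exact Groth.Agent.S4571.result.2 ⟨hβ,
      Groth.Agent.Lib.Helper81.DescKaehler.injective_of_eventually_injective p kα hanti hint α₀
        hα₀⟩

end Groth.Agent.S4616
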