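import Groth.Statements.S2470
import Mathlib
import Groth.Agent.S0565
import Groth.Agent.S2082
import Groth.Agent.Lib.Helper55.FlatDim
import Groth.Agent.Lib.Helper55.FiberCompDim
import Groth.Agent.Lib.Helper47.RegularLocalFlat2
import Groth.Agent.Lib.Helper28.RegularCM
import Groth.Agent.Lib.Helper85.RegularGens

set_option autoImplicit false
universe u
open EGA41

namespace Groth.Agent.S2470
open IsLocalRing in
theorem spanFinrank_le_add {A B : Type u} [CommRing A] [IsLocalRing A] [IsNoetherianRing A]
    [CommRing B] [IsLocalRing B] [IsNoetherianRing B] [Algebra A B]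
    [IsLocalRing (B ⧸ (maximalIdeal A).map (algebraMap A B))] :
    (maximalIdeal B).spanFinrank ≤ (maximalIdeal A).spanFinrank +
      (maximalIdeal (B ⧸ (maximalIdeal A).map (algebraMap A B))).spanFinrank := by
  classical
  generalize ha : (maximalIdeal A).spanFinrank = a
  generalize hc : (maximalIdeal (B ⧸ (maximalIdeal A).map (algebraMap A B))).spanFinrank = c
  set I := (maximalIdeal A).map (algebraMap A B) with hI
  obtain ⟨x, hx⟩ := Groth.Agent.Lib.Helper85.exists_fin_span_range_eq (maximalIdeal A)
    (maximalIdeal A).fg_of_isNoetherianRing ha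
  obtain ⟨ybar, hybar⟩ := Groth.Agent.Lib.Helper85.exists_fin_span_range_eq
    (maximalIdeal (B ⧸ I)) (maximalIdeal (B ⧸ I)).fg_of_isNoetherianRing hc
  choose y hy using fun j => Ideal.Quotient.mk_surjective (ybar j)
  let f : Fin a ⊕ Fin c → B :=
    Sum.elim (fun i => algebraMap A B (x i)) y
  have hIspan : I = Ideal.span (Set.range fun i => algebraMap A B (x i)) := by
    have h1 : I = (Ideal.span (Set.range x)).map (algebraMap A B) := by rw [hx]
    rw [h1, Ideal.map_span, ← Set.range_comp]
    rfl
  have hmB : maximalIdeal B = Ideal.span (Set.range f) := by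
    have hmk : (maximalIdeal B).map (Ideal.Quotient.mk I) = maximalIdeal (B ⧸ I) :=
      map_maximalIdeal_of_surjective _ Ideal.Quotient.mk_surjective
    have hIle : I ≤ maximalIdeal B := by
      apply IsLocalRing.le_maximalIdeal
      intro h
      have : Subsingleton (B ⧸ I) := Ideal.Quotient.subsingleton_iff.mpr h
      exact not_subsingleton (B ⧸ I) this
    have hrange : Set.range f = (Set.range fun i => algebraMap A B (x i)) ∪ Set.range y := by
      rw [Set.Sum.elim_range]
    apply le_antisymm
    · intro z hz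
      have h1 : Ideal.Quotient.mk I z ∈ maximalIdeal (B ⧸ I) := by
        rw [← hmk]; exact Ideal.mem_map_of_mem _ hz
      rw [← hybar] at h1
      have h2 : Ideal.span (Set.range ybar) = (Ideal.span (Set.range y)).map (Ideal.Quotient.mk I) := by
        rw [Ideal.map_span, ← Set.range_comp]
        congr 2
        ext j
        exact (hy j).symm
      rw [h2] at h1
      obtain ⟨w, hw, hwz⟩ := (Ideal.mem_map_iff_of_surjective _ Ideal.Quotient.mk_surjective).mp h1
      have h3 : z - w ∈ I := by
        rw [← Ideal.Quotient.eq]; exact hwz.symm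
      have h4 : z = (z - w) + w := by ring
      rw [h4, hrange, Ideal.span_union]
      refine Ideal.add_mem _ (Ideal.mem_sup_left ?_) (Ideal.mem_sup_right hw)
      rw [← hIspan]; exact h3
    · rw [hrange, Ideal.span_union, ← hIspan]
      refine sup_le hIle ?_
      rw [Ideal.span_le]
      rintro _ ⟨j, rfl⟩
      have : Ideal.Quotient.mk I (y j) ∈ maximalIdeal (B ⧸ I) := by
        rw [hy j, ← hybar]; exact Ideal.subset_span ⟨j, rfl⟩
      rw [← hmk] at this
      obtain ⟨w, hw, hwz⟩ := (Ideal.mem_map_iff_of_surjective _ Ideal.Quotient.mk_surjective).mp this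
      have h3 : y j - w ∈ I := by
        rw [← Ideal.Quotient.eq]; exact hwz.symm
      have h4 : y j = (y j - w) + w := by ring
      rw [h4]
      exact Ideal.add_mem _ (hIle h3) hw
  rw [hmB]
  calc (Ideal.span (Set.range f)).spanFinrank ≤ (Set.range f).ncard :=
        Submodule.spanFinrank_span_le_ncard_of_finite (Set.finite_range f)
    _ ≤ Nat.card (Fin a ⊕ Fin c) := by
        rw [← Set.image_univ, ← Set.ncard_univ]
        exact Set.ncard_image_le Set.finite_univ
    _ = _ := by simp


open IsLocalRing in
theorem exists_nat_dim (R : Type u) [CommRing R] [IsLocalRing R] [IsNoetherianRing R] :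
    ∃ n : ℕ, ringKrullDim R = n ∧ n ≤ (maximalIdeal R).spanFinrank := by
  have h1 := ringKrullDim_le_spanFinrank_maximalIdeal R
  have h0 : ringKrullDim R ≠ ⊥ := ringKrullDim_ne_bot
  obtain ⟨m, hm⟩ := WithBot.ne_bot_iff_exists.mp h0
  have hm' : m ≤ ((maximalIdeal R).spanFinrank : ℕ∞) := by
    rw [← hm] at h1
    exact_mod_cast h1
  obtain ⟨n, rfl⟩ := ENat.ne_top_iff_exists.mp (ne_top_of_le_ne_top (ENat.coe_ne_top _) hm')
  exact ⟨n, hm.symm, by exact_mod_cast hm'⟩


open IsLocalRing in
/-- Let A → B be a local homomorphism of Noetherian local rings with maximal ideals 𝔪, 𝔫 and residue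
fields k, k', and let B₀ = B/𝔪B be the closed fibre. The following are equivalent: (a) B is regular
and the canonical map (𝔪/𝔪²) ⊗_k k' → 𝔫/𝔫² is injective — stated here through dimensions, as
rank_{k'} 𝔫/𝔫² = rank_k 𝔪/𝔪² + rank_{k'} of the cotangent space of B₀, which is equivalent since the
cokernel of that map is the cotangent space of B₀; (c) B and B₀ are regular and B is flat over A;
(d) A and B₀ are regular and B is flat over A; (e) A and B₀ are regular and dim B = dim A + dim B₀.
(Condition (b) of the source, on regular systems of parameters, is not stated.) -/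
theorem result {A B : Type u} [CommRing A] [IsLocalRing A] [IsNoetherianRing A] [CommRing B] [IsLocalRing B] [IsNoetherianRing B]
    [Algebra A B] [IsLocalHom (algebraMap A B)] [IsLocalRing (B ⧸ (maximalIdeal A).map (algebraMap A B))] :
    [IsRegularLocalRing B ∧
       Module.finrank (ResidueField B) (CotangentSpace B) =
         Module.finrank (ResidueField A) (CotangentSpace A) +
           Module.finrank (ResidueField (B ⧸ (maximalIdeal A).map (algebraMap A B))) (CotangentSpace (B ⧸ (maximalIdeal A).map (algebraMap A B))),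
     IsRegularLocalRing B ∧ IsRegularLocalRing (B ⧸ (maximalIdeal A).map (algebraMap A B)) ∧ Module.Flat A B,
     IsRegularLocalRing A ∧ IsRegularLocalRing (B ⧸ (maximalIdeal A).map (algebraMap A B)) ∧ Module.Flat A B,
     IsRegularLocalRing A ∧ IsRegularLocalRing (B ⧸ (maximalIdeal A).map (algebraMap A B)) ∧
       ringKrullDim B = ringKrullDim A + ringKrullDim (B ⧸ (maximalIdeal A).map (algebraMap A B))].TFAE := by
  classical
  obtain ⟨nA, hnA, hnAle⟩ := exists_nat_dim A
  obtain ⟨nB, hnB, hnBle⟩ := exists_nat_dim B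
  obtain ⟨nC, hnC, hnCle⟩ := exists_nat_dim (B ⧸ (maximalIdeal A).map (algebraMap A B))
  have hle : nB ≤ nA + nC := by
    have := Groth.Agent.Lib.Helper55.ringKrullDim_le_add_quotient (algebraMap A B)
    rw [hnA, hnB, hnC] at this
    exact_mod_cast this
  have hb : (maximalIdeal B).spanFinrank ≤ (maximalIdeal A).spanFinrank +
      (maximalIdeal (B ⧸ (maximalIdeal A).map (algebraMap A B))).spanFinrank := spanFinrank_le_add
  have hregA : IsRegularLocalRing A ↔ (maximalIdeal A).spanFinrank = nA := by
    rw [isRegularLocalRing_iff, hnA]; norm_cast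
  have hregB : IsRegularLocalRing B ↔ (maximalIdeal B).spanFinrank = nB := by
    rw [isRegularLocalRing_iff, hnB]; norm_cast
  have hregC : IsRegularLocalRing (B ⧸ (maximalIdeal A).map (algebraMap A B)) ↔ (maximalIdeal (B ⧸ (maximalIdeal A).map (algebraMap A B))).spanFinrank = nC := by
    rw [isRegularLocalRing_iff, hnC]; norm_cast
  have hdim : ringKrullDim B = ringKrullDim A + ringKrullDim (B ⧸ (maximalIdeal A).map (algebraMap A B)) ↔ nB = nA + nC := by
    rw [hnA, hnB, hnC]; norm_cast
  rw [← spanFinrank_maximalIdeal_eq_finrank_cotangentSpace,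
    ← spanFinrank_maximalIdeal_eq_finrank_cotangentSpace,
    ← spanFinrank_maximalIdeal_eq_finrank_cotangentSpace]
  tfae_have 1 → 4 := by
    rintro ⟨hB, h⟩
    have h1 := hregB.mp hB
    refine ⟨hregA.mpr (by omega), hregC.mpr (by omega), hdim.mpr (by omega)⟩
  tfae_have 4 → 1 := by
    rintro ⟨hA, hC, h⟩
    have h1 := hregA.mp hA
    have h2 := hregC.mp hC
    have h3 := hdim.mp h
    exact ⟨hregB.mpr (by omega), by omega⟩
  tfae_have 4 → 3 := by
    rintro ⟨hA, hC, h⟩
    have h1 := hregA.mp hA
    have h2 := hregC.mp hC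
    have h3 := hdim.mp h
    have hB : IsRegularLocalRing B := hregB.mpr (by omega)
    haveI := Groth.Agent.Lib.Helper28.isCohenMacaulayLocalRing_of_isRegularLocalRing B
    exact ⟨hA, hC, Groth.Agent.S2082.result h⟩
  tfae_have 3 → 4 := by
    rintro ⟨hA, hC, hf⟩
    exact ⟨hA, hC, Groth.Agent.Lib.Helper55.ringKrullDim_eq_add_quotient_of_flat (algebraMap A B)
      (RingHom.flat_algebraMap_iff.mpr hf)⟩
  tfae_have 3 → 2 := by
    rintro ⟨hA, hC, hf⟩
    exact ⟨Groth.Agent.Lib.Helper47.isRegularLocalRing_of_flat_of_isRegularLocalRing_quotient hC,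
      hC, hf⟩
  tfae_have 2 → 3 := by
    rintro ⟨hB, hC, hf⟩
    exact ⟨Groth.Agent.S0565.result A B, hC, hf⟩
  tfae_finish

end Groth.Agent.S2470
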