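import Groth.Statements.S1598
import Mathlib
import Groth.Agent.S2470
import Groth.Agent.S0543
import Groth.Agent.Lib.Helper14.FlatBaseChangeStalk

set_option autoImplicit false
universe u
open CategoryTheory CategoryTheory.Limits AlgebraicGeometry
open Resolve

namespace Groth.Agent.S1598.Aux

set_option linter.style.haveILetI false

open IsLocalRing CategoryTheory

section alg

/-- in a pushout `B = R ⊗[A₀] Â` with `Â = A₀ + 𝔪 Â`, an ideal `Q` of `B` containing `𝔪 B` is
extended from `R`. -/
theorem eq_map_comap_of_isPushout {A₀ R Ah B : Type u} [CommRing A₀] [CommRing R] [CommRing Ah]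
    [CommRing B] [Algebra A₀ R] [Algebra A₀ Ah] [Algebra R B] [Algebra Ah B] [Algebra A₀ B]
    [IsScalarTower A₀ R B] [IsScalarTower A₀ Ah B] [Algebra.IsPushout A₀ R Ah B]
    (𝔪 : Ideal A₀)
    (hT : ∀ t : Ah, ∃ s : A₀, t - algebraMap A₀ Ah s ∈ 𝔪.map (algebraMap A₀ Ah))
    (Q : Ideal B) (hQ : 𝔪.map (algebraMap A₀ B) ≤ Q) :
    Q = (Q.comap (algebraMap R B)).map (algebraMap R B) := by
  refine le_antisymm ?_ Ideal.map_comap_le
  have key : ∀ b : B, ∃ r : R, b - algebraMap R B r ∈ 𝔪.map (algebraMap A₀ B) := by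
    intro b
    have hbc : IsBaseChange R (IsScalarTower.toAlgHom A₀ Ah B).toLinearMap :=
      Algebra.IsPushout.out
    refine hbc.inductionOn b (fun b => ∃ r : R, b - algebraMap R B r ∈ 𝔪.map (algebraMap A₀ B))
      ?_ ?_ ?_ ?_
    · exact ⟨0, by simp⟩
    · intro t
      obtain ⟨s, hs⟩ := hT t
      refine ⟨algebraMap A₀ R s, ?_⟩
      have h1 := Ideal.mem_map_of_mem (algebraMap Ah B) hs
      rw [Ideal.map_map, ← IsScalarTower.algebraMap_eq, map_sub,
        ← IsScalarTower.algebraMap_apply] at h1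
      rw [← IsScalarTower.algebraMap_apply]
      exact h1
    · intro s n ⟨r, hr⟩
      refine ⟨s * r, ?_⟩
      rw [map_mul, Algebra.smul_def, ← mul_sub]
      exact Ideal.mul_mem_left _ _ hr
    · intro n₁ n₂ ⟨r₁, hr₁⟩ ⟨r₂, hr₂⟩
      refine ⟨r₁ + r₂, ?_⟩
      rw [map_add, add_sub_add_comm]
      exact Ideal.add_mem _ hr₁ hr₂
  intro q hq
  obtain ⟨r, hr⟩ := key q
  have hrQ : algebraMap R B r ∈ Q := by
    have := Q.sub_mem hq (hQ hr)
    simpa using this
  have h1 : algebraMap R B r ∈ (Q.comap (algebraMap R B)).map (algebraMap R B) :=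
    Ideal.mem_map_of_mem _ hrQ
  have h2 : 𝔪.map (algebraMap A₀ B) ≤ (Q.comap (algebraMap R B)).map (algebraMap R B) := by
    rw [IsScalarTower.algebraMap_eq A₀ R B, ← Ideal.map_map]
    apply Ideal.map_mono
    rw [Ideal.map_le_iff_le_comap]
    intro a ha
    rw [Ideal.mem_comap, Ideal.mem_comap, ← IsScalarTower.algebraMap_apply]
    exact hQ (Ideal.mem_map_of_mem _ ha)
  have := Ideal.add_mem _ (h2 hr) h1
  simpa using this

/-- the local ring map at a prime which is extended from its contraction sends the maximal ideal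
onto generators of the maximal ideal -/
theorem map_maximalIdeal_localRingHom {R B : Type u} [CommRing R] [CommRing B] (φ : R →+* B)
    (Q : Ideal B) [Q.IsPrime] (P : Ideal R) [P.IsPrime] (hPQ : P = Q.comap φ)
    (hQ : Q = P.map φ) :
    (maximalIdeal (Localization.AtPrime P)).map (Localization.localRingHom P Q φ hPQ) =
      maximalIdeal (Localization.AtPrime Q) := by
  rw [← Localization.AtPrime.map_eq_maximalIdeal, ← Localization.AtPrime.map_eq_maximalIdeal,
    Ideal.map_map]
  have h1 : (Localization.localRingHom P Q φ hPQ).comp (algebraMap R (Localization.AtPrime P)) =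
      (algebraMap B (Localization.AtPrime Q)).comp φ := by
    ext r
    simp [Localization.localRingHom_to_map]
  rw [h1, ← Ideal.map_map, ← hQ]

end alg

section maxmap

/-- the non-units of the source generate all non-units of the target -/
def MaxMap {R S : Type u} [CommRing R] [CommRing S] (φ : R →+* S) : Prop :=
  ∀ s : S, s ∈ nonunits S → s ∈ (Ideal.span (nonunits R)).map φ

theorem maxMap_respectsIso : RingHom.RespectsIso @MaxMap := by
  constructor
  · intro R S T _ _ _ f e hf t ht
    have h1 : e.symm t ∈ nonunits S := by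
      intro hu
      apply ht
      have := hu.map e
      simpa using this
    have h2 := Ideal.mem_map_of_mem e.toRingHom (hf _ h1)
    rw [Ideal.map_map] at h2
    simpa using h2
  · intro R S T _ _ _ f e hf t ht
    have h1 := hf t ht
    have h2 : Ideal.span (nonunits S) ≤ (Ideal.span (nonunits R)).map e.toRingHom := by
      rw [Ideal.span_le]
      intro s hs
      have h3 : e.symm s ∈ nonunits R := by
        intro hu
        apply hs
        have := hu.map e
        simpa using this
      have := Ideal.mem_map_of_mem e.toRingHom (Ideal.subset_span h3)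
      simpa using this
    rw [← Ideal.map_map]
    exact Ideal.map_mono h2 h1

theorem span_nonunits_eq (R : Type u) [CommRing R] [IsLocalRing R] :
    Ideal.span (nonunits R) = maximalIdeal R :=
  Ideal.span_eq (maximalIdeal R)

theorem maxMap_iff {R S : Type u} [CommRing R] [CommRing S] [IsLocalRing R] [IsLocalRing S]
    (φ : R →+* S) [IsLocalHom φ] :
    MaxMap φ ↔ (maximalIdeal R).map φ = maximalIdeal S := by
  unfold MaxMap
  rw [span_nonunits_eq]
  constructor
  · intro h
    refine le_antisymm (((IsLocalRing.local_hom_TFAE φ).out 0 2).mp ‹_›) ?_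
    intro s hs
    exact h s hs
  · intro h s hs
    rw [h]
    exact hs

end maxmap

section scheme
open AlgebraicGeometry TopologicalSpace

set_option backward.isDefEq.respectTransparency.types false in
/-- In a cartesian square, if on affine charts the base morphism `g` satisfies
`Γ(S', W') = Γ(S, W) + 𝔪 Γ(S', W')` with `𝔪 Γ(S', W')` contained in the prime of `f' x'`, then the
projection `g'` maps the maximal ideal at `g' x'` onto generators of the maximal ideal at `x'`. -/
theorem maxMap_stalkMap_fst_of_isPullback {P X S S' : Scheme.{u}} {g' : P ⟶ X}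
    {f' : P ⟶ S'} {f : X ⟶ S} {g : S' ⟶ S} (H : IsPullback g' f' f g) (x' : P)
    (W : S.Opens) (hW : IsAffineOpen W) (W' : S'.Opens) (hW' : IsAffineOpen W')
    (eW' : W' ≤ g ⁻¹ᵁ W) (hxW' : f' x' ∈ W')
    (𝔪 : Ideal Γ(S, W))
    (hT : ∀ t : Γ(S', W'), ∃ s : Γ(S, W),
      t - (g.appLE W W' eW').hom s ∈ 𝔪.map (g.appLE W W' eW').hom)
    (h𝔪 : 𝔪.map (g.appLE W W' eW').hom ≤ (hW'.primeIdealOf ⟨f' x', hxW'⟩).asIdeal) :
    MaxMap (g'.stalkMap x').hom := by
  have hgf : g (f' x') = f (g' x') := by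
    rw [← Scheme.Hom.comp_apply, ← Scheme.Hom.comp_apply, H.w]
  have hxW : f (g' x') ∈ W := by rw [← hgf]; exact eW' hxW'
  obtain ⟨V, hV0, hxV, eV⟩ := Opens.isBasis_iff_nbhd.mp X.isBasis_affineOpens
    (show g' x' ∈ f ⁻¹ᵁ W from hxW)
  have hV : IsAffineOpen V := hV0
  set UY : P.Opens := g' ⁻¹ᵁ V ⊓ f' ⁻¹ᵁ W' with hUYdef
  have hxUY : x' ∈ UY := ⟨hxV, hxW'⟩
  have e1 : UY ≤ g' ⁻¹ᵁ V := inf_le_left
  have e2 : UY ≤ f' ⁻¹ᵁ W' := inf_le_right
  have hiso := isIso_pushoutSection_of_isAffineOpen H eW' eV hUYdef hW hW' hV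
  have hpush := (isIso_pushoutSection_iff H eW' eV hUYdef).mp hiso
  have hUY : IsAffineOpen UY := by
    have : IsAffine (Scheme.Opens.toScheme W) := hW
    have : IsAffine (Scheme.Opens.toScheme W') := hW'
    have : IsAffine (Scheme.Opens.toScheme V) := hV
    exact .of_isIso (Scheme.Hom.isPullback_resLE H eW' eV hUYdef).isoPullback.hom
  rw [maxMap_respectsIso.arrow_mk_iso_iff (IsAffineOpen.arrowStalkMapIso g' V hV UY hUY e1 hxUY)]
  algebraize [(f.appLE W V eV).hom, (g.appLE W W' eW').hom, (g'.appLE V UY e1).hom,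
    (f'.appLE W' UY e2).hom, ((g'.appLE V UY e1).hom.comp (f.appLE W V eV).hom)]
  have : IsScalarTower Γ(S, W) Γ(X, V) Γ(P, UY) := .of_algebraMap_eq' rfl
  have : IsScalarTower Γ(S, W) Γ(S', W') Γ(P, UY) :=
    .of_algebraMap_eq' congr($(hpush.w).hom)
  have hP : Algebra.IsPushout Γ(S, W) Γ(X, V) Γ(S', W') Γ(P, UY) :=
    CommRingCat.isPushout_iff_isPushout.mp hpush
  have hq := congr($(IsAffineOpen.comap_primeIdealOf_appLE W' hW' UY hUY e2 hxUY).1)
  simp only [PrimeSpectrum.comap_asIdeal] at hq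
  have hp := congr($(IsAffineOpen.comap_primeIdealOf_appLE V hV UY hUY e1 hxUY).1)
  simp only [PrimeSpectrum.comap_asIdeal] at hp
  set Q := (hUY.primeIdealOf ⟨x', hxUY⟩).asIdeal with hQdef
  have hQ : 𝔪.map (algebraMap Γ(S, W) Γ(P, UY)) ≤ Q := by
    rw [IsScalarTower.algebraMap_eq Γ(S, W) Γ(S', W') Γ(P, UY), ← Ideal.map_map,
      Ideal.map_le_iff_le_comap]
    refine h𝔪.trans ?_
    rw [← hq]
    exact le_rfl
  have hQeq := eq_map_comap_of_isPushout (A₀ := Γ(S, W)) (R := Γ(X, V)) (Ah := Γ(S', W'))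
    (B := Γ(P, UY)) 𝔪 hT Q hQ
  have hPQ : (hV.primeIdealOf ⟨g' x', e1 hxUY⟩).asIdeal = Q.comap (g'.appLE V UY e1).hom := hp.symm
  change MaxMap (Localization.localRingHom (hV.primeIdealOf ⟨g' x', e1 hxUY⟩).asIdeal Q
    (g'.appLE V UY e1).hom hPQ)
  rw [maxMap_iff]
  refine map_maximalIdeal_localRingHom (g'.appLE V UY e1).hom Q _ hPQ ?_
  rw [hPQ]
  exact hQeq

end scheme

section final
open AlgebraicGeometry TopologicalSpace

theorem cpl_eq_add (A : Type u) [CommRing A] [IsLocalRing A] [IsNoetherianRing A]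
    (t : AdicCompletion (maximalIdeal A) A) :
    ∃ s : A, t - algebraMap A (AdicCompletion (maximalIdeal A) A) s ∈
      (maximalIdeal A).map (algebraMap A (AdicCompletion (maximalIdeal A) A)) := by
  obtain ⟨s, hs⟩ := Ideal.Quotient.mk_surjective (AdicCompletion.evalOneₐ (maximalIdeal A) t)
  refine ⟨s, ?_⟩
  rw [← AdicCompletion.ker_evalOneₐ_eq_map (maximalIdeal A) (maximalIdeal A).fg_of_isNoetherianRing,
    RingHom.mem_ker]
  change AdicCompletion.evalOneₐ (maximalIdeal A) (t - _) = 0
  rw [map_sub, AdicCompletion.algebraMap_apply, Algebra.algebraMap_self, RingHom.id_apply,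
    AdicCompletion.evalOneₐ_of, hs, sub_self]

set_option backward.isDefEq.respectTransparency.types false in
theorem maxMap_bcCplFst (A : Type u) [CommRing A] [IsLocalRing A] [IsNoetherianRing A]
    (X : Scheme.{u}) (f : X ⟶ Spec (CommRingCat.of A))
    (y : Curv2.bcCpl A f)
    (hy : (Curv2.bcCplSnd A f).base y = IsLocalRing.closedPoint (Curv2.cpl A)) :
    MaxMap ((Curv2.bcCplFst A f).stalkMap y).hom := by
  let φ : CommRingCat.of A ⟶ CommRingCat.of (Curv2.cpl A) :=
    CommRingCat.ofHom (algebraMap A (Curv2.cpl A))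
  have H : IsPullback (Curv2.bcCplFst A f) (Curv2.bcCplSnd A f) f (Spec.map φ) :=
    IsPullback.of_hasPullback f (Spec.map φ)
  let eA := Scheme.ΓSpecIso (CommRingCat.of A)
  let eC := Scheme.ΓSpecIso (CommRingCat.of (Curv2.cpl A))
  have eW' : (⊤ : (Spec (CommRingCat.of (Curv2.cpl A))).Opens) ≤ (Spec.map φ) ⁻¹ᵁ ⊤ := le_top
  have happ : (Spec.map φ).appLE ⊤ ⊤ eW' = (Spec.map φ).appTop := by
    simp [Scheme.Hom.appLE]
  have hnat : ∀ s, eC.hom.hom ((Spec.map φ).appTop.hom s) = φ.hom (eA.hom.hom s) := by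
    intro s
    have := congr($(Scheme.ΓSpecIso_naturality φ).hom s)
    exact this
  let EA : Γ(Spec (CommRingCat.of A), ⊤) ≃+* A := eA.commRingCatIsoToRingEquiv
  let EC : Γ(Spec (CommRingCat.of (Curv2.cpl A)), ⊤) ≃+* AdicCompletion (maximalIdeal A) A :=
    eC.commRingCatIsoToRingEquiv
  let G : Γ(Spec (CommRingCat.of A), ⊤) →+* Γ(Spec (CommRingCat.of (Curv2.cpl A)), ⊤) :=
    (Spec.map φ).appTop.hom
  let 𝔪 : Ideal Γ(Spec (CommRingCat.of A), ⊤) := (maximalIdeal A).comap EA.toRingHom
  refine maxMap_stalkMap_fst_of_isPullback H y ⊤ (isAffineOpen_top _) ⊤ (isAffineOpen_top _) eW'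
    (Opens.mem_top _) 𝔪 ?_ ?_
  · intro t
    obtain ⟨s', hs'⟩ := cpl_eq_add A (EC t)
    refine ⟨EA.symm s', ?_⟩
    rw [happ]
    have h1 := Ideal.mem_map_of_mem EC.symm.toRingHom hs'
    rw [Ideal.map_map] at h1
    have h2 : (EC.symm.toRingHom.comp (algebraMap A (AdicCompletion (maximalIdeal A) A))) =
        G.comp EA.symm.toRingHom := by
      ext a
      change EC.symm (φ.hom a) = G (EA.symm a)
      rw [RingEquiv.symm_apply_eq]
      have := hnat (EA.symm a)
      change EC (G (EA.symm a)) = φ.hom (EA (EA.symm a)) at this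
      rw [this, RingEquiv.apply_symm_apply]
    rw [h2, ← Ideal.map_map] at h1
    have h3 : (maximalIdeal A).map EA.symm.toRingHom = 𝔪 := Ideal.map_symm EA
    rw [h3] at h1
    have h4 : EC.symm.toRingHom (EC t - algebraMap A (AdicCompletion (maximalIdeal A) A) s') =
        t - G (EA.symm s') := by
      rw [map_sub]
      congr 1
      · exact EC.symm_apply_apply t
      · exact RingHom.congr_fun h2 s'
    rw [h4] at h1
    exact h1
  · rw [happ]
    have hcl : IsClosed ({(Curv2.bcCplSnd A f).base y} : Set (Spec (CommRingCat.of (Curv2.cpl A)))) := by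
      rw [hy]
      exact IsLocalRing.isClosed_singleton_closedPoint _
    have hmax := (isAffineOpen_top (Spec (CommRingCat.of (Curv2.cpl A)))).primeIdealOf_isMaximal_of_isClosed
      ⟨(Curv2.bcCplSnd A f).base y, Opens.mem_top _⟩ hcl
    haveI : IsLocalRing Γ(Spec (CommRingCat.of (Curv2.cpl A)), ⊤) := EC.symm.isLocalRing
    rw [IsLocalRing.eq_maximalIdeal hmax, Ideal.map_le_iff_le_comap]
    intro a₀ ha₀
    rw [Ideal.mem_comap, IsLocalRing.mem_maximalIdeal, mem_nonunits_iff]
    intro hu
    have h1 : IsUnit (EC (G a₀)) := hu.map EC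
    have h2 : EC (G a₀) = algebraMap A (AdicCompletion (maximalIdeal A) A) (EA a₀) := hnat a₀
    rw [h2] at h1
    have h3 : IsUnit (EA a₀) := isUnit_of_map_unit (algebraMap A (AdicCompletion (maximalIdeal A) A)) _ h1
    exact ha₀ h3

end final

section final2
open AlgebraicGeometry TopologicalSpace

theorem main (A : Type u) [CommRing A] [IsLocalRing A] [IsNoetherianRing A]
    (X : Scheme.{u}) (f : X ⟶ Spec (CommRingCat.of A)) [LocallyOfFiniteType f]
    (y : Curv2.bcCpl A f)
    (hy : (Curv2.bcCplSnd A f).base y = IsLocalRing.closedPoint (Curv2.cpl A)) :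
    IsRegularLocalRing ((Curv2.bcCpl A f).presheaf.stalk y) ↔
      IsRegularLocalRing (X.presheaf.stalk ((Curv2.bcCplFst A f).base y)) := by
  let φ : CommRingCat.of A ⟶ CommRingCat.of (Curv2.cpl A) :=
    CommRingCat.ofHom (algebraMap A (Curv2.cpl A))
  have H : IsPullback (Curv2.bcCplFst A f) (Curv2.bcCplSnd A f) f (Spec.map φ) :=
    IsPullback.of_hasPullback f (Spec.map φ)
  haveI : IsNoetherianRing (Curv2.cpl A) := Groth.Agent.S0543.result A _
  haveI : IsLocallyNoetherian X := LocallyOfFiniteType.isLocallyNoetherian f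
  haveI : IsLocallyNoetherian (Curv2.bcCpl A f) :=
    LocallyOfFiniteType.isLocallyNoetherian (Curv2.bcCplSnd A f)
  letI : Algebra (X.presheaf.stalk ((Curv2.bcCplFst A f).base y))
      ((Curv2.bcCpl A f).presheaf.stalk y) := ((Curv2.bcCplFst A f).stalkMap y).hom.toAlgebra
  haveI : IsLocalHom (algebraMap (X.presheaf.stalk ((Curv2.bcCplFst A f).base y))
      ((Curv2.bcCpl A f).presheaf.stalk y)) :=
    inferInstanceAs (IsLocalHom ((Curv2.bcCplFst A f).stalkMap y).hom)
  haveI : Flat (Spec.map φ) := by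
    rw [Flat.SpecMap_iff]
    change (algebraMap A (Curv2.cpl A)).Flat
    rw [RingHom.flat_algebraMap_iff]
    infer_instance
  have hflat : Module.Flat (X.presheaf.stalk ((Curv2.bcCplFst A f).base y))
      ((Curv2.bcCpl A f).presheaf.stalk y) :=
    Groth.Agent.Lib.Helper14.flat_stalkMap_fst_of_isPullback H y
      (Flat.stalkMap (Spec.map φ) ((Curv2.bcCplSnd A f).base y))
  have hmax : (maximalIdeal (X.presheaf.stalk ((Curv2.bcCplFst A f).base y))).map
      (algebraMap (X.presheaf.stalk ((Curv2.bcCplFst A f).base y))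
        ((Curv2.bcCpl A f).presheaf.stalk y)) =
      maximalIdeal ((Curv2.bcCpl A f).presheaf.stalk y) :=
    (maxMap_iff _).mp (maxMap_bcCplFst A X f y hy)
  haveI hloc : IsLocalRing (((Curv2.bcCpl A f).presheaf.stalk y) ⧸
      (maximalIdeal (X.presheaf.stalk ((Curv2.bcCplFst A f).base y))).map
        (algebraMap (X.presheaf.stalk ((Curv2.bcCplFst A f).base y))
          ((Curv2.bcCpl A f).presheaf.stalk y))) := by
    rw [hmax]
    exact inferInstanceAs (IsLocalRing (ResidueField ((Curv2.bcCpl A f).presheaf.stalk y)))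
  have hreg0 : IsRegularLocalRing (((Curv2.bcCpl A f).presheaf.stalk y) ⧸
      (maximalIdeal (X.presheaf.stalk ((Curv2.bcCplFst A f).base y))).map
        (algebraMap (X.presheaf.stalk ((Curv2.bcCplFst A f).base y))
          ((Curv2.bcCpl A f).presheaf.stalk y))) := by
    rw [hmax]
    exact inferInstanceAs (IsRegularLocalRing (ResidueField ((Curv2.bcCpl A f).presheaf.stalk y)))
  have tfae := Groth.Agent.S2470.result (A := X.presheaf.stalk ((Curv2.bcCplFst A f).base y))
    (B := (Curv2.bcCpl A f).presheaf.stalk y)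
  have h12 := tfae.out 1 2
  constructor
  · intro h
    exact (h12.mp ⟨h, hreg0, hflat⟩).1
  · intro h
    exact (h12.mpr ⟨h, hreg0, hflat⟩).1

end final2

end Groth.Agent.S1598.Aux

namespace Groth.Agent.S1598

/-- Let A be a Noetherian local ring with completion A^, X locally of finite type over Spec A, Y its
base change to Spec A^, and y a point of Y lying over the closed point of Spec A^ with image x in X.
Then the local ring of Y at y is regular if and only if the local ring of X at x is regular. -/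
theorem result (A : Type u) [CommRing A] [IsLocalRing A] [IsNoetherianRing A]
    (X : Scheme.{u}) (f : X ⟶ Spec (CommRingCat.of A)) [LocallyOfFiniteType f]
    (y : Curv2.bcCpl A f) (hy : (Curv2.bcCplSnd A f).base y = IsLocalRing.closedPoint (Curv2.cpl A)) :
    IsRegularLocalRing ((Curv2.bcCpl A f).presheaf.stalk y) ↔
      IsRegularLocalRing (X.presheaf.stalk ((Curv2.bcCplFst A f).base y)) := by
  exact Aux.main A X f y hy

end Groth.Agent.S1598
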