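import Groth.Statements.S1597
import Mathlib
import Groth.Agent.S1598
import Groth.Agent.Lib.Helper50.StalkSpecializes
import Groth.Agent.Lib.Helper73.RegularLocalization

set_option autoImplicit false
universe u
open CategoryTheory CategoryTheory.Limits AlgebraicGeometry
open Resolve

namespace Groth.Agent.S1597.Aux

set_option linter.style.haveILetI false

open IsLocalRing CategoryTheory AlgebraicGeometry TopologicalSpace

theorem isRegularRing_of_isRegularLocalRing (R : Type u) [CommRing R] [IsRegularLocalRing R] :
    IsRegularRing R := by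
  apply Groth.Agent.Lib.Helper73.RegularRing.isRegularRing_of_maximal
  intro M hM
  have hMeq : M = maximalIdeal R := IsLocalRing.eq_maximalIdeal hM
  subst hMeq
  let e : R ≃ₐ[R] (Localization.AtPrime (maximalIdeal R)) :=
    IsLocalization.atUnits R (maximalIdeal R).primeCompl (fun x hx => (IsLocalRing.notMem_maximalIdeal.mp hx : IsUnit x))
  exact IsRegularLocalRing.of_ringEquiv e.toRingEquiv

/-- regularity of local rings passes to generizations -/
theorem isRegularLocalRing_stalk_of_specializes {X : Scheme.{u}} {x x₀ : X} (h : x ⤳ x₀)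
    (hreg : IsRegularLocalRing (X.presheaf.stalk x₀)) : IsRegularLocalRing (X.presheaf.stalk x) := by
  letI := (X.presheaf.stalkSpecializes h).hom.toAlgebra
  obtain ⟨M, hM⟩ := Groth.Agent.Lib.Helper50.exists_isLocalization_stalkSpecializes h
  haveI : IsRegularRing (X.presheaf.stalk x₀) := isRegularRing_of_isRegularLocalRing _
  haveI : IsRegularRing (X.presheaf.stalk x) :=
    Groth.Agent.Lib.Helper73.RegularRing.isRegularRing_of_isLocalization M _
  exact IsRegularLocalRing.of_isRegularRing_of_isLocalRing _

/-- over a local base, every point of a scheme mapping by a closed map specializes to a point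
of the closed fibre -/
theorem exists_specializes_closedPoint {Z : Scheme.{u}} (R : Type u) [CommRing R] [IsLocalRing R]
    (h : Z ⟶ Spec (CommRingCat.of R)) (hcl : IsClosedMap h.base) (z : Z) :
    ∃ z₀ : Z, z ⤳ z₀ ∧ h.base z₀ = closedPoint R := by
  have h1 : IsClosed (h.base '' closure {z}) := hcl _ isClosed_closure
  have h2 : h.base z ∈ h.base '' closure {z} := ⟨z, subset_closure rfl, rfl⟩
  have h3 : closedPoint R ∈ h.base '' closure {z} :=
    (IsLocalRing.specializes_closedPoint (h.base z)).mem_closed h1 h2
  obtain ⟨z₀, hz₀, hz₀'⟩ := h3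
  exact ⟨z₀, specializes_iff_mem_closure.mpr hz₀, hz₀'⟩

theorem main (A : Type u) [CommRing A] [IsLocalRing A] [IsNoetherianRing A]
    (X : Scheme.{u}) (f : X ⟶ Spec (CommRingCat.of A)) [IsProper f] :
    (∀ x : X, IsRegularLocalRing (X.presheaf.stalk x)) ↔
      ∀ y : Curv2.bcCpl A f, IsRegularLocalRing ((Curv2.bcCpl A f).presheaf.stalk y) := by
  have hclf : IsClosedMap f.base := f.isClosedMap
  have hclg : IsClosedMap (Curv2.bcCplSnd A f).base := (Curv2.bcCplSnd A f).isClosedMap
  constructor
  · intro hX y
    obtain ⟨y₀, hyy₀, hy₀⟩ := exists_specializes_closedPoint (Curv2.cpl A) (Curv2.bcCplSnd A f) hclg y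
    have h1 := (Groth.Agent.S1598.result A X f y₀ hy₀).mpr (hX _)
    exact isRegularLocalRing_stalk_of_specializes hyy₀ h1
  · intro hY x
    obtain ⟨x₀, hxx₀, hx₀⟩ := exists_specializes_closedPoint A f hclf x
    have hcomp : (Spec.map (CommRingCat.ofHom (algebraMap A (Curv2.cpl A)))).base
        (closedPoint (Curv2.cpl A)) = closedPoint A :=
      IsLocalRing.comap_closedPoint (algebraMap A (Curv2.cpl A))
    obtain ⟨y₀, hy₀1, hy₀2⟩ := Scheme.Pullback.exists_preimage_pullback (f := f)
      (g := Spec.map (CommRingCat.ofHom (algebraMap A (Curv2.cpl A)))) x₀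
      (closedPoint (Curv2.cpl A)) (by rw [hx₀, hcomp])
    have h1 := (Groth.Agent.S1598.result A X f y₀ hy₀2).mp (hY y₀)
    have h2 : IsRegularLocalRing (X.presheaf.stalk x₀) := by
      have : (Curv2.bcCplFst A f).base y₀ = x₀ := hy₀1
      rw [← this]
      exact h1
    exact isRegularLocalRing_stalk_of_specializes hxx₀ h2

end Groth.Agent.S1597.Aux

namespace Groth.Agent.S1597

/-- Let A be a Noetherian local ring with completion A^, X a scheme proper over Spec A and Y its base
change to Spec A^. Then all local rings of X are regular if and only if all local rings of Y are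
regular. -/
theorem result (A : Type u) [CommRing A] [IsLocalRing A] [IsNoetherianRing A]
    (X : Scheme.{u}) (f : X ⟶ Spec (CommRingCat.of A)) [IsProper f] :
    (∀ x : X, IsRegularLocalRing (X.presheaf.stalk x)) ↔
      ∀ y : Curv2.bcCpl A f, IsRegularLocalRing ((Curv2.bcCpl A f).presheaf.stalk y) := by
  exact Aux.main A X f

end Groth.Agent.S1597
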