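import Groth.Statements.S4602
import Groth.Agent.H8.FinComplReg
import Groth.Agent.S4573
import Groth.Agent.Lib.Helper29.CplFlat

set_option autoImplicit false
universe u
open IsLocalRing
open EGA41

namespace Groth.Agent.S4602

/-- Let A be a regular local ring with fraction field of characteristic zero, B a domain containing A
and module-finite over it, with fraction field L, n a prime of B, C = B_n, q a prime of the
completion Ĉ with q ∩ C = 0. Then Ĉ_q is formally smooth over L for the adic topology of its maximal
ideal. (Case (ii) of the published statement, in characteristic p with a suitable filtered family of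
subrings, is not stated.) -/
theorem result
    {A B : Type u} [CommRing A] [IsRegularLocalRing A] [CharZero A] [CommRing B] [IsDomain B] [Algebra A B]
    [Module.Finite A B] (hinj : Function.Injective (algebraMap A B)) (n : Ideal B) [n.IsPrime]
    (q : Ideal (AdicCompletion (maximalIdeal (Localization.AtPrime n)) (Localization.AtPrime n))) [q.IsPrime]
    (hq : q.comap (algebraMap (Localization.AtPrime n)
      (AdicCompletion (maximalIdeal (Localization.AtPrime n)) (Localization.AtPrime n))) = ⊥)
    [Algebra B (Localization.AtPrime q)]
    [IsScalarTower B (AdicCompletion (maximalIdeal (Localization.AtPrime n)) (Localization.AtPrime n))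
      (Localization.AtPrime q)]
    [Algebra (FractionRing B) (Localization.AtPrime q)] [IsScalarTower B (FractionRing B) (Localization.AtPrime q)] :
    CAlgX.IsAdicFormallySmooth (FractionRing B) (Localization.AtPrime q) (maximalIdeal (Localization.AtPrime q)) := by
  classical
  haveI : IsNoetherianRing A := inferInstance
  haveI : IsNoetherianRing B := IsNoetherianRing.of_finite A B
  haveI : IsNoetherianRing (Localization.AtPrime n) :=
    IsLocalization.isNoetherianRing n.primeCompl _ inferInstance
  haveI : IsNoetherianRing (AdicCompletion (maximalIdeal (Localization.AtPrime n))
      (Localization.AtPrime n)) :=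
    Groth.Agent.Lib.Helper29.isNoetherianRing_cpl (Localization.AtPrime n)
  haveI : IsNoetherianRing (Localization.AtPrime q) :=
    IsLocalization.isNoetherianRing q.primeCompl _ inferInstance
  haveI hreg : IsRegularLocalRing (Localization.AtPrime q) :=
    Groth.Agent.H8.FinComplReg.isRegularLocalRing_localization_completion A B hinj n q hq
  haveI : IsRegularRing (Localization.AtPrime q) :=
    Groth.Agent.S1597.Aux.isRegularRing_of_isRegularLocalRing _
  haveI : CharZero B := charZero_of_injective_algebraMap hinj
  haveI : CharZero (FractionRing B) :=
    charZero_of_injective_algebraMap (IsFractionRing.injective B (FractionRing B))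
  haveI : ExpChar (FractionRing B) 1 := ExpChar.zero
  rw [Groth.Agent.S4573.result (k := FractionRing B) (A := Localization.AtPrime q) 1]
  intro k' _ _ hfin hpow
  have hsurj : Function.Surjective (algebraMap (FractionRing B) k') := by
    intro x
    have := hpow x
    rw [pow_one] at this
    exact this
  let e : FractionRing B ≃ₐ[FractionRing B] k' :=
    AlgEquiv.ofBijective (Algebra.ofId (FractionRing B) k')
      ⟨(algebraMap (FractionRing B) k').injective, hsurj⟩
  let e1 : TensorProduct (FractionRing B) k' (Localization.AtPrime q) ≃ₐ[FractionRing B]
      TensorProduct (FractionRing B) (FractionRing B) (Localization.AtPrime q) :=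
    Algebra.TensorProduct.congr e.symm AlgEquiv.refl
  let e2 : TensorProduct (FractionRing B) (FractionRing B) (Localization.AtPrime q) ≃ₐ[FractionRing B]
      Localization.AtPrime q := Algebra.TensorProduct.lid _ _
  exact IsRegularRing.of_ringEquiv (e1.trans e2).symm.toRingEquiv

end Groth.Agent.S4602
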