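import Groth.Statements.S4583
import Mathlib
import Groth.Agent.S0581
import Groth.Agent.S4602
import Groth.Agent.Lib.Helper81.GenFibreFinite
import Groth.Agent.Lib.Helper73.RegularPowerSeries

set_option autoImplicit false
universe u
open IsLocalRing
open EGA41

namespace Groth.Agent.S4583

/-- Let A be a complete Noetherian local domain with fraction field K, p a prime of A, B = A_p, q a
prime of the completion B̂ of B with q ∩ B = 0. Then B̂_q is a K-algebra formally smooth over K for
the adic topology of its maximal ideal (the published statement adds that it is then geometrically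
regular over K; that consequence is not stated). -/
theorem result {A : Type u} [CommRing A]
    [IsDomain A] [IsLocalRing A] [IsNoetherianRing A] [IsAdicComplete (maximalIdeal A) A] (p : Ideal A) [p.IsPrime]
    (q : Ideal (AdicCompletion (maximalIdeal (Localization.AtPrime p)) (Localization.AtPrime p))) [q.IsPrime]
    (hq : q.comap (algebraMap (Localization.AtPrime p)
      (AdicCompletion (maximalIdeal (Localization.AtPrime p)) (Localization.AtPrime p))) = ⊥)
    [Algebra A (Localization.AtPrime q)]
    [IsScalarTower A (AdicCompletion (maximalIdeal (Localization.AtPrime p)) (Localization.AtPrime p))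
      (Localization.AtPrime q)]
    [Algebra (FractionRing A) (Localization.AtPrime q)] [IsScalarTower A (FractionRing A) (Localization.AtPrime q)] :
    CAlgX.IsAdicFormallySmooth (FractionRing A) (Localization.AtPrime q) (maximalIdeal (Localization.AtPrime q)) := by
  classical
  obtain ⟨Λ, instΛ, n, f, hΛ, hfinj, hffin, -⟩ := Groth.Agent.S0581.result A
  obtain ⟨c, hc⟩ := CharP.exists A
  rcases CharP.char_is_prime_or_zero A c with hcp | hc0
  · -- characteristic `c > 0`
    haveI : Fact c.Prime := ⟨hcp⟩
    have hL : ∀ a : A, algebraMap (FractionRing A) (Localization.AtPrime q)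
        (algebraMap A (FractionRing A) a) = Groth.Agent.Lib.Helper81.GenFibreDer.can p q a := by
      intro a
      have e1 := (inferInstance : IsScalarTower A (AdicCompletion (maximalIdeal
        (Localization.AtPrime p)) (Localization.AtPrime p)) (Localization.AtPrime q)).smul_assoc a 1 1
      have e2 := (inferInstance : IsScalarTower A (FractionRing A)
        (Localization.AtPrime q)).smul_assoc a 1 1
      rw [one_smul] at e1 e2
      rw [← e2] at e1
      rw [Algebra.smul_def, mul_one, Algebra.smul_def, mul_one] at e1
      rw [Algebra.smul_def, mul_one, Algebra.smul_def, mul_one] at e1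
      exact e1.symm
    haveI : CharP Λ c := RingHom.charP (f.comp (MvPowerSeries.C (σ := Fin n) (R := Λ)))
      (hfinj.comp (MvPowerSeries.C_injective (σ := Fin n) (R := Λ))) c
    have hfield : IsField Λ := by
      rcases hΛ with h | h
      · exact h
      · exfalso
        obtain ⟨_, hdvr, -, p', hp', hmax⟩ := h
        have hmem : (p' : Λ) ∈ maximalIdeal Λ := by
          rw [hmax]
          exact Ideal.mem_span_singleton_self _
        by_cases hcp' : c = p'
        · have h0 : (p' : Λ) = 0 := by rw [← hcp']; exact CharP.cast_eq_zero Λ c
          have hbot : maximalIdeal Λ = ⊥ := by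
            rw [hmax, h0]
            exact Ideal.span_singleton_eq_bot.2 rfl
          exact IsDiscreteValuationRing.not_a_field Λ hbot
        · have hcop : Nat.Coprime c p' := (Nat.coprime_primes hcp hp').2 hcp'
          have h1 : IsCoprime (c : ℤ) (p' : ℤ) := Nat.isCoprime_iff_coprime.2 hcop
          have h2 := h1.map (Int.castRingHom Λ)
          simp only [eq_intCast, Int.cast_natCast] at h2
          rw [CharP.cast_eq_zero Λ c, isCoprime_zero_left] at h2
          rw [mem_maximalIdeal, mem_nonunits_iff] at hmem
          exact hmem h2
    obtain ⟨fld, rfl⟩ : ∃ fld : Field Λ, fld.toCommRing = instΛ := ⟨hfield.toField, rfl⟩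
    letI : Algebra (MvPowerSeries (Fin n) Λ) A := f.toAlgebra
    haveI : Module.Finite (MvPowerSeries (Fin n) Λ) A := hffin
    exact Groth.Agent.Lib.Helper81.GenFibreFinite.smooth_charP c Λ n (B := A) hfinj p q hL
  · -- characteristic zero
    subst hc0
    haveI : CharZero A := CharP.charP_to_charZero A
    have hreg : IsRegularRing Λ := by
      rcases hΛ with hΛ | hΛ
      · let _ := hΛ.toField
        infer_instance
      · obtain ⟨_, _, _⟩ := hΛ
        infer_instance
    have hloc : IsLocalRing Λ := by
      rcases hΛ with hΛ | hΛ
      · let _ := hΛ.toField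
        infer_instance
      · obtain ⟨_, _, _⟩ := hΛ
        infer_instance
    have hS : IsRegularRing (MvPowerSeries (Fin n) Λ) :=
      Groth.Agent.Lib.Helper73.RegularRing.isRegularRing_mvPowerSeries Λ n
    haveI hRLR : IsRegularLocalRing (MvPowerSeries (Fin n) Λ) :=
      IsRegularLocalRing.of_isRegularRing_of_isLocalRing _
    haveI : CharZero (MvPowerSeries (Fin n) Λ) := RingHom.charZero f
    letI : Algebra (MvPowerSeries (Fin n) Λ) A := f.toAlgebra
    haveI : Module.Finite (MvPowerSeries (Fin n) Λ) A := hffin
    exact Groth.Agent.S4602.result (A := MvPowerSeries (Fin n) Λ) (B := A) hfinj p q hq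

end Groth.Agent.S4583
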