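import Groth.Statements.S4543
import Groth.Agent.S4542
import Mathlib.RingTheory.AdicCompletion.Functoriality
import Mathlib.RingTheory.Flat.Equalizer
import Mathlib.RingTheory.Nakayama
import Mathlib.LinearAlgebra.TensorProduct.Quotient

set_option autoImplicit false
universe u
open EGA41

namespace Groth.Agent.S4543

open TensorProduct

section Aux

variable {A M N P : Type u} [CommRing A] [AddCommGroup M] [Module A M] [AddCommGroup N] [Module A N]
  [AddCommGroup P] [Module A P]

/-- If `0 → K → N → P → 0` is exact with `P` flat, then `K ∩ J N = J K`. -/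
theorem mem_smul_top_of_flat_quotient [Module.Flat A P] (f : N →ₗ[A] P) (hf : Function.Surjective f)
    (J : Ideal A) (x : LinearMap.ker f) (hx : (x : N) ∈ (J • ⊤ : Submodule A N)) :
    x ∈ (J • ⊤ : Submodule A (LinearMap.ker f)) := by
  have hinj := LinearMap.lTensor_injective_of_exact_of_flat f hf (LinearMap.ker f).subtype
    (Submodule.subtype_injective _) (LinearMap.exact_subtype_ker_map f) (A ⧸ J)
  have h1 : ((LinearMap.ker f).subtype.lTensor (A ⧸ J)) ((1 : A ⧸ J) ⊗ₜ[A] x) = 0 := by
    rw [LinearMap.lTensor_tmul]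
    apply (TensorProduct.quotTensorEquivQuotSMul N J).injective
    rw [map_zero, TensorProduct.quotTensorEquivQuotSMul_mk_one_tmul, Submodule.Quotient.mk_eq_zero]
    exact hx
  have h2 : ((1 : A ⧸ J) ⊗ₜ[A] x : (A ⧸ J) ⊗[A] LinearMap.ker f) = 0 :=
    hinj (h1.trans (map_zero _).symm)
  have h3 := congrArg (TensorProduct.quotTensorEquivQuotSMul (LinearMap.ker f) J) h2
  rw [map_zero, TensorProduct.quotTensorEquivQuotSMul_mk_one_tmul, Submodule.Quotient.mk_eq_zero] at h3
  exact h3

end Aux


open IsLocalRing in
/-- Let A be a Noetherian ring, J an ideal of A, B and B' two A-algebras which are Noetherian local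
rings, the structure maps being continuous for the J-adic topology on A (JB and JB' lie in the
maximal ideals); suppose B and B' are complete for the J-adic topologies, B is a formally smooth
A-algebra for the J-adic topology on A and the JB-adic topology on B (nilpotent test ideals, test
algebras killed by a power of J, test maps killing a power of JB), and B' is a flat A-module. Then
every (A/J)-algebra isomorphism u₀ : B/JB ≅ B'/JB' comes from an A-algebra isomorphism u : B ≅ B' by
passing to quotients. (B is taken formally smooth for the JB-adic topology, the topology along which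
the argument lifts B → B'/JB' to B'; read with the convention that a local ring carries the adic
topology of its maximal ideal, the published hypothesis would be formal smoothness for the
maximal-ideal topology on B, a weaker condition when JB is strictly smaller than the maximal ideal,
and that reading is not what the argument establishes.) -/
theorem result {A B B' : Type u} [CommRing A] [IsNoetherianRing A] (J : Ideal A)
    [CommRing B] [IsLocalRing B] [IsNoetherianRing B] [Algebra A B]
    [CommRing B'] [IsLocalRing B'] [IsNoetherianRing B'] [Algebra A B']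
    (hB : J.map (algebraMap A B) ≤ maximalIdeal B) (hB' : J.map (algebraMap A B') ≤ maximalIdeal B')
    [IsAdicComplete (J.map (algebraMap A B)) B] [IsAdicComplete (J.map (algebraMap A B')) B']
    (hfs : EGA41.IsFormallySmoothAdic A J B (J.map (algebraMap A B))) [Module.Flat A B']
    (u₀ : (B ⧸ J.map (algebraMap A B)) ≃ₐ[A ⧸ J] (B' ⧸ J.map (algebraMap A B'))) :
    ∃ u : B ≃ₐ[A] B', ∀ b : B,
      Ideal.Quotient.mk (J.map (algebraMap A B')) (u b) = u₀ (Ideal.Quotient.mk (J.map (algebraMap A B)) b) := by
  let 𝔟 : Ideal B := J.map (algebraMap A B)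
  let 𝔠 : Ideal B' := J.map (algebraMap A B')
  let u₁ : B →ₐ[A] B' ⧸ 𝔠 := (u₀.toAlgHom.restrictScalars A).comp (Ideal.Quotient.mkₐ A 𝔟)
  have hu₁ : ∀ b, u₁ b = u₀ (Ideal.Quotient.mk 𝔟 b) := fun b => rfl
  have hself : 𝔠.map (Ideal.Quotient.mk 𝔠) = ⊥ := Ideal.map_quotient_self 𝔠
  haveI : IsHausdorff (𝔠.map (Ideal.Quotient.mk 𝔠)) (B' ⧸ 𝔠) := by
    rw [hself]
    refine ⟨fun x hx => ?_⟩
    have := hx 1
    rw [SModEq.zero, pow_one, Submodule.bot_smul, Submodule.mem_bot] at this
    exact this
  have hu₁' : (𝔟 ^ 1).map u₁.toRingHom ≤ 𝔠.map (Ideal.Quotient.mk 𝔠) := by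
    rw [pow_one, hself, Ideal.map_le_iff_le_comap]
    intro x hx
    rw [Ideal.mem_comap, Ideal.mem_bot]
    change u₁ x = 0
    rw [hu₁, Ideal.Quotient.eq_zero_iff_mem.2 hx, map_zero]
  obtain ⟨v, -, hv⟩ := Groth.Agent.S4542.result J 𝔟 𝔠 hfs ⟨1, by rw [pow_one]⟩ 𝔠
    ⟨1, by rw [pow_one]⟩ u₁ ⟨1, hu₁'⟩
  have hv' : ∀ b, Ideal.Quotient.mk 𝔠 (v b) = u₀ (Ideal.Quotient.mk 𝔟 b) := fun b =>
    AlgHom.congr_fun hv b
  -- surjectivity
  have hmap : 𝔟.map v.toRingHom = 𝔠 := by
    change (J.map (algebraMap A B)).map v.toRingHom = _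
    rw [Ideal.map_map]
    congr 1
    exact v.comp_algebraMap
  have hsurj : Function.Surjective v := by
    haveI : IsHausdorff (𝔟.map v.toRingHom) B' := by
      rw [hmap]; infer_instance
    apply surjective_of_mk_map_comp_surjective (I := 𝔟) v.toRingHom
    intro y
    obtain ⟨b', rfl⟩ := Ideal.Quotient.mk_surjective y
    obtain ⟨x, hx⟩ := u₀.surjective (Ideal.Quotient.mk 𝔠 b')
    obtain ⟨b, rfl⟩ := Ideal.Quotient.mk_surjective x
    refine ⟨b, ?_⟩
    change Ideal.Quotient.mk _ (v b) = Ideal.Quotient.mk _ b'
    rw [Ideal.Quotient.eq, hmap, ← Ideal.Quotient.eq, hv', hx]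
  -- injectivity
  have hinj : Function.Injective v := by
    rw [injective_iff_map_eq_zero]
    let K : Ideal B := RingHom.ker v.toRingHom
    have hK : K = ⊥ := by
      apply Submodule.eq_bot_of_le_smul_of_le_jacobson_bot 𝔟 K (IsNoetherian.noetherian K)
      · intro x hx
        have hx0 : v x = 0 := hx
        have hx𝔟 : x ∈ 𝔟 := by
          have h1 := hv' x
          rw [hx0, map_zero] at h1
          have h2 : Ideal.Quotient.mk 𝔟 x = 0 := by
            apply u₀.injective
            rw [← h1, map_zero]
          exact Ideal.Quotient.eq_zero_iff_mem.1 h2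
        have hx' : x ∈ (J • ⊤ : Submodule A B) := by
          rw [Ideal.smul_top_eq_map]
          exact hx𝔟
        have h3 := mem_smul_top_of_flat_quotient v.toLinearMap hsurj J ⟨x, hx0⟩ hx'
        have h4 : ∀ y : LinearMap.ker v.toLinearMap, y ∈ (J • ⊤ : Submodule A (LinearMap.ker v.toLinearMap)) →
            (y : B) ∈ 𝔟 • K := by
          intro y hy
          refine Submodule.smul_induction_on hy ?_ ?_
          · intro a ha k _
            change a • (k : B) ∈ 𝔟 • K
            rw [← algebraMap_smul B a (k : B)]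
            have hk : (k : B) ∈ K := k.2
            exact Submodule.smul_mem_smul (Ideal.mem_map_of_mem (algebraMap A B) ha) hk
          · intro y z hy hz
            exact add_mem hy hz
        exact h4 ⟨x, hx0⟩ h3
      · rw [IsLocalRing.jacobson_eq_maximalIdeal (⊥ : Ideal B) bot_ne_top]
        exact hB
    intro x hx
    have : x ∈ K := hx
    rw [hK] at this
    exact this
  refine ⟨AlgEquiv.ofBijective v ⟨hinj, hsurj⟩, fun b => ?_⟩
  exact hv' b

end Groth.Agent.S4543
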