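import Groth.Statements.S17334
import Mathlib

set_option autoImplicit false
universe u v
open CAlg

namespace Groth.Agent.S17334

/-- In a commutative Artinian ring with only trivial idempotents every element is a unit or nilpotent. -/
theorem isUnit_or_isNilpotent_of_idem_trivial {A : Type v} [CommRing A] [IsArtinianRing A]
    (h : ∀ e : A, IsIdempotentElem e → e = 0 ∨ e = 1) (a : A) : IsUnit a ∨ IsNilpotent a := by
  obtain ⟨n, y, hy⟩ := IsArtinian.exists_pow_succ_smul_dvd a (1 : A)
  simp only [smul_eq_mul, mul_one] at hy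
  -- hy : a ^ (n+1) * y = a ^ n
  have hk : ∀ m : ℕ, a ^ (n + m) * y ^ m = a ^ n := by
    intro m
    induction m with
    | zero => simp
    | succ m ih =>
      calc a ^ (n + (m + 1)) * y ^ (m + 1) = (a ^ (n + 1) * y) * (a ^ m * y ^ m) := by ring
        _ = a ^ n * (a ^ m * y ^ m) := by rw [hy]
        _ = a ^ (n + m) * y ^ m := by ring
        _ = a ^ n := ih
  have hc : a ^ n * a ^ n * y ^ n = a ^ n := by
    rw [← pow_add]; exact hk n
  have hidem : IsIdempotentElem (a ^ n * y ^ n) := by
    unfold IsIdempotentElem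
    calc a ^ n * y ^ n * (a ^ n * y ^ n) = (a ^ n * a ^ n * y ^ n) * y ^ n := by ring
      _ = a ^ n * y ^ n := by rw [hc]
  rcases h _ hidem with h0 | h1
  · right
    refine ⟨n, ?_⟩
    calc a ^ n = a ^ n * a ^ n * y ^ n := hc.symm
      _ = a ^ n * (a ^ n * y ^ n) := by ring
      _ = 0 := by rw [h0, mul_zero]
  · left
    rcases Nat.eq_zero_or_pos n with hn | hn
    · subst hn
      -- a ^ 1 * y = 1
      simp only [zero_add, pow_one, pow_zero] at hy
      exact IsUnit.of_mul_eq_one y hy
    · have : IsUnit (a ^ n) := IsUnit.of_mul_eq_one _ h1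
      exact (isUnit_pow_iff hn.ne').mp this

theorem result (k : Type u) [Field k]
    (A : Type v) [CommRing A] [Algebra k A] [Module.Finite k A] [Nontrivial A] :
    (∀ e : A, IsIdempotentElem e → e = 0 ∨ e = 1) ↔ IsLocalRing A := by
  haveI : IsArtinianRing A := isArtinian_of_tower k inferInstance
  constructor
  · intro h
    apply IsLocalRing.of_isUnit_or_isUnit_one_sub_self
    intro a
    rcases isUnit_or_isNilpotent_of_idem_trivial h a with hu | hn
    · exact Or.inl hu
    · exact Or.inr hn.isUnit_one_sub
  · intro hl e he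
    have h0 : e * (1 - e) = 0 := by
      rw [mul_sub, mul_one, he.eq, sub_self]
    rcases IsLocalRing.isUnit_or_isUnit_one_sub_self e with hu | hu
    · right
      have := hu.mul_right_eq_zero.mp h0
      exact (sub_eq_zero.mp this).symm
    · left
      exact hu.mul_left_eq_zero.mp h0

end Groth.Agent.S17334
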