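import Groth.Statements.S2038
import Groth.Agent.Lib.Helper47.SmoothFlat
import Groth.Agent.Lib.Helper47.FlatFibreSmooth
import Groth.Agent.S4573

set_option autoImplicit false
universe u
open CAlg

namespace Groth.Agent.S2038

/-- Let `A → B` be a local homomorphism of Noetherian local rings with residue field `k` of `A`. Then `A
→ B` is flat with special fibre `B ⊗ k` geometrically regular over `k` if and only if `A → B` is
formally smooth for the adic topology of the maximal ideal of `B`. -/
theorem result {A B : Type u} [CommRing A] [CommRing B]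
    [IsLocalRing A] [IsLocalRing B] [IsNoetherianRing A] [IsNoetherianRing B] [Algebra A B]
    [IsLocalHom (algebraMap A B)] :
    (Module.Flat A B ∧ CAlg.IsGeometricallyRegular (IsLocalRing.maximalIdeal A).ResidueField
        ((IsLocalRing.maximalIdeal A).Fiber B)) ↔
      CAlgX.IsAdicFormallySmooth A B (IsLocalRing.maximalIdeal B) := by
  classical
  have hκsurj : Function.Surjective (algebraMap A (IsLocalRing.maximalIdeal A).ResidueField) :=
    Ideal.algebraMap_residueField_surjective _
  -- the closed fibre in its two forms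
  let σ : (A ⧸ IsLocalRing.maximalIdeal A) ≃ₐ[A] (IsLocalRing.maximalIdeal A).ResidueField :=
    AlgEquiv.ofBijective (IsScalarTower.toAlgHom A (A ⧸ IsLocalRing.maximalIdeal A)
      (IsLocalRing.maximalIdeal A).ResidueField)
      (Ideal.bijective_algebraMap_quotient_residueField _)
  let e₁ : TensorProduct A (A ⧸ IsLocalRing.maximalIdeal A) B ≃ₐ[A]
      TensorProduct A (IsLocalRing.maximalIdeal A).ResidueField B :=
    Algebra.TensorProduct.congr σ AlgEquiv.refl
  let e₂ : (B ⧸ (IsLocalRing.maximalIdeal A).map (algebraMap A B)) ≃ₐ[A ⧸ IsLocalRing.maximalIdeal A]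
      TensorProduct A (A ⧸ IsLocalRing.maximalIdeal A) B :=
    Algebra.TensorProduct.quotIdealMapEquivQuotTensor B (IsLocalRing.maximalIdeal A)
  let e : (B ⧸ (IsLocalRing.maximalIdeal A).map (algebraMap A B)) ≃+*
      (IsLocalRing.maximalIdeal A).Fiber B := e₂.toRingEquiv.trans e₁.toRingEquiv
  have he : ∀ x : A ⧸ IsLocalRing.maximalIdeal A,
      e (algebraMap (A ⧸ IsLocalRing.maximalIdeal A)
        (B ⧸ (IsLocalRing.maximalIdeal A).map (algebraMap A B)) x) =
      algebraMap (IsLocalRing.maximalIdeal A).ResidueField
        ((IsLocalRing.maximalIdeal A).Fiber B) (σ x) := by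
    intro x
    change e₁ (e₂ (algebraMap _ _ x)) = _
    rw [e₂.commutes, Algebra.TensorProduct.algebraMap_apply, Algebra.TensorProduct.algebraMap_apply]
    change e₁ (TensorProduct.tmul A x (1 : B)) = _
    rw [Algebra.TensorProduct.congr_apply, Algebra.TensorProduct.map_tmul]
    rfl
  -- the fibre is a Noetherian local ring
  have hne : (IsLocalRing.maximalIdeal A).map (algebraMap A B) ≠ ⊤ :=
    ne_top_of_le_ne_top (Ideal.IsPrime.ne_top inferInstance)
      (IsLocalRing.map_maximalIdeal_le (algebraMap A B))
  haveI : Nontrivial (B ⧸ (IsLocalRing.maximalIdeal A).map (algebraMap A B)) :=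
    Ideal.Quotient.nontrivial_iff.mpr hne
  haveI : IsLocalRing (B ⧸ (IsLocalRing.maximalIdeal A).map (algebraMap A B)) :=
    IsLocalRing.of_surjective' (Ideal.Quotient.mk _) Ideal.Quotient.mk_surjective
  haveI : Nontrivial ((IsLocalRing.maximalIdeal A).Fiber B) := e.injective.nontrivial
  let π : B →+* (IsLocalRing.maximalIdeal A).Fiber B :=
    (Algebra.TensorProduct.includeRight :
      B →ₐ[A] TensorProduct A (IsLocalRing.maximalIdeal A).ResidueField B).toRingHom
  have hπ : Function.Surjective π :=
    Groth.Agent.Lib.Helper47.SmoothFlat.includeRight_surjective hκsurj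
  haveI : IsLocalRing ((IsLocalRing.maximalIdeal A).Fiber B) := IsLocalRing.of_surjective' π hπ
  haveI : IsNoetherianRing ((IsLocalRing.maximalIdeal A).Fiber B) :=
    isNoetherianRing_of_surjective B _ π hπ
  constructor
  · rintro ⟨hflat, hgr⟩
    haveI := hflat
    obtain ⟨p, hp⟩ := ExpChar.exists (IsLocalRing.maximalIdeal A).ResidueField
    have hF : CAlgX.IsAdicFormallySmooth (IsLocalRing.maximalIdeal A).ResidueField
        ((IsLocalRing.maximalIdeal A).Fiber B)
        (IsLocalRing.maximalIdeal ((IsLocalRing.maximalIdeal A).Fiber B)) :=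
      (Groth.Agent.S4573.result p).mpr (fun k' _ _ hfin _ => hgr k' hfin)
    have hcompat : ∀ y : (IsLocalRing.maximalIdeal A).ResidueField,
        e.symm (algebraMap (IsLocalRing.maximalIdeal A).ResidueField
          ((IsLocalRing.maximalIdeal A).Fiber B) y) =
        algebraMap (A ⧸ IsLocalRing.maximalIdeal A)
          (B ⧸ (IsLocalRing.maximalIdeal A).map (algebraMap A B)) (σ.symm y) := by
      intro y
      rw [RingEquiv.symm_apply_eq, he, AlgEquiv.apply_symm_apply]
    have h𝔫 : (IsLocalRing.maximalIdeal ((IsLocalRing.maximalIdeal A).Fiber B)).map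
        (e.symm : (IsLocalRing.maximalIdeal A).Fiber B →+* _) ≤
        (IsLocalRing.maximalIdeal B).map
          (Ideal.Quotient.mk ((IsLocalRing.maximalIdeal A).map (algebraMap A B))) := by
      have hs : Function.Surjective (e.symm.toRingHom) := e.symm.surjective
      have h2 := IsLocalRing.map_maximalIdeal_of_surjective e.symm.toRingHom hs
      have h3 := IsLocalRing.map_maximalIdeal_of_surjective
        (Ideal.Quotient.mk ((IsLocalRing.maximalIdeal A).map (algebraMap A B)))
        Ideal.Quotient.mk_surjective
      rw [h3]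
      exact h2.le
    have h1 := Groth.Agent.Lib.Helper47.SmoothFlat.isAdicFormallySmooth_of_ringEquiv
      σ.symm.toRingEquiv e.symm hcompat _ _ h𝔫 hF
    exact Groth.Agent.Lib.Helper47.isAdicFormallySmooth_of_flat_of_fibre h1
  · intro h
    have hflat : Module.Flat A B :=
      Groth.Agent.Lib.Helper47.SmoothFlat.flat_of_isAdicFormallySmooth h
    refine ⟨hflat, ?_⟩
    have hfs := Groth.Agent.Lib.Helper90.SmoothRegular.isAdicFormallySmooth_baseChange
      (k := A) (k' := (IsLocalRing.maximalIdeal A).ResidueField) (A := B)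
      (IsLocalRing.maximalIdeal B) h
    have hmax : (IsLocalRing.maximalIdeal B).map (Algebra.TensorProduct.includeRight :
        B →ₐ[A] TensorProduct A (IsLocalRing.maximalIdeal A).ResidueField B) =
        IsLocalRing.maximalIdeal ((IsLocalRing.maximalIdeal A).Fiber B) :=
      IsLocalRing.map_maximalIdeal_of_surjective π hπ
    rw [hmax] at hfs
    exact Groth.Agent.Lib.Helper90.SmoothRegular.isGeometricallyRegular_of_smooth hfs

end Groth.Agent.S2038
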