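import Groth.Statements.S4730
import Groth.Agent.S4688
import Mathlib

set_option autoImplicit false
universe u
open EGA4

namespace Groth.Agent.S4730

open Polynomial Ideal

/-- The transcendence degree of `A[X]/p[X]` over `A/p` is one. -/
theorem trdeg_quotient_map_C {A : Type u} [CommRing A] (p : Ideal A) [p.IsPrime]
    [(p.map (C : A →+* A[X])).LiesOver p] :
    Algebra.trdeg (A ⧸ p) (A[X] ⧸ p.map (C : A →+* A[X])) = 1 := by
  let e : (A ⧸ p)[X] ≃ₐ[A ⧸ p] (A[X] ⧸ p.map (C : A →+* A[X])) :=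
    AlgEquiv.ofRingEquiv (f := p.polynomialQuotientEquivQuotientPolynomial) (by
      intro s
      obtain ⟨a, rfl⟩ := Ideal.Quotient.mk_surjective s
      have : algebraMap (A ⧸ p) (A ⧸ p)[X] (Ideal.Quotient.mk p a) =
          (C a : A[X]).map (Ideal.Quotient.mk p) := by
        simp
      rw [this, polynomialQuotientEquivQuotientPolynomial_map_mk]
      rfl)
  rw [← e.trdeg_eq]
  exact Polynomial.trdeg_of_isDomain

theorem mk_C_eq {A : Type u} [CommRing A] (p : Ideal A)
    (q : Ideal A[X]) [q.LiesOver p] (a : A) :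
    Ideal.Quotient.mk q (C a) = algebraMap (A ⧸ p) (A[X] ⧸ q) (Ideal.Quotient.mk p a) := by
  rw [Ideal.Quotient.algebraMap_mk_of_liesOver, Polynomial.algebraMap_eq]

/-- The class of `X` generates `A[X]/q` over `A/p`. -/
theorem adjoin_mk_X_eq_top {A : Type u} [CommRing A] (p : Ideal A)
    (q : Ideal A[X]) [q.LiesOver p] :
    Algebra.adjoin (A ⧸ p) {(Ideal.Quotient.mk q X : A[X] ⧸ q)} = ⊤ := by
  rw [eq_top_iff]
  rintro y -
  obtain ⟨g, rfl⟩ := Ideal.Quotient.mk_surjective y
  induction g using Polynomial.induction_on' with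
  | add g₁ g₂ h₁ h₂ => rw [map_add]; exact add_mem h₁ h₂
  | monomial n a =>
    rw [← C_mul_X_pow_eq_monomial, map_mul, map_pow, mk_C_eq p q a]
    exact mul_mem (Subalgebra.algebraMap_mem _ _)
      (pow_mem (Algebra.subset_adjoin (Set.mem_singleton _)) n)

/-- The class of `X` is algebraic when `q ≠ p[X]`. -/
theorem isAlgebraic_mk_X {A : Type u} [CommRing A] (p : Ideal A) [p.IsPrime]
    (q : Ideal A[X]) [q.IsPrime] [q.LiesOver p] (hne : q ≠ p.map C) :
    IsAlgebraic (A ⧸ p) (Ideal.Quotient.mk q X : A[X] ⧸ q) := by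
  -- `p[X] ≤ q`
  have hle : p.map (C : A →+* A[X]) ≤ q := by
    rw [Ideal.map_le_iff_le_comap]
    exact (LiesOver.over (P := q) (p := p)).le
  -- pick `f ∈ q` not in `p[X]`
  obtain ⟨f, hfq, hfp⟩ : ∃ f ∈ q, f ∉ p.map (C : A →+* A[X]) := by
    by_contra hcon
    push Not at hcon
    exact hne (le_antisymm hcon hle)
  refine ⟨f.map (Ideal.Quotient.mk p), ?_, ?_⟩
  · intro h0
    apply hfp
    rw [Ideal.mem_map_C_iff]
    intro n
    have := congrArg (fun g => g.coeff n) h0
    simpa [Ideal.Quotient.eq_zero_iff_mem] using this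
  · rw [Polynomial.aeval_def, Polynomial.eval₂_map]
    have hcomp : (algebraMap (A ⧸ p) (A[X] ⧸ q)).comp (Ideal.Quotient.mk p) =
        (Ideal.Quotient.mk q).comp C := by
      ext a
      simp only [RingHom.comp_apply]
      exact (mk_C_eq p q a).symm
    rw [hcomp, ← Polynomial.hom_eval₂, Polynomial.eval₂_C_X]
    exact Ideal.Quotient.eq_zero_iff_mem.mpr hfq

/-- If `q ≠ p[X]` lies over `p`, `A[X]/q` is algebraic over `A/p`. -/
theorem isAlgebraic_quotient_of_ne {A : Type u} [CommRing A] (p : Ideal A) [p.IsPrime]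
    (q : Ideal A[X]) [q.IsPrime] [q.LiesOver p] (hne : q ≠ p.map C) :
    Algebra.IsAlgebraic (A ⧸ p) (A[X] ⧸ q) := by
  have h1 : (Algebra.adjoin (A ⧸ p) {(Ideal.Quotient.mk q X : A[X] ⧸ q)}).IsAlgebraic :=
    Algebra.isAlgebraic_adjoin_singleton_iff.mpr (isAlgebraic_mk_X p q hne)
  refine ⟨fun y => h1 y ?_⟩
  rw [adjoin_mk_X_eq_top p q]; trivial

open Polynomial in
/-- Let A be a Noetherian ring, p a prime ideal of A and q a prime ideal of the polynomial ring A[T]
lying over p. Then ht(p) + 1 = ht(q) + deg.tr_{κ(p)} κ(q), the transcendence degree being that of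
the domain A[T]/q over the domain A/p. -/
theorem result (A : Type u) [CommRing A] [IsNoetherianRing A]
    (p : Ideal A) [p.IsPrime] (q : Ideal A[X]) [q.IsPrime] [q.LiesOver p] :
    (p.height : Cardinal.{u}) + 1 = (q.height : Cardinal.{u}) + Algebra.trdeg (A ⧸ p) (A[X] ⧸ q) := by
  by_cases h : q = p.map C
  · subst h
    rw [trdeg_quotient_map_C, Groth.Agent.S4688.height_map_C_of_isPrime]
  · have hq := Groth.Agent.S4688.height_eq_height_add_one_of_ne p q h
    have := isAlgebraic_quotient_of_ne p q h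
    rw [trdeg_eq_zero_iff.mpr this, hq]
    simp

end Groth.Agent.S4730
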