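import Groth.Statements.S9391
import Mathlib
import Groth.Agent.Lib.Helper48.Japanese

set_option autoImplicit false
universe u
open CAlg

namespace Groth.Agent.S9391

/-- A localization of an N-1 domain which is again a domain is N-1. -/
theorem result (R : Type u) [CommRing R] [IsDomain R] (M : Submonoid R)
    (S : Type u) [CommRing S] [IsDomain S] [Algebra R S] [IsLocalization M S]
    (h : CAlg.IsN1 R) : CAlg.IsN1 S := by
  unfold CAlg.IsN1 at h ⊢
  haveI : IsFractionRing R (FractionRing S) :=
    Groth.Agent.Lib.Helper48.isFractionRing_of_isLocalization_of_isFractionRing M S (FractionRing S)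
  let e : FractionRing R ≃ₐ[R] FractionRing S := FractionRing.algEquiv R (FractionRing S)
  have h' := Groth.Agent.Lib.Helper48.finite_integralClosure_of_algEquiv e h
  exact Groth.Agent.Lib.Helper48.finite_integralClosure_of_isLocalization M S (FractionRing S) h'

end Groth.Agent.S9391
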