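import Groth.Statements.S9630
import Mathlib
import Groth.Agent.Lib.Helper50.GeomIrred

set_option autoImplicit false
universe u
open CAlg

namespace Groth.Agent.S9630

open TensorProduct in
/-- For a field k and a k-algebra R the following are equivalent: (1) Spec(k' ⊗_k R) is irreducible for
every field extension k'/k; (2) the same for every finite separable extension k'/k; (3) Spec(k^sep
⊗_k R) is irreducible for the separable closure k^sep; (4) Spec(k̄ ⊗_k R) is irreducible for the
algebraic closure k̄. Here the test fields range over field extensions in the universe of k; this is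
equivalent to the unrestricted notion, since an algebraic closure of k suffices as a test. -/
theorem result {k R : Type u} [Field k] [CommRing R] [Algebra k R] :
    [∀ (k' : Type u) [Field k'] [Algebra k k'], IrreducibleSpace (PrimeSpectrum (k' ⊗[k] R)),
      ∀ (k' : Type u) [Field k'] [Algebra k k'] [Module.Finite k k'] [Algebra.IsSeparable k k'], IrreducibleSpace (PrimeSpectrum (k' ⊗[k] R)),
      IrreducibleSpace (PrimeSpectrum (SeparableClosure k ⊗[k] R)),
      IrreducibleSpace (PrimeSpectrum (AlgebraicClosure k ⊗[k] R))].TFAE := by
  classical
  tfae_have 1 → 2 := fun h k' _ _ _ _ => h k'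
  tfae_have 2 → 3 := by
    intro h
    apply Groth.Agent.Lib.Helper50.irreducibleSpace_tensor_of_forall_finite
    intro L hL
    have : Algebra.IsSeparable k L :=
      Algebra.isSeparable_tower_bot_of_isSeparable k L (SeparableClosure k)
    exact h L
  tfae_have 3 → 4 := by
    intro h
    have hh := PrimeSpectrum.isHomeomorph_comap_tensorProductMap_of_isPurelyInseparable
      (SeparableClosure k) k R (AlgebraicClosure k)
    exact (hh.homeomorph _).irreducibleSpace_iff.mpr h
  tfae_have 4 → 1 := by
    intro h k' _ _
    let Ω := AlgebraicClosure k'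
    letI : Algebra (AlgebraicClosure k) Ω :=
      (IsAlgClosed.lift : AlgebraicClosure k →ₐ[k] Ω).toRingHom.toAlgebra
    haveI : IsScalarTower k (AlgebraicClosure k) Ω :=
      IsScalarTower.of_algebraMap_eq fun c =>
        ((IsAlgClosed.lift : AlgebraicClosure k →ₐ[k] Ω).commutes c).symm
    have h1 : IrreducibleSpace (PrimeSpectrum (Ω ⊗[AlgebraicClosure k] (AlgebraicClosure k ⊗[k] R))) :=
      Groth.Agent.Lib.Helper50.irreducibleSpace_tensor_of_isAlgClosed
    have h2 : IrreducibleSpace (PrimeSpectrum (Ω ⊗[k] R)) :=
      Groth.Agent.Lib.Helper50.irreducibleSpace_primeSpectrum_of_injective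
        (Algebra.TensorProduct.cancelBaseChange k (AlgebraicClosure k) (AlgebraicClosure k) Ω R).symm.toRingEquiv.toRingHom
        (Algebra.TensorProduct.cancelBaseChange k (AlgebraicClosure k) (AlgebraicClosure k) Ω R).symm.injective
    have hinj : Function.Injective (Algebra.TensorProduct.map (IsScalarTower.toAlgHom k k' Ω)
        (AlgHom.id k R)) := by
      have := Module.Flat.rTensor_preserves_injective_linearMap (M := R)
        (IsScalarTower.toAlgHom k k' Ω).toLinearMap (algebraMap k' Ω).injective
      intro a b hab
      exact this hab
    exact Groth.Agent.Lib.Helper50.irreducibleSpace_primeSpectrum_of_injective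
      (Algebra.TensorProduct.map (IsScalarTower.toAlgHom k k' Ω) (AlgHom.id k R)).toRingHom hinj
  tfae_finish

end Groth.Agent.S9630
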