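import Groth.Statements.S1331
import Groth.Agent.Lib.Helper13.GenFibre3

set_option autoImplicit false
universe u
open FlatMor

namespace Groth.Agent.S1331

open AlgebraicGeometry CategoryTheory Limits in
/-- Let f be of finite type with irreducible target. If the generic fibre is not geometrically reduced,
then over some nonempty open of the target no fibre is geometrically reduced. -/
theorem result {X Y : Scheme.{u}} (f : X ⟶ Y) [IrreducibleSpace ↑Y] [LocallyOfFiniteType f] [QuasiCompact f]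
    (h : ¬ GeometricallyReduced (f.fiberToSpecResidueField (genericPoint ↑Y))) :
    ∃ V : Y.Opens, (V : Set ↑Y).Nonempty ∧ ∀ y ∈ V, ¬ GeometricallyReduced (f.fiberToSpecResidueField y) := by
  classical
  obtain ⟨W, hW, hηW, -⟩ := exists_isAffineOpen_mem_and_subset
    (x := genericPoint ↑Y) (U := ⊤) trivial
  have hηr : genericPoint ↑Y ∈ Set.range hW.fromSpec := by
    rw [hW.range_fromSpec]; exact hηW
  obtain ⟨z₀, hz₀⟩ := hηr
  have hnil : z₀.asIdeal = nilradical Γ(Y, W) :=
    Groth.Agent.Lib.Helper13.GenFibre.asIdeal_eq_nilradical_of_fromSpec_eq hW z₀ hz₀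
  -- a field over the generic point with non-reduced base change
  obtain ⟨K, hK, t, hnr⟩ :=
    (Groth.Agent.Lib.Helper13.GenFibre3.not_geometricallyReduced_fiber_iff f _).mp h
  set s := t ≫ Y.fromSpecResidueField (genericPoint ↑Y) with hs
  have hsrange : Set.range s ⊆ W := by
    rintro _ ⟨x, rfl⟩
    rw [hs, Scheme.Hom.comp_apply, Scheme.fromSpecResidueField_apply]
    exact hηW
  obtain ⟨ψ₀, hψ₀⟩ :=
    Groth.Agent.Lib.Helper13.GenFibre3.exists_eq_SpecMap_comp_fromSpec hW s hsrange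
  have hkerψ₀ : RingHom.ker ψ₀.hom = nilradical Γ(Y, W) := by
    rw [← hnil]
    let x : Spec (CommRingCat.of K) := IsLocalRing.closedPoint K
    have h1 : Spec.map ψ₀ x = z₀ := by
      apply hW.fromSpec.isOpenEmbedding.injective
      rw [← Scheme.Hom.comp_apply, ← hψ₀, hz₀, hs, Scheme.Hom.comp_apply,
        Scheme.fromSpecResidueField_apply]
    rw [← h1]
    have hx : x.asIdeal = ⊥ := Ideal.eq_bot_of_prime x.asIdeal
    show RingHom.ker ψ₀.hom = Ideal.comap ψ₀.hom x.asIdeal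
    rw [hx]; rfl
  rw [hψ₀] at hnr
  have hex : ∃ (U : X.Opens) (hU : IsAffineOpen U) (e : U ≤ f ⁻¹ᵁ W),
      ¬ IsReduced (pullback (Spec.map (f.appLE W U e)) (Spec.map ψ₀)) := by
    by_contra hcon
    push Not at hcon
    exact hnr (Groth.Agent.Lib.Helper13.GenFibre3.isReduced_pullback_of_charts f hW ψ₀ hcon)
  obtain ⟨U, hU, e, hUnr⟩ := hex
  letI : Algebra Γ(Y, W) Γ(X, U) := (f.appLE W U e).hom.toAlgebra
  have hft : Algebra.FiniteType Γ(Y, W) Γ(X, U) := f.finiteType_appLE hW hU e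
  rw [Groth.Agent.Lib.Helper13.GenFibre3.isReduced_genChart_iff f hW hU e ψ₀] at hUnr
  obtain ⟨a, ha, hA⟩ :=
    Groth.Agent.Lib.Helper13.GenFibre3.exists_forall_exists_ringHom_not_isReduced
      (A := Γ(Y, W)) (B := Γ(X, U)) K ψ₀.hom hkerψ₀ hUnr
  refine ⟨Y.basicOpen a, ⟨genericPoint ↑Y, ?_⟩, ?_⟩
  · have : z₀ ∈ hW.fromSpec ⁻¹ᵁ Y.basicOpen a := by
      rw [hW.fromSpec_preimage_basicOpen]
      show a ∉ z₀.asIdeal
      rw [hnil]; exact ha
    have h2 : hW.fromSpec z₀ ∈ Y.basicOpen a := this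
    rwa [hz₀] at h2
  · intro y hy
    have hyW : y ∈ W := Y.basicOpen_le a hy
    let z : Spec Γ(Y, W) := hW.primeIdealOf ⟨y, hyW⟩
    have hzy : hW.fromSpec z = y := hW.fromSpec_primeIdealOf ⟨y, hyW⟩
    have haz : a ∉ z.asIdeal :=
      (Groth.Agent.Lib.Helper13.GenFibre.mem_basicOpen_iff_notMem_primeIdealOf hW a y hyW).mp hy
    obtain ⟨k, hk, ψ, hkerψ, hnrk⟩ := hA z.asIdeal haz
    let ψ' : Γ(Y, W) ⟶ CommRingCat.of k := CommRingCat.ofHom ψ
    have hnr' : ¬ IsReduced (pullback (Spec.map (f.appLE W U e)) (Spec.map ψ')) := by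
      rw [Groth.Agent.Lib.Helper13.GenFibre3.isReduced_genChart_iff f hW hU e ψ']
      exact hnrk
    have hnr'' : ¬ IsReduced (pullback f (Spec.map ψ' ≫ hW.fromSpec)) := fun hred =>
      hnr' (isReduced_of_isOpenImmersion
        (Groth.Agent.Lib.Helper13.GenFibre3.genChart f hW hU e ψ'))
    have hfin :=
      Groth.Agent.Lib.Helper13.GenFibre3.not_geometricallyReduced_of_not_isReduced_pullback f
        (Spec.map ψ' ≫ hW.fromSpec) hnr''
    have hpt : (Spec.map ψ' ≫ hW.fromSpec) (IsLocalRing.closedPoint k) = y := by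
      rw [Scheme.Hom.comp_apply, ← hzy]
      congr 1
      apply PrimeSpectrum.ext
      have hx : (IsLocalRing.closedPoint k).asIdeal = ⊥ := Ideal.eq_bot_of_prime _
      show Ideal.comap ψ (IsLocalRing.closedPoint k).asIdeal = z.asIdeal
      rw [hx, ← hkerψ]; rfl
    rw [hpt] at hfin
    exact hfin

end Groth.Agent.S1331
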