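import Groth.Statements.S4621
import Mathlib
import Groth.Agent.Lib.Helper50.GeomConnScheme

set_option autoImplicit false
open CategoryTheory AlgebraicGeometry
universe u
open FBase

namespace Groth.Agent.S4621

/-- Let h : Y → X be a morphism of schemes over a field k, with Y nonempty and geometrically connected
over k. Then the connected component of X containing the (connected) image h(Y) is geometrically
connected: for every extension field K of k, the inverse image in X ⊗_k K of the connected component
of h(y), for a point y of Y, is connected. -/
theorem result {k K : Type u} [Field k] [Field K] [Algebra k K]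
    {X Y : Scheme.{u}} (f : X ⟶ Spec (CommRingCat.of k)) (g : Y ⟶ Spec (CommRingCat.of k)) (h : Y ⟶ X) (w : h ≫ f = g)
    [GeometricallyConnected g] (y : Y) :
    _root_.IsConnected (⇑(FBase.bcπ f K) ⁻¹' connectedComponent (h y)) := by
    subst w
    let c := Spec.map (CommRingCat.ofHom (algebraMap k (AlgebraicClosure k)))
    let p := Limits.pullback.fst f c
    have hYc : ConnectedSpace ↥(Limits.pullback (h ≫ f) c) :=
      GeometricallyConnected.geometrically_connectedSpace (f := h ≫ f) c _ _
        (IsPullback.of_hasPullback (h ≫ f) c)
    have hYc' : ConnectedSpace ↥(Limits.pullback p h) :=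
      (((Limits.pullbackSymmetry p h) ≪≫
        (Limits.pullbackRightPullbackFstIso f c h)).hom.homeomorph.connectedSpace_iff).mpr hYc
    have hY : ConnectedSpace ↥Y :=
      GeometricallyConnected.connectedSpace_of_subsingleton (h ≫ f)
    have hS : _root_.IsConnected (p ⁻¹' Set.range h) := by
      rw [← Scheme.Pullback.range_fst]
      exact isConnected_range (Scheme.Hom.continuous _)
    exact Groth.Agent.Lib.Helper50.isConnected_preimage_bcFst f isConnected_connectedComponent
      ((isConnected_range (Scheme.Hom.continuous h)).isPreconnected.subset_connectedComponent ⟨y, rfl⟩)
      hS K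

end Groth.Agent.S4621
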