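import Groth.Statements.S4619
import Groth.Agent.S4621
import Groth.Agent.Lib.Helper50.SepClosedIn2

set_option autoImplicit false
open CategoryTheory AlgebraicGeometry
universe u
open FBase

namespace Groth.Agent.S4619

open TensorProduct

/-- `Spec L → Spec k` is geometrically connected when `k` is separably closed in `L`. -/
theorem geometricallyConnected_specMap {k L : Type u} [Field k] [Field L] [Algebra k L]
    (hL : ∀ α : L, IsSeparable k α → α ∈ Set.range (algebraMap k L)) :
    GeometricallyConnected (Spec.map (CommRingCat.ofHom (algebraMap k L))) := by
  refine ⟨geometrically_iff_of_commRing_of_isClosedUnderIsomorphisms.mpr fun K _ _ => ?_⟩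
  have h1 : IrreducibleSpace (PrimeSpectrum (L ⊗[k] K)) :=
    Groth.Agent.Lib.Helper50.irreducibleSpace_tensor_of_sepClosedIn' hL K
  have h2 : ConnectedSpace ↥(Spec (CommRingCat.of (L ⊗[k] K))) :=
    inferInstanceAs (ConnectedSpace (PrimeSpectrum (L ⊗[k] K)))
  exact ((pullbackSpecIso k L K).hom.homeomorph.connectedSpace_iff).mpr h2


/-- For a connected scheme: let X be a connected scheme over a field k and x a point of X whose residue
field κ(x) is a primary extension of k, i.e. the separable algebraic closure of k in κ(x) is k
itself (this holds in particular when x is a k-rational point). Then X is geometrically connected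
over k. (The published statement concerns the connected component of x in an arbitrary scheme over
k; this row takes X connected.) -/
theorem result {k : Type u} [Field k] {X : Scheme.{u}}
    [ConnectedSpace X] (f : X ⟶ Spec (CommRingCat.of k)) (x : X)
    (hx : FBase.ResidueFieldProp f x (fun K _ _ => separableClosure k K = ⊥)) :
    GeometricallyConnected f := by
  obtain ⟨φ, hφ, hsep⟩ := hx
  letI := φ.toAlgebra
  have hL : ∀ α : X.residueField x, IsSeparable k α → α ∈ Set.range (algebraMap k (X.residueField x)) := by
    intro α hα
    have h1 : α ∈ separableClosure k (X.residueField x) := mem_separableClosure_iff.2 hα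
    rw [hsep] at h1
    exact IntermediateField.mem_bot.1 h1
  have hg : GeometricallyConnected (X.fromSpecResidueField x ≫ f) := by
    rw [← hφ]
    exact geometricallyConnected_specMap hL
  refine ⟨geometrically_iff_of_commRing_of_isClosedUnderIsomorphisms.mpr fun K _ _ => ?_⟩
  let y : ↥(Spec (X.residueField x)) := Nonempty.some inferInstance
  have h1 := Groth.Agent.S4621.result (K := K) f (X.fromSpecResidueField x ≫ f)
    (X.fromSpecResidueField x) rfl y
  rw [PreconnectedSpace.connectedComponent_eq_univ, Set.preimage_univ] at h1
  exact connectedSpace_iff_univ.mpr h1

end Groth.Agent.S4619
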