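import Groth.Statements.S9412
import Mathlib

set_option autoImplicit false
universe u
open EGA4

namespace Groth.Agent.S9412

theorem normal_of_isLocalization (R : Type u) [CommRing R] (N : Submonoid R) (T : Type u)
    [CommRing T] [Algebra R T] [IsLocalization N T] (h : EGA4.IsNormalRing R) :
    EGA4.IsNormalRing T := by
  intro p hp
  have hloc : IsLocalization.AtPrime (Localization.AtPrime p) (p.comap (algebraMap R T)) :=
    IsLocalization.isLocalization_isLocalization_atPrime_isLocalization N (Localization.AtPrime p) p
  obtain ⟨h1, h2⟩ := h (p.comap (algebraMap R T))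
  let e : Localization.AtPrime (p.comap (algebraMap R T)) ≃ₐ[R] Localization.AtPrime p :=
    IsLocalization.algEquiv (p.comap (algebraMap R T)).primeCompl _ _
  refine ⟨e.toRingEquiv.toMulEquiv.isDomain_iff.mp h1, ?_⟩
  exact IsIntegrallyClosed.of_equiv e.toRingEquiv

/-- A localization of a geometrically normal algebra over a field k is geometrically normal over k. -/
theorem result (k : Type u) [Field k] (A : Type u) [CommRing A]
    [Algebra k A] (M : Submonoid A) (B : Type u) [CommRing B] [Algebra A B] [IsLocalization M B]
    [Algebra k B] [IsScalarTower k A B] (h : EGA4.IsGeomNormal k A) :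
    EGA4.IsGeomNormal k B := by
  intro k' _ _ hfin
  let alg : Algebra (TensorProduct k k' A) (TensorProduct k k' B) :=
    (Algebra.TensorProduct.map (AlgHom.id k k') (IsScalarTower.toAlgHom k A B)).toRingHom.toAlgebra
  have : IsScalarTower k' (TensorProduct k k' A) (TensorProduct k k' B) :=
    IsScalarTower.of_algebraMap_eq' (by
      ext x
      simp [RingHom.algebraMap_toAlgebra, Algebra.TensorProduct.algebraMap_apply])
  have hloc := IsLocalization.tensorProduct_tensorProduct_right k k' M B (by
      ext x
      simp [RingHom.algebraMap_toAlgebra])
  exact normal_of_isLocalization (TensorProduct k k' A)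
    (M.map (Algebra.TensorProduct.includeRight (R := k) (A := k'))) (TensorProduct k k' B) (h k' hfin)

end Groth.Agent.S9412
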