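import Groth.Statements.S0401
import Mathlib.RingTheory.Ideal.Height
import Mathlib.Order.KrullDimension

set_option autoImplicit false
universe u
open FlatMor

namespace Groth.Agent.S0401


/-- Height can only drop along `comap` at a quasi-finite prime. -/
theorem height_le_height_under {R S : Type u} [CommRing R] [CommRing S] [Algebra R S]
    (q : Ideal S) [q.IsPrime] [Algebra.QuasiFiniteAt R q] :
    q.height ≤ (q.under R).height := by
  have e1 : q.height = Order.height (⟨q, inferInstance⟩ : PrimeSpectrum S) :=
    PrimeSpectrum.height_eq_orderHeight ⟨q, inferInstance⟩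
  have e2 : (q.under R).height = Order.height (⟨q.under R, inferInstance⟩ : PrimeSpectrum R) :=
    PrimeSpectrum.height_eq_orderHeight ⟨q.under R, inferInstance⟩
  rw [e1, e2, Order.height_le_iff]
  intro p hp
  let f : PrimeSpectrum S → PrimeSpectrum R := PrimeSpectrum.comap (algebraMap R S)
  have hmono : Monotone f := fun a b hab => by
    change a.asIdeal.comap _ ≤ b.asIdeal.comap _
    exact Ideal.comap_mono hab
  have hle : ∀ i, p i ≤ (⟨q, inferInstance⟩ : PrimeSpectrum S) := fun i =>
    le_trans (p.monotone (Fin.le_last i)) hp
  let p' : LTSeries (PrimeSpectrum R) :=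
    { length := p.length
      toFun := fun i => f (p i)
      step := by
        intro i
        have hlt : p i.castSucc < p i.succ := p.step i
        refine lt_of_le_of_ne (hmono hlt.le) ?_
        intro heq
        have hQ : (p i.succ).asIdeal ≤ q := hle _
        have : Algebra.QuasiFiniteAt R (p i.succ).asIdeal := Algebra.QuasiFiniteAt.of_le hQ
        have h1 : (p i.castSucc).asIdeal ≤ (p i.succ).asIdeal := hlt.le
        have h2 : (p i.castSucc).asIdeal.under R = (p i.succ).asIdeal.under R :=
          congrArg PrimeSpectrum.asIdeal heq
        have := Algebra.QuasiFiniteAt.eq_of_le_of_under_eq h1 h2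
        exact hlt.ne (PrimeSpectrum.ext this) }
  have hlast : p'.last ≤ (⟨q.under R, inferInstance⟩ : PrimeSpectrum R) := hmono hp
  exact Order.length_le_height hlast

/-- For a finite type ring map R → S quasi-finite at a prime q lying over p, the dimension of S_q is at
most the dimension of R_p. -/
theorem result {R S : Type u} [CommRing R] [CommRing S] [Algebra R S] [Algebra.FiniteType R S] (q : Ideal S) [q.IsPrime] [Algebra.QuasiFiniteAt R q] :
    ringKrullDim (Localization.AtPrime q) ≤ ringKrullDim (Localization.AtPrime (q.under R)) := by
  rw [IsLocalization.AtPrime.ringKrullDim_eq_height q, IsLocalization.AtPrime.ringKrullDim_eq_height (q.under R)]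
  exact_mod_cast height_le_height_under q

end Groth.Agent.S0401
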