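import Groth.Statements.S0300
-- import your own Groth.Agent.* helpers here

set_option autoImplicit false
universe u v
open InjHull

namespace Groth.Agent.S0300

/-- Over a Noetherian ring, injectivity of modules is preserved under arbitrary direct sums. -/
theorem result (R : Type u) [CommRing R] [IsNoetherianRing R] {ι : Type u} (E : ι → Type u) [∀ i, AddCommGroup (E i)] [∀ i, Module R (E i)] (hE : ∀ i, Module.Injective R (E i)) : Module.Injective R (DirectSum ι E) := by
  classical
  apply Module.Baer.injective
  intro I g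
  obtain ⟨t, ht⟩ := (IsNoetherian.noetherian I : I.FG)
  have htI : ∀ x ∈ t, x ∈ I := fun x hx => ht ▸ Submodule.subset_span hx
  let F : Finset ι := t.attach.biUnion fun x => (g ⟨x.1, htI x.1 x.2⟩).support
  let projF : (DirectSum ι E) →ₗ[R] ((i : F) → E i) :=
    LinearMap.pi fun i => DirectSum.component R ι E i
  let inclF : ((i : F) → E i) →ₗ[R] (DirectSum ι E) :=
    ∑ i : F, (DirectSum.lof R ι E i) ∘ₗ (LinearMap.proj i)
  have key : ∀ v : DirectSum ι E, v.support ⊆ F → inclF (projF v) = v := by
    intro v hv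
    have h1 : inclF (projF v) = ∑ i : F, DirectSum.of E i (v i) := by
      simp only [inclF, projF, LinearMap.sum_apply, LinearMap.comp_apply, LinearMap.proj_apply,
        LinearMap.pi_apply, DirectSum.component.of]
      rfl
    rw [h1]
    have h2 : ∑ i : F, DirectSum.of E (i : ι) (v i) = ∑ i ∈ F, DirectSum.of E i (v i) :=
      Finset.sum_coe_sort F (fun i => DirectSum.of E i (v i))
    rw [h2]
    conv_rhs => rw [← DirectSum.sum_support_of v]
    symm
    apply Finset.sum_subset hv
    intro i _ hi
    have : v i = 0 := by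
      rwa [DFinsupp.mem_support_iff, not_not] at hi
    rw [this, map_zero]
  have hall : ∀ (y : R) (hy : y ∈ I), inclF (projF (g ⟨y, hy⟩)) = g ⟨y, hy⟩ := by
    intro y hy
    have hy' : y ∈ Submodule.span R (t : Set R) := ht ▸ hy
    have hI : ∀ z (hz : z ∈ Submodule.span R (t : Set R)), z ∈ I := fun z hz => ht ▸ hz
    suffices H : ∀ z (hz : z ∈ Submodule.span R (t : Set R)),
        inclF (projF (g ⟨z, hI z hz⟩)) = g ⟨z, hI z hz⟩ from H y hy'
    intro z hz
    induction hz using Submodule.span_induction with
    | mem x hx =>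
      apply key
      intro i hi
      exact Finset.mem_biUnion.mpr ⟨⟨x, hx⟩, Finset.mem_attach _ _, hi⟩
    | zero =>
      have : (⟨0, hI 0 (Submodule.zero_mem _)⟩ : I) = 0 := rfl
      rw [this, map_zero, map_zero, map_zero]
    | add a b ha hb iha ihb =>
      have : (⟨a + b, hI _ (Submodule.add_mem _ ha hb)⟩ : I) = ⟨a, hI a ha⟩ + ⟨b, hI b hb⟩ := rfl
      rw [this, map_add, map_add, map_add, iha, ihb]
    | smul r a ha iha =>
      have : (⟨r • a, hI _ (Submodule.smul_mem _ r ha)⟩ : I) = r • ⟨a, hI a ha⟩ := rfl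
      rw [this, map_smul, map_smul, map_smul, iha]
  have hinj : Module.Injective R ((i : F) → E i) := inferInstance
  obtain ⟨g', hg'⟩ := Module.Baer.of_injective hinj I (projF ∘ₗ g)
  refine ⟨inclF ∘ₗ g', fun x hx => ?_⟩
  rw [LinearMap.comp_apply, hg' x hx, LinearMap.comp_apply, hall x hx]

end Groth.Agent.S0300
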