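import Groth.Statements.S0307
import Groth.Agent.Lib.Helper2.MatlisDecomp

set_option autoImplicit false
universe u v
open InjHull

namespace Groth.Agent.S0307
open Groth.Agent.Lib.Helper2

open Classical in
/-- Over a Noetherian ring every injective module is an internal direct sum of indecomposable injective
submodules. -/
theorem result (R : Type u) [CommRing R] [IsNoetherianRing R] (I : Type u) [AddCommGroup I] [Module R I] (hI : Module.Injective R I) : ∃ (ι : Type u) (E : ι → Submodule R I), DirectSum.IsInternal E ∧ ∀ i, InjHull.IsIndecomposable R ↥(E i) ∧ Module.Injective R ↥(E i) := by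
  obtain ⟨S, hind, htop, hS⟩ := exists_sSupIndep_indecomposable hI
  refine ⟨↥S, fun i => i.1, ?_, fun i => hS i.1 i.2⟩
  have h2 : (⨆ i : ↥S, (i.1 : Submodule R I)) = ⊤ := by rw [← htop, sSup_eq_iSup']
  convert (DirectSum.isInternal_submodule_iff_iSupIndep_and_iSup_eq_top
    (fun i : ↥S => (i.1 : Submodule R I))).mpr ⟨(sSupIndep_iff S).mp hind, h2⟩

end Groth.Agent.S0307
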