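import Groth.Statements.S4696
import Groth.Agent.Lib.Helper73.GeomFibreComp

set_option maxSynthPendingDepth 3

set_option autoImplicit false
universe u
open EGA4

namespace Groth.Agent.S4696

/-- Case of normal morphisms, affine form: let A → B → C be homomorphisms of Noetherian rings. If A → B
and B → C are normal (flat, with geometrically normal fibres) then the composite A → C is normal. -/
theorem result (A B C : Type u) [CommRing A] [CommRing B] [CommRing C] [IsNoetherianRing A]
    [IsNoetherianRing B] [IsNoetherianRing C] [Algebra A B] [Algebra B C] [Algebra A C] [IsScalarTower A B C]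
    (hAB : EGA4.IsNormalHom A B) (hBC : EGA4.IsNormalHom B C) : EGA4.IsNormalHom A C := by
  obtain ⟨hflatAB, hfibAB⟩ := hAB
  obtain ⟨hflatBC, hfibBC⟩ := hBC
  refine ⟨Module.Flat.trans A B C, fun p _ => ?_⟩
  intro k' _ _ hfin
  have hB' := hfibAB p k' hfin
  have hNB : IsNoetherianRing (p.Fiber B) := Groth.Agent.Lib.Helper29.isNoetherianRing_fiber A B p
  have hNC : IsNoetherianRing (p.Fiber C) := Groth.Agent.Lib.Helper29.isNoetherianRing_fiber A C p
  exact Groth.Agent.Lib.Helper73.geomFibre_comp (fun R _ => EGA4.IsNormalRing R)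
    (fun R R' _ _ e h => Groth.Agent.Lib.Helper73.isNormalRing_of_ringEquiv e h)
    (fun R S _ _ _ _ _ _ hR hf => Groth.Agent.Lib.Helper73.isNormalRing_of_flat_of_fibers hR hf)
    A B C (fun q _ k'' _ _ hfin'' => hfibBC q k'' hfin'') p k' hfin hB'
    (Groth.Agent.Lib.Helper73.isNoetherianRing_tensor_of_finite _ k' _)
    (Groth.Agent.Lib.Helper73.isNoetherianRing_tensor_of_finite _ k' _)

end Groth.Agent.S4696
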