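import Groth.Statements.S4706
import Groth.Agent.Lib.Helper73.CplMap
import Groth.Agent.Lib.Helper73.RegularNormal
import Groth.Agent.S4696
import Groth.Agent.S19858

set_option maxSynthPendingDepth 3

set_option autoImplicit false
universe u
open EGA4

namespace Groth.Agent.S4706

/-- Let A → A' be a local homomorphism of Noetherian local rings which is normal (flat, with
geometrically normal fibres). If the completion map of A' is regular (the formal fibres of A' are
geometrically regular), then the formal fibres of A are geometrically normal. -/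
theorem result (A A' : Type u) [CommRing A] [CommRing A']
    [IsNoetherianRing A] [IsNoetherianRing A'] [IsLocalRing A] [IsLocalRing A'] [Algebra A A']
    [IsLocalHom (algebraMap A A')] (hf : EGA4.IsNormalHom A A') (hA' : CAlg.IsRegularHom A' (EGA4.Cpl A')) :
    EGA4.HasGeomNormalFormalFibres A := by
  classical
  have hflat : Module.Flat A A' := hf.1
  letI := Groth.Agent.Lib.Helper73.CplMap.cplAlgebra A A'
  have hN : IsNoetherianRing (EGA4.Cpl A') :=
    Groth.Agent.Lib.Helper73.CplMap.isNoetherianRing_cpl A'
  have hN0 : IsNoetherianRing (EGA4.Cpl A) :=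
    Groth.Agent.Lib.Helper73.CplMap.isNoetherianRing_cpl A
  have hA'n : EGA4.IsNormalHom A' (EGA4.Cpl A') := by
    refine ⟨hA'.1, fun p _ k' _ _ hfin => ?_⟩
    have h1 := (hA'.2 p).2 k' hfin
    exact Groth.Agent.Lib.Helper73.RegularNormal.isNormalRing_of_forall_isRegularLocalRing _
      (fun q _ => h1.isRegularLocalRing_localization q)
  have hAC : EGA4.IsNormalHom A (EGA4.Cpl A') :=
    Groth.Agent.S4696.result A A' (EGA4.Cpl A') hf hA'n
  have hfl := Groth.Agent.Lib.Helper73.CplMap.flat_cpl A A'
  have hff := Groth.Agent.Lib.Helper73.CplMap.faithfullyFlat_cpl A A'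
  have hres := Groth.Agent.S19858.result A (EGA4.Cpl A) (EGA4.Cpl A') hAC
  intro p _
  exact hres.2 p

end Groth.Agent.S4706
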