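import Mathlib
import Groth.Statements.S14433

set_option autoImplicit false
universe u
open Koszul3

namespace Groth.Agent.S14433

open CategoryTheory CategoryTheory.Limits CochainComplex HomComplex

section
variable {R : Type u} [CommRing R]

/-- `a` acts null-homotopically on `K`. -/
def NullH (K : CochainComplex (ModuleCat.{u} R) ℤ) (a : R) : Prop :=
  Nonempty (Homotopy (a • 𝟙 K) 0)

lemma nullH_zero (K : CochainComplex (ModuleCat.{u} R) ℤ) : NullH K 0 :=
  ⟨Homotopy.ofEq (zero_smul _ _)⟩

lemma nullH_add (K : CochainComplex (ModuleCat.{u} R) ℤ) {a b : R}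
    (ha : NullH K a) (hb : NullH K b) : NullH K (a + b) := by
  obtain ⟨h₁⟩ := ha
  obtain ⟨h₂⟩ := hb
  exact ⟨(Homotopy.ofEq (add_smul _ _ _)).trans ((h₁.add h₂).trans (Homotopy.ofEq (add_zero 0)))⟩

lemma nullH_smul (K : CochainComplex (ModuleCat.{u} R) ℤ) {a : R} (r : R)
    (ha : NullH K a) : NullH K (r • a) := by
  obtain ⟨h₁⟩ := ha
  exact ⟨(Homotopy.ofEq (by rw [smul_eq_mul, mul_smul])).trans
    ((h₁.smul r).trans (Homotopy.ofEq (smul_zero r)))⟩

/-- `f` is null-homotopic on the cone of `f • 𝟙`. -/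
lemma nullH_cone_self (K : CochainComplex (ModuleCat.{u} R) ℤ) (f : R) :
    NullH (mappingCone (f • 𝟙 K)) f := by
  refine ⟨mappingCone.descHomotopy _ _ _ 0 (mappingCone.inl (f • 𝟙 K)) ?_ ?_⟩
  · ext p q hpq
    simp
  · ext p
    simp

/-- null-homotopies propagate to cones. -/
lemma nullH_cone (K : CochainComplex (ModuleCat.{u} R) ℤ) (f : R) {a : R}
    (ha : NullH K a) : NullH (mappingCone (f • 𝟙 K)) a := by
  obtain ⟨h⟩ := ha
  obtain ⟨z, hz⟩ := Cochain.equivHomotopy _ _ h
  refine ⟨mappingCone.descHomotopy _ _ _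
    (-(z.comp (mappingCone.inl (f • 𝟙 K)) (show (-1 : ℤ) + (-1) = -2 by norm_num)))
    (z.comp (Cochain.ofHom (mappingCone.inr (f • 𝟙 K))) (add_zero _)) ?_ ?_⟩
  · rw [δ_neg, δ_comp z (mappingCone.inl (f • 𝟙 K)) (show (-1 : ℤ) + (-1) = -2 by norm_num)
      0 0 (-1) (by norm_num) (by norm_num) (by norm_num), mappingCone.δ_inl]
    simp only [Cochain.ofHom_zero, Cochain.comp_zero, add_zero] at hz ⊢
    rw [← hz]
    ext p q hpq
    simp
  · rw [δ_comp_ofHom, Cochain.ofHom_zero, add_zero] at *
    rw [← hz]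
    ext p
    simp

end

open CategoryTheory CategoryTheory.Limits in
theorem result {R : Type u} [CommRing R] (M : Type u) [AddCommGroup M] [Module R M]
    (xs : List R) (a : R) (ha : a ∈ Ideal.span {x | x ∈ xs}) :
    Nonempty (Homotopy (a • 𝟙 (CohIII.koszulCx (ModuleCat.of R M) xs)) 0) := by
  have key : ∀ (xs : List R) (x : R), x ∈ xs →
      NullH (CohIII.koszulCx (ModuleCat.of R M) xs) x := by
    intro xs
    induction xs with
    | nil => intro x hx; simp at hx
    | cons f fs ih =>
      intro x hx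
      rw [List.mem_cons] at hx
      rcases hx with rfl | hx
      · exact nullH_cone_self _ _
      · exact nullH_cone _ _ (ih x hx)
  change NullH _ a
  induction ha using Submodule.span_induction with
  | mem x hx => exact key xs x hx
  | zero => exact nullH_zero _
  | add x y _ _ hx hy => exact nullH_add _ hx hy
  | smul r x _ hx => exact nullH_smul _ r hx

end Groth.Agent.S14433
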