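import Groth.Statements.S18939
import Groth.Agent.Lib.Helper10.KoszulH1

set_option autoImplicit false
universe u
open LCI

namespace Groth.Agent.S18939

open Groth.Agent.Lib.Helper10.KoszulH1

/-- `H_1`-regularity of `(List.ofFn g).get` is that of `g`. -/
theorem isH1Regular_of_ofFn {A : Type u} [CommRing A] {r : ℕ} (g : Fin r → A)
    (h : CAlgX.IsH1Regular (List.ofFn g).get) : CAlgX.IsH1Regular g := by
  have key : ∀ (c : ℕ) (hc : c = r) (g' : Fin c → A), g' = g ∘ Fin.cast hc →
      CAlgX.IsH1Regular g' → CAlgX.IsH1Regular g := by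
    intro c hc g' hg' h'
    subst hc
    have : g' = g := by rw [hg']; rfl
    rw [← this]; exact h'
  refine key _ (List.length_ofFn) _ ?_ h
  funext i
  simp
  rfl

/-- Let R be a commutative ring, I a proper ideal of R and f_1, …, f_r a Koszul-regular sequence of
elements of I generating I. Then I/I² is a free R/I-module of rank r, with basis the classes of f_1,
…, f_r. -/
theorem result {R : Type u} [CommRing R] {I : Ideal R} (hI : I ≠ ⊤)
    (r : ℕ) (f : Fin r → I) (hf : LCI.IsKoszulRegularSeq R (List.ofFn (fun i => (f i : R))))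
    (hfI : Ideal.span (Set.range (fun i => (f i : R))) = I) :
    ∃ b : Module.Basis (Fin r) (R ⧸ I) I.Cotangent, ∀ i, b i = I.toCotangent (f i) := by
  classical
  set g : Fin r → R := fun i => (f i : R) with hg
  have hH1 : CAlgX.IsH1Regular g := isH1Regular_of_ofFn g (isH1Regular_of_isKoszulRegularSeq _ hf)
  have hli : LinearIndependent (R ⧸ I) (fun i => I.toCotangent (f i)) := by
    rw [Fintype.linearIndependent_iff]
    intro c hc i
    choose a ha using fun i => Ideal.Quotient.mk_surjective (c i)
    have h1 : I.toCotangent (∑ i, a i • f i) = 0 := by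
      rw [map_sum, ← hc]
      refine Finset.sum_congr rfl fun i _ => ?_
      rw [map_smul, ← ha i]
      rfl
    rw [Ideal.toCotangent_eq_zero] at h1
    have h2 : ∑ i, a i * g i ∈ Ideal.span (Set.range g) ^ 2 := by
      rw [hfI]
      convert h1 using 1
      simp [hg]
    have h3 := coeff_mem_of_isH1Regular g hH1 a h2 i
    rw [hfI] at h3
    rw [← ha i]
    exact Ideal.Quotient.eq_zero_iff_mem.2 h3
  have hsp : ⊤ ≤ Submodule.span (R ⧸ I) (Set.range fun i => I.toCotangent (f i)) := by
    intro x _
    obtain ⟨x, rfl⟩ := Ideal.toCotangent_surjective I x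
    have hx : (x : R) ∈ Ideal.span (Set.range g) := by rw [hfI]; exact x.2
    obtain ⟨a, ha⟩ := (Ideal.mem_span_range_iff_exists_fun).1 hx
    have hx' : x = ∑ i, a i • f i := by
      apply Subtype.ext
      rw [← ha]
      simp [hg]
    rw [hx', map_sum]
    refine Submodule.sum_mem _ fun i _ => ?_
    rw [map_smul]
    have : a i • I.toCotangent (f i) = (Ideal.Quotient.mk I (a i)) • I.toCotangent (f i) := rfl
    rw [this]
    exact Submodule.smul_mem _ _ (Submodule.subset_span ⟨i, rfl⟩)
  exact ⟨Module.Basis.mk hli hsp, fun i => by simp⟩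

end Groth.Agent.S18939
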