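import Groth.Statements.S2044
import Groth.Agent.Lib.Helper9.Hens.ProjLiftEtale

set_option autoImplicit false
universe u
open CAlg

namespace Groth.Agent.S2044

open TensorProduct in
/-- Let `I ⊆ A` be an ideal and `P` a finite projective `A/I`-module. Then there is an étale `A`-algebra
`A'` with `A/I → A'/IA'` bijective and a finite projective `A'`-module whose reduction modulo `IA'`
is the base change of `P`. -/
theorem result {A : Type u} [CommRing A] (I : Ideal A) (P : Type u)
    [AddCommGroup P] [Module (A ⧸ I) P] [Module.Finite (A ⧸ I) P] [Module.Projective (A ⧸ I) P] :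
    ∃ (A' : Type u) (_ : CommRing A') (_ : Algebra A A'), Algebra.Etale A A' ∧
      Function.Bijective (algebraMap (A ⧸ I) (A' ⧸ I.map (algebraMap A A'))) ∧
      ∃ (P' : Type u) (_ : AddCommGroup P') (_ : Module A' P'), Module.Finite A' P' ∧
        Module.Projective A' P' ∧
        Nonempty (((A' ⧸ I.map (algebraMap A A')) ⊗[A'] P') ≃ₗ[A' ⧸ I.map (algebraMap A A')]
          ((A' ⧸ I.map (algebraMap A A')) ⊗[A ⧸ I] P)) := by
  classical
  obtain ⟨n, p, hp⟩ := Module.Finite.exists_fin' (A ⧸ I) P
  obtain ⟨s, hs⟩ := Module.projective_lifting_property p LinearMap.id hp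
  have hs' : ∀ q, p (s q) = q := fun q => congr($hs q)
  let eb : Module.End (A ⧸ I) (Fin n → A ⧸ I) := s ∘ₗ p
  have hebx : ∀ x, eb (eb x) = eb x := by
    intro x
    show s (p (s (p x))) = s (p x)
    rw [hs']
  have heb : eb * eb = eb := LinearMap.ext hebx
  have hsinj : Function.Injective s := Function.LeftInverse.injective hs'
  have hrange : LinearMap.range s = LinearMap.range eb := by
    apply le_antisymm
    · rintro _ ⟨q, rfl⟩
      exact ⟨s q, by show s (p (s q)) = s q; rw [hs']⟩
    · rintro _ ⟨x, rfl⟩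
      exact ⟨p x, rfl⟩
  let eP : P ≃ₗ[A ⧸ I] LinearMap.range eb :=
    (LinearEquiv.ofInjective s hsinj).trans (LinearEquiv.ofEq _ _ hrange)
  let mb := LinearMap.toMatrix' eb
  have hmb : mb * mb = mb := by
    rw [← LinearMap.toMatrix'_mul, heb]
  obtain ⟨A', _, _, hEt, hbij, Z, hZZ, hZ⟩ :=
    Groth.Agent.Lib.Helper9.exists_etale_idempotent_matrix_lift I mb hmb
  let e' : Module.End A' (Fin n → A') := Matrix.toLin' Z
  have he' : e' * e' = e' := by
    show Matrix.toLin' Z * Matrix.toLin' Z = Matrix.toLin' Z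
    rw [Module.End.mul_eq_comp, ← Matrix.toLin'_mul, hZZ]
  have he'x : ∀ x, e' (e' x) = e' x := fun x => congr($he' x)
  refine ⟨A', inferInstance, inferInstance, hEt, hbij, LinearMap.range e', inferInstance,
    inferInstance, Module.Finite.range e', ?_, ?_⟩
  · refine Module.Projective.of_split (LinearMap.range e').subtype e'.rangeRestrict ?_
    ext ⟨_, ⟨y, rfl⟩⟩ : 2
    simp [he'x]
  · obtain ⟨φ₁⟩ := Groth.Agent.Lib.Helper9.nonempty_tensorRangeEquiv
      (A' ⧸ I.map (algebraMap A A')) e' he'
    obtain ⟨φ₂⟩ := Groth.Agent.Lib.Helper9.nonempty_tensorRangeEquiv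
      (A' ⧸ I.map (algebraMap A A')) eb heb
    have hend : Groth.Agent.Lib.Helper9.endBaseChange (A' ⧸ I.map (algebraMap A A')) e' =
        Groth.Agent.Lib.Helper9.endBaseChange (A' ⧸ I.map (algebraMap A A')) eb := by
      apply LinearMap.pi_ext
      intro j x
      have hx : (Pi.single j x : Fin n → A' ⧸ I.map (algebraMap A A')) =
          x • Pi.single j 1 := by
        ext i
        simp [Pi.single_apply]
      rw [hx, map_smul, map_smul]
      congr 1
      ext i
      rw [Groth.Agent.Lib.Helper9.endBaseChange_single,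
        Groth.Agent.Lib.Helper9.endBaseChange_single]
      have h1 : e' (Pi.single j 1) i = Z i j := by
        show Matrix.toLin' Z (Pi.single j 1) i = Z i j
        rw [Matrix.toLin'_apply, Matrix.mulVec_single_one]
        rfl
      have h2 : eb (Pi.single j 1) i = mb i j := (LinearMap.toMatrix'_apply eb i j).symm
      rw [h1, h2]
      exact congrFun (congrFun hZ i) j
    exact ⟨φ₁.trans ((LinearEquiv.ofEq _ _ (by rw [hend])).trans
      (φ₂.symm.trans (LinearEquiv.baseChange _ _ _ _ eP.symm)))⟩

end Groth.Agent.S2044
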