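import Groth.Statements.S17979
import Mathlib

set_option autoImplicit false
universe u
open Hensel

namespace Groth.Agent.S17979.Aux

open Polynomial

theorem foo (A : Type u) [CommRing A] [IsLocalRing A]
    (Q R : Polynomial A) (hQ : Q.Monic)
    (h : IsCoprime (Polynomial.map (IsLocalRing.residue A) Q) (Polynomial.map (IsLocalRing.residue A) R)) :
    IsCoprime Q R := by
  classical
  rw [← Ideal.isCoprime_span_singleton_iff, Ideal.isCoprime_iff_sup_eq]
  set I : Ideal (Polynomial A) := Ideal.span {Q} ⊔ Ideal.span {R} with hI
  -- M = A[X]/I is a finite A-module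
  have hle : Ideal.span {Q} ≤ I := le_sup_left
  have : Module.Finite A (AdjoinRoot Q) := hQ.finite_adjoinRoot
  let φ : AdjoinRoot Q →ₐ[A] (A[X] ⧸ I) := Ideal.Quotient.factorₐ A hle
  have hφ : Function.Surjective φ := Ideal.Quotient.factor_surjective hle
  have : Module.Finite A (A[X] ⧸ I) := Module.Finite.of_surjective φ.toLinearMap hφ
  -- Nakayama
  have key : (⊤ : Submodule A (A[X] ⧸ I)) = ⊥ := by
    apply Submodule.eq_bot_of_le_smul_of_le_jacobson_bot (IsLocalRing.maximalIdeal A) ⊤
      Module.Finite.fg_top
    · -- ⊤ ≤ m • ⊤
      obtain ⟨a, b, hab⟩ := h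
      obtain ⟨a', rfl⟩ := Polynomial.map_surjective (IsLocalRing.residue A) IsLocalRing.residue_surjective a
      obtain ⟨b', rfl⟩ := Polynomial.map_surjective (IsLocalRing.residue A) IsLocalRing.residue_surjective b
      have hmem : (1 - (a' * Q + b' * R)) ∈ RingHom.ker (mapRingHom (IsLocalRing.residue A)) := by
        rw [RingHom.mem_ker]
        simp only [coe_mapRingHom, Polynomial.map_sub, Polynomial.map_one, Polynomial.map_add,
          Polynomial.map_mul, hab, sub_self]
      rw [ker_mapRingHom, IsLocalRing.ker_residue] at hmem
      have h1 : (Ideal.Quotient.mk I (1 - (a' * Q + b' * R))) = 1 := by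
        rw [map_sub, map_one, sub_eq_self, Ideal.Quotient.eq_zero_iff_mem]
        apply Ideal.add_mem
        · exact Ideal.mul_mem_left _ _ (hle (Ideal.mem_span_singleton_self Q))
        · exact Ideal.mul_mem_left _ _ (le_sup_right (a := Ideal.span {Q}) (Ideal.mem_span_singleton_self R))
      -- elements of map C m map into m • ⊤
      have h2 : ∀ p ∈ Ideal.map C (IsLocalRing.maximalIdeal A),
          Ideal.Quotient.mk I p ∈ (IsLocalRing.maximalIdeal A) • (⊤ : Submodule A (A[X] ⧸ I)) := by
        intro p hp
        refine Submodule.span_induction ?_ ?_ ?_ ?_ hp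
        · rintro _ ⟨x, hx, rfl⟩
          have : Ideal.Quotient.mk I (C x) = x • (1 : A[X] ⧸ I) := by
            rw [Algebra.smul_def, mul_one]; rfl
          rw [this]
          exact Submodule.smul_mem_smul hx Submodule.mem_top
        · simp
        · intro x y _ _ hx hy
          rw [map_add]; exact Submodule.add_mem _ hx hy
        · intro c x _ hx
          rw [smul_eq_mul, map_mul]
          -- (mk c) * y with y ∈ m • ⊤ 
          refine Submodule.smul_induction_on hx ?_ ?_
          · intro r hr n _
            rw [mul_smul_comm]
            exact Submodule.smul_mem_smul hr Submodule.mem_top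
          · intro x y hx hy
            rw [mul_add]; exact Submodule.add_mem _ hx hy
      intro x _
      have : x = x * 1 := (mul_one x).symm
      rw [this, ← h1]
      have h3 := h2 _ hmem
      refine Submodule.smul_induction_on h3 ?_ ?_
      · intro r hr n _
        rw [mul_smul_comm]
        exact Submodule.smul_mem_smul hr Submodule.mem_top
      · intro x y hx hy
        rw [mul_add]; exact Submodule.add_mem _ hx hy
    · rw [IsLocalRing.jacobson_eq_maximalIdeal ⊥ bot_ne_top]
  -- conclude
  have : (1 : A[X] ⧸ I) = 0 := by
    have : (1 : A[X] ⧸ I) ∈ (⊤ : Submodule A (A[X] ⧸ I)) := Submodule.mem_top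
    rw [key] at this
    simpa using this
  rw [← map_one (Ideal.Quotient.mk I), Ideal.Quotient.eq_zero_iff_mem] at this
  exact (Ideal.eq_top_iff_one I).mpr this

end Groth.Agent.S17979.Aux

namespace Groth.Agent.S17979

/-- Let A be a local ring with residue field k and Q, R polynomials over A with Q monic. If the images
of Q and R in k[T] generate the unit ideal, then Q and R already generate the unit ideal of A[T]. -/
theorem result (A : Type u) [CommRing A] [IsLocalRing A]
    (Q R : Polynomial A) (hQ : Q.Monic)
    (h : IsCoprime (Polynomial.map (IsLocalRing.residue A) Q) (Polynomial.map (IsLocalRing.residue A) R)) :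
    IsCoprime Q R := by
  exact Aux.foo A Q R hQ h

end Groth.Agent.S17979
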