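import Groth.Statements.S12216
import Mathlib.Algebra.Central.Basic
import Mathlib.Algebra.Central.Matrix
import Mathlib.Algebra.Central.TensorProduct
import Mathlib.RingTheory.SimpleRing.Congr
import Mathlib.RingTheory.SimpleRing.Matrix
import Mathlib.RingTheory.SimpleModule.IsAlgClosed
import Mathlib.RingTheory.TensorProduct.Free
import Mathlib.LinearAlgebra.Basis.VectorSpace
import Mathlib.RingTheory.Flat.Basic

set_option autoImplicit false
universe u v w
open scoped TensorProduct
open Curves

namespace Groth.Agent.S12216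

section main
variable {K : Type u} [Field K] {A : Type v} [Ring A] [Algebra K A]
  {L : Type w} [Field L] [Algebra K L] {J : Type w} (e : Module.Basis J K L)

/-- coordinates with respect to the `A`-basis `1 ⊗ e j` -/
noncomputable def crd (j : J) (w : A ⊗[K] L) : A := (Algebra.TensorProduct.basis A e).repr w j

theorem crd_tmul (j : J) (a : A) (l : L) : crd e j (a ⊗ₜ[K] l) = a * algebraMap K A (e.repr l j) := by
  simp [crd, Algebra.TensorProduct.basis_repr_tmul]

theorem crd_add (j : J) (w w' : A ⊗[K] L) : crd e j (w + w') = crd e j w + crd e j w' := by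
  simp [crd]

theorem crd_zero (j : J) : crd e j (0 : A ⊗[K] L) = 0 := by simp [crd]

theorem crd_neg (j : J) (w : A ⊗[K] L) : crd e j (-w) = - crd e j w := by simp [crd]

theorem crd_sub (j : J) (w w' : A ⊗[K] L) : crd e j (w - w') = crd e j w - crd e j w' := by
  simp [crd]

theorem crd_mul_left (j : J) (x : A) (w : A ⊗[K] L) :
    crd e j ((x ⊗ₜ[K] (1 : L)) * w) = x * crd e j w := by
  induction w using TensorProduct.induction_on with
  | zero => simp [crd_zero]
  | tmul a l => simp [crd_tmul, mul_assoc]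
  | add w w' h h' => rw [mul_add, crd_add, crd_add, h, h', mul_add]

theorem crd_mul_right (j : J) (y : A) (w : A ⊗[K] L) :
    crd e j (w * (y ⊗ₜ[K] (1 : L))) = crd e j w * y := by
  induction w using TensorProduct.induction_on with
  | zero => simp [crd_zero]
  | tmul a l =>
    simp only [Algebra.TensorProduct.tmul_mul_tmul, mul_one, crd_tmul, mul_assoc]
    rw [Algebra.commutes]
  | add w w' h h' => rw [add_mul, crd_add, crd_add, h, h', add_mul]

theorem eq_zero_of_crd (w : A ⊗[K] L) (h : ∀ j, crd e j w = 0) : w = 0 := by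
  apply (Algebra.TensorProduct.basis A e).repr.injective
  ext j
  simpa [crd] using h j

theorem mem_range_of_crd (w : A ⊗[K] L) (h : ∀ j, crd e j w ∈ (algebraMap K A).range) :
    ∃ l : L, w = (1 : A) ⊗ₜ[K] l := by
  have hw := (Algebra.TensorProduct.basis A e).linearCombination_repr w
  let S : Submodule K (A ⊗[K] L) :=
    LinearMap.range (Algebra.TensorProduct.includeRight (R := K) (A := A) (B := L)).toLinearMap
  suffices hS : w ∈ S by
    obtain ⟨l, hl⟩ := hS
    exact ⟨l, hl.symm⟩
  rw [← hw, Finsupp.linearCombination_apply, Finsupp.sum]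
  apply Submodule.sum_mem
  intro j _
  obtain ⟨t, ht⟩ := h j
  refine ⟨t • e j, ?_⟩
  have : (Algebra.TensorProduct.basis A e).repr w j = algebraMap K A t := ht.symm
  rw [this, Algebra.TensorProduct.basis_repr_symm_apply']
  simp [Algebra.algebraMap_eq_smul_one, TensorProduct.smul_tmul]

open Classical in
/-- Main lemma: a central simple algebra tensored with a field extension is simple. -/
theorem one_mem_of_mem [Algebra.IsCentral K A] [IsSimpleRing A] (I : TwoSidedIdeal (A ⊗[K] L)) :
    ∀ (s : Finset J) (w : A ⊗[K] L), w ∈ I → w ≠ 0 → (∀ j, j ∉ s → crd e j w = 0) →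
      (1 : A ⊗[K] L) ∈ I := by
  intro s
  induction s using Finset.strongInduction with
  | H s ih =>
    intro w hwI hw0 hws
    -- pick a nonzero coordinate
    obtain ⟨j0, hj0⟩ : ∃ j, crd e j w ≠ 0 := by
      by_contra hcon
      push Not at hcon
      exact hw0 (eq_zero_of_crd e w hcon)
    have hj0s : j0 ∈ s := by
      by_contra hn
      exact hj0 (hws j0 hn)
    -- the two-sided ideal of possible j0-coordinates
    let T : TwoSidedIdeal A := TwoSidedIdeal.mk'
      {a | ∃ w' ∈ I, (∀ j, j ∉ s → crd e j w' = 0) ∧ crd e j0 w' = a}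
      ⟨0, I.zero_mem, fun j _ => crd_zero e j, crd_zero e j0⟩
      (by
        rintro a b ⟨w1, h1, h1s, rfl⟩ ⟨w2, h2, h2s, rfl⟩
        exact ⟨w1 + w2, I.add_mem h1 h2, fun j hj => by rw [crd_add, h1s j hj, h2s j hj, add_zero],
          crd_add e j0 w1 w2⟩)
      (by
        rintro a ⟨w1, h1, h1s, rfl⟩
        exact ⟨-w1, I.neg_mem h1, fun j hj => by rw [crd_neg, h1s j hj, neg_zero], crd_neg e j0 w1⟩)
      (by
        rintro x a ⟨w1, h1, h1s, rfl⟩
        exact ⟨(x ⊗ₜ[K] (1 : L)) * w1, I.mul_mem_left _ _ h1,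
          fun j hj => by rw [crd_mul_left, h1s j hj, mul_zero], crd_mul_left e j0 x w1⟩)
      (by
        rintro a y ⟨w1, h1, h1s, rfl⟩
        exact ⟨w1 * (y ⊗ₜ[K] (1 : L)), I.mul_mem_right _ _ h1,
          fun j hj => by rw [crd_mul_right, h1s j hj, zero_mul], crd_mul_right e j0 y w1⟩)
    have hT : crd e j0 w ∈ T := by
      rw [TwoSidedIdeal.mem_mk']
      exact ⟨w, hwI, hws, rfl⟩
    have h1T : (1 : A) ∈ T := IsSimpleRing.one_mem_of_ne_zero_mem T hj0 hT
    rw [TwoSidedIdeal.mem_mk'] at h1T
    obtain ⟨w', hw'I, hw's, hw'1⟩ := h1T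
    by_cases hcomm : ∀ a : A, (a ⊗ₜ[K] (1 : L)) * w' - w' * (a ⊗ₜ[K] (1 : L)) = 0
    · -- all coordinates central
      have hcen : ∀ j, crd e j w' ∈ (algebraMap K A).range := by
        intro j
        have hc : crd e j w' ∈ Subalgebra.center K A := by
          rw [Subalgebra.mem_center_iff]
          intro a
          have := congrArg (crd e j) (hcomm a)
          rw [crd_sub, crd_mul_left, crd_mul_right, crd_zero, sub_eq_zero] at this
          exact this
        obtain ⟨t, ht⟩ := (Algebra.IsCentral.mem_center_iff K).mp hc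
        exact ⟨t, ht.symm⟩
      obtain ⟨l, hl⟩ := mem_range_of_crd e w' hcen
      have hl0 : l ≠ 0 := by
        rintro rfl
        rw [TensorProduct.tmul_zero] at hl
        rw [hl, crd_zero] at hw'1
        exact zero_ne_one hw'1
      have : ((1 : A) ⊗ₜ[K] l⁻¹) * w' ∈ I := I.mul_mem_left _ _ hw'I
      rw [hl, Algebra.TensorProduct.tmul_mul_tmul, inv_mul_cancel₀ hl0, mul_one] at this
      exact this
    · push Not at hcomm
      obtain ⟨a, ha⟩ := hcomm
      refine ih (s.erase j0) (Finset.erase_ssubset hj0s) _ ?_ ha ?_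
      · exact I.sub_mem (I.mul_mem_left _ _ hw'I) (I.mul_mem_right _ _ hw'I)
      · intro j hj
        rw [crd_sub, crd_mul_left, crd_mul_right]
        by_cases hjj : j = j0
        · subst hjj
          rw [hw'1, mul_one, one_mul, sub_self]
        · have : j ∉ s := fun h => hj (Finset.mem_erase.mpr ⟨hjj, h⟩)
          rw [hw's j this, mul_zero, zero_mul, sub_zero]

theorem isSimpleRing_tensor [Algebra.IsCentral K A] [IsSimpleRing A] : IsSimpleRing (A ⊗[K] L) := by
  have : Nontrivial (A ⊗[K] L) := by
    have hinj : Function.Injective (Algebra.TensorProduct.includeLeft (R := K) (S := K) (A := A) (B := L)) :=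
      Algebra.TensorProduct.includeLeft_injective (S := K) (FaithfulSMul.algebraMap_injective K L)
    exact hinj.nontrivial
  refine IsSimpleRing.of_eq_bot_or_eq_top fun I => ?_
  by_cases hI : I = ⊥
  · exact Or.inl hI
  right
  obtain ⟨w, hwI, hw0⟩ : ∃ w ∈ I, w ≠ 0 := by
    by_contra hcon
    push Not at hcon
    apply hI
    rw [eq_bot_iff]
    intro x hx
    rw [hcon x hx]
    exact TwoSidedIdeal.zero_mem _
  have e : Module.Basis (Module.Basis.ofVectorSpaceIndex K L) K L := Module.Basis.ofVectorSpace K L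
  have h1 := one_mem_of_mem e I ((Algebra.TensorProduct.basis A e).repr w).support w hwI hw0
    (fun j hj => by simpa [crd] using hj)
  exact (TwoSidedIdeal.one_mem_iff I).mp h1

end main

section converse
variable {K : Type u} [Field K] {A : Type v} [Ring A] [Algebra K A]
  {L : Type w} [Field L] [Algebra K L]

theorem includeRight_inj : Function.Injective (fun a : A => (1 : L) ⊗ₜ[K] a) :=
  Algebra.TensorProduct.includeRight_injective (R := K) (A := L) (B := A)
    (FaithfulSMul.algebraMap_injective K L)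

theorem isCentral_of_tensor [Algebra.IsCentral L (L ⊗[K] A)] : Algebra.IsCentral K A := by
  obtain ⟨g, hg⟩ := LinearMap.exists_leftInverse_of_injective (Algebra.linearMap K L)
    (LinearMap.ker_eq_bot.mpr (FaithfulSMul.algebraMap_injective K L))
  have hg1 : g 1 = 1 := by
    have := LinearMap.congr_fun hg 1
    simpa using this
  let ψ : L ⊗[K] A →ₗ[K] A := (TensorProduct.lid K A).toLinearMap ∘ₗ (LinearMap.rTensor A g)
  have hψ : ∀ (l : L) (a : A), ψ (l ⊗ₜ[K] a) = g l • a := fun l a => by simp [ψ]
  refine ⟨fun z hz => ?_⟩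
  have hz' : (1 : L) ⊗ₜ[K] z ∈ Subalgebra.center L (L ⊗[K] A) := by
    have := Algebra.TensorProduct.includeRight_map_center_le K L A ⟨z, hz, rfl⟩
    rw [Subalgebra.mem_center_iff] at this ⊢
    exact this
  obtain ⟨t, ht⟩ := (Algebra.IsCentral.mem_center_iff L).mp hz'
  rw [Algebra.TensorProduct.algebraMap_apply, Algebra.algebraMap_self_apply] at ht
  have := congrArg ψ ht
  rw [hψ, hψ, hg1, one_smul] at this
  rw [Algebra.mem_bot]
  exact ⟨g t, by rw [this, Algebra.algebraMap_eq_smul_one]⟩

theorem isSimpleRing_of_tensor [IsSimpleRing (L ⊗[K] A)] : IsSimpleRing A := by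
  have : Nontrivial A := by
    by_contra hn
    rw [not_nontrivial_iff_subsingleton] at hn
    have : Subsingleton (L ⊗[K] A) := by
      refine ⟨fun x y => ?_⟩
      have h0 : ∀ x : L ⊗[K] A, x = 0 := fun x => by
        induction x using TensorProduct.induction_on with
        | zero => rfl
        | tmul l a => rw [Subsingleton.elim a 0, TensorProduct.tmul_zero]
        | add x y hx hy => rw [hx, hy, add_zero]
      rw [h0 x, h0 y]
    exact not_subsingleton (L ⊗[K] A) this
  refine IsSimpleRing.of_eq_bot_or_eq_top fun I => ?_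
  let q : A →ₐ[K] I.ringCon.Quotient := I.ringCon.mkₐ K
  let Q : L ⊗[K] A →ₐ[L] L ⊗[K] I.ringCon.Quotient := Algebra.TensorProduct.map (AlgHom.id L L) q
  rcases IsSimpleRing.injective_ringHom_or_subsingleton_codomain Q.toRingHom with hinj | hsub
  · left
    rw [eq_bot_iff]
    intro a ha
    have hqa : q a = 0 := by
      have : a ∈ TwoSidedIdeal.ker I.ringCon.mk' := by rw [TwoSidedIdeal.ker_ringCon_mk']; exact ha
      exact (TwoSidedIdeal.mem_ker _).mp this
    have h1 : Q ((1 : L) ⊗ₜ[K] a) = 0 := by
      simp [Q, hqa]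
    have h2 : (1 : L) ⊗ₜ[K] a = 0 := hinj (by simpa using h1)
    have h3 : a = 0 := includeRight_inj (K := K) (L := L) (by simpa using h2)
    rw [h3]
    exact TwoSidedIdeal.zero_mem _
  · right
    have h1 : (1 : L) ⊗ₜ[K] (q 1) = (1 : L) ⊗ₜ[K] (0 : I.ringCon.Quotient) := Subsingleton.elim _ _
    have h2 : q 1 = 0 := includeRight_inj (K := K) (L := L) h1
    have h3 : (1 : A) ∈ TwoSidedIdeal.ker I.ringCon.mk' := (TwoSidedIdeal.mem_ker _).mpr h2
    rw [TwoSidedIdeal.ker_ringCon_mk'] at h3
    exact (TwoSidedIdeal.one_mem_iff I).mp h3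

end converse

/-- (1) ⇔ (3): a K-algebra A is finite central simple over the field K (finite-dimensional, with centre
K and no non-trivial two-sided ideals) if and only if, for an algebraic closure K̄ of K, the
K̄-algebra K̄ ⊗_K A is isomorphic to a matrix algebra Mat(d × d, K̄) for some d ≥ 1. -/
theorem result (K : Type u) [Field K] (A : Type v) [Ring A] [Algebra K A] :
    (Algebra.IsCentral K A ∧ IsSimpleRing A ∧ FiniteDimensional K A) ↔
      Curves.Splits K A (AlgebraicClosure K) := by
  constructor
  · rintro ⟨hC, hS, hF⟩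
    have h1 : IsSimpleRing (A ⊗[K] AlgebraicClosure K) := isSimpleRing_tensor
    have h2 : IsSimpleRing (AlgebraicClosure K ⊗[K] A) :=
      IsSimpleRing.of_ringEquiv (Algebra.TensorProduct.comm K A (AlgebraicClosure K)).toRingEquiv h1
    obtain ⟨n, hn, ⟨φ⟩⟩ := IsSimpleRing.exists_algEquiv_matrix_of_isAlgClosed
      (AlgebraicClosure K) (AlgebraicClosure K ⊗[K] A)
    exact ⟨n, NeZero.ne n, ⟨φ⟩⟩
  · rintro ⟨n, hn, ⟨φ⟩⟩
    have : NeZero n := ⟨hn⟩
    have hS : IsSimpleRing (AlgebraicClosure K ⊗[K] A) :=
      IsSimpleRing.of_ringEquiv φ.symm.toRingEquiv inferInstance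
    have hC : Algebra.IsCentral (AlgebraicClosure K) (AlgebraicClosure K ⊗[K] A) := by
      refine ⟨fun z hz => ?_⟩
      have hz' : φ z ∈ Subalgebra.center (AlgebraicClosure K)
          (Matrix (Fin n) (Fin n) (AlgebraicClosure K)) := by
        rw [Subalgebra.mem_center_iff] at hz ⊢
        intro b
        have := congrArg φ (hz (φ.symm b))
        simpa using this
      obtain ⟨t, ht⟩ := (Algebra.IsCentral.mem_center_iff (AlgebraicClosure K)).mp hz'
      rw [Algebra.mem_bot]
      refine ⟨t, ?_⟩
      apply φ.injective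
      rw [ht, AlgEquiv.commutes]
    refine ⟨isCentral_of_tensor (L := AlgebraicClosure K), isSimpleRing_of_tensor (K := K) (L := AlgebraicClosure K), ?_⟩
    have hfin : Module.Finite (AlgebraicClosure K) (AlgebraicClosure K ⊗[K] A) :=
      Module.Finite.equiv φ.symm.toLinearEquiv
    rw [← Module.rank_lt_aleph0_iff] at hfin
    rw [Module.rank_baseChange] at hfin
    show Module.Finite K A
    rw [← Module.rank_lt_aleph0_iff]
    simpa using hfin

end Groth.Agent.S12216
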