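import Groth.Statements.S6892
import Mathlib
import Groth.Agent.Lib.Helper10.Fitting
-- import your own Groth.Agent.* helpers here

set_option autoImplicit false
universe u
open Fitt

namespace Groth.Agent.S6892

open Groth.Agent.Lib.Helper10.Fitting

/-- Let `M` be a finite `R`-module. When `n` elements generate `M` one has `Fit_n(M) = R`; when `M` is
of finite presentation every `Fit_k(M)` is finitely generated as an ideal; and a surjection `M → M'`
onto another module gives `Fit_k(M) ⊆ Fit_k(M')` for every `k`. -/
theorem result {R : Type u} [CommRing R] (M M' : Type u) [AddCommGroup M]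
    [Module R M] [Module.Finite R M] [AddCommGroup M'] [Module R M'] (k : ℕ) :
    (∀ (n : ℕ) (x : Fin n → M), Submodule.span R (Set.range x) = ⊤ → Fitt.ideal R M n = ⊤) ∧
    (Module.FinitePresentation R M → (Fitt.ideal R M k).FG) ∧
    (∀ f : M →ₗ[R] M', Function.Surjective f → Fitt.ideal R M k ≤ Fitt.ideal R M' k) := by
  classical
  refine ⟨?_, ?_, ?_⟩
  · intro n x hx
    rw [Ideal.eq_top_iff_one]
    have h := det_mem_fitt x hx n (1 : Matrix (Fin n) (Fin n) R) (by
      intro i hi
      simp at hi)
    rwa [Matrix.det_one] at h
  · intro hfp
    obtain ⟨n, x, hx⟩ := Module.Finite.exists_fin (R := R) (M := M)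
    rw [fitt_eq_G x hx k]
    have hsurj : Function.Surjective (Fintype.linearCombination R x) := by
      rw [← LinearMap.range_eq_top, Fintype.range_linearCombination, hx]
    have hfg : (Rel R x).FG := Module.FinitePresentation.fg_ker _ hsurj
    obtain ⟨S, hS⟩ := hfg
    let T : Finset (Fin n → R) := S ∪ Finset.univ.image (fun j => (Pi.single j 1 : Fin n → R))
    let 𝒜 : Finset (Fin n → Fin n → R) :=
      (Fintype.piFinset (fun _ : Fin n => T)).filter
        (fun a => (Finset.univ.filter fun i => a i ∉ S).card ≤ k)
    have hG : G R x k = Ideal.span ((𝒜.image (fun a => Matrix.det (Matrix.of a)) : Finset R) : Set R) := by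
      apply le_antisymm
      · apply G_le_of_rel_le_span x k (↑S) (by rw [hS])
        intro a ha1 ha2
        apply Ideal.subset_span
        rw [Finset.mem_coe, Finset.mem_image]
        refine ⟨a, ?_, rfl⟩
        rw [Finset.mem_filter, Fintype.mem_piFinset]
        refine ⟨fun i => ?_, ?_⟩
        · rcases ha1 i with h | ⟨j, hj⟩
          · exact Finset.mem_union_left _ h
          · apply Finset.mem_union_right
            rw [Finset.mem_image]
            exact ⟨j, Finset.mem_univ j, hj.symm⟩
        · simpa using ha2
      · rw [Ideal.span_le]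
        intro d hd
        rw [Finset.mem_coe, Finset.mem_image] at hd
        obtain ⟨a, ha, rfl⟩ := hd
        rw [Finset.mem_filter] at ha
        apply det_mem_G
        refine le_trans ?_ ha.2
        unfold nonRelCard
        apply Finset.card_le_card
        intro i hi
        rw [Finset.mem_filter] at hi ⊢
        refine ⟨hi.1, fun hmem => hi.2 ?_⟩
        rw [← hS]
        exact Submodule.subset_span hmem
    rw [hG]
    exact ⟨_, rfl⟩
  · intro f hf
    unfold Fitt.ideal
    rw [Ideal.span_le]
    rintro d ⟨n, x, a, hx, ha, rfl⟩
    apply Ideal.subset_span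
    refine ⟨n, f ∘ x, a, ?_, ?_, rfl⟩
    · rw [Set.range_comp, ← Submodule.map_span, hx, Submodule.map_top, LinearMap.range_eq_top]
      exact hf
    · intro i hi
      have := ha i hi
      simp only [Function.comp_apply]
      rw [← map_zero f, ← this, map_sum]
      apply Finset.sum_congr rfl
      intro j _
      rw [map_smul]

end Groth.Agent.S6892
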