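import Groth.Statements.S6947
import Groth.Agent.Lib.Helper35.TorRestr

set_option autoImplicit false
universe u
open CategoryTheory CategoryTheory.Limits
attribute [local instance] HasDerivedCategory.standard
open DRing

namespace Groth.Agent.S6947

/-- Let A → B be a homomorphism of commutative rings such that B, as an A-module, has tor dimension at
most d: B[0] is isomorphic in D(A) to a complex of flat A-modules vanishing outside [-d, 0]. Let K
be an object of D(B) with tor amplitude in [a, b] over B. Then K, with scalars restricted to A, has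
tor amplitude in [a - d, b] over A. -/
theorem result {A B : Type u} [CommRing A] [CommRing B]
    [Algebra A B] (d : ℕ) (hB : DRing.HasTorAmplitudeIn A (-(d : ℤ)) 0 (Dual.inD A B)) (K : Dual.D B)
    (a b : ℤ) (hK : DRing.HasTorAmplitudeIn B a b K) :
    DRing.HasTorAmplitudeIn A (a - d) b ((DRing.restrictD (algebraMap A B)).obj K) := by
  have hB' : Groth.Agent.Lib.Helper35.TA.TD d (ModuleCat.of A B) :=
    (Groth.Agent.Lib.Helper35.TA.TD_iff_TAmp d _).2 hB
  obtain ⟨E, hv, hfl, ⟨e⟩⟩ := hK
  let E' : DRing.Cx A := ((ModuleCat.restrictScalars.{u} (algebraMap A B)).mapHomologicalComplex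
    (ComplexShape.up ℤ)).obj E
  have e' : DRing.toD E' ≅ (DRing.restrictD (algebraMap A B)).obj K :=
    ((ModuleCat.restrictScalars.{u} (algebraMap A B)).mapDerivedCategoryFactors.app E).symm ≪≫
      (DRing.restrictD (algebraMap A B)).mapIso e
  refine Groth.Agent.Lib.Helper35.TA.TAmp.of_iso ?_ e'
  refine Groth.Agent.Lib.Helper35.TA.TAmp.of_bounded_termwise (a - d) b E' a b
    (fun i hi => CategoryTheory.Functor.map_isZero
      (ModuleCat.restrictScalars.{u} (algebraMap A B)) (hv i hi)) (fun i => ?_)
  by_cases hi : a ≤ i ∧ i ≤ b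
  · have := hfl i
    have h1 : Groth.Agent.Lib.Helper35.TA.TD d
        ((ModuleCat.restrictScalars (algebraMap A B)).obj (E.X i)) :=
      Groth.Agent.Lib.Helper35.TA.TD_restrict_of_flat d hB' (E.X i)
    exact Groth.Agent.Lib.Helper35.TA.TAmp.mono
      ((Groth.Agent.Lib.Helper35.TA.TD_iff_TAmp d _).1 h1) (by omega) (by omega)
  · exact Groth.Agent.Lib.Helper35.TA.TAmp.of_isZero
      (CategoryTheory.Functor.map_isZero _
        (CategoryTheory.Functor.map_isZero
          (ModuleCat.restrictScalars.{u} (algebraMap A B)) (hv i (by omega))))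

end Groth.Agent.S6947
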