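import Groth.Statements.S0611
import Mathlib
import Groth.Agent.Lib.Helper90.QuasiRegReg
import Groth.Agent.Lib.Helper18.QuasiReg

set_option autoImplicit false
universe u
open RRAlg

namespace Groth.Agent.S0611.Aux

open Groth.Agent.Lib.Helper18 Groth.Agent.Lib.Helper90.QuasiRegReg


theorem main {A : Type u} [CommRing A] [IsLocalRing A] [IsNoetherianRing A]
    {n : ℕ} (a b : Fin n → A) (ha : RingTheory.Sequence.IsRegular A (List.ofFn a))
    (hab : Ideal.span (Set.range a) = Ideal.span (Set.range b)) :
    RingTheory.Sequence.IsRegular A (List.ofFn b) := by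
  have hqa : CAlgX.IsQuasiRegular a := isQuasiRegular_of_isWeaklyRegular n a ha.toIsWeaklyRegular
  have hqb : CAlgX.IsQuasiRegular b := isQuasiRegular_of_span_eq a b hqa hab.symm
  have hne : Ideal.span (Set.range b) ≠ ⊤ := by
    intro h
    have h1 := ha.top_ne_smul
    rw [ofList_ofFn, hab, h] at h1
    exact h1 (by simp)
  have hbm : ∀ i, b i ∈ IsLocalRing.maximalIdeal A := by
    intro i
    exact IsLocalRing.le_maximalIdeal hne (Ideal.subset_span ⟨i, rfl⟩)
  have hbj : ∀ i, b i ∈ Ring.jacobson A := by
    intro i
    rw [← Ideal.jacobson_bot, IsLocalRing.jacobson_eq_maximalIdeal ⊥ bot_ne_top]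
    exact hbm i
  have hw := isWeaklyRegular_of_isQuasiRegular n A b hbj hqb
  refine RingTheory.Sequence.IsRegular.of_isWeaklyRegular_of_mem_maximalIdeal A ?_ hw
  intro r hr
  rw [List.mem_ofFn] at hr
  obtain ⟨i, rfl⟩ := hr
  exact hbm i

end Groth.Agent.S0611.Aux

namespace Groth.Agent.S0611

/-- In a Noetherian local ring, any minimal generating set of an ideal generated by a regular sequence
is again a regular sequence: if a₁, …, aₙ is a regular sequence and b₁, …, bₙ are n elements
generating the same ideal, then b₁, …, bₙ is a regular sequence. (A regular sequence of length n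
generating an ideal I is a minimal generating set of I, so "minimal" amounts to "of length n".) -/
theorem result {A : Type u} [CommRing A] [IsLocalRing A] [IsNoetherianRing A]
    {n : ℕ} (a b : Fin n → A) (ha : RingTheory.Sequence.IsRegular A (List.ofFn a))
    (hab : Ideal.span (Set.range a) = Ideal.span (Set.range b)) :
    RingTheory.Sequence.IsRegular A (List.ofFn b) := by
  exact Aux.main a b ha hab

end Groth.Agent.S0611
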