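import Groth.Statements.S9269
import Groth.Agent.Lib.Helper10.LciPoly

set_option autoImplicit false
universe u
attribute [local instance] HasDerivedCategory.standard
open CategoryTheory
open LCI

namespace Groth.Agent.S9269

/-- Let B be an A-algebra of finite type. If the kernel of one presentation A[x_1, ..., x_n] → B is a
Koszul-regular ideal, then the kernel of any other presentation A[y_1, ..., y_m] → B is a
Koszul-regular ideal. -/
theorem result (A B : Type u) [CommRing A] [CommRing B]
    [Algebra A B] (n m : ℕ) (α : MvPolynomial (Fin n) A →ₐ[A] B) (hα : Function.Surjective α)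
    (β : MvPolynomial (Fin m) A →ₐ[A] B) (hβ : Function.Surjective β)
    (h : LCI.IsKoszulRegularIdeal (RingHom.ker α.toRingHom)) :
    LCI.IsKoszulRegularIdeal (RingHom.ker β.toRingHom) := by
  classical
  choose p hp using fun j : Fin m => hα (β (MvPolynomial.X j))
  choose q hq using fun i : Fin n => hβ (α (MvPolynomial.X i))
  have hC : ((β.toRingHom.comp (MvPolynomial.eval q)).comp
      ((MvPolynomial.commAlgEquiv A (Fin m) (Fin n)).toRingEquiv :
        MvPolynomial (Fin m) (MvPolynomial (Fin n) A) →+*
          MvPolynomial (Fin n) (MvPolynomial (Fin m) A))).comp MvPolynomial.C =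
      (α.toRingHom.comp (MvPolynomial.eval p)).comp MvPolynomial.C := by
    apply MvPolynomial.ringHom_ext
    · intro a
      simp [MvPolynomial.commAlgEquiv_C]
    · intro i
      simp [MvPolynomial.commAlgEquiv_C_X, hq]
  have hΘ : (β.toRingHom.comp (MvPolynomial.eval q)).comp
      ((MvPolynomial.commAlgEquiv A (Fin m) (Fin n)).toRingEquiv :
        MvPolynomial (Fin m) (MvPolynomial (Fin n) A) →+*
          MvPolynomial (Fin n) (MvPolynomial (Fin m) A)) =
      α.toRingHom.comp (MvPolynomial.eval p) := by
    apply MvPolynomial.ringHom_ext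
    · intro f
      exact RingHom.congr_fun hC f
    · intro j
      simp [MvPolynomial.commAlgEquiv_X, hp]
  have hK : ((RingHom.ker β.toRingHom).comap (MvPolynomial.eval q)).comap
      ((MvPolynomial.commAlgEquiv A (Fin m) (Fin n)).toRingEquiv :
        MvPolynomial (Fin m) (MvPolynomial (Fin n) A) →+*
          MvPolynomial (Fin n) (MvPolynomial (Fin m) A)) =
      (RingHom.ker α.toRingHom).comap (MvPolynomial.eval p) := by
    rw [RingHom.comap_ker, RingHom.comap_ker, RingHom.comap_ker, hΘ]
  have h1 : Groth.Agent.Lib.Helper10.RegDescent.IsLoc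
      Groth.Agent.Lib.Helper10.RegDescentKoszul.koszulKind
      ((RingHom.ker α.toRingHom).comap (MvPolynomial.eval p)) :=
    (Groth.Agent.Lib.Helper10.LciPoly.isLoc_comap_eval_iff m p _).mpr h
  rw [← hK] at h1
  have h2 := (Groth.Agent.Lib.Helper10.LciPoly.isLoc_comap_ringEquiv_iff _ _).mp h1
  exact (Groth.Agent.Lib.Helper10.LciPoly.isLoc_comap_eval_iff n q _).mp h2

end Groth.Agent.S9269
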