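import Groth.Statements.S9253
import Groth.Agent.Lib.Helper10.LciLocal
import Groth.Agent.S9269

set_option autoImplicit false
universe u
attribute [local instance] HasDerivedCategory.standard
open CategoryTheory
open LCI

namespace Groth.Agent.S9253


open Groth.Agent.Lib.Helper10.RegDescent Groth.Agent.Lib.Helper10.RegDescentKoszul
  Groth.Agent.Lib.Helper10.LciTrans Groth.Agent.Lib.Helper10.LciPoly
  Groth.Agent.Lib.Helper10.LciLocal Groth.Agent.Lib.Helper10.FlatLocal in
/-- if a localization `S_g` of `S = R[x]/I` is a local complete intersection over `R`, then `I` is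
locally Koszul-regular on `D(G)` for any lift `G` of `g`. -/
theorem isLoc_map_away (R S : Type u) [CommRing R] [CommRing S] [Algebra R S] (n : ℕ)
    (α : MvPolynomial (Fin n) R →ₐ[R] S) (hα : Function.Surjective α)
    (G : MvPolynomial (Fin n) R) (g : S) (hG : α G = g)
    (h : LCI.IsLCI R (Localization.Away g)) :
    IsLoc koszulKind ((RingHom.ker α.toRingHom).map
      (algebraMap (MvPolynomial (Fin n) R) (Localization.Away G))) := by
  have hu : IsUnit (((algebraMap S (Localization.Away g)).comp α.toRingHom) G) := by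
    show IsUnit (algebraMap S (Localization.Away g) (α G))
    rw [hG]
    exact IsLocalization.Away.algebraMap_isUnit g
  obtain ⟨αb, hαb⟩ : ∃ αb : Localization.Away G →+* Localization.Away g,
      αb = IsLocalization.Away.lift G hu := ⟨_, rfl⟩
  have hsq : αb.comp (algebraMap (MvPolynomial (Fin n) R) (Localization.Away G)) =
      (algebraMap S (Localization.Away g)).comp α.toRingHom := by
    rw [hαb]
    exact IsLocalization.Away.lift_comp G hu
  have hαbsurj := locSq_surjective α.toRingHom G g hG αb hsq hα
  have hαbker := locSq_ker α.toRingHom G g hG αb hsq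
  -- the presentation of `S_g`
  obtain ⟨γr, hγr⟩ : ∃ γr : MvPolynomial (Fin (n + 1)) R →+* Localization.Away g,
      γr = (αb.comp (toAway G)).comp ((MvPolynomial.finSuccEquiv R n).toRingEquiv :
        MvPolynomial (Fin (n + 1)) R →+* Polynomial (MvPolynomial (Fin n) R)) := ⟨_, rfl⟩
  have hcomm : ∀ r : R, γr (algebraMap R _ r) = algebraMap R (Localization.Away g) r := by
    intro r
    rw [hγr]
    simp only [RingHom.comp_apply]
    have h1 : ((MvPolynomial.finSuccEquiv R n).toRingEquiv :
        MvPolynomial (Fin (n + 1)) R →+* Polynomial (MvPolynomial (Fin n) R))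
        (algebraMap R _ r) = Polynomial.C (algebraMap R (MvPolynomial (Fin n) R) r) := by
      change (MvPolynomial.finSuccEquiv R n) (algebraMap R _ r) = _
      rw [(MvPolynomial.finSuccEquiv R n).commutes r]
      rfl
    rw [h1, toAway_C]
    have h2 := RingHom.congr_fun hsq (algebraMap R (MvPolynomial (Fin n) R) r)
    simp only [RingHom.comp_apply] at h2
    rw [h2]
    have h3 : α.toRingHom (algebraMap R (MvPolynomial (Fin n) R) r) = algebraMap R S r :=
      α.commutes r
    rw [h3, ← IsScalarTower.algebraMap_apply]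
  obtain ⟨γ, hγ⟩ : ∃ γ : MvPolynomial (Fin (n + 1)) R →ₐ[R] Localization.Away g,
      γ.toRingHom = γr := ⟨{ γr with commutes' := hcomm }, rfl⟩
  have hγsurj : Function.Surjective γ := by
    have : (γ : MvPolynomial (Fin (n + 1)) R → Localization.Away g) = γr := by
      rw [← hγ]
      rfl
    rw [this, hγr]
    exact (hαbsurj.comp (toAway_surjective G)).comp (MvPolynomial.finSuccEquiv R n).surjective
  obtain ⟨-, n', f', hf', hreg'⟩ := h
  have hγreg := Groth.Agent.S9269.result R (Localization.Away g) n' (n + 1) f' hf' γ hγsurj hreg'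
  rw [hγ, hγr, ← RingHom.comap_ker] at hγreg
  have h1 : IsLoc koszulKind (RingHom.ker (αb.comp (toAway G))) :=
    (isLoc_comap_ringEquiv_iff _ _).mp hγreg
  rw [← RingHom.comap_ker, hαbker] at h1
  exact isLoc_of_comap_toAway G _ h1

/-- Let R → S be a ring map and g_1, ..., g_m elements of S generating the unit ideal. When every
localization S_{g_j} is a local complete intersection algebra over R, so is S. -/
theorem result (R S : Type u) [CommRing R] [CommRing S] [Algebra R S]
    (m : ℕ) (g : Fin m → S) (hg : Ideal.span (Set.range g) = ⊤)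
    (h : ∀ j, LCI.IsLCI R (Localization.Away (g j))) : LCI.IsLCI R S := by
  classical
  -- finite type
  have hft : Algebra.FiniteType R S := by
    rw [← RingHom.finiteType_algebraMap]
    refine RingHom.finiteType_ofLocalizationSpanTarget (algebraMap R S) (Set.range g) hg ?_
    rintro ⟨_, j, rfl⟩
    have := (h j).1
    rw [← RingHom.finiteType_algebraMap, IsScalarTower.algebraMap_eq R S] at this
    exact this
  obtain ⟨n, α, hα⟩ := Algebra.FiniteType.iff_quotient_mvPolynomial''.mp hft
  refine ⟨hft, n, α, hα, ?_⟩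
  choose G hG using fun j => hα (g j)
  have hj : ∀ j, Groth.Agent.Lib.Helper10.RegDescent.IsLoc
      Groth.Agent.Lib.Helper10.RegDescentKoszul.koszulKind
      ((RingHom.ker α.toRingHom).map
        (algebraMap (MvPolynomial (Fin n) R) (Localization.Away (G j)))) :=
    fun j => isLoc_map_away R S n α hα (G j) (g j) (hG j) (h j)
  -- the complementary element
  have h1 : (1 : S) ∈ Ideal.span (Set.range g) := by
    rw [hg]
    trivial
  obtain ⟨c, hc⟩ := Ideal.mem_span_range_iff_exists_fun.mp h1
  choose Cc hCc using fun j => hα (c j)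
  set e : MvPolynomial (Fin n) R := 1 - ∑ j, Cc j * G j with he
  have heI : e ∈ RingHom.ker α.toRingHom := by
    rw [RingHom.mem_ker]
    show α e = 0
    rw [he, map_sub, map_one, map_sum]
    simp only [map_mul, hCc, hG, hc, sub_self]
  have hgen : ∀ x : MvPolynomial (Fin n) R, (x ∈ RingHom.ker α.toRingHom ∨ ∃ j, x = G j) →
      Groth.Agent.Lib.Helper10.RegDescent.IsLoc
      Groth.Agent.Lib.Helper10.RegDescentKoszul.koszulKind
      ((RingHom.ker α.toRingHom).map
        (algebraMap (MvPolynomial (Fin n) R) (Localization.Away x))) := by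
    rintro x (hx | ⟨j, rfl⟩)
    · intro 𝔭 h𝔭
      exfalso
      apply 𝔭.isPrime.ne_top
      rw [eq_top_iff]
      refine le_trans ?_ h𝔭
      rw [top_le_iff]
      exact Ideal.eq_top_of_isUnit_mem _ (Ideal.mem_map_of_mem _ hx)
        (IsLocalization.Away.algebraMap_isUnit x)
    · exact hj j
  set t : Fin (m + 1) → MvPolynomial (Fin n) R := Fin.cons e G with ht
  have htmem : ∀ i, t i ∈ RingHom.ker α.toRingHom ∨ ∃ j, t i = G j := by
    intro i
    refine Fin.cases ?_ (fun j => ?_) i
    · left
      rw [ht, Fin.cons_zero]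
      exact heI
    · right
      exact ⟨j, by rw [ht, Fin.cons_succ]⟩
  have htop : Ideal.span (Set.range t) = ⊤ := by
    rw [Ideal.eq_top_iff_one]
    have h2 : (1 : MvPolynomial (Fin n) R) = t 0 + ∑ j, Cc j * t j.succ := by
      simp only [ht, Fin.cons_zero, Fin.cons_succ, he]
      ring
    rw [h2]
    refine Ideal.add_mem _ (Ideal.subset_span ⟨0, rfl⟩) (Ideal.sum_mem _ fun j _ => ?_)
    exact Ideal.mul_mem_left _ _ (Ideal.subset_span ⟨j.succ, rfl⟩)
  refine Groth.Agent.Lib.Helper10.RegDescent.isLoc_of_flat_family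
    (ι := ULift.{u} (Fin (m + 1)))
    (fun i => Localization.Away (t i.down)) (RingHom.ker α.toRingHom)
    (fun i => algebraMap (MvPolynomial (Fin n) R) (Localization.Away (t i.down)))
    (fun i => Groth.Agent.Lib.Helper10.RegDescent.algebraMap_away_flat _) ?_
    (fun i => hgen (t i.down) (htmem i.down))
  intro 𝔭
  have hex : ∃ i, t i ∉ 𝔭.asIdeal := by
    by_contra hne
    apply 𝔭.isPrime.ne_top
    rw [eq_top_iff, ← htop, Ideal.span_le]
    rintro _ ⟨i, rfl⟩
    by_contra hi
    exact hne ⟨i, hi⟩
  obtain ⟨i, hi⟩ := hex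
  obtain ⟨𝔮, h𝔮⟩ := Groth.Agent.Lib.Helper10.FlatLocal.exists_prime_away' (t i) 𝔭 hi
  exact ⟨⟨i⟩, 𝔮, h𝔮⟩

end Groth.Agent.S9253
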