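import Groth.Statements.S9773
import Groth.Agent.Lib.Helper10.RegImmKinds

set_option autoImplicit false
universe u
open FlatMor

namespace Groth.Agent.S9773

open AlgebraicGeometry CategoryTheory Limits Groth.Agent.Lib.Helper10.RegImmKinds

/-- a regular immersion precomposed with an isomorphism is a regular immersion. -/
theorem isRegularImmersion_iso_comp {Z' Z X : Scheme.{u}} (e : Z' ⟶ Z) [IsIso e] (i : Z ⟶ X)
    (k : RegImm.Kind) (hi : RegImm.IsRegularImmersion k i) :
    RegImm.IsRegularImmersion k (e ≫ i) := by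
  haveI := hi.1
  refine ⟨inferInstance, fun z' => ?_⟩
  obtain ⟨U, hU, hcl, rs, hrs, hker⟩ := hi.2 (e z')
  refine ⟨U, by simpa using hU, ?_, rs, hrs, ?_⟩
  · rw [morphismRestrict_comp]
    haveI := hcl
    haveI : IsIso (e ∣_ i ⁻¹ᵁ U.1) := inferInstance
    haveI : IsClosedImmersion (e ∣_ i ⁻¹ᵁ U.1) := inferInstance
    exact @IsClosedImmersion.comp _ _ _ (e ∣_ i ⁻¹ᵁ U.1) (i ∣_ U.1) inferInstance hcl
  · rw [← hker]
    ext x
    rw [RingHom.mem_ker, RingHom.mem_ker]
    have hinj : Function.Injective (e.app (i ⁻¹ᵁ U.1)).hom :=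
      ((ConcreteCategory.isIso_iff_bijective (e.app (i ⁻¹ᵁ U.1))).1 inferInstance).1
    have hcomp : ((e ≫ i).app U.1).hom x = (e.app (i ⁻¹ᵁ U.1)).hom ((i.app U.1).hom x) := by
      rw [Scheme.Hom.comp_app]; rfl
    rw [hcomp]
    exact ⟨fun h => hinj (h.trans (map_zero _).symm), fun h => by rw [h]; exact map_zero _⟩

open AlgebraicGeometry CategoryTheory Limits in
/-- A regular immersion of schemes, and likewise a Koszul-regular immersion, is a local complete
intersection morphism (Koszul at every point). -/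
theorem result {Z X : Scheme.{u}} (i : Z ⟶ X) (k : RegImm.Kind)
    (hk : k = RegImm.Kind.regular ∨ k = RegImm.Kind.koszul) (hi : RegImm.IsRegularImmersion k i) (z : Z) :
    Synt.IsKoszulAt i z := by
  have hk' : RegImm.IsRegularImmersion RegImm.Kind.koszul i := by
    rcases hk with rfl | rfl
    · exact isRegularImmersion_mono seq_regular_koszul i hi
    · exact hi
  haveI := hk'.1
  haveI : IsIso (⊤ : Z.Opens).ι := by
    rw [← Scheme.topIso_hom]; infer_instance
  refine ⟨⊤, X, (⊤ : Z.Opens).ι ≫ i, 𝟙 X, trivial, inferInstance,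
    isRegularImmersion_iso_comp _ i _ hk', inferInstance, by simp⟩

end Groth.Agent.S9773
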