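import Groth.Statements.S0501
import Groth.Agent.Lib.Helper3.HenselEtale

set_option autoImplicit false
universe u
open Hensel

namespace Groth.Agent.S0501

open Groth.Agent.Lib.Helper3 IsLocalRing TensorProduct

/-- Let `S` be a henselian local ring over a ring `R`, let `A` be an étale `R`-algebra with a prime `q`,
and let `τ` be a ring map from the residue field of `q` to the residue field of `S` compatible with
the two structure maps from `R`. Then there is exactly one `R`-algebra map from `A` to `S` pulling
the maximal ideal back to `q` and inducing `τ`. -/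
theorem result (R : Type u) [CommRing R]
    (S : Type u) [CommRing S] [HenselianLocalRing S] [Algebra R S]
    (A : Type u) [CommRing A] [Algebra R A] [Algebra.Etale R A] (q : Ideal A) [q.IsPrime]
    (τ : q.ResidueField →+* IsLocalRing.ResidueField S)
    (hτ : τ.comp (algebraMap R q.ResidueField) = (IsLocalRing.residue S).comp (algebraMap R S)) :
    ∃! f : A →ₐ[R] S, Ideal.comap f.toRingHom (IsLocalRing.maximalIdeal S) = q ∧
      ∀ a : A, IsLocalRing.residue S (f a) = τ (algebraMap A q.ResidueField a) := by
  -- the `R`-algebra map `A → κ(S)`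
  let ψ : A →ₐ[R] ResidueField S :=
    { toRingHom := τ.comp (algebraMap A q.ResidueField)
      commutes' := fun r => by
        have := congr($hτ r)
        simp only [RingHom.comp_apply] at this
        simp only [RingHom.toMonoidHom_eq_coe, OneHom.toFun_eq_coe, MonoidHom.toOneHom_coe,
          MonoidHom.coe_coe, RingHom.coe_comp, Function.comp_apply]
        rw [← IsScalarTower.algebraMap_apply R A q.ResidueField, this]
        rfl }
  have hψ : ∀ a, ψ a = τ (algebraMap A q.ResidueField a) := fun a => rfl
  -- base change to `S`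
  let φ₀ : S ⊗[R] A →ₐ[S] ResidueField S :=
    Algebra.TensorProduct.lift (Algebra.ofId S (ResidueField S)) ψ (fun _ _ => .all _ _)
  have key : ∀ f : A →ₐ[R] S, (∀ a : A, residue S (f a) = τ (algebraMap A q.ResidueField a)) →
      Ideal.comap f.toRingHom (maximalIdeal S) = q := by
    intro f hf
    ext a
    rw [Ideal.mem_comap]
    show f a ∈ maximalIdeal S ↔ a ∈ q
    rw [← residue_eq_zero_iff, hf, map_eq_zero, Ideal.algebraMap_residueField_eq_zero]
  obtain ⟨σ, hσ⟩ := exists_algHom_of_etale φ₀
  refine ⟨(σ.restrictScalars R).comp Algebra.TensorProduct.includeRight, ⟨?_, ?_⟩, ?_⟩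
  · apply key
    intro a
    have := congr($hσ (1 ⊗ₜ a))
    simpa [φ₀, hψ] using this
  · intro a
    have := congr($hσ (1 ⊗ₜ a))
    simpa [φ₀, hψ] using this
  · rintro f ⟨-, hf⟩
    -- uniqueness via base change
    let σ' : S ⊗[R] A →ₐ[S] S :=
      Algebra.TensorProduct.lift (AlgHom.id S S) f (fun _ _ => .all _ _)
    have hσ' : (residueAlgHom S).comp σ' = φ₀ := by
      apply Algebra.TensorProduct.ext
      · ext
      · ext a
        simp [σ', φ₀, hψ, hf]
    have : σ' = σ := algHom_ext_of_etale σ' σ (hσ'.trans hσ.symm)
    ext a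
    have h2 : σ' (1 ⊗ₜ a) = f a := by simp [σ']
    rw [← h2, this]
    rfl

end Groth.Agent.S0501
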