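import Groth.Statements.S1964
import Groth.Agent.Lib.Helper3.IdemBij
import Groth.Agent.Lib.Helper3.HenselFinite
import Groth.Agent.Lib.Helper9.Henselian

set_option autoImplicit false
universe u
open EtAlg

namespace Groth.Agent.S1964

open IsLocalRing

section

variable (A B : Type u) [CommRing A] [HenselianLocalRing A] [CommRing B]
    [IsDomain B] [Algebra A B] [Algebra.IsIntegral A B]

/-- A finite product of local rings which is a domain has exactly one factor. -/
theorem isUnit_or_isUnit_one_sub_of_pi {ι : Type u} [Fintype ι] (L : ι → Type u)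
    [∀ i, CommRing (L i)] [∀ i, IsLocalRing (L i)] [IsDomain (∀ i, L i)] (x : ∀ i, L i) :
    IsUnit x ∨ IsUnit (1 - x) := by
  classical
  have hne : Nonempty ι := by
    by_contra h
    rw [not_nonempty_iff] at h
    exact one_ne_zero (α := ∀ i, L i) (Subsingleton.elim _ _)
  obtain ⟨i₀⟩ := hne
  have huniq : ∀ i, i = i₀ := by
    intro i
    by_contra hi
    have h1 : (Pi.single i 1 : ∀ j, L j) * Pi.single i₀ 1 = 0 := by
      funext j
      by_cases hj : j = i
      · subst hj
        simp [Pi.single_eq_of_ne hi]
      · simp [Pi.single_eq_of_ne hj]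
    rcases mul_eq_zero.mp h1 with h | h
    · have := congrFun h i
      simp at this
    · have := congrFun h i₀
      simp at this
  rcases IsLocalRing.isUnit_or_isUnit_one_sub_self (x i₀) with h | h
  · left
    rw [Pi.isUnit_iff]
    intro i
    rw [huniq i]
    exact h
  · right
    rw [Pi.isUnit_iff]
    intro i
    rw [huniq i]
    exact h

include A in
theorem isUnit_or_isUnit_one_sub (b : B) : IsUnit b ∨ IsUnit (1 - b) := by
  haveI : Module.Finite A (Algebra.adjoin A {b}) :=
    Algebra.finite_adjoin_simple_of_isIntegral (Algebra.IsIntegral.isIntegral b)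
  obtain ⟨ι, _, L, _, hloc, ⟨e⟩⟩ :=
    Groth.Agent.Lib.Helper3.exists_ringEquiv_pi_isLocalRing_of_finite A (Algebra.adjoin A {b})
  haveI := hloc
  haveI : IsDomain (∀ i, L i) := e.symm.toMulEquiv.isDomain _
  let b' : Algebra.adjoin A {b} := ⟨b, Algebra.subset_adjoin rfl⟩
  rcases isUnit_or_isUnit_one_sub_of_pi L (e b') with h | h
  · left
    have h1 : IsUnit b' := by
      have := h.map e.symm
      rwa [e.symm_apply_apply] at this
    exact h1.map (Algebra.adjoin A {b}).val
  · right
    have h1 : IsUnit (1 - b') := by
      have := h.map e.symm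
      rwa [map_sub, map_one, e.symm_apply_apply] at this
    have := h1.map (Algebra.adjoin A {b}).val
    simpa [b'] using this

include A in
theorem isLocalRing : IsLocalRing B :=
  IsLocalRing.of_isUnit_or_isUnit_one_sub_self (isUnit_or_isUnit_one_sub A B)

theorem isLocalHom [IsLocalRing B] : IsLocalHom (algebraMap A B) := by
  constructor
  intro a ha
  by_contra hna
  have hker : RingHom.ker (algebraMap A B) ≤ maximalIdeal A :=
    IsLocalRing.le_maximalIdeal (RingHom.ker_ne_top _)
  obtain ⟨Q, hQ, hQc⟩ := Ideal.exists_ideal_over_maximal_of_isIntegral (S := B) (maximalIdeal A) hker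
  have h1 : algebraMap A B a ∈ Q := by
    have : a ∈ Q.comap (algebraMap A B) := by rw [hQc]; exact (mem_maximalIdeal a).mpr hna
    exact this
  exact hQ.ne_top (Ideal.eq_top_of_isUnit_mem _ h1 ha)

theorem radical_map_maximalIdeal [IsLocalRing B] [IsLocalHom (algebraMap A B)] :
    ((maximalIdeal A).map (algebraMap A B)).radical = maximalIdeal B := by
  apply le_antisymm
  · rw [← (IsLocalRing.maximalIdeal.isMaximal B).isPrime.radical]
    apply Ideal.radical_mono
    exact ((IsLocalRing.local_hom_TFAE (algebraMap A B)).out 0 2).mp ‹IsLocalHom (algebraMap A B)›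
  · rw [Ideal.radical_eq_sInf]
    apply le_sInf
    rintro P ⟨hP1, hP2⟩
    have h1 : maximalIdeal A ≤ P.comap (algebraMap A B) := Ideal.map_le_iff_le_comap.mp hP1
    have h2 : P.comap (algebraMap A B) = maximalIdeal A := by
      symm
      apply (IsLocalRing.maximalIdeal.isMaximal A).eq_of_le _ h1
      exact (Ideal.comap_isPrime _ _).ne_top
    have h3 : P.IsMaximal := by
      apply Ideal.isMaximal_of_isIntegral_of_isMaximal_comap (R := A)
      rw [h2]
      exact IsLocalRing.maximalIdeal.isMaximal A
    rw [IsLocalRing.eq_maximalIdeal h3]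

theorem henselianRing_maximalIdeal [IsLocalRing B] [IsLocalHom (algebraMap A B)] :
    HenselianRing B (maximalIdeal B) := by
  have h1 : HenselianRing B ((maximalIdeal A).map (algebraMap A B)) :=
    Groth.Agent.Lib.Helper3.henselianRing_map_of_isIntegral (maximalIdeal A) B
  refine (Groth.Agent.Lib.Helper9.henselianRing_iff_of_radical_eq ?_).mp h1
  rw [radical_map_maximalIdeal A B, (IsLocalRing.maximalIdeal.isMaximal B).isPrime.radical]

theorem isAlgebraic_residueField [IsLocalRing B] [IsLocalHom (algebraMap A B)] :
    letI := (IsLocalRing.ResidueField.map (algebraMap A B)).toAlgebra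
    Algebra.IsAlgebraic (ResidueField A) (ResidueField B) := by
  letI := (IsLocalRing.ResidueField.map (algebraMap A B)).toAlgebra
  constructor
  intro x
  obtain ⟨b, rfl⟩ := IsLocalRing.residue_surjective x
  obtain ⟨p, hp, hpb⟩ := Algebra.IsIntegral.isIntegral (R := A) b
  apply IsIntegral.isAlgebraic
  refine ⟨p.map (residue A), hp.map _, ?_⟩
  rw [Polynomial.eval₂_map]
  have h1 : (algebraMap (ResidueField A) (ResidueField B)).comp (residue A) =
      (residue B).comp (algebraMap A B) := by
    ext a
    rfl
  rw [h1, ← Polynomial.hom_eval₂, hpb, map_zero]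

end

/-- A domain B integral over a henselian local ring A is itself henselian local, and the structure map A
-> B is local; if the residue field of A is separably closed, so is that of B, and the residue field
extension is purely inseparable. -/
theorem result (A B : Type u) [CommRing A] [HenselianLocalRing A] [CommRing B]
    [IsDomain B] [Algebra A B] [Algebra.IsIntegral A B] :
    ∃ _ : HenselianLocalRing B, IsLocalHom (algebraMap A B) ∧
      (IsSepClosed (IsLocalRing.ResidueField A) →
        IsSepClosed (IsLocalRing.ResidueField B) ∧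
        ∀ _ : IsLocalHom (algebraMap A B),
          letI := (IsLocalRing.ResidueField.map (algebraMap A B)).toAlgebra
          IsPurelyInseparable (IsLocalRing.ResidueField A) (IsLocalRing.ResidueField B)) := by
  have hlocal : IsLocalRing B := isLocalRing A B
  have hloc : IsLocalHom (algebraMap A B) := isLocalHom A B
  have hH : HenselianRing B (maximalIdeal B) := henselianRing_maximalIdeal A B
  refine ⟨{ toIsLocalRing := hlocal
            is_henselian := fun f hf a₀ h₁ h₂ =>
              HenselianRing.is_henselian f hf a₀ h₁ (h₂.map _) }, hloc, fun hsep => ?_⟩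
  have halg := isAlgebraic_residueField A B
  letI := (IsLocalRing.ResidueField.map (algebraMap A B)).toAlgebra
  exact ⟨Algebra.IsAlgebraic.isSepClosed (F := ResidueField A), fun _ => inferInstance⟩

end Groth.Agent.S1964
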