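import Groth.Statements.S9238
import Groth.Agent.Lib.Helper3.NormRedNormal
import Groth.Agent.Lib.Helper3.BranchStrict
import Groth.Agent.Lib.Helper3.MinPrimesTensor
import Groth.Agent.Lib.Helper47.Unibranch
import Groth.Agent.S0539

set_option autoImplicit false
universe u
open Brnch

namespace Groth.Agent.S9238

/-- Let A be a local ring and S a strict henselization of A. Then the number of minimal prime ideals of
S, a natural number or infinity, equals the number of geometric branches of A as computed from the
integral closure of A_red in its total ring of fractions (maximal ideals counted with multiplicity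
the separable degree of their residue field over that of A; infinity if A has infinitely many
minimal primes). -/
theorem result (A S : Type u) [CommRing A]
    [IsLocalRing A] [CommRing S] [IsLocalRing S] [Algebra A S] [IsLocalHom (algebraMap A S)]
    [Hensel.IsStrictHenselization A S] :
    ENat.card (minimalPrimes S) = Brnch.numGeomBranches A := by
  open Groth.Agent.Lib.Helper3 in
  open TensorProduct in
  unfold Brnch.numGeomBranches
  have hff : Module.FaithfullyFlat A S := Groth.Agent.S0539.result A S
  have hflat : Module.Flat A S := hff.toFlat
  have hinj : Function.Injective (algebraMap A S) := FaithfulSMul.algebraMap_injective A S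
  split_ifs with hfin
  · have hred : IsReduced (CAlg2.red A) :=
      (Ideal.isRadical_iff_quotient_reduced (nilradical A)).mp (Ideal.radical_isRadical _)
    have hfin' : (minimalPrimes (CAlg2.red A)).Finite :=
      (Groth.Agent.Lib.Helper47.finite_minimalPrimes_red_iff A).mpr hfin
    have hN : ∀ (m' : Ideal (CAlg2.normRed A)) [m'.IsMaximal],
        IsDomain (Localization.AtPrime m') ∧ IsIntegrallyClosed (Localization.AtPrime m') :=
      fun m' _ => NormRed.isDomain_and_isIntegrallyClosed_atPrime hfin' m'
    have hint1 : Algebra.IsIntegral A (CAlg2.red A) :=
      Algebra.isIntegral_of_surjective Ideal.Quotient.mk_surjective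
    have hint : Algebra.IsIntegral A (CAlg2.normRed A) :=
      Algebra.IsIntegral.trans (R := A) (A := CAlg2.red A) (B := CAlg2.normRed A)
    have key := Branch.card_minimalPrimes_tensor_eq_strict A S (CAlg2.normRed A) hN
    have e1 := (bijOn_minimalPrimes_normRed_tensor A S).equiv
    obtain ⟨e2⟩ := Branch.nonempty_equiv_minimalPrimes_of_ringEquiv
      (B₁ := CAlg2.normRed A ⊗[A] S) (B₂ := S ⊗[A] CAlg2.normRed A)
      (Algebra.TensorProduct.comm A (CAlg2.normRed A) S).toRingEquiv
    rw [ENat.card_congr (e1.symm.trans e2)]
    exact key
  · rw [ENat.card_eq_top, Set.infinite_coe_iff]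
    intro hS
    apply hfin
    refine (hS.image (Ideal.comap (algebraMap A S))).subset ?_
    intro p hp
    have hp' : p ∈ ((⊥ : Ideal S).comap (algebraMap A S)).minimalPrimes := by
      rwa [Ideal.comap_bot_of_injective _ hinj]
    obtain ⟨q, hq, hqp⟩ := Ideal.exists_minimalPrimes_comap_eq (algebraMap A S) p hp'
    exact ⟨q, hq, hqp⟩

end Groth.Agent.S9238
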