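import Groth.Statements.S13598
import Mathlib.RingTheory.Henselian
import Mathlib.RingTheory.Polynomial.Basic
import Mathlib.Algebra.Polynomial.Lifts

set_option autoImplicit false
universe u
open Hensel

namespace Groth.Agent.S13598

open Polynomial in
theorem henselianLocalRing_quotient {S : Type*} [CommRing S] [HenselianLocalRing S] (J : Ideal S)
    [IsLocalRing (S ⧸ J)] : HenselianLocalRing (S ⧸ J) := by
  refine { toIsLocalRing := ‹IsLocalRing (S ⧸ J)›, is_henselian := ?_ }
  intro fb hfb b₀ h₁ h₂
  obtain ⟨f, hfmap, -, hf⟩ := lifts_and_natDegree_eq_and_monic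
    ((mem_lifts _).mpr (map_surjective _ Ideal.Quotient.mk_surjective fb)) hfb
  obtain ⟨a₀, rfl⟩ := Ideal.Quotient.mk_surjective b₀
  subst hfmap
  have hloc : IsLocalHom (Ideal.Quotient.mk J) :=
    IsLocalHom.of_surjective _ Ideal.Quotient.mk_surjective
  have e1 : ∀ a, (f.map (Ideal.Quotient.mk J)).eval (Ideal.Quotient.mk J a) =
      Ideal.Quotient.mk J (f.eval a) := fun a => by
    rw [eval_map, eval₂_at_apply]
  have e2 : (f.map (Ideal.Quotient.mk J)).derivative.eval (Ideal.Quotient.mk J a₀) =
      Ideal.Quotient.mk J (f.derivative.eval a₀) := by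
    rw [derivative_map, eval_map, eval₂_at_apply]
  rw [e1] at h₁
  rw [e2] at h₂
  have h₁' : f.eval a₀ ∈ IsLocalRing.maximalIdeal S := by
    rw [← IsLocalRing.maximalIdeal_comap (Ideal.Quotient.mk J)]
    exact h₁
  have h₂' : IsUnit (f.derivative.eval a₀) := (isUnit_map_iff (Ideal.Quotient.mk J) _).mp h₂
  obtain ⟨a, ha, haa⟩ := HenselianLocalRing.is_henselian f hf a₀ h₁' h₂'
  refine ⟨Ideal.Quotient.mk J a, ?_, ?_⟩
  · rw [IsRoot, e1, ha, map_zero]
  · rw [← map_sub]
    exact _root_.map_nonunit (Ideal.Quotient.mk J) _ haa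


/-- For a local ring A, a henselization A ⟶ S of A (S a henselian local ring, the structure map local,
and initial among local homomorphisms from A to henselian local rings) and an ideal I of A inside
the maximal ideal, the quotient S/IS with its induced algebra structure over A/I is a henselization
of A/I. (The local-ring and local-homomorphism instances on the quotients hold automatically; they
are taken as hypotheses only so that the conclusion can be stated.) -/
theorem result {A S : Type u} [CommRing A] [IsLocalRing A] [CommRing S]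
    [IsLocalRing S] [Algebra A S] [IsLocalHom (algebraMap A S)] [Hensel.IsHenselization A S]
    (I : Ideal A) (hI : I ≤ IsLocalRing.maximalIdeal A)
    [IsLocalRing (A ⧸ I)] [IsLocalRing (S ⧸ I.map (algebraMap A S))]
    [IsLocalHom (algebraMap (A ⧸ I) (S ⧸ I.map (algebraMap A S)))] :
    Hensel.IsHenselization (A ⧸ I) (S ⧸ I.map (algebraMap A S)) := by
  have hShens : HenselianLocalRing S := IsHenselization.henselian (R := A)
  refine ⟨henselianLocalRing_quotient _, ?_⟩
  intro T _ _ fb hfb
  have hloc : IsLocalHom (Ideal.Quotient.mk I) :=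
    IsLocalHom.of_surjective _ Ideal.Quotient.mk_surjective
  have hf : IsLocalHom (fb.comp (Ideal.Quotient.mk I)) := RingHom.isLocalHom_comp _ _
  obtain ⟨g, hg, hguniq⟩ := IsHenselization.universal (R := A) (S := S) T
    (fb.comp (Ideal.Quotient.mk I)) hf
  have hgJ : ∀ s ∈ I.map (algebraMap A S), g s = 0 := by
    intro s hs
    have : I.map (algebraMap A S) ≤ RingHom.ker g := by
      rw [Ideal.map_le_iff_le_comap]
      intro a ha
      rw [Ideal.mem_comap, RingHom.mem_ker]
      have := congrArg (fun φ => φ a) hg
      simp only [RingHom.comp_apply] at this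
      rw [this, Ideal.Quotient.eq_zero_iff_mem.mpr ha, map_zero]
    exact this hs
  refine ⟨Ideal.Quotient.lift _ g hgJ, ?_, ?_⟩
  · apply Ideal.Quotient.ringHom_ext
    ext a
    simp only [RingHom.comp_apply]
    have h1 : algebraMap (A ⧸ I) (S ⧸ I.map (algebraMap A S)) (Ideal.Quotient.mk I a) =
        Ideal.Quotient.mk _ (algebraMap A S a) := rfl
    rw [h1, Ideal.Quotient.lift_mk]
    exact congrArg (fun φ => φ a) hg
  · intro g' hg'
    apply Ideal.Quotient.ringHom_ext
    have : g'.comp (Ideal.Quotient.mk _) = g := by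
      apply hguniq
      ext a
      simp only [RingHom.comp_apply]
      have h1 : algebraMap (A ⧸ I) (S ⧸ I.map (algebraMap A S)) (Ideal.Quotient.mk I a) =
          Ideal.Quotient.mk _ (algebraMap A S a) := rfl
      rw [← h1]
      exact congrArg (fun φ => φ (Ideal.Quotient.mk I a)) hg'
    rw [this]
    ext s
    simp only [RingHom.comp_apply, Ideal.Quotient.lift_mk]

end Groth.Agent.S13598
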