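import Groth.Statements.S9236
import Groth.Agent.Lib.Helper47.GeomBranches

set_option autoImplicit false
universe u
open Brnch

namespace Groth.Agent.S9236

/-- A local ring A has exactly one geometric branch if and only if it is geometrically unibranch
(unibranch with purely inseparable residue field extension of the integral closure). The number of
geometric branches counts the maximal ideals of the integral closure of A_red in its total ring of
fractions with multiplicity the separable degree of the residue field extension. -/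
theorem result (A : Type u) [CommRing A] [IsLocalRing A] :
    Brnch.numGeomBranches A = 1 ↔ CAlg2.IsGeomUnibranch A := by
  classical
  have hred : IsReduced (CAlg2.red A) :=
    (Ideal.isRadical_iff_quotient_reduced (nilradical A)).mp (Ideal.radical_isRadical _)
  have hnt : Nontrivial (CAlg2.red A) :=
    Ideal.Quotient.nontrivial_iff.mpr (by
      intro h
      have : (1 : A) ∈ nilradical A := by rw [h]; trivial
      obtain ⟨n, hn⟩ := mem_nilradical.mp this
      rw [one_pow] at hn
      exact one_ne_zero hn)
  unfold Brnch.numGeomBranches CAlg2.IsGeomUnibranch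
  constructor
  · intro h
    split_ifs at h with hfin
    · obtain ⟨hu⟩ := ENat.card_eq_one_iff_unique.mp h
      -- the maximal spectrum is a singleton
      have hmax : ∀ m₁ m₂ : MaximalSpectrum (CAlg2.normRed A), m₁ = m₂ := by
        intro m₁ m₂
        obtain ⟨σ₁⟩ := Groth.Agent.Lib.Helper47.nonempty_emb A m₁
        obtain ⟨σ₂⟩ := Groth.Agent.Lib.Helper47.nonempty_emb A m₂
        have := (hu.uniq ⟨m₁, σ₁⟩).trans (hu.uniq ⟨m₂, σ₂⟩).symm
        exact congrArg Sigma.fst this
      have hloc : IsLocalRing (CAlg2.normRed A) := by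
        apply IsLocalRing.of_unique_max_ideal
        refine ⟨hu.default.1.asIdeal, hu.default.1.isMaximal, fun I hI => ?_⟩
        exact congrArg MaximalSpectrum.asIdeal (hmax ⟨I, hI⟩ hu.default.1)
      have huni : CAlg2.IsUnibranch A :=
        ⟨Groth.Agent.Lib.Helper47.isDomain_of_isLocalRing_integralClosure (CAlg2.red A)
          ((Groth.Agent.Lib.Helper47.finite_minimalPrimes_red_iff A).mpr hfin) hloc, hloc⟩
      refine ⟨huni, ?_⟩
      intro m' hm'
      have hsub : Subsingleton (Brnch.Emb A ⟨m', hm'⟩) := by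
        refine ⟨fun σ τ => ?_⟩
        have := (hu.uniq ⟨⟨m', hm'⟩, σ⟩).trans (hu.uniq ⟨⟨m', hm'⟩, τ⟩).symm
        exact eq_of_heq (Sigma.mk.inj this).2
      have hne := Groth.Agent.Lib.Helper47.nonempty_emb A ⟨m', hm'⟩
      have hun : Unique (Brnch.Emb A ⟨m', hm'⟩) := Classical.choice (by
        obtain ⟨σ⟩ := hne
        exact ⟨⟨⟨σ⟩, fun τ => Subsingleton.elim _ _⟩⟩)
      have hcard : Nat.card (Brnch.Emb A ⟨m', hm'⟩) = 1 := Nat.card_unique
      exact (Groth.Agent.Lib.Helper47.natCard_emb_eq_one_iff A ⟨m', hm'⟩).mp hcard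
    · exact (ENat.top_ne_one h).elim
  · rintro ⟨⟨hdom, hloc⟩, hpi⟩
    have hfin : (minimalPrimes A).Finite := by
      rw [← Groth.Agent.Lib.Helper47.finite_minimalPrimes_red_iff]
      have hsub : minimalPrimes (CAlg2.red A) ⊆ {⊥} := by
        intro q hq
        have hbot : (⊥ : Ideal (CAlg2.red A)).IsPrime := Ideal.isPrime_bot
        exact le_antisymm (hq.2 ⟨hbot, le_rfl⟩ bot_le) bot_le
      exact (Set.finite_singleton _).subset hsub
    rw [if_pos hfin]
    have hemb : ∀ m' : MaximalSpectrum (CAlg2.normRed A), Nonempty (Unique (Brnch.Emb A m')) := by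
      intro m'
      have h1 : Nat.card (Brnch.Emb A m') = 1 :=
        (Groth.Agent.Lib.Helper47.natCard_emb_eq_one_iff A m').mpr
          (@hpi m'.asIdeal m'.isMaximal)
      obtain ⟨hs, ⟨σ⟩⟩ := Nat.card_eq_one_iff_unique.mp h1
      exact ⟨⟨⟨σ⟩, fun τ => Subsingleton.elim _ _⟩⟩
    have hmaxu : Unique (MaximalSpectrum (CAlg2.normRed A)) := inferInstance
    rw [ENat.card_eq_one_iff_unique]
    obtain ⟨hu0⟩ := hemb default
    refine ⟨⟨⟨⟨default, hu0.default⟩⟩, ?_⟩⟩
    rintro ⟨m', σ⟩
    obtain rfl : m' = default := Subsingleton.elim _ _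
    congr 1
    exact hu0.uniq σ

end Groth.Agent.S9236
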