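import Groth.Statements.S2166
import Groth.Agent.Lib.Helper82.CICompl

set_option autoImplicit false
universe u
open LCI

namespace Groth.Agent.S2166

/-- R already a regular local ring: for a regular local ring R and a proper ideal I, the local ring R/I
is a complete intersection (its completion is a regular local ring modulo a regular sequence) if and
only if I itself is generated by a regular sequence of R. -/
theorem result {R : Type u} [CommRing R] [IsRegularLocalRing R]
    (I : Ideal R) (hI : I ≠ ⊤) [IsLocalRing (R ⧸ I)] :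
    Pi1.IsCompleteIntersection (R ⧸ I) ↔
      ∃ rs : List R, Ideal.ofList rs = I ∧ RingTheory.Sequence.IsRegular R rs := by
  classical
  have hRB := Groth.Agent.Lib.Helper82.CICompl.isRegularLocalRing_completion R
  obtain ⟨e⟩ := Groth.Agent.Lib.Helper82.ComplQuot.exists_ringEquiv R I
  constructor
  · intro hCI
    obtain ⟨B₀, _, hB₀, rs₀, hmem, hreg, ⟨φ⟩⟩ := hCI
    let π₀ : B₀ →+* AdicCompletion (IsLocalRing.maximalIdeal (R ⧸ I)) (R ⧸ I) :=
      (φ.symm : (B₀ ⧸ Ideal.span {r | r ∈ rs₀}) →+*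
        AdicCompletion (IsLocalRing.maximalIdeal (R ⧸ I)) (R ⧸ I)).comp
        (Ideal.Quotient.mk (Ideal.span {r | r ∈ rs₀}))
    have hπ₀ : Function.Surjective π₀ := φ.symm.surjective.comp Ideal.Quotient.mk_surjective
    have hker₀ : RingHom.ker π₀ = Ideal.ofList rs₀ := by
      change RingHom.ker ((φ.symm : (B₀ ⧸ Ideal.span {r | r ∈ rs₀}) →+*
        AdicCompletion (IsLocalRing.maximalIdeal (R ⧸ I)) (R ⧸ I)).comp
        (Ideal.Quotient.mk (Ideal.span {r | r ∈ rs₀}))) = _
      rw [← RingEquiv.toRingHom_eq_coe, RingHom.ker_equiv_comp, Ideal.mk_ker]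
    let π₁ : AdicCompletion (IsLocalRing.maximalIdeal R) R →+*
        AdicCompletion (IsLocalRing.maximalIdeal (R ⧸ I)) (R ⧸ I) :=
      (e.symm : (AdicCompletion (IsLocalRing.maximalIdeal R) R ⧸
        I.map (algebraMap R (AdicCompletion (IsLocalRing.maximalIdeal R) R))) →+*
          AdicCompletion (IsLocalRing.maximalIdeal (R ⧸ I)) (R ⧸ I)).comp
        (Ideal.Quotient.mk _)
    have hπ₁ : Function.Surjective π₁ := e.symm.surjective.comp Ideal.Quotient.mk_surjective
    have hker₁ : RingHom.ker π₁ =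
        I.map (algebraMap R (AdicCompletion (IsLocalRing.maximalIdeal R) R)) := by
      change RingHom.ker ((e.symm : (AdicCompletion (IsLocalRing.maximalIdeal R) R ⧸
        I.map (algebraMap R (AdicCompletion (IsLocalRing.maximalIdeal R) R))) →+*
          AdicCompletion (IsLocalRing.maximalIdeal (R ⧸ I)) (R ⧸ I)).comp
        (Ideal.Quotient.mk _)) = _
      rw [← RingEquiv.toRingHom_eq_coe, RingHom.ker_equiv_comp, Ideal.mk_ker]
    obtain ⟨rs, hrs, hrsker⟩ :=
      Groth.Agent.Lib.Helper82.CICrit.exists_isRegular_of_exists_isRegular B₀ _ π₀ hπ₀ _ π₁ hπ₁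
        ⟨rs₀, hreg, hker₀.symm⟩
    obtain ⟨rs', h1, h2⟩ :=
      (Groth.Agent.Lib.Helper82.CICompl.exists_isRegular_iff_completion R I).mpr
        ⟨rs, hrs, hrsker.trans hker₁⟩
    exact ⟨rs', h2, h1⟩
  · rintro ⟨rs, hrs, hreg⟩
    obtain ⟨rsB, hregB, hrsB⟩ :=
      (Groth.Agent.Lib.Helper82.CICompl.exists_isRegular_iff_completion R I).mp ⟨rs, hreg, hrs⟩
    refine ⟨AdicCompletion (IsLocalRing.maximalIdeal R) R, inferInstance, hRB, rsB, ?_, hregB,
      ⟨e.trans (Ideal.quotEquivOfEq hrsB.symm)⟩⟩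
    intro r hr
    apply Groth.Agent.Lib.Helper82.ComplQuot.map_le_maximalIdeal R I hI
    rw [← hrsB]
    exact Ideal.subset_span hr

end Groth.Agent.S2166
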