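import Groth.Statements.S9368
import Groth.Agent.Lib.Helper82.CIField
import Groth.Agent.H46.SyntMor
import Groth.Agent.H46.SyntFibre
import Groth.Agent.H46.SyntSquare
import Groth.Agent.H46.SyntLocal

set_option autoImplicit false
universe u
open Synt

namespace Groth.Agent.S9368

section Helpers

open AlgebraicGeometry CategoryTheory
open Groth.Agent.H46.SyntLocality Groth.Agent.H46.SyntMor

/-- over a field, a local complete intersection algebra is syntomic -/
theorem isSyntomic_of_isLCIOver_field {k C : Type u} [Field k] [CommRing C] [Algebra k C]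
    (h : Synt.IsLCIOver k C) : Synt.IsSyntomic k C := by
  haveI := h.1
  refine ⟨inferInstance, Algebra.FinitePresentation.of_finiteType.mp h.1, fun p => ?_⟩
  obtain ⟨I, hI⟩ := p
  obtain rfl : I = ⊥ := by
    by_contra hne
    obtain ⟨a, ha, ha0⟩ := Submodule.exists_mem_ne_zero_of_ne_bot hne
    exact hI.ne_top (Ideal.eq_top_of_isUnit_mem _ ha (isUnit_iff_ne_zero.mpr ha0))
  haveI : (⊥ : Ideal k).IsMaximal := Ideal.bot_isMaximal
  have hbij : Function.Bijective (algebraMap k (⊥ : Ideal k).ResidueField) :=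
    ⟨(algebraMap k (⊥ : Ideal k).ResidueField).injective,
      Ideal.algebraMap_residueField_surjective _⟩
  let σ' : k ≃ₐ[k] (⊥ : Ideal k).ResidueField :=
    AlgEquiv.ofBijective (Algebra.ofId k _) hbij
  let e : (⊥ : Ideal k).Fiber C ≃ₐ[k] C :=
    (Algebra.TensorProduct.congr σ'.symm AlgEquiv.refl).trans (Algebra.TensorProduct.lid k C)
  refine isLCIOver_of_ringEquiv_semilinear σ'.toRingEquiv e.symm.toRingEquiv ?_ h
  intro x
  show e.symm (algebraMap k C x) = (σ' x) ⊗ₜ 1
  rw [AlgEquiv.symm_apply_eq]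
  simp [e, Algebra.algebraMap_eq_smul_one]

variable {k : Type u} [Field k] {X : Scheme.{u}} (p : X ⟶ Spec (CommRingCat.of k))

/-- the structure map `k → Γ(X, U)` -/
noncomputable def sm (U : X.Opens) : CommRingCat.of k ⟶ Γ(X, U) :=
  (Scheme.ΓSpecIso (CommRingCat.of k)).inv ≫ p.appLE ⊤ U le_top

/-- the structure map `k → O_{X,x}` -/
noncomputable def smx (x : X) : CommRingCat.of k ⟶ X.presheaf.stalk x :=
  (Scheme.ΓSpecIso (CommRingCat.of k)).inv ≫ p.appLE ⊤ ⊤ le_top ≫ X.presheaf.germ ⊤ x trivial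

theorem sm_map {U U' : X.Opens} (i : U' ≤ U) :
    sm p U ≫ X.presheaf.map (homOfLE i).op = sm p U' := by
  simp only [sm, Category.assoc, Scheme.Hom.appLE_map]

theorem sm_germ (U : X.Opens) (x : X) (hx : x ∈ U) :
    sm p U ≫ X.presheaf.germ U x hx = smx p x := by
  rw [← sm_map p (le_top : U ≤ ⊤), Category.assoc, TopCat.Presheaf.germ_res]
  simp only [sm, smx, Category.assoc]

theorem sm_iff (U : X.affineOpens) :
    (@Synt.IsSyntomic k _ Γ(X, U.1) _ (sm p U.1).hom.toAlgebra) ↔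
      Q (p.appLE ⊤ U.1 le_top).hom := by
  have hiso := Q_propertyIsLocal.respectsIso
  let e : k ≃+* Γ(Spec (CommRingCat.of k), ⊤) :=
    (Scheme.ΓSpecIso (CommRingCat.of k)).symm.commRingCatIsoToRingEquiv
  constructor
  · intro h
    have h' : Q ((p.appLE ⊤ U.1 le_top).hom.comp e.toRingHom) := h
    have := hiso.2 _ e.symm h'
    convert this using 1
    ext a
    simp
  · intro h
    exact hiso.2 _ e h

theorem gci_basicOpen (U : X.affineOpens) (g : Γ(X, U.1))
    (h : letI := (sm p U.1).hom.toAlgebra; Synt.IsGlobalCI k (Localization.Away g)) :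
    @Synt.IsGlobalCI k _ Γ(X, X.basicOpen g) _ (sm p (X.basicOpen g)).hom.toAlgebra := by
  letI a1 : Algebra k Γ(X, U.1) := (sm p U.1).hom.toAlgebra
  letI a2 : Algebra k Γ(X, X.basicOpen g) := (sm p (X.basicOpen g)).hom.toAlgebra
  have hloc := U.2.isLocalization_basicOpen g
  haveI : IsScalarTower k Γ(X, U.1) Γ(X, X.basicOpen g) := IsScalarTower.of_algebraMap_eq' (by
    simp only [RingHom.algebraMap_toAlgebra]
    rw [← sm_map p (X.basicOpen_le g)]
    rfl)
  let χ : Localization.Away g ≃ₐ[Γ(X, U.1)] Γ(X, X.basicOpen g) :=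
    IsLocalization.algEquiv (.powers g) _ _
  exact Groth.Agent.H46.isGlobalCI_of_algEquiv (χ.restrictScalars k) h

theorem mem_basicOpen_of_notMem (U : X.affineOpens) (x : X) (hx : x ∈ U.1) (g : Γ(X, U.1))
    (hg : g ∉ (U.2.primeIdealOf ⟨x, hx⟩).asIdeal) : x ∈ X.basicOpen g := by
  rw [← PrimeSpectrum.mem_basicOpen, IsAffineOpen.primeIdealOf,
    ← U.2.fromSpec_preimage_basicOpen] at hg
  change U.2.fromSpec (U.2.isoSpec.hom ⟨x, hx⟩) ∈ X.basicOpen g at hg
  rw [← Scheme.Hom.comp_apply, IsAffineOpen.isoSpec_hom, IsAffineOpen.toSpecΓ_fromSpec] at hg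
  exact hg

/-- the stalk versus the localization at the prime -/
theorem nonempty_stalk_equiv (U : X.affineOpens) (x : X) (hx : x ∈ U.1) :
    letI := (sm p U.1).hom.toAlgebra
    letI := (smx p x).hom.toAlgebra
    Nonempty (X.presheaf.stalk x ≃ₐ[k]
      Localization.AtPrime (U.2.primeIdealOf ⟨x, hx⟩).asIdeal) := by
  letI a1 : Algebra k Γ(X, U.1) := (sm p U.1).hom.toAlgebra
  letI a2 : Algebra k (X.presheaf.stalk x) := (smx p x).hom.toAlgebra
  letI a3 : Algebra Γ(X, U.1) (X.presheaf.stalk x) :=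
    TopCat.Presheaf.algebra_section_stalk X.presheaf ⟨x, hx⟩
  have hloc : IsLocalization.AtPrime (X.presheaf.stalk x)
    (U.2.primeIdealOf ⟨x, hx⟩).asIdeal := U.2.isLocalization_stalk ⟨x, hx⟩
  haveI : IsScalarTower k Γ(X, U.1) (X.presheaf.stalk x) := IsScalarTower.of_algebraMap_eq' (by
    simp only [RingHom.algebraMap_toAlgebra]
    rw [← sm_germ p U.1 x hx]
    rfl)
  let χ : X.presheaf.stalk x ≃ₐ[Γ(X, U.1)]
      Localization.AtPrime (U.2.primeIdealOf ⟨x, hx⟩).asIdeal :=
    IsLocalization.algEquiv (U.2.primeIdealOf ⟨x, hx⟩).asIdeal.primeCompl _ _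
  exact ⟨χ.restrictScalars k⟩

theorem finiteType_sm [LocallyOfFiniteType p] (U : X.affineOpens) :
    @Algebra.FiniteType k Γ(X, U.1) _ _ (sm p U.1).hom.toAlgebra := by
  have h1 : (p.appLE ⊤ U.1 le_top).hom.FiniteType :=
    HasRingHomProperty.appLE (P := @LocallyOfFiniteType) p inferInstance
      ⟨⊤, isAffineOpen_top _⟩ U le_top
  have h2 : ((Scheme.ΓSpecIso (CommRingCat.of k)).inv).hom.FiniteType :=
    RingHom.FiniteType.of_surjective _
      (Scheme.ΓSpecIso (CommRingCat.of k)).symm.commRingCatIsoToRingEquiv.surjective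
  exact h1.comp h2

theorem exists_affine_nhd (x : X) : ∃ U : X.affineOpens, x ∈ U.1 := by
  obtain ⟨W, hW, hxW, -⟩ := exists_isAffineOpen_mem_and_subset (x := x) (U := ⊤) trivial
  exact ⟨⟨W, hW⟩, hxW⟩

end Helpers

open AlgebraicGeometry CategoryTheory in
/-- For X locally of finite type over a field k with structure morphism p, the following are equivalent:
(1) p is syntomic; (2) every x ∈ X has an affine open neighbourhood whose coordinate ring is a
global complete intersection over k; (3) each stalk O_{X,x} is a complete intersection ring over k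
(k-algebra structures induced by p). -/
theorem result (k : Type u) [Field k] (X : Scheme.{u}) (p : X ⟶ Spec (CommRingCat.of k)) [LocallyOfFiniteType p] :
    [Synt.IsSyntomicMor p,
      ∀ x : ↑X, ∃ U : X.affineOpens, x ∈ U.1 ∧
        letI := ((Scheme.ΓSpecIso (CommRingCat.of k)).inv ≫ p.appLE ⊤ U.1 le_top).hom.toAlgebra
        Synt.IsGlobalCI k Γ(X, U.1),
      ∀ x : ↑X,
        letI := ((Scheme.ΓSpecIso (CommRingCat.of k)).inv ≫ p.appLE ⊤ ⊤ le_top ≫ X.presheaf.germ ⊤ x trivial).hom.toAlgebra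
        Synt.IsCIOver k (X.presheaf.stalk x)].TFAE := by
  classical
  have key : ∀ (x : X) (U : X.affineOpens) (hx : x ∈ U.1) (g : Γ(X, U.1)),
      g ∉ (U.2.primeIdealOf ⟨x, hx⟩).asIdeal →
      (letI := (sm p U.1).hom.toAlgebra; Synt.IsGlobalCI k (Localization.Away g)) →
      ∃ U' : X.affineOpens, x ∈ U'.1 ∧
        @Synt.IsGlobalCI k _ Γ(X, U'.1) _ (sm p U'.1).hom.toAlgebra :=
    fun x U hx g hg h => ⟨⟨X.basicOpen g, U.2.basicOpen g⟩, mem_basicOpen_of_notMem U x hx g hg,
      gci_basicOpen p U g h⟩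
  tfae_have 1 → 2 := by
    intro h1 x
    obtain ⟨U₀, hxU⟩ := exists_affine_nhd x
    have hQ := (Groth.Agent.H46.SyntMor.isSyntomicMor_iff_forall p).mp h1 U₀
      ⟨⊤, isAffineOpen_top _⟩ le_top
    have hs := (sm_iff p U₀).mpr hQ
    letI : Algebra k Γ(X, U₀.1) := (sm p U₀.1).hom.toAlgebra
    have hlci := Groth.Agent.H46.SyntFibre.isLCIOver_of_isSyntomic_field hs
    obtain ⟨g, hg, hG⟩ := hlci.2 (U₀.2.primeIdealOf ⟨x, hxU⟩)
    exact key x U₀ hxU g hg hG
  tfae_have 2 → 1 := by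
    intro h2 x
    obtain ⟨U, hxU, hG⟩ := h2 x
    refine ⟨U, ⟨⊤, isAffineOpen_top _⟩, le_top, hxU, ?_⟩
    apply (sm_iff p U).mp
    letI : Algebra k Γ(X, U.1) := (sm p U.1).hom.toAlgebra
    haveI : Algebra.FiniteType k Γ(X, U.1) := finiteType_sm p U
    exact isSyntomic_of_isLCIOver_field
      (Groth.Agent.H46.SyntSquare.isLCIOver_of_isGlobalCI _ _ hG)
  tfae_have 2 → 3 := by
    intro h2 x
    obtain ⟨U, hxU, hG⟩ := h2 x
    obtain ⟨χ⟩ := nonempty_stalk_equiv p U x hxU
    letI : Algebra k Γ(X, U.1) := (sm p U.1).hom.toAlgebra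
    letI : Algebra k (X.presheaf.stalk x) := (smx p x).hom.toAlgebra
    exact Groth.Agent.Lib.Helper82.CIField.isCIOver_of_algEquiv k χ.symm
      (Groth.Agent.Lib.Helper82.CIField.isCIOver_localization_of_isGlobalCI hG _)
  tfae_have 3 → 2 := by
    intro h3 x
    obtain ⟨U₀, hxU⟩ := exists_affine_nhd x
    obtain ⟨χ⟩ := nonempty_stalk_equiv p U₀ x hxU
    letI : Algebra k Γ(X, U₀.1) := (sm p U₀.1).hom.toAlgebra
    letI : Algebra k (X.presheaf.stalk x) := (smx p x).hom.toAlgebra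
    haveI : Algebra.FiniteType k Γ(X, U₀.1) := finiteType_sm p U₀
    have h := Groth.Agent.Lib.Helper82.CIField.isCIOver_of_algEquiv k χ (h3 x)
    obtain ⟨g, hg, hG⟩ :=
      Groth.Agent.Lib.Helper82.CIField.exists_isGlobalCI_away_of_isCIOver _ h
    exact key x U₀ hxU g hg hG
  tfae_finish

end Groth.Agent.S9368
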