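import Groth.Statements.S5068
import Groth.Agent.S2166
import Groth.Agent.Lib.Helper62.CITrans3

set_option autoImplicit false
universe u
open CInt

namespace Groth.Agent.S5068

/-- Suppose A and C are Noetherian local rings joined by a flat local homomorphism A → C whose closed
fibre C/m_A C is a regular local ring, and consider a local ring B obtained as a quotient of C by an
ideal J (encoded as a surjective C-algebra B, with J taken to be the kernel). The ideal J admits a
generating sequence that is transversally regular relative to A (each term a non-zero-divisor modulo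
the previous ones, and every partial quotient C/(f_1, …, f_j) A-flat) exactly when two things hold:
B is A-flat, and B/m_A B is a complete intersection (meaning its completion is a regular local ring
divided by a regular sequence). -/
theorem result (A C B : Type u) [CommRing A] [IsLocalRing A]
    [IsNoetherianRing A] [CommRing C] [IsLocalRing C] [IsNoetherianRing C] [Algebra A C] [IsLocalHom (algebraMap A C)]
    [Module.Flat A C] (hreg : IsRegularLocalRing (EGA4.FibRing A C))
    [CommRing B] [IsLocalRing B] [Algebra C B] [Algebra A B] [IsScalarTower A C B] [IsLocalHom (algebraMap A B)]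
    (hsurj : Function.Surjective (algebraMap C B)) :
    (∃ rs : List C, Ideal.ofList rs = RingHom.ker (algebraMap C B) ∧ RegImm.IsTransRegularSeq A C rs) ↔
      (Module.Flat A B ∧ Pi1.IsCompleteIntersection (EGA4.FibRing A B)) := by
  classical
  have hregI : IsRegularLocalRing (EGA4.FibRing A C) := hreg
  set I : Ideal C := EGA4.mB A C with hI
  set J : Ideal C := RingHom.ker (algebraMap C B) with hJ
  let g : C →+* EGA4.FibRing A B := (Ideal.Quotient.mk (EGA4.mB A B)).comp (algebraMap C B)
  have hg : Function.Surjective g := Ideal.Quotient.mk_surjective.comp hsurj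
  have hmB : EGA4.mB A B = I.map (algebraMap C B) := by
    rw [hI, EGA4.mB, EGA4.mB, Ideal.map_map, ← IsScalarTower.algebraMap_eq]
  have hkerg : RingHom.ker g = I ⊔ J := by
    change RingHom.ker ((Ideal.Quotient.mk (EGA4.mB A B)).comp (algebraMap C B)) = _
    rw [← RingHom.comap_ker, Ideal.mk_ker, hmB, Ideal.comap_map_of_surjective _ hsurj]
    rfl
  let e1 : C ⧸ (I ⊔ J) ≃+* EGA4.FibRing A B :=
    (Ideal.quotEquivOfEq hkerg.symm).trans (RingHom.quotientKerEquivOfSurjective hg)
  let e2 : (C ⧸ I) ⧸ J.map (Ideal.Quotient.mk I) ≃+* C ⧸ (I ⊔ J) :=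
    DoubleQuot.quotQuotEquivQuotSup I J
  let e : (C ⧸ I) ⧸ J.map (Ideal.Quotient.mk I) ≃+* EGA4.FibRing A B := e2.trans e1
  have hnt : Nontrivial ((C ⧸ I) ⧸ J.map (Ideal.Quotient.mk I)) := e.toEquiv.nontrivial
  have hJne : J.map (Ideal.Quotient.mk I) ≠ ⊤ := Ideal.Quotient.nontrivial_iff.mp hnt
  have hlocI : IsLocalRing (C ⧸ I) := hregI.toIsLocalRing
  have hloc : IsLocalRing ((C ⧸ I) ⧸ J.map (Ideal.Quotient.mk I)) :=
    IsLocalRing.of_surjective' (Ideal.Quotient.mk (J.map (Ideal.Quotient.mk I)))
      Ideal.Quotient.mk_surjective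
  have key := Groth.Agent.S2166.result (R := C ⧸ I) (J.map (Ideal.Quotient.mk I)) hJne
  let eB : (C ⧸ J) ≃ₐ[A] B :=
    Ideal.quotientKerAlgEquivOfSurjective (f := IsScalarTower.toAlgHom A C B) hsurj
  constructor
  · rintro ⟨rs, hrs, htr⟩
    obtain ⟨hw, hfl⟩ := htr
    have hflB : Module.Flat A B := by
      have h := hfl rs.length le_rfl
      rw [List.take_length, hrs] at h
      exact Module.Flat.of_linearEquiv eB.symm.toLinearEquiv
    refine ⟨hflB, ?_⟩
    have hwr := Groth.Agent.Lib.Helper62.CITrans.fibre_regular_of_trans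
      (IsLocalRing.maximalIdeal A) rs hw hfl
    have hmapJ : Ideal.ofList (rs.map (Ideal.Quotient.mk I)) = J.map (Ideal.Quotient.mk I) := by
      rw [← Ideal.map_ofList, hrs]
    have hreg' : RingTheory.Sequence.IsRegular (C ⧸ I) (rs.map (Ideal.Quotient.mk I)) := by
      refine ⟨hwr, ?_⟩
      rw [Groth.Agent.Lib.Helper62.CITrans.smul_top_eq_self, hmapJ]
      exact fun h => hJne h.symm
    exact Groth.Agent.Lib.Helper62.CITrans.isCI_of_ringEquiv e (key.mpr ⟨_, hmapJ, hreg'⟩)
  · rintro ⟨hflB, hCI⟩
    have hCI' := Groth.Agent.Lib.Helper62.CITrans.isCI_of_ringEquiv e.symm hCI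
    obtain ⟨rsb, hrsb, hregb⟩ := key.mp hCI'
    obtain ⟨rs, hmap, hrsJ⟩ := Groth.Agent.Lib.Helper62.CITrans.exists_list_lift
      (Ideal.Quotient.mk I) Ideal.Quotient.mk_surjective J rsb
      (fun x hx => by rw [← hrsb]; exact Ideal.subset_span hx)
    have hflJ : Module.Flat A (C ⧸ J) := Module.Flat.of_linearEquiv eB.toLinearEquiv
    have hgen : Ideal.ofList rs = J :=
      Groth.Agent.Lib.Helper62.CITrans.ofList_eq_of_map_eq J rs hrsJ (by rw [hmap, hrsb])
    refine ⟨rs, hgen, ?_⟩
    exact Groth.Agent.Lib.Helper62.CITrans.trans_of_fibre_regular rs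
      (by rw [hmap]; exact hregb.toIsWeaklyRegular)

end Groth.Agent.S5068
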