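import Groth.Statements.S2169
import Groth.Agent.Lib.Helper82.CICrit

set_option autoImplicit false
universe u
open LCI

namespace Groth.Agent.S2169

/-- Let A be a complete Noetherian local ring whose completion is a regular local ring modulo a regular
sequence. Then for every surjection R -> A from a regular local ring R, the kernel is generated by a
regular sequence of R. -/
theorem result {A R : Type u} [CommRing A] [CommRing R]
    [IsNoetherianRing A] [IsLocalRing A] [IsAdicComplete (IsLocalRing.maximalIdeal A) A]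
    [IsRegularLocalRing R] (f : R →+* A) (hf : Function.Surjective f)
    (hA : Pi1.IsCompleteIntersection A) :
    ∃ rs : List R, Ideal.ofList rs = RingHom.ker f ∧ RingTheory.Sequence.IsRegular R rs := by
  obtain ⟨B, _, hB, rs₀, hmem, hreg, ⟨φ⟩⟩ := hA
  -- `A` is complete, so `A ≃ Â`
  let ψ : A ≃+* B ⧸ Ideal.span {r | r ∈ rs₀} :=
    (AdicCompletion.ofAlgEquiv (IsLocalRing.maximalIdeal A)).toRingEquiv.trans φ
  let π' : B →+* A := (ψ.symm : (B ⧸ Ideal.span {r | r ∈ rs₀}) →+* A).comp
    (Ideal.Quotient.mk (Ideal.span {r | r ∈ rs₀}))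
  have hπ' : Function.Surjective π' :=
    ψ.symm.surjective.comp Ideal.Quotient.mk_surjective
  have hker : RingHom.ker π' = Ideal.ofList rs₀ := by
    change RingHom.ker ((ψ.symm : (B ⧸ Ideal.span {r | r ∈ rs₀}) →+* A).comp
      (Ideal.Quotient.mk (Ideal.span {r | r ∈ rs₀}))) = _
    rw [← RingEquiv.toRingHom_eq_coe, RingHom.ker_equiv_comp, Ideal.mk_ker]
  obtain ⟨rs, hrs, hrsker⟩ :=
    Groth.Agent.Lib.Helper82.CICrit.exists_isRegular_of_exists_isRegular B A π' hπ' R f hf
      ⟨rs₀, hreg, hker.symm⟩
  exact ⟨rs, hrsker, hrs⟩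

end Groth.Agent.S2169
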