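import Groth.Statements.S1492
import Groth.Agent.Lib.Helper10.LciDescent
import Groth.Agent.Lib.Helper10.RegImmDescent

set_option autoImplicit false
universe u
attribute [local instance] HasDerivedCategory.standard
open FlatMor

namespace Groth.Agent.S1492

open AlgebraicGeometry CategoryTheory Limits in
/-- Let S' → S be flat, surjective and quasi-compact and f' : X' → S' the base change of f : X → S. If
f' is a local complete intersection morphism (affine-locally: local complete intersection ring maps)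
then so is f. -/
theorem result {X S X' S' : Scheme.{u}} (f : X ⟶ S) (f' : X' ⟶ S') (g' : X' ⟶ X) (g : S' ⟶ S)
    [Flat g] [Surjective g] [QuasiCompact g] (hc : IsPullback g' f' f g)
    (hf' : (∀ (U : X'.Opens) (V : S'.Opens) (hU : IsAffineOpen U) (hV : IsAffineOpen V) (hUV : U ≤ f' ⁻¹ᵁ V),
        letI := (f'.appLE V U hUV).hom.toAlgebra
        LCI.IsLCI Γ(S', V) Γ(X', U))) :
    (∀ (U : X.Opens) (V : S.Opens) (hU : IsAffineOpen U) (hV : IsAffineOpen V) (hUV : U ≤ f ⁻¹ᵁ V),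
        letI := (f.appLE V U hUV).hom.toAlgebra
        LCI.IsLCI Γ(S, V) Γ(X, U)) := by
  intro U V hU hV hUV
  show Groth.Agent.Lib.Helper10.LciComp.IsLCIHom (f.appLE V U hUV).hom
  -- finite type
  have hLFT' : LocallyOfFiniteType f' := ⟨fun {V'} hV' {U'} hU' e => (hf' U' V' hU' hV' e).1⟩
  have hLFT : LocallyOfFiniteType f :=
    MorphismProperty.of_isPullback_of_descendsAlong (P := @LocallyOfFiniteType)
      (Q := @Surjective ⊓ @Flat ⊓ @QuasiCompact) hc.flip
      ⟨⟨inferInstance, inferInstance⟩, inferInstance⟩ hLFT'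
  have hft : (f.appLE V U hUV).hom.FiniteType := f.finiteType_appLE hV hU hUV
  -- a finite affine cover of the preimage of `V`
  have hcomp : IsCompact ((g ⁻¹ᵁ V : S'.Opens) : Set S') :=
    QuasiCompact.isCompact_preimage (f := g) _ V.2 hV.isCompact
  obtain ⟨s, hs, hcover⟩ := isCompact_iff_finite_and_eq_biUnion_affineOpens.mp hcomp
  haveI : Finite s := hs
  have hle : ∀ V' : s, V'.1.1 ≤ g ⁻¹ᵁ V := by
    intro V'
    rw [hcover]
    exact le_iSup₂ (f := fun (i : S'.affineOpens) (_ : i ∈ s) => (i : S'.Opens)) V'.1 V'.2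
  letI := (f.appLE V U hUV).hom.toAlgebra
  letI : ∀ V' : s, Algebra Γ(S, V) Γ(S', V'.1.1) := fun V' =>
    (g.appLE V V'.1.1 (hle V')).hom.toAlgebra
  haveI : ∀ V' : s, Module.Flat Γ(S, V) Γ(S', V'.1.1) := fun V' =>
    Flat.flat_appLE g hV V'.1.2 (hle V')
  refine Groth.Agent.Lib.Helper10.LciDescent.isLCI_of_flat_family hft (ι := s)
    (fun V' : s => Γ(S', V'.1.1)) ?_ ?_
  · intro 𝔭
    obtain ⟨x', hx'⟩ := ‹Surjective g›.surj (hV.fromSpec 𝔭)
    have hx'mem : x' ∈ g ⁻¹ᵁ V := by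
      show g x' ∈ V
      rw [hx']
      exact Groth.Agent.Lib.Helper10.RegImmDescent.fromSpec_mem hV 𝔭
    rw [hcover] at hx'mem
    simp only [TopologicalSpace.Opens.mem_iSup] at hx'mem
    obtain ⟨V', hV's, hx'V'⟩ := hx'mem
    refine ⟨⟨V', hV's⟩, V'.2.primeIdealOf ⟨x', hx'V'⟩, ?_⟩
    have h1 := IsAffineOpen.comap_primeIdealOf_appLE (f := g) V hV V'.1 V'.2
      (hle ⟨V', hV's⟩) hx'V'
    refine h1.trans ?_
    have h2 : (⟨g x', (hle ⟨V', hV's⟩) hx'V'⟩ : V) =
        ⟨hV.fromSpec 𝔭, Groth.Agent.Lib.Helper10.RegImmDescent.fromSpec_mem hV 𝔭⟩ :=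
      Subtype.ext hx'
    rw [h2]
    exact Groth.Agent.Lib.Helper10.RegImmDescent.primeIdealOf_fromSpec hV 𝔭 _
  · intro V'
    have hU' : IsAffineOpen (g' ⁻¹ᵁ U ⊓ f' ⁻¹ᵁ V'.1.1) := by
      have : IsAffine V.toScheme := hV
      have : IsAffine V'.1.1.toScheme := V'.1.2
      have : IsAffine U.toScheme := hU
      exact IsAffine.of_isIso (Scheme.Hom.isPullback_resLE hc (hle V') hUV rfl).isoPullback.hom
    have hpush := (isIso_pushoutSection_iff hc (hle V') hUV rfl).mp
      (isIso_pushoutSection_of_isAffineOpen hc (hle V') hUV rfl hV V'.1.2 hU)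
    exact Groth.Agent.Lib.Helper10.LciDescent.isLCI_tensor_of_isPushout _ _ hpush
      (hf' _ V'.1.1 hU' V'.1.2 _)

end Groth.Agent.S1492
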