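import Groth.Statements.S10567
import Groth.Agent.Lib.Helper54.LocalST

set_option autoImplicit false
universe u
open CategoryTheory CategoryTheory.Limits AlgebraicGeometry
open AlgSp

namespace Groth.Agent.S10567

/-- A property P of morphisms of algebraic spaces over S that is smooth local on the source, smooth
local on the base, and stable under postcomposition with smooth morphisms (whenever g : Y ⟶ Z is
smooth and f : X ⟶ Y has P, the composite f ≫ g has P) is smooth local on source-and-target. -/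
theorem result {S : Scheme.{u}} (P : MorphismProperty (AlgSp.Sp S))
    (h1 : AlgSp.IsLocalOnSource (AlgSp.IsSmCover (S := S)) P)
    (h2 : AlgSp.IsLocalOnBase (AlgSp.IsSmCover (S := S)) P)
    (h3 : ∀ ⦃X Y Z : AlgSp.Space S⦄ (f : X ⟶ Y) (g : Y ⟶ Z), P f.hom → AlgSp.LocP @Smooth g.hom → P (f ≫ g).hom) :
    AlgSp.IsSmoothLocalST P := by
  refine ⟨?_, ?_, ?_⟩
  · intro X Y Z hX hY hZ f g hf hg
    have hcov : AlgSp.IsSmCover (Groth.Agent.Lib.Helper54.twoFam X Y)
        (Groth.Agent.Lib.Helper54.twoMap f (𝟙 Y)) :=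
      Groth.Agent.Lib.Helper54.isCover_twoMap_id f hf (Groth.Agent.Lib.Helper54.locP_smooth_id Y)
    exact ((h1 _ _ hY (Groth.Agent.Lib.Helper54.twoFam_isAlgSpace hX hY) hcov g hZ).1 hg) ⟨true⟩
  · intro X Y X' Y' hX hY hX' hY' f g f' g' sq hg hf
    have hcov : AlgSp.IsSmCover (Groth.Agent.Lib.Helper54.twoFam Y' Y)
        (Groth.Agent.Lib.Helper54.twoMap g (𝟙 Y)) :=
      Groth.Agent.Lib.Helper54.isCover_twoMap_id g hg (Groth.Agent.Lib.Helper54.locP_smooth_id Y)
    have hsq : ∀ i, IsPullback (Groth.Agent.Lib.Helper54.twoMap g' (𝟙 X) i)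
        (Groth.Agent.Lib.Helper54.twoHom f' f i) f (Groth.Agent.Lib.Helper54.twoMap g (𝟙 Y) i) := by
      rintro ⟨_ | _⟩
      · change IsPullback (𝟙 X) f f (𝟙 Y)
        exact IsPullback.of_horiz_isIso ⟨by rw [Category.id_comp, Category.comp_id]⟩
      · exact sq
    exact ((h2 _ _ hY (Groth.Agent.Lib.Helper54.twoFam_isAlgSpace hY' hY) hcov f hX _ _ _
      (Groth.Agent.Lib.Helper54.twoFam_isAlgSpace hX' hX) hsq).1 hf) ⟨true⟩
  · intro X Y hX hY f
    constructor
    · intro hf x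
      exact ⟨X, Y, 𝟙 X, 𝟙 Y, f, x, hX, hY, Groth.Agent.Lib.Helper54.locP_smooth_id X,
        Groth.Agent.Lib.Helper54.locP_smooth_id Y, by rw [Category.id_comp, Category.comp_id],
        AlgSp.Points.map_id x, hf⟩
    · intro h
      obtain ⟨A, c, hce, hcs⟩ := hX.atlas
      have key : ∀ t : ↥A.left, ∃ (U : AlgSp.Sp S) (a : U ⟶ X), AlgSp.IsAlgSpace U ∧ AlgSp.LocP @Smooth a ∧
          P (a ≫ f) ∧ AlgSp.Points.map c (AlgSp.Points.ofScheme A t) ∈ Set.range (AlgSp.Points.map a) := by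
        intro t
        obtain ⟨U, V, a, b, h', v, hU, hV, ha, hb, comm, hv, hPh⟩ :=
          h (AlgSp.Points.map c (AlgSp.Points.ofScheme A t))
        refine ⟨U, a, hU, ha, ?_, ⟨v, hv⟩⟩
        rw [comm]
        exact h3 (X := ⟨U, hU⟩) (Y := ⟨V, hV⟩) (Z := ⟨Y, hY⟩) (ObjectProperty.homMk h')
          (ObjectProperty.homMk b) hPh hb
      choose U a hU ha hPa hrange using key
      refine (h1 U a hX hU ⟨ha, fun x => ?_⟩ f hY).2 hPa
      obtain ⟨ξ, rfl⟩ := Groth.Agent.H52.surjective_points_of_repWith_surjective c hcs x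
      obtain ⟨t, rfl⟩ := Groth.Agent.Lib.Helper54.exists_ofScheme_eq A ξ
      exact ⟨t, hrange t⟩

end Groth.Agent.S10567
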