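import Groth.Statements.S10553
import Groth.Agent.H52.SmoothSection2
import Groth.Agent.H52.SmoothSource
import Groth.Agent.H52.LocPCalc4
import Groth.Agent.H52.LocNoeth
import Groth.Agent.H52.ThickFlat

set_option autoImplicit false
universe u
open CategoryTheory CategoryTheory.Limits AlgebraicGeometry
open AlgSp

namespace Groth.Agent.S10553

/-- The property of morphisms of algebraic spaces over S given by f is smooth (on etale charts) is
smooth local on the source: for a morphism f : X ⟶ Y of algebraic spaces and a smooth covering of X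
by algebraic spaces X_i, f has the property if and only if every composite X_i ⟶ X ⟶ Y has it. -/
theorem result (S : Scheme.{u}) :
    AlgSp.IsLocalOnSource (AlgSp.IsSmCover (S := S)) (AlgSp.LocP @Smooth) := by
  intro ι X Xi g hX hXi hcovr Y f hY
  obtain ⟨hsm, hcov⟩ := hcovr
  constructor
  · intro hf i
    exact Groth.Agent.H52.isEtLocal_smooth.locP_comp (hXi i) hX hY (g i) f (hsm i) hf
  · intro H
    obtain ⟨V, b, hbe, hbs⟩ := hY.atlas
    obtain ⟨U, a, h, hae, has, comm⟩ :=
      Groth.Agent.H52.exists_surjective_chart_over hX f b hbe hbs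
    refine Groth.Agent.H52.isEtLocal_smooth.locP_of_chart f a b h hae has hbe comm ?_
    -- the family of charts of the members of the covering
    let J := {p : ι × ↥U.left // ∃ ξ, Points.map (g p.1) ξ = Points.ofPt a p.2}
    have key : ∀ j : J, ∃ (W : Over S) (c : (yon S).obj W ⟶ Xi j.1.1) (k : W ⟶ U) (w : ↥W.left),
        RepWith @Etale c ∧ c ≫ g j.1.1 = (yon S).map k ≫ a ∧ k.left w = j.1.2 := by
      rintro ⟨⟨i, u⟩, ξ, hξ⟩
      obtain ⟨W, c, k, w, hce, hck, -, hkw⟩ :=
        Groth.Agent.H52.exists_chart_over_through_point (hXi i) hX (g i) a hae ξ u hξ.symm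
      exact ⟨W, c, k, w, hce, hck, hkw⟩
    choose W c k w hce hck hkw using key
    refine Groth.Agent.H52.smooth_of_smooth_cover h.left (fun j => (W j).left)
      (fun j => (k j).left) (fun j => hsm j.1.1 (c j) a (k j) (hce j) hae (hck j)) ?_ ?_
    · intro u
      obtain ⟨i, ξ, hξ⟩ := hcov (Points.ofPt a u)
      exact ⟨⟨(i, u), ξ, hξ⟩, w _, hkw _⟩
    · intro j
      have := H j.1.1 (c j) b (k j ≫ h) (hce j) hbe (by
        rw [← Category.assoc, hck j, Category.assoc, comm, Functor.map_comp, Category.assoc])
      exact this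

end Groth.Agent.S10553
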