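import Groth.Statements.S9287
import Groth.Agent.Lib.Helper10.SyntOfLci
import Groth.Agent.Lib.Helper10.LciLocalProp
import Groth.Agent.Lib.Helper82.SyntLocal
import Groth.Agent.Lib.Helper82.RelGCIKoszul

set_option autoImplicit false
universe u
attribute [local instance] HasDerivedCategory.standard
open CategoryTheory
open Synt

namespace Groth.Agent.S9287

open Groth.Agent.Lib.Helper10.LciComp Groth.Agent.Lib.Helper10.LciLocalProp
open Groth.Agent.Lib.Helper10.LciPoly Groth.Agent.Lib.Helper10.RegDescent
open Groth.Agent.Lib.Helper10.RegDescentKoszul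

/-- a relative global complete intersection is a local complete intersection ring map. -/
theorem isLCI_relGCIRing (R : Type u) [CommRing R] (n c : ℕ) (F : Fin c → MvPolynomial (Fin n) R)
    (h : Synt.IsRelGCI R n c F) : LCI.IsLCI R (Synt.RelGCIRing R n c F) := by
  refine ⟨inferInstance, n, Ideal.Quotient.mkₐ R _, Ideal.Quotient.mkₐ_surjective R _, ?_⟩
  have hk : RingHom.ker (Ideal.Quotient.mkₐ R (Ideal.span (Set.range F))).toRingHom =
      Ideal.ofList (List.ofFn F) := by
    have : RingHom.ker (Ideal.Quotient.mkₐ R (Ideal.span (Set.range F))).toRingHom =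
        Ideal.span (Set.range F) := Ideal.mk_ker
    rw [this]
    unfold Ideal.ofList
    congr 1
    ext x
    simp [List.mem_ofFn]
  exact isLoc_of_ofList _ _ (Groth.Agent.Lib.Helper82.RelGCIKoszul.isKoszulRegularSeq R n c F h) hk

/-- local complete intersection ring maps transfer along algebra isomorphisms. -/
theorem isLCI_of_algEquiv {R B B' : Type u} [CommRing R] [CommRing B] [CommRing B'] [Algebra R B]
    [Algebra R B'] (e : B ≃ₐ[R] B') (h : LCI.IsLCI R B) : LCI.IsLCI R B' := by
  rw [← isLCIHom_algebraMap] at h ⊢
  have h1 := isLCIHom_respectsIso.left (algebraMap R B) e.toRingEquiv h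
  have h2 : e.toRingEquiv.toRingHom.comp (algebraMap R B) = algebraMap R B' := by
    ext r
    exact e.commutes r
  rwa [h2] at h1

/-- A ring map R → S is syntomic if and only if it is flat and a local complete intersection
homomorphism. -/
theorem result (R S : Type u) [CommRing R] [CommRing S] [Algebra R S] :
    Synt.IsSyntomic R S ↔ Module.Flat R S ∧ LCI.IsLCI R S := by
  constructor
  · intro h
    refine ⟨h.1, ?_⟩
    rw [← isLCIHom_algebraMap]
    apply isLCIHom_ofLocalizationSpanTarget (algebraMap R S)
      {g | IsLCIHom ((algebraMap S (Localization.Away g)).comp (algebraMap R S))}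
    · by_contra hne
      obtain ⟨𝔪, h𝔪, hle⟩ := Ideal.exists_le_maximal _ hne
      haveI := h𝔪.isPrime
      obtain ⟨g, hg, n, c, F, hF, ⟨e⟩⟩ :=
        Groth.Agent.Lib.Helper82.SyntLocal.exists_relGCI_of_isSyntomic (R := R) S h 𝔪
      apply hg
      apply hle
      apply Ideal.subset_span
      show IsLCIHom ((algebraMap S (Localization.Away g)).comp (algebraMap R S))
      rw [← IsScalarTower.algebraMap_eq, isLCIHom_algebraMap]
      exact isLCI_of_algEquiv e.symm (isLCI_relGCIRing R n c F hF)
    · rintro ⟨g, hg⟩
      exact hg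
  · rintro ⟨hfl, hlci⟩
    exact Groth.Agent.Lib.Helper10.SyntOfLci.isSyntomic_of_flat_of_isLCI R S hlci

end Groth.Agent.S9287
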