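import Mathlib
import Groth.Statements.S7221

set_option autoImplicit false
universe u
open CategoryTheory CategoryTheory.Limits TensorProduct
attribute [local instance] HasDerivedCategory.standard
open FlatMor

namespace Groth.Agent.S7221


open Algebra Algebra.Extension TensorProduct

section part1

variable {R S R' S' : Type u} [CommRing R] [CommRing S] [CommRing R'] [CommRing S']
  [Algebra R S] [Algebra R' S'] [Algebra R R'] [Algebra S S'] [Algebra R S']
  [IsScalarTower R R' S'] [IsScalarTower R S S']
  {ι : Type u} (G : Algebra.Generators R S ι) (G' : Algebra.Generators R' S' ι)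
  (h : ∀ i, G'.val i = algebraMap S S' (G.val i))

lemma sameVars_toRingHom (x : G.toExtension.Ring) :
    (NLCx.sameVarsHom G G' h).toExtensionHom.toRingHom x =
      MvPolynomial.map (algebraMap R R') (x : MvPolynomial ι R) := by
  show (NLCx.sameVarsHom G G' h).toAlgHom x = _
  induction x using MvPolynomial.induction_on with
  | C a =>
    rw [Algebra.Generators.Hom.toAlgHom_C, MvPolynomial.map_C]
  | add p q hp hq => rw [map_add, map_add, hp, hq]
  | mul_X p i hp =>
    rw [map_mul, map_mul, hp, Algebra.Generators.Hom.toAlgHom_X, MvPolynomial.map_X]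
    rfl

include h in
lemma aeval_map_eq (p : MvPolynomial ι R) :
    MvPolynomial.aeval G'.val (MvPolynomial.map (algebraMap R R') p) =
      algebraMap S S' (MvPolynomial.aeval G.val p) := by
  induction p using MvPolynomial.induction_on with
  | C a =>
    rw [MvPolynomial.map_C, MvPolynomial.aeval_C, MvPolynomial.aeval_C,
      ← IsScalarTower.algebraMap_apply R R' S', ← IsScalarTower.algebraMap_apply R S S']
  | add p q hp hq => rw [map_add, map_add, map_add, map_add, hp, hq]
  | mul_X p i hp =>
    rw [map_mul, map_mul, map_mul, map_mul, hp, MvPolynomial.map_X, MvPolynomial.aeval_X,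
      MvPolynomial.aeval_X, h]

/-- the base-changed map on cotangent spaces is bijective -/
lemma lift_cotangentSpace_bijective :
    Function.Bijective (LinearMap.liftBaseChange S' (Algebra.Extension.CotangentSpace.map
      (NLCx.sameVarsHom G G' h).toExtensionHom)) := by
  classical
  have hb : ∀ i, Algebra.Extension.CotangentSpace.map
      (NLCx.sameVarsHom G G' h).toExtensionHom (G.cotangentSpaceBasis i) =
      G'.cotangentSpaceBasis i := by
    intro i
    apply G'.cotangentSpaceBasis.repr.injective
    ext j
    rw [Algebra.Generators.repr_CotangentSpaceMap, Module.Basis.repr_self]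
    show (MvPolynomial.aeval G'.val) (MvPolynomial.pderiv j (MvPolynomial.X i)) = _
    rw [MvPolynomial.pderiv_X, Finsupp.single_apply, Pi.single_apply]
    by_cases hij : i = j
    · subst hij
      simp
    · rw [if_neg hij, if_neg hij, map_zero]
  have heq : LinearMap.liftBaseChange S' (Algebra.Extension.CotangentSpace.map
      (NLCx.sameVarsHom G G' h).toExtensionHom) =
      ((G.cotangentSpaceBasis.baseChange S').equiv G'.cotangentSpaceBasis (Equiv.refl ι)).toLinearMap := by
    apply (G.cotangentSpaceBasis.baseChange S').ext
    intro i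
    rw [LinearEquiv.coe_coe, Module.Basis.equiv_apply, Equiv.refl_apply,
      Module.Basis.baseChange_apply, LinearMap.liftBaseChange_tmul, one_smul, hb]
  rw [heq]
  exact ((G.cotangentSpaceBasis.baseChange S').equiv G'.cotangentSpaceBasis (Equiv.refl ι)).bijective

variable [Algebra.IsPushout R R' S S']

include h in
/-- the kernel of the base-changed presentation is generated by the image of the kernel -/
lemma ker_le_map (y₀ : MvPolynomial ι R') (hy₀ : MvPolynomial.aeval G'.val y₀ = 0) :
    y₀ ∈ Ideal.map (MvPolynomial.map (algebraMap R R'))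
      (RingHom.ker (MvPolynomial.aeval G.val : MvPolynomial ι R →ₐ[R] S)) := by
  let α := MvPolynomial.algebraTensorAlgEquiv (σ := ι) R R'
  let β := Algebra.IsPushout.equiv R R' S S'
  let π : MvPolynomial ι R →ₐ[R] S := MvPolynomial.aeval G.val
  have hπ : Function.Surjective π := fun s => ⟨G.σ s, G.aeval_val_σ s⟩
  have hcomm : ∀ t : R' ⊗[R] MvPolynomial ι R,
      MvPolynomial.aeval G'.val (α t) = β (Algebra.TensorProduct.map (AlgHom.id R R') π t) := by
    intro t
    induction t using TensorProduct.induction_on with
    | zero => simp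
    | tmul r p =>
      rw [MvPolynomial.algebraTensorAlgEquiv_tmul, map_smul, Algebra.TensorProduct.map_tmul,
        Algebra.IsPushout.equiv_tmul, AlgHom.id_apply, Algebra.smul_def]
      congr 1
      exact aeval_map_eq G G' h p
    | add x y hx hy => simp only [map_add, hx, hy]
  have h1 : Algebra.TensorProduct.map (AlgHom.id R R') π (α.symm y₀) = 0 := by
    apply β.injective
    rw [← hcomm, AlgEquiv.apply_symm_apply, map_zero]
    exact hy₀
  have h2 : α.symm y₀ ∈ RingHom.ker (Algebra.TensorProduct.map (AlgHom.id R R') π) := h1
  rw [Algebra.TensorProduct.lTensor_ker _ hπ] at h2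
  have h3 : ∀ t ∈ Ideal.map
      (Algebra.TensorProduct.includeRight : MvPolynomial ι R →ₐ[R] R' ⊗[R] MvPolynomial ι R)
      (RingHom.ker π), α t ∈ Ideal.map (MvPolynomial.map (algebraMap R R')) (RingHom.ker π) := by
    intro t ht
    induction ht using Submodule.span_induction with
    | mem z hz =>
      obtain ⟨p, hp, rfl⟩ := hz
      have : α ((Algebra.TensorProduct.includeRight :
          MvPolynomial ι R →ₐ[R] R' ⊗[R] MvPolynomial ι R) p) = MvPolynomial.map (algebraMap R R') p := by
        show α ((1 : R') ⊗ₜ[R] p) = _
        rw [MvPolynomial.algebraTensorAlgEquiv_tmul, one_smul]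
      rw [this]
      exact Ideal.mem_map_of_mem _ hp
    | zero => rw [map_zero]; exact Ideal.zero_mem _
    | add a b _ _ ha hb => rw [map_add]; exact Ideal.add_mem _ ha hb
    | smul a b _ hb =>
      rw [smul_eq_mul, map_mul]
      exact Ideal.mul_mem_left _ _ hb
  have h4 := h3 _ h2
  rw [AlgEquiv.apply_symm_apply] at h4
  exact h4

omit [Algebra R S'] [IsScalarTower R R' S'] [IsScalarTower R S S'] [Algebra.IsPushout R R' S S'] [Algebra R R'] [Algebra S S'] [Algebra R' S'] [Algebra R S] [CommRing R] [CommRing S] [CommRing R'] [CommRing S'] in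
lemma span_aux {P : Type*} [CommRing P] (I : Ideal P) {M : Type*} [AddCommGroup M] [Module P M]
    (φ : I →ₗ[P] M) (N : Submodule P M) (s : Set P)
    (hs : ∀ x ∈ s, ∃ hx : x ∈ I, φ ⟨x, hx⟩ ∈ N) :
    ∀ y (hy : y ∈ I), y ∈ Ideal.span s → φ ⟨y, hy⟩ ∈ N := by
  intro y hy hys
  have hle : Ideal.span s ≤ Submodule.map I.subtype (Submodule.comap φ N) := by
    rw [Ideal.span_le]
    intro x hx
    obtain ⟨hx1, hx2⟩ := hs x hx
    exact ⟨⟨x, hx1⟩, hx2, rfl⟩
  obtain ⟨z, hz, hzy⟩ := hle hys
  have : z = ⟨y, hy⟩ := Subtype.ext hzy
  rw [← this]
  exact hz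

include h in
/-- the base-changed map on cotangents is surjective -/
lemma lift_cotangent_surjective :
    Function.Surjective (LinearMap.liftBaseChange S' (Algebra.Extension.Cotangent.map
      (NLCx.sameVarsHom G G' h).toExtensionHom)) := by
  intro y'
  obtain ⟨y, rfl⟩ := Algebra.Extension.Cotangent.mk_surjective y'
  have hy0 : MvPolynomial.aeval G'.val (y.1 : MvPolynomial ι R') = 0 :=
    (G'.algebraMap_apply y.1).symm.trans y.2
  have hmem := ker_le_map G G' h y.1 hy0
  refine span_aux G'.toExtension.ker Algebra.Extension.Cotangent.mk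
    ((LinearMap.range (LinearMap.liftBaseChange S' (Algebra.Extension.Cotangent.map
      (NLCx.sameVarsHom G G' h).toExtensionHom))).restrictScalars G'.toExtension.Ring)
    _ ?_ y.1 y.2 hmem
  rintro _ ⟨x, hx, rfl⟩
  have hx' : algebraMap G.toExtension.Ring S x = 0 := (G.algebraMap_apply x).trans hx
  have hfx : (NLCx.sameVarsHom G G' h).toExtensionHom.toRingHom x ∈ G'.toExtension.ker :=
    ((NLCx.sameVarsHom G G' h).toExtensionHom.algebraMap_toRingHom x).trans
      ((congrArg (algebraMap S S') hx').trans (map_zero _))
  have e := sameVars_toRingHom G G' h x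
  have hfx' : (MvPolynomial.map (algebraMap R R') x : G'.toExtension.Ring) ∈ G'.toExtension.ker :=
    e ▸ hfx
  refine ⟨hfx', (1 : S') ⊗ₜ[S] Algebra.Extension.Cotangent.mk ⟨x, hx'⟩, ?_⟩
  rw [LinearMap.liftBaseChange_tmul, one_smul, Algebra.Extension.Cotangent.map_mk]
  exact congrArg Algebra.Extension.Cotangent.mk (Subtype.ext e)

include h in
theorem part1 : Function.Surjective (NLCx.bcH1Map (NLCx.sameVarsHom G G' h).toExtensionHom) := by
  intro y
  obtain ⟨z, hz⟩ := lift_cotangent_surjective G G' h y.1
  have key : G'.toExtension.cotangentComplex ∘ₗ LinearMap.liftBaseChange S'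
      (Algebra.Extension.Cotangent.map (NLCx.sameVarsHom G G' h).toExtensionHom) =
      LinearMap.liftBaseChange S' (Algebra.Extension.CotangentSpace.map
        (NLCx.sameVarsHom G G' h).toExtensionHom) ∘ₗ G.toExtension.cotangentComplex.baseChange S' := by
    ext w
    simpa using (Algebra.Extension.CotangentSpace.map_cotangentComplex
      (NLCx.sameVarsHom G G' h).toExtensionHom w).symm
  have hz' : z ∈ NLCx.bcH1 G.toExtension S' := by
    rw [NLCx.bcH1, LinearMap.mem_ker]
    apply (lift_cotangentSpace_bijective G G' h).1
    rw [map_zero]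
    have h1 := congr($key z)
    simp only [LinearMap.coe_comp, Function.comp_apply] at h1
    rw [← h1, hz]
    exact y.2
  exact ⟨⟨z, hz'⟩, Subtype.ext hz⟩

end part1

section part2

variable (R S R' S' : Type u) [CommRing R] [CommRing S] [CommRing R'] [CommRing S']
  [Algebra R S] [Algebra R' S'] [Algebra R R'] [Algebra S S'] [Algebra R S']
  [IsScalarTower R R' S'] [IsScalarTower R S S'] [Algebra.IsPushout R R' S S']

include R in
lemma aeval_algebraMap_surjective :
    Function.Surjective (MvPolynomial.aeval (R := R') (fun s : S => algebraMap S S' s)) := by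
  intro x
  obtain ⟨t, rfl⟩ := (Algebra.IsPushout.equiv R R' S S').surjective x
  induction t using TensorProduct.induction_on with
  | zero => exact ⟨0, by simp⟩
  | tmul r s =>
    refine ⟨MvPolynomial.C r * MvPolynomial.X s, ?_⟩
    rw [map_mul, MvPolynomial.aeval_C, MvPolynomial.aeval_X, Algebra.IsPushout.equiv_tmul]
  | add a b ha hb =>
    obtain ⟨p, hp⟩ := ha
    obtain ⟨q, hq⟩ := hb
    exact ⟨p + q, by rw [map_add, map_add, hp, hq]⟩

/-- the intermediate presentation of `S'` over `R'` on the variables `S` -/
noncomputable def Gmid : Algebra.Generators R' S' S :=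
  Algebra.Generators.ofSurjective (fun s : S => algebraMap S S' s)
    (aeval_algebraMap_surjective R S R' S')

lemma Gmid_val (s : S) : (Gmid R S R' S').val s = algebraMap S S' ((Algebra.Generators.self R S).val s) := rfl

/-- the comparison hom from the intermediate presentation to the standard one -/
noncomputable def gHom : (Gmid R S R' S').Hom (Algebra.Generators.self R' S') where
  val s := MvPolynomial.X (algebraMap S S' s)
  aeval_val s := by
    rw [MvPolynomial.aeval_X]
    rfl

lemma toRingHom_factor (x : (Algebra.Generators.self R S).toExtension.Ring) :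
    ((Algebra.Generators.self R S).defaultHom (Algebra.Generators.self R' S')).toExtensionHom.toRingHom x =
      (gHom R S R' S').toExtensionHom.toRingHom
        ((NLCx.sameVarsHom (Algebra.Generators.self R S) (Gmid R S R' S')
          (Gmid_val R S R' S')).toExtensionHom.toRingHom x) := by
  show ((Algebra.Generators.self R S).defaultHom (Algebra.Generators.self R' S')).toAlgHom x =
    (gHom R S R' S').toAlgHom ((NLCx.sameVarsHom (Algebra.Generators.self R S) (Gmid R S R' S')
          (Gmid_val R S R' S')).toAlgHom x)
  induction x using MvPolynomial.induction_on with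
  | C a =>
    rw [Algebra.Generators.Hom.toAlgHom_C, Algebra.Generators.Hom.toAlgHom_C,
      Algebra.Generators.Hom.toAlgHom_C]
    rfl
  | add p q hp hq => rw [map_add, map_add, map_add, hp, hq]
  | mul_X p i hp =>
    rw [map_mul, map_mul, map_mul, hp, Algebra.Generators.Hom.toAlgHom_X,
      Algebra.Generators.Hom.toAlgHom_X]
    congr 1
    show _ = (gHom R S R' S').toAlgHom (MvPolynomial.X i)
    rw [Algebra.Generators.Hom.toAlgHom_X]
    rfl

lemma cotangent_factor (x : (Algebra.Generators.self R S).toExtension.Cotangent) :
    Algebra.Extension.Cotangent.map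
      ((Algebra.Generators.self R S).defaultHom (Algebra.Generators.self R' S')).toExtensionHom x =
    Algebra.Extension.Cotangent.map (gHom R S R' S').toExtensionHom
      (Algebra.Extension.Cotangent.map (NLCx.sameVarsHom (Algebra.Generators.self R S) (Gmid R S R' S')
          (Gmid_val R S R' S')).toExtensionHom x) := by
  obtain ⟨x, rfl⟩ := Algebra.Extension.Cotangent.mk_surjective x
  rw [Algebra.Extension.Cotangent.map_mk, Algebra.Extension.Cotangent.map_mk,
    Algebra.Extension.Cotangent.map_mk]
  exact congrArg Algebra.Extension.Cotangent.mk (Subtype.ext (toRingHom_factor R S R' S' x.1))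

lemma lift_factor (t : S' ⊗[S] (Algebra.Generators.self R S).toExtension.Cotangent) :
    LinearMap.liftBaseChange S' (Algebra.Extension.Cotangent.map
      ((Algebra.Generators.self R S).defaultHom (Algebra.Generators.self R' S')).toExtensionHom) t =
    Algebra.Extension.Cotangent.map (gHom R S R' S').toExtensionHom
      (LinearMap.liftBaseChange S' (Algebra.Extension.Cotangent.map
        (NLCx.sameVarsHom (Algebra.Generators.self R S) (Gmid R S R' S')
          (Gmid_val R S R' S')).toExtensionHom) t) := by
  induction t using TensorProduct.induction_on with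
  | zero => rw [map_zero, map_zero, map_zero]
  | tmul a x =>
    rw [LinearMap.liftBaseChange_tmul, LinearMap.liftBaseChange_tmul, map_smul, cotangent_factor]
  | add a b ha hb => rw [map_add, map_add, map_add, ha, hb]

theorem part2 : Function.Surjective (NLCx.bcH1Map
    ((Algebra.Generators.self R S).defaultHom (Algebra.Generators.self R' S')).toExtensionHom) := by
  intro y
  obtain ⟨w, hw⟩ := (Algebra.Extension.H1Cotangent.equiv (gHom R S R' S').toExtensionHom
    (Algebra.Generators.defaultHom (Algebra.Generators.self R' S') (Gmid R S R' S')).toExtensionHom).surjective y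
  obtain ⟨z, hz⟩ := part1 (Algebra.Generators.self R S) (Gmid R S R' S') (Gmid_val R S R' S') w
  refine ⟨z, Subtype.ext ?_⟩
  show LinearMap.liftBaseChange S' (Algebra.Extension.Cotangent.map
      ((Algebra.Generators.self R S).defaultHom (Algebra.Generators.self R' S')).toExtensionHom) z.1 = y.1
  rw [lift_factor, ← hw, ← hz]
  rfl

end part2

/-- Let R → S and R → R' be ring homomorphisms and let S' be an algebra over R' and over S making the
square cocartesian, S' = S ⊗_R R'. Let G be a presentation of S over R by a polynomial algebra and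
G' the presentation of S' over R' on the same set of variables, each variable mapping to the image
of the corresponding generator (the base change of G). Then the canonical map H^{-1}(NL(G) ⊗_S S') →
H^{-1}(NL(G')) is surjective. The same holds for the canonical map H^{-1}(NL_{S/R} ⊗_S S') →
H^{-1}(NL_{S'/R'}) between the complexes of the presentations on all elements. (In degree 0 the
corresponding map S' ⊗_S Ω_{S/R} → Ω_{S'/R'} is bijective; that part is not restated.) -/
theorem result (R S R' S' : Type u) [CommRing R] [CommRing S] [CommRing R']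
    [CommRing S'] [Algebra R S] [Algebra R' S'] [Algebra R R'] [Algebra S S'] [Algebra R S']
    [IsScalarTower R R' S'] [IsScalarTower R S S'] [Algebra.IsPushout R R' S S']
    {ι : Type u} (G : Algebra.Generators R S ι) (G' : Algebra.Generators R' S' ι)
    (h : ∀ i, G'.val i = algebraMap S S' (G.val i)) :
    Function.Surjective (NLCx.bcH1Map (NLCx.sameVarsHom G G' h).toExtensionHom) ∧
      Function.Surjective (NLCx.bcH1Map
        ((Algebra.Generators.self R S).defaultHom (Algebra.Generators.self R' S')).toExtensionHom) := by
  exact ⟨part1 G G' h, part2 R S R' S'⟩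

end Groth.Agent.S7221
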