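import Mathlib
import Groth.Statements.S19245
import Groth.Agent.Lib.Helper96.TowerLim

set_option autoImplicit false
universe u
open LocCohZ

namespace Groth.Agent.S19245

open CategoryTheory CategoryTheory.Limits TopologicalSpace Opposite Groth.Agent.Lib.Helper96

variable {X : TopCat.{u}}

/-- restriction maps compose -/
theorem res_res (F : CohTop.Ab X) {U V W : Opens X} (h1 : U ≤ V) (h2 : V ≤ W)
    (x : (TowerLim.Γ W).obj F) :
    TowerLim.res F h1 (TowerLim.res F h2 x) = TowerLim.res F (h1.trans h2) x := by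
  change (F.obj.map (homOfLE h2).op ≫ F.obj.map (homOfLE h1).op) x = _
  rw [← F.obj.map_comp]
  rfl

theorem res_self (F : CohTop.Ab X) {U : Opens X} (h : U ≤ U) (x : (TowerLim.Γ U).obj F) :
    TowerLim.res F h x = x := by
  change F.obj.map (𝟙 (op U)) x = x
  rw [F.obj.map_id]
  rfl

/-- extension of a section vanishing on `V' ⊓ U` to a section vanishing on `V ⊓ U` -/
theorem exists_extension (A : CohTop.Ab X) [TopCat.Sheaf.IsFlasque A] (U : Opens X)
    {V' V : Opens X} (hV : V' ≤ V) (s' : (TowerLim.Γ V').obj A)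
    (hs' : TowerLim.res A (inf_le_left : V' ⊓ U ≤ V') s' = 0) :
    ∃ s : (TowerLim.Γ V).obj A, TowerLim.res A hV s = s' ∧
      TowerLim.res A (inf_le_left : V ⊓ U ≤ V) s = 0 := by
  let f : Fin 2 → Opens X := ![V', V ⊓ U]
  let sf : (i : Fin 2) → A.obj.obj (op (f i))
    | 0 => s'
    | 1 => 0
  have hcompat : TopCat.Presheaf.IsCompatible A.obj f sf := by
    have h01 : A.obj.map (Opens.infLELeft (f 0) (f 1)).op (sf 0) =
        A.obj.map (Opens.infLERight (f 0) (f 1)).op (sf 1) := by
      have hle : f 0 ⊓ f 1 ≤ V' ⊓ U := by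
        change V' ⊓ (V ⊓ U) ≤ V' ⊓ U
        exact inf_le_inf_left _ inf_le_right
      have h1 : A.obj.map (Opens.infLELeft (f 0) (f 1)).op (sf 0) =
          TowerLim.res A hle (TowerLim.res A (inf_le_left : V' ⊓ U ≤ V') s') := by
        rw [res_res]
        rfl
      rw [h1, hs', map_zero]
      change _ = A.obj.map _ (0 : A.obj.obj (op (f 1)))
      rw [map_zero]
    simp only [TopCat.Presheaf.IsCompatible, Fin.forall_fin_two]
    refine ⟨⟨rfl, h01⟩, ?_, rfl⟩
    have h10 : A.obj.map (Opens.infLELeft (f 1) (f 0)).op (sf 1) = 0 := by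
      change A.obj.map _ (0 : A.obj.obj (op (f 1))) = 0
      rw [map_zero]
    rw [h10]
    have hle : f 1 ⊓ f 0 ≤ V' ⊓ U := by
      change (V ⊓ U) ⊓ V' ≤ V' ⊓ U
      exact le_inf inf_le_right (inf_le_left.trans inf_le_right)
    have h1 : A.obj.map (Opens.infLERight (f 1) (f 0)).op (sf 0) =
        TowerLim.res A hle (TowerLim.res A (inf_le_left : V' ⊓ U ≤ V') s') := by
      rw [res_res]
      rfl
    rw [h1, hs', map_zero]
  obtain ⟨gl, hgl, -⟩ := TopCat.Sheaf.existsUnique_gluing A f sf hcompat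
  have hle : iSup f ≤ V := iSup_le_iff.mpr (Fin.forall_fin_two.mpr ⟨hV, inf_le_left⟩)
  have hsurj : Function.Surjective (TowerLim.res A hle) :=
    (AddCommGrpCat.epi_iff_surjective _).mp
      (TopCat.Presheaf.IsFlasque.epi (F := A.obj) (homOfLE hle).op)
  obtain ⟨s, hs⟩ := hsurj gl
  refine ⟨s, ?_, ?_⟩
  · have h0 := hgl 0
    have : TowerLim.res A hV s = TowerLim.res A (le_iSup f 0) (TowerLim.res A hle s) := by
      rw [res_res]
      rfl
    rw [this, hs]
    exact h0
  · have h1 := hgl 1
    have : TowerLim.res A (inf_le_left : V ⊓ U ≤ V) s =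
        TowerLim.res A (le_iSup f 1) (TowerLim.res A hle s) := by
      rw [res_res]
      rfl
    rw [this, hs]
    exact h1

/-- a restriction map between equal opens is injective -/
theorem map_injective_of_ge {Y : TopCat.{u}} (F : TopCat.Presheaf AddCommGrpCat.{u} Y)
    {V1 V2 : Opens Y} (i : V1 ⟶ V2) (h' : V2 ≤ V1) : Function.Injective (F.map i.op) := by
  have hcomp : F.map i.op ≫ F.map (homOfLE h').op = 𝟙 _ := by
    rw [← F.map_comp, ← op_comp]
    have : homOfLE h' ≫ i = 𝟙 _ := Subsingleton.elim _ _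
    rw [this, op_id, F.map_id]
  intro a b hab
  have h1 : (F.map i.op ≫ F.map (homOfLE h').op) a = (F.map i.op ≫ F.map (homOfLE h').op) b := by
    change F.map (homOfLE h').op (F.map i.op a) = F.map (homOfLE h').op (F.map i.op b)
    rw [hab]
  rw [hcomp] at h1
  exact h1

/-- the comparison map from `A` to the pushforward of its restriction to `U` -/
noncomputable def rho (A : CohTop.Ab X) (U : Opens X) :
    A ⟶ (CohTop.push (CohCx.incl U)).obj ((CohTop.restrFunctor U).obj A) :=
  ⟨{ app := fun W => A.obj.map (homOfLE (by rintro _ ⟨x, hx, rfl⟩; exact hx)).op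
     naturality := fun W W' i => by
       change A.obj.map _ ≫ A.obj.map _ = A.obj.map _ ≫ A.obj.map _
       rw [← A.obj.map_comp, ← A.obj.map_comp]
       rfl }⟩

theorem rho_injective (A : CohTop.Ab X) (U : Opens X) {W : Opens X} (hW : W ≤ U) :
    Function.Injective ((TowerLim.Γ W).map (rho A U)) := by
  refine map_injective_of_ge A.obj _ ?_
  intro x hx
  exact ⟨⟨x, hW hx⟩, hx, rfl⟩

/-- the unit of the adjunction -/
noncomputable abbrev eta (A : CohTop.Ab X) (U : Opens X) :
    A ⟶ (CohTop.pull (CohCx.incl U) ⋙ CohTop.push (CohCx.incl U)).obj A :=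
  (TopCat.Sheaf.pullbackPushforwardAdjunction AddCommGrpCat.{u} (CohCx.incl U)).unit.app A

theorem rho_factor (A : CohTop.Ab X) (U : Opens X) :
    ∃ ψ : (CohTop.pull (CohCx.incl U) ⋙ CohTop.push (CohCx.incl U)).obj A ⟶
        (CohTop.push (CohCx.incl U)).obj ((CohTop.restrFunctor U).obj A),
      rho A U = eta A U ≫ ψ := by
  let adj := TopCat.Sheaf.pullbackPushforwardAdjunction AddCommGrpCat.{u} (CohCx.incl U)
  refine ⟨(CohTop.push (CohCx.incl U)).map ((adj.homEquiv _ _).symm (rho A U)), ?_⟩
  have := adj.homEquiv_unit (f := (adj.homEquiv _ _).symm (rho A U))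
  exact ((adj.homEquiv _ _).apply_symm_apply (rho A U)).symm.trans this

/-- sections over `W ≤ U` killed by the unit vanish -/
theorem eq_zero_of_eta_eq_zero (A : CohTop.Ab X) (U : Opens X) {W : Opens X} (hW : W ≤ U)
    (s : (TowerLim.Γ W).obj A) (hs : (TowerLim.Γ W).map (eta A U) s = 0) : s = 0 := by
  obtain ⟨ψ, hψ⟩ := rho_factor A U
  apply rho_injective A U hW
  rw [hψ, Functor.map_comp]
  change (TowerLim.Γ W).map ψ ((TowerLim.Γ W).map (eta A U) s) = _
  rw [hs, map_zero, map_zero]

theorem res_push_injective (U : Opens X) (H : CohTop.Ab (TopCat.of U)) (V : Opens X) :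
    Function.Injective
      (TowerLim.res ((CohTop.push (CohCx.incl U)).obj H) (inf_le_left : V ⊓ U ≤ V)) := by
  refine map_injective_of_ge H.obj ((Opens.map (CohCx.incl U)).map (homOfLE inf_le_left)) ?_
  intro x hx
  exact ⟨hx, x.2⟩

theorem Γ_map_injective_of_mono {F G : CohTop.Ab X} (f : F ⟶ G) [Mono f] (V : Opens X) :
    Function.Injective ((TowerLim.Γ V).map f) := by
  have : Mono ((TowerLim.Γ V).map f) := inferInstance
  exact (AddCommGrpCat.mono_iff_injective _).mp this

open CategoryTheory TopologicalSpace in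
/-- Let A be a flasque abelian sheaf on a topological space X and Z = X ∖ U the closed complement of an
open U. Then the sheaf Γ_Z(A) of sections of A supported in Z is flasque. (The source states the
lemma for every family of supports Φ on a Noetherian topological space, where Γ_Φ(A) is the filtered
union of the Γ_Z(A), Z ∈ Φ; for a single closed Z no Noetherian hypothesis is needed.) -/
theorem result {X : TopCat.{u}} (A : CohTop.Ab X) [TopCat.Sheaf.IsFlasque A]
    (U : Opens X) : TopCat.Sheaf.IsFlasque ((LocCohZ.sectSuppF U).obj A) := by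
  constructor
  intro V0 V0' i
  rw [AddCommGrpCat.epi_iff_surjective]
  intro κ'
  have hV : V0'.unop ≤ V0.unop := i.unop.le
  let ι : (kernel (eta A U) : CohTop.Ab X) ⟶ A := kernel.ι (eta A U)
  have hι : ι ≫ eta A U = 0 := kernel.condition _
  let s' : (TowerLim.Γ V0'.unop).obj A := (TowerLim.Γ V0'.unop).map ι κ'
  have hs'0 : (TowerLim.Γ V0'.unop).map (eta A U) s' = 0 := by
    change ((TowerLim.Γ V0'.unop).map ι ≫ (TowerLim.Γ V0'.unop).map (eta A U)) κ' = 0
    rw [← Functor.map_comp, hι, Functor.map_zero]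
    rfl
  have hs'1 : TowerLim.res A (inf_le_left : V0'.unop ⊓ U ≤ V0'.unop) s' = 0 := by
    apply eq_zero_of_eta_eq_zero A U (inf_le_right : V0'.unop ⊓ U ≤ U)
    rw [← TowerLim.res_naturality, hs'0, map_zero]
  obtain ⟨s, hs1, hs2⟩ := exists_extension A U hV s' hs'1
  have hs0 : (TowerLim.Γ V0.unop).map (eta A U) s = 0 := by
    apply res_push_injective U _ V0.unop
    rw [TowerLim.res_naturality, hs2, map_zero, map_zero]
  obtain ⟨κ, hκ⟩ := TowerLim.exists_kernel_section (eta A U) V0.unop s hs0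
  refine ⟨κ, ?_⟩
  apply Γ_map_injective_of_mono ι V0'.unop
  have h1 := TowerLim.res_naturality ι hV κ
  change (TowerLim.Γ V0'.unop).map ι (TowerLim.res _ hV κ) = s'
  rw [← h1]
  change TowerLim.res A hV ((TowerLim.Γ V0.unop).map (kernel.ι (eta A U)) κ) = s'
  rw [hκ, hs1]

end Groth.Agent.S19245
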