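import Groth.Statements.S15520
import Mathlib
import Groth.Agent.Lib.Helper11.ExtShDual
import Groth.Agent.S16286

set_option autoImplicit false
set_option linter.style.haveILetI false
universe u
open CategoryTheory CategoryTheory.Limits AlgebraicGeometry
open Coherent

namespace Groth.Agent.S15520

open Groth.Agent.Lib.Helper11.FinFreeAdj Groth.Agent.Lib.Helper11.ExtShDual in
/-- `Φ ⋙ (𝟙 X)_* ≅ Φ`. -/
noncomputable def compIdIso {X : Scheme.{u}} {A : Type*} [Category A] (Φ : A ⥤ X.Modules) :
    Φ ⋙ Scheme.Modules.pushforward (𝟙 X) ≅ Φ :=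
  Functor.isoWhiskerLeft Φ (Scheme.Modules.pushforwardId X) ≪≫ Functor.rightUnitor Φ

/-- the higher right derived functors of an exact functor vanish. -/
theorem isZero_rightDerived_succ_of_exact {A B : Type*} [Category A] [Category B] [Abelian A]
    [Abelian B] [HasInjectiveResolutions A] (Φ : A ⥤ B) [Φ.Additive] [Φ.PreservesHomology]
    (M : A) (n : ℕ) : IsZero ((Φ.rightDerived (n + 1)).obj M) := by
  let I := injectiveResolution M
  refine IsZero.of_iso ?_ (I.isoRightDerivedObj Φ (n + 1))
  have h := I.cocomplex_exactAt_succ n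
  rw [HomologicalComplex.exactAt_iff_isZero_homology] at h
  exact IsZero.of_iso (Φ.map_isZero h) ((I.cocomplex.sc (n + 1)).mapHomologyIso Φ)

open Groth.Agent.Lib.Helper11.FinFreeAdj Groth.Agent.Lib.Helper11.ExtShDual in
theorem isZero_relExt_succ {X : Scheme.{u}} {N : X.Modules} (hN : FlatMod.IsFinLocFree N)
    [ModSite.HasSheafHom (O := X.sheaf) N] [HasInjectiveResolutions (ModSite.Mod X.sheaf)]
    [(ModSite.sheafHom (O := X.sheaf) N ⋙ Scheme.Modules.pushforward (𝟙 X)).Additive]
    (G : X.Modules) (q : ℕ) :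
    IsZero (((ModSite.sheafHom (O := X.sheaf) N ⋙
      Scheme.Modules.pushforward (𝟙 X)).rightDerived (q + 1)).obj G) := by
  let D := (dualPairOfFinLocFree hN).symm
  haveI := preservesFiniteLimits_tensRS D
  haveI := preservesFiniteColimits_tensRS D
  haveI h3 := additive_tensRS D
  haveI h4 : (tensRS (RefHull.dual N)).PreservesHomology :=
    Groth.Agent.Lib.Helper5.preservesHomology_of_exact _
  let iso : ModSite.sheafHom (O := X.sheaf) N ⋙ Scheme.Modules.pushforward (𝟙 X) ≅
      tensRS (RefHull.dual N) :=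
    compIdIso (ModSite.sheafHom (O := X.sheaf) N) ≪≫ sheafHomIsoTensR hN
  have hz : IsZero (((tensRS (RefHull.dual N)).rightDerived (q + 1)).obj G) :=
    isZero_rightDerived_succ_of_exact (tensRS (RefHull.dual N)) G q
  haveI h5 := Functor.additive_of_iso iso
  exact IsZero.of_iso hz ((RDer.rightDerivedIso iso (q + 1)).app G)

/-- Let X be a scheme, F and G O_X-modules, and E_• → F → 0 a resolution of F whose terms E_i are finite
locally free O_X-modules: E is a chain complex indexed by the natural numbers with an augmentation π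
: E_0 → F such that E is exact in every positive degree and E_1 → E_0 → F → 0 is exact. Let C be the
cochain complex Hom_{O_X}(E_•, G), given with identifications C^i ≅ Hom_{O_X}(E_i, G) under which
its differentials are the maps induced by the differentials of E (contravariant functoriality of the
internal Hom). Then for every i the i-th cohomology object of C is isomorphic to the Ext sheaf
Ext^i_{O_X}(F, G), the i-th right derived functor of the internal Hom functor Hom(F, -) evaluated at
G. (Existence of an isomorphism of O_X-modules only; the published statement is for a ringed space.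
The internal Hom functors and injective resolutions are the stated instance hypotheses, all true.) -/
theorem result (X : Scheme.{u}) (F G : X.Modules)
    (E : ChainComplex X.Modules ℕ) (π : E.X 0 ⟶ F) [Epi π] (hπ : E.d 1 0 ≫ π = 0)
    (hex0 : (ShortComplex.mk (E.d 1 0) π hπ).Exact) (hex : ∀ j : ℕ, E.ExactAt (j + 1))
    (hE : ∀ j : ℕ, FlatMod.IsFinLocFree (E.X j))
    [∀ j : ℕ, ModSite.HasSheafHom (O := X.sheaf) (E.X j)] [ModSite.HasSheafHom (O := X.sheaf) F]
    [HasInjectiveResolutions (ModSite.Mod X.sheaf)]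
    (C : CochainComplex X.Modules ℕ) (e : ∀ j : ℕ, C.X j ≅ (ModSite.sheafHom (O := X.sheaf) (E.X j)).obj G)
    (hC : ∀ j : ℕ, C.d j (j + 1) ≫ (e (j + 1)).hom =
      (e j).hom ≫ (ExtSupp.sheafHomMap (O := X.sheaf) (E.d (j + 1) j)).app G)
    (i : ℕ) :
    Nonempty (C.homology i ≅ (ModSite.extSh (O := X.sheaf) F i).obj G) := by
  classical
  -- `pushforward (𝟙 X)` is the identity
  have hadd : ∀ M : X.Modules, ∀ [ModSite.HasSheafHom (O := X.sheaf) M],
      (ModSite.sheafHom (O := X.sheaf) M ⋙ Scheme.Modules.pushforward (𝟙 X)).Additive := by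
    intro M _
    have h0 : (ModSite.sheafHom (O := X.sheaf) M).Additive := inferInstance
    exact @Functor.additive_of_iso _ _ _ _ _ _ _ h0 _
      (Groth.Agent.S15520.compIdIso (ModSite.sheafHom (O := X.sheaf) M)).symm
  haveI : ∀ j : ℕ, (ModSite.sheafHom (O := X.sheaf) (E.X j) ⋙
      Scheme.Modules.pushforward (𝟙 X)).Additive := fun j => hadd (E.X j)
  haveI : (ModSite.sheafHom (O := X.sheaf) F ⋙ Scheme.Modules.pushforward (𝟙 X)).Additive :=
    hadd F
  -- vanishing of the higher Ext sheaves of the finite locally free terms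
  have hL : ∀ (j : ℕ) (p : ℕ), 1 ≤ p → IsZero (((ModSite.sheafHom (O := X.sheaf) (E.X j) ⋙
      Scheme.Modules.pushforward (𝟙 X)).rightDerived p).obj G) := by
    intro j p hp
    obtain ⟨q, rfl⟩ : ∃ q, p = q + 1 := ⟨p - 1, by omega⟩
    exact Groth.Agent.S15520.isZero_relExt_succ (hE j) G q
  let e' : ∀ j : ℕ, C.X j ≅ (Scheme.Modules.pushforward (𝟙 X)).obj
      ((ModSite.sheafHom (O := X.sheaf) (E.X j)).obj G) :=
    fun j => e j ≪≫ ((Scheme.Modules.pushforwardId X).app _).symm
  have hC' : ∀ j : ℕ, C.d j (j + 1) ≫ (e' (j + 1)).hom =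
      (e' j).hom ≫ (Scheme.Modules.pushforward (𝟙 X)).map
        ((ExtSupp.sheafHomMap (O := X.sheaf) (E.d (j + 1) j)).app G) := by
    intro j
    have hn := (Scheme.Modules.pushforwardId X).inv.naturality
      ((ExtSupp.sheafHomMap (O := X.sheaf) (E.d (j + 1) j)).app G)
    dsimp only [e', Iso.trans_hom, Iso.symm_hom, Iso.app_inv]
    rw [← Category.assoc, hC j, Category.assoc, Category.assoc]
    congr 1
  obtain ⟨φ⟩ := @Groth.Agent.S16286.result X X (𝟙 X) F G E π _ hπ hex0 hex _ _ _
    (fun j => hadd (E.X j)) (hadd F) hL C e' hC' i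
  have h0F : (ModSite.sheafHom (O := X.sheaf) F).Additive := inferInstance
  exact ⟨φ ≪≫ (@RDer.rightDerivedIso _ _ _ _ _ _ _ _ _ (hadd F) h0F
    (Groth.Agent.S15520.compIdIso (ModSite.sheafHom (O := X.sheaf) F)) i).app G⟩

end Groth.Agent.S15520
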