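import Groth.Statements.S3090
-- import your own Groth.Agent.* helpers here
import Groth.Agent.S0865
import Mathlib.CategoryTheory.Sites.Adjunction
import Mathlib.CategoryTheory.Sites.Pullback

set_option autoImplicit false
universe u
open CategoryTheory
open CohSite

namespace Groth.Agent.S3090

open CategoryTheory.Limits CategoryTheory.Abelian Opposite

section

variable {C D : Type u} [SmallCategory C] [SmallCategory D]

/-- The free abelian sheaf functor on sheaves of sets. -/
noncomputable abbrev Zf (J : GrothendieckTopology C) :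
    Sheaf J (Type u) ⥤ Sheaf J AddCommGrpCat.{u} :=
  Sheaf.composeAndSheafify J AddCommGrpCat.free.{u}

/-- The free/forgetful adjunction on sheaves. -/
noncomputable def freeAdj (J : GrothendieckTopology C) :
    Zf J ⊣ sheafCompose J (forget AddCommGrpCat.{u}) :=
  Sheaf.adjunction J AddCommGrpCat.adj

variable (J : GrothendieckTopology C) (K : GrothendieckTopology D) (u : D ⥤ C)
  [u.IsContinuous K J]

/-- The underlying sheaf of sets of `u_* G` is `u_*` of the underlying sheaf of sets (identity). -/
def castHom (X : Sheaf K (Type u)) (G : Sheaf J AddCommGrpCat.{u}) :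
    (X ⟶ (u.sheafPushforwardContinuous (Type u) K J).obj
      ((sheafCompose J (forget AddCommGrpCat.{u})).obj G)) →
    (X ⟶ (sheafCompose K (forget AddCommGrpCat.{u})).obj ((CohSite.push J K u).obj G)) :=
  fun s => s

/-- Inverse of `castHom`. -/
def castHomInv (X : Sheaf K (Type u)) (G : Sheaf J AddCommGrpCat.{u}) :
    (X ⟶ (sheafCompose K (forget AddCommGrpCat.{u})).obj ((CohSite.push J K u).obj G)) →
    (X ⟶ (u.sheafPushforwardContinuous (Type u) K J).obj
      ((sheafCompose J (forget AddCommGrpCat.{u})).obj G)) :=
  fun s => s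

lemma castHom_castHomInv (X : Sheaf K (Type u)) (G : Sheaf J AddCommGrpCat.{u})
    (s : X ⟶ (sheafCompose K (forget AddCommGrpCat.{u})).obj ((CohSite.push J K u).obj G)) :
    castHom J K u X G (castHomInv J K u X G s) = s := rfl

lemma castHom_comp (X : Sheaf K (Type u)) {G G' : Sheaf J AddCommGrpCat.{u}} (g : G ⟶ G')
    (s : X ⟶ (u.sheafPushforwardContinuous (Type u) K J).obj
      ((sheafCompose J (forget AddCommGrpCat.{u})).obj G)) :
    castHom J K u X G' (s ≫ (u.sheafPushforwardContinuous (Type u) K J).map
      ((sheafCompose J (forget AddCommGrpCat.{u})).map g)) =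
    castHom J K u X G s ≫ (sheafCompose K (forget AddCommGrpCat.{u})).map
      ((CohSite.push J K u).map g) := rfl

/-- The transfer map `Hom(ℤ[u⁻¹ X], G) → Hom(ℤ[X], u_* G)`. -/
noncomputable def transferInv (X : Sheaf K (Type u)) (G : Sheaf J AddCommGrpCat.{u})
    (χ : (Zf J).obj ((u.sheafPullback (Type u) K J).obj X) ⟶ G) :
    (Zf K).obj X ⟶ (CohSite.push J K u).obj G :=
  ((freeAdj K).homEquiv X ((CohSite.push J K u).obj G)).symm
    (castHom J K u X G ((u.sheafAdjunctionContinuous (Type u) K J).homEquiv X
      ((sheafCompose J (forget AddCommGrpCat.{u})).obj G) ((freeAdj J).homEquiv _ G χ)))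

lemma transferInv_surjective (X : Sheaf K (Type u)) (G : Sheaf J AddCommGrpCat.{u}) :
    Function.Surjective (transferInv J K u X G) := by
  intro ψ
  refine ⟨((freeAdj J).homEquiv _ G).symm
    (((u.sheafAdjunctionContinuous (Type u) K J).homEquiv X
      ((sheafCompose J (forget AddCommGrpCat.{u})).obj G)).symm
      (castHomInv J K u X G ((freeAdj K).homEquiv X ((CohSite.push J K u).obj G) ψ))), ?_⟩
  unfold transferInv
  rw [Equiv.apply_symm_apply, Equiv.apply_symm_apply, castHom_castHomInv, Equiv.symm_apply_apply]

lemma transferInv_comp (X : Sheaf K (Type u)) {G G' : Sheaf J AddCommGrpCat.{u}}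
    (χ : (Zf J).obj ((u.sheafPullback (Type u) K J).obj X) ⟶ G) (g : G ⟶ G') :
    transferInv J K u X G' (χ ≫ g) =
      transferInv J K u X G χ ≫ (CohSite.push J K u).map g := by
  unfold transferInv
  rw [Adjunction.homEquiv_naturality_right, Adjunction.homEquiv_naturality_right, castHom_comp,
    Adjunction.homEquiv_naturality_right_symm]

end

/-- Let C and D be small sites, D having finite limits, and u : D ⥤ C a continuous functor which
preserves finite limits and sends coverings to coverings (so that u defines a morphism of sites, and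
of the associated topoi). If F is a flasque (totally acyclic) abelian sheaf on C, then its direct
image V ↦ F(u(V)) is a flasque abelian sheaf on D. -/
theorem result {C D : Type u} [SmallCategory C] [SmallCategory D]
    [HasFiniteLimits D] (J : GrothendieckTopology C) (K : GrothendieckTopology D) (u : D ⥤ C)
    (hu : CoverPreserving K J u) [PreservesFiniteLimits u] [u.IsContinuous K J]
    (F : Sheaf J AddCommGrpCat.{u}) (hF : CohCx.IsTotallyAcyclic F) :
    CohCx.IsTotallyAcyclic ((CohSite.push J K u).obj F) := by
  have hflat : RepresentablyFlat u := flat_of_preservesFiniteLimits u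
  have hL : PreservesFiniteLimits (u.sheafPullback AddCommGrpCat.{u} K J) := by
    apply CategoryTheory.Functor.sheafPullbackConstruction.preservesFiniteLimits
  have hinj : ∀ (I : Sheaf J AddCommGrpCat.{u}) [Injective I],
      Injective ((CohSite.push J K u).obj I) := fun I _ =>
    Injective.injective_of_adjoint (u.sheafAdjunctionContinuous AddCommGrpCat.{u} K J) I
  have hR : PreservesFiniteLimits (CohSite.push J K u) := by
    have : (CohSite.push J K u).IsRightAdjoint := inferInstance
    infer_instance
  -- the pushed-forward short exact sequence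
  have hSE : ∀ (F : Sheaf J AddCommGrpCat.{u}), CohCx.IsTotallyAcyclic F →
      ((Groth.Agent.S0865.ses F).map (CohSite.push J K u)).ShortExact := by
    intro F hF
    have hS := Groth.Agent.S0865.ses_shortExact F
    have hmono : Mono (Groth.Agent.S0865.ses F).f := hS.mono_f
    have hepi : Epi ((CohSite.push J K u).map (Groth.Agent.S0865.ses F).g) := by
      have : Sheaf.IsLocallySurjective ((CohSite.push J K u).map (Groth.Agent.S0865.ses F).g) := by
        apply Presheaf.isLocallySurjective_of_surjective
        intro V
        exact Groth.Agent.S0865.surjective_g F hF (u.obj V.unop)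
      exact (Sheaf.isLocallySurjective_iff_epi'
        (φ := (CohSite.push J K u).map (Groth.Agent.S0865.ses F).g)).1 inferInstance
    exact
      { exact := hS.exact.map_of_mono_of_preservesKernel (CohSite.push J K u) hmono inferInstance
        mono_f := by
          change Mono ((CohSite.push J K u).map (Groth.Agent.S0865.ses F).f)
          infer_instance
        epi_g := hepi }
  intro X p
  induction p generalizing F with
  | zero =>
    refine subsingleton_of_forall_eq 0 (fun x => ?_)
    have hS := Groth.Agent.S0865.ses_shortExact F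
    have hS' := hSE F hF
    have : Injective ((Groth.Agent.S0865.ses F).map (CohSite.push J K u)).X₂ :=
      hinj (Groth.Agent.S0865.ses F).X₂
    obtain ⟨y, rfl⟩ := Ext.covariant_sequence_exact₁ ((Zf K).obj X) hS' x
      (Ext.eq_zero_of_injective _) (zero_add 1)
    obtain ⟨ψ, rfl⟩ := (Ext.mk₀_bijective _ _).surjective y
    obtain ⟨χ, rfl⟩ := transferInv_surjective J K u X _ ψ
    have h0 : Subsingleton (Ext ((Zf J).obj ((u.sheafPullback (Type u) K J).obj X))
        (Groth.Agent.S0865.ses F).X₁ 1) := hF _ 0
    obtain ⟨z, hz⟩ := Ext.covariant_sequence_exact₃ _ hS (Ext.mk₀ χ) (zero_add 1)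
      (Subsingleton.elim _ _)
    obtain ⟨χ', rfl⟩ := (Ext.mk₀_bijective _ _).surjective z
    rw [Ext.mk₀_comp_mk₀] at hz
    have hz' : χ' ≫ (Groth.Agent.S0865.ses F).g = χ := (Ext.mk₀_bijective _ _).injective hz
    obtain ⟨ρ, hρ⟩ : ∃ ρ : (Zf K).obj X ⟶
        ((Groth.Agent.S0865.ses F).map (CohSite.push J K u)).X₂,
        ρ ≫ ((Groth.Agent.S0865.ses F).map (CohSite.push J K u)).g =
          transferInv J K u X _ χ :=
      ⟨transferInv J K u X _ χ', by rw [← hz', transferInv_comp]; rfl⟩
    rw [← hρ, ← Ext.mk₀_comp_mk₀, Ext.comp_assoc_of_second_deg_zero, hS'.comp_extClass,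
      Ext.comp_zero]
    rfl
  | succ n ih =>
    refine subsingleton_of_forall_eq 0 (fun x => ?_)
    have hS' := hSE F hF
    have : Injective ((Groth.Agent.S0865.ses F).map (CohSite.push J K u)).X₂ :=
      hinj (Groth.Agent.S0865.ses F).X₂
    obtain ⟨y, rfl⟩ := Ext.covariant_sequence_exact₁ ((Zf K).obj X) hS' x
      (Ext.eq_zero_of_injective _) rfl
    have hsub : Subsingleton (Ext ((Zf K).obj X)
        ((Groth.Agent.S0865.ses F).map (CohSite.push J K u)).X₃ (n + 1)) :=
      ih (Groth.Agent.S0865.ses F).X₃ (Groth.Agent.S0865.totallyAcyclic_X₃ F hF)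
    rw [Subsingleton.elim y 0, Ext.zero_comp]
    rfl

end Groth.Agent.S3090
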