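import Groth.Statements.S2561
import Groth.Agent.S2562
import Groth.Agent.Lib.Helper12.DVRFlatSch
import Groth.Agent.Lib.Helper12.FibrePullbackPts

set_option autoImplicit false
open CategoryTheory AlgebraicGeometry
universe u
open EGA43

namespace Groth.Agent.S2561

/-- Let Y be locally Noetherian, f : X ⟶ Y locally of finite type, x a point of X with y = f x. Suppose
that f is universally open at the generic point of every irreducible component of the fibre over y
passing through x, that this fibre is geometrically reduced at x, and that the local ring of Y at y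
is reduced. Then the local homomorphism O_{Y,y} ⟶ O_{X,x} is flat. -/
theorem result {X Y : Scheme.{u}} [IsLocallyNoetherian Y]
    (f : X ⟶ Y) [LocallyOfFiniteType f] (x : X)
    (hopen : ∀ z : ↥(f.fiber (f.base x)), f.asFiber x ∈ closure {z} →
      (∀ z' : ↥(f.fiber (f.base x)), z ∈ closure {z'} → z' = z) →
      EGA43.IsUnivOpenAt f ((f.fiberι (f.base x)).base z))
    (hred : FBase.IsGeomReducedAt (f.fiberToSpecResidueField (f.base x)) (f.asFiber x))
    (hy : _root_.IsReduced (Y.presheaf.stalk (f.base x))) :
    (f.stalkMap x).hom.Flat := by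
  classical
  haveI : LocallyOfFinitePresentation f :=
    (LocallyOfFinitePresentation.iff_locallyOfFiniteType (f := f)).mpr inferInstance
  haveI : IsNoetherianRing (Y.presheaf.stalk (f.base x)) := inferInstance
  haveI := hy
  refine (Groth.Agent.S2562.result f x).mpr ?_
  intro A' _ _ _ φ _ x' hfst hsnd
  -- notation
  have H : IsPullback (Limits.pullback.fst f (Spec.map (CommRingCat.ofHom φ) ≫ Y.fromSpecStalk (f.base x)))
      (Limits.pullback.snd f (Spec.map (CommRingCat.ofHom φ) ≫ Y.fromSpecStalk (f.base x))) f
      (Spec.map (CommRingCat.ofHom φ) ≫ Y.fromSpecStalk (f.base x)) :=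
    IsPullback.of_hasPullback _ _
  -- the closed point of `Spec A'` maps to `f x`
  have hcl : (Spec.map (CommRingCat.ofHom φ) ≫ Y.fromSpecStalk (f.base x)).base
      (IsLocalRing.closedPoint A') = f.base x := by
    have h1 : (Spec.map (CommRingCat.ofHom φ)).base (IsLocalRing.closedPoint A') =
        IsLocalRing.closedPoint (Y.presheaf.stalk (f.base x)) :=
      IsLocalRing.comap_closedPoint φ
    change (Y.fromSpecStalk (f.base x)).base
      ((Spec.map (CommRingCat.ofHom φ)).base (IsLocalRing.closedPoint A')) = f.base x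
    rw [h1]
    exact Scheme.fromSpecStalk_closedPoint
  refine Groth.Agent.Lib.Helper12.DVRFlatSch.flat_stalkMap_of_isOpenAt
    (Limits.pullback.snd f (Spec.map (CommRingCat.ofHom φ) ≫ Y.fromSpecStalk (f.base x))) x' hsnd ?_ ?_
  · refine Groth.Agent.Lib.Helper12.FibrePullbackPts.isReduced_fibre_stalk_of_geomReducedAt H x'
      (f.base x) ?_ (f.asFiber x) ?_ hred
    · rw [hsnd]; exact hcl
    · rw [hfst]; exact f.fiberι_asFiber x
  · intro z' hz'x' hz'cl hmax
    obtain ⟨ζ, hζ, hζmax⟩ := Groth.Agent.Lib.Helper12.FibrePullbackPts.exists_fibre_point H z'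
      (f.base x) (by rw [hz'cl]; exact hcl)
    have hmax' : ∀ ζ₁ : ↥(f.fiber (f.base x)), ζ₁ ⤳ ζ → ζ₁ = ζ := by
      apply hζmax
      intro z'' hz'' hsnd''
      exact hmax z'' hz'' (hsnd''.trans hz'cl)
    have h1 : f.asFiber x ∈ closure {ζ} := by
      rw [← specializes_iff_mem_closure,
        ← (f.fiberι (f.base x)).isEmbedding.toIsInducing.specializes_iff, hζ]
      have := hz'x'.map (Limits.pullback.fst f
        (Spec.map (CommRingCat.ofHom φ) ≫ Y.fromSpecStalk (f.base x))).base.hom.continuous
      rw [hfst] at this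
      rw [show (f.fiberι (f.base x)).base (f.asFiber x) = x from f.fiberι_asFiber x]
      exact this
    have h2 : ∀ z₁ : ↥(f.fiber (f.base x)), ζ ∈ closure {z₁} → z₁ = ζ := by
      intro z₁ hz₁
      exact hmax' z₁ (specializes_iff_mem_closure.mpr hz₁)
    have h3 := hopen ζ h1 h2
    exact h3 _ _ z' hζ.symm

end Groth.Agent.S2561
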