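import Groth.Statements.S3408
import Groth.Agent.Lib.Helper12.GeomRedFlatLocus
import Groth.Agent.S2561
import Groth.Agent.Lib.Helper50.NoethLocus

set_option autoImplicit false
open CategoryTheory AlgebraicGeometry
universe u
open EGA43

namespace Groth.Agent.S3408

/-- Let Y be locally Noetherian, f : X ⟶ Y locally of finite type, x a point of X and y = f x. Suppose f
is universally open at the generic point of every irreducible component of X_y passing through x,
X_y is geometrically reduced at x, and the local ring O_{Y,y} is reduced. Then there is an open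
neighbourhood U of x such that the restriction of f to U is flat and U is a reduced scheme. -/
theorem result {X Y : Scheme.{u}} [IsLocallyNoetherian Y] (f : X ⟶ Y)
    [LocallyOfFiniteType f] (x : X)
    (hopen : ∀ z : ↥(f.fiber (f.base x)), f.asFiber x ∈ closure {z} →
      (∀ z' : ↥(f.fiber (f.base x)), z ∈ closure {z'} → z' = z) →
      EGA43.IsUnivOpenAt f ((f.fiberι (f.base x)).base z))
    (hred : FBase.IsGeomReducedAt (f.fiberToSpecResidueField (f.base x)) (f.asFiber x))
    (hy : _root_.IsReduced (Y.presheaf.stalk (f.base x))) :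
    ∃ U : X.Opens, x ∈ U ∧ Flat (U.ι ≫ f) ∧ IsReduced (U : Scheme.{u}) := by
  haveI : LocallyOfFinitePresentation f := inferInstance
  have hflat : (f.stalkMap x).hom.Flat := Groth.Agent.S2561.result f x hopen hred hy
  have hW : IsOpen {x' : X | (f.stalkMap x').hom.Flat ∧
      x' ∈ Groth.Agent.Lib.Helper12.GeomRedLocus.locus f} :=
    Groth.Agent.Lib.Helper12.GeomRedFlatLocus.isOpen_flat_inter_locus f
  have hV : IsOpen {y : Y | _root_.IsReduced (Y.presheaf.stalk y)} :=
    Groth.Agent.Lib.Helper50.isOpen_setOf_isReduced_stalk Y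
  let U : X.Opens := ⟨{x' : X | (f.stalkMap x').hom.Flat ∧
      x' ∈ Groth.Agent.Lib.Helper12.GeomRedLocus.locus f} ∩
      f.base ⁻¹' {y : Y | _root_.IsReduced (Y.presheaf.stalk y)},
    hW.inter (hV.preimage f.continuous)⟩
  have hUflat : Flat (U.ι ≫ f) :=
    Groth.Agent.Lib.Helper12.GeomRedFlatLocus.flat_ι_comp_of_forall f U (fun x' hx' => hx'.1.1)
  refine ⟨U, ⟨⟨hflat, hred⟩, hy⟩, hUflat, ?_⟩
  haveI : ∀ u : (U : Scheme.{u}), _root_.IsReduced ((U : Scheme.{u}).presheaf.stalk u) := by
    intro u
    have h1 : u ∈ Groth.Agent.Lib.Helper12.GeomRedLocus.locus (U.ι ≫ f) := by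
      rw [Groth.Agent.Lib.Helper12.GeomRedLocus.locus_comp_of_etale]
      exact u.2.1.2
    have h2 : _root_.IsReduced (Y.presheaf.stalk ((U.ι ≫ f).base u)) := u.2.2
    exact Groth.Agent.Lib.Helper12.ReducedFibreGen.isReduced_stalk_of_flat_lfp_of_geomReducedAt
      (U.ι ≫ f) u h2 h1
  exact isReduced_of_isReduced_stalk _

end Groth.Agent.S3408
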