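import Groth.Statements.S4961
import Groth.Agent.Lib.Helper13.CMChart

set_option autoImplicit false
open CategoryTheory AlgebraicGeometry
universe u v w
open EGA43

namespace Groth.Agent.S4961

/-- Let f : X ⟶ Y be a morphism locally of finite presentation. The set of points x of X at which f is
Cohen–Macaulay (f flat at x and the local ring at x of the fibre through x Cohen–Macaulay) is open
in X. -/
theorem result {X Y : Scheme.{u}} (f : X ⟶ Y)
    [LocallyOfFinitePresentation f] : IsOpen {x : X | MoreMor.IsCMAt f x} := by
  rw [isOpen_iff_forall_mem_open]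
  intro x hcm
  obtain ⟨e, he⟩ := Groth.Agent.Lib.Helper13.CMChart.exists_nat_fibreDimAt f x
  obtain ⟨U, g, hx, hg, hfl, hqf⟩ := Groth.Agent.Lib.Helper13.CMChart.exists_chart f x hcm e he
  exact ⟨U, fun z hz => Groth.Agent.Lib.Helper13.CMChart.isCMAt_of_flat_chart f e U g hg z hz,
    U.2, hx⟩

end Groth.Agent.S4961
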