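import Groth.Statements.S5766
import Groth.Agent.S5763
import Mathlib.RingTheory.Finiteness.Basic
import Mathlib.RingTheory.IntegralClosure.IsIntegral.Defs
import Mathlib.RingTheory.IntegralClosure.Algebra.Basic

set_option autoImplicit false
universe u
open EGA41

namespace Groth.Agent.S5766

/-- Let A be a Noetherian ring, ρ : A → B a ring homomorphism and M a B-module which is finitely
generated as an A-module via ρ. Then the dimension of M as an A-module equals its dimension as a
B-module. -/
theorem result (A B : Type u) [CommRing A] [CommRing B] [IsNoetherianRing A]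
    [Algebra A B] (M : Type u) [AddCommGroup M] [Module B M] [Module A M] [IsScalarTower A B M]
    [Module.Finite A M] : Module.supportDim A M = Module.supportDim B M := by
  have hMB : Module.Finite B M := Module.Finite.of_restrictScalars_finite A B M
  rw [Module.supportDim_eq_ringKrullDim_quotient_annihilator,
    Module.supportDim_eq_ringKrullDim_quotient_annihilator]
  set I := Module.annihilator B M with hI
  set J := Module.annihilator A M with hJ
  have hNoeth : IsNoetherian A M := isNoetherian_of_isNoetherianRing_of_finite A M
  -- `B ⧸ I` embeds `A`-linearly into `End_A M`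
  let φ : B →ₗ[A] Module.End A M := (Algebra.lsmul A A M).toLinearMap
  have hker : LinearMap.ker φ = I.restrictScalars A := by
    ext b
    simp only [LinearMap.mem_ker, Submodule.restrictScalars_mem, hI, Module.mem_annihilator, φ]
    constructor
    · intro h m
      have := LinearMap.congr_fun h m
      simpa using this
    · intro h
      ext m
      simpa using h m
  let ψ : (B ⧸ I) →ₗ[A] Module.End A M :=
    Submodule.liftQ (I.restrictScalars A) φ (le_of_eq hker.symm)
  have hψ : Function.Injective ψ := by
    rw [← LinearMap.ker_eq_bot]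
    exact Submodule.ker_liftQ_eq_bot _ _ _ (le_of_eq hker)
  have hfin : Module.Finite A (B ⧸ I) := Module.Finite.of_injective ψ hψ
  have hint : Algebra.IsIntegral A (B ⧸ I) := Algebra.IsIntegral.of_finite A (B ⧸ I)
  -- the kernel of `A → B ⧸ I` is `J`
  have hkerA : RingHom.ker (algebraMap A (B ⧸ I)) = J := by
    ext a
    rw [RingHom.mem_ker, hJ, Module.mem_annihilator]
    rw [IsScalarTower.algebraMap_apply A B (B ⧸ I), Ideal.Quotient.algebraMap_eq,
      Ideal.Quotient.eq_zero_iff_mem, hI, Module.mem_annihilator]
    simp only [algebraMap_smul]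
  -- `A ⧸ J → B ⧸ I` is injective and integral
  let g : A ⧸ J →+* B ⧸ I := Ideal.Quotient.lift J (algebraMap A (B ⧸ I))
    (fun a ha => by rw [← hkerA] at ha; exact ha)
  let _ : Algebra (A ⧸ J) (B ⧸ I) := g.toAlgebra
  have htower : IsScalarTower A (A ⧸ J) (B ⧸ I) := IsScalarTower.of_algebraMap_eq (fun a => by
    change algebraMap A (B ⧸ I) a = g (Ideal.Quotient.mk J a)
    simp [g])
  have hint' : Algebra.IsIntegral (A ⧸ J) (B ⧸ I) := Algebra.IsIntegral.tower_top A
  have hinj : Function.Injective (algebraMap (A ⧸ J) (B ⧸ I)) := by
    change Function.Injective g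
    rw [RingHom.injective_iff_ker_eq_bot]
    change RingHom.ker (Ideal.Quotient.lift J (algebraMap A (B ⧸ I)) _) = ⊥
    rw [Ideal.ker_quotient_lift, hkerA, Ideal.map_quotient_self]
  exact ((Groth.Agent.S5763.result (A ⧸ J) (B ⧸ I)).2 hinj).symm

end Groth.Agent.S5766
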