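import Groth.Statements.S5770
import Groth.Agent.Lib.Helper29.LocalDim
import Mathlib.RingTheory.KrullDimension.Module
import Mathlib.RingTheory.Support

set_option autoImplicit false
universe u
open EGA41

namespace Groth.Agent.S5770

open TensorProduct in
/-- Let φ : A → B be a local homomorphism of Noetherian local rings, m the maximal ideal of A, k = A/m,
M a finitely generated A-module and N a finitely generated B-module. Then dim_B(M ⊗_A N) ≤ dim_A(M)
+ dim(N ⊗_A k), the last dimension being that of N/mN (over B ⊗_A k or, equivalently by finiteness,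
over B). -/
theorem result (A B : Type u) [CommRing A] [CommRing B] [IsLocalRing A]
    [IsLocalRing B] [IsNoetherianRing A] [IsNoetherianRing B] [Algebra A B] [IsLocalHom (algebraMap A B)]
    (M : Type u) [AddCommGroup M] [Module A M] [Module.Finite A M] (N : Type u) [AddCommGroup N] [Module B N]
    [Module A N] [IsScalarTower A B N] [Module.Finite B N] :
    Module.supportDim B (N ⊗[A] M) ≤ Module.supportDim A M +
      Module.supportDim B (N ⧸ ((IsLocalRing.maximalIdeal A).map (algebraMap A B) • (⊤ : Submodule B N))) := by
  classical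
  have hfinT : Module.Finite B (N ⊗[A] M) :=
    Module.Finite.equiv (TensorProduct.AlgebraTensorModule.cancelBaseChange A B B N M)
  set I : Ideal A := Module.annihilator A M with hI
  set mB : Ideal B := (IsLocalRing.maximalIdeal A).map (algebraMap A B) with hmB
  set K : Ideal B := Module.annihilator B N ⊔ I.map (algebraMap A B) with hK
  -- `K` kills the tensor product
  have hKann : K ≤ Module.annihilator B (N ⊗[A] M) := by
    refine sup_le ?_ ?_
    · intro b hb
      rw [Module.mem_annihilator] at hb ⊢
      intro t
      induction t using TensorProduct.induction_on with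
      | zero => simp
      | tmul n m => rw [TensorProduct.smul_tmul', hb n, TensorProduct.zero_tmul]
      | add x y hx hy => rw [smul_add, hx, hy, add_zero]
    · rw [Ideal.map_le_iff_le_comap]
      intro a ha
      rw [Ideal.mem_comap, Module.mem_annihilator]
      rw [Module.mem_annihilator] at ha
      intro t
      induction t using TensorProduct.induction_on with
      | zero => simp
      | tmul n m =>
        rw [TensorProduct.smul_tmul', algebraMap_smul, TensorProduct.smul_tmul, ha m,
          TensorProduct.tmul_zero]
      | add x y hx hy => rw [smul_add, hx, hy, add_zero]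
  by_cases hKtop : K = ⊤
  · have : Subsingleton (N ⊗[A] M) := by
      rw [← Module.annihilator_eq_top_iff (R := B)]
      exact top_le_iff.mp (hKtop ▸ hKann)
    rw [Module.supportDim_eq_bot_of_subsingleton]
    exact bot_le
  -- the rings `A' = A / φ⁻¹ K` and `B' = B / K`
  set I' : Ideal A := K.comap (algebraMap A B) with hI'
  have hII' : I ≤ I' := by
    rw [hI', ← Ideal.map_le_iff_le_comap]
    exact le_sup_right
  have hI'top : I' ≠ ⊤ := by
    intro h
    apply hKtop
    rw [Ideal.eq_top_iff_one] at h ⊢
    rw [hI', Ideal.mem_comap, map_one] at h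
    exact h
  have : Nontrivial (B ⧸ K) := Ideal.Quotient.nontrivial_iff.mpr hKtop
  have : Nontrivial (A ⧸ I') := Ideal.Quotient.nontrivial_iff.mpr hI'top
  have hlocB : IsLocalRing (B ⧸ K) :=
    IsLocalRing.of_surjective' (Ideal.Quotient.mk K) Ideal.Quotient.mk_surjective
  have hlocA : IsLocalRing (A ⧸ I') :=
    IsLocalRing.of_surjective' (Ideal.Quotient.mk I') Ideal.Quotient.mk_surjective
  have hcomp : ∀ a : A, algebraMap (A ⧸ I') (B ⧸ K) (Ideal.Quotient.mk I' a) =
      Ideal.Quotient.mk K (algebraMap A B a) := fun a => rfl
  have hlochom : IsLocalHom (algebraMap (A ⧸ I') (B ⧸ K)) := by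
    refine ⟨fun a' ha' => ?_⟩
    obtain ⟨a, rfl⟩ := Ideal.Quotient.mk_surjective a'
    rw [hcomp] at ha'
    have : IsLocalHom (Ideal.Quotient.mk K) :=
      IsLocalHom.of_surjective _ Ideal.Quotient.mk_surjective
    have h1 : IsUnit (algebraMap A B a) := isUnit_of_map_unit (Ideal.Quotient.mk K) _ ha'
    exact (isUnit_of_map_unit (algebraMap A B) a h1).map (Ideal.Quotient.mk I')
  have hmain := Groth.Agent.Lib.Helper29.ringKrullDim_le_add_fibre (A := A ⧸ I') (B := B ⧸ K)
  -- step: dim T ≤ dim B/K
  have h1 : Module.supportDim B (N ⊗[A] M) ≤ ringKrullDim (B ⧸ K) := by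
    rw [Module.supportDim_eq_ringKrullDim_quotient_annihilator]
    exact ringKrullDim_le_of_surjective (Ideal.Quotient.factor hKann)
      (Ideal.Quotient.factor_surjective hKann)
  -- step: dim A/I' ≤ dim M
  have h2 : ringKrullDim (A ⧸ I') ≤ Module.supportDim A M := by
    rw [Module.supportDim_eq_ringKrullDim_quotient_annihilator]
    exact ringKrullDim_le_of_surjective (Ideal.Quotient.factor hII')
      (Ideal.Quotient.factor_surjective hII')
  -- step: the fibre
  set F := (B ⧸ K) ⧸ (IsLocalRing.maximalIdeal (A ⧸ I')).map (algebraMap (A ⧸ I') (B ⧸ K)) with hF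
  have h3 : ringKrullDim F ≤ Module.supportDim B
      (N ⧸ (mB • (⊤ : Submodule B N))) := by
    let f : B →+* F := (Ideal.Quotient.mk _).comp (Ideal.Quotient.mk K)
    have hf : Function.Surjective f :=
      Ideal.Quotient.mk_surjective.comp Ideal.Quotient.mk_surjective
    have hfK : K ≤ RingHom.ker f := by
      intro b hb
      rw [RingHom.mem_ker]
      change Ideal.Quotient.mk _ (Ideal.Quotient.mk K b) = 0
      rw [Ideal.Quotient.eq_zero_iff_mem.mpr hb, map_zero]
    have hfm : mB ≤ RingHom.ker f := by
      rw [hmB, Ideal.map_le_iff_le_comap]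
      intro a ha
      rw [Ideal.mem_comap, RingHom.mem_ker]
      change Ideal.Quotient.mk _ (Ideal.Quotient.mk K (algebraMap A B a)) = 0
      rw [← hcomp, Ideal.Quotient.eq_zero_iff_mem]
      apply Ideal.mem_map_of_mem
      rw [← IsLocalRing.map_maximalIdeal_of_surjective (Ideal.Quotient.mk I')
        Ideal.Quotient.mk_surjective]
      exact Ideal.mem_map_of_mem _ ha
    refine Order.krullDim_le_of_strictMono
      (fun p => ⟨PrimeSpectrum.comap f p, ?_⟩) ?_
    · rw [Module.support_quotient]
      refine ⟨?_, ?_⟩
      · rw [Module.mem_support_iff_of_finite]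
        intro b hb
        change f b ∈ p.asIdeal
        have : f b = 0 := hfK (le_sup_left (a := Module.annihilator B N) hb)
        rw [this]; exact zero_mem _
      · intro b hb
        change f b ∈ p.asIdeal
        have : f b = 0 := hfm hb
        rw [this]; exact zero_mem _
    · intro p q hpq
      change PrimeSpectrum.comap f p < PrimeSpectrum.comap f q
      refine lt_of_le_of_ne ?_ ?_
      · exact Ideal.comap_mono (f := f) hpq.le
      · intro h; exact hpq.ne (PrimeSpectrum.comap_injective_of_surjective f hf h)
  calc Module.supportDim B (N ⊗[A] M) ≤ ringKrullDim (B ⧸ K) := h1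
    _ ≤ ringKrullDim (A ⧸ I') + ringKrullDim F := hmain
    _ ≤ _ := add_le_add h2 h3

end Groth.Agent.S5770
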