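import Groth.Statements.S1619
import Groth.Agent.Lib.Helper55.DimTrdeg
import Groth.Agent.Lib.Helper55.DimOpenCover

set_option autoImplicit false
universe u
open CategoryTheory CategoryTheory.Limits AlgebraicGeometry
attribute [local instance] Curv2.stalkAlgebra Curv2.resAlgebra
open Variety

namespace Groth.Agent.S1619

/-- Let X be irreducible and locally of finite type over a field k, with generic point ξ. If the residue
field of ξ has transcendence degree n over k then X has Krull dimension n. -/
theorem result (k : Type u) [Field k] (X : Scheme.{u}) [X.Over (Spec (CommRingCat.of k))] [LocallyOfFiniteType (X ↘ (Spec (CommRingCat.of k)))] [IrreducibleSpace X]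
    (n : ℕ) (hn : Algebra.trdeg k (X.residueField (genericPoint X)) = n) : topologicalKrullDim X = n := by
  -- the key: every affine open containing the generic point has dimension `n`
  have key : ∀ (U : X.Opens), IsAffineOpen U → genericPoint X ∈ U →
      topologicalKrullDim {z // z ∈ U} = n := by
    intro U hU hξU
    have hdU : topologicalKrullDim {z // z ∈ U} = ringKrullDim Γ(X, U) := by
      rw [← PrimeSpectrum.topologicalKrullDim_eq_ringKrullDim]
      exact IsHomeomorph.topologicalKrullDim_eq _ hU.isoSpec.hom.homeomorph.isHomeomorph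
    rw [hdU]
    have hsurj : Function.Surjective (Scheme.ΓSpecIso (CommRingCat.of k)).inv.hom :=
      (ConcreteCategory.bijective_of_isIso (Scheme.ΓSpecIso (CommRingCat.of k)).inv).2
    let ψU : k →+* Γ(X, U) :=
      ((X ↘ Spec (CommRingCat.of k)).appLE ⊤ U le_top).hom.comp
        (Scheme.ΓSpecIso (CommRingCat.of k)).inv.hom
    have hψU : ψU.FiniteType :=
      ((X ↘ Spec (CommRingCat.of k)).finiteType_appLE (isAffineOpen_top _) hU le_top).comp
        (RingHom.FiniteType.of_surjective _ hsurj)
    let evR : Γ(X, U) →+* X.residueField (genericPoint X) :=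
      (X.residue (genericPoint X)).hom.comp (X.presheaf.germ U (genericPoint X) hξU).hom
    have hcomp : evR.comp ψU = Curv2.resMap k X (genericPoint X) := by
      have h1 : (X ↘ Spec (CommRingCat.of k)).appLE ⊤ U le_top ≫
          X.presheaf.germ U (genericPoint X) hξU =
          (X ↘ Spec (CommRingCat.of k)).appTop ≫ X.presheaf.germ ⊤ (genericPoint X) trivial := by
        rw [Scheme.Hom.appLE, Category.assoc, X.presheaf.germ_res]
        rfl
      ext r
      have h2 := congr($h1 ((Scheme.ΓSpecIso (CommRingCat.of k)).inv.hom r))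
      change (X.residue (genericPoint X)).hom ((X.presheaf.germ U (genericPoint X) hξU).hom
        (((X ↘ Spec (CommRingCat.of k)).appLE ⊤ U le_top).hom
          ((Scheme.ΓSpecIso (CommRingCat.of k)).inv.hom r))) =
        (X.residue (genericPoint X)).hom ((X.presheaf.germ ⊤ (genericPoint X) trivial).hom
          (((X ↘ Spec (CommRingCat.of k)).appTop).hom
            ((Scheme.ΓSpecIso (CommRingCat.of k)).inv.hom r)))
      exact congr_arg _ h2
    let _ : Algebra k Γ(X, U) := ψU.toAlgebra
    have hft : Algebra.FiniteType k Γ(X, U) := hψU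
    let ev : Γ(X, U) →ₐ[k] X.residueField (genericPoint X) :=
      { evR with commutes' := fun r ↦ congr($hcomp r) }
    let _ : Algebra Γ(X, U) (X.presheaf.stalk (genericPoint X)) :=
      (X.presheaf.germ U (genericPoint X) hξU).hom.toAlgebra
    have hloc : IsLocalization.AtPrime (X.presheaf.stalk (genericPoint X))
        (hU.primeIdealOf ⟨genericPoint X, hξU⟩).asIdeal :=
      hU.isLocalization_stalk ⟨genericPoint X, hξU⟩
    refine Groth.Agent.Lib.Helper55.ringKrullDim_eq_of_trdeg_eq k ev ?_ ?_ n hn
    · intro z
      obtain ⟨w, rfl⟩ := X.residue_surjective (genericPoint X) z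
      obtain ⟨⟨a, s⟩, h⟩ := IsLocalization.surj
        (hU.primeIdealOf ⟨genericPoint X, hξU⟩).asIdeal.primeCompl w
      refine ⟨a, s, ?_, ?_⟩
      · have hu : IsUnit ((X.presheaf.germ U (genericPoint X) hξU).hom s) :=
          IsLocalization.map_units (X.presheaf.stalk (genericPoint X)) s
        exact (hu.map (X.residue (genericPoint X)).hom).ne_zero
      · change (X.residue (genericPoint X)).hom w *
          (X.residue (genericPoint X)).hom ((X.presheaf.germ U (genericPoint X) hξU).hom s) =
          (X.residue (genericPoint X)).hom ((X.presheaf.germ U (genericPoint X) hξU).hom a)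
        rw [← map_mul]
        exact congr_arg _ h
    · intro 𝔭' h𝔭' a ha
      have h1 : a ∈ (hU.primeIdealOf ⟨genericPoint X, hξU⟩).asIdeal := by
        rw [hU.primeIdealOf_eq_map_closedPoint]
        change (X.presheaf.germ U (genericPoint X) hξU).hom a ∈
          IsLocalRing.maximalIdeal (X.presheaf.stalk (genericPoint X))
        rw [← IsLocalRing.residue_eq_zero_iff]
        exact ha
      have h2 : hU.fromSpec (hU.primeIdealOf ⟨genericPoint X, hξU⟩) ⤳
          hU.fromSpec ⟨𝔭', h𝔭'⟩ := by
        rw [hU.fromSpec_primeIdealOf]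
        exact (genericPoint_spec X).specializes trivial
      have h3 : hU.primeIdealOf ⟨genericPoint X, hξU⟩ ⤳ (⟨𝔭', h𝔭'⟩ : Spec Γ(X, U)) :=
        hU.fromSpec.isOpenEmbedding.isInducing.specializes_iff.mp h2
      exact (PrimeSpectrum.le_iff_specializes _ _).mpr h3 h1
  apply le_antisymm
  · apply Groth.Agent.Lib.Helper55.topologicalKrullDim_le_of_forall_exists_open
    intro x
    obtain ⟨U, hU, hxU, -⟩ := exists_isAffineOpen_mem_and_subset (x := x) (U := ⊤) trivial
    have hξU : genericPoint X ∈ U :=
      ((genericPoint_spec X).mem_open_set_iff U.2).mpr ⟨x, trivial, hxU⟩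
    exact ⟨U, hxU, (key U hU hξU).le⟩
  · obtain ⟨U, hU, hξU, -⟩ := exists_isAffineOpen_mem_and_subset (x := genericPoint X) (U := ⊤) trivial
    rw [← key U hU hξU]
    exact topologicalKrullDim_subspace_le X U

end Groth.Agent.S1619
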