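import Groth.Statements.S1618
-- import your own Groth.Agent.* helpers here
import Groth.Agent.S1619
import Groth.Agent.Lib.Helper55.ResidueFieldTrdeg

set_option autoImplicit false
universe u
open CategoryTheory CategoryTheory.Limits AlgebraicGeometry
open Variety

namespace Groth.Agent.S1618

open Groth.Agent.Lib.Helper55

attribute [local instance] Curv2.stalkAlgebra Curv2.resAlgebra

/-- Let X be irreducible and locally of finite type over a field k. Then every nonempty open subset of X
has the same Krull dimension as X. -/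
theorem result (k : Type u) [Field k] (X : Scheme.{u}) [X.Over (Spec (CommRingCat.of k))] [LocallyOfFiniteType (X ↘ (Spec (CommRingCat.of k)))] [IrreducibleSpace X]
    (U : X.Opens) (hU : (U : Set X).Nonempty) : topologicalKrullDim U = topologicalKrullDim X := by
  -- every affine open containing the generic point has dimension `trdeg κ(ξ)`
  have key : ∀ (V : X.Opens) (hV : IsAffineOpen V) (hξV : genericPoint X ∈ V),
      ∃ n : ℕ, topologicalKrullDim {z // z ∈ V} = n ∧
        Algebra.trdeg k (X.residueField (genericPoint X)) = n := by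
    intro V hV hξV
    obtain ⟨s, hs1, hs2⟩ :=
      exists_ringKrullDim_quotient_eq_and_trdeg_residueField_eq_of_isAffineOpen k X V hV
        (genericPoint X) hξV
    refine ⟨s, ?_, hs2⟩
    have hdV : topologicalKrullDim {z // z ∈ V} = ringKrullDim Γ(X, V) := by
      rw [← PrimeSpectrum.topologicalKrullDim_eq_ringKrullDim]
      exact IsHomeomorph.topologicalKrullDim_eq _ hV.isoSpec.hom.homeomorph.isHomeomorph
    rw [hdV, ← hs1]
    symm
    apply ringKrullDim_quotient_of_le_all
    intro 𝔭' h𝔭'
    have h2 : hV.fromSpec (hV.primeIdealOf ⟨genericPoint X, hξV⟩) ⤳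
        hV.fromSpec ⟨𝔭', h𝔭'⟩ := by
      rw [hV.fromSpec_primeIdealOf]
      exact (genericPoint_spec X).specializes trivial
    have h3 : hV.primeIdealOf ⟨genericPoint X, hξV⟩ ⤳ (⟨𝔭', h𝔭'⟩ : Spec Γ(X, V)) :=
      hV.fromSpec.isOpenEmbedding.isInducing.specializes_iff.mp h2
    exact (PrimeSpectrum.le_iff_specializes _ _).mpr h3
  apply le_antisymm (topologicalKrullDim_subspace_le X U)
  obtain ⟨u, hu⟩ := hU
  obtain ⟨V, hV, huV, hVU⟩ := exists_isAffineOpen_mem_and_subset (x := u) (U := U) hu
  have hξV : genericPoint X ∈ V :=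
    ((genericPoint_spec X).mem_open_set_iff V.2).mpr ⟨u, trivial, huV⟩
  obtain ⟨n, hn1, hn2⟩ := key V hV hξV
  rw [Groth.Agent.S1619.result k X n hn2, ← hn1]
  exact (Topology.IsEmbedding.inclusion hVU).isInducing.topologicalKrullDim_le

end Groth.Agent.S1618
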