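import Groth.Statements.S6891
import Mathlib
import Groth.Agent.Lib.Helper10.Fitting
-- import your own Groth.Agent.* helpers here

set_option autoImplicit false
universe u
open Fitt

namespace Groth.Agent.S6891

/-- Let `M` be a finite `R`-module. Then `Fit_0(M) ⊆ Ann_R(M)`, the closed set `V(Fit_0(M))` equals
`Supp(M)`, and for an ideal `I` one has `Fit_0(R/I) = I`. -/
theorem result {R : Type u} [CommRing R] (M : Type u) [AddCommGroup M]
    [Module R M] [Module.Finite R M] (I : Ideal R) :
    Fitt.ideal R M 0 ≤ Module.annihilator R M ∧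
    PrimeSpectrum.zeroLocus (Fitt.ideal R M 0 : Set R) = Module.support R M ∧
    Fitt.ideal R (R ⧸ I) 0 = I := by
  classical
  have h1 : Fitt.ideal R M 0 ≤ Module.annihilator R M :=
    Groth.Agent.Lib.Helper10.Fitting.fitt_zero_le_annihilator
  refine ⟨h1, ?_, ?_⟩
  · apply Set.Subset.antisymm
    · intro p hp
      by_contra hsupp
      rw [Module.notMem_support_iff'] at hsupp
      obtain ⟨n, x, hx⟩ := Module.Finite.exists_fin (R := R) (M := M)
      choose c hc hcx using hsupp
      have hmem : (Matrix.diagonal fun i => c (x i)).det ∈ Fitt.ideal R M 0 := by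
        apply Groth.Agent.Lib.Helper10.Fitting.det_mem_fitt x hx
        intro i _
        rw [Finset.sum_eq_single i]
        · rw [Matrix.diagonal_apply_eq]
          exact hcx (x i)
        · intro j _ hji
          rw [Matrix.diagonal_apply_ne _ (Ne.symm hji), zero_smul]
        · intro h
          exact absurd (Finset.mem_univ i) h
      rw [Matrix.det_diagonal] at hmem
      have h2 : ∏ i, c (x i) ∈ p.asIdeal := hp hmem
      rw [Ideal.IsPrime.prod_mem_iff] at h2
      obtain ⟨i, _, hi⟩ := h2
      exact hc (x i) hi
    · rw [Module.support_eq_zeroLocus]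
      exact PrimeSpectrum.zeroLocus_anti_mono h1
  · apply le_antisymm
    · have h2 : Fitt.ideal R (R ⧸ I) 0 ≤ Module.annihilator R (R ⧸ I) :=
        Groth.Agent.Lib.Helper10.Fitting.fitt_zero_le_annihilator
      rwa [Ideal.annihilator_quotient] at h2
    · intro i hi
      have hx : Submodule.span R (Set.range (fun _ : Fin 1 => (1 : R ⧸ I))) = ⊤ := by
        rw [eq_top_iff]
        rintro y -
        obtain ⟨r, rfl⟩ := Ideal.Quotient.mk_surjective y
        have : (Ideal.Quotient.mk I r) = r • (1 : R ⧸ I) := by
          rw [Algebra.smul_def, mul_one]; rfl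
        rw [this]
        exact Submodule.smul_mem _ _ (Submodule.subset_span ⟨0, rfl⟩)
      have hmem : (Matrix.diagonal fun _ : Fin 1 => i).det ∈ Fitt.ideal R (R ⧸ I) 0 := by
        apply Groth.Agent.Lib.Helper10.Fitting.det_mem_fitt _ hx
        intro k _
        simp only [Finset.univ_unique, Fin.default_eq_zero, Fin.isValue, Finset.sum_singleton]
        have hk : k = 0 := Subsingleton.elim _ _
        subst hk
        rw [Matrix.diagonal_apply_eq, Algebra.smul_def, mul_one]
        exact Ideal.Quotient.eq_zero_iff_mem.mpr hi
      simpa using hmem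

end Groth.Agent.S6891
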