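import Groth.Statements.S0553
import Groth.Agent.Lib.Helper98.UnivCatenary

set_option autoImplicit false
universe u
open CAlg

namespace Groth.Agent.S0553

/-- A Noetherian ring is universally catenary exactly when its localization at every maximal ideal is
universally catenary. -/
theorem result (R : Type u) [CommRing R]
    [IsNoetherianRing R] :
    CAlg.IsUniversallyCatenary R ↔
      ∀ (m : Ideal R) [m.IsMaximal], CAlg.IsUniversallyCatenary (Localization.AtPrime m) := by
  constructor
  · rintro ⟨hN, hcat⟩ m hm
    refine ⟨IsLocalization.isNoetherianRing m.primeCompl _ hN, ?_⟩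
    intro S _ _ hft
    letI : Algebra R S := ((algebraMap (Localization.AtPrime m) S).comp
      (algebraMap R (Localization.AtPrime m))).toAlgebra
    haveI : IsScalarTower R (Localization.AtPrime m) S :=
      IsScalarTower.of_algebraMap_eq' rfl
    exact Groth.Agent.Lib.Helper98.isCatenary_of_finiteType_over_localization m.primeCompl
      (Localization.AtPrime m) hcat S hft
  · intro h
    refine ⟨inferInstance, ?_⟩
    intro S _ _ hft
    exact Groth.Agent.Lib.Helper98.isCatenary_of_finiteType_of_forall_maximal
      (fun m hm T _ _ hT => (h m).2 T hT) S hft

end Groth.Agent.S0553
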