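import Groth.Statements.S9200
import Mathlib.AlgebraicGeometry.AffineTransitionLimit

set_option autoImplicit false
universe u
open CategoryTheory AlgebraicGeometry
open Lim

namespace Groth.Agent.S9200

open Limits in
set_option backward.isDefEq.respectTransparency false in
/-- Let S be a scheme and X = lim X_i a cofiltered limit of S-schemes X_i (a diagram with a compatible
family of structure maps to S) with affine transition morphisms, every X_i quasi-compact and
quasi-separated; the structure map X → S is the composite X → X_{i₀} → S for any index i₀. Assume S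
is quasi-compact and quasi-separated. If X → S is affine, then X_i → S is affine for all i beyond
some index i₁. -/
theorem result {I : Type u} [SmallCategory I] [IsCofiltered I] (S : Scheme.{u}) [CompactSpace S] [QuasiSeparatedSpace S]
    (D : I ⥤ Scheme.{u}) (t : D ⟶ (Functor.const I).obj S) (c : Limits.Cone D) (hc : Limits.IsLimit c)
    [∀ (i j : I) (a : i ⟶ j), IsAffineHom (D.map a)]
    [∀ i, CompactSpace (D.obj i)] [∀ i, QuasiSeparatedSpace (D.obj i)] (i₀ : I)
    [IsAffineHom (c.π.app i₀ ≫ t.app i₀)] :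
    ∃ i₁ : I, ∀ (i : I) (_ : i ⟶ i₁), IsAffineHom (t.app i) := by
  classical
  have hD : ∀ {a b : I} (f : a ⟶ b), IsAffineHom (D.map f) := fun f => inferInstance
  have tqc : ∀ i : I, QuasiCompact (t.app i) := fun i =>
    quasiCompact_of_compactSpace (X := D.obj i) (Y := S) (t.app i)
  have tnat : ∀ {a b : I} (f : a ⟶ b), D.map f ≫ t.app b = t.app a := fun f => by
    have := t.naturality f
    rw [this]
    exact Category.comp_id _
  -- one affine open of `S` at a time
  have key : ∀ W : S.Opens, IsAffineOpen W →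
      ∃ (k : I) (_ : k ⟶ i₀), IsAffineOpen (t.app k ⁻¹ᵁ W) := by
    intro W hW
    set U : (D.obj i₀).Opens := t.app i₀ ⁻¹ᵁ W with hU
    have hU' : IsCompact (U : Set (D.obj i₀)) :=
      QuasiCompact.isCompact_preimage (f := t.app i₀) _ W.2 hW.isCompact
    have (j : Over i₀) : CompactSpace ((opensDiagram D i₀ U).obj j) :=
      isCompact_iff_compactSpace.mp (QuasiCompact.isCompact_preimage _ U.2 hU')
    have (j : Over i₀) : QuasiSeparatedSpace ((opensDiagram D i₀ U).obj j) :=
      (isQuasiSeparated_iff_quasiSeparatedSpace _ (D.map _ ⁻¹ᵁ _).2).mp (.of_quasiSeparatedSpace _)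
    have : IsAffine (opensCone D c i₀ U).pt := by
      have h : IsAffineOpen ((c.π.app i₀ ≫ t.app i₀) ⁻¹ᵁ W) := hW.preimage _
      rw [Scheme.Hom.comp_preimage] at h
      exact h
    obtain ⟨j, hj⟩ := Scheme.exists_isAffine_of_isLimit _ _ (isLimitOpensCone D c hc i₀ U)
    refine ⟨j.left, j.hom, ?_⟩
    have e : t.app j.left ⁻¹ᵁ W = D.map j.hom ⁻¹ᵁ U := by
      rw [hU, ← Scheme.Hom.comp_preimage, tnat]
    rw [e]
    exact hj
  -- finitely many affine opens cover `S`
  obtain ⟨s, hs⟩ := CompactSpace.elim_nhds_subcover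
    (fun x : S => ((S.affineCover.f (S.affineCover.idx x)).opensRange : Set S))
    (fun x => (S.affineCover.f (S.affineCover.idx x)).opensRange.2.mem_nhds
      (S.affineCover.covers x))
  have hW : ∀ x : S, IsAffineOpen (S.affineCover.f (S.affineCover.idx x)).opensRange :=
    fun x => isAffineOpen_opensRange _
  choose k fk hk using fun x : S => key _ (hW x)
  obtain ⟨i₁, hi₁⟩ := IsCofiltered.inf_objs_exists (s.image k)
  refine ⟨i₁, fun i φ => ?_⟩
  apply isAffineHom_of_forall_exists_isAffineOpen
  intro y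
  have hy : y ∈ ⋃ x ∈ s, ((S.affineCover.f (S.affineCover.idx x)).opensRange : Set S) := by
    rw [hs]; trivial
  obtain ⟨x, hx, hyx⟩ := Set.mem_iUnion₂.mp hy
  refine ⟨_, hyx, hW x, ?_⟩
  have ψ : i ⟶ k x := φ ≫ (hi₁ (Finset.mem_image_of_mem k hx)).some
  have e : t.app i ⁻¹ᵁ (S.affineCover.f (S.affineCover.idx x)).opensRange =
      D.map ψ ⁻¹ᵁ (t.app (k x) ⁻¹ᵁ (S.affineCover.f (S.affineCover.idx x)).opensRange) := by
    rw [← Scheme.Hom.comp_preimage, tnat]
  rw [e]
  exact (hk x).preimage _

end Groth.Agent.S9200
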