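import Groth.Statements.S2063
import Mathlib
import Groth.Agent.H46.EtaleCrit2
import Groth.Agent.H46.SmoothLocalDim
import Groth.Agent.Lib.Helper55.LocalDimProduct

set_option autoImplicit false
universe u
open CAlg

namespace Groth.Agent.S2063.Aux

set_option linter.style.haveILetI false

open TensorProduct KaehlerDifferential

variable {k S : Type u} [Field k] [CommRing S] [Algebra k S]

/-- the differentials `1 ⊗ ds` span `κ(q) ⊗ Ω` -/
theorem span_tmul_D (q : Ideal S) [q.IsPrime] :
    Submodule.span q.ResidueField
      (Set.range fun s : S => (1 : q.ResidueField) ⊗ₜ[S] D k S s) = ⊤ := by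
  have h1 := Submodule.baseChange_span (R := S) (A := q.ResidueField) (Set.range (D k S))
  rw [KaehlerDifferential.span_range_derivation, Submodule.baseChange_top] at h1
  rw [h1, ← Set.range_comp]
  rfl

/-- a spanning family of `n` differentials, if `n` is at least the dimension -/
theorem exists_family [Algebra.FiniteType k S] (q : Ideal S) [q.IsPrime] (n : ℕ)
    (hn : Module.finrank q.ResidueField (q.ResidueField ⊗[S] Ω[S⁄k]) ≤ n) :
    ∃ g : Fin n → S, Submodule.span q.ResidueField
      (Set.range fun i : Fin n => (1 : q.ResidueField) ⊗ₜ[S] D k S (g i)) = ⊤ := by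
  classical
  obtain ⟨b, hbs, hbspan, hli⟩ := exists_linearIndependent q.ResidueField
    (Set.range fun s : S => (1 : q.ResidueField) ⊗ₜ[S] D k S s)
  rw [span_tmul_D] at hbspan
  have hfin : b.Finite := hli.setFinite
  haveI : Fintype b := hfin.fintype
  let B : Module.Basis b q.ResidueField (q.ResidueField ⊗[S] Ω[S⁄k]) :=
    Module.Basis.mk hli (by rw [Subtype.range_coe_subtype]; exact hbspan.ge)
  have hcard : Fintype.card b ≤ n := by
    rw [← Module.finrank_eq_card_basis B]; exact hn
  have hemb : Nonempty (b ↪ Fin n) := by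
    apply Function.Embedding.nonempty_of_card_le
    simpa using hcard
  obtain ⟨e⟩ := hemb
  choose s hs using fun x : b => hbs x.2
  refine ⟨fun i => if h : ∃ x : b, e x = i then s h.choose else 0, ?_⟩
  rw [eq_top_iff, ← hbspan]
  apply Submodule.span_mono
  intro v hv
  refine ⟨e ⟨v, hv⟩, ?_⟩
  have hex : ∃ x : b, e x = e ⟨v, hv⟩ := ⟨⟨v, hv⟩, rfl⟩
  simp only [dif_pos hex]
  have : hex.choose = ⟨v, hv⟩ := e.injective hex.choose_spec
  rw [this]
  exact hs ⟨v, hv⟩

theorem smoothAt_of_le [Algebra.FiniteType k S] (q : Ideal S) [q.IsPrime]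
    (h : ((Module.finrank q.ResidueField (q.ResidueField ⊗[S] Ω[S⁄k]) : ℕ∞) : WithBot ℕ∞) ≤
        FlatMor.localDim (PrimeSpectrum S) ⟨q, inferInstance⟩) : Algebra.IsSmoothAt k q := by
  obtain ⟨n, hn⟩ := Groth.Agent.Lib.Helper55.exists_localDim_primeSpectrum_eq_natCast k S
    ⟨q, inferInstance⟩
  rw [hn] at h
  have hrn : Module.finrank q.ResidueField (q.ResidueField ⊗[S] Ω[S⁄k]) ≤ n := by
    exact_mod_cast h
  obtain ⟨g, hg⟩ := exists_family q n hrn
  letI : Algebra (MvPolynomial (Fin n) k) S := (MvPolynomial.aeval g).toRingHom.toAlgebra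
  haveI : IsScalarTower k (MvPolynomial (Fin n) k) S :=
    IsScalarTower.of_algebraMap_eq (fun c => ((MvPolynomial.aeval g).commutes c).symm)
  have hX : ∀ i, algebraMap (MvPolynomial (Fin n) k) S (MvPolynomial.X i) = g i :=
    fun i => MvPolynomial.aeval_X g i
  haveI : Algebra.FiniteType (MvPolynomial (Fin n) k) S :=
    Algebra.FiniteType.of_restrictScalars_finiteType k _ S
  haveI hunr : Algebra.IsUnramifiedAt (MvPolynomial (Fin n) k) q := by
    have : (⟨q, inferInstance⟩ : PrimeSpectrum S) ∈
        Algebra.unramifiedLocus (MvPolynomial (Fin n) k) S := by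
      rw [Algebra.unramifiedLocus_eq_compl_support, Set.mem_compl_iff,
        Module.mem_support_iff_nontrivial_residueField_tensorProduct,
        not_nontrivial_iff_subsingleton]
      let F := LinearMap.baseChange q.ResidueField
        (KaehlerDifferential.map k (MvPolynomial (Fin n) k) S S)
      have hF : Function.Surjective F := by
        have := LinearMap.lTensor_surjective q.ResidueField
          (KaehlerDifferential.map_surjective k (MvPolynomial (Fin n) k) S)
        exact this
      refine ⟨fun x y => ?_⟩
      suffices h0 : ∀ z : q.ResidueField ⊗[S] Ω[S⁄MvPolynomial (Fin n) k], z = 0 by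
        rw [h0 x, h0 y]
      intro z
      obtain ⟨w, rfl⟩ := hF z
      have hw : w ∈ Submodule.span q.ResidueField
          (Set.range fun i : Fin n => (1 : q.ResidueField) ⊗ₜ[S] D k S (g i)) := by
        rw [hg]; trivial
      refine Submodule.span_induction ?_ ?_ ?_ ?_ hw
      · rintro _ ⟨i, rfl⟩
        rw [LinearMap.baseChange_tmul, KaehlerDifferential.map_D, ← hX i]
        have : (D (MvPolynomial (Fin n) k) S)
            (algebraMap (MvPolynomial (Fin n) k) S (MvPolynomial.X i)) = 0 :=
          (D (MvPolynomial (Fin n) k) S).map_algebraMap _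
        rw [Algebra.algebraMap_self, RingHom.id_apply, this, tmul_zero]
      · exact map_zero _
      · intro x y _ _ hx hy
        rw [map_add, hx, hy, add_zero]
      · intro a x _ hx
        rw [map_smul, hx, smul_zero]
    exact this
  have het := Groth.Agent.H46.EtaleCrit.isEtaleAt_of_localDim k n S q hn
  have : Algebra.FormallyEtale (MvPolynomial (Fin n) k) (Localization.AtPrime q) := het
  exact Algebra.FormallySmooth.comp k (MvPolynomial (Fin n) k) (Localization.AtPrime q)

theorem le_of_smoothAt [Algebra.FiniteType k S] (q : Ideal S) [q.IsPrime]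
    [hs : Algebra.IsSmoothAt k q] :
    ((Module.finrank q.ResidueField (q.ResidueField ⊗[S] Ω[S⁄k]) : ℕ∞) : WithBot ℕ∞) ≤
        FlatMor.localDim (PrimeSpectrum S) ⟨q, inferInstance⟩ := by
  classical
  haveI : Algebra.FinitePresentation k S :=
    Algebra.FinitePresentation.of_finiteType.mp inferInstance
  obtain ⟨f, hf, hstd⟩ := Algebra.IsSmoothAt.exists_notMem_isStandardSmooth k q
  have hdisj : Disjoint (Submonoid.powers f : Set S) (q : Set S) := by
    rwa [Ideal.disjoint_powers_iff_notMem_of_isPrime]
  have hpT : (q.map (algebraMap S (Localization.Away f))).IsPrime :=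
    IsLocalization.isPrime_of_isPrime_disjoint (Submonoid.powers f) _ q inferInstance hdisj
  have hcomap : (q.map (algebraMap S (Localization.Away f))).comap
      (algebraMap S (Localization.Away f)) = q :=
    IsLocalization.under_map_of_isPrime_disjoint (Submonoid.powers f) _ inferInstance hdisj
  have hemb := PrimeSpectrum.localization_away_isOpenEmbedding (Localization.Away f) f
  have h1 := Groth.Agent.Lib.Helper55.localDim_eq_of_isOpenEmbedding _ hemb
    (⟨q.map (algebraMap S (Localization.Away f)), hpT⟩ : PrimeSpectrum (Localization.Away f))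
  have hpt : PrimeSpectrum.comap (algebraMap S (Localization.Away f))
      ⟨q.map (algebraMap S (Localization.Away f)), hpT⟩ = ⟨q, inferInstance⟩ :=
    PrimeSpectrum.ext hcomap
  rw [hpt] at h1
  obtain ⟨ι, σ, _, _, ⟨P⟩⟩ := hstd.out
  haveI : Algebra.IsStandardSmoothOfRelativeDimension P.dimension k (Localization.Away f) :=
    ⟨ι, σ, inferInstance, inferInstance, P, rfl⟩
  have h2 := Groth.Agent.H46.SmoothLocalDim.localDim_eq k P.dimension (Localization.Away f)
    ⟨q.map (algebraMap S (Localization.Away f)), hpT⟩
  haveI : Nontrivial (Localization.Away f) := by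
    have : Nonempty (PrimeSpectrum (Localization.Away f)) :=
      ⟨⟨q.map (algebraMap S (Localization.Away f)), hpT⟩⟩
    exact (PrimeSpectrum.nonempty_iff_nontrivial.mp this)
  -- the residue field as an algebra over the localization
  have hunit : IsUnit (algebraMap S q.ResidueField f) := by
    rw [isUnit_iff_ne_zero, Ne, Ideal.algebraMap_residueField_eq_zero]
    exact hf
  letI : Algebra (Localization.Away f) q.ResidueField :=
    (IsLocalization.Away.lift f (g := algebraMap S q.ResidueField) hunit).toAlgebra
  haveI : IsScalarTower S (Localization.Away f) q.ResidueField :=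
    IsScalarTower.of_algebraMap_eq (fun x => (IsLocalization.Away.lift_eq f hunit x).symm)
  haveI : Algebra.FormallyEtale S (Localization.Away f) :=
    Algebra.FormallyEtale.of_isLocalization (Submonoid.powers f)
  let e1 := AlgebraTensorModule.cancelBaseChange S (Localization.Away f) q.ResidueField
    q.ResidueField Ω[S⁄k]
  let e2 := KaehlerDifferential.tensorKaehlerEquivOfFormallyEtale k S (Localization.Away f)
  let e3 := LinearEquiv.baseChange (Localization.Away f) q.ResidueField _ _ e2
  have h3 : Module.finrank q.ResidueField (q.ResidueField ⊗[S] Ω[S⁄k]) = P.dimension := by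
    rw [← e1.finrank_eq, e3.finrank_eq, Module.finrank_baseChange]
    exact Module.finrank_eq_of_rank_eq P.rank_kaehlerDifferential
  rw [h3, ← h1, h2]
  rfl

end Groth.Agent.S2063.Aux

namespace Groth.Agent.S2063

open TensorProduct in
/-- Let `S` be of finite type over a field `k` and `𝔮` a prime of `S`. Smoothness of `S` over `k` at `𝔮`
holds exactly when the `κ(𝔮)`-dimension of `Ω_{S/k} ⊗ κ(𝔮)` is at most the local dimension of `Spec
S` at `𝔮`. -/
theorem result {k S : Type u} [Field k] [CommRing S] [Algebra k S]
    [Algebra.FiniteType k S] (q : Ideal S) [q.IsPrime] :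
    Algebra.IsSmoothAt k q ↔
      ((Module.finrank q.ResidueField (q.ResidueField ⊗[S] Ω[S⁄k]) : ℕ∞) : WithBot ℕ∞) ≤
        FlatMor.localDim (PrimeSpectrum S) ⟨q, inferInstance⟩ := by
  constructor
  · intro h
    haveI : Algebra.IsSmoothAt k q := h
    exact Aux.le_of_smoothAt q
  · intro h
    exact Aux.smoothAt_of_le q h

end Groth.Agent.S2063
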