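import Groth.Statements.S5331
import Groth.Agent.Lib.Helper2.GrpSch

set_option autoImplicit false
universe u
open CategoryTheory CategoryTheory.Limits MonoidalCategory CartesianMonoidalCategory MonObj GrpObj AlgebraicGeometry
open SGA3

namespace Groth.Agent.S5331

set_option backward.isDefEq.respectTransparency false in
/-- A section of a morphism to a scheme with discrete underlying space is a closed immersion. -/
theorem isClosedImmersion_section_of_discrete {X S : Scheme.{u}} [DiscreteTopology S]
    (p : X ⟶ S) (e : S ⟶ X) (h : e ≫ p = 𝟙 S) : IsClosedImmersion e := by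
  let Us : S → S.Opens := fun s => ⟨{s}, isOpen_discrete _⟩
  have hsup : ⨆ s, p ⁻¹ᵁ Us s = ⊤ := by
    rw [eq_top_iff]
    intro x _
    rw [TopologicalSpace.Opens.mem_iSup]
    exact ⟨p.base x, rfl⟩
  rw [IsZariskiLocalAtTarget.iff_of_iSup_eq_top (P := @IsClosedImmersion) _ hsup]
  intro s
  let V := p ⁻¹ᵁ Us s
  have hmem : ∀ x : S, x ∈ e ⁻¹ᵁ V ↔ x = s := by
    intro x
    change p.base (e.base x) ∈ ({s} : Set S) ↔ _
    have : p.base (e.base x) = x := by
      rw [← Scheme.Hom.comp_apply, h]; rfl
    rw [this]; rfl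
  have hsub : Subsingleton ↥(e ⁻¹ᵁ V : Scheme.{u}) := by
    constructor
    rintro ⟨a, ha⟩ ⟨b, hb⟩
    apply Subtype.ext
    exact ((hmem a).mp ha).trans ((hmem b).mp hb).symm
  let r : (V : Scheme.{u}) ⟶ (e ⁻¹ᵁ V : Scheme.{u}) :=
    IsOpenImmersion.lift (e ⁻¹ᵁ V).ι (V.ι ≫ p) (by
      rintro _ ⟨v, rfl⟩
      simp only [Scheme.Opens.range_ι, SetLike.mem_coe]
      rw [hmem]
      exact v.2)
  have hr : r ≫ (e ⁻¹ᵁ V).ι = V.ι ≫ p := IsOpenImmersion.lift_fac _ _ _
  refine isClosedImmersion_of_comp_eq_id r (e ∣_ V) ?_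
  rw [← cancel_mono (e ⁻¹ᵁ V).ι, Category.assoc, hr, ← Category.assoc, morphismRestrict_ι,
    Category.assoc, h, Category.comp_id, Category.id_comp]

/-- Let S be a scheme whose underlying topological space is discrete. Then every S-group scheme is
separated over S. -/
theorem result (S : Scheme.{u}) [DiscreteTopology S] (G : Over S) [GrpObj G] :
    IsSeparated G.hom := by
  have hpb := Groth.Agent.Lib.Helper2.isPullback_diagonal_unit S G
  have hη : IsClosedImmersion η[G].left :=
    isClosedImmersion_section_of_discrete G.hom η[G].left (by simp)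
  exact ⟨MorphismProperty.of_isPullback hpb.flip hη⟩

end Groth.Agent.S5331
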