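import Groth.Statements.S0025
import Groth.Agent.Lib.Helper38.ChowMain
import Groth.Agent.Lib.Helper38.ChowCover
import Groth.Agent.Lib.Helper38.ChowAffine

set_option autoImplicit false
universe u
open Coherent

namespace Groth.Agent.S0025

open AlgebraicGeometry CategoryTheory TopologicalSpace in
/-- the infimum of a list of opens. -/
def listInf {X : Scheme.{u}} : List X.Opens → X.Opens
  | [] => ⊤
  | V :: l => V ⊓ listInf l

open AlgebraicGeometry CategoryTheory TopologicalSpace in
theorem listInf_le {X : Scheme.{u}} (l : List X.Opens) (V : X.Opens) (hV : V ∈ l) :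
    listInf l ≤ V := by
  induction l with
  | nil => simp at hV
  | cons W l ih =>
    rcases List.mem_cons.mp hV with rfl | h
    · exact inf_le_left
    · exact inf_le_right.trans (ih h)

open AlgebraicGeometry CategoryTheory TopologicalSpace in
theorem dense_listInf {X : Scheme.{u}} (l : List X.Opens)
    (hl : ∀ V ∈ l, Dense (V : Set X)) : Dense (listInf l : Set X) := by
  induction l with
  | nil => simp [listInf]
  | cons W l ih =>
    have h1 := hl W List.mem_cons_self
    have h2 := ih (fun V hV => hl V (List.mem_cons_of_mem _ hV))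
    change Dense ((W : Set X) ∩ (listInf l : Set X))
    exact h1.inter_of_isOpen_left h2 W.2

open AlgebraicGeometry CategoryTheory in
/-- Let S be Noetherian and f : X → S separated of finite type. Then for some n there are a scheme X', a
proper surjective π : X' → X and an immersion X' → P^n_S compatible with the maps to S, such that π
is an isomorphism over a dense open of X. -/
theorem result {X S : Scheme.{u}} (f : X ⟶ S) [IsNoetherian S] [IsSeparated f]
    [LocallyOfFiniteType f] [QuasiCompact f] :
    ∃ (n : ℕ) (X' : Scheme.{u}) (π : X' ⟶ X) (j : X' ⟶ CohB1.ProjSpaceOver n S),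
      IsImmersion j ∧ j ≫ CohB1.ProjSpaceOver.toBase n S = π ≫ f ∧ IsProper π ∧ Surjective π ∧
      ∃ U : X.Opens, Dense (U : Set X) ∧ IsIso (π ∣_ U) := by
  have hLN : IsLocallyNoetherian X := LocallyOfFiniteType.isLocallyNoetherian f
  have hC : CompactSpace X := QuasiCompact.compactSpace_of_compactSpace f
  have hN : IsNoetherian X := {}
  by_cases hX : IsEmpty X
  · refine ⟨0, X, 𝟙 X, (isInitialOfIsEmpty (X := X)).to _, inferInstance,
      (isInitialOfIsEmpty (X := X)).hom_ext _ _, inferInstance, inferInstance, ⊤, ?_, ?_⟩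
    · simp
    · infer_instance
  · rw [not_isEmpty_iff] at hX
    obtain ⟨l, hl1, hl2⟩ := Groth.Agent.Lib.Helper38.ChowCover.exists_dense_affine_cover X
    have hne : l ≠ [] := by
      obtain ⟨x⟩ := hX
      obtain ⟨V, hV, -⟩ := hl2 x
      exact List.ne_nil_of_mem hV
    have hl : ∀ V ∈ l, listInf l ≤ V ∧ ∃ (n : ℕ)
        (e : (V : Scheme.{u}) ⟶ CohB1.ProjSpaceOver n S),
        IsImmersion e ∧ e ≫ CohB1.ProjSpaceOver.toBase n S = V.ι ≫ f := by
      intro V hV
      haveI : IsAffine (V : Scheme.{u}) := (hl1 V hV).1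
      exact ⟨listInf_le l V hV,
        Groth.Agent.Lib.Helper38.ChowAffine.exists_immersion_of_isAffine (V.ι ≫ f)⟩
    obtain ⟨D, -, hD⟩ := Groth.Agent.Lib.Helper38.ChowMain.exists_chowData f (listInf l) l hl
    obtain ⟨N, σ, hσ1, hσ2⟩ := hD hne
    have hq : IsImmersion D.q :=
      Groth.Agent.Lib.Helper38.ChowMain.isImmersion_q f (listInf l) D (fun x => hl2 x)
    have hdense : Dense (listInf l : Set X) := dense_listInf l (fun V hV => (hl1 V hV).2)
    refine ⟨N, D.Y, D.π, D.q ≫ σ, inferInstance, ?_, D.properπ,
      Groth.Agent.Lib.Helper38.ChowMain.surjective_π f (listInf l) D hdense, listInf l, hdense,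
      Groth.Agent.Lib.Helper38.ChowMain.isIso_restrict f (listInf l) D⟩
    rw [Category.assoc, hσ2, D.hq]

end Groth.Agent.S0025
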