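import Groth.Statements.S3815
import Groth.Agent.Lib.Helper14.DiffOpLin
import Groth.Agent.Lib.Helper14.DiffOpAlt

set_option autoImplicit false
universe u
open scoped TensorProduct
open scoped BigOperators
open PP16

namespace Groth.Agent.S3815

open Diff16
set_option linter.unusedSectionVars false

section
variable {A B : Type u} [CommRing A] [CommRing B] [Algebra A B]
    {M N : Type u} [AddCommGroup M] [Module A M] [Module B M] [IsScalarTower A B M]
    [AddCommGroup N] [Module A N] [Module B N] [IsScalarTower A B N]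

/-- `b ↦ D (b • m)` -/
noncomputable def atPt (D : M →ₗ[A] N) (m : M) : B →ₗ[A] N :=
  D ∘ₗ ((LinearMap.toSpanSingleton B M m).restrictScalars A)

theorem atPt_apply (D : M →ₗ[A] N) (m : M) (b : B) : atPt D m b = D (b • m) := rfl

theorem commutator_atPt (D : M →ₗ[A] N) (m : M) (c : B) :
    Diff16.commutator A B B N (atPt D m) c = atPt (Diff16.commutator A B M N D c) m := by
  ext b
  rw [Groth.Agent.Lib.Helper14.commutator_apply, atPt_apply, atPt_apply, atPt_apply,
    Groth.Agent.Lib.Helper14.commutator_apply, smul_eq_mul, mul_smul]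

theorem isDiffOpLE_atPt (n : ℕ) : ∀ (D : M →ₗ[A] N), IsDiffOpLE A B M N n D → ∀ m : M,
    IsDiffOpLE A B B N n (atPt D m) := by
  induction n with
  | zero =>
    intro D hD m
    rw [Groth.Agent.Lib.Helper14.isDiffOpLE_zero_iff] at hD ⊢
    intro b c
    rw [atPt_apply, atPt_apply, smul_eq_mul, mul_smul, hD]
  | succ n ih =>
    intro D hD m
    rw [Groth.Agent.Lib.Helper14.isDiffOpLE_succ_iff] at hD ⊢
    intro c
    rw [commutator_atPt]
    exact ih _ (hD c) m

/-- the bilinearisation `(a ⊗ c, m) ↦ a • D (c • m)` -/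
noncomputable def GG (D : M →ₗ[A] N) : B ⊗[A] B →ₗ[A] (M →ₗ[A] N) :=
  TensorProduct.lift
    { toFun := fun a =>
        { toFun := fun c => ((LinearMap.lsmul B N a).restrictScalars A) ∘ₗ D ∘ₗ
            ((LinearMap.lsmul B M c).restrictScalars A)
          map_add' := fun c c' => by ext m; simp
          map_smul' := fun r c => by ext m; simp }
      map_add' := fun a a' => by ext c m; simp
      map_smul' := fun r a => by ext c m; simp }

theorem GG_tmul (D : M →ₗ[A] N) (a c : B) (m : M) : GG D (a ⊗ₜ[A] c) m = a • D (c • m) := by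
  simp [GG]

theorem GG_eq_linearize (D : M →ₗ[A] N) (x : B ⊗[A] B) (m : M) :
    GG D x m = linearize A B B N (atPt D m) x := by
  induction x using TensorProduct.induction_on with
  | zero => simp
  | tmul a c => rw [GG_tmul, Groth.Agent.Lib.Helper14.linearize_tmul, atPt_apply]
  | add x y hx hy => rw [map_add, LinearMap.add_apply, hx, hy, map_add]

theorem GG_vanish (n : ℕ) (D : M →ₗ[A] N) (hD : IsDiffOpLE A B M N n D) :
    ∀ x ∈ (KaehlerDifferential.ideal A B) ^ (n + 1), GG D x = 0 := by
  intro x hx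
  ext m
  rw [GG_eq_linearize, LinearMap.zero_apply]
  exact (Groth.Agent.Lib.Helper14.isDiffOpLE_iff_linearize_vanish n _).mp (isDiffOpLE_atPt n D hD m) x hx

end

section quot
variable {A B : Type u} [CommRing A] [CommRing B] [Algebra A B]
    {M N : Type u} [AddCommGroup M] [Module A M] [Module B M] [IsScalarTower A B M]
    [AddCommGroup N] [Module A N] [Module B N] [IsScalarTower A B N]

/-- `GG` descended to principal parts -/
noncomputable def GGq (n : ℕ) (D : M →ₗ[A] N) (hD : IsDiffOpLE A B M N n D) :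
    PP16.P n A B →ₗ[A] (M →ₗ[A] N) :=
  (Submodule.liftQ (((KaehlerDifferential.ideal A B) ^ (n + 1)).restrictScalars A) (GG D)
    (fun x hx => GG_vanish n D hD x hx)) ∘ₗ
    (Submodule.Quotient.restrictScalarsEquiv A ((KaehlerDifferential.ideal A B) ^ (n + 1))).symm.toLinearMap

theorem GGq_mk (n : ℕ) (D : M →ₗ[A] N) (hD : IsDiffOpLE A B M N n D) (x : B ⊗[A] B) :
    GGq n D hD (Ideal.Quotient.mk _ x) = GG D x := by
  unfold GGq
  rw [LinearMap.comp_apply]
  rfl

end quot

section main
variable {A B : Type u} [CommRing A] [CommRing B] [Algebra A B]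
    {M N : Type u} [AddCommGroup M] [Module A M] [Module B M] [IsScalarTower A B M]
    [AddCommGroup N] [Module A N] [Module B N] [IsScalarTower A B N]

theorem GG_right_mul (D : M →ₗ[A] N) (b : B) (y : B ⊗[A] B) (m : M) :
    GG D (((1 : B) ⊗ₜ[A] b) * y) m = GG D y (b • m) := by
  induction y using TensorProduct.induction_on with
  | zero => simp
  | tmul a c =>
    rw [Algebra.TensorProduct.tmul_mul_tmul, GG_tmul, GG_tmul, one_mul, mul_comm b c, mul_smul]
  | add x y hx hy => rw [mul_add, map_add, map_add, LinearMap.add_apply, LinearMap.add_apply, hx, hy]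

theorem GG_left_mul (D : M →ₗ[A] N) (b : B) (y : B ⊗[A] B) (m : M) :
    GG D ((b ⊗ₜ[A] (1 : B)) * y) m = b • GG D y m := by
  induction y using TensorProduct.induction_on with
  | zero => simp
  | tmul a c =>
    rw [Algebra.TensorProduct.tmul_mul_tmul, GG_tmul, GG_tmul, one_mul, mul_smul]
  | add x y hx hy =>
    rw [mul_add, map_add, map_add, LinearMap.add_apply, LinearMap.add_apply, hx, hy, smul_add]

/-- the class of `x` in `Pr` -/
noncomputable def cl (n : ℕ) (x : B ⊗[A] B) : PP16.Pr n A B :=
  (Ideal.Quotient.mk ((KaehlerDifferential.ideal A B) ^ (n + 1)) x : PP16.P n A B)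

theorem cl_surjective (n : ℕ) (x : PP16.Pr n A B) : ∃ y : B ⊗[A] B, cl n y = x :=
  Ideal.Quotient.mk_surjective (I := (KaehlerDifferential.ideal A B) ^ (n + 1)) x

theorem smul_cl (n : ℕ) (b : B) (y : B ⊗[A] B) :
    b • cl n y = cl n (((1 : B) ⊗ₜ[A] b) * y) := by
  rw [Algebra.smul_def]
  change (Ideal.Quotient.mk ((KaehlerDifferential.ideal A B) ^ (n + 1)) ((1 : B) ⊗ₜ[A] b) : PP16.P n A B) *
    (Ideal.Quotient.mk ((KaehlerDifferential.ideal A B) ^ (n + 1)) y : PP16.P n A B) = _
  rw [← map_mul]
  rfl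

/-- the bi-additive map `P^n × M → N` -/
noncomputable def ff (n : ℕ) (D : M →ₗ[A] N) (hD : IsDiffOpLE A B M N n D) :
    PP16.Pr n A B →+ M →+ N :=
  (LinearMap.toAddMonoidHom'.comp (GGq n D hD).toAddMonoidHom : PP16.P n A B →+ M →+ N)

theorem ff_cl (n : ℕ) (D : M →ₗ[A] N) (hD : IsDiffOpLE A B M N n D) (x : B ⊗[A] B) (m : M) :
    ff n D hD (cl n x) m = GG D x m := by
  change GGq n D hD (Ideal.Quotient.mk _ x) m = _
  rw [GGq_mk]

theorem ff_balanced (n : ℕ) (D : M →ₗ[A] N) (hD : IsDiffOpLE A B M N n D) (b : B)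
    (x : PP16.Pr n A B) (m : M) : ff n D hD (b • x) m = ff n D hD x (b • m) := by
  obtain ⟨y, rfl⟩ := cl_surjective n x
  rw [smul_cl, ff_cl, ff_cl, GG_right_mul]

/-- the additive map `u : P^n(M) → N` attached to a differential operator -/
noncomputable def uu (n : ℕ) (D : M →ₗ[A] N) (hD : IsDiffOpLE A B M N n D) :
    PP16.PM n A B M →+ N :=
  TensorProduct.liftAddHom (ff n D hD) (ff_balanced n D hD)

theorem uu_tmul (n : ℕ) (D : M →ₗ[A] N) (hD : IsDiffOpLE A B M N n D) (x : B ⊗[A] B) (m : M) :
    uu n D hD (cl n x ⊗ₜ[B] m) = GG D x m := by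
  unfold uu
  rw [TensorProduct.liftAddHom_tmul, ff_cl]

end main

section final
variable {A B : Type u} [CommRing A] [CommRing B] [Algebra A B]
    {M N : Type u} [AddCommGroup M] [Module A M] [Module B M] [IsScalarTower A B M]
    [AddCommGroup N] [Module A N] [Module B N] [IsScalarTower A B N]

theorem isDiffOpLE_of_atPt (n : ℕ) : ∀ (D : M →ₗ[A] N),
    (∀ m : M, IsDiffOpLE A B B N n (atPt D m)) → IsDiffOpLE A B M N n D := by
  induction n with
  | zero =>
    intro D h
    rw [Groth.Agent.Lib.Helper14.isDiffOpLE_zero_iff]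
    intro c m
    have := (Groth.Agent.Lib.Helper14.isDiffOpLE_zero_iff _).mp (h m) c 1
    rw [atPt_apply, atPt_apply, smul_eq_mul, mul_one, one_smul] at this
    exact this
  | succ n ih =>
    intro D h
    rw [Groth.Agent.Lib.Helper14.isDiffOpLE_succ_iff]
    intro c
    apply ih
    intro m
    rw [← commutator_atPt]
    exact (Groth.Agent.Lib.Helper14.isDiffOpLE_succ_iff n _).mp (h m) c

theorem algebraMap_smul_cl (n : ℕ) (b : B) (y : B ⊗[A] B) :
    algebraMap B (PP16.P n A B) b • cl n y = cl n ((b ⊗ₜ[A] (1 : B)) * y) := by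
  change (Ideal.Quotient.mk ((KaehlerDifferential.ideal A B) ^ (n + 1)) (b ⊗ₜ[A] (1 : B)) : PP16.P n A B) *
    (Ideal.Quotient.mk ((KaehlerDifferential.ideal A B) ^ (n + 1)) y : PP16.P n A B) = _
  rw [← map_mul]
  rfl

theorem cl_add (n : ℕ) (x y : B ⊗[A] B) : cl n (x + y) = cl n x + cl n y :=
  map_add (Ideal.Quotient.mk ((KaehlerDifferential.ideal A B) ^ (n + 1))) x y

theorem cl_zero (n : ℕ) : cl n (0 : B ⊗[A] B) = 0 :=
  map_zero (Ideal.Quotient.mk ((KaehlerDifferential.ideal A B) ^ (n + 1)))

theorem cl_one (n : ℕ) : cl n (1 : B ⊗[A] B) = 1 :=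
  map_one (Ideal.Quotient.mk ((KaehlerDifferential.ideal A B) ^ (n + 1)))

theorem cl_eq_zero (n : ℕ) (x : B ⊗[A] B) (hx : x ∈ (KaehlerDifferential.ideal A B) ^ (n + 1)) :
    cl n x = 0 :=
  Ideal.Quotient.eq_zero_iff_mem.mpr hx

theorem dM_eq (n : ℕ) (m : M) : PP16.dM n A B M m = cl n (1 : B ⊗[A] B) ⊗ₜ[B] m := by
  rw [cl_one]
  rfl

/-- any `u` with the two properties is given by `GG` on pure tensors -/
theorem u_eq_GG (n : ℕ) (D : M →ₗ[A] N) (u : PP16.PM n A B M →+ N)
    (h1 : ∀ (b : B) (t : PP16.PM n A B M), u (algebraMap B (PP16.P n A B) b • t) = b • u t)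
    (h2 : ∀ m : M, u (PP16.dM n A B M m) = D m) (y : B ⊗[A] B) (m : M) :
    u (cl n y ⊗ₜ[B] m) = GG D y m := by
  induction y using TensorProduct.induction_on with
  | zero => rw [cl_zero, TensorProduct.zero_tmul, map_zero, map_zero, LinearMap.zero_apply]
  | tmul a c =>
    have e : cl n (a ⊗ₜ[A] c) ⊗ₜ[B] m =
        algebraMap B (PP16.P n A B) a • PP16.dM n A B M (c • m) := by
      rw [dM_eq, ← TensorProduct.smul_tmul, smul_cl, TensorProduct.smul_tmul', algebraMap_smul_cl]
      congr 2
      rw [mul_one, Algebra.TensorProduct.tmul_mul_tmul, mul_one, one_mul]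
    rw [e, h1, h2, GG_tmul]
  | add x y hx hy =>
    rw [cl_add, TensorProduct.add_tmul, map_add, hx, hy, map_add, LinearMap.add_apply]

end final

/-- Let B be an A-algebra, M and N two B-modules and D : M → N an A-linear map. Let P^n(M) = P^n_{B/A}
⊗_B M, the tensor product formed with the B-module structure of P^n_{B/A} through d^n, regarded as a
B-module through the first factor of P^n_{B/A}, with d^n_M : M → P^n(M), m ↦ 1 ⊗ m. Then D is a
differential operator of order at most n relative to A (order defined through iterated commutators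
with multiplication by elements of B) if and only if there is exactly one additive map u : P^n(M) →
N which is B-linear for the first-factor structure and satisfies u(1 ⊗ m) = D(m) for all m ∈ M. -/
theorem result (n : ℕ) (A B : Type u) [CommRing A] [CommRing B] [Algebra A B]
    (M N : Type u) [AddCommGroup M] [Module A M] [Module B M] [IsScalarTower A B M]
    [AddCommGroup N] [Module A N] [Module B N] [IsScalarTower A B N] (D : M →ₗ[A] N) :
    Diff16.IsDiffOpLE A B M N n D ↔
      ∃! u : PP16.PM n A B M →+ N,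
        (∀ (b : B) (t : PP16.PM n A B M), u (algebraMap B (PP16.P n A B) b • t) = b • u t) ∧
          ∀ m : M, u (PP16.dM n A B M m) = D m := by
  constructor
  · intro hD
    refine ⟨uu n D hD, ⟨fun b t => ?_, fun m => ?_⟩, ?_⟩
    · induction t using TensorProduct.induction_on with
      | zero => rw [smul_zero, map_zero, smul_zero]
      | tmul x m =>
        obtain ⟨y, rfl⟩ := cl_surjective n x
        rw [TensorProduct.smul_tmul', algebraMap_smul_cl, uu_tmul, uu_tmul, GG_left_mul]
      | add x y hx hy => rw [smul_add, map_add, hx, hy, map_add, smul_add]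
    · rw [dM_eq, uu_tmul, Algebra.TensorProduct.one_def, GG_tmul, one_smul, one_smul]
    · rintro u' ⟨h1, h2⟩
      ext t
      induction t using TensorProduct.induction_on with
      | zero => rw [map_zero, map_zero]
      | tmul x m =>
        obtain ⟨y, rfl⟩ := cl_surjective n x
        rw [u_eq_GG n D u' h1 h2, uu_tmul]
      | add x y hx hy => rw [map_add, map_add, hx, hy]
  · rintro ⟨u, ⟨h1, h2⟩, -⟩
    apply isDiffOpLE_of_atPt
    intro m
    rw [Groth.Agent.Lib.Helper14.isDiffOpLE_iff_linearize_vanish]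
    intro x hx
    rw [← GG_eq_linearize, ← u_eq_GG n D u h1 h2, cl_eq_zero n x hx, TensorProduct.zero_tmul,
      map_zero]

end Groth.Agent.S3815
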