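import Groth.Statements.S9199
import Groth.Agent.Lib.Helper13.LimProd

set_option autoImplicit false
universe u
open CategoryTheory AlgebraicGeometry
open Lim

namespace Groth.Agent.S9199

open Groth.Agent.Lib.Helper13.LimProd in
/-- Let S be a scheme and X = lim X_i a cofiltered limit of S-schemes X_i (a diagram with a compatible
family of structure maps to S) with affine transition morphisms, every X_i quasi-compact and
quasi-separated; the structure map X → S is the composite X → X_{i₀} → S for any index i₀. Assume S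
is quasi-separated. If X → S is separated, then X_i → S is separated for all i beyond some index i₁. -/
theorem result {I : Type u} [SmallCategory I] [IsCofiltered I] (S : Scheme.{u}) [QuasiSeparatedSpace S]
    (D : I ⥤ Scheme.{u}) (t : D ⟶ (Functor.const I).obj S) (c : Limits.Cone D) (hc : Limits.IsLimit c)
    [∀ (i j : I) (a : i ⟶ j), IsAffineHom (D.map a)]
    [∀ i, CompactSpace (D.obj i)] [∀ i, QuasiSeparatedSpace (D.obj i)] (i₀ : I)
    [IsSeparated (c.π.app i₀ ≫ t.app i₀)] :
    ∃ i₁ : I, ∀ (i : I) (_ : i ⟶ i₁), IsSeparated (t.app i) := by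
  have hD : ∀ {a b : I} (f : a ⟶ b), IsAffineHom (D.map f) := fun f => inferInstance
  have hsep : IsSeparated (c.π.app i₀ ≫ (show D.obj i₀ ⟶ S from t.app i₀)) := ‹_›
  obtain ⟨i₁, hi₁⟩ := exists_isSeparated D (fun i => t.app i) (fun a => tnat t a) c
    (c.π.app i₀ ≫ (show D.obj i₀ ⟶ S from t.app i₀)) (fun i => cone_comp_eq t c i i₀) hc
  refine ⟨i₁, fun i a => ?_⟩
  let ti : D.obj i ⟶ S := t.app i
  let ti₁ : D.obj i₁ ⟶ S := t.app i₁
  have e : ti = D.map a ≫ ti₁ := (tnat t a).symm
  have h1 : IsSeparated ti₁ := hi₁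
  have h2 : IsSeparated (D.map a ≫ ti₁) := inferInstance
  show IsSeparated ti
  rw [e]; exact h2

end Groth.Agent.S9199
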