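import Groth.Statements.S7468
import Groth.Agent.Lib.Helper37.VCover
import Mathlib.AlgebraicGeometry.ValuativeCriterion
import Mathlib.RingTheory.Valuation.LocalSubring

set_option autoImplicit false
universe w u
open HTop

namespace Groth.Agent.S7468

open CategoryTheory CategoryTheory.Limits AlgebraicGeometry in
/-- If T is affine and a finite family is obtained by restricting one proper surjective morphism U -> T
to the pieces of a finite affine open cover of U, then the family is a standard V covering. -/
theorem result {T : Scheme.{u}} (E : PreZeroHypercover.{w} T) (hE : HTop.IsStandardPh E) : HTop.IsStandardV E := by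
  obtain ⟨haffT, hfin, haffX, U, f, ι, hproper, hsurj, hopen, hιf, hcov⟩ := hE
  refine ⟨haffT, hfin, haffX, ?_⟩
  intro V _ _ g
  -- the generic point of `Spec V`
  let η : Spec (CommRingCat.of (FractionRing V)) ⟶ Spec V :=
    Spec.map (CommRingCat.ofHom (algebraMap V (FractionRing V)))
  -- a point of `U` over the image of the generic point
  obtain ⟨u₀, hu₀⟩ := hsurj.surj ((η ≫ g) (IsLocalRing.closedPoint (FractionRing V)))
  obtain ⟨z, hz₁, hz₂⟩ := Scheme.Pullback.exists_preimage_pullback (f := η ≫ g) (g := f)
    (IsLocalRing.closedPoint (FractionRing V)) u₀ hu₀.symm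
  -- the field `L = κ(z)` and the map `V → L`
  obtain ⟨κ, hκ⟩ := Spec.map_surjective
    ((pullback (η ≫ g) f).fromSpecResidueField z ≫ pullback.fst (η ≫ g) f)
  have hψinj : Function.Injective
      (CommRingCat.ofHom (algebraMap V (FractionRing V)) ≫ κ).hom := by
    rw [CommRingCat.hom_comp, RingHom.coe_comp]
    exact (RingHom.injective κ.hom).comp (IsFractionRing.injective V (FractionRing V))
  obtain ⟨A, hA, hloc⟩ := IsLocalRing.exists_factor_valuationRing
    (CommRingCat.ofHom (algebraMap V (FractionRing V)) ≫ κ).hom
  have hφinj : Function.Injective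
      ((CommRingCat.ofHom (algebraMap V (FractionRing V)) ≫ κ).hom.codRestrict A.toSubring hA) := by
    intro a b hab
    apply hψinj
    exact congrArg Subtype.val hab
  have hfac : CommRingCat.ofHom ((CommRingCat.ofHom (algebraMap V (FractionRing V)) ≫
      κ).hom.codRestrict A.toSubring hA) ≫ CommRingCat.ofHom (algebraMap A
        ((pullback (η ≫ g) f).residueField z)) =
      CommRingCat.ofHom (algebraMap V (FractionRing V)) ≫ κ := rfl
  -- the valuative square
  have w : ((pullback (η ≫ g) f).fromSpecResidueField z ≫ pullback.snd (η ≫ g) f) ≫ f =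
      Spec.map (CommRingCat.ofHom (algebraMap A ((pullback (η ≫ g) f).residueField z))) ≫
        Spec.map (CommRingCat.ofHom ((CommRingCat.ofHom (algebraMap V (FractionRing V)) ≫
          κ).hom.codRestrict A.toSubring hA)) ≫ g := by
    rw [← Category.assoc _ _ g, ← Spec.map_comp, hfac, Spec.map_comp, hκ, Category.assoc,
      Category.assoc, Category.assoc, ← pullback.condition]
  have hex : ValuativeCriterion.Existence f := by
    have h : UniversallyClosed f := inferInstance
    rw [UniversallyClosed.eq_valuativeCriterion] at h
    exact h.1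
  obtain ⟨l, hl₁, hl₂⟩ := (hex
    { R := A
      K := ((pullback (η ≫ g) f).residueField z : Type u)
      i₁ := (pullback (η ≫ g) f).fromSpecResidueField z ≫ pullback.snd (η ≫ g) f
      i₂ := Spec.map (CommRingCat.ofHom ((CommRingCat.ofHom (algebraMap V (FractionRing V)) ≫
          κ).hom.codRestrict A.toSubring hA)) ≫ g
      commSq := ⟨w⟩ }).exists_lift
  dsimp only at hl₁ hl₂
  obtain ⟨j, hj⟩ := hcov (l (IsLocalRing.closedPoint A))
  have hrange : Set.range l ⊆ Set.range (ι j) :=
    Groth.Agent.Lib.Helper37.range_subset_of_closedPoint_mem (R := CommRingCat.of A) l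
      (ι j).opensRange hj
  refine ⟨CommRingCat.of A, inferInstance, inferInstance,
    CommRingCat.ofHom ((CommRingCat.ofHom (algebraMap V (FractionRing V)) ≫
      κ).hom.codRestrict A.toSubring hA), ⟨hφinj, hloc⟩, j,
    IsOpenImmersion.lift (ι j) l hrange, ?_⟩
  rw [← hιf j, ← Category.assoc, IsOpenImmersion.lift_fac, hl₂]

end Groth.Agent.S7468
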