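import Groth.Statements.S0594
import Groth.Agent.Lib.Helper13.LimStruct
import Groth.Agent.S9200

set_option autoImplicit false
universe u
open CategoryTheory AlgebraicGeometry
open Lim

namespace Groth.Agent.S0594

open Groth.Agent.Lib.Helper13.LimProd Groth.Agent.Lib.Helper13.LimStruct in
/-- Over a quasi-compact quasi-separated base `S`, let `X` be the limit of a cofiltered system of
quasi-compact quasi-separated `S`-schemes, locally of finite type over `S`, whose transition
morphisms are closed immersions. If `X → S` is a closed immersion then so is `Xᵢ → S` for some index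
`i`. -/
theorem result {I : Type u} [SmallCategory I] [IsCofiltered I]
    (S : Scheme.{u}) [CompactSpace S] [QuasiSeparatedSpace S]
    (D : I ⥤ Scheme.{u}) (t : D ⟶ (Functor.const I).obj S) (c : Limits.Cone D)
    (hc : Limits.IsLimit c) [∀ (i j : I) (f : i ⟶ j), IsClosedImmersion (D.map f)]
    [∀ i, CompactSpace (D.obj i)] [∀ i, QuasiSeparatedSpace (D.obj i)]
    [∀ i, LocallyOfFiniteType (t.app i)] (i₀ : I) [IsClosedImmersion (c.π.app i₀ ≫ t.app i₀)] :
    ∃ i : I, IsClosedImmersion (t.app i) := by
  have hD : ∀ {a b : I} (f : a ⟶ b), IsClosedImmersion (D.map f) := fun f => inferInstance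
  have hDa : ∀ (a b : I) (f : a ⟶ b), IsAffineHom (D.map f) := fun _ _ f => inferInstance
  have haff : IsAffineHom (c.π.app i₀ ≫ t.app i₀) := inferInstance
  obtain ⟨i₁, hi₁⟩ := Groth.Agent.S9200.result S D t c hc i₀
  let ti : ∀ i, D.obj i ⟶ S := fun i => t.app i
  have h1 : IsAffineHom (ti i₁) := hi₁ i₁ (𝟙 _)
  have h2 : ∀ i, LocallyOfFiniteType (ti i) := fun i => inferInstanceAs (LocallyOfFiniteType (t.app i))
  have h3 : IsClosedImmersion (c.π.app i₁ ≫ ti i₁) := by
    have e : c.π.app i₁ ≫ ti i₁ = c.π.app i₀ ≫ ti i₀ := cone_comp_eq t c i₁ i₀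
    rw [e]
    exact ‹IsClosedImmersion (c.π.app i₀ ≫ t.app i₀)›
  exact exists_isClosedImmersion D ti (fun a => tnat t a) c hc i₁

end Groth.Agent.S0594
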