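import Groth.Statements.S7478
-- import your own Groth.Agent.* helpers here

set_option autoImplicit false
universe w u
open HTop

namespace Groth.Agent.S7478

open CategoryTheory CategoryTheory.Limits AlgebraicGeometry in
/-- The base change of a standard ph covering along a morphism of affine schemes T' -> T is a standard
ph covering of T'. -/
theorem result {T T' : Scheme.{u}} [IsAffine T'] (g : T' ⟶ T) (E : PreZeroHypercover.{w} T) (hE : HTop.IsStandardPh E) : HTop.IsStandardPh (E.pullback₁ g) := by
  have hT : IsAffine T := hE.isAffine
  obtain ⟨U, f, ι, hproper, hsurj, hopen, hfac, hcov⟩ := hE.exists_proper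
  refine ⟨inferInstance, hE.finite_index, fun j => ?_, ?_⟩
  · have : IsAffine (E.X j) := hE.isAffine_obj j
    exact AlgebraicGeometry.Scheme.Pullback.isAffine_of_isAffine_isAffine_isAffine g (E.f j)
  · -- the proper surjective morphism is the base change of `f`
    have hcomp : ∀ j, pullback.fst g (E.f j) ≫ g = (pullback.snd g (E.f j) ≫ ι j) ≫ f := by
      intro j
      rw [Category.assoc, hfac, pullback.condition]
    -- the big square is a pullback, the right square is a pullback, hence the left one is
    have hpb : ∀ j, IsPullback (pullback.snd g (E.f j)) (pullback.lift (pullback.fst g (E.f j))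
        (pullback.snd g (E.f j) ≫ ι j) (hcomp j)) (ι j) (pullback.snd g f) := by
      intro j
      refine IsPullback.of_bot ?_ ?_ (IsPullback.of_hasPullback g f).flip
      · rw [pullback.lift_fst, hfac j]
        exact (IsPullback.of_hasPullback g (E.f j)).flip
      · rw [pullback.lift_snd]
    refine ⟨pullback g f, pullback.fst g f, fun j => pullback.lift (pullback.fst g (E.f j))
      (pullback.snd g (E.f j) ≫ ι j) (hcomp j), ?_, ?_, fun j => ?_, fun j => ?_, fun x => ?_⟩
    · infer_instance
    · infer_instance
    · have := hopen j
      exact MorphismProperty.of_isPullback (P := @IsOpenImmersion) (hpb j) (hopen j)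
    · exact pullback.lift_fst _ _ _
    · obtain ⟨j, y, hy⟩ := hcov (pullback.snd g f x)
      obtain ⟨z, hz1, hz2⟩ := Scheme.exists_preimage_of_isPullback (hpb j) y x hy
      exact ⟨j, z, hz2⟩

end Groth.Agent.S7478
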