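import Groth.Statements.S7410
import Groth.Agent.Lib.Helper20.ChowQS

set_option autoImplicit false
universe u
open CategoryTheory AlgebraicGeometry
open Lim

namespace Groth.Agent.S7410

/-- Chow's lemma, version with a dense open: let `S` be quasi-compact and quasi-separated and `f : X →
S` separated of finite type, with `X` having finitely many irreducible components. Then for some `n`
there are a scheme `X'`, a proper surjective `π : X' → X`, an immersion `X' → P^n_S` compatible with
the maps to `S`, and a dense open `U ⊆ X` such that `π⁻¹(U) → U` is an isomorphism. -/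
theorem result {X S : Scheme.{u}} (f : X ⟶ S) [CompactSpace S]
    [QuasiSeparatedSpace S] [IsSeparated f] [LocallyOfFiniteType f] [QuasiCompact f]
    (hirr : (irreducibleComponents (X : Type u)).Finite) :
    ∃ (n : ℕ) (X' : Scheme.{u}) (π : X' ⟶ X) (j : X' ⟶ CohB1.ProjSpaceOver n S),
      IsImmersion j ∧ j ≫ CohB1.ProjSpaceOver.toBase n S = π ≫ f ∧ IsProper π ∧ Surjective π ∧
      ∃ U : X.Opens, Dense (U : Set X) ∧ IsIso (π ∣_ U) := by
  have hC : CompactSpace X := QuasiCompact.compactSpace_of_compactSpace f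
  have hQS : QuasiSeparatedSpace X := quasiSeparatedSpace_of_quasiSeparated f
  by_cases hX : IsEmpty X
  · refine ⟨0, X, 𝟙 X, (isInitialOfIsEmpty (X := X)).to _, inferInstance,
      (isInitialOfIsEmpty (X := X)).hom_ext _ _, inferInstance, inferInstance, ⊤, ?_, ?_⟩
    · simp
    · infer_instance
  · rw [not_isEmpty_iff] at hX
    obtain ⟨l, hl1, hl2⟩ :=
      Groth.Agent.Lib.Helper20.ChowQS.exists_dense_affine_cover_of_finite X hirr
    have hne : l ≠ [] := by
      obtain ⟨x⟩ := hX
      obtain ⟨V, hV, -⟩ := hl2 x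
      exact List.ne_nil_of_mem hV
    have hl : ∀ V ∈ l, Groth.Agent.Lib.Helper20.ChowQS.listInf l ≤ V ∧ ∃ (n : ℕ)
        (e : (V : Scheme.{u}) ⟶ CohB1.ProjSpaceOver n S),
        IsImmersion e ∧ e ≫ CohB1.ProjSpaceOver.toBase n S = V.ι ≫ f := by
      intro V hV
      haveI : IsAffine (V : Scheme.{u}) := (hl1 V hV).1
      exact ⟨Groth.Agent.Lib.Helper20.ChowQS.listInf_le l V hV,
        Groth.Agent.Lib.Helper38.ChowAffine.exists_immersion_of_isAffine (V.ι ≫ f)⟩
    have hUc : CompactSpace ((Groth.Agent.Lib.Helper20.ChowQS.listInf l : X.Opens) : Scheme.{u}) :=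
      isCompact_iff_compactSpace.mp
        (Groth.Agent.Lib.Helper20.ChowQS.isCompact_listInf l (fun V hV => (hl1 V hV).1))
    obtain ⟨D, -, hD⟩ := Groth.Agent.Lib.Helper20.ChowQS.exists_chowData_qs f
      (Groth.Agent.Lib.Helper20.ChowQS.listInf l) l hl
    obtain ⟨N, σ, hσ1, hσ2⟩ := hD hne
    have hq : IsImmersion D.q :=
      Groth.Agent.Lib.Helper38.ChowMain.isImmersion_q f
        (Groth.Agent.Lib.Helper20.ChowQS.listInf l) D (fun x => hl2 x)
    have hdense : Dense (Groth.Agent.Lib.Helper20.ChowQS.listInf l : Set X) :=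
      Groth.Agent.Lib.Helper20.ChowQS.dense_listInf l (fun V hV => (hl1 V hV).2)
    refine ⟨N, D.Y, D.π, D.q ≫ σ, inferInstance, ?_, D.properπ,
      Groth.Agent.Lib.Helper38.ChowMain.surjective_π f
        (Groth.Agent.Lib.Helper20.ChowQS.listInf l) D hdense,
      Groth.Agent.Lib.Helper20.ChowQS.listInf l, hdense,
      Groth.Agent.Lib.Helper38.ChowMain.isIso_restrict f
        (Groth.Agent.Lib.Helper20.ChowQS.listInf l) D⟩
    rw [Category.assoc, hσ2, D.hq]


end Groth.Agent.S7410
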