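import Groth.Statements.S0415
import Groth.Agent.Lib.Helper2.UnivHomeoAffine

set_option autoImplicit false
universe u
open FlatMor

namespace Groth.Agent.S0415
open Groth.Agent.Lib.Helper2

open AlgebraicGeometry CategoryTheory Limits in
/-- A morphism of schemes is a universal homeomorphism if and only if it is integral, universally
injective and surjective. -/
theorem result {X Y : Scheme.{u}} (f : X ⟶ Y) :
    FlatMor.IsUnivHomeo f ↔ IsIntegralHom f ∧ UniversallyInjective f ∧ Surjective f := by
  constructor
  · intro h
    refine ⟨?_, IsUnivHomeo.universallyInjective h, IsUnivHomeo.surjective h⟩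
    rw [IsIntegralHom.iff_universallyClosed_and_isAffineHom]
    refine ⟨⟨?_⟩, isAffineHom_of_isHomeomorph f (IsUnivHomeo.isHomeomorph h)⟩
    intro X' Y' i₁ i₂ f' hpb
    exact (h i₁ i₂ f' hpb).isClosedMap
  · rintro ⟨hint, hinj, hsurj⟩
    intro X' Y' i₁ i₂ f' hpb
    have h1 : IsIntegralHom f' := MorphismProperty.of_isPullback hpb.flip hint
    have h2 : UniversallyInjective f' := MorphismProperty.of_isPullback hpb.flip hinj
    have h3 : Surjective f' := MorphismProperty.of_isPullback hpb.flip hsurj
    have hbij : Function.Bijective f' := ⟨f'.injective, f'.surjective⟩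
    have hclosed : IsClosedMap f' := f'.isClosedMap
    refine ⟨f'.continuous, ?_, hbij⟩
    intro s hs
    have := hclosed _ hs.isClosed_compl
    rw [Set.image_compl_eq hbij] at this
    exact isClosed_compl_iff.mp this

end Groth.Agent.S0415
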