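import Groth.Statements.S13607
-- import your own Groth.Agent.* helpers here

set_option autoImplicit false
open CategoryTheory CategoryTheory.Limits Opposite
universe w v u
open ARSys

namespace Groth.Agent.S13607


/-- transition maps compose -/
theorem tr_comp {C : Type u} [Category.{v} C] (X : ARSys.PS C) {a b c : ℕ} (h₁ : a ≤ b) (h₂ : b ≤ c) :
    ARSys.tr X h₂ ≫ ARSys.tr X h₁ = ARSys.tr X (h₁.trans h₂) := by
  unfold ARSys.tr
  rw [← X.map_comp]
  rfl

/-- any map of the system is a transition map -/
theorem map_eq_tr {C : Type u} [Category.{v} C] (X : ARSys.PS C) {k l : ℕᵒᵖ} (φ : k ⟶ l) :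
    X.map φ = ARSys.tr X (leOfHom φ.unop) := by
  unfold ARSys.tr
  congr 1

/-- In an abelian category linear over a commutative ring A with an ideal J, let X be a J-adic
projective system indexed by the natural numbers and Y a projective system whose n-th term is killed
by J^(n+1) for every n. Then for every r, every morphism from the translate X[r] to Y factors
uniquely through the canonical translation map X[r] ⟶ X: there is exactly one morphism g : X ⟶ Y
whose n-th component, precomposed with the transition map X_(n+r) ⟶ X_n, is the n-th component of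
the given morphism. In particular morphisms X ⟶ Y up to translation are the same as morphisms X ⟶ Y.
(The published statement is for systems of finitely generated modules over a Noetherian ring, and
for systems of sheaves of modules on the small etale site; this row states it in any linear abelian
category, which is all the argument uses.) -/
theorem result {C : Type u} [Category.{v} C] [Abelian C] {A : Type w} [CommRing A] [Linear A C]
    (J : Ideal A) (X Y : ARSys.PS C) (hX : ARSys.IsAdic J X) (hY : ARSys.TermKilled J Y) (r : ℕ)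
    (f : (ARSys.shift C r).obj X ⟶ Y) :
    ∃! g : X ⟶ Y, ∀ n : ℕ, f.app (op n) = ARSys.shiftMap X r n ≫ g.app (op n) := by
  -- the components of `f`, with their sources written as terms of `X`
  let f' : ∀ n : ℕ, X.obj (op (n + r)) ⟶ Y.obj (op n) := fun n => f.app (op n)
  -- every morphism into `Y n` is killed by `J ^ (m+1)` for `n ≤ m`
  have hkill : ∀ (n m : ℕ) (_ : n ≤ m) (Z : C) (φ : Z ⟶ Y.obj (op n)),
      ARSys.HomKilledBy (J ^ (m + 1)) φ := by
    intro n m hnm Z φ a ha
    have ha' : a ∈ J ^ (n + 1) := Ideal.pow_le_pow_right (Nat.succ_le_succ hnm) ha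
    have h0 := hY n a ha'
    calc a • φ = a • (φ ≫ 𝟙 _) := by rw [Category.comp_id]
      _ = φ ≫ (a • 𝟙 (Y.obj (op n))) := by rw [Linear.comp_smul]
      _ = 0 := by rw [h0, comp_zero]
  -- the quotient property of the translation maps
  have hq : ∀ n : ℕ, ARSys.IsQuot (J ^ (n + 1)) (ARSys.tr X (Nat.le_add_right n r)) :=
    fun n => hX.2 n (n + r) (Nat.le_add_right n r)
  -- componentwise factorisation
  have hex : ∀ n : ℕ, ∃! ψ : X.obj (op n) ⟶ Y.obj (op n),
      ARSys.tr X (Nat.le_add_right n r) ≫ ψ = f' n :=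
    fun n => (hq n).2 _ (f' n) (hkill n n le_rfl _ _)
  choose g' hg' hg'u using hex
  -- uniqueness of factorisations through the translation maps, for maps into `Y n` with `n ≤ m`
  have huniq : ∀ (n m : ℕ) (_ : n ≤ m) (ψ₁ ψ₂ : X.obj (op m) ⟶ Y.obj (op n)),
      ARSys.tr X (Nat.le_add_right m r) ≫ ψ₁ = ARSys.tr X (Nat.le_add_right m r) ≫ ψ₂ →
      ψ₁ = ψ₂ := by
    intro n m hnm ψ₁ ψ₂ h
    obtain ⟨ψ, _, hψ⟩ := (hq m).2 _ (ARSys.tr X (Nat.le_add_right m r) ≫ ψ₂) (hkill n m hnm _ _)
    rw [hψ ψ₁ h, hψ ψ₂ rfl]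
  -- naturality of `f`, in terms of transition maps
  have hfnat : ∀ (n m : ℕ) (h : n ≤ m),
      ARSys.tr X (Nat.add_le_add_right h r) ≫ f' n = f' m ≫ ARSys.tr Y h :=
    fun n m h => f.naturality (homOfLE h).op
  have hnat : ∀ (n m : ℕ) (h : n ≤ m), ARSys.tr X h ≫ g' n = g' m ≫ ARSys.tr Y h := by
    intro n m h
    apply huniq n m h
    have e1 : ARSys.tr X (Nat.le_add_right m r) ≫ ARSys.tr X h =
        ARSys.tr X (Nat.add_le_add_right h r) ≫ ARSys.tr X (Nat.le_add_right n r) := by
      rw [tr_comp, tr_comp]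
    calc ARSys.tr X (Nat.le_add_right m r) ≫ ARSys.tr X h ≫ g' n
        = (ARSys.tr X (Nat.le_add_right m r) ≫ ARSys.tr X h) ≫ g' n := by rw [Category.assoc]
      _ = ARSys.tr X (Nat.add_le_add_right h r) ≫ (ARSys.tr X (Nat.le_add_right n r) ≫ g' n) := by
          rw [e1, Category.assoc]
      _ = ARSys.tr X (Nat.add_le_add_right h r) ≫ f' n := by rw [hg' n]
      _ = f' m ≫ ARSys.tr Y h := hfnat n m h
      _ = (ARSys.tr X (Nat.le_add_right m r) ≫ g' m) ≫ ARSys.tr Y h := by rw [hg' m]
      _ = ARSys.tr X (Nat.le_add_right m r) ≫ g' m ≫ ARSys.tr Y h := by rw [Category.assoc]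
  let g : X ⟶ Y :=
    { app := fun k => g' k.unop
      naturality := by
        intro k l φ
        rw [map_eq_tr X φ, map_eq_tr Y φ]
        exact hnat _ _ _ }
  refine ⟨g, fun n => (hg' n).symm, ?_⟩
  intro g₂ hg₂
  ext k
  exact hg'u k.unop (g₂.app k) (hg₂ k.unop).symm

end Groth.Agent.S13607
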