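import Groth.Prelude.Def_DeltaF
import Mathlib.CategoryTheory.Abelian.Exact
import Mathlib.Algebra.Homology.ShortComplex.ShortExact
set_option autoImplicit false
open CategoryTheory
universe v u v' u'
open DeltaF

namespace Groth.Agent.S6773

open CategoryTheory.Limits

variable {A : Type u} [Category.{v} A] [Abelian A] {B : Type u'} [Category.{v'} B] [Abelian B]

/-- the short exact sequence attached to a monomorphism -/
noncomputable abbrev ses {X Y : A} (u : X ⟶ Y) : ShortComplex A :=
  ShortComplex.mk u (cokernel.π u) (cokernel.condition u)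

lemma ses_shortExact {X Y : A} (u : X ⟶ Y) [Mono u] : (ses u).ShortExact where
  exact := ShortComplex.exact_cokernel u
  mono_f := by dsimp [ses]; infer_instance
  epi_g := by dsimp [ses]; infer_instance

/-- the morphism of short exact sequences attached to a commutative square -/
noncomputable def sesMap {X Y X' Y' : A} (u : X ⟶ Y) (u' : X' ⟶ Y') (a : X ⟶ X') (b : Y ⟶ Y')
    (w : u ≫ b = a ≫ u') : ses u ⟶ ses u' where
  τ₁ := a
  τ₂ := b
  τ₃ := cokernel.map u u' a b w
  comm₁₂ := w.symm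
  comm₂₃ := by simp [ses]

section Step

variable (T T' : CohDeltaFunctor A B ℕ) (n₀ n₁ : ℕ) (h : n₀ + 1 = n₁) (σ : T.F n₀ ⟶ T'.F n₀)

/-- an effacing monomorphism for `X` in degree `n₁` -/
structure Eff (X : A) where
  Y : A
  u : X ⟶ Y
  mono : Mono u
  zero : (T.F n₁).map u = 0

variable {T n₁}

instance {X : A} (e : Eff T n₁ X) : Mono e.u := e.mono

lemma ses_shortExact' {X : A} (e : Eff T n₁ X) : (ses e.u).ShortExact := ses_shortExact e.u

variable {n₀}

lemma epi_δ {X : A} (e : Eff T n₁ X) : Epi (T.δ (ses e.u) (ses_shortExact' e) n₀ n₁ h) :=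
  (T.exact₁ (ses e.u) (ses_shortExact' e) n₀ n₁ h).epi_f e.zero

variable {T'}

lemma phi_aux {X : A} (e : Eff T n₁ X) :
    (T.F n₀).map (ses e.u).g ≫ σ.app (ses e.u).X₃ ≫ T'.δ (ses e.u) (ses_shortExact' e) n₀ n₁ h = 0 := by
  rw [← Category.assoc, σ.naturality, Category.assoc, T'.comp_δ, comp_zero]

/-- the component of the extension of `σ` computed from an effacing monomorphism -/
noncomputable def phi {X : A} (e : Eff T n₁ X) : (T.F n₁).obj X ⟶ (T'.F n₁).obj X :=
  have := epi_δ h e
  (T.exact₃ (ses e.u) (ses_shortExact' e) n₀ n₁ h).desc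
    (σ.app (ses e.u).X₃ ≫ T'.δ (ses e.u) (ses_shortExact' e) n₀ n₁ h) (phi_aux h σ e)

lemma δ_phi {X : A} (e : Eff T n₁ X) :
    T.δ (ses e.u) (ses_shortExact' e) n₀ n₁ h ≫ phi h σ e =
      σ.app (ses e.u).X₃ ≫ T'.δ (ses e.u) (ses_shortExact' e) n₀ n₁ h := by
  have := epi_δ h e
  exact (T.exact₃ (ses e.u) (ses_shortExact' e) n₀ n₁ h).g_desc _ _

/-- compatibility of `phi` with a commutative square of effacing monomorphisms -/
lemma phi_square {X X' : A} (e : Eff T n₁ X) (e' : Eff T n₁ X') (a : X ⟶ X') (b : e.Y ⟶ e'.Y)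
    (w : e.u ≫ b = a ≫ e'.u) :
    (T.F n₁).map a ≫ phi h σ e' = phi h σ e ≫ (T'.F n₁).map a := by
  have := epi_δ h e
  refine (cancel_epi (T.δ (ses e.u) (ses_shortExact' e) n₀ n₁ h)).1 ?_
  have n1 := T.δ_natural (ses_shortExact' e) (ses_shortExact' e') (sesMap e.u e'.u a b w) n₀ n₁ h
  have n2 := T'.δ_natural (ses_shortExact' e) (ses_shortExact' e') (sesMap e.u e'.u a b w) n₀ n₁ h
  have t1 : (sesMap e.u e'.u a b w).τ₁ = a := rfl
  rw [t1] at n1 n2
  rw [← Category.assoc, ← n1, Category.assoc, δ_phi, ← Category.assoc, σ.naturality,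
    Category.assoc, n2, ← Category.assoc, ← δ_phi, Category.assoc]

/-- the sum of two effacing monomorphisms along a morphism -/
noncomputable def effSum {X X' : A} (e : Eff T n₁ X) (e' : Eff T n₁ X') (f : X ⟶ X') :
    Eff T n₁ X where
  Y := e.Y ⊞ e'.Y
  u := biprod.lift e.u (f ≫ e'.u)
  mono := mono_of_mono_fac (biprod.lift_fst e.u (f ≫ e'.u))
  zero := by
    rw [biprod.lift_eq, Functor.map_add, Functor.map_comp, Functor.map_comp, Functor.map_comp,
      e.zero, e'.zero, zero_comp, comp_zero, zero_comp, add_zero]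

/-- naturality of `phi` with respect to arbitrary morphisms -/
lemma phi_natural {X X' : A} (e : Eff T n₁ X) (e' : Eff T n₁ X') (f : X ⟶ X') :
    (T.F n₁).map f ≫ phi h σ e' = phi h σ e ≫ (T'.F n₁).map f := by
  have s1 := phi_square h σ (effSum e e' f) e (𝟙 X) biprod.fst (by simp [effSum])
  have s2 := phi_square h σ (effSum e e' f) e' f biprod.snd (by simp [effSum])
  rw [CategoryTheory.Functor.map_id, CategoryTheory.Functor.map_id, Category.id_comp,
    Category.comp_id] at s1
  rw [s1, s2]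

end Step

section Ext

variable {T T' : CohDeltaFunctor A B ℕ} {n₀ n₁ : ℕ} (h : n₀ + 1 = n₁)
  (hE : ∀ X : A, Nonempty (Eff T n₁ X)) (σ : T.F n₀ ⟶ T'.F n₀)

/-- a chosen effacing monomorphism -/
noncomputable def chosen (X : A) : Eff T n₁ X := Classical.choice (hE X)

/-- the extension of `σ` to the next degree -/
noncomputable def next : T.F n₁ ⟶ T'.F n₁ where
  app X := phi h σ (chosen hE X)
  naturality X X' f := phi_natural h σ (chosen hE X) (chosen hE X') f

lemma next_app_eq (X : A) (e : Eff T n₁ X) : (next h hE σ).app X = phi h σ e := by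
  have := phi_natural h σ e (chosen hE X) (𝟙 X)
  rw [CategoryTheory.Functor.map_id, CategoryTheory.Functor.map_id, Category.id_comp,
    Category.comp_id] at this
  exact this

lemma next_comm (S : ShortComplex A) (hS : S.ShortExact) :
    T.δ S hS n₀ n₁ h ≫ (next h hE σ).app S.X₁ = σ.app S.X₃ ≫ T'.δ S hS n₀ n₁ h := by
  have : Mono S.f := hS.mono_f
  have : Epi S.g := hS.epi_g
  let e₂ := chosen hE S.X₂
  let ew : Eff T n₁ S.X₁ :=
    { Y := e₂.Y
      u := S.f ≫ e₂.u
      mono := mono_comp _ _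
      zero := by rw [CategoryTheory.Functor.map_comp, e₂.zero, comp_zero] }
  let τ₃ : S.X₃ ⟶ cokernel ew.u := hS.exact.desc (e₂.u ≫ cokernel.π ew.u) (by
    rw [← Category.assoc]
    exact cokernel.condition ew.u)
  let Ψ : S ⟶ ses ew.u :=
    { τ₁ := 𝟙 _
      τ₂ := e₂.u
      τ₃ := τ₃
      comm₁₂ := by simp [ew]
      comm₂₃ := (hS.exact.g_desc _ _).symm }
  have n1 := T.δ_natural hS (ses_shortExact' ew) Ψ n₀ n₁ h
  have n2 := T'.δ_natural hS (ses_shortExact' ew) Ψ n₀ n₁ h
  have t1 : Ψ.τ₁ = 𝟙 _ := rfl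
  rw [t1, CategoryTheory.Functor.map_id, Category.comp_id] at n1 n2
  rw [next_app_eq h hE σ _ ew, ← n1, Category.assoc, δ_phi, ← Category.assoc, σ.naturality,
    Category.assoc, n2]

include h hE in
lemma app_unique (τ τ' : T ⟶ T') (h0 : τ.app n₀ = τ'.app n₀) : τ.app n₁ = τ'.app n₁ := by
  ext X
  let e := chosen hE X
  have := epi_δ h e
  refine (cancel_epi (T.δ (ses e.u) (ses_shortExact' e) n₀ n₁ h)).1 ?_
  have c1 := τ.comm (ses e.u) (ses_shortExact' e) n₀ n₁ h
  have c2 := τ'.comm (ses e.u) (ses_shortExact' e) n₀ n₁ h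
  rw [h0] at c1
  exact c1.trans c2.symm

end Ext

section Assembly

variable {T T' : CohDeltaFunctor A B ℕ} (hE : ∀ (n : ℕ) (X : A), Nonempty (Eff T (n + 1) X))
  (t : T.F 0 ⟶ T'.F 0)

/-- the extension of `t` to all degrees -/
noncomputable def seq : (n : ℕ) → (T.F n ⟶ T'.F n)
  | 0 => t
  | n + 1 => next (n₀ := n) (n₁ := n + 1) rfl (hE n) (seq n)

lemma seq_succ (n : ℕ) : seq hE t (n + 1) = next (n₀ := n) (n₁ := n + 1) rfl (hE n) (seq hE t n) :=
  rfl

/-- the morphism of delta-functors extending `t` -/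
noncomputable def extHom : T ⟶ T' where
  app := seq hE t
  comm S hS n₀ n₁ h := by
    subst h
    exact next_comm (n₀ := n₀) rfl (hE n₀) (seq hE t n₀) S hS

end Assembly

/-- An effaceable cohomological delta-functor (for every degree `n + 1 ≥ 1` and every object `X` there
is a monomorphism out of `X` killed by the functor in that degree) is universal. Delta-functors here
are indexed by `ℕ` and are not required to be left exact in degree `0`; universality is tested
against all such delta-functors. -/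
theorem result {A : Type u} [Category.{v} A] [Abelian A] {B : Type u'} [Category.{v'} B] [Abelian B] (T : DeltaF.CohDeltaFunctor A B ℕ) (hT : T.IsEffaceable) : T.IsUniversal := by
  intro T' t
  have hE : ∀ (n : ℕ) (X : A), Nonempty (Eff T (n + 1) X) := fun n X => by
    obtain ⟨Y, u, hu, h0⟩ := hT n X
    exact ⟨⟨Y, u, hu, h0⟩⟩
  refine ⟨extHom hE t, rfl, ?_⟩
  intro τ' hτ'
  apply CohDeltaFunctor.hom_ext
  intro n
  induction n with
  | zero => exact hτ'
  | succ n ih => exact app_unique (n₀ := n) (n₁ := n + 1) rfl (hE n) τ' (extHom hE t) ih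

end Groth.Agent.S6773
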