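import Groth.Statements.S0100
import Mathlib

set_option autoImplicit false
open CategoryTheory CategoryTheory.Limits AlgebraicGeometry Opposite
universe u
open EtBase

namespace Groth.Agent.S0100

section Helpers

open GrothendieckTopology

/-- equivalence of categories of elements induced by an isomorphism of functors -/
noncomputable def elementsEquiv {C : Type*} [Category C] {F₁ F₂ : C ⥤ Type u} (α : F₁ ≅ F₂) :
    F₁.Elements ≌ F₂.Elements :=
  (CategoryOfElements.structuredArrowEquivalence F₁).trans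
    ((StructuredArrow.mapNatIso α).trans (CategoryOfElements.structuredArrowEquivalence F₂).symm)

lemma initiallySmall_of_iso {C : Type*} [Category C] {F₁ F₂ : C ⥤ Type u} (α : F₁ ≅ F₂)
    [InitiallySmall.{u} F₁.Elements] : InitiallySmall.{u} F₂.Elements :=
  initiallySmall_of_initial_of_initiallySmall (elementsEquiv α).functor

/-- iso of sheaf fibers from an iso of fiber functors -/
noncomputable def sheafFiberIso {C : Type*} [Category C] {J : GrothendieckTopology C}
    {A : Type*} [Category A] [HasColimitsOfSize.{u, u} A]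
    (Φ₁ Φ₂ : Point.{u} J) (α : Φ₁.fiber ≅ Φ₂.fiber) :
    Φ₁.sheafFiber (A := A) ≅ Φ₂.sheafFiber where
  hom := Point.Hom.sheafFiber (⟨α.hom⟩ : Φ₂ ⟶ Φ₁)
  inv := Point.Hom.sheafFiber (⟨α.inv⟩ : Φ₁ ⟶ Φ₂)
  hom_inv_id := by
    rw [← Point.Hom.sheafFiber_comp]
    have : ((⟨α.inv⟩ : Φ₁ ⟶ Φ₂) ≫ (⟨α.hom⟩ : Φ₂ ⟶ Φ₁)) = 𝟙 Φ₁ := by
      ext : 1
      simp
    rw [this, Point.Hom.sheafFiber_id]
  inv_hom_id := by
    rw [← Point.Hom.sheafFiber_comp]
    have : ((⟨α.hom⟩ : Φ₂ ⟶ Φ₁) ≫ (⟨α.inv⟩ : Φ₁ ⟶ Φ₂)) = 𝟙 Φ₂ := by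
      ext : 1
      simp
    rw [this, Point.Hom.sheafFiber_id]

variable {X Y : Scheme.{u}} (f : X ⟶ Y) {Ω : Type u} [Field Ω] [IsSepClosed Ω]
  (ξ : Spec (CommRingCat.of Ω) ⟶ X)

lemma bc_map_left_fst {X Y : Scheme.{u}} (f : X ⟶ Y) {U V : Y.Etale} (g : V ⟶ U) :
    ((EtCoh.bc f).map g).left ≫ pullback.fst U.hom f = pullback.fst V.hom f ≫ g.left := by
  dsimp [EtCoh.bc]
  exact pullback.lift_fst _ _ _

lemma bc_map_left_snd {X Y : Scheme.{u}} (f : X ⟶ Y) {U V : Y.Etale} (g : V ⟶ U) :
    ((EtCoh.bc f).map g).left ≫ pullback.snd U.hom f = pullback.snd V.hom f := by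
  dsimp [EtCoh.bc]
  exact pullback.lift_snd _ _ _

/-- points of `V` over `ξ ≫ f` are points of `V ×_Y X` over `ξ` -/
noncomputable def fiberEquiv (V : Y.Etale) :
    (Over.mk (ξ ≫ f) ⟶ (Scheme.Etale.forget Y).obj V) ≃
      (Over.mk ξ ⟶ (Scheme.Etale.forget X).obj ((EtCoh.bc f).obj V)) where
  toFun x := Over.homMk (pullback.lift x.left ξ (Over.w x) :
      Spec (CommRingCat.of Ω) ⟶ pullback V.hom f) (pullback.lift_snd _ _ _)
  invFun y := Over.homMk ((y.left : Spec (CommRingCat.of Ω) ⟶ pullback V.hom f) ≫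
      pullback.fst V.hom f) (by
        have h := Over.w y
        change (y.left : Spec (CommRingCat.of Ω) ⟶ pullback V.hom f) ≫ pullback.snd V.hom f = ξ at h
        change ((y.left : Spec (CommRingCat.of Ω) ⟶ pullback V.hom f) ≫ pullback.fst V.hom f) ≫ V.hom = ξ ≫ f
        exact (Category.assoc _ _ _).trans
          ((congrArg (fun t => (y.left : Spec (CommRingCat.of Ω) ⟶ pullback V.hom f) ≫ t)
            (pullback.condition (f := V.hom) (g := f))).trans
          ((Category.assoc _ _ _).symm.trans (congrArg (fun t => t ≫ f) h))))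
  left_inv x := by
    ext
    exact pullback.lift_fst _ _ _
  right_inv y := by
    ext
    have h := Over.w y
    change (y.left : Spec (CommRingCat.of Ω) ⟶ pullback V.hom f) ≫ pullback.snd V.hom f = ξ at h
    apply pullback.hom_ext
    · exact pullback.lift_fst _ _ _
    · exact (pullback.lift_snd _ _ _).trans h.symm

lemma fiberEquiv_naturality {V W : Y.Etale} (g : V ⟶ W)
    (x : Over.mk (ξ ≫ f) ⟶ (Scheme.Etale.forget Y).obj V) :
    fiberEquiv f ξ W (x ≫ (Scheme.Etale.forget Y).map g) =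
      fiberEquiv f ξ V x ≫ (Scheme.Etale.forget X).map ((EtCoh.bc f).map g) := by
  ext
  change pullback.lift (x.left ≫ g.left) ξ _ =
    pullback.lift x.left ξ _ ≫ ((EtCoh.bc f).map g).left
  apply pullback.hom_ext
  · refine (pullback.lift_fst _ _ _).trans ?_
    refine Eq.trans ?_ (Category.assoc _ _ _).symm
    refine Eq.trans ?_ (congrArg (fun t => pullback.lift x.left ξ (Over.w x) ≫ t)
      (bc_map_left_fst f g).symm)
    exact ((Category.assoc _ _ _).symm.trans
      (congrArg (fun t => t ≫ g.left) (pullback.lift_fst _ _ _))).symm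
  · refine (pullback.lift_snd _ _ _).trans ?_
    refine Eq.trans ?_ (Category.assoc _ _ _).symm
    refine Eq.trans ?_ (congrArg (fun t => pullback.lift x.left ξ (Over.w x) ≫ t)
      (bc_map_left_snd f g).symm)
    exact (pullback.lift_snd _ _ _).symm

/-- the fiber functor of the image point is the fiber functor composed with base change -/
noncomputable def fiberIso :
    (Scheme.pointSmallEtale (ξ ≫ f)).fiber ≅ EtCoh.bc f ⋙ (Scheme.pointSmallEtale ξ).fiber :=
  NatIso.ofComponents (fun V => (fiberEquiv f ξ V).toIso)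
    (by
      intro V W g
      ext x
      exact fiberEquiv_naturality f ξ g x)

end Helpers


/-- Let f : X ⟶ Y be a morphism of schemes, G an abelian sheaf on the small étale site of Y and ξ : Spec
Ω ⟶ X a geometric point of X (Ω a separably closed field). Then the stalk of the inverse image f⁻¹G
at ξ is isomorphic to the stalk of G at the image geometric point ξ ≫ f of Y. Only the existence of
an isomorphism is asserted; the published identification is canonical. -/
theorem result {X Y : Scheme.{u}} (f : X ⟶ Y) [EtCoh.BCCont f] (G : EtCoh.Ab Y)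
    {Ω : Type u} [Field Ω] [IsSepClosed Ω] (ξ : Spec (CommRingCat.of Ω) ⟶ X) :
    Nonempty ((EtCoh.stalk ξ).obj ((EtCoh.pull f).obj G) ≅ (EtCoh.stalk (ξ ≫ f)).obj G) := by
  have hF := EtCoh.coverPreserving_bc f
  have hsm : InitiallySmall.{u} (EtCoh.bc f ⋙ (Scheme.pointSmallEtale ξ).fiber).Elements := by
    have := (Scheme.pointSmallEtale (ξ ≫ f)).initiallySmall
    exact initiallySmall_of_iso (fiberIso f ξ)
  let e1 : ((Scheme.pointSmallEtale ξ).comap (EtCoh.bc f) hF).sheafFiber ≅
      EtCoh.pull f ⋙ (Scheme.pointSmallEtale ξ).sheafFiber :=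
    (Scheme.pointSmallEtale ξ).sheafFiberComapIso (EtCoh.bc f) hF AddCommGrpCat.{u + 1}
  let e2 : (Scheme.pointSmallEtale (ξ ≫ f)).sheafFiber (A := AddCommGrpCat.{u + 1}) ≅
      ((Scheme.pointSmallEtale ξ).comap (EtCoh.bc f) hF).sheafFiber :=
    sheafFiberIso _ _ (fiberIso f ξ)
  exact ⟨(e1.symm ≪≫ e2.symm).app G⟩

end Groth.Agent.S0100
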