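import Groth.Statements.S6504
import Groth.Agent.Lib.Helper15.HyperYon2

set_option autoImplicit false
universe u
open CategoryTheory
open Hyper

namespace Groth.Agent.S6504

open Opposite CategoryTheory.Limits in
/-- Read on the localized site C/X (so that the represented presheaf h_X is the final object and fibre
products over h_X are products): let C be a small site with fibre products and K a hypercovering of
an object X. Then the associated simplicial presheaf F(K) on C/X satisfies: F(K_0) → * is locally
surjective, F(K_1) → F(K_0) × F(K_0) (the two face maps) is locally surjective, and for every n ≥ 1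
the map F(K_{n+1}) → F((cosk_n sk_n K)_{n+1}) is locally surjective; that is, K is a hypercovering
of the final object of the topos of C/X in Verdier's sense. -/
theorem result {C : Type u} [SmallCategory C] [HasPullbacks C]
    (J : GrothendieckTopology C) (X : C) (K : SimplicialObject (FormalCoproduct.{u} (Over X)))
    [∀ (n : ℕ) (F : (SimplexCategory.Truncated n)ᵒᵖ ⥤ FormalCoproduct.{u} (Over X)),
      (SimplexCategory.Truncated.inclusion n).op.HasRightKanExtension F]
    (hK : Hyper.IsHypercovering J X K) : Hyper.IsHypercoveringSite (J.over X) K := by
  refine ⟨?_, ?_, fun n _ => ?_⟩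
  · exact Groth.Agent.Lib.Helper15.HyperYon2.locSurj_terminal_of_cov0 _ K
      (Groth.Agent.Lib.Helper15.HyperOver.cov0_over J X K hK.1)
  · exact Groth.Agent.Lib.Helper15.HyperYon2.locSurj_prod_of_cov1 _ K
      (Groth.Agent.Lib.Helper15.HyperOver.cov1_over J X K (hK.2 0))
  · exact Groth.Agent.Lib.Helper15.HyperYon2.locSurj_of_liftCov _ _
      (Groth.Agent.Lib.Helper15.HyperOver.liftCov_of_isSRCovering _ (hK.2 n))

end Groth.Agent.S6504
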