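import Groth.Statements.S0895
import Groth.Agent.Lib.Helper15.HyperCechInj
import Groth.Agent.Lib.Helper15.OverForgetInj
import Groth.Agent.S6504

set_option autoImplicit false
universe u
open CategoryTheory
open Hyper

namespace Groth.Agent.S0895

open Opposite CategoryTheory.Limits in
/-- Let C be a site with fibre products, X an object of C, K a hypercovering of X and I an injective
abelian sheaf. Then the Čech cohomology groups of I with respect to K vanish in all positive
degrees. (Degree zero is stated separately; the existence of the right Kan extensions used to form
coskeleta is assumed as an instance binder.) -/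
theorem result {C : Type u} [SmallCategory C] [HasPullbacks C]
    (J : GrothendieckTopology C) (X : C) (K : SimplicialObject (FormalCoproduct.{u} (Over X)))
    [∀ (n : ℕ) (F : (SimplexCategory.Truncated n)ᵒᵖ ⥤ Limits.FormalCoproduct.{u} (Over X)),
      (SimplexCategory.Truncated.inclusion n).op.HasRightKanExtension F]
    (hK : Hyper.IsHypercovering J X K) (I : Sheaf J AddCommGrpCat.{u}) [Injective I] :
    ∀ p : ℕ, IsZero (Hyper.cechH X K I.obj (p + 1)) := by
  intro p
  have hS := Groth.Agent.S6504.result J X K hK
  have hLK := Groth.Agent.Lib.Helper15.HyperLocalKan.localKan (J.over X) hS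
  have hI : Injective ((J.overPullback AddCommGrpCat.{u} X).obj I) :=
    Groth.Agent.Lib.Helper15.OverForgetInj.injective_overPullback J X I
  exact Groth.Agent.Lib.Helper15.HyperCechInj.isZero_cech_homology_succ
    ((J.overPullback AddCommGrpCat.{u} X).obj I) K p (by
      rw [HomologicalComplex.exactAt_iff_isZero_homology]
      exact Groth.Agent.Lib.Helper15.HyperCone.isZero_homology_succ hLK p)

end Groth.Agent.S0895
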