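import Groth.Statements.S3287
-- import your own Groth.Agent.* helpers here

set_option autoImplicit false
universe u
open Finset
open LambdaRing

namespace Groth.Agent.S3287

/-- For a line element u (positive of augmentation one) of a λ-ring with positive structure, ψ^j(u) =
u^j for every j. -/
theorem result (K : Type u) [CommRing K] [LambdaRing.LambdaOps K] (P : LambdaRing.PosStructure K) (u : K) (hu : P.IsLine u) (j : ℕ) :
    LambdaRing.adams P j u = u ^ j := by
  classical
  obtain ⟨hpos, haug⟩ := hu
  -- the λ-series of a line element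
  have hlam : ∀ i : ℕ, 2 ≤ i → LambdaRing.LambdaOps.lam i u = 0 := by
    intro i hi
    apply P.lam_eq_zero u hpos i
    rw [haug]
    exact_mod_cast hi
  have hf : PowerSeries.rescale (-1 : K) (LambdaRing.lamSeries u) = 1 - PowerSeries.C u * PowerSeries.X := by
    ext n
    rw [PowerSeries.coeff_rescale, LambdaRing.lamSeries, PowerSeries.coeff_mk, map_sub,
      PowerSeries.coeff_one]
    rcases n with _ | _ | n
    · simp [LambdaRing.LambdaOps.lam_zero]
    · simp [LambdaRing.LambdaOps.lam_one]
    · rw [hlam (n + 2) (by omega)]
      simp [PowerSeries.coeff_C_mul, PowerSeries.coeff_X]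
  have hinv : (1 - PowerSeries.C u * PowerSeries.X) * (PowerSeries.mk fun n => u ^ n) = 1 := by
    ext n
    rw [sub_mul, one_mul, map_sub, mul_assoc, PowerSeries.coeff_C_mul, PowerSeries.coeff_mk,
      PowerSeries.coeff_one]
    rcases n with _ | n
    · simp
    · rw [PowerSeries.coeff_succ_X_mul, PowerSeries.coeff_mk]
      simp [pow_succ, mul_comm]
  have hinv2 : (1 - PowerSeries.C u * PowerSeries.X) *
      (1 - PowerSeries.C u * PowerSeries.X : PowerSeries K).invOfUnit 1 = 1 := by
    apply PowerSeries.mul_invOfUnit
    simp
  have hio : (1 - PowerSeries.C u * PowerSeries.X : PowerSeries K).invOfUnit 1 =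
      PowerSeries.mk fun n => u ^ n := by
    calc (1 - PowerSeries.C u * PowerSeries.X : PowerSeries K).invOfUnit 1
        = ((1 - PowerSeries.C u * PowerSeries.X) * (PowerSeries.mk fun n => u ^ n)) *
            (1 - PowerSeries.C u * PowerSeries.X : PowerSeries K).invOfUnit 1 := by
          rw [hinv, one_mul]
      _ = ((1 - PowerSeries.C u * PowerSeries.X) *
            (1 - PowerSeries.C u * PowerSeries.X : PowerSeries K).invOfUnit 1) *
              (PowerSeries.mk fun n => u ^ n) := by ring
      _ = PowerSeries.mk fun n => u ^ n := by rw [hinv2, one_mul]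
  have hder : PowerSeries.derivative K (1 - PowerSeries.C u * PowerSeries.X) = - PowerSeries.C u := by
    rw [map_sub, PowerSeries.derivative_one, zero_sub, Derivation.leibniz]
    simp
  unfold LambdaRing.adams LambdaRing.adamsSeries
  rw [hf, hio, hder, haug]
  rcases j with _ | j
  · simp
  · rw [map_sub, mul_assoc, PowerSeries.coeff_succ_X_mul, neg_mul, map_neg, PowerSeries.coeff_C_mul,
      PowerSeries.coeff_mk]
    simp [pow_succ, mul_comm, PowerSeries.coeff_C]

end Groth.Agent.S3287
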