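import Groth.Statements.S3792
import Groth.Agent.Lib.Helper16.LambdaGamma
import Groth.Agent.Lib.Helper16.LambdaSplit
import Groth.Agent.Lib.Helper16.LambdaAdams
import Mathlib.Tactic

set_option autoImplicit false
universe v u
open CategoryTheory CategoryTheory.Limits AlgebraicGeometry
attribute [local instance] HasDerivedCategory.standard
open KRR

namespace Groth.Agent.S3792

section Aux

variable {L : Type v} [CommRing L] [LambdaRing.LambdaOps L]

open Groth.Agent.Lib.Helper16 LambdaRing

omit [LambdaRing.LambdaOps L] in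
theorem multiset_esymm_succ_cons (k : ℕ) (a : L) (s : Multiset L) :
    (a ::ₘ s).esymm (k + 1) = s.esymm (k + 1) + a * s.esymm k := by
  simp only [Multiset.esymm, Multiset.powersetCard_cons, Multiset.map_add, Multiset.sum_add,
    Multiset.map_map, Function.comp_def, Multiset.prod_cons]
  rw [Multiset.sum_map_mul_left]

/-- λ-operations of a sum of line elements are elementary symmetric functions. -/
theorem lam_sum_lines (P : PosStructure L) (s : Multiset L) (hs : ∀ u ∈ s, P.IsLine u) (k : ℕ) :
    LambdaOps.lam k s.sum = s.esymm k := by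
  induction s using Multiset.induction_on generalizing k with
  | empty =>
    have h := congrArg (PowerSeries.coeff k) (lamSeries_zero (K := L))
    rw [lamSeries, PowerSeries.coeff_mk, PowerSeries.coeff_one] at h
    rw [Multiset.sum_zero, h]
    rcases k with _ | k
    · simp [Multiset.esymm]
    · simp [Multiset.esymm, Multiset.powersetCard_zero_right]
  | cons u t ih =>
    have hu : P.IsLine u := hs u (Multiset.mem_cons_self u t)
    have ht : ∀ v ∈ t, P.IsLine v := fun v hv => hs v (Multiset.mem_cons_of_mem hv)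
    have h := congrArg (PowerSeries.coeff k) (lamSeries_add u t.sum)
    rw [lamSeries_line P hu, add_mul, one_mul, map_add] at h
    rw [Multiset.sum_cons]
    rcases k with _ | k
    · simp [LambdaOps.lam_zero, Multiset.esymm]
    · rw [mul_assoc, PowerSeries.coeff_C_mul, PowerSeries.coeff_succ_X_mul] at h
      simp only [lamSeries, PowerSeries.coeff_mk] at h
      rw [h, ih ht, ih ht, multiset_esymm_succ_cons]

/-- the λ-series of a finite sum of line elements -/
theorem lamSeries_sum_lines (P : PosStructure L) {ι : Type*} (t : Finset ι) (U : ι → L)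
    (hU : ∀ i, P.IsLine (U i)) :
    lamSeries (∑ i ∈ t, U i) = ∏ i ∈ t, (1 + PowerSeries.C (U i) * PowerSeries.X) := by
  classical
  induction t using Finset.induction_on with
  | empty => simp [lamSeries_zero]
  | insert a t ha ih =>
    rw [Finset.sum_insert ha, Finset.prod_insert ha, lamSeries_add, ih, lamSeries_line P (hU a)]

/-- Adams operations on products of `1 - u`. -/
theorem adams_mul_prod_one_sub (P : PosStructure L) (j : ℕ) {ι : Type*} (t : Finset ι)
    (U : ι → L) (hU : ∀ i, P.IsLine (U i)) (w : L) (hw : P.IsLine w) :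
    adams P j (w * ∏ i ∈ t, (1 - U i)) = w ^ j * ∏ i ∈ t, (1 - U i ^ j) := by
  classical
  induction t using Finset.induction_on generalizing w with
  | empty => simp [adams_line P hw]
  | insert a t ha ih =>
    rw [Finset.prod_insert ha, Finset.prod_insert ha]
    have h1 : w * ((1 - U a) * ∏ i ∈ t, (1 - U i)) =
        w * ∏ i ∈ t, (1 - U i) - (w * U a) * ∏ i ∈ t, (1 - U i) := by ring
    rw [h1, adams_sub, ih w hw, ih (w * U a) (isLine_mul P hw (hU a))]
    ring

/-- the alternating sum of λ-operations of a sum of line elements -/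
theorem lamAlt_sum_lines (P : PosStructure L) {m : ℕ} (U : Fin m → L)
    (hU : ∀ i, P.IsLine (U i)) (hpos : ∑ i, U i ∈ P.pos) :
    ∑ i ∈ Finset.range (m + 1), (-1 : L) ^ i * LambdaOps.lam i (∑ i, U i) = ∏ i, (1 - U i) := by
  have haug : P.aug (∑ i, U i) = m := by
    rw [map_sum]
    simp [fun i => (hU i).2]
  have hvan : ∀ i, m < i → LambdaOps.lam i (∑ i, U i) = 0 := by
    intro i hi
    apply P.lam_eq_zero _ hpos
    rw [haug]
    exact_mod_cast hi
  have hpoly : lamPoly (∑ i, U i) m = ∏ i, (1 + Polynomial.C (U i) * Polynomial.X) := by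
    apply Polynomial.coe_injective
    rw [lamPoly_coe _ m hvan, lamSeries_sum_lines P Finset.univ U hU,
      ← Polynomial.coeToPowerSeries.ringHom_apply, map_prod]
    simp
  have heval := congrArg (Polynomial.eval (-1 : L)) hpoly
  rw [lamPoly, Polynomial.eval_finsetSum, Polynomial.eval_prod] at heval
  simp only [Polynomial.eval_mul, Polynomial.eval_C, Polynomial.eval_pow, Polynomial.eval_X,
    Polynomial.eval_add, Polynomial.eval_one] at heval
  rw [← Finset.prod_congr rfl (fun i _ => show (1 : L) + U i * -1 = 1 - U i by ring), ← heval]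
  exact Finset.sum_congr rfl fun i _ => mul_comm _ _

end Aux

open Groth.Agent.Lib.Helper16 LambdaRing in
/-- The identity after splitting. -/
theorem key {K : Type v} [CommRing K] [LambdaOps K] (P : PosStructure K) (e : K)
    (he : e ∈ P.pos) (j : ℕ) {L : Type v} [CommRing L] [LambdaOps L] (P' : PosStructure L)
    (g : K →+* L) (hg : IsExtension P P' g) (m : ℕ) (U : Fin m → L) (hU : ∀ i, P'.IsLine (U i))
    (hsum : ∑ i, U i = g e) :
    g (adams P j (KRR.lamAlt P e)) = g (KRR.lamAlt P e * KRR.bott P j e) := by
  have hpos : ∑ i, U i ∈ P'.pos := by rw [hsum]; exact hg.pos_subset e he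
  have haug : P.aug e = m := by
    rw [← hg.aug_comp, ← hsum, map_sum]
    simp [fun i => (hU i).2]
  obtain rfl : m = (P.aug e).toNat := by rw [haug]; simp
  -- λ_{-1}
  have hlamAlt : g (KRR.lamAlt P e) = ∏ i, (1 - U i) := by
    rw [KRR.lamAlt, map_sum, ← lamAlt_sum_lines P' U hU hpos]
    refine Finset.sum_congr rfl fun i _ => ?_
    rw [map_mul, map_pow, map_neg, map_one, hg.isLambdaHom, hsum]
  -- bott
  have hbott : g (KRR.bott P j e) = ∏ i, ∑ k ∈ Finset.range j, U i ^ k := by
    rw [KRR.bott]
    have h1 := MvPolynomial.comp_aeval_apply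
      (f := fun i : Fin (P.aug e).toNat => LambdaOps.lam (i.1 + 1) e) g.toIntAlgHom
      (KRR.bottPoly j (P.aug e).toNat)
    rw [RingHom.toIntAlgHom_apply] at h1
    rw [h1]
    have h2 : (fun i : Fin (P.aug e).toNat => g.toIntAlgHom (LambdaOps.lam (i.1 + 1) e)) =
        fun i => MvPolynomial.aeval U
          (MvPolynomial.esymm (Fin (P.aug e).toNat) ℤ (i.1 + 1)) := by
      funext i
      rw [RingHom.toIntAlgHom_apply, hg.isLambdaHom, ← hsum,
        MvPolynomial.aeval_esymm_eq_multiset_esymm]
      have : ∑ i, U i = (Finset.univ.val.map U).sum := rfl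
      rw [this]
      apply lam_sum_lines P'
      intro u hu
      obtain ⟨i, -, rfl⟩ := Multiset.mem_map.mp hu
      exact hU i
    rw [h2]
    have h4 := MvPolynomial.comp_aeval_apply
      (f := fun i : Fin (P.aug e).toNat => MvPolynomial.esymm (Fin (P.aug e).toNat) ℤ (i.1 + 1))
      (MvPolynomial.aeval U : MvPolynomial (Fin (P.aug e).toNat) ℤ →ₐ[ℤ] L)
      (KRR.bottPoly j (P.aug e).toNat)
    rw [← h4]
    have h3 : MvPolynomial.aeval
        (fun i : Fin (P.aug e).toNat => MvPolynomial.esymm (Fin (P.aug e).toNat) ℤ (i.1 + 1))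
        (KRR.bottPoly j (P.aug e).toNat) = KRR.bottSym j (P.aug e).toNat := by
      rw [← MvPolynomial.esymmAlgHom_apply, KRR.bottPoly]
      have := (MvPolynomial.esymmAlgEquiv (Fin (P.aug e).toNat) ℤ
        (Fintype.card_fin (P.aug e).toNat)).apply_symm_apply
          ⟨KRR.bottSym j (P.aug e).toNat, KRR.bottSym_isSymmetric j (P.aug e).toNat⟩
      exact congrArg Subtype.val this
    rw [h3, KRR.bottSym, map_prod]
    simp
  -- adams
  have hadams : g (adams P j (KRR.lamAlt P e)) = ∏ i, (1 - U i ^ j) := by
    rw [← adams_map hg, hlamAlt]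
    have := adams_mul_prod_one_sub P' j Finset.univ U hU 1 (isLine_one P')
    rw [one_mul, one_pow, one_mul] at this
    exact this
  rw [hadams, map_mul, hlamAlt, hbott, ← Finset.prod_mul_distrib]
  refine Finset.prod_congr rfl fun i _ => ?_
  rw [mul_neg_geom_sum]

/-- Let K be a λ-ring with positive structure having the splitting property, e a positive element and j
≥ 1. Then ψ^j(λ_{-1}(e)) = λ_{-1}(e) · θ^j(e), where λ_{-1}(e) = Σ_{i ≤ ε(e)} (-1)^i λ^i(e), ψ^j is
the Adams operation and θ^j(e) is Bott's cannibalistic class (the universal polynomial in the λ^i(e)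
which is Π (1 + u_i + ⋯ + u_i^{j-1}) on a splitting e = Σ u_i). -/
theorem result (K : Type v) [CommRing K] [LambdaRing.LambdaOps K] (P : LambdaRing.PosStructure K) (hK : LambdaRing.HasSplitting K P) (e : K) (he : e ∈ P.pos) (j : ℕ) (hj : 1 ≤ j) :
    LambdaRing.adams P j (KRR.lamAlt P e) = KRR.lamAlt P e * KRR.bott P j e := by
  obtain ⟨L, g, hg, s, hs, hsum⟩ := Groth.Agent.Lib.Helper16.split_one hK e he
  apply hg.injective
  induction s using Quot.inductionOn with
  | h l =>
    have hl : ∀ i : Fin l.length, L.posStr.IsLine (l.get i) := fun i =>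
      hs _ (Multiset.mem_coe.mpr (List.get_mem l i))
    have hsum' : ∑ i, l.get i = g e := by
      rw [← hsum]
      have : (∑ i, l.get i) = (Finset.univ.val.map l.get).sum := rfl
      rw [this, Fin.univ_val_map, List.ofFn_get]
      rfl
    exact key P e he j L.posStr g hg l.length l.get hl hsum'

end Groth.Agent.S3792
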