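import Groth.Statements.S3291
-- import your own Groth.Agent.* helpers here

set_option autoImplicit false
universe u
open Finset
open LambdaRing

namespace Groth.Agent.S3291

/-- The γ-filtration F^n K of a λ-ring with positive structure (F^0 = K, F^n for n ≥ 1 generated
additively by products γ^(r₁)(x₁)⋯γ^(r_k)(x_k) with ε(x_i) = 0 and Σ r_i ≥ n) consists of ideals,
and F^m · F^n ⊆ F^(m+n). -/
theorem result (K : Type u) [CommRing K] [LambdaRing.LambdaOps K] (P : LambdaRing.PosStructure K) :
    (∀ (n : ℕ) (a x : K), x ∈ LambdaRing.gammaFiltration P n → a * x ∈ LambdaRing.gammaFiltration P n) ∧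
    ∀ (m n : ℕ) (x y : K), x ∈ LambdaRing.gammaFiltration P m → y ∈ LambdaRing.gammaFiltration P n →
      x * y ∈ LambdaRing.gammaFiltration P (m + n) := by
  classical
  have gamma_one : ∀ z : K, LambdaRing.gamma 1 z = z := by
    intro z
    simp [LambdaRing.gamma, Finset.sum_range_succ, LambdaRing.LambdaOps.lam_one]
  have part1 : ∀ (n : ℕ) (a x : K), x ∈ LambdaRing.gammaFiltration P n →
      a * x ∈ LambdaRing.gammaFiltration P n := by
    intro n a x hx
    by_cases hn : n = 0
    · subst hn
      simp [LambdaRing.gammaFiltration]
    · simp only [LambdaRing.gammaFiltration, hn, if_false] at hx ⊢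
      induction hx using AddSubgroup.closure_induction with
      | mem y hy =>
        obtain ⟨l, hl, hsum, rfl⟩ := hy
        have hsplit : a * (l.map fun p => LambdaRing.gamma p.1 p.2).prod =
            (a - ((P.aug a : ℤ) : K)) * (l.map fun p => LambdaRing.gamma p.1 p.2).prod +
              (P.aug a) • (l.map fun p => LambdaRing.gamma p.1 p.2).prod := by
          rw [zsmul_eq_mul]; ring
        rw [hsplit]
        apply add_mem
        · apply AddSubgroup.subset_closure
          refine ⟨(1, a - ((P.aug a : ℤ) : K)) :: l, ?_, ?_, ?_⟩
          · intro p hp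
            rcases List.mem_cons.mp hp with rfl | hp
            · simp
            · exact hl p hp
          · simp only [List.map_cons, List.sum_cons]
            omega
          · simp [gamma_one]
        · apply zsmul_mem
          apply AddSubgroup.subset_closure
          exact ⟨l, hl, hsum, rfl⟩
      | zero => simp
      | add x y _ _ hx hy => rw [mul_add]; exact add_mem hx hy
      | neg x _ hx => rw [mul_neg]; exact neg_mem hx
  refine ⟨part1, ?_⟩
  intro m n x y hx hy
  by_cases hm : m = 0
  · subst hm
    rw [zero_add]
    exact part1 n x y hy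
  by_cases hn : n = 0
  · subst hn
    rw [add_zero, mul_comm]
    exact part1 m y x hx
  have hmn : m + n ≠ 0 := by omega
  simp only [LambdaRing.gammaFiltration, hn, hm, hmn, if_false] at hx hy ⊢
  induction hy using AddSubgroup.closure_induction with
  | mem y hy =>
    obtain ⟨l2, hl2, hs2, rfl⟩ := hy
    induction hx using AddSubgroup.closure_induction with
    | mem x hx =>
      obtain ⟨l1, hl1, hs1, rfl⟩ := hx
      apply AddSubgroup.subset_closure
      refine ⟨l1 ++ l2, ?_, ?_, ?_⟩
      · intro p hp
        rcases List.mem_append.mp hp with hp | hp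
        · exact hl1 p hp
        · exact hl2 p hp
      · simp only [List.map_append, List.sum_append]
        omega
      · simp
    | zero => simp
    | add x y _ _ h1 h2 => rw [add_mul]; exact add_mem h1 h2
    | neg x _ h => rw [neg_mul]; exact neg_mem h
  | zero => simp
  | add y z _ _ h1 h2 => rw [mul_add]; exact add_mem h1 h2
  | neg y _ h => rw [mul_neg]; exact neg_mem h

end Groth.Agent.S3291
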