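import Groth.Statements.S16455
set_option autoImplicit false
universe u
open EGA4

namespace Groth.Agent.S16455

open AssocGr DirectSum

section

variable {A : Type u} [CommRing A] {I : Ideal A} {M : Type u} [AddCommGroup M] [Module A M]
  (F : I.Filtration M)

/-- the `n`-th piece in the form of `EGA4.IsNormallyFlat`. -/
abbrev P (n : ℕ) : Type u :=
  ↥(F.N n) ⧸ (I • (⊤ : Submodule A ↥(F.N n)))

omit F in
lemma mem_smul_top_iff (N : Submodule A M) (x : ↥N) :
    x ∈ (I • (⊤ : Submodule A ↥N)) ↔ (x : M) ∈ I • N := by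
  have h : (I • (⊤ : Submodule A ↥N)).map N.subtype = I • N := by
    rw [Submodule.map_smul'', Submodule.map_subtype_top]
  rw [← h]
  constructor
  · intro hx
    exact ⟨x, hx, rfl⟩
  · rintro ⟨x', hx', e⟩
    have : x' = x := Subtype.ext e
    rwa [← this]

/-- the canonical `A`-linear map `Nₙ → gr(M)` for a general filtration. -/
noncomputable def ell (n : ℕ) : ↥(F.N n) →ₗ[A] AssocGr.GrMod F where
  toFun x := (inDegM F n x : GrMod F)
  map_add' x y := by rw [map_add]; rfl
  map_smul' a x := by rw [coe_inDegM_smul]; rfl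

lemma ell_apply (n : ℕ) (x : ↥(F.N n)) :
    ell F n x = (inDegM F n x : GrMod F) := rfl

lemma ell_eq_zero_iff' (n : ℕ) (x : ↥(F.N n)) :
    ell F n x = 0 ↔ (x : M) ∈ F.N (n + 1) := by
  rw [ell_apply, ZeroMemClass.coe_eq_zero, inDegM_eq_zero_iff]

variable (hF : ∀ n, F.N (n + 1) = I • F.N n)

include hF in
lemma ell_eq_zero_iff (n : ℕ) (x : ↥(F.N n)) :
    ell F n x = 0 ↔ x ∈ (I • (⊤ : Submodule A ↥(F.N n))) := by
  rw [mem_smul_top_iff, ell_eq_zero_iff', hF]

/-- the map on the quotient. -/
noncomputable def tA (n : ℕ) : P F n →ₗ[A] AssocGr.GrMod F :=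
  Submodule.liftQ _ (ell F n) fun x hx => LinearMap.mem_ker.mpr ((ell_eq_zero_iff F hF n x).mpr hx)

lemma tA_mk (n : ℕ) (x : ↥(F.N n)) :
    tA F hF n (Submodule.Quotient.mk x) = ell F n x := rfl

noncomputable def t (n : ℕ) : P F n →ₗ[A ⧸ I] AssocGr.GrMod F :=
  LinearMap.extendScalarsOfSurjective Ideal.Quotient.mk_surjective (tA F hF n)

lemma t_apply (n : ℕ) (z : P F n) : t F hF n z = tA F hF n z := rfl

noncomputable def Phi : (⨁ n, P F n) →ₗ[A ⧸ I] AssocGr.GrMod F :=
  DirectSum.toModule (A ⧸ I) ℕ _ (t F hF)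

lemma Phi_lof (n : ℕ) (z : P F n) :
    Phi F hF (DirectSum.lof (A ⧸ I) ℕ (fun n => P F n) n z) = tA F hF n z := by
  rw [Phi, DirectSum.toModule_lof]
  rfl

lemma Phi_surjective : Function.Surjective (Phi F hF) := by
  intro x
  obtain ⟨y, rfl⟩ := mkGM_surjective _ x
  have key : ∀ n, ∃ z, Phi F hF z = mkGM _ (termM F y n) := by
    intro n
    refine ⟨DirectSum.lof (A ⧸ I) ℕ (fun n => P F n) n
      (Submodule.Quotient.mk ⟨ReesM.coeff _ y n, ReesM.coeff_mem _ y n⟩), ?_⟩
    rw [Phi_lof, tA_mk]
    rfl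
  choose z hz using key
  refine ⟨∑ n ∈ ((toReesM F).symm y :
    PolynomialModule A M).coeff.support, z n, ?_⟩
  rw [map_sum]
  conv_rhs => rw [← sum_termM _ y, map_sum]
  exact Finset.sum_congr rfl fun n _ => hz n

lemma Phi_injective : Function.Injective (Phi F hF) := by
  rw [injective_iff_map_eq_zero]
  intro z hz
  classical
  choose x hx using fun n => Submodule.Quotient.mk_surjective _ (z n)
  have hzsum : z = ∑ n ∈ z.support, DirectSum.lof (A ⧸ I) ℕ (fun n => P F n) n (z n) :=
    (DirectSum.sum_support_of z).symm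
  rw [hzsum, map_sum] at hz
  have h1 : ∀ n, Phi F hF (DirectSum.lof (A ⧸ I) ℕ (fun n => P F n) n (z n)) =
      mkGM F (monomM F n (x n)) := by
    intro n
    rw [Phi_lof, ← hx n, tA_mk]
    rfl
  simp only [h1] at hz
  rw [← map_sum, mkGM_eq_zero_iff, mem_succMod_iff] at hz
  have h2 : ∀ m, m ∈ z.support → z m = 0 := by
    intro m hm
    have := hz m
    rw [← ReesM.coeffHom_apply, map_sum] at this
    simp only [ReesM.coeffHom_apply, ReesM.coeff_monomM] at this
    rw [Finset.sum_ite_eq' z.support m, if_pos hm] at this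
    rw [← hx m, Submodule.Quotient.mk_eq_zero, mem_smul_top_iff, ← hF]
    exact this
  ext m
  by_cases hm : m ∈ z.support
  · rw [h2 m hm]; rfl
  · rw [DFinsupp.notMem_support_iff.mp hm]; rfl

noncomputable def PhiEquiv : (⨁ n, P F n) ≃ₗ[A ⧸ I] AssocGr.GrMod F :=
  LinearEquiv.ofBijective (Phi F hF) ⟨Phi_injective F hF, Phi_surjective F hF⟩

end

lemma powFilt_succ {A : Type u} [CommRing A] (I : Ideal A) (M : Type u)
    [AddCommGroup M] [Module A M] (n : ℕ) :
    (Rees.powFilt I M).N (n + 1) = I • (Rees.powFilt I M).N n := by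
  change I ^ (n + 1) • (⊤ : Submodule A M) = I • (I ^ n • (⊤ : Submodule A M))
  rw [← mul_smul, ← pow_succ']

/-- For a commutative ring A, an ideal I of A and an A-module M, the following are equivalent: every
quotient IⁿM/Iⁿ⁺¹M (n ≥ 0) is a flat A/I-module; the associated graded module gr_I(M) = ⊕ₙ
IⁿM/Iⁿ⁺¹M, as one module over A/I, is flat. Either condition says that M is normally flat along I.
(The source defines normal flatness for a coherent module on a locally Noetherian scheme through the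
second condition and notes it amounts to the first; the equivalence holds for every ring and
module.) -/
theorem result (A : Type u) [CommRing A] (I : Ideal A) (M : Type u)
    [AddCommGroup M] [Module A M] :
    EGA4.IsNormallyFlat I M ↔ Module.Flat (A ⧸ I) (AssocGr.GrMod (Rees.powFilt I M)) := by
  rw [← Module.Flat.equiv_iff (PhiEquiv (Rees.powFilt I M) (powFilt_succ I M)),
    Module.Flat.directSum_iff]
  rfl

end Groth.Agent.S16455
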