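import Groth.Statements.S0010
import Groth.Agent.Lib.Helper1.AffineVanishing
import Groth.Agent.Lib.Helper1.ShCohTop
import Groth.Agent.Lib.Helper1.MVVanishing

set_option autoImplicit false
universe u
open Coherent

namespace Groth.Agent.S0010

open AlgebraicGeometry in
/-- Let X be a scheme in which the intersection of any two affine opens is affine (equivalently, X has
affine diagonal; e.g. X separated), covered by t affine opens. Then H^n(X, F) = 0 for every
quasi-coherent F and every n ≥ t. -/
theorem result (X : Scheme.{u}) (t : ℕ) (U : Fin t → X.Opens)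
    (hU : ∀ i, IsAffineOpen (U i)) (hcov : ⨆ i, U i = ⊤)
    (hd : ∀ V W : X.Opens, IsAffineOpen V → IsAffineOpen W → IsAffineOpen (V ⊓ W))
    (M : X.Modules) [Coh.IsQCoh M] (n : ℕ) (hn : t ≤ n) :
    Subsingleton (Coh.HH X M n) := by
  cases t with
  | zero =>
    have htop : (⊤ : X.Opens) = ⊥ := by rw [← hcov]; exact iSup_of_empty _
    cases n with
    | zero =>
      have e := CategoryTheory.Sheaf.H.equiv₀ (Coh.toAb M)
        (CategoryTheory.Limits.isTerminalTop (α := TopologicalSpace.Opens X))
      have hT := TopCat.Sheaf.isTerminalOfEqEmpty (X := X.toTopCat) (Coh.toAb M) htop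
      have hz : CategoryTheory.Limits.IsZero ((Coh.toAb M).obj.obj (Opposite.op ⊤)) := by
        rw [CategoryTheory.Limits.IsZero.iff_id_eq_zero]
        exact hT.hom_ext _ _
      have := AddCommGrpCat.subsingleton_of_isZero hz
      exact e.toEquiv.subsingleton
    | succ n =>
      have hemp : IsEmpty X := by
        refine ⟨fun x => ?_⟩
        have : x ∈ (⊤ : X.Opens) := trivial
        rw [htop] at this
        exact this
      have : IsAffine X := isAffine_of_isEmpty
      exact Groth.Agent.S0007.result X M (n + 1) (Nat.succ_pos n)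
  | succ t =>
    have h := Groth.Agent.Lib.Helper1.subsingleton_HU_iSup_fin (X := X.toTopCat) (Coh.toAb M)
      {V | IsAffineOpen V} (fun V hV W hW => hd V W hV hW)
      (fun V hV q => Groth.Agent.Lib.Helper1.subsingleton_HU_of_isAffineOpen M V hV q)
      t U hU n hn
    rw [hcov] at h
    exact @Equiv.subsingleton _ _
      (Groth.Agent.Lib.Helper1.HUTopEquivH (Coh.toAb M) n).symm.toEquiv h

end Groth.Agent.S0010
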