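import Groth.Statements.S0022
import Groth.Agent.S0010

set_option autoImplicit false
universe u
open Coherent

namespace Groth.Agent.S0022

open AlgebraicGeometry in
/-- For any ring R, any quasi-coherent module F on projective space ℙ^n_R and any i > n, H^i(ℙ^n_R, F) =
0. (The published statement is for coherent modules over a Noetherian ring; it is stated here for
quasi-coherent modules over any ring.) -/
theorem result (n : ℕ) (R : Type u) [CommRing R]
    (M : (CohB1.ProjSpace n R).Modules) [Coh.IsQCoh M] (i : ℕ) (hi : n < i) :
    Subsingleton (Coh.HH (CohB1.ProjSpace n R) M i) := by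
  have hsep : Scheme.IsSeparated (CohB1.ProjSpace n R) := by
    unfold CohB1.ProjSpace; infer_instance
  have hirr : (HomogeneousIdeal.irrelevant (CohB1.polyGrading n R)).toIdeal ≤
      Ideal.span (Set.range (MvPolynomial.X : Fin (n + 1) → MvPolynomial (Fin (n + 1)) R)) := by
    intro p hp
    rw [HomogeneousIdeal.mem_iff, HomogeneousIdeal.mem_irrelevant_iff] at hp
    rw [← Set.image_univ, MvPolynomial.mem_ideal_span_X_image]
    intro m hm
    by_contra h
    push Not at h
    have hm0 : m = 0 := by
      ext i
      simpa using h i (Set.mem_univ i)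
    subst hm0
    have h1 : GradedRing.proj (CohB1.polyGrading n R) 0 p =
        MvPolynomial.homogeneousComponent 0 p :=
      MvPolynomial.decomposition.decompose'_apply p 0
    rw [h1, MvPolynomial.homogeneousComponent_zero] at hp
    rw [MvPolynomial.mem_support_iff] at hm
    apply hm
    simpa using congrArg (MvPolynomial.coeff 0) hp
  exact Groth.Agent.S0010.result (CohB1.ProjSpace n R) (n + 1)
    (fun j => Proj.basicOpen (CohB1.polyGrading n R) (MvPolynomial.X j))
    (fun j => Proj.isAffineOpen_basicOpen (CohB1.polyGrading n R) (MvPolynomial.X j)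
      (m := 1) (MvPolynomial.isHomogeneous_X R j) Nat.one_pos)
    (Proj.iSup_basicOpen_eq_top (CohB1.polyGrading n R) _ hirr)
    (fun V W hV hW => hV.inf hW) M i hi

end Groth.Agent.S0022
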