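import Groth.Statements.S2357
import Mathlib

set_option autoImplicit false
universe u
open CategoryTheory CategoryTheory.Limits AlgebraicGeometry
open EGA2

namespace Groth.Agent.S2357

theorem finiteType_zero_of_isNoetherianRing {R A : Type*} [CommRing R] [CommRing A] [Algebra R A]
    (𝒜 : ℕ → Submodule R A) [GradedAlgebra 𝒜] [IsNoetherianRing A] :
    Algebra.FiniteType (𝒜 0) A := by
  classical
  have hfg : (HomogeneousIdeal.irrelevant 𝒜).toIdeal.FG := IsNoetherian.noetherian _
  rw [HomogeneousIdeal.irrelevant_eq_span] at hfg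
  obtain ⟨s, hs, hspan⟩ := (Submodule.fg_span_iff_fg_span_finset_subset _).mp hfg
  refine ⟨⟨s, ?_⟩⟩
  rw [eq_top_iff]
  have key : ∀ n, ∀ a ∈ 𝒜 n, a ∈ Algebra.adjoin (𝒜 0) (s : Set A) := by
    intro n
    induction n using Nat.strong_induction_on with
    | _ n ih =>
      intro a ha
      rcases Nat.eq_zero_or_pos n with rfl | hn
      · exact Subalgebra.algebraMap_mem _ (⟨a, ha⟩ : 𝒜 0)
      · have ha' : a ∈ Submodule.span A (s : Set A) := by
          rw [← hspan]
          exact Submodule.subset_span (Set.mem_iUnion₂.mpr ⟨n, hn, ha⟩)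
        obtain ⟨c, -, hc⟩ := Submodule.mem_span_finset.mp ha'
        have h1 : a = ∑ x ∈ s, (DirectSum.decompose 𝒜 (c x * x) n : A) := by
          conv_lhs => rw [← DirectSum.decompose_of_mem_same 𝒜 ha, ← hc]
          rw [DirectSum.decompose_sum, DFinsupp.finsetSum_apply, AddSubmonoidClass.coe_finsetSum]
          rfl
        rw [h1]
        refine Subalgebra.sum_mem _ fun x hx => ?_
        obtain ⟨i, hi, hxi⟩ := Set.mem_iUnion₂.mp (hs hx)
        by_cases hin : i ≤ n
        · rw [DirectSum.coe_decompose_mul_of_right_mem_of_le 𝒜 hxi hin]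
          exact Subalgebra.mul_mem _ (ih (n - i) (by omega) _ (Subtype.mem _))
            (Algebra.subset_adjoin hx)
        · rw [DirectSum.coe_decompose_mul_of_right_mem_of_not_le 𝒜 hxi hin]
          exact Subalgebra.zero_mem _
  intro a _
  rw [← DirectSum.sum_support_decompose 𝒜 a]
  exact Subalgebra.sum_mem _ fun n _ => key n _ (Subtype.mem _)

/-- If A is a graded ring which is Noetherian, then Proj A is a Noetherian scheme. -/
theorem result {R A : Type u} [CommRing R] [CommRing A] [Algebra R A] (𝒜 : ℕ → Submodule R A) [GradedAlgebra 𝒜] [IsNoetherianRing A] :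
    IsNoetherian (Proj 𝒜) := by
  have hft := finiteType_zero_of_isNoetherianRing 𝒜
  have h1 : IsLocallyNoetherian (Proj 𝒜) :=
    LocallyOfFiniteType.isLocallyNoetherian (Proj.toSpecZero 𝒜)
  have h2 : CompactSpace (Proj 𝒜) :=
    QuasiCompact.compactSpace_of_compactSpace (Proj.toSpecZero 𝒜)
  exact {}

end Groth.Agent.S2357
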