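import Groth.Statements.S3548
import Groth.Agent.Lib.Helper17.Proj
-- import your own Groth.Agent.* helpers here

set_option autoImplicit false
universe u
open CategoryTheory CategoryTheory.Limits AlgebraicGeometry
open EGA2

namespace Groth.Agent.S3548

/-- Let S be a graded ring, M a graded S-module and X = Proj S. If for every z in M and every
homogeneous f of positive degree some power of f annihilates z, then the O_X-module M~ is zero. -/
theorem result {R A : Type u} [CommRing R] [CommRing A] [Algebra R A] (𝒜 : ℕ → Submodule R A) [GradedAlgebra 𝒜]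
    {M : Type u} [AddCommGroup M] [Module R M] [Module A M] [IsScalarTower R A M] (ℳ : ℕ → Submodule R M) [DirectSum.Decomposition ℳ] [SetLike.GradedSMul 𝒜 ℳ]
    (h : ∀ (z : M) (d : ℕ) (f : A), 0 < d → f ∈ 𝒜 d → ∃ k : ℕ, f ^ k • z = 0) :
    IsZero (GrTilde.tilde 𝒜 ℳ 0) := by
  have hloc : ∀ x : ProjectiveSpectrum 𝒜, Subsingleton (GrTilde.LocMod 𝒜 (M := M) x) := by
    intro x
    refine ⟨fun a b => ?_⟩
    have hz : ∀ q : GrTilde.LocMod 𝒜 (M := M) x, q = 0 := by
      intro q
      induction q using LocalizedModule.induction_on with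
      | h z t =>
        obtain ⟨f, d, hd, hf, hfx⟩ :=
          Groth.Agent.Lib.Helper17.exists_homogeneous_pos_mem_basicOpen 𝒜 x
        obtain ⟨k, hk⟩ := h z d f hd hf
        rw [IsLocalizedModule.mk_eq_mk', IsLocalizedModule.mk'_eq_zero']
        exact ⟨⟨f ^ k, fun hmem => hfx (x.isPrime.mem_of_pow_mem k hmem)⟩, hk⟩
    rw [hz a, hz b]
  have hsub : ∀ U : (TopologicalSpace.Opens (ProjectiveSpectrum.top 𝒜))ᵒᵖ,
      Subsingleton (GrTilde.sect 𝒜 ℳ 0 U) := by
    intro U
    refine ⟨fun a b => ?_⟩
    apply Subtype.ext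
    funext x
    apply Subtype.ext
    exact (hloc x.1).elim _ _
  rw [IsZero.iff_id_eq_zero]
  ext U s
  exact (hsub (Opposite.op U)).elim _ _

end Groth.Agent.S3548
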