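import Groth.Statements.S3587
import Groth.Agent.Lib.Helper17.Proj
-- import your own Groth.Agent.* helpers here

set_option autoImplicit false
universe u
open CategoryTheory AlgebraicGeometry Opposite TopologicalSpace
open EGA2

namespace Groth.Agent.S3587

/-- The annihilator of a homogeneous element of a graded module is a homogeneous ideal. -/
theorem ann_isHomogeneous {R A : Type u} [CommRing R] [CommRing A] [Algebra R A]
    (𝒜 : ℕ → Submodule R A) [GradedAlgebra 𝒜]
    {M : Type u} [AddCommGroup M] [Module R M] [Module A M]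
    (ℳ : ℕ → Submodule R M) [DirectSum.Decomposition ℳ] [SetLike.GradedSMul 𝒜 ℳ] {i : ℕ} (m : ℳ i) :
    (LinearMap.ker (LinearMap.toSpanSingleton A M m.1)).IsHomogeneous 𝒜 := by
  classical
  intro j a ha
  rw [LinearMap.mem_ker, LinearMap.toSpanSingleton_apply] at ha ⊢
  have hsum : a • m.1 = ∑ l ∈ (DirectSum.decompose 𝒜 a).support,
      ((DirectSum.decompose 𝒜 a l : 𝒜 l) : A) • m.1 := by
    conv_lhs => rw [← DirectSum.sum_support_decompose 𝒜 a, Finset.sum_smul]
  have hmem : ∀ l, ((DirectSum.decompose 𝒜 a l : 𝒜 l) : A) • m.1 ∈ ℳ (l + i) :=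
    fun l => SetLike.GradedSMul.smul_mem (A := 𝒜) (B := ℳ) (i := l) (j := i)
      (SetLike.coe_mem (DirectSum.decompose 𝒜 a l)) m.2
  have key : ((DirectSum.decompose ℳ (a • m.1)) (j + i) : M) =
      ((DirectSum.decompose 𝒜 a j : 𝒜 j) : A) • m.1 := by
    rw [hsum, DirectSum.decompose_sum, DFinsupp.finsetSum_apply, AddSubmonoidClass.coe_finsetSum]
    by_cases hj : j ∈ (DirectSum.decompose 𝒜 a).support
    · rw [Finset.sum_eq_single j]
      · exact DirectSum.decompose_of_mem_same ℳ (hmem j)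
      · intro l _ hl
        exact DirectSum.decompose_of_mem_ne ℳ (hmem l) (by omega)
      · intro h; exact (h hj).elim
    · rw [Finset.sum_eq_zero]
      · have : ((DirectSum.decompose 𝒜 a j : 𝒜 j) : A) = 0 := by
          simpa using hj
        rw [this, zero_smul]
      · intro l hl
        have : l ≠ j := fun h => hj (h ▸ hl)
        exact DirectSum.decompose_of_mem_ne ℳ (hmem l) (by omega)
  rw [← key, ha, DirectSum.decompose_zero]
  rfl

/-- Let S be a graded ring, M a graded S-module, f a homogeneous element of degree d > 0 and m a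
homogeneous element of M. If the fraction m/f^k vanishes in the localized module M_x for every point
x of D_+(f), then f^N m = 0 for some N (so m/f^k = 0 in M_(f)); this is the injectivity half of the
identification of the sections of M~ over D_+(f) with M_(f). -/
theorem result {R A : Type u} [CommRing R] [CommRing A] [Algebra R A] (𝒜 : ℕ → Submodule R A) [GradedAlgebra 𝒜]
    {M : Type u} [AddCommGroup M] [Module R M] [Module A M] [IsScalarTower R A M] (ℳ : ℕ → Submodule R M) [DirectSum.Decomposition ℳ] [SetLike.GradedSMul 𝒜 ℳ] {d : ℕ} (hd : 0 < d) {f : A} (hf : f ∈ 𝒜 d) (k i : ℕ) (m : ℳ i)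
    (h : ∀ x : ProjectiveSpectrum.basicOpen 𝒜 f,
      (LocalizedModule.mk m.1 ⟨f ^ k, fun h => (ProjectiveSpectrum.mem_basicOpen 𝒜 f x.1).mp x.2
        (x.1.isPrime.mem_of_pow_mem k h)⟩ : GrTilde.LocMod 𝒜 (M := M) x.1) = 0) :
    ∃ N : ℕ, f ^ N • m.1 = 0 := by
  set I : Ideal A := LinearMap.ker (LinearMap.toSpanSingleton A M m.1) with hI
  have hIhom : I.IsHomogeneous 𝒜 := ann_isHomogeneous 𝒜 ℳ m
  have hmemI : ∀ a : A, a ∈ I ↔ a • m.1 = 0 := fun a => by
    rw [hI, LinearMap.mem_ker, LinearMap.toSpanSingleton_apply]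
  have hfirr : f ∈ (HomogeneousIdeal.irrelevant 𝒜).toIdeal :=
    HomogeneousIdeal.mem_irrelevant_of_mem 𝒜 hd hf
  have hb : ∀ x : ProjectiveSpectrum 𝒜, I ≤ x.asHomogeneousIdeal.toIdeal →
      f ∈ x.asHomogeneousIdeal := by
    intro x hx
    by_contra hfx
    have h0 := h ⟨x, hfx⟩
    rw [IsLocalizedModule.mk_eq_mk', IsLocalizedModule.mk'_eq_zero'] at h0
    obtain ⟨⟨c, hc⟩, hcm⟩ := h0
    exact hc (hx ((hmemI c).mpr hcm))
  have hrad := Groth.Agent.Lib.Helper17.mul_mem_radical_of_forall_mem 𝒜 I hIhom f hb f hfirr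
  obtain ⟨N, hN⟩ := hrad
  refine ⟨2 * N, ?_⟩
  rw [← hmemI, pow_mul, pow_two]
  exact hN

end Groth.Agent.S3587
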