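import Groth.Statements.S3549
import Groth.Agent.S3587
-- import your own Groth.Agent.* helpers here

set_option autoImplicit false
universe u
open CategoryTheory CategoryTheory.Limits AlgebraicGeometry
open EGA2

namespace Groth.Agent.S3549

/-- Let S be a graded ring whose irrelevant ideal S_+ is generated by the degree-one elements, M a
graded S-module and X = Proj S. If the O_X-module M~ is zero, then for every z in M and every
homogeneous f of positive degree some power of f annihilates z. -/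
theorem result {R A : Type u} [CommRing R] [CommRing A] [Algebra R A] (𝒜 : ℕ → Submodule R A) [GradedAlgebra 𝒜]
    (hgen : (HomogeneousIdeal.irrelevant 𝒜).toIdeal = Ideal.span (𝒜 1 : Set A))
    {M : Type u} [AddCommGroup M] [Module R M] [Module A M] [IsScalarTower R A M] (ℳ : ℕ → Submodule R M) [DirectSum.Decomposition ℳ] [SetLike.GradedSMul 𝒜 ℳ]
    (h : IsZero (GrTilde.tilde 𝒜 ℳ 0)) (z : M) (d : ℕ) (f : A) (hd : 0 < d) (hf : f ∈ 𝒜 d) :
    ∃ k : ℕ, f ^ k • z = 0 := by
  classical
  -- Step A: the homogeneous case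
  have hhom : ∀ (i : ℕ) (m : ℳ i), ∃ k : ℕ, f ^ k • m.1 = 0 := by
    intro i m
    apply Groth.Agent.S3587.result 𝒜 ℳ hd hf 0 i m
    rintro ⟨x, hx⟩
    -- find g of degree one not in x
    have hg : ∃ g ∈ 𝒜 1, g ∉ x.asHomogeneousIdeal := by
      by_contra hcon
      push Not at hcon
      apply x.not_irrelevant_le
      change (HomogeneousIdeal.irrelevant 𝒜).toIdeal ≤ x.asHomogeneousIdeal.toIdeal
      rw [hgen, Ideal.span_le]
      exact fun g hg => hcon g hg
    obtain ⟨g, hg1, hgx⟩ := hg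
    have hgi : g ^ i ∈ 𝒜 i := by
      have := SetLike.pow_mem_graded i hg1
      simpa using this
    let U : TopologicalSpace.Opens (ProjectiveSpectrum.top 𝒜) := ProjectiveSpectrum.basicOpen 𝒜 g
    have hnin : ∀ y : U, g ^ i ∉ y.1.asHomogeneousIdeal := fun y hy =>
      y.2 (y.1.isPrime.mem_of_pow_mem i hy)
    let σ : GrTilde.sect 𝒜 ℳ 0 (Opposite.op U) :=
      ⟨fun y => ⟨LocalizedModule.mk m.1 ⟨g ^ i, hnin y⟩,
        Submodule.subset_span ⟨i, i, m, ⟨g ^ i, hgi⟩, hnin y, by simp, rfl⟩⟩,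
       fun y => ⟨U, y.2, 𝟙 _, i, i, m, ⟨g ^ i, hgi⟩, hnin, Or.inl (by simp), fun _ => rfl⟩⟩
    have hσ : σ = 0 := by
      have h1 := h.eq_of_src (𝟙 _) 0
      have h2 := congrArg (fun φ : GrTilde.tilde 𝒜 ℳ 0 ⟶ GrTilde.tilde 𝒜 ℳ 0 =>
        (Scheme.Modules.Hom.app φ U).hom (by exact σ)) h1
      exact h2
    have hval := congrArg (fun τ : GrTilde.sect 𝒜 ℳ 0 (Opposite.op U) => ((τ.1 ⟨x, hgx⟩).1)) hσ
    change LocalizedModule.mk m.1 ⟨g ^ i, _⟩ = 0 at hval
    rw [IsLocalizedModule.mk_eq_mk', IsLocalizedModule.mk'_eq_zero'] at hval ⊢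
    exact hval
  -- Step B: general z is a finite sum of homogeneous components
  have hsum : z = ∑ i ∈ (DirectSum.decompose ℳ z).support, ((DirectSum.decompose ℳ z i : ℳ i) : M) :=
    (DirectSum.sum_support_decompose ℳ z).symm
  choose kk hkk using fun i => hhom i (DirectSum.decompose ℳ z i)
  refine ⟨(DirectSum.decompose ℳ z).support.sup kk, ?_⟩
  have h3 := congrArg (fun w => f ^ ((DirectSum.decompose ℳ z).support.sup kk) • w) hsum
  simp only at h3
  rw [h3, Finset.smul_sum]
  apply Finset.sum_eq_zero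
  intro i hi
  have hle : kk i ≤ (DirectSum.decompose ℳ z).support.sup kk := Finset.le_sup hi
  obtain ⟨e, he⟩ := Nat.exists_eq_add_of_le hle
  rw [he, pow_add, mul_comm, mul_smul, hkk i, smul_zero]

end Groth.Agent.S3549
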