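import Groth.Statements.S3558
import Groth.Agent.Lib.Helper17.Proj
-- import your own Groth.Agent.* helpers here

set_option autoImplicit false
universe u
open CategoryTheory CategoryTheory.Limits AlgebraicGeometry
open EGA2

namespace Groth.Agent.S3558

/-- For a graded ring S, Proj S is empty if and only if every element of the irrelevant ideal S_+ is
nilpotent. -/
theorem result {R A : Type u} [CommRing R] [CommRing A] [Algebra R A] (𝒜 : ℕ → Submodule R A) [GradedAlgebra 𝒜] :
    IsEmpty (Proj 𝒜) ↔ ∀ f ∈ (HomogeneousIdeal.irrelevant 𝒜).toIdeal, IsNilpotent f := by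
  have key := Groth.Agent.Lib.Helper17.irrelevant_le_radical_iff 𝒜 (⊥ : Ideal A)
    (Ideal.IsHomogeneous.bot 𝒜)
  have h2 : (∀ f ∈ (HomogeneousIdeal.irrelevant 𝒜).toIdeal, IsNilpotent f) ↔
      (HomogeneousIdeal.irrelevant 𝒜).toIdeal ≤ (⊥ : Ideal A).radical := by
    constructor
    · intro h f hf
      exact (mem_nilradical.mpr (h f hf))
    · intro h f hf
      exact mem_nilradical.mp (h hf)
  rw [h2, key]
  constructor
  · intro h x
    exact (h.false x).elim
  · intro h
    exact ⟨fun x => h x bot_le⟩

end Groth.Agent.S3558
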