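import Groth.Statements.S3560
import Groth.Agent.S3558
import Mathlib.RingTheory.Finiteness.Ideal
-- import your own Groth.Agent.* helpers here

set_option autoImplicit false
universe u
open CategoryTheory CategoryTheory.Limits AlgebraicGeometry
open EGA2

namespace Groth.Agent.S3560

section aux
variable {A σ : Type*} [CommRing A] [SetLike σ A] [AddSubgroupClass σ A] (𝒜 : ℕ → σ) [GradedRing 𝒜]

/-- The ideal generated by homogeneous elements of degree in `[1, D]`. -/
def JD (D : ℕ) : Ideal A := Ideal.span {a | ∃ d, 0 < d ∧ d ≤ D ∧ a ∈ 𝒜 d}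

theorem JD_mono : Monotone (JD 𝒜) := by
  intro D D' h
  apply Ideal.span_mono
  rintro a ⟨d, h1, h2, h3⟩
  exact ⟨d, h1, h2.trans h, h3⟩

theorem JD_le_irrelevant (D : ℕ) : JD 𝒜 D ≤ (HomogeneousIdeal.irrelevant 𝒜).toIdeal := by
  rw [JD, Ideal.span_le]
  rintro a ⟨d, h1, -, h3⟩
  exact HomogeneousIdeal.mem_irrelevant_of_mem 𝒜 h1 h3

theorem exists_irrelevant_le_JD (hfg : (HomogeneousIdeal.irrelevant 𝒜).toIdeal.FG) :
    ∃ D, (HomogeneousIdeal.irrelevant 𝒜).toIdeal ≤ JD 𝒜 D := by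
  have hcpt : IsCompactElement (HomogeneousIdeal.irrelevant 𝒜).toIdeal :=
    (Submodule.fg_iff_compact _).mp hfg
  have hle : (HomogeneousIdeal.irrelevant 𝒜).toIdeal ≤ ⨆ D, JD 𝒜 D := by
    rw [HomogeneousIdeal.toIdeal_irrelevant_le]
    intro i hi a ha
    have : a ∈ JD 𝒜 i := Ideal.subset_span ⟨i, hi, le_rfl, ha⟩
    exact (le_iSup (JD 𝒜) i) this
  obtain ⟨s, hs⟩ := CompleteLattice.IsCompactElement.exists_finset_of_le_iSup _ hcpt (JD 𝒜) hle
  refine ⟨s.sup id, hs.trans ?_⟩
  refine iSup₂_le fun i hi => JD_mono 𝒜 ?_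
  exact Finset.le_sup (f := id) hi

/-- Key step: high-degree homogeneous elements lie in high powers of the irrelevant ideal. -/
theorem mem_pow_of_deg_gt (D : ℕ)
    (hD : (HomogeneousIdeal.irrelevant 𝒜).toIdeal ≤ JD 𝒜 D) (m : ℕ) :
    ∀ k, m * D < k → ∀ a ∈ 𝒜 k, a ∈ (HomogeneousIdeal.irrelevant 𝒜).toIdeal ^ (m + 1) := by
  induction m with
  | zero =>
    intro k hk a ha
    rw [zero_add, pow_one]
    exact HomogeneousIdeal.mem_irrelevant_of_mem 𝒜 (by omega) ha
  | succ m ih =>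
    intro k hk a ha
    have haI : a ∈ JD 𝒜 D := hD (HomogeneousIdeal.mem_irrelevant_of_mem 𝒜 (by omega) ha)
    have key : ∀ b ∈ JD 𝒜 D, ((DirectSum.decompose 𝒜 b k : 𝒜 k) : A) ∈
        (HomogeneousIdeal.irrelevant 𝒜).toIdeal ^ (m + 1 + 1) := by
      intro b hb
      rw [JD] at hb
      induction hb using Submodule.closure_induction with
      | zero => simp
      | add x y _ _ hx hy =>
        rw [DirectSum.decompose_add, DirectSum.add_apply, AddMemClass.coe_add]
        exact Ideal.add_mem _ hx hy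
      | smul_mem r x hx =>
        obtain ⟨d, hd0, hdD, hxd⟩ := hx
        rw [smul_eq_mul]
        have hdk : d ≤ k := by nlinarith
        rw [DirectSum.coe_decompose_mul_of_right_mem_of_le 𝒜 hxd hdk, pow_succ]
        refine Ideal.mul_mem_mul ?_ (HomogeneousIdeal.mem_irrelevant_of_mem 𝒜 hd0 hxd)
        apply ih (k - d) _ _ (SetLike.coe_mem _)
        have : (m + 1) * D = m * D + D := by ring
        omega
    have := key a haI
    rwa [DirectSum.decompose_of_mem_same 𝒜 ha] at this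

end aux

/-- Let S be a graded ring whose irrelevant ideal S_+ is finitely generated. Then Proj S is empty if and
only if there is n such that S_k = 0 for all k ≥ n. -/
theorem result {R A : Type u} [CommRing R] [CommRing A] [Algebra R A] (𝒜 : ℕ → Submodule R A) [GradedAlgebra 𝒜]
    (hfg : (HomogeneousIdeal.irrelevant 𝒜).toIdeal.FG) :
    IsEmpty (Proj 𝒜) ↔ ∃ n : ℕ, ∀ k : ℕ, n ≤ k → 𝒜 k = ⊥ := by
  constructor
  · intro hempty
    have hnil := (Groth.Agent.S3558.result 𝒜).mp hempty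
    have hrad : (HomogeneousIdeal.irrelevant 𝒜).toIdeal ≤ (⊥ : Ideal A).radical :=
      fun f hf => mem_nilradical.mpr (hnil f hf)
    obtain ⟨M, hM⟩ := Ideal.exists_pow_le_of_le_radical_of_fg hrad hfg
    obtain ⟨D, hD⟩ := exists_irrelevant_le_JD 𝒜 hfg
    refine ⟨M * D + 1, fun k hk => ?_⟩
    rw [eq_bot_iff]
    intro a ha
    have h1 := mem_pow_of_deg_gt 𝒜 D hD M k (by omega) a ha
    have h2 : a ∈ (⊥ : Ideal A) := hM (Ideal.pow_le_pow_right (Nat.le_succ M) h1)
    simpa using h2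
  · rintro ⟨n, hn⟩
    refine ⟨fun x => x.not_irrelevant_le ?_⟩
    rw [HomogeneousIdeal.irrelevant_le]
    intro i hi a ha
    have h1 : a ^ n ∈ 𝒜 (n • i) := SetLike.pow_mem_graded n ha
    have h2 : n ≤ n • i := by
      rw [smul_eq_mul]
      exact Nat.le_mul_of_pos_right n hi
    rw [hn _ h2] at h1
    have h3 : a ^ n = 0 := by simpa using h1
    exact x.isPrime.mem_of_pow_mem n (h3 ▸ Ideal.zero_mem _)

end Groth.Agent.S3560
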