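import Groth.Statements.S3562
import Groth.Agent.S3548
import Groth.Agent.S3549
import Groth.Agent.S3560
-- import your own Groth.Agent.* helpers here

set_option autoImplicit false
universe u
open CategoryTheory CategoryTheory.Limits AlgebraicGeometry
open EGA2

namespace Groth.Agent.S3562

section aux
variable {R A : Type u} [CommRing R] [CommRing A] [Algebra R A]
    (𝒜 : ℕ → Submodule R A) [GradedAlgebra 𝒜]
    {M : Type u} [AddCommGroup M] [Module R M] [Module A M]
    (ℳ : ℕ → Submodule R M) [DirectSum.Decomposition ℳ] [SetLike.GradedSMul 𝒜 ℳ]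

/-- The degree `j + e` component of `a • m`, for `m` homogeneous of degree `e`. -/
theorem decompose_smul_of_mem (a : A) {e : ℕ} {m : M} (hm : m ∈ ℳ e) (j : ℕ) :
    ((DirectSum.decompose ℳ (a • m)) (j + e) : M) =
      ((DirectSum.decompose 𝒜 a j : 𝒜 j) : A) • m := by
  classical
  have hsum : a • m = ∑ l ∈ (DirectSum.decompose 𝒜 a).support,
      ((DirectSum.decompose 𝒜 a l : 𝒜 l) : A) • m := by
    conv_lhs => rw [← DirectSum.sum_support_decompose 𝒜 a, Finset.sum_smul]
  have hmem : ∀ l, ((DirectSum.decompose 𝒜 a l : 𝒜 l) : A) • m ∈ ℳ (l + e) :=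
    fun l => SetLike.GradedSMul.smul_mem (A := 𝒜) (B := ℳ) (i := l) (j := e)
      (SetLike.coe_mem (DirectSum.decompose 𝒜 a l)) hm
  rw [hsum, DirectSum.decompose_sum, DFinsupp.finsetSum_apply, AddSubmonoidClass.coe_finsetSum]
  by_cases hj : j ∈ (DirectSum.decompose 𝒜 a).support
  · rw [Finset.sum_eq_single j]
    · exact DirectSum.decompose_of_mem_same ℳ (hmem j)
    · intro l _ hl
      exact DirectSum.decompose_of_mem_ne ℳ (hmem l) (by omega)
    · intro h; exact (h hj).elim
  · rw [Finset.sum_eq_zero]
    · have : ((DirectSum.decompose 𝒜 a j : 𝒜 j) : A) = 0 := by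
        simpa using hj
      rw [this, zero_smul]
    · intro l hl
      have : l ≠ j := fun h => hj (h ▸ hl)
      exact DirectSum.decompose_of_mem_ne ℳ (hmem l) (by omega)

end aux

/-- Let S be a graded ring whose irrelevant ideal S_+ is finitely generated and generated by the
degree-one elements, and M a graded S-module satisfying (TF) (some tail of M generates a finitely
generated submodule). Then M~ = 0 on Proj S if and only if M satisfies (TN): M_k = 0 for all
sufficiently large k. (The published statement assumes only that S_+ is finitely generated; the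
statement then fails when S_+ has no system of degree-one generators, e.g. S = k[t] with t of degree
2 and M = S shifted into odd degrees, whose M~ vanishes although no M_k does. Stated here with S_+
generated by degree-one elements, where the published proof applies.) -/
theorem result {R A : Type u} [CommRing R] [CommRing A] [Algebra R A] (𝒜 : ℕ → Submodule R A) [GradedAlgebra 𝒜]
    (hfg : (HomogeneousIdeal.irrelevant 𝒜).toIdeal.FG)
    (hgen : (HomogeneousIdeal.irrelevant 𝒜).toIdeal = Ideal.span (𝒜 1 : Set A))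
    {M : Type u} [AddCommGroup M] [Module R M] [Module A M] [IsScalarTower R A M] (ℳ : ℕ → Submodule R M) [DirectSum.Decomposition ℳ] [SetLike.GradedSMul 𝒜 ℳ]
    (hTF : ∃ n : ℕ, (Submodule.span A (⋃ k ∈ Set.Ici n, (ℳ k : Set M))).FG) :
    IsZero (GrTilde.tilde 𝒜 ℳ 0) ↔ ∃ n : ℕ, ∀ k : ℕ, n ≤ k → ℳ k = ⊥ := by
  classical
  constructor
  · intro hzero
    have hnil := Groth.Agent.S3549.result 𝒜 hgen ℳ hzero
    obtain ⟨n, hN⟩ := hTF
    -- finite homogeneous generating set of the tail
    obtain ⟨T', hT'sub, hT'span⟩ := (Submodule.fg_span_iff_fg_span_finset_subset _).mp hN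
    -- every homogeneous generator of positive degree has a power killing `m`, hence a power of `I` kills `m`
    have hpow : ∀ m : M, ∃ P : ℕ, ∀ a ∈ (HomogeneousIdeal.irrelevant 𝒜).toIdeal ^ P, a • m = 0 := by
      intro m
      let J : Ideal A := LinearMap.ker (LinearMap.toSpanSingleton A M m)
      have hJ : ∀ a : A, a ∈ J ↔ a • m = 0 := fun a => by
        rw [LinearMap.mem_ker, LinearMap.toSpanSingleton_apply]
      have hle : (HomogeneousIdeal.irrelevant 𝒜).toIdeal ≤ J.radical := by
        rw [hgen, Ideal.span_le]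
        intro g hg
        obtain ⟨k, hk⟩ := hnil m 1 g one_pos hg
        exact ⟨k, (hJ _).mpr hk⟩
      obtain ⟨P, hP⟩ := Ideal.exists_pow_le_of_le_radical_of_fg hle hfg
      exact ⟨P, fun a ha => (hJ a).mp (hP ha)⟩
    choose PP hPP using hpow
    -- degrees of the generators
    have hdeg : ∀ m ∈ T', ∃ e : ℕ, n ≤ e ∧ m ∈ ℳ e := by
      intro m hm
      have := hT'sub hm
      simp only [Set.mem_iUnion, Set.mem_Ici, SetLike.mem_coe, exists_prop] at this
      exact this
    choose! ee hee using hdeg
    have hD : (HomogeneousIdeal.irrelevant 𝒜).toIdeal ≤ Groth.Agent.S3560.JD 𝒜 1 := by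
      rw [hgen, Ideal.span_le]
      intro g hg
      exact Ideal.subset_span ⟨1, one_pos, le_rfl, hg⟩
    let P := T'.sup PP
    let E := T'.sup ee
    refine ⟨max n (E + P + 1), fun k hk => ?_⟩
    rw [eq_bot_iff]
    intro z hz
    have hzN : z ∈ Submodule.span A (⋃ k ∈ Set.Ici n, (ℳ k : Set M)) := by
      apply Submodule.subset_span
      simp only [Set.mem_iUnion, Set.mem_Ici, SetLike.mem_coe, exists_prop]
      exact ⟨k, (le_max_left _ _).trans hk, hz⟩
    rw [hT'span] at hzN
    obtain ⟨c, -, hc⟩ := Submodule.mem_span_finset.mp hzN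
    -- take the degree `k` component
    have hz' : z = ((DirectSum.decompose ℳ z) k : M) := (DirectSum.decompose_of_mem_same ℳ hz).symm
    rw [Submodule.mem_bot, hz', ← hc, DirectSum.decompose_sum, DFinsupp.finsetSum_apply,
      AddSubmonoidClass.coe_finsetSum]
    apply Finset.sum_eq_zero
    intro m hm
    obtain ⟨hne, hme⟩ := hee m hm
    have heE : ee m ≤ E := Finset.le_sup hm
    have hPm : PP m ≤ P := Finset.le_sup hm
    have hk' : E + P + 1 ≤ k := (le_max_right _ _).trans hk
    obtain ⟨j, hj⟩ : ∃ j, k = j + ee m := ⟨k - ee m, by omega⟩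
    rw [hj, decompose_smul_of_mem 𝒜 ℳ (c m) hme j]
    apply hPP m
    have h1 := Groth.Agent.S3560.mem_pow_of_deg_gt 𝒜 1 hD P j (by omega) _
      (SetLike.coe_mem (DirectSum.decompose 𝒜 (c m) j))
    exact Ideal.pow_le_pow_right (by omega) h1
  · rintro ⟨n, hn⟩
    apply Groth.Agent.S3548.result 𝒜 ℳ
    intro z d f hd hf
    refine ⟨n, ?_⟩
    rw [← DirectSum.sum_support_decompose ℳ z, Finset.smul_sum]
    apply Finset.sum_eq_zero
    intro i _
    have h1 : f ^ n • ((DirectSum.decompose ℳ z i : ℳ i) : M) ∈ ℳ (n • d + i) :=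
      SetLike.GradedSMul.smul_mem (A := 𝒜) (B := ℳ) (SetLike.pow_mem_graded n hf)
        (SetLike.coe_mem _)
    have h2 : n ≤ n • d + i := by
      rw [smul_eq_mul]
      have := Nat.le_mul_of_pos_right n hd
      omega
    rw [hn _ h2] at h1
    simpa using h1

end Groth.Agent.S3562
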