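import Groth.Statements.S9693
-- import your own Groth.Agent.* helpers here

set_option autoImplicit false
universe u
open CategoryTheory CategoryTheory.Limits AlgebraicGeometry
open Mor

namespace Groth.Agent.S9693

/-- A base change of an H-projective morphism (a closed immersion into some P^n over the base followed
by the projection) is H-projective. -/
theorem result {X S S' : Scheme.{u}} (f : X ⟶ S) (hf : RelProj.IsHProjective f)
    (g : S' ⟶ S) : RelProj.IsHProjective (pullback.snd f g) := by
  obtain ⟨n, i, hi, hif⟩ := hf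
  have hterm : ∀ {T : Scheme.{u}} (a b : T ⟶ Spec (CommRingCat.of (ULift.{u} ℤ))), a = b :=
    fun a b => specULiftZIsTerminal.hom_ext a b
  -- the map P^n_{S'} → P^n_S
  let φ : CohB1.ProjSpaceOver n S' ⟶ CohB1.ProjSpaceOver n S :=
    pullback.lift (pullback.fst _ _) (pullback.snd _ _ ≫ g) (hterm _ _)
  have hφ1 : φ ≫ pullback.fst _ _ = pullback.fst _ _ := pullback.lift_fst _ _ _
  have hφ2 : φ ≫ CohB1.ProjSpaceOver.toBase n S = CohB1.ProjSpaceOver.toBase n S' ≫ g :=
    pullback.lift_snd _ _ _
  -- the square P^n_{S'} → P^n_S over S' → S is a pullback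
  have sq1 : IsPullback φ (CohB1.ProjSpaceOver.toBase n S') (CohB1.ProjSpaceOver.toBase n S) g := by
    refine IsPullback.of_right ?_ hφ2 (IsPullback.of_hasPullback
      (CohB1.ProjSpace.toSpec n (ULift.{u} ℤ)) (specULiftZIsTerminal.from S))
    have := IsPullback.of_hasPullback
      (CohB1.ProjSpace.toSpec n (ULift.{u} ℤ)) (specULiftZIsTerminal.from S')
    rw [hφ1, hterm (g ≫ specULiftZIsTerminal.from S) (specULiftZIsTerminal.from S')]
    exact this
  -- the map X' → P^n_{S'}
  let i' : pullback f g ⟶ CohB1.ProjSpaceOver n S' :=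
    sq1.lift (pullback.fst f g ≫ i) (pullback.snd f g) (by
      rw [Category.assoc, hif, pullback.condition])
  have hi'1 : i' ≫ φ = pullback.fst f g ≫ i := sq1.lift_fst _ _ _
  have hi'2 : i' ≫ CohB1.ProjSpaceOver.toBase n S' = pullback.snd f g := sq1.lift_snd _ _ _
  refine ⟨n, i', ?_, hi'2⟩
  -- i' is a base change of i
  have sq2 : IsPullback i' (pullback.fst f g) φ i := by
    refine IsPullback.of_right ?_ hi'1 sq1.flip
    rw [hi'2, hif]
    exact (IsPullback.of_hasPullback f g).flip
  exact MorphismProperty.of_isPullback sq2.flip hi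

end Groth.Agent.S9693
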