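import Groth.Statements.S0013
import Groth.Agent.S0464
import Groth.Agent.Lib.Helper1.AffineVanishing
import Groth.Agent.Lib.Helper1.ShCohTop

set_option autoImplicit false
universe u
open Coherent

namespace Groth.Agent.S0013

open AlgebraicGeometry in
/-- Let X be a scheme with an open covering all of whose nonempty finite intersections are affine. For a
quasi-coherent module M and every degree p, Čech cohomology with respect to this covering is
isomorphic to sheaf cohomology; only the existence of an isomorphism of additive groups is asserted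
(the published statement gives an isomorphism of modules over the global sections). -/
theorem result (X : Scheme.{u}) {ι : Type u}
    (U : ι → X.Opens) (hcov : ⨆ i, U i = ⊤)
    (hU : ∀ s : Finset ι, s.Nonempty → IsAffineOpen (⨅ i ∈ s, U i))
    (M : X.Modules) [Coh.IsQCoh M] (p : ℕ) :
    Nonempty (↑(CohB1.cechH U M p) ≃+ Coh.HH X M p) := by
  classical
  have h : ∀ (p : ℕ) (a : Fin (p + 1) → ι) (q : ℕ),
      Subsingleton (CohTop.HU (X := X.toTopCat) (Coh.toAb M) (q + 1) (iInf fun k => U (a k))) := by
    intro p a q
    have hs : (⨅ k, U (a k)) = ⨅ i ∈ (Finset.univ.image a), U i := by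
      apply le_antisymm
      · refine le_iInf fun i => le_iInf fun hi => ?_
        obtain ⟨k, -, rfl⟩ := Finset.mem_image.mp hi
        exact iInf_le _ k
      · exact le_iInf fun k => (iInf_le _ (a k)).trans
          (iInf_le _ (Finset.mem_image_of_mem a (Finset.mem_univ k)))
    rw [hs]
    exact Groth.Agent.Lib.Helper1.subsingleton_HU_of_isAffineOpen M _
      (hU _ (Finset.image_nonempty.mpr Finset.univ_nonempty)) q
  obtain ⟨e⟩ := Groth.Agent.S0464.result (X := X.toTopCat) (Coh.toAb M) U h p
  have e2 : CohTop.HU (X := X.toTopCat) (Coh.toAb M) p (iSup U) ≃+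
      CohTop.HU (X := X.toTopCat) (Coh.toAb M) p ⊤ := by
    rw [hcov]
  exact ⟨(e.trans e2).trans (Groth.Agent.Lib.Helper1.HUTopEquivH (Coh.toAb M) p)⟩

end Groth.Agent.S0013
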