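import Groth.Statements.S11156
import Groth.Agent.Lib.Helper42.LocInjSite

set_option autoImplicit false
universe u
open CategoryTheory CategoryTheory.Limits AlgebraicGeometry
open Coherent

namespace Groth.Agent.S11156

/-- Let X be a scheme and F an O_X-module. If every point of X has an open neighbourhood U such that
F|_U is an injective object of the category of O_U-modules, then F is an injective object of the
category of O_X-modules. -/
theorem result {X : Scheme.{u}} (F : X.Modules)
    (hF : ∀ x : X, ∃ U : X.Opens, x ∈ U ∧ Injective ((Scheme.Modules.restrictFunctor U.ι).obj F)) :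
    Injective F := by
  let I := {U : X.Opens // Injective ((Scheme.Modules.restrictFunctor U.ι).obj F)}
  have hY : (Opens.grothendieckTopology X).CoversTop (fun i : I => i.1) := by
    intro W x hx
    obtain ⟨U, hxU, hU⟩ := hF x
    refine ⟨W ⊓ U, homOfLE inf_le_left, ⟨⟨U, hU⟩, ⟨homOfLE inf_le_right⟩⟩, hx, hxU⟩
  have hF' : ∀ i : I, Injective ((ModSite.restr X.sheaf i.1).obj F) := by
    intro i
    have h1 : Injective ((Scheme.Modules.overEquiv i.1).functor.obj
        ((SheafOfModules.overFunctor X.ringCatSheaf i.1).obj F)) :=
      Injective.of_iso ((Scheme.Modules.overFunctorEquiv i.1).app F).symm i.2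
    exact ((Scheme.Modules.overEquiv i.1).map_injective_iff _).mp h1
  exact Groth.Agent.Lib.Helper42.LocInjSite.injective_of_coversTop X.sheaf F
    (fun i : I => i.1) hY (fun i V => inferInstance) hF'

end Groth.Agent.S11156
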