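import Groth.Statements.S6840
import Groth.Agent.Lib.Helper42.HomColim

set_option autoImplicit false
universe u
open CategoryTheory CategoryTheory.Limits TopologicalSpace
open ModSite

namespace Groth.Agent.S6840

/-- Let (X, O) be a ringed space such that every open covering of X is refined by a finite open covering
X = ⋃ U_j whose pairwise intersections U_j ∩ U_{j'} are quasi-compact. Let I be a directed
preordered set (nonempty, with upper bounds), (F_i) a system of O-modules over I, and G an O-module
of finite presentation. Then colim_i Hom(G, F_i) → Hom(G, colim_i F_i) is bijective, i.e. Hom(G, −)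
preserves the colimit of the system. -/
theorem result {X : TopCat.{u}} (O : TopCat.Sheaf CommRingCat.{u} X)
    (hX : ∀ (ι : Type u) (V : ι → Opens X), iSup V = ⊤ →
      ∃ (J : Type u) (_ : Finite J) (U : J → Opens X), iSup U = ⊤ ∧ (∀ j, ∃ i, U j ≤ V i) ∧
        ∀ j j', IsCompact ((U j ⊓ U j' : Opens X) : Set X))
    {I : Type u} [Preorder I] [Nonempty I] [IsDirected I (· ≤ ·)] (D : I ⥤ ModSite.Mod O)
    (G : ModSite.Mod O) [SheafOfModules.IsFinitePresentation (R := ModSite.ringSh O) G] :
    PreservesColimit D (coyoneda.obj (Opposite.op G)) := by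
  apply preservesColimit_of_preserves_colimit_cocone (colimit.isColimit D)
  apply Types.FilteredColimit.isColimitOf'
  · intro ψ
    obtain ⟨k, φ, h⟩ := Groth.Agent.Lib.Helper42.HomColim.exists_lift_of_finitePresentation
      (c := colimit.cocone D) (colimit.isColimit D) hX ψ
    exact ⟨k, φ, h.symm⟩
  · intro i φ φ' h
    obtain ⟨k, f, hf⟩ := Groth.Agent.Lib.Helper42.HomColim.exists_map_eq_of_comp_ι_eq
      (c := colimit.cocone D) (colimit.isColimit D) hX i φ φ' h
    exact ⟨k, f, hf⟩

end Groth.Agent.S6840
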