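import Groth.Statements.S1379
import Mathlib
import Groth.Agent.Lib.Helper22.QFSliceScheme

set_option autoImplicit false
universe u
open FlatMor

namespace Groth.Agent.S1379.Aux

set_option linter.style.haveILetI false

open AlgebraicGeometry CategoryTheory Limits



theorem main {S₁ S : Scheme.{u}} (g : S₁ ⟶ S) [Flat g] [LocallyOfFinitePresentation g] [Surjective g] (s : S) :
    ∃ (S' V : Scheme.{u}) (e : S' ⟶ S) (π : V ⟶ S'), Etale e ∧ s ∈ Set.range ⇑e ∧ Surjective π ∧ IsFinite π ∧ Flat π ∧ LocallyOfFinitePresentation π ∧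
      ∀ v : ↑V, ∃ (W : V.Opens) (r : ↑W ⟶ S₁), v ∈ W ∧ r ≫ g = W.ι ≫ π ≫ e := by
  obtain ⟨x, hx⟩ := g.surjective s
  obtain ⟨T, gT, h, hT, hcomm, hfl, hfp, hqf, ⟨t, ht⟩⟩ :=
    Groth.Agent.Lib.Helper22.QFSliceScheme.exists_local g x
  rw [hx] at ht
  haveI : IsSeparated gT := by
    haveI : IsSeparated (gT ≫ terminal.from S) := inferInstance
    exact IsSeparated.of_comp gT (terminal.from S)
  obtain ⟨U, e, he, ⟨u₀, hu₀⟩, V, W, v, hVW, hfin, hv⟩ :=
    exists_etale_isCompl_of_quasiFiniteAt gT ht (gT.quasiFiniteAt t)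
  let π₀ : (V : Scheme.{u}) ⟶ U := V.ι ≫ pullback.snd gT e
  haveI : Flat π₀ := inferInstance
  haveI : LocallyOfFinitePresentation π₀ := inferInstance
  haveI : IsFinite π₀ := hfin
  let U' : U.Opens := ⟨Set.range π₀, π₀.isOpenMap.isOpen_range⟩
  let v' : ↥(V : Scheme.{u}) := v
  have hv' : V.ι v' = v.1 := rfl
  have key : e (π₀ v') = s := by
    have h2 : e (π₀ v') = gT (pullback.fst gT e (V.ι v')) := by
      rw [← Scheme.Hom.comp_apply, ← Scheme.Hom.comp_apply, ← Scheme.Hom.comp_apply]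
      congr 2
      simp only [π₀, Category.assoc, pullback.condition]
    rw [h2, hv', hv, ht]
  refine ⟨U', π₀ ⁻¹ᵁ U', U'.ι ≫ e, π₀ ∣_ U', inferInstance, ?_, ?_, inferInstance, inferInstance,
    inferInstance, ?_⟩
  · refine ⟨⟨π₀ v', ⟨v', rfl⟩⟩, ?_⟩
    exact (Scheme.Hom.comp_apply U'.ι e _).trans key
  · constructor
    rintro ⟨y, z, rfl⟩
    refine ⟨⟨z, ⟨z, rfl⟩⟩, ?_⟩
    apply Subtype.ext
    exact morphismRestrict_base_coe π₀ U' _
  · intro v''
    refine ⟨⊤, (⊤ : (π₀ ⁻¹ᵁ U').toScheme.Opens).ι ≫ (π₀ ⁻¹ᵁ U').ι ≫ V.ι ≫ pullback.fst gT e ≫ h,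
      trivial, ?_⟩
    simp only [Category.assoc, hcomm, pullback.condition]
    rw [← Category.assoc (π₀ ∣_ U'), morphismRestrict_ι]
    simp only [π₀, Category.assoc]

end Groth.Agent.S1379.Aux

namespace Groth.Agent.S1379

open AlgebraicGeometry CategoryTheory Limits in
/-- Let S₁ → S be flat, locally of finite presentation and surjective (an fppf cover by one morphism).
Then for every point s of S there are an étale morphism S' → S whose image contains s and a
surjective, finite, flat morphism of finite presentation V → S' such that V → S factors through S₁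
Zariski locally on V. -/
theorem result {S₁ S : Scheme.{u}} (g : S₁ ⟶ S) [Flat g] [LocallyOfFinitePresentation g] [Surjective g] (s : S) :
    ∃ (S' V : Scheme.{u}) (e : S' ⟶ S) (π : V ⟶ S'), Etale e ∧ s ∈ Set.range ⇑e ∧ Surjective π ∧ IsFinite π ∧ Flat π ∧ LocallyOfFinitePresentation π ∧
      ∀ v : ↑V, ∃ (W : V.Opens) (r : ↑W ⟶ S₁), v ∈ W ∧ r ≫ g = W.ι ≫ π ≫ e := by
  exact Aux.main g s

end Groth.Agent.S1379
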