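import Groth.Statements.S0237
import Groth.Agent.Lib.Helper69.Rigid2
import Mathlib.AlgebraicGeometry.Morphisms.UniversallyOpen

set_option autoImplicit false
universe u
open Pi1

namespace Groth.Agent.S0237

open AlgebraicGeometry CategoryTheory CategoryTheory.Limits Groth.Agent.Lib.Helper69 in
/-- If a morphism of schemes has dense image, pulling back finite etale covers along it is faithful. -/
theorem result {X Y : Scheme.{u}} (f : X ⟶ Y)
    (h : DenseRange f.base) : (FEt.restrict f).Faithful := by
  constructor
  intro A B φ ψ hφψ
  have hBfin : IsFinite B.hom := B.prop.1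
  have hBet : Etale B.hom := B.prop.2
  have hAet : Etale A.hom := A.prop.2
  have h1 : pullback.fst A.hom f ≫ φ.left = pullback.fst A.hom f ≫ ψ.left := by
    have := congrArg (fun k => k.left ≫ pullback.fst B.hom f) hφψ
    simp only [FEt.restrict, MorphismProperty.Over.pullback_map_left] at this
    exact (pullback.lift_fst _ _ _).symm.trans (this.trans (pullback.lift_fst _ _ _))
  have hd : DenseRange (pullback.fst A.hom f).base := by
    rw [DenseRange, Scheme.Pullback.range_fst]
    exact h.preimage A.hom.isOpenMap
  have key : φ.left = ψ.left :=
    eq_of_comp_eq_of_denseRange B.hom φ.left ψ.left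
      (by rw [MorphismProperty.Over.w, MorphismProperty.Over.w]) (pullback.fst A.hom f) hd h1
  ext
  exact key

end Groth.Agent.S0237
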