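import Groth.Statements.S2197
import Mathlib

set_option autoImplicit false
universe u
open Disc

namespace Groth.Agent.S2197

open TensorProduct

section General

variable {R S : Type*} [CommRing R] [CommRing S] [Algebra R S]

/-- the subalgebra of those `s` with `t * (1 ⊗ s) = t * (s ⊗ 1)` -/
def eqSub (t : S ⊗[R] S) : Subalgebra R S where
  carrier := {s | t * ((1 : S) ⊗ₜ[R] s) = t * (s ⊗ₜ[R] (1 : S))}
  mul_mem' := by
    intro a b ha hb
    simp only [Set.mem_setOf_eq] at ha hb ⊢
    have e1 : (1 : S) ⊗ₜ[R] (a * b) = ((1 : S) ⊗ₜ[R] a) * ((1 : S) ⊗ₜ[R] b) := by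
      rw [Algebra.TensorProduct.tmul_mul_tmul, one_mul]
    have e2 : (a * b) ⊗ₜ[R] (1 : S) = (a ⊗ₜ[R] (1 : S)) * (b ⊗ₜ[R] (1 : S)) := by
      rw [Algebra.TensorProduct.tmul_mul_tmul, one_mul]
    calc t * ((1 : S) ⊗ₜ[R] (a * b)) = (t * ((1 : S) ⊗ₜ[R] a)) * ((1 : S) ⊗ₜ[R] b) := by
          rw [e1, mul_assoc]
      _ = (a ⊗ₜ[R] (1 : S)) * (t * ((1 : S) ⊗ₜ[R] b)) := by rw [ha]; ring
      _ = t * ((a * b) ⊗ₜ[R] (1 : S)) := by rw [hb, e2]; ring
  add_mem' := by
    intro a b ha hb
    simp only [Set.mem_setOf_eq] at ha hb ⊢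
    rw [tmul_add, add_tmul, mul_add, mul_add, ha, hb]
  algebraMap_mem' := by
    intro r
    simp only [Set.mem_setOf_eq]
    rw [Algebra.algebraMap_eq_smul_one, tmul_smul, smul_tmul']

theorem mem_eqSub (t : S ⊗[R] S) (s : S) :
    s ∈ eqSub t ↔ t * ((1 : S) ⊗ₜ[R] s) = t * (s ⊗ₜ[R] (1 : S)) := Iff.rfl

theorem mem_annihilator_ideal_iff (t : S ⊗[R] S) :
    t ∈ Submodule.annihilator (KaehlerDifferential.ideal R S) ↔
      ∀ s : S, t * ((1 : S) ⊗ₜ[R] s) = t * (s ⊗ₜ[R] (1 : S)) := by
  rw [← KaehlerDifferential.span_range_eq_ideal, Ideal.span, Submodule.mem_annihilator_span]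
  constructor
  · intro h s
    have := h ⟨_, s, rfl⟩
    simp only [smul_eq_mul, mul_sub, sub_eq_zero] at this
    exact this
  · rintro h ⟨_, s, rfl⟩
    simp only [smul_eq_mul, mul_sub, sub_eq_zero]
    exact h s

theorem mem_annihilator_ideal_of_adjoin (G : Set S) (hG : Algebra.adjoin R G = ⊤) (t : S ⊗[R] S)
    (h : ∀ s ∈ G, t * ((1 : S) ⊗ₜ[R] s) = t * (s ⊗ₜ[R] (1 : S))) :
    t ∈ Submodule.annihilator (KaehlerDifferential.ideal R S) := by
  rw [mem_annihilator_ideal_iff]
  intro s
  have hle : Algebra.adjoin R G ≤ eqSub t := Algebra.adjoin_le (fun s hs => h s hs)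
  rw [hG] at hle
  exact hle Algebra.mem_top

end General

/-- flat base change of a finite intersection of kernels -/
theorem mem_range_lTensor_of_flat {A A' N : Type*} [CommRing A] [CommRing A'] [Algebra A A']
    [Module.Flat A A'] [AddCommGroup N] [Module A N] {ι : Type*} [Fintype ι] [DecidableEq ι]
    (f : ι → N →ₗ[A] N) (x : A' ⊗[A] N) (hx : ∀ i, (f i).lTensor A' x = 0) :
    x ∈ LinearMap.range ((LinearMap.ker (LinearMap.pi f)).subtype.lTensor A') := by
  have h0 : (LinearMap.pi f).lTensor A' x = 0 := by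
    apply (TensorProduct.piRight A A A' (fun _ : ι => N)).injective
    rw [map_zero]
    ext i
    have : ∀ y : A' ⊗[A] N,
        TensorProduct.piRight A A A' (fun _ : ι => N) ((LinearMap.pi f).lTensor A' y) i =
          (f i).lTensor A' y := by
      intro y
      induction y with
      | zero => simp
      | tmul a n => simp
      | add a b ha hb => simp only [map_add, Pi.add_apply, ha, hb]
    rw [this, hx i]
    rfl
  have hex := Module.Flat.lTensor_exact A' (LinearMap.exact_subtype_ker_map (LinearMap.pi f))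
  exact (hex x).mp h0

/-- Part (2): let A -> B be a ring map of finite type and A -> A' a flat ring map, and let B' = B
tensor_A A'. Then the Noether different of B' over A' is the extension to B' of the Noether
different of B over A. -/
theorem result {A B A' B' : Type u} [CommRing A] [CommRing B]
    [CommRing A'] [CommRing B'] [Algebra A B] [Algebra A A'] [Algebra A B'] [Algebra B B']
    [Algebra A' B'] [IsScalarTower A B B'] [IsScalarTower A A' B']
    [Algebra.IsPushout A B A' B'] [Algebra.FiniteType A B] [Module.Flat A A'] :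
    Disc.noetherDifferent A' B' = (Disc.noetherDifferent A B).map (algebraMap B B') := by
  classical
  -- the comparison map `φ : B ⊗[A] B → B' ⊗[A'] B'`
  let fL : B →ₐ[A] B' ⊗[A'] B' :=
    ((Algebra.TensorProduct.includeLeft : B' →ₐ[A'] B' ⊗[A'] B').restrictScalars A).comp
      (IsScalarTower.toAlgHom A B B')
  let fR : B →ₐ[A] B' ⊗[A'] B' :=
    ((Algebra.TensorProduct.includeRight : B' →ₐ[A'] B' ⊗[A'] B').restrictScalars A).comp
      (IsScalarTower.toAlgHom A B B')
  let φ : B ⊗[A] B →ₐ[A] B' ⊗[A'] B' :=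
    Algebra.TensorProduct.lift fL fR (fun _ _ => Commute.all _ _)
  have hφ_tmul : ∀ b₁ b₂ : B, φ (b₁ ⊗ₜ b₂) = algebraMap B B' b₁ ⊗ₜ[A'] algebraMap B B' b₂ := by
    intro b₁ b₂
    simp only [φ, Algebra.TensorProduct.lift_tmul, fL, fR, AlgHom.comp_apply,
      AlgHom.restrictScalars_apply, IsScalarTower.coe_toAlgHom',
      Algebra.TensorProduct.includeLeft_apply, Algebra.TensorProduct.includeRight_apply,
      Algebra.TensorProduct.tmul_mul_tmul, mul_one, one_mul]
  have h1 : IsBaseChange A' (IsScalarTower.toAlgHom A B B').toLinearMap :=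
    (Algebra.IsPushout.symm (inferInstance : Algebra.IsPushout A B A' B')).out
  have h2 := isBaseChange_tensorProduct_map (R := A) (P := B) A' h1
  let e2 : B' ⊗[A] B ≃ₗ[A'] B' ⊗[A'] B' := (h1.tensorEquiv B').symm
  have he2 : ∀ (b' : B') (b : B), e2 (b' ⊗ₜ b) = b' ⊗ₜ algebraMap B B' b := by
    intro b' b
    rw [LinearEquiv.symm_apply_eq]
    have h3 : h1.equiv.symm (algebraMap B B' b) = 1 ⊗ₜ b := h1.equiv_symm_apply b
    simp [IsBaseChange.tensorEquiv, h3]
  have hφbc : IsBaseChange A' φ.toLinearMap := by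
    refine IsBaseChange.of_equiv (h2.equiv ≪≫ₗ e2) (fun t => ?_)
    induction t with
    | zero => simp
    | tmul b₁ b₂ => simp [he2, hφ_tmul, IsBaseChange.equiv_tmul]
    | add x y hx hy => simp only [tmul_add, map_add, hx, hy]
  have hμφ : ∀ t : B ⊗[A] B, Algebra.TensorProduct.lmul' (S := B') A' (φ t) =
      algebraMap B B' (Algebra.TensorProduct.lmul' (S := B) A t) := by
    intro t
    induction t with
    | zero => simp
    | tmul b₁ b₂ => rw [hφ_tmul]; simp
    | add x y hx hy => simp only [map_add, hx, hy]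
  -- `φ` maps the annihilator into the annihilator
  have hφann : ∀ t ∈ Submodule.annihilator (KaehlerDifferential.ideal A B),
      φ t ∈ Submodule.annihilator (KaehlerDifferential.ideal A' B') := by
    intro t ht
    rw [mem_annihilator_ideal_iff] at ht ⊢
    intro s'
    have hbc : IsBaseChange B (IsScalarTower.toAlgHom A A' B').toLinearMap :=
      Algebra.IsPushout.out
    have hB : ∀ b : B, algebraMap B B' b ∈ eqSub (R := A') (φ t) := by
      intro b
      rw [mem_eqSub]
      have e1 : (1 : B') ⊗ₜ[A'] algebraMap B B' b = φ ((1 : B) ⊗ₜ b) := by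
        rw [hφ_tmul, map_one]
      have e2 : algebraMap B B' b ⊗ₜ[A'] (1 : B') = φ (b ⊗ₜ (1 : B)) := by
        rw [hφ_tmul, map_one]
      rw [e1, e2, ← map_mul, ← map_mul, ht b]
    refine hbc.inductionOn s' (fun s' => s' ∈ eqSub (R := A') (φ t)) ?_ ?_ ?_ ?_
    · exact zero_mem _
    · intro a'
      exact (eqSub (φ t)).algebraMap_mem a'
    · intro b s' hs'
      rw [Algebra.smul_def]
      exact (eqSub (φ t)).mul_mem (hB b) hs'
    · intro x y hx hy
      exact add_mem hx hy
  obtain ⟨G, hG⟩ := (Algebra.FiniteType.out : (⊤ : Subalgebra A B).FG)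
  let gen : (↑G : Set B) → B ⊗[A] B :=
    fun b => (1 : B) ⊗ₜ[A] (b : B) - (b : B) ⊗ₜ[A] (1 : B)
  let m : (↑G : Set B) → (B ⊗[A] B →ₗ[A] B ⊗[A] B) := fun b => LinearMap.mulLeft A (gen b)
  have hker : ∀ k ∈ LinearMap.ker (LinearMap.pi m),
      k ∈ Submodule.annihilator (KaehlerDifferential.ideal A B) := by
    intro k hk
    apply mem_annihilator_ideal_of_adjoin (↑G) hG
    intro s hs
    have := congrFun (LinearMap.mem_ker.mp hk) ⟨s, hs⟩
    simp only [LinearMap.pi_apply, m, LinearMap.mulLeft_apply, gen, Pi.zero_apply] at this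
    rw [sub_mul, sub_eq_zero] at this
    rw [mul_comm k, mul_comm k]
    exact this
  let ι := hφbc.equiv
  have hιmul : ∀ (s : B ⊗[A] B) (x : A' ⊗[A] (B ⊗[A] B)),
      φ s * ι x = ι ((LinearMap.mulLeft A s).lTensor A' x) := by
    intro s x
    induction x with
    | zero => simp
    | tmul a' t =>
      simp only [LinearMap.lTensor_tmul, LinearMap.mulLeft_apply, ι, IsBaseChange.equiv_tmul,
        AlgHom.toLinearMap_apply, map_mul]
      rw [mul_smul_comm]
    | add x y hx hy => simp only [map_add, mul_add, hx, hy]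
  have key : ∀ z : A' ⊗[A] ↥(LinearMap.ker (LinearMap.pi m)),
      Algebra.TensorProduct.lmul' (S := B') A'
        (ι ((LinearMap.ker (LinearMap.pi m)).subtype.lTensor A' z)) ∈
          (Disc.noetherDifferent A B).map (algebraMap B B') := by
    intro z
    induction z with
    | zero => simp
    | tmul a' k =>
      simp only [LinearMap.lTensor_tmul, Submodule.subtype_apply, ι, IsBaseChange.equiv_tmul,
        AlgHom.toLinearMap_apply]
      rw [map_smul, hμφ, Algebra.smul_def]
      apply Ideal.mul_mem_left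
      apply Ideal.mem_map_of_mem
      exact Ideal.mem_map_of_mem _ (hker k k.2)
    | add x y hx hy =>
      simp only [map_add]
      exact add_mem hx hy
  have hsub : ∀ t' ∈ Submodule.annihilator (KaehlerDifferential.ideal A' B'),
      Algebra.TensorProduct.lmul' (S := B') A' t' ∈
        (Disc.noetherDifferent A B).map (algebraMap B B') := by
    intro t' ht'
    obtain ⟨x, rfl⟩ := ι.surjective t'
    have hx : ∀ b : (↑G : Set B), (m b).lTensor A' x = 0 := by
      intro b
      apply ι.injective
      rw [← hιmul, map_zero]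
      have hmem : φ (gen b) ∈ KaehlerDifferential.ideal A' B' := by
        rw [RingHom.mem_ker]
        have : Algebra.TensorProduct.lmul' (S := B') A' (φ (gen b)) =
            algebraMap B B' (Algebra.TensorProduct.lmul' (S := B) A (gen b)) := hμφ _
        refine this.trans ?_
        simp [gen]
      rw [mul_comm]
      exact Submodule.mem_annihilator.mp ht' _ hmem
    obtain ⟨z, hz⟩ := mem_range_lTensor_of_flat m x hx
    rw [← hz]
    exact key z
  apply le_antisymm
  · unfold Disc.noetherDifferent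
    rw [Ideal.map_le_iff_le_comap]
    intro t' ht'
    exact hsub t' ht'
  · unfold Disc.noetherDifferent
    rw [Ideal.map_le_iff_le_comap, Ideal.map_le_iff_le_comap]
    intro t ht
    have h3 : Algebra.TensorProduct.lmul' (S := B') A' (φ t) ∈
        Ideal.map (Algebra.TensorProduct.lmul' (S := B') A')
          (Submodule.annihilator (RingHom.ker (Algebra.TensorProduct.lmul' (S := B') A'))) :=
      Ideal.mem_map_of_mem _ (hφann t ht)
    rw [hμφ] at h3
    exact h3

end Groth.Agent.S2197
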