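import Groth.Statements.S2215
import Mathlib
import Groth.Agent.S2197

set_option autoImplicit false
universe u v
open Disc

namespace Groth.Agent.S2215

open TensorProduct

section Helpers

variable {A : Type u} {B : Type v} [CommRing A] [CommRing B] [Algebra A B]

/-- `θ ψ t = (ψ ⊗ id) t`, read in `B` -/
noncomputable def θ : (B →ₗ[A] A) →ₗ[A] (B ⊗[A] B) →ₗ[A] B :=
  (LinearMap.llcomp A (B ⊗[A] B) (A ⊗[A] B) B (TensorProduct.lid A B).toLinearMap) ∘ₗ
    (LinearMap.rTensorHom B)

@[simp] theorem θ_tmul (ψ : B →ₗ[A] A) (x y : B) : θ ψ (x ⊗ₜ[A] y) = ψ x • y := by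
  simp [θ]

theorem θ_left (ψ : B →ₗ[A] A) (b : B) (t : B ⊗[A] B) :
    θ ψ ((b ⊗ₜ[A] (1 : B)) * t) = θ (ψ ∘ₗ LinearMap.mulLeft A b) t := by
  induction t with
  | zero => simp
  | tmul x y => simp [Algebra.TensorProduct.tmul_mul_tmul]
  | add x y hx hy => simp only [mul_add, map_add, hx, hy]

theorem θ_right (ψ : B →ₗ[A] A) (b : B) (t : B ⊗[A] B) :
    θ ψ (((1 : B) ⊗ₜ[A] b) * t) = b * θ ψ t := by
  induction t with
  | zero => simp
  | tmul x y => simp [Algebra.TensorProduct.tmul_mul_tmul]
  | add x y hx hy => simp only [mul_add, map_add, hx, hy]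

theorem eq_sum {ι : Type*} [Fintype ι] [DecidableEq ι] (b : Module.Basis ι A B) (t : B ⊗[A] B) :
    t = ∑ j, b j ⊗ₜ[A] θ (b.coord j) t := by
  induction t with
  | zero => simp
  | tmul x y =>
    simp only [θ_tmul, Module.Basis.coord_apply]
    conv_lhs => rw [← b.sum_repr x]
    rw [TensorProduct.sum_tmul]
    refine Finset.sum_congr rfl (fun j _ => ?_)
    rw [TensorProduct.smul_tmul]
  | add x y hx hy =>
    conv_lhs => rw [hx, hy]
    rw [← Finset.sum_add_distrib]
    simp [tmul_add]

theorem trace_eq_sum {ι : Type*} [Fintype ι] [DecidableEq ι] (b : Module.Basis ι A B) :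
    Algebra.trace A B = ∑ j, (b.coord j) ∘ₗ LinearMap.mulLeft A (b j) := by
  ext x
  rw [Algebra.trace_eq_matrix_trace b, Matrix.trace, LinearMap.sum_apply]
  refine Finset.sum_congr rfl (fun j _ => ?_)
  simp only [Matrix.diag_apply, Algebra.leftMulMatrix_eq_repr_mul, LinearMap.comp_apply,
    LinearMap.mulLeft_apply, Module.Basis.coord_apply]
  rw [mul_comm]

theorem θ_trace {ι : Type*} [Fintype ι] [DecidableEq ι] (b : Module.Basis ι A B)
    (t : B ⊗[A] B) (ht : t ∈ Submodule.annihilator (KaehlerDifferential.ideal A B)) :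
    θ (Algebra.trace A B) t = Algebra.TensorProduct.lmul' (S := B) A t := by
  rw [Groth.Agent.S2197.mem_annihilator_ideal_iff] at ht
  rw [trace_eq_sum b, map_sum, LinearMap.sum_apply]
  conv_rhs => rw [eq_sum b t, map_sum]
  refine Finset.sum_congr rfl (fun j _ => ?_)
  rw [← θ_left, mul_comm, ← ht (b j), mul_comm, θ_right]
  simp

theorem toLinearMap_sum {ι : Type*} (s : Finset ι) (f : ι → Disc.Omega A B) :
    (∑ j ∈ s, f j).toLinearMap = ∑ j ∈ s, (f j).toLinearMap := by
  classical
  induction s using Finset.induction_on with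
  | empty => simp
  | insert a s ha ih => rw [Finset.sum_insert ha, Finset.sum_insert ha, Disc.Omega.add_toLinearMap, ih]

end Helpers

/-- Special case: B finite free over A (the source allows flat quasi-finite maps of Noetherian rings).
Let omega = Hom_A(B, A) with its B-module structure through the argument and tau in omega the trace.
Then an element of B lies in the Noether different of B over A exactly when it is of the form
phi(tau) for some B-linear map phi : omega -> B. -/
theorem result {A : Type u} {B : Type v} [CommRing A]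
    [CommRing B] [Algebra A B] [IsNoetherianRing A] [Module.Finite A B] [Module.Free A B] :
    (Disc.noetherDifferent A B : Set B) =
      Set.range (fun φ : Disc.Omega A B →ₗ[B] B => φ (Disc.Omega.trace A B)) := by
  classical
  let b : Module.Basis (Module.Free.ChooseBasisIndex A B) A B := Module.Free.chooseBasis A B
  have hsurj : Function.Surjective (Algebra.TensorProduct.lmul' (S := B) A) :=
    fun x => ⟨x ⊗ₜ 1, by simp⟩
  ext d
  constructor
  · intro hd
    have hd' : d ∈ Ideal.map (Algebra.TensorProduct.lmul' (S := B) A)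
        (Submodule.annihilator (RingHom.ker (Algebra.TensorProduct.lmul' (S := B) A))) := hd
    rw [Ideal.mem_map_iff_of_surjective _ hsurj] at hd'
    obtain ⟨t, ht, rfl⟩ := hd'
    have ht' := (Groth.Agent.S2197.mem_annihilator_ideal_iff t).mp ht
    let Φ : Disc.Omega A B →ₗ[B] B :=
      { toFun := fun ψ => θ ψ.toLinearMap t
        map_add' := fun ψ₁ ψ₂ => by simp
        map_smul' := fun c ψ => by
          simp only [RingHom.id_apply, smul_eq_mul]
          have : (c • ψ).toLinearMap = ψ.toLinearMap ∘ₗ LinearMap.mulLeft A c := rfl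
          rw [this, ← θ_left, mul_comm, ← ht' c, mul_comm, θ_right] }
    refine ⟨Φ, ?_⟩
    show θ (Disc.Omega.trace A B).toLinearMap t = _
    exact θ_trace b t ht
  · rintro ⟨Φ, rfl⟩
    let t : B ⊗[A] B := ∑ j, b j ⊗ₜ[A] Φ ⟨b.coord j⟩
    have hΘ : ∀ ψ : Disc.Omega A B, θ ψ.toLinearMap t = Φ ψ := by
      intro ψ
      simp only [t, map_sum, θ_tmul]
      have e1 : ∀ j, ψ.toLinearMap (b j) • Φ ⟨b.coord j⟩ =
          Φ (algebraMap A B (ψ.toLinearMap (b j)) • (⟨b.coord j⟩ : Disc.Omega A B)) := by
        intro j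
        rw [map_smul, smul_eq_mul, Algebra.smul_def]
      simp_rw [e1]
      rw [← map_sum]
      congr 1
      apply Disc.Omega.ext
      rw [toLinearMap_sum]
      ext x
      rw [LinearMap.sum_apply]
      simp only [Disc.Omega.smul_toLinearMap_apply, Module.Basis.coord_apply]
      conv_rhs => rw [← b.sum_repr x, map_sum]
      refine Finset.sum_congr rfl (fun j _ => ?_)
      rw [← Algebra.smul_def, map_smul, map_smul, Finsupp.smul_apply, smul_eq_mul, smul_eq_mul,
        mul_comm]
    have hann : t ∈ Submodule.annihilator (KaehlerDifferential.ideal A B) := by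
      rw [Groth.Agent.S2197.mem_annihilator_ideal_iff]
      intro s
      rw [eq_sum b (t * ((1 : B) ⊗ₜ[A] s)), eq_sum b (t * (s ⊗ₜ[A] (1 : B)))]
      refine Finset.sum_congr rfl (fun j _ => ?_)
      congr 1
      rw [mul_comm t, mul_comm t, θ_right, θ_left]
      have h1 := hΘ ⟨b.coord j⟩
      have h2 := hΘ (s • (⟨b.coord j⟩ : Disc.Omega A B))
      have h3 : (s • (⟨b.coord j⟩ : Disc.Omega A B)).toLinearMap =
          b.coord j ∘ₗ LinearMap.mulLeft A s := rfl
      rw [h3] at h2
      rw [h2, map_smul, smul_eq_mul, ← h1]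
    have h4 : Φ (Disc.Omega.trace A B) = Algebra.TensorProduct.lmul' (S := B) A t := by
      rw [← hΘ]
      exact θ_trace b t hann
    show Φ (Disc.Omega.trace A B) ∈ Disc.noetherDifferent A B
    rw [h4]
    exact Ideal.mem_map_of_mem _ hann

end Groth.Agent.S2215
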