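import Groth.Statements.S2195
import Mathlib
import Groth.Agent.S2215

set_option autoImplicit false
universe u v
open Disc

namespace Groth.Agent.S2195

open TensorProduct
open Groth.Agent.S2215 (θ θ_tmul θ_left θ_right eq_sum θ_trace trace_eq_sum)

/-- Ring form of the statement: let B be an A-algebra which is finite free as an A-module with basis b.
Then A -> B is etale if and only if the discriminant of b (the determinant of the matrix of traces
Tr(b_i b_j)) is a unit of A, i.e. the discriminant locus is empty. -/
theorem result {A : Type u} {B : Type v} [CommRing A] [CommRing B]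
    [Algebra A B] {ι : Type} [Fintype ι] [DecidableEq ι] (b : Module.Basis ι A B) :
    Algebra.Etale A B ↔ IsUnit (Algebra.discr A b) := by
  classical
  haveI : Module.Finite A B := Module.Finite.of_basis b
  haveI : Module.Free A B := Module.Free.of_basis b
  set M := Algebra.traceMatrix A b with hM
  have hMapp : ∀ i j, M i j = Algebra.trace A B (b i * b j) := fun i j => rfl
  rw [Algebra.discr_def]
  constructor
  · intro hE
    obtain ⟨t, ht, hμ⟩ :=
      (Algebra.FormallyUnramified.iff_exists_tensorProduct (R := A) (S := B)).mp inferInstance
    have hann : t ∈ Submodule.annihilator (KaehlerDifferential.ideal A B) := by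
      rw [Groth.Agent.S2197.mem_annihilator_ideal_iff]
      intro s
      have := ht s
      rw [sub_mul, sub_eq_zero] at this
      rw [mul_comm t, mul_comm t]
      exact this
    have hann' := (Groth.Agent.S2197.mem_annihilator_ideal_iff t).mp hann
    have hkey : ∀ j, b j = ∑ i, M i j • θ (b.coord i) t := by
      intro j
      have e1 : Algebra.trace A B ∘ₗ LinearMap.mulLeft A (b j) = ∑ i, M i j • b.coord i := by
        apply b.ext
        intro k
        simp only [LinearMap.comp_apply, LinearMap.mulLeft_apply, LinearMap.sum_apply,
          LinearMap.smul_apply, Module.Basis.coord_apply, Module.Basis.repr_self, smul_eq_mul,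
          Finsupp.single_apply, mul_ite, mul_one, mul_zero, hMapp]
        rw [mul_comm, Finset.sum_ite_eq]
        simp
      calc b j = b j * θ (Algebra.trace A B) t := by rw [θ_trace b t hann, hμ, mul_one]
        _ = θ (Algebra.trace A B) (((1 : B) ⊗ₜ[A] b j) * t) := (θ_right _ _ _).symm
        _ = θ (Algebra.trace A B) ((b j ⊗ₜ[A] (1 : B)) * t) := by
            rw [mul_comm, hann' (b j), mul_comm]
        _ = θ (Algebra.trace A B ∘ₗ LinearMap.mulLeft A (b j)) t := θ_left _ _ _
        _ = ∑ i, M i j • θ (b.coord i) t := by
            rw [e1, map_sum, LinearMap.sum_apply]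
            simp
    let N : Matrix ι ι A := Matrix.of fun k i => b.repr (θ (b.coord i) t) k
    have hNM : N * M = 1 := by
      ext k j
      rw [Matrix.mul_apply]
      have := congrArg (fun x => b.repr x k) (hkey j)
      simp only [map_sum, map_smul, Finsupp.coe_finset_sum, Finsupp.smul_apply, Finset.sum_apply,
        b.repr_self, smul_eq_mul] at this
      rw [Matrix.one_apply, Finsupp.single_apply] at *
      simp only [N, Matrix.of_apply]
      rw [eq_comm] at this
      convert this using 1
      · exact Finset.sum_congr rfl (fun i _ => mul_comm _ _)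
      · simp [eq_comm]
    exact Matrix.isUnit_det_of_left_inverse hNM
  · intro hdet
    have hMM : M * M⁻¹ = 1 := Matrix.mul_nonsing_inv M hdet
    have hMM' : M⁻¹ * M = 1 := Matrix.nonsing_inv_mul M hdet
    have hND : ∀ z : B, (∀ l, Algebra.trace A B (z * b l) = 0) → z = 0 := by
      intro z hz
      have h1 : Matrix.vecMul (fun j => b.repr z j) M = 0 := by
        ext l
        simp only [Matrix.vecMul, dotProduct, Pi.zero_apply, hMapp]
        rw [← hz l]
        conv_rhs => rw [← b.sum_repr z, Finset.sum_mul, map_sum]
        refine Finset.sum_congr rfl (fun j _ => ?_)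
        rw [smul_mul_assoc, map_smul, smul_eq_mul]
      have h2 : (fun j => b.repr z j) = 0 := by
        have := congrArg (fun v => Matrix.vecMul v M⁻¹) h1
        simp only [Matrix.vecMul_vecMul, hMM, Matrix.vecMul_one, Matrix.zero_vecMul] at this
        exact this
      apply b.repr.injective
      ext j
      simpa using congrFun h2 j
    let d : ι → B := fun k => ∑ j, M⁻¹ k j • b j
    have hd : ∀ k l, Algebra.trace A B (d k * b l) = if k = l then 1 else 0 := by
      intro k l
      simp only [d, Finset.sum_mul, map_sum, smul_mul_assoc, map_smul, smul_eq_mul]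
      have := congrFun (congrFun hMM' k) l
      rw [Matrix.mul_apply, Matrix.one_apply] at this
      exact this
    have hcoord : ∀ k (y : B), b.coord k y = Algebra.trace A B (y * d k) := by
      intro k y
      conv_rhs => rw [← b.sum_repr y, Finset.sum_mul, map_sum]
      simp only [smul_mul_assoc, map_smul, smul_eq_mul, mul_comm (b _) (d k), hd]
      simp [Finset.sum_ite_eq]
    let t : B ⊗[A] B := ∑ k, b k ⊗ₜ[A] d k
    have hθt : ∀ ψ : B →ₗ[A] A, θ ψ t = ∑ k, ψ (b k) • d k := by
      intro ψ
      simp [t, map_sum]
    have hann : ∀ s : B, t * ((1 : B) ⊗ₜ[A] s) = t * (s ⊗ₜ[A] (1 : B)) := by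
      intro s
      rw [eq_sum b (t * ((1 : B) ⊗ₜ[A] s)), eq_sum b (t * (s ⊗ₜ[A] (1 : B)))]
      refine Finset.sum_congr rfl (fun k _ => ?_)
      congr 1
      rw [mul_comm t, mul_comm t, θ_right, θ_left, hθt, hθt]
      apply sub_eq_zero.mp
      apply hND
      intro l
      rw [sub_mul, map_sub, sub_eq_zero]
      simp only [Finset.mul_sum, Finset.sum_mul, map_sum, smul_mul_assoc, mul_smul_comm, map_smul,
        smul_eq_mul, LinearMap.comp_apply, LinearMap.mulLeft_apply]
      have e1 : ∀ i, Algebra.trace A B (s * d i * b l) = b.coord i (s * b l) := by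
        intro i
        rw [hcoord, mul_right_comm]
      simp only [e1, hd]
      simp [Finsupp.single_apply]
    have hμ : Algebra.TensorProduct.lmul' (S := B) A t = 1 := by
      apply sub_eq_zero.mp
      apply hND
      intro l
      rw [sub_mul, map_sub, sub_eq_zero, one_mul]
      simp only [t, map_sum, Algebra.TensorProduct.lmul'_apply_tmul, Finset.sum_mul]
      conv_rhs => rw [trace_eq_sum b, LinearMap.sum_apply]
      refine Finset.sum_congr rfl (fun k _ => ?_)
      rw [LinearMap.comp_apply, LinearMap.mulLeft_apply, hcoord, mul_right_comm]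
    haveI : Algebra.FormallyUnramified A B := by
      rw [Algebra.FormallyUnramified.iff_exists_tensorProduct]
      refine ⟨t, fun s => ?_, hμ⟩
      rw [sub_mul, sub_eq_zero, mul_comm, hann s, mul_comm]
    haveI : Module.FinitePresentation A B := Module.finitePresentation_of_projective A B
    haveI : Algebra.FinitePresentation A B := Algebra.FinitePresentation.of_finitePresentation A B
    exact Algebra.Etale.of_formallyUnramified_of_flat

end Groth.Agent.S2195
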