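import Groth.Statements.S0294
import Mathlib.LinearAlgebra.FreeModule.Finite.Matrix
import Mathlib.AlgebraicGeometry.Morphisms.Finite
import Mathlib.AlgebraicGeometry.AffineScheme

set_option autoImplicit false
universe u
open Pi1

namespace Groth.Agent.S0294

open AlgebraicGeometry CategoryTheory CategoryTheory.Limits in
/-- For a finite étale cover Y of a scheme X and a point ξ : Spec Ω → X with values in a field Ω, the
fibre of Y over ξ (the set of Ω-valued points of Y lying over ξ) is finite. -/
theorem result {X : Scheme.{u}} {Ω : Type u} [Field Ω] (ξ : Spec (CommRingCat.of Ω) ⟶ X) (Y : FEt.Cat X) :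
    Finite (FEt.fiberObj ξ Y) := by
  have hfin : IsFinite Y.hom := Y.prop.1
  let P := pullback Y.hom ξ
  let snd : P ⟶ Spec (CommRingCat.of Ω) := pullback.snd Y.hom ξ
  have hsnd : IsFinite snd := inferInstance
  have hP : IsAffine P := isAffine_of_isAffineHom snd
  let e := Scheme.ΓSpecIso (CommRingCat.of Ω)
  let ψ : CommRingCat.of Ω ⟶ Γ(P, ⊤) := e.inv ≫ snd.appTop
  let _ : Algebra Ω Γ(P, ⊤) := ψ.hom.toAlgebra
  have hmodfin : Module.Finite Ω Γ(P, ⊤) := by
    have h1 : snd.appTop.hom.Finite := Scheme.Hom.finite_appTop snd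
    have h2 : ψ.hom.Finite := by
      have : ψ.hom = snd.appTop.hom.comp e.inv.hom := rfl
      rw [this]
      exact RingHom.Finite.comp h1 (RingHom.Finite.of_surjective _
        (e.symm.commRingCatIsoToRingEquiv.surjective))
    exact h2
  -- the lift of a section
  let T : FEt.fiberObj ξ Y → (Spec (CommRingCat.of Ω) ⟶ P) := fun s =>
    pullback.lift s.1 (𝟙 _) (by rw [s.2, Category.id_comp])
  have hT1 : ∀ s, T s ≫ pullback.fst Y.hom ξ = s.1 := fun s => pullback.lift_fst _ _ _
  have hT2 : ∀ s, T s ≫ snd = 𝟙 _ := fun s => pullback.lift_snd _ _ _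
  let F : FEt.fiberObj ξ Y → (Γ(P, ⊤) →ₐ[Ω] Ω) := fun s =>
    { toRingHom := ((T s).appTop ≫ e.hom).hom
      commutes' := by
        intro r
        change ((e.inv ≫ snd.appTop) ≫ (T s).appTop ≫ e.hom).hom r = r
        have : (e.inv ≫ snd.appTop) ≫ (T s).appTop ≫ e.hom = 𝟙 _ := by
          rw [Category.assoc, ← Category.assoc snd.appTop, ← Scheme.Hom.comp_appTop, hT2 s]
          simp
        rw [this]
        rfl }
  apply Finite.of_injective F
  intro s s' hss
  have h1 : ((T s).appTop ≫ e.hom).hom = ((T s').appTop ≫ e.hom).hom :=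
    congrArg AlgHom.toRingHom hss
  have h2 : (T s).appTop ≫ e.hom = (T s').appTop ≫ e.hom := CommRingCat.hom_ext h1
  have h3 : (T s).appTop = (T s').appTop := (cancel_mono e.hom).mp h2
  have h4 : T s = T s' := ext_of_isAffine h3
  apply Subtype.ext
  rw [← hT1 s, ← hT1 s', h4]

end Groth.Agent.S0294
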