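import Groth.Statements.S1131
import Mathlib.AlgebraicGeometry.Sites.Fpqc
-- import your own Groth.Agent.* helpers here

set_option autoImplicit false
open CategoryTheory CategoryTheory.Limits AlgebraicGeometry Opposite
universe u
open Desc

namespace Groth.Agent.S1131

/-- If p : X ⟶ S is surjective, flat and quasi-compact, then the functor sending a scheme over S to its
canonical descent datum relative to p is full. (Faithfulness, which needs no quasi-compactness, is a
companion statement.) (Descent data are taken in functor-of-points form, equivalent by the Yoneda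
lemma to the usual form of an isomorphism over X ×_S X satisfying the cocycle condition.) -/
theorem result {X S : Scheme.{u}} (p : X ⟶ S) [Surjective p] [Flat p] [QuasiCompact p] :
    (Desc.toDD p).Full := by
  constructor
  intro U U' f
  -- the projection `X ×_S U ⟶ U` is an effective epimorphism
  let q : pullback p U.hom ⟶ U.left := pullback.snd p U.hom
  have : EffectiveEpi q := inferInstance
  let F : pullback p U.hom ⟶ pullback p U'.hom := f.hom.left
  let e : pullback p U.hom ⟶ U'.left := F ≫ pullback.snd p U'.hom
  have hfX : F ≫ pullback.fst p U'.hom = pullback.fst p U.hom := Over.w f.hom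
  have he : ∀ {Z : Scheme.{u}} (a b : Z ⟶ pullback p U.hom), a ≫ q = b ≫ q → a ≫ e = b ≫ e := by
    intro Z a b hab
    let x₀ : Z ⟶ X := a ≫ pullback.fst p U.hom
    let x₁ : Z ⟶ X := b ≫ pullback.fst p U.hom
    have h : x₀ ≫ p = x₁ ≫ p := by
      simp only [x₀, x₁, Category.assoc, pullback.condition]
      rw [← Category.assoc, ← Category.assoc]
      congr 1
    let v : Desc.Lifts (Desc.canonicalDD p U).obj x₀ := ⟨a, rfl⟩
    let w : Desc.Lifts (Desc.canonicalDD p U').obj x₀ := ⟨a ≫ F, by
      show (a ≫ F) ≫ pullback.fst p U'.hom = x₀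
      rw [Category.assoc, hfX]⟩
    have key : (Desc.canMap p U' x₀ x₁ h w).1 = (Desc.canMap p U x₀ x₁ h v).1 ≫ F :=
      f.comm x₀ x₁ h v w rfl
    have hv : (Desc.canMap p U x₀ x₁ h v).1 = b := by
      rw [Desc.canMap_val]
      apply pullback.hom_ext
      · rw [pullback.lift_fst]
      · rw [pullback.lift_snd]
        exact hab
    rw [hv] at key
    have hw : (Desc.canMap p U' x₀ x₁ h w).1 ≫ pullback.snd p U'.hom =
        (a ≫ F) ≫ pullback.snd p U'.hom := by
      rw [Desc.canMap_val, pullback.lift_snd]
      rfl
    rw [key] at hw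
    simp only [e, ← Category.assoc]
    exact hw.symm
  let g : U.left ⟶ U'.left := EffectiveEpi.desc q e he
  have hg : q ≫ g = e := EffectiveEpi.fac q e he
  have hgS : g ≫ U'.hom = U.hom := by
    rw [← cancel_epi q, ← Category.assoc, hg]
    simp only [e, q, Category.assoc]
    rw [← pullback.condition, ← Category.assoc, hfX, pullback.condition]
  refine ⟨Over.homMk g hgS, ?_⟩
  ext1
  ext1
  show pullback.map p U.hom p U'.hom (𝟙 X) g (𝟙 S) (by simp) (by simp [hgS]) = F
  apply pullback.hom_ext
  · rw [hfX, pullback.map, pullback.lift_fst, Category.comp_id]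
  · rw [pullback.map, pullback.lift_snd]
    exact hg

end Groth.Agent.S1131
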