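import Groth.Statements.S1133
import Groth.Agent.S9858
import Groth.Agent.Lib.Helper26.AffineDescentDD

set_option autoImplicit false
open CategoryTheory CategoryTheory.Limits AlgebraicGeometry Opposite
universe u
open Desc

namespace Groth.Agent.S1133

/-- Let p : X ⟶ S be a surjective, flat and quasi-compact morphism of schemes. Every descent datum
relative to p whose underlying scheme is affine over X is effective: it is isomorphic to the
canonical descent datum of some scheme over S. (Descent data are taken in functor-of-points form,
equivalent by the Yoneda lemma to the usual form of an isomorphism over X ×_S X satisfying the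
cocycle condition.) -/
theorem result {X S : Scheme.{u}} (p : X ⟶ S) [Surjective p] [Flat p] [QuasiCompact p]
    (D : Desc.SchDD p) [IsAffineHom D.obj.hom] : ∃ U : Over S, Nonempty ((Desc.toDD p).obj U ≅ D) := by
  classical
  let fU : PUnit.{u + 1} → (X ⟶ S) := fun _ => p
  have hU : Presieve.ofArrows (fun _ : PUnit.{u + 1} => X) fU ∈ Scheme.fpqcPrecoverage S := by
    rw [Presieve.ofArrows_pUnit]
    exact p.singleton_mem_fpqcPrecoverage
  let E : SchDDFam fU := (SchDDFam.ofSchDD p).obj D
  have hE : E.IsEffective := by
    refine Groth.Agent.S9858.result @IsAffineHom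
      (fun m Y V q hq =>
        Groth.Agent.Lib.Helper51.DescMono.sigmaMap_of_isZariskiLocalAtTarget @IsAffineHom Y V q hq)
      ?_ fU hU E (fun _ => (inferInstance : IsAffineHom D.obj.hom))
    intro X' S' p' hX' hS' hp' _ D' hD'
    have : IsAffine D'.obj.left := isAffine_of_isAffineHom D'.obj.hom
    exact Groth.Agent.Lib.Helper26.AffineDescentDD.exists_of_isAffine p' D'
  obtain ⟨U, ⟨iso⟩⟩ := hE
  exact ⟨U, ⟨(SchDDFam.toSchDD p).mapIso iso⟩⟩

end Groth.Agent.S1133
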