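import Groth.Statements.S0249
import Mathlib.RingTheory.Ideal.KrullsHeightTheorem
import Mathlib.RingTheory.Ideal.MinimalPrime.Basic

set_option autoImplicit false
universe u
open Pi1

namespace Groth.Agent.S0249


/-- In a Noetherian ring, a prime `p` of height at least 2 containing `f` strictly contains a
prime of height at least 1 containing `f`. -/
theorem exists_lt_of_two_le_height {A : Type u} [CommRing A] [IsNoetherianRing A] (f : A)
    (p : Ideal A) [hp : p.IsPrime] (hf : f ∈ p) (h2 : 2 ≤ p.height) :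
    ∃ q : Ideal A, q.IsPrime ∧ f ∈ q ∧ q < p ∧ 1 ≤ q.height := by
  have e1 : p.height = Order.height (⟨p, hp⟩ : PrimeSpectrum A) :=
    PrimeSpectrum.height_eq_orderHeight ⟨p, hp⟩
  rw [e1] at h2
  obtain ⟨c, hlast, hlen⟩ := Order.exists_series_of_le_height (⟨p, hp⟩ : PrimeSpectrum A)
    (n := 2) (by exact_mod_cast h2)
  -- the three primes of the chain
  have h01 : c ⟨0, by omega⟩ < c ⟨1, by omega⟩ := c.strictMono (by simp [Fin.lt_def])
  have h12 : c ⟨1, by omega⟩ < c ⟨2, by omega⟩ := c.strictMono (by simp [Fin.lt_def])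
  have h2p : c ⟨2, by omega⟩ = ⟨p, hp⟩ := by
    rw [← hlast]
    congr 1
    ext
    simp [hlen]
  set p0 := (c ⟨0, by omega⟩).asIdeal with hp0
  set p1 := (c ⟨1, by omega⟩).asIdeal with hp1
  have hp0prime : p0.IsPrime := (c ⟨0, by omega⟩).isPrime
  have hp1prime : p1.IsPrime := (c ⟨1, by omega⟩).isPrime
  have h01' : p0 < p1 := h01
  have h12' : p1 < p := by
    have : (c ⟨1, by omega⟩).asIdeal < (c ⟨2, by omega⟩).asIdeal := h12
    rwa [h2p] at this
  have hone_le : ∀ q : Ideal A, q.IsPrime → p0 < q → 1 ≤ q.height := by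
    intro q hq hlt
    have := Ideal.height_strict_mono_of_isPrime_of_isPrime hlt
    exact Order.one_le_iff_pos.mpr (lt_of_le_of_lt zero_le this)
  by_cases hfp0 : f ∈ p0
  · exact ⟨p1, hp1prime, h01'.le hfp0, h12', hone_le p1 hp1prime h01'⟩
  · have hIp : p0 ⊔ Ideal.span {f} ≤ p :=
      sup_le (h01'.le.trans h12'.le) ((Ideal.span_singleton_le_iff_mem _).mpr hf)
    obtain ⟨q, hqmin, hqp⟩ := Ideal.exists_minimalPrimes_le hIp
    have hqprime : q.IsPrime := hqmin.isPrime
    have hp0q : p0 ≤ q := le_sup_left.trans hqmin.1.2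
    have hfq : f ∈ q := hqmin.1.2 (Ideal.mem_sup_right (Ideal.mem_span_singleton_self f))
    have hp0q' : p0 < q := lt_of_le_of_ne hp0q (fun h => hfp0 (h ▸ hfq))
    refine ⟨q, hqprime, hfq, lt_of_le_of_ne hqp ?_, hone_le q hqprime hp0q'⟩
    rintro rfl
    -- `q = p` is minimal over `p0 + (f)`: contradiction with the chain `p0 < p1 < p`.
    have hle1 := Ideal.map_height_le_one_of_mem_minimalPrimes hqmin
    set φ := Ideal.Quotient.mk p0 with hφ
    have hker : RingHom.ker φ = p0 := Ideal.mk_ker
    have hsurj : Function.Surjective φ := Ideal.Quotient.mk_surjective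
    have hq1 : (p1.map φ).IsPrime :=
      Ideal.map_isPrime_of_surjective hsurj (hker.trans_le h01'.le)
    have hqq : (q.map φ).IsPrime :=
      Ideal.map_isPrime_of_surjective hsurj (hker.trans_le hp0q)
    have hcomap1 : (p1.map φ).comap φ = p1 := by
      rw [Ideal.comap_map_of_surjective _ hsurj, ← RingHom.ker_eq_comap_bot, hker]
      exact sup_eq_left.mpr h01'.le
    have hcomapq : (q.map φ).comap φ = q := by
      rw [Ideal.comap_map_of_surjective _ hsurj, ← RingHom.ker_eq_comap_bot, hker]
      exact sup_eq_left.mpr hp0q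
    have hlt1 : p1.map φ < q.map φ := by
      refine lt_of_le_of_ne (Ideal.map_mono h12'.le) ?_
      intro h
      have := congrArg (Ideal.comap φ) h
      rw [hcomap1, hcomapq] at this
      exact h12'.ne this
    have hbot : (⊥ : Ideal (A ⧸ p0)) < p1.map φ := by
      refine lt_of_le_of_ne bot_le ?_
      intro h
      have := congrArg (Ideal.comap φ) h
      rw [hcomap1, ← RingHom.ker_eq_comap_bot, hker] at this
      exact h01'.ne this
    have hbotprime : (⊥ : Ideal (A ⧸ p0)).IsPrime := Ideal.isPrime_bot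
    have s1 := Ideal.height_strict_mono_of_isPrime_of_isPrime hbot
    have s2 := Ideal.height_strict_mono_of_isPrime_of_isPrime hlt1
    have : (2 : ℕ∞) ≤ (q.map φ).height := by
      have a1 : 1 ≤ (p1.map φ).height := Order.one_le_iff_pos.mpr (lt_of_le_of_lt zero_le s1)
      have a2 : (p1.map φ).height + 1 ≤ (q.map φ).height := Order.add_one_le_of_lt s2
      calc (2 : ℕ∞) = 1 + 1 := by norm_num
        _ ≤ (p1.map φ).height + 1 := by gcongr
        _ ≤ _ := a2
    have : (2 : ℕ∞) ≤ 1 := this.trans hle1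
    exact absurd this (by norm_num)

open AlgebraicGeometry CategoryTheory CategoryTheory.Limits in
/-- Let A be a Noetherian local ring of dimension at least 1 and f an element of its maximal ideal. Then
some prime ideal of height exactly 1 contains f. -/
theorem result (A : Type u) [CommRing A] [IsNoetherianRing A] [IsLocalRing A]
    (h : (1 : WithBot ℕ∞) ≤ ringKrullDim A) (f : A) (hf : f ∈ IsLocalRing.maximalIdeal A) :
    ∃ p : Ideal A, p.IsPrime ∧ f ∈ p ∧ p.height = 1 := by
  classical
  -- the set of heights of primes containing `f` of height at least one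
  let T : Set ℕ∞ := {n | ∃ p : Ideal A, p.IsPrime ∧ f ∈ p ∧ 1 ≤ p.height ∧ p.height = n}
  have hT : T.Nonempty := by
    refine ⟨(IsLocalRing.maximalIdeal A).height, IsLocalRing.maximalIdeal A, inferInstance, hf, ?_, rfl⟩
    have : ((IsLocalRing.maximalIdeal A).height : WithBot ℕ∞) = ringKrullDim A :=
      IsLocalRing.maximalIdeal_height_eq_ringKrullDim
    rw [← this] at h
    exact_mod_cast h
  obtain ⟨p, hp, hfp, h1, hpn⟩ := csInf_mem hT
  have hmin : ∀ q : Ideal A, q.IsPrime → f ∈ q → 1 ≤ q.height → p.height ≤ q.height := by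
    intro q hq hfq hq1
    rw [hpn]
    exact csInf_le (OrderBot.bddBelow T) ⟨q, hq, hfq, hq1, rfl⟩
  refine ⟨p, hp, hfp, le_antisymm ?_ h1⟩
  by_contra hlt
  have h2 : 2 ≤ p.height := by
    have : 1 < p.height := not_le.mp hlt
    have := Order.add_one_le_of_lt this
    calc (2 : ℕ∞) = 1 + 1 := by norm_num
      _ ≤ p.height := this
  obtain ⟨q, hq, hfq, hqp, hq1⟩ := exists_lt_of_two_le_height f p hfp h2
  have := Ideal.height_strict_mono_of_isPrime_of_isPrime hqp
  exact absurd (hmin q hq hfq hq1) (not_le.mpr this)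

end Groth.Agent.S0249
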