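import Groth.Statements.S12513
-- import your own Groth.Agent.* helpers here

set_option autoImplicit false
universe u
open Mero

namespace Groth.Agent.S12513

open AlgebraicGeometry in
/-- For a scheme X and an affine open U of X, the sections of O_X over U with nonzerodivisor germ at
every point of U are exactly the nonzerodivisors of the ring O_X(U). No Noetherian hypothesis is
needed. -/
theorem result (X : Scheme.{u}) (U : X.Opens)
    (hU : IsAffineOpen U) : Mero.regSub X U = nonZeroDivisors Γ(X, U) := by
  ext f
  constructor
  · -- germwise regular ⟹ nonzerodivisor (holds on any open of a scheme)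
    intro hf
    rw [mem_nonZeroDivisors_iff_right]
    intro g hg
    apply TopCat.Presheaf.section_ext X.sheaf U
    intro x hx
    have h1 := hf ⟨x, hx⟩
    change X.presheaf.germ U x hx f ∈ _ at h1
    rw [mem_nonZeroDivisors_iff_right] at h1
    change X.presheaf.germ U x hx g = X.presheaf.germ U x hx 0
    rw [map_zero]
    apply h1
    rw [← map_mul, hg, map_zero]
  · -- nonzerodivisor ⟹ germwise regular, by localization
    intro hf x
    let _ := X.presheaf.algebra_section_stalk x
    have := hU.isLocalization_stalk x
    have := IsLocalization.map_nonZeroDivisors_le (hU.primeIdealOf x).asIdeal.primeCompl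
      (X.presheaf.stalk x.1) (R := Γ(X, U))
    exact this ⟨f, hf, rfl⟩

end Groth.Agent.S12513
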