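import Groth.Statements.S1628
import Mathlib
import Groth.Agent.S1535
import Groth.Agent.Lib.Helper85.RegularLocal

set_option autoImplicit false
universe u
open CategoryTheory CategoryTheory.Limits AlgebraicGeometry
open Variety

namespace Groth.Agent.S1628

/-- If X is smooth over a field k then X is geometrically reduced over k and geometrically regular at
every point. -/
theorem result (k : Type u) [Field k] (X : Scheme.{u}) [X.Over (Spec (CommRingCat.of k))] [Smooth (X ↘ (Spec (CommRingCat.of k)))] :
    GeometricallyReduced (X ↘ (Spec (CommRingCat.of k))) ∧ ∀ x : X, Curv2.IsGeomRegularAt k X x := by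
    have key : ∀ (K : Type u) [Field K] [Algebra k K] (x' : ↥(Curv2.bc k X K)),
        IsRegularLocalRing ((Curv2.bc k X K).presheaf.stalk x') := by
      intro K _ _ x'
      letI : (Curv2.bc k X K).Over (Spec (CommRingCat.of K)) := ⟨Curv2.bcSnd k X K⟩
      haveI : Smooth (Curv2.bc k X K ↘ Spec (CommRingCat.of K)) := by
        change Smooth (pullback.snd _ _)
        infer_instance
      exact Groth.Agent.S1535.result K (Curv2.bc k X K) x'
    refine ⟨?_, fun x k' _ _ _ x' _ => key k' x'⟩
    refine ⟨AlgebraicGeometry.geometrically_iff_of_commRing_of_isClosedUnderIsomorphisms.mpr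
      fun K _ _ => ?_⟩
    apply +allowSynthFailures isReduced_of_isReduced_stalk
    intro x'
    have h1 := key K x'
    have h2 : IsDomain ((Curv2.bc k X K).presheaf.stalk x') :=
      Groth.Agent.Lib.Helper85.isDomain_of_isRegularLocalRing _
    infer_instance

end Groth.Agent.S1628
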