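import Groth.Statements.S1589
import Groth.Agent.Lib.Helper24.NodalGoren

set_option autoImplicit false
universe u
open CategoryTheory CategoryTheory.Limits AlgebraicGeometry
open Curves

namespace Groth.Agent.S1589

/-- Let X be locally of finite type over k with all irreducible components of dimension one and
at-worst-nodal singularities. Then every local ring of X is Gorenstein and X is geometrically
reduced over k. -/
theorem result (k : Type u) [Field k] (X : Scheme.{u}) [X.Over (Spec (CommRingCat.of k))] [LocallyOfFiniteType (X ↘ (Spec (CommRingCat.of k)))]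
    (hequi : ∀ Z ∈ irreducibleComponents (X : Type u), topologicalKrullDim Z = 1) (hX : Curv2.AtWorstNodal k X) :
    (∀ x : X, LocCoh.IsGorensteinLocalRing (X.presheaf.stalk x)) ∧ GeometricallyReduced (X ↘ (Spec (CommRingCat.of k))) := by
  have hJ : JacobsonSpace X :=
    LocallyOfFiniteType.jacobsonSpace (X ↘ (Spec (CommRingCat.of k)))
  -- closed points
  have hclosed : ∀ x₀ : X, IsClosed ({x₀} : Set X) →
      LocCoh.IsGorensteinLocalRing (X.presheaf.stalk x₀) ∧
      ∃ φ : k →+* X.presheaf.stalk x₀,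
        Spec.map (CommRingCat.ofHom φ) = X.fromSpecStalk x₀ ≫ (X ↘ (Spec (CommRingCat.of k))) ∧
        (letI := φ.toAlgebra; Algebra.IsGeometricallyReduced k (X.presheaf.stalk x₀)) := by
    intro x₀ hx₀
    obtain ⟨φ, hφ⟩ := Groth.Agent.Lib.Helper50.exists_ringHom_stalk
      (X ↘ (Spec (CommRingCat.of k))) x₀
    rcases hX x₀ hx₀ with ⟨U, hxU, hU⟩ | ⟨-, xb, hxb, hnode⟩
    · have hlfp : LocallyOfFinitePresentation (X ↘ (Spec (CommRingCat.of k))) := inferInstance
      have hsm : x₀ ∈ (X ↘ (Spec (CommRingCat.of k))).smoothLocus :=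
        Groth.Agent.Lib.Helper24.le_smoothLocus_of_smooth _ U hU hxU
      exact ⟨Groth.Agent.Lib.Helper24.isGorensteinLocalRing_stalk_of_mem_smoothLocus k _ x₀ hsm,
        φ, hφ,
        Groth.Agent.Lib.Helper24.isGeometricallyReduced_stalk_of_mem_smoothLocus k _ x₀ hsm φ hφ⟩
    · obtain ⟨e, -⟩ := hnode
      subst hxb
      obtain ⟨h1, h2⟩ := Groth.Agent.Lib.Helper24.goren_and_geomReduced_stalk_of_node k
        (X ↘ (Spec (CommRingCat.of k))) xb e φ hφ
      exact ⟨h1, φ, hφ, h2⟩
  have hall : ∀ x : X, LocCoh.IsGorensteinLocalRing (X.presheaf.stalk x) ∧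
      ∃ φ : k →+* X.presheaf.stalk x,
        Spec.map (CommRingCat.ofHom φ) = X.fromSpecStalk x ≫ (X ↘ (Spec (CommRingCat.of k))) ∧
        (letI := φ.toAlgebra; Algebra.IsGeometricallyReduced k (X.presheaf.stalk x)) := by
    intro x
    obtain ⟨x₀, hx₀, hx₀c⟩ := nonempty_inter_closedPoints (Z := closure ({x} : Set X))
      ⟨x, subset_closure rfl⟩ isClosed_closure.isLocallyClosed
    have hspec : x ⤳ x₀ := specializes_iff_mem_closure.mpr hx₀
    obtain ⟨hG, hR⟩ := hclosed x₀ (mem_closedPoints_iff.mp hx₀c)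
    exact ⟨Groth.Agent.Lib.Helper24.isGorensteinLocalRing_stalk_of_specializes hspec hG,
      Groth.Agent.Lib.Helper24.exists_isGeometricallyReduced_stalk_of_specializes k _ hspec hR⟩
  exact ⟨fun x => (hall x).1,
    Groth.Agent.Lib.Helper50.geometricallyReduced_of_forall_stalk _ fun x => (hall x).2⟩

end Groth.Agent.S1589
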