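import Groth.Statements.S4673
-- import your own Groth.Agent.* helpers here

import Groth.Agent.Lib.Helper55.BaseChangeDim

set_option autoImplicit false
open CategoryTheory AlgebraicGeometry
universe u
open FBase

namespace Groth.Agent.S4673

open Groth.Agent.Lib.Helper55 CategoryTheory.Limits

/-- Let X be a scheme locally of finite type over a field k and K an extension field of k. Then the set
of dimensions of the irreducible components of X ⊗_k K is equal to the set of dimensions of the
irreducible components of X (Krull dimensions of the underlying spaces, valued in WithBot ℕ∞). -/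
theorem result {k K : Type u} [Field k] [Field K] [Algebra k K]
    {X : Scheme.{u}} (f : X ⟶ Spec (CommRingCat.of k)) [LocallyOfFiniteType f] :
    (fun Z : Set ↥(FBase.bc f K) => topologicalKrullDim ↥Z) '' irreducibleComponents ↥(FBase.bc f K) =
      (fun Z : Set ↥X => topologicalKrullDim ↥Z) '' irreducibleComponents ↥X := by
  change (fun Z : Set ↥(pullback f (Spec.map (CommRingCat.ofHom (algebraMap k K)))) =>
    topologicalKrullDim ↥Z) ''
      irreducibleComponents ↥(pullback f (Spec.map (CommRingCat.ofHom (algebraMap k K)))) = _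
  ext d
  constructor
  · rintro ⟨W, hW, rfl⟩
    have hWirr : IsIrreducible W := hW.1
    have hWcl : IsClosed W := isClosed_of_mem_irreducibleComponents W hW
    have hω : closure {hWirr.genericPoint} = W := (hWirr.isGenericPoint_genericPoint hWcl).def
    set ω := hWirr.genericPoint with hωdef
    have hωmax : ∀ ω' : ↥(pullback f (Spec.map (CommRingCat.ofHom (algebraMap k K)))),
        ω' ⤳ ω → ω ⤳ ω' :=
      specializes_of_closure_mem_irreducibleComponents ω (by rw [hω]; exact hW)
    set ξ := pullback.fst f (Spec.map (CommRingCat.ofHom (algebraMap k K))) ω with hξ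
    have hξmax : ∀ ξ' : X, ξ' ⤳ ξ → ξ ⤳ ξ' := by
      intro ξ' h
      obtain ⟨ω', h1, h2⟩ := generalizingMap_fst_baseChange K f h
      have h3 : ω' = ω := (h1.antisymm (hωmax ω' h1)).eq
      rw [← h2, h3]
    refine ⟨closure {ξ}, closure_mem_irreducibleComponents_of_maximal ξ hξmax, ?_⟩
    change topologicalKrullDim ↥(closure ({ξ} : Set X)) = topologicalKrullDim ↥W
    rw [← hω]
    exact (topologicalKrullDim_closure_baseChange_of_maximal K f ω hωmax).symm
  · rintro ⟨Z, hZ, rfl⟩
    have hZirr : IsIrreducible Z := hZ.1
    have hZcl : IsClosed Z := isClosed_of_mem_irreducibleComponents Z hZ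
    have hξ : closure {hZirr.genericPoint} = Z := (hZirr.isGenericPoint_genericPoint hZcl).def
    set ξ := hZirr.genericPoint with hξdef
    have hξmax : ∀ ξ' : X, ξ' ⤳ ξ → ξ ⤳ ξ' :=
      specializes_of_closure_mem_irreducibleComponents ξ (by rw [hξ]; exact hZ)
    obtain ⟨ω, hπω, hmax', hdim⟩ := exists_point_baseChange K f ξ
    have hωmax : ∀ ω' : ↥(pullback f (Spec.map (CommRingCat.ofHom (algebraMap k K)))),
        ω' ⤳ ω → ω ⤳ ω' := by
      intro ω' h
      have h1 : pullback.fst f (Spec.map (CommRingCat.ofHom (algebraMap k K))) ω' ⤳ ξ := by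
        rw [← hπω]
        exact h.map (pullback.fst f _).continuous
      exact hmax' ω' (hξmax _ h1) h
    refine ⟨closure {ω}, closure_mem_irreducibleComponents_of_maximal ω hωmax, ?_⟩
    change topologicalKrullDim ↥(closure ({ω} : Set _)) = topologicalKrullDim ↥Z
    rw [hdim, hξ]

end Groth.Agent.S4673
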