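import Groth.Statements.S10964
import Groth.Agent.Lib.Helper20.GlueHom
import Groth.Agent.Lib.Helper45.InvBasis
import Groth.Agent.Lib.Helper11.TensorBasis

set_option autoImplicit false
universe u
open CategoryTheory AlgebraicGeometry TopologicalSpace Opposite
open PicF

namespace Groth.Agent.S10964

open Groth.Agent.Lib.Helper45 Groth.Agent.Lib.Helper49 Groth.Agent.Lib.Helper11.GenLocus
open Groth.Agent.Lib.Helper20.GlueHom TopologicalSpace

section

variable {X : Scheme.{u}} {L : X.Modules} {V₀ : X.Opens} {t : Γ(L, V₀)}

-- the coefficient of a section with respect to a local basis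
noncomputable def coef (ht : IsBasisOn L V₀ t) {V : X.Opens} (h : V ≤ V₀) (m : Γ(L, V)) :
    Γ(X, V) :=
  ((ht.mono h).exists_eq_smul m).choose

theorem coef_spec (ht : IsBasisOn L V₀ t) {V : X.Opens} (h : V ≤ V₀) (m : Γ(L, V)) :
    coef ht h m • mres L h t = m :=
  ((ht.mono h).exists_eq_smul m).choose_spec

theorem coef_unique (ht : IsBasisOn L V₀ t) {V : X.Opens} (h : V ≤ V₀) (m : Γ(L, V))
    (c : Γ(X, V)) (hc : c • mres L h t = m) : c = coef ht h m := by
  apply (ht.mono h).eq_of_smul_eq
  rw [hc, coef_spec]

theorem coef_add (ht : IsBasisOn L V₀ t) {V : X.Opens} (h : V ≤ V₀) (m n : Γ(L, V)) :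
    coef ht h (m + n) = coef ht h m + coef ht h n := by
  symm
  apply coef_unique
  rw [add_smul, coef_spec, coef_spec]

theorem coef_smul (ht : IsBasisOn L V₀ t) {V : X.Opens} (h : V ≤ V₀) (r : Γ(X, V))
    (m : Γ(L, V)) : coef ht h (r • m) = r * coef ht h m := by
  symm
  apply coef_unique
  rw [mul_smul, coef_spec]

theorem coef_res (ht : IsBasisOn L V₀ t) {V V' : X.Opens} (h : V ≤ V₀) (h' : V' ≤ V)
    (m : Γ(L, V)) : coef ht (h'.trans h) (mres L h' m) = fres h' (coef ht h m) := by
  symm
  apply coef_unique
  have : mres L (h'.trans h) t = mres L h' (mres L h t) := by rw [mres_mres]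
  rw [this, ← mres_smul, coef_spec]

theorem coef_bijective (ht : IsBasisOn L V₀ t) {V : X.Opens} (h : V ≤ V₀) :
    Function.Bijective (coef ht h : Γ(L, V) → Γ(X, V)) := by
  constructor
  · intro m n hmn
    rw [← coef_spec ht h m, ← coef_spec ht h n, hmn]
  · intro c
    exact ⟨c • mres L h t, (coef_unique ht h _ c rfl).symm⟩

end

/-- Let X be a scheme with an open cover (U_i)_{i ∈ ι}. Let L and L' be O_X-modules with sections s_i of
L and s'_i of L' over U_i that generate there (for every open V ⊆ U_i, r ↦ r · s_i|_V is a bijection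
from functions on V onto sections of L over V, and likewise for s'_i), and let η_ij, η'_ij be the
functions on U_i ∩ U_j with s_i = η_ij · s_j and s'_i = η'_ij · s'_j there. Then L and L' are
isomorphic as O_X-modules if and only if there is a family of units u_i of the rings of functions on
the U_i with η'_ij · u_i|_{U_i ∩ U_j} = u_j|_{U_i ∩ U_j} · η_ij for all i, j. (So two invertible
modules trivialised by the cover are isomorphic exactly when their transition cocycles define the
same Čech cohomology class.) -/
theorem result (X : Scheme.{u}) {ι : Type u} (U : ι → X.Opens)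
    (hU : iSup U = ⊤) (L L' : X.Modules) (s : ∀ i : ι, Γ(L, U i)) (s' : ∀ i : ι, Γ(L', U i))
    (hs : ∀ (i : ι) (V : X.Opens) (h : V ≤ U i),
        Function.Bijective (fun r : Γ(X, V) => r • L.presheaf.map (homOfLE h).op (s i)))
    (hs' : ∀ (i : ι) (V : X.Opens) (h : V ≤ U i),
        Function.Bijective (fun r : Γ(X, V) => r • L'.presheaf.map (homOfLE h).op (s' i)))
    (η η' : ∀ i j : ι, Γ(X, U i ⊓ U j))
    (hη : ∀ i j : ι, L.presheaf.map (homOfLE (inf_le_left : U i ⊓ U j ≤ U i)).op (s i) =
        η i j • L.presheaf.map (homOfLE (inf_le_right : U i ⊓ U j ≤ U j)).op (s j))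
    (hη' : ∀ i j : ι, L'.presheaf.map (homOfLE (inf_le_left : U i ⊓ U j ≤ U i)).op (s' i) =
        η' i j • L'.presheaf.map (homOfLE (inf_le_right : U i ⊓ U j ≤ U j)).op (s' j)) :
    Nonempty (L ≅ L') ↔ ∃ u : ∀ i : ι, (Γ(X, U i))ˣ, ∀ i j : ι,
      η' i j * X.presheaf.map (homOfLE (inf_le_left : U i ⊓ U j ≤ U i)).op (u i : Γ(X, U i)) =
        X.presheaf.map (homOfLE (inf_le_right : U i ⊓ U j ≤ U j)).op (u j : Γ(X, U j)) * η i j := by
  have hb : ∀ i, IsBasisOn L (U i) (s i) := fun i W h => hs i W h
  have hb' : ∀ i, IsBasisOn L' (U i) (s' i) := fun i W h => hs' i W h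
  have hη₁ : ∀ i j, mres L (inf_le_left : U i ⊓ U j ≤ U i) (s i) =
      η i j • mres L (inf_le_right : U i ⊓ U j ≤ U j) (s j) := hη
  have hη₁' : ∀ i j, mres L' (inf_le_left : U i ⊓ U j ≤ U i) (s' i) =
      η' i j • mres L' (inf_le_right : U i ⊓ U j ≤ U j) (s' j) := hη'
  constructor
  · rintro ⟨α⟩
    have hαb : ∀ i, IsBasisOn L' (U i) ((α.hom.app (U i)).hom (s i)) := by
      intro i W h
      have : (fun r : Γ(X, W) => r • mres L' h ((α.hom.app (U i)).hom (s i))) =
          (α.hom.app W).hom ∘ (fun r : Γ(X, W) => r • mres L h (s i)) := by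
        funext r
        simp only [Function.comp_apply]
        have h1 := Scheme.Modules.Hom.app_smul α.hom r (mres L h (s i))
        have h2 : mres L' h ((α.hom.app (U i)).hom (s i)) =
            (α.hom.app W).hom (mres L h (s i)) := app_res α.hom h (s i)
        rw [h2]
        exact h1.symm
      rw [this]
      have hbij : Function.Bijective (α.hom.app W).hom :=
        (Groth.Agent.Lib.Helper11.GenLocus.isIso_iff_bijective _).mp inferInstance
      exact hbij.comp (hb i W h)
    choose v hv using fun i => (hb' i).exists_eq_smul ((α.hom.app (U i)).hom (s i))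
    have hvu : ∀ i, IsUnit (v i) := fun i =>
      isUnit_of_isBasisOn_smul (hb' i) (v i) (by rw [hv i]; exact hαb i)
    refine ⟨fun i => (hvu i).unit, fun i j => ?_⟩
    simp only [IsUnit.unit_spec]
    change η' i j * fres (inf_le_left : U i ⊓ U j ≤ U i) (v i) =
      fres (inf_le_right : U i ⊓ U j ≤ U j) (v j) * η i j
    apply ((hb' j).mono (inf_le_right : U i ⊓ U j ≤ U j)).eq_of_smul_eq
    have e1 : mres L' (inf_le_left : U i ⊓ U j ≤ U i) ((α.hom.app (U i)).hom (s i)) =
        (α.hom.app (U i ⊓ U j)).hom (mres L inf_le_left (s i)) := app_res α.hom _ (s i)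
    have e2 : mres L' (inf_le_right : U i ⊓ U j ≤ U j) ((α.hom.app (U j)).hom (s j)) =
        (α.hom.app (U i ⊓ U j)).hom (mres L inf_le_right (s j)) := app_res α.hom _ (s j)
    have e3 := Scheme.Modules.Hom.app_smul α.hom (η i j)
      (mres L (inf_le_right : U i ⊓ U j ≤ U j) (s j))
    calc (η' i j * fres (inf_le_left : U i ⊓ U j ≤ U i) (v i)) •
          mres L' (inf_le_right : U i ⊓ U j ≤ U j) (s' j)
        = fres (inf_le_left : U i ⊓ U j ≤ U i) (v i) •
            (η' i j • mres L' (inf_le_right : U i ⊓ U j ≤ U j) (s' j)) := by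
          rw [mul_comm, mul_smul]
      _ = mres L' (inf_le_left : U i ⊓ U j ≤ U i) (v i • s' i) := by
          rw [← hη₁', mres_smul]
      _ = (α.hom.app (U i ⊓ U j)).hom (η i j • mres L inf_le_right (s j)) := by
          rw [hv, e1, hη₁]
      _ = η i j • mres L' (inf_le_right : U i ⊓ U j ≤ U j) (v j • s' j) := by
          rw [hv, e2]
          exact e3
      _ = (fres (inf_le_right : U i ⊓ U j ≤ U j) (v j) * η i j) •
            mres L' (inf_le_right : U i ⊓ U j ≤ U j) (s' j) := by
          rw [mres_smul, ← mul_smul, mul_comm]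
  · rintro ⟨u, hu⟩
    have hu' : ∀ i j, η' i j * fres (inf_le_left : U i ⊓ U j ≤ U i) (u i : Γ(X, U i)) =
        fres (inf_le_right : U i ⊓ U j ≤ U j) (u j : Γ(X, U j)) * η i j := hu
    let D : LocalHomData L L' U :=
      { β := fun i V h m => (coef (hb i) h m * fres h (u i : Γ(X, U i))) • mres L' h (s' i)
        map_add := by
          intro i V h m n
          rw [coef_add, add_mul, add_smul]
        map_smul := by
          intro i V h r m
          rw [coef_smul, mul_assoc, mul_smul]
        res := by
          intro i V V' h h' m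
          rw [mres_smul, map_mul, fres_fres, mres_mres, coef_res]
        compat := by
          intro i j V hi hj m
          have hij : V ≤ U i ⊓ U j := le_inf hi hj
          have r1 : mres L hi (s i) = fres hij (η i j) • mres L hj (s j) := by
            have := congrArg (mres L hij) (hη₁ i j)
            rwa [mres_smul, mres_mres, mres_mres] at this
          have r2 : mres L' hi (s' i) = fres hij (η' i j) • mres L' hj (s' j) := by
            have := congrArg (mres L' hij) (hη₁' i j)
            rwa [mres_smul, mres_mres, mres_mres] at this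
          have r3 : fres hij (η' i j) * fres hi (u i : Γ(X, U i)) =
              fres hj (u j : Γ(X, U j)) * fres hij (η i j) := by
            have := congrArg (fres hij) (hu' i j)
            rwa [map_mul, map_mul, fres_fres, fres_fres] at this
          have r4 : coef (hb j) hj m = coef (hb i) hi m * fres hij (η i j) := by
            symm
            apply coef_unique
            rw [mul_smul, ← r1, coef_spec]
          rw [r2, r4, ← mul_smul]
          congr 1
          linear_combination (coef (hb i) hi m) * r3 }
    haveI : IsIso (D.glue hU) := by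
      apply D.isIso_glue hU
      intro i V h
      have e : D.β i V h = (fun c : Γ(X, V) => c • mres L' h (s' i)) ∘
          (fun c : Γ(X, V) => c * fres h (u i : Γ(X, U i))) ∘ (coef (hb i) h) := rfl
      rw [e]
      have h2 : Function.Bijective (fun c : Γ(X, V) => c * fres h (u i : Γ(X, U i))) := by
        have hunit : IsUnit (fres h (u i : Γ(X, U i))) := (u i).isUnit.map _
        obtain ⟨w, hw⟩ := hunit
        rw [← hw]
        exact (Units.mulRight w).bijective
      exact (hb' i V h).comp (h2.comp (coef_bijective (hb i) h))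
    exact ⟨asIso (D.glue hU)⟩


end Groth.Agent.S10964
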