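import Groth.Statements.S0452
import Groth.Agent.Lib.Lead.FreeSheaf
import Groth.Agent.S0454

set_option autoImplicit false
universe u
open CohTop

namespace Groth.Agent.S0452

open TopologicalSpace in
/-- If every restriction map of the abelian sheaf F is surjective (F is flasque), then H^(n+1)(U, F) = 0
for every open U of X. -/
theorem result {X : TopCat.{u}} (F : CohTop.Ab X) [TopCat.Sheaf.IsFlasque F]
    (U : Opens X) (n : ℕ) : Subsingleton (CohTop.HU F (n + 1) U) := by
  open Groth.Agent.Lib.Lead CategoryTheory Opposite CategoryTheory.Limits in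
  refine HU_subsingleton_of_resolving Set.univ (fun G => TopCat.Sheaf.IsFlasque G) ?_ F inferInstance U
    (Set.mem_univ U) n
  intro G hG
  let S : ShortComplex (CohTop.Ab X) :=
    ShortComplex.mk (Injective.ι G) (cokernel.π (Injective.ι G)) (cokernel.condition _)
  have hS : S.ShortExact :=
    { exact := ShortComplex.exact_of_g_is_cokernel _ (cokernelIsCokernel S.f) }
  have hI : TopCat.Sheaf.IsFlasque S.X₂ := Groth.Agent.S0454.result (Injective.under G)
  have hG' : TopCat.Sheaf.IsFlasque S.X₁ := hG
  refine ⟨S, hS, rfl, inferInstanceAs (Injective (Injective.under G)), ?_, ?_⟩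
  · exact TopCat.Sheaf.IsFlasque.of_shortExact_of_isFlasque₁₂ hS
  · intro V _
    have := TopCat.Sheaf.IsFlasque.epi_of_shortExact (U := V) hS
    exact (AddCommGrpCat.epi_iff_surjective _).1 this

end Groth.Agent.S0452
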