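import Groth.Statements.S3527
import Groth.Agent.S6314
import Groth.Agent.Lib.Helper73.TorFirstVar

set_option autoImplicit false
universe u
open HTor

namespace Groth.Agent.S3527

open CategoryTheory CategoryTheory.Limits MonoidalCategory

section aux
variable {C D : Type*} [Category C] [Category D] [Abelian C] [HasProjectiveResolutions C]
  [Abelian D]

set_option backward.isDefEq.respectTransparency false in
/-- Naturality of `fromLeftDerivedZero` with respect to natural transformations. -/
theorem leftDerived_zero_app_fromLeftDerivedZero {F G : C ⥤ D} [F.Additive] [G.Additive]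
    (α : F ⟶ G) (X : C) :
    (NatTrans.leftDerived α 0).app X ≫ G.fromLeftDerivedZero.app X =
      F.fromLeftDerivedZero.app X ≫ α.app X := by
  let P := projectiveResolution X
  rw [P.leftDerived_app_eq α 0, P.fromLeftDerivedZero_eq F, P.fromLeftDerivedZero_eq G]
  simp only [Category.assoc, Iso.inv_hom_id_assoc]
  congr 1
  have h1 : (HomologicalComplex.homologyFunctor D (ComplexShape.down ℕ) 0).map
        ((NatTrans.mapHomologicalComplex α (ComplexShape.down ℕ)).app P.complex) ≫
      (ChainComplex.isoHomologyι₀ _).hom =
      (ChainComplex.isoHomologyι₀ _).hom ≫ HomologicalComplex.opcyclesMap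
        ((NatTrans.mapHomologicalComplex α (ComplexShape.down ℕ)).app P.complex) 0 :=
    HomologicalComplex.homologyι_naturality _ _
  rw [reassoc_of% h1]
  congr 1
  rw [← cancel_epi (HomologicalComplex.pOpcycles _ _)]
  rw [HomologicalComplex.p_opcyclesMap_assoc,
    ProjectiveResolution.pOpcycles_comp_fromLeftDerivedZero',
    ProjectiveResolution.pOpcycles_comp_fromLeftDerivedZero'_assoc]
  exact (α.naturality _).symm

end aux

variable {A : Type u} [CommRing A]

open Groth.Agent.Lib.Helper73 in
/-- `Tor_{q+1}(N, M) = 0` when the SECOND argument `M` is flat. -/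
theorem isZero_tor_of_flat_right (M : ModuleCat.{u} A) [Module.Flat A M] :
    ∀ (q : ℕ) (N : ModuleCat.{u} A),
      IsZero (((CategoryTheory.Tor (ModuleCat.{u} A) (q + 1)).obj N).obj M) := by
  have key : ∀ (q : ℕ) (N : ModuleCat.{u} A),
      ∃ (K F : ModuleCat.{u} A) (f : K ⟶ F) (_ : Mono f)
        (δ : ((CategoryTheory.Tor (ModuleCat.{u} A) (q + 1)).obj N).obj M ⟶
          ((CategoryTheory.Tor (ModuleCat.{u} A) q).obj K).obj M)
        (_ : Mono δ), δ ≫ ((CategoryTheory.Tor (ModuleCat.{u} A) q).map f).app M = 0 := by
    intro q N
    let S : ShortComplex (ModuleCat.{u} A) :=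
      ShortComplex.mk (kernel.ι (Projective.π N)) (Projective.π N) (kernel.condition _)
    have hS : S.ShortExact :=
      { exact := ShortComplex.exact_of_f_is_kernel _ (kernelIsKernel _)
        mono_f := inferInstanceAs (Mono (kernel.ι _))
        epi_g := inferInstanceAs (Epi (Projective.π N)) }
    obtain ⟨-, δ, w₁, w₂, hex₁, -⟩ := tor_les_first hS M q
    have hflat : Module.Flat A (Projective.over N : ModuleCat.{u} A) :=
      TorFirstVar.flat_of_projective _
    have hz : IsZero (((CategoryTheory.Tor (ModuleCat.{u} A) (q + 1)).obj S.X₂).obj M) :=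
      Groth.Agent.S6314.result A (Projective.over N : ModuleCat.{u} A) M (q + 1) (Nat.succ_pos q)
    have hmono : Mono δ := hex₁.mono_g (hz.eq_of_src _ _)
    exact ⟨S.X₁, S.X₂, S.f, hS.mono_f, δ, hmono, w₂⟩
  intro q
  induction q with
  | zero =>
    intro N
    obtain ⟨K, F, f, hf, δ, hδ, w⟩ := key 0 N
    -- `Tor_0(f, M)` is a monomorphism because `M` is flat
    have hm : Mono (((CategoryTheory.Tor (ModuleCat.{u} A) 0).map f).app M) := by
      have hcK : PreservesFiniteColimits ((tensoringLeft (ModuleCat.{u} A)).obj K) := by
        change PreservesFiniteColimits (tensorLeft K); infer_instance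
      have hcF : PreservesFiniteColimits ((tensoringLeft (ModuleCat.{u} A)).obj F) := by
        change PreservesFiniteColimits (tensorLeft F); infer_instance
      have hnat := leftDerived_zero_app_fromLeftDerivedZero
        ((tensoringLeft (ModuleCat.{u} A)).map f) M
      have hmono : Mono (((tensoringLeft (ModuleCat.{u} A)).map f).app M) := by
        change Mono (f ▷ M)
        have : PreservesFiniteLimits (tensorRight M) := inferInstance
        exact inferInstanceAs (Mono ((tensorRight M).map f))
      have hisoK : IsIso (((tensoringLeft (ModuleCat.{u} A)).obj K).fromLeftDerivedZero.app M) :=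
        inferInstance
      have : Mono ((NatTrans.leftDerived ((tensoringLeft (ModuleCat.{u} A)).map f) 0).app M ≫
          ((tensoringLeft (ModuleCat.{u} A)).obj F).fromLeftDerivedZero.app M) := by
        rw [hnat]
        have h1 : Mono (((tensoringLeft (ModuleCat.{u} A)).obj K).fromLeftDerivedZero.app M) :=
          @IsIso.mono_of_iso _ _ _ _ _ hisoK
        exact @mono_comp _ _ _ _ _ _ h1 _ hmono
      exact @mono_of_mono _ _ _ _ _ _
        (((tensoringLeft (ModuleCat.{u} A)).obj F).fromLeftDerivedZero.app M) this
    have hδ0 : δ = 0 := by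
      rw [← cancel_mono (((CategoryTheory.Tor (ModuleCat.{u} A) 0).map f).app M), w, zero_comp]
    rw [IsZero.iff_id_eq_zero, ← cancel_mono δ, hδ0, comp_zero, comp_zero]
  | succ q ih =>
    intro N
    obtain ⟨K, F, f, hf, δ, hδ, w⟩ := key (q + 1) N
    exact IsZero.of_mono δ (ih K)

/-- If A is a commutative ring and M is a flat A-module, then Tor_p^A(M, N) = 0 and Tor_p^A(N, M) = 0
for every A-module N and every p ≥ 1. (The published statement is about local hypertor sheaves over
general S, X, Y; in the affine case these are the sheaves attached to Tor_n^A, and only the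
resulting statement about A-modules is given here. Tor is Mathlib's, left derived in the second
variable; vanishing is stated as Subsingleton, and both orders are stated.) -/
theorem result (A : Type u) [CommRing A] (M N : Type u) [AddCommGroup M] [Module A M]
    [AddCommGroup N] [Module A N] [Module.Flat A M] (p : ℕ) (hp : 0 < p) :
    Subsingleton (DRing.Tor A p M N) ∧ Subsingleton (DRing.Tor A p N M) := by
  obtain ⟨q, rfl⟩ := Nat.exists_eq_succ_of_ne_zero hp.ne'
  constructor
  · have := Groth.Agent.S6314.result A M (ModuleCat.of A N) (q + 1) (Nat.succ_pos q)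
    exact ModuleCat.subsingleton_of_isZero this
  · have hflat : Module.Flat A (ModuleCat.of A M) := inferInstanceAs (Module.Flat A M)
    have := isZero_tor_of_flat_right (ModuleCat.of A M) q (ModuleCat.of A N)
    exact ModuleCat.subsingleton_of_isZero this

end Groth.Agent.S3527
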