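import Groth.Statements.S3535
import Groth.Agent.S3527
import Groth.Agent.Lib.Helper17.DeltaLite
import Groth.Agent.Lib.Helper73.TorFirstVar

set_option autoImplicit false
universe u
open HTor

namespace Groth.Agent.S3535

open CategoryTheory CategoryTheory.Limits MonoidalCategory
open Groth.Agent.Lib.Helper17 Groth.Agent.Lib.Helper73

variable {A : Type u} [CommRing A]

/-- `Tor_n(-, N)` as a functor of the first variable. -/
noncomputable abbrev T (N : ModuleCat.{u} A) (n : ℕ) : ModuleCat.{u} A ⥤ ModuleCat.{u} A :=
  (CategoryTheory.Tor (ModuleCat.{u} A) n).flip.obj N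

/-- The left derived functors of `- ⊗ N`. -/
noncomputable abbrev T' (N : ModuleCat.{u} A) (n : ℕ) : ModuleCat.{u} A ⥤ ModuleCat.{u} A :=
  (tensorRight N).leftDerived n

theorem isDeltaLite_T (N : ModuleCat.{u} A) : IsDeltaLite (T N) where
  les hS n := (tor_les_first hS N n).2
  vanish P _ n := by
    have : Module.Flat A P := TorFirstVar.flat_of_projective P
    exact Groth.Agent.S6314.result A P N (n + 1) (Nat.succ_pos n)

theorem isDeltaLite_T' (N : ModuleCat.{u} A) : IsDeltaLite (T' N) where
  les hS n := (leftDerived_les (tensorRight N) hS n).2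
  vanish P _ n := Functor.isZero_leftDerived_obj_projective_succ _ n P

instance (X : ModuleCat.{u} A) :
    PreservesFiniteColimits ((tensoringLeft (ModuleCat.{u} A)).obj X) :=
  by change PreservesFiniteColimits (tensorLeft X); infer_instance

/-- `Tor_0(X, N) ≅ X ⊗ N`. -/
noncomputable def torZeroIsoApp (N X : ModuleCat.{u} A) :
    (((tensoringLeft (ModuleCat.{u} A)).obj X).leftDerived 0).obj N ≅
      ((tensoringLeft (ModuleCat.{u} A)).obj X).obj N :=
  asIso (((tensoringLeft (ModuleCat.{u} A)).obj X).fromLeftDerivedZero.app N)

/-- `Tor_0(-, N) ≅ - ⊗ N`. -/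
noncomputable def torZeroIso (N : ModuleCat.{u} A) : T N 0 ≅ tensorRight N :=
  NatIso.ofComponents (fun X => torZeroIsoApp N X)
    (fun f => Groth.Agent.S3527.leftDerived_zero_app_fromLeftDerivedZero
      ((tensoringLeft (ModuleCat.{u} A)).map f) N)

/-- Balancing of Tor, objectwise. -/
theorem nonempty_iso (N : ModuleCat.{u} A) (n : ℕ) (M : ModuleCat.{u} A) :
    Nonempty ((T N n).obj M ≅ (T' N n).obj M) :=
  (isDeltaLite_T N).nonempty_iso (isDeltaLite_T' N)
    (torZeroIso N ≪≫ (tensorRight N).leftDerivedZeroIsoSelf.symm) n M

open CategoryTheory CategoryTheory.MonoidalCategory in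
/-- Balancing of Tor for modules: let A be a commutative ring, M and N A-modules and P any projective
resolution of M. Then for every n the module Tor_n^A(M, N) — Mathlib's Tor, defined by resolving the
second variable N — is isomorphic to H_n(P ⊗_A N), the n-th homology of the complex obtained by
tensoring P termwise with N. (Only the existence of an isomorphism is asserted; the published
statement gives canonical isomorphisms and treats hypertor of complexes and flat resolutions.) -/
theorem result (A : Type u) [CommRing A] (M N : ModuleCat.{u} A)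
    (P : ProjectiveResolution M) (n : ℕ) :
    Nonempty (((CategoryTheory.Tor (ModuleCat.{u} A) n).obj M).obj N ≅
      (((tensorRight N).mapHomologicalComplex (ComplexShape.down ℕ)).obj P.complex).homology n) := by
  obtain ⟨e⟩ := nonempty_iso N n M
  exact ⟨e ≪≫ P.isoLeftDerivedObj (tensorRight N) n⟩

end Groth.Agent.S3535
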