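import Groth.Statements.S9069
-- import your own Groth.Agent.* helpers here
import Groth.Agent.S0484
import Groth.Agent.Lib.Helper32.WayOut2
import Groth.Agent.Lib.Helper32.KInjRes

set_option autoImplicit false
universe u
open CategoryTheory CategoryTheory.Limits Opposite
attribute [local instance] HasDerivedCategory.standard
open SiteCmp

namespace Groth.Agent.S9069



/-- Let f be a flat morphism from the ringed site (C, O_C) to the ringed site (D, O_D) and A ⊂ Mod(O_C),
A' ⊂ Mod(O_D) weak Serre subcategories such that f^* induces an equivalence of categories A' → A and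
F' → Rf_*f^*F' is an isomorphism for every F' ∈ A'. Then f^* : D^+_{A'}(O_D) → D^+_A(O_C) is an
equivalence with quasi-inverse Rf_*: on bounded below objects with cohomology sheaves in A' (resp.
A) the functor f^* (resp. Rf_*) lands in bounded below objects with cohomology sheaves in A (resp.
A'), and the unit (resp. counit) of the adjunction is an isomorphism there. The adjunction f^* ⊣
Rf_* on unbounded derived categories is a hypothesis; f^* is exact, so it is its own derived
functor. Stated for ringed sites; the published statement is for ringed topoi. -/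
theorem result
    {C : Type u} [SmallCategory C] {J : GrothendieckTopology C} {O_C : Sheaf J CommRingCat.{u}}
    {D : Type u} [SmallCategory D] {K : GrothendieckTopology D} {O_D : Sheaf K CommRingCat.{u}}
    (f : ModSite.RMor O_C O_D) [PreservesFiniteLimits f.pull] [SiteCmp.HasRpushD f]
    (adj : SiteCmp.pullD f ⊣ SiteCmp.RpushD f)
    (A : ObjectProperty (ModSite.Mod O_C)) [WSerre.IsWeakSerre A]
    (A' : ObjectProperty (ModSite.Mod O_D)) [WSerre.IsWeakSerre A']
    (h2a : ∀ F' : ModSite.Mod O_D, A' F' → A (f.pull.obj F'))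
    (h2b : ∀ F' G' : ModSite.Mod O_D, A' F' → A' G' →
      Function.Bijective (fun φ : F' ⟶ G' => f.pull.map φ))
    (h2c : ∀ F : ModSite.Mod O_C, A F → ∃ F' : ModSite.Mod O_D, A' F' ∧ Nonempty (f.pull.obj F' ≅ F))
    (h3 : ∀ F' : ModSite.Mod O_D, A' F' → IsIso (adj.unit.app (SiteCmp.inD O_D F'))) :
    (∀ Y : DerivedCategory (ModSite.Mod O_D), WSerre.cohInPlus A' Y →
      WSerre.cohInPlus A ((SiteCmp.pullD f).obj Y) ∧ IsIso (adj.unit.app Y)) ∧
    (∀ X : DerivedCategory (ModSite.Mod O_C), WSerre.cohInPlus A X →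
      WSerre.cohInPlus A' ((SiteCmp.RpushD f).obj X) ∧ IsIso (adj.counit.app X)) := by
  haveI : IsGrothendieckAbelian.{u} (ModSite.Mod O_C) :=
    Groth.Agent.S0484.result J (ModSite.ringSh O_C)
  have hA : Groth.Agent.Lib.Helper32.KInjDerived.HasKInjRes (ModSite.Mod O_C) := by
    intro M
    obtain ⟨I, g, hI, hg, -, -⟩ := Groth.Agent.Lib.Helper32.KInjRes.exists_kInjective_resolution M
    exact ⟨I, g, hI, hg⟩
  letI : (SiteCmp.RpushD f).CommShift ℤ := adj.rightAdjointCommShift ℤ
  haveI : adj.CommShift ℤ := adj.commShift_of_leftAdjoint ℤ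
  haveI : (SiteCmp.RpushD f).IsTriangulated := adj.isTriangulated_rightAdjoint
  have hRF : ∀ (Z : DerivedCategory (ModSite.Mod O_C)) (n : ℤ), Z.IsGE n →
      ((SiteCmp.RpushD f).obj Z).IsGE n := fun Z n h =>
    Groth.Agent.Lib.Helper32.WayOut.isGE_rightDerived hA f.push _
      ((SiteCmp.pushKh f).totalRightDerivedUnit DerivedCategory.Qh
        (HomotopyCategory.quasiIso (ModSite.Mod O_C) (ComplexShape.up ℤ))) Z n h
  have hG : ∀ (Z : DerivedCategory (ModSite.Mod O_D)) (n : ℤ), Z.IsGE n →
      ((SiteCmp.pullD f).obj Z).IsGE n := fun Z n h =>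
    Groth.Agent.Lib.Helper32.WayOut.isGE_mapDerivedCategory f.pull Z n h
  refine ⟨fun Y hY => ?_, fun X hX => ?_⟩
  · obtain ⟨hYc, n₀, hn₀⟩ := hY
    refine ⟨⟨fun i => ?_, ⟨n₀, hG Y n₀ hn₀⟩⟩, ?_⟩
    · obtain ⟨e⟩ := Groth.Agent.Lib.Helper32.WayOut2.nonempty_homologyIso_mapDerivedCategory
        f.pull Y i
      exact A.prop_of_iso e.symm (h2a _ (hYc i))
    · exact Groth.Agent.Lib.Helper32.WayOut.isIso_app_of_wayOut (𝟭 _)
        (SiteCmp.pullD f ⋙ SiteCmp.RpushD f) adj.unit (fun Z n h => h)
        (fun Z n h => hRF _ n (hG Z n h)) Y n₀ hn₀ (fun q => h3 _ (hYc q))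
  · obtain ⟨hXc, n₀, hn₀⟩ := hX
    have key : ∀ F : ModSite.Mod O_C, A F →
        IsIso (adj.counit.app (SiteCmp.inD O_C F)) ∧
          WSerre.cohIn A' ((SiteCmp.RpushD f).obj (SiteCmp.inD O_C F)) := by
      intro F hF
      obtain ⟨F', hF', ⟨e⟩⟩ := h2c F hF
      have hu : IsIso (adj.unit.app (SiteCmp.inD O_D F')) := h3 F' hF'
      let ε : (SiteCmp.pullD f).obj (SiteCmp.inD O_D F') ≅ SiteCmp.inD O_C F :=
        (f.pull.mapDerivedCategorySingleFunctor 0).app F' ≪≫
          (DerivedCategory.singleFunctor _ 0).mapIso e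
      constructor
      · have h1 : IsIso (adj.counit.app ((SiteCmp.pullD f).obj (SiteCmp.inD O_D F'))) := by
          have h2 := adj.left_triangle_components (SiteCmp.inD O_D F')
          haveI : IsIso ((SiteCmp.pullD f).map (adj.unit.app (SiteCmp.inD O_D F'))) :=
            Functor.map_isIso _ _
          have h3' : adj.counit.app ((SiteCmp.pullD f).obj (SiteCmp.inD O_D F')) =
              inv ((SiteCmp.pullD f).map (adj.unit.app (SiteCmp.inD O_D F'))) := by
            rw [← cancel_epi ((SiteCmp.pullD f).map (adj.unit.app (SiteCmp.inD O_D F'))), h2,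
              IsIso.hom_inv_id]
            rfl
          rw [h3']
          infer_instance
        exact Groth.Agent.Lib.Helper32.WayOut.isIso_of_iso
          (SiteCmp.RpushD f ⋙ SiteCmp.pullD f) (𝟭 _) adj.counit ε h1
      · have e2 : (SiteCmp.RpushD f).obj (SiteCmp.inD O_C F) ≅ SiteCmp.inD O_D F' :=
          (SiteCmp.RpushD f).mapIso ε.symm ≪≫ (asIso (adj.unit.app (SiteCmp.inD O_D F'))).symm
        exact Groth.Agent.Lib.Helper32.WayOut2.cohIn_of_iso A' e2.symm
          (Groth.Agent.Lib.Helper32.WayOut2.cohIn_single A' F' hF' 0)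
    refine ⟨⟨?_, ⟨n₀, hRF X n₀ hn₀⟩⟩, ?_⟩
    · exact Groth.Agent.Lib.Helper32.WayOut2.cohIn_of_wayOut (SiteCmp.RpushD f) A' hRF X n₀ hn₀
        (fun q => (key _ (hXc q)).2)
    · exact Groth.Agent.Lib.Helper32.WayOut.isIso_app_of_wayOut
        (SiteCmp.RpushD f ⋙ SiteCmp.pullD f) (𝟭 _) adj.counit
        (fun Z n h => hG _ n (hRF Z n h)) (fun Z n h => h) X n₀ hn₀
        (fun q => (key _ (hXc q)).1)

end Groth.Agent.S9069
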