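import Groth.Statements.S9133
import Groth.Agent.Lib.Helper98.KrullAkizukiKey

set_option autoImplicit false
universe u
open CAlg

namespace Groth.Agent.S9133

/-- Let R → S be a homomorphism of domains compatible with field maps K → L of their fraction fields (so
R → S is injective), where R is Noetherian local of dimension one and L is finite over K. Then each
prime n of S whose contraction to R is the maximal ideal of R is a maximal ideal of S, only finitely
many such n exist, and each quotient S/n is a finite R-module (its residue field is a finite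
extension of that of R). -/
theorem result (R S K L : Type u)
    [CommRing R] [IsDomain R] [IsNoetherianRing R] [IsLocalRing R] (hdim : ringKrullDim R = 1)
    [CommRing S] [IsDomain S] [Algebra R S] [Field K] [Field L] [Algebra R K] [IsFractionRing R K]
    [Algebra S L] [IsFractionRing S L] [Algebra K L] [Algebra R L] [IsScalarTower R K L]
    [IsScalarTower R S L] [FiniteDimensional K L] :
    (∀ n ∈ (IsLocalRing.maximalIdeal R).primesOver S, n.IsMaximal) ∧
      ((IsLocalRing.maximalIdeal R).primesOver S).Finite ∧
      ∀ n ∈ (IsLocalRing.maximalIdeal R).primesOver S, Module.Finite R (S ⧸ n) := by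
  have hK1 : Ring.KrullDimLE 1 R := by rw [Ring.krullDimLE_iff, hdim]; rfl
  -- a nonzero element of the maximal ideal
  have hnf : ¬ IsField R := by
    intro hf
    have := ringKrullDim_eq_zero_of_isField hf
    rw [hdim] at this
    exact absurd this (by decide)
  have hmne : IsLocalRing.maximalIdeal R ≠ ⊥ := fun h =>
    hnf (IsLocalRing.isField_iff_maximalIdeal_eq.2 h)
  obtain ⟨x, hxm, hx0⟩ := Submodule.exists_mem_ne_zero_of_ne_bot hmne
  -- the image of `S` in `L`
  let φ : S →ₗ[R] L := (IsScalarTower.toAlgHom R S L).toLinearMap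
  have hφ : Function.Injective φ := IsFractionRing.injective S L
  let M : Submodule R L := LinearMap.range φ
  let e : S ≃ₗ[R] M := LinearEquiv.ofInjective φ hφ
  have hMlen := Groth.Agent.Lib.Helper98.length_quotient_smul_top_ne_top K M x hx0
  -- the quotient ring `S ⧸ (x)`
  let J : Ideal S := Ideal.span {algebraMap R S x}
  let ψ : M →ₗ[R] S ⧸ J := (Ideal.Quotient.mkₐ R J).toLinearMap ∘ₗ e.symm.toLinearMap
  have hψsurj : Function.Surjective ψ :=
    (Ideal.Quotient.mkₐ_surjective R J).comp e.symm.surjective
  have hψker : Ideal.span {x} • (⊤ : Submodule R M) ≤ LinearMap.ker ψ := by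
    rw [Submodule.ideal_span_singleton_smul]
    rintro _ ⟨m, -, rfl⟩
    rw [LinearMap.mem_ker]
    change ψ (x • m) = 0
    rw [map_smul, Algebra.smul_def]
    have : algebraMap R (S ⧸ J) x = 0 := by
      rw [IsScalarTower.algebraMap_apply R S (S ⧸ J), Ideal.Quotient.algebraMap_eq,
        Ideal.Quotient.eq_zero_iff_mem]
      exact Ideal.mem_span_singleton_self _
    rw [this, zero_mul]
  have hJlen : Module.length R (S ⧸ J) ≠ ⊤ := by
    have hs : Function.Surjective ((Ideal.span {x} • (⊤ : Submodule R M)).liftQ ψ hψker) := by
      intro y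
      obtain ⟨m, rfl⟩ := hψsurj y
      exact ⟨Submodule.Quotient.mk m, rfl⟩
    exact ne_top_of_le_ne_top hMlen (Module.length_le_of_surjective _ hs)
  rw [Module.length_ne_top_iff, isFiniteLength_iff_isNoetherian_isArtinian] at hJlen
  obtain ⟨hJN, hJA⟩ := hJlen
  have hJart : IsArtinianRing (S ⧸ J) := isArtinian_of_tower R hJA
  have hsurj : Function.Surjective (Ideal.Quotient.mk J) := Ideal.Quotient.mk_surjective
  -- every prime over `m` contains `J`
  have hJle : ∀ n ∈ (IsLocalRing.maximalIdeal R).primesOver S, J ≤ n := by
    intro n hn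
    rw [Ideal.span_singleton_le_iff_mem]
    have : (IsLocalRing.maximalIdeal R) = n.under R := hn.2.over
    rw [this] at hxm
    exact hxm
  have hcomap : ∀ n ∈ (IsLocalRing.maximalIdeal R).primesOver S,
      (n.map (Ideal.Quotient.mk J)).comap (Ideal.Quotient.mk J) = n := by
    intro n hn
    rw [Ideal.comap_map_of_surjective _ hsurj, sup_eq_left, ← RingHom.ker_eq_comap_bot,
      Ideal.mk_ker]
    exact hJle n hn
  have hprime : ∀ n ∈ (IsLocalRing.maximalIdeal R).primesOver S,
      (n.map (Ideal.Quotient.mk J)).IsPrime := by
    intro n hn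
    haveI := hn.1
    apply Ideal.map_isPrime_of_surjective hsurj
    rw [Ideal.mk_ker]
    exact hJle n hn
  refine ⟨fun n hn => ?_, ?_, fun n hn => ?_⟩
  · haveI := hprime n hn
    rw [← hcomap n hn]
    exact Ideal.comap_isMaximal_of_surjective _ hsurj
  · have hfin : (Set.range fun p : PrimeSpectrum (S ⧸ J) =>
        p.asIdeal.comap (Ideal.Quotient.mk J)).Finite := Set.finite_range _
    refine hfin.subset fun n hn => ?_
    exact ⟨⟨n.map (Ideal.Quotient.mk J), hprime n hn⟩, hcomap n hn⟩
  · have hs : Function.Surjective (Ideal.Quotient.factorₐ R (hJle n hn)).toLinearMap :=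
      Ideal.Quotient.factor_surjective (hJle n hn)
    have : Module.Finite R (S ⧸ J) := inferInstance
    exact Module.Finite.of_surjective _ hs

end Groth.Agent.S9133
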