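import Groth.Statements.S12080
-- import your own Groth.Agent.* helpers here
import Mathlib.RingTheory.LocalProperties.FinitePresentation
import Mathlib.RingTheory.LocalProperties.Exactness
import Mathlib.RingTheory.Flat.Localization
import Mathlib.Algebra.Module.FinitePresentation
import Mathlib.RingTheory.Flat.EquationalCriterion
import Mathlib.LinearAlgebra.Contraction

set_option autoImplicit false
universe u
open TensorProduct
open CAlg

namespace Groth.Agent.S12080

/-- (1) ⇒ (2): let `M` be a finite locally free `R`-module of rank `1`, i.e. there is a set `s ⊆ R`
generating the unit ideal with `M_f ≅ R_f` as `R_f`-modules for every `f ∈ s`. Then the evaluation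
map `Hom_R(M, R) ⊗_R M → R` is bijective, so `M` is invertible with inverse its dual. -/
theorem result (R : Type u) [CommRing R] (M : Type u) [AddCommGroup M]
    [Module R M] (s : Set R) (hs : Ideal.span s = ⊤)
    (hfree : ∀ f ∈ s, Nonempty (LocalizedModule.Away f M ≃ₗ[Localization.Away f] Localization.Away f)) :
    Module.Invertible R M := by
  -- finite presentation
  have hfp : Module.FinitePresentation R M := by
    refine Module.FinitePresentation.of_localizationSpan s hs ?_
    intro r
    obtain ⟨e⟩ := hfree r.1 r.2
    exact Module.FinitePresentation.of_equiv e.symm
  have hflat : Module.Flat R M := by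
    refine Module.flat_of_localized_span (S := R) (M := M) (s := s) (spn := hs) ?_
    intro r
    obtain ⟨e⟩ := hfree r.1 r.2
    have : Module.Flat R (Localization.Away r.1) := IsLocalization.flat _ (Submonoid.powers r.1)
    exact Module.Flat.of_linearEquiv (e.restrictScalars R)
  have hproj : Module.Projective R M := Module.Flat.projective_of_finitePresentation
  have hfin : Module.Finite R M := inferInstance
  have hρ : Function.Bijective (Algebra.linearMap R (Module.End R M)) := by
    refine bijective_of_isLocalized_span s hs
      (fun r : s => Localization.Away r.1) (fun r => Algebra.linearMap R (Localization.Away r.1))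
      (fun r : s => (LocalizedModule.Away r.1 M →ₗ[Localization.Away r.1] LocalizedModule.Away r.1 M))
      (fun r => LocalizedModule.map (Submonoid.powers r.1) (M := M) (N := M)) _ ?_
    intro r
    obtain ⟨e⟩ := hfree r.1 r.2
    have hinv : Module.Invertible (Localization.Away r.1) (LocalizedModule.Away r.1 M) :=
      Module.Invertible.congr e.symm
    have hb := Module.Invertible.toModuleEnd_bijective (Localization.Away r.1)
      (LocalizedModule.Away r.1 M)
    let τ : Localization.Away r.1 →ₗ[R] (LocalizedModule.Away r.1 M →ₗ[Localization.Away r.1]
        LocalizedModule.Away r.1 M) :=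
      (Algebra.linearMap (Localization.Away r.1)
        (Module.End (Localization.Away r.1) (LocalizedModule.Away r.1 M))).restrictScalars R
    have key : IsLocalizedModule.map (Submonoid.powers r.1)
        (Algebra.linearMap R (Localization.Away r.1))
        (LocalizedModule.map (Submonoid.powers r.1) (M := M) (N := M))
        (Algebra.linearMap R (Module.End R M)) = τ := by
      apply IsLocalizedModule.linearMap_ext (Submonoid.powers r.1)
        (Algebra.linearMap R (Localization.Away r.1))
        (LocalizedModule.map (Submonoid.powers r.1) (M := M) (N := M))
      rw [IsLocalizedModule.map_comp]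
      apply LinearMap.ext_ring
      simp [τ]
      exact LocalizedModule.map_id (Submonoid.powers r.1)
    rw [key]
    convert hb using 1
    funext a
    apply LinearMap.ext
    intro m
    simp [τ]
  let e1 : Module.Dual R M ⊗[R] M ≃ₗ[R] (M →ₗ[R] M) :=
    LinearEquiv.ofBijective (dualTensorHom R M M) dualTensorHom_bijective
  let e2 : R ≃ₗ[R] (M →ₗ[R] M) := LinearEquiv.ofBijective _ hρ
  exact Module.Invertible.right (e1 ≪≫ₗ e2.symm)

end Groth.Agent.S12080
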