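import Groth.Statements.S9247
import Mathlib
import Groth.Agent.S0563
import Groth.Agent.Lib.Helper73.PdQuotient

set_option autoImplicit false
universe u
open CAlg

namespace Groth.Agent.S9247

open CategoryTheory in
/-- Over a Noetherian local ring, if `M` is finite with projective dimension `< n + 1` and `L` is
a localization of `M` which is projective over the localized ring, then `L` is stably free. -/
theorem isStablyFree_of_pd {R : Type u} [CommRing R] [IsLocalRing R] [IsNoetherianRing R]
    (S : Submonoid R) (A : Type u) [CommRing A] [Algebra R A] [IsLocalization S A] :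
    ∀ (n : ℕ) (M : Type u) [AddCommGroup M] [Module R M] [Module.Finite R M]
      (_ : HasProjectiveDimensionLT (ModuleCat.of R M) (n + 1))
      (L : Type u) [AddCommGroup L] [Module R L] [Module A L] [IsScalarTower R A L]
      (ι : M →ₗ[R] L) [IsLocalizedModule S ι] [Module.Projective A L],
      Module.IsStablyFree A L := by
  intro n
  induction n with
  | zero =>
    intro M _ _ _ hpd L _ _ _ _ ι _ _
    have hproj : Projective (ModuleCat.of R M) := by
      rw [projective_iff_hasProjectiveDimensionLT_one]
      exact hpd
    have hP : Module.Projective R M := (IsProjective.iff_projective (R := R) M).mpr hproj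
    have hF : Module.Free R M := Module.free_of_flat_of_isLocalRing
    have : Module.Free A L := Module.free_of_isLocalizedModule S ι
    infer_instance
  | succ n ih =>
    intro M _ _ _ hpd L _ _ _ _ ι _ _
    obtain ⟨k, g, hg⟩ := Module.Finite.exists_fin' R M
    -- the kernel and its projective dimension
    have hex : Function.Exact (LinearMap.ker g).subtype g := LinearMap.exact_subtype_ker_map g
    have hi : Function.Injective (LinearMap.ker g).subtype := Submodule.injective_subtype _
    have hS := Groth.Agent.Lib.Helper73.PdQuotient.shortExact_of_linear (A := R)
      (N₁ := LinearMap.ker g) (N₂ := Fin k → R) (N₃ := M) (LinearMap.ker g).subtype g hi hg hex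
    have hK : HasProjectiveDimensionLT (ModuleCat.of R (LinearMap.ker g)) (n + 1) := by
      refine (hS.hasProjectiveDimensionLT_X₃_iff n ?_).mp hpd
      change Projective (ModuleCat.of R (Fin k → R))
      rw [← IsProjective.iff_projective]
      infer_instance
    -- localize the free module
    let φ : (Fin k → R) →ₗ[R] (Fin k → A) := LinearMap.pi fun i =>
      (Algebra.linearMap R A).comp (LinearMap.proj i)
    have hφ : IsLocalizedModule S φ := IsLocalizedModule.pi S fun _ => Algebra.linearMap R A
    -- the localized map
    let g' : (Fin k → A) →ₗ[A] L :=
      (IsLocalizedModule.map S φ ι g).extendScalarsOfIsLocalization S A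
    have hg' : Function.Surjective g' := IsLocalizedModule.map_surjective S φ ι g hg
    -- the localized kernel
    let K' : Submodule A (Fin k → A) := (LinearMap.ker g).localized' A S φ
    have hK' : K' = LinearMap.ker g' := LinearMap.localized'_ker_eq_ker_localizedMap A S φ ι g
    have hιK : IsLocalizedModule S ((LinearMap.ker g).toLocalized' A S φ) :=
      Submodule.isLocalizedModule A S φ (LinearMap.ker g)
    -- splitting
    obtain ⟨s, hs⟩ := Module.projective_lifting_property g' LinearMap.id hg'
    have hex' : Function.Exact K'.subtype g' := by
      rw [hK']
      exact LinearMap.exact_subtype_ker_map g'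
    obtain ⟨e, -, -⟩ := (hex'.splitSurjectiveEquiv K'.injective_subtype ⟨s, hs⟩)
    have hprojK' : Module.Projective A K' := by
      have hfr : Module.Free A (Fin k → A) := Module.Free.pi _ _
      have hprF : Module.Projective A (Fin k → A) := Module.Projective.of_free
      have : Module.Projective A (K' × L) := Module.Projective.of_equiv e
      exact Module.Projective.of_split (LinearMap.inl A K' L) (LinearMap.fst A K' L)
        (by ext x; simp)
    have hfinK : Module.Finite R (LinearMap.ker g) := inferInstance
    have hsfK : Module.IsStablyFree A K' :=
      ih (LinearMap.ker g) hK K' ((LinearMap.ker g).toLocalized' A S φ)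
    obtain ⟨N, _, _, _, _, hfree⟩ := Module.IsStablyFree.exist_free_prod A K'
    have hfinK' : Module.Finite A K' :=
      Module.Finite.of_isLocalizedModule S ((LinearMap.ker g).toLocalized' A S φ)
    -- `L × (K' × N) ≃ (K' × L) × N ≃ (Fin k → A) × N`
    let E : (L × (K' × N)) ≃ₗ[A] ((Fin k → A) × N) :=
      (LinearEquiv.prodAssoc A L K' N).symm ≪≫ₗ
        ((LinearEquiv.prodComm A L K' ≪≫ₗ e.symm).prodCongr (LinearEquiv.refl A N))
    have : Module.Free A (L × (K' × N)) := Module.Free.of_equiv E.symm
    exact Module.IsStablyFree.of_free_prod A L (K' × N)

/-- Over a Noetherian local ring of finite global dimension, projective modules over a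
localization which are finite are stably free. -/
theorem isStablyFree_localization {R : Type u} [CommRing R] [IsRegularLocalRing R]
    (S : Submonoid R) (A : Type u) [CommRing A] [Algebra R A] [IsLocalization S A]
    (L : Type u) [AddCommGroup L] [Module A L] [Module.Finite A L] [Module.Projective A L] :
    Module.IsStablyFree A L := by
  obtain ⟨d, hd⟩ : ∃ d : ℕ, ringKrullDim R = d := by
    refine ⟨(IsLocalRing.maximalIdeal R).spanFinrank, ?_⟩
    exact (IsRegularLocalRing.spanFinrank_maximalIdeal (R := R)).symm
  let _ : Module R L := Module.compHom L (algebraMap R A)
  have : IsScalarTower R A L := IsScalarTower.of_algebraMap_smul fun r x => rfl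
  obtain ⟨s, hs⟩ := (Module.Finite.fg_top : (⊤ : Submodule A L).FG)
  let M : Submodule R L := Submodule.span R (s : Set L)
  have hMfin : Module.Finite R M := Module.Finite.span_finset R s
  have hid : IsLocalizedModule S (LinearMap.id : L →ₗ[R] L) := isLocalizedModule_id S L A
  let M' : Submodule A L := M.localized' A S LinearMap.id
  have hM' : M' = ⊤ := by
    change Submodule.localized' A S LinearMap.id (Submodule.span R (s : Set L)) = ⊤
    rw [Submodule.localized'_span, ← hs]
    simp
  have hloc : IsLocalizedModule S (M.toLocalized' A S LinearMap.id) :=
    Submodule.isLocalizedModule A S LinearMap.id M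
  let e : M' ≃ₗ[A] L := LinearEquiv.ofTop M' hM'
  have hproj : Module.Projective A M' := Module.Projective.of_equiv e.symm
  have hpd := Groth.Agent.S0563.result R d hd M
  have := isStablyFree_of_pd S A d M hpd M' (M.toLocalized' A S LinearMap.id)
  exact Module.IsStablyFree.equiv e


/-- For a regular local ring R and an element f of R, the Picard group of R_f is trivial. -/
theorem result (R : Type u) [CommRing R]
    [IsRegularLocalRing R] (f : R) : Subsingleton (CommRing.Pic (Localization.Away f)) := by
  rw [CommRing.Pic.subsingleton_iff]
  intro L _ _ hL
  have : Module.IsStablyFree (Localization.Away f) L :=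
    isStablyFree_localization (Submonoid.powers f) (Localization.Away f) L
  exact Module.free_of_isStablyFree_of_invertible (Localization.Away f) L

end Groth.Agent.S9247
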