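import Groth.Statements.S2120
import Mathlib.AlgebraicGeometry.Morphisms.Immersion
-- import your own Groth.Agent.* helpers here

set_option autoImplicit false
universe u
open CategoryTheory AlgebraicGeometry
open Mor

namespace Groth.Agent.S2120


section
open Limits

variable {X Y Z : Scheme.{u}} (f : X ⟶ Y) (g : Y ⟶ Z)

/-- the map `X ×_Z X ⟶ Y ×_Z Y` induced by `f` -/
noncomputable abbrev prodMap : pullback (f ≫ g) (f ≫ g) ⟶ pullback g g :=
  pullback.map (f ≫ g) (f ≫ g) g g f f (𝟙 Z) ((Category.comp_id _).trans rfl)
    ((Category.comp_id _).trans rfl)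

theorem diagonal_prodMap :
    pullback.diagonal (f ≫ g) ≫ prodMap f g = f ≫ pullback.diagonal g := by
  apply pullback.hom_ext
  · rw [Category.assoc, pullback.lift_fst, Category.assoc, pullback.diagonal_fst,
      pullback.diagonal_fst_assoc, Category.comp_id]
  · rw [Category.assoc, pullback.lift_snd, Category.assoc, pullback.diagonal_snd,
      pullback.diagonal_snd_assoc, Category.comp_id]

theorem universallyClosed_prodMap [UniversallyClosed f] : UniversallyClosed (prodMap f g) :=
  MorphismProperty.pullbackMap (P := @UniversallyClosed) ‹_› ‹_› rfl rfl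

theorem isSeparated_of_comp [Surjective f] [UniversallyClosed f] [IsSeparated (f ≫ g)] :
    IsSeparated g := by
  haveI := universallyClosed_prodMap f g
  refine ⟨IsClosedImmersion.of_isPreimmersion _ ?_⟩
  have h1 : Set.range (pullback.diagonal g) = Set.range (f ≫ pullback.diagonal g) := by
    rw [Scheme.Hom.comp_base, TopCat.coe_comp, Set.range_comp, Set.range_eq_univ.mpr f.surjective,
      Set.image_univ]
  rw [h1, ← diagonal_prodMap, Scheme.Hom.comp_base, TopCat.coe_comp, Set.range_comp]
  apply (prodMap f g).isClosedMap
  exact (pullback.diagonal (f ≫ g)).isClosedEmbedding.isClosed_range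

theorem quasiSeparated_of_comp [Surjective f] [UniversallyClosed f] [QuasiSeparated (f ≫ g)] :
    QuasiSeparated g := by
  haveI := universallyClosed_prodMap f g
  refine ⟨⟨?_⟩⟩
  intro K hKo hKc
  have h1 : (pullback.diagonal g) ⁻¹' K = f '' ((f ≫ pullback.diagonal g) ⁻¹' K) := by
    rw [Scheme.Hom.comp_base, TopCat.coe_comp, Set.preimage_comp,
      Set.image_preimage_eq _ f.surjective]
  rw [h1, ← diagonal_prodMap, Scheme.Hom.comp_base, TopCat.coe_comp, Set.preimage_comp]
  apply IsCompact.image _ f.continuous
  apply QuasiCompact.isCompact_preimage _ ((prodMap f g).continuous.isOpen_preimage _ hKo)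
  exact QuasiCompact.isCompact_preimage _ hKo hKc

end

/-- Let `f : X → Y` be surjective and universally closed. If `X` is quasi-separated then so is `Y`; if
`X` is separated then so is `Y`. -/
theorem result {X Y : Scheme.{u}} (f : X ⟶ Y) [Surjective f] [UniversallyClosed f] :
    (QuasiSeparatedSpace X → QuasiSeparatedSpace Y) ∧ (X.IsSeparated → Y.IsSeparated) := by
  constructor
  · intro hX
    rw [quasiSeparatedSpace_iff_quasiSeparated] at hX ⊢
    haveI : QuasiSeparated (f ≫ Limits.terminal.from Y) := by
      rw [Limits.terminal.comp_from]; exact hX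
    exact quasiSeparated_of_comp f (Limits.terminal.from Y)
  · intro hX
    haveI : IsSeparated (f ≫ Limits.terminal.from Y) := by
      rw [Limits.terminal.comp_from]; infer_instance
    exact ⟨isSeparated_of_comp f (Limits.terminal.from Y)⟩

end Groth.Agent.S2120
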