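import Groth.Statements.S9206
import Groth.Agent.Lib.Helper13.LimSections

set_option autoImplicit false
universe u
open CategoryTheory AlgebraicGeometry
open Lim

namespace Groth.Agent.S9206

open Groth.Agent.Lib.Helper13.LimSections in
/-- Let S = lim S_i be a cofiltered limit of schemes with affine transition morphisms and let s be a
point of S with images s_i in S_i. Then the residue field κ(s) is the colimit of the residue fields
κ(s_i): every element of κ(s) is the image of an element of κ(s_i) for some i under the map of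
residue fields induced by S → S_i (the maps κ(s_i) → κ(s) being injective, this says that the
canonical map from the colimit is an isomorphism). -/
theorem result {I : Type u} [SmallCategory I] [IsCofiltered I]
    (D : I ⥤ Scheme.{u}) (c : Limits.Cone D) (hc : Limits.IsLimit c)
    [∀ (i j : I) (f : i ⟶ j), IsAffineHom (D.map f)] (s : c.pt) (a : c.pt.residueField s) :
    ∃ (i : I) (b : (D.obj i).residueField ((c.π.app i).base s)), ((c.π.app i).residueFieldMap s).hom b = a := by
  have hD : ∀ {a b : I} (f : a ⟶ b), IsAffineHom (D.map f) := fun f => inferInstance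
  obtain ⟨t, rfl⟩ := c.pt.residue_surjective s a
  obtain ⟨U, hsU, σ, rfl⟩ := c.pt.presheaf.germ_exist (x := s) t
  obtain ⟨_, ⟨i, V, hV, rfl⟩, hsV, hVU⟩ :=
    TopologicalSpace.Opens.isBasis_iff_nbhd.mp (isBasis_preimage_isAffineOpen D c hc) hsU
  obtain ⟨j, τ, hτ⟩ := exists_appLE_eq D c hc i V hV (c.pt.presheaf.map (homOfLE hVU).op σ)
  have hsj : (c.π.app j.left).base s ∈ D.map j.hom ⁻¹ᵁ V := by
    have : s ∈ c.π.app j.left ⁻¹ᵁ D.map j.hom ⁻¹ᵁ V := by
      rw [preimage_preimage_eq]; exact hsV
    exact this
  refine ⟨j.left, (D.obj j.left).evaluation _ _ hsj τ, ?_⟩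
  show ((c.π.app j.left).residueFieldMap s) _ = _
  rw [Scheme.evaluation_naturality_apply]
  have e1 : c.pt.presheaf.germ U s hsU σ = c.pt.presheaf.germ (c.π.app i ⁻¹ᵁ V) s hsV
      (c.pt.presheaf.map (homOfLE hVU).op σ) :=
    (c.pt.presheaf.germ_res_apply (homOfLE hVU) s hsV σ).symm
  rw [e1, hτ, Scheme.Hom.appLE, CommRingCat.comp_apply]
  erw [c.pt.presheaf.germ_res_apply]
  rfl

end Groth.Agent.S9206
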