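import Groth.Statements.S2154
import Groth.Agent.Lib.Helper13.LimStruct2
import Groth.Agent.S9200

set_option autoImplicit false
universe u
open CategoryTheory AlgebraicGeometry
open Lim

namespace Groth.Agent.S2154

attribute [local instance] IsCofiltered.isConnected in
open Groth.Agent.Lib.Helper13.LimProd Groth.Agent.Lib.Helper13.LimStruct in
/-- Let `S` be quasi-compact and quasi-separated and `X = lim X_i` a cofiltered limit of quasi-compact
quasi-separated `S`-schemes locally of finite type over `S`, with finite transition morphisms. If `X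
→ S` is integral then `X_i → S` is finite for all `i` beyond some index. -/
theorem result {I : Type u} [SmallCategory I] [IsCofiltered I] (S : Scheme.{u}) [CompactSpace S]
    [QuasiSeparatedSpace S] (D : I ⥤ Over S) (c : Limits.Cone D) (hc : Limits.IsLimit c)
    [∀ (i j : I) (f : i ⟶ j), IsFinite (D.map f).left] [∀ i, CompactSpace (D.obj i).left]
    [∀ i, QuasiSeparatedSpace (D.obj i).left] [∀ i, LocallyOfFiniteType (D.obj i).hom] [IsIntegralHom c.pt.hom] :
    ∃ i₀ : I, ∀ (i : I) (_ : i ⟶ i₀), IsFinite (D.obj i).hom := by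
  -- pass to the underlying diagram of schemes
  let D' : I ⥤ Scheme.{u} := D ⋙ Over.forget S
  let c' : Limits.Cone D' := (Over.forget S).mapCone c
  have hc' : Limits.IsLimit c' := Limits.isLimitOfPreserves (Over.forget S) hc
  let t : D' ⟶ (Functor.const I).obj S :=
    { app := fun i => (D.obj i).hom
      naturality := fun i j a => by
        dsimp only [Functor.const_obj_obj, Functor.const_obj_map]
        rw [Category.comp_id]
        exact Over.w (D.map a) }
  let ti : ∀ i, D'.obj i ⟶ S := fun i => (D.obj i).hom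
  have hti : ∀ {i j : I} (a : i ⟶ j), D'.map a ≫ ti j = ti i := fun a => Over.w (D.map a)
  have hcone : ∀ i, c'.π.app i ≫ ti i = c.pt.hom := fun i => Over.w (c.π.app i)
  have hDf : ∀ {a b : I} (f : a ⟶ b), IsFinite (D'.map f) := fun f =>
    inferInstanceAs (IsFinite (D.map f).left)
  have hDa : ∀ (a b : I) (f : a ⟶ b), IsAffineHom (D'.map f) := fun _ _ f => inferInstance
  have hcs : ∀ i, CompactSpace (D'.obj i) := fun i => inferInstanceAs (CompactSpace (D.obj i).left)
  have hqs : ∀ i, QuasiSeparatedSpace (D'.obj i) := fun i =>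
    inferInstanceAs (QuasiSeparatedSpace (D.obj i).left)
  obtain ⟨i₀⟩ := IsCofiltered.nonempty (C := I)
  have haff : IsAffineHom (c'.π.app i₀ ≫ t.app i₀) := by
    have : c'.π.app i₀ ≫ t.app i₀ = c.pt.hom := hcone i₀
    rw [this]
    exact (‹IsIntegralHom c.pt.hom›).toIsAffineHom
  obtain ⟨i₁, hi₁⟩ := Groth.Agent.S9200.result S D' t c' hc' i₀
  have h1 : IsAffineHom (ti i₁) := hi₁ i₁ (𝟙 _)
  have h2 : ∀ i, LocallyOfFiniteType (ti i) := fun i =>
    inferInstanceAs (LocallyOfFiniteType (D.obj i).hom)
  have h3 : IsIntegralHom (c'.π.app i₁ ≫ ti i₁) := by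
    rw [hcone i₁]; exact ‹IsIntegralHom c.pt.hom›
  obtain ⟨j, hj⟩ := exists_isFinite D' ti hti c' hc' i₁
  refine ⟨j, fun i a => ?_⟩
  have e : (D.obj i).hom = D'.map a ≫ ti j := (hti a).symm
  rw [e]
  have h4 : IsFinite (ti j) := hj
  have h5 : IsFinite (D'.map a) := hDf a
  exact MorphismProperty.comp_mem (W := @IsFinite) _ _ h5 h4

end Groth.Agent.S2154
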