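import Groth.Statements.S4759
import Mathlib

set_option autoImplicit false
universe u
open CategoryTheory AlgebraicGeometry
open Lim8

namespace Groth.Agent.S4759

/-- Let S = lim S_i be a cofiltered limit of schemes with affine transition maps, some stage S_{i₀}
being quasi-compact and quasi-separated. Then every constructible subset Z of S is the preimage
under the projection S ⟶ S_i of a constructible subset of S_i, for some index i over i₀. -/
theorem result {I : Type u} [SmallCategory I] [IsCofiltered I]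
    (D : I ⥤ Scheme.{u}) (c : Limits.Cone D) (hc : Limits.IsLimit c)
    [∀ (i j : I) (f : i ⟶ j), IsAffineHom (D.map f)] (i₀ : I) [CompactSpace (D.obj i₀)]
    [QuasiSeparatedSpace (D.obj i₀)] (Z : Set c.pt) (hZ : Topology.IsConstructible Z) :
    ∃ (i : I) (_ : i ⟶ i₀) (Zi : Set (D.obj i)),
      Topology.IsConstructible Zi ∧ (⇑(c.π.app i) ⁻¹' Zi : Set c.pt) = Z := by
  classical
  have inst : ∀ {i j : I} (f : i ⟶ j), IsAffineHom (D.map f) := fun f => inferInstance
  have hπaff := isAffineHom_π_app D c hc i₀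
  have hcpt : CompactSpace c.pt := QuasiCompact.compactSpace_of_compactSpace (c.π.app i₀)
  have hpre : ∀ {i j : I} (a : j ⟶ i) (A : Set (D.obj i)),
      (⇑(c.π.app j) ⁻¹' (⇑(D.map a) ⁻¹' A) : Set c.pt) = ⇑(c.π.app i) ⁻¹' A := by
    intro i j a A
    ext z
    simp only [Set.mem_preimage]
    rw [← Scheme.Hom.comp_apply, c.w]
  induction hZ using Topology.IsConstructible.empty_union_induction with
  | open_retrocompact U hUopen hUcomp =>
    have hUc : IsCompact U := hUcomp.isCompact
    obtain ⟨i₁, V, hVc, hV⟩ := exists_preimage_eq D c hc ⟨U, hUopen⟩ hUc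
    let i := IsCofiltered.min i₁ i₀
    let a : i ⟶ i₁ := IsCofiltered.minToLeft i₁ i₀
    let d : i ⟶ i₀ := IsCofiltered.minToRight i₁ i₀
    have hSqs : QuasiSeparatedSpace (D.obj i) := quasiSeparatedSpace_of_quasiSeparated (D.map d)
    have hV'c : IsCompact ((D.map a ⁻¹ᵁ V : (D.obj i).Opens) : Set (D.obj i)) :=
      QuasiCompact.isCompact_preimage (f := D.map a) _ V.2 hVc
    refine ⟨i, d, ((D.map a ⁻¹ᵁ V : (D.obj i).Opens) : Set (D.obj i)),
      hV'c.isConstructible (D.map a ⁻¹ᵁ V).2, ?_⟩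
    have : (⇑(c.π.app i) ⁻¹' ((D.map a ⁻¹ᵁ V : (D.obj i).Opens) : Set (D.obj i)) : Set c.pt) =
        ⇑(c.π.app i₁) ⁻¹' (V : Set (D.obj i₁)) := hpre a _
    rw [this]
    exact congrArg (fun W : c.pt.Opens => (W : Set c.pt)) hV
  | union s hs t ht hs' ht' =>
    obtain ⟨i, d, A, hA, rfl⟩ := hs'
    obtain ⟨i', d', A', hA', rfl⟩ := ht'
    let k := IsCofiltered.min i i'
    let a : k ⟶ i := IsCofiltered.minToLeft i i'
    let a' : k ⟶ i' := IsCofiltered.minToRight i i'
    refine ⟨k, a ≫ d, ⇑(D.map a) ⁻¹' A ∪ ⇑(D.map a') ⁻¹' A',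
      ((D.map a).isConstructible_preimage hA).union ((D.map a').isConstructible_preimage hA'), ?_⟩
    rw [Set.preimage_union, hpre, hpre]
  | compl s hs hs' =>
    obtain ⟨i, d, A, hA, rfl⟩ := hs'
    exact ⟨i, d, Aᶜ, hA.compl, Set.preimage_compl⟩

end Groth.Agent.S4759
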