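import Groth.Statements.S4787
import Groth.Agent.Lib.Helper16.LimProCons

set_option autoImplicit false
universe u
open CategoryTheory AlgebraicGeometry
open Lim8

namespace Groth.Agent.S4787

/-- Let S = lim S_i be a cofiltered limit of schemes with affine transition maps, some stage S_{i₀}
being quasi-compact. For every index let E_i be a pro-constructible and F_i an ind-constructible
subset of S_i such that, for every transition map S_i ⟶ S_j, E_i lies in the preimage of E_j and F_i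
contains the preimage of F_j. Put E = ⋂ (preimage of E_i in S) and F = ⋃ (preimage of F_i in S).
Then E ⊆ F if and only if there is an index i over i₀ such that E_j ⊆ F_j for every j over i. -/
theorem result {I : Type u} [SmallCategory I] [IsCofiltered I]
    (D : I ⥤ Scheme.{u}) (c : Limits.Cone D) (hc : Limits.IsLimit c)
    [∀ (i j : I) (f : i ⟶ j), IsAffineHom (D.map f)] (i₀ : I)
    [CompactSpace (D.obj i₀)] (E F : ∀ i : I, Set (D.obj i))
    (hE : ∀ i, ProCons.IsProConstructible (E i)) (hF : ∀ i, ProCons.IsIndConstructible (F i))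
    (hEm : ∀ (i j : I) (φ : i ⟶ j), E i ⊆ ⇑(D.map φ) ⁻¹' E j)
    (hFm : ∀ (i j : I) (φ : i ⟶ j), ⇑(D.map φ) ⁻¹' F j ⊆ F i) :
    (⋂ i, ⇑(c.π.app i) ⁻¹' E i : Set c.pt) ⊆ (⋃ i, ⇑(c.π.app i) ⁻¹' F i : Set c.pt) ↔
      ∃ (i : I) (_ : i ⟶ i₀), ∀ (j : I) (_ : j ⟶ i), E j ⊆ F j := by
  have inst : ∀ {i j : I} (f : i ⟶ j), IsAffineHom (D.map f) := fun f => inferInstance
  constructor
  · intro h
    obtain ⟨k, ψ, hk⟩ := Groth.Agent.Lib.Helper16.exists_index_preimage_subset D c hc i₀ E F hE hF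
      hEm hFm h
    have : CompactSpace (D.obj k) := QuasiCompact.compactSpace_of_compactSpace (D.map ψ)
    obtain ⟨j, φ, hφ⟩ := Groth.Agent.Lib.Helper16.eventuallyEmpty_sdiff D c hc (hE k) (hF k) hk
    refine ⟨j, φ ≫ ψ, ?_⟩
    intro j' θ x hx
    have h1 : (D.map (θ ≫ φ)).base x ∈ E k := hEm _ _ _ hx
    by_contra hxF
    have h2 : (D.map (θ ≫ φ)).base x ∉ F k := fun h' => hxF (hFm _ _ (θ ≫ φ) h')
    have : (D.map θ).base x ∈ (D.map φ).base ⁻¹' (E k \ F k) := by
      rw [Set.mem_preimage, ← Scheme.Hom.comp_apply, ← D.map_comp]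
      exact ⟨h1, h2⟩
    rw [hφ] at this
    exact this
  · rintro ⟨i, _, hi⟩ x hx
    rw [Set.mem_iInter] at hx
    exact Set.mem_iUnion.mpr ⟨i, hi i (𝟙 i) (hx i)⟩

end Groth.Agent.S4787
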