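import Mathlib
import Groth.Statements.S4584

set_option autoImplicit false
universe u
open CategoryTheory AlgebraicGeometry Topology
open EGA41

namespace Groth.Agent.S4584

/-- The difference of an affine open and a compact open contained in it is the image of a closed
subscheme of finite presentation of the affine open. -/
theorem aux_sdiff {X : Scheme.{u}} (W : X.Opens) (hW : IsAffineOpen W) (V : Set X)
    (hVo : IsOpen V) (hVc : IsCompact V) (hVW : V ⊆ W) :
    ∃ (X' : Scheme.{u}) (f : X' ⟶ X), IsAffine X' ∧ LocallyOfFinitePresentation f ∧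
      Set.range f = (W : Set X) \ V := by
  have h1 : IsCompact (hW.fromSpec ⁻¹' V) ∧ IsOpen (hW.fromSpec ⁻¹' V) :=
    ⟨hW.fromSpec.isOpenEmbedding.isInducing.isCompact_preimage' hVc
      (by rw [hW.range_fromSpec]; exact hVW), hVo.preimage hW.fromSpec.continuous⟩
  obtain ⟨I, hI, hIV⟩ := PrimeSpectrum.isCompact_isOpen_iff_ideal.mp h1
  refine ⟨Spec (CommRingCat.of (Γ(X, W) ⧸ I)),
    Spec.map (CommRingCat.ofHom (Ideal.Quotient.mk I)) ≫ hW.fromSpec, inferInstance, ?_, ?_⟩
  · have h2 : LocallyOfFinitePresentation (Spec.map (CommRingCat.ofHom (Ideal.Quotient.mk I))) := by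
      rw [HasRingHomProperty.Spec_iff (P := @LocallyOfFinitePresentation)]
      refine RingHom.FinitePresentation.of_surjective _ Ideal.Quotient.mk_surjective ?_
      change (RingHom.ker (Ideal.Quotient.mk I)).FG
      rw [Ideal.mk_ker]
      exact hI
    infer_instance
  · have h3 : Set.range (Spec.map (CommRingCat.ofHom (Ideal.Quotient.mk I))) =
        PrimeSpectrum.zeroLocus (I : Set Γ(X, W)) := by
      have := _root_.range_comap_of_surjective _ (Ideal.Quotient.mk I)
        Ideal.Quotient.mk_surjective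
      rw [Ideal.mk_ker] at this
      exact this
    ext x
    constructor
    · rintro ⟨z, rfl⟩
      have hz : Spec.map (CommRingCat.ofHom (Ideal.Quotient.mk I)) z ∈
          PrimeSpectrum.zeroLocus (I : Set Γ(X, W)) := h3 ▸ ⟨z, rfl⟩
      rw [Scheme.Hom.comp_apply]
      refine ⟨hW.range_fromSpec ▸ ⟨_, rfl⟩, fun hxV => ?_⟩
      have h4 : Spec.map (CommRingCat.ofHom (Ideal.Quotient.mk I)) z ∈
          (PrimeSpectrum.zeroLocus (I : Set Γ(X, W)))ᶜ := hIV ▸ hxV
      exact h4 hz
    · rintro ⟨hxW, hxV⟩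
      obtain ⟨y, rfl⟩ : x ∈ Set.range hW.fromSpec := hW.range_fromSpec ▸ hxW
      have hy : y ∈ PrimeSpectrum.zeroLocus (I : Set Γ(X, W)) := by
        by_contra hy
        exact hxV (show y ∈ hW.fromSpec ⁻¹' V from hIV ▸ hy)
      rw [← h3] at hy
      obtain ⟨z, rfl⟩ := hy
      exact ⟨z, Scheme.Hom.comp_apply _ _ _⟩

/-- The union case: take the disjoint union. -/
theorem aux_union {X X₁ X₂ : Scheme.{u}} (f₁ : X₁ ⟶ X) (f₂ : X₂ ⟶ X) [IsAffine X₁] [IsAffine X₂]
    [LocallyOfFinitePresentation f₁] [LocallyOfFinitePresentation f₂] :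
    IsAffine (X₁ ⨿ X₂) ∧ LocallyOfFinitePresentation (Limits.coprod.desc f₁ f₂) ∧
      Set.range (Limits.coprod.desc f₁ f₂) = Set.range f₁ ∪ Set.range f₂ := by
  refine ⟨inferInstance, ?_, ?_⟩
  · rw [IsZariskiLocalAtSource.iff_of_openCover (P := @LocallyOfFinitePresentation)
      (coprodOpenCover.{u, u} X₁ X₂)]
    rintro (i | i)
    · change LocallyOfFinitePresentation (Limits.coprod.inl ≫ Limits.coprod.desc f₁ f₂)
      rw [Limits.coprod.inl_desc]
      infer_instance
    · change LocallyOfFinitePresentation (Limits.coprod.inr ≫ Limits.coprod.desc f₁ f₂)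
      rw [Limits.coprod.inr_desc]
      infer_instance
  · ext x
    constructor
    · rintro ⟨z, rfl⟩
      obtain ⟨(a | b), rfl⟩ := (coprodMk X₁ X₂).surjective z
      · left
        refine ⟨a, ?_⟩
        rw [coprodMk_inl, ← Scheme.Hom.comp_apply, Limits.coprod.inl_desc]
      · right
        refine ⟨b, ?_⟩
        rw [coprodMk_inr, ← Scheme.Hom.comp_apply, Limits.coprod.inr_desc]
    · rintro (⟨a, rfl⟩ | ⟨b, rfl⟩)
      · refine ⟨(Limits.coprod.inl : X₁ ⟶ X₁ ⨿ X₂) a, ?_⟩
        rw [← Scheme.Hom.comp_apply, Limits.coprod.inl_desc]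
      · refine ⟨(Limits.coprod.inr : X₂ ⟶ X₁ ⨿ X₂) b, ?_⟩
        rw [← Scheme.Hom.comp_apply, Limits.coprod.inr_desc]

/-- Given a scheme X that is quasi-compact and quasi-separated, together with a constructible subset Z
of X, one can find an affine scheme X' with a morphism X' → X of finite presentation whose image
equals Z. -/
theorem result (X : Scheme.{u}) [CompactSpace X]
    [QuasiSeparatedSpace X] (Z : Set X) (hZ : IsConstructible Z) :
    ∃ (X' : Scheme.{u}) (f : X' ⟶ X), IsAffine X' ∧ LocallyOfFinitePresentation f ∧ QuasiCompact f ∧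
      QuasiSeparated f ∧ Set.range f.base = Z := by
  suffices h : ∃ (X' : Scheme.{u}) (f : X' ⟶ X), IsAffine X' ∧ LocallyOfFinitePresentation f ∧
      Set.range f = Z by
    obtain ⟨X', f, h1, h2, h3⟩ := h
    exact ⟨X', f, h1, h2, inferInstance, inferInstance, h3⟩
  have hne : Nonempty X.affineOpens := ⟨⟨⊥, isAffineOpen_bot X⟩⟩
  refine IsConstructible.induction_of_isTopologicalBasis
    (P := fun Z _ => ∃ (X' : Scheme.{u}) (f : X' ⟶ X), IsAffine X' ∧
      LocallyOfFinitePresentation f ∧ Set.range f = Z)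
    (fun U : X.affineOpens => ((U : X.Opens) : Set X)) ?_ ?_ ?_ ?_ Z hZ
  · have := X.isBasis_affineOpens
    rw [TopologicalSpace.Opens.IsBasis] at this
    convert this using 1
    ext s
    simp only [Set.mem_range, Set.mem_image, Subtype.exists, exists_prop]
  · exact fun U => U.2.isCompact
  · intro W s hs
    let V : Set X := (W : X.Opens) ∩ ⋃ j ∈ s, ((j : X.Opens) : Set X)
    have hVo : IsOpen V := W.1.2.inter (isOpen_biUnion fun j _ => j.1.2)
    have hVc : IsCompact V := by
      simp only [V, Set.inter_iUnion₂]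
      exact hs.isCompact_biUnion fun j _ =>
        QuasiSeparatedSpace.inter_isCompact _ _ W.1.2 W.2.isCompact j.1.2 j.2.isCompact
    obtain ⟨X', f, h1, h2, h3⟩ := aux_sdiff W.1 W.2 V hVo hVc Set.inter_subset_left
    refine ⟨X', f, h1, h2, ?_⟩
    rw [h3]
    ext x
    simp only [V, Set.mem_sdiff, Set.mem_inter_iff, not_and]
    constructor
    · rintro ⟨hxW, hx⟩
      exact ⟨hxW, hx hxW⟩
    · rintro ⟨hxW, hx⟩
      exact ⟨hxW, fun _ => hx⟩
  · rintro s hs t ht ⟨X₁, f₁, h11, h12, rfl⟩ ⟨X₂, f₂, h21, h22, rfl⟩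
    obtain ⟨h1, h2, h3⟩ := aux_union f₁ f₂
    exact ⟨X₁ ⨿ X₂, Limits.coprod.desc f₁ f₂, h1, h2, h3⟩

end Groth.Agent.S4584
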