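import Groth.Statements.S4788
import Groth.Agent.Lib.Helper18.LimHomSys
import Groth.Agent.Lib.Helper18.FPPullEpi
import Groth.Agent.Lib.Helper18.LimModEpi
import Groth.Agent.S8872
import Groth.Agent.S8913

set_option autoImplicit false
universe u
open CategoryTheory AlgebraicGeometry
open Lim8

namespace Groth.Agent.S4788

/-- Let S = lim S_i be a cofiltered limit of schemes with affine transition maps, some stage S_{i₀}
being quasi-compact and quasi-separated. Then every quasi-coherent O_S-module of finite presentation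
F is isomorphic to the pullback along S ⟶ S_i of a quasi-coherent O_{S_i}-module of finite
presentation, for some index i over i₀ (only the existence of an isomorphism is asserted, as in the
published statement). -/
theorem result {I : Type u} [SmallCategory I] [IsCofiltered I]
    (D : I ⥤ Scheme.{u}) (c : Limits.Cone D) (hc : Limits.IsLimit c)
    [∀ (i j : I) (f : i ⟶ j), IsAffineHom (D.map f)] (i₀ : I)
    [CompactSpace (D.obj i₀)] [QuasiSeparatedSpace (D.obj i₀)] (F : c.pt.Modules)
    [Coh.IsQCoh F] (hFfp : CohB1.IsFP F) :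
    ∃ (i : I) (_ : i ⟶ i₀) (Fi : (D.obj i).Modules), Coh.IsQCoh Fi ∧ CohB1.IsFP Fi ∧
      Nonempty ((Scheme.Modules.pullback (c.π.app i)).obj Fi ≅ F) := by
  have hFq : F.IsQuasicoherent := ‹Coh.IsQCoh F›
  have haff : IsAffineHom (c.π.app i₀) := isAffineHom_π_app D c hc i₀
  have hFft : SheafOfModules.IsFiniteType (R := c.pt.ringCatSheaf) F :=
    Groth.Agent.S8913.isFiniteType_of_isFinitePresentation F hFfp
  -- a first epimorphism from the pullback of a finitely presented module
  obtain ⟨H₀, q₁, hH₀, hq₁⟩ := Groth.Agent.Lib.Helper18.FPPullEpi.exists_fp_epi_pullback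
    (S := c.pt) (c.π.app i₀) F hFft
  have hH₀q : H₀.IsQuasicoherent :=
    Groth.Agent.Lib.Helper18.FPM.isQuasicoherent_of_isFinitePresentation hH₀
  have hPq : ((Scheme.Modules.pullback (c.π.app i₀)).obj H₀).IsQuasicoherent :=
    Groth.Agent.Lib.Helper16.FlatPull.isQuasicoherent_pullback (c.π.app i₀) H₀
  have hPft : SheafOfModules.IsFiniteType (R := c.pt.ringCatSheaf)
      ((Scheme.Modules.pullback (c.π.app i₀)).obj H₀) :=
    @Groth.Agent.S8872.isFiniteType_pullback _ _ (c.π.app i₀) H₀ hH₀q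
      (Groth.Agent.S8913.isFiniteType_of_isFinitePresentation H₀ hH₀)
  -- the kernel of `q₁`
  have hKq : (Limits.kernel q₁).IsQuasicoherent :=
    Groth.Agent.Lib.Helper49.isQuasicoherent_kernel q₁ hPq hFq
  have hKft : SheafOfModules.IsFiniteType (R := c.pt.ringCatSheaf) (Limits.kernel q₁) :=
    Groth.Agent.Lib.Helper18.FPM.isFiniteType_kernel_of_epi q₁
      (fun T => Groth.Agent.Lib.Helper49.finite_sections_of_isFiniteType _ hPft T.2)
      (fun T => Groth.Agent.Lib.Helper49.finitePresentation_sections_of_isFinitePresentation _ hFfp T.2)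
  obtain ⟨H₁, q₂, hH₁, hq₂⟩ := Groth.Agent.Lib.Helper18.FPPullEpi.exists_fp_epi_pullback
    (S := c.pt) (c.π.app i₀) (Limits.kernel q₁) hKft
  have hH₁q : H₁.IsQuasicoherent :=
    Groth.Agent.Lib.Helper18.FPM.isQuasicoherent_of_isFinitePresentation hH₁
  obtain ⟨j, uj, huj⟩ := Groth.Agent.Lib.Helper18.LimHomSys.exists_hom_stage D c i₀ H₀ hc H₁ hH₁
    (q₂ ≫ Limits.kernel.ι q₁)
  have hHjq : ((Scheme.Modules.pullback (D.map j.hom)).obj H₁).IsQuasicoherent :=
    Groth.Agent.Lib.Helper16.FlatPull.isQuasicoherent_pullback (D.map j.hom) H₁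
  have hHjft : SheafOfModules.IsFiniteType (R := (D.obj j.left).ringCatSheaf)
      ((Scheme.Modules.pullback (D.map j.hom)).obj H₁) :=
    @Groth.Agent.S8872.isFiniteType_pullback _ _ (D.map j.hom) H₁ hH₁q
      (Groth.Agent.S8913.isFiniteType_of_isFinitePresentation H₁ hH₁)
  have hFjfp : SheafOfModules.IsFinitePresentation (R := (D.obj j.left).ringCatSheaf)
      ((Scheme.Modules.pullback (D.map j.hom)).obj H₀) :=
    Groth.Agent.S8913.isFinitePresentation_pullback (D.map j.hom) H₀ hH₀
  have hGjfp : SheafOfModules.IsFinitePresentation (R := (D.obj j.left).ringCatSheaf)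
      (Limits.cokernel uj) :=
    Groth.Agent.Lib.Helper18.FPPullEpi.isFinitePresentation_cokernel uj hHjft hFjfp
  have hGjq : (Limits.cokernel uj).IsQuasicoherent :=
    Groth.Agent.Lib.Helper18.FPM.isQuasicoherent_of_isFinitePresentation hGjfp
  have w : (q₂ ≫ Limits.kernel.ι q₁) ≫ q₁ = 0 := by
    rw [Category.assoc, Limits.kernel.condition, Limits.comp_zero]
  have hcok : Limits.IsColimit (Limits.CokernelCofork.ofπ q₁ w) :=
    Limits.isCokernelEpiComp (Abelian.epiIsCokernelOfKernel _ (Limits.kernelIsKernel q₁)) q₂ rfl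
  obtain ⟨e, he⟩ := Groth.Agent.Lib.Helper18.FPPullEpi.exists_iso_map_cokernel
    (Scheme.Modules.pullback (c.π.app j.left)) uj (q₂ ≫ Limits.kernel.ι q₁) q₁ w hcok
    (Groth.Agent.Lib.Helper18.TransSec.compIso (X' := c.pt) (c.π.app j.left) (D.map j.hom)
      (c.π.app i₀) (c.w j.hom) H₁)
    (Groth.Agent.Lib.Helper18.TransSec.compIso (X' := c.pt) (c.π.app j.left) (D.map j.hom)
      (c.π.app i₀) (c.w j.hom) H₀) huj
  exact ⟨j.left, j.hom, Limits.cokernel uj, hGjq, hGjfp, ⟨e⟩⟩

end Groth.Agent.S4788
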