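import Groth.Statements.S4790
import Groth.Agent.Lib.Helper18.LimHomSys
import Groth.Agent.Lib.Helper18.LimModEpi

set_option autoImplicit false
universe u
open CategoryTheory AlgebraicGeometry
open Lim8

namespace Groth.Agent.S4790

/-- Let S = lim S_i be a cofiltered limit of schemes with affine transition maps and S_{i₀} a
quasi-compact quasi-separated stage; let F₀ and G₀ be quasi-coherent O-modules of finite
presentation on S_{i₀}. Then the pullbacks of F₀ and G₀ along S ⟶ S_{i₀} are isomorphic if and only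
if, for some index j over i₀, their pullbacks along S_j ⟶ S_{i₀} are isomorphic. -/
theorem result {I : Type u} [SmallCategory I] [IsCofiltered I]
    (D : I ⥤ Scheme.{u}) (c : Limits.Cone D) (hc : Limits.IsLimit c)
    [∀ (i j : I) (f : i ⟶ j), IsAffineHom (D.map f)] (i₀ : I) [CompactSpace (D.obj i₀)]
    [QuasiSeparatedSpace (D.obj i₀)] (F₀ G₀ : (D.obj i₀).Modules)
    [Coh.IsQCoh F₀] (hF₀fp : CohB1.IsFP F₀)
    [Coh.IsQCoh G₀] (hG₀fp : CohB1.IsFP G₀) :
    Nonempty ((Scheme.Modules.pullback (c.π.app i₀)).obj F₀ ≅ (Scheme.Modules.pullback (c.π.app i₀)).obj G₀) ↔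
      ∃ (j : I) (φ : j ⟶ i₀),
        Nonempty ((Scheme.Modules.pullback (D.map φ)).obj F₀ ≅ (Scheme.Modules.pullback (D.map φ)).obj G₀) := by
  have hF₀q : F₀.IsQuasicoherent := ‹Coh.IsQCoh F₀›
  have hG₀q : G₀.IsQuasicoherent := ‹Coh.IsQCoh G₀›
  constructor
  · rintro ⟨e⟩
    obtain ⟨j, hj, he⟩ :=
      Groth.Agent.Lib.Helper18.LimHomSys.exists_hom_stage D c i₀ G₀ hc F₀ hF₀fp e.hom
    -- the pullback of `hj` to the limit is an isomorphism
    have hiso : IsIso ((Scheme.Modules.pullback (c.π.app j.left)).map hj) := by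
      have h1 : (Scheme.Modules.pullback (c.π.app j.left)).map hj =
          (Groth.Agent.Lib.Helper18.TransSec.compIso (X' := c.pt) (c.π.app j.left) (D.map j.hom)
            (c.π.app i₀) (c.w j.hom) F₀).hom ≫ e.hom ≫
          (Groth.Agent.Lib.Helper18.TransSec.compIso (X' := c.pt) (c.π.app j.left) (D.map j.hom)
            (c.π.app i₀) (c.w j.hom) G₀).inv := by
        rw [← he]
        simp
      rw [h1]
      infer_instance
    -- the modules at the stage `j`
    have hF₁q : ((Scheme.Modules.pullback (D.map j.hom)).obj F₀).IsQuasicoherent :=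
      Groth.Agent.Lib.Helper16.FlatPull.isQuasicoherent_pullback (D.map j.hom) F₀
    have hG₁q : ((Scheme.Modules.pullback (D.map j.hom)).obj G₀).IsQuasicoherent :=
      Groth.Agent.Lib.Helper16.FlatPull.isQuasicoherent_pullback (D.map j.hom) G₀
    have hF₀ft : SheafOfModules.IsFiniteType (R := (D.obj i₀).ringCatSheaf) F₀ :=
      Groth.Agent.S8913.isFiniteType_of_isFinitePresentation F₀ hF₀fp
    have hF₁ : SheafOfModules.IsFiniteType (R := (D.obj j.left).ringCatSheaf)
        ((Scheme.Modules.pullback (D.map j.hom)).obj F₀) :=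
      haveI := hF₀ft
      Groth.Agent.S8872.isFiniteType_pullback (D.map j.hom) F₀
    have hG₁ : SheafOfModules.IsFinitePresentation (R := (D.obj j.left).ringCatSheaf)
        ((Scheme.Modules.pullback (D.map j.hom)).obj G₀) :=
      Groth.Agent.S8913.isFinitePresentation_pullback (D.map j.hom) G₀ hG₀fp
    have hcpt : CompactSpace (D.obj j.left) :=
      Groth.Agent.Lib.Helper18.LimModEpi.compactSpace_of_hom D i₀ j.hom
    obtain ⟨k, ψ, hk⟩ := Groth.Agent.Lib.Helper18.LimModEpi.exists_isIso_pullback_map D c hc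
      j.left hj hF₁ hG₁ hiso
    refine ⟨k, ψ ≫ j.hom, ⟨?_⟩⟩
    exact ((Scheme.Modules.pullbackComp (D.map ψ) (D.map j.hom) ≪≫
        Scheme.Modules.pullbackCongr (D.map_comp ψ j.hom).symm).app F₀).symm ≪≫
      asIso ((Scheme.Modules.pullback (D.map ψ)).map hj) ≪≫
      (Scheme.Modules.pullbackComp (D.map ψ) (D.map j.hom) ≪≫
        Scheme.Modules.pullbackCongr (D.map_comp ψ j.hom).symm).app G₀
  · rintro ⟨j, φ, ⟨ε⟩⟩
    exact ⟨((Scheme.Modules.pullbackComp (c.π.app j) (D.map φ) ≪≫
        Scheme.Modules.pullbackCongr (c.w φ)).app F₀).symm ≪≫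
      (Scheme.Modules.pullback (c.π.app j)).mapIso ε ≪≫
      (Scheme.Modules.pullbackComp (c.π.app j) (D.map φ) ≪≫
        Scheme.Modules.pullbackCongr (c.w φ)).app G₀⟩

end Groth.Agent.S4790
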