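import Groth.Statements.S4784
-- import your own Groth.Agent.* helpers here

set_option autoImplicit false
universe u
open CategoryTheory AlgebraicGeometry Limits
open Lim8

namespace Groth.Agent.S4784

/-- Let S = lim S_i be a cofiltered limit of schemes with affine transition maps and let i be an index.
Then the image of the projection S ⟶ S_i equals the intersection, over all indices j over i, of the
images of the transition maps S_j ⟶ S_i. -/
theorem result {I : Type u} [SmallCategory I] [IsCofiltered I]
    (D : I ⥤ Scheme.{u}) (c : Limits.Cone D) (hc : Limits.IsLimit c)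
    [∀ (i j : I) (f : i ⟶ j), IsAffineHom (D.map f)] (i : I) :
    Set.range ⇑(c.π.app i) = ⋂ (j : I) (φ : j ⟶ i), Set.range ⇑(D.map φ) := by
  classical
  apply subset_antisymm
  · rintro _ ⟨s, rfl⟩
    simp only [Set.mem_iInter]
    intro j φ
    exact ⟨c.π.app j s, by rw [← Scheme.Hom.comp_apply, c.w]⟩
  · intro x hx
    simp only [Set.mem_iInter] at hx
    have inst : ∀ {i j : I} (f : i ⟶ j), IsAffineHom (D.map f) := fun f => inferInstance
    let g := (D.obj i).fromSpecResidueField x
    let F : Over i ⥤ Scheme.{u} := Over.post D ⋙ Over.pullback g ⋙ Over.forget _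
    have hFaff (i' : Over i) : IsAffine (F.obj i') :=
      inferInstanceAs (IsAffine (pullback (D.map i'.hom) g))
    have hFne (i' : Over i) : Nonempty (F.obj i') := by
      obtain ⟨y, hy⟩ := hx i'.left i'.hom
      have hpt : Nonempty (Spec ((D.obj i).residueField x)) := inferInstance
      obtain ⟨t⟩ := hpt
      have hgt : g t = x := Scheme.fromSpecResidueField_apply x t
      obtain ⟨z, _, _⟩ := Scheme.Pullback.exists_preimage_pullback (f := D.map i'.hom) (g := g) y t
        (hy.trans hgt.symm)
      exact ⟨z⟩
    let e : F ⟶ (F ⋙ Scheme.Γ.rightOp) ⋙ Scheme.Spec := Functor.whiskerLeft F ΓSpec.adjunction.unit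
    have (i : _) : IsIso (e.app i) := IsAffine.affine
    have : IsIso e := NatIso.isIso_of_isIso_app e
    let c' : LimitCone F := ⟨_, (IsLimit.postcomposeInvEquiv (asIso e) _).symm
      (isLimitOfPreserves Scheme.Spec (limit.isLimit (F ⋙ Scheme.Γ.rightOp)))⟩
    have hne : Nonempty c'.1.pt := by
      apply +allowSynthFailures PrimeSpectrum.instNonemptyOfNontrivial
      have (i' : _) : Nontrivial ((F ⋙ Scheme.Γ.rightOp).leftOp.obj i') := by
        apply +allowSynthFailures Scheme.component_nontrivial
        exact ⟨(hFne i'.unop).some, trivial⟩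
      exact CommRingCat.FilteredColimits.nontrivial
        (isColimitCoconeLeftOpOfCone _ (limit.isLimit (F ⋙ Scheme.Γ.rightOp)))
    let α : F ⟶ Over.forget _ ⋙ D := Functor.whiskerRight
      (Functor.whiskerLeft (Over.post D) (Over.mapPullbackAdj g).counit) (Over.forget _)
    let hc' := (Functor.Initial.isLimitWhiskerEquiv (Over.forget i) c).symm hc
    let l : c'.1.pt ⟶ c.pt := hc'.lift ((Cone.postcompose α).obj c'.1)
    obtain ⟨t⟩ := hne
    refine ⟨l t, ?_⟩
    have h1 : l ≫ c.π.app i = c'.1.π.app (Over.mk (𝟙 i)) ≫ α.app (Over.mk (𝟙 i)) :=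
      hc'.fac ((Cone.postcompose α).obj c'.1) (Over.mk (𝟙 i))
    have h2 : α.app (Over.mk (𝟙 i)) = pullback.fst (D.map (𝟙 i)) g := by
      simp [α, F]
      rfl
    have h3 : pullback.fst (D.map (𝟙 i)) g = pullback.snd (D.map (𝟙 i)) g ≫ g := by
      have := pullback.condition (f := D.map (𝟙 i)) (g := g)
      simpa using this
    rw [← Scheme.Hom.comp_apply, h1, h2, h3]
    exact Scheme.fromSpecResidueField_apply x _

end Groth.Agent.S4784
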