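import Groth.Statements.S10865
import Groth.Agent.Lib.Helper45.Dev.DevRoots
import Groth.Agent.Lib.Helper67.DevGlobal
import Groth.Agent.Lib.Helper49.ProperSupport
import Groth.Agent.Lib.Helper49.PushforwardFinite

set_option autoImplicit false
universe u
open Coherent

namespace Groth.Agent.S10865

attribute [local instance] CategoryTheory.Abelian.hasFiniteBiproducts

open CategoryTheory CategoryTheory.Limits AlgebraicGeometry in
/-- Let X be a nonempty Noetherian scheme and K an isomorphism-closed class of O_X-modules such that (a)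
in a short exact sequence of coherent modules, if the middle and right terms lie in K so does the
left one, and if the two outer terms lie in K so does the middle one; (b) if a coherent F has some
d-fold direct sum (d ≥ 1) in K then F lies in K. If for every integral closed subscheme i : Z → X
there is a coherent O_Z-module with nonzero stalk at the generic point whose direct image under i
lies in K, then every coherent O_X-module lies in K. (For the empty scheme the hypotheses hold for
the empty class, so X is taken nonempty here.) -/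
theorem result (X : Scheme.{u}) [IsNoetherian X] [Nonempty X]
    (K : ObjectProperty X.Modules) [K.IsClosedUnderIsomorphisms]
    (ha : ∀ S : ShortComplex X.Modules, S.ShortExact → Coh.IsCoh S.X₁ → Coh.IsCoh S.X₂ → Coh.IsCoh S.X₃ →
      (K S.X₂ → K S.X₃ → K S.X₁) ∧ (K S.X₁ → K S.X₃ → K S.X₂))
    (hb : ∀ (F : X.Modules) (d : ℕ), 1 ≤ d → Coh.IsCoh F → K (∐ fun _ : Fin d => F) → K F)
    (hgen : ∀ (Z : Scheme.{u}) (i : Z ⟶ X) [IsClosedImmersion i] [IsIntegral Z],
      ∃ H : Z.Modules, Coh.IsCoh H ∧ Nontrivial (H.presheaf.stalk (genericPoint Z)) ∧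
        K ((Scheme.Modules.pushforward i).obj H))
    (F : X.Modules) (hF : Coh.IsCoh F) : K F := by
  open Groth.Agent.Lib.Helper45.DevRoots Groth.Agent.Lib.Helper45.GraphTrick
    Groth.Agent.Lib.Helper45.CoprimarySheaf Groth.Agent.Lib.Helper67.Devissage
    Groth.Agent.Lib.Helper49 in
  -- the module attached to the closure of a point
  have hgen' : ∀ x : X, ∃ G : X.Modules, Coh.IsCoh G ∧ CohB1.support G ⊆ closure {x} ∧ K G ∧
      Nontrivial ↑(G.presheaf.stalk x) ∧
      ∀ a ∈ IsLocalRing.maximalIdeal (X.presheaf.stalk x),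
        ∀ g : ↑(G.presheaf.stalk x), a • g = 0 := by
    intro x
    obtain ⟨H, hH, hHnt, hKH⟩ := hgen (IZ x).subscheme (IZ x).subschemeι
    have := hH.1
    have hGq : ((Scheme.Modules.pushforward (IZ x).subschemeι).obj H).IsQuasicoherent :=
      isQuasicoherent_pushforward H (IZ x).subschemeι
    have hG : Coh.IsCoh ((Scheme.Modules.pushforward (IZ x).subschemeι).obj H) :=
      ⟨hGq, isFiniteType_pushforward_of_isFinite (IZ x).subschemeι H hH.2⟩
    have hpt : (IZ x).subschemeι (genericPoint (IZ x).subscheme) = x := by
      have h1 : IsGenericPoint ((IZ x).subschemeι (genericPoint (IZ x).subscheme))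
          (closure {x}) := by
        have h2 := (IZ x).subschemeι.isClosedEmbedding.closure_image_eq
          ({genericPoint (IZ x).subscheme} : Set (IZ x).subscheme)
        rw [Set.image_singleton, (genericPoint_spec (IZ x).subscheme).def, Set.image_univ,
          range_subschemeι_IZ] at h2
        exact h2
      have h3 : IsGenericPoint x (closure {x}) := rfl
      exact h1.eq h3
    refine ⟨_, hG, ?_, hKH, ?_, ?_⟩
    · intro z hz
      by_contra hzc
      refine hz (Groth.Agent.Lib.Helper49.ProperSupport.subsingleton_stalk_pushforward (IZ x).subschemeι H z ?_)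
      rwa [range_subschemeι_IZ]
    · obtain ⟨t, ht⟩ := exists_ne (0 : ↑(H.presheaf.stalk (genericPoint (IZ x).subscheme)))
      obtain ⟨W, hηW, s, rfl⟩ := TopCat.Presheaf.exists_germ_eq H.presheaf t
      obtain ⟨U, rfl⟩ := exists_preimage_eq (IZ x).subschemeι W
      have hxU : x ∈ U := by
        have : (IZ x).subschemeι (genericPoint (IZ x).subscheme) ∈ U := hηW
        rwa [hpt] at this
      by_contra hnt
      rw [not_nontrivial_iff_subsingleton] at hnt
      let s' : Γ((Scheme.Modules.pushforward (IZ x).subschemeι).obj H, U) := s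
      have hg : ((Scheme.Modules.pushforward (IZ x).subschemeι).obj H).presheaf.germ U x hxU s'
          = 0 := hnt.elim _ _
      obtain ⟨U', hxU', hU', hres⟩ := exists_restrict_eq_zero_of_germ_eq_zero _ hxU s' hg
      apply ht
      have hηU' : genericPoint (IZ x).subscheme ∈ (IZ x).subschemeι ⁻¹ᵁ U' := by
        change (IZ x).subschemeι (genericPoint (IZ x).subscheme) ∈ U'
        rwa [hpt]
      have hle : (IZ x).subschemeι ⁻¹ᵁ U' ≤ (IZ x).subschemeι ⁻¹ᵁ U := fun a ha => hU' ha
      rw [← TopCat.Presheaf.germ_res_apply H.presheaf (homOfLE hle) _ hηU' s]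
      have h0 : H.presheaf.map (homOfLE hle).op s = 0 := hres
      rw [h0, map_zero]
    · apply stalk_killed_of_killedByIdeal
      intro U a ha m
      have hsm : a • m = ((IZ x).subschemeι.app U.1 a) •
          (show Γ(H, (IZ x).subschemeι ⁻¹ᵁ U.1) from m) :=
        Groth.Agent.Lib.Helper45.pushforward_smul (IZ x).subschemeι H U.1 a m
      rw [hsm]
      have h0 : (IZ x).subschemeι.app U.1 a = 0 := by
        have h1 := (IZ x).ker_subschemeι_app U
        have h2 : a ∈ RingHom.ker ((IZ x).subschemeι.app U.1).hom := by rw [h1]; exact ha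
        exact h2
      rw [h0, zero_smul]
      rfl
  -- `K` holds for zero modules
  have hzero : ∀ N : X.Modules, IsZero N → K N := by
    intro N hN
    obtain ⟨x₀⟩ := ‹Nonempty X›
    obtain ⟨G, hG, -, hKG, -, -⟩ := hgen' x₀
    have := hG.1
    have hz : IsZero (kernel (𝟙 G)) := isZero_kernel_of_mono (𝟙 G)
    have hc : Coh.IsCoh (kernel (𝟙 G)) := isCoh_kernel _ hG hG.1
    have := (ha _ (shortExact_kernel (𝟙 G)) hc hG hG).1 hKG hKG
    exact K.prop_of_iso (hz.iso hN) this
  refine devissage_roots (fun M => K M) ?_ hzero Set.univ isClosed_univ ?_ ?_ ?_ ?_ F hF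
    (Set.subset_univ _)
  · rintro A B ⟨e⟩ hA
    exact K.prop_of_iso e hA
  · intro S hS h1 h2 h3 _
    exact (ha S hS h1 h2 h3).2
  · intro S hS h1 h2 h3 _
    exact (ha S hS h1 h2 h3).1
  · intro F n hn hF _ hP
    exact hb F n hn hF (K.prop_of_iso (biproduct.isoCoproduct (fun _ : Fin n => F)) hP)
  · intro x _
    exact hgen' x

end Groth.Agent.S10865
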