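import Groth.Statements.S4875
import Groth.Agent.Lib.Helper20.SchDomFlat

set_option autoImplicit false
universe u
open CategoryTheory AlgebraicGeometry
open EGA43

namespace Groth.Agent.S4875

open Groth.Agent.Lib.Helper20.SchDenseFlat TensorProduct CategoryTheory.Limits TopologicalSpace

theorem appLE_congr_hom' {P Y : Scheme.{u}} {q q' : P ⟶ Y} (h : q = q') {U : Y.Opens} {V : P.Opens}
    (e : V ≤ q ⁻¹ᵁ U) (e' : V ≤ q' ⁻¹ᵁ U) : q.appLE U V e = q'.appLE U V e' := by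
  subst h; rfl

-- the comorphism of `Spec R ⟶ Spec Γ(W') ⟶ X'` over `W'`
theorem specMap_fromSpec_appLE {X' : Scheme.{u}} {W' : X'.Opens} (hW' : IsAffineOpen W')
    {R : CommRingCat.{u}} (φ : Γ(X', W') ⟶ R)
    (e : (⊤ : (Spec R).Opens) ≤ (Spec.map φ ≫ hW'.fromSpec) ⁻¹ᵁ W') :
    (Spec.map φ ≫ hW'.fromSpec).appLE W' ⊤ e = φ ≫ (Scheme.ΓSpecIso R).inv := by
  rw [Scheme.Hom.comp_appLE, hW'.fromSpec_app_self, Category.assoc, Scheme.Hom.map_appLE,
    Scheme.ΓSpecIso_inv_naturality]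
  rfl

theorem one_tmul_eq_zero {X X' Zi : Scheme.{u}} (fi : Zi ⟶ X) (g : X' ⟶ X) (U' : X.Opens)
    (hU' : IsAffineOpen U') (C : Zi.Opens) (hC : IsAffineOpen C) (eC : C ≤ fi ⁻¹ᵁ U')
    (W' : X'.Opens) (hW' : IsAffineOpen W') (eW : W' ≤ g ⁻¹ᵁ U')
    (V : X'.Opens) (hWV : W' ≤ V) (t : Γ(X', V)) (ht : (pullback.snd fi g).app V t = 0) :
    letI := (fi.appLE U' C eC).hom.toAlgebra
    letI := (g.appLE U' W' eW).hom.toAlgebra
    (1 : Γ(Zi, C)) ⊗ₜ[Γ(X, U')] (X'.presheaf.map (homOfLE hWV).op t) = 0 := by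
  letI algC := (fi.appLE U' C eC).hom.toAlgebra
  letI algB := (g.appLE U' W' eW).hom.toAlgebra
  let R : CommRingCat.{u} := CommRingCat.of (Γ(Zi, C) ⊗[Γ(X, U')] Γ(X', W'))
  let φC : Γ(Zi, C) ⟶ R := CommRingCat.ofHom
    (Algebra.TensorProduct.includeLeftRingHom (R := Γ(X, U')) (A := Γ(Zi, C)) (B := Γ(X', W')))
  let φB : Γ(X', W') ⟶ R := CommRingCat.ofHom
    (Algebra.TensorProduct.includeRight (R := Γ(X, U')) (A := Γ(Zi, C)) (B := Γ(X', W'))).toRingHom
  let α : Spec R ⟶ Zi := Spec.map φC ≫ hC.fromSpec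
  let β : Spec R ⟶ X' := Spec.map φB ≫ hW'.fromSpec
  have hφ : fi.appLE U' C eC ≫ φC = g.appLE U' W' eW ≫ φB := by
    have hφ' := Algebra.TensorProduct.includeLeftRingHom_comp_algebraMap
      (R := Γ(X, U')) (A := Γ(Zi, C)) (B := Γ(X', W'))
    ext a
    exact DFunLike.congr_fun hφ' a
  have w : α ≫ fi = β ≫ g := by
    simp only [α, β, Category.assoc]
    rw [← IsAffineOpen.SpecMap_appLE_fromSpec fi hU' hC eC,
      ← IsAffineOpen.SpecMap_appLE_fromSpec g hU' hW' eW, ← Spec.map_comp_assoc,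
      ← Spec.map_comp_assoc, hφ]
  let j : Spec R ⟶ pullback fi g := pullback.lift α β w
  have hj : j ≫ pullback.snd fi g = β := pullback.lift_snd _ _ _
  have e1 : (⊤ : (Spec R).Opens) ≤ β ⁻¹ᵁ W' := by
    intro x _
    change (Spec.map φB ≫ hW'.fromSpec) x ∈ W'
    rw [Scheme.Hom.comp_apply]
    have : hW'.fromSpec (Spec.map φB x) ∈ hW'.fromSpec.opensRange := ⟨_, rfl⟩
    rwa [hW'.opensRange_fromSpec] at this
  have e2 : (⊤ : (Spec R).Opens) ≤ β ⁻¹ᵁ V := e1.trans (β.preimage_mono hWV)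
  have e3 : (⊤ : (Spec R).Opens) ≤ (j ≫ pullback.snd fi g) ⁻¹ᵁ V := by rw [hj]; exact e2
  have h1 : (j ≫ pullback.snd fi g).appLE V ⊤ e3 t = 0 := by
    rw [Scheme.Hom.comp_appLE, CommRingCat.comp_apply, ht, map_zero]
  have h2 : β.appLE V ⊤ e2 t = 0 := by
    rw [← appLE_congr_hom' hj e3 e2]; exact h1
  have h3 : β.appLE W' ⊤ e1 (X'.presheaf.map (homOfLE hWV).op t) = 0 := by
    rw [← CommRingCat.comp_apply, Scheme.Hom.map_appLE]
    exact h2
  rw [specMap_fromSpec_appLE hW' φB e1, CommRingCat.comp_apply] at h3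
  have h4 := congrArg (Scheme.ΓSpecIso R).hom h3
  rw [← CommRingCat.comp_apply, Iso.inv_hom_id, map_zero] at h4
  exact h4

-- index type for the affine opens of the `Z i` lying over `U'`
abbrev Idx {X : Scheme.{u}} {ι : Type u} (Z : ι → Scheme.{u}) (f : ∀ i, Z i ⟶ X) (U' : X.Opens) :
    Type u :=
  Σ i : ι, {C : (Z i).Opens // IsAffineOpen C ∧ C ≤ (f i) ⁻¹ᵁ U'}

abbrev Cl {X : Scheme.{u}} {ι : Type u} (Z : ι → Scheme.{u}) (f : ∀ i, Z i ⟶ X) (U' : X.Opens)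
    (l : Idx Z f U') : Type u := Γ(Z l.1, l.2.1)

noncomputable abbrev algC {X : Scheme.{u}} {ι : Type u} (Z : ι → Scheme.{u}) (f : ∀ i, Z i ⟶ X)
    (U' : X.Opens) (l : Idx Z f U') : Algebra Γ(X, U') (Cl Z f U' l) :=
  ((f l.1).appLE U' l.2.1 l.2.2.2).hom.toAlgebra

theorem jointInj_of_dominant {X : Scheme.{u}} {ι : Type u} (Z : ι → Scheme.{u})
    (f : ∀ i, Z i ⟶ X)
    (h : ∀ (V : X.Opens) (t : Γ(X, V)), (∀ i, (f i).app V t = 0) → t = 0)
    (U' : X.Opens) (hU' : IsAffineOpen U') :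
    letI : ∀ l : Idx Z f U', Algebra Γ(X, U') (Cl Z f U' l) := algC Z f U'
    JointInj (A := Γ(X, U')) (N := Γ(X, U')) (Nl := Cl Z f U')
      (fun l => Algebra.linearMap Γ(X, U') (Cl Z f U' l)) := by
  letI : ∀ l : Idx Z f U', Algebra Γ(X, U') (Cl Z f U' l) := algC Z f U'
  intro g₀ n hn
  have hD : X.basicOpen g₀ ≤ U' := X.basicOpen_le g₀
  have hres : X.presheaf.map (homOfLE hD).op n = 0 := by
    apply h (X.basicOpen g₀)
    intro i
    refine TopCat.Presheaf.section_ext (Z i).sheaf ((f i) ⁻¹ᵁ X.basicOpen g₀) _ 0 (fun z hz => ?_)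
    change (Z i).presheaf.germ ((f i) ⁻¹ᵁ X.basicOpen g₀) z hz _ =
      (Z i).presheaf.germ ((f i) ⁻¹ᵁ X.basicOpen g₀) z hz 0
    rw [map_zero]
    have hzU : z ∈ (f i) ⁻¹ᵁ U' := (f i).preimage_mono hD hz
    obtain ⟨C, hC, hzC, hCle⟩ := TopologicalSpace.Opens.isBasis_iff_nbhd.mp
      (Z i).isBasis_affineOpens hzU
    obtain ⟨k, hk⟩ := hn ⟨i, C, hC, hCle⟩
    -- `hk : g₀ ^ k • φ n = 0` in `Γ(Z i, C)`
    have hk' : ((f i).appLE U' C hCle g₀) ^ k * (f i).appLE U' C hCle n = 0 := by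
      have := hk
      rw [Algebra.smul_def, map_pow] at this
      exact this
    have hzb : z ∈ (Z i).basicOpen ((f i).appLE U' C hCle g₀) := by
      rw [Scheme.basicOpen_appLE]
      exact ⟨hzC, hz⟩
    have hunit : IsUnit ((Z i).presheaf.germ C z hzC ((f i).appLE U' C hCle g₀)) :=
      ((Z i).mem_basicOpen _ z hzC).mp hzb
    have hg := congrArg ((Z i).presheaf.germ C z hzC) hk'
    rw [map_mul, map_pow, map_zero] at hg
    have h1 : (Z i).presheaf.germ C z hzC ((f i).appLE U' C hCle n) = 0 :=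
      (hunit.pow k).mul_right_eq_zero.mp hg
    -- compare on `O = C ⊓ f⁻¹ D`
    set O : (Z i).Opens := C ⊓ (f i) ⁻¹ᵁ X.basicOpen g₀ with hO
    have hzO : z ∈ O := ⟨hzC, hz⟩
    have hOle : O ≤ (f i) ⁻¹ᵁ U' := inf_le_left.trans hCle
    have e1 : (Z i).presheaf.map (homOfLE (inf_le_right : O ≤ (f i) ⁻¹ᵁ X.basicOpen g₀)).op
        ((f i).app (X.basicOpen g₀) (X.presheaf.map (homOfLE hD).op n)) =
        (f i).appLE U' O hOle n := by
      rw [← CommRingCat.comp_apply, ← CommRingCat.comp_apply]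
      have : (f i).app (X.basicOpen g₀) ≫ (Z i).presheaf.map
          (homOfLE (inf_le_right : O ≤ (f i) ⁻¹ᵁ X.basicOpen g₀)).op =
          (f i).appLE (X.basicOpen g₀) O inf_le_right := rfl
      rw [this, Scheme.Hom.map_appLE]
    have e2 : (Z i).presheaf.map (homOfLE (inf_le_left : O ≤ C)).op
        ((f i).appLE U' C hCle n) = (f i).appLE U' O hOle n := by
      rw [← CommRingCat.comp_apply, Scheme.Hom.appLE_map]
    rw [← TopCat.Presheaf.germ_res_apply (Z i).presheaf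
      (homOfLE (inf_le_right : O ≤ (f i) ⁻¹ᵁ X.basicOpen g₀)) z hzO, e1, ← e2,
      TopCat.Presheaf.germ_res_apply]
    exact h1
  obtain ⟨m, hm⟩ := exists_pow_mul_eq_zero_of_res_basicOpen_eq_zero_of_isAffineOpen X hU' n g₀ hres
  exact ⟨m, hm⟩

theorem local_claim {X X' : Scheme.{u}} {ι : Type u} (Z : ι → Scheme.{u})
    (f : ∀ i, Z i ⟶ X) (g : X' ⟶ X) [Flat g] [LocallyOfFinitePresentation g]
    (h : ∀ (V : X.Opens) (t : Γ(X, V)), (∀ i, (f i).app V t = 0) → t = 0)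
    (U' : X.Opens) (hU' : IsAffineOpen U')
    (W' : X'.Opens) (hW' : IsAffineOpen W') (e : W' ≤ g ⁻¹ᵁ U')
    (V : X'.Opens) (hWV : W' ≤ V) (t : Γ(X', V))
    (ht : ∀ i, (pullback.snd (f i) g).app V t = 0) :
    X'.presheaf.map (homOfLE hWV).op t = 0 := by
  have hflat : (g.appLE U' W' e).hom.Flat :=
    HasRingHomProperty.appLE @Flat g inferInstance ⟨U', hU'⟩ ⟨W', hW'⟩ e
  have hfp : (g.appLE U' W' e).hom.FinitePresentation :=
    HasRingHomProperty.appLE @LocallyOfFinitePresentation g inferInstance ⟨U', hU'⟩ ⟨W', hW'⟩ e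
  algebraize [(g.appLE U' W' e).hom]
  letI : ∀ l : Idx Z f U', Algebra Γ(X, U') (Cl Z f U' l) := algC Z f U'
  refine eq_zero_of_flat_finitePresentation_module_family (A := Γ(X, U')) (B := Γ(X', W'))
    (M := Γ(X', W')) (Cl := Cl Z f U')
    (fun l => Algebra.linearMap Γ(X, U') (Cl Z f U' l)) (jointInj_of_dominant Z f h U' hU') _ ?_
  intro l
  rw [Algebra.linearMap_apply, map_one]
  exact one_tmul_eq_zero (f l.1) g U' hU' l.2.1 l.2.2.1 l.2.2.2 W' hW' e V hWV t (ht l.1)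

/-- Let (f_i : Z_i ⟶ X) be a schematically dominant family of morphisms and g : X' ⟶ X a flat morphism
locally of finite presentation. Then the family of base changes f'_i : Z_i ×_X X' ⟶ X' is
schematically dominant. (No quasi-compactness of the f_i and no finiteness of the family is
assumed.) -/
theorem result {X X' : Scheme.{u}} {ι : Type u} (Z : ι → Scheme.{u})
    (f : ∀ i, Z i ⟶ X) (g : X' ⟶ X) [Flat g] [LocallyOfFinitePresentation g]
    (h : (∀ (V : (X).Opens) (t : Γ(X, V)), (∀ i, (f i).app V t = 0) → t = 0)) :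
    (∀ (V : (X').Opens) (t : Γ(X', V)), (∀ i, (Limits.pullback.snd (f i) g).app V t = 0) → t = 0) := by
  intro V t ht
  refine TopCat.Presheaf.section_ext X'.sheaf V t 0 (fun x hx => ?_)
  change X'.presheaf.germ V x hx t = X'.presheaf.germ V x hx 0
  rw [map_zero]
  obtain ⟨U', hU', hxU', -⟩ := TopologicalSpace.Opens.isBasis_iff_nbhd.mp X.isBasis_affineOpens
    (show g x ∈ (⊤ : X.Opens) from trivial)
  obtain ⟨W', hW', hxW', hW'le⟩ := TopologicalSpace.Opens.isBasis_iff_nbhd.mp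
    X'.isBasis_affineOpens (show x ∈ V ⊓ g ⁻¹ᵁ U' from ⟨hx, hxU'⟩)
  have hW'V : W' ≤ V := hW'le.trans inf_le_left
  have e : W' ≤ g ⁻¹ᵁ U' := hW'le.trans inf_le_right
  rw [← TopCat.Presheaf.germ_res_apply X'.presheaf (CategoryTheory.homOfLE hW'V) x hxW' t,
    local_claim Z f g h U' hU' W' hW' e V hW'V t ht, map_zero]


end Groth.Agent.S4875
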