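import Groth.Statements.S4997
import Groth.Agent.Lib.Helper24.SmoothQuasiFinite

set_option autoImplicit false
universe u
open CategoryTheory CategoryTheory.Limits AlgebraicGeometry TopologicalSpace
open Unram17

namespace Groth.Agent.S4997

/-- A morphism of schemes is etale if and only if it is smooth and locally quasi-finite. -/
theorem result {X Y : Scheme.{u}} (f : X ⟶ Y) :
    Etale f ↔ Smooth f ∧ LocallyQuasiFinite f := by
  constructor
  · intro h
    refine ⟨inferInstance, ⟨fun {U} hU {V} hV e => ?_⟩⟩
    have h1 : (f.appLE U V e).hom.Etale := f.etale_appLE hU hV e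
    algebraize [(f.appLE U V e).hom]
    have h2 : Algebra.Etale Γ(Y, U) Γ(X, V) := h1
    show Algebra.QuasiFinite Γ(Y, U) Γ(X, V)
    infer_instance
  · rintro ⟨hsm, hqf⟩
    rw [etale_iff]
    intro U hU V hV e
    have h1 : (f.appLE U V e).hom.Smooth := f.smooth_appLE hU hV e
    have h2 : (f.appLE U V e).hom.QuasiFinite := hqf.quasiFinite_appLE hU hV e
    algebraize [(f.appLE U V e).hom]
    have h1' : Algebra.Smooth Γ(Y, U) Γ(X, V) := h1
    have h2' : Algebra.QuasiFinite Γ(Y, U) Γ(X, V) := h2
    show Algebra.Etale Γ(Y, U) Γ(X, V)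
    rw [← Algebra.etaleLocus_eq_univ_iff_etale, Set.eq_univ_iff_forall]
    intro q
    rw [Algebra.mem_etaleLocus_iff]
    have hsmq : Algebra.FormallySmooth Γ(Y, U) (Localization.AtPrime q.asIdeal) :=
      Algebra.FormallySmooth.comp Γ(Y, U) Γ(X, V) (Localization.AtPrime q.asIdeal)
    have hess : Algebra.EssFiniteType Γ(Y, U) (Localization.AtPrime q.asIdeal) :=
      Algebra.EssFiniteType.comp Γ(Y, U) Γ(X, V) (Localization.AtPrime q.asIdeal)
    have hun : Algebra.FormallyUnramified Γ(Y, U) (Localization.AtPrime q.asIdeal) :=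
      Groth.Agent.Lib.Helper24.formallyUnramified_of_formallySmooth_of_quasiFinite_of_isLocalRing
        Γ(Y, U) (Localization.AtPrime q.asIdeal)
    exact Algebra.FormallyEtale.of_formallyUnramified_and_formallySmooth

end Groth.Agent.S4997
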