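import Groth.Statements.S18498
import Mathlib
import Groth.Agent.Lib.Helper70.NeronClosA

set_option autoImplicit false
universe u
open CategoryTheory CategoryTheory.Limits AlgebraicGeometry MonObj
open Neron

namespace Groth.Agent.S18498

/-- Let R be a Dedekind domain with fraction field K, X a Spec R-scheme which is flat over Spec R, Y a
Spec R-scheme which is separated over Spec R, and f, g : X → Y two R-morphisms whose restrictions to
generic fibres X_K → Y_K are equal. Then f = g: an R-morphism from a flat R-scheme to a separated
R-scheme is determined by its generic fibre. (The source states this for algebraic spaces over a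
connected Dedekind scheme; the case of schemes over an affine base is stated.) -/
theorem result (R : Type u) [CommRing R] [IsDedekindDomain R]
    (X Y : Over (Spec (CommRingCat.of R))) [Flat X.hom] [IsSeparated Y.hom] (f g : X ⟶ Y)
    (h : (Neron.genericFibre R).map f = (Neron.genericFibre R).map g) : f = g := by
  -- the generic fibre inclusion
  let d := Limits.pullback.fst X.hom (Neron.genPt R)
  have hd : d.ker = ⊥ :=
    Groth.Agent.Lib.Helper70.NeronClosA.ker_eq_bot_of_isPullback_genPt R X.hom d
      (Limits.pullback.snd X.hom (Neron.genPt R)) (IsPullback.of_hasPullback _ _)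
  -- `d ≫ f = d ≫ g`
  have hf : ∀ k : X ⟶ Y, ((Neron.genericFibre R).map k).left ≫
      Limits.pullback.fst Y.hom (Neron.genPt R) = d ≫ k.left :=
    fun k => Limits.pullback.lift_fst _ _ _
  have hdfg : d ≫ f.left = d ≫ g.left := by
    rw [← hf f, ← hf g, h]
  -- the equalizer is a closed subscheme containing the generic fibre
  let DK : Over (Spec (CommRingCat.of R)) := Over.mk (d ≫ X.hom)
  let dO : DK ⟶ X := Over.homMk d rfl
  have hdO : dO ≫ f = dO ≫ g := Over.OverMorphism.ext hdfg
  let a : DK ⟶ Limits.equalizer f g := Limits.equalizer.lift dO hdO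
  have ha : d ≫ 𝟙 X.left = a.left ≫ (Limits.equalizer.ι f g).left := by
    rw [Category.comp_id, ← Over.comp_left, Limits.equalizer.lift_ι]
    rfl
  obtain ⟨m, hm⟩ := Groth.Agent.Lib.Helper70.NeronClosA.exists_lift_of_ker_eq_bot
    (Limits.equalizer.ι f g).left (𝟙 X.left) d hd a.left ha
  apply Over.OverMorphism.ext
  have h1 : (Limits.equalizer.ι f g).left ≫ f.left = (Limits.equalizer.ι f g).left ≫ g.left := by
    rw [← Over.comp_left, ← Over.comp_left, Limits.equalizer.condition]
  calc f.left = (m ≫ (Limits.equalizer.ι f g).left) ≫ f.left := by rw [hm, Category.id_comp]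
    _ = (m ≫ (Limits.equalizer.ι f g).left) ≫ g.left := by
        rw [Category.assoc, h1, ← Category.assoc]
    _ = g.left := by rw [hm, Category.id_comp]

end Groth.Agent.S18498
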