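import Groth.Statements.S0413
import Groth.Agent.Lib.Helper7.SmoothSliceScheme

set_option autoImplicit false
universe u
open FlatMor

namespace Groth.Agent.S0413

open AlgebraicGeometry CategoryTheory Limits in
/-- For a smooth morphism and a point that is closed in its fibre with separable residue field
extension, there is a locally closed subscheme through the point which is étale over the base and
meets the fibre only in that point. -/
theorem result {X S : Scheme.{u}} (f : X ⟶ S) [Smooth f] (x : X)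
    (hcl : IsClosed ({f.asFiber x} : Set ↑(f.fiber (f x))))
    (hsep : @Algebra.IsSeparable (S.residueField (f x)) (X.residueField x) _ _ (f.residueFieldMap x).hom.toAlgebra) :
    ∃ (Z : Scheme.{u}) (i : Z ⟶ X) (z : Z), IsImmersion i ∧ Etale (i ≫ f) ∧ i z = x ∧
      ∀ z' : ↑Z, f (i z') = f x → z' = z := by
  obtain ⟨_, ⟨V, hV, rfl⟩, hxV, -⟩ := S.isBasis_affineOpens.exists_subset_of_mem_open
    (Set.mem_univ (f x)) isOpen_univ
  obtain ⟨_, ⟨U, hU, rfl⟩, hxU, hUV : U ≤ f ⁻¹ᵁ V⟩ :=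
    X.isBasis_affineOpens.exists_subset_of_mem_open hxV (f ⁻¹ᵁ V).2
  have hsm : (f.appLE V U hUV).hom.Smooth := Smooth.smooth_appLE f hV hU hUV
  have hfu := Groth.Agent.Lib.Helper7.SmoothSliceScheme.formallyUnramified_residueField f x hsep
    hV hU hUV hxU
  algebraize [(f.appLE V U hUV).hom]
  obtain ⟨g, J, hg, hJ, hE⟩ := Groth.Agent.Lib.Helper7.SmoothSlice.exists_slice
    Γ(S, V) Γ(X, U) (hU.primeIdealOf ⟨x, hxU⟩).asIdeal
  obtain ⟨q, hq, hqm⟩ := Groth.Agent.Lib.Helper7.SmoothSlice.exists_prime_quotient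
    (hU.primeIdealOf ⟨x, hxU⟩).asIdeal g hg J hJ
  let φA : Γ(S, V) ⟶ .of (Localization.Away g ⧸ J) :=
    CommRingCat.ofHom (algebraMap Γ(S, V) (Localization.Away g ⧸ J))
  let φR : Γ(X, U) ⟶ .of (Localization.Away g ⧸ J) :=
    CommRingCat.ofHom (algebraMap Γ(X, U) (Localization.Away g ⧸ J))
  have hφ : φA.hom.Etale := RingHom.etale_algebraMap.mpr hE
  have : Etale (Spec.map φA) := HasRingHomProperty.Spec_iff.mpr hφ
  have hcomp : φA = f.appLE V U hUV ≫ φR := by
    ext a
    exact IsScalarTower.algebraMap_apply Γ(S, V) Γ(X, U) (Localization.Away g ⧸ J) a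
  have hφR : φR = CommRingCat.ofHom (algebraMap Γ(X, U) (Localization.Away g)) ≫
      CommRingCat.ofHom (Ideal.Quotient.mk J) := by
    ext a
    exact IsScalarTower.algebraMap_apply Γ(X, U) (Localization.Away g) (Localization.Away g ⧸ J) a
  have hcl : IsClosedImmersion (Spec.map (CommRingCat.ofHom (Ideal.Quotient.mk J))) :=
    IsClosedImmersion.spec_of_surjective _ Ideal.Quotient.mk_surjective
  have himm : IsImmersion (Spec.map φR ≫ hU.fromSpec) := by
    rw [hφR, Spec.map_comp]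
    infer_instance
  have hif : (Spec.map φR ≫ hU.fromSpec) ≫ f = Spec.map φA ≫ hV.fromSpec := by
    rw [Category.assoc, ← IsAffineOpen.SpecMap_appLE_fromSpec f hV hU hUV, ← Category.assoc,
      ← Spec.map_comp, hcomp]
  have het : Etale ((Spec.map φR ≫ hU.fromSpec) ≫ f) := by
    rw [hif]
    infer_instance
  have hz : (Spec.map φR ≫ hU.fromSpec) ⟨q, hq⟩ = x := by
    have h1 : Spec.map φR ⟨q, hq⟩ = hU.primeIdealOf ⟨x, hxU⟩ := PrimeSpectrum.ext hqm
    rw [Scheme.Hom.comp_apply, h1, hU.fromSpec_primeIdealOf ⟨x, hxU⟩]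
  have hqf : LocallyQuasiFinite ((Spec.map φR ≫ hU.fromSpec) ≫ f) :=
    Groth.Agent.Lib.Helper7.EtaleSplit.locallyQuasiFinite_of_formallyUnramified _
  obtain ⟨W, hzW, hW⟩ := Groth.Agent.Lib.Helper7.SmoothSliceScheme.exists_open_fibre_singleton
    ((Spec.map φR ≫ hU.fromSpec) ≫ f) ⟨q, hq⟩
  refine ⟨W.toScheme, W.ι ≫ (Spec.map φR ≫ hU.fromSpec), ⟨⟨q, hq⟩, hzW⟩, inferInstance, ?_, ?_, ?_⟩
  · rw [Category.assoc]
    infer_instance
  · rw [Scheme.Hom.comp_apply]
    exact hz
  · intro z' hz'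
    apply Subtype.ext
    apply hW z'.1 z'.2
    have h2 : ((Spec.map φR ≫ hU.fromSpec) ≫ f) ⟨q, hq⟩ = f x := by
      rw [Scheme.Hom.comp_apply, hz]
    rw [h2]
    exact hz'

end Groth.Agent.S0413
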