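import Groth.Statements.S15583
import Mathlib
import Groth.Agent.Lib.Helper99.HermFamily

set_option autoImplicit false
universe u v
open RInv

namespace Groth.Agent.S15583

/-- Let `A` be a commutative ring with an involution `lam` whose fixed ring `B` is local, let `ε = ±1`,
and let `h` be an invertible `n × n` matrix over `A` that is `(ε, lam)`-hermitian: `h` equals `ε`
times the transpose of `lam` applied entrywise to `h`. If `lam` is not the identity modulo the
Jacobson radical of `A`, or `ε ≠ -1` modulo that radical, or `n` is odd, then `h` is congruent to a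
diagonal matrix: there is an invertible `v` with `(lam v)ᵀ h v` diagonal. -/
theorem result (B : Type u) (A : Type v) [CommRing B] [CommRing A]
    [Algebra B A] (lam : A ≃+* A) (hlam : Function.Involutive lam) (hB : RInv.IsFixedRing B A lam)
    [IsLocalRing B] (n : ℕ) (ε : A) (hε : ε = 1 ∨ ε = -1) (h : Matrix (Fin n) (Fin n) A)
    (hh : IsUnit h) (herm : ε • (h.map lam).transpose = h)
    (hcase : (∃ a : A, lam a - a ∉ Ring.jacobson A) ∨ ε + 1 ∉ Ring.jacobson A ∨ Odd n) :
    ∃ v : Matrix (Fin n) (Fin n) A, IsUnit v ∧
      ∃ d : Fin n → A, (v.map lam).transpose * h * v = Matrix.diagonal d := by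
  classical
  open Groth.Agent.Lib.Helper99.HermFamily in
  obtain _ | m := n
  · refine ⟨1, isUnit_one, fun _ => 0, ?_⟩
    ext i j
    exact i.elim0
  · have hdet : IsUnit h.det := (Matrix.isUnit_iff_isUnit_det h).1 hh
    have hsym : ∀ x y, H lam h y x = ε * lam (H lam h x y) := H_symm lam h hlam herm
    have hcase' : (∃ a : A, lam a - a ∉ Ring.jacobson A) ∨ ε + 1 ∉ Ring.jacobson A ∨
        Odd (Fintype.card (Fin (m + 1))) := by
      rw [Fintype.card_fin]; exact hcase
    obtain ⟨X, hX⟩ := exists_orth_family lam h hlam hB hε hsym hdet m (Fintype.card_fin _) hcase'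
    have hv : ((Matrix.of fun i p => X p i : Matrix (Fin (m + 1)) (Fin (m + 1)) A).map
        lam).transpose * h * (Matrix.of fun i p => X p i) =
        Matrix.diagonal fun p => H lam h (X p) (X p) := by
      ext p q
      rw [gram_apply]
      by_cases hpq : p = q
      · subst hpq
        rw [Matrix.diagonal_apply_eq]
        rfl
      · rw [Matrix.diagonal_apply_ne _ hpq]
        exact hX.1 p q hpq
    exact ⟨_, isUnit_of_gram_eq_diagonal lam h _ _ hX.2 hv, _, hv⟩

end Groth.Agent.S15583
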