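import Groth.Statements.S17357
import Groth.Agent.Lib.Helper25.SemilocalInner

set_option autoImplicit false
universe u v w
open scoped TensorProduct
open AzInv

namespace Groth.Agent.S17357

/-- Let `R` be a commutative ring with an involution `lam` whose fixed ring is exactly `S`, let `A` be
an Azumaya `R`-algebra of degree `n ≥ 1` and `ψ` an `R`-algebra automorphism of `A`. Then `ψ`
becomes an inner automorphism after base change along an etale covering of `S` (and not merely of
`R`): there are an etale faithfully flat `S`-algebra `S'` and a unit `u` of `S' ⊗_S A` such that `id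
⊗ ψ` is `x ↦ u x u⁻¹`. (The source states this for a good quotient of schemes by an involution; the
row is the affine case `Spec R → Spec S`.) -/
theorem result (S : Type u) (R : Type v) [CommRing S] [CommRing R] [Algebra S R]
    (lam : R ≃ₐ[S] R) (hlam : ∀ r, lam (lam r) = r) (hfix : RInv.IsFixedRing S R lam.toRingEquiv)
    (A : Type w) [Ring A] [Algebra S A] [Algebra R A] [IsScalarTower S R A]
    (n : ℕ) (hn : 0 < n) (hA : AzInv.IsAzumayaDeg R A n) (ψ : A ≃ₐ[R] A) :
    ∃ (S' : Type u) (_ : CommRing S') (_ : Algebra S S') (_ : Algebra.Etale S S')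
      (_ : Module.FaithfullyFlat S S') (u : (S' ⊗[S] A)ˣ),
      ∀ x : S' ⊗[S] A,
        Algebra.TensorProduct.congr (AlgEquiv.refl : S' ≃ₐ[S'] S') (ψ.restrictScalars S) x =
          ↑u * x * ↑u⁻¹ := by
  obtain ⟨hAz, hrk⟩ := hA
  have hloc : ∀ (𝔭 : Ideal S), 𝔭.IsPrime → ∃ f : S, f ∉ 𝔭 ∧
      ∃ u : (Localization.Away f ⊗[S] A)ˣ, ∀ z : Localization.Away f ⊗[S] A,
        Algebra.TensorProduct.map (AlgHom.id (Localization.Away f) (Localization.Away f))
          ((ψ.restrictScalars S : A ≃ₐ[S] A) : A →ₐ[S] A) z =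
          (u : Localization.Away f ⊗[S] A) * z * (u⁻¹ : (Localization.Away f ⊗[S] A)ˣ) := by
    intro 𝔭 h𝔭
    exact Groth.Agent.Lib.Helper25.SemilocalInner.exists_away_unit_conj (n ^ 2) hrk 𝔭
      (Groth.Agent.Lib.Helper25.SemilocalInner.finite_maximalSpectrum_of_involution S R lam hlam
        (fun r hr => (hfix.2 r).1 hr) 𝔭) ψ
  obtain ⟨S', i1, i2, i3, i4, u, hu⟩ :=
    Groth.Agent.Lib.Helper25.SemilocalInner.exists_etale_cover_unit_conj
      ((ψ.restrictScalars S : A ≃ₐ[S] A) : A →ₐ[S] A) hloc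
  exact ⟨S', i1, i2, i3, i4, u, fun x => hu x⟩

end Groth.Agent.S17357
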