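import Groth.Statements.S15584
import Mathlib
import Groth.Agent.Lib.Helper99.HermSympl

set_option autoImplicit false
universe u v
open RInv

namespace Groth.Agent.S15584

/-- Let `A` be a commutative ring with an involution `lam` whose fixed ring `B` is local; assume `lam`
is the identity modulo the Jacobson radical of `A`, that `2` is invertible in `A`, and that `h` is
an invertible `n × n` matrix with `h = -(lam h)ᵀ`. Then `n` is even and there is an invertible `v`
such that `(lam v)ᵀ h v` is a block sum of `2 × 2` blocks on the index pairs `{2k, 2k+1}`, each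
congruent to `[[0,1],[-1,0]]` modulo the Jacobson radical. (The published statement writes the
congruence with the plain transpose `vᵀ h v`; its proof computes the Gram matrix of the hermitian
form `(x, y) ↦ (lam x)ᵀ h y` in a new basis, which is `(lam v)ᵀ h v`, and that is what is stated
here.) -/
theorem result (B : Type u) (A : Type v) [CommRing B] [CommRing A]
    [Algebra B A] (lam : A ≃+* A) (hlam : Function.Involutive lam) (hB : RInv.IsFixedRing B A lam)
    [IsLocalRing B] (n : ℕ) (hid : ∀ a : A, lam a - a ∈ Ring.jacobson A) (h2 : IsUnit (2 : A))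
    (h : Matrix (Fin n) (Fin n) A) (hh : IsUnit h) (herm : -(h.map lam).transpose = h) :
    Even n ∧ ∃ v : Matrix (Fin n) (Fin n) A, IsUnit v ∧
      ∀ i j : Fin n,
        (i.val / 2 ≠ j.val / 2 → ((v.map lam).transpose * h * v) i j = 0) ∧
        (i.val / 2 = j.val / 2 → (Even i.val ↔ Even j.val) →
          ((v.map lam).transpose * h * v) i j ∈ Ring.jacobson A) ∧
        (i.val / 2 = j.val / 2 → Even i.val → ¬ Even j.val →
          ((v.map lam).transpose * h * v) i j - 1 ∈ Ring.jacobson A) ∧
        (i.val / 2 = j.val / 2 → ¬ Even i.val → Even j.val →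
          ((v.map lam).transpose * h * v) i j + 1 ∈ Ring.jacobson A) := by
  classical
  open Groth.Agent.Lib.Helper99.HermFamily Groth.Agent.Lib.Helper79.RInvLib in
  have hloc : IsLocalRing A := isLocalRing_of_forall_sub_mem_jacobson lam hlam hB hid
  have hdet : IsUnit h.det := (Matrix.isUnit_iff_isUnit_det h).1 hh
  have herm' : (-1 : A) • (h.map lam).transpose = h := by
    rw [neg_smul, one_smul]; exact herm
  have hsym : ∀ x y, H lam h y x = (-1) * lam (H lam h x y) := H_symm lam h hlam herm'
  have hN : ∀ w : Fin n → A, H lam h w w ∈ Ring.jacobson A := by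
    intro w
    have hs := hsym w w
    have e1 : lam (H lam h w w) = - H lam h w w := by linear_combination hs
    have e2 : (2 : A) * H lam h w w = -(lam (H lam h w w) - H lam h w w) := by
      rw [e1]; ring
    have h3 : (2 : A) * H lam h w w ∈ Ring.jacobson A := by
      rw [e2]; exact neg_mem (hid _)
    obtain ⟨u2, hu2⟩ := h2
    have e3 : H lam h w w = ↑u2⁻¹ * ((2 : A) * H lam h w w) := by
      rw [← hu2, ← mul_assoc, Units.inv_mul, one_mul]
    rw [e3]
    exact Ideal.mul_mem_left _ _ h3
  have heven : Even n := by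
    by_contra hodd
    rw [Nat.not_even_iff_odd] at hodd
    have hpos : 0 < Fintype.card (Fin n) := by
      rw [Fintype.card_fin]; exact hodd.pos
    obtain ⟨u, hu⟩ := start lam h hlam hB (Or.inr rfl) hsym hdet hpos
      (Or.inr (Or.inr (by rwa [Fintype.card_fin])))
    exact notMem_jacobson_of_isUnit hu (hN u)
  refine ⟨heven, ?_⟩
  obtain ⟨r, hr⟩ := heven
  have hr' : n = r * 2 := by omega
  subst hr'
  obtain ⟨y, z, hS⟩ := exists_sympl lam h hsym hN hdet r (by rw [Fintype.card_fin]; ring)
  have hzy := sympl_zy lam h hsym hS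
  -- the family indexed by `Fin 2 × Fin r`
  let Xp : Fin 2 × Fin r → (Fin (r * 2) → A) := fun a => if a.1 = 0 then y a.2 else z a.2
  let e' : Fin (r * 2) ≃ Fin 2 × Fin r := finProdFinEquiv.symm.trans (Equiv.prodComm _ _)
  have he1 : ∀ p : Fin (r * 2), ((e' p).1 : ℕ) = p.val % 2 := fun p => by
    simp [e', Fin.coe_modNat]
  have he2 : ∀ p : Fin (r * 2), ((e' p).2 : ℕ) = p.val / 2 := fun p => by
    simp [e', Fin.coe_divNat]
  let v : Matrix (Fin (r * 2)) (Fin (r * 2)) A := Matrix.of fun l p => Xp (e' p) l
  have hG : ∀ p q, ((v.map lam).transpose * h * v) p q = H lam h (Xp (e' p)) (Xp (e' q)) := by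
    intro p q
    rw [gram_apply]
    rfl
  let G' : Matrix (Fin 2 × Fin r) (Fin 2 × Fin r) A := Matrix.of fun a b => H lam h (Xp a) (Xp b)
  have hGG : (v.map lam).transpose * h * v = G'.submatrix e' e' := by
    ext p q
    rw [hG]
    rfl
  have hG' : G' = Matrix.blockDiagonal
      (fun i => !![H lam h (y i) (y i), 1; -1, H lam h (z i) (z i)]) := by
    ext ⟨s, i⟩ ⟨t, j⟩
    rw [Matrix.blockDiagonal_apply]
    by_cases hij : i = j
    · subst hij
      fin_cases s <;> fin_cases t <;> simp [G', Xp, hS.1, hzy]
    · have := hS.2 i j hij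
      fin_cases s <;> fin_cases t <;>
        simp [G', Xp, hij, this.1, this.2.1, this.2.2.1, this.2.2.2]
  have hvu : IsUnit v := by
    rw [Matrix.isUnit_iff_isUnit_det]
    have h1 : IsUnit ((v.map lam).transpose * h * v).det := by
      rw [hGG, Matrix.det_submatrix_equiv_self, hG', Matrix.det_blockDiagonal]
      refine IsUnit.prod_univ_iff.2 fun i => ?_
      rw [Matrix.det_fin_two_of]
      have e : H lam h (y i) (y i) * H lam h (z i) (z i) - 1 * -1 =
          1 + H lam h (y i) (y i) * H lam h (z i) (z i) := by ring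
      rw [e]
      exact isUnit_add_of_mem_jacobson isUnit_one (Ideal.mul_mem_left _ _ (hN _))
    rw [Matrix.det_mul] at h1
    exact isUnit_of_mul_isUnit_right h1
  refine ⟨v, hvu, fun p q => ?_⟩
  rw [hG]
  have hXy : ∀ p : Fin (r * 2), p.val % 2 = 0 → Xp (e' p) = y (e' p).2 := by
    intro p hp
    have : (e' p).1 = 0 := Fin.ext (by rw [he1 p, hp]; rfl)
    simp only [Xp, this, if_true]
  have hXz : ∀ p : Fin (r * 2), p.val % 2 = 1 → Xp (e' p) = z (e' p).2 := by
    intro p hp
    have : (e' p).1 ≠ 0 := by
      intro h0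
      have := congrArg Fin.val h0
      rw [he1 p, hp] at this
      exact absurd this (by decide)
    simp only [Xp, this, if_false]
  have hpar : ∀ p : Fin (r * 2), p.val % 2 = 0 ∨ p.val % 2 = 1 := fun p => by omega
  refine ⟨fun hne => ?_, fun heq hpq => ?_, fun heq hp hq => ?_, fun heq hp hq => ?_⟩
  · have hdiv : (e' p).2 ≠ (e' q).2 := by
      intro e
      apply hne
      have := congrArg Fin.val e
      rwa [he2 p, he2 q] at this
    have hz := hS.2 _ _ hdiv
    rcases hpar p with hp | hp <;> rcases hpar q with hq | hq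
    · rw [hXy p hp, hXy q hq]; exact hz.1
    · rw [hXy p hp, hXz q hq]; exact hz.2.1
    · rw [hXz p hp, hXy q hq]; exact hz.2.2.1
    · rw [hXz p hp, hXz q hq]; exact hz.2.2.2
  · have hpq' : p = q := by
      apply Fin.ext
      rw [Nat.even_iff, Nat.even_iff] at hpq
      rcases hpar p with hp | hp <;> rcases hpar q with hq | hq <;> omega
    rw [hpq']
    exact hN _
  · rw [Nat.even_iff] at hp hq
    have hq' : q.val % 2 = 1 := by omega
    have hdiv : (e' p).2 = (e' q).2 := Fin.ext (by rw [he2 p, he2 q]; exact heq)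
    rw [hXy p hp, hXz q hq', hdiv, hS.1, sub_self]
    exact Ideal.zero_mem _
  · rw [Nat.even_iff] at hp hq
    have hp' : p.val % 2 = 1 := by omega
    have hdiv : (e' p).2 = (e' q).2 := Fin.ext (by rw [he2 p, he2 q]; exact heq)
    rw [hXz p hp', hXy q hq, hdiv, hzy, neg_add_cancel]
    exact Ideal.zero_mem _

end Groth.Agent.S15584
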