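import Groth.Statements.S17003
import Groth.Agent.Lib.Helper25.QuadOddForm

set_option autoImplicit false
universe u
open scoped TensorProduct
open QuadGrp

namespace Groth.Agent.S17003

/-- Let Q be a quadratic form on R^{2m+1} over a commutative ring R whose half-discriminant in the
standard basis is a unit. Then fppf-locally on R the form Q is isometric to the standard split form
in 2m+1 variables: there is a faithfully flat finitely presented R-algebra A and an isometry between
the base changes to A of Q and of the split form. (For even rank the étale-local statement is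
already available; for odd rank with 2 not a unit the fppf topology is needed.) -/
theorem result (R : Type u) [CommRing R] (m : ℕ)
    (Q : QuadraticForm R (Fin (2 * m + 1) → R))
    (hQ : QuadGrp.IsSemiregular (Pi.basisFun R (Fin (2 * m + 1))) (LinearEquiv.refl R R) Q) :
    ∃ (A : Type u) (_ : CommRing A) (_ : Algebra R A), Module.FaithfullyFlat R A ∧ Algebra.FinitePresentation R A ∧
      Nonempty ((QuadGrp.baseChangeForm A Q).IsometryEquiv
        (QuadGrp.baseChangeForm A (QuadGrp.splitForm R (2 * m + 1)))) := by
  classical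
  obtain ⟨N, hN, S, i1, i2, hff, hfp, g, hg, hgQ⟩ :=
    Helper25.QuadMat.exists_fppf_split_of_isSemiregular m
      (Pi.basisFun R (Fin (2 * m + 1))) Q hQ 1
  refine ⟨S, i1, i2, hff, hfp, ?_⟩
  have hN' : ∀ v, Q v = Helper25.QuadMat.qf N (v ∘ Helper25.QuadMat.oddEquiv m) := by
    intro v
    rw [← hN v, Helper25.Cliff.qfForm_apply]
    congr 1
  have hT' : ∀ v, QuadGrp.splitForm R (2 * m + 1) v
      = Helper25.QuadMat.qf (Helper25.QuadMat.JOdd m R 1) (v ∘ Helper25.QuadMat.oddEquiv m) := by
    intro v
    rw [Helper25.QuadMat.splitForm_eq_qfForm, Helper25.Cliff.qfForm_apply]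
    have := Helper25.Cliff.qf_submatrix (Helper25.QuadMat.JOdd m R 1)
      (Helper25.QuadMat.oddEquiv m).symm (v ∘ Helper25.QuadMat.oddEquiv m)
    rw [← this]
    congr 1
    ext k
    simp
  obtain ⟨e1⟩ := Helper25.QuadMat.nonempty_baseChangeForm_isometryEquiv Q
    (Helper25.QuadMat.oddEquiv m) N hN' S
  obtain ⟨e2⟩ := Helper25.QuadMat.nonempty_baseChangeForm_isometryEquiv
    (QuadGrp.splitForm R (2 * m + 1)) (Helper25.QuadMat.oddEquiv m)
    (Helper25.QuadMat.JOdd m R 1) hT' S
  have e3 := Helper25.Cliff.isometryEquivConj (N.map (algebraMap R S)) g hg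
  rw [Helper25.Cliff.qfForm_eq_of_QEq hgQ] at e3
  rw [Helper25.QuadMat.JOdd_map, map_one] at e2
  simp only [Units.val_one, Int.cast_one] at e3
  exact ⟨(e1.trans e3.symm).trans e2.symm⟩

end Groth.Agent.S17003
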