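import Groth.Statements.S19867
import Mathlib
import Groth.Agent.Lib.Helper99.SymNorm

set_option autoImplicit false
universe u
open scoped TensorProduct
open ZeroCyc

namespace Groth.Agent.S19867

section ProdAct

variable {A B M Q : Type u} [CommRing A] [CommRing B] [Algebra A B]
    [AddCommGroup M] [Module A M] [Module B M] [IsScalarTower A B M]
    [AddCommGroup Q] [Module A Q]

/-- componentwise action of `B × A` on `M × Q`. -/
instance prodSMul : SMul (B × A) (M × Q) := ⟨fun c z => (c.1 • z.1, c.2 • z.2)⟩

theorem prod_smul_def (c : B × A) (z : M × Q) : c • z = (c.1 • z.1, c.2 • z.2) := rfl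

instance prodModule : Module (B × A) (M × Q) where
  one_smul z := by simp [prod_smul_def]
  mul_smul c c' z := by simp [prod_smul_def, mul_smul]
  smul_zero c := by simp [prod_smul_def]
  smul_add c z z' := by simp [prod_smul_def, smul_add]
  add_smul c c' z := by simp [prod_smul_def, add_smul]
  zero_smul z := by simp [prod_smul_def]

instance prodTower : IsScalarTower A (B × A) (M × Q) where
  smul_assoc a c z := by
    refine Prod.ext ?_ ?_
    · show (a • c).1 • z.1 = a • (c.1 • z.1)
      rw [Prod.smul_fst, smul_assoc]
    · show (a • c).2 • z.2 = a • (c.2 • z.2)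
      rw [Prod.smul_snd, smul_assoc]

end ProdAct

section Law

variable (A B : Type u) [CommRing A] [CommRing B] [Algebra A B]

/-- the law `x ↦ (x, 1)` from `B` to `B × A`. -/
noncomputable def K : B →ₚₗ[A] (B × A) where
  toFun' S _ _ x := (LinearMap.inl A B A).lTensor S x + (1 : S) ⊗ₜ[A] ((0, 1) : B × A)
  isCompat' φ := by
    funext x
    simp only [Function.comp_apply, map_add, LinearMap.rTensor_tmul, AlgHom.toLinearMap_apply,
      map_one]
    congr 1
    rw [← LinearMap.comp_apply, LinearMap.rTensor_comp_lTensor, ← LinearMap.lTensor_comp_rTensor,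
      LinearMap.comp_apply]

theorem K_toFun' (S : Type u) [CommSemiring S] [Algebra A S] (x : S ⊗[A] B) :
    (K A B).toFun' S x =
      (LinearMap.inl A B A).lTensor S x + (1 : S) ⊗ₜ[A] ((0, 1) : B × A) := rfl

theorem K_one (S : Type u) [CommSemiring S] [Algebra A S] : (K A B).toFun' S 1 = 1 := by
  rw [K_toFun', Algebra.TensorProduct.one_def, LinearMap.lTensor_tmul, ← TensorProduct.tmul_add,
    Algebra.TensorProduct.one_def]
  congr 1
  ext <;> simp

theorem inl_mul (S : Type u) [CommSemiring S] [Algebra A S] (x y : S ⊗[A] B) :
    (LinearMap.inl A B A).lTensor S (x * y) =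
      (LinearMap.inl A B A).lTensor S x * (LinearMap.inl A B A).lTensor S y := by
  induction x using TensorProduct.induction_on with
  | zero => simp
  | tmul s b =>
    induction y using TensorProduct.induction_on with
    | zero => simp
    | tmul t b' => simp [Algebra.TensorProduct.tmul_mul_tmul]
    | add y y' hy hy' => simp only [mul_add, map_add, hy, hy']
  | add x x' hx hx' => simp only [add_mul, map_add, hx, hx']

theorem inl_mul_u (S : Type u) [CommSemiring S] [Algebra A S] (x : S ⊗[A] B) :
    (LinearMap.inl A B A).lTensor S x * ((1 : S) ⊗ₜ[A] ((0, 1) : B × A)) = 0 := by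
  induction x using TensorProduct.induction_on with
  | zero => simp
  | tmul s b =>
    simp [Algebra.TensorProduct.tmul_mul_tmul]
    rw [Prod.mk_zero_zero, TensorProduct.tmul_zero]
  | add x x' hx hx' => rw [map_add, add_mul, hx, hx', add_zero]

theorem u_mul_u (S : Type u) [CommSemiring S] [Algebra A S] :
    ((1 : S) ⊗ₜ[A] ((0, 1) : B × A)) * ((1 : S) ⊗ₜ[A] ((0, 1) : B × A)) =
      (1 : S) ⊗ₜ[A] ((0, 1) : B × A) := by
  simp [Algebra.TensorProduct.tmul_mul_tmul]

theorem K_mul (S : Type u) [CommSemiring S] [Algebra A S] (x y : S ⊗[A] B) :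
    (K A B).toFun' S (x * y) = (K A B).toFun' S x * (K A B).toFun' S y := by
  rw [K_toFun', K_toFun', K_toFun', inl_mul, add_mul, mul_add, mul_add, inl_mul_u,
    mul_comm ((1 : S) ⊗ₜ[A] ((0, 1) : B × A)) ((LinearMap.inl A B A).lTensor S y), inl_mul_u,
    u_mul_u, add_zero, zero_add]

variable (M Q : Type u) [AddCommGroup M] [Module A M] [Module B M] [IsScalarTower A B M]
    [AddCommGroup Q] [Module A Q]

/-- the inhomogeneous determinant law. -/
noncomputable def N [Module.Free A (M × Q)] [Module.Finite A (M × Q)] : B →ₚₗ[A] A :=
  (PolLaw.detPLaw (A := A) (B := B × A) (M := M × Q)).comp (K A B)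

theorem N_toFun' [Module.Free A (M × Q)] [Module.Finite A (M × Q)]
    (S : Type u) [CommSemiring S] [Algebra A S] (x : S ⊗[A] B) :
    (N A B M Q).toFun' S x = PolLaw.detFun A (B × A) (M × Q) S ((K A B).toFun' S x) := rfl

theorem N_isMult [Module.Free A (M × Q)] [Module.Finite A (M × Q)] :
    PolLaw.IsMult (N A B M Q) := fun S _ _ =>
  ⟨by rw [N_toFun', K_one, PolLaw.detFun_one],
   fun x y => by rw [N_toFun', K_mul, PolLaw.detFun_mul]; rfl⟩

theorem key1 (S : Type u) [CommRing S] [Algebra A S] (x : S ⊗[A] B) (z : S ⊗[A] (M × Q)) :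
    TensorProduct.prodRight A S S M Q
      (PolLaw.actEnd (M × Q) S ((LinearMap.inl A B A).lTensor S x) z) =
    (PolLaw.actEnd M S x (TensorProduct.prodRight A S S M Q z).1, 0) := by
  induction x using TensorProduct.induction_on with
  | zero =>
    simp
    rfl
  | tmul s b =>
    induction z using TensorProduct.induction_on with
    | zero =>
      simp
      rfl
    | tmul t mq =>
      simp [prod_smul_def]
    | add z z' hz hz' =>
      rw [map_add, map_add, hz, hz', map_add, Prod.fst_add, map_add]
      simp
  | add x x' hx hx' =>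
    rw [map_add, map_add, LinearMap.add_apply, map_add, hx, hx', map_add, LinearMap.add_apply]
    simp

theorem key2 (S : Type u) [CommRing S] [Algebra A S] (z : S ⊗[A] (M × Q)) :
    TensorProduct.prodRight A S S M Q
      (PolLaw.actEnd (M × Q) S ((1 : S) ⊗ₜ[A] ((0, 1) : B × A)) z) =
    (0, (TensorProduct.prodRight A S S M Q z).2) := by
  induction z using TensorProduct.induction_on with
  | zero =>
    simp
    rfl
  | tmul t mq => simp [prod_smul_def]
  | add z z' hz hz' =>
    rw [map_add, map_add, hz, hz', map_add, Prod.snd_add]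
    simp

theorem detAct_K [Module.Finite A M] [Module.Projective A M] [Module.Finite A Q]
    [Module.Projective A Q]
    (S : Type u) [CommRing S] [IsLocalRing S] [Algebra A S] (x : S ⊗[A] B) :
    PolLaw.detAct (M × Q) S ((K A B).toFun' S x) = PolLaw.detAct M S x := by
  classical
  have hfree1 : Module.Free S (S ⊗[A] M) := Module.free_of_flat_of_isLocalRing
  have hfree2 : Module.Free S (S ⊗[A] Q) := Module.free_of_flat_of_isLocalRing
  have hE : PolLaw.actEnd (M × Q) S ((K A B).toFun' S x) =
      (TensorProduct.prodRight A S S M Q).symm.toLinearMap ∘ₗ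
        (LinearMap.prodMap (PolLaw.actEnd M S x) LinearMap.id) ∘ₗ
          (TensorProduct.prodRight A S S M Q).toLinearMap := by
    apply LinearMap.ext
    intro z
    apply (TensorProduct.prodRight A S S M Q).injective
    simp only [LinearMap.comp_apply, LinearEquiv.coe_coe, LinearEquiv.apply_symm_apply]
    rw [K_toFun', map_add, LinearMap.add_apply, map_add, key1, key2]
    ext <;> simp
  unfold PolLaw.detAct
  rw [hE]
  have h := LinearMap.det_conj (LinearMap.prodMap (PolLaw.actEnd M S x) LinearMap.id)
    (TensorProduct.prodRight A S S M Q).symm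
  rw [LinearEquiv.symm_symm] at h
  rw [h, LinearMap.det_prodMap, LinearMap.det_id, mul_one]

end Law

section Unique

variable {A B : Type u} [CommRing A] [CommRing B] [Algebra A B]

theorem law_eq_of_local {N N' : B →ₚₗ[A] A}
    (h : ∀ (S : Type u) [CommRing S] [IsLocalRing S] [Algebra A S] (x : S ⊗[A] B),
      N.toFun' S x = N'.toFun' S x) : N = N' := by
  apply Groth.Agent.Lib.Helper99.SymNorm.law_ext_ring
  intro S _ _ x
  apply (TensorProduct.rid A S).injective
  rw [← sub_eq_zero]
  apply eq_zero_of_localization
  intro J hJ
  let φ : S →ₐ[A] Localization.AtPrime J := IsScalarTower.toAlgHom A S _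
  have hN := congrFun (N.isCompat' φ) x
  have hN' := congrFun (N'.isCompat' φ) x
  simp only [Function.comp_apply] at hN hN'
  have hh := h (Localization.AtPrime J) (φ.toLinearMap.rTensor B x)
  have key : ∀ w : S ⊗[A] A, algebraMap S (Localization.AtPrime J) (TensorProduct.rid A S w) =
      TensorProduct.rid A _ (φ.toLinearMap.rTensor A w) := by
    intro w
    induction w using TensorProduct.induction_on with
    | zero => simp
    | tmul s a =>
      rw [TensorProduct.rid_tmul, LinearMap.rTensor_tmul, TensorProduct.rid_tmul,
        AlgHom.toLinearMap_apply]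
      exact (map_smul φ a s)
    | add w w' hw hw' => rw [map_add, map_add, hw, hw', map_add, map_add]
  rw [map_sub, key, key, hN, hN', hh, sub_self]

end Unique

/-- the complement construction. -/
noncomputable def eqv {A M : Type u} [CommRing A] [AddCommGroup M] [Module A M] {n : ℕ}
    (f : (Fin n → A) →ₗ[A] M) (g : M →ₗ[A] Fin n → A) (hfg : f ∘ₗ g = LinearMap.id) :
    (M × LinearMap.ker f) ≃ₗ[A] (Fin n → A) :=
  LinearEquiv.ofLinearMap (g.coprod (LinearMap.ker f).subtype)
    (f.prod (LinearMap.codRestrict (LinearMap.ker f) (LinearMap.id - g ∘ₗ f) (fun v => by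
      have := LinearMap.congr_fun hfg (f v)
      simp only [LinearMap.comp_apply, LinearMap.id_apply] at this
      rw [LinearMap.mem_ker, LinearMap.sub_apply, map_sub, LinearMap.id_apply,
        LinearMap.comp_apply, this, sub_self])))
    (by
      refine LinearMap.ext fun v => ?_
      simp)
    (by
      refine LinearMap.ext fun ⟨m, q⟩ => ?_
      have h1 := LinearMap.congr_fun hfg m
      simp only [LinearMap.comp_apply, LinearMap.id_apply] at h1
      have h2 : f q.1 = 0 := LinearMap.mem_ker.mp q.2
      refine Prod.ext ?_ (Subtype.ext ?_)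
      · simp [h1, h2]
      · simp [h1, h2])


/-- Affine form of the inhomogeneous determinant law. Let A be a commutative ring, B a commutative
A-algebra and M a B-module which as an A-module is finitely generated projective, of possibly
non-constant rank. Then there is exactly one multiplicative polynomial law N : B → A over A such
that for every local commutative A-algebra S and every x ∈ S ⊗_A B the value N(x) ∈ S is the
determinant of x acting on the free S-module S ⊗_A M. (N is in general not homogeneous; when M has
constant rank d it is the homogeneous determinant law of degree d. The members over arbitrary test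
algebras are determined by those over local ones.) -/
theorem result {A B M : Type u} [CommRing A] [CommRing B] [Algebra A B]
    [AddCommGroup M] [Module A M] [Module B M] [IsScalarTower A B M] [Module.Finite A M] [Module.Projective A M] :
    ∃! N : B →ₚₗ[A] A, PolLaw.IsMult N ∧ ∀ (S : Type u) [CommRing S] [IsLocalRing S] [Algebra A S] (x : S ⊗[A] B),
      N.toFun' S x = PolLaw.detAct M S x ⊗ₜ[A] (1 : A) := by
  obtain ⟨n, f, g, hf, hg, hfg⟩ := Module.Finite.exists_comp_eq_id_of_projective A M
  have : Module.Free A (M × LinearMap.ker f) := Module.Free.of_equiv (eqv f g hfg).symm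
  have : Module.Finite A (M × LinearMap.ker f) := Module.Finite.equiv (eqv f g hfg).symm
  have : Module.Finite A (LinearMap.ker f) :=
    Module.Finite.of_surjective (LinearMap.snd A M (LinearMap.ker f)) LinearMap.snd_surjective
  have : Module.Projective A (LinearMap.ker f) :=
    Module.Projective.of_split (LinearMap.inr A M (LinearMap.ker f))
      (LinearMap.snd A M (LinearMap.ker f)) (by ext; simp)
  refine ⟨N A B M (LinearMap.ker f), ⟨N_isMult A B M _, fun S _ _ _ x => ?_⟩, fun N' hN' => ?_⟩
  · rw [N_toFun', PolLaw.detFun_eq_detAct, detAct_K]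
  · apply law_eq_of_local
    intro S _ _ _ x
    rw [hN'.2 S x, N_toFun', PolLaw.detFun_eq_detAct, detAct_K]

end Groth.Agent.S19867
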