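import Groth.Statements.S13876
import Mathlib
import Groth.Agent.Lib.Helper99.SymNorm
import Groth.Agent.S19867

set_option autoImplicit false
universe u
open scoped TensorProduct
open ZeroCyc

namespace Groth.Agent.S13876

open Groth.Agent.S19867

section Aux

variable {A : Type u} [CommRing A]

theorem rTensor_smul {S S' : Type u} [CommSemiring S] [Algebra A S] [CommSemiring S'] [Algebra A S']
    {N : Type u} [AddCommGroup N] [Module A N] (φ : S →ₐ[A] S') (s : S) (x : S ⊗[A] N) :
    φ.toLinearMap.rTensor N (s • x) = φ s • φ.toLinearMap.rTensor N x := by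
  induction x using TensorProduct.induction_on with
  | zero => simp
  | tmul t m => simp [TensorProduct.smul_tmul', LinearMap.rTensor_tmul]
  | add x y hx hy => simp only [smul_add, map_add, hx, hy]

theorem rTensor_lid_symm_injective (S : Type u) [CommSemiring S] [Algebra A S]
    (N : Type u) [AddCommGroup N] [Module A N] :
    Function.Injective
      ((Algebra.TensorProduct.lid A S).symm.toAlgHom.toLinearMap.rTensor N) := by
  have h2 : (Algebra.TensorProduct.lid A S).toAlgHom.toLinearMap ∘ₗ
      (Algebra.TensorProduct.lid A S).symm.toAlgHom.toLinearMap = LinearMap.id := by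
    ext s
    simp
  have h3 : (Algebra.TensorProduct.lid A S).toAlgHom.toLinearMap.rTensor N ∘ₗ
      (Algebra.TensorProduct.lid A S).symm.toAlgHom.toLinearMap.rTensor N = LinearMap.id := by
    rw [← LinearMap.rTensor_comp, h2, LinearMap.rTensor_id]
  intro a b hab
  have := congrArg ((Algebra.TensorProduct.lid A S).toAlgHom.toLinearMap.rTensor N) hab
  rw [← LinearMap.comp_apply, ← LinearMap.comp_apply, h3] at this
  simpa using this

theorem isHomog_of_ring {M N : Type u} [AddCommGroup M] [Module A M] [AddCommGroup N] [Module A N]
    (F : M →ₚₗ[A] N) (d : ℕ)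
    (h : ∀ (S : Type u) [CommRing S] [Algebra A S] (s : S) (x : S ⊗[A] M),
      F.toFun' S (s • x) = s ^ d • F.toFun' S x) : PolLaw.IsHomog F d := by
  intro S _ _ s x
  apply rTensor_lid_symm_injective S N
  have hF : ∀ y, (Algebra.TensorProduct.lid A S).symm.toAlgHom.toLinearMap.rTensor N
      (F.toFun' S y) = F.toFun' (A ⊗[A] S)
        ((Algebra.TensorProduct.lid A S).symm.toAlgHom.toLinearMap.rTensor M y) := fun y => by
    have := congrFun (F.isCompat' (Algebra.TensorProduct.lid A S).symm.toAlgHom) y
    simpa using this
  rw [hF, rTensor_smul, h, rTensor_smul, map_pow, hF]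

theorem eq_of_forall_localization {S : Type u} [CommRing S] [Algebra A S] (w w' : S ⊗[A] A)
    (h : ∀ (J : Ideal S) (hJ : J.IsMaximal),
      (IsScalarTower.toAlgHom A S (Localization.AtPrime J)).toLinearMap.rTensor A w =
      (IsScalarTower.toAlgHom A S (Localization.AtPrime J)).toLinearMap.rTensor A w') : w = w' := by
  apply (TensorProduct.rid A S).injective
  rw [← sub_eq_zero]
  apply eq_zero_of_localization
  intro J hJ
  have key : ∀ w : S ⊗[A] A, algebraMap S (Localization.AtPrime J) (TensorProduct.rid A S w) =
      TensorProduct.rid A _
        ((IsScalarTower.toAlgHom A S (Localization.AtPrime J)).toLinearMap.rTensor A w) := by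
    intro w
    induction w using TensorProduct.induction_on with
    | zero => simp
    | tmul s a =>
      rw [TensorProduct.rid_tmul, LinearMap.rTensor_tmul, TensorProduct.rid_tmul,
        AlgHom.toLinearMap_apply]
      exact (map_smul (IsScalarTower.toAlgHom A S (Localization.AtPrime J)) a s)
    | add w w' hw hw' => rw [map_add, map_add, hw, hw', map_add, map_add]
  rw [map_sub, key, key, h J hJ, sub_self]

theorem detAct_smul_local {B M : Type u} [CommRing B] [Algebra A B]
    [AddCommGroup M] [Module A M] [Module B M] [IsScalarTower A B M] [Module.Finite A M]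
    [Module.Projective A M] (d : ℕ) (hd : ∀ p : PrimeSpectrum A, Module.rankAtStalk M p = d)
    (S : Type u) [CommRing S] [IsLocalRing S] [Algebra A S] (r : S) (x : S ⊗[A] B) :
    PolLaw.detAct M S (r • x) = r ^ d * PolLaw.detAct M S x := by
  have hfree : Module.Free S (S ⊗[A] M) := Module.free_of_flat_of_isLocalRing
  have hrank : Module.finrank S (S ⊗[A] M) = d := by
    have h1 := congrFun (Module.rankAtStalk_eq_finrank_of_free (R := S) (M := S ⊗[A] M))
      (IsLocalRing.closedPoint S)
    have h2 := Module.rankAtStalk_baseChange (R := A) (M := M) (S := S) (IsLocalRing.closedPoint S)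
    rw [h2, hd] at h1
    simpa using h1.symm
  unfold PolLaw.detAct
  rw [map_smul, LinearMap.det_smul, hrank]

end Aux


/-- Affine form of the determinant law of a locally free module. Let A be a commutative ring, B a
commutative A-algebra, d ≥ 0, and M a B-module which as an A-module is finitely generated projective
of constant rank d (its localisation at every prime of A has rank d). Then there is exactly one
multiplicative polynomial law N : B → A over A, homogeneous of degree d, such that for every local
A-algebra S and every x ∈ S ⊗_A B the value N(x) ∈ S is the determinant of x acting on the free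
S-module S ⊗_A M. (For M free of rank d over A it is the determinant law of M; the members over
arbitrary test algebras are determined by those over local ones.) -/
theorem result {A B M : Type u} [CommRing A] [CommRing B] [Algebra A B]
    [AddCommGroup M] [Module A M] [Module B M] [IsScalarTower A B M] [Module.Finite A M] [Module.Projective A M]
    (d : ℕ) (hd : ∀ p : PrimeSpectrum A, Module.rankAtStalk M p = d) :
    ∃! N : PolLaw.MulLaw A B A d, ∀ (S : Type u) [CommRing S] [IsLocalRing S] [Algebra A S] (x : S ⊗[A] B),
      N.law.toFun' S x = PolLaw.detAct M S x ⊗ₜ[A] (1 : A) := by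
  obtain ⟨n, f, g, hf, hg, hfg⟩ := Module.Finite.exists_comp_eq_id_of_projective A M
  have : Module.Free A (M × LinearMap.ker f) := Module.Free.of_equiv (eqv f g hfg).symm
  have : Module.Finite A (M × LinearMap.ker f) := Module.Finite.equiv (eqv f g hfg).symm
  have : Module.Finite A (LinearMap.ker f) :=
    Module.Finite.of_surjective (LinearMap.snd A M (LinearMap.ker f)) LinearMap.snd_surjective
  have : Module.Projective A (LinearMap.ker f) :=
    Module.Projective.of_split (LinearMap.inr A M (LinearMap.ker f))
      (LinearMap.snd A M (LinearMap.ker f)) (by ext; simp)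
  have hloc : ∀ (S : Type u) [CommRing S] [IsLocalRing S] [Algebra A S] (x : S ⊗[A] B),
      (Groth.Agent.S19867.N A B M (LinearMap.ker f)).toFun' S x =
        PolLaw.detAct M S x ⊗ₜ[A] (1 : A) := fun S _ _ _ x => by
    rw [N_toFun', PolLaw.detFun_eq_detAct, detAct_K]
  have hhom : PolLaw.IsHomog (Groth.Agent.S19867.N A B M (LinearMap.ker f)) d := by
    apply isHomog_of_ring
    intro S _ _ s x
    apply eq_of_forall_localization
    intro J hJ
    have hc : ∀ y, (IsScalarTower.toAlgHom A S (Localization.AtPrime J)).toLinearMap.rTensor A
        ((Groth.Agent.S19867.N A B M (LinearMap.ker f)).toFun' S y) =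
        (Groth.Agent.S19867.N A B M (LinearMap.ker f)).toFun' (Localization.AtPrime J)
          ((IsScalarTower.toAlgHom A S (Localization.AtPrime J)).toLinearMap.rTensor B y) :=
      fun y => by
        have := congrFun ((Groth.Agent.S19867.N A B M (LinearMap.ker f)).isCompat'
          (IsScalarTower.toAlgHom A S (Localization.AtPrime J))) y
        simpa using this
    rw [hc, rTensor_smul, rTensor_smul, map_pow, hc, hloc, hloc, detAct_smul_local d hd,
      TensorProduct.smul_tmul', smul_eq_mul]
  refine ⟨⟨Groth.Agent.S19867.N A B M (LinearMap.ker f), hhom, N_isMult A B M _⟩, hloc,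
    fun N' hN' => ?_⟩
  apply PolLaw.MulLaw.ext
  apply law_eq_of_local
  intro S _ _ _ x
  rw [hN' S x]
  exact (hloc S x).symm

end Groth.Agent.S13876
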