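import Groth.Statements.S13697
import Groth.Agent.Lib.Helper25.PolLawBC
import Groth.Agent.S13696

set_option autoImplicit false
universe u
open scoped TensorProduct
open ZeroCyc

namespace Groth.Agent.S13697

/-- Let F : B → A be a multiplicative polynomial law homogeneous of degree d over the commutative ring
A, and let A' be any commutative A-algebra. The kernel of the base change of F to A' (an ideal of A'
⊗_A B) and the extension to A' ⊗_A B of the kernel of F have the same radical. In other words the
support (reduced image) of a family of zero-cycles of degree d on Spec B over Spec A commutes with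
every base change Spec A' → Spec A. (The published statement is for X affine over an algebraic space
S; this row is the case of an affine base, to which the general case reduces.) -/
theorem result {A : Type u} [CommRing A] {B : Type u} [CommRing B] [Algebra A B]
    {d : ℕ} (F : PolLaw.MulLaw A B A d) (A' : Type u) [CommRing A'] [Algebra A A'] :
    (PolLaw.kerBC F.law A').radical =
      ((PolLaw.ker F.law).map (Algebra.TensorProduct.includeRight : B →ₐ[A] A' ⊗[A] B)).radical := by
  classical
  open Groth.Agent.Lib.Helper25.PolLawCoeff in
  apply le_antisymm
  · rw [Ideal.radical_le_radical_iff, ← ker_bcLaw]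
    set G := bcMulLaw A' F with hG
    set χ : A' ⊗[A] B → Polynomial A' := fun y => TensorProduct.rid A' (Polynomial A')
      (G.law.toFun' (Polynomial A') ((1 : Polynomial A') ⊗ₜ[A'] y -
        Polynomial.X ⊗ₜ[A'] (1 : A' ⊗[A] B))) with hχ
    have h1 := (Groth.Agent.S13696.result G χ (fun _ => rfl)).2
    refine le_trans h1 (Ideal.radical_mono ?_)
    rw [Ideal.span_le]
    rintro _ ⟨y, rfl⟩
    show Polynomial.aeval y (χ y) ∈ _
    rw [hχ]
    have h2 := aeval_charPoly G y
    rw [h2]
    have h3 : chVal G.law y = chVal (bcLaw A' F.law) y := rfl
    rw [h3, chVal_bcLaw]
    exact aeval_charPolyRel_mem_extKer A' F y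
  · exact Ideal.radical_mono (map_ker_le_kerBC F.law A')

end Groth.Agent.S13697
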