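import Groth.Statements.S13703
import Groth.Agent.Lib.Helper25.PolLawKer
import Groth.Agent.S13695

set_option autoImplicit false
universe u
open scoped TensorProduct
open ZeroCyc

namespace Groth.Agent.S13703

/-- Let A be an integral domain, B a commutative A-algebra and F : B → A a multiplicative polynomial law
homogeneous of degree d. For every prime ideal P of B minimal among those containing the kernel of
F, the contraction of P to A is zero and every prime of A is the contraction of a prime of B
containing P. Geometrically: every irreducible component of the support of the family of zero-cycles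
on Spec B defined by F maps onto Spec A. (The published statement is over an arbitrary algebraic
space S, every irreducible component of the support mapping onto an irreducible component of S, and
its proof reduces to an integral affine base; this row is that case.) -/
theorem result {A : Type u} [CommRing A] [IsDomain A] {B : Type u} [CommRing B] [Algebra A B]
    {d : ℕ} (F : PolLaw.MulLaw A B A d) {P : Ideal B} (hP : P ∈ (PolLaw.ker F.law).minimalPrimes) :
    P.comap (algebraMap A B) = ⊥ ∧
      ∀ q : Ideal A, q.IsPrime → ∃ Q : Ideal B, Q.IsPrime ∧ P ≤ Q ∧ Q.comap (algebraMap A B) = q := by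
  classical
  open Groth.Agent.Lib.Helper25.PolLawCoeff in
  rw [Ideal.minimalPrimes_eq_comap] at hP
  obtain ⟨P', hP', rfl⟩ := hP
  have : P'.IsPrime := hP'.1.1
  have hint : Algebra.IsIntegral A (B ⧸ PolLaw.ker F.law) := Groth.Agent.S13695.result F
  have hcomap : (P'.comap (Ideal.Quotient.mk (PolLaw.ker F.law))).comap (algebraMap A B) = ⊥ := by
    rw [eq_bot_iff]
    intro a ha
    rw [Ideal.mem_bot]
    by_contra ha0
    rw [Ideal.mem_comap, Ideal.mem_comap] at ha
    have hnzd : Ideal.Quotient.mk (PolLaw.ker F.law) (algebraMap A B a) ∈
        nonZeroDivisors (B ⧸ PolLaw.ker F.law) := by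
      rw [mem_nonZeroDivisors_iff_right]
      intro β hβ
      obtain ⟨b, rfl⟩ := Ideal.Quotient.mk_surjective β
      rw [← map_mul, Ideal.Quotient.eq_zero_iff_mem, mul_comm, ← Algebra.smul_def] at hβ
      exact Ideal.Quotient.eq_zero_iff_mem.2
        (mem_ker_of_smul_mem F.law (mem_nonZeroDivisors_of_ne_zero ha0) b hβ)
    exact Set.disjoint_left.1 (Ideal.disjoint_nonZeroDivisors_of_mem_minimalPrimes hP') ha hnzd
  refine ⟨hcomap, fun q hq => ?_⟩
  have := hq
  obtain ⟨Q', hQ'P', hQ'prime, hQ'q⟩ := Ideal.exists_ideal_over_prime_of_isIntegral q P' (by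
    have : P'.comap (algebraMap A (B ⧸ PolLaw.ker F.law)) = ⊥ := by
      rw [← hcomap, Ideal.comap_comap]
      rfl
    rw [this]
    exact bot_le)
  refine ⟨Q'.comap (Ideal.Quotient.mk (PolLaw.ker F.law)), Ideal.comap_isPrime _ _,
    Ideal.comap_mono hQ'P', ?_⟩
  rw [← hQ'q, Ideal.comap_comap]
  rfl

end Groth.Agent.S13703
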