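import Groth.Statements.S1489
import Groth.Agent.Lib.Helper7.FormallyEtaleLift
import Mathlib.AlgebraicGeometry.Morphisms.Etale

set_option autoImplicit false
universe u
open FlatMor

namespace Groth.Agent.S1489

open AlgebraicGeometry CategoryTheory Limits in
/-- A morphism f : X → S is étale if and only if it is locally of finite presentation and formally
étale, i.e. has the unique lifting property against first order thickenings of affine schemes (rings
in the same universe). -/
theorem result {X S : Scheme.{u}} (f : X ⟶ S) :
    Etale f ↔ LocallyOfFinitePresentation f ∧ MoreMor.IsFormallyEtaleHom f := by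
  rw [Groth.Agent.Lib.Helper7.isFormallyEtaleHom_iff_ringLevel]
  constructor
  · intro h
    refine ⟨⟨fun {U} hU {V} hV e => ?_⟩, fun U V hU hV hUV => ?_⟩
    · have := f.etale_appLE hU hV e
      exact this.finitePresentation
    · have := f.etale_appLE hV hU hUV
      exact this.formallyEtale
  · rintro ⟨h1, h2⟩
    refine ⟨fun {U} hU {V} hV e => ?_⟩
    have h3 := h1.finitePresentation_appLE hU hV e
    have h4 := h2 V U hV hU e
    exact @Algebra.Etale.mk _ _ _ _ (f.appLE U V e).hom.toAlgebra h4 h3

end Groth.Agent.S1489
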