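import Groth.Statements.S1397
import Groth.Agent.Lib.Helper7.IndQuasiAffine

set_option autoImplicit false
universe u
open FlatMor

namespace Groth.Agent.S1397

open AlgebraicGeometry CategoryTheory Limits in
/-- Ind-quasi-affine morphisms are stable under composition. -/
theorem result {X Y Z : Scheme.{u}} (f : X ⟶ Y) (g : Y ⟶ Z) (hf : MoreMor.IsIndQuasiAffineHom f) (hg : MoreMor.IsIndQuasiAffineHom g) :
    MoreMor.IsIndQuasiAffineHom (f ≫ g) := by
  apply Groth.Agent.Lib.Helper7.isIndQuasiAffineHom_of_forall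
  intro W i _ _ T hT hrange
  have hK : IsCompact (Set.range (i ≫ f)) := isCompact_range (i ≫ f).continuous
  have hKT : Set.range (i ≫ f) ⊆ ((g ⁻¹ᵁ T : Y.Opens) : Set Y) := by
    rintro _ ⟨w, rfl⟩
    exact hrange ⟨w, by simp⟩
  obtain ⟨Q₀, hQc, hQo, hKQ, hQT⟩ :=
    PrespectralSpace.exists_isCompact_and_isOpen_between hK (g ⁻¹ᵁ T).isOpen hKT
  let Q : Y.Opens := ⟨Q₀, hQo⟩
  have hQcs : CompactSpace (Q : Scheme.{u}) := isCompact_iff_compactSpace.mp hQc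
  have hQqa : Scheme.IsQuasiAffine (Q : Scheme.{u}) := by
    refine Groth.Agent.Lib.Helper7.isQuasiAffine_of_isIndQuasiAffineHom hg Q.ι T hT ?_
    rintro _ ⟨y, rfl⟩
    exact hQT y.2
  have hsub : Set.range (i ≫ f) ⊆ Set.range Q.ι := by
    rw [Scheme.Opens.range_ι]
    exact hKQ
  let q : W ⟶ (Q : Scheme.{u}) := IsOpenImmersion.lift Q.ι (i ≫ f) hsub
  have hq : q ≫ Q.ι = i ≫ f := IsOpenImmersion.lift_fac _ _ _
  apply Groth.Agent.Lib.Helper7.isQuasiAffine_of_forall_exists_preimage_basicOpen q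
  intro w
  obtain ⟨_, ⟨_, ⟨r, hr, rfl⟩, rfl⟩, hwr, -⟩ :=
    (Scheme.IsQuasiAffine.isBasis_basicOpen (Q : Scheme.{u})).exists_subset_of_mem_open
      (Set.mem_univ (q w)) isOpen_univ
  refine ⟨r, hwr, ?_⟩
  have hc : CompactSpace ↥((q ⁻¹ᵁ (Q : Scheme.{u}).basicOpen r : W.Opens) : Scheme.{u}) := by
    refine isCompact_iff_compactSpace.mp ?_
    rw [Scheme.preimage_basicOpen_top]
    exact isCompact_basicOpen W isCompact_univ _
  refine Groth.Agent.Lib.Helper7.isQuasiAffine_of_isIndQuasiAffineHom hf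
    ((q ⁻¹ᵁ (Q : Scheme.{u}).basicOpen r).ι ≫ i) (Q.ι ''ᵁ (Q : Scheme.{u}).basicOpen r)
    (hr.image_of_isOpenImmersion Q.ι) ?_
  rintro _ ⟨x, rfl⟩
  have hx : q x.1 ∈ (Q : Scheme.{u}).basicOpen r := x.2
  have h3 : (i ≫ f) x.1 = Q.ι (q x.1) := by
    rw [← hq]; rfl
  simp only [Scheme.Hom.comp_apply] at h3 ⊢
  change f (i x.1) ∈ _
  rw [h3]
  exact ⟨_, hx, rfl⟩

end Groth.Agent.S1397
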