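import Groth.Statements.S1400
import Groth.Agent.Lib.Helper7.IndQuasiAffine

set_option autoImplicit false
universe u
open FlatMor

namespace Groth.Agent.S1400

open AlgebraicGeometry CategoryTheory Limits in
/-- The base change of an ind-quasi-affine morphism is ind-quasi-affine. -/
theorem result {X S X' S' : Scheme.{u}} (f : X ⟶ S) (f' : X' ⟶ S') (g' : X' ⟶ X) (g : S' ⟶ S)
    (hc : IsPullback g' f' f g) (hf : MoreMor.IsIndQuasiAffineHom f) : MoreMor.IsIndQuasiAffineHom f' := by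
  apply Groth.Agent.Lib.Helper7.isIndQuasiAffineHom_of_forall
  intro W i _ _ V' hV' hrange
  have hVaff : IsAffine (V' : Scheme.{u}) := hV'
  have hsub : Set.range (i ≫ f') ⊆ Set.range V'.ι := by
    simpa using hrange
  let q : W ⟶ (V' : Scheme.{u}) := IsOpenImmersion.lift V'.ι (i ≫ f') hsub
  have hq : q ≫ V'.ι = i ≫ f' := IsOpenImmersion.lift_fac _ _ _
  apply Groth.Agent.Lib.Helper7.isQuasiAffine_of_forall_exists_preimage_basicOpen q
  intro w
  obtain ⟨T, hT, hzT⟩ : ∃ T : S.Opens, IsAffineOpen T ∧ g (V'.ι (q w)) ∈ T := by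
    obtain ⟨_, ⟨T, hT, rfl⟩, hzT, -⟩ := S.isBasis_affineOpens.exists_subset_of_mem_open
      (Set.mem_univ (g (V'.ι (q w)))) isOpen_univ
    exact ⟨T, hT, hzT⟩
  obtain ⟨_, ⟨_, ⟨r, rfl⟩, rfl⟩, hr1, hr2⟩ := (isBasis_basicOpen (V' : Scheme.{u})).exists_subset_of_mem_open
    (show q w ∈ (V'.ι ⁻¹ᵁ g ⁻¹ᵁ T : (V' : Scheme.{u}).Opens) from hzT) (V'.ι ⁻¹ᵁ g ⁻¹ᵁ T).isOpen
  refine ⟨r, hr1, ?_⟩
  -- notation
  set D : (V' : Scheme.{u}).Opens := (V' : Scheme.{u}).basicOpen r with hD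
  have hDaff : IsAffineOpen D := (isAffineOpen_top (V' : Scheme.{u})).basicOpen r
  have hDa : IsAffine (D : Scheme.{u}) := hDaff
  have hTa : IsAffine (T : Scheme.{u}) := hT
  have hc' : CompactSpace ↥((q ⁻¹ᵁ D : W.Opens) : Scheme.{u}) := by
    refine isCompact_iff_compactSpace.mp ?_
    rw [hD, Scheme.preimage_basicOpen_top]
    exact isCompact_basicOpen W isCompact_univ _
  -- the morphism `a : W_r ⟶ X`
  let a : ((q ⁻¹ᵁ D : W.Opens) : Scheme.{u}) ⟶ X := (q ⁻¹ᵁ D).ι ≫ i ≫ g'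
  have haT : Set.range (a ≫ f) ⊆ (T : Set S) := by
    rintro _ ⟨x, rfl⟩
    have hx : q x.1 ∈ D := x.2
    have h2 := hr2 hx
    have h3 : (i ≫ f') x.1 = V'.ι (q x.1) := by
      rw [← hq]; rfl
    have h4 : (a ≫ f) x = g ((i ≫ f') x.1) := by
      simp only [a, Category.assoc, hc.w]
      rfl
    rw [h4, h3]
    exact h2
  have hK : IsCompact (Set.range a) := isCompact_range a.continuous
  have hKT : Set.range a ⊆ ((f ⁻¹ᵁ T : X.Opens) : Set X) := by
    rintro _ ⟨x, rfl⟩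
    exact haT ⟨x, rfl⟩
  obtain ⟨Q₀, hQc, hQo, hKQ, hQT⟩ :=
    PrespectralSpace.exists_isCompact_and_isOpen_between hK (f ⁻¹ᵁ T).isOpen hKT
  let Q : X.Opens := ⟨Q₀, hQo⟩
  have hQcs : CompactSpace (Q : Scheme.{u}) := isCompact_iff_compactSpace.mp hQc
  have hQqa : Scheme.IsQuasiAffine (Q : Scheme.{u}) := by
    refine Groth.Agent.Lib.Helper7.isQuasiAffine_of_isIndQuasiAffineHom hf Q.ι T hT ?_
    rintro _ ⟨y, rfl⟩
    exact hQT y.2
  have hsubQ : Set.range a ⊆ Set.range Q.ι := by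
    rw [Scheme.Opens.range_ι]
    exact hKQ
  let a' : ((q ⁻¹ᵁ D : W.Opens) : Scheme.{u}) ⟶ (Q : Scheme.{u}) := IsOpenImmersion.lift Q.ι a hsubQ
  have ha' : a' ≫ Q.ι = a := IsOpenImmersion.lift_fac _ _ _
  -- maps to T
  have hsubQT : Set.range (Q.ι ≫ f) ⊆ Set.range T.ι := by
    rw [Scheme.Opens.range_ι]
    rintro _ ⟨y, rfl⟩
    exact hQT y.2
  let fQ : (Q : Scheme.{u}) ⟶ (T : Scheme.{u}) := IsOpenImmersion.lift T.ι (Q.ι ≫ f) hsubQT
  have hfQ : fQ ≫ T.ι = Q.ι ≫ f := IsOpenImmersion.lift_fac _ _ _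
  have hsubDT : Set.range (D.ι ≫ V'.ι ≫ g) ⊆ Set.range T.ι := by
    rw [Scheme.Opens.range_ι]
    rintro _ ⟨y, rfl⟩
    exact hr2 y.2
  let dT : (D : Scheme.{u}) ⟶ (T : Scheme.{u}) := IsOpenImmersion.lift T.ι (D.ι ≫ V'.ι ≫ g) hsubDT
  have hdT : dT ≫ T.ι = D.ι ≫ V'.ι ≫ g := IsOpenImmersion.lift_fac _ _ _
  -- the fibre product
  have hdTaff : IsAffineHom dT := inferInstance
  have hfstaff : IsAffineHom (pullback.fst fQ dT) := MorphismProperty.pullback_fst _ _ hdTaff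
  have hPqa : Scheme.IsQuasiAffine (pullback fQ dT) :=
    Scheme.IsQuasiAffine.of_isAffineHom (pullback.fst fQ dT)
  -- map to the fibre product
  let qD : ((q ⁻¹ᵁ D : W.Opens) : Scheme.{u}) ⟶ (D : Scheme.{u}) := q ∣_ D
  have hqD : qD ≫ D.ι = (q ⁻¹ᵁ D).ι ≫ q := morphismRestrict_ι q D
  have hcomp : a' ≫ fQ = qD ≫ dT := by
    rw [← cancel_mono T.ι, Category.assoc, Category.assoc, hfQ, hdT, ← Category.assoc, ha',
      ← Category.assoc qD, hqD]
    simp only [a, Category.assoc, hc.w]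
    rw [← Category.assoc q, hq, Category.assoc]
  let b : ((q ⁻¹ᵁ D : W.Opens) : Scheme.{u}) ⟶ pullback fQ dT := pullback.lift a' qD hcomp
  let c : pullback fQ dT ⟶ X' := hc.lift (pullback.fst fQ dT ≫ Q.ι) (pullback.snd fQ dT ≫ D.ι ≫ V'.ι) (by
    rw [Category.assoc, ← hfQ, ← Category.assoc, pullback.condition, Category.assoc, hdT]
    simp only [Category.assoc])
  have hbc : b ≫ c = (q ⁻¹ᵁ D).ι ≫ i := by
    apply hc.hom_ext
    · simp only [b, c, Category.assoc, IsPullback.lift_fst, pullback.lift_fst_assoc, ha', a]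
    · simp only [b, c, Category.assoc, IsPullback.lift_snd, pullback.lift_snd_assoc]
      rw [← Category.assoc, hqD, Category.assoc, hq]
  have : IsImmersion (b ≫ c) := by
    rw [hbc]; infer_instance
  have : IsImmersion b := IsImmersion.of_comp b c
  exact Scheme.IsQuasiAffine.of_isImmersion b

end Groth.Agent.S1400
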