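import Groth.Statements.S0412
import Groth.Agent.Lib.Helper7.SmoothSlice

set_option autoImplicit false
universe u
open FlatMor

namespace Groth.Agent.S0412

open AlgebraicGeometry CategoryTheory Limits in
/-- A smooth morphism admits sections étale-locally on the target: every point in the image has an étale
neighbourhood over which the morphism has a section. -/
theorem result {X S : Scheme.{u}} (f : X ⟶ S) [Smooth f] (s : S) (hs : s ∈ Set.range f) :
    ∃ (S' : Scheme.{u}) (g : S' ⟶ S) (s' : S'), Etale g ∧ g s' = s ∧ ∃ h : S' ⟶ X, h ≫ f = g := by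
  obtain ⟨x, rfl⟩ := hs
  obtain ⟨_, ⟨V, hV, rfl⟩, hxV, -⟩ := S.isBasis_affineOpens.exists_subset_of_mem_open
    (Set.mem_univ (f x)) isOpen_univ
  obtain ⟨_, ⟨U, hU, rfl⟩, hxU, hUV : U ≤ f ⁻¹ᵁ V⟩ :=
    X.isBasis_affineOpens.exists_subset_of_mem_open hxV (f ⁻¹ᵁ V).2
  have hsm : (f.appLE V U hUV).hom.Smooth := Smooth.smooth_appLE f hV hU hUV
  algebraize [(f.appLE V U hUV).hom]
  obtain ⟨g, J, hE, q, hq, hqp⟩ := Groth.Agent.Lib.Helper7.SmoothSlice.exists_etale_point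
    Γ(S, V) Γ(X, U) ((hU.primeIdealOf ⟨x, hxU⟩).asIdeal.comap (algebraMap Γ(S, V) Γ(X, U)))
    (hU.primeIdealOf ⟨x, hxU⟩).asIdeal rfl
  let φA : Γ(S, V) ⟶ .of (Localization.Away g ⧸ J) :=
    CommRingCat.ofHom (algebraMap Γ(S, V) (Localization.Away g ⧸ J))
  let φR : Γ(X, U) ⟶ .of (Localization.Away g ⧸ J) :=
    CommRingCat.ofHom (algebraMap Γ(X, U) (Localization.Away g ⧸ J))
  have hφ : φA.hom.Etale := RingHom.etale_algebraMap.mpr hE
  have : Etale (Spec.map φA) := HasRingHomProperty.Spec_iff.mpr hφ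
  have hcomp : φA = f.appLE V U hUV ≫ φR := by
    ext a
    exact IsScalarTower.algebraMap_apply Γ(S, V) Γ(X, U) (Localization.Away g ⧸ J) a
  refine ⟨Spec (.of (Localization.Away g ⧸ J)), Spec.map φA ≫ hV.fromSpec, ⟨q, hq⟩,
    inferInstance, ?_, Spec.map φR ≫ hU.fromSpec, ?_⟩
  · have h1 : Spec.map φA ⟨q, hq⟩ = Spec.map (f.appLE V U hUV) (hU.primeIdealOf ⟨x, hxU⟩) :=
      PrimeSpectrum.ext hqp
    rw [Scheme.Hom.comp_apply, h1, ← Scheme.Hom.comp_apply,
      IsAffineOpen.SpecMap_appLE_fromSpec f hV hU hUV, Scheme.Hom.comp_apply,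
      hU.fromSpec_primeIdealOf ⟨x, hxU⟩]
  · rw [Category.assoc, ← IsAffineOpen.SpecMap_appLE_fromSpec f hV hU hUV, ← Category.assoc,
      ← Spec.map_comp, hcomp]

end Groth.Agent.S0412
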