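import Groth.Statements.S2339
import Mathlib
import Groth.Agent.Lib.Helper11.QuasiAffine

set_option autoImplicit false
universe u
open CategoryTheory CategoryTheory.Limits AlgebraicGeometry
open EGA2

namespace Groth.Agent.S2339

/-- If f : X → Y is quasi-affine then so is its base change along any morphism Y' → Y. -/
theorem result {X Y Y' : Scheme.{u}} (f : X ⟶ Y) (hf : Mor2.IsQuasiAffine f) (g : Y' ⟶ Y) :
    Mor2.IsQuasiAffine (pullback.snd f g) := by
  have := hf.1
  refine Groth.Agent.Lib.Helper11.isQuasiAffineHom_of_forall_exists (pullback.snd f g) fun y' => ?_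
  obtain ⟨V, hV, hyV⟩ : ∃ V : Y.Opens, IsAffineOpen V ∧ g y' ∈ V := by
    obtain ⟨_, ⟨V, hV, rfl⟩, hyV, -⟩ :=
      Y.isBasis_affineOpens.exists_subset_of_mem_open (Set.mem_univ (g y')) isOpen_univ
    exact ⟨V, hV, hyV⟩
  obtain ⟨V', hV', hyV', hle⟩ : ∃ V' : Y'.Opens, IsAffineOpen V' ∧ y' ∈ V' ∧ V' ≤ g ⁻¹ᵁ V := by
    obtain ⟨_, ⟨V', hV', rfl⟩, hyV', hle⟩ :=
      Y'.isBasis_affineOpens.exists_subset_of_mem_open (show y' ∈ (g ⁻¹ᵁ V : Set Y') from hyV)
        (g ⁻¹ᵁ V).2
    exact ⟨V', hV', hyV', hle⟩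
  refine ⟨V', hV', hyV', ?_⟩
  have hXV : (f ⁻¹ᵁ V : Scheme.{u}).IsQuasiAffine := hf.2 V hV
  have : IsAffine V.toScheme := hV
  have : IsAffine V'.toScheme := hV'
  let fV : (f ⁻¹ᵁ V).toScheme ⟶ V.toScheme := f ∣_ V
  let gV : V'.toScheme ⟶ V.toScheme := g.resLE V V' hle
  let m : pullback fV gV ⟶ pullback f g :=
    pullback.map fV gV f g (f ⁻¹ᵁ V).ι V'.ι V.ι (by simp [fV]) (by simp [gV])
  have hm : IsOpenImmersion m := inferInstance
  have hrange : Set.range (pullback.snd f g ⁻¹ᵁ V').ι = Set.range m := by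
    rw [Scheme.Pullback.range_map, Scheme.Opens.range_ι, Scheme.Opens.range_ι,
      Scheme.Opens.range_ι]
    ext z
    constructor
    · intro hz
      refine ⟨?_, hz⟩
      change f (pullback.fst f g z) ∈ V
      have hcond : f (pullback.fst f g z) = g (pullback.snd f g z) := by
        rw [← Scheme.Hom.comp_apply, ← Scheme.Hom.comp_apply, pullback.condition]
      rw [hcond]
      exact hle hz
    · rintro ⟨-, hz⟩
      exact hz
  have hgV : IsAffineHom gV := isAffineHom_of_isAffine gV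
  have hfst : IsAffineHom (pullback.fst fV gV) :=
    MorphismProperty.of_isPullback (P := @IsAffineHom) (IsPullback.of_hasPullback fV gV).flip hgV
  have hP : (pullback fV gV).IsQuasiAffine :=
    Scheme.IsQuasiAffine.of_isAffineHom (pullback.fst fV gV)
  exact Groth.Agent.Lib.Helper11.isQuasiAffine_of_iso
    (IsOpenImmersion.isoOfRangeEq (pullback.snd f g ⁻¹ᵁ V').ι m hrange)

end Groth.Agent.S2339
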