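import Groth.Statements.S5939
import Mathlib

set_option autoImplicit false
universe u
open CategoryTheory AlgebraicGeometry
open Unram17

namespace Groth.Agent.S5939

-- HELPERS BEGIN
open CategoryTheory.Limits
lemma quasiCompact_of_comp_surjective {X Y Z : Scheme.{u}} (f : X ⟶ Y) (g : Y ⟶ Z)
    [Surjective f] [QuasiCompact (f ≫ g)] : QuasiCompact g := by
  refine ⟨fun U hU hUc => ?_⟩
  have h1 : IsCompact ((f ≫ g) ⁻¹' U) := QuasiCompact.isCompact_preimage (f := f ≫ g) U hU hUc
  have h2 : (f ≫ g) ⁻¹' U = f ⁻¹' (g ⁻¹' U) := by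
    ext x
    simp only [Set.mem_preimage, Scheme.Hom.comp_apply]
  rw [h2] at h1
  have := h1.image f.continuous
  rwa [Set.image_preimage_eq _ f.surjective] at this

lemma quasiCompact_of_isPullback_surjective {W W' Y Y' : Scheme.{u}} {fst : Y' ⟶ Y}
    {snd : Y' ⟶ W'} {h : Y ⟶ W} {p : W' ⟶ W}
    (sq : IsPullback fst snd h p) [Surjective p] [QuasiCompact p] [QuasiCompact snd] :
    QuasiCompact h := by
  have : Surjective fst := MorphismProperty.of_isPullback (P := @Surjective) sq.flip ‹_›
  refine ⟨fun U hU hUc => ?_⟩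
  have h1 : IsCompact (p ⁻¹' U) := QuasiCompact.isCompact_preimage (f := p) U hU hUc
  have h2 : IsCompact (snd ⁻¹' (p ⁻¹' U)) :=
    QuasiCompact.isCompact_preimage (f := snd) _ (hU.preimage p.continuous) h1
  have h3 : snd ⁻¹' (p ⁻¹' U) = fst ⁻¹' (h ⁻¹' U) := by
    ext x
    simp only [Set.mem_preimage]
    rw [← Scheme.Hom.comp_apply, ← Scheme.Hom.comp_apply, sq.w]
  rw [h3] at h2
  have := h2.image fst.continuous
  rwa [Set.image_preimage_eq _ fst.surjective] at this
-- HELPERS END


/-- Let f : X ⟶ Y be faithfully flat, locally of finite presentation and quasi-compact, and let g : Y ⟶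
Z be a morphism such that f ≫ g is of finite presentation (locally of finite presentation,
quasi-compact and quasi-separated). Then g is quasi-compact and quasi-separated; together with the
descent of local finite presentation along f this says that g is of finite presentation. This is the
case f quasi-compact. -/
theorem result {X Y Z : Scheme.{u}} (f : X ⟶ Y) (g : Y ⟶ Z)
    [Surjective f] [Flat f] [LocallyOfFinitePresentation f] [QuasiCompact f]
    [LocallyOfFinitePresentation (f ≫ g)] [QuasiCompact (f ≫ g)] [QuasiSeparated (f ≫ g)] :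
    QuasiCompact g ∧ QuasiSeparated g := by
  refine ⟨quasiCompact_of_comp_surjective f g, ⟨?_⟩⟩
  have sq := pullback_map_diagonal_isPullback f f g
  have : MorphismProperty.IsStableUnderComposition @Surjective.{u} :=
    (inferInstance : MorphismProperty.IsMultiplicative @Surjective.{u}).toIsStableUnderComposition
  have hp1 : Surjective (pullback.map (f ≫ g) (f ≫ g) g g f f (𝟙 _) (Category.comp_id _)
      (Category.comp_id _)) :=
    MorphismProperty.pullbackMap (P := @Surjective.{u}) ‹_› ‹_› rfl rfl
  have hp2 : QuasiCompact (pullback.map (f ≫ g) (f ≫ g) g g f f (𝟙 _) (Category.comp_id _)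
      (Category.comp_id _)) :=
    MorphismProperty.pullbackMap (P := @QuasiCompact.{u}) ‹_› ‹_› rfl rfl
  have hq : QuasiCompact (pullback.map f f (f ≫ g) (f ≫ g) (𝟙 _) (𝟙 _) g (Category.id_comp _).symm
      (Category.id_comp _).symm) := by
    have h1 : QuasiCompact (pullback.map f f (f ≫ g) (f ≫ g) (𝟙 _) (𝟙 _) g
        (Category.id_comp _).symm (Category.id_comp _).symm ≫ pullback.fst (f ≫ g) (f ≫ g)) := by
      rw [pullback.lift_fst, Category.comp_id]
      infer_instance
    exact QuasiCompact.of_comp _ (pullback.fst (f ≫ g) (f ≫ g))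
  exact quasiCompact_of_isPullback_surjective sq

end Groth.Agent.S5939
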