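import Groth.Statements.S2205
import Mathlib
import Groth.Agent.S2215

set_option autoImplicit false
universe u v
open Disc

namespace Groth.Agent.S2205

open TensorProduct
open Groth.Agent.S2215 (θ θ_tmul θ_left θ_right eq_sum θ_trace trace_eq_sum)

section General

variable {A : Type u} {B : Type v} [CommRing A] [CommRing B] [Algebra A B]

theorem mem_noetherDifferent_iff (d : B) :
    d ∈ Disc.noetherDifferent A B ↔
      ∃ t ∈ Submodule.annihilator (KaehlerDifferential.ideal A B),
        Algebra.TensorProduct.lmul' (S := B) A t = d := by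
  have hsurj : Function.Surjective (Algebra.TensorProduct.lmul' (S := B) A) :=
    fun x => ⟨x ⊗ₜ 1, by simp⟩
  unfold Disc.noetherDifferent
  rw [Ideal.mem_map_iff_of_surjective _ hsurj]

theorem smul_eq_tmul_one_smul (d : B) (m : Ω[B⁄A]) : d • m = (d ⊗ₜ[A] (1 : B)) • m := by
  rw [← one_smul (B ⊗[A] B) m, ← smul_assoc, ← smul_assoc]
  congr 1
  rw [Algebra.TensorProduct.one_def, TensorProduct.smul_tmul', smul_eq_mul, mul_one,
    smul_eq_mul, Algebra.TensorProduct.tmul_mul_tmul, mul_one, mul_one]

/-- the Noether different kills the Kähler differentials -/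
theorem smul_eq_zero_of_mem_noetherDifferent (d : B) (hd : d ∈ Disc.noetherDifferent A B)
    (m : Ω[B⁄A]) : d • m = 0 := by
  obtain ⟨t, ht, rfl⟩ := (mem_noetherDifferent_iff d).mp hd
  obtain ⟨x, rfl⟩ := KaehlerDifferential.fromIdeal_surjective A B m
  set d := Algebra.TensorProduct.lmul' (S := B) A t with hd'
  have h1 : d • KaehlerDifferential.fromIdeal A B x =
      (d ⊗ₜ[A] (1 : B)) • KaehlerDifferential.fromIdeal A B x := by
    rw [← one_smul (B ⊗[A] B) (KaehlerDifferential.fromIdeal A B x), ← smul_assoc,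
      ← smul_assoc]
    congr 1
    rw [Algebra.TensorProduct.one_def, TensorProduct.smul_tmul', smul_eq_mul, mul_one,
      smul_eq_mul, Algebra.TensorProduct.tmul_mul_tmul, mul_one, mul_one]
  rw [h1, ← map_smul]
  show (KaehlerDifferential.ideal A B).toCotangent _ = 0
  rw [Ideal.toCotangent_eq_zero]
  have h2 : ((d ⊗ₜ[A] (1 : B)) • x : KaehlerDifferential.ideal A B).1 =
      (d ⊗ₜ[A] (1 : B) - t) * x.1 := by
    rw [sub_mul]
    have : t * x.1 = 0 := by
      have := Submodule.mem_annihilator.mp ht x.1 x.2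
      simpa using this
    rw [this, sub_zero]
    rfl
  rw [h2, pow_two]
  refine Ideal.mul_mem_mul ?_ x.2
  rw [RingHom.mem_ker, map_sub]
  simp [hd']

/-- if `f` kills the Kähler differentials then a power of `f` is in the Noether different -/
theorem exists_pow_mem_noetherDifferent [Algebra.FiniteType A B] (f : B)
    (hf : ∀ m : Ω[B⁄A], f • m = 0) : ∃ n : ℕ, f ^ n ∈ Disc.noetherDifferent A B := by
  classical
  set I := KaehlerDifferential.ideal A B with hI
  set a : B ⊗[A] B := f ⊗ₜ[A] (1 : B) with ha
  haveI : Module.Finite (B ⊗[A] B) I :=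
    Module.Finite.iff_fg.mpr (KaehlerDifferential.ideal_fg A B)
  let φ : Module.End (B ⊗[A] B) I := algebraMap (B ⊗[A] B) (Module.End (B ⊗[A] B) I) a
  have hrange : LinearMap.range φ ≤ I • (⊤ : Submodule (B ⊗[A] B) I) := by
    rintro _ ⟨x, rfl⟩
    have h1 : KaehlerDifferential.fromIdeal A B (a • x) = 0 := by
      rw [map_smul]
      have h0 := hf (KaehlerDifferential.fromIdeal A B x)
      rw [ha, ← smul_eq_tmul_one_smul]
      exact h0
    show a • x ∈ _
    have h2 : ((a • x : I) : B ⊗[A] B) ∈ I ^ 2 :=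
      (Ideal.toCotangent_eq_zero I (a • x)).mp h1
    rw [Submodule.mem_smul_top_iff, smul_eq_mul, ← pow_two]
    exact h2
  obtain ⟨p, hmonic, -, hcoeff, hp⟩ :=
    LinearMap.exists_monic_and_natDegree_eq_and_coeff_mem_pow_and_aeval_eq_zero (B ⊗[A] B) φ I
      hrange
  refine ⟨p.natDegree, ?_⟩
  rw [mem_noetherDifferent_iff]
  refine ⟨p.eval a, ?_, ?_⟩
  · rw [Submodule.mem_annihilator]
    intro x hx
    have h3 := LinearMap.congr_fun hp ⟨x, hx⟩
    rw [Polynomial.aeval_algebraMap_apply] at h3
    have h4 := congrArg Subtype.val h3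
    simpa [Module.algebraMap_end_apply, Polynomial.aeval_def] using h4
  · have h5 : Algebra.TensorProduct.lmul' (S := B) A (p.eval a) =
        (p.map (Algebra.TensorProduct.lmul' (S := B) A).toRingHom).eval
          (Algebra.TensorProduct.lmul' (S := B) A a) := by
      have h8 := Polynomial.hom_eval₂ p (RingHom.id (B ⊗[A] B))
        (Algebra.TensorProduct.lmul' (S := B) A).toRingHom a
      rw [RingHom.comp_id] at h8
      rw [Polynomial.eval_map, Polynomial.eval]
      exact h8
    have h6 : p.map (Algebra.TensorProduct.lmul' (S := B) A).toRingHom =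
        Polynomial.X ^ p.natDegree := by
      ext k
      rw [Polynomial.coeff_map, Polynomial.coeff_X_pow]
      split_ifs with hk
      · rw [hk, Polynomial.coeff_natDegree, hmonic.leadingCoeff]
        exact map_one _
      · rcases lt_or_gt_of_ne hk with hlt | hgt
        · have h7 : p.coeff k ∈ I := by
            have := hcoeff k
            exact Ideal.pow_le_self (by omega) this
          exact h7
        · rw [Polynomial.coeff_eq_zero_of_natDegree_lt hgt]
          exact map_zero _
    rw [h5, h6, Polynomial.eval_pow, Polynomial.eval_X, ha]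
    simp

end General

section FiniteFree

variable {A : Type u} {B : Type v} [CommRing A] [CommRing B] [Algebra A B]

theorem swap_lemma (φ ψ : B →ₗ[A] A) (t : B ⊗[A] B) :
    φ (θ ψ t) = ψ (θ φ (TensorProduct.comm A B B t)) := by
  induction t with
  | zero => simp
  | tmul x y => simp [mul_comm]
  | add x y hx hy => simp only [map_add, hx, hy]

theorem mem_differentSet_of_mem_noetherDifferent [Module.Free A B] [Module.Finite A B] (d : B)
    (hd : d ∈ Disc.noetherDifferent A B) : d ∈ Disc.differentSet A B := by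
  classical
  let b := Module.Free.chooseBasis A B
  obtain ⟨t, ht, rfl⟩ := (mem_noetherDifferent_iff d).mp hd
  intro φ
  refine ⟨θ φ (TensorProduct.comm A B B t), fun x => ?_⟩
  have h1 : x * Algebra.TensorProduct.lmul' (S := B) A t =
      θ (Algebra.trace A B ∘ₗ LinearMap.mulLeft A x) t := by
    have hxt : (x ⊗ₜ[A] (1 : B)) * t ∈
        Submodule.annihilator (KaehlerDifferential.ideal A B) := Ideal.mul_mem_left _ _ ht
    rw [← θ_left, θ_trace b _ hxt, map_mul]
    simp
  rw [mul_comm, h1, swap_lemma]
  simp [mul_comm]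

theorem sq_mem_noetherDifferent_of_mem_differentSet [Module.Free A B] [Module.Finite A B] (b₀ : B)
    (hb : b₀ ∈ Disc.differentSet A B) : b₀ ^ 2 ∈ Disc.noetherDifferent A B := by
  classical
  let b := Module.Free.chooseBasis A B
  have hex : ∀ i, ∃ c : B, ∀ x, b.coord i (b₀ * x) = Algebra.trace A B (c * x) :=
    fun i => hb (b.coord i)
  choose c hc using hex
  let t : B ⊗[A] B := ∑ i, b i ⊗ₜ[A] c i
  have hθt : ∀ ψ : B →ₗ[A] A, θ ψ t = ∑ i, ψ (b i) • c i := by
    intro ψ
    simp [t, map_sum]
  have Fa : ∀ (ψ : B →ₗ[A] A) (x : B), ψ (b₀ * x) = Algebra.trace A B (θ ψ t * x) := by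
    intro ψ x
    rw [hθt, Finset.sum_mul, map_sum]
    simp only [smul_mul_assoc, map_smul, smul_eq_mul, ← hc]
    conv_lhs => rw [← b.sum_repr (b₀ * x), map_sum]
    refine Finset.sum_congr rfl (fun i _ => ?_)
    rw [map_smul, smul_eq_mul, mul_comm]
    rfl
  have Fb : ∀ r : B, (∀ z, Algebra.trace A B (r * z) = 0) → b₀ * r = 0 := by
    intro r hr
    apply b.repr.injective
    ext i
    have := Fa (b.coord i) r
    rw [mul_comm (θ _ t) r, hr] at this
    simpa using this
  have Fc : ((1 : B) ⊗ₜ[A] b₀) * t ∈ Submodule.annihilator (KaehlerDifferential.ideal A B) := by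
    rw [Groth.Agent.S2197.mem_annihilator_ideal_iff]
    intro s
    rw [eq_sum b (_ * ((1 : B) ⊗ₜ[A] s)), eq_sum b (_ * (s ⊗ₜ[A] (1 : B)))]
    refine Finset.sum_congr rfl (fun k _ => ?_)
    congr 1
    have e1 : ((1 : B) ⊗ₜ[A] b₀) * t * ((1 : B) ⊗ₜ[A] s) = ((1 : B) ⊗ₜ[A] (b₀ * s)) * t := by
      rw [mul_right_comm, Algebra.TensorProduct.tmul_mul_tmul, one_mul]
    have e2 : ((1 : B) ⊗ₜ[A] b₀) * t * (s ⊗ₜ[A] (1 : B)) =
        ((1 : B) ⊗ₜ[A] b₀) * ((s ⊗ₜ[A] (1 : B)) * t) := by ring
    rw [e1, e2, θ_right, θ_right, θ_left, mul_assoc, ← sub_eq_zero, ← mul_sub]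
    apply Fb
    intro z
    rw [sub_mul, map_sub, sub_eq_zero]
    have e3 : s * θ (b.coord k) t * z = θ (b.coord k) t * (s * z) := by ring
    rw [e3, ← Fa, ← Fa, LinearMap.comp_apply, LinearMap.mulLeft_apply]
    congr 1
    ring
  have Fd : b₀ * Algebra.TensorProduct.lmul' (S := B) A t = b₀ ^ 2 := by
    rw [pow_two, ← sub_eq_zero, ← mul_sub]
    apply Fb
    intro z
    rw [sub_mul, map_sub, sub_eq_zero]
    simp only [t, map_sum, Algebra.TensorProduct.lmul'_apply_tmul, Finset.sum_mul]
    conv_rhs => rw [trace_eq_sum b, LinearMap.sum_apply]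
    refine Finset.sum_congr rfl (fun i _ => ?_)
    rw [LinearMap.comp_apply, LinearMap.mulLeft_apply,
      show b i * (b₀ * z) = b₀ * (b i * z) by ring, hc]
    congr 1
    ring
  rw [mem_noetherDifferent_iff]
  refine ⟨((1 : B) ⊗ₜ[A] b₀) * t, Fc, ?_⟩
  rw [map_mul, Algebra.TensorProduct.lmul'_apply_tmul, one_mul, Fd]

end FiniteFree

/-- Special case: affine, with B finite free over the Noetherian ring A (the source allows flat
quasi-finite morphisms of Noetherian schemes); then the relative dualizing module is Hom_A(B, A) and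
the trace element is the usual trace. A prime q of B contains the different (the set of b with b
Hom_A(B, A) inside B Trace) if and only if A -> B is not unramified at q; for such maps unramified
and etale at q agree. -/
theorem result {A : Type u} {B : Type v} [CommRing A]
    [CommRing B] [Algebra A B] [IsNoetherianRing A] [Module.Finite A B] [Module.Free A B]
    (q : Ideal B) [q.IsPrime] :
    Disc.differentSet A B ⊆ q ↔ ¬Algebra.IsUnramifiedAt A q := by
  classical
  haveI : Algebra.FiniteType A B := inferInstance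
  constructor
  · intro hsub hunr
    have hq : (⟨q, inferInstance⟩ : PrimeSpectrum B) ∉ Module.support B Ω[B⁄A] := by
      have h0 : (⟨q, inferInstance⟩ : PrimeSpectrum B) ∈ Algebra.unramifiedLocus A B := hunr
      rw [Algebra.unramifiedLocus_eq_compl_support] at h0
      exact h0
    rw [Module.mem_support_iff_of_finite] at hq
    obtain ⟨f, hfann, hfq⟩ := SetLike.not_le_iff_exists.mp hq
    obtain ⟨n, hn⟩ := exists_pow_mem_noetherDifferent (A := A) f
      (fun m => Module.mem_annihilator.mp hfann m)
    have h1 := hsub (mem_differentSet_of_mem_noetherDifferent _ hn)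
    exact hfq (Ideal.IsPrime.mem_of_pow_mem inferInstance n h1)
  · intro hnot b₀ hb₀
    by_contra hbq
    apply hnot
    have h2 := sq_mem_noetherDifferent_of_mem_differentSet b₀ hb₀
    show (⟨q, inferInstance⟩ : PrimeSpectrum B) ∈ Algebra.unramifiedLocus A B
    rw [Algebra.unramifiedLocus_eq_compl_support, Set.mem_compl_iff, Module.notMem_support_iff']
    intro m
    exact ⟨b₀ ^ 2, fun h => hbq (Ideal.IsPrime.mem_of_pow_mem inferInstance 2 h),
      smul_eq_zero_of_mem_noetherDifferent _ h2 m⟩

end Groth.Agent.S2205
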