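import Groth.Statements.S2221
import Mathlib
import Groth.Agent.S2215
import Groth.Agent.S2205

set_option autoImplicit false
universe u
open Disc

namespace Groth.Agent.S2221

/-- Affine finite free case: let A be a Noetherian ring and B an A-algebra which is finite free as an
A-module, and suppose omega = Hom_A(B, A) is an invertible B-module. Then the different of B over A
(the b with b omega inside B Trace) equals the Noether different of B over A. -/
theorem result {A B : Type u} [CommRing A]
    [CommRing B] [Algebra A B] [IsNoetherianRing A] [Module.Finite A B] [Module.Free A B]
    [Module.Invertible B (Disc.Omega A B)] :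
    Disc.differentSet A B = (Disc.noetherDifferent A B : Set B) := by
  classical
  apply Set.Subset.antisymm
  · intro b₀ hb
    have hbij := Module.Invertible.bijective (R := B) (M := Disc.Omega A B)
    obtain ⟨z, hz⟩ := hbij.2 1
    have key : ∀ z : TensorProduct B (Module.Dual B (Disc.Omega A B)) (Disc.Omega A B),
        contractLeft B (Disc.Omega A B) z * b₀ ∈ Disc.noetherDifferent A B := by
      intro z
      induction z with
      | zero => simp
      | tmul Φ ψ =>
        rw [contractLeft_apply]
        obtain ⟨c, hc⟩ := hb ψ.toLinearMap
        have h1 : b₀ • ψ = c • Disc.Omega.trace A B := by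
          apply Disc.Omega.ext
          ext x
          rw [Disc.Omega.smul_toLinearMap_apply, Disc.Omega.smul_toLinearMap_apply, hc]
          rfl
        rw [mul_comm, ← smul_eq_mul, ← map_smul, h1, map_smul, smul_eq_mul]
        apply Ideal.mul_mem_left
        have h2 := Groth.Agent.S2215.result (A := A) (B := B)
        have h3 : Φ (Disc.Omega.trace A B) ∈ (Disc.noetherDifferent A B : Set B) := by
          rw [h2]
          exact ⟨Φ, rfl⟩
        exact h3
      | add x y hx hy =>
        rw [map_add, add_mul]
        exact add_mem hx hy
    have h4 := key z
    rwa [hz, one_mul] at h4
  · intro d hd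
    exact Groth.Agent.S2205.mem_differentSet_of_mem_noetherDifferent d hd

end Groth.Agent.S2221
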