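import Groth.Statements.S1156
import Mathlib

set_option autoImplicit false
universe u
open scoped TensorProduct
open Desc

namespace Groth.Agent.S1156

/-- Exactness of the extended Amitsur complex in degree 0 (injectivity in degree −1 being standard). Let
R → A be faithfully flat and M an R-module. An element x of A ⊗_R M with 1 ⊗ x = (a ⊗ m ↦ a ⊗ 1 ⊗
m)(x) in A ⊗_R A ⊗_R M lies in the image of m ↦ 1 ⊗ m. -/
theorem result (R A : Type u) [CommRing R] [CommRing A] [Algebra R A] [Module.FaithfullyFlat R A]
    (M : Type u) [AddCommGroup M] [Module R M] (x : A ⊗[R] M)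
    (hx : TensorProduct.mk R A (A ⊗[R] M) 1 x = LinearMap.lTensor A (TensorProduct.mk R A M 1) x) :
    x ∈ LinearMap.range (TensorProduct.mk R A M 1) := by
  -- the two maps
  let f : M →ₗ[R] A ⊗[R] M := TensorProduct.mk R A M 1
  let d : A ⊗[R] M →ₗ[R] A ⊗[R] (A ⊗[R] M) :=
    TensorProduct.mk R A (A ⊗[R] M) 1 - LinearMap.lTensor A (TensorProduct.mk R A M 1)
  -- contracting homotopies
  let s : ∀ (N : Type u) [AddCommGroup N] [Module R N], A ⊗[R] (A ⊗[R] N) →ₗ[R] A ⊗[R] N :=
    fun N _ _ => (LinearMap.rTensor N (LinearMap.mul' R A)) ∘ₗ
      (TensorProduct.assoc R A A N).symm.toLinearMap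
  have hs : ∀ y : A ⊗[R] (A ⊗[R] M),
      s (A ⊗[R] M) (LinearMap.lTensor A d y) = y - LinearMap.lTensor A f (s M y) := by
    intro y
    induction y using TensorProduct.induction_on with
    | zero => simp
    | add y z hy hz => simp only [map_add, hy, hz]; abel
    | tmul b z =>
      induction z using TensorProduct.induction_on with
      | zero => simp
      | add y z hy hz => simp only [TensorProduct.tmul_add, map_add, hy, hz]; abel
      | tmul a m =>
        simp [s, d, f]
  have hex : Function.Exact (LinearMap.lTensor A f) (LinearMap.lTensor A d) := by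
    intro y
    constructor
    · intro hy
      have := hs y
      rw [hy, map_zero] at this
      exact ⟨s M y, (sub_eq_zero.mp this.symm).symm⟩
    · rintro ⟨z, rfl⟩
      induction z using TensorProduct.induction_on with
      | zero => simp
      | add y z hy hz => simp only [map_add, hy, hz, add_zero]
      | tmul b m => simp [d, f]
  have hex' : Function.Exact f d := Module.FaithfullyFlat.lTensor_reflects_exact R A f d hex
  have hdx : d x = 0 := by
    simp only [d, LinearMap.sub_apply, sub_eq_zero]
    exact hx
  exact (hex' x).mp hdx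

end Groth.Agent.S1156
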