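import Groth.Statements.S13358
import Mathlib
import Groth.Agent.Lib.Helper86.Coc6

set_option autoImplicit false
universe u
open GaDual

namespace Groth.Agent.S13358

open Groth.Agent.Lib.Helper86.SymCoc

theorem result (p : ℕ) [Fact p.Prime] (R : Type u) [CommRing R] [CharP R p]
    (F : MvPolynomial (Fin 2) R) :
    (MvPolynomial.aeval ![MvPolynomial.X 1, MvPolynomial.X 0] F = F ∧
      MvPolynomial.aeval ![MvPolynomial.X 0, MvPolynomial.X 1 + MvPolynomial.X 2] F
          + MvPolynomial.aeval ![MvPolynomial.X 1, MvPolynomial.X 2] F
          - MvPolynomial.aeval ![MvPolynomial.X 0 + MvPolynomial.X 1, MvPolynomial.X 2] F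
          - MvPolynomial.aeval ![MvPolynomial.X 0, MvPolynomial.X 1] F = (0 : MvPolynomial (Fin 3) R)) ↔
      ∃ (G : Polynomial R) (N : ℕ) (r : ℕ → R),
        F = Polynomial.aeval (MvPolynomial.X 0 + MvPolynomial.X 1 : MvPolynomial (Fin 2) R) G
              - Polynomial.aeval (MvPolynomial.X 0 : MvPolynomial (Fin 2) R) G
              - Polynomial.aeval (MvPolynomial.X 1 : MvPolynomial (Fin 2) R) G
            + ∑ i ∈ Finset.range N, MvPolynomial.C (r i) *
                MvPolynomial.aeval ![MvPolynomial.X 0 ^ p ^ i, MvPolynomial.X 1 ^ p ^ i]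
                  (∑ j ∈ Finset.Ioo 0 p, MvPolynomial.C ((p.choose j / p : ℕ) : R) *
                    MvPolynomial.X 0 ^ j * MvPolynomial.X 1 ^ (p - j) : MvPolynomial (Fin 2) R) := by
  classical
  have hp1 := (Fact.out : p.Prime).one_lt
  constructor
  · rintro ⟨hsym, hcoc⟩
    have hIs : IsCoc (cf F) := (isCoc_iff F).mp ⟨hsym, hcoc⟩
    set d := F.support.sup (fun s => s 0 + s 1) with hd
    have hbound : ∀ i j, d < i + j → cf F i j = 0 := by
      intro i j hij
      by_contra hne
      have hmem : e2 i j ∈ F.support := MvPolynomial.mem_support_iff.mpr hne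
      have := Finset.le_sup (f := fun s : Fin 2 →₀ ℕ => s 0 + s 1) hmem
      simp only [e2_zero, e2_one] at this
      omega
    have hst := fun n (hn : 1 ≤ n) => structure_thm p n hn (cf F) hIs
    choose! g ρ hgρ using hst
    let γ : ℕ → R := fun n => if n = 0 then -(cf F 0 0) else g n
    let G : Polynomial R := ∑ n ∈ Finset.range (d + 1), Polynomial.C (γ n) * Polynomial.X ^ n
    have hGc : ∀ n, G.coeff n = if n ≤ d then γ n else 0 := by
      intro n
      simp only [G, Polynomial.finsetSum_coeff, Polynomial.coeff_C_mul_X_pow]
      rw [Finset.sum_ite_eq]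
      simp only [Finset.mem_range, Nat.lt_succ_iff]
    let r : ℕ → R := fun k => if p ^ (k + 1) ≤ d then ρ (p ^ (k + 1)) else 0
    refine ⟨G, d + 1, r, ?_⟩
    show F = delta G + ∑ i ∈ Finset.range (d + 1), MvPolynomial.C (r i) * Sk R p i
    ext s
    rw [← e2_eta s]
    generalize s 0 = i
    generalize s 1 = j
    rw [MvPolynomial.coeff_add, MvPolynomial.coeff_sum]
    simp only [MvPolynomial.coeff_C_mul]
    change cf F i j = cf (delta G) i j + ∑ k ∈ Finset.range (d + 1), r k * cf (Sk R p k) i j
    rw [cf_delta]
    simp only [cf_Sk, hGc]
    rcases Nat.eq_zero_or_pos (i + j) with h0 | hpos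
    · -- degree zero
      have hi : i = 0 := by omega
      have hj : j = 0 := by omega
      subst hi hj
      simp only [sig_zero_left, mul_zero, Finset.sum_const_zero, add_zero, Nat.choose_self,
        Nat.cast_one, one_mul, Nat.zero_le, if_true, γ]
      ring
    · by_cases hle : i + j ≤ d
      · -- degree between 1 and d
        have hmain := hgρ (i + j) hpos i j rfl
        have hγ : γ (i + j) = g (i + j) := if_neg (by omega)
        have hS : ∑ k ∈ Finset.range (d + 1), r k * sig R p k i j =
            ρ (i + j) * tau R p (i + j) i j := by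
          have h1 : ∀ k ∈ Finset.range (d + 1), r k * sig R p k i j = ρ (i + j) * sig R p k i j := by
            intro k _
            by_cases hk : i + j = p ^ (k + 1)
            · simp only [r]
              rw [if_pos (by omega), ← hk]
            · rw [sig_eq_zero_of_sum_ne R p hk, mul_zero, mul_zero]
          rw [Finset.sum_congr rfl h1, ← Finset.mul_sum, sum_sig_range R p (by omega : i + j ≤ d + 1)]
          rfl
        rw [hS, hmain, if_pos hle, hγ]
        by_cases hi : i = 0
        · subst hi
          have hj : j ≠ 0 := by omega
          simp only [zero_add] at hle hγ ⊢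
          simp [dc, hle, hj, hγ]
        · by_cases hj : j = 0
          · subst hj
            simp only [add_zero] at hle hγ ⊢
            simp [dc, hle, hi, hγ]
          · rw [dc, if_neg (by tauto), if_neg hj, if_neg hi]
            ring
      · -- degree above d
        rw [hbound i j (by omega), if_neg hle]
        have hS : ∑ k ∈ Finset.range (d + 1), r k * sig R p k i j = 0 := by
          apply Finset.sum_eq_zero
          intro k _
          by_cases hk : i + j = p ^ (k + 1)
          · simp only [r]
            rw [if_neg (by omega), zero_mul]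
          · rw [sig_eq_zero_of_sum_ne R p hk, mul_zero]
        rw [hS]
        by_cases hi : i = 0
        · subst hi
          have hj : j ≠ 0 := by omega
          simp only [zero_add] at hle
          simp [hle, hj]
        · by_cases hj : j = 0
          · subst hj
            simp only [add_zero] at hle
            simp [hle, hi]
          · simp [hi, hj]
  · rintro ⟨G, N, r, hF⟩
    have hF' : F = delta G + ∑ i ∈ Finset.range N, MvPolynomial.C (r i) * Sk R p i := hF
    constructor
    · rw [hF']
      simp only [map_add, map_sum, map_mul, MvPolynomial.aeval_C, swap_delta, swap_Sk]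
      rfl
    · show Dc F = 0
      rw [hF', ← DcLin_apply, map_add, map_sum, DcLin_apply, Dc_delta, zero_add]
      apply Finset.sum_eq_zero
      intro k _
      rw [MvPolynomial.C_mul', map_smul, DcLin_apply, Dc_Sk, smul_zero]

end Groth.Agent.S13358
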