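import Groth.Statements.S2087
import Groth.Agent.Lib.Helper6.FlatDescent

set_option autoImplicit false
universe u
open CategoryTheory
attribute [local instance] HasDerivedCategory.standard
open CAlg

namespace Groth.Agent.S2087

/-- `m`-pseudo-coherence of a complex of `R`-modules may be checked after base change to each `R_{f_i}`
for finitely many `f_i` generating the unit ideal (the base change is taken termwise on a chosen
complex, which is the derived base change since `R → R_{f_i}` is flat). -/
theorem result {R : Type u} [CommRing R] {r : ℕ} (f : Fin r → R)
    (hf : Ideal.span (Set.range f) = ⊤) (K : DRing.Cx R) (m : ℤ)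
    (hK : ∀ i, DRing.IsPseudoCoherent (Localization.Away (f i)) m
      (DRing.toD (((ModuleCat.extendScalars (algebraMap R (Localization.Away (f i)))).mapHomologicalComplex
        (ComplexShape.up ℤ)).obj K))) :
    DRing.IsPseudoCoherent R m (DRing.toD K) := by
  have H : Lib.Helper6.PCDescent.Hyp (fun i : Fin r => Localization.Away (f i))
      (fun i => Lib.Helper35.FlatBC.G R (Localization.Away (f i))) := by
    refine Lib.Helper6.PCDescent.hyp_of_flat (fun i : Fin r => Localization.Away (f i)) ?_ ?_
    · intro M h
      refine ⟨fun x y => ?_⟩
      refine Module.eq_of_isLocalized_span (Set.range f) hf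
        (fun g : Set.range f => TensorProduct R (Localization.Away g.1) M)
        (fun g : Set.range f => TensorProduct.mk R (Localization.Away g.1) M 1) x y ?_
      rintro ⟨_, i, rfl⟩
      have := h i
      exact Subsingleton.elim _ _
    · intro M h
      refine Module.Finite.of_localizationSpan' (Set.range f) hf
        (Rₚ := fun g : Set.range f => Localization.Away g.1)
        (Mₚ := fun g : Set.range f => TensorProduct R (Localization.Away g.1) M)
        (fun g : Set.range f => TensorProduct.mk R (Localization.Away g.1) M 1) ?_
      rintro ⟨_, i, rfl⟩
      exact h i
  exact Lib.Helper6.PCDescent.descent H (DRing.toD K) m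
    (fun i => Lib.Helper6.MPC.isPC_of_iso
      (Lib.Helper35.FlatBC.GQIso (Localization.Away (f i)) K).symm (hK i))

end Groth.Agent.S2087
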