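import Groth.Statements.S9055
import Groth.Agent.Lib.Helper5.TensorAssoc
import Groth.Agent.Lib.Helper5.LTensorCompute

set_option autoImplicit false
universe u
open CategoryTheory CategoryTheory.Limits Opposite
attribute [local instance] HasDerivedCategory.standard
open ModSite


namespace Groth.Agent.S9055

open Groth.Agent.Lib.Helper5.TensorAssoc Groth.Agent.Lib.Helper5.LTensorCompute
  Groth.Agent.Lib.Helper28 Groth.Agent.Lib.Helper30.ModTensorAdj HomologicalComplex

variable {C : Type u} [SmallCategory C] {J : GrothendieckTopology C} (O : Sheaf J CommRingCat.{u})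

/-- the associator for total tensor complexes on a ringed site. -/
noncomputable def totAssoc (F K L : CochainComplex (ModSite.Mod O) ℤ) :
    mapBifunctor (mapBifunctor F K (ModSite.tensorBi O) (ComplexShape.up ℤ)) L (ModSite.tensorBi O)
        (ComplexShape.up ℤ) ≅
      mapBifunctor F (mapBifunctor K L (ModSite.tensorBi O) (ComplexShape.up ℤ)) (ModSite.tensorBi O)
        (ComplexShape.up ℤ) :=
  mapBifunctorAssociator (associator O) F K L (ComplexShape.up ℤ) (ComplexShape.up ℤ)
    (ComplexShape.up ℤ)

theorem isKFlat_tensor (K L : CochainComplex (ModSite.Mod O) ℤ)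
    (hK : BiK.KFlatR (ModSite.tensorBi O) K) (hL : BiK.KFlatR (ModSite.tensorBi O) L) :
    BiK.KFlatR (ModSite.tensorBi O)
      (mapBifunctor K L (ModSite.tensorBi O) (ComplexShape.up ℤ)) := by
  intro F hF
  have h1 := hL _ (hK F hF)
  intro n
  exact (h1 n).of_iso (totAssoc O F K L)

end Groth.Agent.S9055

namespace Groth.Agent.S9055

/-- On a ringed site (C, O), if K and L are both K-flat complexes of O-modules, so is the total complex
Tot(K ⊗_O L). -/
theorem result
    {C : Type u} [SmallCategory C] {J : GrothendieckTopology C} (O : Sheaf J CommRingCat.{u})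
    (K L : CochainComplex (ModSite.Mod O) ℤ) (hK : ModSite.IsKFlat K) (hL : ModSite.IsKFlat L) :
    ModSite.IsKFlat (((ModSite.tensorCx O).obj K).obj L) := by
  rw [Groth.Agent.Lib.Helper5.LTensorCompute.isKFlat_iff] at hK hL ⊢
  exact Groth.Agent.S9055.isKFlat_tensor O K L hK hL

end Groth.Agent.S9055
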