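import Groth.Statements.S5602

set_option autoImplicit false
universe w v u
open CategoryTheory CategoryTheory.Limits
open PCoh

namespace Groth.Agent.S5602

variable {C : Type u} [Category.{v} C] [Abelian C]

/-- objects of the auxiliary ℕ-indexed complex `0 → Zⁿ → Eⁿ → Eⁿ⁺¹ → ⋯` -/
noncomputable def KX (E : CochainComplex C ℤ) (n : ℤ) : ℕ → C
  | 0 => E.cycles n
  | (i + 1) => E.X (n + (i : ℤ))

noncomputable def Kd (E : CochainComplex C ℤ) (n : ℤ) : ∀ i : ℕ, KX E n i ⟶ KX E n (i + 1)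
  | 0 => E.iCycles n ≫ (E.XIsoOfEq (show n = n + ((0 : ℕ) : ℤ) by simp)).hom
  | (i + 1) => E.d (n + (i : ℤ)) (n + ((i + 1 : ℕ) : ℤ))

lemma Kd_sq (E : CochainComplex C ℤ) (n : ℤ) : ∀ i : ℕ, Kd E n i ≫ Kd E n (i + 1) = 0
  | 0 => by
    change (E.iCycles n ≫ (E.XIsoOfEq _).hom) ≫ E.d _ _ = 0
    rw [Category.assoc, HomologicalComplex.XIsoOfEq_hom_comp_d, HomologicalComplex.iCycles_d]
  | (i + 1) => by
    change E.d _ _ ≫ E.d _ _ = 0
    exact E.d_comp_d _ _ _

noncomputable def K (E : CochainComplex C ℤ) (n : ℤ) : CochainComplex C ℕ :=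
  CochainComplex.of (KX E n) (Kd E n) (Kd_sq E n)

lemma K_d (E : CochainComplex C ℤ) (n : ℤ) (i : ℕ) : (K E n).d i (i + 1) = Kd E n i :=
  CochainComplex.of_d _ _ _

lemma K_exactAt_zero (E : CochainComplex C ℤ) (n : ℤ) : (K E n).ExactAt 0 := by
  rw [HomologicalComplex.exactAt_iff' _ 0 0 1 CochainComplex.prev_nat_zero (by simp)]
  rw [ShortComplex.exact_iff_mono _ ((K E n).shape 0 0 (by simp))]
  change Mono ((K E n).d 0 1)
  rw [K_d]
  change Mono (E.iCycles n ≫ (E.XIsoOfEq _).hom)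
  infer_instance

lemma K_exactAt_one (E : CochainComplex C ℤ) (n : ℤ) : (K E n).ExactAt 1 := by
  rw [HomologicalComplex.exactAt_iff' _ 0 1 2 (CochainComplex.prev_nat_succ 0) (by simp)]
  have h1 : (K E n).d 0 1 = E.iCycles n ≫ (E.XIsoOfEq (show n = n + ((0 : ℕ) : ℤ) by simp)).hom :=
    K_d E n 0
  have h2 : (K E n).d 1 2 = E.d (n + ((0 : ℕ) : ℤ)) (n + ((0 + 1 : ℕ) : ℤ)) := K_d E n 1
  let S : ShortComplex C := ShortComplex.mk (E.iCycles n) (E.d n (n + 1)) (by simp)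
  have hS : S.Exact := ShortComplex.exact_of_f_is_kernel _ (E.cyclesIsKernel n (n + 1) (by simp))
  refine (ShortComplex.exact_iff_of_iso ?_).mp hS
  refine ShortComplex.isoMk (Iso.refl _) (E.XIsoOfEq (show n = n + ((0 : ℕ) : ℤ) by simp))
    (E.XIsoOfEq (show n + 1 = n + ((0 + 1 : ℕ) : ℤ) by simp)) ?_ ?_
  · change 𝟙 _ ≫ (K E n).d 0 1 = E.iCycles n ≫ (E.XIsoOfEq _).hom
    rw [h1, Category.id_comp]
  · change (E.XIsoOfEq _).hom ≫ (K E n).d 1 2 = E.d n (n + 1) ≫ (E.XIsoOfEq _).hom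
    rw [h2]
    exact (HomologicalComplex.XIsoOfEq_hom_comp_d _ _ _).trans
      (HomologicalComplex.d_comp_XIsoOfEq_hom _ _ _).symm

lemma K_exactAt_succ_succ (E : CochainComplex C ℤ) (n : ℤ) (i : ℕ)
    (h : E.ExactAt (n + ((i + 1 : ℕ) : ℤ))) : (K E n).ExactAt (i + 2) := by
  rw [HomologicalComplex.exactAt_iff' _ (i + 1) (i + 2) (i + 3) (CochainComplex.prev_nat_succ (i + 1)) (by simp)]
  rw [HomologicalComplex.exactAt_iff' _ (n + (i : ℤ)) (n + ((i + 1 : ℕ) : ℤ)) (n + ((i + 1 + 1 : ℕ) : ℤ))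
    (by simp; omega) (by simp; omega)] at h
  have h1 : (K E n).d (i + 1) (i + 2) = E.d (n + (i : ℤ)) (n + ((i + 1 : ℕ) : ℤ)) := K_d E n (i + 1)
  have h2 : (K E n).d (i + 2) (i + 3) = E.d (n + ((i + 1 : ℕ) : ℤ)) (n + ((i + 1 + 1 : ℕ) : ℤ)) :=
    K_d E n (i + 2)
  refine (ShortComplex.exact_iff_of_iso ?_).mp h
  refine ShortComplex.isoMk (Iso.refl _) (Iso.refl _) (Iso.refl _) ?_ ?_
  · change 𝟙 _ ≫ (K E n).d (i + 1) (i + 2) = E.d _ _ ≫ 𝟙 _
    rw [h1, Category.id_comp, Category.comp_id]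
  · change 𝟙 _ ≫ (K E n).d (i + 2) (i + 3) = E.d _ _ ≫ 𝟙 _
    rw [h2, Category.id_comp, Category.comp_id]

/-- Let C be an abelian category and C₀ a class of objects, closed under isomorphisms and quasi-stable
under kernels of epimorphisms. If E is strictly n-pseudo-coherent (bounded above, terms in C₀ from
degree n on) and H^i(E) = 0 for i > n, then H^n(E) is of C₀-finite type. -/
theorem result {C : Type u} [Category.{v} C] [Abelian C]
    (P : ObjectProperty C) [P.IsClosedUnderIsomorphisms] (hqs : PCoh.IsQuasiStableUnderKernels P)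
    (n : ℤ) (E : CochainComplex C ℤ) (hE : PCoh.IsStrictPC P n E)
    (hac : ∀ i : ℤ, n < i → IsZero (E.homology i)) :
    PCoh.IsOfFiniteType P (E.homology n) := by
  obtain ⟨⟨b, hb⟩, hP⟩ := hE
  have hK : PCoh.IsOfFiniteType P ((K E n).X 0) := by
    apply hqs
    · intro i
      match i with
      | 0 => exact K_exactAt_zero E n
      | 1 => exact K_exactAt_one E n
      | (i + 2) =>
        apply K_exactAt_succ_succ
        rw [HomologicalComplex.exactAt_iff_isZero_homology]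
        apply hac
        push_cast
        omega
    · refine ⟨(b - n).toNat + 1, fun i hi => ?_⟩
      match i with
      | 0 => omega
      | (i + 1) =>
        change IsZero (E.X (n + (i : ℤ)))
        apply hb
        omega
    · intro i hi
      match i with
      | 0 => omega
      | (i + 1) =>
        change P (E.X (n + (i : ℤ)))
        apply hP
        omega
  obtain ⟨E₀, π, hE₀, hπ⟩ := hK
  let π' : E₀ ⟶ E.cycles n := π
  have hπ' : Epi π' := hπ
  exact ⟨E₀, π' ≫ E.homologyπ n, hE₀, epi_comp π' (E.homologyπ n)⟩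

end Groth.Agent.S5602
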