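import Groth.Statements.S6518
import Mathlib
import Groth.Agent.Lib.Helper30.SinglePC

set_option autoImplicit false
universe u
open CategoryTheory
attribute [local instance] HasDerivedCategory.standard
open DCoh

namespace Groth.Agent.S6518

open Limits AlgebraicGeometry
open Groth.Agent.Lib.Helper30.PerfRestrict Groth.Agent.Lib.Helper30.PCTriangle
open Groth.Agent.Lib.Helper30.PCSummand Groth.Agent.Lib.Helper30.SinglePC
open Groth.Agent.Lib.Helper49

/-- a finite type module placed in degree `0` is `0`-pseudo-coherent -/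
theorem isPseudoCoherentD_zero_of_isFT {X : Scheme.{u}} (F : X.Modules) (hF : CohB1.IsFT F) :
    DCoh.IsPseudoCoherentD 0 (DCoh.inD X F) := by
  rw [isPseudoCoherentD_iff]
  intro x
  obtain ⟨ι, U, hU, hG⟩ := exists_cover_of_isFiniteType F hF
  have hx : x ∈ (⨆ i, U i : X.Opens) := by rw [hU]; trivial
  obtain ⟨i, hi⟩ := TopologicalSpace.Opens.mem_iSup.mp hx
  obtain ⟨G, hGf⟩ := hG i
  have : Finite G.I := hGf.finite
  have hepi : Epi (C := (U i : Scheme.{u}).Modules) G.π := G.epi
  exact ⟨U i, hi, PCObj.of_iso (restrictSingleIso (U i).ι F).symm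
    (@pcObj_single_of_epi _ _ _ G.π hepi (isFinLocFree_free G.I))⟩

/-- a finitely presented module placed in degree `0` is `(-1)`-pseudo-coherent -/
theorem isPseudoCoherentD_neg_one_of_isFP {X : Scheme.{u}} (F : X.Modules) (hF : CohB1.IsFP F) :
    DCoh.IsPseudoCoherentD (-1) (DCoh.inD X F) := by
  apply isPseudoCoherentD_of_forall_restrict
  intro x
  obtain ⟨ι, U, hU, hP⟩ := exists_cover_of_isFinitePresentation F hF
  have hx : x ∈ (⨆ i, U i : X.Opens) := by rw [hU]; trivial
  obtain ⟨i, hi⟩ := TopologicalSpace.Opens.mem_iSup.mp hx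
  obtain ⟨P, hPf⟩ := hP i
  refine ⟨U i, hi, isPseudoCoherentD_of_iso (restrictSingleIso (U i).ι F).symm (-1) ?_⟩
  have : Finite P.generators.I := hPf.isFiniteType_generators.finite
  have hK := @isFiniteType_of_generatingSections _ _ P.relations hPf.isFiniteType_relations
  have hepi : Epi (C := (U i : Scheme.{u}).Modules) P.generators.π := P.generators.epi
  let S : ShortComplex (U i : Scheme.{u}).Modules :=
    ShortComplex.mk (kernel.ι P.generators.π) P.generators.π (kernel.condition P.generators.π)
  have hS : S.ShortExact :=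
    { exact := ShortComplex.exact_of_f_is_kernel _ (kernelIsKernel _)
      mono_f := inferInstanceAs (Mono (kernel.ι P.generators.π))
      epi_g := hepi }
  have h1 : DCoh.IsPseudoCoherentD (-1 + 1) hS.singleTriangle.obj₁ :=
    isPseudoCoherentD_zero_of_isFT _ hK
  have h2 : DCoh.IsPseudoCoherentD (-1) hS.singleTriangle.obj₂ :=
    isPseudoCoherentD_of_pcObj ((perfObj_single _ (isFinLocFree_free P.generators.I)).pcObj (-1))
  exact isPseudoCoherentD_obj₃ _ hS.singleTriangle_distinguished (-1) h1 h2

open AlgebraicGeometry in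
/-- Let X be a scheme and F an O_X-module, viewed as an object of D(O_X) placed in degree 0. Then (1)
finite type of the O_X-module F is equivalent to F being 0-pseudo-coherent, and (2) F admits a
finite presentation as an O_X-module exactly when it is (−1)-pseudo-coherent. (The published
statement is for ringed spaces; this row is for schemes.) -/
theorem result {X : Scheme.{u}} (F : X.Modules) :
    (DCoh.IsPseudoCoherentD 0 (DCoh.inD X F) ↔ CohB1.IsFT F) ∧
    (DCoh.IsPseudoCoherentD (-1) (DCoh.inD X F) ↔ CohB1.IsFP F) := by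
  refine ⟨⟨fun h => ?_, isPseudoCoherentD_zero_of_isFT F⟩,
    ⟨fun h => ?_, isPseudoCoherentD_neg_one_of_isFP F⟩⟩
  · rw [isPseudoCoherentD_iff] at h
    choose V hxV hV using h
    exact isFiniteType_of_forall_restrict F (fun x : X => (V x : Scheme.{u})) (fun x => (V x).ι)
      (fun x => ⟨x, ⟨⟨x, hxV x⟩, rfl⟩⟩)
      (fun x => isFT_of_pcObj (PCObj.of_iso (restrictSingleIso (V x).ι F) (hV x)))
  · rw [isPseudoCoherentD_iff] at h
    apply isFP_of_forall_restrict
    intro x
    obtain ⟨V, hxV, hV⟩ := h x
    exact ⟨V, hxV, isFP_of_pcObj (PCObj.of_iso (restrictSingleIso V.ι F) hV)⟩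

end Groth.Agent.S6518
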