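import Groth.Statements.S6329
import Mathlib
import Groth.Agent.Lib.Helper79.LocLength
-- import your own Groth.Agent.* helpers here

set_option autoImplicit false
universe u
open CAlg

namespace Groth.Agent.S6329

/-- Let R be a ring, M an R-module and 0 = M₀ ⊂ M₁ ⊂ … ⊂ Mₙ = M a maximal chain of submodules (a
composition series; each Mᵢ/Mᵢ₋₁ is simple, of the form R/mᵢ with mᵢ = (Mᵢ₋₁ : Mᵢ) maximal). Then
for every maximal ideal m of R the number of indices i with mᵢ = m equals length_{R_m}(M_m). -/
theorem result {R : Type u} [CommRing R] (M : Type u) [AddCommGroup M] [Module R M] (s : CompositionSeries (Submodule R M)) (h0 : s.head = ⊥) (h1 : s.last = ⊤) (m : Ideal R) [m.IsMaximal] : ((Finset.univ.filter fun i : Fin s.length => (s i.castSucc).colon (s i.succ : Set M) = m).card : ℕ∞) = Module.length (Localization.AtPrime m) (LocalizedModule m.primeCompl M) := by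
  classical
  let g : Fin (s.length + 1) → ℕ∞ := fun i =>
    Module.length (Localization.AtPrime m) (LocalizedModule m.primeCompl (s i))
  let d : Fin s.length → ℕ∞ := fun i =>
    if (s i.castSucc).colon (s i.succ : Set M) = m then 1 else 0
  have hstep : ∀ j, g j.succ = g j.castSucc + d j := fun j =>
    Groth.Agent.Lib.Helper79.LocLength.length_localized_covBy m (s.step j)
  have htel := Groth.Agent.Lib.Helper79.LocLength.telescope s.length g d hstep
  have h0' : g 0 = 0 := by
    have e0 : s 0 = ⊥ := h0
    show Module.length _ (LocalizedModule _ (s 0)) = 0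
    rw [e0]
    exact Module.length_eq_zero
  have hlast : g (Fin.last _) =
      Module.length (Localization.AtPrime m) (LocalizedModule m.primeCompl M) := by
    have e1 : s (Fin.last _) = ⊤ := h1
    show Module.length _ (LocalizedModule _ (s (Fin.last _))) = _
    rw [e1]
    exact (IsLocalizedModule.mapEquiv m.primeCompl (LocalizedModule.mkLinearMap _ _)
      (LocalizedModule.mkLinearMap _ _) (Localization.AtPrime m) Submodule.topEquiv).length_eq
  rw [← hlast, htel, h0', zero_add, Finset.sum_boole]

end Groth.Agent.S6329
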