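import Groth.Statements.S6320
import Mathlib
import Groth.Agent.Lib.Helper79.LocLength
import Groth.Agent.S6329
-- import your own Groth.Agent.* helpers here

set_option autoImplicit false
universe u
open CAlg

namespace Groth.Agent.S6320

/-- Let A be a local ring with maximal ideal m, B a semi-local ring with maximal ideals m₁, …, mₙ and A
→ B a ring map such that each mᵢ lies over m with [κ(mᵢ) : κ(m)] finite. Then for every B-module M
of finite length, length_A(M) = Σᵢ [κ(mᵢ) : κ(m)] · length_{B_{mᵢ}}(M_{mᵢ}); in particular
length_A(M) is finite. -/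
theorem result {A B : Type u} [CommRing A] [IsLocalRing A] [CommRing B] [Algebra A B] [Finite (MaximalSpectrum B)] (hover : ∀ n : MaximalSpectrum B, n.asIdeal.comap (algebraMap A B) = IsLocalRing.maximalIdeal A) (hfin : ∀ n : MaximalSpectrum B, Module.Finite (A ⧸ n.asIdeal.comap (algebraMap A B)) (B ⧸ n.asIdeal)) (M : Type u) [AddCommGroup M] [Module B M] [Module A M] [IsScalarTower A B M] (hM : IsFiniteLength B M) : Module.length A M = ∑ᶠ n : MaximalSpectrum B, (Module.finrank (A ⧸ n.asIdeal.comap (algebraMap A B)) (B ⧸ n.asIdeal) : ℕ∞) * Module.length (Localization.AtPrime n.asIdeal) (LocalizedModule n.asIdeal.primeCompl M) := by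
  classical
  obtain ⟨s, h0, h1⟩ := isFiniteLength_iff_exists_compositionSeries.mp hM
  have hmaxp : ∀ n : MaximalSpectrum B, (n.asIdeal.comap (algebraMap A B)).IsMaximal := fun n => by
    rw [hover n]; exact IsLocalRing.maximalIdeal.isMaximal A
  have hsimple : ∀ i : Fin s.length, IsSimpleModule B
      ((s i.succ) ⧸ Submodule.comap (s i.succ).subtype (s i.castSucc)) := fun i =>
    (covBy_iff_quot_is_simple (s.step i).le).mp (s.step i)
  have hann : ∀ i : Fin s.length, Module.annihilator B
      ((s i.succ) ⧸ Submodule.comap (s i.succ).subtype (s i.castSucc)) =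
        (s i.castSucc).colon (s i.succ : Set M) := fun i =>
    Groth.Agent.Lib.Helper79.LocLength.annihilator_quot_eq_colon _ _
  have hcmax : ∀ i : Fin s.length, ((s i.castSucc).colon (s i.succ : Set M)).IsMaximal := fun i => by
    rw [← hann i]
    haveI := hsimple i
    exact IsSimpleModule.annihilator_isMaximal
  let ν : Fin s.length → MaximalSpectrum B := fun i => ⟨_, hcmax i⟩
  let F : MaximalSpectrum B → ℕ∞ := fun n =>
    (Module.finrank (A ⧸ n.asIdeal.comap (algebraMap A B)) (B ⧸ n.asIdeal) : ℕ∞)
  have hL : Module.length A M = ∑ i, F (ν i) := by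
    let g : Fin (s.length + 1) → ℕ∞ := fun i => Module.length A (s i)
    have hstep : ∀ j, g j.succ = g j.castSucc + F (ν j) := fun j => by
      show Module.length A (s j.succ) = Module.length A (s j.castSucc) + _
      rw [Groth.Agent.Lib.Helper79.LocLength.length_covBy_of_tower (A := A) (s.step j)]
      congr 1
      haveI := hsimple j
      haveI := hmaxp (ν j)
      haveI := hfin (ν j)
      exact Groth.Agent.Lib.Helper79.LocLength.length_simple_of_tower _ (ν j).asIdeal (hann j)
    have htel := Groth.Agent.Lib.Helper79.LocLength.telescope s.length g (fun j => F (ν j)) hstep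
    have hg0 : g 0 = 0 := by
      show Module.length A (s 0) = 0
      rw [show s 0 = ⊥ from h0]
      exact Module.length_eq_zero
    have hgl : g (Fin.last _) = Module.length A M := by
      show Module.length A (s (Fin.last _)) = _
      rw [show s (Fin.last _) = ⊤ from h1]
      exact ((Submodule.topEquiv : _ ≃ₗ[B] M).restrictScalars A).length_eq
    rw [← hgl, htel, hg0, zero_add]
  have hR : ∀ n : MaximalSpectrum B,
      Module.length (Localization.AtPrime n.asIdeal) (LocalizedModule n.asIdeal.primeCompl M) =
        ((Finset.univ.filter fun i => ν i = n).card : ℕ∞) := fun n => by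
    haveI := n.isMaximal
    rw [← Groth.Agent.S6329.result M s h0 h1 n.asIdeal]
    congr 2
    ext i
    simp [MaximalSpectrum.ext_iff, ν]
  haveI := Fintype.ofFinite (MaximalSpectrum B)
  rw [hL, finsum_eq_sum_of_fintype]
  simp_rw [hR]
  calc ∑ i, F (ν i) = ∑ i, ∑ n, (if ν i = n then F n else 0) := by
        refine Finset.sum_congr rfl fun i _ => ?_
        rw [Finset.sum_ite_eq]
        simp
    _ = ∑ n, ∑ i, (if ν i = n then F n else 0) := Finset.sum_comm
    _ = ∑ n, F n * ((Finset.univ.filter fun i => ν i = n).card : ℕ∞) := by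
        refine Finset.sum_congr rfl fun n _ => ?_
        rw [← Finset.sum_filter, Finset.sum_const, nsmul_eq_mul, mul_comm]

end Groth.Agent.S6320
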