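import Groth.Statements.S0648
import Groth.Agent.Lib.Helper26.ExtZeroExact

set_option autoImplicit false
open CategoryTheory CategoryTheory.Limits AlgebraicGeometry Opposite
universe u
open EtCore

namespace Groth.Agent.S0648

/-- For an etale morphism j : U -> X the extension by zero functor j_! on abelian sheaves preserves
finite limits (it is a left adjoint, so it is then exact). (Continuity of the composition functor of
etale sites, which always holds, is carried as an instance hypothesis.) -/
theorem result {U X : Scheme.{u}} (j : U ⟶ X) [AlgebraicGeometry.Etale j] [EtShriek.JCont j] :
    PreservesFiniteLimits (EtShriek.extZero j) := by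
  have hlan := Groth.Agent.Lib.Helper26.ExtZeroExact.preservesFiniteLimits_lan j
  have e := Functor.sheafPullbackConstruction.sheafPullbackIso (EtShriek.compEtale j)
    AddCommGrpCat.{u + 1} U.smallEtaleTopology X.smallEtaleTopology
  have h1 : PreservesFiniteLimits (Functor.sheafPullbackConstruction.sheafPullback
      (EtShriek.compEtale j) AddCommGrpCat.{u + 1} U.smallEtaleTopology X.smallEtaleTopology) := by
    unfold Functor.sheafPullbackConstruction.sheafPullback
    have : PreservesFiniteLimits ((EtShriek.compEtale j).op.lan ⋙
        presheafToSheaf X.smallEtaleTopology AddCommGrpCat.{u + 1}) :=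
      comp_preservesFiniteLimits _ _
    apply comp_preservesFiniteLimits
  exact preservesFiniteLimits_of_natIso e.symm

end Groth.Agent.S0648
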