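import Groth.Statements.S7560
import Groth.Agent.Lib.Helper38.Strat

set_option autoImplicit false
universe u
open ConstrTop

namespace Groth.Agent.S7560

open Groth.Agent.Lib.Helper38 Set Topology

/-- A constructible set is determined by the "types" of its points with respect to a finite family of
retrocompact opens. -/
theorem exists_family_of_isConstructible {X : Type u} [TopologicalSpace X] {s : Set X}
    (hs : IsConstructible s) :
    ∃ (ι : Type) (_ : Fintype ι) (U : ι → Set X), (∀ l, IsOpen (U l) ∧ IsRetrocompact (U l)) ∧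
      ∃ q : Set ι → Prop, s = {x | q (typeOf U x)} := by
  induction hs using IsConstructible.empty_union_induction with
  | open_retrocompact U hUo hUr =>
    refine ⟨Unit, inferInstance, fun _ => U, fun _ => ⟨hUo, hUr⟩, fun A => () ∈ A, ?_⟩
    ext x
    simp [typeOf]
  | union s hs t ht hs' ht' =>
    obtain ⟨ι₁, _, U₁, hU₁, q₁, rfl⟩ := hs'
    obtain ⟨ι₂, _, U₂, hU₂, q₂, rfl⟩ := ht'
    refine ⟨ι₁ ⊕ ι₂, inferInstance, Sum.elim U₁ U₂, ?_,
      fun A => q₁ (Sum.inl ⁻¹' A) ∨ q₂ (Sum.inr ⁻¹' A), ?_⟩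
    · rintro (l | l)
      · exact hU₁ l
      · exact hU₂ l
    · ext x
      have h1 : Sum.inl ⁻¹' typeOf (Sum.elim U₁ U₂) x = typeOf U₁ x := rfl
      have h2 : Sum.inr ⁻¹' typeOf (Sum.elim U₁ U₂) x = typeOf U₂ x := rfl
      simp only [mem_union, mem_ofPred_eq, h1, h2]
  | compl s hs hs' =>
    obtain ⟨ι, _, U, hU, q, rfl⟩ := hs'
    exact ⟨ι, inferInstance, U, hU, fun A => ¬ q A, rfl⟩

/-- Let X be a topological space written as a finite union X = T_1 ∪ … ∪ T_n of constructible subsets.
Then there is a finite stratification X = ∐ S_i (pairwise disjoint locally closed strata indexed by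
a finite partially ordered set, with closure(S_j) ⊆ ⋃_{i ≤ j} S_i) whose strata are constructible
and such that every T_k is a union of strata. -/
theorem result {X : Type u} [TopologicalSpace X]
    {n : ℕ} (T : Fin n → Set X) (hT : ∀ k, Topology.IsConstructible (T k)) (hcov : ⋃ k, T k = Set.univ) :
    ∃ (I : Type) (_ : Fintype I) (_ : PartialOrder I) (S : I → Set X),
      (∀ i, IsLocallyClosed (S i) ∧ Topology.IsConstructible (S i)) ∧ (⋃ i, S i = Set.univ) ∧
      (∀ i j, i ≠ j → Disjoint (S i) (S j)) ∧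
      (∀ j, closure (S j) ⊆ ⋃ i ∈ Set.Iic j, S i) ∧
      (∀ i k, (S i ∩ T k).Nonempty → S i ⊆ T k) := by
  classical
  choose ι inst U hU q hq using fun k => exists_family_of_isConstructible (hT k)
  let Z : (Σ k, ι k) → Set X := fun σ => (U σ.1 σ.2)ᶜ
  have hZ : ∀ l, IsClosed (Z l) := fun σ => (hU σ.1 σ.2).1.isClosed_compl
  have hZc : ∀ l, IsConstructible (Z l) := fun σ =>
    ((hU σ.1 σ.2).2.isConstructible (hU σ.1 σ.2).1).compl
  have hTk : ∀ k, T k = {x | (fun A : Set (Σ k, ι k) => q k {l | (⟨k, l⟩ : Σ k, ι k) ∉ A})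
      (typeOf Z x)} := by
    intro k
    have : ∀ x, {l | (⟨k, l⟩ : Σ k, ι k) ∉ typeOf Z x} = typeOf (U k) x := by
      intro x
      ext l
      simp [typeOf, Z]
    simp only [this]
    exact hq k
  refine ⟨(Set (Σ k, ι k))ᵒᵈ, inferInstance, inferInstance,
    fun A => stratum Z (OrderDual.ofDual A), ?_, ?_, ?_, ?_, ?_⟩
  · intro A
    refine ⟨isLocallyClosed_stratum Z hZ _, ?_⟩
    change IsConstructible (stratum Z (OrderDual.ofDual A))
    rw [stratum_eq]
    exact (IsConstructible.biInter (Set.toFinite _) fun l _ => hZc l).inter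
      (IsConstructible.biInter (Set.toFinite _) fun l _ => (hZc l).compl)
  · rw [← iUnion_stratum Z]
    exact (OrderDual.ofDual.surjective.iUnion_comp fun A => stratum Z A)
  · intro A B hAB
    exact disjoint_stratum Z fun h => hAB (OrderDual.ofDual.injective h)
  · intro A
    refine (closure_stratum_subset Z hZ _).trans ?_
    intro x hx
    obtain ⟨B, hB, hxB⟩ := mem_iUnion₂.mp hx
    exact mem_iUnion₂.mpr ⟨OrderDual.toDual B, hB, hxB⟩
  · intro A k h
    rw [hTk k] at h ⊢
    exact stratum_subset_of_nonempty_inter Z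
      (fun A : Set (Σ k, ι k) => q k {l | (⟨k, l⟩ : Σ k, ι k) ∉ A}) (OrderDual.ofDual A) h

end Groth.Agent.S7560
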