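import Groth.Statements.S0649
import Mathlib

set_option autoImplicit false
open CategoryTheory CategoryTheory.Limits AlgebraicGeometry Opposite
universe u
open EtCore

namespace Groth.Agent.S0649

section Helpers

lemma bc_map_left_fst {X Y : Scheme.{u}} (f : X ⟶ Y) {U V : Y.Etale} (g : V ⟶ U) :
    ((EtCoh.bc f).map g).left ≫ pullback.fst U.hom f = pullback.fst V.hom f ≫ g.left := by
  dsimp [EtCoh.bc]
  exact pullback.lift_fst _ _ _

lemma bc_map_left_snd {X Y : Scheme.{u}} (f : X ⟶ Y) {U V : Y.Etale} (g : V ⟶ U) :
    ((EtCoh.bc f).map g).left ≫ pullback.snd U.hom f = pullback.snd V.hom f := by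
  dsimp [EtCoh.bc]
  exact pullback.lift_snd _ _ _

variable {V' V Y X : Scheme.{u}} (j : V ⟶ X) [AlgebraicGeometry.Etale j]
    (f : Y ⟶ X) (j' : V' ⟶ Y) [AlgebraicGeometry.Etale j'] (f' : V' ⟶ V)
    (h : IsPullback j' f' f j)
include h

omit [Etale j] [Etale j'] in
lemma isPullback_paste (W : V.Etale) :
    IsPullback (pullback.fst W.hom f') (pullback.snd W.hom f' ≫ j') (W.hom ≫ j) f :=
  ((IsPullback.of_hasPullback W.hom f').flip.paste_horiz h).flip

/-- the scheme-level isomorphism `W ×_V V' ≅ W ×_X Y` -/
noncomputable def schIso (W : V.Etale) :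
    pullback W.hom f' ≅ pullback (W.hom ≫ j) f :=
  (isPullback_paste j f j' f' h W).isoPullback

omit [Etale j] [Etale j'] in
lemma schIso_hom_fst (W : V.Etale) :
    (schIso j f j' f' h W).hom ≫ pullback.fst (W.hom ≫ j) f = pullback.fst W.hom f' :=
  (isPullback_paste j f j' f' h W).isoPullback_hom_fst

omit [Etale j] [Etale j'] in
lemma schIso_hom_snd (W : V.Etale) :
    (schIso j f j' f' h W).hom ≫ pullback.snd (W.hom ≫ j) f = pullback.snd W.hom f' ≫ j' :=
  (isPullback_paste j f j' f' h W).isoPullback_hom_snd

/-- the natural isomorphism of functors of small étale sites -/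
noncomputable def alpha :
    EtCoh.bc f' ⋙ EtShriek.compEtale j' ≅ EtShriek.compEtale j ⋙ EtCoh.bc f :=
  NatIso.ofComponents
    (fun W => MorphismProperty.Over.isoMk (schIso j f j' f' h W) (schIso_hom_snd j f j' f' h W))
    (by
      intro W W' g
      apply MorphismProperty.Over.Hom.ext
      apply pullback.hom_ext
      · change (((EtCoh.bc f').map g).left ≫ (schIso j f j' f' h W').hom) ≫ pullback.fst _ _ =
          ((schIso j f j' f' h W).hom ≫ ((EtCoh.bc f).map ((EtShriek.compEtale j).map g)).left) ≫ pullback.fst _ _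
        rw [Category.assoc, Category.assoc]
        have h1 : ((EtCoh.bc f').map g).left ≫ (schIso j f j' f' h W').hom ≫
            pullback.fst (W'.hom ≫ j) f = pullback.fst W.hom f' ≫ g.left :=
          (congrArg (fun t => ((EtCoh.bc f').map g).left ≫ t)
            (schIso_hom_fst j f j' f' h W')).trans (bc_map_left_fst _ g)
        have h2 : (schIso j f j' f' h W).hom ≫ ((EtCoh.bc f).map ((EtShriek.compEtale j).map g)).left ≫
            pullback.fst ((EtShriek.compEtale j).obj W').hom f =
            pullback.fst W.hom f' ≫ g.left :=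
          (congrArg (fun t => (schIso j f j' f' h W).hom ≫ t)
            (bc_map_left_fst f ((EtShriek.compEtale j).map g))).trans
            ((Category.assoc _ _ _).symm.trans (congrArg (fun t => t ≫ g.left) (schIso_hom_fst j f j' f' h W)))
        exact h1.trans h2.symm
      · change (((EtCoh.bc f').map g).left ≫ (schIso j f j' f' h W').hom) ≫ pullback.snd _ _ =
          ((schIso j f j' f' h W).hom ≫ ((EtCoh.bc f).map ((EtShriek.compEtale j).map g)).left) ≫ pullback.snd _ _
        rw [Category.assoc, Category.assoc]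
        have h1 : ((EtCoh.bc f').map g).left ≫ (schIso j f j' f' h W').hom ≫
            pullback.snd (W'.hom ≫ j) f =
            pullback.snd W.hom f' ≫ j' :=
          (congrArg (fun t => ((EtCoh.bc f').map g).left ≫ t)
            (schIso_hom_snd j f j' f' h W')).trans
            ((Category.assoc _ _ _).symm.trans
              (congrArg (fun t => t ≫ j') (bc_map_left_snd _ g)))
        have h2 : (schIso j f j' f' h W).hom ≫ ((EtCoh.bc f).map ((EtShriek.compEtale j).map g)).left ≫
            pullback.snd ((EtShriek.compEtale j).obj W').hom f =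
            pullback.snd W.hom f' ≫ j' :=
          (congrArg (fun t => (schIso j f j' f' h W).hom ≫ t)
            (bc_map_left_snd f ((EtShriek.compEtale j).map g))).trans (schIso_hom_snd j f j' f' h W)
        exact h1.trans h2.symm)

end Helpers


/-- Extension by zero commutes with pullback, for abelian sheaves. Let f : Y → X be a morphism of
schemes and j : V → X étale, and let V' = Y ×_X V with projections j' : V' → Y and f' : V' → V. Then
the functors j'_! ∘ f'^(-1) and f^(-1) ∘ j_! from abelian sheaves on V_ét to abelian sheaves on Y_ét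
are isomorphic. Only the existence of an isomorphism of functors is asserted; the published
statement gives the canonical one. (Continuity of the composition functor of étale sites, which
always holds, is carried as an instance hypothesis.) -/
theorem result {V' V Y X : Scheme.{u}} (j : V ⟶ X) [AlgebraicGeometry.Etale j] [EtShriek.JCont j]
    (f : Y ⟶ X) (j' : V' ⟶ Y) [AlgebraicGeometry.Etale j'] [EtShriek.JCont j'] (f' : V' ⟶ V)
    (h : IsPullback j' f' f j) :
    Nonempty (EtCoh.pull f' ⋙ EtShriek.extZero j' ≅ EtShriek.extZero j ⋙ EtCoh.pull f) := by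
  let adj₁ : EtShriek.extZero j ⋙ EtCoh.pull f ⊣ EtCoh.push f ⋙ EtShriek.restrAlong j :=
    (EtShriek.extZeroAdj j).comp (EtCoh.pullPushAdj f)
  let adj₂ : EtCoh.pull f' ⋙ EtShriek.extZero j' ⊣
      EtShriek.restrAlong j' ⋙ EtCoh.push f' :=
    (EtCoh.pullPushAdj f').comp (EtShriek.extZeroAdj j')
  have hc : (EtShriek.compEtale j ⋙ EtCoh.bc f).IsContinuous V.smallEtaleTopology Y.smallEtaleTopology :=
    Functor.isContinuous_comp _ _ _ X.smallEtaleTopology _
  let e₂ : EtShriek.restrAlong j' ⋙ EtCoh.push f' ≅
      (EtShriek.compEtale j ⋙ EtCoh.bc f).sheafPushforwardContinuous AddCommGrpCat.{u + 1}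
        V.smallEtaleTopology Y.smallEtaleTopology :=
    Functor.sheafPushforwardContinuousComp' (alpha j f j' f' h) AddCommGrpCat.{u + 1}
      V.smallEtaleTopology V'.smallEtaleTopology Y.smallEtaleTopology
  let e₁ : EtCoh.push f ⋙ EtShriek.restrAlong j ≅
      (EtShriek.compEtale j ⋙ EtCoh.bc f).sheafPushforwardContinuous AddCommGrpCat.{u + 1}
        V.smallEtaleTopology Y.smallEtaleTopology :=
    Iso.refl _
  exact ⟨(adj₁.leftAdjointUniq (adj₂.ofNatIsoRight (e₂ ≪≫ e₁.symm))).symm⟩

end Groth.Agent.S0649
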