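import Groth.Statements.S0651
import Mathlib

set_option autoImplicit false
open CategoryTheory CategoryTheory.Limits AlgebraicGeometry Opposite
universe u
open EtCore

namespace Groth.Agent.S0651

variable {U X : Scheme.{u}} (j : U ⟶ X) [IsOpenImmersion j] [AlgebraicGeometry.Etale j]

/-- composition with `j` is left adjoint to base change along `j`. -/
noncomputable def adjJ : EtShriek.compEtale j ⊣ EtCoh.bc j :=
  MorphismProperty.Over.mapPullbackAdj EtCoh.etaleMP ⊤ j (inferInstance : Etale j) trivial

instance isIso_unit (V : U.Etale) : IsIso ((adjJ j).unit.app V) := inferInstance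

variable [EtShriek.JCont j]

/-- restriction is left adjoint to pushforward. -/
noncomputable def adjR : EtShriek.restrAlong j ⊣ EtCoh.push j :=
  (adjJ j).sheafPushforwardContinuous _ _

instance isIso_counit_adjR : IsIso (adjR j).counit := by
  apply (config := { allowSynthFailures := true }) NatIso.isIso_of_isIso_app
  intro F
  have : IsIso ((sheafToPresheaf _ _).map ((adjR j).counit.app F)) := by
    apply (config := { allowSynthFailures := true }) NatIso.isIso_of_isIso_app
    intro V
    dsimp [adjR, Adjunction.sheafPushforwardContinuous]
    rw [Adjunction.whiskerLeft_counit_app_app]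
    have h1 : (adjJ j).op.counit.app V = ((adjJ j).unit.app V.unop).op := rfl
    rw [h1]
    have h2 : IsIso ((adjJ j).unit.app V.unop) := isIso_unit j _
    have h3 : IsIso ((adjJ j).unit.app V.unop).op := inferInstance
    exact Functor.map_isIso F.obj _
  exact isIso_of_reflects_iso _ (sheafToPresheaf _ _)


/-- For an open immersion j : U -> X and an abelian sheaf F on the small etale site of U, the counit
j^{-1} j_* F -> F of the pullback/direct image adjunction and the unit F -> j^{-1} j_! F of the
extension-by-zero/restriction adjunction are isomorphisms. (Continuity of the composition functor of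
etale sites, which always holds, is carried as an instance hypothesis.) -/
theorem result {U X : Scheme.{u}} (j : U ⟶ X) [IsOpenImmersion j]
    [AlgebraicGeometry.Etale j] [EtShriek.JCont j] (F : EtCoh.Ab U) :
    IsIso ((EtCoh.pullPushAdj j).counit.app F) ∧ IsIso ((EtShriek.extZeroAdj j).unit.app F) := by
  have hR := (adjR j).fullyFaithfulROfIsIsoCounit
  have := hR.full
  have := hR.faithful
  refine ⟨inferInstance, ?_⟩
  let t : Adjunction.Triple (EtShriek.extZero j) (EtShriek.restrAlong j) (EtCoh.push j) :=
    ⟨EtShriek.extZeroAdj j, adjR j⟩
  have h1 : IsIso t.adj₁.unit := t.isIso_unit_iff_isIso_counit.2 (isIso_counit_adjR j)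
  exact NatIso.isIso_app_of_isIso t.adj₁.unit F

end Groth.Agent.S0651
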