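import Groth.Statements.S13505
import Mathlib
import Groth.Agent.Lib.Helper43.ExtZeroSplit
import Groth.Agent.Lib.Helper43.FinStrat
import Groth.Agent.Lib.Helper43.EtConstr

set_option autoImplicit false
universe u
open CategoryTheory CategoryTheory.Limits AlgebraicGeometry
open EtPBC

namespace Groth.Agent.S13505

open Groth.Agent.Lib.Helper43 Groth.Agent.Lib.Helper4


/-- Let f : U → X be an étale morphism with U and X quasi-compact and quasi-separated, and F an abelian
sheaf on the small étale site of U which is finite locally constant (on some étale covering of U it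
becomes constant with finite value group). Then the extension by zero f_! F is constructible on X.
(Continuity of the functor V ↦ (V → U → X) between the small étale sites, which always holds, is
carried as an instance hypothesis.) -/
theorem result {U X : Scheme.{u}} [CompactSpace X]
    [QuasiSeparatedSpace X] [CompactSpace U] [QuasiSeparatedSpace U] (f : U ⟶ X) [Etale f]
    [EtShriek.JCont f] (F : EtCoh.Ab U) (hF : EtCoh.IsFiniteLocallyConstant F) :
    EtPBC.IsConstructible ((EtShriek.extZero f).obj F) := by
  rw [EtConstr.constructible_iff_strata_univ]
  have : LocallyQuasiFinite f := FinStrat.locallyQuasiFinite_of_etale f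
  obtain ⟨n, T, g, h1, h2, h3, h4, h5⟩ := FinStrat.strata_finite f
  refine ⟨n, T, g, h1, h2, h3, h4, fun i => ?_⟩
  intro _
  have : IsFinite (pullback.snd f (g i)) := h5 i
  have : EtShriek.JCont (pullback.snd f (g i)) := EtRestr.jCont _
  obtain ⟨θ⟩ := Groth.Agent.S0649.result f (g i) (pullback.snd f (g i)) (pullback.fst f (g i))
    (IsPullback.of_hasPullback f (g i)).flip
  refine EtConstr.isFLC_of_iso (θ.app F) ?_
  exact ExtZeroSplit.isFLC_extZero_of_finite_etale _ _ (EtConstr.isFLC_pull _ F hF)

end Groth.Agent.S13505
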