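import Groth.Statements.S0133
import Mathlib
import Groth.Agent.S13505
import Groth.Agent.Lib.Helper43.EtOverEquiv
import Groth.Agent.Lib.Helper43.EtFLCLocal

set_option autoImplicit false
universe u
open CategoryTheory CategoryTheory.Limits AlgebraicGeometry Opposite
open EtPBC

namespace Groth.Agent.S0133

open Groth.Agent.Lib.Helper43 Groth.Agent.Lib.Helper4

theorem isConstructible_of_iso {X : Scheme.{u}} {F G : EtCoh.Ab X} (e : F ≅ G)
    (h : EtPBC.IsConstructible F) : EtPBC.IsConstructible G := by
  intro W hW
  obtain ⟨n, T, g, h1, h2, h3, h4, h5⟩ := h W hW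
  exact ⟨n, T, g, h1, h2, h3, h4, fun i _ =>
    EtConstr.isFLC_of_iso ((EtCoh.pull (g i)).mapIso e) (h5 i)⟩


/-- (2): for j : U -> X etale with U and X quasi-compact and quasi-separated and M a finite abelian
group, j_! M is a constructible abelian sheaf on X_et. -/
theorem result (X : Scheme.{u}) [CompactSpace X] [QuasiSeparatedSpace X]
    (U : X.Etale) [CompactSpace U.left] [QuasiSeparatedSpace U.left]
    (M : Type) [AddCommGroup M] [Finite M] :
    EtPBC.IsConstructible (EtPBC.extZeroConst U M) := by
  have : EtShriek.JCont (EtOverEquiv.jU U) := EtRestr.jCont _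
  refine isConstructible_of_iso (EtOverEquiv.extZeroConstIso U M).symm ?_
  exact Groth.Agent.S13505.result (EtOverEquiv.jU U) (EtCoh.const U.left M)
    (EtFLCLocal.isFLC_of_iso_const _ M (Iso.refl _))

end Groth.Agent.S0133
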