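import Groth.Statements.S0182
import Mathlib
import Groth.Agent.Lib.Helper43.EtSupp
import Groth.Agent.Lib.Helper43.EtConstrSerre

set_option autoImplicit false
universe u
open CategoryTheory CategoryTheory.Limits AlgebraicGeometry Opposite
open EtPBC

namespace Groth.Agent.S0182

open Groth.Agent.Lib.Helper43.EtSupp Groth.Agent.Lib.Helper43.EtConstr
  Groth.Agent.Lib.Helper43.EtConstrSerre Topology

open Groth.Agent.Lib.Helper43.EtSupp Groth.Agent.Lib.Helper43.EtConstr
  Groth.Agent.Lib.Helper43.EtConstrSerre Topology

/-- on a quasi-compact quasi-separated scheme the support of a constructible sheaf is constructible -/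
theorem isConstructible_supp (X : Scheme.{u}) [CompactSpace X] [QuasiSeparatedSpace X]
    (Q : EtCoh.Ab X) (hQ : EtPBC.IsConstructible Q) : IsConstructible (EtPBC.supp Q) := by
  have h1 := (adaptedStrata_iff Q _).1 ((constructible_iff_strata_univ X Q).1 hQ)
  let e : X ≃ₜ ↥(Set.univ : Set X) := (Homeomorph.Set.univ X).symm
  have : PrespectralSpace ↥(Set.univ : Set X) := e.symm.isOpenEmbedding.prespectralSpace
  have h2 := isConstructible_supp_of_strata Q Set.univ h1
  have h3 := h2.preimage_of_isOpenEmbedding e.isOpenEmbedding
  exact h3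


/-- (1), surjectivity case, for abelian sheaves: X quasi-compact and quasi-separated, F -> G a map of
constructible abelian sheaves on X_et; the set of points x of X such that F -> G is surjective on
stalks at (every) geometric point over x is constructible. The source states this for constructible
sheaves of sets; an abelian constructible sheaf is one, with the same stalks. -/
theorem result (X : Scheme.{u}) [CompactSpace X] [QuasiSeparatedSpace X]
    {F G : EtCoh.Ab X} (φ : F ⟶ G) (hF : EtPBC.IsConstructible F) (hG : EtPBC.IsConstructible G) :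
    Topology.IsConstructible {x : X | ∀ (Ω : Type u) [Field Ω] [IsSepClosed Ω]
      (ξ : Spec (CommRingCat.of Ω) ⟶ X), Set.range ξ = {x} →
        Function.Surjective ((EtCoh.stalk ξ).map φ)} := by
  have hQ := (constructible_kernel_cokernel φ hF hG).2
  have hc := (isConstructible_supp X (cokernel φ) hQ).compl
  have key : ∀ (Ω : Type u) [Field Ω] [IsSepClosed Ω] (ξ : Spec (CommRingCat.of Ω) ⟶ X),
      Function.Surjective ((EtCoh.stalk ξ).map φ) ↔ IsZero ((EtCoh.stalk ξ).obj (cokernel φ)) := by
    intro Ω _ _ ξ
    have e := PreservesCokernel.iso (EtCoh.stalk ξ) φ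
    rw [← AddCommGrpCat.epi_iff_surjective]
    constructor
    · intro h
      exact IsZero.of_iso (isZero_cokernel_of_epi _) e
    · intro h
      have h' : IsZero (cokernel ((EtCoh.stalk ξ).map φ)) := IsZero.of_iso h e.symm
      exact Preadditive.epi_of_isZero_cokernel _ h'
  convert hc using 1
  ext x
  simp only [Set.mem_ofPred_eq, Set.mem_compl_iff]
  constructor
  · rintro h ⟨Ω, _, _, ξ, hξ, hnz⟩
    exact hnz ((key Ω ξ).1 (h Ω ξ hξ))
  · intro h Ω _ _ ξ hξ
    rw [key Ω ξ]
    by_contra hnz
    exact h ⟨Ω, inferInstance, inferInstance, ξ, hξ, hnz⟩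

end Groth.Agent.S0182
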