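import Groth.Statements.S0487
import Groth.Agent.Lib.Helper5.SiteCoh
import Groth.Prelude.Def_RDer

set_option autoImplicit false
universe u
open CategoryTheory
open CohSite

namespace Groth.Agent.S0487

open Opposite CategoryTheory.Limits Groth.Agent.Lib.Helper5

variable {C D : Type u} [SmallCategory C] [SmallCategory D]
  (J : GrothendieckTopology C) (K : GrothendieckTopology D) (u : D ⥤ C) [u.IsContinuous K J]

/-- precomposition with `u` followed by sheafification -/
noncomputable abbrev E : (Cᵒᵖ ⥤ AddCommGrpCat.{u}) ⥤ Sheaf K AddCommGrpCat.{u} :=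
  (Functor.whiskeringLeft Dᵒᵖ Cᵒᵖ AddCommGrpCat.{u}).obj u.op ⋙
    presheafToSheaf K AddCommGrpCat.{u}

/-- sheafification of the underlying presheaf of a sheaf -/
noncomputable def counitIso :
    sheafToPresheaf K AddCommGrpCat.{u} ⋙ presheafToSheaf K AddCommGrpCat.{u} ≅
      𝟭 (Sheaf K AddCommGrpCat.{u}) :=
  haveI : IsIso (sheafificationAdjunction K AddCommGrpCat.{u}).counit :=
    NatIso.isIso_of_isIso_app _
  asIso (sheafificationAdjunction K AddCommGrpCat.{u}).counit

/-- the direct image functor is the composition of the forgetful functor to presheaves with `E` -/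
noncomputable def θ : CohSite.push J K u ≅ sheafToPresheaf J AddCommGrpCat.{u} ⋙ E K u :=
  (CohSite.push J K u).rightUnitor.symm ≪≫
    Functor.isoWhiskerLeft (CohSite.push J K u) (counitIso K).symm ≪≫
    (Functor.associator _ _ _).symm ≪≫
    Functor.isoWhiskerRight (Iso.refl _ : CohSite.push J K u ⋙
      sheafToPresheaf K AddCommGrpCat.{u} ≅ sheafToPresheaf J AddCommGrpCat.{u} ⋙
        (Functor.whiskeringLeft Dᵒᵖ Cᵒᵖ AddCommGrpCat.{u}).obj u.op)
      (presheafToSheaf K AddCommGrpCat.{u}) ≪≫
    Functor.associator _ _ _

instance : (E K u).Additive := by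
  dsimp only [E]
  infer_instance

instance : PreservesFiniteLimits (E K u) := by
  dsimp only [E]
  infer_instance

instance : PreservesFiniteColimits (E K u) := by
  dsimp only [E]
  infer_instance

instance : (E K u).PreservesHomology := preservesHomology_of_exact (E K u)

/-- Let u : D ⥤ C be a continuous functor between small sites (e.g. underlying a morphism of sites f),
with direct image f_* F = F ∘ u; only continuity is used. Then R^i f_* F is isomorphic to the
sheafification of the presheaf V ↦ H^i(u(V), F) (existence of an isomorphism of sheaves). -/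
theorem result {C D : Type u} [SmallCategory C] [SmallCategory D]
    (J : GrothendieckTopology C) (K : GrothendieckTopology D) (u : D ⥤ C) [u.IsContinuous K J]
    (F : Sheaf J AddCommGrpCat.{u}) (i : ℕ) :
    Nonempty ((CohSite.Rpush J K u i).obj F ≅
      (presheafToSheaf K AddCommGrpCat.{u}).obj (u.op ⋙ F.cohomologyPresheaf i)) := by
  obtain ⟨e⟩ := SiteCoh.rightDerived_sheafToPresheaf_iso i F
  exact ⟨(RDer.rightDerivedIso (θ J K u) i).app F ≪≫
    rightDerivedCompExactIso (sheafToPresheaf J AddCommGrpCat.{u}) (E K u) F i ≪≫
      (E K u).mapIso e⟩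

end Groth.Agent.S0487
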