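import Groth.Statements.S0069
import Mathlib
import Groth.Agent.Lib.Helper43.EtStalk
import Groth.Agent.Lib.Helper43.MuSheaf

set_option autoImplicit false
open CategoryTheory CategoryTheory.Limits AlgebraicGeometry Opposite
universe u
open EtBase

namespace Groth.Agent.S0069

open Groth.Agent.Lib.Helper43 Groth.Agent.Lib.Helper43.EtStalk

/-- sections of an abelian étale sheaf over an empty étale scheme are trivial -/
lemma subsingleton_of_isEmpty {Z : Scheme.{u}} (G : EtCoh.Ab Z) (T : Z.Etale) (hT : IsEmpty T.left) :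
    Subsingleton (G.obj.obj (op T)) := by
  have hmem : (⊥ : Sieve T) ∈ Z.smallEtaleTopology T := MuConst.mem_of_isEmpty hT _
  have hsh := (isSheaf_iff_isSheaf_of_type _ _).1
    ((Presheaf.isSheaf_iff_isSheaf_forget _ G.obj (forget AddCommGrpCat)).1 G.property)
  constructor
  intro a b
  exact (hsh _ hmem).isSeparatedFor.ext (fun Y f hf => hf.elim)

lemma exists_refinement {Z X : Scheme.{u}} (i : Z ⟶ X) [IsClosedImmersion i]
    {Ω : Type u} [Field Ω] [IsSepClosed Ω] (ξ : Spec (CommRingCat.of Ω) ⟶ X)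
    (hξ : Disjoint (Set.range ξ.base) (Set.range i.base)) (V : X.Etale)
    (y : (Scheme.pointSmallEtale ξ).fiber.obj V) :
    ∃ (V' : X.Etale) (g : V' ⟶ V) (y' : (Scheme.pointSmallEtale ξ).fiber.obj V'),
      (Scheme.pointSmallEtale ξ).fiber.map g y' = y ∧ IsEmpty ((EtCoh.bc i).obj V').left := by
  let VL : Scheme.{u} := V.left
  let vh : VL ⟶ X := V.hom
  let yl : Spec (CommRingCat.of Ω) ⟶ VL := y.left
  have hy : yl ≫ vh = ξ := Over.w y
  let W : X.Opens := ⟨(Set.range i.base)ᶜ, i.isClosedEmbedding.isClosed_range.isOpen_compl⟩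
  let U₀ : VL.Opens := vh ⁻¹ᵁ W
  have hU₀ : ∀ t : VL, t ∈ U₀ ↔ vh t ∉ Set.range i.base := fun t => Iff.rfl
  have hrange : Set.range yl.base ⊆ Set.range U₀.ι.base := by
    rintro _ ⟨t, rfl⟩
    have hr : Set.range U₀.ι.base = (U₀ : Set VL) := Scheme.Opens.range_ι U₀
    rw [hr]
    change yl t ∈ U₀
    rw [hU₀, ← Scheme.Hom.comp_apply, hy]
    exact Set.disjoint_left.1 hξ ⟨t, rfl⟩
  let y'l : Spec (CommRingCat.of Ω) ⟶ (U₀ : Scheme.{u}) := IsOpenImmersion.lift U₀.ι yl hrange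
  have hy'l : y'l ≫ U₀.ι = yl := IsOpenImmersion.lift_fac _ _ _
  let V' : X.Etale := Scheme.Etale.mk (U₀.ι ≫ vh)
  let g : V' ⟶ V := MorphismProperty.Over.homMk U₀.ι rfl
  let y' : (Scheme.pointSmallEtale ξ).fiber.obj V' := Over.homMk y'l (by
    change y'l ≫ U₀.ι ≫ vh = ξ
    rw [← Category.assoc, hy'l, hy])
  refine ⟨V', g, y', ?_, ?_⟩
  · apply Over.OverMorphism.ext
    exact hy'l
  · constructor
    intro z
    have hz : (pullback.fst (U₀.ι ≫ vh) i ≫ (U₀.ι ≫ vh)) z = (pullback.snd (U₀.ι ≫ vh) i ≫ i) z := by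
      rw [pullback.condition]
    rw [Scheme.Hom.comp_apply, Scheme.Hom.comp_apply, Scheme.Hom.comp_apply] at hz
    have h1 : vh (U₀.ι ((pullback.fst (U₀.ι ≫ vh) i) z)) ∉ Set.range i.base :=
      (hU₀ _).1 ((pullback.fst (U₀.ι ≫ vh) i) z).2
    exact h1 ⟨_, hz.symm⟩


/-- Abelian case, first half — the pushforward along a closed immersion has zero stalk at geometric
points outside the closed subscheme. -/
theorem result {Z X : Scheme.{u}} (i : Z ⟶ X) [IsClosedImmersion i] [EtCoh.BCCont i]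
    (G : EtCoh.Ab Z) {Ω : Type u} [Field Ω] [IsSepClosed Ω] (ξ : Spec (CommRingCat.of Ω) ⟶ X)
    (hξ : Disjoint (Set.range ξ.base) (Set.range i.base)) :
    IsZero ((EtCoh.stalk ξ).obj ((EtCoh.push i).obj G)) := by
  let Φ := Scheme.pointSmallEtale ξ
  let P : X.Etaleᵒᵖ ⥤ AddCommGrpCat.{u + 1} := ((EtCoh.push i).obj G).obj
  have hsub : Subsingleton ((EtCoh.stalk ξ).obj ((EtCoh.push i).obj G)) := by
    constructor
    suffices h0 : ∀ a : (EtCoh.stalk ξ).obj ((EtCoh.push i).obj G), a = 0 by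
      intro a b
      rw [h0 a, h0 b]
    intro a
    obtain ⟨V, y, s, rfl⟩ := Φ.toPresheafFiber_jointly_surjective (P := P) a
    obtain ⟨V', g, y', hyy', hemp⟩ := exists_refinement i ξ hξ V y
    rw [← hyy', ← Φ.toPresheafFiber_w_apply g y' P]
    have hss : Subsingleton (G.obj.obj (op ((EtCoh.bc i).obj V'))) := subsingleton_of_isEmpty G _ hemp
    have h2 : P.map g.op s = 0 := Subsingleton.elim (α := G.obj.obj (op ((EtCoh.bc i).obj V'))) _ _
    rw [h2]
    exact map_zero _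
  exact AddCommGrpCat.isZero_of_subsingleton _

end Groth.Agent.S0069
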