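import Groth.Statements.S0671
import Mathlib
import Groth.Agent.Lib.Helper43.EtStalk

set_option autoImplicit false
open CategoryTheory CategoryTheory.Limits AlgebraicGeometry Opposite
universe u
open EtCore

namespace Groth.Agent.S0671

open Groth.Agent.Lib.Helper43 Groth.Agent.Lib.Helper43.EtStalk

lemma isClosed_sectSupp {S : Scheme.{u}} (F : EtCoh.Ab S) (U : S.Etale) (σ : EtCoh.sect F U) :
    IsClosed (EtShriek.sectSupp F U σ) := by
  rw [← isOpen_compl_iff, isOpen_iff_forall_mem_open]
  intro x hx
  simp only [Set.mem_compl_iff, EtShriek.sectSupp, Set.mem_ofPred_eq, not_forall, not_not] at hx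
  obtain ⟨W, g, hw, h0⟩ := hx
  refine ⟨Set.range g.left.base, ?_, ?_, hw⟩
  · rintro _ ⟨w', rfl⟩ hmem
    exact hmem W g ⟨w', rfl⟩ h0
  · exact g.left.isOpenMap.isOpen_range


/-- For an abelian sheaf F on the small etale site of S and a section σ over an etale S-scheme U, the
support of σ is a closed subset of U; and a point of S has a nonzero geometric stalk exactly when it
is the image of a point lying in the support of some section over some etale S-scheme. -/
theorem result {S : Scheme.{u}} (F : EtCoh.Ab S) :
    (∀ (U : S.Etale) (σ : EtCoh.sect F U), IsClosed (EtShriek.sectSupp F U σ)) ∧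
    EtPBC.supp F = ⋃ (U : S.Etale) (σ : EtCoh.sect F U), U.hom.base '' EtShriek.sectSupp F U σ := by
  refine ⟨isClosed_sectSupp F, ?_⟩
  ext x
  simp only [Set.mem_iUnion, Set.mem_image]
  constructor
  · rintro ⟨Ω, _, _, ξ, hrange, hnz⟩
    let Φ := Scheme.pointSmallEtale ξ
    have hne : ∃ a : (EtCoh.stalk ξ).obj F, a ≠ 0 := by
      by_contra hcon
      push Not at hcon
      apply hnz
      have : Subsingleton ((EtCoh.stalk ξ).obj F) := ⟨fun a b => by rw [hcon a, hcon b]⟩
      exact AddCommGrpCat.isZero_of_subsingleton _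
    obtain ⟨a, ha⟩ := hne
    obtain ⟨U, z, σ, rfl⟩ := Φ.toPresheafFiber_jointly_surjective (P := F.obj) a
    let zl : Spec (CommRingCat.of Ω) ⟶ U.left := z.left
    refine ⟨U, σ, zl.base default, ?_, ?_⟩
    · intro W g hw h0
      obtain ⟨w, hw⟩ := hw
      obtain ⟨l, hl₁, hl₂⟩ := Scheme.exists_fac_of_etale_of_isSepClosed g.left zl w hw
      let z' : Φ.fiber.obj W := Over.homMk l (by
        have h1 := Over.w z
        have h2 := MorphismProperty.Over.w g
        dsimp at h1 h2 ⊢
        rw [← h2, ← Category.assoc, hl₁]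
        exact h1)
      have hz' : Φ.fiber.map g z' = z := Over.OverMorphism.ext hl₁
      apply ha
      rw [← hz', ← Φ.toPresheafFiber_w_apply g z' F.obj, h0]
      exact map_zero _
    · have h1 := Over.w z
      dsimp at h1
      have h2 : ξ.base default ∈ Set.range ξ.base := ⟨default, rfl⟩
      rw [hrange] at h2
      rw [← Set.mem_singleton_iff.1 h2, ← h1]
      rfl
  · rintro ⟨U, σ, p, hp, rfl⟩
    let Ω : Type u := SeparableClosure (U.left.residueField p)
    let ξ' : Spec (CommRingCat.of Ω) ⟶ U.left :=
      Spec.map (CommRingCat.ofHom (algebraMap (U.left.residueField p) Ω)) ≫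
        U.left.fromSpecResidueField p
    have hξ' : ∀ q, ξ'.base q = p := by
      intro q
      simp only [ξ', Scheme.Hom.comp_apply]
      exact Scheme.fromSpecResidueField_apply _ _
    let ξ : Spec (CommRingCat.of Ω) ⟶ S := ξ' ≫ U.hom
    refine ⟨Ω, inferInstance, inferInstance, ξ, ?_, ?_⟩
    · ext y
      simp only [Set.mem_range, Set.mem_singleton_iff]
      constructor
      · rintro ⟨q, rfl⟩
        change U.hom.base (ξ'.base q) = _
        rw [hξ']
      · rintro rfl
        exact ⟨default, by change U.hom.base (ξ'.base default) = _; rw [hξ']⟩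
    · intro hzero
      let Φ := Scheme.pointSmallEtale ξ
      let z : Φ.fiber.obj U := Over.homMk ξ' rfl
      have h1 : Φ.toPresheafFiber U z F.obj σ = Φ.toPresheafFiber U z F.obj 0 := by
        have : Subsingleton ((EtCoh.stalk ξ).obj F) :=
          AddCommGrpCat.subsingleton_of_isZero hzero
        exact @Subsingleton.elim _ this _ _
      obtain ⟨W, g, z', hz', hs⟩ := (Φ.toPresheafFiber_eq_iff' _ _ _ _).1 h1
      let zl' : Spec (CommRingCat.of Ω) ⟶ W.left := z'.left
      refine hp W g ⟨zl'.base default, ?_⟩ (hs.trans (map_zero _))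
      have h2 : zl' ≫ g.left = ξ' := congrArg (fun t => Over.Hom.left t) hz'
      have h3 : (zl' ≫ g.left).base default = p := by
        rw [h2]
        exact hξ' default
      exact h3

end Groth.Agent.S0671
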