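import Groth.Statements.S8525
import Mathlib

set_option autoImplicit false
universe u
open CategoryTheory CategoryTheory.Limits AlgebraicGeometry Opposite
open EtAcyc

namespace Groth.Agent.S8525

instance forgetPresFiltered : PreservesFilteredColimitsOfSize.{u, u} (forget AddCommGrpCat.{u + 1}) :=
  preservesFilteredColimitsOfSize_shrink.{u, u + 1, u, u + 1} _

lemma fwd {X : Scheme.{u}} (L : Set ℕ) (F : EtCoh.Ab X) (hF : EtAcyc.IsLTorsion L F)
    (Ω : Type u) [Field Ω] [IsSepClosed Ω] (ξ : Spec (CommRingCat.of Ω) ⟶ X)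
    (t : ToType ((Scheme.pointSmallEtale ξ).presheafFiber.obj F.obj)) :
    ∃ m : ℕ, EtAcyc.PrimesIn L m ∧ m • t = 0 := by
  obtain ⟨U, x, z, rfl⟩ := (Scheme.pointSmallEtale ξ).toPresheafFiber_jointly_surjective (P := F.obj) t
  obtain ⟨V, g, m, ⟨v, hv⟩, hm, hz⟩ := hF U z (x.left (default : Spec (CommRingCat.of Ω)))
  obtain ⟨l, hl₁, hl₂⟩ := Scheme.exists_fac_of_etale_of_isSepClosed g.left x.left v hv
  let y : (Scheme.pointSmallEtale ξ).fiber.obj V := Over.homMk l (by
    have h1 := Over.w x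
    have h2 := Over.w g.hom
    dsimp at h1 h2 ⊢
    rw [← h1, ← hl₁, Category.assoc]
    congr 1
    exact h2.symm)
  have hy : (Scheme.pointSmallEtale ξ).fiber.map g y = x := by
    apply Over.OverMorphism.ext
    exact hl₁
  refine ⟨m, hm, ?_⟩
  rw [← hy, ← (Scheme.pointSmallEtale ξ).toPresheafFiber_w_apply g y F.obj z, ← map_nsmul, hz, map_zero]


/-- Let L be a set of primes and F an abelian sheaf on the small etale site of a scheme X. Then F is an
L-torsion sheaf if and only if for every geometric point ξ of X every element of the stalk F_ξ is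
killed by a positive integer all of whose prime factors lie in L. -/
theorem result {X : Scheme.{u}} (L : Set ℕ) (F : EtCoh.Ab X) :
    EtAcyc.IsLTorsion L F ↔
      ∀ (Ω : Type u) [Field Ω] [IsSepClosed Ω] (ξ : Spec (CommRingCat.of Ω) ⟶ X)
        (t : (EtCoh.stalk ξ).obj F), ∃ m : ℕ, EtAcyc.PrimesIn L m ∧ m • t = 0 := by
  constructor
  · intro hF Ω _ _ ξ t
    exact fwd L F hF Ω ξ t
  · intro h U s x
    let κ := U.left.residueField x
    let Ω := AlgebraicClosure κ
    let ξ' : Spec (CommRingCat.of Ω) ⟶ U.left :=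
      Spec.map (CommRingCat.ofHom (algebraMap κ Ω)) ≫ U.left.fromSpecResidueField x
    have hξ' : ξ' (default : Spec (CommRingCat.of Ω)) = x := by
      simp only [ξ', Scheme.Hom.comp_apply]
      exact Scheme.fromSpecResidueField_apply _ _
    let x' : (Scheme.pointSmallEtale (ξ' ≫ U.hom)).fiber.obj U := Over.homMk ξ' rfl
    obtain ⟨m, hm, hmt⟩ := h Ω (ξ' ≫ U.hom)
      ((Scheme.pointSmallEtale (ξ' ≫ U.hom)).toPresheafFiber U x' F.obj s)
    have hmt' : (Scheme.pointSmallEtale (ξ' ≫ U.hom)).toPresheafFiber U x' F.obj (m • s) =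
        (Scheme.pointSmallEtale (ξ' ≫ U.hom)).toPresheafFiber U x' F.obj 0 := by
      rw [map_nsmul, map_zero]; exact hmt
    obtain ⟨V, g, y, hy, hg⟩ := ((Scheme.pointSmallEtale (ξ' ≫ U.hom)).toPresheafFiber_eq_iff' U x' _ _).1 hmt'
    refine ⟨V, g, m, ⟨y.left (default : Spec (CommRingCat.of Ω)), ?_⟩, hm, ?_⟩
    · have := congrArg (fun a => a.left (default : Spec (CommRingCat.of Ω))) hy
      exact this.trans hξ'
    · rw [map_nsmul, map_zero] at hg
      exact hg

end Groth.Agent.S8525
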