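import Groth.Statements.S6626
import Mathlib
import Groth.Agent.Lib.Helper43.ClopenExt
import Groth.Agent.Lib.Helper43.ClosedCounit

set_option autoImplicit false
open CategoryTheory CategoryTheory.Limits AlgebraicGeometry Opposite
universe u
open EtCore

namespace Groth.Agent.S6626

open Groth.Agent.Lib.Helper43 Groth.Agent.Lib.Helper43.EtStalk Groth.Agent.S0100

lemma pushStalkMap_surjective {X Y : Scheme.{u}} (f : X ⟶ Y) (hA : BigSite.PropA f)
    (F : EtCoh.Ab X) {Ω : Type u} [Field Ω] [IsSepClosed Ω] (ξ : Spec (CommRingCat.of Ω) ⟶ X) :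
    Function.Surjective (ClosedStalk.pushStalkMap f F ξ) := by
  intro b
  let Φ := Scheme.pointSmallEtale ξ
  obtain ⟨U, y, s, rfl⟩ := Φ.toPresheafFiber_jointly_surjective (P := F.obj) b
  let UL : Scheme.{u} := U.left
  let uh : UL ⟶ X := U.hom
  let yl : Spec (CommRingCat.of Ω) ⟶ UL := y.left
  have hyl : yl ≫ uh = ξ := Over.w y
  obtain ⟨V, v, hv, W, hWc, h, hh, ⟨w₀, hw₀⟩⟩ := hA UL uh (yl.base default)
  let V' : Y.Etale := Scheme.Etale.mk v
  let σ : pullback v f ≅ pullback f v := pullbackSymmetry v f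
  have hσ1 : σ.hom ≫ pullback.fst f v = pullback.snd v f := pullbackSymmetry_hom_comp_fst v f
  let th : pullback v f ⟶ X := pullback.snd v f
  let W₁ : (pullback v f).Opens := σ.hom ⁻¹ᵁ W
  have hW₁c : IsClosed (W₁ : Set ↥(pullback v f)) := hWc.preimage σ.hom.continuous
  have hr : Set.range (W₁.ι ≫ σ.hom).base ⊆ Set.range W.ι.base := by
    rw [Scheme.Opens.range_ι]
    rintro _ ⟨x, rfl⟩
    exact x.2
  let l₀ : (W₁ : Scheme.{u}) ⟶ W := IsOpenImmersion.lift W.ι (W₁.ι ≫ σ.hom) hr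
  have hl₀ : l₀ ≫ W.ι = W₁.ι ≫ σ.hom := IsOpenImmersion.lift_fac _ _ _
  let h₁ : (W₁ : Scheme.{u}) ⟶ UL := l₀ ≫ h
  have hh₁ : h₁ ≫ uh = W₁.ι ≫ th := by
    change (l₀ ≫ h) ≫ uh = W₁.ι ≫ th
    rw [Category.assoc, hh, ← Category.assoc, hl₀, Category.assoc, hσ1]
  -- a point of `W₁` over `w₀`
  have hmem : σ.inv.base (W.ι.base w₀) ∈ W₁ := by
    change σ.hom.base (σ.inv.base (W.ι.base w₀)) ∈ W
    have : σ.hom.base (σ.inv.base (W.ι.base w₀)) = W.ι.base w₀ := by
      change (σ.inv ≫ σ.hom).base (W.ι.base w₀) = _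
      rw [Iso.inv_hom_id]
      rfl
    rw [this]
    exact w₀.2
  let w₁ : ↥(W₁ : Scheme.{u}) := ⟨σ.inv.base (W.ι.base w₀), hmem⟩
  have hw₁ : h₁.base w₁ = yl.base default := by
    change h.base (l₀.base w₁) = _
    have h1 : l₀.base w₁ = w₀ := by
      apply W.ι.isOpenEmbedding.injective
      change (l₀ ≫ W.ι).base w₁ = W.ι.base w₀
      rw [hl₀]
      change σ.hom.base (σ.inv.base (W.ι.base w₀)) = W.ι.base w₀
      change (σ.inv ≫ σ.hom).base (W.ι.base w₀) = _
      rw [Iso.inv_hom_id]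
      rfl
    rw [h1]
    exact hw₀
  -- objects of the small étale site
  let T : X.Etale := Scheme.Etale.mk th
  let T₁ : X.Etale := ClopenExt.sub th W₁
  let ι₁ : T₁ ⟶ T := ClopenExt.subι th W₁
  let h₁' : T₁ ⟶ U := MorphismProperty.Over.homMk h₁ hh₁
  have hh₁et : Etale h₁ := inferInstanceAs (Etale h₁'.left)
  obtain ⟨l, hl₁, hl₂⟩ := Scheme.exists_fac_of_etale_of_isSepClosed h₁ yl w₁ hw₁
  let y₁ : Φ.fiber.obj T₁ := Over.homMk l (by
    change l ≫ W₁.ι ≫ th = ξ
    rw [← hh₁, ← Category.assoc, hl₁]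
    exact hyl)
  have hy₁ : Φ.fiber.map h₁' y₁ = y := Over.OverMorphism.ext hl₁
  obtain ⟨t, ht⟩ := ClopenExt.exists_extension th W₁ F hW₁c (F.obj.map h₁'.op s)
  let yT : Φ.fiber.obj T := Φ.fiber.map ι₁ y₁
  have hb : Φ.toPresheafFiber U y F.obj s = Φ.toPresheafFiber T yT F.obj t := by
    rw [← hy₁, ← Φ.toPresheafFiber_w_apply h₁' y₁ F.obj, ← ht,
      Φ.toPresheafFiber_w_apply ι₁ y₁ F.obj]
  let z := (fiberEquiv f ξ V').symm yT
  refine ⟨(Scheme.pointSmallEtale (ξ ≫ f)).toPresheafFiber V' z ((EtCoh.push f).obj F).obj t, ?_⟩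
  rw [ClosedStalk.toFiber_pushStalkMap_apply]
  rw [show fiberEquiv f ξ V' z = yT from (fiberEquiv f ξ V').apply_symm_apply yT]
  exact hb.symm

lemma epi_counit {X Y : Scheme.{u}} (f : X ⟶ Y) (hA : BigSite.PropA f) (F : EtCoh.Ab X) :
    Epi ((EtCoh.pullPushAdj f).counit.app F) := by
  apply epi_of_stalks_ab
  intro Ω _ _ ξ b
  obtain ⟨a, ha⟩ := pushStalkMap_surjective f hA F ξ b
  refine ⟨PullStalk.pullStalkMap f ((EtCoh.push f).obj F) ξ a, ?_⟩
  have h1 := ClosedStalk.pullStalkMap_counit f F ξ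
  have h2 := congrArg (fun t => t.hom a) h1
  exact h2.trans ha


/-- Let f : X ⟶ Y be a morphism of schemes satisfying condition (A) (for every etale U ⟶ X and every
point u of U there are an etale V ⟶ Y, an open and closed subscheme W of X ×_Y V and an X-morphism W
⟶ U whose image contains u). Then, on abelian sheaves on the small etale sites, f_* reflects
monomorphisms and epimorphisms, the counit f⁻¹ f_* F ⟶ F is an epimorphism for every F, and f_* is
faithful. -/
theorem result {X Y : Scheme.{u}} (f : X ⟶ Y) (hA : BigSite.PropA f) :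
    (EtCoh.push f).ReflectsMonomorphisms ∧ (EtCoh.push f).ReflectsEpimorphisms ∧
      (∀ F : EtCoh.Ab X, Epi ((EtCoh.pullPushAdj f).counit.app F)) ∧ (EtCoh.push f).Faithful := by
  have hepi : ∀ F : EtCoh.Ab X, Epi ((EtCoh.pullPushAdj f).counit.app F) := epi_counit f hA
  have hfaith : (EtCoh.push f).Faithful := (EtCoh.pullPushAdj f).faithful_R_of_epi_counit_app
  exact ⟨inferInstance, inferInstance, hepi, hfaith⟩

end Groth.Agent.S6626
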