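import Groth.Statements.S3047
import Groth.Agent.Lib.Helper43.EtOpenSub

set_option autoImplicit false
open CategoryTheory CategoryTheory.Limits AlgebraicGeometry Opposite
universe u
open EtDesc

namespace Groth.Agent.S3047

open Groth.Agent.Lib.Helper43

section Filt

variable {I : Type (u + 1)} [Category.{u} I] [IsFiltered I] {F : I ⥤ Type (u + 1)}
  {c : Cocone F}

lemma eq_stage (hc : IsColimit c) {j : I} (y y' : F.obj j) (h : c.ι.app j y = c.ι.app j y') :
    ∃ (k : I) (f : j ⟶ k), F.map f y = F.map f y' :=
  (Types.FilteredColimit.isColimit_eq_iff' hc _ _).1 h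

end Filt

section Main

variable {Y Y' : Scheme.{u}} (g : Y' ⟶ Y)

/-- the unit of the Kan-extension construction of the adjunction, on underlying presheaves. -/
lemma constr_unit_hom (F : EtDesc.Sh Y) :
    ((Functor.sheafPullbackConstruction.sheafAdjunctionContinuous (EtCoh.bc g) (Type (u + 1))
      Y.smallEtaleTopology Y'.smallEtaleTopology).unit.app F).hom =
    (EtCoh.bc g).op.lanUnit.app F.obj ≫ Functor.whiskerLeft (EtCoh.bc g).op
      (toSheafify Y'.smallEtaleTopology ((EtCoh.bc g).op.lan.obj F.obj)) := by
  have h := Adjunction.map_restrictFullyFaithful_unit_app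
    (L := Functor.sheafPullbackConstruction.sheafPullback (EtCoh.bc g) (Type (u + 1))
      Y.smallEtaleTopology Y'.smallEtaleTopology)
    (R := (EtCoh.bc g).sheafPushforwardContinuous (Type (u + 1))
      Y.smallEtaleTopology Y'.smallEtaleTopology)
    (adj := ((EtCoh.bc g).op.lanAdjunction (Type (u + 1))).comp
      (sheafificationAdjunction Y'.smallEtaleTopology (Type (u + 1))))
    (fullyFaithfulSheafToPresheaf Y.smallEtaleTopology (Type (u + 1)))
    (Functor.FullyFaithful.id _) (Iso.refl _) (Iso.refl _) F
  simp only [Adjunction.comp_unit_app, Functor.lanAdjunction_unit, Iso.refl_hom, NatTrans.id_app] at h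
  refine h.trans ?_
  erw [CategoryTheory.Functor.map_id, Category.id_comp, Category.comp_id]

/-- Elementwise: two sections identified by the unit of the Kan-extension adjunction agree on a covering. -/
lemma exists_sieve_of_unit_eq [Surjective g] (F : EtDesc.Sh Y) (U : Y.Etale)
    (s t : F.obj.obj (op U))
    (hs : (toSheafify Y'.smallEtaleTopology ((EtCoh.bc g).op.lan.obj F.obj)).app (op ((EtCoh.bc g).obj U))
      (((EtCoh.bc g).op.lanUnit.app F.obj).app (op U) s) =
      (toSheafify Y'.smallEtaleTopology ((EtCoh.bc g).op.lan.obj F.obj)).app (op ((EtCoh.bc g).obj U))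
      (((EtCoh.bc g).op.lanUnit.app F.obj).app (op U) t)) :
    ∀ x : U.left, ∃ (W : Y.Etale) (w : W ⟶ U) (y : W.left),
      F.obj.map w.op s = F.obj.map w.op t ∧ w.left y = x := by
  intro x
  let G := EtCoh.bc g
  let P := G.op.lan.obj F.obj
  let a := (G.op.lanUnit.app F.obj).app (op U) s
  let b := (G.op.lanUnit.app F.obj).app (op U) t
  have hloc := Presheaf.equalizerSieve_mem Y'.smallEtaleTopology (toSheafify Y'.smallEtaleTopology P)
    (X := op (G.obj U)) a b hs
  rw [EtOpenSub.mem_smallEtaleTopology_iff'] at hloc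
  obtain ⟨y', hy'⟩ := (inferInstance : Surjective g).surj (U.hom x)
  obtain ⟨z, hz1, -⟩ := Scheme.Pullback.exists_preimage_pullback (f := U.hom) (g := g) x y' hy'.symm
  obtain ⟨V', h, v', hh, hv'⟩ := hloc z
  change P.map h.op a = P.map h.op b at hh
  have hpt := Functor.isPointwiseLeftKanExtensionOfIsLeftKanExtension (G.op.lan.obj F.obj)
    (G.op.lanUnit.app F.obj) (op V')
  let j0 : CostructuredArrow G.op (op V') := CostructuredArrow.mk (Y := op U) h.op
  have hj0 : ((Functor.LeftExtension.mk _ (G.op.lanUnit.app F.obj)).coconeAt (op V')).ι.app j0 s =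
      ((Functor.LeftExtension.mk _ (G.op.lanUnit.app F.obj)).coconeAt (op V')).ι.app j0 t := by
    exact hh
  obtain ⟨k, f, hf⟩ := eq_stage hpt (j := j0) s t hj0
  let W : Y.Etale := k.left.unop
  let w : W ⟶ U := f.left.unop
  let k' : V' ⟶ G.obj W := k.hom.unop
  have hw : k' ≫ G.map w = h := by
    have := CostructuredArrow.w f
    exact congrArg Quiver.Hom.unop this
  have hsq := (EtCoh.isPullback_bc_map g w).w
  refine ⟨W, w, (pullback.fst W.hom g) (k'.left v'), hf, ?_⟩
  have e1 : (pullback.fst W.hom g ≫ w.left) (k'.left v') = x := by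
    have h4 : (pullback.fst W.hom g ≫ w.left) (k'.left v') =
        ((G.map w).left ≫ pullback.fst U.hom g) (k'.left v') :=
      congrArg (fun m : (G.obj W).left ⟶ U.left => m (k'.left v')) hsq.symm
    have e2 : (k'.left ≫ (G.map w).left) v' = z := by
      have : k'.left ≫ (G.map w).left = h.left := by
        rw [← hw]; rfl
      rw [this, hv']
    have e3 : ((G.map w).left ≫ pullback.fst U.hom g) (k'.left v') =
        (pullback.fst U.hom g) ((k'.left ≫ (G.map w).left) v') := rfl
    rw [h4, e3, e2, hz1]
  exact e1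

theorem mono_unit [Surjective g] (F : EtDesc.Sh Y) : Mono ((EtDesc.adjSh g).unit.app F) := by
  let adj₁ := EtDesc.adjSh g
  let adj₂ := Functor.sheafPullbackConstruction.sheafAdjunctionContinuous (EtCoh.bc g)
    (Type (u + 1)) Y.smallEtaleTopology Y'.smallEtaleTopology
  have hfac : adj₁.unit.app F ≫ (EtDesc.pushSh g).map ((Adjunction.leftAdjointUniq adj₁ adj₂).hom.app F) =
      adj₂.unit.app F := Adjunction.unit_leftAdjointUniq_hom_app adj₁ adj₂ F
  have hmono' : Mono (adj₂.unit.app F).hom := by
    apply (config := { allowSynthFailures := true }) NatTrans.mono_of_mono_app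
    intro U
    obtain ⟨U⟩ := U
    rw [mono_iff_injective]
    intro s t hst
    have hs' : (toSheafify Y'.smallEtaleTopology ((EtCoh.bc g).op.lan.obj F.obj)).app
        (op ((EtCoh.bc g).obj U)) (((EtCoh.bc g).op.lanUnit.app F.obj).app (op U) s) =
        (toSheafify Y'.smallEtaleTopology ((EtCoh.bc g).op.lan.obj F.obj)).app
        (op ((EtCoh.bc g).obj U)) (((EtCoh.bc g).op.lanUnit.app F.obj).app (op U) t) := by
      have h1 := constr_unit_hom g F
      have h2 := congrArg (fun (α : F.obj ⟶ _) => α.app (op U) s) h1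
      have h3 := congrArg (fun (α : F.obj ⟶ _) => α.app (op U) t) h1
      exact h2.symm.trans (hst.trans h3)
    have hcov := exists_sieve_of_unit_eq g F U s t hs'
    let T : Sieve U :=
      { arrows := fun W w => F.obj.map w.op s = F.obj.map w.op t
        downward_closed := by
          intro W W' w hw w'
          change F.obj.map (w' ≫ w).op s = F.obj.map (w' ≫ w).op t
          rw [op_comp, F.obj.map_comp]
          exact congrArg (F.obj.map w'.op) hw }
    have hT : T ∈ Y.smallEtaleTopology U := by
      rw [EtOpenSub.mem_smallEtaleTopology_iff']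
      intro x
      obtain ⟨W, w, y, h1, h2⟩ := hcov x
      exact ⟨W, w, y, h1, h2⟩
    refine (Sheaf.isSeparated F) U T hT s t ?_
    intro W w hw
    exact hw
  have hmono : Mono (adj₂.unit.app F) := Sheaf.Hom.mono_of_presheaf_mono _ _ _
  exact mono_of_mono_fac hfac

end Main


/-- For a surjective morphism of schemes f : X' -> X, the inverse image functor f^* on sheaves of sets
for the small etale sites is faithful and reflects isomorphisms. -/
theorem result {X' X : Scheme.{u}} (f : X' ⟶ X) [Surjective f] :
    (EtDesc.pullSh f).Faithful ∧ (EtDesc.pullSh f).ReflectsIsomorphisms := by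
  have hm : ∀ F : EtDesc.Sh X, Mono ((EtDesc.adjSh f).unit.app F) := fun F => mono_unit f F
  have hf : (EtDesc.pullSh f).Faithful := (EtDesc.adjSh f).faithful_L_of_mono_unit_app
  refine ⟨hf, ?_⟩
  have h1 : (EtDesc.pullSh f).ReflectsMonomorphisms := Functor.reflectsMonomorphisms_of_faithful _
  have h2 : (EtDesc.pullSh f).ReflectsEpimorphisms := Functor.reflectsEpimorphisms_of_faithful _
  exact reflectsIsomorphisms_of_reflectsMonomorphisms_of_reflectsEpimorphisms _

end Groth.Agent.S3047
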