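import Groth.Statements.S0793
import Groth.Agent.Lib.Helper88.ProperOver
import Mathlib.AlgebraicGeometry.PullbackCarrier
-- import your own Groth.Agent.* helpers here

set_option autoImplicit false
universe u
open Coherent

namespace Groth.Agent.S0793

open CategoryTheory AlgebraicGeometry in
/-- Consider a cartesian square with X' = X ×_S S', projections g' : X' → X and f' : X' → S', where f :
X → S is locally of finite type. If Z ⊆ X is closed and proper over S, then its preimage under g' is
closed in X' and proper over S'. -/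
theorem result {X S X' S' : Scheme.{u}} (f : X ⟶ S) [LocallyOfFiniteType f]
    (g : S' ⟶ S) (g' : X' ⟶ X) (f' : X' ⟶ S') (sq : IsPullback g' f' f g)
    (Z : Set X) (hZ : ClSub.IsProperOver f Z) : ClSub.IsProperOver f' (⇑g' ⁻¹' Z) := by
  obtain ⟨hZc, hp⟩ := hZ
  set i₀ := (Scheme.IdealSheafData.vanishingIdeal ⟨Z, hZc⟩).subschemeι with hi₀
  have hrange₀ : Set.range ⇑i₀ = Z := by
    rw [hi₀, Scheme.IdealSheafData.range_subschemeι]
    exact Scheme.IdealSheafData.coe_support_vanishingIdeal _
  have hr : Set.range ⇑(Limits.pullback.fst g' i₀) = ⇑g' ⁻¹' Z := by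
    rw [Scheme.Pullback.range_fst, hrange₀]
  have hlft : LocallyOfFiniteType f' := MorphismProperty.of_isPullback sq inferInstance
  -- the big rectangle is cartesian
  have htop : IsPullback (Limits.pullback.snd g' i₀) (Limits.pullback.fst g' i₀) i₀ g' :=
    (IsPullback.of_hasPullback g' i₀).flip
  have hbig : IsPullback (Limits.pullback.snd g' i₀) (Limits.pullback.fst g' i₀ ≫ f')
      (i₀ ≫ f) g := htop.paste_vert sq
  have hprop : IsProper (Limits.pullback.fst g' i₀ ≫ f') :=
    MorphismProperty.of_isPullback hbig hp
  exact (Groth.Agent.Lib.Helper88.isProperOver_iff_of_isClosedImmersion f'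
    (Limits.pullback.fst g' i₀) _ hr).mpr hprop

end Groth.Agent.S0793
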