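import Groth.Statements.S0914
import Mathlib
import Groth.Agent.Lib.Helper30.PerfFlat2

set_option autoImplicit false
universe u
open CategoryTheory
attribute [local instance] HasDerivedCategory.standard
open DCoh

namespace Groth.Agent.S0914

open Groth.Agent.Lib.Helper30.PerfRestrict Groth.Agent.Lib.Helper30.PCTriangle
  Groth.Agent.Lib.Helper30.PerfFlat2 Groth.Agent.Lib.Helper49

open AlgebraicGeometry in
/-- pseudo-coherence restricts along open immersions -/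
theorem isPseudoCoherentD_restrict {X U : Scheme.{u}} (j : U ⟶ X) [IsOpenImmersion j] (m : ℤ)
    (K : DCoh.D X) (h : DCoh.IsPseudoCoherentD m K) :
    DCoh.IsPseudoCoherentD m ((rD j).obj K) := by
  rw [isPseudoCoherentD_iff] at h ⊢
  intro y
  obtain ⟨V, hxV, hV⟩ := h (j y)
  let W : U.Opens := j ⁻¹ᵁ V
  have hyW : y ∈ W := hxV
  have hrange : Set.range (W.ι ≫ j) ⊆ Set.range V.ι := by
    rintro _ ⟨z, rfl⟩
    rw [Scheme.Opens.range_ι]
    exact z.2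
  let g : (W : Scheme.{u}) ⟶ (V : Scheme.{u}) := IsOpenImmersion.lift V.ι (W.ι ≫ j) hrange
  have hg : g ≫ V.ι = W.ι ≫ j := IsOpenImmersion.lift_fac _ _ _
  have : IsOpenImmersion g := IsOpenImmersion.of_comp g V.ι
  refine ⟨W, hyW, ?_⟩
  exact PCObj.of_iso ((rDComp W.ι j).app K) (PCObj.of_fac g V.ι (W.ι ≫ j) hg hV)

open AlgebraicGeometry in
/-- An object E of D(O_X) is perfect if and only if it is m-pseudo-coherent for every m and locally has
finite tor dimension. -/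
theorem result {X : Scheme.{u}} (E : DCoh.D X) :
    DCoh.IsPerfect E ↔ (∀ m : ℤ, DCoh.IsPseudoCoherentD m E) ∧ DCoh.LocHasFiniteTorDim E := by
  let F₀ := DerivedCategory.Q.objPreimage E
  let e₀ : DerivedCategory.Q.obj F₀ ≅ E := DerivedCategory.Q.objObjPreimageIso E
  constructor
  · intro h
    rw [isPerfect_iff] at h
    refine ⟨fun m => ?_, fun x => ?_⟩
    · rw [isPseudoCoherentD_iff]
      intro x
      obtain ⟨V, hxV, hV⟩ := h x
      exact ⟨V, hxV, hV.pcObj m⟩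
    · obtain ⟨V, hxV, P, ⟨⟨a, b, hab⟩, hfl⟩, ⟨f⟩⟩ := h x
      refine ⟨V, a, b, hxV, fun F' ⟨e'⟩ => ⟨P, hab, fun i => isFlat_of_isFinLocFree _ (hfl i), ⟨?_⟩⟩⟩
      exact f.symm ≪≫ (rD V.ι).mapIso e'.symm ≪≫ (rDQ V.ι).app F'
  · rintro ⟨hpc, htor⟩
    apply isPerfect_of_openImmersions
    intro x
    obtain ⟨V, a, b, hxV, hV⟩ := htor x
    obtain ⟨G, hG, hGfl, ⟨e⟩⟩ := hV F₀ ⟨e₀⟩
    have h1 : DCoh.HasFlatAmplitudeIn a b ((rD V.ι).obj E) :=
      ⟨G, hG, hGfl, ⟨e ≪≫ ((rDQ V.ι).app F₀).symm ≪≫ (rD V.ι).mapIso e₀⟩⟩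
    have h2 : DCoh.IsPseudoCoherentD (a - 1) ((rD V.ι).obj E) :=
      isPseudoCoherentD_restrict V.ι (a - 1) E (hpc (a - 1))
    have h3 := isPerfect_of_flat_of_pc ((rD V.ι).obj E) a b h1 h2
    rw [isPerfect_iff] at h3
    obtain ⟨V', hxV', hV'⟩ := h3 ⟨x, hxV⟩
    refine ⟨V', V'.ι ≫ V.ι, inferInstance, ⟨⟨⟨x, hxV⟩, hxV'⟩, rfl⟩, ?_⟩
    exact PerfObj.of_iso ((rDComp V'.ι V.ι).app E).symm hV'

end Groth.Agent.S0914
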