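import Groth.Statements.S0889
import Mathlib
import Groth.Agent.Lib.Helper30.PCTriangle

set_option autoImplicit false
universe u
open CategoryTheory
attribute [local instance] HasDerivedCategory.standard
open DCoh

namespace Groth.Agent.S0889

open AlgebraicGeometry CategoryTheory.Pretriangulated in
/-- Pseudo-coherence in a distinguished triangle K -> L -> M -> K[1] of D(O_X). Part (1): M inherits
m-pseudo-coherence from (m+1)-pseudo-coherence of K together with m-pseudo-coherence of L. Part (2):
L inherits m-pseudo-coherence from K and M. Part (3): K inherits (m+1)-pseudo-coherence from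
(m+1)-pseudo-coherence of L together with m-pseudo-coherence of M. -/
theorem result {X : Scheme.{u}} (m : ℤ) (T : Triangle (DCoh.D X))
    (hT : T ∈ distinguishedTriangles) :
    (DCoh.IsPseudoCoherentD (m + 1) T.obj₁ → DCoh.IsPseudoCoherentD m T.obj₂ → DCoh.IsPseudoCoherentD m T.obj₃) ∧
    (DCoh.IsPseudoCoherentD m T.obj₁ → DCoh.IsPseudoCoherentD m T.obj₃ → DCoh.IsPseudoCoherentD m T.obj₂) ∧
    (DCoh.IsPseudoCoherentD (m + 1) T.obj₂ → DCoh.IsPseudoCoherentD m T.obj₃ →
      DCoh.IsPseudoCoherentD (m + 1) T.obj₁) := by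
  refine ⟨fun h1 h2 => Groth.Agent.Lib.Helper30.PCTriangle.isPseudoCoherentD_obj₃ T hT m h1 h2,
    fun h1 h3 => ?_, fun h2 h3 => ?_⟩
  · have h3' : DCoh.IsPseudoCoherentD (m + 1) T.invRotate.obj₁ := by
      have := Groth.Agent.Lib.Helper30.PCTriangle.isPseudoCoherentD_shift T.obj₃ m (-1) h3
      rwa [show m - (-1) = m + 1 by omega] at this
    exact Groth.Agent.Lib.Helper30.PCTriangle.isPseudoCoherentD_obj₃ T.invRotate
      (Pretriangulated.inv_rot_of_distTriang T hT) m h3' h1
  · have h := Groth.Agent.Lib.Helper30.PCTriangle.isPseudoCoherentD_obj₃ T.rotate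
      (Pretriangulated.rot_of_distTriang T hT) m h2 h3
    have h' := Groth.Agent.Lib.Helper30.PCTriangle.isPseudoCoherentD_shift _ m (-1) h
    rw [show m - (-1) = m + 1 by omega] at h'
    exact Groth.Agent.Lib.Helper30.PCTriangle.isPseudoCoherentD_of_iso
      ((shiftFunctorCompIsoId (DCoh.D X) (1 : ℤ) (-1) (by simp)).app T.obj₁) (m + 1) h'

end Groth.Agent.S0889
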