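import Groth.Statements.S0890
import Mathlib
import Groth.Agent.Lib.Helper30.StrictPerfHomology

set_option autoImplicit false
universe u
open CategoryTheory
attribute [local instance] HasDerivedCategory.standard
open DCoh

namespace Groth.Agent.S0890

open AlgebraicGeometry CategoryTheory.Limits
open Groth.Agent.Lib.Helper30.PerfRestrict Groth.Agent.Lib.Helper30.StrictPerfHomology
open Groth.Agent.Lib.Helper49 Groth.Agent.Lib.Helper6

/-- finite presentation is local (in terms of restrictions being finitely presented) -/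
theorem isFP_of_forall_restrict {X : Scheme.{u}} (M : X.Modules)
    (h : ∀ x : X, ∃ V : X.Opens, x ∈ V ∧ CohB1.IsFP (M.restrict V.ι)) : CohB1.IsFP M := by
  choose V hxV hV using h
  have key := fun x => exists_cover_of_isFinitePresentation (M.restrict (V x).ι) (hV x)
  choose κ U hU hP using key
  refine isFinitePresentation_of_forall_restrict M (ι := Σ x : X, κ x)
    (fun p => ((U p.1 p.2 : (V p.1 : Scheme.{u}).Opens) : Scheme.{u}))
    (fun p => (U p.1 p.2).ι ≫ (V p.1).ι) ?_ ?_
  · intro x
    have hx : (⟨x, hxV x⟩ : V x) ∈ (⨆ i, U x i : (V x : Scheme.{u}).Opens) := by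
      rw [hU x]; trivial
    obtain ⟨i, hi⟩ := TopologicalSpace.Opens.mem_iSup.mp hx
    exact ⟨⟨x, i⟩, ⟨⟨⟨x, hxV x⟩, hi⟩, rfl⟩⟩
  · intro p
    exact exists_presentation_of_iso
      ((Scheme.Modules.restrictFunctorComp (U p.1 p.2).ι (V p.1).ι).symm.app M) (hP p.1 p.2)

/-- the homology of `E` in degree `i`, through `Q`, restriction and the comparison `α` -/
lemma isZero_homology_of_witness {X : Scheme.{u}} {V : X.Opens} {K : DCoh.D X}
    {E : CochainComplex (V : Scheme.{u}).Modules ℤ}
    (α : DerivedCategory.Q.obj E ⟶ (rD V.ι).obj K) (i : ℤ)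
    (hα : IsIso ((DerivedCategory.homologyFunctor _ i).map α)) (hz : IsZero (DCoh.HD K i)) :
    IsZero (E.homology i) := by
  have h1 : IsZero ((DerivedCategory.homologyFunctor _ i).obj ((rD V.ι).obj K)) :=
    ((Scheme.Modules.restrictFunctor V.ι).map_isZero hz).of_iso
      ((ExactDC.homologyIso (Scheme.Modules.restrictFunctor V.ι) i).app K)
  exact h1.of_iso (((DerivedCategory.homologyFunctorFactors _ i).app E).symm ≪≫
    asIso ((DerivedCategory.homologyFunctor _ i).map α))

open AlgebraicGeometry CategoryTheory.Limits in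
/-- For an m-pseudo-coherent object K of D(O_X): (1) vanishing of the cohomology sheaves above degree m
makes H^m(K) an O_X-module of finite type; (2) vanishing above degree m + 1 makes H^{m+1}(K) an
O_X-module of finite presentation. -/
theorem result {X : Scheme.{u}} (m : ℤ) (K : DCoh.D X)
    (hK : DCoh.IsPseudoCoherentD m K) :
    ((∀ i : ℤ, m < i → IsZero (DCoh.HD K i)) → CohB1.IsFT (DCoh.HD K m)) ∧
    ((∀ i : ℤ, m + 1 < i → IsZero (DCoh.HD K i)) → CohB1.IsFP (DCoh.HD K (m + 1))) := by
  rw [isPseudoCoherentD_iff] at hK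
  constructor
  · intro hz
    choose V hxV hV using hK
    refine isFiniteType_of_forall_restrict (DCoh.HD K m) (fun x : X => (V x : Scheme.{u}))
      (fun x => (V x).ι) (fun x => ⟨x, ⟨⟨x, hxV x⟩, rfl⟩⟩) (fun x => ?_)
    obtain ⟨E, α, hE, h1, h2⟩ := hV x
    have hEz : ∀ i, m < i → IsZero (E.homology i) := fun i hi =>
      isZero_homology_of_witness α i (h1 i hi) (hz i hi)
    have hfp : CohB1.IsFP (E.homology m) := isFP_homology_top E hE m hEz
    have hft : CohB1.IsFT (E.homology m) := inferInstance
    have hft' : CohB1.IsFT ((DerivedCategory.homologyFunctor _ m).obj (DerivedCategory.Q.obj E)) :=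
      isFiniteType_of_iso ((DerivedCategory.homologyFunctorFactors _ m).app E).symm hft
    have hft'' : CohB1.IsFT ((DerivedCategory.homologyFunctor _ m).obj ((rD (V x).ι).obj K)) :=
      isFiniteType_of_epi ((DerivedCategory.homologyFunctor _ m).map α) hft'
    exact isFiniteType_of_iso
      ((ExactDC.homologyIso (Scheme.Modules.restrictFunctor (V x).ι) m).app K) hft''
  · intro hz
    apply isFP_of_forall_restrict
    intro x
    obtain ⟨V, hxV, E, α, hE, h1, h2⟩ := hK x
    refine ⟨V, hxV, ?_⟩
    have hEz : ∀ i, m + 1 < i → IsZero (E.homology i) := fun i hi =>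
      isZero_homology_of_witness α i (h1 i (by omega)) (hz i hi)
    have hfp : CohB1.IsFP (E.homology (m + 1)) := isFP_homology_top E hE (m + 1) hEz
    have := h1 (m + 1) (by omega)
    exact isFinitePresentation_of_iso
      (((DerivedCategory.homologyFunctorFactors _ (m + 1)).app E).symm ≪≫
        asIso ((DerivedCategory.homologyFunctor _ (m + 1)).map α) ≪≫
        (ExactDC.homologyIso (Scheme.Modules.restrictFunctor V.ι) (m + 1)).app K) hfp

end Groth.Agent.S0890
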