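import Groth.Statements.S0985
import Groth.Agent.Lib.Helper83.AB5Seq
import Mathlib.Algebra.Homology.DerivedCategory.ShortExact
import Mathlib.Algebra.Homology.GrothendieckAbelian
import Mathlib.CategoryTheory.Limits.Preserves.Shapes.Products
-- import your own Groth.Agent.* helpers here

set_option autoImplicit false
universe w v u
open CategoryTheory CategoryTheory.Limits
open DerLim

namespace Groth.Agent.S0985

/-- Let A be an abelian category in which colimits of sequences ℕ ⥤ A exist and are exact, and let L : ℕ
⥤ CochainComplex A ℤ be a sequence of complexes. Then the image in the derived category of the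
termwise colimit of L, with the canonical maps from the Lₙ, is a homotopy colimit of the images of
the Lₙ — assuming the termwise direct sum of the Lₙ exists and is preserved by the localization
functor to D(A) (a known result, carried here as a hypothesis rather than proved), and that the
direct sum of the images exists in D(A). -/
theorem result {A : Type u} [Category.{v} A] [Abelian A] [HasDerivedCategory.{w} A]
    [HasColimitsOfShape ℕ A] [HasExactColimitsOfShape ℕ A]
    (L : ℕ ⥤ CochainComplex A ℤ) [HasCoproduct L.obj] [PreservesColimit (Discrete.functor L.obj) (DerivedCategory.Q (C := A))]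
    [HasCoproduct (fun n => DerivedCategory.Q.obj (L.obj n))] :
    DerLim.IsHocolim (fun n => DerivedCategory.Q.obj (L.obj n)) (fun n => DerivedCategory.Q.map (L.map (homOfLE (Nat.le_succ n))))
      (DerivedCategory.Q.obj (colimit L)) (fun n => DerivedCategory.Q.map (colimit.ι L n)) := by
  classical
  let C := CochainComplex A ℤ
  -- the short exact sequence of complexes
  have hS := Groth.Agent.Lib.Helper83.AB5Seq.shortExact L
  have hT := DerivedCategory.triangleOfSES_distinguished hS
  -- comparison iso
  let QL : ℕ → DerivedCategory A := fun n => DerivedCategory.Q.obj (L.obj n)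
  let ψ : (∐ QL) ≅ DerivedCategory.Q.obj (∐ L.obj) :=
    (PreservesCoproduct.iso (DerivedCategory.Q (C := A)) L.obj).symm
  have hψ : ∀ n, Sigma.ι QL n ≫ ψ.hom = DerivedCategory.Q.map (Sigma.ι L.obj n) := fun n => by
    change Sigma.ι QL n ≫ (PreservesCoproduct.iso (DerivedCategory.Q (C := A)) L.obj).inv = _
    rw [PreservesCoproduct.inv_hom, ι_comp_sigmaComparison]
  have h1 : (𝟙 (∐ QL) - DerLim.shiftMap QL
        (fun n => DerivedCategory.Q.map (L.map (homOfLE (Nat.le_succ n))))) ≫ ψ.hom =
      ψ.hom ≫ DerivedCategory.Q.map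
        (Groth.Agent.Lib.Helper83.AB5Seq.d L.obj (Groth.Agent.Lib.Helper83.AB5Seq.tr L)) := by
    apply Sigma.hom_ext
    intro n
    rw [← Category.assoc, Preadditive.comp_sub, Category.comp_id, Preadditive.sub_comp]
    unfold DerLim.shiftMap
    rw [Sigma.ι_desc, Category.assoc, hψ, hψ, ← Category.assoc, hψ, ← Functor.map_comp,
      ← Functor.map_comp, Groth.Agent.Lib.Helper83.AB5Seq.ι_d, Functor.map_sub]
    rfl
  have h2 : Sigma.desc (fun n => DerivedCategory.Q.map (colimit.ι L n)) =
      ψ.hom ≫ DerivedCategory.Q.map (Groth.Agent.Lib.Helper83.AB5Seq.πF L) := by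
    apply Sigma.hom_ext
    intro n
    rw [Sigma.ι_desc, ← Category.assoc, hψ, ← Functor.map_comp,
      Groth.Agent.Lib.Helper83.AB5Seq.ι_πF]
  refine ⟨DerivedCategory.triangleOfSESδ hS ≫ (shiftFunctor (DerivedCategory A) (1 : ℤ)).map ψ.inv, ?_⟩
  refine Pretriangulated.isomorphic_distinguished _ hT _ ?_
  refine Pretriangulated.Triangle.isoMk _ _ ψ ψ (Iso.refl _) ?_ ?_ ?_
  · exact h1
  · change Sigma.desc (fun n => DerivedCategory.Q.map (colimit.ι L n)) ≫ 𝟙 _ =
      ψ.hom ≫ DerivedCategory.Q.map (Groth.Agent.Lib.Helper83.AB5Seq.πF L)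
    rw [Category.comp_id, h2]
  · change (DerivedCategory.triangleOfSESδ hS ≫ (shiftFunctor (DerivedCategory A) (1 : ℤ)).map ψ.inv) ≫
      (shiftFunctor (DerivedCategory A) (1 : ℤ)).map ψ.hom = 𝟙 _ ≫ DerivedCategory.triangleOfSESδ hS
    rw [Category.assoc, ← Functor.map_comp, Iso.inv_hom_id, CategoryTheory.Functor.map_id, Category.comp_id,
      Category.id_comp]
end Groth.Agent.S0985
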