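import Groth.Statements.S0583
import Groth.Agent.Lib.Helper31.Kaplansky

set_option autoImplicit false
universe u
open scoped Classical
open CAlg

namespace Groth.Agent.S0583

/-- If a module is an internal direct sum of countably generated submodules, then any direct summand of
it is again an internal direct sum of countably generated submodules. -/
theorem result (R : Type u) [CommRing R] (M : Type u)
    [AddCommGroup M] [Module R M] (ι : Type u) (N : ι → Submodule R M) (hN : DirectSum.IsInternal N)
    (hc : ∀ i, CAlg.IsCountablyGenerated R (N i)) (P Q : Submodule R M) (hPQ : IsCompl P Q) :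
    ∃ (κ : Type u) (L : κ → Submodule R P), DirectSum.IsInternal L ∧
      ∀ k, CAlg.IsCountablyGenerated R (L k) := by
  obtain ⟨S, i1, i2, Mf, h1, h2, h3, h4⟩ :=
    Groth.Agent.Lib.Helper31.Kaplansky.exists_devissage N P Q hPQ
      hN.submodule_iSupIndep hN.submodule_iSup_eq_top hc
  obtain ⟨C, hC1, hC2, hC3⟩ :=
    Groth.Agent.Lib.Helper31.Devissage.exists_isInternal_of_devissage Mf h1 h2 h4
  obtain ⟨L, hL1, hL2, hL3⟩ :=
    Groth.Agent.Lib.Helper31.Kaplansky.exists_isInternal_submodule P C hC1 (hC2.trans h3) hC3
  refine ⟨{p : S × S // p.1 ⋖ p.2}, L, ?_, hL3⟩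
  convert DirectSum.isInternal_submodule_of_iSupIndep_of_iSup_eq_top hL1 hL2
  rfl

end Groth.Agent.S0583
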