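import Groth.Statements.S0582
import Mathlib
import Groth.Agent.S0583
import Groth.Agent.Lib.Helper62.KaplanskyLocal

set_option autoImplicit false
universe u
open CAlg

namespace Groth.Agent.S0582

open Groth.Agent.Lib.Helper62.KaplanskyLocal

open scoped Classical in
/-- A direct summand of a direct sum of countably generated modules over a local ring, which is
projective, is free. -/
theorem free_of_isCompl (R : Type u) [CommRing R] [IsLocalRing R] (M : Type u) [AddCommGroup M]
    [Module R M] (ι : Type u) (N : ι → Submodule R M) (hN : DirectSum.IsInternal N)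
    (hc : ∀ i, CAlg.IsCountablyGenerated R (N i)) (P' Q : Submodule R M) (hPQ : IsCompl P' Q)
    [Module.Projective R P'] : Module.Free R P' := by
  classical
  obtain ⟨κ, L, hL, hLc⟩ := Groth.Agent.S0583.result R M ι N hN hc P' Q hPQ
  let e : (DirectSum κ fun k => L k) ≃ₗ[R] P' :=
    LinearEquiv.ofBijective (DirectSum.coeLinearMap L) hL
  have hproj : ∀ k, Module.Projective R (L k) := by
    intro k
    refine Module.Projective.of_split (L k).subtype
      ((DirectSum.component R κ (fun k => L k) k) ∘ₗ e.symm.toLinearMap) ?_
    refine LinearMap.ext fun x => ?_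
    have h1 : e (DirectSum.lof R κ (fun k => L k) k x) = (x : P') := by
      show DirectSum.coeLinearMap L (DirectSum.lof R κ (fun k => L k) k x) = (x : P')
      exact DirectSum.coeLinearMap_of L k x
    have h2 : e.symm (x : P') = DirectSum.lof R κ (fun k => L k) k x := by
      rw [← h1, LinearEquiv.symm_apply_apply]
    simp only [LinearMap.coe_comp, LinearEquiv.coe_coe, Function.comp_apply,
      Submodule.subtype_apply, LinearMap.id_coe, id_eq]
    rw [h2, DirectSum.component.lof_self]
  have hfree : ∀ k, Module.Free R (L k) := by
    intro k
    have := hproj k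
    have h2 : ∃ s : Set (L k), s.Countable ∧ Submodule.span R s = ⊤ := hLc k
    exact free_of_countablyGenerated h2
  exact Module.Free.of_basis (hL.collectedBasis fun k => Module.Free.chooseBasis R (L k))

/-- A projective module, not necessarily finitely generated, over a local ring is free. -/
theorem result (R : Type u) [CommRing R] [IsLocalRing R] (P : Type u)
    [AddCommGroup P] [Module R P] [Module.Projective R P] : Module.Free R P := by
  classical
  obtain ⟨s, hs⟩ := Module.projective_def'.mp ‹Module.Projective R P›
  let π : (P →₀ R) →ₗ[R] P := Finsupp.linearCombination R id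
  have hπs : ∀ z, π (s z) = z := fun z => LinearMap.congr_fun hs z
  have hinj : Function.Injective s := fun a b hab => by rw [← hπs a, ← hπs b, hab]
  let b : Module.Basis P R (P →₀ R) := Finsupp.basisSingleOne
  let N : P → Submodule R (P →₀ R) := fun i => Submodule.span R {b i}
  have hN : DirectSum.IsInternal N := by
    apply DirectSum.isInternal_submodule_of_iSupIndep_of_iSup_eq_top
    · exact b.linearIndependent.iSupIndep_span_singleton
    · rw [← Submodule.span_range_eq_iSup, b.span_eq]
  have hc : ∀ i, CAlg.IsCountablyGenerated R (N i) := by
    intro i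
    refine ⟨{⟨b i, Submodule.mem_span_singleton_self _⟩}, Set.countable_singleton _, ?_⟩
    rw [eq_top_iff]
    rintro ⟨z, hz⟩ -
    obtain ⟨c, rfl⟩ := Submodule.mem_span_singleton.mp hz
    rw [Submodule.mem_span_singleton]
    exact ⟨c, rfl⟩
  have hPQ : IsCompl (LinearMap.range s) (LinearMap.ker π) := by
    constructor
    · rw [Submodule.disjoint_def]
      rintro z ⟨p, rfl⟩ hz
      have : π (s p) = 0 := hz
      rw [hπs] at this
      rw [this, map_zero]
    · rw [codisjoint_iff, eq_top_iff]
      intro z _
      have : z = s (π z) + (z - s (π z)) := by abel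
      rw [this]
      refine Submodule.add_mem_sup ⟨_, rfl⟩ ?_
      show _ ∈ LinearMap.ker π
      rw [LinearMap.mem_ker, map_sub, hπs, sub_self]
  let e0 : P ≃ₗ[R] LinearMap.range s := LinearEquiv.ofInjective s hinj
  have : Module.Projective R (LinearMap.range s) := Module.Projective.of_equiv e0
  have hfree' : Module.Free R (LinearMap.range s) :=
    free_of_isCompl R (P →₀ R) P N hN hc _ _ hPQ
  exact Module.Free.of_equiv e0.symm

end Groth.Agent.S0582
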