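import Groth.Statements.S7109
import Mathlib.LinearAlgebra.FreeModule.Finite.Basic
import Mathlib.LinearAlgebra.StdBasis
import Mathlib.RingTheory.Finiteness.Cardinality

set_option autoImplicit false
universe u
open CAlg

namespace Groth.Agent.S7109

/-- Let P be a projective module over a ring R and s an element of P. Then there are a finite free
module R^n and a direct summand K of R^n ⊕ P which is finite free and contains (0, s). -/
theorem result (R : Type u) [CommRing R] (P : Type u) [AddCommGroup P]
    [Module R P] [Module.Projective R P] (s : P) :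
    ∃ (n : ℕ) (K K' : Submodule R ((Fin n → R) × P)), IsCompl K K' ∧ Module.Free R K ∧ Module.Finite R K ∧
      ((0, s) : (Fin n → R) × P) ∈ K := by
  classical
  obtain ⟨sec, hsec⟩ := Module.projective_def'.mp ‹Module.Projective R P›
  let t : Finset P := (sec s).support
  let n := t.card
  let enum : Fin n ≃ t := t.equivFin.symm
  let v : P →ₗ[R] (Fin n → R) := LinearMap.pi fun i => (Finsupp.lapply (enum i : P)) ∘ₗ sec
  let u : (Fin n → R) →ₗ[R] P := Fintype.linearCombination R (fun i => (enum i : P))
  have huv : u (v s) = s := by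
    have h1 : u (v s) = ∑ i, (sec s) (enum i : P) • (enum i : P) := by
      simp [u, v, Fintype.linearCombination_apply]
    have h2 : ∑ i, (sec s) (enum i : P) • (enum i : P) = ∑ x : t, (sec s) (x : P) • (x : P) :=
      Equiv.sum_comp enum (fun x : t => (sec s) (x : P) • (x : P))
    have h3 : ∑ x : t, (sec s) (x : P) • (x : P) = ∑ x ∈ t, (sec s) x • x :=
      Finset.sum_coe_sort t (fun x => (sec s) x • x)
    have h4 : Finsupp.linearCombination R (id : P → P) (sec s) = ∑ x ∈ t, (sec s) x • x := by
      rw [Finsupp.linearCombination_apply, Finsupp.sum]; rfl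
    have h5 := LinearMap.congr_fun hsec s
    simp only [LinearMap.comp_apply, LinearMap.id_apply] at h5
    rw [h1, h2, h3, ← h4, h5]
  let A : ((Fin n → R) × P) ≃ₗ[R] ((Fin n → R) × P) :=
    LinearEquiv.skewProd (LinearEquiv.refl R (Fin n → R)) (LinearEquiv.refl R P) u
  let B : ((Fin n → R) × P) ≃ₗ[R] ((Fin n → R) × P) :=
    (LinearEquiv.prodComm R (Fin n → R) P) ≪≫ₗ
      (LinearEquiv.skewProd (LinearEquiv.refl R P) (LinearEquiv.refl R (Fin n → R)) (-v)) ≪≫ₗ
      (LinearEquiv.prodComm R P (Fin n → R))
  let Φ := A ≪≫ₗ B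
  have hΦ : ∀ x p, Φ (x, p) = (x - v (p + u x), p + u x) := by
    intro x p
    simp [Φ, A, B, sub_eq_add_neg]
  let K0 := LinearMap.range (LinearMap.inl R (Fin n → R) P)
  let K0' := LinearMap.range (LinearMap.inr R (Fin n → R) P)
  have hc : IsCompl K0 K0' := LinearMap.isCompl_range_inl_inr
  refine ⟨n, K0.map (Φ : _ →ₗ[R] _), K0'.map (Φ : _ →ₗ[R] _), ?_, ?_, ?_, ?_⟩
  · exact hc.map (Submodule.orderIsoMapComap Φ)
  · exact Module.Free.of_equiv
      ((LinearEquiv.ofInjective (LinearMap.inl R (Fin n → R) P) LinearMap.inl_injective).trans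
        (Φ.submoduleMap K0))
  · exact Module.Finite.equiv
      ((LinearEquiv.ofInjective (LinearMap.inl R (Fin n → R) P) LinearMap.inl_injective).trans
        (Φ.submoduleMap K0))
  · refine ⟨(v s, 0), ⟨v s, rfl⟩, ?_⟩
    have := hΦ (v s) 0
    simp only [zero_add, huv, sub_self] at this
    exact this

end Groth.Agent.S7109
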