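import Groth.Statements.S0364
import Groth.Agent.Lib.Helper6.Bidual7
import Groth.Agent.Lib.Helper6.HomBC6

set_option autoImplicit false
universe u v
open CategoryTheory
attribute [local instance] HasDerivedCategory.standard
open Dual

namespace Groth.Agent.S0364

/-- For a dualizing complex ω over a Noetherian ring and a maximal ideal m with residue field κ = A/m,
the groups Hom(κ, ω[i]) in D(A) vanish except in one degree n, where the group is isomorphic to κ as
an A-module. -/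
theorem result (A : Type u) [CommRing A] [IsNoetherianRing A] (ω : Dual.D A) (hω : Dual.IsDualizing A ω) (m : Ideal A) [m.IsMaximal] : ∃ n : ℤ, (∀ i : ℤ, i ≠ n → Subsingleton (Dual.inD A (A ⧸ m) ⟶ ω⟦i⟧)) ∧ Nonempty ((Dual.inD A (A ⧸ m) ⟶ ω⟦n⟧) ≃ₗ[A] (A ⧸ m)) := by
  obtain ⟨a, b, hab⟩ := hω.finite_injective_dimension
  have h10 := (Lib.Helper35.KL.IA_tfae ω a b).out 1 0
  have hIA : Lib.Helper35.KL.IA a b ω := h10.1 (fun N i hi => hab N i hi)
  obtain ⟨I, hv, hinj, ⟨e⟩⟩ := hIA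
  have hd : Dual.IsDualizing A (DerivedCategory.Q.obj I) :=
    Lib.Helper6.HomBC.isDualizing_of_iso e.symm hω
  obtain ⟨n, h1, ⟨h2⟩⟩ := Lib.Helper6.Bidual.exists_unique_degree I a b hv hinj
    hd.toEnd_bijective hd.ext_self_subsingleton hd.finite_cohomology m
  let θ : ∀ i : ℤ, (Dual.inD A (A ⧸ m) ⟶ (DerivedCategory.Q.obj I : Dual.D A)⟦i⟧) ≃ₗ[A]
      (Dual.inD A (A ⧸ m) ⟶ ω⟦i⟧) := fun i =>
    Linear.homCongr A (Iso.refl _) ((CategoryTheory.shiftFunctor (Dual.D A) i).mapIso e)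
  refine ⟨n, fun i hi => ?_, ⟨(θ n).symm.trans h2⟩⟩
  have := h1 i hi
  exact (θ i).symm.toEquiv.subsingleton

end Groth.Agent.S0364
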