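import Groth.Statements.S1722
import Groth.Agent.S0364
import Groth.Agent.Lib.Helper6.LocDual

set_option autoImplicit false
universe u
open CategoryTheory
attribute [local instance] HasDerivedCategory.standard
open Dual

namespace Groth.Agent.S1722

/-- Let ω be a dualizing complex over a Noetherian ring A. There is a function δ from Spec A to the
integers such that, for every prime p and every integer i, the localization at p of the A-module of
maps A/p → ω[i] in D(A) is nonzero exactly when i = −δ(p); and δ is a dimension function: δ(p) =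
δ(q) + 1 whenever q covers p in Spec A (p ⊂ q with no prime strictly in between). -/
theorem result (A : Type u) [CommRing A] [IsNoetherianRing A] (ω : Dual.D A) (hω : Dual.IsDualizing A ω) : ∃ δ : PrimeSpectrum A → ℤ, (∀ (p : PrimeSpectrum A) (i : ℤ), Nontrivial (LocalizedModule p.asIdeal.primeCompl (Dual.inD A (A ⧸ p.asIdeal) ⟶ ω⟦i⟧)) ↔ i = -δ p) ∧ ∀ p q : PrimeSpectrum A, p ⋖ q → δ p = δ q + 1 := by
  classical
  obtain ⟨a, b, hge, hle, hab⟩ := Lib.Helper6.HomBC.isDualizing_bounds hω
  -- notation
  let Gω : ∀ p : PrimeSpectrum A, Dual.D (Localization.AtPrime p.asIdeal) := fun p =>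
    (Lib.Helper35.FlatBC.G A (Localization.AtPrime p.asIdeal)).obj ω
  have hG : ∀ p : PrimeSpectrum A, Dual.IsDualizing (Localization.AtPrime p.asIdeal) (Gω p) :=
    fun p => Lib.Helper6.LocDual.isDualizing_G_localization p.asIdeal.primeCompl ω hω
  have hn : ∀ p : PrimeSpectrum A, ∃ n : ℤ,
      (∀ i : ℤ, i ≠ n → Subsingleton (Dual.inD (Localization.AtPrime p.asIdeal)
        (Localization.AtPrime p.asIdeal ⧸ IsLocalRing.maximalIdeal (Localization.AtPrime p.asIdeal)) ⟶
          (Gω p)⟦i⟧)) ∧
      Nonempty ((Dual.inD (Localization.AtPrime p.asIdeal)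
        (Localization.AtPrime p.asIdeal ⧸ IsLocalRing.maximalIdeal (Localization.AtPrime p.asIdeal)) ⟶
          (Gω p)⟦n⟧) ≃ₗ[Localization.AtPrime p.asIdeal]
        (Localization.AtPrime p.asIdeal ⧸ IsLocalRing.maximalIdeal (Localization.AtPrime p.asIdeal))) :=
    fun p => Groth.Agent.S0364.result (Localization.AtPrime p.asIdeal) (Gω p) (hG p)
      (IsLocalRing.maximalIdeal (Localization.AtPrime p.asIdeal))
  choose n hn1 hn2 using hn
  -- localization of Hom from `A/P`
  have hK : ∀ (q : PrimeSpectrum A) (P : Ideal A) (i : ℤ),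
      Nonempty (LocalizedModule q.asIdeal.primeCompl (Dual.inD A (A ⧸ P) ⟶ ω⟦i⟧) ≃
        (Dual.inD (Localization.AtPrime q.asIdeal) (Localization.AtPrime q.asIdeal ⧸
          P.map (algebraMap A (Localization.AtPrime q.asIdeal))) ⟶ (Gω q)⟦i⟧)) := by
    intro q P i
    obtain ⟨e⟩ := Lib.Helper6.LocDual.nonempty_locHomEquiv q.asIdeal.primeCompl (A ⧸ P) ω a i
    let ψ : TensorProduct A (Localization.AtPrime q.asIdeal) (A ⧸ P) ≃ₗ[Localization.AtPrime q.asIdeal]
        (Localization.AtPrime q.asIdeal ⧸ P.map (algebraMap A (Localization.AtPrime q.asIdeal))) :=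
      (Algebra.TensorProduct.quotIdealMapEquivTensorQuot
        (Localization.AtPrime q.asIdeal) P).symm.toLinearEquiv
    exact ⟨e.trans (Iso.homCongr ((DerivedCategory.singleFunctor
      (ModuleCat.{u} (Localization.AtPrime q.asIdeal)) 0).mapIso ψ.toModuleIso) (Iso.refl _))⟩
  have hK1 : ∀ (p : PrimeSpectrum A) (i : ℤ),
      Nonempty (LocalizedModule p.asIdeal.primeCompl (Dual.inD A (A ⧸ p.asIdeal) ⟶ ω⟦i⟧) ≃
        (Dual.inD (Localization.AtPrime p.asIdeal) (Localization.AtPrime p.asIdeal ⧸
          IsLocalRing.maximalIdeal (Localization.AtPrime p.asIdeal)) ⟶ (Gω p)⟦i⟧)) := by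
    intro p i
    obtain ⟨e⟩ := hK p p.asIdeal i
    have hmap : p.asIdeal.map (algebraMap A (Localization.AtPrime p.asIdeal)) =
        IsLocalRing.maximalIdeal (Localization.AtPrime p.asIdeal) :=
      Localization.AtPrime.map_eq_maximalIdeal
    let ψ : (Localization.AtPrime p.asIdeal ⧸
        p.asIdeal.map (algebraMap A (Localization.AtPrime p.asIdeal))) ≃ₗ[Localization.AtPrime p.asIdeal]
        (Localization.AtPrime p.asIdeal ⧸ IsLocalRing.maximalIdeal (Localization.AtPrime p.asIdeal)) :=
      Submodule.quotEquivOfEq _ _ hmap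
    exact ⟨e.trans (Iso.homCongr ((DerivedCategory.singleFunctor
      (ModuleCat.{u} (Localization.AtPrime p.asIdeal)) 0).mapIso ψ.toModuleIso) (Iso.refl _))⟩
  have hfirst : ∀ (p : PrimeSpectrum A) (i : ℤ),
      Nontrivial (LocalizedModule p.asIdeal.primeCompl (Dual.inD A (A ⧸ p.asIdeal) ⟶ ω⟦i⟧)) ↔
        i = n p := by
    intro p i
    obtain ⟨e⟩ := hK1 p i
    constructor
    · intro hnt
      by_contra hne
      have := hn1 p i hne
      have hs : Subsingleton (LocalizedModule p.asIdeal.primeCompl
          (Dual.inD A (A ⧸ p.asIdeal) ⟶ ω⟦i⟧)) := e.subsingleton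
      exact not_subsingleton _ hs
    · rintro rfl
      obtain ⟨e2⟩ := hn2 p
      have : Nontrivial (Dual.inD (Localization.AtPrime p.asIdeal)
          (Localization.AtPrime p.asIdeal ⧸ IsLocalRing.maximalIdeal (Localization.AtPrime p.asIdeal)) ⟶
            (Gω p)⟦n p⟧) := e2.toEquiv.nontrivial
      exact e.nontrivial
  refine ⟨fun p => -n p, fun p i => ?_, ?_⟩
  · rw [hfirst p i, neg_neg]
  · intro p q hpq
    have hle' : p.asIdeal ≤ q.asIdeal := hpq.1.le
    have hdisj : Disjoint (q.asIdeal.primeCompl : Set A) (p.asIdeal : Set A) := by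
      rw [Set.disjoint_left]
      intro x hx hxp
      exact hx (hle' hxp)
    set Bq := Localization.AtPrime q.asIdeal with hBq
    set p' : Ideal Bq := p.asIdeal.map (algebraMap A Bq) with hp'
    have hp'prime : p'.IsPrime :=
      IsLocalization.isPrime_of_isPrime_disjoint q.asIdeal.primeCompl Bq p.asIdeal p.isPrime hdisj
    have hunder : p'.under A = p.asIdeal :=
      IsLocalization.under_map_of_isPrime_disjoint q.asIdeal.primeCompl Bq p.isPrime hdisj
    have hmunder : (IsLocalRing.maximalIdeal Bq).under A = q.asIdeal :=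
      Localization.AtPrime.under_maximalIdeal
    have hne : p' ≠ IsLocalRing.maximalIdeal Bq := by
      intro heq
      have h1 : p.asIdeal = q.asIdeal := by
        have h0 : p'.under A = (IsLocalRing.maximalIdeal Bq).under A := congrArg (Ideal.under A) heq
        exact hunder.symm.trans (h0.trans hmunder)
      exact hpq.1.ne (PrimeSpectrum.ext h1)
    have hcov : ∀ P : Ideal Bq, P.IsPrime → p' < P → P = IsLocalRing.maximalIdeal Bq := by
      intro P hP hlt
      have hP0 : (P.under A).IsPrime := Ideal.comap_isPrime _ P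
      let P0 : PrimeSpectrum A := ⟨P.under A, hP0⟩
      have h1 : p ≤ P0 := by
        change p.asIdeal ≤ P.under A
        exact hunder.symm.le.trans (Ideal.comap_mono hlt.le)
      have h2 : P0 ≤ q := by
        change P.under A ≤ q.asIdeal
        exact (Ideal.comap_mono (IsLocalRing.le_maximalIdeal hP.ne_top)).trans hmunder.le
      have h3 : p ≠ P0 := by
        intro heq
        have h4 : p.asIdeal = P.under A := congrArg PrimeSpectrum.asIdeal heq
        have h5 : P = p' := by
          have h0 : p' = (P.under A).map (algebraMap A Bq) := congrArg (Ideal.map (algebraMap A Bq)) h4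
          exact ((IsLocalization.map_under q.asIdeal.primeCompl Bq P).symm.trans h0.symm)
        exact hlt.ne h5.symm
      have h6 : P0 = q := by
        by_contra hne'
        exact hpq.2 (lt_of_le_of_ne h1 h3) (lt_of_le_of_ne h2 hne')
      have h7 : P.under A = q.asIdeal := congrArg PrimeSpectrum.asIdeal h6
      have h8 : (P.under A).map (algebraMap A Bq) = q.asIdeal.map (algebraMap A Bq) :=
        congrArg (Ideal.map (algebraMap A Bq)) h7
      exact (IsLocalization.map_under q.asIdeal.primeCompl Bq P).symm.trans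
        (h8.trans Localization.AtPrime.map_eq_maximalIdeal)
    have hDF : ∀ i : ℤ, i ≠ n q - 1 → Subsingleton (Dual.inD Bq (Bq ⧸ p') ⟶ (Gω q)⟦i⟧) :=
      fun i hi => Lib.Helper6.LocDual.subsingleton_hom_quot_prime_of_covBy (Gω q) (hG q) (n q)
        (hn1 q) p' hne hcov i hi
    -- the localization at `p` vanishes outside degree `n q - 1`
    have hvan : ∀ i : ℤ, i ≠ n q - 1 → Subsingleton (LocalizedModule p.asIdeal.primeCompl
        (Dual.inD A (A ⧸ p.asIdeal) ⟶ ω⟦i⟧)) := by
      intro i hi
      obtain ⟨e⟩ := hK q p.asIdeal i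
      have := hDF i hi
      have hs : Subsingleton (LocalizedModule q.asIdeal.primeCompl
          (Dual.inD A (A ⧸ p.asIdeal) ⟶ ω⟦i⟧)) := e.subsingleton
      rw [LocalizedModule.subsingleton_iff] at hs ⊢
      intro m
      obtain ⟨r, hr, hrm⟩ := hs m
      exact ⟨r, fun hrp => hr (hle' hrp), hrm⟩
    have h8 : n p = n q - 1 := by
      by_contra hne'
      have := hvan (n p) hne'
      have hnt := (hfirst p (n p)).2 rfl
      exact not_subsingleton _ this
    change -n p = -n q + 1
    omega

end Groth.Agent.S1722
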