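import Groth.Statements.S0341
import Groth.Agent.Lib.Helper60.BC
open Groth.Agent.Lib.Helper60

set_option autoImplicit false
universe u v
open Goren

namespace Groth.Agent.S0341

/-- A Gorenstein local ring is Cohen–Macaulay. -/
theorem result (A : Type u) [CommRing A] [LocCoh.IsGorensteinLocalRing A] : LocCoh.IsCohenMacaulayLocalRing A := by
  have hG : LocCoh.IsGorensteinLocalRing A := inferInstance
  have hN : IsNoetherianRing A := hG.toIsNoetherian
  have hL : IsLocalRing A := hG.toIsLocalRing
  obtain ⟨t, ht, hdim, -⟩ := gorenstein_data (A := A) hG.exists_hasInjectiveDimensionLT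
  exact { supportDim_eq_depth := by rw [hdim, ht] }

end Groth.Agent.S0341
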