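import Mathlib
import Groth.Statements.S9602
-- import your own Groth.Agent.* helpers here

set_option autoImplicit false
universe u
open CAlg

namespace Groth.Agent.S9602

section helpers
variable {R : Type u} [CommRing R] (I : Ideal R)

open AdicCompletion

theorem evalOne_eq_mk (z : AdicCompletion I R) (r : R)
    (h : z.val 1 = Ideal.Quotient.mk (I ^ 1 • ⊤ : Ideal R) r) :
    evalOneₐ I z = Ideal.Quotient.mk I r := by
  rw [← factorₐ_evalₐ_one, ← factor_eval_eq_evalₐ I z (by simp), eval_apply, h]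
  rfl

theorem val_pow_eq_zero (z : AdicCompletion I R) (hz : evalOneₐ I z = 0) (n : ℕ) :
    (z.val n) ^ n = 0 := by
  obtain ⟨r, hr⟩ := Ideal.Quotient.mk_surjective (I := (I ^ (n + 1) • ⊤ : Ideal R)) (z.val (n + 1))
  have h1 : z.val 1 = Ideal.Quotient.mk (I ^ 1 • ⊤ : Ideal R) r := by
    rw [← transitionMap_comp_eval_apply I R (show 1 ≤ n + 1 by omega) z, ← hr]
    rfl
  have hn : z.val n = Ideal.Quotient.mk (I ^ n • ⊤ : Ideal R) r := by
    rw [← transitionMap_comp_eval_apply I R (show n ≤ n + 1 by omega) z, ← hr]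
    rfl
  have hrI : r ∈ I := by
    have := evalOne_eq_mk I z r h1
    rw [hz] at this
    exact Ideal.Quotient.eq_zero_iff_mem.mp this.symm
  rw [hn, ← map_pow, Ideal.Quotient.eq_zero_iff_mem]
  have : (I ^ n • ⊤ : Ideal R) = I ^ n := by ext x; simp
  rw [this]
  exact Ideal.pow_mem_pow hrI n

theorem isUnit_of_forall_isUnit_val (x : AdicCompletion I R) (h : ∀ n, IsUnit (x.val n)) :
    IsUnit x := by
  let u : ∀ n, (R ⧸ (I ^ n • ⊤ : Ideal R))ˣ := fun n => (h n).unit
  have hu : ∀ n, (u n : R ⧸ (I ^ n • ⊤ : Ideal R)) = x.val n := fun n => (h n).unit_spec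
  have compat : ∀ {m n : ℕ} (hmn : m ≤ n),
      transitionMap I R hmn ((u n)⁻¹ : (R ⧸ (I ^ n • ⊤ : Ideal R))ˣ) =
        ((u m)⁻¹ : (R ⧸ (I ^ m • ⊤ : Ideal R))ˣ) := by
    intro m n hmn
    have key : (u m : R ⧸ (I ^ m • ⊤ : Ideal R)) *
        transitionMap I R hmn ((u n)⁻¹ : (R ⧸ (I ^ n • ⊤ : Ideal R))ˣ) = 1 := by
      rw [hu m, ← transitionMap_comp_eval_apply I R hmn x, ← transitionMap_map_mul, ← hu n,
        Units.mul_inv, transitionMap_map_one]
    exact Units.eq_inv_of_mul_eq_one_left key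
  let w : AdicCompletion I R :=
    ⟨fun n => ((u n)⁻¹ : (R ⧸ (I ^ n • ⊤ : Ideal R))ˣ), fun hmn => compat hmn⟩
  refine IsUnit.of_mul_eq_one w ?_
  apply AdicCompletion.ext
  intro n
  rw [val_mul, val_one]
  show x.val n * ((u n)⁻¹ : (R ⧸ (I ^ n • ⊤ : Ideal R))ˣ) = 1
  rw [← hu n, Units.mul_inv]

theorem isUnit_add_one_of_evalOne_eq_zero (z : AdicCompletion I R) (hz : evalOneₐ I z = 0) :
    IsUnit (z + 1) := by
  apply isUnit_of_forall_isUnit_val
  intro n
  have : (z + 1).val n = z.val n + 1 := rfl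
  rw [this]
  exact IsNilpotent.isUnit_add_one ⟨n, val_pow_eq_zero I z hz n⟩

end helpers

/-- Let R be a ring, I an ideal of R and R^ = lim R/Iⁿ the I-adic completion. An element of R^ whose
image in R/I is invertible is itself invertible in R^; and the kernel of R^ → R/I as well as the
extended ideal I R^ both lie inside the Jacobson radical of R^. -/
theorem result {R : Type u} [CommRing R] (I : Ideal R) :
    (∀ x : AdicCompletion I R, IsUnit (AdicCompletion.evalOneₐ I x) → IsUnit x) ∧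
      RingHom.ker (AdicCompletion.evalOneₐ I).toRingHom ≤ (⊥ : Ideal (AdicCompletion I R)).jacobson ∧
      I.map (algebraMap R (AdicCompletion I R)) ≤ (⊥ : Ideal (AdicCompletion I R)).jacobson := by
  have hb : RingHom.ker (AdicCompletion.evalOneₐ I).toRingHom ≤
      (⊥ : Ideal (AdicCompletion I R)).jacobson := by
    intro z hz
    rw [Ideal.mem_jacobson_bot]
    intro y
    apply isUnit_add_one_of_evalOne_eq_zero
    rw [RingHom.mem_ker] at hz
    have hz' : AdicCompletion.evalOneₐ I z = 0 := hz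
    rw [map_mul, hz', zero_mul]
  refine ⟨?_, hb, ?_⟩
  · intro x hx
    obtain ⟨y, hy⟩ := AdicCompletion.evalOneₐ_surjective I (↑(hx.unit⁻¹) : R ⧸ I)
    have h1 : AdicCompletion.evalOneₐ I (x * y - 1) = 0 := by
      rw [map_sub, map_mul, map_one, hy, sub_eq_zero]
      exact hx.mul_val_inv
    have h2 := isUnit_add_one_of_evalOne_eq_zero I _ h1
    rw [sub_add_cancel] at h2
    exact isUnit_of_mul_isUnit_left h2
  · refine le_trans ?_ hb
    rw [Ideal.map_le_iff_le_comap]
    intro r hr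
    rw [Ideal.mem_comap, RingHom.mem_ker]
    show AdicCompletion.evalOneₐ I (algebraMap R (AdicCompletion I R) r) = 0
    rw [AdicCompletion.algebraMap_apply]
    simp only [Algebra.algebraMap_self, RingHom.id_apply, AdicCompletion.evalOneₐ_of]
    exact Ideal.Quotient.eq_zero_iff_mem.mpr hr

end Groth.Agent.S9602
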