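import Groth.Statements.S6302
import Mathlib

set_option autoImplicit false
universe u
open CAlg

namespace Groth.Agent.S6302


open scoped TensorProduct in
/-- Extension lemma: if `f : M₁ → M₂` is universally injective, `a : G → F` is a map of finite
projective modules, and `x' : G → M₁` is such that `f ∘ x'` extends along `a` to `F`, then `x'`
extends along `a` to `F`. -/
lemma exists_extension {R : Type u} [CommRing R] {M₁ M₂ F G : Type u} [AddCommGroup M₁]
    [Module R M₁] [AddCommGroup M₂] [Module R M₂] [AddCommGroup F] [Module R F]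
    [AddCommGroup G] [Module R G] [Module.Finite R F] [Module.Projective R F]
    [Module.Finite R G] [Module.Projective R G]
    (f : M₁ →ₗ[R] M₂)
    (hf : ∀ (Q : Type u) [AddCommGroup Q] [Module R Q], Function.Injective (f.rTensor Q))
    (a : G →ₗ[R] F) (x' : G →ₗ[R] M₁) (y : F →ₗ[R] M₂) (h : f ∘ₗ x' = y ∘ₗ a) :
    ∃ w : F →ₗ[R] M₁, w ∘ₗ a = x' := by
  let D : Module.Dual R F →ₗ[R] Module.Dual R G := a.dualMap
  let Q := Module.Dual R G ⧸ LinearMap.range D
  let ρ : Module.Dual R G →ₗ[R] Q := (LinearMap.range D).mkQ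
  have hexact : Function.Exact D ρ := LinearMap.exact_map_mkQ_range D
  have hρ : Function.Surjective ρ := Submodule.mkQ_surjective _
  have hex₁ : Function.Exact (D.rTensor M₁) (ρ.rTensor M₁) := rTensor_exact M₁ hexact hρ
  obtain ⟨t₁, ht₁⟩ := (dualTensorHom_bijective (R := R) (M := G) (N := M₁)).2 x'
  obtain ⟨ty, hty⟩ := (dualTensorHom_bijective (R := R) (M := F) (N := M₂)).2 y
  have hfl : Function.Injective (f.lTensor Q) :=
    (LinearMap.lTensor_inj_iff_rTensor_inj _ _).mpr (hf Q)
  have h1 : f.lTensor (Module.Dual R G) t₁ = D.rTensor M₂ ty := by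
    apply (dualTensorHom_bijective (R := R) (M := G) (N := M₂)).1
    have e1 := LinearMap.congr_fun (dualTensorHom_comp_lTensor (R := R) (M := G) f) t₁
    have e2 := LinearMap.congr_fun (dualTensorHom_comp_rTensor_dualMap (R := R) (P := M₂) a) ty
    simp only [LinearMap.comp_apply] at e1 e2
    rw [e1, e2, ht₁, hty]
    exact h
  have h2 : ρ.rTensor M₁ t₁ = 0 := by
    apply hfl
    rw [map_zero, ← LinearMap.comp_apply, LinearMap.lTensor_comp_rTensor,
      ← LinearMap.rTensor_comp_lTensor, LinearMap.comp_apply, h1, ← LinearMap.comp_apply,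
      ← LinearMap.rTensor_comp, hexact.linearMap_comp_eq_zero, LinearMap.rTensor_zero,
      LinearMap.zero_apply]
  obtain ⟨t₀, ht₀⟩ := (hex₁ t₁).mp h2
  refine ⟨dualTensorHom R F M₁ t₀, ?_⟩
  have e3 := LinearMap.congr_fun (dualTensorHom_comp_rTensor_dualMap (R := R) (P := M₁) a) t₀
  simp only [LinearMap.comp_apply] at e3
  rw [← ht₁, ← ht₀]
  exact e3.symm

/-- Let 0 → M₁ → M₂ → M₃ → 0 be a short exact sequence of R-modules with M₃ of finite presentation. If
the sequence is universally exact (its first map is universally injective) then it is split: M₂ → M₃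
admits a section. (The converse, split implies universally exact, is elementary and not stated.) -/
theorem result {R : Type u} [CommRing R] {M₁ M₂ M₃ : Type u} [AddCommGroup M₁] [Module R M₁] [AddCommGroup M₂] [Module R M₂] [AddCommGroup M₃] [Module R M₃] [Module.FinitePresentation R M₃] (f : M₁ →ₗ[R] M₂) (g : M₂ →ₗ[R] M₃) (hexact : Function.Exact f g) (hg : Function.Surjective g) (hf : CAlgX.UniversallyInjective R f) : ∃ s : M₃ →ₗ[R] M₂, g.comp s = LinearMap.id := by
  classical
  have hgf : ∀ z, g (f z) = 0 := fun z => hexact.apply_apply_eq_zero z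
  obtain ⟨n, K, φ, hK⟩ := Module.FinitePresentation.exists_fin R M₃
  let π : (Fin n → R) →ₗ[R] M₃ := φ.symm.toLinearMap ∘ₗ K.mkQ
  obtain ⟨y, hy⟩ := Module.projective_lifting_property g π hg
  have : Module.Finite R K := Module.Finite.of_fg hK
  obtain ⟨m, c, hc⟩ := Module.Finite.exists_fin' R K
  let a : (Fin m → R) →ₗ[R] (Fin n → R) := K.subtype ∘ₗ c
  have hπa : ∀ v, π (a v) = 0 := by
    intro v
    have : K.mkQ (a v) = 0 := by
      rw [Submodule.mkQ_apply, Submodule.Quotient.mk_eq_zero]
      exact (c v).2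
    simp only [π, LinearMap.comp_apply, this, map_zero]
  have hya : ∀ v, (y ∘ₗ a) v ∈ LinearMap.range f := by
    intro v
    rw [← LinearMap.exact_iff.mp hexact, LinearMap.mem_ker, LinearMap.comp_apply,
      ← LinearMap.comp_apply, hy]
    exact hπa v
  let ya : (Fin m → R) →ₗ[R] LinearMap.range f := (y ∘ₗ a).codRestrict _ hya
  obtain ⟨x', hx'⟩ := Module.projective_lifting_property f.rangeRestrict ya
    (LinearMap.surjective_rangeRestrict f)
  have hfx' : f ∘ₗ x' = y ∘ₗ a := by
    refine LinearMap.ext fun v => ?_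
    have := congrArg Subtype.val (LinearMap.congr_fun hx' v)
    exact this
  obtain ⟨w, hw⟩ := exists_extension f hf a x' y hfx'
  let y' : (Fin n → R) →ₗ[R] M₂ := y - f ∘ₗ w
  have hy'K : K ≤ LinearMap.ker y' := by
    intro k hk
    obtain ⟨v, hv⟩ := hc ⟨k, hk⟩
    have hk' : k = a v := by simp [a, hv]
    rw [LinearMap.mem_ker, hk']
    have h1 : w (a v) = x' v := LinearMap.congr_fun hw v
    have h2 : f (x' v) = y (a v) := LinearMap.congr_fun hfx' v
    simp only [y', LinearMap.sub_apply, LinearMap.comp_apply, h1, h2, sub_self]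
  refine ⟨(K.liftQ y' hy'K) ∘ₗ φ.toLinearMap, ?_⟩
  refine LinearMap.ext fun z => ?_
  obtain ⟨v, hv⟩ := K.mkQ_surjective (φ z)
  have h3 : (K.liftQ y' hy'K) (φ z) = y' v := by
    rw [← hv]; exact Submodule.liftQ_apply _ _ _
  simp only [LinearMap.comp_apply, LinearEquiv.coe_coe, LinearMap.id_apply, h3]
  have h4 : g (y v) = π v := LinearMap.congr_fun hy v
  simp only [y', LinearMap.sub_apply, LinearMap.comp_apply, map_sub, hgf, sub_zero, h4, π,
    LinearEquiv.coe_coe, hv, LinearEquiv.symm_apply_apply]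

end Groth.Agent.S6302
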