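import Groth.Statements.S6619
import Groth.Agent.Lib.Helper83.DerivedLES
import Mathlib.Algebra.Homology.ShortComplex.ExactFunctor

set_option autoImplicit false
universe v v' u u'
open CategoryTheory CategoryTheory.Limits
open CohDer

namespace Groth.Agent.S6619

open Groth.Agent.Lib.Helper83

section
variable {A : Type u} [Category.{v} A] [Abelian A] [HasInjectiveResolutions A]
    {B : Type u'} [Category.{v'} B] [Abelian B] (F : A ⥤ B) [F.Additive]

/-- right `F`-acyclic objects -/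
def Acyc (X : A) : Prop := ∀ i : ℕ, 0 < i → IsZero ((F.rightDerived i).obj X)

variable {F} {S : ShortComplex A} (hS : S.ShortExact)
include hS

theorem acyc₂ (h1 : Acyc F S.X₁) (h3 : Acyc F S.X₃) : Acyc F S.X₂ := by
  intro i hi
  exact ((derivedLES F).exact₂ S hS i).isZero_X₂ ((h1 i hi).eq_of_src _ _) ((h3 i hi).eq_of_tgt _ _)

theorem acyc₃ (h1 : Acyc F S.X₁) (h2 : Acyc F S.X₂) : Acyc F S.X₃ := by
  intro i hi
  exact ((derivedLES F).exact₃ S hS i (i + 1) rfl).isZero_X₂ ((h2 i hi).eq_of_src _ _)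
    ((h1 (i + 1) (Nat.succ_pos i)).eq_of_tgt _ _)

variable [PreservesFiniteLimits F]

theorem epi_of_isZero (h : IsZero ((F.rightDerived 1).obj S.X₁)) : Epi (F.map S.g) := by
  have hex₃ := (derivedLES F).exact₃ S hS 0 1 rfl
  have e : Arrow.mk ((F.rightDerived 0).map S.g) ≅ Arrow.mk (F.map S.g) :=
    Arrow.isoMk (F.rightDerivedZeroIsoSelf.app _) (F.rightDerivedZeroIsoSelf.app _) (by simp)
  exact ((MorphismProperty.epimorphisms B).arrow_mk_iso_iff e).1 (hex₃.epi_f (h.eq_of_tgt _ _))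

omit [HasInjectiveResolutions A] in
theorem shortExact_map_of_epi (h : Epi (F.map S.g)) : (S.map F).ShortExact := by
  have h0 := (Functor.preservesFiniteLimits_iff_forall_exact_map_and_mono F).1 inferInstance S hS
  exact { exact := h0.1, mono_f := h0.2, epi_g := h }

theorem acyc₁ (h2 : Acyc F S.X₂) (h3 : Acyc F S.X₃) (h : Epi (F.map S.g)) : Acyc F S.X₁ := by
  intro i hi
  obtain ⟨j, rfl⟩ : ∃ j, i = j + 1 := ⟨i - 1, by omega⟩
  have hex₁ := (derivedLES F).exact₁ S hS j (j + 1) rfl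
  refine hex₁.isZero_X₂ ?_ ((h2 (j + 1) hi).eq_of_tgt _ _)
  rcases Nat.eq_zero_or_pos j with rfl | hj
  · have hex₃ := (derivedLES F).exact₃ S hS 0 1 rfl
    have e : Arrow.mk ((F.rightDerived 0).map S.g) ≅ Arrow.mk (F.map S.g) :=
      Arrow.isoMk (F.rightDerivedZeroIsoSelf.app _) (F.rightDerivedZeroIsoSelf.app _) (by simp)
    have h3' : Epi ((F.rightDerived 0).map S.g) :=
      ((MorphismProperty.epimorphisms B).arrow_mk_iso_iff e).2 h
    exact hex₃.epi_f_iff.1 h3'
  · exact (h3 j hj).eq_of_src _ _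

end

/-- In the case where A has enough injectives (an object X is right acyclic for the left exact functor F
when RⁱF(X) = 0 for all i > 0): suppose A and B are abelian categories, A has enough injectives, F :
A ⥤ B is left exact, and 0 → X₁ → X₂ → X₃ → 0 is a short exact sequence of A. (1) If X₁, X₃ are
right acyclic so is X₂; (2) if X₁, X₂ are right acyclic so is X₃; (3) if X₂, X₃ are right acyclic
and F(X₂) ⟶ F(X₃) is surjective then X₁ is right acyclic. In each of the three cases 0 → F(X₁) →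
F(X₂) → F(X₃) → 0 is short exact. -/
theorem result {A : Type u} [Category.{v} A] [Abelian A] [EnoughInjectives A]
    {B : Type u'} [Category.{v'} B] [Abelian B] (F : A ⥤ B) [F.Additive] [PreservesFiniteLimits F]
    (S : ShortComplex A) (hS : S.ShortExact) :
    ((∀ i : ℕ, 0 < i → IsZero ((F.rightDerived i).obj S.X₁)) → (∀ i : ℕ, 0 < i → IsZero ((F.rightDerived i).obj S.X₃)) →
      (∀ i : ℕ, 0 < i → IsZero ((F.rightDerived i).obj S.X₂)) ∧ (S.map F).ShortExact) ∧
    ((∀ i : ℕ, 0 < i → IsZero ((F.rightDerived i).obj S.X₁)) → (∀ i : ℕ, 0 < i → IsZero ((F.rightDerived i).obj S.X₂)) →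
      (∀ i : ℕ, 0 < i → IsZero ((F.rightDerived i).obj S.X₃)) ∧ (S.map F).ShortExact) ∧
    ((∀ i : ℕ, 0 < i → IsZero ((F.rightDerived i).obj S.X₂)) → (∀ i : ℕ, 0 < i → IsZero ((F.rightDerived i).obj S.X₃)) →
      Epi (F.map S.g) → (∀ i : ℕ, 0 < i → IsZero ((F.rightDerived i).obj S.X₁)) ∧ (S.map F).ShortExact) := by
  refine ⟨fun h1 h3 => ⟨acyc₂ hS h1 h3, shortExact_map_of_epi hS (epi_of_isZero hS (h1 1 Nat.one_pos))⟩,
    fun h1 h2 => ⟨acyc₃ hS h1 h2, shortExact_map_of_epi hS (epi_of_isZero hS (h1 1 Nat.one_pos))⟩,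
    fun h2 h3 h => ⟨acyc₁ hS h2 h3 h, shortExact_map_of_epi hS h⟩⟩

end Groth.Agent.S6619
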