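import Groth.Statements.S0996
import Groth.Agent.S6619
import Groth.Agent.Lib.Helper32.RDPlus
import Groth.Agent.Lib.Helper32.RightRes

set_option autoImplicit false
universe w w' v v' u u'
open CategoryTheory CategoryTheory.Limits
open CohDer

namespace Groth.Agent.S0996

open Groth.Agent.Lib.Helper32 CochainComplex ZeroObject

section
variable {C : Type u} [Category.{v} C] [Abelian C] [EnoughInjectives C]
    {D : Type u'} [Category.{v'} D] [Abelian D]
    (F : C ⥤ D) [F.Additive]

/-- right `F`-acyclic objects as an object property -/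
def acyc : ObjectProperty C := fun X => ∀ i : ℕ, 0 < i → IsZero ((F.rightDerived i).obj X)

theorem acyc_of_injective (X : C) [Injective X] : acyc F X := by
  intro i hi
  obtain ⟨j, rfl⟩ : ∃ j, i = j + 1 := ⟨i - 1, by omega⟩
  exact F.isZero_rightDerived_obj_injective_succ j X

theorem acyc_of_isZero (X : C) (hX : IsZero X) : acyc F X := by
  have : Injective X := hX.injective
  exact acyc_of_injective F X

theorem acyc_of_iso {X Y : C} (e : X ≅ Y) (hX : acyc F X) : acyc F Y := by
  intro i hi
  exact (hX i hi).of_iso ((F.rightDerived i).mapIso e.symm)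

theorem acyc_of_decomp {X Y Z : C} (p : X ⟶ Y) (i' : Y ⟶ X) (q : X ⟶ Z) (j : Z ⟶ X)
    (h : p ≫ i' + q ≫ j = 𝟙 X) (hY : acyc F Y) (hZ : acyc F Z) : acyc F X := by
  intro i hi
  rw [IsZero.iff_id_eq_zero, ← (F.rightDerived i).map_id, ← h, Functor.map_add, Functor.map_comp,
    Functor.map_comp, (hY i hi).eq_of_tgt ((F.rightDerived i).map p) 0,
    (hZ i hi).eq_of_tgt ((F.rightDerived i).map q) 0, zero_comp, zero_comp, add_zero]

end

/-- Leray's acyclicity lemma. Let F : C ⥤ D be a left exact additive functor between abelian categories,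
with C having enough injectives. If K is a bounded below cochain complex in C all of whose terms are
right F-acyclic (RⁱF(Kᵐ) = 0 for i > 0), then the canonical map F(K) → RF(K) in the bounded below
derived category D⁺(D) is an isomorphism. -/
theorem result {C : Type u} [Category.{v} C] [Abelian C] [HasDerivedCategory.{w} C] [EnoughInjectives C]
    {D : Type u'} [Category.{v'} D] [Abelian D] [HasDerivedCategory.{w'} D]
    (F : C ⥤ D) [F.Additive] [PreservesFiniteLimits F] (K : CochainComplex.Plus C)
    (hK : ∀ (m : ℤ) (i : ℕ), 0 < i → IsZero ((F.rightDerived i).obj (K.obj.X m))) :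
    IsIso (F.rightDerivedFunctorPlusUnit.app ((HomotopyCategory.Plus.quotient C).obj K)) := by
  obtain ⟨K0, a, hKa⟩ := K
  have : K0.IsStrictlyGE a := hKa
  have h1 : ∀ X : C, ∃ (Y : C) (ι : X ⟶ Y), (fun Y => Injective Y) Y ∧ Mono ι :=
    fun X => ⟨Injective.under X, Injective.ι X, inferInstance, inferInstance⟩
  obtain ⟨L, α, hL, hIL, -, hα⟩ := RightRes.exists_of_isStrictlyGE (I := fun Y : C => Injective Y) h1
    ⟨0, isZero_zero C, (isZero_zero C).injective⟩ K0 a
  let KP : CochainComplex.Plus C := ⟨K0, ⟨a, hKa⟩⟩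
  let LP : CochainComplex.Plus C := ⟨L, ⟨a, hL⟩⟩
  let iP : KP ⟶ LP := ObjectProperty.homMk α
  have : ∀ n, Injective (LP.obj.X n) := hIL
  have : QuasiIso iP.hom := hα
  change IsIso (F.rightDerivedFunctorPlusUnit.app ((HomotopyCategory.Plus.quotient C).obj KP))
  rw [RDPlus.isIso_unit_app_iff F KP LP iP]
  change QuasiIso ((F.mapHomologicalComplex _).map α)
  rw [ConeAcyclic.quasiIso_map_iff_acyclic_map_mappingCone]
  have : (mappingCone α).IsStrictlyGE (a - 1) := isStrictlyGE_mappingCone α a a (a - 1)
  have h2 : ∀ S : ShortComplex C, S.ShortExact → acyc F S.X₁ → acyc F S.X₂ →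
      acyc F S.X₃ ∧ (S.map F).ShortExact := fun S hS h1 h2 =>
    (Groth.Agent.S6619.result F S hS).2.1 h1 h2
  refine Adapted.acyclic_map F (acyc F) h2 _ (a - 1) ?_ ?_ (acyc_of_isZero F)
  · rw [← ConeAcyclic.quasiIso_iff_acyclic_mappingCone]
    exact hα
  · intro k
    have hid := mappingCone.id_X α k (k + 1) rfl
    refine acyc_of_decomp F _ _ _ _ hid (hK (k + 1)) ?_
    have : Injective (L.X k) := hIL k
    exact acyc_of_injective F _

end Groth.Agent.S0996
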