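import Groth.Statements.S11115
-- import your own Groth.Agent.* helpers here
import Groth.Agent.Lib.Helper32.OpenSupp

set_option autoImplicit false
universe u
open CategoryTheory CategoryTheory.Limits AlgebraicGeometry
attribute [local instance] HasDerivedCategory.standard
open Perf

namespace Groth.Agent.S11115

open Groth.Agent.Lib.Helper32.KInjDerived
  Groth.Agent.Lib.Helper32.OpenKInj Groth.Agent.Lib.Helper32.MVTriangle
  Groth.Agent.Lib.Helper32.OpenSupp

/-- Let f : X ⟶ Y be a quasi-compact quasi-separated morphism of schemes and assume the unbounded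
derived direct image Rf_* exists. If F in D(O_X) has cohomology sheaves vanishing below degree n,
then so has Rf_* F. (The published statement restricts F to complexes with quasi-coherent
cohomology; this row allows any F.) -/
theorem result {X Y : Scheme.{u}} (f : X ⟶ Y) [QuasiCompact f] [QuasiSeparated f] [DCoh.HasRpush f]
    (F : DCoh.D X) (n : ℤ) [F.IsGE n] : ((DCoh.Rpush f).obj F).IsGE n := by
  obtain ⟨K, hK, ⟨e⟩⟩ := DerivedCategory.exists_iso_Q_obj_of_isGE F n
  obtain ⟨L, i, hi, hL, hLn⟩ :=
    CochainComplex.Plus.modelCategoryQuillen.exists_quasiIso_injective K n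
  have hKI : L.IsKInjective := CochainComplex.isKInjective_of_injective L n
  obtain ⟨e1⟩ := nonempty_rd_iso (Scheme.Modules.pushforward f) (hasKInjRes X) L hKI
  have eF : F ≅ DerivedCategory.Q.obj L := e ≪≫ asIso (DerivedCategory.Q.map i)
  have h1 : CochainComplex.IsStrictlyGE (((Scheme.Modules.pushforward f).mapHomologicalComplex
      (ComplexShape.up ℤ)).obj L) n := inferInstance
  have h2 : (DerivedCategory.Q.obj (((Scheme.Modules.pushforward f).mapHomologicalComplex
      (ComplexShape.up ℤ)).obj L)).IsGE n := by
    rw [DerivedCategory.isGE_Q_obj_iff]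
    infer_instance
  exact DerivedCategory.TStructure.t.isGE_of_iso
    (e1 ≪≫ (DCoh.Rpush f).mapIso eF.symm) n

end Groth.Agent.S11115
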