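import Mathlib
import Groth.Statements.S0792
import Groth.Agent.Lib.Helper49.ClosedImmUnit
import Groth.Agent.Lib.Helper49.AnnIdealSheaf
import Groth.Agent.Lib.Helper49.ProperSupport

set_option autoImplicit false
universe u
open Coherent

namespace Groth.Agent.S0792

open CategoryTheory AlgebraicGeometry in
/-- Let f : X → S be locally of finite type and F a quasi-coherent O_X-module of finite type. The
support of F is proper over S if and only if there are a closed subscheme i : Z → X with Z proper
over S and a quasi-coherent O_Z-module G of finite type with i_* G isomorphic to F. (The published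
statement also gives a further equivalent condition, that the scheme-theoretic support of F is
proper over S; it is not used here.) -/
theorem result {X S : Scheme.{u}} (f : X ⟶ S) [LocallyOfFiniteType f]
    (F : X.Modules) (hq : Coh.IsQCoh F) (hft : CohB1.IsFT F) :
    ClSub.IsProperOver f (CohB1.support F) ↔
      ∃ (Z : Scheme.{u}) (i : Z ⟶ X), IsClosedImmersion i ∧ IsProper (i ≫ f) ∧
        ∃ G : Z.Modules, Coh.IsQCoh G ∧ CohB1.IsFT G ∧
          Nonempty ((Scheme.Modules.pushforward i).obj G ≅ F) := by
  have hq' : F.IsQuasicoherent := hq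
  let I : X.IdealSheafData := Groth.Agent.Lib.Helper49.AnnIdealSheaf.annIdealSheaf F hft
  have hsupp : (I.support : Set X) = CohB1.support F :=
    Groth.Agent.Lib.Helper49.AnnIdealSheaf.coe_support_annIdealSheaf F hft
  constructor
  · rintro ⟨hcl, hprop⟩
    have hS : (⟨CohB1.support F, hcl⟩ : TopologicalSpace.Closeds X) = I.support :=
      TopologicalSpace.Closeds.ext hsupp.symm
    have hJ : Scheme.IdealSheafData.vanishingIdeal ⟨CohB1.support F, hcl⟩ = I.radical := by
      rw [hS, Scheme.IdealSheafData.vanishingIdeal_support]
    have hIJ : I ≤ Scheme.IdealSheafData.vanishingIdeal ⟨CohB1.support F, hcl⟩ := by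
      rw [hJ]
      exact Scheme.IdealSheafData.le_radical I
    have hsub : (I.support : Set X) ⊆
        (Scheme.IdealSheafData.vanishingIdeal ⟨CohB1.support F, hcl⟩).support := by
      rw [hJ, Scheme.IdealSheafData.support_radical]
    have hZ : IsProper (I.subschemeι ≫ f) :=
      Groth.Agent.Lib.Helper49.ProperSupport.isProper_subschemeι_comp hIJ hsub f hprop
    have hqH : ((Scheme.Modules.pullback I.subschemeι).obj F).IsQuasicoherent :=
      Groth.Agent.Lib.Helper16.FlatPull.isQuasicoherent_pullback I.subschemeι F
    have hiso := Groth.Agent.Lib.Helper49.ClosedImmUnit.isIso_unit_of_killed I.subschemeι F hft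
      (fun U hU a ha m => by
        have ha' : a ∈ I.ideal ⟨U, hU⟩ := by
          rw [← Scheme.IdealSheafData.ker_subschemeι_app]
          exact RingHom.mem_ker.mpr ha
        exact Module.mem_annihilator.mp ha' m)
    exact ⟨I.subscheme, I.subschemeι, inferInstance, hZ,
      (Scheme.Modules.pullback I.subschemeι).obj F, hqH,
      Groth.Agent.Lib.Helper49.ClosedImmUnit.isFiniteType_pullback I.subschemeι F hft,
      ⟨(asIso ((Scheme.Modules.pullbackPushforwardAdjunction I.subschemeι).unit.app F)).symm⟩⟩
  · rintro ⟨Z, i, hi, hprop, G, hGq, hGft, ⟨e⟩⟩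
    have hcl : IsClosed (CohB1.support F) := hsupp ▸ I.support.isClosed
    refine ⟨hcl, ?_⟩
    have hsub : CohB1.support F ⊆ Set.range i := by
      intro x hx
      by_contra hxi
      have h1 := Groth.Agent.Lib.Helper49.ProperSupport.subsingleton_stalk_pushforward i G x hxi
      apply hx
      let e' : ((Scheme.Modules.pushforward i).obj G).presheaf.stalk x ≅ F.presheaf.stalk x :=
        (TopCat.Presheaf.stalkFunctor Ab x).mapIso ((Scheme.Modules.toPresheaf X).mapIso e)
      exact (e'.symm.addCommGroupIsoToAddEquiv.toEquiv).subsingleton
    have hle : i.ker ≤ Scheme.IdealSheafData.vanishingIdeal ⟨CohB1.support F, hcl⟩ := by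
      rw [← Scheme.IdealSheafData.le_support_iff_le_vanishingIdeal]
      intro x hx
      have h2 : ((Scheme.Hom.ker i).support : Set X) = closure (Set.range i) :=
        Scheme.Hom.support_ker i
      have h3 : x ∈ ((Scheme.Hom.ker i).support : Set X) := by
        rw [h2]
        exact subset_closure (hsub hx)
      exact h3
    let l := IsClosedImmersion.lift i
      (Scheme.IdealSheafData.vanishingIdeal ⟨CohB1.support F, hcl⟩).subschemeι
      (by rwa [Scheme.IdealSheafData.ker_subschemeι])
    have hl : l ≫ i = (Scheme.IdealSheafData.vanishingIdeal ⟨CohB1.support F, hcl⟩).subschemeι :=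
      IsClosedImmersion.lift_fac _ _ _
    have hlc : IsClosedImmersion l := by
      have : IsClosedImmersion (l ≫ i) := by rw [hl]; infer_instance
      exact IsClosedImmersion.of_comp_isClosedImmersion l i
    have : IsProper (l ≫ i ≫ f) := inferInstance
    rw [← hl, Category.assoc]
    exact this

end Groth.Agent.S0792
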