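import Groth.Statements.S0854
import Groth.Prelude.Def_RDer
import Groth.Agent.Lib.Helper5.RDerPrecomp
import Groth.Agent.Lib.Helper5.RDerExact
import Groth.Agent.Lib.Helper5.ExtByZero

set_option autoImplicit false
universe u
open CategoryTheory
open CohTop

namespace Groth.Agent.S0854

open TopologicalSpace Opposite CategoryTheory.Limits Groth.Agent.Lib.Helper5

variable {X Y : TopCat.{u}} (f : X ⟶ Y) (V : Opens Y)

/-- the restriction of `f` over `V` -/
abbrev g : TopCat.of ((Opens.map f).obj V) ⟶ TopCat.of V :=
  TopCat.ofHom ⟨(V : Set Y).restrictPreimage f, f.hom.continuous.restrictPreimage⟩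

/-- the two ways of going from opens of `V` to opens of `X` agree -/
def eFG : jU V ⋙ Opens.map f ≅ Opens.map (g f V) ⋙ jU ((Opens.map f).obj V) :=
  NatIso.ofComponents (fun A => eqToIso (by
    ext x
    constructor
    · rintro ⟨v, hv, hvx⟩
      have hx : x ∈ (Opens.map f).obj V := by
        change f x ∈ V
        rw [← hvx]
        exact v.2
      refine ⟨⟨x, hx⟩, ?_, rfl⟩
      change (g f V) ⟨x, hx⟩ ∈ A
      have : (g f V) ⟨x, hx⟩ = v := Subtype.ext hvx.symm
      rw [this]
      exact hv
    · rintro ⟨w, hw, rfl⟩
      exact ⟨(g f V) w, hw, rfl⟩))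
    (fun _ => Subsingleton.elim _ _)

instance : (Opens.map (g f V)).IsContinuous (Opens.grothendieckTopology (TopCat.of V))
    (Opens.grothendieckTopology (TopCat.of ((Opens.map f).obj V))) :=
  Functor.isContinuous_of_coverPreserving (compatiblePreserving_opens_map _)
    (coverPreserving_opens_map _)

instance : (Opens.map (g f V) ⋙ jU ((Opens.map f).obj V)).IsContinuous
    (Opens.grothendieckTopology (TopCat.of V)) (Opens.grothendieckTopology X) :=
  Functor.isContinuous_comp (Opens.map (g f V)) (jU ((Opens.map f).obj V))
    (Opens.grothendieckTopology (TopCat.of V))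
    (Opens.grothendieckTopology (TopCat.of ((Opens.map f).obj V))) (Opens.grothendieckTopology X)

/-- base change for restriction to an open: `f_*` then restrict equals restrict then `g_*` -/
noncomputable def baseIso :
    push f ⋙ restrFunctor V ≅ restrFunctor ((Opens.map f).obj V) ⋙ push (g f V) :=
  Functor.sheafPushforwardContinuousComp' (F := jU V) (G := Opens.map f)
    (FG := Opens.map (g f V) ⋙ jU ((Opens.map f).obj V)) (eFG f V) AddCommGrpCat.{u}
    (Opens.grothendieckTopology (TopCat.of V)) (Opens.grothendieckTopology Y)
    (Opens.grothendieckTopology X)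

instance : (push (g f V)).Additive where

instance restr_preservesHomology (W : Opens X) : (restrFunctor W).PreservesHomology :=
  preservesHomology_of_exact _

instance restr_preservesInjectiveObjects (W : Opens X) :
    (restrFunctor W).PreservesInjectiveObjects :=
  Functor.preservesInjectiveObjects_of_adjunction_of_preservesMonomorphisms (extByZeroAdj W)

open TopologicalSpace in
/-- For abelian sheaves, one degree at a time: for a continuous map f : X -> Y, an abelian sheaf F on X,
an open V of Y and g : f^{-1}(V) -> V the restriction of f, the restriction of R^p f_* F to V is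
isomorphic to R^p g_* (F|_{f^{-1} V}). -/
theorem result {X Y : TopCat.{u}} (f : X ⟶ Y) (F : CohTop.Ab X)
    (V : Opens Y) (p : ℕ) :
    Nonempty (CohTop.restr ((CohTop.Rpush f p).obj F) V ≅
      (CohTop.Rpush (TopCat.ofHom ⟨(V : Set Y).restrictPreimage f, f.hom.continuous.restrictPreimage⟩ :
          TopCat.of ((Opens.map f).obj V) ⟶ TopCat.of V) p).obj
        (CohTop.restr F ((Opens.map f).obj V))) := by
  exact ⟨(rightDerivedCompExactIso (push f) (restrFunctor V) F p).symm ≪≫
    (RDer.rightDerivedIso (baseIso f V) p).app F ≪≫
    rightDerivedExactCompIso (restrFunctor ((Opens.map f).obj V)) (push (g f V)) F p⟩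

end Groth.Agent.S0854
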