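import Groth.Statements.S0940
import Groth.Agent.Lib.Helper15.HyperCechInj
import Groth.Agent.S6525

set_option autoImplicit false
universe u
open CategoryTheory
open Hyper

namespace Groth.Agent.S0940

open Opposite CategoryTheory.Limits in
/-- Case of a hypercovering of the final object: let C be a site with equalizers, fibre products and
binary products, K a hypercovering in Verdier's sense and I an injective abelian sheaf. Then the
Cech cohomology of I with respect to K vanishes in positive degrees, and in degree zero it is
isomorphic to the group of global sections of I (the limit of I over the site). -/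
theorem result {C : Type u} [SmallCategory C] [HasEqualizers C] [HasPullbacks C] [HasBinaryProducts C]
    (J : GrothendieckTopology C) (K : SimplicialObject (FormalCoproduct.{u} C))
    [∀ (n : ℕ) (F : (SimplexCategory.Truncated n)ᵒᵖ ⥤ Limits.FormalCoproduct.{u} C),
      (SimplexCategory.Truncated.inclusion n).op.HasRightKanExtension F]
    (hK : Hyper.IsHypercoveringSite J K) (I : Sheaf J AddCommGrpCat.{u}) [Injective I] :
    (∀ p : ℕ, IsZero ((Hyper.cechCxSite K I.obj).homology (p + 1))) ∧
    Nonempty ((Hyper.cechCxSite K I.obj).homology 0 ≅ limit I.obj) := by
  have hLK := Groth.Agent.Lib.Helper15.HyperLocalKan.localKan J hK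
  refine ⟨fun p => Groth.Agent.Lib.Helper15.HyperCechInj.isZero_cech_homology_succ I K p ?_,
    Groth.Agent.S6525.result J K hK I⟩
  rw [HomologicalComplex.exactAt_iff_isZero_homology]
  exact Groth.Agent.Lib.Helper15.HyperCone.isZero_homology_succ hLK p

end Groth.Agent.S0940
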