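import Groth.Statements.S6025
import Groth.Agent.Lib.Helper33.LocCohUnit
import Groth.Prelude.Def_CohPull

set_option autoImplicit false
universe u
open CategoryTheory CategoryTheory.Limits TopologicalSpace
open LocCohZ

namespace Groth.Agent.S6025

section Helpers

open Groth.Agent.Lib.Helper33 Groth.Agent.Lib.Helper33.LocCohSS

lemma preservesFiniteLimits_push {X Y : TopCat.{u}} (f : Y ⟶ X) :
    PreservesFiniteLimits (CohTop.push f) := by
  have : PreservesLimitsOfSize.{0, 0} (CohTop.push f) :=
    (TopCat.Sheaf.pullbackPushforwardAdjunction AddCommGrpCat.{u} f).rightAdjoint_preservesLimits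
  exact PreservesLimitsOfSize.preservesFiniteLimits _

lemma additive_push {X Y : TopCat.{u}} (f : Y ⟶ X) : (CohTop.push f).Additive := inferInstance

lemma additive_pull_push {X Y : TopCat.{u}} (f : Y ⟶ X) :
    (CohTop.pull f ⋙ CohTop.push f).Additive := by
  have := CohPull.additive_pull f
  infer_instance

lemma preservesFiniteLimits_pull_push {X Y : TopCat.{u}} (f : Y ⟶ X) :
    PreservesFiniteLimits (CohTop.pull f ⋙ CohTop.push f) := by
  have := CohPull.preservesFiniteLimits_pull f
  have := preservesFiniteLimits_push f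
  exact comp_preservesFiniteLimits _ _

lemma pull_preservesInjectiveObjects {X : TopCat.{u}} (U : Opens X) :
    (CohTop.pull (CohCx.incl U)).PreservesInjectiveObjects where
  injective_obj {I} _ :=
    Injective.of_iso ((pullIsoRestr U).symm.app I) ((CohTop.restrFunctor U).injective_obj I)

end Helpers

/-- Let X be a topological space, A a closed subset with open complement U and f : U → X the inclusion.
Then the functor ℋ^1_A is isomorphic to the cokernel of the unit F → f_* f⁻¹ F (so that 0 → ℋ^0_A(F)
→ F → f_*(F|_U) → ℋ^1_A(F) → 0 is exact), and for every i ≥ 1 the functor ℋ^{i+1}_A is isomorphic to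
F ↦ R^i f_*(F|_U). (Existence of isomorphisms of functors only; the maps of the four-term sequence
other than the kernel inclusion are not pinned.) -/
theorem result {X : TopCat.{u}} (U : Opens X) :
    Nonempty (LocCohZ.HZsh U 1 ≅
      cokernel (TopCat.Sheaf.pullbackPushforwardAdjunction AddCommGrpCat.{u} (CohCx.incl U)).unit) ∧
      ∀ i : ℕ, 1 ≤ i →
        Nonempty (LocCohZ.HZsh U (i + 1) ≅ CohTop.pull (CohCx.incl U) ⋙ CohTop.Rpush (CohCx.incl U) i) := by
  have hpA : (CohTop.pull (CohCx.incl U)).Additive := CohPull.additive_pull _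
  have hpL : PreservesFiniteLimits (CohTop.pull (CohCx.incl U)) :=
    CohPull.preservesFiniteLimits_pull _
  have hpC : PreservesFiniteColimits (CohTop.pull (CohCx.incl U)) :=
    CohPull.preservesFiniteColimits_pull _
  have hpI := pull_preservesInjectiveObjects U
  have hqL : PreservesFiniteLimits (CohTop.push (CohCx.incl U)) := preservesFiniteLimits_push _
  have hcL : PreservesFiniteLimits (CohTop.pull (CohCx.incl U) ⋙ CohTop.push (CohCx.incl U)) :=
    preservesFiniteLimits_pull_push _
  have hqA : (CohTop.push (CohCx.incl U)).Additive := additive_push _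
  have hcA : (CohTop.pull (CohCx.incl U) ⋙ CohTop.push (CohCx.incl U)).Additive :=
    additive_pull_push _
  have hE := Groth.Agent.Lib.Helper33.LocCohSS.exactOnInjectives U
  have part1 : Nonempty ((sectSuppF U).rightDerived 1 ≅ cokernel (Groth.Agent.Lib.Helper33.LocCohSS.unitNat U)) :=
    Groth.Agent.Lib.Helper33.FunctorLES.nonempty_rightDerived_one_iso_cokernel hE
      (fun F => Groth.Agent.Lib.Helper33.FunctorLES.isZero_rightDerived_id_succ 0 F)
  refine ⟨part1, ?_⟩
  intro i hi
  obtain ⟨j, rfl⟩ : ∃ j, i = j + 1 := ⟨i - 1, by omega⟩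
  obtain ⟨e1⟩ := Groth.Agent.Lib.Helper33.FunctorLES.nonempty_iso_of_isZero hE (j + 1)
    (fun F => Groth.Agent.Lib.Helper33.FunctorLES.isZero_rightDerived_id_succ j F)
    (fun F => Groth.Agent.Lib.Helper33.FunctorLES.isZero_rightDerived_id_succ (j + 1) F)
  obtain ⟨e2⟩ := Groth.Agent.Lib.Helper33.ExtDelta.nonempty_rightDerived_exact_comp_iso
    (CohTop.pull (CohCx.incl U)) (CohTop.push (CohCx.incl U)) (j + 1)
  exact ⟨e1.symm ≪≫ e2⟩

end Groth.Agent.S6025
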