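import Groth.Statements.S6787

set_option autoImplicit false
open CategoryTheory CategoryTheory.Limits
universe u
open HomAlg3
open Opposite

namespace Groth.Agent.S6787

open ARSys in
lemma tr_tr (X : ℕᵒᵖ ⥤ AddCommGrpCat.{u}) {n m l : ℕ} (h₁ : n ≤ m) (h₂ : m ≤ l)
    (y : X.obj (op l)) : tr X h₁ (tr X h₂ y) = tr X (h₁.trans h₂) y := by
  rw [← ConcreteCategory.comp_apply, ← Functor.map_comp]
  rfl

open ARSys in
lemma tr_nat {X Y : ℕᵒᵖ ⥤ AddCommGrpCat.{u}} (φ : X ⟶ Y) {n m : ℕ} (h : n ≤ m)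
    (y : X.obj (op m)) : tr Y h (φ.app (op m) y) = φ.app (op n) (tr X h y) :=
  (ConcreteCategory.congr_hom (φ.naturality (homOfLE h).op) y).symm

open ARSys in
/-- Mittag-Leffler over `ℕᵒᵖ`, in terms of natural numbers. -/
lemma ml_iff (F : ℕᵒᵖ ⥤ AddCommGrpCat.{u}) :
    (F ⋙ forget AddCommGrpCat).IsMittagLeffler ↔
      ∀ j : ℕ, ∃ (m : ℕ) (hm : j ≤ m), ∀ (l : ℕ) (hl : m ≤ l) (x : F.obj (op m)),
        ∃ y : F.obj (op l), tr F (hm.trans hl) y = tr F hm x := by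
  constructor
  · intro h j
    obtain ⟨i, f, hf⟩ := h (op j)
    have hm : j ≤ i.unop := f.unop.le
    refine ⟨i.unop, hm, fun l hl x => ?_⟩
    have hx : tr F hm x ∈ Set.range ((F ⋙ forget AddCommGrpCat).map f) := ⟨x, rfl⟩
    obtain ⟨y, hy⟩ := hf (homOfLE (hm.trans hl)).op hx
    exact ⟨y, hy⟩
  · intro h j
    obtain ⟨m, hm, H⟩ := h j.unop
    refine ⟨op m, (homOfLE hm).op, ?_⟩
    intro k g
    rintro _ ⟨x, rfl⟩
    rcases le_total m k.unop with hl | hl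
    · obtain ⟨y, hy⟩ := H k.unop hl x
      exact ⟨y, hy⟩
    · let t : op m ⟶ k := (homOfLE hl).op
      have ht : (homOfLE hm).op = t ≫ g := Subsingleton.elim _ _
      refine ⟨(F ⋙ forget AddCommGrpCat).map t x, ?_⟩
      rw [ht, Functor.map_comp_apply]

open ARSys in
lemma cone_nat {C : ℕᵒᵖ ⥤ AddCommGrpCat.{u}} {C₀ : AddCommGrpCat.{u}}
    (c : (Functor.const ℕᵒᵖ).obj C₀ ⟶ C) {n m : ℕ} (h : n ≤ m) (t : C₀) :
    tr C h (c.app (op m) t) = c.app (op n) t :=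
  (ConcreteCategory.congr_hom (c.naturality (homOfLE h).op) t).symm

open ARSys in
lemma ess_facts {C : ℕᵒᵖ ⥤ AddCommGrpCat.{u}} {C₀ : AddCommGrpCat.{u}}
    (c : (Functor.const ℕᵒᵖ).obj C₀ ⟶ C) (h : DerCA.IsEssConstant C C₀ c) :
    (∃ i : ℕ, ∀ j, i ≤ j → ∀ t : C₀, c.app (op j) t = 0 → t = 0) ∧
    (∀ j : ℕ, ∃ (k : ℕ) (hj : j ≤ k), ∀ z : C.obj (op k),
      ∃ t : C₀, tr C hj z = c.app (op j) t) := by
  obtain ⟨i, s, hs, H⟩ := h
  constructor
  · refine ⟨i, fun j hij t ht => ?_⟩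
    have h1 : c.app (op i) t = 0 := by
      rw [← cone_nat c hij t, ht, map_zero]
    have h2 : (c.app (op i) ≫ s) t = t := by rw [hs]; rfl
    rw [ConcreteCategory.comp_apply, h1, map_zero] at h2
    exact h2.symm
  · intro j
    obtain ⟨k, hi, hj, hk⟩ := H j
    refine ⟨k, hj, fun z => ⟨s (tr C hi z), ?_⟩⟩
    rw [hk]
    rfl

open ARSys in
/-- Take inverse systems `(A_i)`, `(B_i)`, `(C_i)` of abelian groups over `ℕ`, with morphisms of systems
`(A_i) ⟶ (B_i) ⟶ (C_i)` that give a short exact sequence at every index, and suppose `(C_i)` is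
essentially constant. Then `(A_i)` is Mittag-Leffler if and only if `(B_i)` is. -/
theorem result {A B C : ℕᵒᵖ ⥤ AddCommGrpCat.{u}} (a : A ⟶ B) (b : B ⟶ C) (ha : ∀ i, Function.Injective (a.app i).hom) (hb : ∀ i, Function.Surjective (b.app i).hom) (hex : ∀ i, (b.app i).hom.ker = (a.app i).hom.range) (hC : ∃ (C₀ : AddCommGrpCat.{u}) (c : (Functor.const ℕᵒᵖ).obj C₀ ⟶ C), DerCA.IsEssConstant C C₀ c) : (A ⋙ forget AddCommGrpCat).IsMittagLeffler ↔ (B ⋙ forget AddCommGrpCat).IsMittagLeffler := by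
  obtain ⟨C₀, c, hc⟩ := hC
  obtain ⟨⟨i, hinj⟩, hfac⟩ := ess_facts c hc
  have hab : ∀ (l : ℕᵒᵖ) (t : A.obj l), b.app l (a.app l t) = 0 := by
    intro l t
    have : a.app l t ∈ (b.app l).hom.ker := by
      rw [hex]; exact ⟨t, rfl⟩
    exact this
  have hex' : ∀ (l : ℕᵒᵖ) (y : B.obj l), b.app l y = 0 → ∃ t, a.app l t = y := by
    intro l y hy
    have : y ∈ (b.app l).hom.ker := hy
    rw [hex] at this
    exact this
  rw [ml_iff, ml_iff]
  constructor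
  · intro hA j
    obtain ⟨m₁, hm₁, H⟩ := hA j
    obtain ⟨k, hk, Hk⟩ := hfac m₁
    refine ⟨k, hm₁.trans hk, fun l hl β => ?_⟩
    obtain ⟨t, ht⟩ := Hk (b.app (op k) β)
    obtain ⟨γ, hγ⟩ := hb (op l) (c.app (op l) t)
    have h1 : b.app (op m₁) (tr B hk β - tr B (hk.trans hl) γ) = 0 := by
      rw [map_sub, ← tr_nat b, ← tr_nat b]
      erw [hγ]
      rw [cone_nat, ht, sub_self]
    obtain ⟨α₁, hα₁⟩ := hex' _ _ h1
    obtain ⟨α', hα'⟩ := H l (hk.trans hl) α₁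
    refine ⟨γ + a.app (op l) α', ?_⟩
    rw [map_add, tr_nat a, hα', ← tr_nat a, hα₁, map_sub, tr_tr, tr_tr]
    abel
  · intro hB j
    obtain ⟨m₁, hm₁, H⟩ := hB (max i j)
    have hj : j ≤ max i j := le_max_right _ _
    have hi : i ≤ max i j := le_max_left _ _
    refine ⟨m₁, hj.trans hm₁, fun l hl α => ?_⟩
    obtain ⟨l', hl', Hl'⟩ := hfac l
    obtain ⟨γ', hγ'⟩ := H l' (hl.trans hl') (a.app (op m₁) α)
    obtain ⟨t, ht⟩ := Hl' (b.app (op l') γ')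
    have h1 : b.app (op l) (tr B hl' γ') = c.app (op l) t := by
      rw [← tr_nat b]; exact ht
    have h2 : tr B (hm₁.trans hl) (tr B hl' γ') = tr B hm₁ (a.app _ α) := by
      rw [tr_tr]; exact hγ'
    have h3 : c.app (op (max i j)) t = 0 := by
      rw [← cone_nat c (hm₁.trans hl) t, ← h1, tr_nat b, h2, tr_nat a, hab]
    have h4 : t = 0 := hinj _ hi t h3
    have h5 : b.app (op l) (tr B hl' γ') = 0 := by rw [h1, h4, map_zero]
    obtain ⟨α', hα'⟩ := hex' _ _ h5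
    refine ⟨α', ?_⟩
    apply ha (op j)
    change a.app (op j) (tr A _ α') = a.app (op j) (tr A _ α)
    rw [← tr_nat a, ← tr_nat a, hα', ← tr_tr B hj hm₁, ← h2, tr_tr, tr_tr, tr_tr]

end Groth.Agent.S6787
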