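import Groth.Statements.S1812
-- import your own Groth.Agent.* helpers here
import Groth.Agent.Lib.Helper32.GammaColim
import Groth.Agent.Lib.Helper32.TriRF
import Groth.Agent.Lib.Helper32.KInjRes

set_option autoImplicit false
universe u
open CategoryTheory
attribute [local instance] HasDerivedCategory.standard
open LocCoh

namespace Groth.Agent.S1812

open Groth.Agent.Lib.Helper32 Groth.Agent.Lib.Helper32.KInjDerived CategoryTheory.Limits DerivedCategory

/-- Let A be a ring, I a finitely generated ideal and K an object of D(A); assume the total right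
derived functor RΓ_I of the I-power torsion functor exists. Then for every q the A-module
H^q(RΓ_I(K)) is isomorphic to the direct limit over n of the A-modules of maps A/I^n → K[q] in D(A). -/
theorem result (A : Type u) [CommRing A] (I : Ideal A) (hI : I.FG) [DRing.HasRgammaI I] (K : Dual.D A) (q : ℤ) : Nonempty (Dual.HD A ((DRing.RgammaI I).obj K) q ≃ₗ[A] Dual2.HDI A I K q) := by
  have hA : HasKInjRes (ModuleCat.{u} A) := by
    intro K
    obtain ⟨I, f, hI, hf, -, -⟩ := KInjRes.exists_kInjective_resolution K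
    exact ⟨I, f, hI, hf⟩
  obtain ⟨J, hJ, ⟨e⟩⟩ := TriRF.exists_kInj_rep hA K
  haveI := hJ
  haveI : IsIso (TriRF.β (DRing.gammaI I) (DRing.RgammaI I)
      ((DRing.gammaIKh I).totalRightDerivedUnit DerivedCategory.Qh
        (HomotopyCategory.quasiIso (ModuleCat.{u} A) (ComplexShape.up ℤ))) J) :=
    TriRF.isIso_β _ _ _ hA J
  haveI : (J⟦q⟧).IsKInjective := inferInstance
  obtain ⟨m⟩ := GammaColim.main I (J⟦q⟧)
  let ΓJ := ((DRing.gammaI I).mapHomologicalComplex (ComplexShape.up ℤ)).obj J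
  let i1 : (DerivedCategory.homologyFunctor (ModuleCat.{u} A) q).obj ((DRing.RgammaI I).obj K) ≅
      (DerivedCategory.homologyFunctor (ModuleCat.{u} A) q).obj ((DRing.RgammaI I).obj (Q.obj J)) :=
    (DerivedCategory.homologyFunctor (ModuleCat.{u} A) q).mapIso ((DRing.RgammaI I).mapIso e.symm)
  let i2 : (DerivedCategory.homologyFunctor (ModuleCat.{u} A) q).obj ((DRing.RgammaI I).obj (Q.obj J)) ≅
      (DerivedCategory.homologyFunctor (ModuleCat.{u} A) q).obj (Q.obj ΓJ) :=
    (DerivedCategory.homologyFunctor (ModuleCat.{u} A) q).mapIso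
      (asIso (TriRF.β (DRing.gammaI I) (DRing.RgammaI I)
      ((DRing.gammaIKh I).totalRightDerivedUnit DerivedCategory.Qh
        (HomotopyCategory.quasiIso (ModuleCat.{u} A) (ComplexShape.up ℤ))) J)).symm
  let i3 : (DerivedCategory.homologyFunctor (ModuleCat.{u} A) q).obj (Q.obj ΓJ) ≅ ΓJ.homology q :=
    (DerivedCategory.homologyFunctorFactors (ModuleCat.{u} A) q).app ΓJ
  let i4 : ΓJ.homology q ≅ (ΓJ⟦q⟧).homology 0 :=
    (((HomologicalComplex.homologyFunctor (ModuleCat.{u} A) (ComplexShape.up ℤ) 0).shiftIso q 0 q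
      (add_zero q)).app ΓJ).symm
  let i5 : (ΓJ⟦q⟧).homology 0 ≅ (GammaColim.GamL I (J⟦q⟧)).homology 0 :=
    (HomologicalComplex.homologyFunctor (ModuleCat.{u} A) (ComplexShape.up ℤ) 0).mapIso
      (((DRing.gammaI I).mapCochainComplexShiftIso q).app J).symm
  let w : K⟦q⟧ ≅ Q.obj (J⟦q⟧) :=
    (shiftFunctor (Dual.D A) q).mapIso e.symm ≪≫ ((Q.commShiftIso q).app J).symm
  let i6 : Dual2.HDI A I K q ≅ colimit (GammaColim.Fd I (Q.obj (J⟦q⟧))) :=
    HasColimit.isoOfNatIso (Functor.isoWhiskerLeft (GammaColim.Dg I)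
      ((linearYoneda A (Dual.D A)).mapIso w))
  exact ⟨(i1 ≪≫ i2 ≪≫ i3 ≪≫ i4 ≪≫ i5).toLinearEquiv ≪≫ₗ m ≪≫ₗ i6.symm.toLinearEquiv⟩

end Groth.Agent.S1812
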