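import Groth.Statements.S1725
import Groth.Agent.Lib.Helper35.CutoffCplB
import Groth.Agent.S9228

set_option autoImplicit false
universe u
open LocCoh

namespace Groth.Agent.S1725

open IsLocalRing Groth.Agent.Lib.Helper29 Groth.Agent.Lib.Helper35.CutoffCpl

section

variable (A : Type u) [CommRing A] [IsLocalRing A] [IsNoetherianRing A]

theorem arith (n : ℕ) (c x y h h' g d : ℕ∞) (hc : c ≤ x + h) (hy : min (n : ℕ∞) d ≤ y)
    (hrel : h' + d = g + h) (h1 : 1 ≤ h') : min ((n : ℕ∞) + 1) c ≤ x + y + h' := by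
  rcases min_le_iff.mp hy with hn | hdy
  · calc min ((n : ℕ∞) + 1) c ≤ (n : ℕ∞) + 1 := min_le_left _ _
      _ ≤ y + h' := add_le_add hn h1
      _ ≤ x + y + h' := by gcongr; exact le_add_self
  · calc min ((n : ℕ∞) + 1) c ≤ c := min_le_right _ _
      _ ≤ x + h := hc
      _ ≤ x + (g + h) := by gcongr; exact le_add_self
      _ = x + (h' + d) := by rw [← hrel]
      _ ≤ x + (h' + y) := by gcongr
      _ = x + y + h' := by rw [add_comm h', add_assoc]

theorem cutoff_le_of_pair (I : Ideal A) (M : Type u) [AddCommGroup M] [Module A M]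
    (p q : PrimeSpectrum A) (hpq : p ≤ q) (hIp : ¬ I ≤ p.asIdeal) (hIq : I ≤ q.asIdeal) :
    Dual2.cutoff A I M ≤
      LocCoh.depth (Localization.AtPrime p.asIdeal) (LocalizedModule p.asIdeal.primeCompl M) +
        Order.height (⟨q, hpq⟩ : Set.Ici p) := by
  unfold Dual2.cutoff
  exact (iInf_le _ p).trans ((iInf_le _ q).trans ((iInf_le _ hpq).trans
    ((iInf_le _ hIp).trans (iInf_le _ hIq))))

theorem part2 (hFC : EGA4.IsFormallyCatenary A) (hcatA : CAlg.IsCatenary A) (I : Ideal A)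
    (M : Type u) [AddCommGroup M] [Module A M] [Module.Finite A M] (n : ℕ)
    (hS : EGA4.HasSnFormalFibres n A) :
    min ((n : ℕ∞) + 1) (Dual2.cutoff A I M) ≤
      Dual2.cutoff (EGA4.Cpl A) (I.map (algebraMap A (EGA4.Cpl A)))
        (AdicCompletion (maximalIdeal A) M) := by
  haveI := isLocalRing_cpl A
  haveI := isNoetherianRing_cpl A
  refine le_iInf fun p' => le_iInf fun q' => le_iInf fun hpq => le_iInf fun hIp => le_iInf fun hIq => ?_
  have hIpA : ¬ I ≤ (PrimeSpectrum.comap (algebraMap A (EGA4.Cpl A)) p').asIdeal := fun h =>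
    hIp (Ideal.map_le_iff_le_comap.mpr h)
  have hIqA : I ≤ (PrimeSpectrum.comap (algebraMap A (EGA4.Cpl A)) q').asIdeal :=
    Ideal.map_le_iff_le_comap.mp hIq
  have hpqA : PrimeSpectrum.comap (algebraMap A (EGA4.Cpl A)) p' ≤
      PrimeSpectrum.comap (algebraMap A (EGA4.Cpl A)) q' := Ideal.comap_mono hpq
  have hc := cutoff_le_of_pair A I M _ _ hpqA hIpA hIqA
  haveI := isLocalRing_fibLocRing A (EGA4.Cpl A) p'.asIdeal
  have hdep := depth_cpl_eq_add A M p'.asIdeal
  have hrel := height_relation A hFC hcatA p' q' hpq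
  haveI : IsNoetherianRing (Localization.AtPrime p'.asIdeal) :=
    IsLocalization.isNoetherianRing p'.asIdeal.primeCompl _ inferInstance
  obtain ⟨d, hd⟩ := exists_nat_ringKrullDim_eq (EGA4.FibLocRing A (EGA4.Cpl A) p'.asIdeal)
  have hy := min_le_depth_fibLocRing A (EGA4.Cpl A) n (fun p _ => hS p) p'.asIdeal d hd
  have hf := ringKrullDim_fibLocRing A (EGA4.Cpl A) p'.asIdeal
  rw [hd] at hf
  have hf' : ((p'.asIdeal.map (Ideal.Quotient.mk
      ((p'.asIdeal.under A).map (algebraMap A (EGA4.Cpl A))))).height : ℕ∞) = (d : ℕ∞) := by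
    have : (((d : ℕ∞)) : WithBot ℕ∞) = _ := hf
    exact (WithBot.coe_injective this).symm
  rw [hf'] at hrel
  have h1 : (1 : ℕ∞) ≤ Order.height (⟨q', hpq⟩ : Set.Ici p') := by
    rw [Order.one_le_iff_ne_zero, Order.height_ne_zero]
    intro hmin
    have : (⟨q', hpq⟩ : Set.Ici p') ≤ ⟨p', le_refl p'⟩ := hmin (show (⟨p', le_refl p'⟩ : Set.Ici p') ≤ ⟨q', hpq⟩ from hpq)
    exact hIp (hIq.trans this)
  rw [hdep]
  exact arith n _ _ _ _ _ _ _ hc hy hrel h1

theorem height_map_eq_zero_of_mem_minimalPrimes {R : Type u} [CommRing R] (J P : Ideal R)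
    (hP : P ∈ J.minimalPrimes) : (P.map (Ideal.Quotient.mk J)).height = 0 := by
  rw [Ideal.minimalPrimes_eq_comap] at hP
  obtain ⟨P'', hP'', rfl⟩ := hP
  rw [Ideal.map_comap_of_surjective _ Ideal.Quotient.mk_surjective]
  haveI : P''.IsPrime := hP''.1.1
  exact Ideal.height_eq_zero_iff.mpr hP''

theorem part1_aux (hFC : EGA4.IsFormallyCatenary A) (hcatA : CAlg.IsCatenary A) (I : Ideal A)
    (M : Type u) [AddCommGroup M] [Module A M] [Module.Finite A M]
    (p' q' : PrimeSpectrum (EGA4.Cpl A)) (hpq' : p' ≤ q')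
    (p q : PrimeSpectrum A) (hp : PrimeSpectrum.comap (algebraMap A (EGA4.Cpl A)) p' = p)
    (hq : PrimeSpectrum.comap (algebraMap A (EGA4.Cpl A)) q' = q) (hpq : p ≤ q)
    (hminp : p'.asIdeal ∈ (p.asIdeal.map (algebraMap A (EGA4.Cpl A))).minimalPrimes)
    (hminq : q'.asIdeal ∈ (q.asIdeal.map (algebraMap A (EGA4.Cpl A))).minimalPrimes)
    (hIp : ¬ I ≤ p.asIdeal) (hIq : I ≤ q.asIdeal) :
    Dual2.cutoff (EGA4.Cpl A) (I.map (algebraMap A (EGA4.Cpl A)))
        (AdicCompletion (maximalIdeal A) M) ≤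
      LocCoh.depth (Localization.AtPrime p.asIdeal) (LocalizedModule p.asIdeal.primeCompl M) +
        Order.height (⟨q, hpq⟩ : Set.Ici p) := by
  subst hp hq
  haveI := isLocalRing_cpl A
  haveI := isNoetherianRing_cpl A
  have hIp' : ¬ I.map (algebraMap A (EGA4.Cpl A)) ≤ p'.asIdeal := fun h =>
    hIp (Ideal.map_le_iff_le_comap.mp h)
  have hIq' : I.map (algebraMap A (EGA4.Cpl A)) ≤ q'.asIdeal :=
    Ideal.map_le_iff_le_comap.mpr hIq
  have hc := cutoff_le_of_pair (EGA4.Cpl A) (I.map (algebraMap A (EGA4.Cpl A)))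
    (AdicCompletion (maximalIdeal A) M) p' q' hpq' hIp' hIq'
  haveI := isLocalRing_fibLocRing A (EGA4.Cpl A) p'.asIdeal
  have hdep := depth_cpl_eq_add A M p'.asIdeal
  have hrel := height_relation A hFC hcatA p' q' hpq'
  haveI : IsNoetherianRing (Localization.AtPrime p'.asIdeal) :=
    IsLocalization.isNoetherianRing p'.asIdeal.primeCompl _ inferInstance
  have hf := ringKrullDim_fibLocRing A (EGA4.Cpl A) p'.asIdeal
  have hf0 := height_map_eq_zero_of_mem_minimalPrimes _ _ hminp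
  have hg0 := height_map_eq_zero_of_mem_minimalPrimes _ _ hminq
  change (p'.asIdeal.map (Ideal.Quotient.mk
      ((p'.asIdeal.under A).map (algebraMap A (EGA4.Cpl A))))).height = 0 at hf0
  change (q'.asIdeal.map (Ideal.Quotient.mk
      ((q'.asIdeal.under A).map (algebraMap A (EGA4.Cpl A))))).height = 0 at hg0
  rw [hf0, hg0, add_zero, zero_add] at hrel
  rw [hf0] at hf
  have hy : LocCoh.depth (EGA4.FibLocRing A (EGA4.Cpl A) p'.asIdeal)
      (EGA4.FibLocRing A (EGA4.Cpl A) p'.asIdeal) = 0 := by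
    have h1 := depth_le_supportDim (A := EGA4.FibLocRing A (EGA4.Cpl A) p'.asIdeal)
      (EGA4.FibLocRing A (EGA4.Cpl A) p'.asIdeal)
    rw [Module.supportDim_self_eq_ringKrullDim, hf] at h1
    have h2 : LocCoh.depth (EGA4.FibLocRing A (EGA4.Cpl A) p'.asIdeal)
      (EGA4.FibLocRing A (EGA4.Cpl A) p'.asIdeal) ≤ 0 := by exact_mod_cast h1
    exact le_antisymm h2 bot_le
  rw [hdep, hy, add_zero, hrel] at hc
  exact hc

theorem part1 (hFC : EGA4.IsFormallyCatenary A) (hcatA : CAlg.IsCatenary A) (I : Ideal A)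
    (M : Type u) [AddCommGroup M] [Module A M] [Module.Finite A M] :
    Dual2.cutoff (EGA4.Cpl A) (I.map (algebraMap A (EGA4.Cpl A)))
        (AdicCompletion (maximalIdeal A) M) ≤ Dual2.cutoff A I M := by
  haveI := isLocalRing_cpl A
  haveI := isNoetherianRing_cpl A
  haveI : Module.Flat A (EGA4.Cpl A) := (faithfullyFlat_cpl A).toFlat
  refine le_iInf fun p => le_iInf fun q => le_iInf fun hpq => le_iInf fun hIp => le_iInf fun hIq => ?_
  obtain ⟨⟨q'0, hq'0⟩⟩ := Ideal.nonempty_minimalPrimes (map_cpl_ne_top A q.asIdeal q.isPrime.ne_top)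
  haveI : q'0.IsPrime := hq'0.1.1
  have hle : p.asIdeal.map (algebraMap A (EGA4.Cpl A)) ≤ q'0 :=
    (Ideal.map_mono hpq).trans hq'0.1.2
  obtain ⟨p'0, hp'0, hp'0le⟩ := Ideal.exists_minimalPrimes_le hle
  haveI : p'0.IsPrime := hp'0.1.1
  have hpc := comap_eq_of_mem_minimalPrimes_map p.asIdeal hp'0
  have hqc := comap_eq_of_mem_minimalPrimes_map q.asIdeal hq'0
  exact part1_aux A hFC hcatA I M ⟨p'0, inferInstance⟩ ⟨q'0, inferInstance⟩ hp'0le p q
    (PrimeSpectrum.ext hpc) (PrimeSpectrum.ext hqc) hpq hp'0 hq'0 hIp hIq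

end


/-- Let A be a universally catenary Noetherian local ring, I an ideal, M a finite A-module, and A', M'
the completions of A and M at the maximal ideal. Then s_{A', IA'}(M') ≤ s_{A,I}(M); and when A's
formal fibres satisfy (S_n), the completed invariant s_{A', IA'}(M') is at least min(n + 1,
s_{A,I}(M)). -/
theorem result (A : Type u) [CommRing A] [IsLocalRing A] [IsNoetherianRing A] (hA : CAlg.IsUniversallyCatenary A) (I : Ideal A) (M : Type u) [AddCommGroup M] [Module A M] [Module.Finite A M] (n : ℕ) : Dual2.cutoff (AdicCompletion (IsLocalRing.maximalIdeal A) A) (I.map (algebraMap A (AdicCompletion (IsLocalRing.maximalIdeal A) A))) (AdicCompletion (IsLocalRing.maximalIdeal A) M) ≤ Dual2.cutoff A I M ∧ (EGA4.HasSnFormalFibres n A → min ((n : ℕ∞) + 1) (Dual2.cutoff A I M) ≤ Dual2.cutoff (AdicCompletion (IsLocalRing.maximalIdeal A) A) (I.map (algebraMap A (AdicCompletion (IsLocalRing.maximalIdeal A) A))) (AdicCompletion (IsLocalRing.maximalIdeal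 A) M)) := by
  have hcatA : CAlg.IsCatenary A := hA.2 A inferInstance
  have hFC := Groth.Agent.S9228.result A hA
  exact ⟨part1 A hFC hcatA I M, fun hS => part2 A hFC hcatA I M n hS⟩

end Groth.Agent.S1725
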