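import Mathlib
import Groth.Statements.S7225

set_option autoImplicit false
universe u
open CategoryTheory CategoryTheory.Limits TensorProduct
attribute [local instance] HasDerivedCategory.standard
open FlatMor

namespace Groth.Agent.S7225


open Algebra Algebra.Extension

section doubleIso

open CategoryTheory.Limits HomologicalComplex

lemma isIso_mkHomFromDouble {C : Type*} [Category C] [HasZeroMorphisms C] [HasZeroObject C]
    {ι : Type*} {c : ComplexShape ι} {i₀ i₁ : ι} (hi₀₁ : c.Rel i₀ i₁) (h : i₀ ≠ i₁)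
    {X₀ X₁ : C} {f : X₀ ⟶ X₁} {K : HomologicalComplex C c}
    (φ₀ : X₀ ⟶ K.X i₀) (φ₁ : X₁ ⟶ K.X i₁) (comm : φ₀ ≫ K.d i₀ i₁ = f ≫ φ₁)
    (hφ : ∀ (k : ι), c.Rel i₁ k → φ₁ ≫ K.d i₁ k = 0) (_ : IsIso φ₀) (_ : IsIso φ₁)
    (hK : ∀ k, k ≠ i₀ → k ≠ i₁ → IsZero (K.X k)) :
    IsIso (mkHomFromDouble hi₀₁ h φ₀ φ₁ comm hφ) := by
  have : ∀ k : ι, IsIso ((mkHomFromDouble hi₀₁ h φ₀ φ₁ comm hφ).f k) := by
    intro k
    by_cases h0 : k = i₀
    · subst h0
      rw [mkHomFromDouble_f₀]
      infer_instance
    · by_cases h1 : k = i₁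
      · subst h1
        rw [mkHomFromDouble_f₁]
        infer_instance
      · have hz1 := isZero_double_X f hi₀₁ k h0 h1
        have hz2 := hK k h0 h1
        exact ⟨⟨0, hz1.eq_of_src _ _, hz2.eq_of_src _ _⟩⟩
  exact HomologicalComplex.Hom.isIso_of_components _

end doubleIso

section cot

variable {A A' B : Type u} [CommRing A] [CommRing A'] [CommRing B] [Algebra A A'] [Algebra A' B]
  [Algebra A B] [IsScalarTower A A' B]

lemma mem_sq_of_smul_mem (P : Algebra.Extension.{u} A B) (q c x : P.Ring)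
    (hq : algebraMap P.Ring B q * algebraMap P.Ring B c = 1) (hx : x ∈ P.ker)
    (hcx : c * x ∈ P.ker ^ 2) : x ∈ P.ker ^ 2 := by
  have h1 : q * c - 1 ∈ P.ker := by
    rw [Algebra.Extension.ker, RingHom.mem_ker, map_sub, map_mul, hq, map_one, sub_self]
  have h2 : x = q * (c * x) - (q * c - 1) * x := by ring
  rw [h2]
  refine Ideal.sub_mem _ (Ideal.mul_mem_left _ _ hcx) ?_
  rw [pow_two]
  exact Ideal.mul_mem_mul h1 hx

theorem cotangent_map_bijective
    (P : Algebra.Extension.{u} A B) (P' : Algebra.Extension.{u} A' B) (f : P.Hom P') (M : Submonoid A)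
    (hu : ∀ m ∈ M, IsUnit (algebraMap A B m))
    (F1 : ∀ y : P'.Ring, ∃ m ∈ M, ∃ x : P.Ring,
      f.toRingHom x = algebraMap A' P'.Ring (algebraMap A A' m) * y)
    (F2 : ∀ x : P.Ring, f.toRingHom x = 0 → ∃ m ∈ M, algebraMap A P.Ring m * x = 0) :
    Function.Bijective (Algebra.Extension.Cotangent.map f) := by
  have himg : ∀ x : P.Ring, algebraMap P'.Ring B (f.toRingHom x) = algebraMap P.Ring B x := by
    intro x
    rw [f.algebraMap_toRingHom]
    rfl
  have hker : ∀ x : P.Ring, x ∈ P.ker ↔ f.toRingHom x ∈ P'.ker := by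
    intro x
    rw [Algebra.Extension.ker, Algebra.Extension.ker, RingHom.mem_ker, RingHom.mem_ker, himg]
  have hc' : ∀ m : A, algebraMap P'.Ring B (algebraMap A' P'.Ring (algebraMap A A' m)) =
      algebraMap A B m := by
    intro m
    rw [← IsScalarTower.algebraMap_apply A' P'.Ring B, ← IsScalarTower.algebraMap_apply A A' B]
  have hc : ∀ m : A, algebraMap P.Ring B (algebraMap A P.Ring m) = algebraMap A B m := by
    intro m
    rw [← IsScalarTower.algebraMap_apply A P.Ring B]
  have hfc : ∀ m : A, f.toRingHom (algebraMap A P.Ring m) =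
      algebraMap A' P'.Ring (algebraMap A A' m) := fun m => f.toRingHom_algebraMap m
  have hinv : ∀ m ∈ M, ∃ q : P.Ring, algebraMap P.Ring B q * algebraMap A B m = 1 := by
    intro m hm
    obtain ⟨q, hq⟩ := P.algebraMap_surjective (↑(hu m hm).unit⁻¹ : B)
    refine ⟨q, ?_⟩
    rw [hq]
    exact (hu m hm).val_inv_mul
  constructor
  · -- injective
    rw [injective_iff_map_eq_zero]
    intro z hz
    obtain ⟨x, rfl⟩ := Algebra.Extension.Cotangent.mk_surjective z
    rw [Algebra.Extension.Cotangent.map_mk, Algebra.Extension.Cotangent.mk_eq_zero_iff] at hz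
    rw [Algebra.Extension.Cotangent.mk_eq_zero_iff]
    have hz' : f.toRingHom x.1 ∈ P'.ker ^ 2 := hz
    have hJ : ∀ w ∈ P'.ker ^ 2, ∃ m ∈ M, ∃ t ∈ P.ker ^ 2,
        f.toRingHom t = algebraMap A' P'.Ring (algebraMap A A' m) * w := by
      intro w hw
      rw [pow_two] at hw
      induction hw using Submodule.mul_induction_on' with
      | mem_mul_mem y₁ hy₁ y₂ hy₂ =>
        obtain ⟨m₁, hm₁, x₁, hx₁⟩ := F1 y₁
        obtain ⟨m₂, hm₂, x₂, hx₂⟩ := F1 y₂
        have hx₁k : x₁ ∈ P.ker := by
          rw [hker, hx₁]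
          exact Ideal.mul_mem_left _ _ hy₁
        have hx₂k : x₂ ∈ P.ker := by
          rw [hker, hx₂]
          exact Ideal.mul_mem_left _ _ hy₂
        refine ⟨m₁ * m₂, M.mul_mem hm₁ hm₂, x₁ * x₂, ?_, ?_⟩
        · rw [pow_two]
          exact Ideal.mul_mem_mul hx₁k hx₂k
        · rw [map_mul, hx₁, hx₂, map_mul, map_mul]
          ring
      | add w₁ hw₁ w₂ hw₂ ih₁ ih₂ =>
        obtain ⟨m₁, hm₁, t₁, ht₁, e₁⟩ := ih₁
        obtain ⟨m₂, hm₂, t₂, ht₂, e₂⟩ := ih₂
        refine ⟨m₁ * m₂, M.mul_mem hm₁ hm₂,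
          algebraMap A P.Ring m₂ * t₁ + algebraMap A P.Ring m₁ * t₂, ?_, ?_⟩
        · exact Ideal.add_mem _ (Ideal.mul_mem_left _ _ ht₁) (Ideal.mul_mem_left _ _ ht₂)
        · rw [map_add, map_mul, map_mul, e₁, e₂, hfc, hfc, map_mul, map_mul]
          ring
    obtain ⟨m, hm, t, ht, e⟩ := hJ _ hz'
    have e' : f.toRingHom (algebraMap A P.Ring m * x.1 - t) = 0 := by
      rw [map_sub, map_mul, hfc, e, sub_self]
    obtain ⟨m', hm', e''⟩ := F2 _ e'
    have h3 : algebraMap A P.Ring (m' * m) * x.1 ∈ P.ker ^ 2 := by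
      have : algebraMap A P.Ring (m' * m) * x.1 = algebraMap A P.Ring m' * t := by
        rw [map_mul]
        linear_combination e''
      rw [this]
      exact Ideal.mul_mem_left _ _ ht
    obtain ⟨q, hq⟩ := hinv (m' * m) (M.mul_mem hm' hm)
    exact mem_sq_of_smul_mem P q _ x.1 (by rw [hc]; exact hq) x.2 h3
  · -- surjective
    intro y'
    obtain ⟨y, rfl⟩ := Algebra.Extension.Cotangent.mk_surjective y'
    obtain ⟨m, hm, x₀, hx₀⟩ := F1 y.1
    have hx₀k : x₀ ∈ P.ker := by
      rw [hker, hx₀]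
      exact Ideal.mul_mem_left _ _ y.2
    obtain ⟨q, hq⟩ := hinv m hm
    refine ⟨Algebra.Extension.Cotangent.mk ⟨q * x₀, Ideal.mul_mem_left _ _ hx₀k⟩, ?_⟩
    rw [Algebra.Extension.Cotangent.map_mk, Algebra.Extension.Cotangent.mk_eq_mk_iff_sub_mem]
    show f.toRingHom (q * x₀) - y.1 ∈ P'.ker ^ 2
    have h1 : f.toRingHom q * algebraMap A' P'.Ring (algebraMap A A' m) - 1 ∈ P'.ker := by
      rw [Algebra.Extension.ker, RingHom.mem_ker, map_sub, map_mul, himg, hc', hq, map_one, sub_self]
    have h2 : f.toRingHom (q * x₀) - y.1 =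
        (f.toRingHom q * algebraMap A' P'.Ring (algebraMap A A' m) - 1) * y.1 := by
      rw [map_mul, hx₀]
      ring
    rw [h2, pow_two]
    exact Ideal.mul_mem_mul h1 y.2

end cot

section space

variable {A A' B : Type u} [CommRing A] [CommRing A'] [CommRing B] [Algebra A A'] [Algebra A' B]
  [Algebra A B] [IsScalarTower A A' B] {ι : Type u}
  (G : Algebra.Generators A B ι) (G' : Algebra.Generators A' B ι)
  (h : ∀ i, G'.val i = algebraMap B B (G.val i))

lemma sameVars_toRingHom (x : G.toExtension.Ring) :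
    (NLCx.sameVarsHom (S' := B) G G' h).toExtensionHom.toRingHom x =
      MvPolynomial.map (algebraMap A A') (x : MvPolynomial ι A) := by
  show (NLCx.sameVarsHom (S' := B) G G' h).toAlgHom x = _
  induction x using MvPolynomial.induction_on with
  | C a =>
    rw [Algebra.Generators.Hom.toAlgHom_C, MvPolynomial.map_C]
  | add p q hp hq => rw [map_add, map_add, hp, hq]
  | mul_X p i hp =>
    rw [map_mul, map_mul, hp, Algebra.Generators.Hom.toAlgHom_X, MvPolynomial.map_X]
    rfl

lemma cotangentSpace_map_bijective :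
    Function.Bijective (Algebra.Extension.CotangentSpace.map
      (NLCx.sameVarsHom (S' := B) G G' h).toExtensionHom) := by
  classical
  have hb : ∀ i, Algebra.Extension.CotangentSpace.map
      (NLCx.sameVarsHom (S' := B) G G' h).toExtensionHom (G.cotangentSpaceBasis i) =
      G'.cotangentSpaceBasis i := by
    intro i
    apply G'.cotangentSpaceBasis.repr.injective
    ext j
    rw [Algebra.Generators.repr_CotangentSpaceMap, Module.Basis.repr_self]
    show (MvPolynomial.aeval G'.val) (MvPolynomial.pderiv j (MvPolynomial.X i)) = _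
    rw [MvPolynomial.pderiv_X, Finsupp.single_apply, Pi.single_apply]
    by_cases hij : i = j
    · subst hij
      simp
    · rw [if_neg hij, if_neg hij, map_zero]
  have heq : Algebra.Extension.CotangentSpace.map
      (NLCx.sameVarsHom (S' := B) G G' h).toExtensionHom =
      (G.cotangentSpaceBasis.equiv G'.cotangentSpaceBasis (Equiv.refl ι)).toLinearMap := by
    apply G.cotangentSpaceBasis.ext
    intro i
    rw [hb]
    simp
  rw [heq]
  exact (G.cotangentSpaceBasis.equiv G'.cotangentSpaceBasis (Equiv.refl ι)).bijective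

end space

section locpoly

variable {A A' : Type u} [CommRing A] [CommRing A'] [Algebra A A'] (M : Submonoid A)
  [IsLocalization M A'] (ι : Type u)

attribute [local instance] MvPolynomial.algebraMvPolynomial

lemma loc_F1 (y : MvPolynomial ι A') : ∃ m ∈ M, ∃ x : MvPolynomial ι A,
    MvPolynomial.map (algebraMap A A') x = MvPolynomial.C (algebraMap A A' m) * y := by
  obtain ⟨⟨x, c⟩, hc⟩ := IsLocalization.surj (M.map (MvPolynomial.C (σ := ι))) y
  obtain ⟨m, hm, hmc⟩ := c.2
  refine ⟨m, hm, x, ?_⟩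
  rw [MvPolynomial.algebraMap_def] at hc
  simp only at hc
  rw [← hc, ← hmc, MvPolynomial.map_C, mul_comm]

lemma loc_F2 (x : MvPolynomial ι A) (hx : MvPolynomial.map (algebraMap A A') x = 0) :
    ∃ m ∈ M, MvPolynomial.C m * x = 0 := by
  have hx' : algebraMap (MvPolynomial ι A) (MvPolynomial ι A') x =
      algebraMap (MvPolynomial ι A) (MvPolynomial ι A') 0 := by
    rw [MvPolynomial.algebraMap_def, map_zero]
    exact hx
  obtain ⟨c, hc⟩ := IsLocalization.exists_of_eq (M := M.map (MvPolynomial.C (σ := ι))) hx'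
  obtain ⟨m, hm, hmc⟩ := c.2
  refine ⟨m, hm, ?_⟩
  rw [mul_zero, ← hmc] at hc
  exact hc

end locpoly

/-- Let A be a ring, M a submonoid of A, A' a localization of A at M and B an A'-algebra, viewed also as
an A-algebra. Let G be a presentation of B over A by a polynomial algebra and G' the presentation of
B over A' with the same generators (G'(i) = G(i), written through the identity algebra map of B).
Then the canonical chain map NL(G) → NL(G') from the naive cotangent complex of the presentation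
over A to that of the presentation over A' is an isomorphism of complexes (so that NL_{B/A} →
NL_{B/A'} is a homotopy equivalence). -/
theorem result (A A' B : Type u) [CommRing A] [CommRing A'] [CommRing B]
    [Algebra A A'] (M : Submonoid A) [IsLocalization M A'] [Algebra A' B] [Algebra A B] [IsScalarTower A A' B]
    {ι : Type u} (G : Algebra.Generators A B ι) (G' : Algebra.Generators A' B ι) (h : ∀ i, G'.val i = algebraMap B B (G.val i)) :
    IsIso (NLCx.map (NLCx.sameVarsHom (S' := B) G G' h).toExtensionHom) := by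
  have hu : ∀ m ∈ M, IsUnit (algebraMap A B m) := by
    intro m hm
    rw [IsScalarTower.algebraMap_apply A A' B]
    exact (IsLocalization.map_units A' ⟨m, hm⟩).map _
  have F1 : ∀ y : G'.toExtension.Ring, ∃ m ∈ M, ∃ x : G.toExtension.Ring,
      (NLCx.sameVarsHom (S' := B) G G' h).toExtensionHom.toRingHom x =
        algebraMap A' G'.toExtension.Ring (algebraMap A A' m) * y := by
    intro y
    obtain ⟨m, hm, x, hx⟩ := loc_F1 M ι y
    exact ⟨m, hm, x, (sameVars_toRingHom G G' h x).trans hx⟩
  have F2 : ∀ x : G.toExtension.Ring,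
      (NLCx.sameVarsHom (S' := B) G G' h).toExtensionHom.toRingHom x = 0 →
        ∃ m ∈ M, algebraMap A G.toExtension.Ring m * x = 0 := by
    intro x hx
    exact loc_F2 M ι x ((sameVars_toRingHom G G' h x).symm.trans hx)
  have h1 := cotangent_map_bijective G.toExtension G'.toExtension
    (NLCx.sameVarsHom (S' := B) G G' h).toExtensionHom M hu F1 F2
  have h0 := cotangentSpace_map_bijective G G' h
  unfold NLCx.map
  refine isIso_mkHomFromDouble _ _ _ _ _ _ ?_ ?_ ?_
  · exact @IsIso.comp_isIso _ _ _ _ _ _ _ ((ConcreteCategory.isIso_iff_bijective _).mpr h1) (Iso.isIso_inv _)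
  · exact @IsIso.comp_isIso _ _ _ _ _ _ _ ((ConcreteCategory.isIso_iff_bijective _).mpr h0) (Iso.isIso_inv _)
  · intro k hk0 hk1
    exact HomologicalComplex.isZero_double_X _ _ k hk0 hk1

end Groth.Agent.S7225
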