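import Mathlib
import Groth.Statements.S7224
import Groth.Agent.S7221
import Groth.Agent.S7225

set_option autoImplicit false
universe u
open CategoryTheory CategoryTheory.Limits TensorProduct
attribute [local instance] HasDerivedCategory.standard
open FlatMor

namespace Groth.Agent.S7224


open Algebra Algebra.Extension TensorProduct

section inj

variable {R S R' S' : Type u} [CommRing R] [CommRing S] [CommRing R'] [CommRing S']
  [Algebra R S] [Algebra R' S'] [Algebra R R'] [Algebra S S'] [Algebra R S']
  [IsScalarTower R R' S'] [IsScalarTower R S S'] [Algebra.IsPushout R R' S S'] [Module.Flat R R']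
  (P : Algebra.Extension.{u} R S) (P' : Algebra.Extension.{u} R' S') (f : P.Hom P')
  (α : R' ⊗[R] P.Ring ≃ₐ[R'] P'.Ring) (hα : ∀ x : P.Ring, α ((1 : R') ⊗ₜ[R] x) = f.toRingHom x)
  (hker : P'.ker ≤ Ideal.map f.toRingHom P.ker)

include hα hker in
theorem lift_cotangent_injective_gen :
    Function.Injective (LinearMap.liftBaseChange S' (Algebra.Extension.Cotangent.map f)) := by
  classical
  let a : P.Ring →+* R' ⊗[R] P.Ring :=
    (Algebra.TensorProduct.includeRight : P.Ring →ₐ[R] R' ⊗[R] P.Ring).toRingHom
  let Ie : Ideal (R' ⊗[R] P.Ring) := P.ker.map a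
  have hα1 : Ie ≤ P'.ker.comap α.toAlgHom := by
    rw [Ideal.map_le_iff_le_comap]
    intro x hx
    show α (a x) ∈ P'.ker
    have h1 : a x = (1 : R') ⊗ₜ[R] x := rfl
    rw [h1, hα]
    show algebraMap P'.Ring S' (f.toRingHom x) = 0
    rw [f.algebraMap_toRingHom, show algebraMap P.Ring S x = 0 from hx, map_zero]
  have hα2 : P'.ker ≤ Ie.comap α.symm.toAlgHom := by
    refine hker.trans ?_
    rw [Ideal.map_le_iff_le_comap]
    intro x hx
    show α.symm (f.toRingHom x) ∈ Ie
    rw [← hα, AlgEquiv.symm_apply_apply]
    exact Ideal.mem_map_of_mem a hx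
  let τ := Ideal.tensorCotangentHom R R' P.ker
  have hτ : Function.Injective τ := Ideal.tensorCotangentHom_injective_of_flat R R' P.ker
  let μ := Ideal.mapCotangent Ie P'.ker α.toAlgHom hα1
  let ν := Ideal.mapCotangent P'.ker Ie α.symm.toAlgHom hα2
  have hνμ : ∀ y, ν (μ y) = y := by
    intro y
    obtain ⟨y, rfl⟩ := Ideal.toCotangent_surjective _ y
    rw [Ideal.mapCotangent_toCotangent, Ideal.mapCotangent_toCotangent]
    congr 1
    exact Subtype.ext (α.symm_apply_apply y.1)
  have hμ : Function.Injective μ := Function.LeftInverse.injective hνμ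
  let e := Algebra.IsPushout.cancelBaseChange R R' S S' P.Cotangent
  let κ : R' ⊗[R] P.Cotangent ≃ₗ[R'] R' ⊗[R] P.ker.Cotangent :=
    TensorProduct.AlgebraTensorModule.congr (LinearEquiv.refl R' R')
      (P.cotangentEquivCotangentKer.restrictScalars R)
  have key : ∀ z : R' ⊗[R] P.Cotangent, Algebra.Extension.Cotangent.of (μ (τ (κ z))) =
      LinearMap.liftBaseChange S' (Algebra.Extension.Cotangent.map f) (e.symm z) := by
    intro z
    induction z using TensorProduct.induction_on with
    | zero =>
      rw [map_zero, map_zero, map_zero, map_zero, map_zero]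
      rfl
    | tmul r m =>
      obtain ⟨x, rfl⟩ := Algebra.Extension.Cotangent.mk_surjective m
      rw [Algebra.IsPushout.cancelBaseChange_symm_tmul, LinearMap.liftBaseChange_tmul,
        Algebra.Extension.Cotangent.map_mk]
      have h1 : κ (r ⊗ₜ Algebra.Extension.Cotangent.mk x) = r ⊗ₜ P.ker.toCotangent x := rfl
      rw [h1, Ideal.tensorCotangentHom_tmul, map_smul, Ideal.mapCotangent_toCotangent]
      apply Algebra.Extension.Cotangent.ext
      rw [algebraMap_smul, Algebra.Extension.Cotangent.val_smul'',
        Algebra.Extension.Cotangent.val_mk]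
      show r • _ = r • _
      congr 2
      exact Subtype.ext (hα x.1)
    | add a b ha hb =>
      rw [map_add, map_add, map_add, map_add, map_add, ← ha, ← hb]
      rfl
  rw [injective_iff_map_eq_zero]
  intro t ht
  have h1 := key (e t)
  rw [LinearEquiv.symm_apply_apply, ht] at h1
  have h2 : μ (τ (κ (e t))) = 0 := h1
  have h3 : τ (κ (e t)) = 0 := hμ (h2.trans (map_zero μ).symm)
  have h4 : κ (e t) = 0 := hτ (h3.trans (map_zero τ).symm)
  have h5 : e t = 0 := κ.injective (h4.trans (map_zero κ).symm)
  exact e.injective (h5.trans (map_zero e).symm)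

end inj

section part1

variable {R S R' S' : Type u} [CommRing R] [CommRing S] [CommRing R'] [CommRing S']
  [Algebra R S] [Algebra R' S'] [Algebra R R'] [Algebra S S'] [Algebra R S']
  [IsScalarTower R R' S'] [IsScalarTower R S S'] [Algebra.IsPushout R R' S S'] [Module.Flat R R']
  {ι : Type u} (G : Algebra.Generators R S ι) (G' : Algebra.Generators R' S' ι)
  (h : ∀ i, G'.val i = algebraMap S S' (G.val i))

include h in
lemma ker_le_map' : G'.toExtension.ker ≤
    Ideal.map (NLCx.sameVarsHom G G' h).toExtensionHom.toRingHom G.toExtension.ker := by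
  intro y hy
  have hy0 : MvPolynomial.aeval G'.val (y : MvPolynomial ι R') = 0 :=
    (G'.algebraMap_apply y).symm.trans hy
  have h1 := Groth.Agent.S7221.ker_le_map G G' h y hy0
  have h2 : Ideal.map (MvPolynomial.map (algebraMap R R'))
      (RingHom.ker (MvPolynomial.aeval G.val : MvPolynomial ι R →ₐ[R] S)) ≤
      Ideal.map (NLCx.sameVarsHom G G' h).toExtensionHom.toRingHom G.toExtension.ker := by
    refine Ideal.map_le_iff_le_comap.mpr ?_
    intro x hx
    have hx' : algebraMap G.toExtension.Ring S x = 0 := (G.algebraMap_apply x).trans hx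
    have e := Groth.Agent.S7221.sameVars_toRingHom G G' h x
    have h3 : (NLCx.sameVarsHom G G' h).toExtensionHom.toRingHom x ∈
        Ideal.map (NLCx.sameVarsHom G G' h).toExtensionHom.toRingHom G.toExtension.ker :=
      Ideal.mem_map_of_mem _ hx'
    rw [e] at h3
    exact h3
  exact h2 h1

include h in
theorem lift_cotangent_bijective :
    Function.Bijective (LinearMap.liftBaseChange S' (Algebra.Extension.Cotangent.map
      (NLCx.sameVarsHom G G' h).toExtensionHom)) := by
  refine ⟨?_, Groth.Agent.S7221.lift_cotangent_surjective G G' h⟩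
  refine lift_cotangent_injective_gen G.toExtension G'.toExtension
    (NLCx.sameVarsHom G G' h).toExtensionHom (MvPolynomial.algebraTensorAlgEquiv (σ := ι) R R') ?_
    (ker_le_map' G G' h)
  intro x
  rw [Groth.Agent.S7221.sameVars_toRingHom]
  exact (MvPolynomial.algebraTensorAlgEquiv_tmul R R' (1 : R') (x : MvPolynomial ι R)).trans
    (one_smul _ _)

include h in
theorem part1 : IsIso (NLCx.bcMap (S' := S') (NLCx.sameVarsHom G G' h).toExtensionHom) := by
  have h1 := lift_cotangent_bijective G G' h
  have h0 := Groth.Agent.S7221.lift_cotangentSpace_bijective G G' h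
  unfold NLCx.bcMap
  refine Groth.Agent.S7225.isIso_mkHomFromDouble _ _ _ _ _ _ ?_ ?_ ?_
  · exact @IsIso.comp_isIso _ _ _ _ _ _ _ ((ConcreteCategory.isIso_iff_bijective _).mpr h1) (Iso.isIso_inv _)
  · exact @IsIso.comp_isIso _ _ _ _ _ _ _ ((ConcreteCategory.isIso_iff_bijective _).mpr h0) (Iso.isIso_inv _)
  · intro k hk0 hk1
    exact HomologicalComplex.isZero_double_X _ _ k hk0 hk1

end part1

section doubleHomotopy

open CategoryTheory.Limits HomologicalComplex

variable {C : Type*} [Category C] [Preadditive C] [HasZeroObject C]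
  {κ : Type*} {c : ComplexShape κ} {i₀ i₁ : κ} (hi : c.Rel i₀ i₁) (hne : i₀ ≠ i₁)
  {X₀ X₁ Y₀ Y₁ : C} (φ : X₀ ⟶ X₁) (ψ : Y₀ ⟶ Y₁)

open scoped Classical in
/-- the homotopy datum between maps of two-term complexes -/
noncomputable def hd (s : X₁ ⟶ Y₀) (i j : κ) : (double φ hi).X i ⟶ (double ψ hi).X j :=
  if h : i = i₁ ∧ j = i₀ then
    eqToHom (by rw [h.1]) ≫ (doubleXIso₁ φ hi hne).hom ≫ s ≫ (doubleXIso₀ ψ hi).inv ≫
      eqToHom (by rw [h.2])
  else 0

lemma hd_main (s : X₁ ⟶ Y₀) :
    hd hi hne φ ψ s i₁ i₀ = (doubleXIso₁ φ hi hne).hom ≫ s ≫ (doubleXIso₀ ψ hi).inv := by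
  rw [hd, dif_pos ⟨rfl, rfl⟩]
  simp

lemma hd_left (s : X₁ ⟶ Y₀) (i j : κ) (h : i ≠ i₁) : hd hi hne φ ψ s i j = 0 :=
  dif_neg (fun h' => h h'.1)

lemma hd_right (s : X₁ ⟶ Y₀) (i j : κ) (h : j ≠ i₀) : hd hi hne φ ψ s i j = 0 :=
  dif_neg (fun h' => h h'.2)

/-- a homotopy between two maps of two-term complexes -/
noncomputable def homotopyDouble (a b : double φ hi ⟶ double ψ hi) (s : X₁ ⟶ Y₀)
    (h0 : a.f i₀ = (doubleXIso₀ φ hi).hom ≫ φ ≫ s ≫ (doubleXIso₀ ψ hi).inv + b.f i₀)
    (h1 : a.f i₁ = (doubleXIso₁ φ hi hne).hom ≫ s ≫ ψ ≫ (doubleXIso₁ ψ hi hne).inv + b.f i₁) :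
    Homotopy a b where
  hom := hd hi hne φ ψ s
  zero i j hij := dif_neg (fun h => hij (by rw [h.1, h.2]; exact hi))
  comm i := by
    by_cases h0' : i = i₀
    · rw [h0', dNext_eq _ hi, hd_main, double_d φ hi hne, h0]
      have : prevD i₀ (hd hi hne φ ψ s) = 0 := by
        show hd hi hne φ ψ s i₀ (c.prev i₀) ≫ _ = 0
        rw [hd_left hi hne φ ψ s _ _ hne, zero_comp]
      rw [this, add_zero]
      simp
    · by_cases h1' : i = i₁
      · rw [h1', prevD_eq _ hi, hd_main, double_d ψ hi hne, h1]
        have : dNext i₁ (hd hi hne φ ψ s) = 0 := by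
          show _ ≫ hd hi hne φ ψ s (c.next i₁) i₁ = 0
          rw [hd_right hi hne φ ψ s _ _ hne.symm, comp_zero]
        rw [this, zero_add]
        simp
      · exact (isZero_double_X φ hi i h0' h1').eq_of_src _ _

end doubleHomotopy

section homot

open HomologicalComplex

variable {R S : Type u} [CommRing R] [CommRing S] [Algebra R S]
  {P₁ P₂ P₃ : Algebra.Extension.{u} R S}

lemma nl_map_f0 (f : P₁.Hom P₂) : (NLCx.map f).f (-1) =
    (doubleXIso₀ (ModuleCat.ofHom P₁.cotangentComplex)
      (show (ComplexShape.up ℤ).Rel (-1) 0 by simp)).hom ≫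
      ModuleCat.ofHom (Algebra.Extension.Cotangent.map f) ≫
      (doubleXIso₀ (ModuleCat.ofHom P₂.cotangentComplex)
        (show (ComplexShape.up ℤ).Rel (-1) 0 by simp)).inv :=
  mkHomFromDouble_f₀ _ _ _ _ _ _

lemma nl_map_f1 (f : P₁.Hom P₂) : (NLCx.map f).f 0 =
    (doubleXIso₁ (ModuleCat.ofHom P₁.cotangentComplex)
      (show (ComplexShape.up ℤ).Rel (-1) 0 by simp) (by decide)).hom ≫
      ModuleCat.ofHom (Algebra.Extension.CotangentSpace.map f) ≫
      (doubleXIso₁ (ModuleCat.ofHom P₂.cotangentComplex)
        (show (ComplexShape.up ℤ).Rel (-1) 0 by simp) (by decide)).inv :=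
  mkHomFromDouble_f₁ _ _ _ _ _ _

lemma nl_map_comp (f : P₁.Hom P₂) (g : P₂.Hom P₃) :
    NLCx.map (g.comp f) = NLCx.map f ≫ NLCx.map g := by
  apply from_double_hom_ext
  · rw [HomologicalComplex.comp_f, nl_map_f0, nl_map_f0, nl_map_f0]
    have key : ModuleCat.ofHom (Algebra.Extension.Cotangent.map (g.comp f)) =
        ModuleCat.ofHom (Algebra.Extension.Cotangent.map f) ≫
          ModuleCat.ofHom (Algebra.Extension.Cotangent.map g) := by
      apply ModuleCat.hom_ext
      apply LinearMap.ext
      intro x
      exact congr($(Algebra.Extension.Cotangent.map_comp _ f g) x)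
    rw [key]
    simp only [NLCx.cx, Category.assoc, Iso.inv_hom_id_assoc, Preadditive.comp_add, Preadditive.add_comp]
  · rw [HomologicalComplex.comp_f, nl_map_f1, nl_map_f1, nl_map_f1]
    have key : ModuleCat.ofHom (Algebra.Extension.CotangentSpace.map (g.comp f)) =
        ModuleCat.ofHom (Algebra.Extension.CotangentSpace.map f) ≫
          ModuleCat.ofHom (Algebra.Extension.CotangentSpace.map g) := by
      apply ModuleCat.hom_ext
      apply LinearMap.ext
      intro x
      exact Algebra.Extension.CotangentSpace.map_comp_apply f g x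
    rw [key]
    simp only [NLCx.cx, Category.assoc, Iso.inv_hom_id_assoc, Preadditive.comp_add, Preadditive.add_comp]

lemma nl_map_id : NLCx.map (Algebra.Extension.Hom.id P₁) = 𝟙 (NLCx.cx P₁) := by
  apply from_double_hom_ext
  · rw [HomologicalComplex.id_f, nl_map_f0, Algebra.Extension.Cotangent.map_id]
    exact (Iso.hom_inv_id _)
  · rw [HomologicalComplex.id_f, nl_map_f1, Algebra.Extension.CotangentSpace.map_id]
    exact (Iso.hom_inv_id _)

/-- two morphisms of extensions induce homotopic maps of naive cotangent complexes -/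
noncomputable def mapHomotopy (f₁ f₂ : P₁.Hom P₂) : Homotopy (NLCx.map f₁) (NLCx.map f₂) := by
  refine homotopyDouble (show (ComplexShape.up ℤ).Rel (-1) 0 by simp) (by decide)
    (ModuleCat.ofHom P₁.cotangentComplex) (ModuleCat.ofHom P₂.cotangentComplex)
    (NLCx.map f₁) (NLCx.map f₂) (ModuleCat.ofHom (f₁.sub f₂)) ?_ ?_
  · rw [nl_map_f0, nl_map_f0]
    have key : ModuleCat.ofHom (Algebra.Extension.Cotangent.map f₁) =
        ModuleCat.ofHom P₁.cotangentComplex ≫ ModuleCat.ofHom (f₁.sub f₂) +
          ModuleCat.ofHom (Algebra.Extension.Cotangent.map f₂) := by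
      apply ModuleCat.hom_ext
      apply LinearMap.ext
      intro x
      exact eq_add_of_sub_eq (congr($(Algebra.Extension.Cotangent.map_sub_map f₁ f₂) x))
    rw [key]
    simp only [NLCx.cx, Category.assoc, Iso.inv_hom_id_assoc, Preadditive.comp_add, Preadditive.add_comp]
  · rw [nl_map_f1, nl_map_f1]
    have key : ModuleCat.ofHom (Algebra.Extension.CotangentSpace.map f₁) =
        ModuleCat.ofHom (f₁.sub f₂) ≫ ModuleCat.ofHom P₂.cotangentComplex +
          ModuleCat.ofHom (Algebra.Extension.CotangentSpace.map f₂) := by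
      apply ModuleCat.hom_ext
      apply LinearMap.ext
      intro x
      exact eq_add_of_sub_eq (congr($(Algebra.Extension.CotangentSpace.map_sub_map f₁ f₂) x))
    rw [key]
    simp only [NLCx.cx, Category.assoc, Iso.inv_hom_id_assoc, Preadditive.comp_add, Preadditive.add_comp]

/-- morphisms of extensions in both directions give a homotopy equivalence -/
noncomputable def homotopyEquivOfHoms (f : P₁.Hom P₂) (g : P₂.Hom P₁) :
    HomotopyEquiv (NLCx.cx P₁) (NLCx.cx P₂) where
  hom := NLCx.map f
  inv := NLCx.map g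
  homotopyHomInvId := (Homotopy.ofEq (nl_map_comp f g).symm).trans
    ((mapHomotopy (g.comp f) (Algebra.Extension.Hom.id P₁)).trans (Homotopy.ofEq nl_map_id))
  homotopyInvHomId := (Homotopy.ofEq (nl_map_comp g f).symm).trans
    ((mapHomotopy (f.comp g) (Algebra.Extension.Hom.id P₂)).trans (Homotopy.ofEq nl_map_id))

end homot

section bcf

open HomologicalComplex

variable {R S R' S' : Type u} [CommRing R] [CommRing S] [CommRing R'] [CommRing S']
  [Algebra R S] [Algebra R' S'] [Algebra R R'] [Algebra S S'] [Algebra R S']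
  [IsScalarTower R R' S'] [IsScalarTower R S S']
  {P : Algebra.Extension.{u} R S} {P' : Algebra.Extension.{u} R' S'}

lemma bc_map_f0 (f : P.Hom P') : (NLCx.bcMap (S' := S') f).f (-1) =
    (doubleXIso₀ (ModuleCat.ofHom (P.cotangentComplex.baseChange S'))
      (show (ComplexShape.up ℤ).Rel (-1) 0 by simp)).hom ≫
      ModuleCat.ofHom (LinearMap.liftBaseChange S' (Algebra.Extension.Cotangent.map f)) ≫
      (doubleXIso₀ (ModuleCat.ofHom P'.cotangentComplex)
        (show (ComplexShape.up ℤ).Rel (-1) 0 by simp)).inv :=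
  mkHomFromDouble_f₀ _ _ _ _ _ _

lemma bc_map_f1 (f : P.Hom P') : (NLCx.bcMap (S' := S') f).f 0 =
    (doubleXIso₁ (ModuleCat.ofHom (P.cotangentComplex.baseChange S'))
      (show (ComplexShape.up ℤ).Rel (-1) 0 by simp) (by decide)).hom ≫
      ModuleCat.ofHom (LinearMap.liftBaseChange S' (Algebra.Extension.CotangentSpace.map f)) ≫
      (doubleXIso₁ (ModuleCat.ofHom P'.cotangentComplex)
        (show (ComplexShape.up ℤ).Rel (-1) 0 by simp) (by decide)).inv :=
  mkHomFromDouble_f₁ _ _ _ _ _ _

end bcf

section part2

open HomologicalComplex Groth.Agent.S7221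

variable (R S R' S' : Type u) [CommRing R] [CommRing S] [CommRing R'] [CommRing S']
  [Algebra R S] [Algebra R' S'] [Algebra R R'] [Algebra S S'] [Algebra R S']
  [IsScalarTower R R' S'] [IsScalarTower R S S'] [Algebra.IsPushout R R' S S']

lemma defaultHom_eq_comp :
    ((Algebra.Generators.self R S).defaultHom (Algebra.Generators.self R' S')).toExtensionHom =
      (gHom R S R' S').toExtensionHom.comp
        (NLCx.sameVarsHom (Algebra.Generators.self R S) (Gmid R S R' S')
          (Gmid_val R S R' S')).toExtensionHom := by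
  apply Algebra.Extension.Hom.ext
  apply RingHom.ext
  intro x
  exact toRingHom_factor R S R' S' x

lemma bcMap_factor :
    NLCx.bcMap (S' := S')
      ((Algebra.Generators.self R S).defaultHom (Algebra.Generators.self R' S')).toExtensionHom =
      NLCx.bcMap (S' := S') (NLCx.sameVarsHom (Algebra.Generators.self R S) (Gmid R S R' S')
          (Gmid_val R S R' S')).toExtensionHom ≫
        NLCx.map (gHom R S R' S').toExtensionHom := by
  apply from_double_hom_ext
  · rw [HomologicalComplex.comp_f, bc_map_f0, bc_map_f0, nl_map_f0]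
    have key : ModuleCat.ofHom (LinearMap.liftBaseChange S' (Algebra.Extension.Cotangent.map
        ((Algebra.Generators.self R S).defaultHom (Algebra.Generators.self R' S')).toExtensionHom)) =
        ModuleCat.ofHom (LinearMap.liftBaseChange S' (Algebra.Extension.Cotangent.map
          (NLCx.sameVarsHom (Algebra.Generators.self R S) (Gmid R S R' S')
            (Gmid_val R S R' S')).toExtensionHom)) ≫
          ModuleCat.ofHom (Algebra.Extension.Cotangent.map (gHom R S R' S').toExtensionHom) := by
      apply ModuleCat.hom_ext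
      apply LinearMap.ext
      intro t
      exact lift_factor R S R' S' t
    rw [key]
    simp only [NLCx.cx, NLCx.bcCx, Category.assoc, Iso.inv_hom_id_assoc]
  · rw [HomologicalComplex.comp_f, bc_map_f1, bc_map_f1, nl_map_f1]
    have key : ModuleCat.ofHom (LinearMap.liftBaseChange S' (Algebra.Extension.CotangentSpace.map
        ((Algebra.Generators.self R S).defaultHom (Algebra.Generators.self R' S')).toExtensionHom)) =
        ModuleCat.ofHom (LinearMap.liftBaseChange S' (Algebra.Extension.CotangentSpace.map
          (NLCx.sameVarsHom (Algebra.Generators.self R S) (Gmid R S R' S')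
            (Gmid_val R S R' S')).toExtensionHom)) ≫
          ModuleCat.ofHom (Algebra.Extension.CotangentSpace.map (gHom R S R' S').toExtensionHom) := by
      apply ModuleCat.hom_ext
      apply LinearMap.ext
      intro t
      show LinearMap.liftBaseChange S' (Algebra.Extension.CotangentSpace.map
        ((Algebra.Generators.self R S).defaultHom (Algebra.Generators.self R' S')).toExtensionHom) t =
        Algebra.Extension.CotangentSpace.map (gHom R S R' S').toExtensionHom
          (LinearMap.liftBaseChange S' (Algebra.Extension.CotangentSpace.map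
          (NLCx.sameVarsHom (Algebra.Generators.self R S) (Gmid R S R' S')
            (Gmid_val R S R' S')).toExtensionHom) t)
      induction t using TensorProduct.induction_on with
      | zero => rw [map_zero, map_zero, map_zero]
      | tmul a x =>
        rw [LinearMap.liftBaseChange_tmul, LinearMap.liftBaseChange_tmul, map_smul,
          defaultHom_eq_comp R S R' S', Algebra.Extension.CotangentSpace.map_comp_apply]
      | add a b ha hb => rw [map_add, map_add, map_add, ha, hb]
    rw [key]
    simp only [NLCx.cx, NLCx.bcCx, Category.assoc, Iso.inv_hom_id_assoc]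

variable [Module.Flat R R']

theorem part2 : ∃ e : HomotopyEquiv (NLCx.bcCx (Algebra.Generators.self R S).toExtension S')
      (NLCx.cx (Algebra.Generators.self R' S').toExtension),
      e.hom = NLCx.bcMapSelf R S R' S' := by
  haveI := part1 (Algebra.Generators.self R S) (Gmid R S R' S') (Gmid_val R S R' S')
  refine ⟨(HomotopyEquiv.ofIso (asIso (NLCx.bcMap (S' := S')
    (NLCx.sameVarsHom (Algebra.Generators.self R S) (Gmid R S R' S')
      (Gmid_val R S R' S')).toExtensionHom))).trans
    (homotopyEquivOfHoms (gHom R S R' S').toExtensionHom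
      (Algebra.Generators.defaultHom (Algebra.Generators.self R' S')
        (Gmid R S R' S')).toExtensionHom), ?_⟩
  exact (bcMap_factor R S R' S').symm

end part2

/-- Let R → S be a ring homomorphism, R → R' a flat ring homomorphism, and S' an algebra over R' and
over S making the square cocartesian, S' = S ⊗_R R'. Let G be a presentation of S over R by a
polynomial algebra and G' the presentation of S' over R' on the same set of variables (the base
change of G). Then the canonical chain map NL(G) ⊗_S S' → NL(G') is an isomorphism of complexes, and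
the canonical chain map NL_{S/R} ⊗_S S' → NL_{S'/R'} between the complexes of the presentations on
all elements is a homotopy equivalence. -/
theorem result (R S R' S' : Type u) [CommRing R] [CommRing S] [CommRing R']
    [CommRing S'] [Algebra R S] [Algebra R' S'] [Algebra R R'] [Algebra S S'] [Algebra R S']
    [IsScalarTower R R' S'] [IsScalarTower R S S'] [Algebra.IsPushout R R' S S'] [Module.Flat R R']
    {ι : Type u} (G : Algebra.Generators R S ι) (G' : Algebra.Generators R' S' ι)
    (h : ∀ i, G'.val i = algebraMap S S' (G.val i)) :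
    IsIso (NLCx.bcMap (S' := S') (NLCx.sameVarsHom G G' h).toExtensionHom) ∧
      ∃ e : HomotopyEquiv (NLCx.bcCx (Algebra.Generators.self R S).toExtension S')
          (NLCx.cx (Algebra.Generators.self R' S').toExtension),
        e.hom = NLCx.bcMapSelf R S R' S' := by
  exact ⟨part1 G G' h, part2 R S R' S'⟩

end Groth.Agent.S7224
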