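import Groth.Statements.S1509
import Groth.Agent.Lib.Helper35.RegSurj
import Groth.Agent.Lib.Helper35.FTD3

set_option autoImplicit false
universe u
attribute [local instance] HasDerivedCategory.standard
open FlatMor

namespace Groth.Agent.S1509

open AlgebraicGeometry CategoryTheory Limits in
/-- A regular closed immersion (kernel ideal locally generated by a regular sequence) is a perfect
morphism. -/
theorem result {Z X : Scheme.{u}} (i : Z ⟶ X) (hi : Mor2.IsRegularClosedImmersion i) : MoreMor.IsPerfectMor i := by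
  obtain ⟨hci, h⟩ := hi
  rw [Groth.Agent.Lib.Helper35.FTD.perfMor_iff_exists]
  intro z
  obtain ⟨U, hU, hzU, rs, hrs, hker⟩ := h z
  refine ⟨i ⁻¹ᵁ U, U, le_rfl, hU.preimage i, hU, hzU, ?_⟩
  letI := (i.appLE U (i ⁻¹ᵁ U) le_rfl).hom.toAlgebra
  have happ : i.appLE U (i ⁻¹ᵁ U) le_rfl = i.app U :=
    AlgebraicGeometry.Scheme.Hom.appLE_eq_app i
  apply Groth.Agent.S7070.result
  refine Groth.Agent.Lib.Helper35.RegSurj.isLCI_of_surjective_of_ker_eq_ofList _ _ ?_ rs
    hrs.toIsWeaklyRegular ?_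
  · show Function.Surjective (i.appLE U (i ⁻¹ᵁ U) le_rfl).hom
    rw [happ]
    exact i.app_surjective U hU
  · show RingHom.ker (i.appLE U (i ⁻¹ᵁ U) le_rfl).hom = _
    rw [happ, ← hker, AlgebraicGeometry.Scheme.Hom.ker_apply]

end Groth.Agent.S1509
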