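import Groth.Statements.S4755
import Groth.Agent.Lib.Helper64.CplQuot
import Groth.Agent.Lib.Helper82.CMPoly
import Mathlib

set_option autoImplicit false
universe u
open EGA4

namespace Groth.Agent.S4755

open Groth.Agent.Lib.Helper64 TensorProduct

/-- For the property 'Cohen–Macaulay', case of a local ring: if the formal fibres of a Noetherian local
ring A are Cohen–Macaulay, then so are the formal fibres of A/I for every proper ideal I of A. -/
theorem result (A : Type u) [CommRing A] [IsNoetherianRing A] [IsLocalRing A]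
    (hA : EGA4.HasCMFormalFibres A) (I : Ideal A) [Nontrivial (A ⧸ I)] :
    EGA4.HasCMFormalFibres (A ⧸ I) := by
  intro P _
  let p : Ideal A := P.comap (algebraMap A (A ⧸ I))
  have hpprime : p.IsPrime := inferInstance
  have hcm := hA p
  let φ := Ideal.ResidueField.map p P (algebraMap A (A ⧸ I)) rfl
  have hφ : Function.Bijective φ := residueFieldMap_quotient_bijective A I P p rfl
  let _ : Algebra p.ResidueField P.ResidueField := φ.toAlgebra
  obtain ⟨e⟩ := nonempty_ringEquiv_formalFibre_tensor A I P p rfl P.ResidueField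
    (by rw [Algebra.algebraMap_self, RingHom.id_comp]; rfl)
  let ψ : p.ResidueField ≃ₐ[p.ResidueField] P.ResidueField :=
    AlgEquiv.ofBijective (Algebra.ofId p.ResidueField P.ResidueField) hφ
  let e' : P.ResidueField ⊗[p.ResidueField] (p.Fiber (EGA4.Cpl A)) ≃ₐ[p.ResidueField]
      (p.Fiber (EGA4.Cpl A)) :=
    (Algebra.TensorProduct.congr ψ.symm AlgEquiv.refl).trans
      (Algebra.TensorProduct.lid p.ResidueField (p.Fiber (EGA4.Cpl A)))
  let e'' : P.ResidueField ⊗[P.ResidueField] (P.Fiber (EGA4.Cpl (A ⧸ I))) ≃+*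
      (P.Fiber (EGA4.Cpl (A ⧸ I))) :=
    (Algebra.TensorProduct.lid P.ResidueField (P.Fiber (EGA4.Cpl (A ⧸ I)))).toRingEquiv
  exact Groth.Agent.Lib.Helper82.CMPoly.isCohenMacaulayRing_of_ringEquiv
    ((e'.toRingEquiv.symm.trans e.symm).trans e'') hcm

end Groth.Agent.S4755
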