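import Groth.Statements.S4712
import Mathlib
-- import your own Groth.Agent.* helpers here

set_option autoImplicit false
universe u
open EGA4

namespace Groth.Agent.S4712

/-- In a Noetherian domain, a nonzero prime contained in a prime of height `≤ 1` equals it. -/
theorem eq_of_le_of_height_le_one {D : Type*} [CommRing D] [IsDomain D] [IsNoetherianRing D]
    {Q P : Ideal D} [Q.IsPrime] (hQ : Q ≠ ⊥) (hle : Q ≤ P) (hP : P.height ≤ 1) : Q = P := by
  by_contra hne
  have hlt : Q < P := lt_of_le_of_ne hle hne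
  have h1 : Q.height < P.height := Ideal.height_strict_mono_of_isPrime hlt
  have h2 : Q.height < 1 := lt_of_lt_of_le h1 hP
  have h3 : Q.height = 0 := Order.lt_one_iff.mp h2
  exact hQ (Ideal.height_eq_zero_iff_eq_bot.mp h3)

/-- In a Noetherian domain in which a fixed nonzero element `f` lies in every nonzero prime,
there are no strict inclusions between nonzero primes. -/
theorem not_lt_of_forall_mem {D : Type*} [CommRing D] [IsDomain D] [IsNoetherianRing D] (f : D)
    (hf : f ≠ 0) (h : ∀ q : Ideal D, q.IsPrime → q ≠ ⊥ → f ∈ q)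
    (q₁ q₂ : Ideal D) [q₁.IsPrime] [q₂.IsPrime] (hq₁ : q₁ ≠ ⊥) (hlt : q₁ < q₂) : False := by
  classical
  have hq₂ : q₂ ≠ ⊥ := fun h0 => hq₁ (le_bot_iff.mp (h0 ▸ hlt.le))
  set S : Set (Ideal D) := (Ideal.span {f}).minimalPrimes with hS
  have hSfin : S.Finite := Ideal.finite_minimalPrimes_of_isNoetherianRing D _
  have hSprime : ∀ P ∈ S, P.IsPrime := fun P hP => hP.1.1
  have hSheight : ∀ P ∈ S, P.height ≤ 1 := fun P hP =>
    Ideal.height_le_one_of_isPrincipal_of_mem_minimalPrimes (Ideal.span {f}) P hP
  -- every nonzero prime contains a member of `S`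
  have hex : ∀ Q : Ideal D, Q.IsPrime → Q ≠ ⊥ → ∃ P ∈ S, P ≤ Q := by
    intro Q hQ hQ0
    have : Ideal.span {f} ≤ Q := (Ideal.span_singleton_le_iff_mem _).mpr (h Q hQ hQ0)
    exact Ideal.exists_minimalPrimes_le this
  have hSne : ∀ P ∈ S, P ≠ ⊥ := by
    intro P hP h0
    have : f ∈ P := hP.1.2 (Ideal.mem_span_singleton_self f)
    rw [h0, Ideal.mem_bot] at this
    exact hf this
  have hcover : (q₂ : Set D) ⊆ ⋃ P ∈ S, (P : Set D) := by
    intro a ha
    by_cases ha0 : a = 0
    · obtain ⟨P, hP, -⟩ := hex q₂ inferInstance hq₂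
      exact Set.mem_iUnion₂.mpr ⟨P, hP, by rw [ha0]; exact P.zero_mem⟩
    · have hle : Ideal.span {a} ≤ q₂ := (Ideal.span_singleton_le_iff_mem _).mpr ha
      obtain ⟨Pa, hPa, hPaq⟩ := Ideal.exists_minimalPrimes_le hle
      have hPaprime : Pa.IsPrime := hPa.1.1
      have haPa : a ∈ Pa := hPa.1.2 (Ideal.mem_span_singleton_self a)
      have hPa0 : Pa ≠ ⊥ := by
        intro h0; rw [h0, Ideal.mem_bot] at haPa; exact ha0 haPa
      have hPah : Pa.height ≤ 1 :=
        Ideal.height_le_one_of_isPrincipal_of_mem_minimalPrimes (Ideal.span {a}) Pa hPa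
      obtain ⟨P, hP, hPle⟩ := hex Pa hPaprime hPa0
      have := hSprime P hP
      have heq : P = Pa := eq_of_le_of_height_le_one (hSne P hP) hPle hPah
      exact Set.mem_iUnion₂.mpr ⟨P, hP, by rw [heq]; exact haPa⟩
  obtain ⟨P, hP, hq₂P⟩ := (Ideal.subset_union_prime_finite hSfin (f := id) ⊥ ⊥
    (fun P hP _ _ => hSprime P hP)).mp hcover
  have heq : q₁ = P := eq_of_le_of_height_le_one hq₁ (hlt.le.trans hq₂P) (hSheight P hP)
  exact absurd (heq ▸ hq₂P) (not_le_of_gt hlt)

/-- In a Noetherian domain in which a fixed nonzero element `f` lies in every nonzero prime,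
every nonzero prime is maximal. -/
theorem isMaximal_of_forall_mem {D : Type*} [CommRing D] [IsDomain D] [IsNoetherianRing D] (f : D)
    (hf : f ≠ 0) (h : ∀ q : Ideal D, q.IsPrime → q ≠ ⊥ → f ∈ q)
    (q : Ideal D) [hq : q.IsPrime] (hq0 : q ≠ ⊥) : q.IsMaximal := by
  obtain ⟨m, hm, hqm⟩ := Ideal.exists_le_maximal q hq.ne_top
  by_cases heq : q = m
  · rw [heq]; exact hm
  · have := hm.isPrime
    exact (not_lt_of_forall_mem f hf h q m hq0 (lt_of_le_of_ne hqm heq)).elim

/-- In the prime spectrum of a Noetherian ring, if `{p}` is locally closed then every point of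
`closure {p}` other than `p` is a closed point. -/
theorem isClosed_singleton_of_mem_closure {B : Type*} [CommRing B] [IsNoetherianRing B]
    (p : PrimeSpectrum B) (hp : IsLocallyClosed ({p} : Set (PrimeSpectrum B)))
    (q : PrimeSpectrum B) (hq : q ∈ closure ({p} : Set (PrimeSpectrum B))) (hne : q ≠ p) :
    IsClosed ({q} : Set (PrimeSpectrum B)) := by
  have h4 := ((isLocallyClosed_tfae ({p} : Set (PrimeSpectrum B))).out 0 3).mp hp
  obtain ⟨U, hpU, hUo, hU⟩ := h4 p (Set.mem_singleton p)
  obtain ⟨_, ⟨f, rfl⟩, hpf, hfU⟩ :=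
    PrimeSpectrum.isTopologicalBasis_basic_opens.exists_subset_of_mem_open hpU hUo
  have hfp : f ∉ p.asIdeal := hpf
  -- the quotient domain
  let D := B ⧸ p.asIdeal
  let π : B →+* D := Ideal.Quotient.mk p.asIdeal
  have hπ : Function.Surjective π := Ideal.Quotient.mk_surjective
  have hker : RingHom.ker π = p.asIdeal := Ideal.mk_ker
  have hf0 : π f ≠ 0 := fun h0 => hfp (Ideal.Quotient.eq_zero_iff_mem.mp h0)
  have hall : ∀ Q : Ideal D, Q.IsPrime → Q ≠ ⊥ → π f ∈ Q := by
    intro Q hQ hQ0
    by_contra hfQ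
    let Q' : PrimeSpectrum B := ⟨Q.comap π, Ideal.comap_isPrime π Q⟩
    have hle : p.asIdeal ≤ Q'.asIdeal := by
      intro b hb
      change π b ∈ Q
      rw [Ideal.Quotient.eq_zero_iff_mem.mpr hb]
      exact Q.zero_mem
    have hcl : Q' ∈ closure ({p} : Set (PrimeSpectrum B)) := by
      rw [← specializes_iff_mem_closure, ← PrimeSpectrum.le_iff_specializes]
      exact hle
    have hQ'U : Q' ∈ U := hfU (by change f ∉ Q'.asIdeal; exact hfQ)
    have hQ'p : Q' = p := hU ⟨hQ'U, hcl⟩
    apply hQ0
    rw [← Ideal.map_comap_of_surjective π hπ Q]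
    have : Q.comap π = p.asIdeal := congrArg PrimeSpectrum.asIdeal hQ'p
    rw [this, Ideal.map_eq_bot_iff_le_ker]
    exact hker.ge
  have hpq : p.asIdeal ≤ q.asIdeal := by
    rw [← specializes_iff_mem_closure, ← PrimeSpectrum.le_iff_specializes] at hq
    exact hq
  have hQprime : (q.asIdeal.map π).IsPrime :=
    Ideal.map_isPrime_of_surjective hπ (hker.le.trans hpq)
  have hcomap : (q.asIdeal.map π).comap π = q.asIdeal := by
    rw [Ideal.comap_map_of_surjective π hπ, ← RingHom.ker_eq_comap_bot, hker]
    exact sup_eq_left.mpr hpq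
  have hQ0 : q.asIdeal.map π ≠ ⊥ := by
    intro h0
    apply hne
    apply PrimeSpectrum.ext
    apply le_antisymm _ hpq
    rw [← hcomap, h0, ← RingHom.ker_eq_comap_bot, hker]
  have hmax : (q.asIdeal.map π).IsMaximal := isMaximal_of_forall_mem (π f) hf0 hall _ hQ0
  have hqmax : q.asIdeal.IsMaximal := by
    rw [← hcomap]
    exact Ideal.comap_isMaximal_of_surjective π hπ
  exact (PrimeSpectrum.isClosed_singleton_iff_isMaximal q).mpr hqmax

/-- Transport of `isClosed_singleton_of_mem_closure` to an open subset homeomorphic to the prime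
spectrum of a Noetherian ring. -/
theorem isClosed_singleton_subtype {X : Type*} [TopologicalSpace X] {x : X}
    (hx : IsLocallyClosed ({x} : Set X)) {V : Set X} (hV : IsOpen V) {B : Type*} [CommRing B]
    [IsNoetherianRing B] (e : V ≃ₜ PrimeSpectrum B) {y : X} (hy : y ∈ closure ({x} : Set X))
    (hne : y ≠ x) (hyV : y ∈ V) : IsClosed ({⟨y, hyV⟩} : Set V) := by
  have hxy : x ⤳ y := specializes_iff_mem_closure.mpr hy
  have hxV : x ∈ V := hxy.mem_open hV hyV
  have h1 : IsLocallyClosed ({⟨x, hxV⟩} : Set V) := by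
    have := hx.preimage (continuous_subtype_val (p := (· ∈ V)))
    convert this using 1
    ext z
    simp [Subtype.ext_iff]
  have h2 : IsLocallyClosed ({e ⟨x, hxV⟩} : Set (PrimeSpectrum B)) := by
    have := h1.preimage e.symm.continuous
    convert this using 1
    ext z
    simp only [Set.mem_singleton_iff, Set.mem_preimage]
    rw [Homeomorph.symm_apply_eq]
  have h3 : e ⟨y, hyV⟩ ∈ closure ({e ⟨x, hxV⟩} : Set (PrimeSpectrum B)) := by
    rw [← specializes_iff_mem_closure]
    exact ((subtype_specializes_iff _ _).mpr hxy).map e.continuous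
  have h4 : e ⟨y, hyV⟩ ≠ e ⟨x, hxV⟩ := fun h => hne (congrArg Subtype.val (e.injective h))
  have h5 := isClosed_singleton_of_mem_closure (e ⟨x, hxV⟩) h2 (e ⟨y, hyV⟩) h3 h4
  have := h5.preimage e.continuous
  convert this using 1
  ext z
  simp

/-- A point which is closed in an open neighbourhood of each of its specializations is closed. -/
theorem isClosed_singleton_of_forall_subtype {X : Type*} [TopologicalSpace X] (y : X)
    (h : ∀ z ∈ closure ({y} : Set X), ∃ V : Set X, IsOpen V ∧ z ∈ V ∧
      ∀ hyV : y ∈ V, IsClosed ({⟨y, hyV⟩} : Set V)) : IsClosed ({y} : Set X) := by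
  rw [← closure_subset_iff_isClosed]
  intro z hz
  obtain ⟨V, hV, hzV, hcl⟩ := h z hz
  have hyz : y ⤳ z := specializes_iff_mem_closure.mpr hz
  have hyV : y ∈ V := hyz.mem_open hV hzV
  have hyz' : (⟨y, hyV⟩ : V) ⤳ ⟨z, hzV⟩ := (subtype_specializes_iff _ _).mpr hyz
  have := (hcl hyV).closure_subset (specializes_iff_mem_closure.mp hyz')
  exact congrArg Subtype.val (Set.mem_singleton_iff.mp this)

attribute [local instance] specializationOrder in
theorem topologicalKrullDim_eq_krullDim' (X : Type*) [TopologicalSpace X] [QuasiSober X]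
    [T0Space X] : topologicalKrullDim X = Order.krullDim X :=
  Order.krullDim_eq_of_orderIso irreducibleSetEquivPoints

attribute [local instance] specializationOrder in
/-- A quasi-sober T0 space with a generic point all of whose other points are closed has
dimension at most one. -/
theorem topologicalKrullDim_le_one_of_generic {T : Type*} [TopologicalSpace T] [QuasiSober T]
    [T0Space T] (ξ : T) (hξ : ∀ t : T, ξ ⤳ t)
    (hclosed : ∀ t : T, t ≠ ξ → IsClosed ({t} : Set T)) :
    topologicalKrullDim T ≤ 1 := by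
  rw [topologicalKrullDim_eq_krullDim', Order.krullDim_le_one_iff]
  intro t
  by_cases ht : t = ξ
  · right
    intro b _
    change t ⤳ b
    rw [ht]
    exact hξ b
  · left
    intro b hb
    have hb' : t ⤳ b := hb
    have hcl : IsClosed ({t} : Set T) := hclosed t ht
    have : b ∈ ({t} : Set T) := hcl.closure_subset (specializes_iff_mem_closure.mp hb')
    exact le_of_eq (Set.mem_singleton_iff.mp this).symm

/-- If every point of `closure {x}` other than `x` is closed, then `closure {x}` has dimension
at most one. -/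
theorem topologicalKrullDim_closure_le_one {X : Type*} [TopologicalSpace X] [QuasiSober X]
    [T0Space X] (x : X)
    (hclosed : ∀ y ∈ closure ({x} : Set X), y ≠ x → IsClosed ({y} : Set X)) :
    topologicalKrullDim (closure ({x} : Set X)) ≤ 1 := by
  have : QuasiSober (closure ({x} : Set X)) :=
    isClosed_closure.isClosedEmbedding_subtypeVal.quasiSober
  refine topologicalKrullDim_le_one_of_generic (⟨x, subset_closure (Set.mem_singleton x)⟩) ?_ ?_
  · intro t
    rw [subtype_specializes_iff]
    exact specializes_iff_mem_closure.mpr t.2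
  · intro t ht
    have hcl : IsClosed ({t.1} : Set X) :=
      hclosed t.1 t.2 (fun h => ht (Subtype.ext h))
    have := hcl.preimage (continuous_subtype_val (p := (· ∈ closure ({x} : Set X))))
    convert this using 1
    ext z
    simp [Subtype.ext_iff]

open AlgebraicGeometry in
/-- Let X be a locally Noetherian scheme and x a point such that {x} is locally closed in X. Then the
closure of {x} has dimension at most 1, and every point of that closure other than x is a closed
point of X. -/
theorem result (X : Scheme.{u}) [IsLocallyNoetherian X] (x : X)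
    (hx : IsLocallyClosed ({x} : Set X)) :
    topologicalKrullDim (closure ({x} : Set X)) ≤ 1 ∧
      ∀ y ∈ closure ({x} : Set X), y ≠ x → IsClosed ({y} : Set X) := by
  have hclosed : ∀ y ∈ closure ({x} : Set X), y ≠ x → IsClosed ({y} : Set X) := by
    intro y hy hne
    apply isClosed_singleton_of_forall_subtype
    intro z hz
    obtain ⟨_, ⟨W, hW, rfl⟩, hzW, -⟩ :=
      X.isBasis_affineOpens.exists_subset_of_mem_open (Set.mem_univ z) isOpen_univ
    refine ⟨W, W.2, hzW, fun hyW => ?_⟩
    have : IsNoetherianRing Γ(X, W) := IsLocallyNoetherian.component_noetherian ⟨W, hW⟩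
    let e : (W : Set X) ≃ₜ PrimeSpectrum Γ(X, W) := Scheme.homeoOfIso (IsAffineOpen.isoSpec hW)
    exact isClosed_singleton_subtype hx W.2 e hy hne hyW
  exact ⟨topologicalKrullDim_closure_le_one x hclosed, hclosed⟩

end Groth.Agent.S4712
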