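import Groth.Statements.S4713
import Mathlib
import Groth.Agent.S4712
-- import your own Groth.Agent.* helpers here

set_option autoImplicit false
universe u
open EGA4

namespace Groth.Agent.S4713

open AlgebraicGeometry in
/-- In a locally Noetherian scheme X, every nonempty closed subset contains a closed point of X. -/
theorem result (X : Scheme.{u}) [IsLocallyNoetherian X]
    (Z : Set X) (hZ : IsClosed Z) (hne : Z.Nonempty) : ∃ x ∈ Z, IsClosed ({x} : Set X) := by
  obtain ⟨x₀, hx₀⟩ := hne
  obtain ⟨_, ⟨W, hW, rfl⟩, hxW, -⟩ :=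
    X.isBasis_affineOpens.exists_subset_of_mem_open (Set.mem_univ x₀) isOpen_univ
  have : CompactSpace (W : Set X) := isCompact_iff_compactSpace.mp hW.isCompact
  -- a closed point of `W` lying in `Z`
  obtain ⟨w, hwZ, hw⟩ := IsClosed.exists_closed_singleton (X := (W : Set X))
    (S := Subtype.val ⁻¹' Z) (hZ.preimage continuous_subtype_val) ⟨⟨x₀, hxW⟩, hx₀⟩
  -- `{w}` is locally closed in `X`
  have hlc : IsLocallyClosed ({w.1} : Set X) := by
    have hr : IsLocallyClosed (Set.range (Subtype.val : ↥(W : Set X) → X)) := by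
      rw [Subtype.range_coe]
      exact W.2.isLocallyClosed
    have := hw.isLocallyClosed.image Topology.IsInducing.subtypeVal hr
    rwa [Set.image_singleton] at this
  obtain ⟨-, h2⟩ := Groth.Agent.S4712.result X w.1 hlc
  by_cases hall : ∀ y ∈ closure ({w.1} : Set X), y = w.1
  · refine ⟨w.1, hwZ, ?_⟩
    rw [← closure_subset_iff_isClosed]
    intro y hy
    exact hall y hy
  · push Not at hall
    obtain ⟨y, hy, hyne⟩ := hall
    refine ⟨y, ?_, h2 y hy hyne⟩
    exact (hZ.closure_subset_iff.mpr (Set.singleton_subset_iff.mpr hwZ)) hy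

end Groth.Agent.S4713
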