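import Groth.Statements.S9808
import Groth.Agent.S4713
import Groth.Agent.Lib.Helper29.DepthLoc
import Groth.Agent.Lib.Helper29.FlatAscent2
import Groth.Agent.Lib.Helper29.DepthCM

set_option autoImplicit false
universe u
open CategoryTheory AlgebraicGeometry TopologicalSpace
open Props

namespace Groth.Agent.S9808

open Groth.Agent.Lib.Helper29

/-- Cohen–Macaulay local rings localize. -/
theorem isCohenMacaulayLocalRing_atPrime (R : Type u) [CommRing R]
    [hR : LocCoh.IsCohenMacaulayLocalRing R] (P : Ideal R) [hP : P.IsPrime] :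
    LocCoh.IsCohenMacaulayLocalRing (Localization.AtPrime P) := by
  have hM : LocCoh.IsCohenMacaulayModule R R := hR.supportDim_eq_depth
  have hsupp : (⟨P, hP⟩ : PrimeSpectrum R) ∈ Module.support R R := by
    rw [Module.support_eq_zeroLocus, Module.annihilator_eq_bot.mpr inferInstance]
    simp
  have h1 := isCohenMacaulayModule_localizedModule R R hM ⟨P, hP⟩ hsupp
  let e : LocalizedModule P.primeCompl R ≃ₗ[Localization.AtPrime P] Localization.AtPrime P :=
    (IsLocalizedModule.iso P.primeCompl (Algebra.linearMap R (Localization.AtPrime P))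
      ).extendScalarsOfIsLocalization P.primeCompl (Localization.AtPrime P)
  exact { supportDim_eq_depth := (isCohenMacaulayModule_congr _ e).mp h1 }

open AlgebraicGeometry in
/-- the stalk at a generization of `y` is Cohen–Macaulay if the stalk at `y` is. -/
theorem isCohenMacaulayLocalRing_stalk_of_specializes (X : Scheme.{u}) {x y : X} (hxy : x ⤳ y)
    (hy : LocCoh.IsCohenMacaulayLocalRing (X.presheaf.stalk y)) :
    LocCoh.IsCohenMacaulayLocalRing (X.presheaf.stalk x) := by
  obtain ⟨U, hU, hyU, -⟩ := exists_isAffineOpen_mem_and_subset (X := X) (x := y) (U := ⊤) trivial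
  have hxU : x ∈ U := hxy.mem_open U.isOpen hyU
  let algy := TopCat.Presheaf.algebra_section_stalk X.presheaf ⟨y, hyU⟩
  let algx := TopCat.Presheaf.algebra_section_stalk X.presheaf ⟨x, hxU⟩
  have locy : IsLocalization.AtPrime (X.presheaf.stalk y) (hU.primeIdealOf ⟨y, hyU⟩).asIdeal :=
    hU.isLocalization_stalk ⟨y, hyU⟩
  have locx : IsLocalization.AtPrime (X.presheaf.stalk x) (hU.primeIdealOf ⟨x, hxU⟩).asIdeal :=
    hU.isLocalization_stalk ⟨x, hxU⟩
  -- the prime of the stalk at `y` corresponding to `x`
  let φ : X.presheaf.stalk y →+* X.presheaf.stalk x := (X.presheaf.stalkSpecializes hxy).hom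
  let P : Ideal (X.presheaf.stalk y) := (IsLocalRing.maximalIdeal (X.presheaf.stalk x)).comap φ
  have hP : P.IsPrime := Ideal.comap_isPrime φ _
  have hφ : φ.comp (algebraMap Γ(X, U) (X.presheaf.stalk y)) =
      algebraMap Γ(X, U) (X.presheaf.stalk x) := by
    have := X.presheaf.germ_stalkSpecializes hyU hxy
    exact congrArg CommRingCat.Hom.hom this
  have hcomap : P.comap (algebraMap Γ(X, U) (X.presheaf.stalk y)) =
      (hU.primeIdealOf ⟨x, hxU⟩).asIdeal := by
    rw [Ideal.comap_comap, hφ]
    exact IsLocalization.AtPrime.under_maximalIdeal (X.presheaf.stalk x)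
      (hU.primeIdealOf ⟨x, hxU⟩).asIdeal
  have loc2 : IsLocalization.AtPrime (Localization.AtPrime P)
      (P.comap (algebraMap Γ(X, U) (X.presheaf.stalk y))) :=
    IsLocalization.isLocalization_isLocalization_atPrime_isLocalization
      (hU.primeIdealOf ⟨y, hyU⟩).asIdeal.primeCompl (Localization.AtPrime P) P
  have hreg : LocCoh.IsCohenMacaulayLocalRing (Localization.AtPrime P) :=
    isCohenMacaulayLocalRing_atPrime (X.presheaf.stalk y) P
  have key : ∀ (Q : Ideal Γ(X, U)) [Q.IsPrime],
      Q = P.comap (algebraMap Γ(X, U) (X.presheaf.stalk y)) →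
      IsLocalization.AtPrime (Localization.AtPrime P) Q := by
    intro Q _ hQ
    subst hQ
    exact loc2
  replace loc2 := key _ hcomap.symm
  let e := IsLocalization.algEquiv (hU.primeIdealOf ⟨x, hxU⟩).asIdeal.primeCompl
    (Localization.AtPrime P) (X.presheaf.stalk x)
  exact isCohenMacaulayLocalRing_of_ringEquiv e.toRingEquiv hreg

/-- A locally Noetherian scheme is Cohen-Macaulay (all local rings Cohen-Macaulay) as soon as its local
rings at closed points are Cohen-Macaulay, and conversely. -/
theorem result (X : Scheme.{u}) [IsLocallyNoetherian X] :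
    (∀ x : X, LocCoh.IsCohenMacaulayLocalRing (X.presheaf.stalk x)) ↔
      ∀ x : X, IsClosed ({x} : Set X) → LocCoh.IsCohenMacaulayLocalRing (X.presheaf.stalk x) := by
  refine ⟨fun h x _ => h x, fun h x => ?_⟩
  obtain ⟨y, hy, hyc⟩ := Groth.Agent.S4713.result X (closure {x}) isClosed_closure
    ⟨x, subset_closure rfl⟩
  have hxy : x ⤳ y := specializes_iff_mem_closure.mpr hy
  exact isCohenMacaulayLocalRing_stalk_of_specializes X hxy (h y hyc)


end Groth.Agent.S9808
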