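import Groth.Statements.S0426
import Groth.Agent.Lib.Helper2.FlatDescent
import Groth.Agent.Lib.Helper2.WeaklyEtaleUnram
import Mathlib.RingTheory.Unramified.Field
import Mathlib.FieldTheory.IntermediateField.Adjoin.Algebra

set_option autoImplicit false
universe u
open FlatMor

namespace Groth.Agent.S0426


open TensorProduct in
/-- Weakly étale descends to subextensions of a field extension. -/
theorem weaklyEtale_of_tower (K F L : Type u) [Field K] [Field F] [Field L] [Algebra K F]
    [Algebra F L] [Algebra K L] [IsScalarTower K F L] [Algebra.WeaklyEtale K L] :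
    Algebra.WeaklyEtale K F := by
  refine ⟨inferInstance, ?_⟩
  let ι : F →ₐ[K] L := IsScalarTower.toAlgHom K F L
  let Φ : F ⊗[K] F →ₐ[K] L ⊗[K] L := Algebra.TensorProduct.map ι ι
  have hι : ι.toRingHom.Flat := RingHom.Flat.of_isField (Field.toIsField F) _
  have hι' : ι.Flat := hι
  have hΦ : Φ.toRingHom.Flat := RingHom.Flat.tensorProductMap (R := K) (S := K) hι' hι'
  have hψ := Algebra.WeaklyEtale.flat_lmul' K L
  have hcomp : (ι.toRingHom.comp (Algebra.TensorProduct.lmul' K (S := F)).toRingHom) =
      (Algebra.TensorProduct.lmul' K (S := L)).toRingHom.comp Φ.toRingHom := by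
    have : ι.comp (Algebra.TensorProduct.lmul' K (S := F)) =
        (Algebra.TensorProduct.lmul' K (S := L)).comp Φ := by
      apply Algebra.TensorProduct.ext'
      intro a b
      simp [Φ, ι]
    exact congrArg AlgHom.toRingHom this
  have hflat : (ι.toRingHom.comp (Algebra.TensorProduct.lmul' K (S := F)).toRingHom).Flat := by
    rw [hcomp]
    exact RingHom.Flat.comp hΦ hψ
  have hff : ι.toRingHom.FaithfullyFlat := by
    have : Module.FaithfullyFlat F L := inferInstance
    exact RingHom.faithfullyFlat_algebraMap_iff.mpr this
  exact Groth.Agent.Lib.Helper2.RingHom.Flat.of_comp_faithfullyFlat _ _ hff hflat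

/-- A field extension L/K such that L is weakly étale over K (equivalently the multiplication map of L
⊗_K L is flat) is algebraic and separable. -/
theorem result {K L : Type u} [Field K] [Field L] [Algebra K L] [Algebra.WeaklyEtale K L] : Algebra.IsSeparable K L := by
  refine ⟨fun x => ?_⟩
  let F := IntermediateField.adjoin K {x}
  have hWE : Algebra.WeaklyEtale K F := weaklyEtale_of_tower K F L
  have hunr : Algebra.FormallyUnramified K F :=
    Groth.Agent.Lib.Helper2.formallyUnramified_of_weaklyEtale K F
  have hess : Algebra.EssFiniteType K F :=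
    IntermediateField.essFiniteType_iff.mpr ⟨{x}, by simp [F]⟩
  have hsep : Algebra.IsSeparable K F := Algebra.FormallyUnramified.isSeparable K F
  have hx : IsSeparable K (⟨x, IntermediateField.mem_adjoin_simple_self K x⟩ : F) :=
    Algebra.IsSeparable.isSeparable K _
  rw [IsSeparable] at hx ⊢
  rwa [IntermediateField.minpoly_eq] at hx

end Groth.Agent.S0426
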