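import Groth.Statements.S7130
import Groth.Agent.Lib.Helper71.AbsFlat

set_option autoImplicit false
universe u
open EtAlg

namespace Groth.Agent.S7130

section helpers
open Groth.Agent.Lib.Helper71

theorem one_to_two (A : Type u) [CommRing A]
    (h : ∀ (M : Type u) [AddCommGroup M] [Module A M], Module.Flat A M) :
    IsReduced A ∧ ∀ p : Ideal A, p.IsPrime → p.IsMaximal := by
  have hv : ∀ a : A, ∃ b, a = a * a * b := vnr_of_flat (fun a => h _)
  constructor
  · constructor
    rintro x ⟨n, hn⟩
    obtain ⟨b, hb⟩ := hv x
    have he : IsIdempotentElem (x * b) := by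
      show x * b * (x * b) = x * b
      calc x * b * (x * b) = (x * x * b) * b := by ring
        _ = x * b := by rw [← hb]
    have h0 : x * b = 0 := by
      rcases Nat.eq_zero_or_pos n with rfl | hpos
      · have : (1 : A) = 0 := by simpa using hn
        calc x * b = x * b * 1 := by ring
          _ = 0 := by rw [this, mul_zero]
      · obtain ⟨m, rfl⟩ : ∃ m, n = m + 1 := ⟨n - 1, by omega⟩
        rw [← he.pow_succ_eq m, mul_pow, hn, zero_mul]
    calc x = x * (x * b) := by rw [← mul_assoc]; exact hb
      _ = 0 := by rw [h0, mul_zero]
  · intro p hp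
    apply Ideal.Quotient.maximal_of_isField
    refine ⟨⟨0, 1, zero_ne_one⟩, mul_comm, ?_⟩
    intro y hy
    obtain ⟨x, rfl⟩ := Ideal.Quotient.mk_surjective y
    obtain ⟨b, hb⟩ := hv x
    refine ⟨Ideal.Quotient.mk p b, ?_⟩
    have h1 : Ideal.Quotient.mk p x * (Ideal.Quotient.mk p x * Ideal.Quotient.mk p b - 1) = 0 := by
      rw [← map_mul, ← map_one (Ideal.Quotient.mk p), ← map_sub, ← map_mul]
      have : x * (x * b - 1) = 0 := by
        calc x * (x * b - 1) = x * x * b - x := by ring
          _ = 0 := by rw [← hb, sub_self]
      rw [this, map_zero]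
    rcases mul_eq_zero.mp h1 with h2 | h2
    · exact absurd h2 hy
    · exact sub_eq_zero.mp h2

theorem two_to_three (A : Type u) [CommRing A]
    (h : IsReduced A ∧ ∀ p : Ideal A, p.IsPrime → p.IsMaximal) :
    ∀ (p : Ideal A) [p.IsPrime], IsField (Localization.AtPrime p) := by
  obtain ⟨hred, hmax⟩ := h
  intro p hp
  have hpmin : p ∈ minimalPrimes A := by
    refine ⟨⟨hp, bot_le⟩, ?_⟩
    rintro q ⟨hq, -⟩ hqp
    exact ((hmax q hq).eq_of_le hp.ne_top hqp).ge
  have : Ring.KrullDimLE 0 (Localization.AtPrime p) := .of_isLocalization _ hpmin _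
  exact Ring.KrullDimLE.isField_of_isReduced

theorem three_to_one (A : Type u) [CommRing A]
    (h : ∀ (p : Ideal A) [p.IsPrime], IsField (Localization.AtPrime p)) :
    ∀ (M : Type u) [AddCommGroup M] [Module A M], Module.Flat A M := by
  intro M _ _
  apply Module.flat_of_localized_maximal
  intro P hP
  let : Field (Localization.AtPrime P) := (h P).toField
  have : Module.Flat (Localization.AtPrime P) (LocalizedModule P.primeCompl M) := inferInstance
  exact Module.Flat.trans A (Localization.AtPrime P) (LocalizedModule P.primeCompl M)

end helpers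


/-- (2) ⇔ (3) ⇔ (4): for a ring A the following are equivalent: every A-module is flat; A is reduced of
Krull dimension zero, in the sense that every prime ideal of A is maximal; the local ring A_p is a
field for every prime p. (The further equivalent condition 'A has weak dimension at most zero'
coincides with the first condition by definition and is not listed separately.) -/
theorem result (A : Type u) [CommRing A] :
    List.TFAE [∀ (M : Type u) [AddCommGroup M] [Module A M], Module.Flat A M,
      IsReduced A ∧ ∀ p : Ideal A, p.IsPrime → p.IsMaximal,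
      ∀ (p : Ideal A) [p.IsPrime], IsField (Localization.AtPrime p)] := by
  tfae_have 1 → 2 := one_to_two A
  tfae_have 2 → 3 := two_to_three A
  tfae_have 3 → 1 := three_to_one A
  tfae_finish

end Groth.Agent.S7130
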