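import Groth.Statements.S0736
import Groth.Agent.Lib.Helper84.ColimWE
import Mathlib.CategoryTheory.Limits.ConcreteCategory.Basic
import Mathlib.CategoryTheory.Limits.Constructions.Over.Connected
import Mathlib.CategoryTheory.Filtered.Connected
-- import your own Groth.Agent.* helpers here

set_option autoImplicit false
open CategoryTheory CategoryTheory.Limits AlgebraicGeometry Opposite Topology
universe u
open ProEtW

namespace Groth.Agent.S0736

section
variable {J : Type u} [SmallCategory J] [IsFiltered J]

/-- Finitely many elements of a filtered colimit of commutative rings come from a common stage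
(version for an arbitrary colimit cocone). -/
theorem exists_stage (F : J ⥤ CommRingCat.{u}) (c : Cocone F) (hc : IsColimit c)
    (s : Finset ↑c.pt) :
    ∃ j : J, ∀ x ∈ s, ∃ y : ↑(F.obj j), (c.ι.app j).hom y = x := by
  classical
  induction s using Finset.induction_on with
  | empty => exact ⟨IsFiltered.nonempty.some, by simp⟩
  | insert a s _ ih =>
    obtain ⟨j₀, h₀⟩ := ih
    obtain ⟨j₁, y₁, hy₁⟩ := Concrete.isColimit_exists_rep F hc a
    refine ⟨IsFiltered.max j₀ j₁, ?_⟩
    intro x hx
    rw [Finset.mem_insert] at hx
    rcases hx with rfl | hx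
    · refine ⟨(F.map (IsFiltered.rightToMax j₀ j₁)).hom y₁, ?_⟩
      rw [← hy₁]
      exact ConcreteCategory.congr_hom (c.w (IsFiltered.rightToMax j₀ j₁)) y₁
    · obtain ⟨y, hy⟩ := h₀ x hx
      refine ⟨(F.map (IsFiltered.leftToMax j₀ j₁)).hom y, ?_⟩
      rw [← hy]
      exact ConcreteCategory.congr_hom (c.w (IsFiltered.leftToMax j₀ j₁)) y

end

/-- An ind-etale ring map A -> B is weakly etale (A -> B and B (x)_A B -> B flat), in Mathlib's sense
Algebra.WeaklyEtale. -/
theorem result (A B : Type u) [CommRing A] [CommRing B] [Algebra A B]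
    (h : EtPBC.IsIndEtale A B) : Algebra.WeaklyEtale A B := by
  classical
  obtain ⟨J, _, _, D, c, hc, hD, ⟨e⟩⟩ := h
  haveI : IsConnected J := IsFiltered.isConnected J
  let F : J ⥤ CommRingCat.{u} := D ⋙ Under.forget _
  let cF : Cocone F := (Under.forget _).mapCocone c
  have hcF : IsColimit cF := isColimitOfPreserves (Under.forget _) hc
  letI alg : ∀ j, Algebra A ↑(D.obj j).right := fun j => (D.obj j).hom.hom.toAlgebra
  -- the maps to B
  have hcomm : ∀ j, (D.obj j).hom ≫ ((c.ι.app j).right ≫ e.hom.right) =
      CommRingCat.ofHom (algebraMap A B) := by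
    intro j
    rw [← Category.assoc, Under.w, Under.w]
    rfl
  let ι : ∀ j, ↑(D.obj j).right →ₐ[A] B := fun j =>
    { toRingHom := ((c.ι.app j).right ≫ e.hom.right).hom
      commutes' := fun r => ConcreteCategory.congr_hom (hcomm j) r }
  have hι : ∀ j (y : ↑(D.obj j).right), ι j y = e.hom.right.hom ((cF.ι.app j).hom y) :=
    fun j y => rfl
  have hinj : Function.Injective e.hom.right.hom := by
    intro x y hxy
    have h1 := congrArg e.inv.right.hom hxy
    have h2 : ∀ z, e.inv.right.hom (e.hom.right.hom z) = z := by
      intro z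
      have := ConcreteCategory.congr_hom (congrArg CommaMorphism.right e.hom_inv_id) z
      exact this
    rwa [h2, h2] at h1
  have hsurj : Function.Surjective e.hom.right.hom := by
    intro b
    refine ⟨e.inv.right.hom b, ?_⟩
    have := ConcreteCategory.congr_hom (congrArg CommaMorphism.right e.inv_hom_id) b
    exact this
  apply Groth.Agent.Lib.Helper84.ColimWE.weaklyEtale_of_directed (J := J)
    (Bj := fun j => ↑(D.obj j).right) ι
  · intro t
    -- pull the finite set back to c.pt.right
    let t' : Finset ↑cF.pt := t.image (fun b => e.inv.right.hom b)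
    obtain ⟨j, hj⟩ := exists_stage F cF hcF t'
    refine ⟨j, ?_⟩
    intro x hx
    obtain ⟨y, hy⟩ := hj (e.inv.right.hom x) (Finset.mem_image_of_mem _ hx)
    refine ⟨y, ?_⟩
    show e.hom.right.hom ((cF.ι.app j).hom y) = x
    rw [hy]
    have := ConcreteCategory.congr_hom (congrArg CommaMorphism.right e.inv_hom_id) x
    exact this
  · intro j y hy
    rw [hι] at hy
    have hy0 : (cF.ι.app j).hom y = (cF.ι.app j).hom (0 : ↑(F.obj j)) := by
      apply hinj
      refine hy.trans ?_
      have h0 : (cF.ι.app j).hom (0 : ↑(F.obj j)) = 0 := map_zero _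
      rw [h0]
      exact (map_zero e.hom.right.hom).symm
    obtain ⟨k, f, g, hfg⟩ := Concrete.isColimit_exists_of_rep_eq F hcF y (0 : ↑(F.obj j)) hy0
    have hw : (D.obj j).hom ≫ (D.map f).right = (D.obj k).hom := Under.w (D.map f)
    refine ⟨k, { toRingHom := (D.map f).right.hom
                 commutes' := fun r => ConcreteCategory.congr_hom hw r }, ?_, ?_⟩
    · intro z
      rw [hι, hι]
      congr 1
      exact ConcreteCategory.congr_hom (cF.w f) z
    · have : (F.map f).hom y = (F.map g).hom 0 := hfg
      show (D.map f).right.hom y = 0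
      have h3 : (F.map f).hom y = 0 := this.trans (map_zero _)
      exact h3
  · intro j
    have : Algebra.Etale A ↑(D.obj j).right := hD j
    infer_instance

end Groth.Agent.S0736
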