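import Groth.Statements.S7579
import Mathlib.Topology.Connected.Separation

set_option autoImplicit false
universe u
open SpecSp

namespace Groth.Agent.S7579

open Topology

/-- In a T0 prespectral space, the constructible topology is totally separated. -/
theorem totallySeparatedSpace (X : Type u) [TopologicalSpace X] [T0Space X] [PrespectralSpace X] :
    TotallySeparatedSpace (WithConstructibleTopology X) := by
  rw [totallySeparatedSpace_iff_exists_isClopen]
  -- a compact open of `X` gives a clopen of the constructible topology
  have key : ∀ U : Set X, IsOpen U → IsCompact U →
      IsClopen (WithTopology.ofTopology (t := constructibleTopology X) ⁻¹' U) := by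
    intro U hUo hUc
    constructor
    · rw [WithConstructibleTopology.isClosed_iff]
      change IsClosed[constructibleTopology X] U
      rw [← @isOpen_compl_iff X U (constructibleTopology X)]
      exact IsCompact.isOpen_constructibleTopology_of_isClosed
        (by simpa using hUc) (by simpa using hUo)
    · rw [WithConstructibleTopology.isOpen_iff]
      exact hUc.isOpen_constructibleTopology_of_isOpen hUo
  intro x y hxy
  have hxy' : WithTopology.ofTopology x ≠ WithTopology.ofTopology y := by
    simpa using hxy
  obtain ⟨U, hU, hU'⟩ := exists_isOpen_xor_mem hxy'
  rcases hU' with ⟨hxU, hyU⟩ | ⟨hyU, hxU⟩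
  · obtain ⟨V, ⟨hVo, hVc⟩, hxV, hVU⟩ :=
      PrespectralSpace.isTopologicalBasis.exists_subset_of_mem_open hxU hU
    exact ⟨_, key V hVo hVc, hxV, fun h => hyU (hVU h)⟩
  · obtain ⟨V, ⟨hVo, hVc⟩, hyV, hVU⟩ :=
      PrespectralSpace.isTopologicalBasis.exists_subset_of_mem_open hyU hU
    exact ⟨_, (key V hVo hVc).compl, fun h => hxU (hVU h), by simpa using hyV⟩

/-- Let X be a spectral space. Then X with its constructible topology is Hausdorff and totally
disconnected. The published statement also asserts that the constructible topology is quasi-compact;
this row states the Hausdorff and totally disconnected parts. -/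
theorem result (X : Type u) [TopologicalSpace X] [SpectralSpace X] :
    T2Space (WithConstructibleTopology X) ∧ TotallyDisconnectedSpace (WithConstructibleTopology X) := by
  have := totallySeparatedSpace X
  exact ⟨inferInstance, inferInstance⟩

end Groth.Agent.S7579
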