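import Groth.Statements.S0737
import Groth.Agent.S0705
import Groth.Agent.Lib.Helper36.SpecMisc

set_option autoImplicit false
open CategoryTheory CategoryTheory.Limits AlgebraicGeometry Opposite Topology
universe u
open ProEtW

namespace Groth.Agent.S0737

/-- Let Spec A be w-local with radical ideal I cutting out its closed points, and A -> B inducing
algebraic residue field extensions. Then (1) every point of V(IB) is closed in Spec B, and (2) there
is an ind-Zariski B-algebra C with B/IB -> C/IC bijective, Spec C w-local, Spec C -> Spec A w-local,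
and closed points of Spec C exactly the points over closed points of Spec A. -/
theorem result (A B : Type u) [CommRing A]
    [CommRing B] [Algebra A B] (hA : ProEtW.IsWLocal (PrimeSpectrum A)) (I : Ideal A) (hI : I.IsRadical)
    (hI0 : PrimeSpectrum.zeroLocus (R := A) I = ProEtW.closedPoints (PrimeSpectrum A))
    (h : ProEtW.AlgebraicResidueExtensions A B) :
    PrimeSpectrum.zeroLocus (R := B) (I.map (algebraMap A B)) ⊆ ProEtW.closedPoints (PrimeSpectrum B) ∧
    ∃ (C : Type u) (_ : CommRing C) (_ : Algebra B C) (_ : Algebra A C) (_ : IsScalarTower A B C),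
      EtPBC.IsIndZariski B C ∧
      Function.Bijective (Ideal.quotientMap ((I.map (algebraMap A B)).map (algebraMap B C))
        (algebraMap B C) Ideal.le_comap_map) ∧
      ProEtW.IsWLocal (PrimeSpectrum C) ∧
      ProEtW.IsWLocalMap (PrimeSpectrum.comap (algebraMap A C)) ∧
      ProEtW.closedPoints (PrimeSpectrum C) =
        PrimeSpectrum.comap (algebraMap A C) ⁻¹' ProEtW.closedPoints (PrimeSpectrum A) := by
  classical
  set f := algebraMap A B with hf
  set IB := I.map f with hIB
  -- (1) points of V(IB) are closed
  have h1 : PrimeSpectrum.zeroLocus (R := B) IB ⊆ ProEtW.closedPoints (PrimeSpectrum B) := by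
    intro q hq
    have hp : PrimeSpectrum.comap f q ∈ PrimeSpectrum.zeroLocus (R := A) I := by
      rw [PrimeSpectrum.mem_zeroLocus, SetLike.coe_subset_coe] at hq ⊢
      exact Ideal.map_le_iff_le_comap.mp hq
    rw [hI0] at hp
    have hpmax : (q.asIdeal.comap f).IsMaximal :=
      (PrimeSpectrum.isClosed_singleton_iff_isMaximal (PrimeSpectrum.comap f q)).1 hp
    have halg := h q.asIdeal
    have hfield : IsField (A ⧸ q.asIdeal.comap f) :=
      (Ideal.Quotient.maximal_ideal_iff_isField_quotient _).1 hpmax
    let := hfield.toField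
    have : Algebra.IsIntegral (A ⧸ q.asIdeal.comap f) (B ⧸ q.asIdeal) :=
      Algebra.IsAlgebraic.isIntegral
    have hqmax : q.asIdeal.IsMaximal := by
      rw [Ideal.Quotient.maximal_ideal_iff_isField_quotient]
      exact isField_of_isIntegral_of_isField' hfield
    exact (PrimeSpectrum.isClosed_singleton_iff_isMaximal q).2 hqmax
  refine ⟨h1, ?_⟩
  have hprof : ProEtW.IsProfinite (PrimeSpectrum.zeroLocus (R := B) IB) :=
    Groth.Agent.Lib.Helper36.SigmaLoc.isProfinite_zeroLocus IB (fun q hq => h1 hq)
  obtain ⟨C, _, _, hC1, hC2, hC3, hC4⟩ := Groth.Agent.S0705.result B IB hprof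
  let : Algebra A C := ((algebraMap B C).comp f).toAlgebra
  have htower : IsScalarTower A B C := IsScalarTower.of_algebraMap_eq (fun _ => rfl)
  have hmapmap : I.map (algebraMap A C) = IB.map (algebraMap B C) := by
    rw [hIB, Ideal.map_map]
    rfl
  have hpre : PrimeSpectrum.zeroLocus (R := C) (IB.map (algebraMap B C)) =
      PrimeSpectrum.comap (algebraMap A C) ⁻¹' ProEtW.closedPoints (PrimeSpectrum A) := by
    rw [← hI0, ← hmapmap]
    ext y
    rw [Set.mem_preimage, PrimeSpectrum.mem_zeroLocus, PrimeSpectrum.mem_zeroLocus,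
      SetLike.coe_subset_coe, SetLike.coe_subset_coe, Ideal.map_le_iff_le_comap]
    rfl
  refine ⟨C, inferInstance, inferInstance, inferInstance, htower, hC1, hC4, hC2, ⟨?_, ?_⟩, ?_⟩
  · exact Groth.Agent.Lib.Helper36.SigmaLoc.isSpectralMap_comap _
  · intro y hy
    have : y ∈ ProEtW.closedPoints (PrimeSpectrum C) := hy
    rw [hC3, hpre] at this
    exact this
  · rw [hC3, hpre]

end Groth.Agent.S0737
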