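import Groth.Statements.S0675
import Groth.Agent.Lib.Helper36.EtaleRetract

set_option autoImplicit false
open CategoryTheory CategoryTheory.Limits AlgebraicGeometry Opposite Topology
universe u
open ProEtW

namespace Groth.Agent.S0675

/-- If every faithfully flat etale A-algebra has an A-algebra retraction, then for every maximal ideal m
of A the localization A_m is a strictly henselian local ring (henselian with separably closed
residue field). -/
theorem result (A : Type u) [CommRing A]
    (h : ProEtW.HasEtaleRetractions A) (m : Ideal A) [m.IsMaximal] :
    EtCoh.IsStrictlyHenselianLocalRing (Localization.AtPrime m) := by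
  exact ⟨Groth.Agent.Lib.Helper36.EtRetr.henselianLocalRing_atPrime h m,
    Groth.Agent.Lib.Helper36.EtRetr.isSepClosed_residueField h m⟩

end Groth.Agent.S0675
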