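import Groth.Statements.S0152
import Groth.Agent.Lib.Helper75.SpecTop

set_option autoImplicit false
universe u
open EtPBC

namespace Groth.Agent.S0152

open Topology Set Groth.Agent.Lib.Helper75

variable {X : Type u} [TopologicalSpace X]

/-- generalizations of a set -/
def G (K : Set X) : Set X := {x | ∃ z ∈ K, x ⤳ z}

theorem subset_G (K : Set X) : K ⊆ G K := fun z hz => ⟨z, hz, specializes_rfl⟩

theorem disjoint_G {Z Z₁ Z₂ : Set X} (hconn : ∀ x : X, IsConnected (Z ∩ closure {x}))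
    (h₁ : IsClosed Z₁) (h₂ : IsClosed Z₂) (hdisj : Disjoint Z₁ Z₂) (hunion : Z₁ ∪ Z₂ = Z) :
    Disjoint (G Z₁) (G Z₂) := by
  rw [Set.disjoint_left]
  rintro x ⟨z₁, hz₁, hxz₁⟩ ⟨z₂, hz₂, hxz₂⟩
  have hpre := (hconn x).isPreconnected
  rw [isPreconnected_closed_iff] at hpre
  have hsub : Z ∩ closure {x} ⊆ Z₁ ∪ Z₂ := by rw [hunion]; exact inter_subset_left
  have hn₁ : ((Z ∩ closure {x}) ∩ Z₁).Nonempty :=
    ⟨z₁, ⟨hunion ▸ Or.inl hz₁, specializes_iff_mem_closure.mp hxz₁⟩, hz₁⟩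
  have hn₂ : ((Z ∩ closure {x}) ∩ Z₂).Nonempty :=
    ⟨z₂, ⟨hunion ▸ Or.inr hz₂, specializes_iff_mem_closure.mp hxz₂⟩, hz₂⟩
  obtain ⟨w, _, hw₁, hw₂⟩ := hpre Z₁ Z₂ h₁ h₂ hsub hn₁ hn₂
  exact Set.disjoint_left.mp hdisj hw₁ hw₂

theorem union_G {Z Z₁ Z₂ : Set X} (hconn : ∀ x : X, IsConnected (Z ∩ closure {x}))
    (hunion : Z₁ ∪ Z₂ = Z) : G Z₁ ∪ G Z₂ = univ := by
  rw [eq_univ_iff_forall]
  intro x
  obtain ⟨z, hzZ, hzx⟩ := (hconn x).nonempty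
  rw [← hunion] at hzZ
  rcases hzZ with h | h
  · exact Or.inl ⟨z, h, specializes_iff_mem_closure.mpr hzx⟩
  · exact Or.inr ⟨z, h, specializes_iff_mem_closure.mpr hzx⟩

theorem isClosed_G [SpectralSpace X] {Z Z₁ Z₂ : Set X}
    (hconn : ∀ x : X, IsConnected (Z ∩ closure {x}))
    (h₁ : IsClosed Z₁) (h₂ : IsClosed Z₂) (hdisj : Disjoint Z₁ Z₂) (hunion : Z₁ ∪ Z₂ = Z) :
    IsClosed (G Z₁) := by
  have hst : StableUnderSpecialization (G Z₁) := by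
    intro x y hxy hx
    have hy : y ∈ G Z₁ ∪ G Z₂ := by rw [union_G hconn hunion]; trivial
    rcases hy with hy | ⟨z₂, hz₂, hyz₂⟩
    · exact hy
    · exact absurd ⟨z₂, hz₂, hxy.trans hyz₂⟩
        (Set.disjoint_left.mp (disjoint_G hconn h₁ h₂ hdisj hunion) hx)
  have hG : G Z₁ = ⋂₀ {U | IsOpen U ∧ IsCompact U ∧ Z₁ ⊆ U} :=
    setOf_specializes_eq_sInter h₁.isCompact
  rw [hG] at hst ⊢
  refine isClosed_sInter_of_stableUnderSpecialization ?_ hst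
  rintro U ⟨hUo, hUc, _⟩
  exact hUc.isConstructible hUo

theorem eq_inter_G {Z Z₁ Z₂ : Set X} (hconn : ∀ x : X, IsConnected (Z ∩ closure {x}))
    (h₁ : IsClosed Z₁) (h₂ : IsClosed Z₂) (hdisj : Disjoint Z₁ Z₂) (hunion : Z₁ ∪ Z₂ = Z) :
    Z₁ = Z ∩ G Z₁ := by
  apply Subset.antisymm
  · intro z hz
    exact ⟨hunion ▸ Or.inl hz, subset_G _ hz⟩
  · rintro z ⟨hzZ, hzG⟩
    rw [← hunion] at hzZ
    rcases hzZ with h | h
    · exact h
    · exact absurd (subset_G _ h)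
        (Set.disjoint_left.mp (disjoint_G hconn h₁ h₂ hdisj hunion) hzG)

end Groth.Agent.S0152

namespace Groth.Agent.S0152

/-- Let X be a spectral space and Z a closed subset such that Z meets the closure of every point of X in
a connected (nonempty) set. If Z is the disjoint union of two closed subsets Z_1, Z_2 then X is the
disjoint union of closed subsets X_1, X_2 with Z_i = Z ∩ X_i. -/
theorem result (X : Type u) [TopologicalSpace X] [SpectralSpace X]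
    (Z : Set X) (hZ : IsClosed Z)
    (hconn : ∀ x : X, IsConnected (Z ∩ closure {x}))
    (Z₁ Z₂ : Set X) (h₁ : IsClosed Z₁) (h₂ : IsClosed Z₂) (hdisj : Disjoint Z₁ Z₂) (hunion : Z₁ ∪ Z₂ = Z) :
    ∃ X₁ X₂ : Set X, IsClosed X₁ ∧ IsClosed X₂ ∧ Disjoint X₁ X₂ ∧ X₁ ∪ X₂ = Set.univ ∧
      Z₁ = Z ∩ X₁ ∧ Z₂ = Z ∩ X₂ := by
  have hconn' : ∀ x : X, IsConnected (Z ∩ closure {x}) := hconn
  have hunion' : Z₂ ∪ Z₁ = Z := by rw [Set.union_comm]; exact hunion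
  refine ⟨G Z₁, G Z₂, isClosed_G hconn' h₁ h₂ hdisj hunion,
    isClosed_G hconn' h₂ h₁ hdisj.symm hunion',
    disjoint_G hconn' h₁ h₂ hdisj hunion, union_G hconn' hunion,
    eq_inter_G hconn' h₁ h₂ hdisj hunion, eq_inter_G hconn' h₂ h₁ hdisj.symm hunion'⟩

end Groth.Agent.S0152
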