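import Groth.Statements.S0180
import Groth.Agent.Lib.Helper75.SpecTop
import Groth.Agent.S0152

set_option autoImplicit false
universe u
open EtPBC

namespace Groth.Agent.S0180

open Topology Set Groth.Agent.Lib.Helper75 Groth.Agent.S0152

variable {X : Type u} [TopologicalSpace X]

/-- a closed set of a prespectral quasi-separated space is an intersection of constructible sets -/
theorem isClosed_eq_sInter [PrespectralSpace X] [QuasiSeparatedSpace X] {F : Set X}
    (hF : IsClosed F) : F = ⋂₀ {C | IsConstructible C ∧ F ⊆ C} := by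
  apply Subset.antisymm
  · intro x hx C hC
    exact hC.2 hx
  · intro x hx
    by_contra hxF
    obtain ⟨V, ⟨hVo, hVc⟩, hxV, hVF⟩ :=
      PrespectralSpace.isTopologicalBasis.exists_subset_of_mem_open
        (show x ∈ Fᶜ from hxF) hF.isOpen_compl
    have hmem : Vᶜ ∈ {C | IsConstructible C ∧ F ⊆ C} := by
      refine ⟨(hVc.isConstructible hVo).compl, ?_⟩
      intro y hy hyV
      exact hVF hyV hy
    exact hx _ hmem hxV

/-- `X₀ ∩ U` is closed for `U` compact open, when `X₀` (the set of closed points) is closed. -/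
theorem isClosed_closedPoints_inter [SpectralSpace X]
    (h0 : IsClosed {x : X | IsClosed ({x} : Set X)}) {U : Set X} (hUo : IsOpen U)
    (hUc : IsCompact U) : IsClosed ({x : X | IsClosed ({x} : Set X)} ∩ U) := by
  set X₀ := {x : X | IsClosed ({x} : Set X)} with hX₀
  have h1 : X₀ ∩ U = ⋂₀ ({C | IsConstructible C ∧ X₀ ⊆ C} ∪ {U}) := by
    rw [sInter_union, sInter_singleton, ← isClosed_eq_sInter h0]
  rw [h1]
  refine isClosed_sInter_of_stableUnderSpecialization ?_ ?_
  · rintro C (hC | hC)
    · exact hC.1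
    · rw [mem_singleton_iff] at hC
      rw [hC]
      exact hUc.isConstructible hUo
  · rw [← h1]
    intro x y hxy hx
    have hcl : IsClosed ({x} : Set X) := hx.1
    have : y ∈ closure ({x} : Set X) := specializes_iff_mem_closure.mp hxy
    rw [hcl.closure_eq, mem_singleton_iff] at this
    rw [this]
    exact hx

end Groth.Agent.S0180

namespace Groth.Agent.S0180

/-- Final assertion: if X is spectral, the set X_0 of closed points is closed, and every point of X
specializes to exactly one closed point, then X_0 -> pi_0(X) is bijective (so X satisfies the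
equivalent conditions of the lemma; such X are called w-local). -/
theorem result (X : Type u) [TopologicalSpace X]
    [SpectralSpace X] (h0 : IsClosed {x : X | IsClosed ({x} : Set X)})
    (huniq : ∀ x : X, ∃! z : X, IsClosed ({z} : Set X) ∧ x ⤳ z) :
    Function.Bijective (fun x : {x : X // IsClosed ({x} : Set X)} => _root_.ConnectedComponents.mk x.1) := by
  classical
  set X₀ := {x : X | IsClosed ({x} : Set X)} with hX₀
  have hconn : ∀ x : X, IsConnected (X₀ ∩ closure {x}) := by
    intro x
    obtain ⟨z, ⟨hz1, hz2⟩, hzuniq⟩ := huniq x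
    have : X₀ ∩ closure {x} = {z} := by
      ext y
      simp only [Set.mem_inter_iff, Set.mem_singleton_iff]
      constructor
      · rintro ⟨hy1, hy2⟩
        exact hzuniq y ⟨hy1, specializes_iff_mem_closure.mpr hy2⟩
      · rintro rfl
        exact ⟨hz1, specializes_iff_mem_closure.mp hz2⟩
    rw [this]
    exact isConnected_singleton
  constructor
  · -- injective
    rintro ⟨z₁, hz₁⟩ ⟨z₂, hz₂⟩ h
    simp only at h
    by_contra hne
    have hne' : z₁ ≠ z₂ := fun e => hne (Subtype.ext e)
    -- a compact open containing z₁ but not z₂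
    have hopen : IsOpen ({z₂}ᶜ : Set X) := hz₂.isOpen_compl
    obtain ⟨U, ⟨hUo, hUc⟩, hz₁U, hUsub⟩ :=
      PrespectralSpace.isTopologicalBasis.exists_subset_of_mem_open
        (show z₁ ∈ ({z₂}ᶜ : Set X) from hne') hopen
    have hz₂U : z₂ ∉ U := fun h' => hUsub h' rfl
    set Z₁ := X₀ ∩ U with hZ₁
    set Z₂ := X₀ ∩ Uᶜ with hZ₂
    have hc₁ : IsClosed Z₁ := isClosed_closedPoints_inter h0 hUo hUc
    have hc₂ : IsClosed Z₂ := h0.inter hUo.isClosed_compl
    have hdisj : Disjoint Z₁ Z₂ := by
      rw [Set.disjoint_left]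
      rintro x ⟨_, hxU⟩ ⟨_, hxU'⟩
      exact hxU' hxU
    have hunion : Z₁ ∪ Z₂ = X₀ := by
      rw [hZ₁, hZ₂, ← Set.inter_union_distrib_left, Set.union_compl_self, Set.inter_univ]
    have hunion' : Z₂ ∪ Z₁ = X₀ := by rw [Set.union_comm]; exact hunion
    have hG₁ : IsClosed (Groth.Agent.S0152.G Z₁) := Groth.Agent.S0152.isClosed_G hconn hc₁ hc₂ hdisj hunion
    have hG₂ : IsClosed (Groth.Agent.S0152.G Z₂) := Groth.Agent.S0152.isClosed_G hconn hc₂ hc₁ hdisj.symm hunion'
    have hGd : Disjoint (Groth.Agent.S0152.G Z₁) (Groth.Agent.S0152.G Z₂) := Groth.Agent.S0152.disjoint_G hconn hc₁ hc₂ hdisj hunion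
    have hGu : Groth.Agent.S0152.G Z₁ ∪ Groth.Agent.S0152.G Z₂ = Set.univ := Groth.Agent.S0152.union_G hconn hunion
    have hclopen : IsClopen (Groth.Agent.S0152.G Z₁) := by
      refine ⟨hG₁, ?_⟩
      have : Groth.Agent.S0152.G Z₁ = (Groth.Agent.S0152.G Z₂)ᶜ := by
        ext x
        constructor
        · intro hx hx'
          exact Set.disjoint_left.mp hGd hx hx'
        · intro hx
          have : x ∈ Groth.Agent.S0152.G Z₁ ∪ Groth.Agent.S0152.G Z₂ := by rw [hGu]; trivial
          rcases this with h' | h'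
          · exact h'
          · exact absurd h' hx
      rw [this]
      exact hG₂.isOpen_compl
    have hz₁G : z₁ ∈ Groth.Agent.S0152.G Z₁ := Groth.Agent.S0152.subset_G _ ⟨hz₁, hz₁U⟩
    have hz₂G : z₂ ∈ Groth.Agent.S0152.G Z₂ := Groth.Agent.S0152.subset_G _ ⟨hz₂, hz₂U⟩
    have hsub := hclopen.connectedComponent_subset hz₁G
    have hmem : z₂ ∈ connectedComponent z₁ := (ConnectedComponents.coe_eq_coe'.mp h.symm)
    exact Set.disjoint_left.mp hGd (hsub hmem) hz₂G
  · -- surjective
    intro c
    obtain ⟨x, rfl⟩ := ConnectedComponents.surjective_coe c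
    obtain ⟨z, ⟨hz1, hz2⟩, -⟩ := huniq x
    refine ⟨⟨z, hz1⟩, ?_⟩
    simp only
    rw [ConnectedComponents.coe_eq_coe']
    have hpre : IsPreconnected (closure ({x} : Set X)) :=
      (isPreconnected_singleton).closure
    exact hpre.subset_connectedComponent (subset_closure rfl)
      (specializes_iff_mem_closure.mp hz2)

end Groth.Agent.S0180
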