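import Groth.Statements.S0699
import Groth.Agent.S0180

set_option autoImplicit false
open CategoryTheory CategoryTheory.Limits AlgebraicGeometry Opposite Topology
universe u
open ProEtW

namespace Groth.Agent.S0699

/-- Let A -> B identify local rings, with Spec A and Spec B w-local, Spec B -> Spec A w-local, and
pi_0(Spec B) -> pi_0(Spec A) bijective. Then A -> B is bijective. -/
theorem result (A B : Type u) [CommRing A] [CommRing B]
    [Algebra A B] (h1 : EtPBC.IdentifiesLocalRings A B) (h2 : ProEtW.IsWLocal (PrimeSpectrum A))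
    (h3 : ProEtW.IsWLocal (PrimeSpectrum B))
    (h4 : ProEtW.IsWLocalMap (PrimeSpectrum.comap (algebraMap A B)))
    (h5 : Function.Bijective
      (PrimeSpectrum.continuous_comap (algebraMap A B)).connectedComponentsMap) :
    Function.Bijective (algebraMap A B) := by
  classical
  set φ := algebraMap A B with hφ
  set f := PrimeSpectrum.comap φ with hf
  have bX := Groth.Agent.S0180.result (PrimeSpectrum A) h2.2.1 h2.2.2
  have bY := Groth.Agent.S0180.result (PrimeSpectrum B) h3.2.1 h3.2.2
  have hmap : ∀ y : PrimeSpectrum B,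
      (PrimeSpectrum.continuous_comap φ).connectedComponentsMap (ConnectedComponents.mk y) =
        ConnectedComponents.mk (f y) := fun y => rfl
  -- (c) closed points
  have cinj : ∀ y₁ y₂ : PrimeSpectrum B, IsClosed ({y₁} : Set _) → IsClosed ({y₂} : Set _) →
      f y₁ = f y₂ → y₁ = y₂ := by
    intro y₁ y₂ hy₁ hy₂ he
    have h : ConnectedComponents.mk y₁ = ConnectedComponents.mk y₂ := by
      apply h5.1
      rw [hmap, hmap, he]
    have := bY.1 (a₁ := ⟨y₁, hy₁⟩) (a₂ := ⟨y₂, hy₂⟩) h
    exact congrArg Subtype.val this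
  have csurj : ∀ x : PrimeSpectrum A, IsClosed ({x} : Set _) →
      ∃ y : PrimeSpectrum B, IsClosed ({y} : Set _) ∧ f y = x := by
    intro x hx
    obtain ⟨c, hc⟩ := h5.2 (ConnectedComponents.mk x)
    obtain ⟨⟨y, hy⟩, rfl⟩ := bY.2 c
    refine ⟨y, hy, ?_⟩
    have hfy : IsClosed ({f y} : Set _) := h4.2 y hy
    have := bX.1 (a₁ := ⟨f y, hfy⟩) (a₂ := ⟨x, hx⟩) (by
      change ConnectedComponents.mk (f y) = ConnectedComponents.mk x
      rw [← hmap]
      exact hc)
    exact congrArg Subtype.val this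
  -- (d') key claim
  have key : ∀ (q : PrimeSpectrum B) (m : PrimeSpectrum A), IsClosed ({m} : Set _) → f q ≤ m →
      ∀ y : PrimeSpectrum B, IsClosed ({y} : Set _) → f y = m → q ≤ y := by
    intro q m hm hqm y hy hym
    obtain ⟨n, ⟨hn1, hn2⟩, -⟩ := h3.2.2 q
    have hqn : q ≤ n := (PrimeSpectrum.le_iff_specializes _ _).mpr hn2
    have hfn : IsClosed ({f n} : Set _) := h4.2 n hn1
    have hfqn : f q ≤ f n := Ideal.comap_mono (f := φ) hqn
    obtain ⟨z, -, hzuniq⟩ := h2.2.2 (f q)
    have e1 : f n = z := hzuniq _ ⟨hfn, (PrimeSpectrum.le_iff_specializes _ _).mp hfqn⟩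
    have e2 : m = z := hzuniq _ ⟨hm, (PrimeSpectrum.le_iff_specializes _ _).mp hqm⟩
    have : n = y := cinj n y hn1 hy (by rw [e1, ← e2, hym])
    rw [← this]
    exact hqn
  constructor
  · rw [injective_iff_map_eq_zero]
    intro a ha
    apply eq_zero_of_localization
    intro J hJ
    have hx : IsClosed ({(⟨J, hJ.isPrime⟩ : PrimeSpectrum A)} : Set _) :=
      (PrimeSpectrum.isClosed_singleton_iff_isMaximal _).mpr hJ
    obtain ⟨y, hy, hfy⟩ := csurj ⟨J, hJ.isPrime⟩ hx
    have hJe : J = y.asIdeal.comap φ := (congrArg PrimeSpectrum.asIdeal hfy).symm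
    subst hJe
    have hb := h1 y
    apply hb.1
    rw [map_zero, Localization.localRingHom_to_map, ha, map_zero]
  · intro b
    -- conductor ideal
    let 𝔞 : Ideal A :=
      { carrier := {a | φ a * b ∈ Set.range φ}
        add_mem' := by
          rintro a a' ⟨c, hc⟩ ⟨c', hc'⟩
          exact ⟨c + c', by rw [map_add, hc, hc', map_add, add_mul]⟩
        zero_mem' := ⟨0, by simp⟩
        smul_mem' := by
          rintro r a ⟨c, hc⟩
          exact ⟨r * c, by rw [smul_eq_mul, map_mul, hc, map_mul, mul_assoc]⟩ }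
    by_contra hb
    have hne : 𝔞 ≠ ⊤ := by
      intro htop
      have h1mem : (1 : A) ∈ 𝔞 := htop ▸ Submodule.mem_top
      obtain ⟨c, hc⟩ := h1mem
      apply hb
      exact ⟨c, by rw [hc, map_one, one_mul]⟩
    obtain ⟨m, hm, hle⟩ := Ideal.exists_le_maximal 𝔞 hne
    have hx : IsClosed ({(⟨m, hm.isPrime⟩ : PrimeSpectrum A)} : Set _) :=
      (PrimeSpectrum.isClosed_singleton_iff_isMaximal _).mpr hm
    obtain ⟨y, hy, hfy⟩ := csurj ⟨m, hm.isPrime⟩ hx
    have hme : m = y.asIdeal.comap φ := (congrArg PrimeSpectrum.asIdeal hfy).symm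
    subst hme
    obtain ⟨z, hz⟩ := (h1 y).2 (algebraMap B (Localization.AtPrime y.asIdeal) b)
    obtain ⟨a, s, rfl⟩ := IsLocalization.exists_mk'_eq (y.asIdeal.comap φ).primeCompl z
    rw [Localization.localRingHom_mk'] at hz
    rw [IsLocalization.mk'_eq_iff_eq_mul, ← map_mul] at hz
    obtain ⟨t, ht⟩ := (IsLocalization.eq_iff_exists y.asIdeal.primeCompl _).mp hz
    -- c := b * φ s - φ a is killed by t ∉ y
    set c := b * φ s - φ a with hc
    have htc : (t : B) * c = 0 := by
      rw [hc, mul_sub, sub_eq_zero]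
      exact ht.symm
    -- claim
    have claim : ∃ s' : A, s' ∉ y.asIdeal.comap φ ∧ φ s' * c = 0 := by
      by_contra hcon
      push Not at hcon
      let I : Ideal B := LinearMap.ker (LinearMap.toSpanSingleton B B c)
      have hI : ∀ t : B, t ∈ I ↔ t * c = 0 := fun t => by
        change (LinearMap.toSpanSingleton B B c) t = 0 ↔ _
        rw [LinearMap.toSpanSingleton_apply, smul_eq_mul]
      let S : Submonoid B := (y.asIdeal.comap φ).primeCompl.map (φ : A →* B)
      have hdisj : Disjoint (I : Set B) S := by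
        rw [Set.disjoint_left]
        rintro t htI ⟨s', hs', rfl⟩
        exact hcon s' hs' ((hI _).mp htI)
      obtain ⟨q, hq, hIq, hqS⟩ := Ideal.exists_le_prime_disjoint I S hdisj
      have hfq : f ⟨q, hq⟩ ≤ f y := by
        intro a ha
        by_contra hay
        exact Set.disjoint_left.mp hqS ha ⟨a, hay, rfl⟩
      have hqy : (⟨q, hq⟩ : PrimeSpectrum B) ≤ y := key ⟨q, hq⟩ (f y) (h4.2 y hy) hfq y hy rfl
      exact t.2 (hqy (hIq ((hI _).mpr htc)))
    obtain ⟨s', hs', hs'c⟩ := claim
    have hmem : s' * s ∈ 𝔞 := by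
      refine ⟨s' * a, ?_⟩
      rw [hc, mul_sub, sub_eq_zero] at hs'c
      rw [map_mul, map_mul, mul_assoc, mul_comm (φ s) b]
      exact hs'c.symm
    have := hle hmem
    rcases (y.isPrime.comap φ).mem_or_mem this with h | h
    · exact hs' h
    · exact s.2 h

end Groth.Agent.S0699
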