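import Groth.Statements.S0176
import Groth.Agent.Lib.Helper36.OlivierIdLoc
import Groth.Agent.Lib.Helper36.WLSquareMain
import Groth.Agent.S0700
import Groth.Agent.S0736

set_option autoImplicit false
universe u
open CategoryTheory CategoryTheory.Limits AlgebraicGeometry Opposite
open EtPBC

namespace Groth.Agent.S0176

/-- For a weakly etale ring map A -> B (Mathlib's Algebra.WeaklyEtale) one can enlarge B along a
faithfully flat ind-etale extension B' so that B' is already ind-etale over A; here ind-etale means:
a filtered colimit of etale algebras. -/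
theorem result (A B : Type u) [CommRing A] [CommRing B] [Algebra A B]
    [Algebra.WeaklyEtale A B] :
    ∃ (B' : Type u) (_ : CommRing B') (_ : Algebra B B') (_ : Algebra A B') (_ : IsScalarTower A B B'),
      Module.FaithfullyFlat B B' ∧ EtPBC.IsIndEtale B B' ∧ EtPBC.IsIndEtale A B' := by
  have h := Groth.Agent.Lib.Helper36.WLSquare.algebraicResidueExtensions_of_weaklyEtale A B
  obtain ⟨C, D, _, _, _, _, _, _, tACD, tABD, hffAC, hindAC, hffBD, hindBD, hwC, hwD, hmap, hcl,
    hsA, hsB, hsh⟩ := Groth.Agent.Lib.Helper36.WLSquare.main A B h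
  refine ⟨D, inferInstance, inferInstance, inferInstance, tABD, hffBD, hindBD, ?_⟩
  have hweAC : Algebra.WeaklyEtale A C := Groth.Agent.S0736.result A C hindAC
  have hweBD : Algebra.WeaklyEtale B D := Groth.Agent.S0736.result B D hindBD
  have hweAD : Algebra.WeaklyEtale A D := Algebra.WeaklyEtale.trans A B D
  have hweCD : Algebra.WeaklyEtale C D :=
    Groth.Agent.Lib.Helper36.WE.weaklyEtale_of_algHom A C D
  have hmax : ∀ n : Ideal D, n.IsMaximal → (n.comap (algebraMap C D)).IsMaximal := by
    intro n hn
    have h1 : IsClosed ({⟨n, hn.isPrime⟩} : Set (PrimeSpectrum D)) :=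
      (PrimeSpectrum.isClosed_singleton_iff_isMaximal _).mpr hn
    have h2 := hmap.2 _ h1
    exact (PrimeSpectrum.isClosed_singleton_iff_isMaximal _).mp h2
  have hid : EtPBC.IdentifiesLocalRings C D :=
    Groth.Agent.Lib.Helper36.Olivier.identifiesLocalRings_of_weaklyEtale C D hmax hsh
  have hz : EtPBC.IsIndZariski C D := Groth.Agent.S0700.result C D hid hwC hwD hmap
  exact Groth.Agent.Lib.Helper36.IndEt.isIndEtale_trans A C D hindAC
    (Groth.Agent.Lib.Helper36.WLSquare.isIndEtale_of_isIndZariski C D hz)

end Groth.Agent.S0176
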