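import Groth.Statements.S0730

set_option autoImplicit false
open CategoryTheory CategoryTheory.Limits AlgebraicGeometry Opposite
universe u
open ProEtS

namespace Groth.Agent.S0730

/-- For `g : V ⟶ U` in `Y.ProEt`, the square with corners `V ×_Y X, U ×_Y X, V, U` is cartesian. -/
theorem isPullback_bcP_map {X Y : Scheme.{u}} (f : X ⟶ Y) {U V : Y.ProEt} (g : V ⟶ U) :
    IsPullback (pullback.fst V.hom f : ((bcP f).obj V).left ⟶ V.left) ((bcP f).map g).left 
       g.left (pullback.fst U.hom f : ((bcP f).obj U).left ⟶ U.left) := by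
  have e1 : ((bcP f).map g).left ≫ pullback.snd U.hom f = pullback.snd V.hom f := by
    dsimp [bcP]
    exact pullback.lift_snd _ _ _
  have e2 : g.left ≫ U.hom = V.hom := Over.w g.hom
  refine IsPullback.flip (IsPullback.of_right (h₁₂ := pullback.snd U.hom f) (v₁₃ := f) (h₂₂ := U.hom) ?_ ?_
    (IsPullback.of_hasPullback U.hom f).flip)
  · exact (congrArg₂ (fun a d => IsPullback a (pullback.fst V.hom f) f d) e1 e2).mpr
      (IsPullback.of_hasPullback V.hom f).flip
  · dsimp [bcP]
    exact pullback.lift_fst _ _ _

instance (Y : Scheme.{u}) : (Scheme.ProEt.precoverage Y).IsStableUnderBaseChange := by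
  have : PreservesLimitsOfShape WalkingCospan (Scheme.ProEt.forget Y ⋙ Over.forget Y) :=
    inferInstance
  exact inferInstanceAs <| (Scheme.proetalePrecoverage.comap
    (Scheme.ProEt.forget Y ⋙ Over.forget Y)).IsStableUnderBaseChange

theorem precoverage_le {X Y : Scheme.{u}} (f : X ⟶ Y) :
    Scheme.ProEt.precoverage Y ≤ (Scheme.ProEt.precoverage X).comap (bcP f) := by
  intro U R hR
  rw [Precoverage.mem_iff_exists_zeroHypercover] at hR
  obtain ⟨𝒰, rfl⟩ := hR
  change Presieve.map _ (Presieve.map _ _) ∈ Scheme.proetalePrecoverage _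
  have h𝒰 := 𝒰.mem₀
  change Presieve.map _ _ ∈ Scheme.proetalePrecoverage _ at h𝒰
  erw [Presieve.map_ofArrows] at h𝒰
  erw [Presieve.map_ofArrows, Presieve.map_ofArrows]
  exact Scheme.proetalePrecoverage.mem_coverings_of_isPullback _ h𝒰
    (pullback.fst U.hom f : ((bcP f).obj U).left ⟶ U.left) _ 
    (fun i => (pullback.fst (𝒰.X i).hom f : ((bcP f).obj (𝒰.X i)).left ⟶ (𝒰.X i).left))
    (fun i => (isPullback_bcP_map f (𝒰.f i)).flip)

/-- Base changes of pro-étale coverings are pro-étale coverings, in the form used to define the morphism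
of sites f_proét : X_proét → Y_proét for a morphism of schemes f : X → Y: the base change functor
from the small pro-étale site of Y to that of X is continuous. -/
theorem result {X Y : Scheme.{u}} (f : X ⟶ Y) : ProEtS.PCont f := by
  have : PreservesFiniteLimits (bcP f) :=
    inferInstanceAs <| PreservesFiniteLimits (MorphismProperty.Over.pullback (@WeaklyEtale) ⊤ f)
  exact Functor.isContinuous_toGrothendieck_of_pullbacksPreservedBy _ _ _ (precoverage_le f)

end Groth.Agent.S0730
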