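import Groth.Statements.S0698
import Groth.Agent.Lib.Helper36.IndZariskiLoc
import Groth.Agent.Lib.Helper50.SpectralClopen

set_option autoImplicit false
open CategoryTheory CategoryTheory.Limits AlgebraicGeometry Opposite Topology
universe u
open ProEtW

namespace Groth.Agent.S0698

/-- Let A be a ring, X = Spec A and T a closed subset of pi_0(X). Then A has an ind-Zariski quotient
ring B (the map A -> B is surjective) whose spectrum maps homeomorphically onto the preimage of T in
X. -/
theorem result (A : Type u) [CommRing A]
    (T : Set (_root_.ConnectedComponents (PrimeSpectrum A))) (hT : IsClosed T) :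
    ∃ (B : Type u) (_ : CommRing B) (_ : Algebra A B),
      EtPBC.IsIndZariski A B ∧ Function.Surjective (algebraMap A B) ∧
      Topology.IsEmbedding (PrimeSpectrum.comap (algebraMap A B)) ∧
      Set.range (PrimeSpectrum.comap (algebraMap A B)) = _root_.ConnectedComponents.mk ⁻¹' T := by
  classical
  set Z : Set (PrimeSpectrum A) := _root_.ConnectedComponents.mk ⁻¹' T with hZ
  have hZc : IsClosed Z := hT.preimage _root_.ConnectedComponents.continuous_coe
  have hZcomp : ∀ x ∈ Z, connectedComponent x ⊆ Z := by
    intro x hx y hy
    change _root_.ConnectedComponents.mk y ∈ T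
    have : (_root_.ConnectedComponents.mk y : _root_.ConnectedComponents (PrimeSpectrum A)) =
        _root_.ConnectedComponents.mk x :=
      _root_.ConnectedComponents.coe_eq_coe'.mpr hy
    rw [this]
    exact hx
  let S : Submonoid A :=
    { carrier := {e | IsIdempotentElem e ∧ Z ⊆ (PrimeSpectrum.basicOpen e : Set (PrimeSpectrum A))}
      mul_mem' := by
        rintro e e' ⟨he, hZe⟩ ⟨he', hZe'⟩
        refine ⟨he.mul he', fun z hz => ?_⟩
        rw [PrimeSpectrum.basicOpen_mul]
        exact ⟨hZe hz, hZe' hz⟩
      one_mem' := ⟨IsIdempotentElem.one, fun z _ => by simp⟩ }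
  have hsurj : Function.Surjective (algebraMap A (Localization S)) := by
    intro x
    obtain ⟨a, s, rfl⟩ := IsLocalization.exists_mk'_eq S x
    have hs1 : algebraMap A (Localization S) s = 1 := by
      have hu : IsUnit (algebraMap A (Localization S) s) := IsLocalization.map_units _ s
      have hid : algebraMap A (Localization S) s * algebraMap A (Localization S) s =
          algebraMap A (Localization S) s * 1 := by
        rw [← map_mul, s.2.1.eq, mul_one]
      exact hu.mul_left_cancel hid
    refine ⟨a, ?_⟩
    rw [IsLocalization.eq_mk'_iff_mul_eq, hs1, mul_one]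
  refine ⟨Localization S, inferInstance, inferInstance,
    Groth.Agent.Lib.Helper36.LocColim.isIndZariski_of_isLocalization S (Localization S), hsurj,
    (PrimeSpectrum.isClosedEmbedding_comap_of_surjective _ _ hsurj).isEmbedding, ?_⟩
  rw [PrimeSpectrum.localization_comap_range (Localization S) S]
  ext p
  simp only [Set.mem_ofPred_eq]
  constructor
  · intro hdisj
    by_contra hp
    obtain ⟨W, hW, hZW, hpW⟩ :=
      Groth.Agent.Lib.Helper50.exists_isClopen_of_closed_union_connectedComponents hZc hZcomp hp
    obtain ⟨e, he, rfl⟩ := PrimeSpectrum.isClopen_iff.mp hW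
    have heS : e ∈ S := ⟨he, hZW⟩
    have hep : e ∈ p.asIdeal := by
      by_contra h
      exact hpW h
    exact Set.disjoint_left.mp hdisj heS hep
  · intro hp
    rw [Set.disjoint_left]
    rintro e ⟨he, hZe⟩ hep
    exact (hZe hp) hep

end Groth.Agent.S0698
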