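import Groth.Statements.S0697
import Groth.Agent.Lib.Helper36.SigmaLocFib

set_option autoImplicit false
open CategoryTheory CategoryTheory.Limits AlgebraicGeometry Opposite Topology
universe u
open ProEtW

namespace Groth.Agent.S0697

/-- Let A be a ring, X = Spec A, T a profinite space and g : T -> pi_0(X) continuous. Then there is an
ind-Zariski A-algebra B, with Y = Spec B, and a homeomorphism e : pi_0(Y) -> T over pi_0(X) such
that Y -> X x T, y |-> (image of y, e [y]) is a topological embedding with image the fibre product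
of X and T over pi_0(X); that is, the square Y -> pi_0(Y) = T, Y -> X is cartesian in topological
spaces. -/
theorem result (A : Type u) [CommRing A] (T : Type u)
    [TopologicalSpace T] [CompactSpace T] [T2Space T] [TotallyDisconnectedSpace T]
    (g : C(T, _root_.ConnectedComponents (PrimeSpectrum A))) :
    ∃ (B : Type u) (_ : CommRing B) (_ : Algebra A B) (e : _root_.ConnectedComponents (PrimeSpectrum B) ≃ₜ T),
      EtPBC.IsIndZariski A B ∧
      (∀ y : PrimeSpectrum B,
        g (e (_root_.ConnectedComponents.mk y)) = _root_.ConnectedComponents.mk (PrimeSpectrum.comap (algebraMap A B) y)) ∧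
      Topology.IsEmbedding (fun y : PrimeSpectrum B =>
        (PrimeSpectrum.comap (algebraMap A B) y, e (_root_.ConnectedComponents.mk y))) ∧
      Set.range (fun y : PrimeSpectrum B =>
        (PrimeSpectrum.comap (algebraMap A B) y, e (_root_.ConnectedComponents.mk y))) =
        {p : PrimeSpectrum A × T | _root_.ConnectedComponents.mk p.1 = g p.2} := by
  classical
  let Sg := Groth.Agent.Lib.Helper36.SigmaLoc.SgFib g
  have hSg : ∀ a : A, IsOpen {t | a ∈ Sg t} := Groth.Agent.Lib.Helper36.SigmaLoc.isOpen_SgFib g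
  let B := Groth.Agent.Lib.Helper36.SigmaLoc.Bw A T Sg
  let h := Groth.Agent.Lib.Helper36.SigmaLoc.homeo hSg
  let h' : PrimeSpectrum B ≃ₜ Groth.Agent.Lib.Helper36.FibProd.Y g :=
    h.symm.trans (Homeomorph.setCongr (Groth.Agent.Lib.Helper36.SigmaLoc.Yw_SgFib g))
  let e : _root_.ConnectedComponents (PrimeSpectrum B) ≃ₜ T :=
    (Groth.Agent.Lib.Helper36.SigmaLoc.pi0Congr h').trans
      (Groth.Agent.Lib.Helper36.FibProd.pi0Homeo g)
  have hfst : ∀ y : PrimeSpectrum B, (h' y).1.1 = PrimeSpectrum.comap (algebraMap A B) y :=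
    fun y => Groth.Agent.Lib.Helper36.SigmaLoc.homeo_symm_fst hSg y
  have hsnd : ∀ y : PrimeSpectrum B, e (_root_.ConnectedComponents.mk y) = (h' y).1.2 := by
    intro y
    change Groth.Agent.Lib.Helper36.FibProd.pi0Homeo g
      (Groth.Agent.Lib.Helper36.SigmaLoc.pi0Congr h' (_root_.ConnectedComponents.mk y)) = _
    rw [Groth.Agent.Lib.Helper36.SigmaLoc.pi0Congr_mk,
      Groth.Agent.Lib.Helper36.FibProd.pi0Homeo_mk]
  have hfun : (fun y : PrimeSpectrum B =>
      (PrimeSpectrum.comap (algebraMap A B) y, e (_root_.ConnectedComponents.mk y))) =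
      Subtype.val ∘ h' := by
    funext y
    exact Prod.ext (hfst y).symm (hsnd y)
  refine ⟨B, inferInstance, inferInstance, e,
    Groth.Agent.Lib.Helper36.SigmaLoc.isIndZariski A T Sg, ?_, ?_, ?_⟩
  · intro y
    rw [hsnd, ← hfst]
    exact (h' y).2.symm
  · rw [hfun]
    exact Topology.IsEmbedding.subtypeVal.comp h'.isEmbedding
  · rw [hfun, Set.range_comp, h'.surjective.range_eq, Set.image_univ, Subtype.range_coe]
    rfl

end Groth.Agent.S0697
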