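import Groth.Statements.S0679
import Groth.Agent.Lib.Helper36.FiniteWContr
import Groth.Agent.Lib.Helper36.OlivierWC

set_option autoImplicit false
open CategoryTheory CategoryTheory.Limits AlgebraicGeometry Opposite Topology
universe u
open ProEtW

namespace Groth.Agent.S0679

/-- If A → B is a finite ring map of finite presentation and A is w-contractible, then B is
w-contractible. -/
theorem result (A B : Type u) [CommRing A] [CommRing B]
    [Algebra A B] [Module.Finite A B] [Algebra.FinitePresentation A B]
    (h : EtPBC.IsWContractible A) : EtPBC.IsWContractible B := by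
  obtain ⟨hW, hE, hS⟩ := (Groth.Agent.Lib.Helper36.Olivier.isWContractible_iff A).mp h
  haveI : Algebra.IsIntegral A B := inferInstance
  have hWB : ProEtW.IsWLocal (PrimeSpectrum B) :=
    Groth.Agent.Lib.Helper36.FinWC.isWLocal_of_isIntegral A B hW (fun m _ => (hS m).1)
  refine (Groth.Agent.Lib.Helper36.Olivier.isWContractible_iff B).mpr ⟨hWB, ?_, ?_⟩
  · exact Groth.Agent.Lib.Helper36.FinWC.extremallyDisconnected_connectedComponents_of_finite A B
      hW hE (fun m _ => (hS m).2) hWB
  · intro n hn
    haveI : (n.comap (algebraMap A B)).IsMaximal :=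
      Ideal.isMaximal_comap_of_isIntegral_of_isMaximal (R := A) n
    exact Groth.Agent.Lib.Helper36.FinWC.isStrictlyHenselian_localization_of_finite A B _
      (hS _) n rfl

end Groth.Agent.S0679
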