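import Groth.Statements.S3093
-- import your own Groth.Agent.* helpers here

set_option autoImplicit false
universe u
open CohTop

namespace Groth.Agent.S3093

/-- Let X be a topological space and K ⊆ X a compact subset such that any two distinct points of K have
disjoint open neighbourhoods in X. If A and B are subsets of K that are closed in K and W is an open
subset of X containing A ∩ B, then there are open subsets U ⊇ A and V ⊇ B of X with U ∩ V ⊆ W. -/
theorem result {X : Type u} [TopologicalSpace X] {K : Set X} (hK : IsCompact K)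
    (hsep : ∀ x ∈ K, ∀ y ∈ K, x ≠ y → ∃ U V : Set X, IsOpen U ∧ IsOpen V ∧ x ∈ U ∧ y ∈ V ∧ Disjoint U V)
    {A B W : Set X} (hA : A ⊆ K) (hB : B ⊆ K) (hAc : IsClosed (Subtype.val ⁻¹' A : Set K))
    (hBc : IsClosed (Subtype.val ⁻¹' B : Set K)) (hW : IsOpen W) (hABW : A ∩ B ⊆ W) :
    ∃ U V : Set X, IsOpen U ∧ IsOpen V ∧ A ⊆ U ∧ B ⊆ V ∧ U ∩ V ⊆ W := by
  classical
  have hcomp : ∀ S : Set X, S ⊆ K → IsClosed (Subtype.val ⁻¹' S : Set K) → IsCompact S := by
    intro S hS hSc
    have : CompactSpace K := isCompact_iff_compactSpace.mp hK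
    have h1 : IsCompact (Subtype.val ⁻¹' S : Set K) := hSc.isCompact
    have h2 := h1.image continuous_subtype_val
    rwa [Subtype.image_preimage_coe, Set.inter_eq_right.mpr hS] at h2
  have hA' : IsCompact (A \ W) := by
    apply hcomp _ (Set.sdiff_subset.trans hA)
    rw [Set.preimage_sdiff]
    exact hAc.sdiff (hW.preimage continuous_subtype_val)
  have hB' : IsCompact B := hcomp B hB hBc
  have hdisj : Disjoint (nhdsSet (A \ W)) (nhdsSet B) := by
    rw [hA'.disjoint_nhdsSet_left]
    intro x hx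
    rw [hB'.disjoint_nhdsSet_right]
    intro y hy
    have hne : x ≠ y := by
      rintro rfl
      exact hx.2 (hABW ⟨hx.1, hy⟩)
    obtain ⟨U, V, hU, hV, hxU, hyV, hUV⟩ := hsep x (hA hx.1) y (hB hy) hne
    exact Filter.disjoint_iff.mpr ⟨U, hU.mem_nhds hxU, V, hV.mem_nhds hyV, hUV⟩
  obtain ⟨U, V, hU, hV, hAU, hBV, hUV⟩ := separatedNhds_iff_disjoint.mpr hdisj
  refine ⟨U ∪ W, V, hU.union hW, hV, ?_, hBV, ?_⟩
  · intro a ha
    by_cases haW : a ∈ W
    · exact Or.inr haW
    · exact Or.inl (hAU ⟨ha, haW⟩)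
  · rintro z ⟨hz | hz, hzV⟩
    · exact (Set.disjoint_left.mp hUV hz hzV).elim
    · exact hz

end Groth.Agent.S3093
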