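import Groth.Statements.S14449
import Mathlib
import Groth.Agent.Lib.Helper36.RecollAbstract
import Groth.Agent.Lib.Helper43.Recoll
import Groth.Agent.S0101
import Groth.Agent.S0651

set_option autoImplicit false
universe u
open CategoryTheory CategoryTheory.Limits AlgebraicGeometry
open EtCore

namespace Groth.Agent.S14449

open Groth.Agent.Lib.Helper43 Groth.Agent.Lib.Helper43.EtStalk Groth.Agent.Lib.Helper36

section Helpers

variable {X Y : Scheme.{u}} (f : X ⟶ Y)
  {Ω : Type u} [Field Ω] [IsSepClosed Ω] (ξ : Spec (CommRingCat.of Ω) ⟶ X)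

/-- naturality of the stalk comparison for inverse images -/
lemma pullStalkMap_naturality {H H' : EtCoh.Ab Y} (φ : H ⟶ H') :
    (Scheme.pointSmallEtale (ξ ≫ f)).presheafFiber.map φ.hom ≫ PullStalk.pullStalkMap f H' ξ =
      PullStalk.pullStalkMap f H ξ ≫
        (Scheme.pointSmallEtale ξ).presheafFiber.map ((EtCoh.pull f).map φ).hom := by
  refine (Scheme.pointSmallEtale (ξ ≫ f)).presheafFiber_hom_ext (fun W z => ?_)
  have h1 := (Scheme.pointSmallEtale (ξ ≫ f)).toPresheafFiber_naturality φ.hom W z
  have h2 := PullStalk.toFiber_pullStalkMap f H' ξ W z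
  have h3 := PullStalk.toFiber_pullStalkMap f H ξ W z
  have h4 := (Scheme.pointSmallEtale ξ).toPresheafFiber_naturality ((EtCoh.pull f).map φ).hom
    ((EtCoh.bc f).obj W) (Groth.Agent.S0100.fiberEquiv f ξ W z)
  have h5 : (PullStalk.η f H).hom.app (Opposite.op W) ≫
      ((EtCoh.pull f).map φ).hom.app (Opposite.op ((EtCoh.bc f).obj W)) =
      φ.hom.app (Opposite.op W) ≫ (PullStalk.η f H').hom.app (Opposite.op W) := by
    have := (EtCoh.pullPushAdj f).unit.naturality φ
    exact (congrArg (fun t => t.hom.app (Opposite.op W)) this).symm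
  exact (Category.assoc _ _ _).symm.trans <| (eq_whisker h1 _).trans <|
    (Category.assoc _ _ _).trans <| (whisker_eq _ h2).trans <|
    (Category.assoc _ _ _).symm.trans <| (eq_whisker h5.symm _).trans <|
    (Category.assoc _ _ _).trans <| (whisker_eq _ h4.symm).trans <|
    (Category.assoc _ _ _).symm.trans <| (eq_whisker h3.symm _).trans (Category.assoc _ _ _)

lemma isIso_of_comm_sq {D : Type*} [Category D] {A B C' E : D} {a : A ⟶ B} {b : B ⟶ E}
    {c : A ⟶ C'} {d : C' ⟶ E} (h : a ≫ b = c ≫ d) (hb : IsIso b) (hc : IsIso c) (hd : IsIso d) :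
    IsIso a := by
  have : a = c ≫ d ≫ inv b := by
    rw [← Category.assoc, ← h, Category.assoc, IsIso.hom_inv_id, Category.comp_id]
  rw [this]
  infer_instance

/-- a morphism inducing an isomorphism after `f^{-1}` is an isomorphism on stalks at points
coming from `X` -/
lemma isIso_stalk_of_isIso_pull {H H' : EtCoh.Ab Y} (φ : H ⟶ H') (h : IsIso ((EtCoh.pull f).map φ)) :
    IsIso (((Scheme.pointSmallEtale (ξ ≫ f)).sheafFiber (A := AddCommGrpCat.{u + 1})).map φ) := by
  have n := pullStalkMap_naturality f ξ φ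
  have h1 : IsIso ((Scheme.pointSmallEtale ξ).presheafFiber.map ((EtCoh.pull f).map φ).hom) := by
    change IsIso (((Scheme.pointSmallEtale ξ).sheafFiber (A := AddCommGrpCat.{u + 1})).map
      ((EtCoh.pull f).map φ))
    infer_instance
  exact isIso_of_comm_sq n (PullStalk.isIso_pullStalkMap f H' ξ) (PullStalk.isIso_pullStalkMap f H ξ) h1

end Helpers


/-- Let X be a scheme, i : Z ⟶ X a closed immersion and j : U ⟶ X an open immersion whose image is the
complement of the image of i. Then the functor from abelian sheaves on the small étale site of X to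
the category of triples (G on Z, H on U, φ : G ⟶ i⁻¹ j_* H), sending F to (i⁻¹ F, j⁻¹ F, i⁻¹ of the
unit F ⟶ j_* j⁻¹ F), is an equivalence of categories. The category of triples is the comma category
of the identity functor of Ab(Z) over j_* ⋙ i⁻¹. -/
theorem result {X Z U : Scheme.{u}}
    (i : Z ⟶ X) [IsClosedImmersion i] (j : U ⟶ X) [IsOpenImmersion j]
    (hZU : Set.range j.base = (Set.range i.base)ᶜ) :
    (EtCore.recollTriple i j).IsEquivalence := by
  have e : EtCore.recollTriple i j =
      RecollAbstract.triple (EtCoh.pull i) (EtCoh.pullPushAdj j) := rfl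
  rw [e]
  have : PreservesFiniteLimits (EtCoh.pull i) := Groth.Agent.S0101.result i
  have : PreservesFiniteLimits (EtCoh.pull j) := Groth.Agent.S0101.result j
  have : IsIso (EtCoh.pullPushAdj i).counit := ClosedStalk.isIso_counit_nat i
  have : IsIso (EtCoh.pullPushAdj j).counit := by
    have : ∀ G, IsIso ((EtCoh.pullPushAdj j).counit.app G) :=
      fun G => (Groth.Agent.S0651.result j G).1
    exact NatIso.isIso_of_isIso_app _
  apply RecollAbstract.isEquivalence_triple (EtCoh.pullPushAdj i) (EtCoh.pullPushAdj j)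
  · intro G
    apply isZero_of_stalks_ab
    intro Ω _ _ ξ
    have h0 : IsZero ((EtCoh.stalk (ξ ≫ j)).obj ((EtCoh.push i).obj G)) := by
      apply Groth.Agent.S0069.result i
      rw [Set.disjoint_left]
      rintro _ ⟨q, rfl⟩ hq
      have h1 : (ξ ≫ j).base q ∈ Set.range j.base := ⟨ξ.base q, rfl⟩
      rw [hZU] at h1
      exact h1 hq
    exact IsZero.of_iso h0 (asIso (PullStalk.pullStalkMap j ((EtCoh.push i).obj G) ξ)).symm
  · intro F F' f hi hj
    have key : ∀ (Ω : Type u) [Field Ω] [IsSepClosed Ω] (ξ : Spec (CommRingCat.of Ω) ⟶ X),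
        IsIso (((Scheme.pointSmallEtale ξ).sheafFiber (A := AddCommGrpCat.{u + 1})).map f) := by
      intro Ω _ _ ξ
      rcases ShriekStalk.lifts_nonempty_or j ξ with ⟨⟨u⟩⟩ | hξ
      · obtain ⟨υ, rfl⟩ := u
        exact isIso_stalk_of_isIso_pull j υ f hj
      · have hmem : ξ.base default ∈ Set.range i.base := by
          have := hξ ⟨default, rfl⟩
          rw [hZU] at this
          simpa using this
        obtain ⟨ζ, rfl⟩ := ClosedStalk.exists_lift_closed i ξ hmem
        exact isIso_stalk_of_isIso_pull i ζ f hi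
    have hm : Mono f := mono_of_stalks_ab _ (fun Ω _ _ ξ =>
      haveI := key Ω ξ
      (ConcreteCategory.bijective_of_isIso _).1)
    have he : Epi f := epi_of_stalks_ab _ (fun Ω _ _ ξ =>
      haveI := key Ω ξ
      (ConcreteCategory.bijective_of_isIso _).2)
    exact isIso_of_mono_of_epi _

end Groth.Agent.S14449
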