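import Groth.Statements.S0742
import Mathlib

set_option autoImplicit false
open CategoryTheory CategoryTheory.Limits AlgebraicGeometry Opposite
universe u
open ProEtS

namespace Groth.Agent.S0742

variable {U X : Scheme.{u}} (j : U ⟶ X) [IsOpenImmersion j]

/-- composition with `j` is left adjoint to base change along `j`. -/
noncomputable def adjJ : ProEtS.compP j ⊣ ProEtS.bcP j :=
  MorphismProperty.Over.mapPullbackAdj (@WeaklyEtale) ⊤ j (inferInstance : WeaklyEtale j) trivial

set_option backward.isDefEq.respectTransparency.types false in
instance full_compP : (ProEtS.compP j).Full where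
  map_surjective {V W} g := by
    have e : ((g.left : V.left ⟶ W.left) ≫ W.hom) ≫ j = V.hom ≫ j := by
      rw [Category.assoc]; exact MorphismProperty.Over.w g
    exact ⟨MorphismProperty.Over.homMk g.left ((cancel_mono j).1 e), MorphismProperty.Over.Hom.ext rfl⟩

set_option backward.isDefEq.respectTransparency.types false in
instance faithful_compP : (ProEtS.compP j).Faithful where
  map_injective {_ _} _ _ h :=
    MorphismProperty.Over.Hom.ext (congrArg (fun k => k.left) h :)

instance isIso_unit (V : U.ProEt) : IsIso ((adjJ j).unit.app V) := inferInstance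

variable [ProEtS.JPCont j] [ProEtS.PCont j]

/-- restriction is left adjoint to pushforward. -/
noncomputable def adjR : ProEtS.restrP j ⊣ ProEtS.pushP j :=
  (adjJ j).sheafPushforwardContinuous _ _

instance isIso_counit_adjR : IsIso (adjR j).counit := by
  apply (config := { allowSynthFailures := true }) NatIso.isIso_of_isIso_app
  intro F
  have : IsIso ((sheafToPresheaf _ _).map ((adjR j).counit.app F)) := by
    apply (config := { allowSynthFailures := true }) NatIso.isIso_of_isIso_app
    intro V
    dsimp [adjR, Adjunction.sheafPushforwardContinuous]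
    rw [Adjunction.whiskerLeft_counit_app_app]
    have h1 : (adjJ j).op.counit.app V = ((adjJ j).unit.app V.unop).op := rfl
    rw [h1]
    have h2 : IsIso ((adjJ j).unit.app V.unop) := isIso_unit j _
    have h3 : IsIso ((adjJ j).unit.app V.unop).op := inferInstance
    exact Functor.map_isIso F.obj _
  exact isIso_of_reflects_iso _ (sheafToPresheaf _ _)


/-- For an open immersion j : U -> X, the unit F -> j^{-1} j_! F and the counit j^{-1} j_* G -> G are
isomorphisms on abelian pro-etale sheaves (so j_! and j_* are fully faithful; continuity binders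
assumed). -/
theorem result {U X : Scheme.{u}} (j : U ⟶ X) [IsOpenImmersion j]
    [ProEtS.JPCont j] [ProEtS.PCont j] (F G : ProEtS.AbP U) :
    IsIso ((ProEtS.extZeroPAdj j).unit.app F) ∧ IsIso ((ProEtS.pullPushAdjP j).counit.app G) := by
  have hR := (adjR j).fullyFaithfulROfIsIsoCounit
  have := hR.full
  have := hR.faithful
  refine ⟨?_, inferInstance⟩
  let t : Adjunction.Triple (ProEtS.extZeroP j) (ProEtS.restrP j) (ProEtS.pushP j) :=
    ⟨ProEtS.extZeroPAdj j, adjR j⟩
  have h1 : IsIso t.adj₁.unit := t.isIso_unit_iff_isIso_counit.2 (isIso_counit_adjR j)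
  exact NatIso.isIso_app_of_isIso t.adj₁.unit F

end Groth.Agent.S0742
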