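import Groth.Statements.S7433
import Groth.Agent.Lib.Helper37.FibreDegBC

set_option autoImplicit false
universe u
open CategoryTheory AlgebraicGeometry
open BddFib

namespace Groth.Agent.S7433

/-- Let `f : X → Y` be a morphism of schemes and `n ≥ 0`. Then `n` bounds the degrees of the fibres of
`f` if and only if for every field `k` and every morphism `Spec k → Y` the base change `X_k = Spec k
×_Y X` is finite over `k` of degree at most `n`. -/
theorem result {X Y : Scheme.{u}} (f : X ⟶ Y) (n : ℕ) :
    BddFib.FibreDegLE f n ↔ ∀ (k : Type u) [Field k] (g : Spec (CommRingCat.of k) ⟶ Y),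
      BddFib.FiniteOfDegLE (CommRingCat.of k) (Limits.pullback.snd f g) n := by
  constructor
  · intro hf k _ g
    obtain ⟨φ, hφ⟩ : ∃ φ : Y.residueField (g (IsLocalRing.closedPoint k)) ⟶ CommRingCat.of k,
        Spec.map φ ≫ Y.fromSpecResidueField (g (IsLocalRing.closedPoint k)) = g :=
      ⟨_, Scheme.descResidueField_stalkClosedPointTo_fromSpecResidueField k Y g⟩
    generalize g (IsLocalRing.closedPoint k) = y at φ hφ
    subst hφ
    have t : IsPullback (f.fiberι y) (f.fiberToSpecResidueField y) f
        (Y.fromSpecResidueField y) := IsPullback.of_hasPullback f (Y.fromSpecResidueField y)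
    have s := IsPullback.of_hasPullback f (Spec.map φ ≫ Y.fromSpecResidueField y)
    have hpb := IsPullback.of_right' s t
    exact Groth.Agent.Lib.Helper37.finiteOfDegLE_of_isPullback
      (Field.toIsField _) (Field.toIsField k) φ _ _ _ hpb n (hf y)
  · intro h y
    exact h (Y.residueField y) (Y.fromSpecResidueField y)

end Groth.Agent.S7433
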