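import Groth.Statements.S7457
import Groth.Agent.Lib.Helper37.Groupoid

set_option autoImplicit false
universe u
open CategoryTheory CategoryTheory.Limits AlgebraicGeometry
open Grpd
open Groth.Agent.Lib.Helper37

namespace Groth.Agent.S7457

/-- Let (U, R, s, t, c) be a groupoid scheme over S. Let φ : R x_(t,U,t) R -> R x_(s,U,t) R be the
morphism sending a pair (a, b) with the same target to (a, a^{-1} composed with b), that is, the
morphism whose first component is the first projection and whose second component is c applied to (i
composed after the first projection, second projection). Then φ is an isomorphism and composed with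
c it gives the second projection. Moreover the square with sides c, the second projection R
x_(s,U,t) R -> R, s and s is cartesian. (A groupoid scheme carries U, R, s, t, c, e, i over S with
the groupoid axioms on T-points; c is defined on the fibre product of s and t and sends a pair (a,
b) with s(a) = t(b) to a composed with b.) -/
theorem result (S : Scheme.{u}) (G : Grpd.GroupoidScheme S) : (∀ φ : pullback G.t G.t ⟶ pullback G.s G.t, φ ≫ pullback.fst G.s G.t = pullback.fst G.t G.t → φ ≫ pullback.snd G.s G.t = pullback.lift (pullback.fst G.t G.t ≫ G.i) (pullback.snd G.t G.t) ((Category.assoc _ _ _).trans ((congrArg (fun x => pullback.fst G.t G.t ≫ x) G.i_s).trans pullback.condition)) ≫ G.c → IsIso φ ∧ φ ≫ G.c = pullback.snd G.t G.t) ∧ IsPullback G.c (pullback.snd G.s G.t) G.s G.s := by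
  constructor
  · intro φ h1 h2
    rw [lift_c] at h2
    have hc : φ ≫ G.c = pullback.snd G.t G.t := by
      rw [comp_c]
      have h₁ : (pullback.fst G.t G.t ≫ G.i) ≫ G.s = pullback.snd G.t G.t ≫ G.t := by
        rw [Category.assoc, G.i_s, pullback.condition]
      rw [gcomp_congr G h1 h2 _ (by rw [gcomp_t, Category.assoc, G.i_t])]
      exact gcomp_i_gcomp G _ _ pullback.condition h₁ _
    refine ⟨?_, hc⟩
    have hct : pullback.fst G.s G.t ≫ G.t = G.c ≫ G.t := by
      rw [c_eq_gcomp G, gcomp_t]
    refine ⟨pullback.lift (pullback.fst G.s G.t) G.c hct, ?_, ?_⟩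
    · apply pullback.hom_ext
      · rw [Category.assoc, pullback.lift_fst, h1, Category.id_comp]
      · rw [Category.assoc, pullback.lift_snd, hc, Category.id_comp]
    · apply pullback.hom_ext
      · rw [Category.assoc, h1, pullback.lift_fst, Category.id_comp]
      · rw [Category.assoc, h2, precomp_gcomp, Category.id_comp]
        have e1 : pullback.lift (pullback.fst G.s G.t) G.c hct ≫ pullback.fst G.t G.t ≫ G.i =
            pullback.fst G.s G.t ≫ G.i := by
          rw [← Category.assoc, pullback.lift_fst]
        have e2 : pullback.lift (pullback.fst G.s G.t) G.c hct ≫ pullback.snd G.t G.t =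
            gcomp G (pullback.fst G.s G.t) (pullback.snd G.s G.t) pullback.condition := by
          rw [pullback.lift_snd, ← c_eq_gcomp G]
        rw [gcomp_congr G e1 e2 _ (by rw [gcomp_t, Category.assoc, G.i_s])]
        exact i_gcomp_gcomp G _ _ pullback.condition _
  · have hcs : G.c ≫ G.s = pullback.snd G.s G.t ≫ G.s := by
      rw [c_eq_gcomp G, gcomp_s]
    refine ⟨⟨hcs⟩, ⟨PullbackCone.IsLimit.mk _ (fun s => ?_) (fun s => ?_) (fun s => ?_)
      (fun s m hm1 hm2 => ?_)⟩⟩
    · have h₁ : s.fst ≫ G.s = (s.snd ≫ G.i) ≫ G.t := by
        rw [Category.assoc, G.i_t, s.condition]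
      exact pullback.lift (gcomp G s.fst (s.snd ≫ G.i) h₁) s.snd
        (by rw [gcomp_s, Category.assoc, G.i_s])
    · rw [comp_c]
      have h₁ : s.fst ≫ G.s = (s.snd ≫ G.i) ≫ G.t := by
        rw [Category.assoc, G.i_t, s.condition]
      rw [gcomp_congr G (pullback.lift_fst _ _ _) (pullback.lift_snd _ _ _) _
        (by rw [gcomp_s, Category.assoc, G.i_s])]
      exact gcomp_i_gcomp' G _ _ s.condition h₁ _
    · exact pullback.lift_snd _ _ _
    · apply pullback.hom_ext
      · rw [pullback.lift_fst]
        have hms : (m ≫ pullback.fst G.s G.t) ≫ G.s = s.snd ≫ G.t := by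
          rw [← hm2, Category.assoc, Category.assoc, pullback.condition]
        have e1 : s.fst = gcomp G (m ≫ pullback.fst G.s G.t) s.snd hms := by
          rw [← hm1, comp_c]
          exact gcomp_congr G rfl hm2 _ _
        rw [gcomp_congr G e1 rfl _ (by rw [gcomp_s, Category.assoc, G.i_t])]
        exact (gcomp_gcomp_i G _ _ hms _).symm
      · rw [pullback.lift_snd]
        exact hm2

end Groth.Agent.S7457
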