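import Groth.Statements.S7467
import Groth.Agent.Lib.Helper37.ValuationSpecializes
import Mathlib.AlgebraicGeometry.Morphisms.UniversallyOpen
import Mathlib.AlgebraicGeometry.PullbackCarrier

set_option autoImplicit false
universe w u
open HTop

namespace Groth.Agent.S7467

open CategoryTheory CategoryTheory.Limits AlgebraicGeometry in
/-- A standard fpqc covering, that is a finite family of flat morphisms T_j -> T of affine schemes whose
images jointly cover the affine scheme T, is a standard V covering (every morphism from the spectrum
of a valuation ring to T lifts to some T_j after an extension of valuation rings). -/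
theorem result {T : Scheme.{u}} [IsAffine T] (E : PreZeroHypercover.{w} T) (hfin : Finite E.I₀) (haff : ∀ j, IsAffine (E.X j)) (hflat : ∀ j, Flat (E.f j)) (hsurj : ∀ t : T, ∃ (j : E.I₀) (x : E.X j), E.f j x = t) : HTop.IsStandardV E := by
  refine ⟨inferInstance, hfin, haff, ?_⟩
  intro V _ _ g
  -- a point of some member over the image of the closed point
  obtain ⟨j, x, hx⟩ := hsurj (g (IsLocalRing.closedPoint V))
  obtain ⟨y, hy₁, hy₂⟩ := Scheme.Pullback.exists_preimage_pullback (f := g) (g := E.f j)
    (IsLocalRing.closedPoint V) x hx.symm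
  -- lift the generic point by going down
  have hflat : Flat (pullback.fst g (E.f j)) :=
    MorphismProperty.pullback_fst (P := @Flat) _ _ (hflat j)
  have hgen : (⟨⊥, Ideal.isPrime_bot⟩ : PrimeSpectrum V) ⤳ pullback.fst g (E.f j) y := by
    rw [hy₁]
    exact IsLocalRing.specializes_closedPoint _
  obtain ⟨y', hy'y, hy'⟩ := (Flat.generalizingMap (pullback.fst g (E.f j))) hgen
  -- realise the specialization by a valuation ring
  obtain ⟨A, v, hv₁, hv₂⟩ := Groth.Agent.Lib.Helper37.exists_valuationSubring_of_specializes hy'y
  obtain ⟨φ, hφ⟩ := Spec.map_surjective (v ≫ pullback.fst g (E.f j))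
  -- `φ` is local
  have hloc : IsLocalHom φ.hom := by
    rw [IsLocalRing.isLocalHom_iff_comap_closedPoint]
    have h1 : Spec.map φ (IsLocalRing.closedPoint A) = IsLocalRing.closedPoint V := by
      rw [hφ, Scheme.Hom.comp_apply, hv₁, hy₁]
    exact h1
  -- `φ` is injective
  have hinj : Function.Injective φ.hom := by
    rw [RingHom.injective_iff_ker_eq_bot]
    -- the generic point of `Spec A` goes to `y'`
    have hpt : v (Spec.map (CommRingCat.ofHom (algebraMap A
        ((pullback g (E.f j)).residueField y')))
        (IsLocalRing.closedPoint ((pullback g (E.f j)).residueField y'))) = y' := by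
      rw [← Scheme.Hom.comp_apply, hv₂, Scheme.fromSpecResidueField_apply]
    have hbot : Spec.map (CommRingCat.ofHom (algebraMap A
        ((pullback g (E.f j)).residueField y')))
        (IsLocalRing.closedPoint ((pullback g (E.f j)).residueField y')) =
        (⟨⊥, Ideal.isPrime_bot⟩ : PrimeSpectrum A) :=
      PrimeSpectrum.ext (Groth.Agent.Lib.Helper37.specMap_algebraMap_valuationSubring_apply A _)
    rw [hbot] at hpt
    have h2 : Spec.map φ (⟨⊥, Ideal.isPrime_bot⟩ : PrimeSpectrum A) =
        (⟨⊥, Ideal.isPrime_bot⟩ : PrimeSpectrum V) := by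
      rw [hφ, Scheme.Hom.comp_apply, hpt, hy']
    exact congrArg PrimeSpectrum.asIdeal h2
  refine ⟨CommRingCat.of A, inferInstance, inferInstance, φ, ⟨hinj, hloc⟩, j,
    v ≫ pullback.snd g (E.f j), ?_⟩
  rw [Category.assoc, ← pullback.condition, ← Category.assoc, hφ]

end Groth.Agent.S7467
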