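import Groth.Statements.S14611
import Groth.Agent.Lib.Helper74.LocalCriterion

set_option autoImplicit false
universe u
open FlatCx

namespace Groth.Agent.S14611

section aux
open CategoryTheory CategoryTheory.Limits

variable {A : Type u} [CommRing A]

theorem exactAt_iff_function_exact (K : CochainComplex (ModuleCat.{u} A) ℤ) (i j k : ℤ)
    (hij : i + 1 = j) (hjk : j + 1 = k) :
    K.ExactAt j ↔ Function.Exact (K.d i j).hom (K.d j k).hom := by
  rw [K.exactAt_iff' i j k (by simp; omega) (by simp; omega),
    ShortComplex.ShortExact.moduleCat_exact_iff_function_exact]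
  rfl

/-- If `δ₂ ∘ δ₁ = 0` and the tensored sequence is exact in the middle, then the tensored inclusion
of the image of `δ₂` is injective. -/
theorem rTensor_range_subtype_injective {X₁ X₂ X₃ : Type u} [AddCommGroup X₁] [Module A X₁]
    [AddCommGroup X₂] [Module A X₂] [AddCommGroup X₃] [Module A X₃]
    (δ₁ : X₁ →ₗ[A] X₂) (δ₂ : X₂ →ₗ[A] X₃) (K : Type u) [AddCommGroup K] [Module A K]
    (h0 : δ₂ ∘ₗ δ₁ = 0)
    (hK : Function.Exact (δ₁.rTensor K) (δ₂.rTensor K)) :
    Function.Injective ((LinearMap.range δ₂).subtype.rTensor K) := by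
  rw [← LinearMap.ker_eq_bot, LinearMap.ker_eq_bot']
  intro t ht
  have hs : Function.Surjective (δ₂.rangeRestrict.rTensor K) :=
    LinearMap.rTensor_surjective K δ₂.surjective_rangeRestrict
  obtain ⟨s, rfl⟩ := hs t
  have h1 : δ₂.rTensor K s = 0 := by
    have : δ₂ = (LinearMap.range δ₂).subtype ∘ₗ δ₂.rangeRestrict := by
      ext x; rfl
    rw [this, LinearMap.rTensor_comp]
    exact ht
  obtain ⟨r, rfl⟩ := (hK s).mp h1
  have h2 : δ₂.rangeRestrict ∘ₗ δ₁ = 0 := by
    ext x
    exact LinearMap.congr_fun h0 x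
  rw [← LinearMap.comp_apply, ← LinearMap.rTensor_comp, h2, LinearMap.rTensor_zero]
  rfl

end aux

open CategoryTheory CategoryTheory.Limits in
/-- Let A be a Noetherian ring, Q a cochain complex whose terms are finitely generated projective
A-modules, and d an integer such that H^p(Q) = 0 for every p < d and H^p(Q ⊗_A A/m) = 0 for every p
< d and every maximal ideal m of A. Then Q^d / im(Q^{d-1} → Q^d), the degree-d term of the
truncation τ_{≥ d} Q, is a projective A-module, so that τ_{≥ d} Q is again a complex of projective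
modules. (The published statement also asserts that Q → τ_{≥ d} Q is a quasi-isomorphism when H^p(Q)
= 0 for p < d; this row omits that clause.) -/
theorem result (A : Type u) [CommRing A] [IsNoetherianRing A]
    (Q : CochainComplex (ModuleCat.{u} A) ℤ)
    (hQ : ∀ i, Module.Finite A (Q.X i) ∧ Module.Projective A (Q.X i)) (d : ℤ)
    (h1 : ∀ p < d, IsZero (Q.homology p))
    (h2 : ∀ (m : Ideal A) [m.IsMaximal], ∀ p < d,
      IsZero ((CohIII.tensorObj Q (ModuleCat.of A (A ⧸ m))).homology p)) :
    Module.Projective A (Q.opcycles d) := by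
  have hd1 : d - 1 + 1 = d := by ring
  -- the relevant differentials
  let δ₁ : Q.X (d - 1 - 1) →ₗ[A] Q.X (d - 1) := (Q.d (d - 1 - 1) (d - 1)).hom
  let δ₂ : Q.X (d - 1) →ₗ[A] Q.X d := (Q.d (d - 1) d).hom
  have h0 : δ₂ ∘ₗ δ₁ = 0 := by
    ext x
    have := Q.d_comp_d (d - 1 - 1) (d - 1) d
    exact congrArg (fun f => f.hom x) this
  -- the presentation of the opcycles
  have hcok : (ShortComplex.mk (Q.d (d - 1) d) (Q.pOpcycles d) (by simp)).Exact :=
    ShortComplex.exact_of_g_is_cokernel _ (Q.opcyclesIsCokernel (d - 1) d (by simp))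
  have hker : LinearMap.range δ₂ = LinearMap.ker (Q.pOpcycles d).hom :=
    hcok.moduleCat_range_eq_ker
  have hsurj : Function.Surjective (Q.pOpcycles d).hom :=
    (ModuleCat.epi_iff_surjective _).1 inferInstance
  have hex : Function.Exact (LinearMap.range δ₂).subtype (Q.pOpcycles d).hom := by
    rw [LinearMap.exact_iff, Submodule.range_subtype, hker]
  have := (hQ d).1
  have := (hQ d).2
  have : IsNoetherian A (Q.X d) := isNoetherian_of_isNoetherianRing_of_finite A (Q.X d)
  have : Module.Finite A (LinearMap.range δ₂) := Module.Finite.of_fg (IsNoetherian.noetherian _)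
  refine Groth.Agent.Lib.Helper74.projective_of_forall_maximal_lTensor_quotient_injective
    (LinearMap.range δ₂).subtype (Q.pOpcycles d).hom hsurj hex ?_
  intro m hm
  rw [LinearMap.lTensor_inj_iff_rTensor_inj]
  apply rTensor_range_subtype_injective δ₁ δ₂ (A ⧸ m) h0
  have hz := h2 m (d - 1) (by omega)
  rw [← HomologicalComplex.exactAt_iff_isZero_homology,
    exactAt_iff_function_exact _ (d - 1 - 1) (d - 1) d (by ring) (by ring)] at hz
  exact hz

end Groth.Agent.S14611
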