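import Groth.Statements.S14612
import Groth.Agent.Lib.Helper74.FlatKer
import Mathlib.Algebra.Homology.ShortComplex.ModuleCat

set_option autoImplicit false
universe u
open FlatCx

namespace Groth.Agent.S14612

open CategoryTheory CategoryTheory.Limits in
/-- Let A be a commutative ring and F a cochain complex of flat A-modules which is bounded above (F^i =
0 for all large i) and whose cohomology H^p(F) vanishes for every p > d. Then the module of
d-cocycles Z^d = ker(F^d → F^{d+1}) is flat over A; hence the truncation τ_{≤ d} F is again a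
complex of flat modules (and τ_{≤ d} F → F is a quasi-isomorphism, which is not restated).
Boundedness cannot be dropped. -/
theorem result (A : Type u) [CommRing A]
    (F : CochainComplex (ModuleCat.{u} A) ℤ) (hF : ∀ i, Module.Flat A (F.X i))
    (hb : ∃ b : ℤ, ∀ i, b < i → IsZero (F.X i)) (d : ℤ) (hac : ∀ p, d < p → IsZero (F.homology p)) :
    Module.Flat A (F.cycles d) := by
  obtain ⟨b, hb⟩ := hb
  have step : ∀ p : ℤ, d ≤ p → Module.Flat A (F.cycles (p + 1)) → Module.Flat A (F.cycles p) := by
    intro p hp hflat
    have hex : F.ExactAt (p + 1) :=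
      (F.exactAt_iff_isZero_homology (p + 1)).2 (hac (p + 1) (by omega))
    rw [F.exactAt_iff' p (p + 1) (p + 1 + 1) (by simp) (by simp),
      ShortComplex.moduleCat_exact_iff] at hex
    have hker : (ShortComplex.mk (F.iCycles p) (F.d p (p + 1)) (F.iCycles_d p (p + 1))).Exact :=
      ShortComplex.exact_of_f_is_kernel _ (F.cyclesIsKernel p (p + 1) (by simp))
    rw [ShortComplex.moduleCat_exact_iff] at hker
    replace hex : ∀ x₂ : F.X (p + 1), (F.d (p + 1) (p + 1 + 1)).hom x₂ = 0 →
        ∃ x₁ : F.X p, (F.d p (p + 1)).hom x₁ = x₂ := hex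
    replace hker : ∀ x₂ : F.X p, (F.d p (p + 1)).hom x₂ = 0 →
        ∃ x₁ : F.cycles p, (F.iCycles p).hom x₁ = x₂ := hker
    have hinj : ∀ q : ℤ, Function.Injective (F.iCycles q).hom := fun q =>
      (ModuleCat.mono_iff_injective _).1 inferInstance
    have htoi : ∀ x : F.X p, (F.iCycles (p + 1)).hom ((F.toCycles p (p + 1)).hom x) =
        (F.d p (p + 1)).hom x := by
      intro x
      exact congrArg (fun f => f.hom x) (F.toCycles_i p (p + 1))
    have := hF p
    refine Groth.Agent.Lib.Helper74.flat_of_exact_of_flat_of_flat (F.iCycles p).hom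
      (F.toCycles p (p + 1)).hom (hinj p) ?_ ?_
    · intro z
      have hz : (F.d (p + 1) (p + 1 + 1)).hom ((F.iCycles (p + 1)).hom z) = 0 := by
        exact congrArg (fun f => f.hom z) (F.iCycles_d (p + 1) (p + 1 + 1))
      obtain ⟨x, hx⟩ := hex ((F.iCycles (p + 1)).hom z) hz
      refine ⟨x, hinj (p + 1) ?_⟩
      rw [htoi]
      exact hx
    · intro x
      constructor
      · intro hx
        have hdx : (F.d p (p + 1)).hom x = 0 := by
          rw [← htoi, hx, map_zero]
        obtain ⟨y, hy⟩ := hker x hdx
        exact ⟨y, hy⟩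
      · rintro ⟨y, rfl⟩
        apply hinj (p + 1)
        rw [htoi, map_zero]
        exact congrArg (fun f => f.hom y) (F.iCycles_d p (p + 1))
  have base : ∀ p : ℤ, b < p → Module.Flat A (F.cycles p) := by
    intro p hp
    have h0 : Subsingleton (F.X p) := ModuleCat.subsingleton_of_isZero (hb p hp)
    have hinj : Function.Injective (F.iCycles p).hom :=
      (ModuleCat.mono_iff_injective _).1 inferInstance
    have : Subsingleton (F.cycles p) := hinj.subsingleton
    infer_instance
  have main : ∀ n : ℕ, ∀ p : ℤ, d ≤ p → b < p + n → Module.Flat A (F.cycles p) := by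
    intro n
    induction n with
    | zero =>
      intro p _ hbp
      exact base p (by simpa using hbp)
    | succ n ih =>
      intro p hp hbp
      exact step p hp (ih (p + 1) (by omega) (by push_cast at hbp; omega))
  exact main (b + 1 - d).toNat d le_rfl (by omega)

end Groth.Agent.S14612
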