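import Groth.Statements.S16086
import Groth.Agent.Lib.Helper45.Ref1Codim1

set_option autoImplicit false
set_option linter.style.haveILetI false
universe u
open CategoryTheory CategoryTheory.Limits AlgebraicGeometry TopologicalSpace
open SDiv

namespace Groth.Agent.S16086

/-- The class map is well defined and injective: fix a scheme X that is integral, normal and locally
Noetherian, and write η for its generic point; suppose F and G are rank one coherent reflexive
O_X-modules and let s ∈ F_η and t ∈ G_η be nonzero rational sections. At a point x of codimension 1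
the stalks F_x, G_x are free of rank one over the discrete valuation ring O_{X,x}, so s and t have
orders ord_{x,F}(s), ord_{x,G}(t). Then F ≅ G if and only if the Weil divisors of s and t are
linearly equivalent: for some nonzero rational function f one has ord_{x,F}(s) = ord_{x,G}(t) +
ord_x(f) at every point x of codimension 1. -/
theorem result (X : Scheme.{u}) [IsIntegral X] [IsLocallyNoetherian X]
    (hX : Pi1.IsNormalScheme X) (F G : X.Modules) (hF : RefHull.IsRef1 F) (hG : RefHull.IsRef1 G)
    (s : Cyc.secFibre F (genericPoint ↥X)) (hs : s ≠ 0) (t : Cyc.secFibre G (genericPoint ↥X)) (ht : t ≠ 0) :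
    Nonempty (F ≅ G) ↔
      ∃ f : ↑X.functionField, f ≠ 0 ∧
        ∀ (x : ↥X), Order.coheight x = 1 →
          Cyc.secOrdAt F (genericPoint ↥X) x ((genericPoint_spec ↥X).specializes (Set.mem_univ x)) s =
            Cyc.secOrdAt G (genericPoint ↥X) x ((genericPoint_spec ↥X).specializes (Set.mem_univ x)) t +
              Scheme.ord f x := by
  classical
  letI : Field (X.presheaf.stalk (genericPoint X)) := inferInstanceAs (Field X.functionField)
  obtain ⟨σF, rfl⟩ := Groth.Agent.Lib.Helper45.OrdGeneric.secFibre_mk_surjective F s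
  obtain ⟨σG, rfl⟩ := Groth.Agent.Lib.Helper45.OrdGeneric.secFibre_mk_surjective G t
  have hσF : σF ≠ 0 := by
    rintro rfl
    exact hs rfl
  have hσG : σG ≠ 0 := by
    rintro rfl
    exact ht rfl
  haveI : F.IsQuasicoherent := hF.1.1
  haveI : G.IsQuasicoherent := hG.1.1
  have htfF := Groth.Agent.Lib.Helper45.Ref1Codim1.isTorsionFree_of_isReflexive F hF.1 hF.2.1
  have htfG := Groth.Agent.Lib.Helper45.Ref1Codim1.isTorsionFree_of_isReflexive G hG.1 hG.2.1
  have hgenF := Groth.Agent.Lib.Helper45.Ref1Codim1.exists_smul_eq_of_ne_zero F hF.2.2 σF hσF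
  have hgenG := Groth.Agent.Lib.Helper45.Ref1Codim1.exists_smul_eq_of_ne_zero G hG.2.2 σG hσG
  constructor
  · rintro ⟨e⟩
    have hbij := fun x => Groth.Agent.Lib.Helper45.Ref1Codim1.stalkMapₗ_bijective_of_iso e x
    obtain ⟨f, hf⟩ := hgenG (RefHull.stalkMapₗ e.hom (genericPoint X) σF)
    have hf0 : f ≠ 0 := by
      rintro rfl
      rw [zero_smul] at hf
      exact hσF ((hbij _).1 (hf.trans (map_zero _).symm))
    refine ⟨f, hf0, fun x hx => ?_⟩
    obtain ⟨tF, htF, hannF, hneF⟩ :=
      Groth.Agent.Lib.Helper45.Ref1Codim1.exists_generator_stalk_of_isRef1 hX F hF x hx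
    obtain ⟨φF, hφF⟩ :=
      Groth.Agent.Lib.Helper45.Ref1Codim1.exists_smul_stalkSpecializes_eq F x tF htF σF
    have hφF0 : φF ≠ 0 := by
      rintro rfl
      rw [zero_smul] at hφF
      exact hσF hφF
    -- the image generator of `G_x`
    have htG : Submodule.span (X.presheaf.stalk x) {RefHull.stalkMapₗ e.hom x tF} = ⊤ := by
      rw [eq_top_iff]
      intro m _
      obtain ⟨m', rfl⟩ := (hbij x).2 m
      obtain ⟨a, ha⟩ : ∃ a : X.presheaf.stalk x, a • tF = m' :=
        Submodule.mem_span_singleton.mp (by rw [htF]; exact Submodule.mem_top)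
      exact Submodule.mem_span_singleton.mpr ⟨a, by rw [← ha, map_smul]⟩
    have hannG : ∀ a : X.presheaf.stalk x, a • RefHull.stalkMapₗ e.hom x tF = 0 → a = 0 := by
      intro a ha
      rw [← map_smul] at ha
      exact hannF a ((hbij x).1 (ha.trans (map_zero _).symm))
    have hspecG : G.presheaf.stalkSpecializes (genericPoint_specializes x)
        (RefHull.stalkMapₗ e.hom x tF) = RefHull.stalkMapₗ e.hom (genericPoint X)
          (F.presheaf.stalkSpecializes (genericPoint_specializes x) tF) :=
      (Groth.Agent.Lib.Helper45.HomExtend.stalkMapₗ_stalkSpecializes e.hom _ tF).symm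
    have hneG : G.presheaf.stalkSpecializes (genericPoint_specializes x)
        (RefHull.stalkMapₗ e.hom x tF) ≠ 0 := by
      rw [hspecG]
      intro h0
      exact hneF ((hbij _).1 (h0.trans (map_zero _).symm))
    have hσG' : σG = (f⁻¹ * φF) • G.presheaf.stalkSpecializes (genericPoint_specializes x)
        (RefHull.stalkMapₗ e.hom x tF) := by
      rw [hspecG, mul_smul, ← map_smul, ← hφF, hf, smul_smul, inv_mul_cancel₀ hf0, one_smul]
    have h1 := Groth.Agent.Lib.Helper45.OrdGeneric.secOrdAt_eq_ord x
      (genericPoint_specializes x) hx F tF htF hannF hneF φF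
    have h2 := Groth.Agent.Lib.Helper45.OrdGeneric.secOrdAt_eq_ord x
      (genericPoint_specializes x) hx G _ htG hannG hneG (f⁻¹ * φF)
    rw [← hφF] at h1
    rw [← hσG'] at h2
    refine h1.trans ?_
    refine Eq.trans ?_ (congrArg (· + Scheme.ord f x) h2.symm)
    have h3 : Scheme.ord (X := X) (f⁻¹ * φF * f) x =
        Scheme.ord (X := X) (f⁻¹ * φF) x + Scheme.ord (X := X) f x :=
      Scheme.ord_mul (mul_ne_zero (inv_ne_zero hf0) hφF0) hf0
    have h4 : f⁻¹ * φF * f = φF := by
      field_simp
    rw [h4] at h3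
    exact h3
  · rintro ⟨f, hf0, hord⟩
    obtain ⟨ψ, hψ⟩ := Groth.Agent.Lib.Helper45.Ref1Codim1.exists_hom_of_secOrdAt_eq hX F G hF hG
      σF σG hσF hσG f hf0 hord
    obtain ⟨ψ', hψ'⟩ := Groth.Agent.Lib.Helper45.Ref1Codim1.exists_hom_of_secOrdAt_eq hX G F hG hF
      σG σF hσG hσF f⁻¹ (inv_ne_zero hf0) (fun x hx => by
        have h1 := hord x hx
        have h3 : Scheme.ord (X := X) (f * f⁻¹) x =
            Scheme.ord (X := X) f x + Scheme.ord (X := X) f⁻¹ x :=
          Scheme.ord_mul hf0 (inv_ne_zero hf0)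
        have h4 : Scheme.ord (X := X) (f * f⁻¹) x = 0 := by
          rw [mul_inv_cancel₀ hf0]
          have h5 : Scheme.ord (X := X) (1 * 1) x =
              Scheme.ord (X := X) 1 x + Scheme.ord (X := X) 1 x :=
            Scheme.ord_mul one_ne_zero one_ne_zero
          rw [one_mul] at h5
          omega
        omega)
    refine ⟨⟨ψ, ψ', ?_, ?_⟩⟩
    · apply Groth.Agent.Lib.Helper45.Ref1Codim1.hom_ext_of_stalkMapₗ_genericPoint htfF
      rw [Groth.Agent.Lib.Helper45.Ref1Codim1.stalkMapₗ_comp,
        Groth.Agent.Lib.Helper45.Ref1Codim1.stalkMapₗ_id]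
      ext a
      obtain ⟨c, rfl⟩ := hgenF a
      rw [LinearMap.comp_apply, map_smul, hψ, map_smul, map_smul, hψ', smul_smul, smul_smul, mul_assoc,
        mul_inv_cancel₀ hf0, mul_one]
      rfl
    · apply Groth.Agent.Lib.Helper45.Ref1Codim1.hom_ext_of_stalkMapₗ_genericPoint htfG
      rw [Groth.Agent.Lib.Helper45.Ref1Codim1.stalkMapₗ_comp,
        Groth.Agent.Lib.Helper45.Ref1Codim1.stalkMapₗ_id]
      ext a
      obtain ⟨c, rfl⟩ := hgenG a
      rw [LinearMap.comp_apply, map_smul, hψ', map_smul, map_smul, hψ, smul_smul, smul_smul, mul_assoc,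
        inv_mul_cancel₀ hf0, mul_one]
      rfl

end Groth.Agent.S16086
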