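import Groth.Statements.S14613
import Groth.Agent.S14612
import Groth.Agent.Lib.Helper74.FlatKer
import Mathlib.Algebra.Homology.HomotopyCategory.Acyclic
import Mathlib.Algebra.Homology.HomotopyCategory.Pretriangulated
import Mathlib.Algebra.Homology.ShortComplex.ModuleCat
import Mathlib.Algebra.Category.ModuleCat.Monoidal.Basic

set_option autoImplicit false
universe u
open FlatCx

namespace Groth.Agent.S14613

section aux
open CategoryTheory CategoryTheory.Limits

universe v' u'

theorem quasiIso_iff_acyclic_mappingCone {C : Type u'} [Category.{v'} C] [Abelian C]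
    {K L : CochainComplex C ℤ} (φ : K ⟶ L) :
    QuasiIso φ ↔ (CochainComplex.mappingCone φ).Acyclic := by
  rw [← HomologicalComplex.mem_quasiIso_iff, ← HomotopyCategory.quotient_map_mem_quasiIso_iff,
    HomotopyCategory.quasiIso_eq_trW_subcategoryAcyclic,
    ← HomotopyCategory.quotient_obj_mem_subcategoryAcyclic_iff_acyclic]
  exact (HomotopyCategory.subcategoryAcyclic C).trW_iff_of_distinguished _
    (HomotopyCategory.mappingCone_triangleh_distinguished φ)

variable {A : Type u} [CommRing A]

theorem exactAt_iff_function_exact (K : CochainComplex (ModuleCat.{u} A) ℤ) (p : ℤ) :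
    K.ExactAt p ↔ Function.Exact (K.d (p - 1) p).hom (K.d p (p + 1)).hom := by
  rw [K.exactAt_iff' (p - 1) p (p + 1) (by simp) (by simp),
    ShortComplex.ShortExact.moduleCat_exact_iff_function_exact]
  rfl

/-- In an acyclic bounded-above complex of flat modules, images of differentials are flat. -/
theorem flat_range_d (K : CochainComplex (ModuleCat.{u} A) ℤ)
    (hK : ∀ i, Module.Flat A (K.X i)) (hb : ∃ b : ℤ, ∀ i, b < i → IsZero (K.X i))
    (hac : K.Acyclic) (p : ℤ) : Module.Flat A (LinearMap.range (K.d p (p + 1)).hom) := by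
  have hcyc : Module.Flat A (K.cycles (p + 1)) :=
    Groth.Agent.S14612.result A K hK hb (p + 1) (fun q _ => (hac q).isZero_homology)
  have hinj : Function.Injective (K.iCycles (p + 1)).hom :=
    (ModuleCat.mono_iff_injective _).1 inferInstance
  have hker : (ShortComplex.mk (K.iCycles (p + 1)) (K.d (p + 1) (p + 1 + 1))
      (K.iCycles_d (p + 1) (p + 1 + 1))).Exact :=
    ShortComplex.exact_of_f_is_kernel _ (K.cyclesIsKernel (p + 1) (p + 1 + 1) (by simp))
  have h1 : LinearMap.range (K.iCycles (p + 1)).hom = LinearMap.ker (K.d (p + 1) (p + 1 + 1)).hom :=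
    hker.moduleCat_range_eq_ker
  have hex := (exactAt_iff_function_exact K (p + 1)).1 (hac (p + 1))
  have hpp : p + 1 - 1 = p := by ring
  rw [hpp] at hex
  have h2 : LinearMap.range (K.d p (p + 1)).hom = LinearMap.ker (K.d (p + 1) (p + 1 + 1)).hom :=
    (LinearMap.exact_iff.mp hex).symm
  exact Module.Flat.of_linearEquiv
    ((LinearEquiv.ofEq _ _ (h2.trans h1.symm)).trans
      (LinearEquiv.ofInjective (K.iCycles (p + 1)).hom hinj).symm)

end aux

open CategoryTheory CategoryTheory.Limits in
/-- Let A be a commutative ring (not necessarily Noetherian), C and D cochain complexes of flat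
A-modules that are bounded above (zero in all large degrees), φ : C → D a quasi-isomorphism and M an
arbitrary A-module. Then φ ⊗ id_M : C ⊗_A M → D ⊗_A M, the tensor product taken degreewise, is a
quasi-isomorphism. Boundedness cannot be dropped. -/
theorem result (A : Type u) [CommRing A]
    (C D : CochainComplex (ModuleCat.{u} A) ℤ)
    (hC : ∀ i, Module.Flat A (C.X i)) (hD : ∀ i, Module.Flat A (D.X i))
    (bC : ∃ b : ℤ, ∀ i, b < i → IsZero (C.X i)) (bD : ∃ b : ℤ, ∀ i, b < i → IsZero (D.X i))
    (φ : C ⟶ D) [QuasiIso φ] (M : ModuleCat.{u} A) :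
    QuasiIso (((MonoidalCategory.tensorRight M).mapHomologicalComplex (ComplexShape.up ℤ)).map φ) := by
  rw [quasiIso_iff_acyclic_mappingCone]
  have hcone : (CochainComplex.mappingCone φ).Acyclic :=
    (quasiIso_iff_acyclic_mappingCone φ).1 inferInstance
  set K := CochainComplex.mappingCone φ with hKdef
  -- terms of the cone are flat
  have hKflat : ∀ i, Module.Flat A (K.X i) := by
    intro i
    have := hC (i + 1)
    have := hD i
    refine Groth.Agent.Lib.Helper74.flat_of_two_retracts
      ((CochainComplex.mappingCone.fst φ).1.v i (i + 1) rfl).hom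
      ((CochainComplex.mappingCone.inl φ).v (i + 1) i (by omega)).hom
      ((CochainComplex.mappingCone.snd φ).v i i (add_zero i)).hom
      ((CochainComplex.mappingCone.inr φ).f i).hom ?_
    have := CochainComplex.mappingCone.id_X φ i (i + 1) rfl
    exact congrArg ModuleCat.Hom.hom this
  -- the cone is bounded above
  have hKb : ∃ b : ℤ, ∀ i, b < i → IsZero (K.X i) := by
    obtain ⟨b₁, hb₁⟩ := bC
    obtain ⟨b₂, hb₂⟩ := bD
    refine ⟨max b₁ b₂, fun i hi => ?_⟩
    rw [IsZero.iff_id_eq_zero, ← CochainComplex.mappingCone.id_X φ i (i + 1) rfl]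
    have h1 : IsZero (C.X (i + 1)) := hb₁ _ (by omega)
    have h2 : IsZero (D.X i) := hb₂ _ (by omega)
    rw [h1.eq_of_tgt ((CochainComplex.mappingCone.fst φ).1.v i (i + 1) rfl) 0,
      h2.eq_of_tgt ((CochainComplex.mappingCone.snd φ).v i i (add_zero i)) 0]
    simp
  intro p
  refine HomologicalComplex.ExactAt.of_iso ?_
    (CochainComplex.mappingCone.mapHomologicalComplexIso φ (MonoidalCategory.tensorRight M))
  rw [exactAt_iff_function_exact]
  have h₁₂ := (exactAt_iff_function_exact K p).1 (hcone p)
  have h₂₃ := (exactAt_iff_function_exact K (p + 1)).1 (hcone (p + 1))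
  have hpp : p + 1 - 1 = p := by ring
  rw [hpp] at h₂₃
  have := flat_range_d K hKflat hKb hcone (p + 1)
  exact Groth.Agent.Lib.Helper74.rTensor_exact_of_flat_range M _ _ _ h₁₂ h₂₃

end Groth.Agent.S14613
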