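import Groth.Statements.S0047
import Groth.Agent.S0453
import Groth.Agent.Lib.Helper1.SupportClosed

set_option autoImplicit false
universe u
open Coherent

namespace Groth.Agent.S0047

open AlgebraicGeometry CategoryTheory TopologicalSpace Opposite

/-- A closed subset of a Noetherian quasi-sober space all of whose points are closed is finite. -/
theorem finite_of_forall_isClosed_singleton {T : Type*} [TopologicalSpace T] [NoetherianSpace T]
    [QuasiSober T] {C : Set T} (hC : IsClosed C) (h : ∀ x ∈ C, IsClosed ({x} : Set T)) :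
    C.Finite := by
  obtain ⟨S, hSf, hScl, hSirr, rfl⟩ := NoetherianSpace.exists_finite_set_isClosed_irreducible hC
  refine Set.Finite.sUnion hSf fun t ht => ?_
  obtain ⟨η, hη⟩ := QuasiSober.sober (hSirr t ht) (hScl t ht)
  have hηt : η ∈ t := hη.mem
  have hcl : IsClosed ({η} : Set T) := h η ⟨t, ht, hηt⟩
  have : t = {η} := by
    rw [← hη.def, hcl.closure_eq]
  rw [this]
  exact Set.finite_singleton η

/-- On a locally Noetherian scheme, every subset of a closed set of closed points is closed. -/
theorem isClosed_of_subset_of_forall_isClosed_singleton (X : Scheme.{u}) [IsLocallyNoetherian X]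
    {Z : Set X} (hZ : IsClosed Z) (h : ∀ x ∈ Z, IsClosed ({x} : Set X)) {S : Set X} (hS : S ⊆ Z) :
    IsClosed S := by
  have hcov : IsOpenCover (fun i : X.affineOpens => (i : X.Opens)) := iSup_affineOpens_eq_top X
  rw [hcov.isClosed_iff_coe_preimage]
  intro U
  have : IsNoetherianRing Γ(X, U.1) := IsLocallyNoetherian.component_noetherian U
  have : NoetherianSpace U.1 := noetherianSpace_of_isAffineOpen U.1 U.2
  have : QuasiSober U.1 := inferInstanceAs (QuasiSober ((U.1 : Scheme.{u}) : Type u))
  have hsing : ∀ x : U.1, x.1 ∈ Z → IsClosed ({x} : Set U.1) := by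
    intro x hx
    have h1 : IsClosed (Subtype.val ⁻¹' ({x.1} : Set X) : Set U.1) :=
      (h x.1 hx).preimage continuous_subtype_val
    convert h1 using 1
    ext y
    exact Subtype.ext_iff
  have hcl : IsClosed (Subtype.val ⁻¹' Z : Set U.1) := hZ.preimage continuous_subtype_val
  have hfin : (Subtype.val ⁻¹' Z : Set U.1).Finite :=
    @finite_of_forall_isClosed_singleton U.1 _ ‹_› ‹_› _ hcl (fun x hx => hsing x hx)
  have hfin' : (Subtype.val ⁻¹' S : Set U.1).Finite := hfin.subset (Set.preimage_mono hS)
  have h2 := hfin'.isClosed_biUnion (f := fun x => ({x} : Set U.1)) (fun x hx => hsing x (hS hx))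
  rwa [Set.biUnion_of_singleton] at h2

/-- If every subset of the support of `M` is closed, then sections of `M` over any open extend to
global sections. -/
theorem exists_extension_of_discrete_support {X : Scheme.{u}} (M : X.Modules)
    (hdisc : ∀ S : Set X, S ⊆ CohB1.support M → IsClosed S) (V : X.Opens) (s : Γ(M, V)) :
    ∃ t : Γ(M, ⊤), M.presheaf.map (homOfLE (le_top : V ≤ ⊤)).op t = s := by
  let F : TopCat.Sheaf Ab X := ⟨M.presheaf, M.isSheaf⟩
  let W : X.Opens := ⟨(CohB1.support M ∩ (V : Set X))ᶜ,
    (hdisc _ Set.inter_subset_left).isOpen_compl⟩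
  let Uc : Bool → X.Opens := fun b => if b then V else W
  let sf : ∀ b : Bool, Γ(M, Uc b) := fun b =>
    match b with
    | true => s
    | false => 0
  have hzero : M.presheaf.map (homOfLE (inf_le_left : V ⊓ W ≤ V)).op s = 0 := by
    apply TopCat.Presheaf.section_ext F
    intro x hx
    have hxsupp : x ∉ CohB1.support M := fun hxs => hx.2 ⟨hxs, hx.1⟩
    have hsub : Subsingleton (M.presheaf.stalk x) := by
      by_contra hns
      exact hxsupp hns
    exact Subsingleton.elim _ _
  have hcover : (⊤ : X.Opens) ≤ iSup Uc := by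
    intro x _
    by_cases hx : x ∈ V
    · exact Opens.mem_iSup.mpr ⟨true, hx⟩
    · exact Opens.mem_iSup.mpr ⟨false, fun hx' => hx hx'.2⟩
  have hcompat : TopCat.Presheaf.IsCompatible F.1 Uc sf := by
    intro b b'
    cases b <;> cases b'
    · rfl
    · change M.presheaf.map (homOfLE (inf_le_left : W ⊓ V ≤ W)).op 0 =
        M.presheaf.map (homOfLE (inf_le_right : W ⊓ V ≤ V)).op s
      rw [map_zero]
      have h1 : M.presheaf.map (homOfLE (inf_le_right : W ⊓ V ≤ V)).op s =
          M.presheaf.map (homOfLE (by rw [inf_comm] : W ⊓ V ≤ V ⊓ W)).op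
            (M.presheaf.map (homOfLE (inf_le_left : V ⊓ W ≤ V)).op s) := by
        rw [← ConcreteCategory.comp_apply, ← Functor.map_comp]
        rfl
      rw [h1, hzero, map_zero]
    · change M.presheaf.map (homOfLE (inf_le_left : V ⊓ W ≤ V)).op s =
        M.presheaf.map (homOfLE (inf_le_right : V ⊓ W ≤ W)).op 0
      rw [map_zero, hzero]
    · rfl
  obtain ⟨t, ht, -⟩ := TopCat.Sheaf.existsUnique_gluing' F Uc ⊤ (fun b => homOfLE le_top) hcover sf
    hcompat
  exact ⟨t, ht true⟩


open AlgebraicGeometry in
/-- On a locally Noetherian scheme, a coherent module whose support consists of closed points (i.e. has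
dimension ≤ 0) satisfies H^i(X, F) = 0 for all i > 0. (Global generation is not stated.) -/
theorem result (X : Scheme.{u}) [IsLocallyNoetherian X]
    (M : X.Modules) (hM : Coh.IsCoh M) (h0 : ∀ x ∈ CohB1.support M, IsClosed ({x} : Set X))
    (i : ℕ) (hi : 0 < i) : Subsingleton (Coh.HH X M i) := by
  obtain ⟨n, rfl⟩ : ∃ n, i = n + 1 := ⟨i - 1, by omega⟩
  have hZ : IsClosed (CohB1.support M) :=
    Groth.Agent.Lib.Helper1.isClosed_support_of_isFiniteType M hM.2
  have hdisc : ∀ S : Set X, S ⊆ CohB1.support M → IsClosed S := fun S hS =>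
    isClosed_of_subset_of_forall_isClosed_singleton X hZ h0 hS
  have hfl : TopCat.Sheaf.IsFlasque (X := X.toTopCat) (Coh.toAb M) := by
    constructor
    intro U V i
    rw [AddCommGrpCat.epi_iff_surjective]
    intro s
    obtain ⟨t, ht⟩ := exists_extension_of_discrete_support M hdisc V.unop s
    refine ⟨M.presheaf.map (homOfLE (le_top : U.unop ≤ ⊤)).op t, ?_⟩
    rw [← ht]
    change (M.presheaf.map (homOfLE (le_top : U.unop ≤ ⊤)).op ≫ M.presheaf.map i) t = _
    rw [← Functor.map_comp]
    rfl
  exact Groth.Agent.S0453.result (X := X.toTopCat) (Coh.toAb M) n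

end Groth.Agent.S0047
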