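import Groth.Statements.S1526
import Groth.Agent.S0047
import Groth.Agent.S0020

set_option autoImplicit false
universe u
open CategoryTheory CategoryTheory.Limits AlgebraicGeometry
open Variety

namespace Groth.Agent.S1526

/-- On a proper scheme over a field, a coherent module whose support has dimension at most zero has
vanishing cohomology in all positive degrees. -/
theorem result (k : Type u) [Field k] (X : Scheme.{u}) [X.Over (Spec (CommRingCat.of k))] [IsProper (X ↘ (Spec (CommRingCat.of k)))]
    (F : X.Modules) (hF : Coh.IsCoh F) (hsupp : topologicalKrullDim (CohB1.support F) ≤ 0)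
    (i : ℕ) (hi : 1 ≤ i) : Subsingleton (Coh.HH X F i) := by
  have hN : IsLocallyNoetherian X :=
    LocallyOfFiniteType.isLocallyNoetherian (X ↘ (Spec (CommRingCat.of k)))
  have hcl : IsClosed (CohB1.support F) := Groth.Agent.S0020.result X F hF.2
  refine Groth.Agent.S0047.result X F hF (fun x hx => ?_) i hi
  -- points of a closed subspace of dimension ≤ 0 of a T0 space are closed
  have hmin := Order.krullDim_nonpos_iff_forall_isMin.mp hsupp
  let z : CohB1.support F := ⟨x, hx⟩
  have hz : closure ({z} : Set (CohB1.support F)) = {z} := by
    apply subset_antisymm _ subset_closure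
    intro y hy
    let Cz : TopologicalSpace.IrreducibleCloseds (CohB1.support F) :=
      ⟨closure {z}, isIrreducible_singleton.closure, isClosed_closure⟩
    let Cy : TopologicalSpace.IrreducibleCloseds (CohB1.support F) :=
      ⟨closure {y}, isIrreducible_singleton.closure, isClosed_closure⟩
    have hle : Cy ≤ Cz := by
      change closure {y} ⊆ closure {z}
      exact closure_minimal (Set.singleton_subset_iff.mpr hy) isClosed_closure
    have hge : Cz ≤ Cy := hmin Cz hle
    have hzy : z ∈ closure ({y} : Set (CohB1.support F)) := hge (subset_closure rfl)
    have h1 : z ⤳ y := specializes_iff_mem_closure.mpr hy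
    have h2 : y ⤳ z := specializes_iff_mem_closure.mpr hzy
    exact (h2.antisymm h1).eq
  have hzc : IsClosed ({z} : Set (CohB1.support F)) := by
    rw [← hz]; exact isClosed_closure
  have := hcl.isClosedEmbedding_subtypeVal.isClosedMap _ hzc
  simpa [z] using this

end Groth.Agent.S1526
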