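import Groth.Statements.S14424
import Groth.Agent.Lib.Helper29.DepthLoc2
import Mathlib.RingTheory.Localization.Module

set_option autoImplicit false
universe u
open LocCoh

namespace Groth.Agent.S14424

open Groth.Agent.Lib.Helper29 in
/-- `depth R_p (LocalizedModule R) = depth R_p R_p`. -/
theorem depth_localizedModule_self (R : Type u) [CommRing R] (p : Ideal R) [p.IsPrime] :
    LocCoh.depth (Localization.AtPrime p) (LocalizedModule p.primeCompl R) =
      LocCoh.depth (Localization.AtPrime p) (Localization.AtPrime p) := by
  let e : LocalizedModule p.primeCompl R ≃ₗ[Localization.AtPrime p] Localization.AtPrime p :=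
    (IsLocalizedModule.iso p.primeCompl
      (Algebra.linearMap R (Localization.AtPrime p))).extendScalarsOfIsLocalization p.primeCompl
        (Localization.AtPrime p)
  exact idealDepth_congr _ e

/-- Let R be a Noetherian ring. Then R is Cohen–Macaulay (every localization at a prime ideal is a
Cohen–Macaulay local ring) if and only if for every proper ideal a of R the a-depth of R equals the
height (codimension) of a. (The published statement defines a Cohen–Macaulay ring by its
localizations at maximal ideals; this row uses all prime ideals, an equivalent definition because
Cohen–Macaulayness passes to localizations.) -/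
theorem result (R : Type u) [CommRing R] [IsNoetherianRing R] :
    LocCoh.IsCohenMacaulayRing R ↔ ∀ a : Ideal R, a ≠ ⊤ → LocCoh.idealDepth a R = a.height := by
  open Groth.Agent.Lib.Helper29 in
  constructor
  · intro hCM a ha
    rw [idealDepth_eq_iInf_depth_localization R a R]
    have key : ∀ p : PrimeSpectrum R,
        LocCoh.depth (Localization.AtPrime p.asIdeal) (LocalizedModule p.asIdeal.primeCompl R) =
          p.asIdeal.height := by
      intro p
      have h1 := (hCM.isCohenMacaulayLocalRing_localization p.asIdeal).supportDim_eq_depth
      rw [Module.supportDim_self_eq_ringKrullDim,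
        IsLocalization.AtPrime.ringKrullDim_eq_height p.asIdeal] at h1
      rw [depth_localizedModule_self]
      exact (WithBot.coe_injective h1).symm
    simp_rw [key]
    apply le_antisymm
    · rw [Ideal.height_eq_inf_minimalPrimes]
      refine le_iInf₂ fun q hq => ?_
      exact iInf₂_le (⟨q, hq.1.1⟩ : PrimeSpectrum R) hq.1.2
    · refine le_iInf₂ fun p hp => Ideal.height_mono hp
  · intro h
    refine ⟨fun p _ => ?_⟩
    have hN : IsNoetherianRing (Localization.AtPrime p) :=
      IsLocalization.isNoetherianRing p.primeCompl _ inferInstance
    refine { supportDim_eq_depth := ?_ }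
    rw [Module.supportDim_self_eq_ringKrullDim,
      IsLocalization.AtPrime.ringKrullDim_eq_height p]
    have h1 := h p (Ideal.IsPrime.ne_top inferInstance)
    have h2 := idealDepth_le_depth_localization R p R
    rw [depth_localizedModule_self, h1] at h2
    have h3 := depth_le_supportDim (Localization.AtPrime p) (Localization.AtPrime p)
    rw [Module.supportDim_self_eq_ringKrullDim,
      IsLocalization.AtPrime.ringKrullDim_eq_height p] at h3
    exact le_antisymm (WithBot.coe_le_coe.mpr h2) h3

end Groth.Agent.S14424
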