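import Groth.Statements.S18645
import Groth.Agent.Lib.Helper93.GrAInvSeq
import Groth.Agent.Lib.Helper93.GrHeight
import Groth.Agent.S14424

set_option autoImplicit false
universe u
open GrLC

namespace Groth.Agent.S18645

/-- Let R be a graded ring defined over a field which is Cohen–Macaulay, of dimension n, and let f_1, …,
f_t be an R-regular sequence of homogeneous elements of positive degrees d_1, …, d_t, with S =
R/(f_1, …, f_t). The canonical module of S is (K_R/(f_1, …, f_t)K_R)(d_1 + ⋯ + d_t); consequently —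
this is the form stated here — the a-invariants satisfy a(S) = a(R) + d_1 + ⋯ + d_t, where a(S) is
the largest nonzero degree of H^{n−t}_m(S) and a(R) that of H^n_m(R), both graded local cohomologies
over R with support in m = R_+ computed from *injective resolutions in the graded category, and S is
presented as a graded R-module N with a degree-preserving surjection π : R → N whose kernel is (f_1,
…, f_t). Here 'graded ring defined over a field' means R = ⊕_{n ≥ 0} R_n is Noetherian with R_0 a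
field, and m = R_+ is its unique graded maximal ideal. -/
theorem result (R : Type u) [CommRing R] [LocCoh.IsCohenMacaulayRing R] (𝒜 : ℤ → AddSubgroup R) [GradedRing 𝒜] (hpos : ∀ n : ℤ, n < 0 → 𝒜 n = ⊥) (h0 : IsField (GrLC.deg0 𝒜)) (m : HomogeneousIdeal 𝒜) (hm : GrLC.IsStarLocal 𝒜 m) (hmsp : m.toIdeal = Ideal.span (⋃ n ∈ Set.Ioi (0 : ℤ), (𝒜 n : Set R))) (n : ℕ) (hn : ringKrullDim R = n) (I : GrLC.StarInjRes 𝒜 𝒜) (t : ℕ) (htn : t ≤ n) (f : Fin t → R) (deg : Fin t → ℤ) (hfdeg : ∀ i, f i ∈ 𝒜 (deg i)) (hfm : ∀ i, f i ∈ m.toIdeal) (hreg : RingTheory.Sequence.IsRegular R (List.ofFn f)) (N : Type u) [AddCommGroup N] [Module R N] (𝒩 : ℤ → AddSubgroup N) [DirectSum.Decomposition 𝒩] [SetLike.GradedSMul 𝒜 𝒩] (π : R →ₗ[R] N) (hπ : GrLC.IsGrHom 𝒜 𝒩 π) (hπs : Function.Surjective π) (hπk : LinearMap.ker π = Ideal.span (Set.range f)) (F : GrLC.StarInjRes 𝒜 𝒩) : GrLC.endDeg (F.Hgr m (n - t)) = GrLC.endDeg (I.Hgr m n) + ((((Finset.univ : Finset (Fin t)).sum deg : ℤ) : WithTop ℤ) : WithBot (WithTop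 ℤ)) := by
  classical
  open Groth.Agent.Lib.Helper93 in
  -- the irrelevant ideal is proper of height n
  have hne : m.toIdeal ≠ ⊤ := by
    intro h
    apply hm.1.1
    apply HomogeneousIdeal.toIdeal_injective
    rw [h, HomogeneousIdeal.toIdeal_top]
  have hirr : m.toIdeal = GrHeight.irr 𝒜 := hmsp
  have hht : ((m.toIdeal.height : ℕ∞) : WithBot ℕ∞) = ringKrullDim R := by
    rw [hirr]
    exact GrHeight.height_irr_eq_of_isField 𝒜 hpos h0 (hirr ▸ hne)
  have hht' : m.toIdeal.height = (n : ℕ∞) := by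
    rw [hn] at hht
    exact_mod_cast hht
  have hdepth : LocCoh.idealDepth m.toIdeal R = (n : ℕ∞) := by
    rw [(Groth.Agent.S14424.result R).mp inferInstance m.toIdeal hne, hht']
  have hsm : m.toIdeal • (⊤ : Submodule R R) ≠ ⊤ := by
    rw [smul_eq_mul, Ideal.mul_top]
    exact hne
  let l : List (R × ℤ) := List.ofFn (fun i => (f i, deg i))
  have hl : ∀ p ∈ l, p.1 ∈ 𝒜 p.2 ∧ p.1 ∈ m.toIdeal := by
    intro p hp
    obtain ⟨i, rfl⟩ := (List.mem_ofFn' _ _).mp hp
    exact ⟨hfdeg i, hfm i⟩
  have hfst : l.map Prod.fst = List.ofFn f := by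
    simp [l, List.map_ofFn, Function.comp_def]
  have hsnd : l.map Prod.snd = List.ofFn deg := by
    simp [l, List.map_ofFn, Function.comp_def]
  have hlen : l.length = t := by simp [l]
  have hker : LinearMap.ker π = Ideal.ofList (l.map Prod.fst) • (⊤ : Submodule R R) := by
    rw [hπk, hfst, smul_eq_mul, Ideal.mul_top]
    congr 1
    ext r
    simp [List.mem_ofFn']
  have key := GrAInv.endDeg_regseq hpos m l R 𝒜 I n hdepth hsm hl
    (by rw [hfst]; exact hreg.toIsWeaklyRegular) (by rw [hlen]; exact htn) N 𝒩 π hπ hπs hker F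
  rw [hlen, hsnd, List.sum_ofFn] at key
  exact key

end Groth.Agent.S18645
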