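import Groth.Statements.S18638
import Groth.Agent.Lib.Helper39.GrCanonLoc
import Groth.Agent.Lib.Helper39.GrCanonGor
import Groth.Agent.S7701
import Groth.Agent.Lib.Helper87.GorLocal2

set_option autoImplicit false
universe u
open GrLC

namespace Groth.Agent.S18638

/-- Let R be a graded ring defined over a field which is Cohen–Macaulay, and K_R its canonical module.
Then R is Gorenstein exactly when K_R is isomorphic to a degree shift R(a) of R for some integer a,
that is, there is a bijective R-linear map R → K_R homogeneous of some fixed degree. Here 'graded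
ring defined over a field' means R = ⊕_{n ≥ 0} R_n is Noetherian with R_0 a field (so R is finitely
generated over R_0), m = R_+ is its unique graded maximal ideal and n = dim R; the canonical module
K_R (the graded dual of H^n_m(R)) is represented by a finitely generated graded module C together
with a homogeneous isomorphism from Hom_R(C, E) onto H^n_m(R), where E is a *injective envelope of
R/m and H^n_m(R) is computed from a *injective resolution of R in the graded category; by graded
Matlis duality this says exactly that C ≅ K_R as graded modules. -/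
theorem result (R : Type u) [CommRing R] [LocCoh.IsCohenMacaulayRing R] (𝒜 : ℤ → AddSubgroup R) [GradedRing 𝒜] (hpos : ∀ n : ℤ, n < 0 → 𝒜 n = ⊥) (h0 : IsField (GrLC.deg0 𝒜)) (m : HomogeneousIdeal 𝒜) (hm : GrLC.IsStarLocal 𝒜 m) (hmsp : m.toIdeal = Ideal.span (⋃ n ∈ Set.Ioi (0 : ℤ), (𝒜 n : Set R))) (n : ℕ) (hn : ringKrullDim R = n) (I : GrLC.StarInjRes 𝒜 𝒜) (E' : Type u) [AddCommGroup E'] [Module R E'] (𝓔 : ℤ → AddSubgroup E') [DirectSum.Decomposition 𝓔] [SetLike.GradedSMul 𝒜 𝓔] (e : (R ⧸ m.toIdeal) →ₗ[R] E') (he : GrLC.IsStarInjHull 𝒜 (GrLC.quotGr 𝒜 m) 𝓔 e) (C : Type u) [AddCommGroup C] [Module R C] (𝒞 : ℤ → AddSubgroup C) [DirectSum.Decomposition 𝒞] [SetLike.GradedSMul 𝒜 𝒞] (hC : GrLC.IsStarCanonical 𝒜 𝒞 𝓔 m n I) : LocCoh.IsGorensteinRing R ↔ ∃ (a : ℤ) (f : R →ₗ[R] C), Function.Bijective f ∧ GrLC.IsGrHomDeg 𝒜 𝒞 f a := by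
  classical
  haveI hmax : m.toIdeal.IsMaximal := Groth.Agent.Lib.Helper39.GrStarLocal.isMaximal hpos hm
  obtain ⟨hdim, hfin, f, hf, ⟨eK⟩⟩ := Groth.Agent.Lib.Helper39.GrCanonLoc.bridge R 𝒜 hpos h0 m hm n hn
    I E' 𝓔 e he C 𝒞 hC
  haveI := hfin
  haveI : LocCoh.IsCohenMacaulayLocalRing (Localization.AtPrime m.toIdeal) :=
    LocCoh.IsCohenMacaulayRing.isCohenMacaulayLocalRing_localization m.toIdeal
  haveI : Module.Finite (Localization.AtPrime m.toIdeal)
      (LocalizedModule m.toIdeal.primeCompl C) :=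
    Module.Finite.of_isLocalizedModule m.toIdeal.primeCompl
      (LocalizedModule.mkLinearMap m.toIdeal.primeCompl C)
  have key := Groth.Agent.S7701.result (Localization.AtPrime m.toIdeal) n hdim
    (LocalizedModule m.toIdeal.primeCompl E') f hf (LocalizedModule m.toIdeal.primeCompl C) eK
  constructor
  · intro hG
    have hA : LocCoh.IsGorensteinLocalRing (Localization.AtPrime m.toIdeal) :=
      hG.isGorensteinLocalRing_localization m.toIdeal
    obtain ⟨θ⟩ := key.mp hA
    exact Groth.Agent.Lib.Helper39.GrCanonGor.exists_bijective_of_localization_free 𝒜 hpos m hm 𝒞 θ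
  · rintro ⟨a, g, hg, -⟩
    let ge : R ≃ₗ[R] C := LinearEquiv.ofBijective g hg
    have θ : Localization.AtPrime m.toIdeal ≃ₗ[Localization.AtPrime m.toIdeal]
        LocalizedModule m.toIdeal.primeCompl C :=
      IsLocalizedModule.mapEquiv m.toIdeal.primeCompl
        (Algebra.linearMap R (Localization.AtPrime m.toIdeal))
        (LocalizedModule.mkLinearMap m.toIdeal.primeCompl C) (Localization.AtPrime m.toIdeal) ge
    have hA : LocCoh.IsGorensteinLocalRing (Localization.AtPrime m.toIdeal) := key.mpr ⟨θ.symm⟩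
    refine { isGorensteinLocalRing_localization := ?_ }
    intro p hp
    haveI hcp : (Ideal.homogeneousCore 𝒜 p).toIdeal.IsPrime := hp.homogeneousCore
    rw [Groth.Agent.Lib.Helper87.GorLocal.isGorensteinLocalRing_iff_core R 𝒜 p]
    have hle : (Ideal.homogeneousCore 𝒜 p).toIdeal ≤ m.toIdeal := by
      have := Groth.Agent.Lib.Helper39.GrStarLocal.le_of_ne_top hm (Ideal.homogeneousCore 𝒜 p) (by
        intro h
        apply hcp.ne_top
        rw [h, HomogeneousIdeal.toIdeal_top])
      exact this
    exact Groth.Agent.Lib.Helper87.GorLocal.isGorensteinLocalRing_of_le R _ m.toIdeal hle hA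

end Groth.Agent.S18638
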