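import Groth.Statements.S18654
import Groth.Agent.Lib.Helper93.GrHilbMono
import Groth.Agent.Lib.Helper93.GrHeight
import Groth.Agent.Lib.Helper93.Depth
import Groth.Agent.Lib.Helper39.GrPieces
import Groth.Agent.S14424

set_option autoImplicit false
universe u
open GrLC

namespace Groth.Agent.S18654

/-- Let R be a graded ring defined over a field k = R_0 which is Cohen–Macaulay and generated over k by
R_1, with dim R ≥ 1, and write H(n, R) = dim_k R_n. Then H(n + 1, R) ≥ H(n, R) for every integer n.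
Here 'graded ring defined over a field' means R = ⊕_{n ≥ 0} R_n is Noetherian with R_0 a field, and
m = R_+ is its unique graded maximal ideal. -/
theorem result (R : Type u) [CommRing R] [LocCoh.IsCohenMacaulayRing R] (𝒜 : ℤ → AddSubgroup R) [GradedRing 𝒜] (hpos : ∀ n : ℤ, n < 0 → 𝒜 n = ⊥) (h0 : IsField (GrLC.deg0 𝒜)) (hstd : Ideal.span (⋃ n ∈ Set.Ioi (0 : ℤ), (𝒜 n : Set R)) = Ideal.span ((𝒜 1 : AddSubgroup R) : Set R)) (h1 : 1 ≤ ringKrullDim R) (n : ℤ) : Module.finrank (GrLC.deg0 𝒜) (GrLC.comp 𝒜 𝒜 n) ≤ Module.finrank (GrLC.deg0 𝒜) (GrLC.comp 𝒜 𝒜 (n + 1)) := by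
  classical
  open Groth.Agent.Lib.Helper93 in
  haveI : Nontrivial (GrLC.deg0 𝒜) := h0.nontrivial
  haveI : Nontrivial R := (Subtype.coe_injective (p := fun x => x ∈ GrLC.deg0 𝒜)).nontrivial
  -- the irrelevant ideal is proper
  have hne : GrHeight.irr 𝒜 ≠ ⊤ := by
    intro htop
    have h1 : (1 : R) ∈ GrHeight.irr 𝒜 := by rw [htop]; trivial
    have key : ∀ x ∈ GrHeight.irr 𝒜, (DirectSum.decompose 𝒜 x 0 : R) = 0 := by
      intro x hx
      obtain ⟨N, f, g, rfl⟩ := Submodule.mem_span_set'.mp hx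
      rw [DirectSum.decompose_sum, DFinsupp.finsetSum_apply, AddSubmonoidClass.coe_finsetSum]
      refine Finset.sum_eq_zero (fun l _ => ?_)
      have hgl := (g l).2
      simp only [Set.mem_iUnion, Set.mem_Ioi] at hgl
      obtain ⟨d, hd, hgd⟩ := hgl
      have h2 := DirectSum.coe_decompose_mul_add_of_right_mem 𝒜 (a := f l) (i := -d) hgd
      rw [neg_add_cancel] at h2
      rw [smul_eq_mul, h2]
      have h3 : (DirectSum.decompose 𝒜 (f l) (-d) : R) ∈ 𝒜 (-d) := SetLike.coe_mem _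
      generalize (DirectSum.decompose 𝒜 (f l) (-d) : R) = y at h3 ⊢
      rw [hpos (-d) (by omega), AddSubgroup.mem_bot] at h3
      rw [h3, zero_mul]
    have h2 := key 1 h1
    rw [DirectSum.decompose_of_mem_same 𝒜 (SetLike.GradedOne.one_mem (A := 𝒜))] at h2
    exact one_ne_zero h2
  -- a regular element in the irrelevant ideal
  have hht := GrHeight.height_irr_eq_of_isField 𝒜 hpos h0 hne
  have hdepth : LocCoh.idealDepth (GrHeight.irr 𝒜) R = (GrHeight.irr 𝒜).height :=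
    (Groth.Agent.S14424.result R).mp inferInstance _ hne
  have h1' : (1 : ℕ∞) ≤ LocCoh.idealDepth (GrHeight.irr 𝒜) R := by
    rw [hdepth]
    rw [← hht] at h1
    exact_mod_cast h1
  have hreg : ∃ r ∈ GrHeight.irr 𝒜, IsSMulRegular R r := by
    rcases (Depth.one_le_idealDepth_iff).mp h1' with h | h
    · exfalso
      rw [smul_eq_mul, Ideal.mul_top] at h
      exact hne h
    · exact h
  obtain ⟨x₀, hx₀, hx₀reg⟩ := hreg
  have hx₀' : x₀ ∈ Ideal.span ((𝒜 1 : AddSubgroup R) : Set R) := by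
    rw [← hstd]
    exact hx₀
  -- finiteness of the pieces
  have hfin : ∀ j : ℤ, Module.Finite (GrLC.deg0 𝒜) (GrLC.comp 𝒜 𝒜 j) := fun j =>
    Groth.Agent.Lib.Helper39.GrPieces.finite_comp 𝒜 𝒜 hpos j
  letI : Field (GrLC.deg0 𝒜) := h0.toField
  letI alg : Algebra (GrLC.deg0 𝒜) R := (GrLC.deg0 𝒜).subtype.toAlgebra
  exact @GrHilbMono.finrank_le_of_regular (GrLC.deg0 𝒜) _ R _ alg 𝒜 _ n (GrLC.comp 𝒜 𝒜 1)
    (GrLC.comp 𝒜 𝒜 n) (GrLC.comp 𝒜 𝒜 (n + 1)) (fun _ => Iff.rfl) (fun _ => Iff.rfl) (fun _ => Iff.rfl)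
    (hfin 1) (hfin n) (hfin (n + 1)) x₀ hx₀' hx₀reg

end Groth.Agent.S18654
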