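import Groth.Statements.S0073
import Mathlib
import Groth.Agent.Lib.Helper43.HensSect
import Groth.Agent.Lib.Helper43.EtStalk

set_option autoImplicit false
open CategoryTheory CategoryTheory.Limits AlgebraicGeometry Opposite
universe u
open EtBase

namespace Groth.Agent.S0073

open Groth.Agent.Lib.Helper43 Groth.Agent.Lib.Helper43.EtStalk

/-- the final object of the small étale site -/
noncomputable def isTerminalTop (X : Scheme.{u}) : IsTerminal (EtCoh.top X) :=
  IsTerminal.ofUniqueHom (fun U => MorphismProperty.Over.homMk U.hom (Category.comp_id _))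
    (fun U m => HensSect.hom_top_ext _ _)

section Helpers

variable (R : Type u) [CommRing R] [HenselianLocalRing R] [IsSepClosed (IsLocalRing.ResidueField R)]

/-- global sections send epimorphisms to surjections -/
lemma sections_surjective {E Y : EtCoh.Ab (Spec (CommRingCat.of R))} (e : E ⟶ Y) [Epi e] :
    Function.Surjective (e.hom.app (op (EtCoh.top (Spec (CommRingCat.of R))))) := by
  intro s
  let X := Spec (CommRingCat.of R)
  let T := EtCoh.top X
  have hls : Sheaf.IsLocallySurjective e := (Sheaf.isLocallySurjective_iff_epi' (φ := e)).2 inferInstance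
  have h0 : Presheaf.imageSieve e.hom s ∈ X.smallEtaleTopology T := Presheaf.imageSieve_mem _ _ _
  rw [EtOpenSub.mem_smallEtaleTopology_iff'] at h0
  obtain ⟨U, g, y, ⟨t, ht⟩, hy⟩ := h0 ((HensSect.ξ₀ R).base default)
  let UL : Scheme.{u} := U.left
  let gl : UL ⟶ X := g.left
  have hgl_et : Etale gl := inferInstanceAs (Etale g.left)
  have hgl : gl ≫ 𝟙 X = U.hom := EtOpenSub.hom_left_eq g
  obtain ⟨l, hl₁, hl₂⟩ := Scheme.exists_fac_of_etale_of_isSepClosed gl (HensSect.ξ₀ R) y hy
  let y' : (Scheme.pointSmallEtale (HensSect.ξ₀ R)).fiber.obj U := Over.homMk l (by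
    change l ≫ U.hom = HensSect.ξ₀ R
    rw [← hgl, Category.comp_id]
    exact hl₁)
  obtain ⟨σ, hσ⟩ := HensSect.exists_section R U y'
  have h1 : σ ≫ g = 𝟙 T := HensSect.hom_top_ext _ _
  refine ⟨E.obj.map σ.op t, ?_⟩
  have n1 : e.hom.app (op T) (E.obj.map σ.op t) = Y.obj.map σ.op (e.hom.app (op U) t) :=
    congrArg (fun m => m t) (e.hom.naturality σ.op)
  rw [n1, ht]
  have : Y.obj.map (σ ≫ g).op s = s := by
    rw [h1, op_id, Y.obj.map_id]
    rfl
  rw [op_comp, Y.obj.map_comp] at this
  exact this

end Helpers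


/-- Étale cohomology of any abelian sheaf on the spectrum of a strictly henselian local ring vanishes in
positive degrees. -/
theorem result (R : Type u) [CommRing R] [HenselianLocalRing R]
    [IsSepClosed (IsLocalRing.ResidueField R)] (F : EtCoh.Ab (Spec (CommRingCat.of R)))
    (p : ℕ) (hp : 1 ≤ p) : Subsingleton (EtCoh.H (Spec (CommRingCat.of R)) F p) := by
  let X := Spec (CommRingCat.of R)
  let J := X.smallEtaleTopology
  let T := EtCoh.top X
  let hT := isTerminalTop X
  let adj := constantSheafAdj J AddCommGrpCat.{u + 1} hT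
  let Z := (constantSheaf J AddCommGrpCat.{u + 1}).obj (AddCommGrpCat.of (ULift ℤ))
  have hproj : Projective Z := by
    constructor
    intro E Y f e he
    let g : AddCommGrpCat.of (ULift ℤ) ⟶ Y.obj.obj (op T) := adj.homEquiv _ _ f
    obtain ⟨t, ht⟩ := sections_surjective R e (AddCommGrpCat.uliftZMultiplesAddEquiv _ g)
    let g' : AddCommGrpCat.of (ULift ℤ) ⟶ E.obj.obj (op T) :=
      (AddCommGrpCat.uliftZMultiplesAddEquiv _).symm t
    refine ⟨(adj.homEquiv _ _).symm g', ?_⟩
    apply (adj.homEquiv _ _).injective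
    rw [adj.homEquiv_naturality_right, Equiv.apply_symm_apply]
    apply (AddCommGrpCat.uliftZMultiplesAddEquiv _).injective
    refine Eq.trans ?_ ht
    have h1 : (AddCommGrpCat.uliftZMultiplesAddEquiv _) g' = t := AddEquiv.apply_symm_apply _ t
    rw [← h1]
    simp [AddCommGrpCat.uliftZMultiplesAddEquiv_apply]
    rfl
  obtain ⟨n, rfl⟩ : ∃ n, p = n + 1 := ⟨p - 1, by omega⟩
  exact Abelian.Ext.subsingleton_of_projective Z F n

end Groth.Agent.S0073
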