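import Groth.Statements.S0483
-- import your own Groth.Agent.* helpers here
import Groth.Agent.Lib.Helper4.FreeSheafSite

set_option autoImplicit false
universe u
open CategoryTheory
open CohSite

namespace Groth.Agent.S0483

open Groth.Agent.Lib.Helper4 CategoryTheory.Abelian Opposite in
/-- Auxiliary statement in terms of `Ext` from the free sheaf `ℤ_U`. -/
theorem aux {C : Type u} [SmallCategory C] (J : GrothendieckTopology C) (n : ℕ) :
    ∀ (F : Sheaf J AddCommGrpCat.{u}) (U : C) (ξ : Ext (ZU J U) F (n + 1)),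
    ∃ (S : J.Cover U), ∀ (a : S.Arrow),
      (Ext.mk₀ (ZUmap J a.f)).comp ξ (zero_add (n + 1)) = 0 := by
  induction n with
  | zero =>
    intro F U ξ
    -- embed `F` in an injective
    let S : ShortComplex (Sheaf J AddCommGrpCat.{u}) :=
      ShortComplex.mk (Injective.ι F) (Limits.cokernel.π (Injective.ι F)) (by simp)
    have hS : S.ShortExact :=
      { exact := ShortComplex.exact_cokernel _ }
    obtain ⟨y, rfl⟩ := Ext.covariant_sequence_exact₁ (ZU J U) hS ξ
      (Ext.eq_zero_of_injective _) (zero_add 1)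
    obtain ⟨ψ, rfl⟩ := (Ext.mk₀_bijective _ _).surjective y
    have hepi : Epi S.g := hS.epi_g
    have hls : Sheaf.IsLocallySurjective S.g := (Sheaf.isLocallySurjective_iff_epi' (φ := S.g)).2 hepi
    have hmem := Presheaf.imageSieve_mem J S.g.hom (U := op U) (ZUev U S.X₃ ψ)
    refine ⟨⟨_, hmem⟩, fun a => ?_⟩
    obtain ⟨t, ht⟩ := a.hf
    obtain ⟨ψ', hψ'⟩ := (ZUev_bijective a.Y S.X₂).2 t
    have hfac : ZUmap J a.f ≫ ψ = ψ' ≫ S.g := by
      apply (ZUev_bijective a.Y S.X₃).1
      rw [ZUev_map, ZUev_comp, hψ']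
      exact ht.symm
    rw [← Ext.comp_assoc_of_second_deg_zero, Ext.mk₀_comp_mk₀, hfac, ← Ext.mk₀_comp_mk₀,
      Ext.comp_assoc_of_second_deg_zero, hS.comp_extClass, Ext.comp_zero]
  | succ n ih =>
    intro F U ξ
    let S : ShortComplex (Sheaf J AddCommGrpCat.{u}) :=
      ShortComplex.mk (Injective.ι F) (Limits.cokernel.π (Injective.ι F)) (by simp)
    have hS : S.ShortExact :=
      { exact := ShortComplex.exact_cokernel _ }
    obtain ⟨y, rfl⟩ := Ext.covariant_sequence_exact₁ (ZU J U) hS ξ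
      (Ext.eq_zero_of_injective _) rfl
    obtain ⟨T, hT⟩ := ih S.X₃ U y
    refine ⟨T, fun a => ?_⟩
    rw [← Ext.comp_assoc (Ext.mk₀ (ZUmap J a.f)) y hS.extClass (zero_add (n + 1)) rfl
      (by omega), hT a, Ext.zero_comp]

/-- For an abelian sheaf F on a small site, an object U and a class ξ in H^(n+1)(U, F), there is a
covering sieve of U such that ξ pulls back to zero along every arrow of the sieve. -/
theorem result {C : Type u} [SmallCategory C] (J : GrothendieckTopology C)
    (F : Sheaf J AddCommGrpCat.{u}) (U : C) (n : ℕ) (ξ : CohSite.HU F (n + 1) U) :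
    ∃ (S : J.Cover U), ∀ (a : S.Arrow), CohSite.res F (n + 1) a.f ξ = 0 := by
  exact aux J n F U ξ

end Groth.Agent.S0483
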