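import Groth.Statements.S6075
import Groth.Agent.Lib.Helper41.WordRational

set_option autoImplicit false
universe u
open CategoryTheory CategoryTheory.Limits MonoidalCategory CartesianMonoidalCategory MonObj GrpObj AlgebraicGeometry
open SGA3

namespace Groth.Agent.S6075

/-- Let k be an algebraically closed field, G a group scheme locally of finite type over k, X a
geometrically reduced k-scheme locally of finite type, and f : X → G a k-morphism. Consider the
k-points g of G whose underlying point lies under a word in f: there are a k-scheme T, a point p of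
T, n ≥ 0, T-valued points x_1, …, x_n of X and signs such that the T-valued point f(x_1)^{±1} ⋯
f(x_n)^{±1} of G maps p to the point of g. These k-points form exactly the subgroup of G(k)
generated by the k-points of G whose underlying point lies in the image of f. (Words of length zero
are allowed here, so that the unit is on both sides when X is empty; for nonempty X this changes
nothing, while the published statement, with words of positive length only, fails for empty X.) -/
theorem result (k : Type u) [Field k] [IsAlgClosed k]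
    (G X : Over (Spec (CommRingCat.of k))) [GrpObj G] [LocallyOfFiniteType G.hom]
    [LocallyOfFiniteType X.hom] [GeometricallyReduced X.hom] (f : X ⟶ G) :
    {g : 𝟙_ (Over (Spec (CommRingCat.of k))) ⟶ G | ∃ (n : ℕ) (T : Over (Spec (CommRingCat.of k))) (p : T.left) (p₀ : (𝟙_ (Over (Spec (CommRingCat.of k)))).left)
        (x : Fin n → (T ⟶ X)) (ε : Fin n → Bool), ((List.ofFn fun j : Fin n => if ε j then x j ≫ f else (x j ≫ f)⁻¹).prod : T ⟶ G).left.base p = g.left.base p₀} =
      ((Subgroup.closure {g : 𝟙_ (Over (Spec (CommRingCat.of k))) ⟶ G | ∃ p₀ : (𝟙_ (Over (Spec (CommRingCat.of k)))).left, g.left.base p₀ ∈ Set.range f.left.base} :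
        Subgroup (𝟙_ (Over (Spec (CommRingCat.of k))) ⟶ G)) : Set (𝟙_ (Over (Spec (CommRingCat.of k))) ⟶ G)) := by
  classical
  have hsub : Subsingleton (Spec (CommRingCat.of k)) :=
    inferInstanceAs (Subsingleton (PrimeSpectrum k))
  let U1 : Over (Spec (CommRingCat.of k)) := 𝟙_ (Over (Spec (CommRingCat.of k)))
  let pt : U1.left := (IsLocalRing.closedPoint k : PrimeSpectrum k)
  have hpt : ∀ q : U1.left, q = pt := fun q => hsub.elim _ _
  -- the word form of the left hand side
  let L' : Set (U1 ⟶ G) := {g | ∃ (T : Over (Spec (CommRingCat.of k)))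
    (l : List ((T ⟶ X) × Bool)) (p : T.left),
    (Groth.Agent.Lib.Helper41.WordPoints.word f l).left.base p = g.left.base pt}
  have hLL' : {g : U1 ⟶ G | ∃ (n : ℕ) (T : Over (Spec (CommRingCat.of k))) (p : T.left)
      (p₀ : U1.left) (x : Fin n → (T ⟶ X)) (ε : Fin n → Bool),
      ((List.ofFn fun j : Fin n => if ε j then x j ≫ f else (x j ≫ f)⁻¹).prod : T ⟶ G).left.base p
        = g.left.base p₀} = L' := by
    ext g
    constructor
    · rintro ⟨n, T, p, p₀, x, ε, h⟩
      refine ⟨T, List.ofFn fun j => (x j, ε j), p, ?_⟩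
      rw [← Groth.Agent.Lib.Helper41.WordRational.ofFn_prod_eq_word, h, hpt p₀]
    · rintro ⟨T, l, p, h⟩
      obtain ⟨n, x, ε, hw⟩ := Groth.Agent.Lib.Helper41.WordRational.exists_ofFn_eq_word f l
      exact ⟨n, T, p, pt, x, ε, by rw [hw, h]⟩
  change {g : U1 ⟶ G | ∃ (n : ℕ) (T : Over (Spec (CommRingCat.of k))) (p : T.left)
      (p₀ : U1.left) (x : Fin n → (T ⟶ X)) (ε : Fin n → Bool),
      ((List.ofFn fun j : Fin n => if ε j then x j ≫ f else (x j ≫ f)⁻¹).prod : T ⟶ G).left.base p
        = g.left.base p₀} = _
  rw [hLL']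
  let S₀ : Set (U1 ⟶ G) := {g | ∃ p₀ : U1.left, g.left.base p₀ ∈ Set.range f.left.base}
  change L' = ((Subgroup.closure S₀ : Subgroup (U1 ⟶ G)) : Set (U1 ⟶ G))
  apply subset_antisymm
  · -- words at rational points
    rintro g ⟨T, l, p, h⟩
    obtain ⟨P, hP, l', g', hl⟩ := Groth.Agent.Lib.Helper41.WordRational.exists_lft_factor l
    let W : P ⟶ G := Groth.Agent.Lib.Helper41.WordPoints.word f l'
    have hW : W.left.base (g'.left.base p) = g.left.base pt := by
      rw [← h, hl, ← Groth.Agent.Lib.Helper41.WordPoints.comp_word]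
      rfl
    have hy₀ : IsClosed ({g.left.base pt} : Set G.left) :=
      (pointEquivClosedPoint G.hom ⟨g.left, Over.w g⟩).2
    let F : Set P.left := W.left.base ⁻¹' {g.left.base pt}
    have hF : IsClosed F := hy₀.preimage W.left.continuous
    have hFne : F.Nonempty := ⟨g'.left.base p, hW⟩
    have hJ : JacobsonSpace P.left := LocallyOfFiniteType.jacobsonSpace (Y := Spec _) P.hom
    obtain ⟨q, hqF, hq⟩ := nonempty_inter_closedPoints hFne hF.isLocallyClosed
    let c : U1 ⟶ P := Over.homMk (pointOfClosedPoint P.hom q hq) (pointOfClosedPoint_comp P.hom q hq)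
    have hc : c.left.base pt = q := pointOfClosedPoint_apply P.hom q hq _
    have hcW : c ≫ W = g := by
      ext1
      refine ext_of_apply_closedPoint_eq G.hom ?_ (Over.w g) ?_
      · rw [Over.comp_left, Category.assoc, Over.w W]
        exact Over.w c
      · change W.left.base (c.left.base pt) = g.left.base pt
        rw [hc]
        exact hqF
    rw [← hcW]
    change c ≫ Groth.Agent.Lib.Helper41.WordPoints.word f l' ∈ _
    rw [Groth.Agent.Lib.Helper41.WordPoints.comp_word]
    unfold Groth.Agent.Lib.Helper41.WordPoints.word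
    apply Subgroup.list_prod_mem
    intro a ha
    obtain ⟨xb, -, rfl⟩ := List.mem_map.mp ha
    have hmem : xb.1 ≫ f ∈ Subgroup.closure S₀ := by
      apply Subgroup.subset_closure
      exact ⟨pt, xb.1.left.base pt, rfl⟩
    unfold Groth.Agent.Lib.Helper41.WordPoints.sgn
    by_cases hb : xb.2
    · simp only [hb, if_true]
      exact hmem
    · simp only [hb, Bool.false_eq_true, if_false]
      exact Subgroup.inv_mem _ hmem
  · -- the subgroup generated
    intro g hg
    induction hg using Subgroup.closure_induction with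
    | mem g hg =>
      obtain ⟨p₀, x₀, hx₀⟩ := hg
      refine ⟨X, [(𝟙 X, true)], x₀, ?_⟩
      rw [← hpt p₀, ← hx₀]
      simp [Groth.Agent.Lib.Helper41.WordPoints.word, Groth.Agent.Lib.Helper41.WordPoints.sgn]
    | one =>
      exact ⟨U1, [], pt, rfl⟩
    | mul g h _ _ hg hh =>
      obtain ⟨T, l, p, hp⟩ := hg
      obtain ⟨T', l', p', hp'⟩ := hh
      let w : (G ⊗ G).left := (lift g h).left.base pt
      have h1 : (Groth.Agent.Lib.Helper41.WordPoints.word f l).left.base p =
          (fst G G).left.base w := by
        rw [hp]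
        change _ = (lift g h ≫ fst G G).left.base pt
        rw [lift_fst]
      have h2 : (Groth.Agent.Lib.Helper41.WordPoints.word f l').left.base p' =
          (snd G G).left.base w := by
        rw [hp']
        change _ = (lift g h ≫ snd G G).left.base pt
        rw [lift_snd]
      obtain ⟨w', hw'⟩ := Groth.Agent.Lib.Helper41.WordPoints.exists_mul_preimage _ _ w p p' h1 h2
      refine ⟨T ⊗ T', l.map (fun xb => (fst T T' ≫ xb.1, xb.2)) ++
        l'.map (fun xb => (snd T T' ≫ xb.1, xb.2)), w', ?_⟩
      rw [Groth.Agent.Lib.Helper41.WordPoints.word_append,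
        ← Groth.Agent.Lib.Helper41.WordPoints.comp_word,
        ← Groth.Agent.Lib.Helper41.WordPoints.comp_word, hw', Hom.mul_def]
      rfl
    | inv g _ hg =>
      obtain ⟨T, l, p, hp⟩ := hg
      refine ⟨T, l.reverse.map (fun xb => (xb.1, !xb.2)), p, ?_⟩
      rw [← Groth.Agent.Lib.Helper41.WordPoints.word_inv, Hom.inv_def, Hom.inv_def]
      change ι[G].left.base ((Groth.Agent.Lib.Helper41.WordPoints.word f l).left.base p) =
        ι[G].left.base (g.left.base pt)
      rw [hp]

end Groth.Agent.S6075
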