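import Groth.Statements.S2004
import Groth.Agent.Lib.Helper41.EtGlueTorsion
import Mathlib

set_option autoImplicit false
universe u
open TensorProduct
open EtAlg

namespace Groth.Agent.S2004

/-- Let R -> R' induce bijections R/f^n R -> R'/f^n R' for all n > 0. Then (R -> R', f) is a glueing
pair if and only if R -> R' maps the f-power torsion of R bijectively onto the f-power torsion of R'
(stated as: injective on f-power torsion elements, and every f-power torsion element of R' is the
image of one of R). -/
theorem result (R R' : Type u) [CommRing R] [CommRing R'] [Algebra R R'] (f : R)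
    (hq : EtGlue.QuotPowBijective R R' f) :
    EtGlue.IsGlueingPair R R' f ↔
      ((∀ x : R, (∃ n : ℕ, f ^ n * x = 0) → algebraMap R R' x = 0 → x = 0) ∧
       (∀ x' : R', (∃ n : ℕ, algebraMap R R' f ^ n * x' = 0) →
          ∃ x : R, (∃ n : ℕ, f ^ n * x = 0) ∧ algebraMap R R' x = x')) := by
  classical
  -- notation
  have hα : ∀ r : R, Localization.awayMap (algebraMap R R') f (algebraMap R (Localization.Away f) r) =
      algebraMap R' (Localization.Away (algebraMap R R' f)) (algebraMap R R' r) := by
    intro r
    simp only [Localization.awayMap, IsLocalization.Away.map, IsLocalization.map_eq]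
  have hzero : ∀ r : R, algebraMap R (Localization.Away f) r = 0 ↔ ∃ n : ℕ, f ^ n * r = 0 := by
    intro r
    rw [IsLocalization.map_eq_zero_iff (Submonoid.powers f)]
    constructor
    · rintro ⟨⟨_, n, rfl⟩, h⟩
      exact ⟨n, h⟩
    · rintro ⟨n, h⟩
      exact ⟨⟨f ^ n, n, rfl⟩, h⟩
  have hzero' : ∀ x : R', algebraMap R' (Localization.Away (algebraMap R R' f)) x = 0 ↔
      ∃ n : ℕ, algebraMap R R' f ^ n * x = 0 := by
    intro r
    rw [IsLocalization.map_eq_zero_iff (Submonoid.powers (algebraMap R R' f))]
    constructor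
    · rintro ⟨⟨_, n, rfl⟩, h⟩
      exact ⟨n, h⟩
    · rintro ⟨n, h⟩
      exact ⟨⟨algebraMap R R' f ^ n, n, rfl⟩, h⟩
  constructor
  · rintro ⟨-, hinj, hmid, -⟩
    refine ⟨fun x hx hx0 => ?_, fun x' hx' => ?_⟩
    · apply hinj
      simp only [map_zero, Prod.mk.injEq]
      exact ⟨hx0, (hzero x).mpr hx⟩
    · obtain ⟨r, hr1, hr2⟩ := hmid x' 0 (by rw [map_zero]; exact (hzero' x').mpr hx')
      exact ⟨r, (hzero r).mp hr2, hr1⟩
  · rintro ⟨ha, hb⟩
    refine ⟨hq, ?_, ?_, ?_⟩
    · intro r r₂ h
      simp only [Prod.mk.injEq] at h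
      have h1 : algebraMap R R' (r - r₂) = 0 := by rw [map_sub, h.1, sub_self]
      have h2 : algebraMap R (Localization.Away f) (r - r₂) = 0 := by rw [map_sub, h.2, sub_self]
      exact sub_eq_zero.mp (ha _ ((hzero _).mp h2) h1)
    · intro x' y hxy
      obtain ⟨n, r, hy⟩ := IsLocalization.Away.surj f y
      -- apply α
      have h1 : algebraMap R' (Localization.Away (algebraMap R R' f)) (x' * algebraMap R R' f ^ n
          - algebraMap R R' r) = 0 := by
        rw [map_sub, map_mul, hxy, ← hα r, ← hy, map_mul, map_pow, map_pow, hα f, sub_self]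
      obtain ⟨m, hm⟩ := (hzero' _).mp h1
      have h2 : algebraMap R R' (f ^ m * r) ∈
          (Ideal.span {f ^ (m + n)}).map (algebraMap R R') := by
        rw [Ideal.map_span, Set.image_singleton, Ideal.mem_span_singleton']
        refine ⟨x', ?_⟩
        rw [mul_sub, sub_eq_zero] at hm
        rw [map_mul, map_pow, map_pow, ← hm, pow_add]
        ring
      have h3 := Groth.Agent.Lib.Helper41.EtGlueTorsion.mem_span_of_map_mem hq (m + n) _ h2
      obtain ⟨s, hs⟩ := Ideal.mem_span_singleton'.mp h3
      -- `y = ι s`
      have hu : IsUnit (algebraMap R (Localization.Away f) f ^ (m + n)) :=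
        (IsLocalization.Away.algebraMap_isUnit f).pow _
      have hys : y = algebraMap R (Localization.Away f) s := by
        apply hu.mul_left_inj.mp
        rw [pow_add, mul_comm (algebraMap R (Localization.Away f) f ^ m), ← mul_assoc, hy,
          mul_comm (algebraMap R (Localization.Away f) f ^ n), ← pow_add, ← map_pow, ← map_pow,
          ← map_mul, ← map_mul, hs, mul_comm]
      -- `x' - φ s` is torsion
      have htor : ∃ k : ℕ, algebraMap R R' f ^ k * (x' - algebraMap R R' s) = 0 := by
        refine ⟨m + n, ?_⟩
        rw [mul_sub, sub_eq_zero] at hm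
        have : algebraMap R R' (s * f ^ (m + n)) = algebraMap R R' (f ^ m * r) := by rw [hs]
        rw [map_mul, map_mul, map_pow, map_pow] at this
        rw [mul_sub, sub_eq_zero, mul_comm _ (algebraMap R R' s), this, ← hm, pow_add]
        ring
      obtain ⟨t, ht1, ht2⟩ := hb _ htor
      refine ⟨s + t, ?_, ?_⟩
      · rw [map_add, ht2]; ring
      · rw [map_add, (hzero t).mpr ht1, add_zero, hys]
    · intro z
      obtain ⟨n, x', hz⟩ := IsLocalization.Away.surj (algebraMap R R' f) z
      obtain ⟨r, hr⟩ := Groth.Agent.Lib.Helper41.EtGlueTorsion.exists_sub_mem hq n x'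
      rw [Ideal.map_span, Set.image_singleton, Ideal.mem_span_singleton'] at hr
      obtain ⟨c', hc'⟩ := hr
      refine ⟨c', -(IsLocalization.mk' (Localization.Away f) r
        (⟨f ^ n, n, rfl⟩ : Submonoid.powers f)), ?_⟩
      have hu : IsUnit (algebraMap R' (Localization.Away (algebraMap R R' f))
          (algebraMap R R' f) ^ n) :=
        (IsLocalization.Away.algebraMap_isUnit (algebraMap R R' f)).pow _
      apply hu.mul_left_inj.mp
      rw [hz, map_neg, sub_neg_eq_add, add_mul]
      have e1 : Localization.awayMap (algebraMap R R') f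
          (IsLocalization.mk' (Localization.Away f) r (⟨f ^ n, n, rfl⟩ : Submonoid.powers f)) *
          algebraMap R' (Localization.Away (algebraMap R R' f)) (algebraMap R R' f) ^ n =
          algebraMap R' (Localization.Away (algebraMap R R' f)) (algebraMap R R' r) := by
        rw [← hα r, ← map_pow, ← map_pow, ← hα, ← map_mul]
        congr 1
        exact IsLocalization.mk'_spec _ r (⟨f ^ n, n, rfl⟩ : Submonoid.powers f)
      rw [e1, ← map_pow, ← map_mul, ← map_add]
      congr 1
      rw [map_pow] at hc'
      rw [hc']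
      ring

end Groth.Agent.S2004
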