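import Groth.Statements.S6833
import Groth.Agent.Lib.Helper42.FPLocal

set_option autoImplicit false
universe u
open CategoryTheory CategoryTheory.Limits TopologicalSpace
open ModSite

namespace Groth.Agent.S6833

open Groth.Agent.Lib.Helper42.FTLocal Groth.Agent.Lib.Helper42.FPLocal Opposite

/-- On a ringed space (X, O), if φ : G → F is a map of O-modules with G of finite type and F of finite
presentation, then Coker(φ) is of finite presentation. -/
theorem result {X : TopCat.{u}} (O : TopCat.Sheaf CommRingCat.{u} X)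
    {G F : ModSite.Mod O} (φ : G ⟶ F) [SheafOfModules.IsFiniteType (R := ModSite.ringSh O) G] [SheafOfModules.IsFinitePresentation (R := ModSite.ringSh O) F] :
    SheafOfModules.IsFinitePresentation (R := ModSite.ringSh O) (cokernel φ) := by
  classical
  refine (isFinitePresentation_iff (X := X) (R := ModSite.ringSh O) (cokernel φ)).mpr (fun y => ?_)
  obtain ⟨U₁, hy₁, I, hI, s, L, hL, r, hs, hr⟩ :=
    (isFinitePresentation_iff (X := X) (R := ModSite.ringSh O) F).mp inferInstance y
  obtain ⟨U₂, hy₂, J, hJ, g, hg⟩ :=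
    (isFiniteType_iff (X := X) (R := ModSite.ringSh O) G).mp inferInstance y
  obtain ⟨U, hU, hyU, c, hc⟩ := IsLocGen.exists_coeffs hs (V := U₁ ⊓ U₂) inf_le_left
    (fun j => φ.val.app (op (U₁ ⊓ U₂)) (rs G (homOfLE inf_le_right) (g j))) y ⟨hy₁, hy₂⟩
  have hU₁ : U ≤ U₁ := hU.trans inf_le_left
  have hU₂ : U ≤ U₂ := hU.trans inf_le_right
  have hs' := IsLocGen.mono hU₁ hs
  have hr' := IsLocRel.mono hU₁ hr
  have hg' := IsLocGen.mono hU₂ hg
  have H5 : ∀ j, φ.val.app (op U) (rs G (homOfLE hU₂) (g j)) =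
      ∑ i, c j i • rs F (homOfLE hU₁) (s i) := by
    intro j
    have e := hc j
    rw [rs_app, rs_le_le] at e
    exact e
  have hq : ∀ (W : Opens X) (n : G.val.obj (op W)),
      (cokernel.π φ).val.app (op W) (φ.val.app (op W) n) = 0 := fun W n =>
    congrArg (fun ψ => ψ.val.app (op W) n) (cokernel.condition φ)
  refine ⟨U, hyU, I, hI, fun i => (cokernel.π φ).val.app (op U) (rs F (homOfLE hU₁) (s i)),
    L ⊕ J, inferInstance,
    Sum.elim (fun l i => rr (ModSite.ringSh O) (homOfLE hU₁) (r l i)) c, ?_, ?_, ?_⟩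
  · -- generation
    intro V hV m z hz
    obtain ⟨W, hW, hzW, m', hm'⟩ := exists_local_lift (cokernel.π φ) V
      (fun _ : PUnit.{u + 1} => m) z hz
    obtain ⟨W', hW', hzW', a, ha⟩ := hs' W (hW.trans hV) (m' PUnit.unit) z hzW
    refine ⟨W', hW'.trans hW, hzW', a, ?_⟩
    have e := congrArg (rs (cokernel φ) (homOfLE hW')) (hm' PUnit.unit)
    rw [rs_le_le, rs_app, ha, map_sum] at e
    refine e.symm.trans (Finset.sum_congr rfl (fun i _ => ?_))
    rw [map_smul, rs_app]
  · -- the relations hold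
    rintro (l | j)
    · simp only [Sum.elim_inl]
      have e := congrArg ((cokernel.π φ).val.app (op U)) (hr'.1 l)
      rw [map_sum, map_zero] at e
      refine Eq.trans (Finset.sum_congr rfl (fun i _ => ?_)) e
      rw [map_smul]
    · simp only [Sum.elim_inr]
      have e := congrArg ((cokernel.π φ).val.app (op U)) (H5 j)
      rw [hq, map_sum] at e
      refine Eq.trans (Finset.sum_congr rfl (fun i _ => ?_)) e.symm
      rw [map_smul]
  · -- they generate all relations
    intro V hV a ha z hz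
    have h0 : (cokernel.π φ).val.app (op V)
        (∑ i, a i • rs F (homOfLE hV) (rs F (homOfLE hU₁) (s i))) = 0 := by
      rw [map_sum]
      refine Eq.trans (Finset.sum_congr rfl (fun i _ => ?_)) ha
      rw [map_smul, rs_app]
    obtain ⟨W₁, hW₁, hzW₁, n, hn⟩ := exists_local_preimage_of_cokernel φ _ h0 z hz
    obtain ⟨W₂, hW₂, hzW₂, d, hd⟩ := hg' W₁ (hW₁.trans hV) n z hzW₁
    have hrel : ∑ i, (rr (ModSite.ringSh O) (homOfLE (hW₂.trans hW₁)) (a i) -
        ∑ j, d j * rr (ModSite.ringSh O) (homOfLE ((hW₂.trans hW₁).trans hV)) (c j i)) •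
          rs F (homOfLE ((hW₂.trans hW₁).trans hV)) (rs F (homOfLE hU₁) (s i)) = 0 := by
      simp_rw [sub_smul, Finset.sum_smul]
      rw [Finset.sum_sub_distrib, sub_eq_zero, Finset.sum_comm]
      have e1 := congrArg (rs F (homOfLE hW₂)) hn
      rw [rs_app, hd, rs_le_le, rs_sum_smul, map_sum] at e1
      refine Eq.trans (Finset.sum_congr rfl (fun i _ => ?_)) (e1.symm.trans
        (Finset.sum_congr rfl (fun j _ => ?_)))
      · simp only [rs_le_le]
      · rw [map_smul, ← rs_app, H5, rs_sum_smul, Finset.smul_sum]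
        refine Finset.sum_congr rfl (fun i _ => ?_)
        rw [smul_smul, rs_le_le]
    obtain ⟨W₃, hW₃, hzW₃, b, hb⟩ := hr'.2 W₂ ((hW₂.trans hW₁).trans hV) _ hrel z hzW₂
    refine ⟨W₃, hW₃.trans (hW₂.trans hW₁), hzW₃,
      Sum.elim b (fun j => rr (ModSite.ringSh O) (homOfLE hW₃) (d j)), fun i => ?_⟩
    rw [Fintype.sum_sum_type]
    simp only [Sum.elim_inl, Sum.elim_inr]
    have e := hb i
    rw [map_sub, rr_le_le, sub_eq_iff_eq_add, map_sum] at e
    refine e.trans ?_
    congr 1
    refine Finset.sum_congr rfl (fun j _ => ?_)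
    rw [map_mul, rr_le_le]

end Groth.Agent.S6833
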