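import Groth.Statements.S8526
import Mathlib
import Groth.Agent.Lib.Helper43.EtSupp

set_option autoImplicit false
universe u
open CategoryTheory CategoryTheory.Limits AlgebraicGeometry Opposite
open EtPBC

namespace Groth.Agent.S8526

open Groth.Agent.Lib.Helper43.EtSupp Groth.Agent.Lib.Helper43.EtConstr

open Groth.Agent.Lib.Helper43.EtSupp Groth.Agent.Lib.Helper43.EtConstr


/-- Let F be a constructible abelian sheaf on the small etale site of a scheme X. Then the support of F,
the set of points of X over which some geometric stalk of F is nonzero, is a locally constructible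
subset of X. -/
theorem result {X : Scheme.{u}} (F : EtCoh.Ab X) (hF : EtPBC.IsConstructible F) :
    Topology.IsLocallyConstructible (EtPBC.supp F) := by
  intro x
  obtain ⟨W, hW, hxW, -⟩ := exists_affine_nhd_le (⊤ : X.Opens) x trivial
  refine ⟨(W : Set X), W.isOpen.mem_nhds hxW, W.isOpen, ?_⟩
  have : PrespectralSpace ↥(W : Set X) := inferInstanceAs (PrespectralSpace W.toScheme)
  exact isConstructible_supp_of_strata F (W : Set X) ((adaptedStrata_iff F _).1 (hF W hW))

end Groth.Agent.S8526
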