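import Groth.Statements.S0660
import Mathlib
import Groth.Agent.S0100
import Groth.Agent.Lib.Helper43.EtOpenSub
import Groth.Agent.Lib.Helper43.ClopenExt

set_option autoImplicit false
open CategoryTheory CategoryTheory.Limits AlgebraicGeometry Opposite
universe u
open EtCore

namespace Groth.Agent.S0660

open Groth.Agent.Lib.Helper43 Groth.Agent.Lib.Helper43.ClopenExt

/-- a morphism of étale schemes with invertible underlying morphism is invertible -/
lemma isIso_of_isIso_left {Z : Scheme.{u}} {A B : Z.Etale} (k : A ⟶ B) (hk : IsIso k.left) :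
    IsIso k := by
  have h1 : IsIso ((Scheme.Etale.forget Z ⋙ Over.forget Z).map k) := hk
  exact isIso_of_reflects_iso k (Scheme.Etale.forget Z ⋙ Over.forget Z)

/-- a monomorphism of étale schemes is an open immersion -/
lemma isOpenImmersion_of_mono {Z : Scheme.{u}} {A B : Z.Etale} (k : A ⟶ B) (hk : Mono k.left) :
    IsOpenImmersion k.left := by
  have h1 : Etale k.left := inferInstance
  exact IsOpenImmersion.of_flat_of_mono k.left


/-- Let i : Z -> X be a closed immersion, U and U' schemes etale over X, and h a Z-morphism from U x_X Z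
to U' x_X Z. Then there are an etale X-scheme W and X-morphisms a : W -> U, b : W -> U' such that
the base change of a to Z is an isomorphism and h is the base change of b composed with the inverse
of the base change of a. -/
theorem result {Z X : Scheme.{u}} (i : Z ⟶ X) [IsClosedImmersion i] (U U' : X.Etale)
    (h : (EtCoh.bc i).obj U ⟶ (EtCoh.bc i).obj U') :
    ∃ (W : X.Etale) (a : W ⟶ U) (b : W ⟶ U'), IsIso ((EtCoh.bc i).map a) ∧ (EtCoh.bc i).map a ≫ h = (EtCoh.bc i).map b := by
  obtain ⟨UL, uh, hu, rfl⟩ : ∃ (UL : Scheme.{u}) (uh : UL ⟶ X) (hu : Etale uh),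
      U = @Scheme.Etale.mk _ _ uh hu := ⟨U.left, U.hom, inferInstance, rfl⟩
  obtain ⟨UL', uh', hu', rfl⟩ : ∃ (UL' : Scheme.{u}) (uh' : UL' ⟶ X) (hu' : Etale uh'),
      U' = @Scheme.Etale.mk _ _ uh' hu' := ⟨U'.left, U'.hom, inferInstance, rfl⟩
  let P : Scheme.{u} := pullback uh uh'
  let p : P ⟶ X := pullback.fst uh uh' ≫ uh
  let PE : X.Etale := Scheme.Etale.mk p
  let prU : PE ⟶ Scheme.Etale.mk uh := MorphismProperty.Over.homMk (pullback.fst uh uh') rfl
  let prU' : PE ⟶ Scheme.Etale.mk uh' :=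
    MorphismProperty.Over.homMk (pullback.snd uh uh') (pullback.condition.symm)
  let UZ : Scheme.{u} := pullback uh i
  let UZ' : Scheme.{u} := pullback uh' i
  let PZ : Scheme.{u} := pullback p i
  let hl : UZ ⟶ UZ' := h.left
  have hhl : hl ≫ pullback.snd uh' i = pullback.snd uh i := EtOpenSub.hom_left_eq h
  let π₁ : PZ ⟶ UZ := ((EtCoh.bc i).map prU).left
  let π₂ : PZ ⟶ UZ' := ((EtCoh.bc i).map prU').left
  have π₁_fst : π₁ ≫ pullback.fst uh i = pullback.fst p i ≫ pullback.fst uh uh' :=
    S0100.bc_map_left_fst i prU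
  have π₁_snd : π₁ ≫ pullback.snd uh i = pullback.snd p i := S0100.bc_map_left_snd i prU
  have π₂_fst : π₂ ≫ pullback.fst uh' i = pullback.fst p i ≫ pullback.snd uh uh' :=
    S0100.bc_map_left_fst i prU'
  have π₂_snd : π₂ ≫ pullback.snd uh' i = pullback.snd p i := S0100.bc_map_left_snd i prU'
  -- the graph of `h`
  have hγ₀ : pullback.fst uh i ≫ uh = (hl ≫ pullback.fst uh' i) ≫ uh' := by
    rw [Category.assoc, pullback.condition, pullback.condition, ← Category.assoc, hhl]
  let γ₀ : UZ ⟶ P := pullback.lift (pullback.fst uh i) (hl ≫ pullback.fst uh' i) hγ₀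
  have hγ₁ : γ₀ ≫ p = pullback.snd uh i ≫ i := by
    change γ₀ ≫ pullback.fst uh uh' ≫ uh = _
    rw [← Category.assoc, pullback.lift_fst, pullback.condition]
  let γ : UZ ⟶ PZ := pullback.lift γ₀ (pullback.snd uh i) hγ₁
  have γ_fst : γ ≫ pullback.fst p i = γ₀ := pullback.lift_fst _ _ _
  have γ_snd : γ ≫ pullback.snd p i = pullback.snd uh i := pullback.lift_snd _ _ _
  have γπ₁ : γ ≫ π₁ = 𝟙 UZ := by
    apply pullback.hom_ext
    · rw [Category.assoc, π₁_fst, ← Category.assoc, γ_fst, pullback.lift_fst, Category.id_comp]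
    · rw [Category.assoc, π₁_snd, γ_snd, Category.id_comp]
  have γπ₂ : γ ≫ π₂ = hl := by
    apply pullback.hom_ext
    · rw [Category.assoc, π₂_fst, ← Category.assoc, γ_fst, pullback.lift_snd]
    · rw [Category.assoc, π₂_snd, γ_snd, hhl]
  let γE : (EtCoh.bc i).obj (Scheme.Etale.mk uh) ⟶ (EtCoh.bc i).obj PE :=
    MorphismProperty.Over.homMk γ γ_snd
  have hγmono : Mono γ := by
    have : Mono (γ ≫ π₁) := by rw [γπ₁]; infer_instance
    exact mono_of_mono γ π₁
  have hγoi : IsOpenImmersion γ := isOpenImmersion_of_mono γE hγmono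
  -- the open subscheme `O` of `P`
  let ι : PZ ⟶ P := pullback.fst p i
  have hι : IsClosedImmersion ι := inferInstance
  obtain ⟨O₀, hO₀, hO₀eq⟩ :=
    ι.isClosedEmbedding.isInducing.isOpen_iff.1 (IsOpenImmersion.isOpen_range γ)
  let O : P.Opens := ⟨O₀, hO₀⟩
  let W : X.Etale := sub p O
  let a : W ⟶ Scheme.Etale.mk uh := subι p O ≫ prU
  let b : W ⟶ Scheme.Etale.mk uh' := subι p O ≫ prU'
  let WZ : Scheme.{u} := pullback (O.ι ≫ p) i
  let κ : WZ ⟶ PZ := ((EtCoh.bc i).map (subι p O)).left
  have κ_fst : κ ≫ ι = pullback.fst (O.ι ≫ p) i ≫ O.ι := S0100.bc_map_left_fst i (subι p O)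
  have κ_snd : κ ≫ pullback.snd p i = pullback.snd (O.ι ≫ p) i :=
    S0100.bc_map_left_snd i (subι p O)
  have hκmono : Mono κ := by
    constructor
    intro T a₁ a₂ h12
    apply pullback.hom_ext
    · apply (cancel_mono O.ι).1
      have e : (a₁ ≫ κ) ≫ ι = (a₂ ≫ κ) ≫ ι := congrArg (fun m => m ≫ ι) h12
      rw [Category.assoc, Category.assoc, κ_fst] at e
      rw [Category.assoc, Category.assoc]
      exact e
    · have e : (a₁ ≫ κ) ≫ pullback.snd p i = (a₂ ≫ κ) ≫ pullback.snd p i :=
        congrArg (fun m => m ≫ pullback.snd p i) h12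
      rw [Category.assoc, Category.assoc, κ_snd] at e
      exact e
  have hκoi : IsOpenImmersion κ := isOpenImmersion_of_mono ((EtCoh.bc i).map (subι p O)) hκmono
  have hrange : Set.range κ.base = Set.range γ.base := by
    rw [← hO₀eq]
    ext q
    constructor
    · rintro ⟨w, rfl⟩
      change ι.base (κ.base w) ∈ O₀
      have : ι.base (κ.base w) = O.ι.base ((pullback.fst (O.ι ≫ p) i).base w) :=
        congrArg (fun m => m.base w) κ_fst
      rw [this]
      exact ((pullback.fst (O.ι ≫ p) i).base w).2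
    · intro hq
      have hq' : ι.base q ∈ O₀ := hq
      have hc : (O.ι ≫ p).base (⟨ι.base q, hq'⟩ : O) = i.base ((pullback.snd p i).base q) := by
        change p.base (ι.base q) = _
        change (pullback.fst p i ≫ p).base q = (pullback.snd p i ≫ i).base q
        rw [pullback.condition]
      obtain ⟨w, hw1, hw2⟩ := Scheme.Pullback.exists_preimage_pullback
        (f := O.ι ≫ p) (g := i) (⟨ι.base q, hq'⟩ : O) ((pullback.snd p i).base q) hc
      refine ⟨w, ι.isClosedEmbedding.injective ?_⟩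
      have : ι.base (κ.base w) = O.ι.base ((pullback.fst (O.ι ≫ p) i).base w) :=
        congrArg (fun m => m.base w) κ_fst
      rw [this]
      change O.ι.base ((pullback.fst (O.ι ≫ p) i) w) = ι.base q
      rw [hw1]
      rfl
  let θ : WZ ≅ UZ := IsOpenImmersion.isoOfRangeEq κ γ hrange
  have hθ : θ.hom ≫ γ = κ := IsOpenImmersion.isoOfRangeEq_hom_fac _ _ _
  let al : WZ ⟶ UZ := ((EtCoh.bc i).map a).left
  let bl : WZ ⟶ UZ' := ((EtCoh.bc i).map b).left
  have ha0 : al = κ ≫ π₁ := by
    change ((EtCoh.bc i).map (subι p O ≫ prU)).left = _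
    rw [Functor.map_comp]
    rfl
  have hb0 : bl = κ ≫ π₂ := by
    change ((EtCoh.bc i).map (subι p O ≫ prU')).left = _
    rw [Functor.map_comp]
    rfl
  have ha : al = θ.hom := by
    rw [ha0, ← hθ, Category.assoc, γπ₁, Category.comp_id]
  have hb : bl = θ.hom ≫ hl := by
    rw [hb0, ← hθ, Category.assoc, γπ₂]
  have hiso : IsIso al := by rw [ha]; infer_instance
  refine ⟨W, a, b, isIso_of_isIso_left _ hiso, ?_⟩
  apply MorphismProperty.Over.Hom.ext
  change al ≫ hl = bl
  rw [ha, hb]

end Groth.Agent.S0660
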