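import Groth.Statements.S18415
import Mathlib
import Groth.Agent.Lib.Helper43.EtOpenSub
import Groth.Agent.Lib.Helper43.Kummer

set_option autoImplicit false
universe u
open CategoryTheory AlgebraicGeometry
open EtCoh

namespace Groth.Agent.S18415

open Opposite Polynomial Groth.Agent.Lib.Helper43 Groth.Agent.Lib.Helper43.MuConst

/-- the standard étale pair `(X^p - X - b, 1)` over a ring in which `p = 0`. -/
noncomputable def asPair {B : Type u} [CommRing B] (p : ℕ) (hp : p.Prime) (h0 : (p : B) = 0) (b : B) :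
    StandardEtalePair B where
  f := X ^ p - X - C b
  monic_f := by
    have h1 : (X ^ p - X - C b : B[X]) = X ^ p - (X + C b) := by ring
    rw [h1]
    refine monic_X_pow_sub ((degree_add_le _ _).trans_lt (max_lt ?_ ?_))
    · exact degree_X_le.trans_lt (by exact_mod_cast hp.one_lt)
    · exact degree_C_le.trans_lt (by exact_mod_cast hp.pos)
  g := 1
  cond := by
    refine ⟨-1, 0, 0, ?_⟩
    rw [derivative_sub, derivative_sub, derivative_C, derivative_X, derivative_X_pow, sub_zero]
    have : (C (p : B) : B[X]) = 0 := by rw [h0, C_0]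
    rw [this, zero_mul, zero_sub, mul_zero, add_zero, pow_zero]
    ring

lemma asPair_X {B : Type u} [CommRing B] (p : ℕ) (hp : p.Prime) (h0 : (p : B) = 0) (b : B) :
    (asPair p hp h0 b).X ^ p - (asPair p hp h0 b).X = algebraMap B (asPair p hp h0 b).Ring b := by
  have h := (asPair p hp h0 b).hasMap_X.1
  have hf : (asPair p hp h0 b).f = X ^ p - X - C b := rfl
  rw [hf, map_sub, map_sub, map_pow, aeval_X, aeval_C] at h
  exact sub_eq_zero.mp h

/-- lying over for the Artin–Schreier cover. -/
lemma asPair_exists_prime {B : Type u} [CommRing B] (p : ℕ) (hp : p.Prime) (h0 : (p : B) = 0) (b : B)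
    (𝔭 : Ideal B) [𝔭.IsPrime] :
    ∃ q : Ideal (asPair p hp h0 b).Ring, q.IsPrime ∧
      q.comap (algebraMap B (asPair p hp h0 b).Ring) = 𝔭 := by
  let K := AlgebraicClosure 𝔭.ResidueField
  let P : K[X] := X ^ p - X - C (algebraMap B K b)
  have hdeg : P.degree ≠ 0 := by
    have h1 : P = X ^ p - (X + C (algebraMap B K b)) := by ring
    have h2 : (X + C (algebraMap B K b) : K[X]).degree < ((p : ℕ) : WithBot ℕ) := by
      refine (degree_X_add_C _).trans_lt ?_
      exact_mod_cast hp.one_lt
    rw [h1, degree_sub_eq_left_of_degree_lt (by rw [degree_X_pow]; exact h2), degree_X_pow]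
    exact_mod_cast hp.ne_zero
  obtain ⟨x, hx⟩ := IsAlgClosed.exists_root P hdeg
  have hx' : x ^ p - x - algebraMap B K b = 0 := by
    have := hx
    simp only [P, IsRoot.def, eval_sub, eval_pow, eval_X, eval_C] at this
    exact this
  have hmap : (asPair p hp h0 b).HasMap x := by
    constructor
    · have hf : (asPair p hp h0 b).f = X ^ p - X - C b := rfl
      rw [hf, map_sub, map_sub, map_pow, aeval_X, aeval_C, hx']
    · have hg : (asPair p hp h0 b).g = 1 := rfl
      rw [hg, map_one]
      exact isUnit_one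
  let φ := (asPair p hp h0 b).lift x hmap
  refine ⟨RingHom.ker φ.toRingHom, RingHom.ker_isPrime _, ?_⟩
  rw [RingHom.comap_ker]
  have h1 : φ.toRingHom.comp (algebraMap B (asPair p hp h0 b).Ring) = algebraMap B K :=
    φ.comp_algebraMap
  rw [h1]
  ext y
  rw [RingHom.mem_ker, IsScalarTower.algebraMap_apply B 𝔭.ResidueField K, map_eq_zero,
    Ideal.algebraMap_residueField_eq_zero]

variable {S : Scheme.{u}}

theorem isLocallySurjective_as (p : ℕ) (hp : p.Prime) (h0 : (p : Γ(S, ⊤)) = 0) :
    Presheaf.IsLocallySurjective S.smallEtaleTopology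
      (W4c5etcohweilstudent.artinSchreierEndo S p hp h0).hom where
  imageSieve_mem {U} s := by
    refine (EtOpenSub.mem_smallEtaleTopology_iff' U _).2 (fun x => ?_)
    let 𝒰 := U.left.affineOpenCover
    obtain ⟨x₀, hx₀⟩ := 𝒰.covers x
    let B : CommRingCat.{u} := 𝒰.X (𝒰.idx x)
    let j : Spec B ⟶ U.left := 𝒰.f (𝒰.idx x)
    let ρ : Γ(U.left, ⊤) →+* B := ((Scheme.ΓSpecIso B).hom.hom).comp (j.appTop).hom
    have hpU : (p : Γ(U.left, ⊤)) = 0 := W4c5etcohweilstudent.natCast_eq_zero_etale p h0 U
    have hpB : (p : B) = 0 := by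
      have := congrArg ρ hpU
      rwa [map_natCast, map_zero] at this
    let s₀ : Γ(U.left, ⊤) := ULift.down s
    let b : B := ρ s₀
    let P := asPair p hp hpB b
    let B' : CommRingCat.{u} := CommRingCat.of P.Ring
    let φ : B ⟶ B' := CommRingCat.ofHom (algebraMap B P.Ring)
    have hφ : Etale (Spec.map φ) :=
      HasRingHomProperty.Spec_iff.mpr (RingHom.etale_algebraMap.mpr inferInstance)
    let V : S.Etale := Scheme.Etale.mk (Spec.map φ ≫ j ≫ U.hom)
    let g : V ⟶ U := MorphismProperty.Over.homMk (Spec.map φ ≫ j) (Category.assoc _ _ _)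
    obtain ⟨q, hq, hqp⟩ := asPair_exists_prime p hp hpB b x₀.asIdeal
    let y : Spec B' := ⟨q, hq⟩
    have hy : (Spec.map φ) y = x₀ := PrimeSpectrum.ext hqp
    refine ⟨V, g, y, ?_, ?_⟩
    · have hX := asPair_X p hp hpB b
      let t : Γ(V.left, ⊤) := (Scheme.ΓSpecIso B').inv.hom P.X
      refine ⟨ULift.up t, ?_⟩
      change ULift.up (t ^ p - t) = ULift.up ((g.left.appTop).hom s₀)
      congr 1
      have hg : g.left.appTop = j.appTop ≫ (Spec.map φ).appTop := by
        change (Spec.map φ ≫ j).appTop = _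
        rw [Scheme.Hom.comp_appTop]
      rw [hg, Spec_map_appTop]
      change ((Scheme.ΓSpecIso B').inv.hom P.X) ^ p - (Scheme.ΓSpecIso B').inv.hom P.X =
        (Scheme.ΓSpecIso B').inv.hom (algebraMap B P.Ring (ρ s₀))
      rw [← map_pow, ← map_sub, hX]
    · change (Spec.map φ ≫ j) y = x
      rw [Scheme.Hom.comp_apply, hy, hx₀]


/-- Let p be a prime and X a scheme with p = 0 in Γ(X, O_X). Then the Artin–Schreier endomorphism x ↦
x^p − x of the additive group sheaf G_a on the small étale site of X is an epimorphism of abelian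
étale sheaves (the right-hand exactness of 0 → Z/p → G_a → G_a → 0 on X_et). (The published example
takes X a variety over a field of characteristic p; this row assumes only that p = 0 in Γ(X, O_X).) -/
theorem result
    (p : ℕ) (hp : p.Prime) {X : Scheme.{u}} (h0 : (p : Γ(X, ⊤)) = 0) :
    Epi (W4c5etcohweilstudent.artinSchreierEndo X p hp h0) := by
  have : Sheaf.IsLocallySurjective (W4c5etcohweilstudent.artinSchreierEndo X p hp h0) :=
    isLocallySurjective_as p hp h0
  exact Sheaf.epi_of_isLocallySurjective _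

end Groth.Agent.S18415
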