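import Groth.Statements.S8741
import Groth.Agent.Lib.Helper44.AdeqHit

set_option autoImplicit false
universe u
open CategoryTheory Limits
open Adeq
open Groth.Agent.Lib.Helper44

namespace Groth.Agent.S8741

/-- An adequate functor `F` on `A`-algebras admits a surjection `L → F` from a direct sum `L` of
linearly adequate functors: there are linearly adequate `L_i`, a coproduct cocone of the family
which is a colimit, and an epimorphism from its point onto `F`. -/
theorem result (A : Type u) [CommRing A] (F : Adeq.MVF A) (hF : Adeq.adequate A F) :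
    ∃ (ι : Type (u + 1)) (L : ι → Adeq.MVF A), (∀ i, Adeq.linAdequate A (L i)) ∧
      ∃ (c : Cofan L) (_ : IsColimit c) (π : c.pt ⟶ F), Epi π := by
  classical
  obtain ⟨M, N, φ, ⟨e⟩⟩ := hF
  let ι : Type (u + 1) := Σ B : Adeq.Alg A, (kernel ((Adeq.underline A).map φ)).obj (Adeq.pt B)
  choose I K hI hK φ₀ α β w x hx using fun i : ι => exists_hit φ i.1 i.2
  let L : ι → Adeq.MVF A := fun i => kernel ((Adeq.underline A).map (φ₀ i))
  have hL : ∀ i, Adeq.linAdequate A (L i) := by
    intro i
    haveI := hI i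
    haveI := hK i
    exact ⟨freeMod A (I i), freeMod A (K i), φ₀ i, inferInstance, inferInstance, inferInstance,
      inferInstance, ⟨Iso.refl _⟩⟩
  let lam : ∀ i, L i ⟶ kernel ((Adeq.underline A).map φ) := fun i =>
    kernel.map ((Adeq.underline A).map (φ₀ i)) ((Adeq.underline A).map φ)
      ((Adeq.underline A).map (α i)) ((Adeq.underline A).map (β i))
      (by rw [← Functor.map_comp, ← Functor.map_comp, w i])
  refine ⟨ι, L, hL, Cofan.mk (∐ L) (Sigma.ι L), coproductIsCoproduct L,
    Sigma.desc lam ≫ e.inv, ?_⟩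
  apply PresheafOfModules.epi_of_surjective
  intro X ξ
  obtain ⟨⟨B⟩⟩ := X
  let i : ι := ⟨B, e.hom.app (Adeq.pt B) ξ⟩
  refine ⟨(Sigma.ι L i).app (Adeq.pt B) (x i), ?_⟩
  change (Sigma.ι L i ≫ Sigma.desc lam ≫ e.inv).app (Adeq.pt B) (x i) = ξ
  rw [Sigma.ι_desc_assoc]
  change e.inv.app (Adeq.pt B) ((lam i).app (Adeq.pt B) (x i)) = ξ
  rw [hx i]
  change (e.hom ≫ e.inv).app (Adeq.pt B) ξ = ξ
  rw [e.hom_inv_id]
  rfl

end Groth.Agent.S8741
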