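import Groth.Statements.S0544
import Mathlib

set_option autoImplicit false
universe u
open CAlg

namespace Groth.Agent.S0544

/-- A finite product of copies of a precomplete ring is precomplete. -/
theorem isPrecomplete_pi {R : Type*} [CommRing R] (I : Ideal R) [IsPrecomplete I R]
    (ι : Type*) [Fintype ι] [DecidableEq ι] : IsPrecomplete I (ι → R) := by
  refine ⟨fun f hf => ?_⟩
  -- componentwise Cauchy
  have hcomp : ∀ i, ∀ {m n : ℕ}, m ≤ n → f m i ≡ f n i [SMOD (I ^ m • ⊤ : Submodule R R)] := by
    intro i m n hmn
    have := hf hmn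
    rw [SModEq.sub_mem] at this ⊢
    have h2 : (LinearMap.proj i : (ι → R) →ₗ[R] R) (f m - f n) ∈
        (I ^ m • ⊤ : Submodule R R) := by
      have h3 : (f m - f n) ∈ (I ^ m • ⊤ : Submodule R (ι → R)) := this
      have h4 := Submodule.mem_map_of_mem (f := (LinearMap.proj i : (ι → R) →ₗ[R] R)) h3
      rw [Submodule.map_smul''] at h4
      exact Submodule.smul_mono le_rfl le_top h4
    simpa using h2
  choose L hL using fun i => IsPrecomplete.prec' (I := I) (fun n => f n i) (hcomp i)
  refine ⟨L, fun n => ?_⟩
  rw [SModEq.sub_mem]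
  have h5 : f n - L = ∑ i, (LinearMap.single R (fun _ => R) i) (f n i - L i) := by
    ext j
    simp [Finset.sum_apply, Pi.single_apply]
  rw [h5]
  refine Submodule.sum_mem _ (fun i _ => ?_)
  have h6 : f n i - L i ∈ (I ^ n • ⊤ : Submodule R R) := by
    have := hL i n
    rwa [SModEq.sub_mem] at this
  have h7 := Submodule.mem_map_of_mem (f := (LinearMap.single R (fun _ => R) i)) h6
  rw [Submodule.map_smul''] at h7
  exact Submodule.smul_mono le_rfl le_top h7

/-- Let `R` be complete with respect to an ideal `I` and `M` an `R`-module which is `I`-adically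
separated and such that `M/IM` is finitely generated. Then `M` is a finitely generated `R`-module. -/
theorem result (R : Type u) [CommRing R]
    (I : Ideal R) [IsAdicComplete I R] (M : Type u) [AddCommGroup M] [Module R M] [IsHausdorff I M]
    (h : Module.Finite R (M ⧸ (I • ⊤ : Submodule R M))) : Module.Finite R M := by
  classical
  obtain ⟨n, g, hg⟩ := Module.Finite.exists_fin' R (M ⧸ (I • ⊤ : Submodule R M))
  choose m hm using fun i => Submodule.mkQ_surjective (I • ⊤ : Submodule R M)
    (g (Pi.single i 1))
  let f : (Fin n → R) →ₗ[R] M := (Pi.basisFun R (Fin n)).constr R m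
  have hf : (Submodule.mkQ (I • ⊤ : Submodule R M)) ∘ₗ f = g := by
    apply (Pi.basisFun R (Fin n)).ext
    intro i
    simp [f, hm]
  have : IsPrecomplete I (Fin n → R) := isPrecomplete_pi I (Fin n)
  have hsurj : Function.Surjective f := by
    apply surjective_of_mkQ_comp_surjective (I := I)
    rw [hf]; exact hg
  exact Module.Finite.of_surjective f hsurj

end Groth.Agent.S0544
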