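import Groth.Statements.S8804
import Groth.Agent.Lib.Helper44.RigPoint

set_option autoImplicit false
universe u
open AdicRing

namespace Groth.Agent.S8804


open Groth.Agent.Lib.Helper44 in
theorem dim_eq_one_iff (B : Type*) [CommRing B] [IsDomain B] :
    ringKrullDim B = 1 ↔ Ring.KrullDimLE 1 B ∧ ¬ IsField B := by
  constructor
  · intro h
    refine ⟨Ring.krullDimLE_iff.mpr (by rw [h]; rfl), fun hF => ?_⟩
    rw [ringKrullDim_eq_zero_of_isField hF] at h
    exact zero_ne_one h
  · rintro ⟨h1, hF⟩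
    apply eq_of_le_of_not_lt (by rw [← Nat.cast_one]; exact Ring.krullDimLE_iff.mp h1)
    intro h'
    apply hF
    have h'' : ringKrullDim B ≤ 0 := Order.le_of_lt_succ h'
    rw [← Nat.cast_zero, ← Ring.krullDimLE_iff] at h''
    exact Ring.KrullDimLE.isField_of_isDomain

/-- Let A be a Noetherian ring which is complete for the adic topology of an ideal I, and let q be a
prime ideal of A. The following are equivalent: (1) I ⊄ q and q is maximal among the primes not
containing I; (5) dim(A/q) = 1 and I ⊄ q; (8) A/q is a one-dimensional complete local ring whose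
maximal ideal is the radical of the image of I (stated as: the Krull dimension of A/q is 1, every
maximal ideal of A/q equals the radical of I(A/q), and A/q is adically complete for that radical).
(The other equivalent forms, for other ideals of definition or for the induced topology, are not
stated.) -/
theorem result (A : Type u) [CommRing A] [IsNoetherianRing A] (I : Ideal A) [IsAdicComplete I A] (q : PrimeSpectrum A) : List.TFAE [¬ I ≤ q.asIdeal ∧ ∀ q' : PrimeSpectrum A, q ≤ q' → ¬ I ≤ q'.asIdeal → q' = q, ringKrullDim (A ⧸ q.asIdeal) = 1 ∧ ¬ I ≤ q.asIdeal, ringKrullDim (A ⧸ q.asIdeal) = 1 ∧ (∀ m : Ideal (A ⧸ q.asIdeal), m.IsMaximal → m = (I.map (Ideal.Quotient.mk q.asIdeal)).radical) ∧ IsAdicComplete (I.map (Ideal.Quotient.mk q.asIdeal)).radical (A ⧸ q.asIdeal)] := by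
  classical
  have hqprime : q.asIdeal.IsPrime := q.isPrime
  have hsurj : Function.Surjective (Ideal.Quotient.mk q.asIdeal) := Ideal.Quotient.mk_surjective
  have hker : RingHom.ker (Ideal.Quotient.mk q.asIdeal) = q.asIdeal := Ideal.mk_ker
  have hcomplete : IsAdicComplete (I.map (Ideal.Quotient.mk q.asIdeal)) (A ⧸ q.asIdeal) :=
    Groth.Agent.Lib.Helper44.isAdicComplete_quotient_ring I q.asIdeal
  have hJbot : I.map (Ideal.Quotient.mk q.asIdeal) = ⊥ ↔ I ≤ q.asIdeal := by
    rw [Ideal.map_eq_bot_iff_le_ker, hker]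
  have hJle : ∀ m : Ideal (A ⧸ q.asIdeal), m.IsMaximal → I.map (Ideal.Quotient.mk q.asIdeal) ≤ m :=
    fun m hm => Groth.Agent.Lib.Helper44.le_of_isMaximal_of_isAdicComplete _ m hm
  have hnotfield : ¬ I ≤ q.asIdeal → ¬ IsField (A ⧸ q.asIdeal) := by
    intro hI hF
    have hbot : (⊥ : Ideal (A ⧸ q.asIdeal)).IsMaximal := Ring.isField_iff_maximal_bot.mp hF
    exact hI (hJbot.mp (le_bot_iff.mp (hJle ⊥ hbot)))
  tfae_have 1 → 2 := by
    rintro ⟨hI, hmax⟩
    refine ⟨(dim_eq_one_iff _).mpr ⟨?_, hnotfield hI⟩, hI⟩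
    obtain ⟨x, hxI, hxq⟩ := Set.not_subset.mp hI
    apply Groth.Agent.Lib.Helper44.krullDimLE_one_of_forall_mem (Ideal.Quotient.mk q.asIdeal x)
    · rwa [Ne, Ideal.Quotient.eq_zero_iff_mem]
    · intro p hp hp0
      have hq' : q ≤ ⟨p.comap (Ideal.Quotient.mk q.asIdeal), inferInstance⟩ := by
        change q.asIdeal ≤ p.comap (Ideal.Quotient.mk q.asIdeal)
        intro a ha
        rw [Ideal.mem_comap, Ideal.Quotient.eq_zero_iff_mem.mpr ha]
        exact p.zero_mem
      by_contra hxp
      have hne : ¬ I ≤ p.comap (Ideal.Quotient.mk q.asIdeal) := fun hle => hxp (hle hxI)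
      have heq := hmax ⟨p.comap (Ideal.Quotient.mk q.asIdeal), inferInstance⟩ hq' hne
      apply hp0
      have h1 : p.comap (Ideal.Quotient.mk q.asIdeal) = q.asIdeal := congrArg PrimeSpectrum.asIdeal heq
      rw [← Ideal.map_comap_of_surjective _ hsurj p, h1, Ideal.map_eq_bot_iff_le_ker, hker]
  tfae_have 2 → 1 := by
    rintro ⟨hdim, hI⟩
    refine ⟨hI, fun q' hqq' hIq' => ?_⟩
    have hK : Ring.KrullDimLE 1 (A ⧸ q.asIdeal) := ((dim_eq_one_iff _).mp hdim).1
    by_contra hne
    have hq'prime : q'.asIdeal.IsPrime := q'.isPrime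
    have hle : RingHom.ker (Ideal.Quotient.mk q.asIdeal) ≤ q'.asIdeal := by rw [hker]; exact hqq'
    have hp' : (q'.asIdeal.map (Ideal.Quotient.mk q.asIdeal)).IsPrime :=
      Ideal.map_isPrime_of_surjective hsurj hle
    have hp'0 : q'.asIdeal.map (Ideal.Quotient.mk q.asIdeal) ≠ ⊥ := by
      rw [Ne, Ideal.map_eq_bot_iff_le_ker, hker]
      intro hle'
      exact hne (PrimeSpectrum.ext (le_antisymm hle' hqq'))
    have hmax := Ideal.IsPrime.isMaximal_of_ne_bot hp' hp'0
    have h1 := hJle _ hmax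
    apply hIq'
    have h2 := Ideal.comap_mono (f := Ideal.Quotient.mk q.asIdeal) h1
    rw [Ideal.comap_map_of_surjective' _ hsurj, Ideal.comap_map_of_surjective' _ hsurj,
      sup_eq_left.mpr hle] at h2
    exact le_trans le_sup_left h2
  tfae_have 2 → 3 := by
    rintro ⟨hdim, hI⟩
    have hK : Ring.KrullDimLE 1 (A ⧸ q.asIdeal) := ((dim_eq_one_iff _).mp hdim).1
    have hJ0 : I.map (Ideal.Quotient.mk q.asIdeal) ≠ ⊥ := fun h => hI (hJbot.mp h)
    refine ⟨hdim, ?_, ?_⟩
    · intro m hm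
      apply le_antisymm
      · rw [Ideal.radical_eq_sInf]
        refine le_sInf fun p hp => ?_
        have hp0 : p ≠ ⊥ := by
          rintro rfl
          exact hJ0 (le_bot_iff.mp hp.1)
        have hpmax := Ideal.IsPrime.isMaximal_of_ne_bot hp.2 hp0
        exact (Groth.Agent.Lib.Helper44.maximal_unique_of_isAdicComplete _ hJ0 m p hm hpmax).le
      · exact (Ideal.IsPrime.radical_le_iff hm.isPrime).mpr (hJle m hm)
    · obtain ⟨r, hr⟩ := Ideal.exists_radical_pow_le_of_fg (I.map (Ideal.Quotient.mk q.asIdeal))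
        (IsNoetherian.noetherian _)
      exact Groth.Agent.Lib.Helper44.isAdicComplete_of_le_of_pow_le _ _ Ideal.le_radical r hr
  tfae_have 3 → 2 := by
    rintro ⟨hdim, hmax, -⟩
    refine ⟨hdim, fun hI => ?_⟩
    have hJ0 : I.map (Ideal.Quotient.mk q.asIdeal) = ⊥ := hJbot.mpr hI
    obtain ⟨m, hm⟩ := Ideal.exists_maximal (A ⧸ q.asIdeal)
    have h1 := hmax m hm
    rw [hJ0, Ideal.radical_bot_of_isReduced] at h1
    have hF : IsField (A ⧸ q.asIdeal) := Ring.isField_iff_maximal_bot.mpr (h1 ▸ hm)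
    exact ((dim_eq_one_iff _).mp hdim).2 hF
  tfae_finish

end Groth.Agent.S8804
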