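import Groth.Statements.S12729
import Groth.Agent.Lib.Helper65.ArtQuot
-- import your own Groth.Agent.* helpers here

set_option autoImplicit false
universe u v
open CategoryTheory
open ArtFun

namespace Groth.Agent.S12729

open Groth.Agent.Lib.Helper65 ArtFun.Art

section aux

variable {Λ : Type u} {k : Type u} [CommRing Λ] [Field k] [Algebra Λ k]

/-- The lifting predicate on ideals. -/
def Lifts {F : ArtFun.Art Λ k ⥤ Type v} {B A : ArtFun.Art Λ k} (p : B ⟶ A) (x : F.obj A)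
    (J : Ideal B) : Prop :=
  ∃ (hJ : J ≤ RingHom.ker p.toAlgHom) (hJ' : J ≤ IsLocalRing.maximalIdeal B),
    ∃ y : F.obj (ArtFun.Art.quot B J hJ'), F.map (ArtFun.Art.quotFactor hJ' p hJ) y = x

theorem lifts_ker {F : ArtFun.Art Λ k ⥤ Type v} {B A : ArtFun.Art Λ k} (p : B ⟶ A)
    (hp : Function.Surjective p) (x : F.obj A) : Lifts p x (RingHom.ker p.toAlgHom) := by
  refine ⟨le_rfl, art_ker_le_maximalIdeal p, ?_⟩
  haveI := quotFactor_ker_isIso p hp
  refine ⟨F.map (inv (quotFactor (art_ker_le_maximalIdeal p) p le_rfl)) x, ?_⟩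
  rw [← FunctorToTypes.map_comp_apply, IsIso.inv_hom_id, FunctorToTypes.map_id_apply]

theorem lifts_mono {F : ArtFun.Art Λ k ⥤ Type v} {B A : ArtFun.Art Λ k} (p : B ⟶ A)
    (x : F.obj A) {J K : Ideal B} (hJK : J ≤ K) (hK : K ≤ RingHom.ker p.toAlgHom)
    (h : Lifts p x J) : Lifts p x K := by
  obtain ⟨hJ, hJ', y, hy⟩ := h
  have hK' : K ≤ IsLocalRing.maximalIdeal B := hK.trans (art_ker_le_maximalIdeal p)
  refine ⟨hK, hK', F.map (quotTrans B hK' hJK) y, ?_⟩
  rw [← FunctorToTypes.map_comp_apply, quotTrans_quotFactor p hK' hJK hK]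
  exact hy

theorem lifts_inf_of_sup {F : ArtFun.Art Λ k ⥤ Type v} (h1 : ArtFun.S1 F)
    {B A : ArtFun.Art Λ k} (p : B ⟶ A) (hp : Function.Surjective p)
    (x : F.obj A) {J K : Ideal B} (hsup : RingHom.ker p.toAlgHom = J ⊔ K)
    (hJ : Lifts p x J) (hK : Lifts p x K) : Lifts p x (J ⊓ K) := by
  obtain ⟨hJ1, hJ2, yJ, hyJ⟩ := hJ
  obtain ⟨hK1, hK2, yK, hyK⟩ := hK
  have hfp := quot_isFibreProd p hJ2 hK2 hsup
  have hsurj : Function.Surjective (quotFactor hK2 p (hsup ▸ le_sup_right)) := by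
    intro a
    obtain ⟨b, rfl⟩ := hp a
    exact ⟨(quotMk B K hK2).toAlgHom b, rfl⟩
  have hs := h1 _ _ _ _ hfp hsurj
  obtain ⟨z, hz⟩ := hs ⟨(yJ, yK), hyJ.trans hyK.symm⟩
  have hz1 : F.map (quotTrans B hJ2 (inf_le_left : J ⊓ K ≤ J)) z = yJ :=
    congrArg (fun t => t.1.1) hz
  refine ⟨inf_le_left.trans hJ1, inf_le_left.trans hJ2, z, ?_⟩
  rw [← quotTrans_quotFactor p hJ2 (inf_le_left : J ⊓ K ≤ J) hJ1, FunctorToTypes.map_comp_apply, hz1]
  exact hyJ

end aux

/-- For functors, let F satisfy (S1), let p : B → A be a surjection in the category of Artinian local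
Λ-algebras with residue field k whose kernel I is annihilated by m_B, and let x ∈ F(A). Then the set
of ideals J ⊆ I for which x lifts to F(B/J) along B/J → A has a least element. -/
theorem result {Λ : Type u} {k : Type u} [CommRing Λ] [Field k] [Algebra Λ k]
    [IsNoetherianRing Λ] [Module.Finite Λ k]
    {F : ArtFun.Art Λ k ⥤ Type v} (h1 : ArtFun.S1 F)
    {B A : ArtFun.Art Λ k} (p : B ⟶ A) (hp : ArtFun.Art.IsSemismallExt p) (x : F.obj A) :
    ∃ (J₀ : Ideal B) (hJ₀ : J₀ ≤ RingHom.ker p.toAlgHom) (hJ₀' : J₀ ≤ IsLocalRing.maximalIdeal B),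
      (∃ y : F.obj (ArtFun.Art.quot B J₀ hJ₀'), F.map (ArtFun.Art.quotFactor hJ₀' p hJ₀) y = x) ∧
      ∀ (J : Ideal B) (hJ : J ≤ RingHom.ker p.toAlgHom) (hJ' : J ≤ IsLocalRing.maximalIdeal B),
        (∃ y : F.obj (ArtFun.Art.quot B J hJ'), F.map (ArtFun.Art.quotFactor hJ' p hJ) y = x) → J₀ ≤ J := by
  classical
  have hIm : RingHom.ker p.toAlgHom ≤ IsLocalRing.maximalIdeal B := art_ker_le_maximalIdeal p
  -- closure under intersections
  have hinf : ∀ J K : Ideal B, Lifts p x J → Lifts p x K → Lifts p x (J ⊓ K) := by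
    intro J K hJ hK
    have hJI : J ≤ RingHom.ker p.toAlgHom := hJ.1
    have hKI : K ≤ RingHom.ker p.toAlgHom := hK.1
    -- enlarge K
    obtain ⟨K', ⟨hKK', hK'I, hK'eq⟩, hmax⟩ :=
      (set_has_maximal_iff_noetherian (R := B) (M := B)).2 inferInstance
        {K' : Ideal B | K ≤ K' ∧ K' ≤ RingHom.ker p.toAlgHom ∧ J ⊓ K' = J ⊓ K} ⟨K, le_rfl, hKI, rfl⟩
    have hsup : RingHom.ker p.toAlgHom = J ⊔ K' := by
      by_contra hne
      have hlt : J ⊔ K' < RingHom.ker p.toAlgHom := lt_of_le_of_ne (sup_le hJI hK'I) (Ne.symm hne)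
      obtain ⟨a, haI, haJK⟩ := SetLike.exists_of_lt hlt
      have haK' : a ∉ K' := fun h => haJK ((le_sup_right : K' ≤ J ⊔ K') h)
      have hK'' : K' ⊔ Ideal.span {a} ∈ {K' : Ideal B | K ≤ K' ∧ K' ≤ RingHom.ker p.toAlgHom ∧ J ⊓ K' = J ⊓ K} := by
        refine ⟨hKK'.trans le_sup_left, sup_le hK'I ((Ideal.span_singleton_le_iff_mem _).2 haI), ?_⟩
        rw [← hK'eq]
        apply le_antisymm
        · rintro j ⟨hjJ, hjK''⟩
          refine ⟨hjJ, ?_⟩
          obtain ⟨κ, hκ, c, hc, hjc⟩ := Submodule.mem_sup.1 hjK''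
          obtain ⟨b, rfl⟩ := Ideal.mem_span_singleton'.1 hc
          by_cases hb : b ∈ IsLocalRing.maximalIdeal B
          · have : b * a = 0 := by
              have : b * a ∈ IsLocalRing.maximalIdeal B * RingHom.ker p.toAlgHom :=
                Ideal.mul_mem_mul hb haI
              rw [hp.2] at this
              exact this
            rw [this, add_zero] at hjc
            rw [← hjc]; exact hκ
          · exfalso
            have hu : IsUnit b := by
              by_contra hnu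
              exact hb ((IsLocalRing.mem_maximalIdeal b).2 hnu)
            obtain ⟨u, rfl⟩ := hu
            apply haJK
            have : a = (↑u⁻¹ : B) * (j - κ) := by
              rw [← hjc, add_sub_cancel_left, ← mul_assoc, Units.inv_mul, one_mul]
            rw [this]
            apply Ideal.mul_mem_left
            exact Submodule.sub_mem _ ((le_sup_left : J ≤ J ⊔ K') hjJ) ((le_sup_right : K' ≤ J ⊔ K') hκ)
        · exact inf_le_inf_left J le_sup_left
      apply hmax _ hK''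
      refine lt_of_le_of_ne le_sup_left ?_
      intro heq
      apply haK'
      rw [heq]
      exact (le_sup_right : Ideal.span {a} ≤ K' ⊔ Ideal.span {a}) (Ideal.mem_span_singleton_self a)
    have hK'L : Lifts p x K' := lifts_mono p x hKK' hK'I hK
    have := lifts_inf_of_sup h1 p hp.1 x hsup hJ hK'L
    rw [hK'eq] at this
    exact this
  obtain ⟨J₀, hJ₀L, hmin⟩ := IsArtinian.set_has_minimal (R := B) (M := B)
    {J : Ideal B | Lifts p x J} ⟨_, lifts_ker p hp.1 x⟩
  obtain ⟨hJ₀, hJ₀', hy⟩ := id hJ₀L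
  refine ⟨J₀, hJ₀, hJ₀', hy, ?_⟩
  intro J hJ hJ' hyJ
  have hL : Lifts p x (J₀ ⊓ J) := hinf J₀ J hJ₀L ⟨hJ, hJ', hyJ⟩
  have hnlt := hmin _ hL
  have : J₀ ⊓ J = J₀ := by
    by_contra hne
    exact hnlt (lt_of_le_of_ne inf_le_left hne)
  rw [← this]
  exact inf_le_right

end Groth.Agent.S12729
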