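import Groth.Statements.S12711
import Groth.Agent.Lib.Helper65.ArtBasic

set_option autoImplicit false
universe u v
open CategoryTheory
open ArtFun ArtFun.Art

namespace Groth.Agent.S12711

open Groth.Agent.Lib.Helper65

theorem result {Λ : Type u} {k : Type u} [CommRing Λ] [Field k] [Algebra Λ k]
    [IsNoetherianRing Λ] [Module.Finite Λ k]
    {B A A₁ A₂ : ArtFun.Art Λ k} {p₁ : B ⟶ A₁} {p₂ : B ⟶ A₂} {f₁ : A₁ ⟶ A} {f₂ : A₂ ⟶ A}
    (h : ArtFun.Art.IsFibreProd p₁ p₂ f₁ f₂) (hf₂ : ArtFun.Art.IsSmallExt f₂) :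
    ArtFun.Art.IsSmallExt p₁ := by
  obtain ⟨hsurj, hne, ⟨⟨t₀, ht₀⟩⟩, hm⟩ := hf₂
  have ht₀ker : t₀ ∈ RingHom.ker f₂.toAlgHom := by
    rw [ht₀]; exact Submodule.mem_span_singleton_self t₀
  have ht₀ne : t₀ ≠ 0 := by
    rintro rfl
    apply hne
    rw [ht₀]
    simp
  have hmt₀ : ∀ m ∈ IsLocalRing.maximalIdeal A₂, m * t₀ = 0 := by
    intro m hm'
    have : m * t₀ ∈ IsLocalRing.maximalIdeal A₂ * RingHom.ker f₂.toAlgHom := Ideal.mul_mem_mul hm' ht₀ker
    rw [hm, Ideal.mem_bot] at this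
    exact this
  -- the element b₀
  have hf20 : f₁ (0 : A₁) = f₂ t₀ := by
    change f₁.toAlgHom 0 = f₂.toAlgHom t₀
    rw [map_zero, RingHom.mem_ker.1 ht₀ker]
  obtain ⟨b₀, hb₀1, hb₀2⟩ := h.surj 0 t₀ hf20
  have hb₀1' : p₁.toAlgHom b₀ = 0 := hb₀1
  have hb₀2' : p₂.toAlgHom b₀ = t₀ := hb₀2
  have hb₀ker : b₀ ∈ RingHom.ker p₁.toAlgHom := RingHom.mem_ker.2 hb₀1'
  -- p₂ maps the maximal ideal of B to the maximal ideal of A₂
  have hp₂m : ∀ m ∈ IsLocalRing.maximalIdeal B, p₂.toAlgHom m ∈ IsLocalRing.maximalIdeal A₂ := by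
    intro m hm'
    rw [Art.mem_maximalIdeal_iff] at hm' ⊢
    rw [Art.res_app p₂]
    exact hm'
  have hinj : ∀ b b' : B, p₁.toAlgHom b = p₁.toAlgHom b' → p₂.toAlgHom b = p₂.toAlgHom b' → b = b' :=
    fun b b' e1 e2 => h.inj b b' e1 e2
  refine ⟨?_, ?_, ?_, ?_⟩
  · intro a₁
    obtain ⟨a₂, ha₂⟩ := hsurj (f₁ a₁)
    obtain ⟨b, hb, -⟩ := h.surj a₁ a₂ ha₂.symm
    exact ⟨b, hb⟩
  · intro hbot
    have : b₀ ∈ (⊥ : Ideal B) := hbot ▸ hb₀ker
    rw [Ideal.mem_bot] at this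
    rw [this, map_zero] at hb₀2'
    exact ht₀ne hb₀2'.symm
  · refine ⟨⟨b₀, ?_⟩⟩
    apply le_antisymm
    · intro b hb
      have hb1 : p₁.toAlgHom b = 0 := RingHom.mem_ker.1 hb
      have hb2 : p₂.toAlgHom b ∈ RingHom.ker f₂.toAlgHom := by
        rw [RingHom.mem_ker]
        have := h.w_apply b
        change f₁.toAlgHom (p₁.toAlgHom b) = f₂.toAlgHom (p₂.toAlgHom b) at this
        rw [← this, hb1, map_zero]
      rw [ht₀] at hb2
      obtain ⟨c, hc⟩ := Submodule.mem_span_singleton.1 hb2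
      -- lift the residue of c to B
      obtain ⟨bc, hbc⟩ := B.res_surjective (A₂.res c)
      have hdiff : p₂.toAlgHom bc - c ∈ IsLocalRing.maximalIdeal A₂ := by
        rw [Art.mem_maximalIdeal_iff, map_sub, Art.res_app p₂, hbc, sub_self]
      have hct : p₂.toAlgHom bc * t₀ = c * t₀ := by
        have := hmt₀ _ hdiff
        rw [sub_mul, sub_eq_zero] at this
        exact this
      have : b = bc * b₀ := by
        apply hinj
        · rw [map_mul, hb₀1', mul_zero, hb1]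
        · rw [map_mul, hb₀2', hct, ← hc]; rfl
      rw [this]
      exact Submodule.mem_span_singleton.2 ⟨bc, rfl⟩
    · rw [Submodule.span_le, Set.singleton_subset_iff]
      exact hb₀ker
  · rw [eq_bot_iff, Ideal.mul_le]
    intro m hm' b hb
    have hb1 : p₁.toAlgHom b = 0 := RingHom.mem_ker.1 hb
    have hb2 : p₂.toAlgHom b ∈ RingHom.ker f₂.toAlgHom := by
      rw [RingHom.mem_ker]
      have := h.w_apply b
      change f₁.toAlgHom (p₁.toAlgHom b) = f₂.toAlgHom (p₂.toAlgHom b) at this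
      rw [← this, hb1, map_zero]
    rw [Ideal.mem_bot]
    apply hinj
    · rw [map_mul, hb1, mul_zero, map_zero]
    · rw [map_mul, map_zero]
      have : p₂.toAlgHom m * p₂.toAlgHom b ∈ IsLocalRing.maximalIdeal A₂ * RingHom.ker f₂.toAlgHom :=
        Ideal.mul_mem_mul (hp₂m m hm') hb2
      rw [hm, Ideal.mem_bot] at this
      exact this

end Groth.Agent.S12711
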