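import Groth.Statements.S12713
import Groth.Agent.Lib.Helper65.ArtBasic

set_option autoImplicit false
universe u v
open CategoryTheory
open ArtFun ArtFun.Art

namespace Groth.Agent.S12713

open Groth.Agent.Lib.Helper65

theorem result {Λ : Type u} {k : Type u} [CommRing Λ] [Field k] [Algebra Λ k]
    [IsNoetherianRing Λ] [Module.Finite Λ k]
    {A B : ArtFun.Art Λ k} (f : B ⟶ A) (hf : ArtFun.Art.IsSmallExt f) :
    (∃ (C : ArtFun.Art Λ k) (g : C ⟶ B), Function.Surjective (g ≫ f) ∧ ¬ Function.Surjective g) ↔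
      ∃ s : A ⟶ B, s ≫ f = 𝟙 A := by
  obtain ⟨hsurj, hne, ⟨⟨t₀, ht₀⟩⟩, hm⟩ := hf
  have ht₀ker : t₀ ∈ RingHom.ker f.toAlgHom := by
    rw [ht₀]; exact Submodule.mem_span_singleton_self t₀
  have hmt₀ : ∀ m ∈ IsLocalRing.maximalIdeal B, m * t₀ = 0 := by
    intro m hm'
    have : m * t₀ ∈ IsLocalRing.maximalIdeal B * RingHom.ker f.toAlgHom := Ideal.mul_mem_mul hm' ht₀ker
    rw [hm, Ideal.mem_bot] at this
    exact this
  constructor
  · rintro ⟨C, g, hgf, hg⟩
    have hgf' : ∀ a : A, ∃ c : C, f.toAlgHom (g.toAlgHom c) = a := hgf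
    -- multiples of t₀ by elements of B are multiples by elements of the image of g
    have hmul : ∀ b : B, ∃ c : C, b * t₀ = g.toAlgHom c * t₀ := by
      intro b
      obtain ⟨c, hc⟩ := C.res_surjective (B.res b)
      refine ⟨c, ?_⟩
      have : b - g.toAlgHom c ∈ IsLocalRing.maximalIdeal B := by
        rw [Art.mem_maximalIdeal_iff, map_sub, Art.res_app g, hc, sub_self]
      have := hmt₀ _ this
      rw [sub_mul, sub_eq_zero] at this
      exact this
    -- key claim
    have key : ∀ c : C, f.toAlgHom (g.toAlgHom c) = 0 → g.toAlgHom c = 0 := by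
      intro c hc
      by_contra hne0
      apply hg
      have hmem : g.toAlgHom c ∈ RingHom.ker f.toAlgHom := RingHom.mem_ker.2 hc
      rw [ht₀] at hmem
      obtain ⟨b, hb⟩ := Submodule.mem_span_singleton.1 hmem
      have hb' : b * t₀ = g.toAlgHom c := hb
      have hbunit : IsUnit b := by
        by_contra hnu
        have : b ∈ IsLocalRing.maximalIdeal B := (IsLocalRing.mem_maximalIdeal b).2 hnu
        exact hne0 (hb'.symm.trans (hmt₀ b this))
      obtain ⟨u, rfl⟩ := hbunit
      -- t₀ is in the range of g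
      have ht₀range : ∃ c₀ : C, g.toAlgHom c₀ = t₀ := by
        obtain ⟨c', hc'⟩ := hmul (↑u⁻¹ * ↑u * ↑u⁻¹ : B)
        obtain ⟨c'', hc''⟩ := hmul (↑u⁻¹ : B)
        refine ⟨c'' * c, ?_⟩
        rw [map_mul, ← hb', ← mul_assoc, mul_comm (g.toAlgHom c''), mul_assoc, ← hc'', ← mul_assoc,
          Units.mul_inv, one_mul]
      obtain ⟨c₀, hc₀⟩ := ht₀range
      intro b'
      obtain ⟨c₁, hc₁⟩ := hgf' (f.toAlgHom b')
      have hdiff : b' - g.toAlgHom c₁ ∈ RingHom.ker f.toAlgHom := by
        rw [RingHom.mem_ker, map_sub, hc₁, sub_self]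
      rw [ht₀] at hdiff
      obtain ⟨b₂, hb₂⟩ := Submodule.mem_span_singleton.1 hdiff
      obtain ⟨c₂, hc₂⟩ := hmul b₂
      refine ⟨c₁ + c₂ * c₀, ?_⟩
      change g.toAlgHom (c₁ + c₂ * c₀) = b'
      have hb₂' : b₂ * t₀ = b' - g.toAlgHom c₁ := hb₂
      rw [map_add, map_mul, hc₀, ← hc₂, hb₂']
      ring
    have key2 : ∀ c c' : C, f.toAlgHom (g.toAlgHom c) = f.toAlgHom (g.toAlgHom c') →
        g.toAlgHom c = g.toAlgHom c' := by
      intro c c' h
      have := key (c - c') (by rw [map_sub, map_sub, h, sub_self])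
      rw [map_sub, sub_eq_zero] at this
      exact this
    let σ : A → C := fun a => (hgf' a).choose
    have hσ : ∀ a, f.toAlgHom (g.toAlgHom (σ a)) = a := fun a => (hgf' a).choose_spec
    let s₀ : A →ₐ[Λ] B :=
      { toFun := fun a => g.toAlgHom (σ a)
        map_one' := by
          have : g.toAlgHom (σ 1) = g.toAlgHom 1 := key2 _ _ (by rw [hσ, map_one, map_one])
          rw [this, map_one]
        map_mul' := fun a a' => by
          have : g.toAlgHom (σ (a * a')) = g.toAlgHom (σ a * σ a') :=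
            key2 _ _ (by rw [hσ, map_mul, map_mul, hσ, hσ])
          rw [this, map_mul]
        map_zero' := by
          have : g.toAlgHom (σ 0) = g.toAlgHom 0 := key2 _ _ (by rw [hσ, map_zero, map_zero])
          rw [this, map_zero]
        map_add' := fun a a' => by
          have : g.toAlgHom (σ (a + a')) = g.toAlgHom (σ a + σ a') :=
            key2 _ _ (by rw [hσ, map_add, map_add, hσ, hσ])
          rw [this, map_add]
        commutes' := fun r => by
          have : g.toAlgHom (σ (algebraMap Λ A r)) = g.toAlgHom (algebraMap Λ C r) :=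
            key2 _ _ (by rw [hσ, AlgHom.commutes, AlgHom.commutes])
          change g.toAlgHom (σ (algebraMap Λ A r)) = _
          rw [this, AlgHom.commutes] }
    have hs₀ : ∀ a, s₀ a = g.toAlgHom (σ a) := fun a => rfl
    have hres : B.res.comp s₀ = A.res := by
      apply AlgHom.ext
      intro a
      change B.res (s₀ a) = A.res a
      rw [hs₀, ← Art.res_app f, hσ]
    refine ⟨⟨s₀, hres⟩, ?_⟩
    apply Art.hom_ext
    apply AlgHom.ext
    intro a
    change f.toAlgHom (s₀ a) = a
    rw [hs₀, hσ]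
  · rintro ⟨s, hs⟩
    refine ⟨A, s, ?_, ?_⟩
    · rw [hs]
      intro a
      exact ⟨a, rfl⟩
    · intro hsurj'
      apply hne
      rw [eq_bot_iff]
      intro t ht
      obtain ⟨a, rfl⟩ := hsurj' t
      have h1 : f.toAlgHom (s.toAlgHom a) = a := by
        change (s ≫ f) a = a
        rw [hs]; rfl
      have h2 : f.toAlgHom (s.toAlgHom a) = 0 := RingHom.mem_ker.1 ht
      rw [h1] at h2
      rw [Ideal.mem_bot, h2]
      exact map_zero _

end Groth.Agent.S12713
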