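import Groth.Statements.S12724
import Groth.Agent.Lib.Helper65.ArtFibre

set_option autoImplicit false
universe u v
open CategoryTheory
open ArtFun

namespace Groth.Agent.S12724

theorem result {Λ : Type u} {k : Type u} [CommRing Λ] [Field k] [Algebra Λ k]
    [IsNoetherianRing Λ] [Module.Finite Λ k]
    (F : ArtFun.Art Λ k ⥤ Type v) : ArtFun.S1 F ↔ ArtFun.Hbar F := by
  constructor
  · intro h B A A' A'' p' p'' f' f'' hsq hsmall
    exact h p' p'' f' f'' hsq hsmall.1
  · intro h B A A' A'' p' p'' f' f'' hsq hsurj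
    exact Groth.Agent.Lib.Helper65.cmp_surjective_of_smallExt F h p' p'' f' f'' hsq hsurj

end Groth.Agent.S12724
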