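import Groth.Statements.S12728
import Groth.Agent.Lib.Helper65.ArtTorsor

set_option autoImplicit false
universe u v
open CategoryTheory
open ArtFun

namespace Groth.Agent.S12728

open Groth.Agent.Lib.Helper65 ArtFun.Art

theorem homSet_map_comp {Λ : Type u} {k : Type u} [CommRing Λ] [Field k] [Algebra Λ k]
    {R : Type u} [CommRing R] [Algebra Λ R] {resR : R →ₐ[Λ] k} {A B C : Art Λ k}
    (f : A ⟶ B) (g : B ⟶ C) (φ : HomSet R resR A) :
    HomSet.map (f ≫ g) φ = HomSet.map g (HomSet.map f φ) :=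
  Subtype.ext (AlgHom.ext fun _ => rfl)

theorem homSet_map_id {Λ : Type u} {k : Type u} [CommRing Λ] [Field k] [Algebra Λ k]
    {R : Type u} [CommRing R] [Algebra Λ R] {resR : R →ₐ[Λ] k} {A : Art Λ k}
    (φ : HomSet R resR A) : HomSet.map (𝟙 A) φ = φ :=
  Subtype.ext (AlgHom.ext fun _ => rfl)

theorem result {Λ : Type u} {k : Type u} [CommRing Λ] [Field k] [Algebra Λ k]
    [IsNoetherianRing Λ] [Module.Finite Λ k]
    {F : ArtFun.Art Λ k ⥤ Type v} (h0 : ArtFun.H0 F) (h1 : ArtFun.S1 F) (h2 : ArtFun.Heps F)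
    (R : ArtFun.CRing Λ k) (ξ : ArtFun.Family R.carrier R.res F) :
    ArtFun.IsVersal ξ ↔
      (Function.Surjective (ArtFun.TangentSpace.ofFamily ξ) ∧
        ∀ ⦃B A : ArtFun.Art Λ k⦄ (μ : B ⟶ A), ArtFun.Art.IsSmallExt μ →
          ∀ (φ : ArtFun.HomSet R.carrier R.res A) (y : F.obj B), F.map μ y = ξ.app A φ →
            ∃ ψ : ArtFun.HomSet R.carrier R.res B, ArtFun.HomSet.map μ ψ = φ) := by
  constructor
  · intro hξ
    refine ⟨versal_app_surjective h0 ξ hξ (dual Λ k), ?_⟩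
    intro B A μ hμ φ y hy
    obtain ⟨ψ, hψ, -⟩ := hξ μ hμ.1 φ y hy
    exact ⟨ψ, hψ⟩
  · rintro ⟨ht, hl⟩
    intro B A μ hμ
    refine art_surjective_induction (Λ := Λ) (k := k)
      (fun A B μ => ∀ (φ : HomSet R.carrier R.res A) (y : F.obj B), F.map μ y = ξ.app A φ →
        ∃ ψ : HomSet R.carrier R.res B, HomSet.map μ ψ = φ ∧ ξ.app B ψ = y) ?_ ?_ ?_ μ hμ
    · intro A B e he φ y hy
      refine ⟨HomSet.map (inv e) φ, ?_, ?_⟩
      · rw [← homSet_map_comp, IsIso.inv_hom_id, homSet_map_id]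
      · rw [ξ.natural, ← hy, ← FunctorToTypes.map_comp_apply, IsIso.hom_inv_id,
          FunctorToTypes.map_id_apply]
    · intro A B μ hμ φ₀ y hy
      obtain ⟨P, q₁, q₂, τ, hsq₁, hsq₂⟩ := exists_torsor_square μ hμ
      obtain ⟨ψ₀, hψ₀⟩ := hl μ hμ φ₀ y hy
      have e0 : F.map μ (ξ.app B ψ₀) = F.map μ y := by
        rw [← ξ.natural, hψ₀, hy]
      obtain ⟨w, hw⟩ := h1 q₁ q₂ μ μ hsq₁ hμ.1 ⟨(ξ.app B ψ₀, y), e0⟩
      have hw1 : F.map q₁ w = ξ.app B ψ₀ := congrArg (fun t => t.1.1) hw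
      have hw2 : F.map q₂ w = y := congrArg (fun t => t.1.2) hw
      obtain ⟨v, hv⟩ := ht (F.map τ w)
      have hv' : ξ.app (dual Λ k) v = F.map τ w := hv
      have ecompat : HomSet.map (toBase B) ψ₀ = HomSet.map (toBase (dual Λ k)) v := by
        apply Subtype.ext
        have e1 : (AlgHom.id Λ k).comp (HomSet.map (toBase B) ψ₀).1 = R.res :=
          (HomSet.map (toBase B) ψ₀).2
        have e2 : (AlgHom.id Λ k).comp (HomSet.map (toBase (dual Λ k)) v).1 = R.res :=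
          (HomSet.map (toBase (dual Λ k)) v).2
        rw [AlgHom.id_comp] at e1 e2
        rw [e1, e2]
      obtain ⟨ψP, hψP1, hψP2⟩ := isFibreProd_lift hsq₂ ψ₀ v ecompat
      have hξP : ξ.app P ψP = w := by
        apply (h2 q₁ τ hsq₂).1
        apply FibProd.ext
        · change F.map q₁ (ξ.app P ψP) = F.map q₁ w
          rw [← ξ.natural, hψP1, hw1]
        · change F.map τ (ξ.app P ψP) = F.map τ w
          rw [← ξ.natural, hψP2, hv']
      refine ⟨HomSet.map q₂ ψP, ?_, ?_⟩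
      · rw [← homSet_map_comp, ← hsq₁.w, homSet_map_comp, hψP1, hψ₀]
      · rw [ξ.natural, hξP, hw2]
    · intro A B₀ C p q hp hq φ y hy
      have hy' : F.map q (F.map p y) = ξ.app A φ := by
        rw [← FunctorToTypes.map_comp_apply]; exact hy
      obtain ⟨ψ₁, hψ₁a, hψ₁b⟩ := hq φ (F.map p y) hy'
      obtain ⟨ψ, hψa, hψb⟩ := hp ψ₁ y hψ₁b.symm
      refine ⟨ψ, ?_, hψb⟩
      rw [homSet_map_comp, hψa, hψ₁a]

end Groth.Agent.S12728
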