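import Groth.Statements.S0050
import Mathlib
import Groth.Agent.Lib.Helper11.TensorMap
import Groth.Agent.Lib.Helper1.IdealMod

set_option autoImplicit false
universe u
open Coherent

namespace Groth.Agent.S0050

section helpers

open CategoryTheory CategoryTheory.Limits AlgebraicGeometry TopologicalSpace Opposite MonoidalCategory
open Groth.Agent.Lib.Helper45 Groth.Agent.Lib.Helper49 Groth.Agent.Lib.Helper11.GenLocus
open Groth.Agent.Lib.Helper11.AffineCrit Groth.Agent.Lib.Helper1 Groth.Agent.Lib.Helper11.TensorMap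

variable {X : Scheme.{u}}

theorem exists_section_at_closed_point (L : X.Modules) (hL : PicF.IsInvertible L)
    (h : ∀ (I : X.Modules) (i : I ⟶ Coh.structureModule X), Mono i → Coh.IsQCoh I →
      ∃ n : ℕ, Subsingleton (Coh.HH X (CohB1.tensorMod I (CohB1.tensorPow L (n + 1))) 1))
    (x : X) (hx : IsClosed ({x} : Set X)) :
    ∃ (n : ℕ) (s : Coh.structureModule X ⟶ CohB1.tensorPow L (n + 1)),
      x ∈ CohB1.genLocus _ s ∧ IsAffineOpen (CohB1.genLocus _ s) := by
  obtain ⟨W₀, hxW₀, t₀, ht₀⟩ := exists_isBasisOn_of_isInvertible hL x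
  obtain ⟨_, ⟨U, hU, rfl⟩, hxU, hUW₀⟩ :=
    X.isBasis_affineOpens.exists_subset_of_mem_open hxW₀ W₀.2
  have hUW₀' : U ≤ W₀ := hUW₀
  have ht : IsBasisOn L U (mres L hUW₀' t₀) := ht₀.mono hUW₀'
  let C : Closeds X := ⟨(U : Set X)ᶜ ∪ {x}, U.2.isClosed_compl.union hx⟩
  let I := Scheme.IdealSheafData.vanishingIdeal C
  have hsupp : (I.support : Set X) = (U : Set X)ᶜ ∪ {x} :=
    Scheme.IdealSheafData.coe_support_vanishingIdeal C
  obtain ⟨n, hn⟩ := h (ClSub.idealMod I) (ClSub.idealModι I) inferInstance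
    (Groth.Agent.Lib.Helper1.isQuasicoherent_idealMod I)
  have hN : PicF.IsInvertible (CohB1.tensorPow L (n + 1)) := isInvertible_tensorPow hL (n + 1)
  have htn : IsBasisOn (CohB1.tensorPow L (n + 1)) U (powSec L U (mres L hUW₀' t₀) (n + 1)) :=
    isBasisOn_powSec ht (n + 1)
  set N := CohB1.tensorPow L (n + 1) with hNdef
  set tn := powSec L U (mres L hUW₀' t₀) (n + 1) with htndef
  let j := tensorModMap (ClSub.idealModι I) (𝟙 N)
  have hj : Mono j := mono_tensorModMap (ClSub.idealModι I) hN
  let S : ShortComplex X.Modules := ShortComplex.mk j (cokernel.π j) (cokernel.condition j)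
  have hS : S.ShortExact :=
    ShortComplex.ShortExact.mk' (ShortComplex.exact_cokernel j) hj inferInstance
  set b : Γ(CohB1.tensorMod (Coh.structureModule X) N, U) :=
    tm (Coh.structureModule X) N U (toO U 1) tn with hbdef
  have hb : IsBasisOn _ U b := isBasisOn_tm (isBasisOn_one U) htn
  let Wx : X.Opens := ⟨{x}ᶜ, hx.isOpen_compl⟩
  have hcov : U ⊔ Wx = ⊤ := by
    rw [eq_top_iff]
    intro z _
    by_cases hz : z = x
    · exact Or.inl (hz ▸ hxU)
    · exact Or.inr hz
  have hzero : mres (cokernel j) (inf_le_left : U ⊓ Wx ≤ U) ((cokernel.π j).app U b) =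
      mres (cokernel j) (inf_le_right : U ⊓ Wx ≤ Wx) (0 : Γ(cokernel j, Wx)) := by
    rw [map_zero, ← app_mres, hbdef, tm_res]
    have hd : Disjoint (I.support : Set X) ((U ⊓ Wx : X.Opens) : Set X) := by
      rw [hsupp, Set.disjoint_left]
      rintro z (hz | hz) ⟨hzU, hzW⟩
      · exact hz hzU
      · exact hzW hz
    obtain ⟨e, he⟩ := exists_section_eq_one' I (U ⊓ Wx) hd
    have h1 : mres (Coh.structureModule X) (inf_le_left : U ⊓ Wx ≤ U) (toO U 1) =
        (ClSub.idealModι I).app (U ⊓ Wx) e := by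
      rw [he, mres_apply]
      exact (toO_res _ 1).trans (by rw [map_one])
    rw [h1]
    have h2 := tensorModMap_tm (ClSub.idealModι I) (𝟙 N) (U ⊓ Wx) e (mres N inf_le_left tn)
    have h3 : (cokernel.π j).app (U ⊓ Wx) (j.app (U ⊓ Wx)
        (tm _ N (U ⊓ Wx) e (mres N inf_le_left tn))) = 0 := by
      have := congrArg (fun φ => φ.app (U ⊓ Wx) (tm _ N (U ⊓ Wx) e (mres N inf_le_left tn)))
        (cokernel.condition j)
      exact this
    rw [h2] at h3
    exact h3
  obtain ⟨q, hq1, hq2⟩ := exists_glue_two (cokernel j) U Wx hcov _ 0 hzero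
  obtain ⟨s, hs⟩ := exists_lift_sections_of_subsingleton_HH_one hS hn q
  have hs' : (cokernel.π j).app ⊤ s = q := hs
  set s' := homOfSection (CohB1.tensorMod (Coh.structureModule X) N) s with hs'def
  have hsec : ∀ V : X.Opens, sec s' V = mres _ (le_top : V ≤ ⊤) s := fun V =>
    sec_homOfSection _ s V
  -- Step A: `s|U = a • b`
  obtain ⟨m, hm⟩ := tm_basis_surjective (Coh.structureModule X) N U tn htn U le_rfl
    (mres _ (le_top : U ≤ ⊤) s)
  rw [mres_self] at hm
  have hsU : mres _ (le_top : U ≤ ⊤) s = ofO U m • b := by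
    rw [← hm, hbdef, ← tm_smul_left, toO_smul, mul_one]
    rfl
  -- Step B
  have hB1 : ∀ (V : X.Opens) (hV : V ≤ U), IsBasisOn _ V (mres _ (le_top : V ≤ ⊤) s) →
      IsUnit (fres hV (ofO U m)) := by
    intro V hV hbas
    have e : mres _ (le_top : V ≤ ⊤) s = fres hV (ofO U m) • mres _ hV b := by
      rw [← mres_smul, ← hsU, mres_mres]
    rw [e] at hbas
    exact isUnit_of_isBasisOn_smul (hb.mono hV) _ hbas
  have hB2 : ∀ (V : X.Opens) (hV : V ≤ U), IsUnit (fres hV (ofO U m)) →
      IsBasisOn _ V (mres _ (le_top : V ≤ ⊤) s) := by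
    intro V hV hu
    have e : mres _ (le_top : V ≤ ⊤) s = fres hV (ofO U m) • mres _ hV b := by
      rw [← mres_smul, ← hsU, mres_mres]
    rw [e]
    exact (hb.mono hV).smul_unit _ hu
  -- Step C: `x ∈ X_a`
  have hxa : x ∈ X.basicOpen (ofO U m) := by
    have h1 : (cokernel.π j).app U (mres _ (le_top : U ≤ ⊤) s - b) = 0 := by
      rw [map_sub, app_mres, hs', hq1, sub_self]
    obtain ⟨y, hy⟩ := (Groth.Agent.Lib.Helper45.app_exact_of_shortExact S hS U _).mp h1
    obtain ⟨e, he⟩ := tm_basis_surjective (ClSub.idealMod I) N U tn htn U le_rfl y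
    rw [mres_self] at he
    have hy' : j.app U y = mres _ (le_top : U ≤ ⊤) s - b := hy
    rw [← he, tensorModMap_tm_id, ← hm, hbdef, eq_sub_iff_add_eq, ← tm_add_left] at hy'
    have h2 : (ClSub.idealModι I).app U e + toO U 1 = m :=
      tm_basis_injective (Coh.structureModule X) N U tn htn U le_rfl
        ((ClSub.idealModι I).app U e + toO U 1) m ((mres_self N tn).symm ▸ hy')
    have hxs : x ∈ I.support := by
      change x ∈ (I.support : Set X)
      rw [hsupp]
      exact Or.inr rfl
    have hne : x ∉ X.basicOpen (show Γ(X, U) from (ClSub.idealModι I).app U e) := fun hcon =>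
      not_mem_support_of_mem_basicOpen I U e x hcon hxs
    have h3 : ofO U m = (show Γ(X, U) from (ClSub.idealModι I).app U e) + 1 := by
      rw [← h2]
      rfl
    rw [X.mem_basicOpen _ x hxU] at hne ⊢
    rw [h3, map_add, map_one]
    by_contra hcon
    have h4 : IsUnit ((X.presheaf.germ U x hxU) (show Γ(X, U) from (ClSub.idealModι I).app U e) + 1
        + -(X.presheaf.germ U x hxU) (show Γ(X, U) from (ClSub.idealModι I).app U e)) := by
      rw [add_neg_cancel_comm]
      exact isUnit_one
    rcases IsLocalRing.isUnit_or_isUnit_of_isUnit_add h4 with h5 | h5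
    · exact hcon h5
    · exact hne (IsUnit.neg_iff _ |>.mp h5)
  -- Step D: `X_a ≤ G`
  have hD : X.basicOpen (ofO U m) ≤ CohB1.genLocus _ s' := by
    rw [le_genLocus_iff_isBasisOn, hsec]
    exact hB2 _ (X.basicOpen_le _) (isUnit_res_of_le_basicOpen (ofO U m) le_rfl)
  -- Step E: `G ≤ U`
  have hE : CohB1.genLocus _ s' ≤ U := by
    intro z hzG
    by_contra hzU
    have hzx : z ≠ x := fun hzx => hzU (hzx ▸ hxU)
    have hzW : z ∈ Wx := hzx
    have hzs : z ∈ I.support := by
      change z ∈ (I.support : Set X)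
      rw [hsupp]
      exact Or.inl hzU
    have h1 : (cokernel.π j).app Wx (mres _ (le_top : Wx ≤ ⊤) s) = 0 := by
      rw [app_mres, hs', hq2]
    obtain ⟨y, hy⟩ := (Groth.Agent.Lib.Helper45.app_exact_of_shortExact S hS Wx _).mp h1
    have hy' : j.app Wx y = mres _ (le_top : Wx ≤ ⊤) s := hy
    obtain ⟨W', hzW', t', ht'⟩ := exists_isBasisOn_of_isInvertible hN z
    set V : X.Opens := CohB1.genLocus _ s' ⊓ Wx ⊓ W' with hVdef
    have hVG : V ≤ CohB1.genLocus _ s' := inf_le_left.trans inf_le_left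
    have hVW : V ≤ Wx := inf_le_left.trans inf_le_right
    have hVW' : V ≤ W' := inf_le_right
    have hzV : z ∈ V := ⟨⟨hzG, hzW⟩, hzW'⟩
    obtain ⟨e, he⟩ := tm_basis_surjective (ClSub.idealMod I) N W' t' ht' V hVW' (mres _ hVW y)
    have h2 : mres _ (le_top : V ≤ ⊤) s =
        (show Γ(X, V) from (ClSub.idealModι I).app V e) •
          tm (Coh.structureModule X) N V (toO V 1) (mres N hVW' t') := by
      have := congrArg (mres _ hVW) hy'
      rw [mres_mres, ← app_mres, ← he, tensorModMap_tm_id] at this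
      rw [← this, ← tm_smul_left]
      congr 1
      change _ = toO V ((show Γ(X, V) from (ClSub.idealModι I).app V e) * 1)
      rw [mul_one]
      rfl
    have hbV : IsBasisOn _ V (mres _ (le_top : V ≤ ⊤) s) := by
      have := (le_genLocus_iff_isBasisOn s' V).mp hVG
      rwa [hsec] at this
    rw [h2] at hbV
    have hu := isUnit_of_isBasisOn_smul (isBasisOn_tm (isBasisOn_one V) (ht'.mono hVW')) _ hbV
    have hle : V ≤ X.basicOpen (show Γ(X, V) from (ClSub.idealModι I).app V e) :=
      le_basicOpen_of_isUnit_res _ le_rfl (by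
        have : X.presheaf.map (homOfLE (le_refl V)).op = 𝟙 _ := X.presheaf.map_id _
        rw [this]
        exact hu)
    exact not_mem_support_of_mem_basicOpen I V e z (hle hzV) hzs
  -- Step F
  have hF : CohB1.genLocus _ s' = X.basicOpen (ofO U m) := by
    apply le_antisymm _ hD
    apply le_basicOpen_of_isUnit_res (ofO U m) hE
    apply hB1 _ hE
    have := (le_genLocus_iff_isBasisOn s' _).mp le_rfl
    rwa [hsec] at this
  have hg : CohB1.genLocus N (s' ≫ (unitTensorIso N).hom) = CohB1.genLocus _ s' :=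
    genLocus_comp_iso s' (unitTensorIso N)
  refine ⟨n, s' ≫ (unitTensorIso N).hom, ?_, ?_⟩
  · rw [hg]
    exact hD hxa
  · rw [hg, hF]
    exact hU.basicOpen _

theorem main_S0050 (X : Scheme.{u}) [CompactSpace X] (L : X.Modules)
    (hL : PicF.IsInvertible L)
    (h : ∀ (I : X.Modules) (i : I ⟶ Coh.structureModule X), Mono i → Coh.IsQCoh I →
      ∃ n : ℕ, Subsingleton (Coh.HH X (CohB1.tensorMod I (CohB1.tensorPow L (n + 1))) 1)) :
    CohB1.IsAmple L := by
  refine ⟨hL, inferInstance, ?_⟩
  let T : Set X := {x | ¬ ∃ (n : ℕ) (s : Coh.structureModule X ⟶ CohB1.tensorPow L (n + 1)),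
    x ∈ CohB1.genLocus _ s ∧ IsAffineOpen (CohB1.genLocus _ s)}
  have hT : IsClosed T := by
    rw [← isOpen_compl_iff, isOpen_iff_forall_mem_open]
    intro x hx
    have hx' : ∃ (n : ℕ) (s : Coh.structureModule X ⟶ CohB1.tensorPow L (n + 1)),
        x ∈ CohB1.genLocus _ s ∧ IsAffineOpen (CohB1.genLocus _ s) := not_not.mp hx
    obtain ⟨n, s, hxs, haff⟩ := hx'
    refine ⟨CohB1.genLocus _ s, ?_, (CohB1.genLocus _ s).2, hxs⟩
    intro z hz
    exact not_not.mpr ⟨n, s, hz, haff⟩
  by_contra hcon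
  have hne : T.Nonempty := by
    by_contra hemp
    apply hcon
    intro x
    by_contra hx
    exact hemp ⟨x, hx⟩
  obtain ⟨x, hxT, hxcl⟩ := IsClosed.exists_closed_singleton hT hne
  exact hxT (exists_section_at_closed_point L hL h x hxcl)

end helpers

open AlgebraicGeometry CategoryTheory in
/-- Let X be a quasi-compact scheme and L an invertible O_X-module. If for every quasi-coherent sheaf of
ideals I ⊆ O_X there is some n ≥ 1 with H¹(X, I ⊗ L^{⊗n}) = 0, then L is ample, in the sense that X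
is covered by affine opens of the form X_s for sections s of positive tensor powers of L. (In the
Lean statement the exponent is written n + 1 with n a natural number.) -/
theorem result (X : Scheme.{u}) [CompactSpace X] (L : X.Modules)
    (hL : PicF.IsInvertible L)
    (h : ∀ (I : X.Modules) (i : I ⟶ Coh.structureModule X), Mono i → Coh.IsQCoh I →
      ∃ n : ℕ, Subsingleton (Coh.HH X (CohB1.tensorMod I (CohB1.tensorPow L (n + 1))) 1)) :
    CohB1.IsAmple L := by
  exact main_S0050 X L hL h

end Groth.Agent.S0050
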