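import Groth.Statements.S1708
import Groth.Agent.Lib.Helper45.LocalizingOn
import Groth.Agent.Lib.Helper45.AffinePoints

set_option autoImplicit false
universe u
open CategoryTheory CategoryTheory.Limits AlgebraicGeometry TopologicalSpace
open SDiv

namespace Groth.Agent.S1708

open Groth.Agent.Lib.Helper45

/-- Weakly associated points of the pushforward along an affine morphism come from weakly
associated points upstairs (version with an explicit affine open of the base). -/
theorem exists_of_isWeakAssPoint_pushforward {X S : Scheme.{u}} (f : X ⟶ S) [IsAffineHom f]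
    (F : X.Modules) [F.IsQuasicoherent] {V : S.Opens} (hV : IsAffineOpen V) (s : V)
    (hs : Curv2.IsWeakAssPoint ((Scheme.Modules.pushforward f).obj F) (s : S)) :
    ∃ x : X, f x = s ∧ Curv2.IsWeakAssPoint F x := by
  have hU : IsAffineOpen (f ⁻¹ᵁ V) := hV.preimage f
  rw [isWeakAssPoint_iff_of_isLocalizingOn hV _ s (isLocalizingOn_pushforward f F hV)] at hs
  obtain ⟨m, hm⟩ := hs
  replace hm : (hV.primeIdealOf s).asIdeal ∈
    (annEl Γ(S, V) m).minimalPrimes := hm
  have hann : annEl Γ(S, V) m =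
      (annEl Γ(X, f ⁻¹ᵁ V) (show Γ(F, f ⁻¹ᵁ V) from m)).comap (f.app V).hom := by
    ext r
    rw [Ideal.mem_comap, mem_annEl, mem_annEl]
    rfl
  rw [hann] at hm
  obtain ⟨q, hq, hqs⟩ := Ideal.exists_minimalPrimes_comap_eq _ _ hm
  have hqP : q.IsPrime := hq.1.1
  obtain ⟨x, hx⟩ := exists_primeIdealOf_eq hU ⟨q, hqP⟩
  have hxq : (hU.primeIdealOf x).asIdeal = q := congrArg PrimeSpectrum.asIdeal hx
  refine ⟨x, ?_, ?_⟩
  · have h1 := IsAffineOpen.comap_primeIdealOf_appLE (f := f) V hV (f ⁻¹ᵁ V) hU le_rfl x.2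
    rw [Scheme.Hom.appLE_eq_app] at h1
    have h2 : hV.primeIdealOf ⟨f (x : X), x.2⟩ = hV.primeIdealOf s := by
      rw [← h1]
      apply PrimeSpectrum.ext
      change Ideal.comap _ (hU.primeIdealOf x).asIdeal = _
      rw [hxq]
      exact hqs
    exact congrArg Subtype.val (primeIdealOf_injective hV h2)
  · rw [isWeakAssPoint_iff_of_isAffineOpen hU F x, hxq]
    exact ⟨m, hq⟩

/-- Let f : X ⟶ S be an affine morphism and F a quasi-coherent module on X. Then every weakly associated
point of f_* F is the image of a weakly associated point of F. -/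
theorem result {X S : Scheme.{u}} (f : X ⟶ S) [IsAffineHom f] (F : X.Modules) (hF : Coh.IsQCoh F)
    (s : ↥S) (hs : Curv2.IsWeakAssPoint ((Scheme.Modules.pushforward f).obj F) s) :
    ∃ x : ↥X, f x = s ∧ Curv2.IsWeakAssPoint F x := by
  have : F.IsQuasicoherent := hF
  obtain ⟨_, ⟨V, hV : IsAffineOpen V, rfl⟩, hsV, -⟩ :=
    S.isBasis_affineOpens.exists_subset_of_mem_open (Set.mem_univ s) isOpen_univ
  exact exists_of_isWeakAssPoint_pushforward f F hV ⟨s, hsV⟩ hs

end Groth.Agent.S1708
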