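import Groth.Statements.S1709
import Groth.Agent.Lib.Helper45.LocalizingOn
import Groth.Agent.Lib.Helper45.AffinePoints
import Groth.Agent.Lib.Helper45.AssPoint
import Groth.Agent.Lib.Helper45.WeakAssNoeth
import Groth.Agent.S1708

set_option autoImplicit false
universe u
open CategoryTheory CategoryTheory.Limits AlgebraicGeometry TopologicalSpace
open SDiv

namespace Groth.Agent.S1709

open Groth.Agent.Lib.Helper45

/-- On a locally Noetherian source, the image of a weakly associated point under an affine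
morphism is weakly associated to the pushforward. -/
theorem isWeakAssPoint_pushforward_of_isWeakAssPoint {X S : Scheme.{u}} (f : X ⟶ S)
    [IsAffineHom f] [IsLocallyNoetherian X] (F : X.Modules) [F.IsQuasicoherent] (x : X)
    (hx : Curv2.IsWeakAssPoint F x) :
    Curv2.IsWeakAssPoint ((Scheme.Modules.pushforward f).obj F) (f x) := by
  obtain ⟨_, ⟨V, hV : IsAffineOpen V, rfl⟩, hsV, -⟩ :=
    S.isBasis_affineOpens.exists_subset_of_mem_open (Set.mem_univ (f x)) isOpen_univ
  have hU : IsAffineOpen (f ⁻¹ᵁ V) := hV.preimage f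
  have hxU : x ∈ f ⁻¹ᵁ V := hsV
  have : IsNoetherianRing Γ(X, f ⁻¹ᵁ V) := IsLocallyNoetherian.component_noetherian ⟨_, hU⟩
  rw [isWeakAssPoint_iff_of_isAffineOpen hU F ⟨x, hxU⟩] at hx
  obtain ⟨m0, hm0⟩ := hx
  replace hm0 : (hU.primeIdealOf ⟨x, hxU⟩).asIdeal ∈
    (annEl Γ(X, f ⁻¹ᵁ V) m0).minimalPrimes := hm0
  rw [← colon_bot_singleton_eq_annEl] at hm0
  obtain ⟨m, hm⟩ := Submodule.exists_eq_colon_of_mem_minimalPrimes hm0
  rw [colon_bot_singleton_eq_annEl] at hm
  rw [isWeakAssPoint_iff_of_isLocalizingOn hV _ ⟨f x, hsV⟩ (isLocalizingOn_pushforward f F hV)]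
  refine ⟨(show Γ((Scheme.Modules.pushforward f).obj F, V) from m), ?_⟩
  have hann : annEl Γ(S, V) (show Γ((Scheme.Modules.pushforward f).obj F, V) from m) =
      (annEl Γ(X, f ⁻¹ᵁ V) m).comap (f.app V).hom := by
    ext r
    rw [Ideal.mem_comap, mem_annEl, mem_annEl]
    rfl
  have h1 := IsAffineOpen.comap_primeIdealOf_appLE (f := f) V hV (f ⁻¹ᵁ V) hU le_rfl hxU
  rw [Scheme.Hom.appLE_eq_app] at h1
  have h2 : (hV.primeIdealOf ⟨f x, hsV⟩).asIdeal =
      annEl Γ(S, V) (show Γ((Scheme.Modules.pushforward f).obj F, V) from m) := by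
    rw [hann, ← hm, ← h1]
    rfl
  show (hV.primeIdealOf ⟨f x, hsV⟩).asIdeal ∈
    (annEl Γ(S, V) (show Γ((Scheme.Modules.pushforward f).obj F, V) from m)).minimalPrimes
  rw [← h2, Ideal.minimalPrimes_eq_subsingleton_self]
  exact rfl

/-- Let f : X ⟶ S be an affine morphism with X locally Noetherian and F a quasi-coherent module on X.
Then the following subsets of S coincide: the image of the associated points of F, the associated
points of f_* F, the weakly associated points of f_* F, and the image of the weakly associated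
points of F. -/
theorem result {X S : Scheme.{u}} (f : X ⟶ S) [IsAffineHom f] [IsLocallyNoetherian X] (F : X.Modules)
    (hF : Coh.IsQCoh F) :
    (fun x => f x) '' {x : ↥X | Curv2.IsAssPoint F x} = {s : ↥S | Curv2.IsAssPoint ((Scheme.Modules.pushforward f).obj F) s} ∧
      {s : ↥S | Curv2.IsAssPoint ((Scheme.Modules.pushforward f).obj F) s} =
        {s : ↥S | Curv2.IsWeakAssPoint ((Scheme.Modules.pushforward f).obj F) s} ∧
      {s : ↥S | Curv2.IsWeakAssPoint ((Scheme.Modules.pushforward f).obj F) s} =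
        (fun x => f x) '' {x : ↥X | Curv2.IsWeakAssPoint F x} := by
  have : F.IsQuasicoherent := hF
  have h3 : {s : ↥S | Curv2.IsWeakAssPoint ((Scheme.Modules.pushforward f).obj F) s} =
      (fun x => f x) '' {x : ↥X | Curv2.IsWeakAssPoint F x} := by
    ext s
    constructor
    · intro hs
      obtain ⟨x, hx, hw⟩ := Groth.Agent.S1708.result f F hF s hs
      exact ⟨x, hw, hx⟩
    · rintro ⟨x, hx, rfl⟩
      exact isWeakAssPoint_pushforward_of_isWeakAssPoint f F x hx
  have h2 : {s : ↥S | Curv2.IsAssPoint ((Scheme.Modules.pushforward f).obj F) s} =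
      {s : ↥S | Curv2.IsWeakAssPoint ((Scheme.Modules.pushforward f).obj F) s} := by
    ext s
    exact isAssPoint_iff_isWeakAssPoint _ s
  have h0 : {x : ↥X | Curv2.IsAssPoint F x} = {x : ↥X | Curv2.IsWeakAssPoint F x} := by
    ext x
    exact isAssPoint_iff_isWeakAssPoint _ x
  refine ⟨?_, h2, h3⟩
  rw [h0, h2, h3]

end Groth.Agent.S1709
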