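import Groth.Statements.S15708
import Mathlib

set_option autoImplicit false
universe u v
open CAlg

namespace Groth.Agent.S15708

open DirectSum in
theorem H1 {R : Type u} {A : Type v} [CommRing R] [CommRing A]
    [Algebra R A] (𝒜 : ℕ → Submodule R A) [GradedRing 𝒜]
    (K p : Ideal A) (hK : K.IsHomogeneous 𝒜) (hKp : ¬ K ≤ p) :
    ∃ (x : A) (n : ℕ), x ∈ 𝒜 n ∧ x ∈ K ∧ x ∉ p := by
  classical
  by_contra h
  push_neg at h
  apply hKp
  intro x hx
  rw [← DirectSum.sum_support_decompose 𝒜 x]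
  apply Ideal.sum_mem
  intro i _
  exact h _ i (SetLike.coe_mem _) (hK i hx)

theorem H2 {R : Type u} {A : Type v} [CommRing R] [CommRing A]
    [Algebra R A] (𝒜 : ℕ → Submodule R A) [GradedRing 𝒜]
    (s : Finset (Ideal A)) (hs : ∀ q ∈ s, q.IsPrime ∧ q.IsHomogeneous 𝒜)
    (hanti : ∀ q ∈ s, ∀ q' ∈ s, q ≤ q' → q = q') (K : Ideal A) (hK : K.IsHomogeneous 𝒜)
    (hKirr : K ≤ (HomogeneousIdeal.irrelevant 𝒜).toIdeal) (hKq : ∀ q ∈ s, ¬ K ≤ q) :
    ∃ (z : A) (n : ℕ), 0 < n ∧ z ∈ 𝒜 n ∧ z ∈ K ∧ ∀ q ∈ s, z ∉ q := by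
  classical
  have key : ∀ q ∈ s, ∃ (x : A) (d : ℕ), x ∈ 𝒜 d ∧ x ∈ K * ∏ q' ∈ s.erase q, q' ∧ x ∉ q := by
    intro q hq
    apply H1
    · apply hK.mul
      apply Finset.prod_induction _ (fun I : Ideal A => I.IsHomogeneous 𝒜)
      · intro a b ha hb; exact ha.mul hb
      · rw [Ideal.one_eq_top]; exact Ideal.IsHomogeneous.top 𝒜
      · intro q' hq'; exact (hs q' (Finset.mem_of_mem_erase hq')).2
    · rw [(hs q hq).1.mul_le, (hs q hq).1.prod_le]
      push_neg
      refine ⟨hKq q hq, fun q' hq' hle => ?_⟩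
      exact (Finset.ne_of_mem_erase hq') (hanti q' (Finset.mem_of_mem_erase hq') q hq hle)
  choose! x d hxd hxK hxq using key
  have hdpos : ∀ q ∈ s, 0 < d q := by
    intro q hq
    by_contra h0
    have h0' : d q = 0 := by omega
    have h1 : x q ∈ 𝒜 0 := h0' ▸ hxd q hq
    have h2 : x q ∈ (HomogeneousIdeal.irrelevant 𝒜).toIdeal :=
      hKirr (Ideal.mul_le_left (hxK q hq))
    have h3 : GradedRing.proj 𝒜 0 (x q) = 0 := h2
    rw [GradedRing.proj_apply, DirectSum.decompose_of_mem_same 𝒜 h1] at h3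
    apply hxq q hq
    rw [h3]; exact zero_mem _
  set D := ∏ q ∈ s, d q with hD
  have hDpos : 0 < D := Finset.prod_pos hdpos
  have hdvd : ∀ q ∈ s, d q ∣ D := fun q hq => Finset.dvd_prod_of_mem d hq
  have hexp : ∀ q ∈ s, 0 < D / d q := fun q hq =>
    Nat.div_pos (Nat.le_of_dvd hDpos (hdvd q hq)) (hdpos q hq)
  refine ⟨∑ q ∈ s, x q ^ (D / d q), D, hDpos, ?_, ?_, ?_⟩
  · apply Submodule.sum_mem
    intro q hq
    have := SetLike.pow_mem_graded (D / d q) (hxd q hq)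
    rwa [smul_eq_mul, Nat.div_mul_cancel (hdvd q hq)] at this
  · apply Ideal.sum_mem
    intro q hq
    exact Ideal.pow_mem_of_mem _ (Ideal.mul_le_left (hxK q hq)) _ (hexp q hq)
  · intro q hq hz
    rw [← Finset.add_sum_erase s _ hq] at hz
    have hrest : ∑ q' ∈ s.erase q, x q' ^ (D / d q') ∈ q := by
      apply Ideal.sum_mem
      intro q' hq'
      have hq's : q' ∈ s := Finset.mem_of_mem_erase hq'
      have hne : q ≠ q' := (Finset.ne_of_mem_erase hq').symm
      have h1 : x q' ∈ ∏ q'' ∈ s.erase q', q'' := Ideal.mul_le_right (hxK q' hq's)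
      have h2 : x q' ∈ q :=
        (Ideal.prod_le_inf.trans (Finset.inf_le (Finset.mem_erase.2 ⟨hne, hq⟩))) h1
      exact Ideal.pow_mem_of_mem _ h2 _ (hexp q' hq's)
    have h3 : x q ^ (D / d q) ∈ q := (Ideal.add_mem_iff_left q hrest).1 hz
    exact hxq q hq ((hs q hq).1.mem_of_pow_mem _ h3)

/-- Let A be a Noetherian commutative ring graded by the natural numbers, J a homogeneous ideal, and
p_1, ..., p_r finitely many prime ideals such that no p_i contains the irrelevant ideal A_+ and no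
p_i contains J. Then there is a homogeneous element z of positive degree with z in J and z in no
p_i. -/
theorem result {R : Type u} {A : Type v} [CommRing R] [CommRing A]
    [Algebra R A] [IsNoetherianRing A] (𝒜 : ℕ → Submodule R A) [GradedRing 𝒜]
    (J : Ideal A) (hJ : J.IsHomogeneous 𝒜) (P : Finset (Ideal A))
    (hP : ∀ p ∈ P, p.IsPrime ∧ ¬ (HomogeneousIdeal.irrelevant 𝒜).toIdeal ≤ p ∧ ¬ J ≤ p) :
    ∃ (z : A) (n : ℕ), 0 < n ∧ z ∈ 𝒜 n ∧ z ∈ J ∧ ∀ p ∈ P, z ∉ p := by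
  classical
  set Q : Finset (Ideal A) := P.image (fun p => (p.homogeneousCore 𝒜).toIdeal) with hQ
  set M : Finset (Ideal A) := Q.filter (fun q => Maximal (· ∈ Q) q) with hM
  have hMQ : ∀ q ∈ M, ∃ p ∈ P, (p.homogeneousCore 𝒜).toIdeal = q := by
    intro q hq
    have : q ∈ Q := (Finset.mem_filter.1 hq).1
    simpa [hQ] using this
  set K : Ideal A := J * (HomogeneousIdeal.irrelevant 𝒜).toIdeal with hKdef
  obtain ⟨z, n, hn, hzn, hzK, hzM⟩ := H2 𝒜 M
    (by
      intro q hq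
      obtain ⟨p, hp, rfl⟩ := hMQ q hq
      exact ⟨Ideal.IsPrime.homogeneousCore (hP p hp).1, (p.homogeneousCore 𝒜).isHomogeneous⟩)
    (by
      intro q hq q' hq' hle
      have hqmax : Maximal (· ∈ Q) q := (Finset.mem_filter.1 hq).2
      have hq'Q : q' ∈ Q := (Finset.mem_filter.1 hq').1
      exact le_antisymm hle (hqmax.2 hq'Q hle))
    K (hJ.mul (HomogeneousIdeal.irrelevant 𝒜).isHomogeneous) Ideal.mul_le_right
    (by
      intro q hq hKq
      obtain ⟨p, hp, rfl⟩ := hMQ q hq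
      have hKp : K ≤ p := hKq.trans (Ideal.toIdeal_homogeneousCore_le 𝒜 p)
      rcases (hP p hp).1.mul_le.1 hKp with h | h
      · exact (hP p hp).2.2 h
      · exact (hP p hp).2.1 h)
  refine ⟨z, n, hn, hzn, Ideal.mul_le_left hzK, ?_⟩
  intro p hp hzp
  have hpQ : (p.homogeneousCore 𝒜).toIdeal ∈ Q := Finset.mem_image_of_mem _ hp
  obtain ⟨m, hpm, hmmax⟩ := Finset.exists_le_maximal Q hpQ
  have hmM : m ∈ M := Finset.mem_filter.2 ⟨hmmax.1, hmmax⟩
  apply hzM m hmM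
  apply hpm
  exact Ideal.mem_homogeneousCore_of_homogeneous_of_mem ⟨n, hzn⟩ hzp

end Groth.Agent.S15708
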