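import Groth.Statements.S8719
import Mathlib
import Groth.Agent.Lib.Helper21.PowerSeriesAdic

set_option autoImplicit false
universe u
open VanCyc

namespace Groth.Agent.S8719

open MvPowerSeries Finsupp Groth.Agent.Lib.Helper21

theorem degree_lt_two {N : ℕ} (x : Fin N →₀ ℕ) (hx : degree x < 2) :
    x = 0 ∨ ∃ j, x = single j 1 := by
  by_cases h0 : x = 0
  · exact Or.inl h0
  · right
    obtain ⟨i, hi⟩ : x.support.Nonempty := by
      rwa [Finset.nonempty_iff_ne_empty, ne_eq, support_eq_empty]
    have hle : single i 1 ≤ x := by
      simpa [Nat.one_le_iff_ne_zero] using hi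
    obtain ⟨y, hy⟩ := le_iff_exists_add.mp hle
    refine ⟨i, ?_⟩
    have hdeg : degree x = 1 + degree y := by rw [hy, map_add, degree_single]
    have hy0 : y = 0 := by
      rw [← degree_eq_zero_iff]
      omega
    rw [hy, hy0, add_zero]

theorem maximalIdeal_eq_ker (k : Type u) [Field k] (N : ℕ) :
    IsLocalRing.maximalIdeal (MvPowerSeries (Fin N) k) =
      RingHom.ker (constantCoeff : MvPowerSeries (Fin N) k →+* k) := by
  ext x
  rw [IsLocalRing.mem_maximalIdeal, mem_nonunits_iff, RingHom.mem_ker,
    MvPowerSeries.isUnit_iff_constantCoeff, isUnit_iff_ne_zero, not_not]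

theorem ker_eq_span (k : Type u) [Field k] (N : ℕ) :
    RingHom.ker (constantCoeff : MvPowerSeries (Fin N) k →+* k) =
      Ideal.span (Set.range fun i : Fin N => (X i : MvPowerSeries (Fin N) k)) := by
  apply le_antisymm
  · intro f hf
    rw [RingHom.mem_ker] at hf
    rw [PSAdic.eq_C_add_sum f, hf, map_zero, zero_add]
    refine Ideal.sum_mem _ fun i _ => ?_
    exact Ideal.mul_mem_right _ _ (Ideal.subset_span ⟨i, rfl⟩)
  · rw [Ideal.span_le]
    rintro _ ⟨i, rfl⟩
    exact constantCoeff_X i

/-- The formal computation carried out in its proof: let k be a field and f a power series in k[[x_0,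
..., x_n]] with vanishing constant and linear terms whose degree-two part is a non-degenerate
quadratic form (the Gram determinant of its polar bilinear form is a unit). Then the partial
derivatives of f generate the maximal ideal of k[[x_0, ..., x_n]] (so f together with its partial
derivatives cut out the origin with multiplicity one). -/
theorem result (k : Type u) [Field k] (n : ℕ)
    (f : MvPowerSeries (Fin (n + 1)) k) (hf : VanCyc.NondegQuadSeries f) :
    Ideal.span (Set.range fun i : Fin (n + 1) => MvPowerSeries.pderiv k i f) =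
      IsLocalRing.maximalIdeal (MvPowerSeries (Fin (n + 1)) k) := by
  classical
  obtain ⟨⟨hc, hlin⟩, hnd⟩ := hf
  set 𝔪 := IsLocalRing.maximalIdeal (MvPowerSeries (Fin (n + 1)) k) with h𝔪
  set J := Ideal.span (Set.range fun i : Fin (n + 1) => MvPowerSeries.pderiv k i f) with hJ
  set P := polarMatrix (quadPart f) with hP
  have hm1 : 𝔪 = RingHom.ker (constantCoeff : MvPowerSeries (Fin (n + 1)) k →+* k) :=
    maximalIdeal_eq_ker k (n + 1)
  have hm2 : 𝔪 = Ideal.span (Set.range fun i : Fin (n + 1) => (X i : MvPowerSeries (Fin (n + 1)) k)) :=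
    hm1.trans (ker_eq_span k (n + 1))
  -- J ≤ 𝔪
  have hJle : J ≤ 𝔪 := by
    rw [hJ, Ideal.span_le]
    rintro _ ⟨i, rfl⟩
    change _ ∈ 𝔪
    rw [hm1, RingHom.mem_ker, ← coeff_zero_eq_constantCoeff_apply, coeff_pderiv, zero_add, hlin i,
      zero_mul]
  -- the remainder
  have hrem : ∀ i, MvPowerSeries.pderiv k i f - ∑ j, C (P i j) * X j ∈ 𝔪 ^ 2 := by
    intro i
    rw [hm1]
    apply PSAdic.mem_ker_pow_of_coeff_eq_zero
    intro x hx
    rcases degree_lt_two x hx with rfl | ⟨j, rfl⟩
    · rw [map_sub, coeff_pderiv, zero_add, hlin i, zero_mul, map_sum, zero_sub, neg_eq_zero]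
      apply Finset.sum_eq_zero
      intro j _
      rw [coeff_zero_eq_constantCoeff_apply, map_mul, constantCoeff_X, mul_zero]
    · rw [map_sub, coeff_pderiv, map_sum, Finset.sum_eq_single j]
      · rw [coeff_C_mul, coeff_X, if_pos rfl, mul_one, sub_eq_zero]
        by_cases hij : i = j
        · subst hij
          have hPii : P i i = 2 * coeff (single i 2) f := by
            simp only [hP, polarMatrix, quadPart, if_true]
          rw [hPii, single_eq_same, ← single_add]
          push_cast
          ring
        · rw [single_eq_of_ne hij]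
          rcases lt_or_gt_of_ne hij with h | h
          · have hPij : P i j = coeff (single i 1 + single j 1) f := by
              simp only [hP, polarMatrix, quadPart, if_neg hij, if_pos h]
            rw [hPij, add_comm (single j 1) (single i 1)]
            push_cast
            ring
          · have hPij : P i j = coeff (single j 1 + single i 1) f := by
              simp only [hP, polarMatrix, quadPart, if_neg hij, if_neg (not_lt.mpr h.le),
                if_neg (Ne.symm hij), if_pos h]
            rw [hPij]
            push_cast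
            ring
      · intro l _ hl
        rw [coeff_C_mul, coeff_X, if_neg, mul_zero]
        intro h
        apply hl
        have := congrArg (fun v => v j) h
        simp only [single_eq_same] at this
        by_contra hne
        rw [single_eq_of_ne (Ne.symm hne)] at this
        exact one_ne_zero this
      · intro h; exact absurd (Finset.mem_univ _) h
  -- invert P
  have hdet : IsUnit P.det := hnd
  have hPinv : P⁻¹ * P = 1 := Matrix.nonsing_inv_mul P hdet
  apply le_antisymm hJle
  refine Submodule.le_of_le_smul_of_le_jacobson_bot (I := 𝔪) ?_ ?_ ?_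
  · rw [hm2]
    exact Submodule.fg_span (Set.finite_range _)
  · exact IsLocalRing.maximalIdeal_le_jacobson ⊥
  · nth_rewrite 1 [hm2]
    rw [Ideal.span_le]
    rintro _ ⟨j, rfl⟩
    have hXj : (X j : MvPowerSeries (Fin (n + 1)) k) =
        ∑ i, C (P⁻¹ j i) * MvPowerSeries.pderiv k i f -
          ∑ i, C (P⁻¹ j i) * (MvPowerSeries.pderiv k i f - ∑ l, C (P i l) * X l) := by
      rw [← Finset.sum_sub_distrib]
      simp only [← mul_sub, sub_sub_cancel, Finset.mul_sum]
      rw [Finset.sum_comm]
      have : ∀ l, ∑ i, C (P⁻¹ j i) * (C (P i l) * (X l : MvPowerSeries (Fin (n + 1)) k)) =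
          C ((P⁻¹ * P) j l) * X l := by
        intro l
        rw [Matrix.mul_apply, map_sum, Finset.sum_mul]
        apply Finset.sum_congr rfl
        intro i _
        rw [map_mul, mul_assoc]
      simp only [this, hPinv, Matrix.one_apply]
      rw [Finset.sum_eq_single j]
      · rw [if_pos rfl, map_one, one_mul]
      · intro l _ hl
        rw [if_neg (Ne.symm hl), map_zero, zero_mul]
      · intro h; exact absurd (Finset.mem_univ _) h
    change (X j : MvPowerSeries (Fin (n + 1)) k) ∈ J ⊔ 𝔪 • 𝔪
    rw [hXj]
    apply Submodule.sub_mem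
    · apply Submodule.mem_sup_left
      refine Ideal.sum_mem _ fun i _ => Ideal.mul_mem_left _ _ (Ideal.subset_span ⟨i, rfl⟩)
    · apply Submodule.mem_sup_right
      rw [smul_eq_mul, ← pow_two]
      refine Ideal.sum_mem _ fun i _ => Ideal.mul_mem_left _ _ (hrem i)

end Groth.Agent.S8719
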