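import Groth.Statements.S6292
import Mathlib

set_option autoImplicit false
universe u
open CAlg

namespace Groth.Agent.S6292

/-- A module killed by a maximal ideal is semisimple. -/
theorem semisimple_of_smul_eq_bot {R : Type u} [CommRing R] (m : Ideal R) [hm : m.IsMaximal]
    (M : Type u) [AddCommGroup M] [Module R M] (h : m • (⊤ : Submodule R M) = ⊥) :
    IsSemisimpleModule R M := by
  have hsimple : IsSimpleModule R (R ⧸ m) :=
    isSimpleModule_iff_quot_maximal.mpr ⟨m, hm, ⟨LinearEquiv.refl R _⟩⟩
  refine isSemisimpleModule_of_isSemisimpleModule_submodule' (p := fun x : M => Submodule.span R {x})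
    ?_ ?_
  · intro x
    have hker : m ≤ LinearMap.ker (LinearMap.toSpanSingleton R M x) := by
      intro r hr
      rw [LinearMap.mem_ker, LinearMap.toSpanSingleton_apply]
      have : r • x ∈ m • (⊤ : Submodule R M) := Submodule.smul_mem_smul hr Submodule.mem_top
      rw [h] at this
      exact this
    have hr : LinearMap.range (Submodule.liftQ m (LinearMap.toSpanSingleton R M x) hker) =
        Submodule.span R {x} := by
      rw [Submodule.range_liftQ, LinearMap.range_toSpanSingleton]
    have := IsSemisimpleModule.range (Submodule.liftQ m (LinearMap.toSpanSingleton R M x) hker)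
    rw [hr] at this
    exact this
  · rw [eq_top_iff]
    intro x _
    exact Submodule.mem_iSup_of_mem x (Submodule.mem_span_singleton_self x)

theorem aux {R : Type u} [CommRing R] (m : Ideal R) [m.IsMaximal] (hm : m.FG) (n : ℕ) :
    ∀ (M : Type u) [AddCommGroup M] [Module R M] [Module.Finite R M],
      m ^ n • (⊤ : Submodule R M) = ⊥ → IsFiniteLength R M := by
  induction n with
  | zero =>
    intro M _ _ _ h
    rw [pow_zero, Ideal.one_eq_top, Submodule.top_smul] at h
    have : Subsingleton M := by
      rw [← Submodule.subsingleton_iff R]
      exact subsingleton_of_bot_eq_top h.symm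
    exact IsFiniteLength.of_subsingleton
  | succ n ih =>
    intro M _ _ _ h
    set N : Submodule R M := m • ⊤ with hN
    have hNfg : N.FG := Submodule.FG.smul hm (Module.Finite.fg_top)
    have : Module.Finite R N := Module.Finite.iff_fg.mpr hNfg
    have h1 : IsFiniteLength R N := by
      apply ih
      have hinj : Function.Injective (Submodule.map N.subtype) :=
        Submodule.map_injective_of_injective N.injective_subtype
      apply hinj
      rw [Submodule.map_smul'', Submodule.map_top, Submodule.range_subtype, Submodule.map_bot, hN,
        ← Submodule.mul_smul, ← pow_succ]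
      exact h
    have h2 : IsFiniteLength R (M ⧸ N) := by
      have hk : m • (⊤ : Submodule R (M ⧸ N)) = ⊥ := by
        rw [eq_bot_iff, Submodule.smul_le]
        intro r hr x _
        obtain ⟨y, rfl⟩ := Submodule.Quotient.mk_surjective N x
        rw [Submodule.mem_bot, ← Submodule.Quotient.mk_smul, Submodule.Quotient.mk_eq_zero]
        exact Submodule.smul_mem_smul hr Submodule.mem_top
      have := semisimple_of_smul_eq_bot m (M ⧸ N) hk
      exact (IsSemisimpleModule.finite_tfae.out 0 3).mp (inferInstance : Module.Finite R (M ⧸ N))
    rw [isFiniteLength_iff_isNoetherian_isArtinian] at h1 h2 ⊢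
    obtain ⟨h1n, h1a⟩ := h1
    obtain ⟨h2n, h2a⟩ := h2
    have hex : LinearMap.range N.subtype = LinearMap.ker N.mkQ := by
      rw [Submodule.range_subtype, Submodule.ker_mkQ]
    exact ⟨isNoetherian_of_range_eq_ker N.subtype N.mkQ hex,
      isArtinian_of_range_eq_ker N.subtype N.mkQ hex⟩

/-- Let R be a ring and m ⊆ R a finitely generated maximal ideal (for instance R Noetherian). If M is a
finite R-module with mⁿM = 0 for some n, then M has finite length. -/
theorem result {R : Type u} [CommRing R] (m : Ideal R) [m.IsMaximal] (hm : m.FG) (M : Type u) [AddCommGroup M] [Module R M] [Module.Finite R M] (n : ℕ) (hn : m ^ n • (⊤ : Submodule R M) = ⊥) : IsFiniteLength R M := by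
  exact aux m hm n M hn

end Groth.Agent.S6292
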