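import Groth.Statements.S4722
import Mathlib
-- import your own Groth.Agent.* helpers here

set_option autoImplicit false
universe u
open EGA4

namespace Groth.Agent.S4722

open Submodule in
/-- Core step: a nonzero finite module over a Noetherian ring with `Ass ⊆ {p}` contains a nonzero
submodule `L` embedding into `A/p` such that `Ass(M/L) ⊆ {p}`. -/
theorem exists_submodule_embedding (A : Type u) [CommRing A] [IsNoetherianRing A]
    (M : Type u) [AddCommGroup M] [Module A M] [Module.Finite A M] [Nontrivial M] (p : Ideal A)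
    (hp : associatedPrimes A M ⊆ {p}) :
    ∃ L : Submodule A M, L ≠ ⊥ ∧ (∃ g : L →ₗ[A] (A ⧸ p), Function.Injective g) ∧
      associatedPrimes A (M ⧸ L) ⊆ {p} := by
  classical
  have hAss : associatedPrimes A M = {p} := by
    obtain ⟨q, hq⟩ := associatedPrimes.nonempty A M
    have := hp hq
    rw [Set.mem_singleton_iff] at this
    subst this
    exact Set.Subset.antisymm hp (Set.singleton_subset_iff.mpr hq)
  have hpAss : IsAssociatedPrime p M := by
    have : p ∈ associatedPrimes A M := by rw [hAss]; exact Set.mem_singleton _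
    exact this
  have hpprime : p.IsPrime := hpAss.isPrime
  obtain ⟨-, f, hf⟩ := (isAssociatedPrime_iff_exists_injective_linearMap p M).mp hpAss
  -- elements outside `p` are regular on `M`
  have hreg : ∀ a : A, a ∉ p → ∀ m : M, a • m = 0 → m = 0 := by
    intro a ha m hm
    by_contra hne
    have hmem : a ∈ {r : A | ∃ x : M, x ≠ 0 ∧ r • x = 0} := ⟨m, hne, hm⟩
    rw [← biUnion_associatedPrimes_eq_zero_divisors A M, hAss] at hmem
    simp only [Set.mem_singleton_iff, Set.iUnion_iUnion_eq_left, SetLike.mem_coe] at hmem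
    exact ha hmem
  -- the saturation of `range f`
  let L : Submodule A M :=
    { carrier := {m | ∃ a : A, a ∉ p ∧ a • m ∈ LinearMap.range f}
      add_mem' := by
        rintro m m' ⟨a, ha, hm⟩ ⟨a', ha', hm'⟩
        refine ⟨a * a', fun h => (hpprime.mem_or_mem h).elim ha ha', ?_⟩
        rw [smul_add]
        refine Submodule.add_mem _ ?_ ?_
        · rw [mul_comm, mul_smul]; exact Submodule.smul_mem _ _ hm
        · rw [mul_smul]; exact Submodule.smul_mem _ _ hm'
      zero_mem' := ⟨1, fun h => hpprime.ne_top ((Ideal.eq_top_iff_one _).mpr h), by simp⟩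
      smul_mem' := by
        rintro c m ⟨a, ha, hm⟩
        refine ⟨a, ha, ?_⟩
        rw [smul_comm]
        exact Submodule.smul_mem _ _ hm }
  have hL : ∀ m, m ∈ L ↔ ∃ a : A, a ∉ p ∧ a • m ∈ LinearMap.range f := fun m => Iff.rfl
  have hone : (1 : A) ∉ p := fun h => hpprime.ne_top ((Ideal.eq_top_iff_one _).mpr h)
  have hrange_le : LinearMap.range f ≤ L := by
    intro m hm
    exact ⟨1, hone, by simpa using hm⟩
  -- uniform denominator
  have huniform : ∀ N : Submodule A M, N.FG → N ≤ L →
      ∃ a : A, a ∉ p ∧ ∀ m ∈ N, a • m ∈ LinearMap.range f := by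
    intro N hN
    induction N, hN using Submodule.fg_induction with
    | singleton y =>
      intro hy
      obtain ⟨a, ha, hay⟩ := hy (Submodule.mem_span_singleton_self y)
      refine ⟨a, ha, fun m hm => ?_⟩
      obtain ⟨c, rfl⟩ := Submodule.mem_span_singleton.mp hm
      rw [smul_comm]
      exact Submodule.smul_mem _ _ hay
    | sup N₁ N₂ _ _ h₁ h₂ =>
      intro hle
      obtain ⟨a₁, ha₁, h₁⟩ := h₁ (le_sup_left.trans hle)
      obtain ⟨a₂, ha₂, h₂⟩ := h₂ (le_sup_right.trans hle)
      refine ⟨a₁ * a₂, fun h => (hpprime.mem_or_mem h).elim ha₁ ha₂, fun m hm => ?_⟩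
      obtain ⟨m₁, hm₁, m₂, hm₂, rfl⟩ := Submodule.mem_sup.mp hm
      rw [smul_add]
      refine Submodule.add_mem _ ?_ ?_
      · rw [mul_comm, mul_smul]; exact Submodule.smul_mem _ _ (h₁ m₁ hm₁)
      · rw [mul_smul]; exact Submodule.smul_mem _ _ (h₂ m₂ hm₂)
  obtain ⟨a, ha, haL⟩ := huniform L (IsNoetherian.noetherian L) le_rfl
  refine ⟨L, ?_, ?_, ?_⟩
  · -- `L ≠ ⊥`
    intro hbot
    have h1 : f 1 ∈ L := hrange_le ⟨1, rfl⟩
    rw [hbot, Submodule.mem_bot] at h1
    have : (1 : A ⧸ p) = 0 := hf (by rw [h1, map_zero])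
    have : (1 : A) ∈ p := by
      rw [← Ideal.Quotient.eq_zero_iff_mem]; exact this
    exact hone this
  · -- the embedding
    let ψ : L →ₗ[A] LinearMap.range f :=
      LinearMap.codRestrict (LinearMap.range f) (a • L.subtype) (fun m => haL m.1 m.2)
    have hψ : Function.Injective ψ := by
      intro m m' h
      have h' : a • (m : M) = a • (m' : M) := congrArg Subtype.val h
      have : a • ((m : M) - m') = 0 := by rw [smul_sub, h', sub_self]
      exact Subtype.ext (sub_eq_zero.mp (hreg a ha _ this))
    exact ⟨(LinearEquiv.ofInjective f hf).symm.toLinearMap ∘ₗ ψ,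
      (LinearEquiv.ofInjective f hf).symm.injective.comp hψ⟩
  · -- `Ass(M/L) ⊆ {p}`
    intro q hq
    rw [Set.mem_singleton_iff]
    have hq' : IsAssociatedPrime q (M ⧸ L) := hq
    have hqprime : q.IsPrime := hq'.isPrime
    obtain ⟨-, y, hy⟩ := (isAssociatedPrime_iff).mp hq'
    obtain ⟨m, rfl⟩ := Submodule.mkQ_surjective L y
    have hmemq : ∀ c : A, c ∈ q ↔ c • m ∈ L := by
      intro c
      rw [hy, Submodule.mem_colon_singleton, Submodule.mem_bot, ← map_smul, Submodule.mkQ_apply,
        Submodule.Quotient.mk_eq_zero]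
    have hmL : m ∉ L := by
      intro hm
      apply hqprime.ne_top
      rw [Ideal.eq_top_iff_one, hmemq, one_smul]
      exact hm
    apply le_antisymm
    · -- `q ≤ p`
      intro c hc
      by_contra hcp
      obtain ⟨b, hb, hbc⟩ := (hmemq c).mp hc
      apply hmL
      refine ⟨b * c, fun h => (hpprime.mem_or_mem h).elim hb hcp, ?_⟩
      rw [mul_smul]; exact hbc
    · -- `p ≤ q`
      have hann : Module.annihilator A M ≤ q := by
        intro c hc
        rw [hmemq, Module.mem_annihilator.mp hc m]
        exact L.zero_mem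
      obtain ⟨p', hp', hp'q⟩ := Ideal.exists_minimalPrimes_le hann
      have : p' ∈ associatedPrimes A M :=
        Module.associatedPrimes.minimalPrimes_annihilator_subset_associatedPrimes A M hp'
      rw [hAss, Set.mem_singleton_iff] at this
      rw [← this]; exact hp'q

/-- Transport of the embedding statement along equalities of submodules. -/
theorem exists_embedding_congr {A : Type u} [CommRing A] {M : Type u} [AddCommGroup M] [Module A M]
    (p : Ideal A) {P Q P' Q' : Submodule A M} (hP : P = P') (hQ : Q = Q')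
    (h : ∃ g : (↥P ⧸ Submodule.comap P.subtype Q) →ₗ[A] (A ⧸ p), Function.Injective g) :
    ∃ g : (↥P' ⧸ Submodule.comap P'.subtype Q') →ₗ[A] (A ⧸ p), Function.Injective g := by
  subst hP; subst hQ; exact h

/-- Let A be a Noetherian ring and M a finite A-module whose set of associated primes is a single prime
p. Then M has a finite decreasing filtration by submodules M = M_0 ⊇ M_1 ⊇ ⋯ ⊇ M_m = 0 such that
each quotient M_h/M_{h+1} is isomorphic to a submodule of A/p (i.e. embeds A-linearly into A/p). -/
theorem result (A : Type u) [CommRing A] [IsNoetherianRing A]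
    (M : Type u) [AddCommGroup M] [Module A M] [Module.Finite A M] (p : Ideal A)
    (hp : associatedPrimes A M = {p}) :
    ∃ (m : ℕ) (F : Fin (m + 1) → Submodule A M), Antitone F ∧ F 0 = ⊤ ∧ F (Fin.last m) = ⊥ ∧
      ∀ i : Fin m, ∃ g : (↥(F i.castSucc) ⧸ Submodule.comap (F i.castSucc).subtype (F i.succ)) →ₗ[A] (A ⧸ p),
        Function.Injective g := by
  -- the property for the Noetherian induction
  let P : Submodule A M → Prop := fun N =>
    associatedPrimes A (M ⧸ N) ⊆ {p} ∧
    ∃ (m : ℕ) (F : Fin (m + 1) → Submodule A M), F 0 = N ∧ F (Fin.last m) = ⊥ ∧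
      ∀ i : Fin m, F i.succ ≤ F i.castSucc ∧
        ∃ g : (↥(F i.castSucc) ⧸ Submodule.comap (F i.castSucc).subtype (F i.succ)) →ₗ[A] (A ⧸ p),
          Function.Injective g
  have key : P ⊤ := by
    refine WellFoundedGT.induction_top ⟨⊥, ?_, 0, fun _ => ⊥, rfl, rfl, fun i => i.elim0⟩ ?_
    · rw [LinearEquiv.AssociatedPrimes.eq (Submodule.quotEquivOfEqBot (⊥ : Submodule A M) rfl), hp]
    · rintro N hN ⟨hAssN, m, F, hF0, hFlast, hF⟩
      have : Nontrivial (M ⧸ N) := Submodule.Quotient.nontrivial_iff.mpr hN
      obtain ⟨L, hLbot, ⟨g, hg⟩, hAssL⟩ := exists_submodule_embedding A (M ⧸ N) p hAssN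
      -- the preimage of `L` in `M`
      let φ : M →ₗ[A] (M ⧸ N) ⧸ L := L.mkQ ∘ₗ N.mkQ
      have hφ : Function.Surjective φ :=
        (Submodule.mkQ_surjective L).comp (Submodule.mkQ_surjective N)
      let N' : Submodule A M := LinearMap.ker φ
      have hmemN' : ∀ x, x ∈ N' ↔ N.mkQ x ∈ L := by
        intro x
        simp only [N', φ, LinearMap.mem_ker, LinearMap.comp_apply, Submodule.mkQ_apply,
          Submodule.Quotient.mk_eq_zero]
      have hle : N ≤ N' := by
        intro x hx
        rw [hmemN']
        have : N.mkQ x = 0 := by simpa using hx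
        rw [this]; exact L.zero_mem
      have hlt : N < N' := by
        refine lt_of_le_of_ne hle ?_
        intro heq
        apply hLbot
        rw [eq_bot_iff]
        intro y hy
        obtain ⟨x, rfl⟩ := Submodule.mkQ_surjective N y
        have hx : x ∈ N := by rw [heq, hmemN']; exact hy
        simpa using hx
      refine ⟨N', hlt, ?_, m + 1, Fin.cons N' F, ?_, ?_, ?_⟩
      · -- `Ass(M/N') ⊆ {p}`
        rw [LinearEquiv.AssociatedPrimes.eq (LinearMap.quotKerEquivOfSurjective φ hφ)]
        exact hAssL
      · rfl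
      · have : Fin.last (m + 1) = (Fin.last m).succ := rfl
        rw [this, Fin.cons_succ]; exact hFlast
      · intro i
        refine Fin.cases ?_ (fun j => ?_) i
        · -- the new step
          have h0 : (Fin.cons N' F : Fin (m + 2) → Submodule A M) (Fin.castSucc 0) = N' := rfl
          have h1 : (Fin.cons N' F : Fin (m + 2) → Submodule A M) (Fin.succ 0) = N := by
            rw [Fin.cons_succ]; exact hF0
          refine ⟨by rw [h0, h1]; exact hle, ?_⟩
          refine exists_embedding_congr p h0.symm h1.symm ?_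
          let ψ : N' →ₗ[A] L :=
            LinearMap.codRestrict L (N.mkQ ∘ₗ N'.subtype) (fun x => (hmemN' x.1).mp x.2)
          have hker : LinearMap.ker (g ∘ₗ ψ) = Submodule.comap N'.subtype N := by
            ext x
            rw [LinearMap.mem_ker, LinearMap.comp_apply, Submodule.mem_comap,
              map_eq_zero_iff g hg]
            constructor
            · intro h
              have h' : N.mkQ (x : M) = 0 := congrArg Subtype.val h
              simpa using h'
            · intro h
              apply Subtype.ext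
              change N.mkQ (x : M) = 0
              simpa using h
          refine ⟨Submodule.liftQ _ (g ∘ₗ ψ) hker.ge, ?_⟩
          rw [← LinearMap.ker_eq_bot]
          exact Submodule.ker_liftQ_eq_bot' _ _ hker.symm
        · -- the old steps
          have h0 : (Fin.cons N' F : Fin (m + 2) → Submodule A M) (Fin.castSucc j.succ)
              = F j.castSucc := by
            rw [← Fin.succ_castSucc, Fin.cons_succ]
          have h1 : (Fin.cons N' F : Fin (m + 2) → Submodule A M) (Fin.succ j.succ)
              = F j.succ := by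
            rw [Fin.cons_succ]
          refine ⟨by rw [h0, h1]; exact (hF j).1, ?_⟩
          exact exists_embedding_congr p h0.symm h1.symm (hF j).2
  obtain ⟨-, m, F, hF0, hFlast, hF⟩ := key
  exact ⟨m, F, Fin.antitone_iff_succ_le.mpr (fun i => (hF i).1), hF0, hFlast, fun i => (hF i).2⟩

end Groth.Agent.S4722
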