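import Groth.Statements.S4574
import Mathlib
import Groth.Agent.S4573
import Groth.Agent.Lib.Helper90.SmoothRegular3
import Groth.Agent.Lib.Helper73.RegularLocalization

set_option autoImplicit false
universe u
open IsLocalRing
open EGA41

namespace Groth.Agent.S4574

/-- Let k be a field and A a Noetherian local k-algebra, formally smooth over k for its adic topology.
Then every localization A_p at a prime p is formally smooth over k for the pA_p-adic topology. -/
theorem result {k A : Type u} [Field k] [CommRing A]
    [IsLocalRing A] [IsNoetherianRing A] [Algebra k A] (h : CAlgX.IsAdicFormallySmooth k A (maximalIdeal A))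
    (p : Ideal A) [p.IsPrime] :
    CAlgX.IsAdicFormallySmooth k (Localization.AtPrime p) (maximalIdeal (Localization.AtPrime p)) := by
  obtain ⟨q, hq⟩ := ExpChar.exists k
  have hgr := Groth.Agent.Lib.Helper90.SmoothRegular.isGeometricallyRegular_of_smooth h
  refine (Groth.Agent.S4573.result (k := k) (A := Localization.AtPrime p) q).mpr ?_
  intro k' _ _ hfin _
  have h1 : IsRegularRing (TensorProduct k k' A) := hgr k' hfin
  let T : Submonoid (TensorProduct k k' A) :=
    p.primeCompl.map (Algebra.TensorProduct.includeRight (R := k) (A := k') : A →ₐ[k] TensorProduct k k' A)
  have h2 : IsRegularRing (Localization T) := inferInstance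
  let e := IsLocalization.tensorProductEquivOfMapIncludeRight k k' p.primeCompl
    (Localization.AtPrime p) (Localization T)
  exact IsRegularRing.of_ringEquiv e.symm.toRingEquiv

end Groth.Agent.S4574
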