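import Groth.Statements.S9319
import Mathlib
import Groth.Agent.Lib.Helper81.FieldSmooth
import Groth.Agent.Lib.Helper81.DeltaNat

set_option autoImplicit false
universe u
open CAlg

namespace Groth.Agent.S9319
open Groth.Agent.Lib.Helper81.FieldSmooth Groth.Agent.Lib.Helper81.DeltaNat in
private theorem aux {K L M : Type u} [Field K] [Field L]
    [Field M] [Algebra K L] [Algebra L M] [Algebra K M] [IsScalarTower K L M] :
    Function.Injective ((Algebra.H1Cotangent.map K K L M).liftBaseChange M) := by
  rcases CharP.exists' K with h0 | ⟨p, hp, hpk⟩
  · haveI := h0
    let P : Subfield K := ⊥
    haveI : Algebra.FormallySmooth P L := formallySmooth_of_charZero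
    exact liftBaseChange_map_injective P K L M
  · haveI := hp
    haveI := hpk
    let P : Subfield K := ⊥
    letI : Algebra (ZMod p) K := ZMod.algebra K p
    have hbot : (⊥ : Subfield K) = (algebraMap (ZMod p) K).fieldRange :=
      Subfield.bot_eq_of_zMod_algebra p
    haveI : Finite P := by
      show Finite (⊥ : Subfield K)
      rw [hbot]
      exact Set.finite_range _
    haveI : CharP P p := RingHom.charP (algebraMap P K) (algebraMap P K).injective p
    haveI : PerfectRing P p := PerfectRing.ofFiniteOfIsReduced p P
    haveI : Algebra.FormallySmooth P L := formallySmooth_of_perfectRing p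
    exact liftBaseChange_map_injective P K L M


open TensorProduct in
/-- For a tower of fields `K ⊆ L ⊆ M`, the first map of the Jacobi–Zariski sequence, from `H_1(L_{L/K})
⊗_L M` to `H_1(L_{M/K})`, is injective; here `H_1(L)` denotes the first homology of the naive
cotangent complex and the map is the `M`-linear extension of the functoriality map. (The rest of the
six-term sequence is exact for any three rings, so for fields it is exact with a zero on the left.) -/
theorem result {K L M : Type u} [Field K] [Field L]
    [Field M] [Algebra K L] [Algebra L M] [Algebra K M] [IsScalarTower K L M] :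
    Function.Injective ((Algebra.H1Cotangent.map K K L M).liftBaseChange M) := by
  exact aux

end Groth.Agent.S9319
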