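import Groth.Statements.S2477
import Mathlib
import Groth.Agent.Lib.Helper90.PSUniv
import Groth.Agent.Lib.Helper90.PSIdeal

set_option autoImplicit false
universe u
open EGA41

namespace Groth.Agent.S2477.Aux

set_option linter.style.haveILetI false

open MvPowerSeries IsLocalRing Groth.Agent.Lib.Helper90

/-- a derivation maps `I^(n+1)` into `I^n M` -/
theorem deriv_pow_mem {R S M : Type*} [CommRing R] [CommRing S] [Algebra R S] [AddCommGroup M]
    [Module R M] [Module S M] [IsScalarTower R S M] (D : Derivation R S M) (I : Ideal S) :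
    ∀ (n : ℕ) (a : S), a ∈ I ^ (n + 1) → D a ∈ (I ^ n • ⊤ : Submodule S M) := by
  intro n
  induction n with
  | zero =>
    intro a _
    rw [pow_zero, Ideal.one_eq_top, Submodule.top_smul]
    trivial
  | succ n ih =>
    intro a ha
    rw [pow_succ] at ha
    refine Submodule.mul_induction_on ha (fun b hb c hc => ?_) (fun x y hx hy => ?_)
    · rw [Derivation.leibniz]
      refine Submodule.add_mem _ (Submodule.smul_mem_smul hb trivial) ?_
      have h1 := Submodule.smul_mem_smul hc (ih b hb)
      rwa [← Submodule.mul_smul, ← pow_succ'] at h1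
    · rw [map_add]
      exact Submodule.add_mem _ hx hy

/-- two linear maps congruent modulo all powers of `I` induce the same map on completions -/
theorem map_eq_of_congr {R M N : Type*} [CommRing R] (I : Ideal R) [AddCommGroup M] [Module R M]
    [AddCommGroup N] [Module R N] (f g : M →ₗ[R] N)
    (h : ∀ (n : ℕ) (x : M), f x - g x ∈ (I ^ n • ⊤ : Submodule R N)) :
    AdicCompletion.map I f = AdicCompletion.map I g := by
  refine LinearMap.ext (fun x => ?_)
  refine AdicCompletion.ext (fun n => ?_)
  rw [AdicCompletion.map_val_apply, AdicCompletion.map_val_apply]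
  obtain ⟨y, hy⟩ := Submodule.Quotient.mk_surjective (I ^ n • ⊤ : Submodule R M) (x.val n)
  rw [← hy, LinearMap.reduceModIdeal_apply, LinearMap.reduceModIdeal_apply]
  rw [Submodule.Quotient.eq]
  exact h n y

section
variable (k : Type u) [Field k] (r : ℕ)

/-- the gradient derivation -/
noncomputable def grad : Derivation k (MvPowerSeries (Fin r) k) (Fin r → MvPowerSeries (Fin r) k) where
  toLinearMap := LinearMap.pi (fun i => (pderiv k i).toLinearMap)
  map_one_eq_zero' := by
    ext i
    simp
  leibniz' := by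
    intro a b
    ext i
    simp [Derivation.leibniz]

theorem grad_apply (f : MvPowerSeries (Fin r) k) (i : Fin r) : grad k r f i = pderiv k i f := rfl

/-- `B : Ω → A^r` -/
noncomputable def Bmap : Ω[MvPowerSeries (Fin r) k⁄k] →ₗ[MvPowerSeries (Fin r) k] (Fin r → MvPowerSeries (Fin r) k) :=
  (grad k r).liftKaehlerDifferential

theorem Bmap_D (f : MvPowerSeries (Fin r) k) (i : Fin r) :
    Bmap k r (KaehlerDifferential.D k _ f) i = pderiv k i f := by
  unfold Bmap
  rw [Derivation.liftKaehlerDifferential_comp_D]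
  rfl

/-- `A₀ : A^r → Ω` -/
noncomputable def Amap : (Fin r → MvPowerSeries (Fin r) k) →ₗ[MvPowerSeries (Fin r) k] Ω[MvPowerSeries (Fin r) k⁄k] :=
  Fintype.linearCombination (MvPowerSeries (Fin r) k) (fun i => KaehlerDifferential.D k (MvPowerSeries (Fin r) k) (X i))

theorem Amap_apply (a : Fin r → MvPowerSeries (Fin r) k) :
    Amap k r a = ∑ i, a i • KaehlerDifferential.D k (MvPowerSeries (Fin r) k) (X i) := by
  unfold Amap
  rw [Fintype.linearCombination_apply]

theorem B_comp_A : (Bmap k r) ∘ₗ (Amap k r) = LinearMap.id := by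
  classical
  refine LinearMap.ext (fun a => funext (fun j => ?_))
  simp only [LinearMap.comp_apply, LinearMap.id_apply, Amap_apply, map_sum, map_smul,
    Finset.sum_apply, Pi.smul_apply, Bmap_D, pderiv_X, smul_eq_mul]
  rw [Finset.sum_eq_single j]
  · simp
  · intro i _ hij
    rw [Pi.single_apply, if_neg hij, mul_zero]
  · intro h
    exact absurd (Finset.mem_univ j) h

theorem poly_case (p : MvPolynomial (Fin r) k) :
    KaehlerDifferential.D k (MvPowerSeries (Fin r) k) (p : MvPowerSeries (Fin r) k) =
      ∑ i, pderiv k i (p : MvPowerSeries (Fin r) k) • KaehlerDifferential.D k (MvPowerSeries (Fin r) k) (X i) := by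
  classical
  induction p using MvPolynomial.induction_on with
  | C a =>
    rw [MvPolynomial.coe_C]
    have : (C a : MvPowerSeries (Fin r) k) = algebraMap k _ a := rfl
    simp [this]
  | add p q hp hq =>
    rw [MvPolynomial.coe_add, map_add, hp, hq, ← Finset.sum_add_distrib]
    refine Finset.sum_congr rfl (fun i _ => ?_)
    rw [map_add, add_smul]
  | mul_X p j hp =>
    rw [MvPolynomial.coe_mul, MvPolynomial.coe_X, Derivation.leibniz]
    have h1 : ∀ i, pderiv k i ((p : MvPowerSeries (Fin r) k) * X j) =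
        (p : MvPowerSeries (Fin r) k) * Pi.single (M := fun _ => MvPowerSeries (Fin r) k) i 1 j
          + X j * pderiv k i (p : MvPowerSeries (Fin r) k) := by
      intro i
      rw [Derivation.leibniz, pderiv_X, smul_eq_mul, smul_eq_mul]
    simp only [h1, add_smul, Finset.sum_add_distrib]
    congr 1
    · rw [Finset.sum_eq_single j]
      · simp
      · intro i _ hij
        rw [Pi.single_apply, if_neg (Ne.symm hij), mul_zero, zero_smul]
      · intro h
        exact absurd (Finset.mem_univ j) h
    · conv_lhs => rw [hp]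
      rw [Finset.smul_sum]
      refine Finset.sum_congr rfl (fun i _ => ?_)
      rw [smul_smul]

theorem A_comp_B_congr (n : ℕ) (ω : Ω[MvPowerSeries (Fin r) k⁄k]) :
    Amap k r (Bmap k r ω) - ω ∈
      (maximalIdeal (MvPowerSeries (Fin r) k) ^ n • ⊤ :
        Submodule (MvPowerSeries (Fin r) k) (Ω[MvPowerSeries (Fin r) k⁄k])) := by
  classical
  set T : Ω[MvPowerSeries (Fin r) k⁄k] →ₗ[MvPowerSeries (Fin r) k] Ω[MvPowerSeries (Fin r) k⁄k] :=
    (Amap k r) ∘ₗ (Bmap k r) - LinearMap.id with hT
  suffices h : Submodule.span (MvPowerSeries (Fin r) k)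
        (Set.range (KaehlerDifferential.D k (MvPowerSeries (Fin r) k))) ≤
      (maximalIdeal (MvPowerSeries (Fin r) k) ^ n • ⊤ :
        Submodule (MvPowerSeries (Fin r) k) (Ω[MvPowerSeries (Fin r) k⁄k])).comap T by
    have hω : ω ∈ Submodule.span (MvPowerSeries (Fin r) k)
        (Set.range (KaehlerDifferential.D k (MvPowerSeries (Fin r) k))) := by
      rw [KaehlerDifferential.span_range_derivation]; trivial
    have := h hω
    simpa [hT] using this
  rw [Submodule.span_le]
  rintro _ ⟨f, rfl⟩
  rw [SetLike.mem_coe, Submodule.mem_comap]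
  have hTf : T (KaehlerDifferential.D k _ f) =
      ∑ i, pderiv k i f • KaehlerDifferential.D k (MvPowerSeries (Fin r) k) (X i)
        - KaehlerDifferential.D k _ f := by
    simp only [hT, LinearMap.sub_apply, LinearMap.comp_apply, LinearMap.id_apply, Amap_apply, Bmap_D]
  rw [hTf]
  obtain ⟨p, hp⟩ := PSUniv.exists_trunc (n + 1) f
  set g := f - (p : MvPowerSeries (Fin r) k) with hg
  have hgm : g ∈ maximalIdeal (MvPowerSeries (Fin r) k) ^ (n + 1) := by
    rw [PSIdeal.maximalIdeal_eq_span_X]
    exact PSIdeal.mem_pow_of_coeff (n + 1) g hp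
  have hf : f = (p : MvPowerSeries (Fin r) k) + g := by rw [hg]; ring
  have h1 : ∑ i, pderiv k i f • KaehlerDifferential.D k (MvPowerSeries (Fin r) k) (X i)
        - KaehlerDifferential.D k _ f =
      ∑ i, pderiv k i g • KaehlerDifferential.D k (MvPowerSeries (Fin r) k) (X i)
        - KaehlerDifferential.D k _ g := by
    conv_lhs => rw [hf]
    simp only [map_add, add_smul, Finset.sum_add_distrib]
    rw [poly_case k r p]
    abel
  rw [h1]
  have hDg := deriv_pow_mem (KaehlerDifferential.D k (MvPowerSeries (Fin r) k))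
    (maximalIdeal (MvPowerSeries (Fin r) k)) n g hgm
  refine Submodule.sub_mem _ (Submodule.sum_mem _ (fun i _ => ?_)) hDg
  have h2 := deriv_pow_mem (pderiv k i) (maximalIdeal (MvPowerSeries (Fin r) k)) n g hgm
  have h3 : pderiv k i g ∈ maximalIdeal (MvPowerSeries (Fin r) k) ^ n := by
    rw [smul_eq_mul, Ideal.mul_top] at h2
    exact h2
  exact Submodule.smul_mem_smul h3 trivial

theorem main :
    Module.Finite (MvPowerSeries (Fin r) k) (AdicCompletion (maximalIdeal (MvPowerSeries (Fin r) k)) (Ω[MvPowerSeries (Fin r) k⁄k])) ∧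
    Module.Free (MvPowerSeries (Fin r) k) (AdicCompletion (maximalIdeal (MvPowerSeries (Fin r) k)) (Ω[MvPowerSeries (Fin r) k⁄k])) ∧
      Module.finrank (MvPowerSeries (Fin r) k) (AdicCompletion (maximalIdeal (MvPowerSeries (Fin r) k)) (Ω[MvPowerSeries (Fin r) k⁄k])) = r := by
  classical
  set m := maximalIdeal (MvPowerSeries (Fin r) k) with hm
  have hAB : AdicCompletion.map m ((Amap k r) ∘ₗ (Bmap k r)) = AdicCompletion.map m LinearMap.id :=
    map_eq_of_congr m _ _ (fun n ω => by simpa using A_comp_B_congr k r n ω)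
  let e1 : AdicCompletion m (Ω[MvPowerSeries (Fin r) k⁄k]) ≃ₗ[AdicCompletion m (MvPowerSeries (Fin r) k)]
      AdicCompletion m (Fin r → MvPowerSeries (Fin r) k) :=
    LinearEquiv.ofLinearMap (AdicCompletion.map m (Bmap k r)) (AdicCompletion.map m (Amap k r))
      (by rw [AdicCompletion.map_comp, B_comp_A, AdicCompletion.map_id])
      (by rw [AdicCompletion.map_comp, hAB, AdicCompletion.map_id])
  let e2 := AdicCompletion.piEquivFin m (R := MvPowerSeries (Fin r) k) r
  haveI : IsAdicComplete m (MvPowerSeries (Fin r) k) := by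
    rw [hm, PSIdeal.maximalIdeal_eq_span_X]
    infer_instance
  let e3 : (Fin r → AdicCompletion m (MvPowerSeries (Fin r) k)) ≃ₗ[MvPowerSeries (Fin r) k]
      (Fin r → MvPowerSeries (Fin r) k) :=
    LinearEquiv.piCongrRight (fun _ => (AdicCompletion.ofLinearEquiv m (MvPowerSeries (Fin r) k)).symm)
  let e : AdicCompletion m (Ω[MvPowerSeries (Fin r) k⁄k]) ≃ₗ[MvPowerSeries (Fin r) k]
      (Fin r → MvPowerSeries (Fin r) k) :=
    ((e1.trans e2).restrictScalars (MvPowerSeries (Fin r) k)).trans e3
  refine ⟨Module.Finite.equiv e.symm, Module.Free.of_equiv e.symm, ?_⟩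
  rw [LinearEquiv.finrank_eq e]
  simp
end

end Groth.Agent.S2477.Aux

namespace Groth.Agent.S2477

open IsLocalRing in
/-- Let k be a field and A = k[[T_1, …, T_r]] with its usual k-algebra structure. Then the adic
completion Ω̂_{A/k} of Ω_{A/k} is a free A-module of rank r. -/
theorem result (k : Type u) [Field k] (r : ℕ) :
    Module.Finite (MvPowerSeries (Fin r) k) (AdicCompletion (maximalIdeal (MvPowerSeries (Fin r) k)) (Ω[MvPowerSeries (Fin r) k⁄k])) ∧
    Module.Free (MvPowerSeries (Fin r) k) (AdicCompletion (maximalIdeal (MvPowerSeries (Fin r) k)) (Ω[MvPowerSeries (Fin r) k⁄k])) ∧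
      Module.finrank (MvPowerSeries (Fin r) k) (AdicCompletion (maximalIdeal (MvPowerSeries (Fin r) k)) (Ω[MvPowerSeries (Fin r) k⁄k])) = r := by
  exact Aux.main k r

end Groth.Agent.S2477
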