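import Groth.Statements.S2469
import Mathlib
import Groth.Agent.Lib.Helper81.Cartier

set_option autoImplicit false
universe u
open EGA41

namespace Groth.Agent.S2469
open Groth.Agent.Lib.Helper81.Cartier in

/-- Let L be a finitely generated extension field of K. Then Ω_{L/K} and the imperfection module Υ_{L/K}
(kernel of Ω_{K/ℤ} ⊗_K L → Ω_{L/ℤ}) are finite-dimensional L-vector spaces and rank Ω_{L/K} − rank
Υ_{L/K} equals the transcendence degree of L over K. -/
theorem result {K L : Type u} [Field K] [Field L] [Algebra K L] [Algebra.EssFiniteType K L] :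
    Module.Finite L (Ω[L⁄K]) ∧ Module.Finite L (EGA41.imperfection ℤ K L) ∧
      (Module.finrank L (Ω[L⁄K]) : ℤ) - Module.finrank L (EGA41.imperfection ℤ K L) = Cardinal.toNat (Algebra.trdeg K L) := by
  obtain ⟨hΩ, hH, n, hn, he⟩ := good_of_essFiniteType K L
  haveI := hH
  refine ⟨hΩ, ?_, ?_⟩
  · exact finite_ker_mapBaseChange ℤ K L
  · have h1 : Module.finrank L (EGA41.imperfection ℤ K L) =
        Module.finrank L (Algebra.H1Cotangent K L) :=
      finrank_ker_mapBaseChange_eq ℤ K L (h1Cotangent_map_int_eq_zero K L)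
    rw [h1, hn, Cardinal.toNat_natCast, he]
    push_cast
    ring

end Groth.Agent.S2469
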