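import Groth.Statements.S2475
import Mathlib
import Groth.Agent.S2468
import Groth.Agent.Lib.Helper81.PBasisField
import Groth.Agent.Lib.Helper81.PBasisKaehler

set_option autoImplicit false
universe u
open EGA41

namespace Groth.Agent.S2475

open Groth.Agent.Lib.Helper81.PBasis Groth.Agent.Lib.Helper81.PBasisEGA Groth.Agent.Lib.Helper81.PBasisField

/-- transfer of linear independence along a map of scalars compatible with the actions -/
theorem li_of_map {K ι : Type*} [AddCommGroup K] {R₁ R₂ : Type*} [Ring R₁] [Ring R₂]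
    [Module R₁ K] [Module R₂ K] (φ : R₂ → R₁) (hφ : ∀ r (x : K), φ r • x = r • x)
    (h0 : ∀ r, φ r = 0 → r = 0) {v : ι → K} (h : LinearIndependent R₁ v) :
    LinearIndependent R₂ v := by
  rw [linearIndependent_iff'] at h ⊢
  intro s g hg i hi
  apply h0
  refine h s (fun j => φ (g j)) ?_ i hi
  simp only [hφ]
  exact hg

/-- **Descending families of subfields.** A finite family linearly independent over the
intersection of a directed decreasing family of subfields is linearly independent over one of
them. -/
theorem exists_li_of_iInf {k₀ K : Type*} [Field k₀] [Field K] [Algebra k₀ K]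
    {ι : Type*} [Preorder ι] [IsDirected ι (· ≤ ·)] [Nonempty ι]
    (G : ι → IntermediateField k₀ K) (hG : Antitone G) :
    ∀ (n : ℕ) (v : Fin n → K), LinearIndependent ↥(⨅ i, G i) v → ∃ i, LinearIndependent ↥(G i) v := by
  intro n
  induction n with
  | zero =>
    intro v _
    exact ⟨Classical.arbitrary ι, linearIndependent_empty_type⟩
  | succ n ih =>
    intro v hv
    rw [← Fin.cons_self_tail v, linearIndependent_finCons] at hv
    obtain ⟨hv1, hv2⟩ := hv
    obtain ⟨i₀, hi₀⟩ := ih (Fin.tail v) hv1
    by_contra hcon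
    push Not at hcon
    -- monotonicity
    have hmono : ∀ i, i₀ ≤ i → LinearIndependent ↥(G i) (Fin.tail v) := by
      intro i hi
      exact li_of_map (fun r : ↥(G i) => (⟨r.1, hG hi r.2⟩ : ↥(G i₀))) (fun r x => rfl)
        (fun r hr => Subtype.ext (by simpa using congrArg Subtype.val hr)) hi₀
    have hmem : ∀ i, i₀ ≤ i → v 0 ∈ Submodule.span ↥(G i) (Set.range (Fin.tail v)) := by
      intro i hi
      by_contra hnot
      apply hcon i
      rw [← Fin.cons_self_tail v, linearIndependent_finCons]
      exact ⟨hmono i hi, hnot⟩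
    obtain ⟨c, hc⟩ := (Submodule.mem_span_range_iff_exists_fun _).mp (hmem i₀ le_rfl)
    have hcmem : ∀ i, i₀ ≤ i → ∀ j, (c j : K) ∈ G i := by
      intro i hi j
      obtain ⟨d, hd⟩ := (Submodule.mem_span_range_iff_exists_fun _).mp (hmem i hi)
      have hsub : ∑ l, (c l - (⟨(d l).1, hG hi (d l).2⟩ : ↥(G i₀))) • Fin.tail v l = 0 := by
        simp only [sub_smul, Finset.sum_sub_distrib]
        rw [hc, sub_eq_zero]
        exact hd.symm
      have := (Fintype.linearIndependent_iff.mp hi₀) _ hsub j
      have h2 : c j = ⟨(d j).1, hG hi (d j).2⟩ := sub_eq_zero.mp this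
      rw [h2]
      exact (d j).2
    have hcinf : ∀ j, (c j : K) ∈ ⨅ i, G i := by
      intro j
      have hmi : ∀ z : K, z ∈ (⨅ i, G i) ↔ ∀ i, z ∈ G i := by
        intro z
        rw [← SetLike.mem_coe, IntermediateField.coe_iInf, Set.mem_iInter]
        rfl
      rw [hmi]
      intro i'
      obtain ⟨i, hi1, hi2⟩ := exists_ge_ge i' i₀
      exact hG hi1 (hcmem i hi2 j)
    apply hv2
    rw [Submodule.mem_span_range_iff_exists_fun]
    exact ⟨fun j => ⟨c j, hcinf j⟩, hc⟩


/-- the kernel of the universal derivation of `K` over an intermediate field `k` contains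
`k ⊔ k₀(K^p)` -/
theorem D_eq_zero_of_mem {p : ℕ} [Fact p.Prime] {k₀ K : Type u} [Field k₀] [Field K] [Algebra k₀ K]
    [CharP K p] (k : IntermediateField k₀ K) {x : K}
    (hx : x ∈ k ⊔ IntermediateField.adjoin k₀ (Set.range fun y : K => y ^ p)) :
    KaehlerDifferential.D k K x = 0 := by
  let Z0 : Subalgebra k₀ K :=
    { carrier := {z | KaehlerDifferential.D k K z = 0}
      mul_mem' := by
        intro a b ha hb
        simp only [Set.mem_ofPred_eq] at ha hb ⊢
        rw [Derivation.leibniz, ha, hb, smul_zero, smul_zero, add_zero]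
      one_mem' := by simp
      add_mem' := by
        intro a b ha hb
        simp only [Set.mem_ofPred_eq] at ha hb ⊢
        rw [map_add, ha, hb, add_zero]
      zero_mem' := by simp
      algebraMap_mem' := by
        intro c
        simp only [Set.mem_ofPred_eq]
        rw [IsScalarTower.algebraMap_apply k₀ k K, Derivation.map_algebraMap] }
  let Z : IntermediateField k₀ K := Z0.toIntermediateField (by
    intro z hz
    change KaehlerDifferential.D k K z⁻¹ = 0
    have hz' : KaehlerDifferential.D k K z = 0 := hz
    rw [Derivation.leibniz_inv, hz', smul_zero])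
  have hZ : ∀ z, z ∈ Z ↔ KaehlerDifferential.D k K z = 0 := fun z => Iff.rfl
  have hle : k ⊔ IntermediateField.adjoin k₀ (Set.range fun y : K => y ^ p) ≤ Z := by
    refine sup_le ?_ ?_
    · intro z hz
      rw [hZ]
      have : z = algebraMap k K ⟨z, hz⟩ := rfl
      rw [this, Derivation.map_algebraMap]
    · rw [IntermediateField.adjoin_le_iff]
      rintro _ ⟨y, rfl⟩
      change KaehlerDifferential.D k K (y ^ p) = 0
      rw [Derivation.leibniz_pow, ← Nat.cast_smul_eq_nsmul K, CharP.cast_eq_zero K p, zero_smul]
  exact (hZ x).mp (hle hx)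


/-- Let K be a field of characteristic p > 0, k₀ ⊆ K a subfield and (k_α) a decreasing filtered family
of subfields of K containing k₀. Then ⋂_α k_α(K^p) = k₀(K^p) if and only if the canonical map
Ω_{K/k₀} → lim_α Ω_{K/k_α} is injective (an element of Ω_{K/k₀} whose image in every Ω_{K/k_α}
vanishes is zero). (Conditions (b), (b') of the source, on admissible subfields, are not stated.) -/
theorem result (p : ℕ) [Fact p.Prime] {k₀ K : Type u} [Field k₀] [Field K] [Algebra k₀ K] [CharP K p]
    {ι : Type u} [Preorder ι] [IsDirected ι (· ≤ ·)] [Nonempty ι] (k : ι → IntermediateField k₀ K) (hk : Antitone k) :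
    (⨅ i, k i ⊔ IntermediateField.adjoin k₀ (Set.range fun y : K => y ^ p)) = IntermediateField.adjoin k₀ (Set.range fun y : K => y ^ p) ↔
      ∀ ω : Ω[K⁄k₀], (∀ i, KaehlerDifferential.map k₀ (k i) K K ω = 0) → ω = 0 := by
  classical
  set F : IntermediateField k₀ K := IntermediateField.adjoin k₀ (Set.range fun y : K => y ^ p) with hFdef
  have hF : ∀ y : K, y ^ p ∈ F := fun y => IntermediateField.subset_adjoin k₀ _ ⟨y, rfl⟩
  constructor
  · -- (⇒)
    intro hinf ω hω
    obtain ⟨κ, a, -, hsp, hli⟩ :=
      exists_linearIndependent' K (fun z : K => KaehlerDifferential.D k₀ K z)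
    have hω' : ω ∈ Submodule.span K (Set.range ((fun z : K => KaehlerDifferential.D k₀ K z) ∘ a)) := by
      rw [hsp, KaehlerDifferential.span_range_derivation]
      trivial
    obtain ⟨c, hc⟩ := Finsupp.mem_span_range_iff_exists_finsupp.mp hω'
    let T := ↥c.support
    let y : T → K := fun j => a j
    have hliT : LinearIndependent K (fun j : T => KaehlerDifferential.D k₀ K (y j)) :=
      hli.comp (fun j : T => (j : κ)) Subtype.val_injective
    have hpi : EGA41.IsPIndependent p k₀ y := ((Groth.Agent.S2468.result p y).1).mpr hliT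
    -- the monomial family
    let E := {e : T →₀ ℕ // ∀ i, e i < p}
    let M : E → K := fun e => EGA41.pMonomial y e.1
    have hM0 : LinearIndependent ↥(EGA41.pPowerSubalgebra p k₀ K) M := hpi
    have : Finite E := by
      refine Finite.of_injective (fun e : E => fun i : T => (⟨e.1 i, e.2 i⟩ : Fin p)) ?_
      intro e e' h
      apply Subtype.ext
      ext i
      exact congrArg Fin.val (congrFun h i)
    -- over the intersection
    have hFsub : ∀ z : K, z ∈ F → z ∈ EGA41.pPowerSubalgebra p k₀ K := by
      intro z hz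
      have h1 : z ∈ IntermediateField.adjoin k₀ (Set.range (fun y : K => y ^ p) ∪ ∅) := by
        rw [Set.union_empty]
        exact hz
      have h2 := mem_algebraAdjoin_of_mem_adjoin (p := p) (k := k₀) (∅ : Set K) h1
      rw [Algebra.adjoin_empty, Algebra.mem_bot] at h2
      obtain ⟨r, rfl⟩ := h2
      exact r.2
    have hM1 : LinearIndependent ↥(⨅ i, k i ⊔ F) M := by
      refine li_of_map (fun r : ↥(⨅ i, k i ⊔ F) =>
        (⟨r.1, hFsub _ (hinf.le r.2)⟩ : ↥(EGA41.pPowerSubalgebra p k₀ K))) (fun r x => rfl)
        (fun r hr => Subtype.ext (by simpa using congrArg Subtype.val hr)) hM0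
    let eqv : Fin (Nat.card E) ≃ E := (Finite.equivFin E).symm
    have hM2 : LinearIndependent ↥(⨅ i, k i ⊔ F) (M ∘ eqv) := (linearIndependent_equiv eqv).mpr hM1
    have hanti : Antitone (fun i => k i ⊔ F) := fun i j hij => sup_le_sup_right (hk hij) F
    obtain ⟨i, hi⟩ := exists_li_of_iInf (fun i => k i ⊔ F) hanti _ _ hM2
    have hM3 : LinearIndependent ↥(k i ⊔ F) M := (linearIndependent_equiv eqv).mp hi
    have hsub : ∀ z : K, z ∈ EGA41.pPowerSubalgebra p (k i) K → z ∈ k i ⊔ F := by
      intro z hz
      refine Algebra.adjoin_induction (p := fun z _ => z ∈ k i ⊔ F) ?_ ?_ ?_ ?_ hz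
      · rintro _ ⟨b, rfl⟩
        exact (le_sup_right : F ≤ k i ⊔ F) (hF b)
      · intro r
        exact (le_sup_left : k i ≤ k i ⊔ F) r.2
      · intro a b _ _ ha hb
        exact add_mem ha hb
      · intro a b _ _ ha hb
        exact mul_mem ha hb
    have hM4 : LinearIndependent ↥(EGA41.pPowerSubalgebra p (k i) K) M := by
      refine li_of_map (fun r : ↥(EGA41.pPowerSubalgebra p (k i) K) =>
        (⟨r.1, hsub _ r.2⟩ : ↥(k i ⊔ F))) (fun r x => rfl)
        (fun r hr => Subtype.ext (by simpa using congrArg Subtype.val hr)) hM3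
    have hpi' : EGA41.IsPIndependent p (k i) y := hM4
    have hli' : LinearIndependent K (fun j : T => KaehlerDifferential.D (k i) K (y j)) :=
      ((Groth.Agent.S2468.result p y).1).mp hpi'
    -- conclude
    have h1 := hω i
    rw [← hc, Finsupp.sum, map_sum] at h1
    simp only [map_smul, Function.comp_apply, KaehlerDifferential.map_D, Algebra.algebraMap_self,
      RingHom.id_apply] at h1
    rw [← Finset.sum_coe_sort c.support] at h1
    have h2 := (Fintype.linearIndependent_iff.mp hli') (fun j : T => c j) h1
    rw [← hc, Finsupp.sum]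
    refine Finset.sum_eq_zero fun j hj => ?_
    rw [h2 ⟨j, hj⟩, zero_smul]
  · -- (⇐)
    intro h
    apply le_antisymm
    · intro x hx
      by_contra hxF
      obtain ⟨D, hD1, hD2⟩ := exists_derivation_of_notMem F hF hxF
      have hDk : ∀ r : k₀, D (algebraMap k₀ K r) = 0 := fun r => hD1 _ (F.algebraMap_mem r)
      obtain ⟨φ, hφ⟩ := exists_liftKaehler (A := k₀) D hDk
      have hmem : ∀ i, x ∈ k i ⊔ F := by
        intro i
        have : (⨅ i, k i ⊔ F) ≤ k i ⊔ F := iInf_le _ i
        exact this hx
      have h0 : KaehlerDifferential.D k₀ K x = 0 := by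
        apply h
        intro i
        rw [KaehlerDifferential.map_D]
        exact D_eq_zero_of_mem (p := p) (k i) (hmem i)
      have := hφ x
      rw [h0, map_zero, hD2] at this
      exact zero_ne_one this
    · exact le_iInf fun i => le_sup_right

end Groth.Agent.S2475
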