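import Groth.Statements.S14002
import Mathlib

set_option autoImplicit false
universe u
open CAlg

namespace Groth.Agent.S14002

section helpers
open TensorProduct


/-- transfer of flatness of a base change: if `S ⊗[R] A` is `S`-flat, then `- ⊗[R] A` preserves
injectivity of `S`-linear maps. -/
theorem rTensor_injective_of_flat_baseChange {R S : Type u} [CommRing R] [CommRing S] [Algebra R S]
    (A : Type u) [AddCommGroup A] [Module R A] [Module.Flat S (S ⊗[R] A)]
    {N₁ N₂ : Type u} [AddCommGroup N₁] [AddCommGroup N₂] [Module R N₁] [Module S N₁]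
    [IsScalarTower R S N₁] [Module R N₂] [Module S N₂] [IsScalarTower R S N₂]
    (f : N₁ →ₗ[S] N₂) (hf : Function.Injective f) :
    Function.Injective ((f.restrictScalars R).rTensor A) := by
  have h1 : Function.Injective (f.rTensor (S ⊗[R] A)) :=
    Module.Flat.rTensor_preserves_injective_linearMap f hf
  let e₁ := AlgebraTensorModule.cancelBaseChange R S S N₁ A
  let e₂ := AlgebraTensorModule.cancelBaseChange R S S N₂ A
  have hcomp : ∀ z : N₁ ⊗[R] A, (f.restrictScalars R).rTensor A z =
      e₂ (f.rTensor (S ⊗[R] A) (e₁.symm z)) := by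
    intro z
    induction z using TensorProduct.induction_on with
    | zero => simp
    | tmul n a => simp [e₁, e₂]
    | add a b ha hb => simp only [map_add, ha, hb]
  intro z w hzw
  rw [hcomp, hcomp] at hzw
  exact e₁.symm.injective (h1 (e₂.injective hzw))



theorem lTensor_mem_pow_smul_top {B A : Type u} [CommRing B] [CommRing A] [Algebra B A]
    (J : Ideal B) (n : ℕ) {P : Type u} [AddCommGroup P] [Module B P] (K : Submodule B P)
    (hK : K ≤ J ^ n • (⊤ : Submodule B P)) (y : A ⊗[B] K) :
    (K.subtype.lTensor A) y ∈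
      (J.map (algebraMap B A)) ^ n • (⊤ : Submodule A (A ⊗[B] P)) := by
  induction y using TensorProduct.induction_on with
  | zero => simp
  | add a b ha hb => rw [map_add]; exact Submodule.add_mem _ ha hb
  | tmul α κ =>
    rw [LinearMap.lTensor_tmul, Submodule.subtype_apply]
    have hκ : (κ : P) ∈ J ^ n • (⊤ : Submodule B P) := hK κ.2
    refine Submodule.smul_induction_on hκ ?_ ?_
    · intro j hj p _
      have h1 : α ⊗ₜ[B] (j • p) = (algebraMap B A j) • (α ⊗ₜ[B] p) := by
        rw [TensorProduct.tmul_smul, TensorProduct.smul_tmul', TensorProduct.smul_tmul',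
          Algebra.smul_def, smul_eq_mul]
      rw [h1]
      apply Submodule.smul_mem_smul _ Submodule.mem_top
      rw [← Ideal.map_pow]
      exact Ideal.mem_map_of_mem _ hj
    · intro p q hp hq
      rw [TensorProduct.tmul_add]
      exact Submodule.add_mem _ hp hq

theorem flat_of_flat_quotients (B A : Type u) [CommRing B] [CommRing A]
    [IsNoetherianRing B] [IsNoetherianRing A] [Algebra B A] (J : Ideal B)
    [IsAdicComplete (J.map (algebraMap B A)) A]
    (h : ∀ n : ℕ, 0 < n → Module.Flat (B ⧸ J ^ n) ((B ⧸ J ^ n) ⊗[B] A)) :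
    Module.Flat B A := by
  rw [Module.Flat.iff_lTensor_injective']
  intro 𝔞
  rw [injective_iff_map_eq_zero]
  intro x hx
  -- Krull intersection
  have hjac : J.map (algebraMap B A) ≤ (⊥ : Ideal A).jacobson :=
    IsAdicComplete.le_jacobson_bot (J.map (algebraMap B A))
  have hkrull := Ideal.iInf_pow_smul_eq_bot_of_le_jacobson (M := A ⊗[B] 𝔞)
    (J.map (algebraMap B A)) hjac
  have hxmem : x ∈ (⨅ i : ℕ, (J.map (algebraMap B A)) ^ i • ⊤ : Submodule A (A ⊗[B] 𝔞)) := by
    rw [Submodule.mem_iInf]
    intro n
    -- Artin–Rees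
    obtain ⟨k, hk⟩ := Ideal.exists_pow_inf_eq_pow_smul J (𝔞 : Submodule B B)
    set m : ℕ := n + k + 1 with hm
    have hmpos : 0 < m := by omega
    have hflat := h m hmpos
    let 𝔞' : Ideal (B ⧸ J ^ m) := 𝔞.map (Ideal.Quotient.mk (J ^ m))
    let ψ : 𝔞 →ₗ[B] 𝔞' :=
      { toFun := fun a => ⟨Ideal.Quotient.mk (J ^ m) a, Ideal.mem_map_of_mem _ a.2⟩
        map_add' := fun a b => Subtype.ext (map_add _ _ _)
        map_smul' := fun b a => Subtype.ext (by
          simp only [SetLike.val_smul, smul_eq_mul, map_mul, RingHom.id_apply]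
          rfl) }
    have hψsurj : Function.Surjective ψ := by
      rintro ⟨y, hy⟩
      obtain ⟨a, ha, rfl⟩ := (Ideal.mem_map_iff_of_surjective _ Ideal.Quotient.mk_surjective).mp hy
      exact ⟨⟨a, ha⟩, rfl⟩
    have hinj : Function.Injective ((𝔞'.subtype.restrictScalars B).lTensor A) := by
      rw [LinearMap.lTensor_inj_iff_rTensor_inj]
      exact rTensor_injective_of_flat_baseChange A 𝔞'.subtype Subtype.val_injective
    have hcomp : (𝔞'.subtype.restrictScalars B) ∘ₗ ψ =
        (Algebra.linearMap B (B ⧸ J ^ m)) ∘ₗ 𝔞.subtype := by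
      ext a; rfl
    have hψx : ψ.lTensor A x = 0 := by
      apply hinj
      rw [map_zero, ← LinearMap.comp_apply, ← LinearMap.lTensor_comp, hcomp, LinearMap.lTensor_comp,
        LinearMap.comp_apply, hx, map_zero]
    have hex : Function.Exact ((LinearMap.ker ψ).subtype.lTensor A) (ψ.lTensor A) :=
      lTensor_exact A (LinearMap.exact_subtype_ker_map ψ) hψsurj
    obtain ⟨y, rfl⟩ := (hex x).mp hψx
    apply lTensor_mem_pow_smul_top J n (LinearMap.ker ψ) _ y
    -- ker ψ ≤ J^n • ⊤
    intro a ha
    rw [LinearMap.mem_ker] at ha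
    have ha' : (a : B) ∈ J ^ m := by
      have := congrArg Subtype.val ha
      exact Ideal.Quotient.eq_zero_iff_mem.mp this
    rw [Submodule.mem_smul_top_iff]
    have h1 : (a : B) ∈ J ^ m • (⊤ : Submodule B B) ⊓ 𝔞 := ⟨by simpa using ha', a.2⟩
    rw [hk m (by omega)] at h1
    have h2 : m - k = n + 1 := by omega
    rw [h2] at h1
    have h3 : J ^ (n + 1) • (J ^ k • (⊤ : Submodule B B) ⊓ 𝔞) ≤ J ^ n • (𝔞 : Submodule B B) :=
      Submodule.smul_mono (Ideal.pow_le_pow_right (Nat.le_succ n)) inf_le_right
    exact h3 h1
  rw [hkrull] at hxmem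
  exact (Submodule.mem_bot _).mp hxmem


end helpers


open TensorProduct in
/-- Flatness of an adic morphism of locally Noetherian formal schemes is detected on the truncations.
Let B → A be a homomorphism of Noetherian rings and J an ideal of B such that A is adically
separated and complete with respect to the extended ideal JA. Then A is a flat B-module if and only
if for every n ≥ 1 the base change (B/Jⁿ) ⊗_B A = A/JⁿA is a flat (B/Jⁿ)-module. The ring B is not
assumed separated or complete for the J-adic topology. (The published statement is about an adic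
morphism of locally Noetherian formal schemes, so that both rings are adic there; the criterion
holds without that assumption on B.) -/
theorem result (B A : Type u) [CommRing B] [CommRing A]
    [IsNoetherianRing B] [IsNoetherianRing A] [Algebra B A] (J : Ideal B)
    [IsAdicComplete (J.map (algebraMap B A)) A] :
    Module.Flat B A ↔ ∀ n : ℕ, 0 < n → Module.Flat (B ⧸ J ^ n) ((B ⧸ J ^ n) ⊗[B] A) := by
  constructor
  · intro hflat n _
    infer_instance
  · exact flat_of_flat_quotients B A J

end Groth.Agent.S14002
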