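import Groth.Statements.S0396
import Groth.Agent.H76.LocalCrit2
import Mathlib.RingTheory.Localization.Submodule
import Mathlib.RingTheory.Localization.AtPrime.Basic
import Mathlib.RingTheory.Localization.Finiteness

set_option autoImplicit false
universe u
open FlatMor

namespace Groth.Agent.S0396

open TensorProduct in
/-- For a map of Noetherian rings R → S, an ideal I of R and a finite S-module M such that M/IⁿM is flat
over R/Iⁿ for every n ≥ 1, the localization of M at any prime of S containing IS is flat over R. -/
theorem result {R S M : Type u} [CommRing R] [CommRing S] [IsNoetherianRing R] [IsNoetherianRing S] [Algebra R S]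
    [AddCommGroup M] [Module R M] [Module S M] [IsScalarTower R S M] [Module.Finite S M] (I : Ideal R)
    (h : ∀ n : ℕ, 0 < n → Module.Flat (R ⧸ I ^ n) ((R ⧸ I ^ n) ⊗[R] M))
    (q : Ideal S) [q.IsPrime] (hq : I.map (algebraMap R S) ≤ q) :
    Module.Flat R (LocalizedModule q.primeCompl M) := by
  have hJ : I.map (algebraMap R (Localization.AtPrime q)) ≠ ⊤ := by
    have h1 : I.map (algebraMap R (Localization.AtPrime q)) ≤
        IsLocalRing.maximalIdeal (Localization.AtPrime q) := by
      rw [IsScalarTower.algebraMap_eq R S (Localization.AtPrime q), ← Ideal.map_map,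
        ← Localization.AtPrime.map_eq_maximalIdeal]
      exact Ideal.map_mono hq
    intro htop
    rw [htop] at h1
    exact (IsLocalRing.maximalIdeal.isMaximal _).ne_top (top_le_iff.mp h1)
  apply Groth.Agent.H76.LocalCrit.flat_of_adic (S := Localization.AtPrime q) I hJ
  intro m P Q _ _ _ _ u hu hkill
  apply Groth.Agent.H76.LocalCrit.rTensor_localized_injective
  haveI := h (m + 1) (Nat.succ_pos m)
  apply Groth.Agent.H76.FlatGlue.rTensor_injective_of_surjective_of_flat (S := R ⧸ I ^ (m + 1))
    Ideal.Quotient.mk_surjective M u hu
  intro r hr y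
  have hr' : r ∈ I ^ (m + 1) := Ideal.Quotient.eq_zero_iff_mem.mp hr
  exact hkill r (Ideal.pow_le_pow_right (Nat.le_succ m) hr') y

end Groth.Agent.S0396
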