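import Groth.Statements.S4528
import Mathlib
import Groth.Agent.Lib.Helper75.CompleteProjective

set_option autoImplicit false
universe u
open EGA41

namespace Groth.Agent.S4528

open IsLocalRing in
/-- Let k be a field (any characteristic) and A a complete Noetherian local k-algebra whose residue
field K is an extension of finite type of k. Then the completed module of differentials, i.e. the
𝔪-adic completion of Ω_{A/k}, is an A-module of finite type. -/
theorem result {k A : Type u} [Field k] [CommRing A] [IsLocalRing A]
    [IsNoetherianRing A] [IsAdicComplete (maximalIdeal A) A] [Algebra k A]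
    [Algebra.EssFiniteType k (ResidueField A)] :
    Module.Finite A (AdicCompletion (maximalIdeal A) (Ω[A⁄k])) := by
  have hsurj : Function.Surjective (algebraMap A (ResidueField A)) := Ideal.Quotient.mk_surjective
  have h1 : Module.Finite A (TensorProduct A (ResidueField A) (Ω[A⁄k])) := by
    have : Module.Finite A (ResidueField A) :=
      Module.Finite.of_surjective (Algebra.linearMap A (ResidueField A)) hsurj
    have : Module.Finite A (Ω[ResidueField A⁄k]) := Module.Finite.trans (ResidueField A) _
    have : Module.Finite A (RingHom.ker (algebraMap A (ResidueField A))).Cotangent :=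
      Module.Finite.of_surjective (RingHom.ker (algebraMap A (ResidueField A))).toCotangent
        (Ideal.toCotangent_surjective _)
    exact Module.Finite.of_exact
      (f := KaehlerDifferential.kerCotangentToTensor k A (ResidueField A))
      (g := (KaehlerDifferential.mapBaseChange k A (ResidueField A)).restrictScalars A)
      (KaehlerDifferential.exact_kerCotangentToTensor_mapBaseChange k A (ResidueField A) hsurj)
      (KaehlerDifferential.mapBaseChange_surjective k A (ResidueField A) hsurj)
  have h2 : Module.Finite A ((Ω[A⁄k]) ⧸ (maximalIdeal A • ⊤ : Submodule A (Ω[A⁄k]))) :=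
    haveI : Module.Finite A (TensorProduct A (A ⧸ maximalIdeal A) (Ω[A⁄k])) := h1
    Module.Finite.equiv (TensorProduct.quotTensorEquivQuotSMul (Ω[A⁄k]) (maximalIdeal A))
  obtain ⟨n, s, hs⟩ := Module.Finite.exists_fin (R := A)
    (M := (Ω[A⁄k]) ⧸ (maximalIdeal A • ⊤ : Submodule A (Ω[A⁄k])))
  choose ω hω using fun i => Submodule.mkQ_surjective _ (s i)
  let f : (Fin n → A) →ₗ[A] Ω[A⁄k] := Fintype.linearCombination A ω
  have hf : Function.Surjective
      ((maximalIdeal A • ⊤ : Submodule A (Ω[A⁄k])).mkQ ∘ₗ f) := by
    rw [← LinearMap.range_eq_top, LinearMap.range_comp, Fintype.range_linearCombination,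
      Submodule.map_span, ← Set.range_comp]
    have : (⇑(maximalIdeal A • ⊤ : Submodule A (Ω[A⁄k])).mkQ ∘ ω) = s := funext hω
    rw [this, hs]
  have h3 := AdicCompletion.map_surjective_of_mkQ_comp_surjective hf
  have : IsAdicComplete (maximalIdeal A) (Fin n → A) :=
    Groth.Agent.Lib.Helper75.CompleteProjective.isAdicComplete_pi (maximalIdeal A) n
  have h4 := AdicCompletion.of_surjective (maximalIdeal A) (Fin n → A)
  exact Module.Finite.of_surjective
    (((AdicCompletion.map (maximalIdeal A) f).restrictScalars A) ∘ₗ
      AdicCompletion.of (maximalIdeal A) (Fin n → A)) (h3.comp h4)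

end Groth.Agent.S4528
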