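import Groth.Statements.S4544
import Groth.Agent.Lib.Helper21.DerLift

set_option autoImplicit false
universe u
open EGA41

namespace Groth.Agent.S4544

open Groth.Agent.Lib.Helper21

open TensorProduct in
/-- Let B (𝔟-adic) be a formally smooth topological A-algebra over A (𝔞-adic), the structure map being
continuous (a power of 𝔞 maps into 𝔟); squares of open ideals of B are then open. For every open
ideal 𝔄 of B (an ideal containing a power of 𝔟), Ω_{B/A} ⊗_B (B/𝔄) = Ω_{B/A}/𝔄Ω_{B/A} is a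
projective (B/𝔄)-module. -/
theorem result {A B : Type u} [CommRing A] [CommRing B] [Algebra A B]
    (𝔞 : Ideal A) (𝔟 : Ideal B) (hAB : ∃ k : ℕ, (𝔞 ^ k).map (algebraMap A B) ≤ 𝔟)
    (h : EGA41.IsFormallySmoothAdic A 𝔞 B 𝔟) (𝔄 : Ideal B) (h𝔄 : ∃ n : ℕ, 𝔟 ^ n ≤ 𝔄) :
    Module.Projective (B ⧸ 𝔄) ((B ⧸ 𝔄) ⊗[B] Ω[B⁄A]) := by
  obtain ⟨k, hk⟩ := hAB
  obtain ⟨n, hn⟩ := h𝔄
  have hC : ∃ k : ℕ, (𝔞 ^ k).map (algebraMap A (B ⧸ 𝔄)) = ⊥ := by
    refine ⟨k * n, ?_⟩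
    rw [IsScalarTower.algebraMap_eq A B (B ⧸ 𝔄), ← Ideal.map_map,
      Ideal.Quotient.algebraMap_eq, Ideal.map_eq_bot_iff_le_ker, Ideal.mk_ker, pow_mul,
      Ideal.map_pow]
    exact (Ideal.pow_right_mono hk n).trans hn
  have h𝔟 : ∃ n : ℕ, ∀ x ∈ 𝔟 ^ n, algebraMap B (B ⧸ 𝔄) x = 0 :=
    ⟨n, fun x hx => Ideal.Quotient.eq_zero_iff_mem.2 (hn hx)⟩
  refine Module.Projective.of_lifting_property ?_
  intro M N _ _ _ _ f g hf
  letI : Module B M := Module.compHom M (algebraMap B (B ⧸ 𝔄))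
  letI : Module A M := Module.compHom M (algebraMap A (B ⧸ 𝔄))
  haveI : IsScalarTower B (B ⧸ 𝔄) M := IsScalarTower.of_algebraMap_smul (fun _ _ => rfl)
  haveI : IsScalarTower A (B ⧸ 𝔄) M := IsScalarTower.of_algebraMap_smul (fun _ _ => rfl)
  haveI : IsScalarTower A B M := ⟨fun a b m => by
    change algebraMap B (B ⧸ 𝔄) (a • b) • m = algebraMap A (B ⧸ 𝔄) a • (algebraMap B (B ⧸ 𝔄) b • m)
    rw [Algebra.smul_def, map_mul, ← IsScalarTower.algebraMap_apply A B (B ⧸ 𝔄), mul_smul]⟩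
  letI : Module B N := Module.compHom N (algebraMap B (B ⧸ 𝔄))
  letI : Module A N := Module.compHom N (algebraMap A (B ⧸ 𝔄))
  haveI : IsScalarTower B (B ⧸ 𝔄) N := IsScalarTower.of_algebraMap_smul (fun _ _ => rfl)
  haveI : IsScalarTower A (B ⧸ 𝔄) N := IsScalarTower.of_algebraMap_smul (fun _ _ => rfl)
  haveI : IsScalarTower A B N := ⟨fun a b m => by
    change algebraMap B (B ⧸ 𝔄) (a • b) • m = algebraMap A (B ⧸ 𝔄) a • (algebraMap B (B ⧸ 𝔄) b • m)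
    rw [Algebra.smul_def, map_mul, ← IsScalarTower.algebraMap_apply A B (B ⧸ 𝔄), mul_smul]⟩
  let g' : Ω[B⁄A] →ₗ[B] N := (g.restrictScalars B).comp (TensorProduct.mk B (B ⧸ 𝔄) (Ω[B⁄A]) 1)
  let D : Derivation A B N := g'.compDer (KaehlerDifferential.D A B)
  obtain ⟨D', hD'⟩ := DerLift.exists_derivation_lift (C := B ⧸ 𝔄) h hC h𝔟 f hf D
  refine ⟨LinearMap.liftBaseChange (B ⧸ 𝔄) D'.liftKaehlerDifferential, ?_⟩
  apply TensorProduct.AlgebraTensorModule.curry_injective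
  apply LinearMap.ext_ring
  apply Derivation.liftKaehlerDifferential_unique
  ext b
  change f (LinearMap.liftBaseChange (B ⧸ 𝔄) D'.liftKaehlerDifferential
    (1 ⊗ₜ[B] KaehlerDifferential.D A B b)) = g (1 ⊗ₜ[B] KaehlerDifferential.D A B b)
  rw [LinearMap.liftBaseChange_tmul, one_smul, Derivation.liftKaehlerDifferential_comp_D, hD']
  rfl

end Groth.Agent.S4544
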