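import Groth.Statements.S2476
import Mathlib
import Groth.Agent.S4528
import Groth.Agent.S4544
import Groth.Agent.S2471
import Groth.Agent.S2469
import Groth.Agent.Lib.Helper21.AdicSmooth
import Groth.Agent.Lib.Helper88.ComplFree
import Groth.Agent.Lib.Helper88.FibreKaehlerRank

set_option autoImplicit false
universe u
open EGA41

namespace Groth.Agent.S2476

open IsLocalRing in
/-- Let k₀ be a field and A a complete Noetherian local k₀-algebra, formally smooth over k₀ for the adic
topology, whose residue field K is a finitely generated extension of k₀. Then the 𝔪-adic completion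
Ω̂_{A/k₀} of Ω_{A/k₀} is a free A-module of rank dim A + trdeg_{k₀} K. -/
theorem result {k₀ A : Type u} [Field k₀] [CommRing A] [IsLocalRing A] [IsNoetherianRing A] [Algebra k₀ A]
    [IsAdicComplete (maximalIdeal A) A] (hfs : CAlgX.IsAdicFormallySmooth k₀ A (maximalIdeal A))
    [Algebra.EssFiniteType k₀ (ResidueField A)] :
    Module.Finite A (AdicCompletion (maximalIdeal A) (Ω[A⁄k₀])) ∧ Module.Free A (AdicCompletion (maximalIdeal A) (Ω[A⁄k₀])) ∧
      (Module.finrank A (AdicCompletion (maximalIdeal A) (Ω[A⁄k₀])) : WithBot ℕ∞) =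
        ringKrullDim A + (Cardinal.toNat (Algebra.trdeg k₀ (ResidueField A)) : WithBot ℕ∞) := by
  have hfin : Module.Finite A (AdicCompletion (maximalIdeal A) (Ω[A⁄k₀])) :=
    Groth.Agent.S4528.result
  obtain ⟨hreg, hinj⟩ := Groth.Agent.S2471.result.mp hfs
  have hsm : EGA41.IsFormallySmoothAdic k₀ ⊥ A (maximalIdeal A) :=
    (Groth.Agent.Lib.Helper21.isAdicFormallySmooth_iff_isFormallySmoothAdic_bot _).mp hfs
  have hflat : ∀ n : ℕ, 0 < n → Module.Flat (A ⧸ maximalIdeal A ^ n)
      (TensorProduct A (A ⧸ maximalIdeal A ^ n) (Ω[A⁄k₀])) := by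
    intro n _
    have hproj := Groth.Agent.S4544.result (⊥ : Ideal k₀) (maximalIdeal A)
      ⟨1, by rw [pow_one, Ideal.map_bot]; exact bot_le⟩ hsm (maximalIdeal A ^ n) ⟨n, le_rfl⟩
    exact Module.Flat.of_projective
  obtain ⟨hfree, hrank⟩ := Groth.Agent.Lib.Helper88.ComplFree.free_adicCompletion (Ω[A⁄k₀]) hflat
  have hfibfin : Module.Finite (ResidueField A) (TensorProduct A (ResidueField A) (Ω[A⁄k₀])) :=
    Groth.Agent.Lib.Helper88.ComplFree.finite_fibre (Ω[A⁄k₀])
  refine ⟨hfin, hfree, ?_⟩
  have hΦ : Function.Injective (Groth.Agent.Lib.Helper88.ImperfKey.Phi k₀ A (ResidueField A)) :=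
    (Groth.Agent.Lib.Helper88.ImperfKey.injective_lTensor_iff k₀ A (ResidueField A)
      residue_surjective).mp hinj
  have hc : Function.Injective (Groth.Agent.Lib.Helper88.FibreKaehlerRank.cotToTensor ℤ A) :=
    Groth.Agent.Lib.Helper88.FibreKaehlerRank.cotToTensor_int_injective A k₀
  have hcount := Groth.Agent.Lib.Helper88.FibreKaehlerRank.finrank_fibre k₀ A hΦ hc
  obtain ⟨hΩfin, hΥfin, hcartier⟩ := Groth.Agent.S2469.result (K := k₀) (L := ResidueField A)
  have hcot : (Module.finrank (ResidueField A) (CotangentSpace A) : WithBot ℕ∞) = ringKrullDim A :=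
    (IsRegularLocalRing.iff_finrank_cotangentSpace A).mp hreg
  have hnat : Module.finrank A (AdicCompletion (maximalIdeal A) (Ω[A⁄k₀])) =
      Module.finrank (ResidueField A) (CotangentSpace A) +
        Cardinal.toNat (Algebra.trdeg k₀ (ResidueField A)) := by
    rw [hrank]
    have key : ∀ (a b c d t : ℕ), a + b = c + d → (d : ℤ) - (b : ℤ) = (t : ℤ) → a = c + t := by
      intro a b c d t h1 h2
      omega
    exact key _ _ _ _ _ hcount hcartier
  rw [hnat, ← hcot]
  push_cast
  rfl

end Groth.Agent.S2476
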