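import Groth.Statements.S4589
import Mathlib
import Groth.Agent.S2480

set_option autoImplicit false
universe u
open IsLocalRing
open EGA41

namespace Groth.Agent.S4589
open IsLocalRing in
theorem fs_congr {k B : Type u} [Field k] [CommRing B] [Algebra k B] {I J : Ideal B} [I.IsPrime]
    [J.IsPrime] (h : I = J) :
    CAlgX.IsAdicFormallySmooth k (Localization.AtPrime I) (maximalIdeal (Localization.AtPrime I)) ↔
      CAlgX.IsAdicFormallySmooth k (Localization.AtPrime J)
        (maximalIdeal (Localization.AtPrime J)) := by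
  subst h
  rfl


/-- Under the hypotheses of Nagata's Jacobian criterion — k a field of characteristic exponent p with k
finite over k^p, A a complete Noetherian local ring with residue field finite over a separable
extension K₀ of k, A a K₀-algebra formally smooth for its adic topology, q an ideal of A and B = A/q
— the set of primes n of B with B_n formally smooth over k for the adic topology of its maximal
ideal is open in Spec B. -/
theorem result (p : ℕ) {k K₀ A : Type u} [Field k] [ExpChar k p]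
    (hk : p = 1 ∨ Module.Finite (frobenius k p).fieldRange k)
    [Field K₀] [Algebra k K₀] [Algebra.IsGeometricallyReduced k K₀]
    [CommRing A] [IsLocalRing A] [IsNoetherianRing A] [IsAdicComplete (maximalIdeal A) A]
    [Algebra k A] [Algebra K₀ A] [IsScalarTower k K₀ A] [Module.Finite K₀ (ResidueField A)]
    (hA : CAlgX.IsAdicFormallySmooth K₀ A (maximalIdeal A))
    (q : Ideal A) :
    IsOpen {n : PrimeSpectrum (A ⧸ q) |
      CAlgX.IsAdicFormallySmooth k (Localization.AtPrime n.asIdeal) (maximalIdeal (Localization.AtPrime n.asIdeal))} := by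
  classical
  rw [isOpen_iff_forall_mem_open]
  intro n hn
  -- the prime of `A` below `n`
  set 𝔭 : Ideal A := n.asIdeal.comap (Ideal.Quotient.mk q) with h𝔭
  haveI : 𝔭.IsPrime := Ideal.comap_isPrime _ _
  have hq𝔭 : q ≤ 𝔭 := by
    intro x hx
    rw [h𝔭, Ideal.mem_comap, Ideal.Quotient.eq_zero_iff_mem.mpr hx]
    exact Ideal.zero_mem _
  have hmap : 𝔭.map (Ideal.Quotient.mk q) = n.asIdeal :=
    Ideal.map_comap_of_surjective _ Ideal.Quotient.mk_surjective _
  haveI : (𝔭.map (Ideal.Quotient.mk q)).IsPrime := by rw [hmap]; exact n.isPrime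
  have hn' := (fs_congr hmap).mpr hn
  obtain ⟨m, D, f, hf, hgen, hdet⟩ := (Groth.Agent.S2480.result p hk hA q 𝔭 hq𝔭).mp hn'
  -- finite generation of `q` and denominators
  obtain ⟨G, hG⟩ := (IsNoetherian.noetherian q : q.FG)
  have hGs : ∀ g ∈ G, ∃ s ∈ 𝔭.primeCompl, s * g ∈ Ideal.span (Set.range f) := by
    intro g hg
    have hgq : g ∈ q := by rw [← hG]; exact Ideal.subset_span hg
    have h1 : algebraMap A (Localization.AtPrime 𝔭) g ∈
        (Ideal.span (Set.range f)).map (algebraMap A (Localization.AtPrime 𝔭)) := by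
      rw [Ideal.map_span, ← Set.range_comp]
      have h2 := Ideal.mem_map_of_mem (algebraMap A (Localization.AtPrime 𝔭)) hgq
      rw [hgen] at h2
      exact h2
    exact (IsLocalization.algebraMap_mem_map_algebraMap_iff 𝔭.primeCompl
      (Localization.AtPrime 𝔭) _ g).mp h1
  choose! σ hσ hσmem using hGs
  set s : A := (∏ g ∈ G, σ g) * Matrix.det (Matrix.of fun i j => D i (f j)) with hs
  have hs𝔭 : s ∉ 𝔭 := by
    intro h
    rcases Ideal.IsPrime.mem_or_mem inferInstance h with h | h
    · obtain ⟨g, hg, hgm⟩ := (Ideal.IsPrime.prod_mem_iff).mp h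
      exact hσ g hg hgm
    · exact hdet h
  refine ⟨(PrimeSpectrum.basicOpen (Ideal.Quotient.mk q s) : Set (PrimeSpectrum (A ⧸ q))), ?_,
    (PrimeSpectrum.basicOpen _).isOpen, ?_⟩
  swap
  · change Ideal.Quotient.mk q s ∉ n.asIdeal
    exact hs𝔭
  intro n' hn's
  have hn's' : Ideal.Quotient.mk q s ∉ n'.asIdeal := hn's
  set 𝔭' : Ideal A := n'.asIdeal.comap (Ideal.Quotient.mk q) with h𝔭'
  haveI : 𝔭'.IsPrime := Ideal.comap_isPrime _ _
  have hq𝔭' : q ≤ 𝔭' := by
    intro x hx
    rw [h𝔭', Ideal.mem_comap, Ideal.Quotient.eq_zero_iff_mem.mpr hx]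
    exact Ideal.zero_mem _
  have hmap' : 𝔭'.map (Ideal.Quotient.mk q) = n'.asIdeal :=
    Ideal.map_comap_of_surjective _ Ideal.Quotient.mk_surjective _
  haveI : (𝔭'.map (Ideal.Quotient.mk q)).IsPrime := by rw [hmap']; exact n'.isPrime
  have hs𝔭' : s ∉ 𝔭' := hn's'
  have hσ' : ∀ g ∈ G, σ g ∉ 𝔭' := by
    intro g hg hmem
    apply hs𝔭'
    rw [hs]
    exact Ideal.mul_mem_right _ _ (Ideal.mem_of_dvd _ (Finset.dvd_prod_of_mem σ hg) hmem)
  have hdet' : Matrix.det (Matrix.of fun i j => D i (f j)) ∉ 𝔭' := by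
    intro hmem
    apply hs𝔭'
    rw [hs]
    exact Ideal.mul_mem_left _ _ hmem
  have hgen' : q.map (algebraMap A (Localization.AtPrime 𝔭')) =
      Ideal.span (Set.range fun i => algebraMap A (Localization.AtPrime 𝔭') (f i)) := by
    apply le_antisymm
    · rw [← hG, Ideal.map_span, Ideal.span_le]
      rintro _ ⟨g, hg, rfl⟩
      have h1 : algebraMap A (Localization.AtPrime 𝔭') (σ g * g) ∈
          Ideal.span (Set.range fun i => algebraMap A (Localization.AtPrime 𝔭') (f i)) := by
        have h2 := Ideal.mem_map_of_mem (algebraMap A (Localization.AtPrime 𝔭')) (hσmem g hg)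
        rw [Ideal.map_span, ← Set.range_comp] at h2
        exact h2
      have hu : IsUnit (algebraMap A (Localization.AtPrime 𝔭') (σ g)) :=
        IsLocalization.map_units (Localization.AtPrime 𝔭') (⟨σ g, hσ' g hg⟩ : 𝔭'.primeCompl)
      rw [map_mul] at h1
      exact (Ideal.unit_mul_mem_iff_mem _ hu).mp h1
    · rw [Ideal.span_le]
      rintro _ ⟨i, rfl⟩
      exact Ideal.mem_map_of_mem _ (hf i)
  have h2 := (Groth.Agent.S2480.result p hk hA q 𝔭' hq𝔭').mpr ⟨m, D, f, hf, hgen', hdet'⟩
  exact (fs_congr hmap').mp h2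

end Groth.Agent.S4589
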