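import Groth.Statements.S2460
import Mathlib
import Groth.Agent.Lib.Helper90.PSUniv
import Groth.Agent.Lib.Helper90.PSIdeal
import Groth.Agent.Lib.Helper90.FiniteResidue
import Groth.Agent.S0544

set_option autoImplicit false
universe u
open EGA41

namespace Groth.Agent.S2460.Aux

set_option linter.style.haveILetI false

open IsLocalRing MvPowerSeries Groth.Agent.Lib.Helper90

/-- system of parameters -/
theorem exists_sop (A : Type u) [CommRing A] [IsLocalRing A] [IsNoetherianRing A] :
    ∃ (n : ℕ) (x : Fin n → A), ringKrullDim A = n ∧ (∀ i, x i ∈ maximalIdeal A) ∧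
      maximalIdeal A ≤ (Ideal.span (Set.range x)).radical := by
  classical
  obtain ⟨s, hs1, hs2⟩ := Ideal.exists_finset_card_eq_height_of_isNoetherianRing (maximalIdeal A)
  let e : Fin s.card ≃ s := s.equivFin.symm
  let x : Fin s.card → A := fun i => (e i : A)
  have hrange : Set.range x = (s : Set A) := by
    ext y
    constructor
    · rintro ⟨i, rfl⟩
      exact (e i).2
    · intro hy
      exact ⟨e.symm ⟨y, hy⟩, by simp [x]⟩
  refine ⟨s.card, x, ?_, ?_, ?_⟩
  · rw [← IsLocalRing.maximalIdeal_height_eq_ringKrullDim, ← hs2]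
    rfl
  · intro i
    exact hs1.1.2 (Ideal.subset_span (e i).2)
  · rw [hrange, Ideal.radical_eq_sInf]
    refine le_sInf (fun J hJ => ?_)
    haveI := hJ.2
    exact hs1.2 ⟨hJ.2, hJ.1⟩ (IsLocalRing.le_maximalIdeal hJ.2.ne_top)

theorem dim_le (k₀ : Type u) [Field k₀] (n : ℕ) :
    ringKrullDim (MvPowerSeries (Fin n) k₀) ≤ (n : WithBot ℕ∞) := by
  refine (ringKrullDim_le_spanFinrank_maximalIdeal _).trans ?_
  rw [PSIdeal.maximalIdeal_eq_span_X]
  have h1 : (Ideal.span (Set.range (X : Fin n → MvPowerSeries (Fin n) k₀))).spanFinrank ≤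
      (Set.range (X : Fin n → MvPowerSeries (Fin n) k₀)).ncard :=
    Submodule.spanFinrank_span_le_ncard_of_finite (Set.finite_range _)
  have h2 : (Set.range (X : Fin n → MvPowerSeries (Fin n) k₀)).ncard ≤ n := by
    have := Set.ncard_image_le (f := (X : Fin n → MvPowerSeries (Fin n) k₀)) (Set.finite_univ)
    rw [Set.image_univ] at this
    simpa using this
  exact_mod_cast h1.trans h2

theorem main {k₀ A : Type u} [Field k₀] [CommRing A] [IsDomain A] [IsLocalRing A] [IsNoetherianRing A]
    [IsAdicComplete (maximalIdeal A) A] [Algebra k₀ A] [Module.Finite k₀ (ResidueField A)] :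
    ∃ (n : ℕ) (w : MvPowerSeries (Fin n) k₀ →ₐ[k₀] A), Function.Injective w ∧ IsLocalHom w.toRingHom ∧ w.toRingHom.Finite := by
  classical
  obtain ⟨n, x, hdim, hxm, hrad⟩ := exists_sop A
  obtain ⟨φ, hφ1, hφ2⟩ := PSUniv.exists_eval (B := k₀) (maximalIdeal A) x hxm
  have hX : ∀ i, φ (X i) = x i := by
    intro i
    have := hφ1 (MvPolynomial.X i)
    rwa [MvPolynomial.coe_X, MvPolynomial.aeval_X] at this
  -- local
  have hloc : IsLocalHom φ.toRingHom := by
    refine ⟨fun f hf => ?_⟩
    rw [MvPowerSeries.isUnit_iff_constantCoeff, isUnit_iff_ne_zero]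
    intro h0
    have : φ f ∈ maximalIdeal A := by
      have := hφ2 1 f (fun d hd => by
        have hd0 : d = 0 := by
          rw [Nat.lt_one_iff] at hd
          exact (Finsupp.degree_eq_zero_iff d).mp hd
        rw [hd0]
        exact h0)
      rwa [pow_one] at this
    exact this hf
  -- finite
  have hfin : φ.toRingHom.Finite := by
    letI : Algebra (MvPowerSeries (Fin n) k₀) A := φ.toRingHom.toAlgebra
    haveI : IsScalarTower k₀ (MvPowerSeries (Fin n) k₀) A :=
      IsScalarTower.of_algebraMap_eq (fun c => (φ.commutes c).symm)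
    change Module.Finite (MvPowerSeries (Fin n) k₀) A
    set I : Ideal (MvPowerSeries (Fin n) k₀) := Ideal.span (Set.range X) with hI
    have hmap : I.map (algebraMap (MvPowerSeries (Fin n) k₀) A) ≤ maximalIdeal A := by
      rw [Ideal.map_span, Ideal.span_le]
      rintro _ ⟨_, ⟨i, rfl⟩, rfl⟩
      change φ (X i) ∈ maximalIdeal A
      rw [hX]
      exact hxm i
    have hH1 : IsHausdorff (I.map (algebraMap (MvPowerSeries (Fin n) k₀) A)) A := by
      have hA : IsHausdorff (maximalIdeal A) A := inferInstance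
      refine ⟨fun a ha => IsHausdorff.haus hA a (fun m => ?_)⟩
      refine SModEq.mono ?_ (ha m)
      exact Submodule.smul_mono_left (Ideal.pow_right_mono hmap m)
    haveI : IsHausdorff I A := IsHausdorff.map_algebraMap_iff.mp hH1
    apply Groth.Agent.S0544.result (MvPowerSeries (Fin n) k₀) I A
    -- the quotient is finite
    haveI : Module.Finite k₀ (A ⧸ Ideal.span (Set.range x)) :=
      FiniteResidue.finite_quotient_of_le_radical k₀ A _ hrad
    obtain ⟨r, v, hv⟩ := Module.Finite.exists_fin (R := k₀) (M := A ⧸ Ideal.span (Set.range x))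
    choose b hb using fun j => Ideal.Quotient.mk_surjective (v j)
    have hcar : ∀ a ∈ Ideal.span (Set.range x), a ∈ (I • ⊤ : Submodule (MvPowerSeries (Fin n) k₀) A) := by
      intro a ha
      obtain ⟨c, rfl⟩ := (Ideal.mem_span_range_iff_exists_fun).mp ha
      refine Submodule.sum_mem _ (fun i _ => ?_)
      have : c i * x i = (X i : MvPowerSeries (Fin n) k₀) • c i := by
        rw [Algebra.smul_def, mul_comm]
        congr 1
        exact (hX i).symm
      rw [this]
      exact Submodule.smul_mem_smul (Ideal.subset_span ⟨i, rfl⟩) trivial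
    refine ⟨⟨Finset.univ.image (fun j => Submodule.mkQ _ (b j)), ?_⟩⟩
    rw [eq_top_iff]
    rintro y -
    obtain ⟨y, rfl⟩ := Submodule.mkQ_surjective _ y
    have hy : Ideal.Quotient.mk (Ideal.span (Set.range x)) y ∈ Submodule.span k₀ (Set.range v) := by
      rw [hv]; trivial
    obtain ⟨c, hc⟩ := (Submodule.mem_span_range_iff_exists_fun k₀).mp hy
    have h1 : y - ∑ j, algebraMap k₀ A (c j) * b j ∈ Ideal.span (Set.range x) := by
      rw [← Ideal.Quotient.eq_zero_iff_mem, map_sub, sub_eq_zero, ← hc, map_sum]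
      refine Finset.sum_congr rfl (fun j _ => ?_)
      rw [map_mul, hb, Algebra.smul_def]
      rfl
    have h2 := hcar _ h1
    have hCc : ∀ j, (C (c j) : MvPowerSeries (Fin n) k₀) • b j = algebraMap k₀ A (c j) * b j := by
      intro j
      rw [Algebra.smul_def]
      congr 1
      have : (C (c j) : MvPowerSeries (Fin n) k₀) = algebraMap k₀ _ (c j) := rfl
      rw [this, ← IsScalarTower.algebraMap_apply]
    have h2' : y - ∑ j, (C (c j) : MvPowerSeries (Fin n) k₀) • b j ∈
        (I • ⊤ : Submodule (MvPowerSeries (Fin n) k₀) A) := by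
      simp only [hCc]
      exact h2
    have h3 : Submodule.mkQ (I • ⊤ : Submodule (MvPowerSeries (Fin n) k₀) A) y =
        ∑ j, (C (c j) : MvPowerSeries (Fin n) k₀) • Submodule.mkQ (I • ⊤ : Submodule (MvPowerSeries (Fin n) k₀) A) (b j) := by
      have h4 := (Submodule.Quotient.mk_eq_zero _).mpr h2'
      rw [← Submodule.mkQ_apply, map_sub, map_sum, sub_eq_zero] at h4
      simp only [map_smul] at h4
      exact h4
    rw [h3]
    refine Submodule.sum_mem _ (fun j _ => Submodule.smul_mem _ _ (Submodule.subset_span ?_))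
    simp
  refine ⟨n, φ, ?_, hloc, hfin⟩
  -- injective
  rw [injective_iff_map_eq_zero]
  intro f hf
  by_contra hne
  set S := MvPowerSeries (Fin n) k₀ ⧸ RingHom.ker φ.toRingHom with hS
  have hd1 : ringKrullDim S + 1 ≤ ringKrullDim (MvPowerSeries (Fin n) k₀) :=
    ringKrullDim_succ_le_of_surjective (Ideal.Quotient.mk (RingHom.ker φ.toRingHom))
      Ideal.Quotient.mk_surjective (r := f) (mem_nonZeroDivisors_of_ne_zero hne)
      (Ideal.Quotient.eq_zero_iff_mem.mpr hf)
  have hint : φ.toRingHom.kerLift.IsIntegral := (RingHom.Finite.to_isIntegral hfin).kerLift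
  letI : Algebra S A := φ.toRingHom.kerLift.toAlgebra
  haveI : Algebra.IsIntegral S A := ⟨hint⟩
  have hd2 : ringKrullDim A ≤ ringKrullDim S := by
    apply Order.krullDim_le_of_strictMono (fun q : PrimeSpectrum A => PrimeSpectrum.comap (algebraMap S A) q)
    intro p q hpq
    exact Ideal.IsIntegral.comap_lt_comap (R := S) hpq
  have hd3 := dim_le k₀ n
  have : ((n : WithBot ℕ∞)) + 1 ≤ n := by
    calc ((n : WithBot ℕ∞)) + 1 = ringKrullDim A + 1 := by rw [hdim]
      _ ≤ ringKrullDim S + 1 := by gcongr
      _ ≤ _ := hd1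
      _ ≤ n := hd3
  have h4 : ((n + 1 : ℕ) : WithBot ℕ∞) ≤ (n : ℕ) := by exact_mod_cast this
  have h5 : n + 1 ≤ n := by exact_mod_cast h4
  omega

end Groth.Agent.S2460.Aux

namespace Groth.Agent.S2460

open IsLocalRing in
/-- Let A be a complete Noetherian local domain containing a field k₀ such that the residue field of A
is a finite extension of k₀. Then there are n and an injective local k₀-algebra homomorphism from
the power series ring k₀[[T_1, …, T_n]] into A making A a finite module over it. -/
theorem result {k₀ A : Type u} [Field k₀] [CommRing A] [IsDomain A] [IsLocalRing A] [IsNoetherianRing A]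
    [IsAdicComplete (maximalIdeal A) A] [Algebra k₀ A] [Module.Finite k₀ (ResidueField A)] :
    ∃ (n : ℕ) (w : MvPowerSeries (Fin n) k₀ →ₐ[k₀] A), Function.Injective w ∧ IsLocalHom w.toRingHom ∧ w.toRingHom.Finite := by
  exact Aux.main

end Groth.Agent.S2460
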