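import Groth.Statements.S4526
import Mathlib
import Groth.Agent.Lib.Helper81.Cartier

set_option autoImplicit false
universe u
open EGA41

namespace Groth.Agent.S4526
open Groth.Agent.Lib.Helper81.Cartier in

/-- Let k ⊆ K ⊆ L be three fields with L an extension of finite type of k. Then Ω_{L/k} and Ω_{K/k} are
finite-dimensional and rank_L Ω_{L/k} − rank_K Ω_{K/k} ≥ trdeg_K L. (The published statement also
gives the exact value trdeg_K L + d(L/K, k) and an equality criterion; this row states only the
inequality.) -/
theorem result {k K L : Type u} [Field k] [Field K] [Field L]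
    [Algebra k K] [Algebra K L] [Algebra k L] [IsScalarTower k K L] [Algebra.EssFiniteType k L] :
    Module.Finite L (Ω[L⁄k]) ∧ Module.Finite K (Ω[K⁄k]) ∧
      (Cardinal.toNat (Algebra.trdeg K L) : ℤ) ≤ (Module.finrank L (Ω[L⁄k]) : ℤ) - Module.finrank K (Ω[K⁄k]) := by
  haveI : Algebra.EssFiniteType K L := Algebra.EssFiniteType.of_comp k K L
  obtain ⟨hΩk, -, -, -, -⟩ := good_of_essFiniteType k L
  obtain ⟨hΩ, hH, n, hn, he⟩ := good_of_essFiniteType K L
  haveI := hΩk
  haveI := hΩ
  haveI := hH
  let f4 := KaehlerDifferential.mapBaseChange k K L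
  let f5 := KaehlerDifferential.map k K L L
  have e45 : Function.Exact f4 f5 := KaehlerDifferential.exact_mapBaseChange_map k K L
  have hsurj : Function.Surjective f5 := KaehlerDifferential.map_surjective k K L
  haveI : Module.Finite L (LinearMap.ker f4) := finite_ker_mapBaseChange k K L
  haveI : Module.Finite L (TensorProduct K L Ω[K⁄k]) := by
    haveI : Module.Finite L (LinearMap.range f4) := inferInstance
    exact finite_of_ker_range f4
  haveI : Module.Finite K Ω[K⁄k] := by
    rw [← Module.rank_lt_aleph0_iff, ← Cardinal.lift_lt_aleph0.{u, u},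
      ← Module.rank_baseChange (R := L), Module.rank_lt_aleph0_iff]
    infer_instance
  refine ⟨inferInstance, inferInstance, ?_⟩
  have r1 := LinearMap.finrank_range_add_finrank_ker f4
  have r2 := LinearMap.finrank_range_add_finrank_ker f5
  rw [e45.linearMap_ker_eq, LinearMap.range_eq_top.2 hsurj, finrank_top] at r2
  have r3 : Module.finrank L (TensorProduct K L Ω[K⁄k]) = Module.finrank K Ω[K⁄k] :=
    Module.finrank_baseChange
  have r4 : Module.finrank L (LinearMap.ker f4) ≤ Module.finrank L (Algebra.H1Cotangent K L) :=
    finrank_ker_mapBaseChange_le k K L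
  rw [hn, Cardinal.toNat_natCast]
  omega

end Groth.Agent.S4526
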