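import Groth.Statements.S10902
import Mathlib
import Groth.Agent.S2680
import Groth.Agent.S4526

set_option autoImplicit false
universe u
open TensorProduct
open SmVar

namespace Groth.Agent.S10902

open KaehlerDifferential

section semicont
variable {A : Type u} [CommRing A] (M : Type u) [AddCommGroup M] [Module A M] [Module.Finite A M]

/-- a field-valued point killing a finitely generated module with trivial fibre at `P` -/
theorem subsingleton_tensor_of_subsingleton_residueField (P : Ideal A) [P.IsPrime]
    (L : Type u) [Field L] [Algebra A L] (hL : ∀ t : A, t ∉ P → algebraMap A L t ≠ 0)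
    (h : Subsingleton (P.ResidueField ⊗[A] M)) : Subsingleton (L ⊗[A] M) := by
  have h1 : (⟨P, inferInstance⟩ : PrimeSpectrum A) ∉ Module.support A M := by
    rw [Module.mem_support_iff_nontrivial_residueField_tensorProduct]
    exact not_nontrivial_iff_subsingleton.mpr h
  rw [Module.mem_support_iff_of_finite, SetLike.not_le_iff_exists] at h1
  obtain ⟨t, ht, htP⟩ := h1
  have htL := hL t htP
  refine subsingleton_of_forall_eq 0 fun z => ?_
  induction z using TensorProduct.induction_on with
  | zero => rfl
  | tmul x m =>
    have : x = (x * (algebraMap A L t)⁻¹) * algebraMap A L t := by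
      rw [mul_assoc, inv_mul_cancel₀ htL, mul_one]
    rw [this, mul_comm, ← Algebra.smul_def, TensorProduct.smul_tmul,
      Module.mem_annihilator.mp ht m, TensorProduct.tmul_zero]
  | add x y hx hy => rw [hx, hy, add_zero]

theorem finrank_tensor_le (P : Ideal A) [P.IsPrime]
    (L : Type u) [Field L] [Algebra A L] (hL : ∀ t : A, t ∉ P → algebraMap A L t ≠ 0) :
    Module.finrank L (L ⊗[A] M) ≤ Module.finrank P.ResidueField (P.ResidueField ⊗[A] M) := by
  classical
  set κ := P.ResidueField
  -- spanning set
  have hspan' : ∀ z : κ ⊗[A] M,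
      z ∈ Submodule.span κ (Set.range fun m : M => (1 : κ) ⊗ₜ[A] m) := by
    intro z
    induction z using TensorProduct.induction_on with
    | zero => exact Submodule.zero_mem _
    | tmul x m =>
      have : x ⊗ₜ[A] m = x • ((1 : κ) ⊗ₜ[A] m) := by
        rw [TensorProduct.smul_tmul', smul_eq_mul, mul_one]
      rw [this]
      exact Submodule.smul_mem _ _ (Submodule.subset_span ⟨m, rfl⟩)
    | add x y hx hy => exact Submodule.add_mem _ hx hy
  have hspan : ⊤ ≤ Submodule.span κ (Set.range fun m : M => (1 : κ) ⊗ₜ[A] m) :=
    fun z _ => hspan' z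
  have hnt : Nontrivial A :=
    ⟨⟨0, 1, fun h => (‹P.IsPrime›).ne_top ((Ideal.eq_top_iff_one _).mpr (h ▸ P.zero_mem))⟩⟩
  let b := Module.Basis.ofSpan hspan
  have hbS := Module.Basis.ofSpan_subset hspan
  let ι := ((linearIndepOn_empty κ id).extend (Set.empty_subset
    (Set.range fun m : M => (1 : κ) ⊗ₜ[A] m)))
  have : Fintype ι := FiniteDimensional.fintypeBasisIndex b
  have hcard : Module.finrank κ (κ ⊗[A] M) = Fintype.card ι := Module.finrank_eq_card_basis b
  have hm : ∀ i : ι, ∃ m : M, (1 : κ) ⊗ₜ[A] m = b i := fun i => hbS ⟨i, rfl⟩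
  choose m hm using hm
  let g : (ι → A) →ₗ[A] M := Fintype.linearCombination A m
  -- κ ⊗ g surjective
  have hsurjκ : Function.Surjective (g.baseChange κ) := by
    rw [← LinearMap.range_eq_top, eq_top_iff, ← b.span_eq, Submodule.span_le]
    rintro _ ⟨i, rfl⟩
    refine ⟨(1 : κ) ⊗ₜ[A] (Pi.single i 1), ?_⟩
    rw [LinearMap.baseChange_tmul, ← hm i]
    simp [g, Fintype.linearCombination_apply_single]
  -- the cokernel has trivial fibre at P
  let N := M ⧸ LinearMap.range g
  have hex : Function.Exact g (LinearMap.range g).mkQ := LinearMap.exact_map_mkQ_range g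
  have hsub : Subsingleton (κ ⊗[A] N) := by
    have hex' := lTensor_exact κ hex (Submodule.mkQ_surjective _)
    have hs' : Function.Surjective ((LinearMap.range g).mkQ.lTensor κ) :=
      LinearMap.lTensor_surjective κ (Submodule.mkQ_surjective _)
    refine subsingleton_of_forall_eq 0 fun z => ?_
    obtain ⟨y, rfl⟩ := hs' z
    obtain ⟨x, rfl⟩ := hsurjκ y
    have : (g.baseChange κ) x = (g.lTensor κ) x := rfl
    rw [this]
    exact hex'.apply_apply_eq_zero x
  have hsubL : Subsingleton (L ⊗[A] N) :=
    subsingleton_tensor_of_subsingleton_residueField N P L hL hsub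
  -- L ⊗ g surjective
  have hsurjL : Function.Surjective (g.baseChange L) := by
    have hex' := lTensor_exact L hex (Submodule.mkQ_surjective _)
    intro z
    have : ((LinearMap.range g).mkQ.lTensor L) z = 0 := Subsingleton.elim _ _
    obtain ⟨x, hx⟩ := (hex' z).mp this
    exact ⟨x, hx⟩
  calc Module.finrank L (L ⊗[A] M) ≤ Module.finrank L (L ⊗[A] (ι → A)) :=
        LinearMap.finrank_le_finrank_of_surjective hsurjL
    _ = Module.finrank A (ι → A) := Module.finrank_baseChange
    _ = Fintype.card ι := Module.finrank_fintype_fun_eq_card A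
    _ = Module.finrank κ (κ ⊗[A] M) := hcard.symm

end semicont


/-- Let k be a field and A a k-algebra of finite type (X = Spec A a k-scheme of finite type), P a prime
ideal of A, and suppose P contains a prime q with dim A/q ≥ n, i.e. the point P lies on an
irreducible component of X of dimension at least n. Then the fibre at P of the sheaf of
differentials of X over k has dimension at least n over the residue field: dim_{κ(P)} (κ(P) ⊗_A
Ω_{A/k}) ≥ n. (The published statement asks every irreducible component of X to have dimension ≥ n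
and concludes this at every point.) -/
theorem result (k : Type u) [Field k]
    (A : Type u) [CommRing A] [Algebra k A] [Algebra.FiniteType k A] (n : ℕ)
    (P : Ideal A) [P.IsPrime] (q : Ideal A) [q.IsPrime] (hqP : q ≤ P)
    (hq : (n : WithBot ℕ∞) ≤ ringKrullDim (A ⧸ q)) :
    n ≤ Module.finrank P.ResidueField (P.ResidueField ⊗[A] (Ω[A⁄k])) := by
  let S := A ⧸ q
  let L := FractionRing S
  have hst : IsScalarTower k A L := IsScalarTower.of_algebraMap_eq fun x => by
    rw [IsScalarTower.algebraMap_apply A S L, ← IsScalarTower.algebraMap_apply k A S,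
      ← IsScalarTower.algebraMap_apply k S L]
  obtain ⟨n', htr, hdim, -⟩ := Groth.Agent.S2680.result k S
  have hn : n ≤ n' := by
    rw [hdim] at hq
    exact_mod_cast hq
  have hess : Algebra.EssFiniteType k L := inferInstance
  obtain ⟨hfinL, -, hC⟩ := Groth.Agent.S4526.result (k := k) (K := k) (L := L)
  have h0 : Module.finrank k (Ω[k⁄k]) = 0 := Module.finrank_zero_of_subsingleton
  rw [h0, htr] at hC
  simp only [Cardinal.toNat_natCast, Nat.cast_zero, sub_zero] at hC
  have h1 : n' ≤ Module.finrank L (Ω[L⁄k]) := by exact_mod_cast hC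
  -- surjectivity of the base change map
  have hunr : Algebra.FormallyUnramified A L := by
    have h1 : Algebra.FormallyUnramified A S :=
      Algebra.FormallyUnramified.of_surjective (Algebra.ofId A S) Ideal.Quotient.mk_surjective
    have h2 : Algebra.FormallyUnramified S L :=
      Algebra.FormallyUnramified.of_isLocalization (nonZeroDivisors S)
    exact Algebra.FormallyUnramified.comp A S L
  have hsub : Subsingleton (Ω[L⁄A]) := inferInstance
  have hsurj : Function.Surjective (mapBaseChange k A L) := by
    intro w
    have := (KaehlerDifferential.exact_mapBaseChange_map k A L w).mp (Subsingleton.elim _ _)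
    exact this
  have h2 : Module.finrank L (Ω[L⁄k]) ≤ Module.finrank L (L ⊗[A] Ω[A⁄k]) :=
    LinearMap.finrank_le_finrank_of_surjective hsurj
  have hL : ∀ t : A, t ∉ P → algebraMap A L t ≠ 0 := by
    intro t ht h
    rw [IsScalarTower.algebraMap_apply A S L] at h
    have h' : algebraMap A S t = 0 :=
      (IsFractionRing.injective S L) (by rw [h, map_zero])
    exact ht (hqP (Ideal.Quotient.eq_zero_iff_mem.mp h'))
  have h3 := finrank_tensor_le (Ω[A⁄k]) P L hL
  omega


end Groth.Agent.S10902
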