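import Groth.Statements.S1297
import Groth.Agent.S0002
import Groth.Agent.Lib.Helper38.PropFinSec
import Groth.Agent.Lib.Helper11.GlobalGen
import Groth.Agent.Lib.Helper49.FiniteTypeLocal
-- import your own Groth.Agent.* helpers here

set_option autoImplicit false
universe u
open FlatMor

namespace Groth.Agent.S1297
section helpers
open AlgebraicGeometry CategoryTheory Limits TopologicalSpace Opposite
open Groth.Agent.Lib.Helper38.PropFinSec

/-- sections of `f_* O_X` over `U`, as a `Γ(S, U)`-module, are `Γ(X, f⁻¹ U)`. -/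
theorem finite_sections_of_isProper {X S : Scheme.{u}} (f : X ⟶ S) [IsProper f]
    [IsLocallyNoetherian S] (U : S.Opens) (hU : IsAffineOpen U) :
    letI := (f.app U).hom.toAlgebra
    Module.Finite Γ(S, U) Γ(X, f ⁻¹ᵁ U) := by
  let _ := (f.app U).hom.toAlgebra
  have : IsNoetherianRing Γ(S, U) := IsLocallyNoetherian.component_noetherian ⟨U, hU⟩
  let _ : ((f ⁻¹ᵁ U : X.Opens) : Scheme.{u}).Over (Spec (CommRingCat.of Γ(S, U))) :=
    ⟨fW f U hU⟩
  have : IsProper (((f ⁻¹ᵁ U : X.Opens) : Scheme.{u}) ↘ Spec (CommRingCat.of Γ(S, U))) := by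
    change IsProper ((f ∣_ U) ≫ hU.isoSpec.hom)
    infer_instance
  have hO : PicF.IsInvertible (Coh.structureModule X) :=
    Groth.Agent.Lib.Helper11.GenLocus.isInvertible_structureModule X
  have hOq : (Coh.structureModule X).IsQuasicoherent :=
    Groth.Agent.Lib.Helper45.isQuasicoherent_of_isInvertible hO
  have hcoh : Coh.IsCoh ((Coh.structureModule X).restrict (f ⁻¹ᵁ U).ι) :=
    ⟨inferInstance, Groth.Agent.Lib.Helper49.isFiniteType_restrict _ (f ⁻¹ᵁ U).ι
      (Groth.Agent.Lib.Helper11.GenLocus.isFiniteType_of_isInvertible hO)⟩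
  have h2 := Groth.Agent.S0002.result Γ(S, U) ((f ⁻¹ᵁ U : X.Opens) : Scheme.{u})
    ((Coh.structureModule X).restrict (f ⁻¹ᵁ U).ι) hcoh 0
  have h3 := finite_sections_of_finite_HH f U hU (Coh.structureModule X) h2
  -- transport to `Γ(X, f⁻¹ U)` with the algebra structure
  let e : Γ((Scheme.Modules.pushforward f).obj (Coh.structureModule X), U) ≃ₗ[Γ(S, U)]
      Γ(X, f ⁻¹ᵁ U) :=
    { toFun := fun t => t
      invFun := fun t => t
      map_add' := fun _ _ => rfl
      map_smul' := fun _ _ => rfl
      left_inv := fun _ => rfl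
      right_inv := fun _ => rfl }
  exact Module.Finite.equiv e

end helpers

open AlgebraicGeometry CategoryTheory Limits in
/-- Stein factorization, Noetherian case: let f : X → S be a proper morphism with S locally Noetherian.
Then the normalization of S in X is finite over S (so that the Stein factorization of f is a proper
morphism with geometrically connected fibres followed by a finite morphism). -/
theorem result {X S : Scheme.{u}} (f : X ⟶ S) [IsProper f] [IsLocallyNoetherian S] :
    IsFinite f.fromNormalization := by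

  refine { toIsAffineHom := inferInstance, finite_app := fun U hU => ?_ }
  rw [f.fromNormalization_app hU]
  let _ := (f.app U).hom.toAlgebra
  have hfin : Module.Finite Γ(S, U) Γ(X, f ⁻¹ᵁ U) := finite_sections_of_isProper f U hU
  have : IsNoetherianRing Γ(S, U) := IsLocallyNoetherian.component_noetherian ⟨U, hU⟩
  have : IsNoetherian Γ(S, U) Γ(X, f ⁻¹ᵁ U) := isNoetherian_of_isNoetherianRing_of_finite _ _
  have hIC : Module.Finite Γ(S, U) (integralClosure Γ(S, U) Γ(X, f ⁻¹ᵁ U)) :=
    Module.Finite.of_injective (integralClosure Γ(S, U) Γ(X, f ⁻¹ᵁ U)).val.toLinearMap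
      Subtype.val_injective
  rw [CommRingCat.hom_comp]
  refine RingHom.Finite.comp ?_ ?_
  · exact RingHom.Finite.of_surjective _
      (ConcreteCategory.bijective_of_isIso (f.normalizationObjIso hU).inv).surjective
  · exact hIC
end Groth.Agent.S1297
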