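import Groth.Statements.S9386
-- import your own Groth.Agent.* helpers here
import Groth.Agent.Lib.Helper51.OmegaUniv.DiffCompatIso
import Groth.Agent.Lib.Helper51.OmegaUniv.KaehlerAlg3

set_option autoImplicit false
universe u
open OmegaSh

namespace Groth.Agent.S9386

open AlgebraicGeometry CategoryTheory in
/-- For a cartesian square X' = X ×_S S' with projection g' : X' → X, the canonical map g'^*Ω_{X/S} →
Ω_{X'/S'} is an isomorphism (receptacle form: Ω_{X/S}, Ω_{X'/S'} are any modules carrying universal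
derivations and the map is pinned by its values on pulled-back differentials). -/
theorem result {X S X' S' : Scheme.{u}} (f : X ⟶ S) (g : S' ⟶ S) (g' : X' ⟶ X) (f' : X' ⟶ S')
    (hsq : IsPullback g' f' f g) (Ω : X.Modules) (d : OmegaSh.Der f Ω) (hd : OmegaSh.IsUniversal d)
    (Ω' : X'.Modules) (d' : OmegaSh.Der f' Ω') (hd' : OmegaSh.IsUniversal d')
    (c : (Scheme.Modules.pullback g').obj Ω ⟶ Ω') (hc : OmegaSh.IsDiffCompat g' d d' c) : IsIso c := by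
  have hq₂ : Ω'.IsQuasicoherent :=
    Groth.Agent.Lib.Helper51.OmegaUniv.isQuasicoherent_of_isUniversal f' hd'
  have hq₁ : Ω.IsQuasicoherent :=
    Groth.Agent.Lib.Helper51.OmegaUniv.isQuasicoherent_of_isUniversal f hd
  have hq₃ : ((Scheme.Modules.pullback g').obj Ω).IsQuasicoherent :=
    Groth.Agent.Lib.Helper16.FlatPull.isQuasicoherent_pullback g' Ω
  apply Groth.Agent.Lib.Helper42.isIso_of_app_bijective_of_cover
  intro x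
  obtain ⟨V, hV, hxV, -⟩ := exists_isAffineOpen_mem_and_subset
    (x := g (f' x)) (U := ⊤) trivial
  obtain ⟨V', hV', hxV', hg⟩ := exists_isAffineOpen_mem_and_subset
    (x := f' x) (U := g ⁻¹ᵁ V) hxV
  have hfx : g' x ∈ f ⁻¹ᵁ V := by
    change f (g' x) ∈ V
    rw [← Scheme.Hom.comp_apply, hsq.w, Scheme.Hom.comp_apply]
    exact hxV
  obtain ⟨U, hU, hxU, h₁⟩ := exists_isAffineOpen_mem_and_subset
    (x := g' x) (U := f ⁻¹ᵁ V) hfx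
  have hxW : x ∈ g' ⁻¹ᵁ U ⊓ f' ⁻¹ᵁ V' := ⟨hxU, hxV'⟩
  have hW : IsAffineOpen (g' ⁻¹ᵁ U ⊓ f' ⁻¹ᵁ V') := by
    have a1 : IsAffine V.toScheme := hV
    have a2 : IsAffine V'.toScheme := hV'
    have a3 : IsAffine U.toScheme := hU
    exact IsAffine.of_isIso (Scheme.Hom.isPullback_resLE hsq hg h₁ rfl).isoPullback.hom
  have hh : g' ⁻¹ᵁ U ⊓ f' ⁻¹ᵁ V' ≤ g' ⁻¹ᵁ U := inf_le_left
  have h₂ : g' ⁻¹ᵁ U ⊓ f' ⁻¹ᵁ V' ≤ f' ⁻¹ᵁ V' := inf_le_right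
  obtain ⟨e, e₂, L, hL, -, hsqL⟩ := Groth.Agent.Lib.Helper51.OmegaUniv.exists_chart_square
    g' hd hd' hc hU hV h₁ hW hV' h₂ hh
  refine ⟨_, hW, hxW, Groth.Agent.Lib.Helper51.OmegaUniv.app_bijective_of_chart_square
    g' e.toEquiv e₂.toEquiv L hsqL ?_⟩
  have hpo := (isIso_pushoutSection_iff hsq hg h₁ rfl).mp
    (isIso_pushoutSection_of_isAffineOpen hsq hg h₁ rfl hV hV' hU)
  let _ : Algebra Γ(S, V) Γ(X, U) := (f.appLE V U h₁).hom.toAlgebra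
  let _ : Algebra Γ(S', V') Γ(X', g' ⁻¹ᵁ U ⊓ f' ⁻¹ᵁ V') := (f'.appLE V' _ h₂).hom.toAlgebra
  let _ : Algebra Γ(X, U) Γ(X', g' ⁻¹ᵁ U ⊓ f' ⁻¹ᵁ V') := (g'.appLE U _ hh).hom.toAlgebra
  let _ : Algebra Γ(S, V) Γ(S', V') := (g.appLE V V' hg).hom.toAlgebra
  let _ : Algebra Γ(S, V) Γ(X', g' ⁻¹ᵁ U ⊓ f' ⁻¹ᵁ V') :=
    (f.appLE V U h₁ ≫ g'.appLE U _ hh).hom.toAlgebra
  have t₁ : IsScalarTower Γ(S, V) Γ(X, U) Γ(X', g' ⁻¹ᵁ U ⊓ f' ⁻¹ᵁ V') :=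
    IsScalarTower.of_algebraMap_eq' rfl
  have t₂ : IsScalarTower Γ(S, V) Γ(S', V') Γ(X', g' ⁻¹ᵁ U ⊓ f' ⁻¹ᵁ V') := by
    refine IsScalarTower.of_algebraMap_eq' ?_
    change (f.appLE V U h₁ ≫ g'.appLE U _ hh).hom = (g.appLE V V' hg ≫ f'.appLE V' _ h₂).hom
    rw [hpo.w]
  have po : Algebra.IsPushout Γ(S, V) Γ(X, U) Γ(S', V') Γ(X', g' ⁻¹ᵁ U ⊓ f' ⁻¹ᵁ V') :=
    CommRingCat.isPushout_iff_isPushout.mp hpo
  have po' : Algebra.IsPushout Γ(S, V) Γ(S', V') Γ(X, U) Γ(X', g' ⁻¹ᵁ U ⊓ f' ⁻¹ᵁ V') := po.symm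
  exact Groth.Agent.Lib.Helper51.OmegaUniv.KAlg.bijective_of_isPushout L hL

end Groth.Agent.S9386
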