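import Groth.Statements.S12482
import Mathlib.LinearAlgebra.Finsupp.LinearCombination
import Mathlib.LinearAlgebra.Basis.Basic
import Mathlib.Tactic.LinearCombination
import Mathlib.Tactic.Ring

set_option autoImplicit false
universe u
open Dual

open Finset

namespace Groth.Agent.S12482

theorem mem_span_image_Iio {A : Type*} [CommRing A] (x : ℕ → A) (n : ℕ) (a : A)
    (ha : a ∈ Ideal.span (x '' Set.Iio n)) : ∃ d : ℕ → A, a = ∑ i ∈ range n, d i * x i := by
  obtain ⟨l, hl, rfl⟩ := (Finsupp.mem_span_image_iff_linearCombination A).mp ha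
  refine ⟨l, ?_⟩
  rw [Finsupp.linearCombination_apply]
  refine Finsupp.sum_of_support_subset l ?_ _ (by simp)
  intro i hi
  have := hl hi
  simpa using this

theorem core {A : Type*} [CommRing A] (x : ℕ → A) (p : ℕ)
    (hreg : ∀ i < p, ∀ a : A, x i * a ∈ Ideal.span (x '' Set.Iio i) →
      a ∈ Ideal.span (x '' Set.Iio i)) :
    ∀ n ≤ p, ∀ c : ℕ → A, ∑ i ∈ range n, c i * x i = 0 →
      ∀ i < n, c i ∈ Ideal.span (x '' Set.Iio n) := by
  intro n
  induction n with
  | zero => intro _ c _ i hi; exact absurd hi (Nat.not_lt_zero i)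
  | succ n ih =>
    intro hn c hc i hi
    rw [Finset.sum_range_succ] at hc
    have h1 : x n * c n ∈ Ideal.span (x '' Set.Iio n) := by
      have : x n * c n = -(∑ i ∈ range n, c i * x i) := by linear_combination hc
      rw [this]
      exact neg_mem (sum_mem fun j hj =>
        Ideal.mul_mem_left _ _ (Ideal.subset_span ⟨j, Finset.mem_range.mp hj, rfl⟩))
    have h2 := hreg n (by omega) (c n) h1
    obtain ⟨d, hd⟩ := mem_span_image_Iio x n _ h2
    have h3 : ∑ i ∈ range n, (c i + d i * x n) * x i = 0 := by
      have : ∑ i ∈ range n, (c i + d i * x n) * x i =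
          ∑ i ∈ range n, c i * x i + (∑ i ∈ range n, d i * x i) * x n := by
        rw [Finset.sum_mul, ← Finset.sum_add_distrib]
        refine Finset.sum_congr rfl fun j _ => ?_
        ring
      rw [this, ← hd]
      exact hc
    have h4 := ih (by omega) (fun i => c i + d i * x n) h3
    have hmono : Ideal.span (x '' Set.Iio n) ≤ Ideal.span (x '' Set.Iio (n + 1)) :=
      Ideal.span_mono (Set.image_mono (Set.Iio_subset_Iio (Nat.le_succ n)))
    rcases Nat.lt_succ_iff_lt_or_eq.mp hi with hi' | rfl
    · have h5 := hmono (h4 i hi')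
      have hxn : d i * x n ∈ Ideal.span (x '' Set.Iio (n + 1)) :=
        Ideal.mul_mem_left _ _ (Ideal.subset_span ⟨n, Nat.lt_succ_self n, rfl⟩)
      have : c i = (c i + d i * x n) - d i * x n := by ring
      rw [this]
      exact sub_mem h5 hxn
    · exact hmono h2


theorem hreg_translate {A : Type u} [CommRing A] (p : ℕ) (x : Fin p → A)
    (hreg : RingTheory.Sequence.IsWeaklyRegular A (List.ofFn x))
    (x' : ℕ → A) (hx' : ∀ (i : ℕ) (h : i < p), x' i = x ⟨i, h⟩) :
    ∀ i < p, ∀ a : A, x' i * a ∈ Ideal.span (x' '' Set.Iio i) →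
      a ∈ Ideal.span (x' '' Set.Iio i) := by
  intro i hi a ha
  have hlen : i < (List.ofFn x).length := by simp [hi]
  have h := hreg.regular_mod_prev i hlen
  have e1 : (List.ofFn x)[i] = x' i := by simp [hx' i hi]
  have e2 : Ideal.ofList ((List.ofFn x).take i) = Ideal.span (x' '' Set.Iio i) := by
    unfold Ideal.ofList
    congr 1
    ext r
    simp only [Set.mem_ofPred_eq, Set.mem_image, Set.mem_Iio]
    rw [List.mem_take_iff_getElem]
    constructor
    · rintro ⟨j, hj, rfl⟩
      have hj' : j < i ∧ j < p := by simpa using hj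
      exact ⟨j, hj'.1, by simp [hx' j hj'.2]⟩
    · rintro ⟨j, hj, rfl⟩
      have hjp : j < p := by omega
      exact ⟨j, by simp; omega, by simp [hx' j hjp]⟩
  have e3 : (Ideal.ofList ((List.ofFn x).take i) • (⊤ : Submodule A A)) =
      Ideal.span (x' '' Set.Iio i) := by
    rw [e2]
    exact Ideal.mul_top _
  have h' : (Submodule.Quotient.mk a :
      A ⧸ (Ideal.ofList ((List.ofFn x).take i) • (⊤ : Submodule A A))) = 0 := by
    apply h
    simp only [smul_zero]
    rw [← Submodule.Quotient.mk_smul, Submodule.Quotient.mk_eq_zero, e3, e1, smul_eq_mul]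
    exact ha
  rw [Submodule.Quotient.mk_eq_zero, e3] at h'
  exact h'

/-- Let `A` be a commutative ring, `x_1, …, x_p` a sequence of elements of `A` such that each `x_i` is a
non-zero-divisor on `A/(x_1, …, x_{i-1})`, and `J` the ideal generated by the `x_i`. Then `J/J²` is
a free `(A/J)`-module with basis the classes of the `x_i`: there is a basis of `J/J²` over `A/J`,
indexed by `1, …, p`, whose `i`-th vector is the class of `x_i`. (The other assertions of the
published statement, on the Koszul complex and on Ext and Tor against `A/J`, are stated separately.) -/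
theorem result (A : Type u) [CommRing A] (p : ℕ) (x : Fin p → A)
    (hreg : RingTheory.Sequence.IsWeaklyRegular A (List.ofFn x)) :
    ∃ b : Module.Basis (Fin p) (A ⧸ Ideal.span (Set.range x)) (Ideal.span (Set.range x)).Cotangent,
      ∀ i, b i = (Ideal.span (Set.range x)).toCotangent ⟨x i, Ideal.subset_span (Set.mem_range_self i)⟩ := by
  classical
  set J := Ideal.span (Set.range x) with hJ
  let x' : ℕ → A := fun i => if h : i < p then x ⟨i, h⟩ else 0
  have hx' : ∀ (i : ℕ) (h : i < p), x' i = x ⟨i, h⟩ := fun i h => by simp [x', h]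
  have hJ' : Ideal.span (x' '' Set.Iio p) = J := by
    rw [hJ]
    congr 1
    ext r
    simp only [Set.mem_image, Set.mem_Iio, Set.mem_range]
    constructor
    · rintro ⟨j, hj, rfl⟩
      exact ⟨⟨j, hj⟩, (hx' j hj).symm⟩
    · rintro ⟨j, rfl⟩
      exact ⟨j.1, j.2, hx' j.1 j.2⟩
  have hcore := core x' p (hreg_translate p x hreg x' hx') p le_rfl
  let v : Fin p → J.Cotangent := fun i => J.toCotangent ⟨x i, Ideal.subset_span (Set.mem_range_self i)⟩
  have hli : LinearIndependent (A ⧸ J) v := by
    rw [Fintype.linearIndependent_iff]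
    intro g hg i
    have hsurj : ∀ i, ∃ a : A, Ideal.Quotient.mk J a = g i := fun i => Ideal.Quotient.mk_surjective (g i)
    choose a ha using hsurj
    have h1 : ∑ i, g i • v i = J.toCotangent (∑ i, a i • (⟨x i, Ideal.subset_span (Set.mem_range_self i)⟩ : J)) := by
      rw [map_sum]
      refine Finset.sum_congr rfl fun i _ => ?_
      rw [map_smul, ← ha i]
      rfl
    rw [h1, Ideal.toCotangent_eq_zero] at hg
    have h2 : ((∑ i, a i • (⟨x i, Ideal.subset_span (Set.mem_range_self i)⟩ : J) : J) : A) =
        ∑ i, a i * x i := by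
      simp
    rw [h2, pow_two] at hg
    have hg' : ∑ i, a i * x i ∈ J • Submodule.span A (Set.range x) := hg
    obtain ⟨b, hbJ, hb⟩ := (Submodule.mem_ideal_smul_span_iff_exists_sum J x _).mp hg'
    rw [Finsupp.sum_fintype _ _ (by simp)] at hb
    let c : ℕ → A := fun i => if h : i < p then a ⟨i, h⟩ - b ⟨i, h⟩ else 0
    have hc : ∑ i ∈ range p, c i * x' i = 0 := by
      rw [← Fin.sum_univ_eq_sum_range (fun i => c i * x' i) p]
      have : ∀ i : Fin p, c i * x' i = a i * x i - b i • x i := by
        intro i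
        simp [c, x', sub_mul]
      rw [Finset.sum_congr rfl (fun i _ => this i), Finset.sum_sub_distrib, hb, sub_self]
    have h3 := hcore c hc i.1 i.2
    rw [hJ'] at h3
    have h4 : c i.1 = a i - b i := by simp [c]
    rw [h4] at h3
    have h5 : a i ∈ J := by
      have := add_mem h3 (hbJ i)
      simpa using this
    rw [← ha i]
    exact Ideal.Quotient.eq_zero_iff_mem.mpr h5
  have hsp : ⊤ ≤ Submodule.span (A ⧸ J) (Set.range v) := by
    rintro m -
    obtain ⟨⟨y, hy⟩, rfl⟩ := J.toCotangent_surjective m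
    obtain ⟨d, rfl⟩ := (Submodule.mem_span_range_iff_exists_fun A).mp hy
    have : J.toCotangent ⟨∑ i, d i • x i, hy⟩ = ∑ i, Ideal.Quotient.mk J (d i) • v i := by
      have h6 : (⟨∑ i, d i • x i, hy⟩ : J) =
          ∑ i, d i • (⟨x i, Ideal.subset_span (Set.mem_range_self i)⟩ : J) := by
        ext; simp
      rw [h6, map_sum]
      refine Finset.sum_congr rfl fun i _ => ?_
      rw [map_smul]
      rfl
    rw [this]
    exact Submodule.sum_mem _ fun i _ => Submodule.smul_mem _ _ (Submodule.subset_span ⟨i, rfl⟩)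
  refine ⟨Module.Basis.mk hli hsp, fun i => ?_⟩
  rw [Module.Basis.mk_apply]

end Groth.Agent.S12482
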