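import Groth.Statements.S10262
import Groth.Agent.H53.Unram

set_option autoImplicit false
universe u
open CategoryTheory CategoryTheory.Limits AlgebraicGeometry
open AlgSp

namespace Groth.Agent.S10262

/-- (1) an unramified morphism of algebraic spaces has diagonal an open immersion; (2) a morphism
locally of finite type whose diagonal is an open immersion is unramified. -/
theorem result {S : Scheme.{u}} {X Y : AlgSp.Space S} (f : X ⟶ Y) :
    (AlgSp.LocP (@LocallyOfFiniteType ⊓ @FormallyUnramified) f.hom →
      AlgSp.RepWith @IsOpenImmersion (pullback.diagonal f.hom)) ∧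
    (AlgSp.LocP @LocallyOfFiniteType f.hom → AlgSp.RepWith @IsOpenImmersion (pullback.diagonal f.hom) →
      AlgSp.LocP (@LocallyOfFiniteType ⊓ @FormallyUnramified) f.hom) := by
  refine ⟨fun hf => ?_, fun hlft hΔ => ?_⟩
  · apply Groth.Agent.H52.repWith_diagonal_of_forall_base_change
    intro T y
    have sq := IsPullback.of_hasPullback f.hom y
    have hF' : IsAlgSpace (pullback f.hom y) :=
      Groth.Agent.H52.isAlgSpace_of_isPullback sq X.property Y.property (IsAlgSpace.yon_obj T)
    exact ⟨_, _, _, sq, Groth.Agent.H53.repWith_isOpenImmersion_diagonal_of_unramified_yon hF' _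
      (Groth.Agent.H53.locP_snd_of_yon Groth.Agent.H53.locPCalc_unramified X.property Y.property
        hf y sq)⟩
  · intro U V a b h ha hb w
    refine ⟨hlft a b h ha hb w, ?_⟩
    have key : ∀ (k : (yon S).obj U ⟶ Y.obj), k = a ≫ f.hom →
        RepWith @IsOpenImmersion (pullback.diagonal k) := by
      rintro k rfl
      exact Groth.Agent.H53.repWith_diagonal_comp _ a f.hom
        (Groth.Agent.H53.repWith_isOpenImmersion_diagonal_of_etale a ha) hΔ
    have h1 := key _ w.symm
    have h2 := Groth.Agent.H53.repWith_diagonal_of_comp _ _ _ h1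
    have : IsOpenImmersion (pullback.diagonal h.left) :=
      Groth.Agent.H53.diagonal_left_of_repWith_diagonal_yon_map _ h h2
    exact (inferInstance : FormallyUnramified h.left)

end Groth.Agent.S10262
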