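import Groth.Statements.S2105
import Mathlib.Algebra.BigOperators.Fin
import Mathlib.Tactic

set_option autoImplicit false
universe u
open CAlg

namespace Groth.Agent.S2105

variable {A : Type u} [CommRing A] {n m : ℕ}

/-- the trivial (Koszul) relations -/
def triv {c : ℕ} (h : Fin c → A) : Set (Fin c → A) :=
  {v : Fin c → A | ∃ i j : Fin c, v = Pi.single i (h j) - Pi.single j (h i)}

/-- left embedding -/
def E₁ : (Fin n → A) →ₗ[A] (Fin (n + m) → A) where
  toFun a := Fin.append a 0
  map_add' a b := by
    funext k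
    refine Fin.addCases (fun i => ?_) (fun j => ?_) k <;> simp
  map_smul' r a := by
    funext k
    refine Fin.addCases (fun i => ?_) (fun j => ?_) k <;> simp

/-- right embedding -/
def E₂ : (Fin m → A) →ₗ[A] (Fin (n + m) → A) where
  toFun b := Fin.append 0 b
  map_add' a b := by
    funext k
    refine Fin.addCases (fun i => ?_) (fun j => ?_) k <;> simp
  map_smul' r a := by
    funext k
    refine Fin.addCases (fun i => ?_) (fun j => ?_) k <;> simp

theorem E₁_single (i : Fin n) (x : A) :
    (E₁ (m := m) (Pi.single i x) : Fin (n + m) → A) = Pi.single (Fin.castAdd m i) x := by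
  classical
  funext k
  refine Fin.addCases (fun i' => ?_) (fun j => ?_) k
  · show Fin.append (Pi.single i x) 0 (Fin.castAdd m i') = _
    rw [Fin.append_left]
    by_cases h : i' = i
    · subst h; simp
    · rw [Pi.single_eq_of_ne h, Pi.single_eq_of_ne]
      intro hc
      exact h (Fin.castAdd_injective _ _ hc)
  · show Fin.append (Pi.single i x) 0 (Fin.natAdd n j) = _
    rw [Fin.append_right, Pi.single_eq_of_ne]
    · rfl
    · intro hc
      have := congrArg Fin.val hc
      simp at this
      omega

theorem E₂_single (j : Fin m) (x : A) :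
    (E₂ (n := n) (Pi.single j x) : Fin (n + m) → A) = Pi.single (Fin.natAdd n j) x := by
  classical
  funext k
  refine Fin.addCases (fun i => ?_) (fun j' => ?_) k
  · show Fin.append 0 (Pi.single j x) (Fin.castAdd m i) = _
    rw [Fin.append_left, Pi.single_eq_of_ne]
    · rfl
    · intro hc
      have := congrArg Fin.val hc
      simp at this
      omega
  · show Fin.append 0 (Pi.single j x) (Fin.natAdd n j') = _
    rw [Fin.append_right]
    by_cases h : j' = j
    · subst h; simp
    · rw [Pi.single_eq_of_ne h, Pi.single_eq_of_ne]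
      intro hc
      exact h (Fin.natAdd_injective _ _ hc)

theorem E₁_apply_left (a : Fin n → A) (i : Fin n) :
    (E₁ (m := m) a) (Fin.castAdd m i) = a i := by
  show Fin.append a 0 (Fin.castAdd m i) = _
  rw [Fin.append_left]

theorem E₁_apply_right (a : Fin n → A) (j : Fin m) :
    (E₁ (m := m) a) (Fin.natAdd n j) = 0 := by
  show Fin.append a 0 (Fin.natAdd n j) = _
  rw [Fin.append_right]; rfl

theorem E₂_apply_left (b : Fin m → A) (i : Fin n) :
    (E₂ (n := n) b) (Fin.castAdd m i) = 0 := by
  show Fin.append 0 b (Fin.castAdd m i) = _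
  rw [Fin.append_left]; rfl

theorem E₂_apply_right (b : Fin m → A) (j : Fin m) :
    (E₂ (n := n) b) (Fin.natAdd n j) = b j := by
  show Fin.append 0 b (Fin.natAdd n j) = _
  rw [Fin.append_right]

theorem decomp (a : Fin (n + m) → A) :
    a = E₁ (fun i => a (Fin.castAdd m i)) + E₂ (fun j => a (Fin.natAdd n j)) := by
  funext k
  refine Fin.addCases (fun i => ?_) (fun j => ?_) k
  · rw [Pi.add_apply, E₁_apply_left, E₂_apply_left, add_zero]
  · rw [Pi.add_apply, E₁_apply_right, E₂_apply_right, zero_add]

theorem sum_single_eq {c : ℕ} (v : Fin c → A) : v = ∑ k, Pi.single k (v k) := by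
  classical
  exact (Finset.univ_sum_single v).symm


theorem E₁_mem (f : Fin n → A) (g : Fin m → A) (v : Fin n → A)
    (hv : v ∈ Submodule.span A (triv f)) :
    (E₁ (m := m) v) ∈ Submodule.span A (triv (Fin.append f g)) := by
  have : (Submodule.span A (triv f)).map (E₁ (m := m)) ≤
      Submodule.span A (triv (Fin.append f g)) := by
    rw [Submodule.map_span, Submodule.span_le]
    rintro _ ⟨_, ⟨i, j, rfl⟩, rfl⟩
    apply Submodule.subset_span
    refine ⟨Fin.castAdd m i, Fin.castAdd m j, ?_⟩
    rw [map_sub, E₁_single, E₁_single, Fin.append_left, Fin.append_left]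
  exact this ⟨v, hv, rfl⟩

theorem E₂_mem (f : Fin n → A) (g : Fin m → A) (v : Fin m → A)
    (hv : v ∈ Submodule.span A (triv g)) :
    (E₂ (n := n) v) ∈ Submodule.span A (triv (Fin.append f g)) := by
  have : (Submodule.span A (triv g)).map (E₂ (n := n)) ≤
      Submodule.span A (triv (Fin.append f g)) := by
    rw [Submodule.map_span, Submodule.span_le]
    rintro _ ⟨_, ⟨i, j, rfl⟩, rfl⟩
    apply Submodule.subset_span
    refine ⟨Fin.natAdd n i, Fin.natAdd n j, ?_⟩
    rw [map_sub, E₂_single, E₂_single, Fin.append_right, Fin.append_right]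
  exact this ⟨v, hv, rfl⟩

theorem lift_span (I : Ideal A) (g : Fin m → A) (vbar : Fin m → A ⧸ I)
    (hv : vbar ∈ Submodule.span (A ⧸ I) (triv (fun j => Ideal.Quotient.mk I (g j)))) :
    ∃ v ∈ Submodule.span A (triv g), (fun j => Ideal.Quotient.mk I (v j)) = vbar := by
  classical
  induction hv using Submodule.span_induction with
  | mem x hx =>
    obtain ⟨i, j, rfl⟩ := hx
    refine ⟨Pi.single i (g j) - Pi.single j (g i), Submodule.subset_span ⟨i, j, rfl⟩, ?_⟩
    funext k
    simp only [Pi.sub_apply, map_sub, Pi.single_apply]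
    split_ifs <;> simp
  | zero => exact ⟨0, Submodule.zero_mem _, by funext k; simp⟩
  | add x y _ _ hx hy =>
    obtain ⟨v, hv, rfl⟩ := hx
    obtain ⟨w, hw, rfl⟩ := hy
    exact ⟨v + w, Submodule.add_mem _ hv hw, by funext k; simp⟩
  | smul r x _ hx =>
    obtain ⟨v, hv, rfl⟩ := hx
    obtain ⟨r, rfl⟩ := Ideal.Quotient.mk_surjective r
    exact ⟨r • v, Submodule.smul_mem _ _ hv, by funext k; simp⟩

/-- Appending to an `H_1`-regular sequence `f` a sequence `g` whose image modulo the ideal `(f)` is
`H_1`-regular yields an `H_1`-regular sequence. -/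
theorem result {A : Type u} [CommRing A] {n m : ℕ} (f : Fin n → A)
    (g : Fin m → A) (hf : CAlgX.IsH1Regular f)
    (hg : CAlgX.IsH1Regular (fun j => Ideal.Quotient.mk (Ideal.span (Set.range f)) (g j))) :
    CAlgX.IsH1Regular (Fin.append f g) := by
  classical
  intro a ha
  show a ∈ Submodule.span A (triv (Fin.append f g))
  set N := Submodule.span A (triv (Fin.append f g)) with hN
  let L : (Fin (n + m) → A) →ₗ[A] A := ∑ k, (Fin.append f g k) • LinearMap.proj k
  have hL : ∀ v, L v = ∑ k, v k * Fin.append f g k := by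
    intro v
    simp only [L, LinearMap.sum_apply, LinearMap.smul_apply, LinearMap.proj_apply, smul_eq_mul]
    exact Finset.sum_congr rfl (fun k _ => mul_comm _ _)
  have hNL : ∀ v ∈ N, L v = 0 := by
    intro v hv
    have : N ≤ LinearMap.ker L := by
      rw [hN, Submodule.span_le]
      rintro _ ⟨i, j, rfl⟩
      show L _ = 0
      rw [map_sub, hL, hL]
      simp only [Pi.single_apply, ite_mul, zero_mul, Finset.sum_ite_eq', Finset.mem_univ, if_true]
      ring
    exact this hv
  have hLE₁ : ∀ v : Fin n → A, L (E₁ v) = ∑ i, v i * f i := by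
    intro v
    rw [hL, Fin.sum_univ_add]
    simp only [E₁_apply_left, E₁_apply_right, Fin.append_left, zero_mul, Finset.sum_const_zero,
      add_zero]
  have hLE₂ : ∀ v : Fin m → A, L (E₂ v) = ∑ j, v j * g j := by
    intro v
    rw [hL, Fin.sum_univ_add]
    simp only [E₂_apply_left, E₂_apply_right, Fin.append_right, zero_mul, Finset.sum_const_zero,
      zero_add]
  set a₁ : Fin n → A := fun i => a (Fin.castAdd m i) with ha₁
  set a₂ : Fin m → A := fun j => a (Fin.natAdd n j) with ha₂
  have hLa : L a = 0 := by rw [hL]; exact ha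
  have hsum : ∑ i, a₁ i * f i + ∑ j, a₂ j * g j = 0 := by
    rw [← hLE₁, ← hLE₂, ← map_add, ← decomp a, hLa]
  set I := Ideal.span (Set.range f) with hI
  have hbar : ∑ j, (Ideal.Quotient.mk I (a₂ j)) * (Ideal.Quotient.mk I (g j)) = 0 := by
    simp only [← map_mul, ← map_sum]
    rw [Ideal.Quotient.eq_zero_iff_mem]
    have : ∑ j, a₂ j * g j = - ∑ i, a₁ i * f i := by linear_combination hsum
    rw [this]
    refine neg_mem (Ideal.sum_mem _ (fun i _ => ?_))
    exact Ideal.mul_mem_left _ _ (Ideal.subset_span ⟨i, rfl⟩)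
  have h1 := hg (fun j => Ideal.Quotient.mk I (a₂ j)) hbar
  obtain ⟨b₀, hb₀, hb₀eq⟩ := lift_span I g _ h1
  have hb' : ∀ j, a₂ j - b₀ j ∈ I := fun j => by
    rw [← Ideal.Quotient.eq]
    exact (congrFun hb₀eq j).symm
  have hex : ∀ j, ∃ d : Fin n → A, ∑ i, d i * f i = a₂ j - b₀ j := fun j =>
    Ideal.mem_span_range_iff_exists_fun.mp (hb' j)
  choose d hd using hex
  let c : Fin n → A := fun i => ∑ j, d j i * g j
  have hρ : E₂ (n := n) (a₂ - b₀) - E₁ (m := m) c ∈ N := by
    have e1 : E₂ (n := n) (a₂ - b₀) =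
        ∑ j, ∑ i, d j i • (Pi.single (Fin.natAdd n j) (f i) : Fin (n + m) → A) := by
      conv_lhs => rw [sum_single_eq (a₂ - b₀)]
      rw [map_sum]
      refine Finset.sum_congr rfl (fun j _ => ?_)
      rw [E₂_single, Pi.sub_apply, ← hd j]
      funext k
      simp only [Finset.sum_apply, Pi.smul_apply, Pi.single_apply, smul_eq_mul]
      split_ifs
      · rfl
      · simp
    have e2 : E₁ (m := m) c =
        ∑ j, ∑ i, d j i • (Pi.single (Fin.castAdd m i) (g j) : Fin (n + m) → A) := by
      conv_lhs => rw [sum_single_eq c]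
      rw [map_sum, Finset.sum_comm]
      refine Finset.sum_congr rfl (fun i _ => ?_)
      rw [E₁_single]
      funext k
      simp only [Finset.sum_apply, Pi.smul_apply, Pi.single_apply, smul_eq_mul, c]
      split_ifs
      · rfl
      · simp
    rw [e1, e2, ← Finset.sum_sub_distrib]
    refine Submodule.sum_mem _ (fun j _ => ?_)
    rw [← Finset.sum_sub_distrib]
    refine Submodule.sum_mem _ (fun i _ => ?_)
    rw [← smul_sub]
    apply Submodule.smul_mem
    apply Submodule.subset_span
    refine ⟨Fin.natAdd n j, Fin.castAdd m i, ?_⟩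
    rw [Fin.append_left, Fin.append_right]
  have hdecomp : a = E₁ (m := m) (a₁ + c) + E₂ (n := n) b₀ +
      (E₂ (n := n) (a₂ - b₀) - E₁ (m := m) c) := by
    conv_lhs => rw [decomp a]
    simp only [map_add, map_sub]
    abel
  have hLa'' : ∑ i, (a₁ + c) i * f i = 0 := by
    have h3 := congrArg L hdecomp
    rw [map_add, map_add, hNL _ hρ, hNL _ (E₂_mem f g b₀ hb₀), hLa, hLE₁] at h3
    linear_combination -h3
  have h2 := hf (a₁ + c) hLa''
  rw [hdecomp]
  exact N.add_mem (N.add_mem (E₁_mem f g _ h2) (E₂_mem f g _ hb₀)) hρ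

end Groth.Agent.S2105
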