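import Groth.Statements.S6992
import Groth.Agent.Lib.Helper35.RelFP

set_option autoImplicit false
universe u
open CAlg

namespace Groth.Agent.S6992

/-- Let R be a commutative ring, A → B a finite homomorphism of finite type R-algebras, M a B-module,
and α : R[x_1, ..., x_n] → A, β : R[y_1, ..., y_k] → B surjective R-algebra homomorphisms. Then M is
finitely presented as an R[x_1, ..., x_n]-module through α and A → B (M is finitely presented
relative to R as an A-module) if and only if M is finitely presented as an R[y_1, ..., y_k]-module
through β (M is finitely presented relative to R as a B-module). -/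
theorem result {R A B : Type u} [CommRing R] [CommRing A] [CommRing B]
    [Algebra R A] [Algebra A B] [Algebra R B] [IsScalarTower R A B] [Algebra.FiniteType R A]
    [Algebra.FiniteType R B] [Module.Finite A B] (M : Type u) [AddCommGroup M] [Module B M] [Module A M]
    [IsScalarTower A B M] {n k : ℕ} (α : MvPolynomial (Fin n) R →ₐ[R] A) (hα : Function.Surjective α)
    (β : MvPolynomial (Fin k) R →ₐ[R] B) (hβ : Function.Surjective β) :
    @Module.FinitePresentation (MvPolynomial (Fin n) R) M _ _ (Module.compHom M α.toRingHom) ↔
      @Module.FinitePresentation (MvPolynomial (Fin k) R) M _ _ (Module.compHom M β.toRingHom) := by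
  -- algebra structures over `T₁ = R[x_1, ..., x_n]`
  letI : Algebra (MvPolynomial (Fin n) R) A := α.toRingHom.toAlgebra
  letI : Algebra (MvPolynomial (Fin n) R) B := ((algebraMap A B).comp α.toRingHom).toAlgebra
  haveI : IsScalarTower (MvPolynomial (Fin n) R) A B := IsScalarTower.of_algebraMap_eq' rfl
  haveI : IsScalarTower R (MvPolynomial (Fin n) R) A :=
    IsScalarTower.of_algebraMap_eq' (α.comp_algebraMap).symm
  haveI : IsScalarTower R (MvPolynomial (Fin n) R) B := by
    refine IsScalarTower.of_algebraMap_eq' ?_
    rw [IsScalarTower.algebraMap_eq R A B, IsScalarTower.algebraMap_eq R (MvPolynomial (Fin n) R) A,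
      IsScalarTower.algebraMap_eq (MvPolynomial (Fin n) R) A B, RingHom.comp_assoc]
  haveI : Module.Finite (MvPolynomial (Fin n) R) A :=
    Module.Finite.of_surjective (Algebra.linearMap (MvPolynomial (Fin n) R) A) hα
  haveI : Module.Finite (MvPolynomial (Fin n) R) B := Module.Finite.trans A B
  obtain ⟨C, _, _, _, _, _, f, hf⟩ :=
    Module.Finite.exists_free_surjective (MvPolynomial (Fin n) R) B
  letI : Algebra R C :=
    ((algebraMap (MvPolynomial (Fin n) R) C).comp (algebraMap R (MvPolynomial (Fin n) R))).toAlgebra
  haveI : IsScalarTower R (MvPolynomial (Fin n) R) C := IsScalarTower.of_algebraMap_eq' rfl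
  haveI : Algebra.FinitePresentation R C :=
    Algebra.FinitePresentation.trans R (MvPolynomial (Fin n) R) C
  have h1 := Groth.Agent.Lib.Helper35.FPVia.indep (R := R) M β hβ (f.restrictScalars R) hf
  -- module structures
  letI : Module (MvPolynomial (Fin n) R) M := Module.compHom M α.toRingHom
  letI : Module C M := Module.compHom M (f : C →+* B)
  haveI : IsScalarTower (MvPolynomial (Fin n) R) C M := ⟨fun t c m => by
    change f (t • c) • m = α t • (f c • m)
    rw [map_smul, Algebra.smul_def, mul_smul]
    change algebraMap A B (α t) • (f c • m) = α t • (f c • m)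
    rw [algebraMap_smul]⟩
  have h2 : Groth.Agent.Lib.Helper35.FPVia ((f.restrictScalars R : C →ₐ[R] B) : C →+* B) M ↔
      Module.FinitePresentation (MvPolynomial (Fin n) R) M := by
    constructor
    · intro h
      haveI : Module.FinitePresentation C M := h
      haveI : Module.FinitePresentation (MvPolynomial (Fin n) R) C :=
        Module.finitePresentation_of_projective (MvPolynomial (Fin n) R) C
      exact Module.FinitePresentation.trans (MvPolynomial (Fin n) R) M C
    · intro h
      haveI := h
      exact Groth.Agent.Lib.Helper35.fp_of_fp_restrict_of_finite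
        (T := MvPolynomial (Fin n) R) (C := C) (M := M)
  exact h2.symm.trans h1.symm

end Groth.Agent.S6992
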