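import Groth.Statements.S9384
-- import your own Groth.Agent.* helpers here
import Groth.Agent.Lib.Helper51.OmegaUniv.ConormalSeq
import Groth.Agent.Lib.Helper51.OmegaUniv.ConormalInj
import Groth.Agent.Lib.Helper51.OmegaUniv.ConormalRetract
import Groth.Agent.Lib.Helper51.OmegaUniv.ConormalSection
import Groth.Agent.Lib.Helper51.OmegaUniv.KaehlerAlg6

set_option autoImplicit false
universe u
open OmegaSh

namespace Groth.Agent.S9384

open AlgebraicGeometry CategoryTheory Limits in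
/-- Let i : Z → X be a quasi-compact immersion of schemes over S admitting a left inverse g : X → Z over
S. Then the canonical sequence 0 → C_{Z/X} → i^*Ω_{X/S} → Ω_{Z/S} → 0 is split exact (receptacle
form; the maps are pinned by their values on sections). (The published statement also covers
immersions with only a local left inverse, where the sequence is locally split, and arbitrary
immersions; this row assumes a global left inverse over S and i quasi-compact. The case of a section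
s of a morphism p : X → S, where Ω_{S/S} = 0 and the map C_{S/X} → s^*Ω_{X/S} is an isomorphism, is
the instance Z = S, i = s, g = p.) -/
theorem result {Z X S : Scheme.{u}} (f : X ⟶ S) (i : Z ⟶ X) [IsImmersion i] [QuasiCompact i]
    (g : X ⟶ Z) (hgi : i ≫ g = 𝟙 Z) (hgS : g ≫ i ≫ f = f)
    (ΩX : X.Modules) (dX : OmegaSh.Der f ΩX) (hX : OmegaSh.IsUniversal dX)
    (ΩZ : Z.Modules) (dZ : OmegaSh.Der (i ≫ f) ΩZ) (hZ : OmegaSh.IsUniversal dZ)
    (φ : Omega.conormal i ⟶ (Scheme.Modules.pullback i).obj ΩX) (hφ : OmegaSh.IsConormalDiff i dX φ)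
    (c : (Scheme.Modules.pullback i).obj ΩX ⟶ ΩZ) (hc : OmegaSh.IsDiffCompat i dX dZ c) :
    ∃ w : φ ≫ c = 0, (ShortComplex.mk φ c w).Exact ∧ (∃ r : (Scheme.Modules.pullback i).obj ΩX ⟶ Omega.conormal i, φ ≫ r = 𝟙 _) ∧
      ∃ σ : ΩZ ⟶ (Scheme.Modules.pullback i).obj ΩX, σ ≫ c = 𝟙 _ := by
  have hqX : ΩX.IsQuasicoherent :=
    Groth.Agent.Lib.Helper51.OmegaUniv.isQuasicoherent_of_isUniversal f hX
  have hqZ : ΩZ.IsQuasicoherent :=
    Groth.Agent.Lib.Helper51.OmegaUniv.isQuasicoherent_of_isUniversal (i ≫ f) hZ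
  have hq₃ : ((Scheme.Modules.pullback i).obj ΩX).IsQuasicoherent :=
    Groth.Agent.Lib.Helper16.FlatPull.isQuasicoherent_pullback i ΩX
  have hqN : (Omega.conormal i).IsQuasicoherent :=
    Groth.Agent.Lib.Helper16.FlatPull.isQuasicoherent_pullback i (ClSub.idealMod i.ker)
  have w : φ ≫ c = 0 := Groth.Agent.Lib.Helper51.OmegaUniv.conormal_comp_zero f i hφ hc
  have hex : (ShortComplex.mk φ c w).Exact := by
    apply Groth.Agent.Lib.Helper51.OmegaUniv.exact_of_app_exact_of_cover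
    intro x
    obtain ⟨W, hW, hxW, -, he⟩ :=
      Groth.Agent.Lib.Helper51.OmegaUniv.conormal_seq_chart f i hX hZ hφ hc x
    exact ⟨W, hW, hxW, he⟩
  obtain ⟨σ, hσ⟩ :=
    Groth.Agent.Lib.Helper51.OmegaUniv.exists_section_of_retraction f i g hgi hgS hZ hc
  have hmono : Mono φ := by
    apply Groth.Agent.Lib.Helper51.OmegaUniv.mono_of_app_injective_of_cover
    intro x
    obtain ⟨V, hV, hxV, -⟩ := exists_isAffineOpen_mem_and_subset (x := f (i x)) (U := ⊤) trivial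
    obtain ⟨U, hU, hxU, h₁, hW, hsurj, hsec⟩ :=
      Groth.Agent.Lib.Helper51.OmegaUniv.exists_retraction_chart i g hgi x (f ⁻¹ᵁ V) hxV
    have h₂ : i ⁻¹ᵁ U ≤ (i ≫ f) ⁻¹ᵁ V := fun y hy => h₁ hy
    refine ⟨i ⁻¹ᵁ U, hW, hxU,
      Groth.Agent.Lib.Helper51.OmegaUniv.conormalDiff_app_injective_chart f i hX hφ hU hV h₁ hW
        hsurj ?_⟩
    let _ : Algebra Γ(S, V) Γ(X, U) := (f.appLE V U h₁).hom.toAlgebra
    let _ : Algebra Γ(X, U) Γ(Z, i ⁻¹ᵁ U) := (i.appLE U (i ⁻¹ᵁ U) le_rfl).hom.toAlgebra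
    let _ : Algebra Γ(S, V) Γ(Z, i ⁻¹ᵁ U) := ((i ≫ f).appLE V (i ⁻¹ᵁ U) h₂).hom.toAlgebra
    have t₁ : IsScalarTower Γ(S, V) Γ(X, U) Γ(Z, i ⁻¹ᵁ U) := by
      refine IsScalarTower.of_algebraMap_eq' ?_
      change ((i ≫ f).appLE V (i ⁻¹ᵁ U) h₂).hom =
        (f.appLE V U h₁ ≫ i.appLE U (i ⁻¹ᵁ U) le_rfl).hom
      rw [Scheme.Hom.appLE_comp_appLE]
    have hsurj' : Function.Surjective (algebraMap Γ(X, U) Γ(Z, i ⁻¹ᵁ U)) := by
      change Function.Surjective (i.appLE U (i ⁻¹ᵁ U) le_rfl).hom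
      rw [Scheme.Hom.appLE_eq_app]
      exact hsurj
    let gs : Γ(Z, i ⁻¹ᵁ U) →ₐ[Γ(S, V)] Γ(X, U) :=
      { toRingHom := (g.appLE (i ⁻¹ᵁ U) U hsec).hom
        commutes' := fun r => by
          change ((i ≫ f).appLE V (i ⁻¹ᵁ U) h₂ ≫ g.appLE (i ⁻¹ᵁ U) U hsec).hom r =
            (f.appLE V U h₁).hom r
          rw [Scheme.Hom.appLE_comp_appLE]
          exact congrArg (fun k => k.hom r)
            (Groth.Agent.Lib.Helper51.OmegaUniv.appLE_congr_hom' hgS V U _ h₁) }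
    have hgs : ∀ s, algebraMap Γ(X, U) Γ(Z, i ⁻¹ᵁ U) (gs s) = s := by
      intro s
      change (g.appLE (i ⁻¹ᵁ U) U hsec ≫ i.appLE U (i ⁻¹ᵁ U) le_rfl).hom s = s
      rw [Scheme.Hom.appLE_comp_appLE]
      refine (congrArg (fun k => k.hom s)
        (Groth.Agent.Lib.Helper51.OmegaUniv.appLE_congr_hom' hgi (i ⁻¹ᵁ U) (i ⁻¹ᵁ U) _
          (le_refl _))).trans ?_
      exact Groth.Agent.Lib.Helper51.OmegaUniv.id_appLE_apply (i ⁻¹ᵁ U) _ s
    exact Groth.Agent.Lib.Helper51.OmegaUniv.KAlg.kerCotangentToTensor_injective_of_section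
      hsurj' gs hgs
  refine ⟨w, hex, ?_, σ, hσ⟩
  have he : (𝟙 _ - c ≫ σ) ≫ c = 0 := by
    rw [Preadditive.sub_comp, Category.id_comp, Category.assoc, hσ, Category.comp_id, sub_self]
  have hm : Mono (ShortComplex.mk φ c w).f := hmono
  refine ⟨hex.lift (𝟙 _ - c ≫ σ) he, ?_⟩
  rw [← cancel_mono φ, Category.assoc]
  have hl : hex.lift (𝟙 _ - c ≫ σ) he ≫ φ = 𝟙 _ - c ≫ σ := hex.lift_f _ he
  rw [hl, Preadditive.comp_sub, Category.comp_id, ← Category.assoc, w, zero_comp, sub_zero,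
    Category.id_comp]

end Groth.Agent.S9384
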