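import Groth.Statements.S12422
import Mathlib
import Groth.Agent.Lib.Helper24.SmoothAtOmega
import Groth.Agent.Lib.Helper24.SmoothRegularPoint
import Groth.Agent.Lib.Helper24.SmoothRationalPoint
import Groth.Agent.Lib.Helper55.FlatDim
import Groth.Agent.Lib.Helper78.AbVarFibre
import Groth.Agent.Lib.Helper97.FrobVar

set_option autoImplicit false
universe u
open CategoryTheory CategoryTheory.Limits AlgebraicGeometry
open NonsingVar

namespace Groth.Agent.S12422

/-- Let k be an algebraically closed field, X an irreducible scheme which is separated and of finite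
type over k, n = dim X, and (Ω, d) a sheaf of relative differentials of X over k, i.e. d : O_X → Ω a
universal k-derivation. Then Ω is locally free of rank n if and only if every local ring of X is
regular (X is a nonsingular variety over k). -/
theorem result (k : Type u) [Field k] [IsAlgClosed k] (n : ℕ)
    (X : Scheme.{u}) [X.Over (Spec (CommRingCat.of k))] [IrreducibleSpace ↥X]
    [IsSeparated (X ↘ (Spec (CommRingCat.of k)))] [LocallyOfFiniteType (X ↘ (Spec (CommRingCat.of k)))]
    [QuasiCompact (X ↘ (Spec (CommRingCat.of k)))]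
    (hn : topologicalKrullDim ↥X = (n : WithBot ℕ∞))
    (Ω : X.Modules) (d : OmegaSh.Der (X ↘ (Spec (CommRingCat.of k))) Ω) (hd : OmegaSh.IsUniversal d) :
    FlatMod.IsFinLocFreeOfRank n Ω ↔ ∀ x : ↥X, IsRegularLocalRing ↑(X.presheaf.stalk x) := by
    classical
    haveI : LocallyOfFinitePresentation (X ↘ (Spec (CommRingCat.of k))) :=
      LocallyOfFinitePresentation.iff_locallyOfFiniteType.mpr inferInstance
    haveI hsub : Subsingleton ↥(Spec (CommRingCat.of k)) :=
      (inferInstance : Subsingleton (PrimeSpectrum k))
    haveI : Flat (X ↘ (Spec (CommRingCat.of k))) := inferInstance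
    have hconst : ∀ t₁ t₂ : X, (X ↘ (Spec (CommRingCat.of k))) t₁ = (X ↘ (Spec (CommRingCat.of k))) t₂ :=
      fun t₁ t₂ => Subsingleton.elim _ _
    have hdimx : ∀ x : X, FlatMor.fibreDimAt (X ↘ (Spec (CommRingCat.of k))) x = (n : WithBot ℕ∞) := by
      intro x
      rw [Groth.Agent.Lib.Helper78.AbVarFibre.fibreDimAt_eq_localDim_of_const _ hconst x,
        Groth.Agent.Lib.Helper55.localDim_eq_topologicalKrullDim_of_irreducibleSpace
          (X ↘ (Spec (CommRingCat.of k))) x, hn]
    constructor
    · intro hΩ x
      obtain ⟨U, hxU, ⟨iso⟩⟩ := hΩ x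
      have hx : x ∈ (X ↘ (Spec (CommRingCat.of k))).smoothLocus :=
        Groth.Agent.Lib.Helper24.mem_smoothLocus_of_flat_of_restrict_iso_freeMod _ Ω d hd x
          (Flat.stalkMap _ x) U n hxU iso (hdimx x)
      exact Groth.Agent.Lib.Helper24.isRegularLocalRing_stalk_of_mem_smoothLocus k _ x hx
    · intro hreg x
      have hx : x ∈ (X ↘ (Spec (CommRingCat.of k))).smoothLocus := by
        refine Groth.Agent.Lib.Helper24.mem_smoothLocus_of_isRegularLocalRing_of_formallySmooth_residueField
          k _ x (hreg x) ?_
        letI : Algebra k (X.residueField x) := Curv2.resAlgebra k X x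
        haveI : Algebra.EssFiniteType k (X.residueField x) :=
          Groth.Agent.Lib.Helper97.FrobVar.essFiniteType_residueField k X x
        have : Algebra.FormallySmooth k (X.residueField x) := inferInstance
        exact this
      obtain ⟨U, n', hxU, hiso, hn'⟩ :=
        Groth.Agent.Lib.Helper24.exists_restrict_iso_freeMod_fibreDimAt_of_mem_smoothLocus _ Ω d hd x hx
      rw [hdimx x] at hn'
      have : n = n' := by exact_mod_cast hn'
      subst this
      exact ⟨U, hxU, hiso⟩

end Groth.Agent.S12422
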