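import Groth.Statements.S5020
-- import your own Groth.Agent.* helpers here
import Groth.Agent.Lib.Helper51.OmegaUniv.ConormalInj
import Groth.Agent.Lib.Helper7.FormallySmoothLift

set_option autoImplicit false
universe u
open CategoryTheory CategoryTheory.Limits AlgebraicGeometry TopologicalSpace
open Unram17

namespace Groth.Agent.S5020

/-- Let j : X' ⟶ X be a quasi-compact immersion and f : X ⟶ Y a morphism with j ≫ f formally smooth. Let
(Ω', d) be a sheaf of differentials of X over Y (d universal) and φ the canonical map from the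
conormal sheaf of j to the pullback of Ω' along j (the O_{X'}-linear map sending the class of a
local section s of the ideal of j to the pullback of d s). Then φ is a monomorphism. (The published
statement allows any immersion j and also asserts that the sequence conormal sheaf → pullback of Ω'
→ differentials of X' over Y is short exact and locally split; this row assumes j quasi-compact, the
case in which the conormal sheaf used here is known to be the conormal sheaf of j, and states only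
that the first map is injective.) -/
theorem result {X' X Y : Scheme.{u}} (j : X' ⟶ X)
    [IsImmersion j] [QuasiCompact j] (f : X ⟶ Y) (hf : MoreMor.IsFormallySmoothHom (j ≫ f))
    (Ω' : X.Modules) (d : OmegaSh.Der f Ω') (hd : OmegaSh.IsUniversal d)
    (φ : Omega.conormal j ⟶ (Scheme.Modules.pullback j).obj Ω') (hφ : OmegaSh.IsConormalDiff j d φ) :
    Mono φ := by
  have hqΩ : Ω'.IsQuasicoherent :=
    Groth.Agent.Lib.Helper51.OmegaUniv.isQuasicoherent_of_isUniversal f hd
  have hq₃ : ((Scheme.Modules.pullback j).obj Ω').IsQuasicoherent :=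
    Groth.Agent.Lib.Helper16.FlatPull.isQuasicoherent_pullback j Ω'
  have hqN : (Omega.conormal j).IsQuasicoherent :=
    Groth.Agent.Lib.Helper16.FlatPull.isQuasicoherent_pullback j (ClSub.idealMod j.ker)
  apply Groth.Agent.Lib.Helper51.OmegaUniv.mono_of_app_injective_of_cover
  intro x
  obtain ⟨V, hV, hxV, -⟩ := exists_isAffineOpen_mem_and_subset (x := f (j x)) (U := ⊤) trivial
  obtain ⟨U, hU, hxU, h₁, hW, hsurj⟩ :=
    Groth.Agent.Lib.Helper51.OmegaUniv.exists_closedImm_chart j x (f ⁻¹ᵁ V) hxV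
  have h₂ : j ⁻¹ᵁ U ≤ (j ≫ f) ⁻¹ᵁ V := fun y hy => h₁ hy
  refine ⟨j ⁻¹ᵁ U, hW, hxU,
    Groth.Agent.Lib.Helper51.OmegaUniv.conormalDiff_app_injective_chart f j hd hφ hU hV h₁ hW
      hsurj ?_⟩
  let _ : Algebra Γ(Y, V) Γ(X, U) := (f.appLE V U h₁).hom.toAlgebra
  let _ : Algebra Γ(X, U) Γ(X', j ⁻¹ᵁ U) := (j.appLE U (j ⁻¹ᵁ U) le_rfl).hom.toAlgebra
  let _ : Algebra Γ(Y, V) Γ(X', j ⁻¹ᵁ U) := ((j ≫ f).appLE V (j ⁻¹ᵁ U) h₂).hom.toAlgebra
  have t₁ : IsScalarTower Γ(Y, V) Γ(X, U) Γ(X', j ⁻¹ᵁ U) := by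
    refine IsScalarTower.of_algebraMap_eq' ?_
    change ((j ≫ f).appLE V (j ⁻¹ᵁ U) h₂).hom =
      (f.appLE V U h₁ ≫ j.appLE U (j ⁻¹ᵁ U) le_rfl).hom
    rw [Scheme.Hom.appLE_comp_appLE]
  have u₂ : Algebra.FormallySmooth Γ(Y, V) Γ(X', j ⁻¹ᵁ U) :=
    Groth.Agent.Lib.Helper7.ringLevel_of_isFormallySmoothHom (j ≫ f) hf (j ⁻¹ᵁ U) V hW hV h₂
  have hsurj' : Function.Surjective (algebraMap Γ(X, U) Γ(X', j ⁻¹ᵁ U)) := by
    change Function.Surjective (j.appLE U (j ⁻¹ᵁ U) le_rfl).hom
    rw [Scheme.Hom.appLE_eq_app]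
    exact hsurj
  exact Groth.Agent.Lib.Helper51.OmegaUniv.KAlg.kerCotangentToTensor_injective_of_formallySmooth
    hsurj'

end Groth.Agent.S5020
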