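import Groth.Statements.S10937
import Mathlib
import Groth.Agent.Lib.Helper50.SmoothOmegaRel
import Groth.Agent.Lib.Helper55.FlatDim
import Groth.Agent.Lib.Helper78.AbVarFibre

set_option autoImplicit false
universe u
open CategoryTheory CategoryTheory.Limits AlgebraicGeometry
open Variety

namespace Groth.Agent.S10937

/-- (a)⇔(b): let k be an algebraically closed field, X and Y nonsingular varieties over k (integral,
separated, of finite type and smooth over k) with dim Y = dY and dim X = dY + n, and f : X → Y a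
k-morphism. Then f is smooth of relative dimension n if and only if Ω_{X/Y} (the conormal sheaf of
the diagonal of f) is locally free of rank n. -/
theorem result (k : Type u) [Field k] [IsAlgClosed k]
    {X Y : Scheme.{u}} (qX : X ⟶ Spec (CommRingCat.of k)) (qY : Y ⟶ Spec (CommRingCat.of k))
    [IsIntegral X] [IsSeparated qX] [LocallyOfFiniteType qX] [QuasiCompact qX] [Smooth qX]
    [IsIntegral Y] [IsSeparated qY] [LocallyOfFiniteType qY] [QuasiCompact qY] [Smooth qY]
    (f : X ⟶ Y) (hf : f ≫ qY = qX) (n dY : ℕ) (hY : topologicalKrullDim ↥Y = dY)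
    (hX : topologicalKrullDim ↥X = ((dY + n : ℕ) : WithBot ℕ∞)) :
    SmoothOfRelativeDimension n f ↔ FlatMod.IsFinLocFreeOfRank n (Omega.sheaf f) := by
      classical
      subst hf
      haveI hsub : Subsingleton ↥(Spec (CommRingCat.of k)) :=
        (inferInstance : Subsingleton (PrimeSpectrum k))
      haveI : IsSeparated f := IsSeparated.of_comp f qY
      haveI : LocallyOfFiniteType f := locallyOfFiniteType_of_comp f qY
      haveI : IsLocallyNoetherian Y := LocallyOfFiniteType.isLocallyNoetherian qY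
      haveI : LocallyOfFinitePresentation f :=
        LocallyOfFinitePresentation.iff_locallyOfFiniteType.mpr inferInstance
      have hU := Groth.Agent.Lib.Helper80.OmegaUniversal.isUniversal_dOmega f
      have hUX := Groth.Agent.Lib.Helper80.OmegaUniversal.isUniversal_dOmega (f ≫ qY)
      have hUY := Groth.Agent.Lib.Helper80.OmegaUniversal.isUniversal_dOmega qY
      constructor
      · intro hs x
        obtain ⟨U, hU', V, hV, hxV, e, hn⟩ := hs.exists_isStandardSmoothOfRelativeDimension x
        exact ⟨V, hxV, Groth.Agent.Lib.Helper24.nonempty_restrict_iso_freeMod_of_chart f _ _ hU hU' hV e n hn x hxV⟩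
      · intro hΩ
        refine Groth.Agent.Lib.Helper50.smoothOfRelativeDimension_of_smoothLocus_of_finLocFreeOfRank f n _ _ hU hΩ
          (fun x => ?_)
        have hconstX : ∀ t₁ t₂ : X, (f ≫ qY) t₁ = (f ≫ qY) t₂ := fun t₁ t₂ => Subsingleton.elim _ _
        have hconstY : ∀ t₁ t₂ : Y, qY t₁ = qY t₂ := fun t₁ t₂ => Subsingleton.elim _ _
        have hdimX : FlatMor.fibreDimAt (f ≫ qY) x = ((dY + n : ℕ) : WithBot ℕ∞) := by
          rw [Groth.Agent.Lib.Helper78.AbVarFibre.fibreDimAt_eq_localDim_of_const _ hconstX x,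
            Groth.Agent.Lib.Helper55.localDim_eq_topologicalKrullDim_of_irreducibleSpace (f ≫ qY) x, hX]
        have hdimY : FlatMor.fibreDimAt qY (f x) = (dY : WithBot ℕ∞) := by
          rw [Groth.Agent.Lib.Helper78.AbVarFibre.fibreDimAt_eq_localDim_of_const _ hconstY (f x),
            Groth.Agent.Lib.Helper55.localDim_eq_topologicalKrullDim_of_irreducibleSpace qY (f x), hY]
        obtain ⟨U₁, hx₁, ⟨iso₁⟩⟩ := hΩ x
        obtain ⟨U₂, m₂, hx₂, ⟨iso₂⟩, h₂⟩ :=
          Groth.Agent.Lib.Helper24.exists_restrict_iso_freeMod_fibreDimAt_of_smooth (f ≫ qY) _ _ hUX x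
        obtain ⟨W₀, m₃, hy, ⟨iso₃⟩, h₃⟩ :=
          Groth.Agent.Lib.Helper24.exists_restrict_iso_freeMod_fibreDimAt_of_smooth qY _ _ hUY (f x)
        rw [hdimX] at h₂
        rw [hdimY] at h₃
        have e₂ : dY + n = m₂ := by exact_mod_cast h₂
        have e₃ : dY = m₃ := by exact_mod_cast h₃
        subst e₂ e₃
        exact Groth.Agent.Lib.Helper50.mem_smoothLocus_of_restrict_iso_freeMod_tower qY f _ _ hUX _ _ hUY _ _ hU
          x dY n U₁ hx₁ iso₁ U₂ hx₂ iso₂ W₀ hy iso₃

end Groth.Agent.S10937
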