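import Groth.Statements.S7386
import Groth.Agent.Lib.Helper37.GenericPointNhd
import Mathlib.AlgebraicGeometry.Limits

set_option autoImplicit false
universe u
open CategoryTheory AlgebraicGeometry
open Mor

namespace Groth.Agent.S7386

/-- Let `X` be a quasi-separated scheme, `η_1, …, η_n` generic points of irreducible components of `X`
and `x` any point of `X`. Then some affine open of `X` contains `x` and all the `η_i`. -/
theorem result (X : Scheme.{u}) [QuasiSeparatedSpace X] {n : ℕ}
    (η : Fin n → X) (hη : ∀ i, closure ({η i} : Set X) ∈ irreducibleComponents (X : Type u)) (x : X) :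
    ∃ U : X.Opens, IsAffineOpen U ∧ x ∈ U ∧ ∀ i, η i ∈ U := by
  classical
  have key : ∀ I : Finset (Fin n), ∃ U : X.Opens, IsAffineOpen U ∧ x ∈ U ∧ ∀ i ∈ I, η i ∈ U := by
    intro I
    induction I using Finset.induction_on with
    | empty =>
      obtain ⟨_, ⟨V, hV, rfl⟩, hxV, -⟩ :=
        X.isBasis_affineOpens.exists_subset_of_mem_open (Set.mem_univ x) isOpen_univ
      exact ⟨V, hV, hxV, by simp⟩
    | insert j I' hj ih =>
      obtain ⟨U', hU', hxU', hI'⟩ := ih
      by_cases hjU : η j ∈ U'
      · refine ⟨U', hU', hxU', fun i hi => ?_⟩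
        rcases Finset.mem_insert.mp hi with rfl | hi
        · exact hjU
        · exact hI' i hi
      · obtain ⟨_, ⟨V, hV, rfl⟩, hjV, -⟩ :=
          X.isBasis_affineOpens.exists_subset_of_mem_open (Set.mem_univ (η j)) isOpen_univ
        have hc : IsCompact ((V : Set X) ∩ U') :=
          QuasiSeparatedSpace.inter_isCompact _ _ V.2 hV.isCompact U'.2 hU'.isCompact
        obtain ⟨f, hf₁, hf₂⟩ := Groth.Agent.Lib.Helper37.exists_basicOpen_disjoint hV U' hc
          (η j) (hη j) hjV hjU
        refine ⟨U' ⊔ X.basicOpen f, hU'.sup_of_disjoint (hV.basicOpen f) hf₂.symm,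
          Or.inl hxU', fun i hi => ?_⟩
        rcases Finset.mem_insert.mp hi with rfl | hi
        · exact Or.inr hf₁
        · exact Or.inl (hI' i hi)
  obtain ⟨U, hU, hxU, hηU⟩ := key Finset.univ
  exact ⟨U, hU, hxU, fun i => hηU i (Finset.mem_univ i)⟩

end Groth.Agent.S7386
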