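import Groth.Statements.S9889
-- import your own Groth.Agent.* helpers here
import Groth.Agent.Lib.Helper51.OverCoprod

set_option autoImplicit false
universe u
open CategoryTheory CategoryTheory.Limits AlgebraicGeometry
open AlgSp

namespace Groth.Agent.S9889

/-- Let `U` be a scheme over `S` and `G` a group acting on `U` by automorphisms over `S`, freely: no
non-identity element of `G` fixes a point `x` of `U` while inducing the identity on its residue
field (equivalently, composing `Spec κ(x) ⟶ U` with the automorphism changes it). Let `R = ∐_{g ∈ G}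
U` (coproduct in schemes over `S`) with `s` the identity and `t` the action of `g` on the `g`-th
copy. Then `s, t : R ⟶ U` is an etale equivalence relation on `U` over `S` (so that `U/R` is an
algebraic space). -/
theorem result (S : Scheme.{u}) (U : Over S) (G : Type u) [Group G] (ρ : G →* Aut U)
    (hfree : ∀ (g : G) (x : U.left), g ≠ 1 →
      U.left.fromSpecResidueField x ≫ (ρ g).hom.left ≠ U.left.fromSpecResidueField x)
    (c : Cofan (fun _ : G => U)) (hc : IsColimit c) (s t : c.pt ⟶ U)
    (hs : ∀ g, c.inj g ≫ s = 𝟙 U) (ht : ∀ g, c.inj g ≫ t = (ρ g).hom) :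
    AlgSp.IsEtaleEqvRel s t := by
  -- basic identities for the action
  have hmul : ∀ g h : G, (ρ (g * h)).hom = (ρ h).hom ≫ (ρ g).hom := by
    intro g h
    rw [map_mul]
    rfl
  have hone : (ρ 1).hom = 𝟙 U := by
    rw [map_one]
    rfl
  -- the inversion and the left translations on `c.pt`
  let inv : c.pt ⟶ c.pt := Cofan.IsColimit.desc hc (fun g => (ρ g).hom ≫ c.inj g⁻¹)
  have hinv : ∀ g, c.inj g ≫ inv = (ρ g).hom ≫ c.inj g⁻¹ := fun g => Cofan.IsColimit.fac hc _ g
  have hinv_t : inv ≫ t = s := by
    apply Cofan.IsColimit.hom_ext hc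
    intro g
    rw [← Category.assoc, hinv, Category.assoc, ht, hs, ← hmul, inv_mul_cancel, hone]
  have hinv_s : inv ≫ s = t := by
    apply Cofan.IsColimit.hom_ext hc
    intro g
    rw [← Category.assoc, hinv, Category.assoc, hs, ht, Category.comp_id]
  let L : G → (c.pt ⟶ c.pt) := fun g => Cofan.IsColimit.desc hc (fun h => c.inj (g * h))
  have hL : ∀ g h, c.inj h ≫ L g = c.inj (g * h) := fun g h => Cofan.IsColimit.fac hc _ h
  have hL_s : ∀ g, L g ≫ s = s := by
    intro g
    apply Cofan.IsColimit.hom_ext hc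
    intro h
    rw [← Category.assoc, hL, hs, hs]
  have hL_t : ∀ g, L g ≫ t = t ≫ (ρ g).hom := by
    intro g
    apply Cofan.IsColimit.hom_ext hc
    intro h
    rw [← Category.assoc, hL, ht, ← Category.assoc, ht, hmul]
  refine ⟨⟨?_, ?_⟩, ?_, ?_⟩
  · -- injectivity
    intro T r r' hrt hrs
    obtain ⟨h1⟩ := Groth.Agent.Lib.Helper51.nonempty_isColimit_pullback_cofan c hc r
    apply Cofan.IsColimit.hom_ext h1
    intro g
    change pullback.fst r (c.inj g) ≫ r = pullback.fst r (c.inj g) ≫ r'
    obtain ⟨h2⟩ := Groth.Agent.Lib.Helper51.nonempty_isColimit_pullback_cofan c hc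
      (pullback.fst r (c.inj g) ≫ r')
    apply Cofan.IsColimit.hom_ext h2
    intro h
    change pullback.fst (pullback.fst r (c.inj g) ≫ r') (c.inj h) ≫ pullback.fst r (c.inj g) ≫ r =
      pullback.fst (pullback.fst r (c.inj g) ≫ r') (c.inj h) ≫ pullback.fst r (c.inj g) ≫ r'
    have c1 : pullback.fst r (c.inj g) ≫ r = pullback.snd r (c.inj g) ≫ c.inj g := pullback.condition
    have c2 : pullback.fst (pullback.fst r (c.inj g) ≫ r') (c.inj h) ≫ pullback.fst r (c.inj g) ≫ r' =
        pullback.snd (pullback.fst r (c.inj g) ≫ r') (c.inj h) ≫ c.inj h := pullback.condition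
    have e1 : pullback.fst (pullback.fst r (c.inj g) ≫ r') (c.inj h) ≫ pullback.snd r (c.inj g) =
        pullback.snd (pullback.fst r (c.inj g) ≫ r') (c.inj h) := by
      have := congr_arg (· ≫ s) c2
      simp only [Category.assoc] at this
      rw [hs, Category.comp_id, ← hrs, reassoc_of% c1, hs, Category.comp_id] at this
      exact this
    have e2 : pullback.snd (pullback.fst r (c.inj g) ≫ r') (c.inj h) ≫ (ρ g).hom =
        pullback.snd (pullback.fst r (c.inj g) ≫ r') (c.inj h) ≫ (ρ h).hom := by
      have := congr_arg (· ≫ t) c2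
      simp only [Category.assoc] at this
      rw [ht, ← hrt, reassoc_of% c1, ht, reassoc_of% e1] at this
      exact this
    rw [c2, c1, reassoc_of% e1]
    by_cases hgh : g = h
    · subst hgh
      rfl
    · have hk : h⁻¹ * g ≠ 1 := by
        intro hk
        apply hgh
        rw [← mul_one h, ← hk, mul_inv_cancel_left]
      have e3 : pullback.snd (pullback.fst r (c.inj g) ≫ r') (c.inj h) ≫ (ρ (h⁻¹ * g)).hom =
          pullback.snd (pullback.fst r (c.inj g) ≫ r') (c.inj h) := by
        rw [← cancel_mono (ρ h).hom, Category.assoc, ← hmul, mul_inv_cancel_left, e2]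
      have hempty : IsEmpty (pullback (pullback.fst r (c.inj g) ≫ r') (c.inj h)).left :=
        Groth.Agent.Lib.Helper51.isEmpty_of_comp_eq_of_free
          (pullback.snd (pullback.fst r (c.inj g) ≫ r') (c.inj h)).left (ρ (h⁻¹ * g)).hom.left
          (by rw [← Over.comp_left, e3]) (fun x => hfree _ x hk)
      apply Over.OverMorphism.ext
      exact (isInitialOfIsEmpty).hom_ext _ _
  · -- equivalence
    intro T
    refine ⟨fun a => ?_, fun {a b} hab => ?_, fun {a b d} hab hbd => ?_⟩
    · exact ⟨a ≫ c.inj 1, by rw [Category.assoc, ht, hone, Category.comp_id],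
        by rw [Category.assoc, hs, Category.comp_id]⟩
    · obtain ⟨r, h1, h2⟩ := hab
      exact ⟨r ≫ inv, by rw [Category.assoc, hinv_t, h2], by rw [Category.assoc, hinv_s, h1]⟩
    · obtain ⟨r₁, h1t, h1s⟩ := hab
      obtain ⟨r₂, h2t, h2s⟩ := hbd
      obtain ⟨hT⟩ := Groth.Agent.Lib.Helper51.nonempty_isColimit_pullback_cofan c hc r₁
      have c1 : ∀ g, pullback.fst r₁ (c.inj g) ≫ r₁ = pullback.snd r₁ (c.inj g) ≫ c.inj g :=
        fun g => pullback.condition
      refine ⟨Cofan.IsColimit.desc hT (fun g => pullback.fst r₁ (c.inj g) ≫ r₂ ≫ L g), ?_, ?_⟩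
      · apply Cofan.IsColimit.hom_ext hT
        intro g
        rw [← Category.assoc, Cofan.IsColimit.fac hT]
        change (pullback.fst r₁ (c.inj g) ≫ r₂ ≫ L g) ≫ t = pullback.fst r₁ (c.inj g) ≫ a
        rw [← h1t, reassoc_of% (c1 g), ht]
        simp only [Category.assoc]
        rw [hL_t, reassoc_of% h2t, ← h1s, Category.assoc, reassoc_of% (c1 g), reassoc_of% (hs g)]
      · apply Cofan.IsColimit.hom_ext hT
        intro g
        rw [← Category.assoc, Cofan.IsColimit.fac hT]
        change (pullback.fst r₁ (c.inj g) ≫ r₂ ≫ L g) ≫ s = pullback.fst r₁ (c.inj g) ≫ d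
        simp only [Category.assoc]
        rw [hL_s, h2s]
  · -- `s` is etale
    refine Groth.Agent.Lib.Helper51.left_mem_of_forall_inj (P := @Etale) c hc s fun g => ?_
    rw [hs]
    change Etale (𝟙 U.left)
    infer_instance
  · refine Groth.Agent.Lib.Helper51.left_mem_of_forall_inj (P := @Etale) c hc t fun g => ?_
    rw [ht]
    have : IsIso (ρ g).hom.left := (Over.forget S).map_isIso (ρ g).hom
    infer_instance

end Groth.Agent.S9889
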