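import Groth.Statements.S12444
-- import your own Groth.Agent.* helpers here

set_option autoImplicit false
universe u
open PtTop

open TopologicalSpace Topology

namespace Groth.Agent.S12444

section Abstract
variable {P Q : Type*} [PartialOrder P] [PartialOrder Q]

/-- poset codimension -/
noncomputable def pcodim (A B : P) : ℕ∞ :=
  ⨆ (s : LTSeries P) (_ : s.head = A ∧ s.last ≤ B), (s.length : ℕ∞)

/-- catenary condition at a pair -/
def PCatAt (A B : P) : Prop :=
  pcodim A B ≠ ⊤ ∧ ∀ s : LTSeries P, s.head = A → s.last = B →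
    (∀ i : Fin s.length, s (Fin.castSucc i) ⋖ s (Fin.succ i)) → (s.length : ℕ∞) = pcodim A B

/-- catenary poset -/
def PCat (P : Type*) [PartialOrder P] : Prop := ∀ A B : P, A ≤ B → PCatAt A B

theorem exists_lift (m : P ↪o Q) (s : LTSeries Q) (h : ∀ i, s i ∈ Set.range m) :
    ∃ s' : LTSeries P, s'.map m m.strictMono = s := by
  choose g hg using h
  refine ⟨LTSeries.mk s.length g ?_, ?_⟩
  · intro i j hij
    rw [← m.lt_iff_lt, hg, hg]
    exact s.strictMono hij
  · refine RelSeries.ext rfl ?_
    funext i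
    simp [LTSeries.map, hg]
    rfl

theorem pcodim_map (m : P ↪o Q) (hoc : (Set.range m).OrdConnected) (A B : P) :
    pcodim (m A) (m B) = pcodim A B := by
  apply le_antisymm
  · refine iSup₂_le ?_
    rintro s ⟨hs1, hs2⟩
    have hmem : ∀ i, s i ∈ Set.range m := by
      intro i
      refine hoc.out (Set.mem_range_self A) (Set.mem_range_self B) ⟨?_, ?_⟩
      · rw [← hs1]; exact s.head_le i
      · exact le_trans (s.monotone (Fin.le_last i)) hs2
    obtain ⟨s', rfl⟩ := exists_lift m s hmem
    refine le_iSup₂_of_le s' ⟨?_, ?_⟩ ?_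
    · apply m.injective
      simpa using hs1
    · rw [← m.le_iff_le]
      simpa using hs2
    · simp
  · refine iSup₂_le ?_
    rintro s ⟨hs1, hs2⟩
    refine le_iSup₂_of_le (s.map m m.strictMono) ⟨?_, ?_⟩ ?_
    · simp [hs1]
    · simpa using hs2
    · simp

theorem covBy_map_iff (m : P ↪o Q) (hoc : (Set.range m).OrdConnected) (s : LTSeries P) :
    (∀ i : Fin (s.map m m.strictMono).length,
        (s.map m m.strictMono) (Fin.castSucc i) ⋖ (s.map m m.strictMono) (Fin.succ i)) ↔
      ∀ i : Fin s.length, s (Fin.castSucc i) ⋖ s (Fin.succ i) := by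
  constructor
  · intro h i
    exact (hoc.apply_covBy_apply_iff m).mp (h i)
  · intro h i
    exact (hoc.apply_covBy_apply_iff m).mpr (h i)

theorem pcatAt_map_iff (m : P ↪o Q) (hoc : (Set.range m).OrdConnected) (A B : P) :
    PCatAt (m A) (m B) ↔ PCatAt A B := by
  unfold PCatAt
  rw [pcodim_map m hoc]
  refine and_congr Iff.rfl ⟨?_, ?_⟩
  · intro h s hs1 hs2 hcov
    have := h (s.map m m.strictMono) (by simp [hs1]) (by simp [hs2])
      ((covBy_map_iff m hoc s).mpr hcov)
    simpa using this
  · intro h s hs1 hs2 hcov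
    have hmem : ∀ i, s i ∈ Set.range m := by
      intro i
      refine hoc.out (Set.mem_range_self A) (Set.mem_range_self B) ⟨?_, ?_⟩
      · rw [← hs1]; exact s.head_le i
      · rw [← hs2]; exact s.monotone (Fin.le_last i)
    obtain ⟨s', rfl⟩ := exists_lift m s hmem
    have := h s' (m.injective (by simpa using hs1)) (m.injective (by simpa using hs2))
      ((covBy_map_iff m hoc s').mp hcov)
    simpa using this

theorem PCat.of_embedding (m : P ↪o Q) (hoc : (Set.range m).OrdConnected) (hQ : PCat Q) : PCat P :=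
  fun A B hAB => (pcatAt_map_iff m hoc A B).mp (hQ _ _ (m.monotone hAB))

end Abstract


section Top
variable {X Y : Type u} [TopologicalSpace X] [TopologicalSpace Y]

theorem isCat_iff : PtTop.IsCatenarySpace X ↔ PCat (IrreducibleCloseds X) := Iff.rfl

theorem map_le_map_iff {f : Y → X} (hf : IsInducing f) (A B : IrreducibleCloseds Y) :
    IrreducibleCloseds.map f hf.continuous A ≤ IrreducibleCloseds.map f hf.continuous B ↔ A ≤ B := by
  constructor
  · intro h
    have hA : (A : Set Y) = f ⁻¹' closure (f '' A) := by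
      rw [← hf.closure_eq_preimage_closure_image, A.isClosed.closure_eq]
    have hB : (B : Set Y) = f ⁻¹' closure (f '' B) := by
      rw [← hf.closure_eq_preimage_closure_image, B.isClosed.closure_eq]
    have h' : closure (f '' (A : Set Y)) ⊆ closure (f '' (B : Set Y)) := h
    intro x hx
    have hx' : x ∈ (A : Set Y) := hx
    rw [hA] at hx'
    have : x ∈ (B : Set Y) := by
      rw [hB]; exact h' hx'
    exact this
  · exact fun h => IrreducibleCloseds.map_mono hf.continuous h

/-- the order embedding on irreducible closed subsets induced by an inducing map -/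
noncomputable def mapEmb (f : Y → X) (hf : IsInducing f) :
    IrreducibleCloseds Y ↪o IrreducibleCloseds X :=
  OrderEmbedding.ofMapLEIff (IrreducibleCloseds.map f hf.continuous) (map_le_map_iff hf)

theorem mem_range_open {f : Y → X} (hf : IsOpenEmbedding f) (V : IrreducibleCloseds X) :
    V ∈ Set.range (mapEmb f hf.isInducing) ↔ (f ⁻¹' (V : Set X)).Nonempty := by
  constructor
  · rintro ⟨A, rfl⟩
    exact ((IrreducibleCloseds.orderIsoOfIsOpenEmbedding f hf) A).2
  · intro h
    refine ⟨(IrreducibleCloseds.orderIsoOfIsOpenEmbedding f hf).symm ⟨V, h⟩, ?_⟩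
    have := (IrreducibleCloseds.orderIsoOfIsOpenEmbedding f hf).apply_symm_apply ⟨V, h⟩
    exact congrArg Subtype.val this

theorem ordConnected_open {f : Y → X} (hf : IsOpenEmbedding f) :
    (Set.range (mapEmb f hf.isInducing)).OrdConnected := by
  apply IsUpperSet.ordConnected
  intro V W hVW hV
  rw [mem_range_open hf] at hV ⊢
  exact hV.mono (Set.preimage_mono hVW)

theorem isPreirreducible_preimage {f : Y → X} (hf : IsInducing f) {V : Set X}
    (hV : IsPreirreducible V) (hVr : V ⊆ Set.range f) : IsPreirreducible (f ⁻¹' V) := by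
  intro u v hu hv hu' hv'
  obtain ⟨u', hu'o, rfl⟩ := hf.isOpen_iff.mp hu
  obtain ⟨v', hv'o, rfl⟩ := hf.isOpen_iff.mp hv
  obtain ⟨y1, hy1V, hy1u⟩ := hu'
  obtain ⟨y2, hy2V, hy2v⟩ := hv'
  obtain ⟨x, hxV, hxu, hxv⟩ := hV u' v' hu'o hv'o ⟨f y1, hy1V, hy1u⟩ ⟨f y2, hy2V, hy2v⟩
  obtain ⟨y, rfl⟩ := hVr hxV
  exact ⟨y, hxV, hxu, hxv⟩

theorem mem_range_closed {f : Y → X} (hf : IsClosedEmbedding f) (V : IrreducibleCloseds X) :
    V ∈ Set.range (mapEmb f hf.isInducing) ↔ (V : Set X) ⊆ Set.range f := by
  constructor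
  · rintro ⟨A, rfl⟩
    have : ((mapEmb f hf.isInducing) A : Set X) = closure (f '' A) := rfl
    rw [this, (hf.isClosedMap _ A.isClosed).closure_eq]
    exact Set.image_subset_range f _
  · intro h
    have hne : (f ⁻¹' (V : Set X)).Nonempty := by
      obtain ⟨x, hx⟩ := V.isIrreducible.nonempty
      obtain ⟨y, rfl⟩ := h hx
      exact ⟨y, hx⟩
    refine ⟨⟨f ⁻¹' V, ⟨hne, isPreirreducible_preimage hf.isInducing V.isIrreducible.isPreirreducible h⟩,
      V.isClosed.preimage hf.continuous⟩, ?_⟩
    apply IrreducibleCloseds.ext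
    change closure (f '' (f ⁻¹' (V : Set X))) = V
    rw [Set.image_preimage_eq_of_subset h, V.isClosed.closure_eq]

theorem ordConnected_closed {f : Y → X} (hf : IsClosedEmbedding f) :
    (Set.range (mapEmb f hf.isInducing)).OrdConnected := by
  apply IsLowerSet.ordConnected
  intro V W hVW hV
  rw [mem_range_closed hf] at hV ⊢
  exact fun x hx => hV (hVW hx)

theorem isCat_of_isOpenEmbedding {f : Y → X} (hf : IsOpenEmbedding f)
    (hX : PtTop.IsCatenarySpace X) : PtTop.IsCatenarySpace Y :=
  PCat.of_embedding (mapEmb f hf.isInducing) (ordConnected_open hf) hX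

theorem isCat_of_isClosedEmbedding {f : Y → X} (hf : IsClosedEmbedding f)
    (hX : PtTop.IsCatenarySpace X) : PtTop.IsCatenarySpace Y :=
  PCat.of_embedding (mapEmb f hf.isInducing) (ordConnected_closed hf) hX

end Top

/-- A topological space X is catenary if and only if it has an open covering by catenary subspaces
(here: every point has a catenary open neighbourhood); and if X is catenary then so is every locally
closed subspace of X. -/
theorem result (X : Type u) [TopologicalSpace X] :
    (PtTop.IsCatenarySpace X ↔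
      ∀ x : X, ∃ U : TopologicalSpace.Opens X, x ∈ U ∧ PtTop.IsCatenarySpace U) ∧
    (PtTop.IsCatenarySpace X → ∀ S : Set X, IsLocallyClosed S → PtTop.IsCatenarySpace S) := by
  refine ⟨⟨?_, ?_⟩, ?_⟩
  · intro hX x
    exact ⟨⊤, trivial, isCat_of_isOpenEmbedding (⊤ : Opens X).isOpenEmbedding' hX⟩
  · intro h T T' hTT'
    obtain ⟨x, hx⟩ := T.isIrreducible.nonempty
    obtain ⟨U, hxU, hU⟩ := h x
    have hf : IsOpenEmbedding (Subtype.val : U → X) := U.isOpenEmbedding'
    have hT : T ∈ Set.range (mapEmb _ hf.isInducing) :=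
      (mem_range_open hf T).mpr ⟨⟨x, hxU⟩, hx⟩
    have hT' : T' ∈ Set.range (mapEmb _ hf.isInducing) :=
      (mem_range_open hf T').mpr ⟨⟨x, hxU⟩, hTT' hx⟩
    obtain ⟨A, rfl⟩ := hT
    obtain ⟨B, rfl⟩ := hT'
    exact (pcatAt_map_iff _ (ordConnected_open hf) A B).mpr
      (hU A B ((mapEmb _ _).le_iff_le.mp hTT'))
  · intro hX S hS
    obtain ⟨U, Z, hU, hZ, rfl⟩ := hS
    have hZc : PtTop.IsCatenarySpace Z :=
      isCat_of_isClosedEmbedding hZ.isClosedEmbedding_subtypeVal hX
    have hincl : IsOpenEmbedding (Set.inclusion (Set.inter_subset_right : U ∩ Z ⊆ Z)) := by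
      apply IsOpenEmbedding.inclusion
      have : (Subtype.val : Z → X) ⁻¹' (U ∩ Z) = (Subtype.val : Z → X) ⁻¹' U := by
        ext z; simp
      rw [this]
      exact hU.preimage continuous_subtype_val
    exact isCat_of_isOpenEmbedding hincl hZc

end Groth.Agent.S12444
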