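import Groth.Statements.S12445
import Groth.Agent.S12444
import Mathlib

set_option autoImplicit false
universe u
open CategoryTheory AlgebraicGeometry
open Props

namespace Groth.Agent.S12445

open TopologicalSpace Topology Groth.Agent.S12444

section Abstract
variable {P Q : Type*} [PartialOrder P] [PartialOrder Q]

/-- ring-style catenary condition on a poset -/
def RCat (P : Type*) [PartialOrder P] : Prop :=
  (∀ p q : P, p ≤ q → ∃ n : ℕ, ∀ s : LTSeries P, s.head = p → s.last = q → s.length ≤ n) ∧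
  ∀ s t : LTSeries P, s.head = t.head → s.last = t.last →
    (∀ i : Fin s.length, s (Fin.castSucc i) ⋖ s (Fin.succ i)) →
    (∀ i : Fin t.length, t (Fin.castSucc i) ⋖ t (Fin.succ i)) →
    s.length = t.length

theorem exists_longer (s : LTSeries P) (i : Fin s.length) (c : P)
    (h1 : s i.castSucc < c) (h2 : c < s i.succ) :
    ∃ t : LTSeries P, t.head = s.head ∧ t.last = s.last ∧ t.length = s.length + 1 := by
  refine ⟨s.insertNth i c h1 h2, ?_, ?_, rfl⟩
  · unfold RelSeries.head
    rw [RelSeries.insertNth_toFun, Fin.insertNth_apply_below]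
    pick_goal 2
    · exact Fin.mk_lt_mk.mpr (Nat.succ_pos _)
    simp
    rfl
  · unfold RelSeries.last
    rw [RelSeries.insertNth_toFun, Fin.insertNth_apply_above]
    pick_goal 2
    · rw [Fin.lt_def]
      simp
    simp
    rfl

theorem exists_saturated_max {A B : P} (hAB : A ≤ B) (n : ℕ)
    (hn : ∀ s : LTSeries P, s.head = A → s.last = B → s.length ≤ n) :
    ∃ t : LTSeries P, t.head = A ∧ t.last = B ∧
      (∀ i : Fin t.length, t i.castSucc ⋖ t i.succ) ∧
      ∀ s : LTSeries P, s.head = A → s.last = B → s.length ≤ t.length := by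
  classical
  let Pr : ℕ → Prop := fun m => ∃ s : LTSeries P, s.head = A ∧ s.last = B ∧ s.length = m
  have hne : ∃ m, m ≤ n ∧ Pr m := by
    rcases hAB.eq_or_lt with rfl | hlt
    · exact ⟨0, Nat.zero_le _, RelSeries.singleton _ A, rfl, rfl, rfl⟩
    · have hs : Pr 1 := ⟨(RelSeries.singleton _ A).snoc B hlt, by simp, by simp, by simp⟩
      obtain ⟨s, h1, h2, h3⟩ := hs
      exact ⟨1, h3 ▸ hn s h1 h2, s, h1, h2, h3⟩
  obtain ⟨m0, hm0, hP0⟩ := hne
  have hspec : Pr (Nat.findGreatest Pr n) := Nat.findGreatest_spec hm0 hP0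
  obtain ⟨t, ht1, ht2, ht3⟩ := hspec
  have hmax : ∀ s : LTSeries P, s.head = A → s.last = B → s.length ≤ t.length := by
    intro s hs1 hs2
    rw [ht3]
    exact Nat.le_findGreatest (hn s hs1 hs2) ⟨s, hs1, hs2, rfl⟩
  refine ⟨t, ht1, ht2, ?_, hmax⟩
  intro i
  refine ⟨t.step i, ?_⟩
  intro c h1 h2
  obtain ⟨t', h1', h2', h3'⟩ := exists_longer t i c h1 h2
  have := hmax t' (h1'.trans ht1) (h2'.trans ht2)
  omega

theorem pcat_iff_rcat : PCat P ↔ RCat P := by
  constructor
  · intro hP
    refine ⟨?_, ?_⟩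
    · intro p q hpq
      refine ⟨(pcodim p q).toNat, ?_⟩
      intro s hs1 hs2
      have h1 : (s.length : ℕ∞) ≤ pcodim p q := le_iSup₂_of_le s ⟨hs1, hs2.le⟩ le_rfl
      rw [← ENat.natCast_toNat (hP p q hpq).1] at h1
      exact_mod_cast h1
    · intro s t h1 h2 hs ht
      have hAB : s.head ≤ s.last := LTSeries.head_le_last s
      have e1 := (hP _ _ hAB).2 s rfl rfl hs
      have e2 := (hP _ _ hAB).2 t h1.symm h2.symm ht
      exact_mod_cast e1.trans e2.symm
  · intro hR A B hAB
    obtain ⟨n, hn⟩ := hR.1 A B hAB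
    obtain ⟨t, ht1, ht2, ht3, ht4⟩ := exists_saturated_max hAB n hn
    have hcod : pcodim A B = t.length := by
      apply le_antisymm
      · refine iSup₂_le ?_
        rintro s ⟨hs1, hs2⟩
        rcases hs2.eq_or_lt with h | h
        · exact_mod_cast ht4 s hs1 h
        · have := ht4 (s.snoc B h) (by simp [hs1]) (by simp)
          have h' : s.length ≤ t.length := by
            simp at this
            omega
          exact_mod_cast h'
      · exact le_iSup₂_of_le t ⟨ht1, ht2.le⟩ le_rfl
    refine ⟨?_, ?_⟩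
    · rw [hcod]
      exact ENat.natCast_ne_top _
    · intro s hs1 hs2 hs
      rw [hcod, hR.2 s t (hs1.trans ht1.symm) (hs2.trans ht2.symm) hs ht3]

/-- reversal of a series along an order anti-isomorphism -/
def revMap (e : P ≃o Qᵒᵈ) (s : LTSeries P) : LTSeries Q :=
  LTSeries.mk s.length (fun i => OrderDual.ofDual (e (s i.rev))) (by
    intro i j hij
    have h1 : s j.rev < s i.rev := s.strictMono (Fin.rev_lt_rev.mpr hij)
    have h2 : e (s j.rev) < e (s i.rev) := e.strictMono h1
    exact h2)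

theorem revMap_length (e : P ≃o Qᵒᵈ) (s : LTSeries P) : (revMap e s).length = s.length := rfl

theorem revMap_apply (e : P ≃o Qᵒᵈ) (s : LTSeries P) (i : Fin (s.length + 1)) :
    (revMap e s) i = OrderDual.ofDual (e (s i.rev)) := rfl

theorem revMap_head (e : P ≃o Qᵒᵈ) (s : LTSeries P) :
    (revMap e s).head = OrderDual.ofDual (e s.last) := by
  show (revMap e s) (0 : Fin (s.length + 1)) = _
  rw [revMap_apply, Fin.rev_zero]
  rfl

theorem revMap_last (e : P ≃o Qᵒᵈ) (s : LTSeries P) :
    (revMap e s).last = OrderDual.ofDual (e s.head) := by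
  show (revMap e s) (Fin.last s.length) = _
  rw [revMap_apply, Fin.rev_last]
  rfl

theorem revMap_covBy (e : P ≃o Qᵒᵈ) (s : LTSeries P)
    (hs : ∀ i : Fin s.length, s i.castSucc ⋖ s i.succ) :
    ∀ i : Fin (revMap e s).length, (revMap e s) i.castSucc ⋖ (revMap e s) i.succ := by
  intro i
  have key : ∀ i : Fin s.length, (revMap e s) (Fin.castSucc (n := s.length) i) ⋖
      (revMap e s) (Fin.succ (n := s.length) i) := by
    intro i
    rw [revMap_apply, revMap_apply, Fin.rev_castSucc, Fin.rev_succ]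
    apply CovBy.ofDual
    exact (apply_covBy_apply_iff e).mpr (hs i.rev)
  exact key i

theorem RCat.of_antiIso (e : P ≃o Qᵒᵈ) (hQ : RCat Q) : RCat P := by
  refine ⟨?_, ?_⟩
  · intro p q hpq
    have h' : OrderDual.ofDual (e q) ≤ OrderDual.ofDual (e p) := e.monotone hpq
    obtain ⟨n, hn⟩ := hQ.1 _ _ h'
    refine ⟨n, fun s hs1 hs2 => ?_⟩
    have := hn (revMap e s) (by rw [revMap_head, hs2]) (by rw [revMap_last, hs1])
    exact this
  · intro s t h1 h2 hs ht
    exact hQ.2 (revMap e s) (revMap e t) (by rw [revMap_head, revMap_head, h2])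
      (by rw [revMap_last, revMap_last, h1]) (revMap_covBy e s hs) (revMap_covBy e t ht)

theorem RCat.dual (hQ : RCat Q) : RCat Qᵒᵈ := RCat.of_antiIso (OrderIso.refl _) hQ

theorem RCat.of_iso (f : P ≃o Q) (hQ : RCat Q) : RCat P :=
  RCat.of_antiIso (f.trans (OrderIso.dualDual Q)) hQ.dual

end Abstract

theorem isCatenary_iff_rcat (R : Type u) [CommRing R] :
    CAlg.IsCatenary R ↔ RCat (PrimeSpectrum R) := Iff.rfl

theorem isCatenarySpace_primeSpectrum_iff (R : Type u) [CommRing R] :
    PtTop.IsCatenarySpace (PrimeSpectrum R) ↔ CAlg.IsCatenary R := by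
  rw [isCat_iff, pcat_iff_rcat, isCatenary_iff_rcat]
  constructor
  · exact RCat.of_antiIso (PrimeSpectrum.pointsEquivIrreducibleCloseds R)
  · intro h
    exact RCat.of_antiIso ((OrderIso.dualDual _).trans
      (PrimeSpectrum.pointsEquivIrreducibleCloseds R).symm.dual) h

theorem isCatenary_of_ringEquiv {R R' : Type u} [CommRing R] [CommRing R'] (e : R ≃+* R')
    (h : CAlg.IsCatenary R') : CAlg.IsCatenary R :=
  RCat.of_iso (PrimeSpectrum.comapEquiv e) h

theorem isCatenarySpace_of_homeomorph {X Y : Type u} [TopologicalSpace X] [TopologicalSpace Y]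
    (e : X ≃ₜ Y) (h : PtTop.IsCatenarySpace Y) : PtTop.IsCatenarySpace X :=
  isCat_of_isOpenEmbedding e.isOpenEmbedding h

theorem isCatenarySpace_opens_iff {S : Scheme.{u}} {U : S.Opens} (hU : IsAffineOpen U) :
    PtTop.IsCatenarySpace U ↔ CAlg.IsCatenary Γ(S, U) := by
  rw [← isCatenarySpace_primeSpectrum_iff]
  have e : (U : Type u) ≃ₜ PrimeSpectrum Γ(S, U) := Scheme.homeoOfIso hU.isoSpec
  exact ⟨isCatenarySpace_of_homeomorph e.symm, isCatenarySpace_of_homeomorph e⟩

theorem isCatenarySpace_opens {S : Scheme.{u}} (h : PtTop.IsCatenarySpace S) (U : S.Opens) :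
    PtTop.IsCatenarySpace U :=
  isCat_of_isOpenEmbedding U.isOpenEmbedding' h

/-- (1) ⇔ (3) ⇔ (4): for a scheme S, the underlying topological space of S is catenary if and only if
the coordinate ring of every affine open of S is a catenary ring, if and only if S is covered by
affine opens with catenary coordinate rings. (Clause (2), openness of catenarity, and the final
assertion on locally closed subschemes are the topological statement for open coverings and locally
closed subspaces.) -/
theorem result (S : Scheme.{u}) :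
    (PtTop.IsCatenarySpace S ↔ ∀ U : S.affineOpens, CAlg.IsCatenary Γ(S, U)) ∧
    (PtTop.IsCatenarySpace S ↔
      ∀ s : S, ∃ U : S.affineOpens, s ∈ (U : S.Opens) ∧ CAlg.IsCatenary Γ(S, U)) := by
  have h1 : PtTop.IsCatenarySpace S → ∀ U : S.affineOpens, CAlg.IsCatenary Γ(S, U) := by
    intro h U
    exact (isCatenarySpace_opens_iff U.2).mp (isCatenarySpace_opens h U.1)
  have h2 : (∀ U : S.affineOpens, CAlg.IsCatenary Γ(S, U)) →
      ∀ s : S, ∃ U : S.affineOpens, s ∈ (U : S.Opens) ∧ CAlg.IsCatenary Γ(S, U) := by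
    intro h s
    obtain ⟨_, ⟨U, hU, rfl⟩, hsU, -⟩ := S.isBasis_affineOpens.exists_subset_of_mem_open
      (Set.mem_univ s) isOpen_univ
    exact ⟨⟨U, hU⟩, hsU, h ⟨U, hU⟩⟩
  have h3 : (∀ s : S, ∃ U : S.affineOpens, s ∈ (U : S.Opens) ∧ CAlg.IsCatenary Γ(S, U)) →
      PtTop.IsCatenarySpace S := by
    intro h
    refine (Groth.Agent.S12444.result S).1.mpr ?_
    intro x
    obtain ⟨U, hxU, hU⟩ := h x
    exact ⟨U.1, hxU, (isCatenarySpace_opens_iff U.2).mpr hU⟩
  exact ⟨⟨h1, fun h => h3 (h2 h)⟩, ⟨fun h => h2 (h1 h), h3⟩⟩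

end Groth.Agent.S12445
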