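import Groth.Statements.S12447
import Groth.Agent.S12445
import Mathlib

set_option autoImplicit false
universe u
open CategoryTheory AlgebraicGeometry
open Props

namespace Groth.Agent.S12447

open CategoryTheory AlgebraicGeometry TopologicalSpace Topology
open Groth.Agent.S12444 Groth.Agent.S12445

section Abstract
variable {P : Type*} [PartialOrder P]

/-- saturated chains -/
def Sat (s : LTSeries P) : Prop := ∀ i : Fin s.length, s i.castSucc ⋖ s i.succ

theorem le_of_strictAnti (δ : P → ℤ) (h : ∀ x y : P, x < y → δ y < δ x) (s : LTSeries P)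
    (i : ℕ) (hi : i ≤ s.length) : (i : ℤ) ≤ δ (s 0) - δ (s ⟨i, by omega⟩) := by
  induction i with
  | zero => simp
  | succ i ih =>
    have h1 := ih (by omega)
    have h2 := h _ _ (s.step ⟨i, by omega⟩)
    simp only [Fin.castSucc_mk, Fin.succ_mk] at h2
    push_cast
    have e : (⟨i, by omega⟩ : Fin (s.length + 1)) = ⟨i, by omega⟩ := rfl
    omega

theorem length_le_of_strictAnti (δ : P → ℤ) (h : ∀ x y : P, x < y → δ y < δ x) (s : LTSeries P) :
    (s.length : ℤ) ≤ δ s.head - δ s.last :=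
  le_of_strictAnti δ h s s.length le_rfl

theorem eq_of_cov (δ : P → ℤ) (h : ∀ x y : P, x ⋖ y → δ x = δ y + 1) (s : LTSeries P)
    (hs : Sat s) (i : ℕ) (hi : i ≤ s.length) : (i : ℤ) = δ (s 0) - δ (s ⟨i, by omega⟩) := by
  induction i with
  | zero => simp
  | succ i ih =>
    have h1 := ih (by omega)
    have h2 := h _ _ (hs ⟨i, by omega⟩)
    simp only [Fin.castSucc_mk, Fin.succ_mk] at h2
    push_cast
    omega

theorem length_eq_of_cov (δ : P → ℤ) (h : ∀ x y : P, x ⋖ y → δ x = δ y + 1) (s : LTSeries P)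
    (hs : Sat s) : (s.length : ℤ) = δ s.head - δ s.last :=
  eq_of_cov δ h s hs s.length le_rfl

theorem rcat_of_dimFun (δ : P → ℤ) (h1 : ∀ x y : P, x < y → δ y < δ x)
    (h2 : ∀ x y : P, x ⋖ y → δ x = δ y + 1) : RCat P := by
  refine ⟨fun p q _ => ⟨(δ p - δ q).toNat, fun s hs1 hs2 => ?_⟩, fun s t h1' h2' hs ht => ?_⟩
  · have := length_le_of_strictAnti δ h1 s
    rw [hs1, hs2] at this
    omega
  · have e1 := length_eq_of_cov δ h2 s hs
    have e2 := length_eq_of_cov δ h2 t ht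
    rw [h1', h2'] at e1
    omega

/-- the distance in a catenary poset -/
noncomputable def dist (A B : P) : ℕ := (pcodim A B).toNat

theorem dist_eq (hP : PCat P) {A B : P} (s : LTSeries P) (h1 : s.head = A) (h2 : s.last = B)
    (hs : Sat s) : s.length = dist A B := by
  have hAB : A ≤ B := h1 ▸ h2 ▸ LTSeries.head_le_last s
  have := (hP A B hAB).2 s h1 h2 hs
  unfold dist
  rw [← this]
  simp

theorem exists_sat (hP : PCat P) {A B : P} (hAB : A ≤ B) :
    ∃ t : LTSeries P, t.head = A ∧ t.last = B ∧ Sat t := by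
  obtain ⟨n, hn⟩ := (pcat_iff_rcat.mp hP).1 A B hAB
  obtain ⟨t, h1, h2, h3, -⟩ := exists_saturated_max hAB n hn
  exact ⟨t, h1, h2, h3⟩

theorem sat_smash (s t : LTSeries P) (h : s.last = t.head) (hs : Sat s) (ht : Sat t) :
    Sat (s.smash t h) := by
  intro i
  have hlen : (s.smash t h).length = s.length + t.length := rfl
  refine Fin.addCases (m := s.length) (n := t.length)
    (motive := fun i => (s.smash t h) i.castSucc ⋖ (s.smash t h) i.succ) ?_ ?_ i
  · intro j
    rw [RelSeries.smash_castAdd, RelSeries.smash_succ_castAdd]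
    exact hs j
  · intro j
    rw [RelSeries.smash_natAdd, RelSeries.smash_succ_natAdd]
    exact ht j

theorem dist_add (hP : PCat P) {A B C : P} (hAB : A ≤ B) (hBC : B ≤ C) :
    dist A C = dist A B + dist B C := by
  obtain ⟨t1, a1, b1, c1⟩ := exists_sat hP hAB
  obtain ⟨t2, a2, b2, c2⟩ := exists_sat hP hBC
  have hc : t1.last = t2.head := b1.trans a2.symm
  have := dist_eq hP (A := A) (B := C) (t1.smash t2 hc) (by simp [a1]) (by simp [b2])
    (sat_smash t1 t2 hc c1 c2)
  rw [← dist_eq hP t1 a1 b1 c1, ← dist_eq hP t2 a2 b2 c2, ← this]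
  rfl

theorem dist_pos (hP : PCat P) {A B : P} (hAB : A < B) : 0 < dist A B := by
  obtain ⟨t, a, b, c⟩ := exists_sat hP hAB.le
  rw [← dist_eq hP t a b c]
  by_contra h0
  have h0' : t.length = 0 := by omega
  have : t.head = t.last := by
    unfold RelSeries.head RelSeries.last
    congr 1
    ext
    simp [h0']
  rw [a, b] at this
  exact hAB.ne this

theorem dist_cov (hP : PCat P) {A B : P} (hAB : A ⋖ B) : dist A B = 1 := by
  let t : LTSeries P := (RelSeries.singleton _ A).snoc B hAB.lt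
  have hlen : t.length = 1 := rfl
  have h1 : t.head = A := by simp [t]
  have h2 : t.last = B := by simp [t]
  have hs : Sat t := by
    intro i
    have hi : i = ⟨0, by omega⟩ := by
      ext
      have := i.2
      simp only [hlen] at this
      simp
    subst hi
    have e1 : t (Fin.castSucc ⟨0, by omega⟩) = A := h1
    have e2 : t (Fin.succ ⟨0, by omega⟩) = B := h2
    rw [e1, e2]
    exact hAB
  have := dist_eq hP (A := A) (B := B) t h1 h2 hs
  omega

theorem exists_dimFun_on (hP : PCat P) (p : P) (Min : Set P) (D : Set P)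
    (h1 : ∀ a ∈ D, ∃ q ∈ Min, q ≤ a)
    (h3 : ∀ q ∈ Min, ∀ q' ∈ Min, ∀ a ∈ D, q ≤ a → q' ≤ a →
      ∃ r, q ≤ r ∧ q' ≤ r ∧ r ≤ a ∧ r ≤ p) :
    ∃ δ : P → ℤ, (∀ a ∈ D, ∀ b ∈ D, a < b → δ b < δ a) ∧
      (∀ a ∈ D, ∀ b ∈ D, a ⋖ b → δ a = δ b + 1) := by
  classical
  let δ : P → ℤ := fun a => if h : a ∈ D then
    (dist (h1 a h).choose p : ℤ) - (dist (h1 a h).choose a : ℤ) else 0
  have key : ∀ a ∈ D, ∀ q ∈ Min, q ≤ a → δ a = (dist q p : ℤ) - (dist q a : ℤ) := by
    intro a ha q hq hqa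
    have hδ : δ a = (dist (h1 a ha).choose p : ℤ) - (dist (h1 a ha).choose a : ℤ) := by
      simp only [δ, dif_pos ha]
    obtain ⟨hq0, hq0a⟩ := (h1 a ha).choose_spec
    set q0 := (h1 a ha).choose
    rw [hδ]
    obtain ⟨r, hr1, hr2, hr3, hr4⟩ := h3 q0 hq0 q hq a ha hq0a hqa
    rw [dist_add hP hr1 hr4, dist_add hP hr1 hr3, dist_add hP hr2 hr4, dist_add hP hr2 hr3]
    push_cast
    ring
  refine ⟨δ, ?_, ?_⟩
  · intro a ha b hb hab
    obtain ⟨q, hq, hqa⟩ := h1 a ha
    rw [key a ha q hq hqa, key b hb q hq (hqa.trans hab.le), dist_add hP hqa hab.le]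
    have := dist_pos hP hab
    push_cast
    omega
  · intro a ha b hb hab
    obtain ⟨q, hq, hqa⟩ := h1 a ha
    rw [key a ha q hq hqa, key b hb q hq (hqa.trans hab.le), dist_add hP hqa hab.le,
      dist_cov hP hab]
    push_cast
    ring

end Abstract

section Ring

theorem exists_open_dimFun (R : Type*) [CommRing R] [IsNoetherianRing R]
    (hR : RCat (PrimeSpectrum R)) (p : PrimeSpectrum R) :
    ∃ D : Set (PrimeSpectrum R), IsOpen D ∧ p ∈ D ∧ ∃ δ : PrimeSpectrum R → ℤ,
      (∀ a ∈ D, ∀ b ∈ D, a < b → δ b < δ a) ∧ (∀ a ∈ D, ∀ b ∈ D, a ⋖ b → δ a = δ b + 1) := by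
  classical
  have hP : PCat (PrimeSpectrum R) := pcat_iff_rcat.mpr hR
  let Min : Set (PrimeSpectrum R) := {q | q.asIdeal ∈ minimalPrimes R}
  let M2 : Set (PrimeSpectrum R) :=
    ⋃ q ∈ Min, ⋃ q' ∈ Min, {r | r.asIdeal ∈ (q.asIdeal ⊔ q'.asIdeal).minimalPrimes}
  have hfin : ∀ I : Ideal R, {r : PrimeSpectrum R | r.asIdeal ∈ I.minimalPrimes}.Finite := by
    intro I
    refine Set.Finite.preimage ?_ (Ideal.finite_minimalPrimes_of_isNoetherianRing R I)
    intro a _ b _ hab
    exact PrimeSpectrum.ext hab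
  have hMin : Min.Finite := hfin ⊥
  have hM2 : M2.Finite :=
    hMin.biUnion fun q _ => hMin.biUnion fun q' _ => hfin _
  let Bad : Set (PrimeSpectrum R) := {r | r ∈ Min ∪ M2 ∧ ¬ r ≤ p}
  have hBad : Bad.Finite := (hMin.union hM2).subset fun r hr => hr.1
  let Z : Set (PrimeSpectrum R) := ⋃ r ∈ Bad, closure {r}
  have hZ : IsClosed Z := hBad.isClosed_biUnion fun _ _ => isClosed_closure
  have hmemZ : ∀ a, a ∈ Z ↔ ∃ r ∈ Bad, r ≤ a := by
    intro a
    simp only [Z, Set.mem_iUnion, exists_prop]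
    refine exists_congr fun r => and_congr Iff.rfl ?_
    rw [← specializes_iff_mem_closure, PrimeSpectrum.le_iff_specializes]
  have hgood : ∀ a, a ∉ Z → ∀ r ∈ Min ∪ M2, r ≤ a → r ≤ p := by
    intro a ha r hr hra
    by_contra hrp
    exact ha ((hmemZ a).mpr ⟨r, ⟨hr, hrp⟩, hra⟩)
  refine ⟨Zᶜ, hZ.isOpen_compl, ?_, ?_⟩
  · intro hp
    obtain ⟨r, hr, hrp⟩ := (hmemZ p).mp hp
    exact hr.2 hrp
  · refine exists_dimFun_on hP p Min Zᶜ ?_ ?_
    · intro a _
      obtain ⟨q, hq, hqa⟩ := Ideal.exists_minimalPrimes_le (bot_le : (⊥ : Ideal R) ≤ a.asIdeal)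
      exact ⟨⟨q, hq.1.1⟩, hq, hqa⟩
    · intro q hq q' hq' a ha hqa hq'a
      obtain ⟨r, hr, hra⟩ := Ideal.exists_minimalPrimes_le
        (sup_le hqa hq'a : q.asIdeal ⊔ q'.asIdeal ≤ a.asIdeal)
      let r' : PrimeSpectrum R := ⟨r, hr.1.1⟩
      have hr'M2 : r' ∈ M2 := by
        simp only [M2, Set.mem_iUnion, exists_prop]
        exact ⟨q, hq, q', hq', hr⟩
      refine ⟨r', ?_, ?_, hra, hgood a ha r' (Or.inr hr'M2) hra⟩
      · exact le_sup_left.trans hr.1.2
      · exact le_sup_right.trans hr.1.2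

end Ring

section Top

theorem isDimensionFunction_comp {X Y : Type*} [TopologicalSpace X] [TopologicalSpace Y]
    {h : Y → X} (hh : IsOpenEmbedding h) (δ : X → ℤ)
    (h1 : ∀ x ∈ Set.range h, ∀ y ∈ Set.range h, x ⤳ y → x ≠ y → δ y < δ x)
    (h2 : ∀ x ∈ Set.range h, ∀ y ∈ Set.range h,
      PtTop.IsImmediateSpecialization x y → δ x = δ y + 1) :
    PtTop.IsDimensionFunction (δ ∘ h) := by
  refine ⟨fun a b hab hne => h1 _ ⟨a, rfl⟩ _ ⟨b, rfl⟩ (hh.isInducing.specializes_iff.mpr hab)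
    (hh.injective.ne hne), fun a b hab => h2 _ ⟨a, rfl⟩ _ ⟨b, rfl⟩ ?_⟩
  obtain ⟨hab1, hab2, hab3⟩ := hab
  refine ⟨hh.isInducing.specializes_iff.mpr hab1, hh.injective.ne hab2, fun z hz1 hz2 => ?_⟩
  have hz : z ∈ Set.range h := hz2.mem_open hh.isOpen_range ⟨b, rfl⟩
  obtain ⟨c, rfl⟩ := hz
  rcases hab3 c (hh.isInducing.specializes_iff.mp hz1) (hh.isInducing.specializes_iff.mp hz2)
    with rfl | rfl
  · left; rfl
  · right; rfl

theorem primeSpectrum_immediate_iff {R : Type*} [CommRing R] (x y : PrimeSpectrum R) :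
    PtTop.IsImmediateSpecialization x y ↔ x ⋖ y := by
  unfold PtTop.IsImmediateSpecialization
  rw [covBy_iff_lt_and_eq_or_eq]
  simp only [← PrimeSpectrum.le_iff_specializes, lt_iff_le_and_ne]
  tauto

end Top

/-- Let S be a locally Noetherian scheme. Then the underlying topological space of S is catenary if and
only if locally in the Zariski topology there is a dimension function, i.e. every point has an open
neighbourhood U carrying a function δ : U → ℤ which strictly decreases along nontrivial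
specializations and drops by exactly one along immediate specializations. -/
theorem result (S : Scheme.{u}) [IsLocallyNoetherian S] :
    PtTop.IsCatenarySpace S ↔
      ∀ s : S, ∃ U : S.Opens, s ∈ U ∧ ∃ δ : U → ℤ, PtTop.IsDimensionFunction δ := by
  constructor
  · intro h s
    obtain ⟨_, ⟨U, hU, rfl⟩, hsU, -⟩ := S.isBasis_affineOpens.exists_subset_of_mem_open
      (Set.mem_univ s) isOpen_univ
    have : IsNoetherianRing Γ(S, U) := IsLocallyNoetherian.component_noetherian ⟨U, hU⟩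
    have hR : RCat (PrimeSpectrum Γ(S, U)) :=
      (isCatenarySpace_opens_iff hU).mp (isCatenarySpace_opens h U)
    let e : (U : Type u) ≃ₜ PrimeSpectrum Γ(S, U) := Scheme.homeoOfIso hU.isoSpec
    obtain ⟨D, hD, hpD, δ, hδ1, hδ2⟩ := exists_open_dimFun Γ(S, U) hR (e ⟨s, hsU⟩)
    let V : Set U := e ⁻¹' D
    have hV : IsOpen V := hD.preimage e.continuous
    let U' : S.Opens := ⟨Subtype.val '' V, U.isOpen.isOpenMap_subtype_val _ hV⟩
    have hle : U' ≤ U := by
      rintro _ ⟨y, _, rfl⟩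
      exact y.2
    have hi := TopologicalSpace.Opens.isOpenEmbedding_of_le hle
    set i : U' → U := Set.inclusion (SetLike.coe_subset_coe.2 hle) with hidef
    have hg : IsOpenEmbedding (e ∘ i) := e.isOpenEmbedding.comp hi
    have hmem : ∀ x : U', e (i x) ∈ D := by
      rintro ⟨_, ⟨y, hy, rfl⟩⟩
      exact hy
    have hrange : ∀ x ∈ Set.range (e ∘ i), x ∈ D := by
      rintro _ ⟨x, rfl⟩
      exact hmem x
    refine ⟨U', ⟨⟨s, hsU⟩, hpD, rfl⟩, δ ∘ (e ∘ i), isDimensionFunction_comp hg δ ?_ ?_⟩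
    · intro x hx y hy hxy hne
      exact hδ1 x (hrange x hx) y (hrange y hy)
        (lt_of_le_of_ne ((PrimeSpectrum.le_iff_specializes x y).mpr hxy) hne)
    · intro x hx y hy hxy
      exact hδ2 x (hrange x hx) y (hrange y hy) ((primeSpectrum_immediate_iff x y).mp hxy)
  · intro h
    refine (Groth.Agent.S12445.result S).2.mpr ?_
    intro s
    obtain ⟨U, hsU, δ, hδ⟩ := h s
    obtain ⟨_, ⟨V, hV, rfl⟩, hsV, hVU⟩ := S.isBasis_affineOpens.exists_subset_of_mem_open
      hsU U.isOpen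
    refine ⟨⟨V, hV⟩, hsV, ?_⟩
    let e : (V : Type u) ≃ₜ PrimeSpectrum Γ(S, V) := Scheme.homeoOfIso hV.isoSpec
    have hle : V ≤ U := hVU
    have hi := TopologicalSpace.Opens.isOpenEmbedding_of_le hle
    set i : V → U := Set.inclusion (SetLike.coe_subset_coe.2 hle) with hidef
    have hg : IsOpenEmbedding (i ∘ e.symm) := hi.comp e.symm.isOpenEmbedding
    have hdim := isDimensionFunction_comp hg δ (fun x _ y _ => hδ.1 x y) (fun x _ y _ => hδ.2 x y)
    refine rcat_of_dimFun (δ ∘ (i ∘ e.symm)) ?_ ?_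
    · intro x y hxy
      exact hdim.1 x y ((PrimeSpectrum.le_iff_specializes x y).mp hxy.le) hxy.ne
    · intro x y hxy
      exact hdim.2 x y ((primeSpectrum_immediate_iff x y).mpr hxy)

end Groth.Agent.S12447
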