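import Groth.Statements.S12446
import Groth.Agent.S12445
import Groth.Agent.S9124
import Groth.Agent.S0552
import Mathlib

set_option autoImplicit false
universe u
open CategoryTheory AlgebraicGeometry
open Props

namespace Groth.Agent.S12446

open TopologicalSpace Topology Groth.Agent.S12445

/-- For a scheme X, the underlying topological space of X is catenary if and only if for every point x
the local ring O_{X,x} is a catenary ring. -/
theorem result (X : Scheme.{u}) :
    PtTop.IsCatenarySpace X ↔ ∀ x : X, CAlg.IsCatenary (X.presheaf.stalk x) := by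
  constructor
  · intro h x
    obtain ⟨_, ⟨U, hU, rfl⟩, hxU, -⟩ := X.isBasis_affineOpens.exists_subset_of_mem_open
      (Set.mem_univ x) isOpen_univ
    have hR : CAlg.IsCatenary Γ(X, U) := (Groth.Agent.S12445.result X).1.mp h ⟨U, hU⟩
    let _ : Algebra Γ(X, U) (X.presheaf.stalk x) :=
      TopCat.Presheaf.algebra_section_stalk X.presheaf ⟨x, hxU⟩
    have hloc : IsLocalization.AtPrime (X.presheaf.stalk x) (hU.primeIdealOf ⟨x, hxU⟩).asIdeal :=
      hU.isLocalization_stalk ⟨x, hxU⟩
    exact Groth.Agent.S9124.result Γ(X, U) (hU.primeIdealOf ⟨x, hxU⟩).asIdeal.primeCompl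
      (X.presheaf.stalk x) hR
  · intro h
    refine (Groth.Agent.S12445.result X).1.mpr ?_
    rintro ⟨U, hU⟩
    rw [Groth.Agent.S0552.result]
    intro m hm
    let y : PrimeSpectrum Γ(X, U) := ⟨m, hm.isPrime⟩
    have hy : hU.fromSpec y ∈ U := by
      rw [← SetLike.mem_coe, ← hU.range_fromSpec]
      exact ⟨y, rfl⟩
    let _ : Algebra Γ(X, U) (X.presheaf.stalk (hU.fromSpec y)) :=
      TopCat.Presheaf.algebra_section_stalk X.presheaf ⟨_, hy⟩
    have hloc : IsLocalization.AtPrime (X.presheaf.stalk (hU.fromSpec y)) m :=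
      hU.isLocalization_stalk' y hy
    have e : Localization.AtPrime m ≃ₐ[Γ(X, U)] X.presheaf.stalk (hU.fromSpec y) :=
      IsLocalization.algEquiv m.primeCompl _ _
    exact isCatenary_of_ringEquiv e.toRingEquiv (h _)

end Groth.Agent.S12446
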