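import Groth.Statements.S12459
import Groth.Agent.S12446
import Groth.Agent.S9126
import Mathlib

set_option autoImplicit false
universe u
open CategoryTheory AlgebraicGeometry
open Props

namespace Groth.Agent.S12459

open TopologicalSpace Topology Groth.Agent.S12445

theorem isCatenary_of_isUniversallyCatenary {B : Type u} [CommRing B]
    (h : CAlg.IsUniversallyCatenary B) : CAlg.IsCatenary B :=
  h.2 B inferInstance

/-- For a locally Noetherian scheme S, the scheme S is universally catenary — every scheme X locally of
finite type over S has catenary underlying topological space — if and only if all local rings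
O_{S,s} are universally catenary rings. (Schemes X over S are taken in the universe of S.) -/
theorem result (S : Scheme.{u}) [IsLocallyNoetherian S] :
    (∀ (X : Scheme.{u}) (f : X ⟶ S), LocallyOfFiniteType f → PtTop.IsCatenarySpace X) ↔
      ∀ s : S, CAlg.IsUniversallyCatenary (S.presheaf.stalk s) := by
  constructor
  · intro h s
    refine ⟨inferInstance, ?_⟩
    intro B _ _ hB
    obtain ⟨_, ⟨U, hU, rfl⟩, hsU, -⟩ := S.isBasis_affineOpens.exists_subset_of_mem_open
      (Set.mem_univ s) isOpen_univ
    let _ : Algebra Γ(S, U) (S.presheaf.stalk s) :=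
      TopCat.Presheaf.algebra_section_stalk S.presheaf ⟨s, hsU⟩
    have hloc : IsLocalization.AtPrime (S.presheaf.stalk s) (hU.primeIdealOf ⟨s, hsU⟩).asIdeal :=
      hU.isLocalization_stalk ⟨s, hsU⟩
    have hess1 : Algebra.EssFiniteType Γ(S, U) (S.presheaf.stalk s) :=
      Algebra.EssFiniteType.of_isLocalization _ (hU.primeIdealOf ⟨s, hsU⟩).asIdeal.primeCompl
    let _ : Algebra Γ(S, U) B :=
      ((algebraMap (S.presheaf.stalk s) B).comp (algebraMap Γ(S, U) (S.presheaf.stalk s))).toAlgebra
    have : IsScalarTower Γ(S, U) (S.presheaf.stalk s) B :=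
      IsScalarTower.of_algebraMap_eq (fun _ => rfl)
    have : Algebra.FiniteType (S.presheaf.stalk s) B := hB
    have hess : Algebra.EssFiniteType Γ(S, U) B :=
      Algebra.EssFiniteType.comp Γ(S, U) (S.presheaf.stalk s) B
    let B' := Algebra.EssFiniteType.subalgebra Γ(S, U) B
    have hft : Algebra.FiniteType Γ(S, U) B' := inferInstance
    let g : Spec (CommRingCat.of B') ⟶ S :=
      Spec.map (CommRingCat.ofHom (algebraMap Γ(S, U) B')) ≫ hU.fromSpec
    have hg : LocallyOfFiniteType g := by
      have h1 : LocallyOfFiniteType (Spec.map (CommRingCat.ofHom (algebraMap Γ(S, U) B'))) := by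
        rw [HasRingHomProperty.Spec_iff (P := @LocallyOfFiniteType)]
        exact (RingHom.finiteType_algebraMap (A := Γ(S, U)) (B := B')).mpr hft
      infer_instance
    have hX := h _ g hg
    have hB' : CAlg.IsCatenary B' := (isCatenarySpace_primeSpectrum_iff B').mp hX
    exact Groth.Agent.H46.isCatenary_of_isLocalization B
      (Algebra.EssFiniteType.submonoid Γ(S, U) B) hB'
  · intro h X f hf
    rw [Groth.Agent.S12446.result]
    intro x
    let _ : Algebra (S.presheaf.stalk (f x)) (X.presheaf.stalk x) := (f.stalkMap x).hom.toAlgebra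
    have hess : Algebra.EssFiniteType (S.presheaf.stalk (f x)) (X.presheaf.stalk x) :=
      LocallyOfFiniteType.stalkMap f x
    exact isCatenary_of_isUniversallyCatenary
      (Groth.Agent.S9126.result (S.presheaf.stalk (f x)) (X.presheaf.stalk x) (h (f x)))

end Groth.Agent.S12459
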