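import Groth.Statements.S3433
import Groth.Agent.Lib.Helper16.JacobsonTop

set_option autoImplicit false
universe u
open EGA43

namespace Groth.Agent.S3433

/-- Let A be a Noetherian local ring with maximal ideal m and let Y be the punctured spectrum Spec A ∖
{m}. Then Y is a Jacobson space, and a point p of Y is closed in Y if and only if dim A/p = 1. -/
theorem result (A : Type u) [CommRing A] [IsNoetherianRing A] [IsLocalRing A] :
    JacobsonSpace ↥({IsLocalRing.closedPoint A}ᶜ : Set (PrimeSpectrum A)) ∧
      ∀ p : ↥({IsLocalRing.closedPoint A}ᶜ : Set (PrimeSpectrum A)),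
        IsClosed ({p} : Set ↥({IsLocalRing.closedPoint A}ᶜ : Set (PrimeSpectrum A))) ↔
          ringKrullDim (A ⧸ p.1.asIdeal) = 1 := by
  have hcp : ∀ x : PrimeSpectrum A, x.asIdeal.IsMaximal → x = IsLocalRing.closedPoint A := by
    intro x hx
    exact PrimeSpectrum.ext (IsLocalRing.eq_maximalIdeal hx)
  refine ⟨?_, ?_⟩
  · refine (Groth.Agent.Lib.Helper16.goodSpace_primeSpectrum A).jacobsonSpace_of_isOpen _
      (IsLocalRing.isClosed_singleton_closedPoint A).isOpen_compl ?_
    intro x hx hcl
    exact hx (hcp x ((PrimeSpectrum.isClosed_singleton_iff_isMaximal x).mp hcl))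
  · intro p
    have hsurj : Function.Surjective (Ideal.Quotient.mk p.1.asIdeal) := Ideal.Quotient.mk_surjective
    have hcomap_bot : (⊥ : Ideal (A ⧸ p.1.asIdeal)).comap (Ideal.Quotient.mk p.1.asIdeal)
        = p.1.asIdeal := by
      rw [← RingHom.ker_eq_comap_bot, Ideal.mk_ker]
    constructor
    · intro hcl
      apply Groth.Agent.Lib.Helper16.ringKrullDim_eq_one_of_forall_isMaximal
      · intro hF
        exact p.2 (hcp p.1 (Ideal.Quotient.maximal_of_isField _ hF))
      · intro q hq0 hq
        have hQ : (q.comap (Ideal.Quotient.mk p.1.asIdeal)).IsPrime := Ideal.comap_isPrime _ _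
        have hle : p.1.asIdeal ≤ q.comap (Ideal.Quotient.mk p.1.asIdeal) :=
          hcomap_bot.symm.le.trans (Ideal.comap_mono bot_le)
        by_cases hw : (⟨q.comap (Ideal.Quotient.mk p.1.asIdeal), hQ⟩ : PrimeSpectrum A)
            = IsLocalRing.closedPoint A
        · have hQmax : (q.comap (Ideal.Quotient.mk p.1.asIdeal)).IsMaximal := by
            have : q.comap (Ideal.Quotient.mk p.1.asIdeal) = IsLocalRing.maximalIdeal A :=
              congrArg PrimeSpectrum.asIdeal hw
            rw [this]; infer_instance
          have := Ideal.map_eq_top_or_isMaximal_of_surjective _ hsurj hQmax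
          rw [Ideal.map_comap_of_surjective _ hsurj] at this
          exact this.resolve_left hq.ne_top
        · exfalso
          have hsp : p ⤳ (⟨⟨q.comap (Ideal.Quotient.mk p.1.asIdeal), hQ⟩, hw⟩ :
              ↥({IsLocalRing.closedPoint A}ᶜ : Set (PrimeSpectrum A))) := by
            rw [subtype_specializes_iff]
            exact (PrimeSpectrum.le_iff_specializes _ _).mp hle
          have hmem := hsp.mem_closed hcl (Set.mem_singleton p)
          have hQp : q.comap (Ideal.Quotient.mk p.1.asIdeal) = p.1.asIdeal :=
            congrArg (fun x : ↥({IsLocalRing.closedPoint A}ᶜ : Set (PrimeSpectrum A)) =>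
              x.1.asIdeal) hmem
          apply hq0
          apply Ideal.comap_injective_of_surjective _ hsurj
          rw [hcomap_bot, hQp]
    · intro hdim
      rw [← closure_subset_iff_isClosed]
      intro w hw
      have hsp : p.1 ⤳ w.1 :=
        (subtype_specializes_iff p w).mp (specializes_iff_mem_closure.mpr hw)
      have hle : p.1.asIdeal ≤ w.1.asIdeal := (PrimeSpectrum.le_iff_specializes _ _).mpr hsp
      by_contra hne
      have hq'prime : (w.1.asIdeal.map (Ideal.Quotient.mk p.1.asIdeal)).IsPrime :=
        Ideal.isPrime_map_quotientMk_of_isPrime hle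
      have hq'comap : (w.1.asIdeal.map (Ideal.Quotient.mk p.1.asIdeal)).comap
          (Ideal.Quotient.mk p.1.asIdeal) = w.1.asIdeal := Ideal.comap_map_mk hle
      have hq'0 : w.1.asIdeal.map (Ideal.Quotient.mk p.1.asIdeal) ≠ ⊥ := by
        intro e
        rw [e, hcomap_bot] at hq'comap
        exact hne (Subtype.ext (PrimeSpectrum.ext hq'comap.symm))
      have hmax := Groth.Agent.Lib.Helper16.isMaximal_of_ringKrullDim_eq_one hdim _ hq'0 hq'prime
      have : w.1.asIdeal.IsMaximal := by
        rw [← hq'comap]; exact Ideal.comap_isMaximal_of_surjective _ hsurj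
      exact w.2 (hcp w.1 this)

end Groth.Agent.S3433
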