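import Groth.Statements.S9946
import Groth.Agent.S10505
import Groth.Agent.S10537
import Groth.Agent.H52.LocP
import Groth.Agent.H52.Points
import Groth.Agent.H52.FibreProd
import Groth.Agent.H53.ZarGlueAff
import Mathlib.AlgebraicGeometry.Morphisms.Etale

set_option autoImplicit false
universe u
open CategoryTheory CategoryTheory.Limits AlgebraicGeometry
open AlgSp

namespace Groth.Agent.S9946

/-- (3) ⇒ (1): if the base change of f along a surjective etale map from a scheme is quasi-affine, then
f is representable by schemes and quasi-affine. -/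
theorem result {S : Scheme.{u}} {X Y : AlgSp.Space S} (f : X ⟶ Y)
    (V : Over S) (p : (AlgSp.yon S).obj V ⟶ Y.obj) (hp : AlgSp.RepWith @Etale p) (hps : AlgSp.RepWith @Surjective p)
    {P : AlgSp.Sp S} (fst : P ⟶ X.obj) (snd : P ⟶ (AlgSp.yon S).obj V) (sq : IsPullback fst snd f.hom p)
    (h : AlgSp.IsQuasiAffineMor snd) : AlgSp.Representable f.hom ∧ AlgSp.IsQuasiAffineMor f.hom := by
  have hfl : AlgSp.LocP @Flat p := Groth.Agent.H52.locP_of_repWith p @Flat
    (fun _ _ φ hφ => by have : Etale φ := hφ; infer_instance)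
    (Groth.Agent.H53.repWith_of_le (fun _ _ φ hφ => by have : Etale φ := hφ; infer_instance) hp)
  have hlfp : AlgSp.LocP @LocallyOfFinitePresentation p :=
    Groth.Agent.H52.locP_of_repWith p @LocallyOfFinitePresentation
      (fun _ _ φ hφ => by have : Etale φ := hφ; infer_instance)
      (Groth.Agent.H53.repWith_of_le (fun _ _ φ hφ => by have : Etale φ := hφ; infer_instance) hp)
  have hfppf : AlgSp.IsFppfCover (fun _ : PUnit.{u + 1} => (AlgSp.yon S).obj V) (fun _ => p) :=
    ⟨fun _ => ⟨hfl, hlfp⟩, fun y => by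
      obtain ⟨v, hv⟩ := Groth.Agent.H52.surjective_points_of_repWith_surjective p hps y
      exact ⟨PUnit.unit, v, hv⟩⟩
  have hfpqc : AlgSp.IsFpqcCover (fun _ : PUnit.{u + 1} => (AlgSp.yon S).obj V) (fun _ => p) :=
    Groth.Agent.S10505.result Y (fun _ : PUnit.{u + 1} => (AlgSp.ofScheme S).obj V)
      (fun _ => ObjectProperty.homMk p) hfppf
  have hP : AlgSp.IsAlgSpace P :=
    Groth.Agent.H52.isAlgSpace_of_isPullback sq X.property Y.property (IsAlgSpace.yon_obj V)
  have hqa : AlgSp.IsQuasiAffineMor f.hom :=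
    (Groth.Agent.S10537.result S (fun _ : PUnit.{u + 1} => (AlgSp.yon S).obj V) (fun _ => p)
      Y.property (fun _ => IsAlgSpace.yon_obj V) hfpqc f.hom X.property (fun _ => P)
      (fun _ => snd) (fun _ => fst) (fun _ => hP) (fun _ => sq)).2 (fun _ => h)
  refine ⟨?_, hqa⟩
  refine Groth.Agent.H53.ZarGlue.representable_of_affine_local (fun Z hZ g => ?_)
  obtain ⟨W, i, fstW, sqW, -⟩ := hqa hZ g
  exact ⟨W, i, fstW, sqW⟩

end Groth.Agent.S9946
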