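import Groth.Statements.S10829
import Groth.Agent.S10838
import Groth.Agent.Lib.Helper55.SpanXPrime
import Mathlib.RingTheory.KrullDimension.Polynomial
import Mathlib.RingTheory.KrullDimension.Field

set_option autoImplicit false
universe u
open AlgebraicGeometry
open Variety

namespace Groth.Agent.S10829

open Groth.Agent.Lib.Helper55 Order

section Helpers

variable {A σ : Type*} [CommRing A] [SetLike σ A] [AddSubgroupClass σ A] (𝒜 : ℕ → σ) [GradedRing 𝒜]

/-- The specialization order on the projective spectrum is dual to inclusion of ideals. -/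
noncomputable def specializationOrderIso :
    Specialization (ProjectiveSpectrum 𝒜) ≃o (ProjectiveSpectrum 𝒜)ᵒᵈ where
  toEquiv := Specialization.ofEquiv.trans OrderDual.toDual
  map_rel_iff' := by
    intro a b
    change Specialization.ofEquiv b ≤ Specialization.ofEquiv a ↔ a ≤ b
    rw [ProjectiveSpectrum.le_iff_mem_closure, ← specializes_iff_mem_closure,
      Specialization.ofEquiv_specializes_ofEquiv]

theorem krullDim_specialization_projectiveSpectrum :
    krullDim (Specialization (ProjectiveSpectrum 𝒜)) = krullDim (ProjectiveSpectrum 𝒜) := by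
  rw [krullDim_eq_of_orderIso (specializationOrderIso 𝒜), krullDim_orderDual]

end Helpers


section Bounds

open MvPolynomial

variable (k : Type u) [Field k] (n : ℕ)

/-- The point of projective space given by the vanishing of the first `i` coordinates. -/
noncomputable def coordPoint (i : Fin (n + 1)) : ProjectiveSpectrum (CohB1.polyGrading n k) where
  asHomogeneousIdeal :=
    ⟨Ideal.span (X '' {j : Fin (n + 1) | j < i} : Set (MvPolynomial (Fin (n + 1)) k)),
      Ideal.homogeneous_span _ _ (by
        rintro _ ⟨j, -, rfl⟩
        exact ⟨1, isHomogeneous_X k j⟩)⟩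
  isPrime := isPrime_span_X_image _
  not_irrelevant_le := by
    intro h
    have h1 : (X (Fin.last n) : MvPolynomial (Fin (n + 1)) k) ∈
        HomogeneousIdeal.irrelevant (CohB1.polyGrading n k) :=
      HomogeneousIdeal.mem_irrelevant_of_mem _ (i := 1) one_pos (isHomogeneous_X k _)
    have h2 := h h1
    change (X (Fin.last n) : MvPolynomial (Fin (n + 1)) k) ∈ Ideal.span _ at h2
    rw [X_mem_span_X_image_iff] at h2
    exact absurd (Fin.le_last i) (not_le.mpr h2)

theorem coordPoint_strictMono : StrictMono (coordPoint k n) := by
  intro i j hij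
  rw [← ProjectiveSpectrum.as_ideal_lt_as_ideal]
  refine lt_of_le_of_ne ?_ ?_
  · change Ideal.span _ ≤ Ideal.span _
    apply Ideal.span_mono
    apply Set.image_mono
    intro a (ha : a < i)
    exact ha.trans hij
  · intro h
    have h1 : (X i : MvPolynomial (Fin (n + 1)) k) ∈ (coordPoint k n j).asHomogeneousIdeal := by
      change _ ∈ Ideal.span _
      rw [X_mem_span_X_image_iff]
      exact hij
    rw [← h] at h1
    change _ ∈ Ideal.span _ at h1
    rw [X_mem_span_X_image_iff] at h1
    exact lt_irrefl i h1

theorem le_krullDim_projectiveSpectrum :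
    (n : WithBot ℕ∞) ≤ krullDim (ProjectiveSpectrum (CohB1.polyGrading n k)) := by
  have := (LTSeries.mk n (coordPoint k n) (coordPoint_strictMono k n)).length_le_krullDim
  exact this

open Classical in
/-- The map from the projective spectrum with a top element added to the prime spectrum of the
polynomial ring, sending the top element to the irrelevant ideal. -/
noncomputable def toPrimeSpectrum :
    WithTop (ProjectiveSpectrum (CohB1.polyGrading n k)) →
      PrimeSpectrum (MvPolynomial (Fin (n + 1)) k)
  | ⊤ => ⟨(HomogeneousIdeal.irrelevant (CohB1.polyGrading n k)).toIdeal, by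
      rw [HomogeneousIdeal.toIdeal_irrelevant]
      exact RingHom.ker_isPrime _⟩
  | (x : ProjectiveSpectrum (CohB1.polyGrading n k)) => ⟨x.asHomogeneousIdeal.toIdeal, x.isPrime⟩

theorem toIdeal_lt_irrelevant (x : ProjectiveSpectrum (CohB1.polyGrading n k)) :
    x.asHomogeneousIdeal.toIdeal <
      (HomogeneousIdeal.irrelevant (CohB1.polyGrading n k)).toIdeal := by
  refine lt_of_le_of_ne ?_ ?_
  · intro a ha
    change GradedRing.proj (CohB1.polyGrading n k) 0 a = 0
    have h1 : (DirectSum.decompose (CohB1.polyGrading n k) a 0 : MvPolynomial (Fin (n + 1)) k) ∈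
        x.asHomogeneousIdeal.toIdeal := x.asHomogeneousIdeal.isHomogeneous 0 ha
    have h2 : (DirectSum.decompose (CohB1.polyGrading n k) a 0 :
        MvPolynomial (Fin (n + 1)) k).IsHomogeneous 0 :=
      (DirectSum.decompose (CohB1.polyGrading n k) a 0).2
    rw [← totalDegree_zero_iff_isHomogeneous, totalDegree_eq_zero_iff_eq_C] at h2
    rw [GradedRing.proj_apply]
    by_contra hne
    have hc : coeff 0 (DirectSum.decompose (CohB1.polyGrading n k) a 0 :
        MvPolynomial (Fin (n + 1)) k) ≠ 0 := by
      intro h0
      rw [h0, map_zero] at h2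
      exact hne h2
    have hu : IsUnit (DirectSum.decompose (CohB1.polyGrading n k) a 0 :
        MvPolynomial (Fin (n + 1)) k) := by
      rw [h2]
      exact (IsUnit.mk0 _ hc).map C
    exact x.isPrime.ne_top (Ideal.eq_top_of_isUnit_mem _ h1 hu)
  · intro h
    exact x.not_irrelevant_le (toIdeal_le_toIdeal_iff.mp h.ge)

theorem toPrimeSpectrum_strictMono : StrictMono (toPrimeSpectrum k n) := by
  intro a b hab
  induction a with
  | top => exact absurd hab (not_top_lt)
  | coe a =>
    induction b with
    | top =>
      change a.asHomogeneousIdeal.toIdeal < _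
      exact toIdeal_lt_irrelevant k n a
    | coe b =>
      rw [WithTop.coe_lt_coe] at hab
      change a.asHomogeneousIdeal.toIdeal < b.asHomogeneousIdeal.toIdeal
      exact hab

theorem krullDim_projectiveSpectrum_le :
    krullDim (ProjectiveSpectrum (CohB1.polyGrading n k)) ≤ (n : WithBot ℕ∞) := by
  have hne : Nonempty (ProjectiveSpectrum (CohB1.polyGrading n k)) := ⟨coordPoint k n 0⟩
  have h1 : krullDim (WithTop (ProjectiveSpectrum (CohB1.polyGrading n k))) ≤
      ringKrullDim (MvPolynomial (Fin (n + 1)) k) :=
    krullDim_le_of_strictMono _ (toPrimeSpectrum_strictMono k n)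
  rw [krullDim_WithTop, MvPolynomial.ringKrullDim_of_isNoetherianRing, ringKrullDim_eq_zero_of_field,
    zero_add, Nat.card_eq_fintype_card, Fintype.card_fin] at h1
  generalize krullDim (ProjectiveSpectrum (CohB1.polyGrading n k)) = d at h1
  induction d with
  | bot => exact bot_le
  | coe d =>
    have h2 : ((d + 1 : ℕ∞) : WithBot ℕ∞) ≤ ((n + 1 : ℕ) : ℕ∞) := by
      exact_mod_cast h1
    rw [WithBot.coe_le_coe] at h2
    have h3 : d ≤ (n : ℕ∞) := by
      rw [Nat.cast_add, Nat.cast_one] at h2
      exact (ENat.add_le_add_iff_right ENat.one_ne_top).mp h2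
    exact_mod_cast h3

end Bounds

/-- For a field k and a natural number n, projective n-space over k (Proj of the polynomial ring in n +
1 variables graded by degree) has Krull dimension n as a topological space. (The published statement
also gives affine n-space dimension n; that half is the Krull dimension of a polynomial ring and is
not restated here.) -/
theorem result (k : Type u) [Field k] (n : ℕ) :
    topologicalKrullDim ↥(CohB1.ProjSpace n k) = (n : WithBot ℕ∞) := by
  have h1 : topologicalKrullDim ↥(Proj (CohB1.polyGrading n k)) =
      Order.krullDim (ProjectiveSpectrum (CohB1.polyGrading n k)) := by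
    apply le_antisymm
    · exact (Groth.Agent.S10838.topologicalKrullDim_le_specialization
        ↥(Proj (CohB1.polyGrading n k))).trans
        (krullDim_specialization_projectiveSpectrum (CohB1.polyGrading n k)).le
    · exact (krullDim_specialization_projectiveSpectrum (CohB1.polyGrading n k)).ge.trans
        (Groth.Agent.S10838.krullDim_specialization_le ↥(Proj (CohB1.polyGrading n k)))
  unfold CohB1.ProjSpace
  rw [h1]
  exact le_antisymm (krullDim_projectiveSpectrum_le k n) (le_krullDim_projectiveSpectrum k n)

end Groth.Agent.S10829
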