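import Groth.Statements.S8542
import Groth.Agent.Lib.Helper6.LanFlat

set_option autoImplicit false
universe u
open CategoryTheory CategoryTheory.Limits AlgebraicGeometry Opposite
open EtBC

namespace Groth.Agent.S8542

open Groth.Agent.Lib.Helper6

instance hasExactColimitsOfShape_type {X Y : Scheme.{u}} (f : X ⟶ Y) (U : (X.Etale)ᵒᵖ) :
    HasExactColimitsOfShape (CostructuredArrow (EtCoh.bc f).op U) (Type (u + 1)) := by
  have := LanFlat.isFiltered_costructuredArrow_op (EtCoh.bc f) U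
  have : IsFiltered (ULiftHom.{u+1} (CostructuredArrow (EtCoh.bc f).op U)) :=
    IsFiltered.of_equivalence ULiftHom.equiv
  exact HasExactColimitsOfShape.of_domain_equivalence _
    (ULiftHom.equiv (C := CostructuredArrow (EtCoh.bc f).op U)).symm

theorem preservesFiniteLimits_pullSh {X Y : Scheme.{u}} (f : X ⟶ Y) :
    PreservesFiniteLimits (EtDesc.pullSh f) :=
  LanFlat.sheafPullback_preservesFiniteLimits (EtCoh.bc f) (Type (u + 1)) _ _

lemma hom_app_nat {X : Scheme.{u}} {A B : EtDesc.Sh X} (φ : A ⟶ B) {U V : X.Etaleᵒᵖ} (f : U ⟶ V)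
    (a : A.obj.obj U) : φ.hom.app V (A.obj.map f a) = B.obj.map f (φ.hom.app U a) :=
  ConcreteCategory.congr_hom (φ.hom.naturality f) a

lemma secPull_nat {X Y : Scheme.{u}} (h : Y ⟶ X) {A B : EtDesc.Sh X} (φ : A ⟶ B)
    (s : EtDesc.sect A (EtCoh.top X)) :
    EtDesc.secPull h B (φ.hom.app _ s) =
      ((EtDesc.pullSh h).map φ).hom.app _ (EtDesc.secPull h A s) := by
  unfold EtDesc.secPull
  rw [hom_app_nat]
  congr 1
  have := (EtDesc.adjSh h).unit.naturality φ
  have h2 := congrArg (fun ψ => ψ.hom.app (op (EtCoh.top X)) s) this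
  exact h2

lemma injective_of_mono {X : Scheme.{u}} {A B : EtDesc.Sh X} (φ : A ⟶ B) [Mono φ] (U : X.Etaleᵒᵖ) :
    Function.Injective (φ.hom.app U) := by
  have h1 : Mono ((sheafToPresheaf _ _).map φ) := inferInstance
  have h2 : Mono (φ.hom.app U) := by
    have : Mono φ.hom := h1
    infer_instance
  exact (mono_iff_injective _).1 h2


/-- Let h : Y → X be a morphism of quasi-compact quasi-separated schemes such that for every sheaf of
sets F on the small etale site of X the pullback map Γ(X, F) → Γ(Y, h^*F) is injective. Let u : F →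
G be a monomorphism of sheaves of sets on X and ξ ∈ Γ(Y, h^*F) a section whose image in Γ(Y, h^*G)
lies in the image of Γ(X, G). Then ξ lies in the image of Γ(X, F). -/
theorem result {X Y : Scheme.{u}} [CompactSpace X] [QuasiSeparatedSpace X]
    [CompactSpace Y] [QuasiSeparatedSpace Y] (h : Y ⟶ X)
    (hinj : ∀ F : EtDesc.Sh X, Function.Injective (EtDesc.secPull h F))
    {F G : EtDesc.Sh X} (u : F ⟶ G) [Mono u] (ξ : EtDesc.sect ((EtDesc.pullSh h).obj F) (EtCoh.top Y))
    (hξ : ((EtDesc.pullSh h).map u).hom.app (op (EtCoh.top Y)) ξ ∈ Set.range (EtDesc.secPull h G)) :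
    ξ ∈ Set.range (EtDesc.secPull h F) := by
  obtain ⟨η₀, hη₀⟩ := hξ
  let Ω : EtDesc.Sh X := Sheaf.Ω X.smallEtaleTopology
  let a : G ⟶ Ω := Sheaf.χ u
  let b : G ⟶ Ω := (Sheaf.isTerminalTerminal _ _).from G ≫ Sheaf.truth _
  have hab : u ≫ a = u ≫ b := by
    have h1 := (Sheaf.isPullback_χ_truth u).w
    rw [← Category.assoc]
    refine h1.trans ?_
    congr 1
  have e1 : EtDesc.secPull h Ω (a.hom.app _ η₀) = EtDesc.secPull h Ω (b.hom.app _ η₀) := by
    rw [secPull_nat, secPull_nat, hη₀]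
    have := congrArg (fun ψ => ((EtDesc.pullSh h).map ψ).hom.app (op (EtCoh.top Y)) ξ) hab
    simp only [Functor.map_comp] at this
    exact this
  have e2 : a.hom.app _ η₀ = b.hom.app _ η₀ := hinj Ω e1
  have e3 : ∃ ξ₀, u.hom.app (op (EtCoh.top X)) ξ₀ = η₀ := by
    have h1 := congrArg (fun S : Ω.obj.obj (op (EtCoh.top X)) => S.1.arrows (𝟙 (EtCoh.top X))) e2
    have h2 : (b.hom.app (op (EtCoh.top X)) η₀).1.arrows (𝟙 (EtCoh.top X)) := trivial
    have h3 : (a.hom.app (op (EtCoh.top X)) η₀).1.arrows (𝟙 (EtCoh.top X)) := by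
      have : (a.hom.app (op (EtCoh.top X)) η₀).1.arrows (𝟙 (EtCoh.top X)) =
        (b.hom.app (op (EtCoh.top X)) η₀).1.arrows (𝟙 (EtCoh.top X)) := h1
      rw [this]
      exact h2
    obtain ⟨ξ₀, hξ₀⟩ := h3
    refine ⟨ξ₀, ?_⟩
    rw [← hξ₀]
    simp
  obtain ⟨ξ₀, hξ₀⟩ := e3
  refine ⟨ξ₀, ?_⟩
  have := preservesFiniteLimits_pullSh h
  have : Mono ((EtDesc.pullSh h).map u) := inferInstance
  apply injective_of_mono ((EtDesc.pullSh h).map u)
  rw [← secPull_nat, hξ₀, hη₀]

end Groth.Agent.S8542
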