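import Groth.Statements.S14768
import Groth.Agent.Lib.Helper75.ValSpec

set_option autoImplicit false
universe u
open CategoryTheory CategoryTheory.Limits AlgebraicGeometry
open Subtr

namespace Groth.Agent.S14768

/-- Let f : X ⟶ Y be any morphism of schemes. Then every base change of f has the lifting property for
ordered pairs of points if and only if this holds for the base changes X ×_Y Spec V ⟶ Spec V along
all morphisms Spec V ⟶ Y with V a valuation ring. (The published statement is about universally
subtrusive morphisms and assumes f universally submersive for the constructible topologies; the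
lifting property alone descends from valuation rings with the same proof, and for quasi-compact f
the two statements agree.) -/
theorem result {X Y : Scheme.{u}} (f : X ⟶ Y) :
    Subtr.UnivSSubtrusive f ↔
      ∀ (V : Type u) [CommRing V] [IsDomain V] [ValuationRing V] (g : Spec (CommRingCat.of V) ⟶ Y),
        Subtr.IsSSubtrusive (pullback.snd f g) := by
  constructor
  · intro h V _ _ _ g
    exact h (pullback.fst f g) g (pullback.snd f g) (IsPullback.of_hasPullback f g).flip
  · intro h X' Y' i₁ i₂ f' hpb y y' hy
    obtain ⟨V, _, _, _, g', η, s, hηs, hs, hη⟩ :=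
      Groth.Agent.Lib.Helper75.exists_valuationRing_of_specializes hy
    -- lift the pair in the base change to `Spec V`
    obtain ⟨z, z', hzz', hz, hz'⟩ := h V (g' ≫ i₂) hηs
    -- the induced map into X'
    let c : pullback f (g' ≫ i₂) ⟶ X' :=
      hpb.lift (pullback.snd f (g' ≫ i₂) ≫ g') (pullback.fst f (g' ≫ i₂))
        (by rw [Category.assoc, ← pullback.condition])
    have hc : c ≫ f' = pullback.snd f (g' ≫ i₂) ≫ g' := hpb.lift_fst _ _ _
    refine ⟨c z, c z', hzz'.map c.continuous, ?_, ?_⟩
    · rw [← Scheme.Hom.comp_apply, hc, Scheme.Hom.comp_apply, hz, hs]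
    · rw [← Scheme.Hom.comp_apply, hc, Scheme.Hom.comp_apply, hz', hη]

end Groth.Agent.S14768
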