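import Groth.Statements.S14769
import Groth.Agent.S14768
import Groth.Agent.Lib.Helper75.ValSpec2

set_option autoImplicit false
universe u
open CategoryTheory CategoryTheory.Limits AlgebraicGeometry
open Subtr

namespace Groth.Agent.S14769

/-- Let f : X ⟶ Y be any morphism of schemes. Then every base change of f has the lifting property for
ordered pairs of points if and only if, for every valuation ring V and morphism g : Spec V ⟶ Y,
there are a valuation ring V', a morphism a : Spec V' ⟶ X and a surjective morphism b : Spec V' ⟶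
Spec V with a ≫ f = b ≫ g. (The published statement assumes f universally submersive for the
constructible topologies and concludes universal subtrusiveness; for quasi-compact f the two agree.) -/
theorem result {X Y : Scheme.{u}} (f : X ⟶ Y) :
    Subtr.UnivSSubtrusive f ↔
      ∀ (V : Type u) [CommRing V] [IsDomain V] [ValuationRing V] (g : Spec (CommRingCat.of V) ⟶ Y),
        ∃ (V' : Type u) (_ : CommRing V') (_ : IsDomain V') (_ : ValuationRing V')
          (a : Spec (CommRingCat.of V') ⟶ X) (b : Spec (CommRingCat.of V') ⟶ Spec (CommRingCat.of V)),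
          Surjective b ∧ a ≫ f = b ≫ g := by
  rw [Groth.Agent.S14768.result]
  constructor
  · intro h V _ _ _ g
    obtain ⟨z, z', hzz', hz, hz'⟩ := h V g (Groth.Agent.Lib.Helper75.botPoint_specializes_clPoint V)
    obtain ⟨V', _, _, _, g', hg's, hg'η⟩ :=
      Groth.Agent.Lib.Helper75.exists_valuationRing_of_specializes' hzz'
    refine ⟨V', inferInstance, inferInstance, inferInstance, g' ≫ pullback.fst f g,
      g' ≫ pullback.snd f g, ?_, ?_⟩
    · refine ⟨Groth.Agent.Lib.Helper75.surjective_of_clPoint_of_botPoint _ ?_ ?_⟩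
      · rw [Scheme.Hom.comp_apply, hg's, hz]
      · rw [Scheme.Hom.comp_apply, hg'η, hz']
    · rw [Category.assoc, Category.assoc, pullback.condition]
  · intro h V _ _ _ g w w' hw
    obtain ⟨V₁, _, _, _, g₁, hs₁, hη₁⟩ :=
      Groth.Agent.Lib.Helper75.exists_valuationRing_of_specializes' hw
    obtain ⟨V', _, _, _, a, b, hb, hab⟩ := h V₁ (g₁ ≫ g)
    have hbs : Function.Surjective b := hb.surj
    let c : Spec (CommRingCat.of V') ⟶ pullback f g :=
      pullback.lift a (b ≫ g₁) (by rw [hab, Category.assoc])
    have hc : c ≫ pullback.snd f g = b ≫ g₁ := pullback.lift_snd _ _ _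
    have hbc : b (Groth.Agent.Lib.Helper75.clPoint V') = Groth.Agent.Lib.Helper75.clPoint V₁ := by
      obtain ⟨x, hx⟩ := hbs (Groth.Agent.Lib.Helper75.clPoint V₁)
      apply Groth.Agent.Lib.Helper75.eq_clPoint_of_specializes
      rw [← hx]
      exact (Groth.Agent.Lib.Helper75.specializes_clPoint V' x).map b.continuous
    have hbb : b (Groth.Agent.Lib.Helper75.botPoint V') = Groth.Agent.Lib.Helper75.botPoint V₁ := by
      obtain ⟨x, hx⟩ := hbs (Groth.Agent.Lib.Helper75.botPoint V₁)
      apply Groth.Agent.Lib.Helper75.eq_botPoint_of_specializes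
      rw [← hx]
      exact (Groth.Agent.Lib.Helper75.botPoint_specializes V' x).map b.continuous
    refine ⟨c (Groth.Agent.Lib.Helper75.clPoint V'), c (Groth.Agent.Lib.Helper75.botPoint V'),
      (Groth.Agent.Lib.Helper75.botPoint_specializes_clPoint V').map c.continuous, ?_, ?_⟩
    · rw [← Scheme.Hom.comp_apply, hc, Scheme.Hom.comp_apply, hbc, hs₁]
    · rw [← Scheme.Hom.comp_apply, hc, Scheme.Hom.comp_apply, hbb, hη₁]

end Groth.Agent.S14769
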