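import Groth.Statements.S14788
import Groth.Agent.Lib.Helper16.ProConsAffine

set_option autoImplicit false
universe u
open CategoryTheory CategoryTheory.Limits AlgebraicGeometry
open Subtr

namespace Groth.Agent.S14788

open Groth.Agent.Lib.Helper16

/-- A point of a scheme is pro-constructible. -/
theorem isProConstructible_singleton {Y : Scheme.{u}} (y' : Y) :
    ProCons.IsProConstructible ({y'} : Set Y) := by
  intro x
  obtain ⟨U, hU, hxU⟩ := exists_affine_nhd x
  obtain ⟨_, _, _, _, _⟩ := spectral_of_isAffineOpen hU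
  refine ⟨U, U.2, hxU, {C : Set (U : Set Y) | Topology.IsConstructible C ∧
    (Subtype.val ⁻¹' {y'} : Set (U : Set Y)) ⊆ C},
    fun C hC => hC.1.isLocallyConstructible, ?_⟩
  apply subset_antisymm
  · intro w hw C hC
    exact hC.2 hw
  · intro w hw
    by_contra hne
    by_cases hy' : y' ∈ U
    · have hne' : w ≠ (⟨y', hy'⟩ : (U : Set Y)) := fun h => hne (by rw [h]; rfl)
      obtain ⟨D, hD, hyD, hwD⟩ :=
        exists_isConstructible_mem_notMem (u := (⟨y', hy'⟩ : (U : Set Y))) (u' := w) hne'
      refine hwD (hw D ⟨hD, ?_⟩)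
      rintro z hz
      have : z = (⟨y', hy'⟩ : (U : Set Y)) := Subtype.ext hz
      rw [this]
      exact hyD
    · refine hw ∅ ⟨Topology.IsConstructible.empty, ?_⟩
      rintro z hz
      have hz' : z.1 = y' := hz
      exact hy' (hz' ▸ z.2)

/-- The closure of a pro-constructible subset of a scheme consists of the specializations of its
points. -/
theorem exists_specializes_of_mem_closure {Y : Scheme.{u}} {Z : Set Y}
    (hZ : ProCons.IsProConstructible Z) {y : Y} (hy : y ∈ closure Z) : ∃ z ∈ Z, z ⤳ y := by
  obtain ⟨U, hU, hyU⟩ := exists_affine_nhd y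
  obtain ⟨T, g, hg⟩ := exists_spec_range_eq_inter hZ hU
  have hy' : y ∈ closure (Set.range g.base) := by
    rw [hg, Set.inter_comm]
    exact U.2.inter_closure ⟨hyU, hy⟩
  have hrange : Set.range g.base ⊆ Set.range hU.fromSpec.base := by
    rw [hU.range_fromSpec, hg]
    exact Set.inter_subset_right
  let g' : Spec T ⟶ Spec Γ(Y, U) := IsOpenImmersion.lift hU.fromSpec g hrange
  have hg' : g' ≫ hU.fromSpec = g := IsOpenImmersion.lift_fac _ _ _
  obtain ⟨φ, hφ⟩ := Spec.map_surjective g'
  obtain ⟨p, rfl⟩ : y ∈ Set.range hU.fromSpec.base := by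
    rw [hU.range_fromSpec]
    exact hyU
  have hp : p ∈ closure (Set.range g'.base) := by
    have hemb : Topology.IsOpenEmbedding hU.fromSpec.base := hU.fromSpec.isOpenEmbedding
    rw [hemb.isInducing.closure_eq_preimage_closure_image, ← Set.range_comp]
    change hU.fromSpec.base p ∈ closure (Set.range (g' ≫ hU.fromSpec).base)
    rwa [hg']
  rw [← hφ] at hp
  have hp2 : (p : PrimeSpectrum Γ(Y, U)) ∈ closure (Set.range (PrimeSpectrum.comap φ.hom)) := hp
  rw [PrimeSpectrum.closure_range_comap] at hp2
  have hle : (⊥ : Ideal T).comap φ.hom ≤ (p : PrimeSpectrum Γ(Y, U)).asIdeal := hp2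
  obtain ⟨q, _, hq, hqle⟩ :=
    (p : PrimeSpectrum Γ(Y, U)).asIdeal.exists_ideal_comap_le_prime (⊥ : Ideal T) hle
  let t : Spec T := (⟨q, hq⟩ : PrimeSpectrum T)
  have hspec : g'.base t ⤳ p := by
    rw [← hφ]
    have : @Specializes (PrimeSpectrum Γ(Y, U)) PrimeSpectrum.zariskiTopology
        (PrimeSpectrum.comap φ.hom ⟨q, hq⟩) p := by
      rw [← PrimeSpectrum.le_iff_specializes]
      exact hqle
    exact this
  refine ⟨g.base t, ?_, ?_⟩
  · have : g.base t ∈ Set.range g.base := ⟨t, rfl⟩
    rw [hg] at this
    exact this.1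
  · have := hspec.map hU.fromSpec.base.hom.continuous
    rw [← hg']
    exact this

end Groth.Agent.S14788

namespace Groth.Agent.S14788

/-- (i) ⇔ (iv): a morphism of schemes f : X ⟶ Y has the lifting property for ordered pairs of points if
and only if, for every pro-constructible subset Z ⊆ Y, the image under f of the closure of f⁻¹(Z) is
the closure of Z. (In the published item (iv) the right-hand side is printed as Z itself; the
closure is meant, as the case of a non-closed point shows and as the proof uses.) -/
theorem result {X Y : Scheme.{u}} (f : X ⟶ Y) :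
    Subtr.IsSSubtrusive f ↔
      ∀ Z : Set Y, ProCons.IsProConstructible Z → f '' closure (f ⁻¹' Z) = closure Z := by
  constructor
  · intro hS Z hZ
    apply subset_antisymm
    · calc f '' closure (f ⁻¹' Z) ⊆ closure (f '' (f ⁻¹' Z)) :=
            image_closure_subset_closure_image f.continuous
        _ ⊆ closure Z := closure_mono (Set.image_preimage_subset _ _)
    · intro y hy
      obtain ⟨z, hzZ, hzy⟩ := exists_specializes_of_mem_closure hZ hy
      obtain ⟨x, x', hxx', hx, hx'⟩ := hS hzy
      refine ⟨x, ?_, hx⟩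
      have hx'Z : x' ∈ f ⁻¹' Z := by
        change f x' ∈ Z
        rw [hx']
        exact hzZ
      exact hxx'.mem_closed isClosed_closure (subset_closure hx'Z)
  · intro h y y' hy
    have hZ := isProConstructible_singleton y'
    have hy2 : y ∈ closure ({y'} : Set Y) := by
      rw [← specializes_iff_mem_closure]
      exact hy
    rw [← h _ hZ] at hy2
    obtain ⟨x, hx, hxy⟩ := hy2
    have hpre : ProCons.IsProConstructible (f.base ⁻¹' ({y'} : Set Y)) :=
      Groth.Agent.Lib.Helper16.isProConstructible_preimage f hZ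
    obtain ⟨x', hx', hx'x⟩ := exists_specializes_of_mem_closure hpre hx
    exact ⟨x, x', hx'x, hxy, hx'⟩

end Groth.Agent.S14788
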