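import Groth.Statements.S6023
import Groth.Agent.Lib.Helper33.SectSuppExact

set_option autoImplicit false
universe u
open CategoryTheory CategoryTheory.Limits TopologicalSpace
open LocCohZ

namespace Groth.Agent.S6023

/-- Let F be a flasque abelian sheaf on a topological space X. Then H^i_Z(V, F) = 0 for every locally
closed subset Z = V − W (W ⊆ V opens of X) and every i > 0, and ℋ^i_Z(F) = 0 for every closed subset
Z = X − U and every i > 0. (The sheaf assertion is stated for closed Z only.) -/
theorem result {X : TopCat.{u}} (F : CohTop.Ab X) [TopCat.Sheaf.IsFlasque F] :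
    (∀ (W V : Opens X) (h : W ≤ V) (i : ℕ), 0 < i → Subsingleton (LocCohZ.HZ F i h)) ∧
      ∀ (U : Opens X) (i : ℕ), 0 < i → IsZero ((LocCohZ.HZsh U i).obj F) := by
  exact ⟨fun W V h i hi => Groth.Agent.Lib.Helper33.LocCohSS.subsingleton_HZ_of_isFlasque F h i hi,
    fun U i hi => Groth.Agent.Lib.Helper33.LocCohSS.isZero_HZsh_of_isFlasque U i hi F⟩

end Groth.Agent.S6023
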