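import Groth.Statements.S12708
-- import your own Groth.Agent.* helpers here

set_option autoImplicit false
universe u v
open CategoryTheory
open ArtFun

namespace Groth.Agent.S12708

section aux

variable {Λ : Type u} {k : Type u} [CommRing Λ] [Field k] [Algebra Λ k]
variable (A : Type u) [CommRing A] [Algebra Λ A] [IsLocalRing A] [Algebra A k] [IsScalarTower Λ A k]

include A in
/-- A simple `A`-module has the same `Λ`-length as the residue field. -/
theorem length_simple (hres : Function.Surjective (algebraMap A k))
    (S : Type v) [AddCommGroup S] [Module A S] [Module Λ S] [IsScalarTower Λ A S]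
    [IsSimpleModule A S] : Module.length Λ S = Module.length Λ k := by
  obtain ⟨m, hm, ⟨e⟩⟩ := isSimpleModule_iff_quot_maximal.mp (inferInstance : IsSimpleModule A S)
  have hm' : m = IsLocalRing.maximalIdeal A := IsLocalRing.eq_maximalIdeal hm
  have hker : RingHom.ker (algebraMap A k) = IsLocalRing.maximalIdeal A := by
    apply IsLocalRing.eq_maximalIdeal
    exact RingHom.ker_isMaximal_of_surjective _ hres
  -- k ≃ₗ[A] A ⧸ ker
  let f : A →ₗ[A] k := Algebra.linearMap A k
  have hf : Function.Surjective f := hres
  have hkerf : LinearMap.ker f = m := by
    rw [hm', ← hker]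
    ext a
    simp [f, RingHom.mem_ker]
  let e2 : (A ⧸ m) ≃ₗ[A] k := (Submodule.quotEquivOfEq _ _ hkerf.symm).trans (f.quotKerEquivOfSurjective hf)
  let e3 : S ≃ₗ[A] k := e.trans e2
  exact (e3.restrictScalars Λ).length_eq

end aux

/-- For Λ Noetherian with a finite map to a field k, A a local Λ-algebra whose residue field is k
(through a surjective Λ-algebra map A → k) and M an A-module, the length of M over Λ equals the
degree of k over the image of Λ times the length of M over A. The degree is written as the length of
k as a Λ-module, which is the same number; lengths are in ℕ∞. -/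
theorem result {Λ : Type u} {k : Type u} [CommRing Λ] [Field k] [Algebra Λ k]
    [IsNoetherianRing Λ] [Module.Finite Λ k]
    (A : Type u) [CommRing A] [Algebra Λ A] [IsLocalRing A] [Algebra A k] [IsScalarTower Λ A k]
    (hres : Function.Surjective (algebraMap A k))
    (M : Type v) [AddCommGroup M] [Module A M] [Module Λ M] [IsScalarTower Λ A M] :
    Module.length Λ k * Module.length A M = Module.length Λ M := by
  have hk0 : Module.length Λ k ≠ 0 := by
    rw [Ne, Module.length_eq_zero_iff]
    exact not_subsingleton k
  by_cases htop : Module.length A M = ⊤
  · have h1 := Submodule.length_le_length_restrictScalars Λ (⊤ : Submodule A M)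
    rw [Module.length_top, htop, top_le_iff] at h1
    have h2 : Module.length Λ ((⊤ : Submodule A M).restrictScalars Λ) = Module.length Λ M := by
      rw [Submodule.restrictScalars_top, Module.length_top]
    rw [htop, ENat.mul_top hk0, ← h2, h1]
  · -- finite length: induction
    obtain ⟨n, hn⟩ := ENat.ne_top_iff_exists.mp htop
    induction n generalizing M with
    | zero =>
      have : Subsingleton M := Module.length_eq_zero_iff.mp hn.symm
      rw [← hn]
      simp [Module.length_eq_zero]
    | succ n ih =>
      have hfl : IsFiniteLength A M := Module.length_ne_top_iff.mp htop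
      obtain ⟨hNoeth, hArt⟩ := isFiniteLength_iff_isNoetherian_isArtinian.mp hfl
      have hnt : Nontrivial M := by
        rw [← Module.length_pos_iff (R := A), ← hn]
        simp
      obtain ⟨S, hS⟩ := IsAtomic.exists_atom (Submodule A M)
      have hSs : IsSimpleModule A S := isSimpleModule_iff_isAtom.mpr hS
      have hadd := Module.length_eq_add_of_exact S.subtype S.mkQ (Submodule.subtype_injective _)
        (Submodule.mkQ_surjective _) (LinearMap.exact_subtype_mkQ S)
      rw [Module.length_eq_one (R := A) (M := S)] at hadd
      have hq : (n : ℕ∞) = Module.length A (M ⧸ S) := by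
        rw [hadd] at hn
        have : ((n + 1 : ℕ) : ℕ∞) = 1 + (n : ℕ∞) := by push_cast; ring
        rw [this] at hn
        exact ENat.add_right_injective_of_ne_top (n := 1) (by simp) hn
      have hqtop : Module.length A (M ⧸ S) ≠ ⊤ := by rw [← hq]; simp
      have ihq := ih (M ⧸ S) hqtop hq
      have haddΛ := Module.length_eq_add_of_exact (S.subtype.restrictScalars Λ)
        (S.mkQ.restrictScalars Λ) (Submodule.subtype_injective _)
        (Submodule.mkQ_surjective _) (LinearMap.exact_subtype_mkQ S)
      rw [haddΛ, ← ihq, length_simple A hres S, hadd, mul_add, mul_one]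

end Groth.Agent.S12708
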