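import Groth.Statements.S4805
import Groth.Agent.Lib.Helper71.LimLocalize

set_option autoImplicit false
universe u
open CategoryTheory AlgebraicGeometry
open Lim8

namespace Groth.Agent.S4805

-- HELPERS BEGIN
open Groth.Agent.Lib.Helper13.LimDescent

set_option backward.isDefEq.respectTransparency false
-- HELPERS END


/-- Let S = lim S_i be a cofiltered limit of schemes with affine transition maps and S_{i₀} a
quasi-compact stage; let Y₀ ⟶ S_{i₀} be of finite type and quasi-separated, X₀ ⟶ S_{i₀} of finite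
presentation (locally of finite presentation, quasi-compact and quasi-separated), f₀ : X₀ ⟶ Y₀ an
S_{i₀}-morphism, and f : X ⟶ Y its base change along S ⟶ S_{i₀} (base changes are expressed by
pullback squares). If f is an isomorphism, then for some index j over i₀ the base change f_j : X_j ⟶
Y_j of f₀ along S_j ⟶ S_{i₀} is an isomorphism. (Note the hypotheses: the stage S_{i₀} is only
assumed quasi-compact, and Y₀ only of finite type and quasi-separated over it.) -/
theorem result {I : Type u} [SmallCategory I] [IsCofiltered I]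
    (D : I ⥤ Scheme.{u}) (c : Limits.Cone D) (hc : Limits.IsLimit c)
    [∀ (i j : I) (f : i ⟶ j), IsAffineHom (D.map f)] (i₀ : I) [CompactSpace (D.obj i₀)]
    {X₀ Y₀ : Scheme.{u}} (f₀ : X₀ ⟶ Y₀) (g₀ : Y₀ ⟶ D.obj i₀)
    [LocallyOfFiniteType g₀] [QuasiCompact g₀] [QuasiSeparated g₀]
    [LocallyOfFinitePresentation (f₀ ≫ g₀)] [QuasiCompact (f₀ ≫ g₀)] [QuasiSeparated (f₀ ≫ g₀)]
    {X Y : Scheme.{u}} (f : X ⟶ Y) (g : Y ⟶ c.pt) (qY : Y ⟶ Y₀) (qX : X ⟶ X₀)
    (hY : IsPullback qY g g₀ (c.π.app i₀)) (hX : IsPullback qX f f₀ qY) [IsIso f] :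
    ∃ (j : I) (φ : j ⟶ i₀) (Xj Yj : Scheme.{u}) (fj : Xj ⟶ Yj) (gj : Yj ⟶ D.obj j) (pY : Yj ⟶ Y₀)
      (pX : Xj ⟶ X₀), IsPullback pY gj g₀ (D.map φ) ∧ IsPullback pX fj f₀ pY ∧ IsIso fj := by
  have inst : ∀ {i j : I} (f : i ⟶ j), IsAffineHom (D.map f) := fun f => inferInstance
  have h1 : LocallyOfFinitePresentation f₀ :=
    Groth.Agent.Lib.Helper13.LimDescent.locallyOfFinitePresentation_of_comp f₀ g₀
      inferInstance inferInstance
  have h2 : QuasiCompact f₀ := QuasiCompact.of_comp f₀ g₀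
  have h3 : QuasiSeparated f₀ := QuasiSeparated.of_comp f₀ g₀
  have hY₀ : CompactSpace Y₀ := QuasiCompact.compactSpace_of_compactSpace g₀
  have key := twoStep D c i₀ f₀ g₀ f g qY qX hY hX (MorphismProperty.isomorphisms Scheme.{u})
    (by rw [MorphismProperty.isomorphisms.iff]; infer_instance) ?_
  · obtain ⟨j, φ, Xj, Yj, fj, gj, pY, pX, hp1, hp2, hp3⟩ := key
    exact ⟨j, φ, Xj, Yj, fj, gj, pY, pX, hp1, hp2, (MorphismProperty.isomorphisms.iff _).mp hp3⟩
  · intro f₀' hf₀' hP
    have : LocallyOfFinitePresentation f₀' := by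
      rw [hf₀']; exact (liftTop_prop_iff D i₀ f₀ g₀ @LocallyOfFinitePresentation).mpr h1
    have : QuasiCompact f₀' := by
      rw [hf₀']; exact (liftTop_prop_iff D i₀ f₀ g₀ @QuasiCompact).mpr h2
    have : QuasiSeparated f₀' := by
      rw [hf₀']; exact (liftTop_prop_iff D i₀ f₀ g₀ @QuasiSeparated).mpr h3
    have : CompactSpace ((sys D i₀ g₀).obj (top i₀)) := inferInstance
    refine Groth.Agent.Lib.Helper71.LimLocalize.descend_of_affine (sys D i₀ g₀)
      (sysCone D c i₀ g₀) (top i₀) (MorphismProperty.isomorphisms Scheme.{u})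
      (isLimitSysCone D c i₀ g₀ hc) ?_ f₀' hP
    intro J' _ _ E' cE' hcE' hE' hA j₀' X₀' _ _ f₀'' _ h
    obtain ⟨k, hk⟩ := exists_isIso_pullback_fst E' cE' j₀' hcE' f₀''
      ((MorphismProperty.isomorphisms.iff _).mp h)
    exact ⟨k, (MorphismProperty.isomorphisms.iff _).mpr hk⟩

end Groth.Agent.S4805
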