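import Mathlib
import Groth.Statements.S4795
import Groth.Agent.S9218
import Groth.Agent.S4805
import Groth.Agent.Lib.Helper23.IsoDescent

set_option autoImplicit false
universe u
open CategoryTheory AlgebraicGeometry
open Lim8
open Groth.Agent.Lib.Helper23

namespace Groth.Agent.S4795

/-- Let S = lim S_i be a cofiltered limit of schemes with affine transition maps and S_{i₀} a
quasi-compact quasi-separated stage; let X₀ and Y₀ be schemes of finite presentation over S_{i₀},
and let X, Y be their base changes along S ⟶ S_{i₀} (base changes are expressed by pullback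
squares). Then X and Y are isomorphic over S if and only if, for some index j over i₀, the base
changes X_j and Y_j of X₀ and Y₀ along S_j ⟶ S_{i₀} are isomorphic over S_j. -/
theorem result {I : Type u} [SmallCategory I] [IsCofiltered I]
    (D : I ⥤ Scheme.{u}) (c : Limits.Cone D) (hc : Limits.IsLimit c)
    [∀ (i j : I) (f : i ⟶ j), IsAffineHom (D.map f)] (i₀ : I)
    [CompactSpace (D.obj i₀)] [QuasiSeparatedSpace (D.obj i₀)]
    {X₀ Y₀ : Scheme.{u}} (a₀ : X₀ ⟶ D.obj i₀) (b₀ : Y₀ ⟶ D.obj i₀)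
    [LocallyOfFinitePresentation a₀] [QuasiCompact a₀] [QuasiSeparated a₀]
    [LocallyOfFinitePresentation b₀] [QuasiCompact b₀] [QuasiSeparated b₀]
    {X Y : Scheme.{u}} (a : X ⟶ c.pt) (b : Y ⟶ c.pt) (qX : X ⟶ X₀) (qY : Y ⟶ Y₀)
    (hX : IsPullback qX a a₀ (c.π.app i₀)) (hY : IsPullback qY b b₀ (c.π.app i₀)) :
    (∃ e : X ≅ Y, e.hom ≫ b = a) ↔
      ∃ (j : I) (φ : j ⟶ i₀) (Xj Yj : Scheme.{u}) (aj : Xj ⟶ D.obj j) (bj : Yj ⟶ D.obj j)
        (pX : Xj ⟶ X₀) (pY : Yj ⟶ Y₀), IsPullback pX aj a₀ (D.map φ) ∧ IsPullback pY bj b₀ (D.map φ) ∧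
        ∃ e : Xj ≅ Yj, e.hom ≫ bj = aj := by
  have inst : ∀ {i j : I} (f : i ⟶ j), IsAffineHom (D.map f) := fun f => inferInstance
  constructor
  · rintro ⟨e, he⟩
    have hX₀c : CompactSpace X₀ := QuasiCompact.compactSpace_of_compactSpace a₀
    have hX₀s : QuasiSeparatedSpace X₀ := quasiSeparatedSpace_of_quasiSeparated a₀
    have hY₀c : CompactSpace Y₀ := QuasiCompact.compactSpace_of_compactSpace b₀
    have hY₀s : QuasiSeparatedSpace Y₀ := quasiSeparatedSpace_of_quasiSeparated b₀
    obtain ⟨j, φ, fj, sX, sY, h1, h2, h3, h4, h5, h6⟩ :=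
      Groth.Agent.S9218.result D c hc i₀ a₀ b₀ qX a hX qY b hY e.hom he
    have hw : c.π.app j ≫ D.map φ = c.π.app i₀ := c.w φ
    have hXS : IsPullback sX a (Limits.pullback.snd a₀ (D.map φ)) (c.π.app j) := by
      refine IsPullback.of_right ?_ h3 (IsPullback.of_hasPullback a₀ (D.map φ))
      rw [h2, hw]
      exact hX
    have hYS : IsPullback sY b (Limits.pullback.snd b₀ (D.map φ)) (c.π.app j) := by
      refine IsPullback.of_right ?_ h5 (IsPullback.of_hasPullback b₀ (D.map φ))
      rw [h4, hw]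
      exact hY
    have hTop : IsPullback sX e.hom fj sY := by
      refine IsPullback.of_bot ?_ h6 hYS
      rw [he, h1]
      exact hXS
    have hjc : CompactSpace (D.obj j) := QuasiCompact.compactSpace_of_compactSpace (D.map φ)
    have i1 : LocallyOfFiniteType (Limits.pullback.snd b₀ (D.map φ)) :=
      MorphismProperty.pullback_snd _ _ inferInstance
    have i2 : QuasiCompact (Limits.pullback.snd b₀ (D.map φ)) :=
      MorphismProperty.pullback_snd _ _ inferInstance
    have i3 : QuasiSeparated (Limits.pullback.snd b₀ (D.map φ)) :=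
      MorphismProperty.pullback_snd _ _ inferInstance
    have i4 : LocallyOfFinitePresentation (fj ≫ Limits.pullback.snd b₀ (D.map φ)) := by
      rw [h1]; exact MorphismProperty.pullback_snd _ _ inferInstance
    have i5 : QuasiCompact (fj ≫ Limits.pullback.snd b₀ (D.map φ)) := by
      rw [h1]; exact MorphismProperty.pullback_snd _ _ inferInstance
    have i6 : QuasiSeparated (fj ≫ Limits.pullback.snd b₀ (D.map φ)) := by
      rw [h1]; exact MorphismProperty.pullback_snd _ _ inferInstance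
    have i7 : IsIso e.hom := inferInstance
    obtain ⟨j', φ', Xj', Yj', fj', gj', pY, pX, hYj', hXj', hiso⟩ :=
      Groth.Agent.S4805.result D c hc j fj (Limits.pullback.snd b₀ (D.map φ)) e.hom b sY sX hYS hTop
    have hYfin : IsPullback (pY ≫ Limits.pullback.fst b₀ (D.map φ)) gj' b₀ (D.map (φ' ≫ φ)) := by
      rw [D.map_comp]
      exact hYj'.paste_horiz (IsPullback.of_hasPullback b₀ (D.map φ))
    have hXmid : IsPullback pX (fj' ≫ gj') (Limits.pullback.snd a₀ (D.map φ)) (D.map φ') := by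
      have := hXj'.paste_vert hYj'
      rwa [h1] at this
    have hXfin : IsPullback (pX ≫ Limits.pullback.fst a₀ (D.map φ)) (fj' ≫ gj') a₀
        (D.map (φ' ≫ φ)) := by
      rw [D.map_comp]
      exact hXmid.paste_horiz (IsPullback.of_hasPullback a₀ (D.map φ))
    exact ⟨j', φ' ≫ φ, Xj', Yj', fj' ≫ gj', gj', _, _, hXfin, hYfin, asIso fj', rfl⟩
  · rintro ⟨j, φ, Xj, Yj, aj, bj, pX, pY, hXj, hYj, e, he⟩
    obtain ⟨sX, -, -, hXS⟩ := exists_isPullback_of_comp hX hXj (c.π.app j) (c.w φ)
    obtain ⟨sY, -, -, hYS⟩ := exists_isPullback_of_comp hY hYj (c.π.app j) (c.w φ)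
    obtain ⟨e', he', -⟩ := exists_iso_of_isPullback hXS hYS e he
    exact ⟨e', he'⟩

end Groth.Agent.S4795
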