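import Groth.Statements.S6900
import Groth.Agent.H76.MilnorGlueRing
import Groth.Agent.S14952

set_option autoImplicit false
universe u
open TensorProduct
open EtAlg

namespace Groth.Agent.S6900

/-- Let `B' = B ×_A A'` be a fibre square of rings with `A' → A` surjective. Let `D` be a `B`-algebra
and `C'` an `A'`-algebra with a common base change `C = D ⊗_B A = C' ⊗_{A'} A`, and let `D' = D ×_C
C'` be the fibre product ring with its `B'`-algebra structure. Then `B' → D'` is of finite type
(resp. flat, resp. flat and of finite presentation, resp. smooth, resp. étale) if and only if `B →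
D` and `A' → C'` both are. -/
theorem result (B' B A' A : Type u) [CommRing B'] [CommRing B] [CommRing A'] [CommRing A]
    [Algebra B' B] [Algebra B' A'] [Algebra B A] [Algebra A' A] [Algebra B' A] [IsScalarTower B' B A] [IsScalarTower B' A' A]
    (hsq : EtMil.IsFibreSquare B' B A' A)
    (D' D C' C : Type u) [CommRing D'] [CommRing D] [CommRing C'] [CommRing C]
    [Algebra D' D] [Algebra D' C'] [Algebra D C] [Algebra C' C] [Algebra D' C] [IsScalarTower D' D C] [IsScalarTower D' C' C]
    (hsq' : EtMil.IsFibreSquare D' D C' C)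
    [Algebra B' D'] [Algebra B D] [Algebra A' C'] [Algebra A C]
    [Algebra B' D] [IsScalarTower B' B D] [IsScalarTower B' D' D]
    [Algebra B' C'] [IsScalarTower B' A' C'] [IsScalarTower B' D' C']
    [Algebra B C] [IsScalarTower B A C] [IsScalarTower B D C]
    [Algebra A' C] [IsScalarTower A' A C] [IsScalarTower A' C' C]
    [Algebra.IsPushout B D A C] [Algebra.IsPushout A' C' A C] :
    (Algebra.FiniteType B' D' ↔ Algebra.FiniteType B D ∧ Algebra.FiniteType A' C') ∧
    (Module.Flat B' D' ↔ Module.Flat B D ∧ Module.Flat A' C') ∧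
    (Module.Flat B' D' ∧ Algebra.FinitePresentation B' D' ↔
      (Module.Flat B D ∧ Algebra.FinitePresentation B D) ∧ (Module.Flat A' C' ∧ Algebra.FinitePresentation A' C')) ∧
    (Algebra.Smooth B' D' ↔ Algebra.Smooth B D ∧ Algebra.Smooth A' C') ∧
    (Algebra.Etale B' D' ↔ Algebra.Etale B D ∧ Algebra.Etale A' C') := by
  classical
  -- local algebra structure `B' → C`
  letI : Algebra B' C := ((algebraMap D' C).comp (algebraMap B' D')).toAlgebra
  haveI : IsScalarTower B' D' C := IsScalarTower.of_algebraMap_eq fun _ => rfl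
  haveI : IsScalarTower B' D C := IsScalarTower.of_algebraMap_eq fun x => by
    change algebraMap D' C (algebraMap B' D' x) = _
    rw [IsScalarTower.algebraMap_apply D' D C, ← IsScalarTower.algebraMap_apply B' D' D]
  haveI : IsScalarTower B' A C := IsScalarTower.of_algebraMap_eq fun x => by
    rw [IsScalarTower.algebraMap_apply B' D C, IsScalarTower.algebraMap_apply B' B D,
      ← IsScalarTower.algebraMap_apply B D C, IsScalarTower.algebraMap_apply B A C,
      ← IsScalarTower.algebraMap_apply B' B A]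
  haveI P1 : Algebra.IsPushout B' B D' D :=
    Groth.Agent.H76.MilnorGlueRing.isPushout_left (A' := A') (A := A) (C' := C') (C := C) hsq hsq'
  haveI P2 : Algebra.IsPushout B' A' D' C' :=
    Groth.Agent.H76.MilnorGlueRing.isPushout_right (B := B) (A := A) (D := D) (C := C) hsq hsq'
  let e1 : B ⊗[B'] D' ≃ₐ[B] D := Algebra.IsPushout.equiv B' B D' D
  let e2 : A' ⊗[B'] D' ≃ₐ[A'] C' := Algebra.IsPushout.equiv B' A' D' C'
  -- flatness
  have flat_fwd : Module.Flat B' D' → Module.Flat B D ∧ Module.Flat A' C' := fun h =>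
    ⟨Module.Flat.of_linearEquiv e1.symm.toLinearEquiv,
      Module.Flat.of_linearEquiv e2.symm.toLinearEquiv⟩
  have flat_bwd : Module.Flat B D → Module.Flat A' C' → Module.Flat B' D' := fun h1 h2 => by
    haveI : Module.Flat B (B ⊗[B'] D') := Module.Flat.of_linearEquiv e1.toLinearEquiv
    haveI : Module.Flat A' (A' ⊗[B'] D') := Module.Flat.of_linearEquiv e2.toLinearEquiv
    exact Groth.Agent.S14952.result B' B A' A hsq D'
  refine ⟨⟨fun h => ⟨?_, ?_⟩, fun ⟨h1, h2⟩ => ?_⟩, ⟨flat_fwd, fun ⟨h1, h2⟩ => flat_bwd h1 h2⟩,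
    ⟨fun ⟨hf, hp⟩ => ⟨⟨(flat_fwd hf).1, ?_⟩, ⟨(flat_fwd hf).2, ?_⟩⟩,
      fun ⟨⟨hf1, hp1⟩, ⟨hf2, hp2⟩⟩ => ⟨flat_bwd hf1 hf2, ?_⟩⟩,
    ⟨fun h => ⟨?_, ?_⟩, fun ⟨h1, h2⟩ => ?_⟩, ⟨fun h => ⟨?_, ?_⟩, fun ⟨h1, h2⟩ => ?_⟩⟩
  · exact Algebra.FiniteType.equiv inferInstance e1
  · exact Algebra.FiniteType.equiv inferInstance e2
  · haveI : Algebra.FiniteType B (B ⊗[B'] D') := Algebra.FiniteType.equiv h1 e1.symm
    haveI : Algebra.FiniteType A' (A' ⊗[B'] D') := Algebra.FiniteType.equiv h2 e2.symm
    exact Groth.Agent.H76.MilnorEtale.finiteType_of_baseChangePair hsq D'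
  · exact Algebra.FinitePresentation.equiv e1
  · exact Algebra.FinitePresentation.equiv e2
  · haveI : Module.Flat B' D' := flat_bwd hf1 hf2
    haveI : Algebra.FinitePresentation B (B ⊗[B'] D') := Algebra.FinitePresentation.equiv e1.symm
    haveI : Algebra.FinitePresentation A' (A' ⊗[B'] D') := Algebra.FinitePresentation.equiv e2.symm
    exact Groth.Agent.H76.MilnorEtale.finitePresentation_of_baseChangePair hsq D'
  · exact Algebra.Smooth.of_equiv e1
  · exact Algebra.Smooth.of_equiv e2
  · haveI : Algebra.Smooth B (B ⊗[B'] D') := Algebra.Smooth.of_equiv e1.symm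
    haveI : Algebra.Smooth A' (A' ⊗[B'] D') := Algebra.Smooth.of_equiv e2.symm
    exact Groth.Agent.H76.MilnorGlueRing.smooth_of_baseChangePair hsq D'
  · exact Algebra.Etale.of_equiv e1
  · exact Algebra.Etale.of_equiv e2
  · haveI : Algebra.Etale B (B ⊗[B'] D') := Algebra.Etale.of_equiv e1.symm
    haveI : Algebra.Etale A' (A' ⊗[B'] D') := Algebra.Etale.of_equiv e2.symm
    exact Groth.Agent.H76.MilnorEtale.etale_of_baseChangePair hsq D'

end Groth.Agent.S6900
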