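import Groth.Statements.S17079
import Mathlib.CategoryTheory.Comma.Over.Pullback

set_option autoImplicit false
universe u
open CategoryTheory CategoryTheory.Limits AlgebraicGeometry
open MorSch

namespace Groth.Agent.S17079

section general

universe v₁ u₁ u₂
variable {C : Type u₁} [Category.{v₁} C] {D : Type u₂} [Category.{v₁} D]

/-- If `F` is represented by `M` and `L ⊣ R`, then `L.op ⋙ F` is represented by `R.obj M`. -/
def representableByOfAdj {L : C ⥤ D} {R : D ⥤ C} (adj : L ⊣ R) {F : Dᵒᵖ ⥤ Type v₁} {M : D}
    (e : F.RepresentableBy M) : (L.op ⋙ F).RepresentableBy (R.obj M) where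
  homEquiv {T} := (adj.homEquiv T M).symm.trans e.homEquiv
  homEquiv_comp f g := by
    simp only [Equiv.trans_apply, Functor.comp_map, Functor.op_map]
    rw [adj.homEquiv_naturality_left_symm, e.homEquiv_comp]
    rfl

end general

section

variable {X Y S S' : Scheme.{u}} (gX : X ⟶ S) (gY : Y ⟶ S) (h : S' ⟶ S)

/-- The comparison `T' ×_{S'} (X ×_S S') ≅ T' ×_S X`, as an isomorphism over `S`. -/
noncomputable def gammaIso (T' : Over S') :
    (Over.map h).obj ((Over.map (pullback.snd gX h)).obj
      ((Over.pullback (pullback.snd gX h)).obj T')) ≅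
    (Over.map gX).obj ((Over.pullback gX).obj ((Over.map h).obj T')) := by
  have h1 : IsPullback (pullback.snd T'.hom (pullback.snd gX h))
      (pullback.fst T'.hom (pullback.snd gX h)) (pullback.snd gX h) T'.hom :=
    (IsPullback.of_hasPullback T'.hom (pullback.snd gX h)).flip
  have h2 : IsPullback (pullback.fst gX h) (pullback.snd gX h) gX h :=
    IsPullback.of_hasPullback gX h
  have h3 : IsPullback (pullback.fst T'.hom (pullback.snd gX h))
      (pullback.snd T'.hom (pullback.snd gX h) ≫ pullback.fst gX h) (T'.hom ≫ h) gX :=
    (h1.paste_horiz h2).flip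
  refine Over.isoMk h3.isoPullback ?_
  change h3.isoPullback.hom ≫ pullback.snd (T'.hom ≫ h) gX ≫ gX =
    (pullback.snd T'.hom (pullback.snd gX h) ≫ pullback.snd gX h) ≫ h
  rw [← Category.assoc, h3.isoPullback_hom_snd, Category.assoc, Category.assoc,
    pullback.condition]

@[reassoc]
theorem gammaIso_hom_left_fst (T' : Over S') :
    (gammaIso gX h T').hom.left ≫ pullback.fst (T'.hom ≫ h) gX =
      pullback.fst T'.hom (pullback.snd gX h) :=
  IsPullback.isoPullback_hom_fst _

@[reassoc]
theorem gammaIso_hom_left_snd (T' : Over S') :
    (gammaIso gX h T').hom.left ≫ pullback.snd (T'.hom ≫ h) gX =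
      pullback.snd T'.hom (pullback.snd gX h) ≫ pullback.fst gX h :=
  IsPullback.isoPullback_hom_snd _

@[reassoc]
theorem gammaIso_hom_left_fst' (T' : Over S') :
    (gammaIso gX h T').hom.left ≫ pullback.fst ((Over.map h).obj T').hom gX =
      pullback.fst T'.hom (pullback.snd gX h) :=
  IsPullback.isoPullback_hom_fst _

@[reassoc]
theorem gammaIso_hom_left_snd' (T' : Over S') :
    (gammaIso gX h T').hom.left ≫ pullback.snd ((Over.map h).obj T').hom gX =
      pullback.snd T'.hom (pullback.snd gX h) ≫ pullback.fst gX h :=
  IsPullback.isoPullback_hom_snd _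

theorem gammaIso_naturality {T'' T' : Over S'} (f : T'' ⟶ T') :
    (Over.map h).map ((Over.map (pullback.snd gX h)).map
        ((Over.pullback (pullback.snd gX h)).map f)) ≫ (gammaIso gX h T').hom =
      (gammaIso gX h T'').hom ≫
        (Over.map gX).map ((Over.pullback gX).map ((Over.map h).map f)) := by
  apply Over.OverMorphism.ext
  simp only [Over.comp_left, Over.map_map_left, Over.pullback_map_left]
  apply pullback.hom_ext
  · rw [Category.assoc, Category.assoc, gammaIso_hom_left_fst', pullback.lift_fst,
      pullback.lift_fst, gammaIso_hom_left_fst'_assoc]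
  · rw [Category.assoc, Category.assoc, gammaIso_hom_left_snd', pullback.lift_snd_assoc,
      pullback.lift_snd, gammaIso_hom_left_snd']

end


/-- Let gX : X → S and gY : Y → S be morphisms and suppose the functor Mor_S(X, Y) — sending an S-scheme
T to the set of S-morphisms T ×_S X → Y, with base change as transition maps — is represented by an
S-scheme M. Then for every morphism h : S' → S the functor Mor_{S'}(X ×_S S', Y ×_S S') on
S'-schemes is represented by M ×_S S'. (The published statement assumes X and Y projective over S
with X flat and S, S' locally Noetherian; this row assumes only that the functor is represented by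
M. Only the existence of a representing structure on M ×_S S' is asserted, not its compatibility
with the one on M.) -/
theorem result
    {X Y S S' : Scheme.{u}} (gX : X ⟶ S) (gY : Y ⟶ S) (h : S' ⟶ S)
    (M : Over S) (e : (Flatn.morS gX gY).RepresentableBy M) :
    Nonempty ((Flatn.morS (pullback.snd gX h) (pullback.snd gY h)).RepresentableBy
      (Over.mk (pullback.snd M.hom h))) := by
  let adj := Over.mapPullbackAdj h
  have e1 : ((Over.map h).op ⋙ Flatn.morS gX gY).RepresentableBy ((Over.pullback h).obj M) :=
    representableByOfAdj adj e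
  let θ : ∀ T' : Over S', ((Over.map h).op ⋙ Flatn.morS gX gY).obj (Opposite.op T') ≃
      (Flatn.morS (pullback.snd gX h) (pullback.snd gY h)).obj (Opposite.op T') := fun T' =>
    { toFun := fun (β : (Over.map gX).obj ((Over.pullback gX).obj ((Over.map h).obj T')) ⟶
          Over.mk gY) => adj.homEquiv _ (Over.mk gY) ((gammaIso gX h T').hom ≫ β)
      invFun := fun (α : (Over.map (pullback.snd gX h)).obj
          ((Over.pullback (pullback.snd gX h)).obj T') ⟶ (Over.pullback h).obj (Over.mk gY)) =>
        (gammaIso gX h T').inv ≫ (adj.homEquiv _ (Over.mk gY)).symm α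
      left_inv := fun (β : (Over.map gX).obj ((Over.pullback gX).obj ((Over.map h).obj T')) ⟶
          Over.mk gY) => by simp <;> rfl
      right_inv := fun (α : (Over.map (pullback.snd gX h)).obj
          ((Over.pullback (pullback.snd gX h)).obj T') ⟶ (Over.pullback h).obj (Over.mk gY)) => by
        simp <;> rfl }
  let iso : (Over.map h).op ⋙ Flatn.morS gX gY ≅
      Flatn.morS (pullback.snd gX h) (pullback.snd gY h) :=
    NatIso.ofComponents (fun T' => (θ T'.unop).toIso) (by
      intro A B f
      ext β
      change adj.homEquiv _ (Over.mk gY) ((gammaIso gX h B.unop).hom ≫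
          ((Over.map gX).map ((Over.pullback gX).map ((Over.map h).map f.unop)) ≫ β)) =
        (Over.map (pullback.snd gX h)).map ((Over.pullback (pullback.snd gX h)).map f.unop) ≫
          adj.homEquiv _ (Over.mk gY) ((gammaIso gX h A.unop).hom ≫ β)
      exact ((congrArg (adj.homEquiv _ (Over.mk gY))
        ((Category.assoc _ _ _).symm.trans ((congrArg (· ≫ β)
          (gammaIso_naturality gX h f.unop).symm).trans (Category.assoc _ _ _)))).trans
        (adj.homEquiv_naturality_left _ _)))
  exact ⟨e1.ofIso iso⟩

end Groth.Agent.S17079
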