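import Groth.Statements.S12716
import Groth.Agent.Lib.Helper65.CRingDer

set_option autoImplicit false
universe u v
open CategoryTheory
open ArtFun

namespace Groth.Agent.S12716

/-- Let f : R → S be a morphism of complete local Noetherian Λ-algebras with residue field k (Λ
Noetherian, Λ → k finite). If the restriction map Der_Λ(S, k) → Der_Λ(R, k) is injective — two
Λ-derivations S → k that agree after composing with f are equal — then f is surjective. -/
theorem result {Λ : Type u} {k : Type u} [CommRing Λ] [Field k] [Algebra Λ k]
    [IsNoetherianRing Λ] [Module.Finite Λ k]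
    (R : ArtFun.CRing Λ k)
    (S : Type u) [CommRing S] [Algebra Λ S] [IsLocalRing S] [IsNoetherianRing S]
    [IsAdicComplete (IsLocalRing.maximalIdeal S) S] [Algebra S k] [IsScalarTower Λ S k]
    (hres : Function.Surjective (algebraMap S k))
    (f : R.carrier →ₐ[Λ] S) (hf : (IsScalarTower.toAlgHom Λ S k).comp f = R.res)
    (hinj : ∀ D₁ D₂ : Derivation Λ S k, (∀ r : R.carrier, D₁ (f r) = D₂ (f r)) → D₁ = D₂) :
    Function.Surjective f := by
  open Groth.Agent.Lib.Helper65 in
  have hf' : ∀ r, algebraMap S k (f r) = R.res r := fun r =>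
    congrArg (fun t : R.carrier →ₐ[Λ] k => t r) hf
  have hker : RingHom.ker R.res = IsLocalRing.maximalIdeal R.carrier := by
    ext a
    rw [RingHom.mem_ker, CRing.mem_maximalIdeal_iff]
  let S' : CRing Λ k :=
    { carrier := S
      res := IsScalarTower.toAlgHom Λ S k
      res_surjective := hres
      isAdicComplete := inferInstance }
  refine cring_surjective_of_cotangent R S' f hf ?_
  by_contra hne
  have hne' : Ideal.map f (RingHom.ker R.res) ⊔ IsLocalRing.maximalIdeal S ^ 2 ≠ IsLocalRing.maximalIdeal S := by
    rw [hker]; exact hne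
  obtain ⟨D, hD0, hDne⟩ := exists_derivation_of_cotangent_ne R.res R.res_surjective hres f hf' hne'
  apply hDne
  apply hinj D 0
  intro r
  rw [hD0 r]
  rfl

end Groth.Agent.S12716
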