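import Groth.Statements.S12720
import Groth.Agent.Lib.Helper65.CRingLift

set_option autoImplicit false
universe u v
open CategoryTheory
open ArtFun

namespace Groth.Agent.S12720

/-- For functors, let F be a functor on Artinian local Λ-algebras with residue field k with F(k) a
point, and ξ a versal family of F over a complete local Noetherian R with residue field k. Then
every formal element η of F over a complete local Noetherian S with residue field k is induced from
ξ: there is a morphism g : R → S (over Λ, compatible with the augmentations) such that the family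
obtained from ξ by composing with g has formal element η. -/
theorem result {Λ : Type u} {k : Type u} [CommRing Λ] [Field k] [Algebra Λ k]
    [IsNoetherianRing Λ] [Module.Finite Λ k]
    {F : ArtFun.Art Λ k ⥤ Type v} (h0 : ArtFun.H0 F)
    (R : ArtFun.CRing Λ k) (ξ : ArtFun.Family R.carrier R.res F) (hξ : ArtFun.IsVersal ξ)
    (S : ArtFun.CRing Λ k) (η : ArtFun.FormalElt F S) :
    ∃ (g : R.carrier →ₐ[Λ] S.carrier) (hg : S.res.comp g = R.res), (ξ.along g hg).toFormalElt = η := by
  classical
  open Groth.Agent.Lib.Helper65 in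
  -- base step
  have base : ∃ ψ₀ : HomSet R.carrier R.res (S.trunc 0), ξ.app _ ψ₀ = η.elt 0 := by
    let φ₀ : HomSet R.carrier R.res (Art.base Λ k) := ⟨R.res, AlgHom.id_comp _⟩
    have hsurj : Function.Surjective (Art.toBase (S.trunc 0)) := (S.trunc 0).res_surjective
    haveI := h0.2
    obtain ⟨ψ, -, hψ⟩ := hξ (Art.toBase (S.trunc 0)) hsurj φ₀ (η.elt 0) (Subsingleton.elim _ _)
    exact ⟨ψ, hψ⟩
  have step : ∀ (n : ℕ) (ψ : HomSet R.carrier R.res (S.trunc n)), ξ.app _ ψ = η.elt n →
      ∃ ψ' : HomSet R.carrier R.res (S.trunc (n + 1)),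
        HomSet.map (S.truncMap n) ψ' = ψ ∧ ξ.app _ ψ' = η.elt (n + 1) := by
    intro n ψ hψ
    exact hξ (S.truncMap n) (cring_truncMap_surjective S n) ψ (η.elt (n + 1)) ((η.compat n).trans hψ.symm)
  obtain ⟨ψ₀, hψ₀⟩ := base
  let seq : ∀ n : ℕ, {ψ : HomSet R.carrier R.res (S.trunc n) // ξ.app _ ψ = η.elt n} :=
    fun n => Nat.rec (motive := fun n => {ψ : HomSet R.carrier R.res (S.trunc n) // ξ.app _ ψ = η.elt n})
      ⟨ψ₀, hψ₀⟩
      (fun n p => ⟨(step n p.1 p.2).choose, (step n p.1 p.2).choose_spec.2⟩) n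
  have hseq : ∀ n, HomSet.map (S.truncMap n) (seq (n + 1)).1 = (seq n).1 :=
    fun n => (step n (seq n).1 (seq n).2).choose_spec.1
  obtain ⟨g, hg, hgn⟩ := cring_exists_lift R.res S (fun n => (seq n).1) hseq
  refine ⟨g, hg, ?_⟩
  apply FormalElt.ext'
  intro n
  change ξ.app _ ⟨(S.truncHom n).1.comp g, _⟩ = η.elt n
  rw [← (seq n).2]
  congr 1
  exact Subtype.ext (hgn n)

end Groth.Agent.S12720
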