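import Groth.Statements.S12715
import Groth.Agent.Lib.Helper65.CRingDer
import Groth.Agent.Lib.Helper65.ArtFinite

set_option autoImplicit false
universe u v
open CategoryTheory
open ArtFun

namespace Groth.Agent.S12715

/-- For Λ Noetherian with a finite map to the field k and S a complete local Noetherian Λ-algebra with
residue field k (through a surjective map S → k over Λ), the space of Λ-derivations S → k is
finite-dimensional over k. -/
theorem result {Λ : Type u} {k : Type u} [CommRing Λ] [Field k] [Algebra Λ k]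
    [IsNoetherianRing Λ] [Module.Finite Λ k]
    (S : Type u) [CommRing S] [Algebra Λ S] [IsLocalRing S] [IsNoetherianRing S]
    [IsAdicComplete (IsLocalRing.maximalIdeal S) S] [Algebra S k] [IsScalarTower Λ S k]
    (hres : Function.Surjective (algebraMap S k)) :
    Module.Finite k (Derivation Λ S k) := by
  classical
  open Groth.Agent.Lib.Helper65 in
  have hm := mem_maximalIdeal_iff_algebraMap (k := k) (S := S) hres
  let S' : CRing Λ k :=
    { carrier := S
      res := IsScalarTower.toAlgHom Λ S k
      res_surjective := hres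
      isAdicComplete := inferInstance }
  have hfin : Module.Finite Λ (S ⧸ (IsLocalRing.maximalIdeal S ^ (1 + 1))) :=
    art_moduleFinite (CRing.trunc S' 1)
  obtain ⟨G, hG⟩ := hfin.fg_top
  have hlift : ∀ g : S ⧸ (IsLocalRing.maximalIdeal S ^ (1 + 1)), ∃ s : S,
      Ideal.Quotient.mk (IsLocalRing.maximalIdeal S ^ (1 + 1)) s = g := Ideal.Quotient.mk_surjective
  choose σ hσ using hlift
  let Φ : Derivation Λ S k →ₗ[k] (G → k) :=
    { toFun := fun D g => D (σ g.1)
      map_add' := fun D₁ D₂ => by funext g; rfl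
      map_smul' := fun c D => by funext g; rfl }
  apply Module.Finite.of_injective Φ
  rw [← LinearMap.ker_eq_bot, LinearMap.ker_eq_bot']
  intro D hD
  have hDG : ∀ g ∈ G, D (σ g) = 0 := fun g hg => congrFun hD ⟨g, hg⟩
  -- D kills m²
  have hsq : ∀ y ∈ IsLocalRing.maximalIdeal S ^ (1 + 1), D y = 0 := by
    intro y hy
    rw [pow_succ, pow_one] at hy
    refine Submodule.mul_induction_on hy ?_ ?_
    · intro a ha b hb
      rw [Derivation.leibniz, Algebra.smul_def, Algebra.smul_def, (hm a).1 ha, (hm b).1 hb]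
      simp
    · intro a b ha hb
      rw [map_add, ha, hb, add_zero]
  -- D kills the span of the lifts
  have hspan : Submodule.span Λ (σ '' (G : Set _)) ≤ LinearMap.ker (D : S →ₗ[Λ] k) := by
    rw [Submodule.span_le]
    rintro _ ⟨g, hg, rfl⟩
    exact hDG g hg
  have hmap : Submodule.map (Ideal.Quotient.mkₐ Λ (IsLocalRing.maximalIdeal S ^ (1 + 1))).toLinearMap
      (Submodule.span Λ (σ '' (G : Set _))) = ⊤ := by
    rw [Submodule.map_span, ← hG, Set.image_image]
    congr 1
    ext g
    constructor
    · rintro ⟨g', hg', rfl⟩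
      change Ideal.Quotient.mk _ (σ g') ∈ _
      rw [hσ]; exact hg'
    · intro hg
      exact ⟨g, hg, hσ g⟩
  ext s
  have hs : (Ideal.Quotient.mkₐ Λ (IsLocalRing.maximalIdeal S ^ (1 + 1))).toLinearMap s ∈
      (⊤ : Submodule Λ (S ⧸ (IsLocalRing.maximalIdeal S ^ (1 + 1)))) := trivial
  rw [← hmap] at hs
  obtain ⟨t, ht, hts⟩ := hs
  have h1 : t - s ∈ IsLocalRing.maximalIdeal S ^ (1 + 1) := by
    rw [← Ideal.Quotient.eq]
    exact hts
  have h2 : D t = 0 := hspan ht
  have h3 : D (t - s) = 0 := hsq _ h1
  rw [map_sub, h2, zero_sub, neg_eq_zero] at h3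
  rw [h3]
  rfl

end Groth.Agent.S12715
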