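import Groth.Statements.S12731
import Groth.Agent.S12715
import Groth.Agent.Lib.Helper65.CRingTangent
import Groth.Agent.Lib.Helper65.ArtFibre

set_option autoImplicit false
universe u v
open CategoryTheory
open ArtFun

namespace Groth.Agent.S12731

/-- For functors, if a functor F on Artinian local Λ-algebras with residue field k with F(k) a point has
a versal family over a complete local Noetherian ring with residue field k which is bijective on
tangent spaces (a hull), then F satisfies (S1) and (S2) and has finite-dimensional tangent space. -/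
theorem result {Λ : Type u} {k : Type u} [CommRing Λ] [Field k] [Algebra Λ k]
    [IsNoetherianRing Λ] [Module.Finite Λ k]
    (F : ArtFun.Art Λ k ⥤ Type v) [ArtFun.TangentStr F] (h0 : ArtFun.H0 F) (h : ArtFun.HasHull F) :
    ArtFun.S1 F ∧ ArtFun.Heps F ∧ ArtFun.Hfin F := by
  classical
  open Groth.Agent.Lib.Helper65 in
  obtain ⟨⟨R, ξ, hvers, htan⟩⟩ := h
  have hS1 : S1 F := s1_of_versal h0 ξ hvers
  refine ⟨hS1, ?_, ?_⟩
  · -- Heps
    intro B A' p' p'' hfp
    refine ⟨?_, hS1 _ _ _ _ hfp (Art.dual Λ k).res_surjective⟩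
    intro z₁ z₂ hz
    have hz1 : F.map p' z₁ = F.map p' z₂ := congrArg (fun t => t.1.1) hz
    have hz2 : F.map p'' z₁ = F.map p'' z₂ := congrArg (fun t => t.1.2) hz
    obtain ⟨ψ₁, rfl⟩ := versal_app_surjective h0 ξ hvers B z₁
    have hp' : Function.Surjective p' := by
      intro a'
      obtain ⟨a'', ha''⟩ := (Art.dual Λ k).res_surjective (A'.res a')
      obtain ⟨b, hb, -⟩ := hfp.surj a' a'' ha''.symm
      exact ⟨b, hb⟩
    obtain ⟨ψ₂, hψ₂1, hψ₂2⟩ := hvers p' hp' (HomSet.map p' ψ₁) z₂ (by rw [ξ.natural]; exact hz1.symm)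
    subst hψ₂2
    have h3 : HomSet.map p'' ψ₁ = HomSet.map p'' ψ₂ := by
      apply htan.1
      rw [ξ.natural, ξ.natural]
      exact hz2
    rw [isFibreProd_homSet_ext hfp ψ₁ ψ₂ hψ₂1.symm h3]
  · -- Hfin
    letI : Algebra R.carrier k := R.res.toRingHom.toAlgebra
    haveI : IsScalarTower Λ R.carrier k := IsScalarTower.of_algebraMap_eq (fun r => (R.res.commutes r).symm)
    haveI := R.isAdicComplete
    haveI : Module.Finite k (Derivation Λ R.carrier k) :=
      Groth.Agent.S12715.result R.carrier R.res_surjective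
    let T : Derivation Λ R.carrier k →ₗ[k] TangentSpace F :=
      { toFun := fun D => ξ.app (Art.dual Λ k) (homOfDer R.res (fun _ => rfl) D)
        map_add' := fun D₁ D₂ => by
          have := TangentStr.add_eq (F := F) (ξ.app (Art.dual2 Λ k) (hom2OfDer R.res (fun _ => rfl) D₁ D₂))
          rw [← ξ.natural, ← ξ.natural, ← ξ.natural, map_pr₁_hom2OfDer, map_pr₂_hom2OfDer,
            map_plus_hom2OfDer] at this
          exact this.symm
        map_smul' := fun c D => by
          have := TangentStr.smul_eq (F := F) c (ξ.app (Art.dual Λ k) (homOfDer R.res (fun _ => rfl) D))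
          rw [← ξ.natural, map_scale_homOfDer] at this
          exact this.symm }
    have hT : Function.Surjective T := by
      intro x
      obtain ⟨ψ, rfl⟩ := htan.2 x
      obtain ⟨D, rfl⟩ := homOfDer_surjective R.res (fun _ => rfl) ψ
      exact ⟨D, rfl⟩
    exact Module.Finite.of_surjective T hT

end Groth.Agent.S12731
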