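import Groth.Statements.S12748
-- import your own Groth.Agent.* helpers here
import Groth.Agent.Lib.Helper58.PSRel

set_option autoImplicit false
universe u v
open CategoryTheory
open ArtFun ArtFun.CRing

namespace Groth.Agent.S12748

/-- Let R' → R be a morphism of complete local Noetherian Λ-algebras with residue field k with an
R'-algebra retraction ρ : R → R', so that R = R' ⊕ I for the ideal I = ker ρ; let x₁, …, x_r ∈ I map
to a basis of I/m_R I and let φ : R'[[X₁, …, X_r]] → R be an R'-algebra map sending X_i to x_i. If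
for all large n the induced map R'[[X]]/m^n → R/m_R^n has a left inverse — a Λ-algebra map g_n : R →
R'[[X]]/m^n with g_n ∘ φ equal to the quotient map — then φ is an isomorphism. -/
theorem result {Λ : Type u} {k : Type u} [CommRing Λ] [Field k] [Algebra Λ k]
    [IsNoetherianRing Λ] [Module.Finite Λ k]
    (R' R : ArtFun.CRing Λ k) [Algebra R'.carrier R.carrier] [IsScalarTower Λ R'.carrier R.carrier]
    (hc : R.res.comp (IsScalarTower.toAlgHom Λ R'.carrier R.carrier) = R'.res)
    (ρ : R.carrier →ₐ[R'.carrier] R'.carrier)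
    (r : ℕ) (x : Fin r → R.carrier) (hxI : ∀ i, ρ (x i) = 0)
    (hspan : Ideal.span (Set.range x) ⊔ IsLocalRing.maximalIdeal R.carrier * RingHom.ker ρ = RingHom.ker ρ)
    (hli : ∀ c : Fin r → R.carrier, (∑ i, c i * x i) ∈ IsLocalRing.maximalIdeal R.carrier * RingHom.ker ρ →
      ∀ i, c i ∈ IsLocalRing.maximalIdeal R.carrier)
    (φ : MvPowerSeries (Fin r) R'.carrier →ₐ[R'.carrier] R.carrier) (hφ : ∀ i, φ (MvPowerSeries.X i) = x i)
    (hinv : ∃ N : ℕ, ∀ n, N ≤ n →
      ∃ g : R.carrier →ₐ[Λ] (MvPowerSeries (Fin r) R'.carrier ⧸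
          IsLocalRing.maximalIdeal (MvPowerSeries (Fin r) R'.carrier) ^ n),
        ∀ s, g (φ s) = Ideal.Quotient.mk _ s) :
    Function.Bijective φ := by
  open Groth.Agent.Lib.Helper58.PSRel Groth.Agent.Lib.Helper58.PSComplete
    Groth.Agent.Lib.Helper65 MvPowerSeries in
  classical
  have hres : ∀ c : R'.carrier, R.res (algebraMap R'.carrier R.carrier c) = R'.res c := fun c =>
    congrArg (fun t : R'.carrier →ₐ[Λ] k => t c) hc
  have hρalg : ∀ c : R'.carrier, ρ (algebraMap R'.carrier R.carrier c) = c := fun c => by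
    rw [AlgHom.commutes]; rfl
  -- the kernel of the retraction is a proper ideal
  have hkerm : RingHom.ker ρ ≤ IsLocalRing.maximalIdeal R.carrier := by
    apply IsLocalRing.le_maximalIdeal
    intro htop
    have h1 : (1 : R.carrier) ∈ RingHom.ker ρ := by rw [htop]; trivial
    rw [RingHom.mem_ker, map_one] at h1
    exact one_ne_zero h1
  have hsub : ∀ y : R.carrier, y - algebraMap R'.carrier R.carrier (ρ y) ∈
      RingHom.ker ρ := by
    intro y
    rw [RingHom.mem_ker, map_sub]
    change ρ y - ρ (algebraMap R'.carrier R.carrier (ρ y)) = 0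
    rw [hρalg, sub_self]
  have hresρ : ∀ y : R.carrier, R'.res (ρ y) = R.res y := by
    intro y
    have h1 := (ArtFun.CRing.mem_maximalIdeal_iff R _).1 (hkerm (hsub y))
    rw [map_sub, hres, sub_eq_zero] at h1
    exact h1.symm
  have hφC : ∀ c, φ (C c) = algebraMap R'.carrier R.carrier c := fun c => φ.commutes c
  have hφm : ∀ f, constantCoeff f = 0 → φ f ∈ IsLocalRing.maximalIdeal R.carrier :=
    map_mem_of_constantCoeff_eq_zero (IsLocalRing.maximalIdeal R.carrier) φ
      (by
        intro i
        rw [hφ]
        exact hkerm (RingHom.mem_ker.2 (hxI i)))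
  let φ' : (psR R' r).carrier →ₐ[Λ] R.carrier :=
    { toRingHom := φ.toRingHom
      commutes' := fun l => by
        change φ (algebraMap Λ (MvPowerSeries (Fin r) R'.carrier) l) = algebraMap Λ R.carrier l
        rw [MvPowerSeries.algebraMap_apply, hφC, ← IsScalarTower.algebraMap_apply] }
  have hφ'res : R.res.comp φ' = (psR R' r).res := by
    apply AlgHom.ext
    intro f
    have h1 : φ f = φ (C (constantCoeff f)) + φ (f - C (constantCoeff f)) := by
      rw [← map_add]; congr 1; ring
    change R.res (φ f) = R'.res (constantCoeff f)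
    rw [h1, map_add, hφC, hres]
    have h2 : φ (f - C (constantCoeff f)) ∈ IsLocalRing.maximalIdeal R.carrier := hφm _ (by simp)
    rw [(ArtFun.CRing.mem_maximalIdeal_iff R _).1 h2, add_zero]
  constructor
  · -- injectivity from the left inverses
    rw [injective_iff_map_eq_zero]
    intro s hs
    obtain ⟨N, hN⟩ := hinv
    have hmem : ∀ n, s ∈ IsLocalRing.maximalIdeal (MvPowerSeries (Fin r) R'.carrier) ^ n := by
      intro n
      obtain ⟨g, hg⟩ := hN (max N n) (le_max_left N n)
      have h1 := hg s
      rw [hs, map_zero] at h1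
      have h2 := Ideal.Quotient.eq_zero_iff_mem.1 h1.symm
      exact Ideal.pow_le_pow_right (le_max_right N n) h2
    have h3 : s ∈ ⨅ n, IsLocalRing.maximalIdeal (MvPowerSeries (Fin r) R'.carrier) ^ n :=
      (Submodule.mem_iInf _).2 hmem
    rw [Ideal.iInf_pow_eq_bot_of_isLocalRing _
      (IsLocalRing.maximalIdeal.isMaximal _).ne_top] at h3
    exact h3
  · -- surjectivity from the cotangent criterion
    apply cring_surjective_of_cotangent (psR R' r) R φ' hφ'res
    apply le_antisymm
    · exact sup_le (cring_map_maximalIdeal_le (psR R' r) R φ' hφ'res)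
        (Ideal.pow_le_self two_ne_zero)
    · intro y hy
      have h1 : y = algebraMap R'.carrier R.carrier (ρ y) +
          (y - algebraMap R'.carrier R.carrier (ρ y)) := by ring
      rw [h1]
      apply Ideal.add_mem
      · apply Ideal.mem_sup_left
        rw [← hφC]
        apply Ideal.mem_map_of_mem
        apply C_mem R' r
        rw [ArtFun.CRing.mem_maximalIdeal_iff, hresρ]
        exact (ArtFun.CRing.mem_maximalIdeal_iff R y).1 hy
      · have h2 := hsub y
        rw [← hspan] at h2
        refine (sup_le ?_ ?_ : _ ≤ Ideal.map φ' (IsLocalRing.maximalIdeal (psR R' r).carrier) ⊔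
          IsLocalRing.maximalIdeal R.carrier ^ 2) h2
        · refine le_trans ?_ le_sup_left
          rw [Ideal.span_le]
          rintro _ ⟨i, rfl⟩
          rw [← hφ]
          exact Ideal.mem_map_of_mem φ' (X_mem R' r i)
        · refine le_trans ?_ le_sup_right
          rw [pow_two]
          exact Ideal.mul_mono_right hkerm

end Groth.Agent.S12748
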