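import Groth.Statements.S4466
import Groth.Agent.Lib.Helper17.PnTop2
import Groth.Agent.Lib.Helper17.PnH0
import Groth.Agent.Lib.Helper17.HomogRank

set_option autoImplicit false
universe u
open Coherent

namespace Groth.Agent.S4466

open AlgebraicGeometry CategoryTheory in
/-- Let k be a field, r > 0 and n any integer. Then the Euler characteristic of the twisting sheaf O(n)
on projective r-space over k, namely the alternating sum of the dimensions of H^j(P^r_k, O(n)) for 0
≤ j ≤ r, equals the binomial coefficient C(n+r, r), understood as the binomial polynomial evaluated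
at the integer n+r (so that it makes sense and is correct for negative n too). -/
theorem result (k : Type u) [Field k] (r : ℕ) (hr : 0 < r)
    (n : ℤ) :
    ((Finset.range (r + 1)).sum fun j => (-1 : ℤ) ^ j *
        (Module.finrank k (Coh.HH (CohB1.ProjSpace r k) (Twist.twistProjSpace r k n) j) : ℤ)) =
      Ring.choose (n + r) r := by
  classical
  -- abbreviations
  set f : ℕ → ℤ := fun j =>
    (Module.finrank k (Coh.HH (CohB1.ProjSpace r k) (Twist.twistProjSpace r k n) j) : ℤ) with hf
  have hmid : ∀ j, 0 < j → j < r → f j = 0 := by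
    intro j h0 h1
    have : Subsingleton (Coh.HH (CohB1.ProjSpace r k) (Twist.twistProjSpace r k n) j) :=
      Groth.Agent.Lib.Helper17.PnVanish.subsingleton_HH r k n j (fun h => by omega)
        (fun h => by omega)
    simp only [hf]
    rw [Module.finrank_zero_of_subsingleton]
    rfl
  have hsum : ((Finset.range (r + 1)).sum fun j => (-1 : ℤ) ^ j * f j) = f 0 + (-1 : ℤ) ^ r * f r := by
    obtain ⟨r', rfl⟩ : ∃ r', r = r' + 1 := ⟨r - 1, by omega⟩
    rw [Finset.sum_range_succ, Finset.sum_range_succ']
    have hz : ∑ j ∈ Finset.range r', (-1 : ℤ) ^ (j + 1) * f (j + 1) = 0 :=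
      Finset.sum_eq_zero fun j hj => by
        rw [hmid (j + 1) (by omega) (by have := Finset.mem_range.mp hj; omega), mul_zero]
    rw [hz]
    simp
  change ((Finset.range (r + 1)).sum fun j => (-1 : ℤ) ^ j * f j) = _
  rw [hsum]
  -- the two extreme groups
  have h0neg : n < 0 → f 0 = 0 := by
    intro hn
    have : Subsingleton (Coh.HH (CohB1.ProjSpace r k) (Twist.twistProjSpace r k n) 0) :=
      Groth.Agent.Lib.Helper17.PnVanish.subsingleton_HH r k n 0 (fun h => by omega)
        (fun h => by omega)
    simp only [hf]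
    rw [Module.finrank_zero_of_subsingleton]
    rfl
  have hrbig : -((r : ℤ) + 1) < n → f r = 0 := by
    intro hn
    have : Subsingleton (Coh.HH (CohB1.ProjSpace r k) (Twist.twistProjSpace r k n) r) :=
      Groth.Agent.Lib.Helper17.PnVanish.subsingleton_HH r k n r (fun h => by omega)
        (fun h => by omega)
    simp only [hf]
    rw [Module.finrank_zero_of_subsingleton]
    rfl
  rcases lt_or_ge n 0 with hn | hn
  · rw [h0neg hn, zero_add]
    rcases lt_or_ge (-((r : ℤ) + 1)) n with hn' | hn'
    · -- no cohomology at all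
      rw [hrbig hn', mul_zero]
      obtain ⟨t, ht⟩ : ∃ t : ℕ, n + r = t := ⟨(n + r).toNat, by omega⟩
      rw [ht, Ring.choose_natCast, Nat.choose_eq_zero_of_lt (by omega)]
      rfl
    · -- top cohomology
      obtain ⟨m, hm⟩ : ∃ m : ℕ, n = -((r : ℤ) + 1 + m) := ⟨(-n - r - 1).toNat, by omega⟩
      subst hm
      obtain ⟨e⟩ := Groth.Agent.Lib.Helper17.PnTop.nonempty_top_linearEquiv r k m
      have hfr : f r = ((m + r).choose r : ℤ) := by
        simp only [hf]
        rw [e.finrank_eq, Groth.Agent.Lib.Helper17.HomogRank.finrank_homogeneousSubmodule]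
      rw [hfr]
      have h1 : -((r : ℤ) + 1 + m) + r = -((m + 1 : ℕ) : ℤ) := by push_cast; ring
      rw [h1, Ring.choose_neg]
      have h2 : (((m + 1 : ℕ) : ℤ) + (r : ℤ) - 1) = ((m + r : ℕ) : ℤ) := by push_cast; ring
      rw [h2, Ring.choose_natCast, Units.smul_def, Int.coe_negOnePow_natCast]
      rfl
  · -- global sections
    obtain ⟨m, hm⟩ : ∃ m : ℕ, n = m := ⟨n.toNat, by omega⟩
    subst hm
    rw [hrbig (by have := Int.natCast_nonneg r; omega), mul_zero, add_zero]
    obtain ⟨e⟩ := Groth.Agent.Lib.Helper17.PnH0.nonempty_linearEquiv r k m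
    have hf0 : f 0 = ((m + r).choose r : ℤ) := by
      simp only [hf]
      rw [e.finrank_eq, Groth.Agent.Lib.Helper17.HomogRank.finrank_homogeneousSubmodule]
    rw [hf0]
    have h1 : (m : ℤ) + r = ((m + r : ℕ) : ℤ) := by push_cast; ring
    rw [h1, Ring.choose_natCast]

end Groth.Agent.S4466
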