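import Groth.Statements.S18285
import Groth.Agent.Lib.Helper7.MagnetDominant

set_option autoImplicit false
universe u
open CategoryTheory MonoidalCategory CartesianMonoidalCategory MonObj AlgebraicGeometry Opposite
open Magnet

namespace Groth.Agent.S18285

/-- Let X be an S-scheme separated over S with an action of the diagonalizable monoid scheme A(M)_S of a
commutative monoid M, and N a submonoid of M. Then the canonical map from the attractor X^N to X
(evaluation at the unit section of A(N)_S) is a monomorphism: for every S-scheme T it is injective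
on T-points. (The published statement allows X to be an algebraic space over S; here X is a scheme.) -/
theorem result (S : Scheme.{u}) (M : Type) [AddCommMonoid M]
    (X : Over S) [IsSeparated X.hom] (a : Magnet.MonAct (Magnet.AMonS S M) X) (N : AddSubmonoid M) (T : Over S) :
    Function.Injective (fun φ => (Magnet.attrToX a N).app (op T) φ) := by
  intro φ₁ φ₂ heq
  apply Subtype.ext
  have hx : lift (toUnit T ≫ MonObj.one (X := Magnet.AMonS S N)) (𝟙 T) ≫ φ₁.1 =
      lift (toUnit T ≫ MonObj.one (X := Magnet.AMonS S N)) (𝟙 T) ≫ φ₂.1 := heq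
  have key : ∀ (φ : (Magnet.attr a N).obj (op T)) (T' : Over S) (g : T' ⟶ Magnet.AMonS S M)
      (t : T' ⟶ T),
      lift g t ≫ (Magnet.AMonS.map S N.subtype ▷ T) ≫ φ.1 =
        lift g (t ≫ lift (toUnit T ≫ MonObj.one (X := Magnet.AMonS S N)) (𝟙 T) ≫ φ.1) ≫ a.act := by
    intro φ T' g t
    have h := (Magnet.MonAct.mem_eqvHom_iff φ.1).mp φ.2 T' g (1 : T' ⟶ Magnet.AMonS S N) t
    rw [lift_whiskerRight_assoc]
    have e1 : lift g (1 : T' ⟶ Magnet.AMonS S N) ≫ (Magnet.subAct S M N).act =
        g ≫ Magnet.AMonS.map S N.subtype := by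
      unfold Magnet.subAct
      rw [Magnet.MonAct.lift_restrict_act, Magnet.MonAct.lift_regular_act, _root_.mul_one]
    have e2 : lift (1 : T' ⟶ Magnet.AMonS S N) t =
        t ≫ lift (toUnit T ≫ MonObj.one (X := Magnet.AMonS S N)) (𝟙 T) := by
      rw [comp_lift, Category.comp_id, ← Category.assoc, toUnit_unique (t ≫ toUnit T) (toUnit T'),
        Hom.one_def]
    rw [e1, e2, Category.assoc] at h
    exact h
  have h1 : (Magnet.AMonS.map S N.subtype ▷ T) ≫ φ₁.1 =
      (Magnet.AMonS.map S N.subtype ▷ T) ≫ φ₂.1 := by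
    apply Magnet.hom_ext_lift₂
    intro T' g t
    rw [key φ₁, key φ₂, hx]
  haveI := Groth.Agent.Lib.Helper7.MagnetDominant.isSchemeTheoreticallyDominant_AMonS_map S
    N.subtype Subtype.val_injective T
  exact Groth.Agent.Lib.Helper7.SchDominant.ext_of_isSchemeTheoreticallyDominant
    (Magnet.AMonS.map S N.subtype ▷ T) φ₁.1 φ₂.1 h1

end Groth.Agent.S18285
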