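import Groth.Statements.S1712
import Groth.Agent.S1722
import Groth.Agent.Lib.Helper6.DualShift
import Groth.Agent.Lib.Helper6.DimFun

set_option autoImplicit false
universe u
open CategoryTheory
attribute [local instance] HasDerivedCategory.standard
open Dual

namespace Groth.Agent.S1712

theorem aux_le (D : ℕ∞) (n i : ℕ) :
    (((D : ℕ∞) : WithBot ℕ∞) + (n : WithBot ℕ∞) ≤ (i : WithBot ℕ∞)) ↔
      ∃ k : ℕ, D = k ∧ k + n ≤ i := by
  have h1 : (n : WithBot ℕ∞) = ((n : ℕ∞) : WithBot ℕ∞) := rfl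
  have h2 : (i : WithBot ℕ∞) = ((i : ℕ∞) : WithBot ℕ∞) := rfl
  rw [h1, h2, ← WithBot.coe_add, WithBot.coe_le_coe]
  induction D using ENat.recTopCoe with
  | top =>
    simp only [top_add, top_le_iff, ENat.coe_ne_top, false_iff, not_exists, not_and]
    intro k hk
    exact absurd hk.symm (ENat.coe_ne_top k)
  | coe k =>
    constructor
    · intro h
      refine ⟨k, rfl, ?_⟩
      exact_mod_cast h
    · rintro ⟨k', hk', hle⟩
      have : k = k' := by exact_mod_cast hk'
      subst this
      exact_mod_cast hle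

/-- Let A be a Noetherian local ring with a normalized dualizing complex ω, M a finite A-module and E^j
the A-module of maps M → ω[-j] in D(A). A prime p is in the support of one of E^0, …, E^i if and
only if the depth of M_p over A_p plus the dimension of A/p is at most i. -/
theorem result (A : Type u) [CommRing A] [IsLocalRing A] [IsNoetherianRing A] (ω : Dual.D A) (hω : Dual.IsDualizing A ω) (hn : Dual.IsNormalized A ω) (M : Type u) [AddCommGroup M] [Module A M] [Module.Finite A M] (i : ℕ) (p : PrimeSpectrum A) : (∃ j : ℕ, j ≤ i ∧ p ∈ Module.support A (Dual.inD A M ⟶ ω⟦(-(j : ℤ))⟧)) ↔ ((LocCoh.depth (Localization.AtPrime p.asIdeal) (LocalizedModule p.asIdeal.primeCompl M) : ℕ∞) : WithBot ℕ∞) + ringKrullDim (A ⧸ p.asIdeal) ≤ (i : WithBot ℕ∞) := by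
  classical
  obtain ⟨δ, hδ1, hδ2⟩ := Groth.Agent.S1722.result A ω hω
  -- δ ⊤ = 0
  have htop : δ ⊤ = 0 := by
    by_contra hne
    have hnt := (hδ1 ⊤ (-δ ⊤)).2 rfl
    have hs : Subsingleton (Dual.inD A (A ⧸ (⊤ : PrimeSpectrum A).asIdeal) ⟶ ω⟦-δ ⊤⟧) :=
      hn (-δ ⊤) (by omega)
    have hs' : Subsingleton (LocalizedModule (⊤ : PrimeSpectrum A).asIdeal.primeCompl
        (Dual.inD A (A ⧸ (⊤ : PrimeSpectrum A).asIdeal) ⟶ ω⟦-δ ⊤⟧)) := by
      rw [LocalizedModule.subsingleton_iff]
      intro m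
      exact ⟨1, Submonoid.one_mem _, by rw [Subsingleton.elim m 0, smul_zero]⟩
    exact not_subsingleton _ hs'
  obtain ⟨n, hn1, hn2⟩ := Lib.Helper6.DimFun.exists_nat δ hδ2 p
  have hδp : δ p = n := by rw [hn2, htop, zero_add]
  have hd : ∀ i : ℤ, Nontrivial (LocalizedModule p.asIdeal.primeCompl
      (Dual.inD A (A ⧸ p.asIdeal) ⟶ ω⟦i⟧)) ↔ i = -(n : ℤ) := fun i => by rw [hδ1 p i, hδp]
  rw [hn1, aux_le]
  simp only [Module.mem_support_iff]
  constructor
  · rintro ⟨j, hji, hnt⟩
    have hMp : Nontrivial (LocalizedModule p.asIdeal.primeCompl M) := by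
      by_contra hcon
      rw [not_nontrivial_iff_subsingleton] at hcon
      obtain ⟨e⟩ := Lib.Helper6.LocDual.nonempty_locHomEquiv_localizedModule ω hω p.asIdeal M
        (-(j : ℤ))
      have := Lib.Helper6.NormDual.subsingleton_hom_of_subsingleton
        (A := Localization.AtPrime p.asIdeal) (LocalizedModule p.asIdeal.primeCompl M)
        ((Lib.Helper6.LocDual.Gat p.asIdeal ω)⟦-(j : ℤ)⟧)
      exact not_subsingleton _ e.subsingleton
    have hjn : n ≤ j := by
      by_contra hlt
      have := Lib.Helper6.DualShift.subsingleton_loc_hom_of_gt ω hω p.asIdeal n hd M (-(j : ℤ))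
        (by omega)
      exact not_subsingleton _ this
    have hex : ∃ j1 : ℕ, Nontrivial (LocalizedModule p.asIdeal.primeCompl
        (Dual.inD A M ⟶ ω⟦-(n : ℤ) - (j1 : ℤ)⟧)) := by
      refine ⟨j - n, ?_⟩
      have h3 : -(n : ℤ) - ((j - n : ℕ) : ℤ) = -(j : ℤ) := by omega
      rw [h3]
      exact hnt
    have hj1 := Nat.find_spec hex
    have hj1le : Nat.find hex ≤ j - n := Nat.find_min' hex (by
      have h3 : -(n : ℤ) - ((j - n : ℕ) : ℤ) = -(j : ℤ) := by omega
      rw [h3]
      exact hnt)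
    have hdepth := (Lib.Helper6.DualShift.depth_localization_eq_iff ω hω p.asIdeal n hd M
      (Nat.find hex)).2 ⟨fun j' hj' => not_nontrivial_iff_subsingleton.1 (Nat.find_min hex hj'), hj1⟩
    exact ⟨Nat.find hex, hdepth, by omega⟩
  · rintro ⟨k, hk, hle⟩
    have hMp : Nontrivial (LocalizedModule p.asIdeal.primeCompl M) := by
      by_contra hcon
      rw [not_nontrivial_iff_subsingleton] at hcon
      have := Lib.Helper29.depth_eq_top_of_subsingleton (Localization.AtPrime p.asIdeal)
        (LocalizedModule p.asIdeal.primeCompl M)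
      rw [this] at hk
      exact ENat.coe_ne_top k hk.symm
    obtain ⟨-, h2⟩ := (Lib.Helper6.DualShift.depth_localization_eq_iff ω hω p.asIdeal n hd M k).1 hk
    refine ⟨k + n, hle, ?_⟩
    have h3 : -(((k + n : ℕ)) : ℤ) = -(n : ℤ) - (k : ℤ) := by push_cast; ring
    rw [h3]
    exact h2

end Groth.Agent.S1712
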