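import Groth.Statements.S0366
import Groth.Agent.S1712
import Groth.Agent.Lib.Helper6.DimFun
import Groth.Agent.Lib.Helper6.InjDimMax8
import Groth.Agent.Lib.Helper6.NormDual2

set_option autoImplicit false
universe u v
open CategoryTheory
attribute [local instance] HasDerivedCategory.standard
open Dual

namespace Groth.Agent.S0366

/-- Let A be a Noetherian local ring with a normalized dualizing complex ω and M a finite A-module whose
support has dimension d. Then for every integer i the A-module Ext^i(M, ω) = Hom_{D(A)}(M, ω[i]) is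
nonzero only if −d ≤ i ≤ 0, and its support has dimension at most −i (read as 0 when i > 0). -/
theorem result (A : Type u) [CommRing A] [IsLocalRing A] [IsNoetherianRing A] (ω : Dual.D A) (hω : Dual.IsDualizing A ω) (hn : Dual.IsNormalized A ω) (M : Type u) [AddCommGroup M] [Module A M] [Module.Finite A M] (d : ℕ) (hd : Module.supportDim A M = d) (i : ℤ) : (Nontrivial (Dual.inD A M ⟶ ω⟦i⟧) → (-(d : ℤ) ≤ i ∧ i ≤ 0)) ∧ Module.supportDim A (Dual.inD A M ⟶ ω⟦i⟧) ≤ ((-i).toNat : WithBot ℕ∞) := by
  classical
  have hpart1 : Nontrivial (Dual.inD A M ⟶ ω⟦i⟧) → (-(d : ℤ) ≤ i ∧ i ≤ 0) := by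
    intro hnt
    constructor
    · by_contra hcon
      have hlt : Module.supportDim A M < ((d + 1 : ℕ) : WithBot ℕ∞) := by
        rw [hd]
        exact_mod_cast Nat.lt_succ_self d
      have := Lib.Helper6.NormDual.vanishing_below_dim ω hω hn (d + 1) M hlt i
        (by push_cast; omega)
      exact not_subsingleton _ this
    · by_contra hcon
      have := Lib.Helper6.InjDimMax.subsingleton_hom_of_isNormalized ω hω hn (Dual.inD A M) i
        (by omega)
      exact not_subsingleton _ this
  refine ⟨hpart1, ?_⟩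
  by_cases hi : 0 < i
  · have := Lib.Helper6.InjDimMax.subsingleton_hom_of_isNormalized ω hω hn (Dual.inD A M) i hi
    rw [Module.supportDim_eq_bot_of_subsingleton]
    exact bot_le
  · obtain ⟨j, rfl⟩ : ∃ j : ℕ, i = -(j : ℤ) := ⟨(-i).toNat, by omega⟩
    have hj : (-(-(j : ℤ))).toNat = j := by simp
    rw [hj]
    unfold Module.supportDim Order.krullDim
    refine iSup_le (fun s => ?_)
    have h1 : (s.length : ℕ∞) ≤ Order.coheight s.head := Order.length_le_coheight_head
    have h2 : Order.coheight s.head ≤ Order.coheight (s.head : PrimeSpectrum A) :=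
      Order.coheight_le_coheight_apply_of_strictMono (fun x : Module.support A
        (Dual.inD A M ⟶ ω⟦-(j : ℤ)⟧) => (x : PrimeSpectrum A)) (fun _ _ h => h) s.head
    have h3 := (Groth.Agent.S1712.result A ω hω hn M j (s.head : PrimeSpectrum A)).1
      ⟨j, le_rfl, s.head.2⟩
    rw [Lib.Helper6.DimFun.ringKrullDim_quotient_eq_coheight] at h3
    have h4 : ((Order.coheight (s.head : PrimeSpectrum A) : ℕ∞) : WithBot ℕ∞) ≤ (j : WithBot ℕ∞) := by
      refine le_trans ?_ h3
      have h5 : (0 : WithBot ℕ∞) ≤ ((LocCoh.depth (Localization.AtPrime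
          (s.head : PrimeSpectrum A).asIdeal) (LocalizedModule
          (s.head : PrimeSpectrum A).asIdeal.primeCompl M) : ℕ∞) : WithBot ℕ∞) := by
        exact_mod_cast (zero_le : (0 : ℕ∞) ≤ _)
      calc ((Order.coheight (s.head : PrimeSpectrum A) : ℕ∞) : WithBot ℕ∞)
          = 0 + ((Order.coheight (s.head : PrimeSpectrum A) : ℕ∞) : WithBot ℕ∞) := (zero_add _).symm
        _ ≤ _ := add_le_add_left h5 _
    refine le_trans ?_ h4
    exact_mod_cast h1.trans h2

end Groth.Agent.S0366
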