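import Groth.Statements.S11185
import Groth.Agent.Lib.Helper35.RegPerf2
import Mathlib.Algebra.Homology.DerivedCategory.FullyFaithful

set_option autoImplicit false
universe u
open CategoryTheory
attribute [local instance] HasDerivedCategory.standard
open Dual

namespace Groth.Agent.S11185

section Helpers

open CategoryTheory.Limits DerivedCategory

variable (A : Type u) [CommRing A]

theorem subsingleton_hom_neg (M : ModuleCat.{u} A) (N : ModuleCat.{u} A) (i : ℤ) (hi : i < 0) :
    Subsingleton ((singleFunctor (ModuleCat.{u} A) 0).obj M ⟶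
      ((singleFunctor (ModuleCat.{u} A) 0).obj N)⟦i⟧) := by
  refine ⟨fun f g => ?_⟩
  have hG : TStructure.t.IsGE (((singleFunctor (ModuleCat.{u} A) 0).obj N)⟦i⟧) (-i) :=
    TStructure.t.isGE_shift _ 0 i (-i) (by omega)
  have hL : TStructure.t.IsLE ((singleFunctor (ModuleCat.{u} A) 0).obj M) 0 := inferInstance
  rw [TStructure.t.zero f 0 (-i) (by omega), TStructure.t.zero g 0 (-i) (by omega)]

theorem subsingleton_hom_pos_of_projective (M : ModuleCat.{u} A) [Projective M]
    (N : ModuleCat.{u} A) (i : ℤ) (hi : 0 < i) :
    Subsingleton ((singleFunctor (ModuleCat.{u} A) 0).obj M ⟶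
      ((singleFunctor (ModuleCat.{u} A) 0).obj N)⟦i⟧) := by
  refine ⟨fun f g => ?_⟩
  have hL : TStructure.t.IsLE (((singleFunctor (ModuleCat.{u} A) 0).obj N)⟦i⟧) (-i) :=
    TStructure.t.isLE_shift _ 0 i (-i) (by omega)
  rw [Groth.Agent.Lib.Helper35.KL.hom_single_projective_eq_zero _ (-i) 0 (by omega) f,
    Groth.Agent.Lib.Helper35.KL.hom_single_projective_eq_zero _ (-i) 0 (by omega) g]

theorem toEnd_bijective :
    Function.Bijective (fun a : A => a • (𝟙 ((singleFunctor (ModuleCat.{u} A) 0).obj (ModuleCat.of A A)))) := by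
  constructor
  · intro a b hab
    dsimp only at hab
    have h1 : (singleFunctor (ModuleCat.{u} A) 0).map (a • 𝟙 (ModuleCat.of A A)) =
        (singleFunctor (ModuleCat.{u} A) 0).map (b • 𝟙 (ModuleCat.of A A)) := by
      rw [Functor.map_smul, Functor.map_smul, CategoryTheory.Functor.map_id]
      exact hab
    have h2 := (singleFunctor (ModuleCat.{u} A) 0).map_injective h1
    have h3 := congrArg (fun t => t.hom (1 : A)) h2
    simpa using h3
  · intro f
    obtain ⟨g, rfl⟩ := (singleFunctor (ModuleCat.{u} A) 0).map_surjective f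
    refine ⟨g.hom (1 : A), ?_⟩
    dsimp only
    have h1 : g = g.hom (1 : A) • 𝟙 (ModuleCat.of A A) := by
      ext
      simp
    conv_rhs => rw [h1]
    rw [Functor.map_smul, CategoryTheory.Functor.map_id]

theorem isZero_of_subsingleton [Subsingleton A] (K : DerivedCategory (ModuleCat.{u} A)) : IsZero K := by
  rw [IsZero.iff_id_eq_zero]
  have h1 : (1 : A) • 𝟙 K = (0 : A) • 𝟙 K := by rw [Subsingleton.elim (1 : A) 0]
  rwa [one_smul, zero_smul] at h1

theorem finite_cohomology (i : ℤ) :
    Module.Finite A ((homologyFunctor (ModuleCat.{u} A) i).obj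
      ((singleFunctor (ModuleCat.{u} A) 0).obj (ModuleCat.of A A))) := by
  by_cases hi : i = 0
  · subst hi
    let e : ((homologyFunctor (ModuleCat.{u} A) 0).obj
        ((singleFunctor (ModuleCat.{u} A) 0).obj (ModuleCat.of A A))) ≃ₗ[A] A :=
      ((singleFunctorCompHomologyFunctorIso (ModuleCat.{u} A) 0).app
        (ModuleCat.of A A)).toLinearEquiv
    exact Module.Finite.equiv e.symm
  · have hz : IsZero ((homologyFunctor (ModuleCat.{u} A) i).obj
        ((singleFunctor (ModuleCat.{u} A) 0).obj (ModuleCat.of A A))) := by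
      rcases lt_or_gt_of_ne hi with h | h
      · exact isZero_of_isGE _ 0 i h
      · exact isZero_of_isLE _ 0 i h
    have := ModuleCat.subsingleton_of_isZero hz
    infer_instance

theorem main [IsNoetherianRing A]
    (hreg : ∀ p : PrimeSpectrum A, IsRegularLocalRing (Localization.AtPrime p.asIdeal))
    (hdim : ringKrullDim A < ⊤) : Dual.IsDualizing A (Dual.inD A A) where
  isNoetherianRing := inferInstance
  finite_injective_dimension := by
    rcases subsingleton_or_nontrivial A with hA | hA
    · refine ⟨0, 0, fun M _ _ i _ => ⟨fun f g => ?_⟩⟩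
      exact (isZero_of_subsingleton A _).eq_of_src _ _
    · have h0 : 0 ≤ ringKrullDim A := ringKrullDim_nonneg_of_nontrivial
      obtain ⟨n, hn⟩ : ∃ n : ℕ∞, ringKrullDim A = n := by
        cases h : ringKrullDim A with
        | bot => rw [h] at h0; simp at h0
        | coe n => exact ⟨n, rfl⟩
      have hn' : n ≠ ⊤ := by
        rintro rfl
        rw [hn] at hdim
        exact lt_irrefl _ hdim
      obtain ⟨d, hd⟩ := ENat.ne_top_iff_exists.mp hn'
      have hd' : ringKrullDim A = d := by rw [hn, ← hd]; rfl
      refine ⟨0, d, fun M _ _ i hi => ?_⟩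
      rcases hi with hi | hi
      · exact subsingleton_hom_neg A (ModuleCat.of A M) (ModuleCat.of A A) i hi
      · refine ⟨fun f g => ?_⟩
        have hpd := Groth.Agent.Lib.Helper35.KL.hasProjectiveDimensionLT_of_regular hreg d hd' M
        have hL : TStructure.t.IsLE (((singleFunctor (ModuleCat.{u} A) 0).obj (ModuleCat.of A A))⟦i⟧)
            (-i) := TStructure.t.isLE_shift _ 0 i (-i) (by omega)
        have hL' : (((singleFunctor (ModuleCat.{u} A) 0).obj (ModuleCat.of A A))⟦i⟧).IsLE
            (-(d : ℤ) - 1) := TStructure.t.isLE_of_le _ (-i) _ (by omega)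
        rw [Groth.Agent.Lib.Helper35.KL.hom_single_eq_zero_of_pdLT d _ hpd _ hL' f,
          Groth.Agent.Lib.Helper35.KL.hom_single_eq_zero_of_pdLT d _ hpd _ hL' g]
  finite_cohomology := finite_cohomology A
  toEnd_bijective := toEnd_bijective A
  ext_self_subsingleton := by
    intro i hi
    rcases lt_or_gt_of_ne hi with h | h
    · exact subsingleton_hom_neg A _ _ i h
    · have : Projective (ModuleCat.of A A) :=
        (IsProjective.iff_projective (R := A) (P := A)).mp inferInstance
      exact subsingleton_hom_pos_of_projective A _ _ i h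


end Helpers

/-- Let A be a Noetherian ring all of whose local rings A_p at primes are regular and whose Krull
dimension is finite. Then the complex A[0] is a dualizing complex for A (finite injective dimension,
finite cohomology, A → End(A[0]) bijective and no self-maps of nonzero degree). -/
theorem result (A : Type u) [CommRing A] [IsNoetherianRing A] (hreg : ∀ p : PrimeSpectrum A, IsRegularLocalRing (Localization.AtPrime p.asIdeal)) (hdim : ringKrullDim A < ⊤) : Dual.IsDualizing A (Dual.inD A A) := by
  exact main A hreg hdim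

end Groth.Agent.S11185
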