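import Groth.Statements.S11177
import Groth.Agent.Lib.Helper6.FlatGor5
import Groth.Agent.Lib.Helper24.SmoothStalkFibres
import Groth.Agent.S0342

set_option autoImplicit false
universe u
open CategoryTheory
attribute [local instance] HasDerivedCategory.standard
open Dual

namespace Groth.Agent.S11177

/-- Let A be a Noetherian ring, A → B a smooth ring homomorphism (formally smooth and of finite
presentation), and ω a dualizing complex for A. Assuming the derived base change functor D(A) → D(B)
(the total left derived functor of extension of scalars) exists, the derived base change ω ⊗^L_A B
is a dualizing complex for B. (The published statement is for a smooth morphism of finite type to a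
Noetherian scheme and concludes that the pull-back of a dualizing complex twisted by the top
relative differentials, shifted by the relative dimension, is dualizing; removing that invertible
twist does not affect being dualizing.) -/
theorem result (A B : Type u) [CommRing A] [CommRing B] [Algebra A B] [IsNoetherianRing A] [Algebra.Smooth A B] [DRing.HasLBaseChange (algebraMap A B)] (ω : Dual.D A) (hω : Dual.IsDualizing A ω) : Dual.IsDualizing B ((DRing.LBaseChange (algebraMap A B)).obj ω) := by
  haveI hNB : IsNoetherianRing B := Algebra.FiniteType.isNoetherianRing A B
  have hfib : ∀ (p : Ideal A) [p.IsPrime], LocCoh.IsGorensteinRing (p.Fiber B) := by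
    intro p hp
    haveI hNF : IsNoetherianRing (p.Fiber B) := Lib.Helper29.isNoetherianRing_fiber A B p
    refine { isGorensteinLocalRing_localization := fun q hq => ?_ }
    haveI := Lib.Helper24.isRegularLocalRing_localization_fiber_of_formallySmooth A B p q
    exact Groth.Agent.S0342.result _
  have hGd := Lib.Helper6.FlatGor.isDualizing_G_of_gorenstein_fibres (B := B) hfib ω hω
  exact Lib.Helper6.HomBC.isDualizing_of_iso
    ((Lib.Helper6.HomBC.lbcIsoG A B).app ω).symm hGd

end Groth.Agent.S11177
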