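import Groth.Statements.S1789
import Groth.Agent.S1782
import Groth.Agent.Lib.Helper6.FlatGor10

set_option autoImplicit false
universe u
open CategoryTheory
attribute [local instance] HasDerivedCategory.standard
open Dual2

namespace Groth.Agent.S1789

/-- Let R → A be a ring map of finite type between Noetherian rings with R local, where φ^!(K) is formed
from a presentation ψ : R[x_1, …, x_n] → A as RHom_P(A, K ⊗^L_R P)[n], assuming the derived base
change to P exists and taking for RHom_P(A, −) a right adjoint of restriction of scalars along ψ.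
Let m be a maximal ideal of A lying over the maximal ideal of R and ω a normalized dualizing complex
for R. Assuming the derived base change D(A) → D(A_m) exists, the base change of φ^!(ω) to A_m is a
normalized dualizing complex for A_m. -/
theorem result (R A : Type u) [CommRing R] [CommRing A] [IsNoetherianRing R] [IsNoetherianRing A] [Algebra R A] (n : ℕ) (ψ : MvPolynomial (Fin n) R →ₐ[R] A) (hψ : Function.Surjective ψ) [DRing.HasLBaseChange (algebraMap R (MvPolynomial (Fin n) R))] (Rψ : Dual.D (MvPolynomial (Fin n) R) ⥤ Dual.D A) (adj : DRing.restrictD ψ.toRingHom ⊣ Rψ) [IsLocalRing R] (m : Ideal A) [m.IsMaximal] (hm : m.comap (algebraMap R A) = IsLocalRing.maximalIdeal R) (ω : Dual.D R) (hω : Dual.IsDualizing R ω) (hn : Dual.IsNormalized R ω) [DRing.HasLBaseChange (algebraMap A (Localization.AtPrime m))] : Dual.IsDualizing (Localization.AtPrime m) ((DRing.LBaseChange (algebraMap A (Localization.AtPrime m))).obj (Dual2.shriekVia n Rψ ω)) ∧ Dual.IsNormalized (Localization.AtPrime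 m) ((DRing.LBaseChange (algebraMap A (Localization.AtPrime m))).obj (Dual2.shriekVia n Rψ ω)) := by
  have hY : Dual.IsDualizing A (Dual2.shriekVia n Rψ ω) :=
    Groth.Agent.S1782.result R A n ψ hψ Rψ adj ω hω
  have hNm : IsNoetherianRing (Localization.AtPrime m) :=
    IsLocalization.isNoetherianRing m.primeCompl _ inferInstance
  let c := (Lib.Helper6.HomBC.lbcIsoG A (Localization.AtPrime m)).app (Dual2.shriekVia n Rψ ω)
  have hGat := Lib.Helper6.LocDual.isDualizing_Gat m (Dual2.shriekVia n Rψ ω) hY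
  refine ⟨Lib.Helper6.HomBC.isDualizing_of_iso c.symm hGat, ?_⟩
  intro i hi
  suffices h : Subsingleton (Dual.inD (Localization.AtPrime m)
      (IsLocalRing.ResidueField (Localization.AtPrime m)) ⟶
      (Lib.Helper6.LocDual.Gat m (Dual2.shriekVia n Rψ ω))⟦i⟧) from
    (Iso.homCongr (Iso.refl _)
      ((shiftFunctor (Dual.D (Localization.AtPrime m)) i).mapIso c)).subsingleton
  obtain ⟨e⟩ := Lib.Helper6.LocDual.nonempty_locHomEquiv_residue (Dual2.shriekVia n Rψ ω) hY m i
  suffices h : Subsingleton (Dual.inD A (A ⧸ m) ⟶ (Dual2.shriekVia n Rψ ω)⟦i⟧) by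
    have := Lib.Helper6.FlatGor.subsingleton_localizedModule m.primeCompl
      (Dual.inD A (A ⧸ m) ⟶ (Dual2.shriekVia n Rψ ω)⟦i⟧)
    exact e.symm.subsingleton
  -- the computation over the polynomial ring
  let 𝔫 : Ideal (MvPolynomial (Fin n) R) := m.comap ψ.toRingHom
  haveI h𝔫 : 𝔫.IsMaximal := Ideal.comap_isMaximal_of_surjective ψ.toRingHom hψ
  haveI hl : 𝔫.LiesOver (IsLocalRing.maximalIdeal R) := by
    refine ⟨?_⟩
    rw [← hm]
    ext x
    simp only [Ideal.under_def, Ideal.mem_comap, 𝔫, AlgHom.toRingHom_eq_coe, RingHom.coe_coe,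
      AlgHom.commutes]
  have key := Lib.Helper6.FlatGor.poly_max_exact R n 𝔫 ω hω hn (n + i) (by omega)
  let X' := (DRing.LBaseChange (algebraMap R (MvPolynomial (Fin n) R))).obj ω
  let cX : X' ≅ (Lib.Helper35.FlatBC.G R (MvPolynomial (Fin n) R)).obj ω :=
    (Lib.Helper6.HomBC.lbcIsoG R (MvPolynomial (Fin n) R)).app ω
  let t1 : (Dual2.shriekVia n Rψ ω)⟦i⟧ ≅ (Rψ.obj X')⟦(n : ℤ) + i⟧ :=
    ((shiftFunctorAdd' (Dual.D A) (n : ℤ) i ((n : ℤ) + i) rfl).app (Rψ.obj X')).symm
  let e1 := Lib.Helper6.RDual.homEquivShift ψ.toRingHom adj (Dual.inD A (A ⧸ m)) X' ((n : ℤ) + i)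
  let e2 : (DRing.restrictD ψ.toRingHom).obj (Dual.inD A (A ⧸ m)) ≅
      Dual.inD (MvPolynomial (Fin n) R)
        ((ModuleCat.restrictScalars ψ.toRingHom).obj (ModuleCat.of A (A ⧸ m))) :=
    ((ModuleCat.restrictScalars ψ.toRingHom).mapDerivedCategorySingleFunctor 0).app
      (ModuleCat.of A (A ⧸ m))
  obtain ⟨ρ⟩ := Lib.Helper6.FlatGor.nonempty_quot_linearEquiv ψ.toRingHom hψ m
  let e3 : Dual.inD (MvPolynomial (Fin n) R) (MvPolynomial (Fin n) R ⧸ 𝔫) ≅
      Dual.inD (MvPolynomial (Fin n) R)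
        ((ModuleCat.restrictScalars ψ.toRingHom).obj (ModuleCat.of A (A ⧸ m))) :=
    (DerivedCategory.singleFunctor (ModuleCat.{u} (MvPolynomial (Fin n) R)) 0).mapIso
      ρ.toModuleIso
  have h1 : Subsingleton ((DRing.restrictD ψ.toRingHom).obj (Dual.inD A (A ⧸ m)) ⟶
      X'⟦(n : ℤ) + i⟧) :=
    (Iso.homCongr (e2 ≪≫ e3.symm)
      ((shiftFunctor (Dual.D (MvPolynomial (Fin n) R)) ((n : ℤ) + i)).mapIso cX)).subsingleton
  have h2 : Subsingleton (Dual.inD A (A ⧸ m) ⟶ (Rψ.obj X')⟦(n : ℤ) + i⟧) := e1.subsingleton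
  exact (Iso.homCongr (Iso.refl _) t1).subsingleton

end Groth.Agent.S1789
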