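import Groth.Statements.S1785
import Groth.Agent.Lib.Helper90.QF.FibDimChain
import Groth.Agent.Lib.Helper90.QF.LocTensor
import Groth.Agent.Lib.Helper13.ChevalleyAlg
import Groth.Agent.S9175

set_option autoImplicit false
set_option linter.style.haveILetI false
universe u
open CategoryTheory
open scoped TensorProduct
attribute [local instance] HasDerivedCategory.standard
open Dual2

namespace Groth.Agent.S1785

/-- Let R → A be a ring map of finite type between Noetherian rings, where φ^!(K) is formed from a
presentation ψ : R[x_1, …, x_n] → A as RHom_P(A, K ⊗^L_R P)[n], assuming the derived base change to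
P exists and taking for RHom_P(A, −) a right adjoint of restriction of scalars along ψ, and let
ω_{A/R} = φ^!(R). Let q be a prime of A and d the local dimension at q of the fibre of Spec A → Spec
R through q. If H^i(ω_{A/R}) localized at q is nonzero then −d ≤ i. -/
theorem result (R A : Type u) [CommRing R] [CommRing A] [IsNoetherianRing R] [IsNoetherianRing A] [Algebra R A] (n : ℕ) (ψ : MvPolynomial (Fin n) R →ₐ[R] A) (hψ : Function.Surjective ψ) [DRing.HasLBaseChange (algebraMap R (MvPolynomial (Fin n) R))] (Rψ : Dual.D (MvPolynomial (Fin n) R) ⥤ Dual.D A) (adj : DRing.restrictD ψ.toRingHom ⊣ Rψ) (q : PrimeSpectrum A) (d : ℕ) (hd : FlatMor.fibreDimAt (AlgebraicGeometry.Spec.map (CommRingCat.ofHom (algebraMap R A))) q = d) (i : ℤ) (h : Nontrivial (LocalizedModule q.asIdeal.primeCompl (Dual.HD A (Dual2.shriekVia n Rψ (Dual.inD R R)) i))) : -(d : ℤ) ≤ i := by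
  classical
  by_contra hlt
  push Not at hlt
  haveI : Algebra.FiniteType R A := Algebra.FiniteType.of_surjective ψ hψ
  -- Step 1: quasi-finite over affine d-space near q
  obtain ⟨g, hg, φ, hφft, hφqf⟩ : ∃ g : A, g ∉ q.asIdeal ∧
      ∃ φ : MvPolynomial (Fin d) R →ₐ[R] Localization.Away g,
        φ.toRingHom.FiniteType ∧ φ.toRingHom.QuasiFinite := by
    let Q : PrimeSpectrum ((q.asIdeal.under R).Fiber A) :=
      PrimeSpectrum.preimageEquivFiber R A ⟨q.asIdeal.under R, inferInstance⟩ ⟨q, rfl⟩
    have hQ : Q.asIdeal.comap (Algebra.TensorProduct.includeRight.toRingHom) = q.asIdeal := by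
      have := (PrimeSpectrum.preimageEquivFiber R A
        ⟨q.asIdeal.under R, inferInstance⟩).symm_apply_apply ⟨q, rfl⟩
      exact congr(($this).1.asIdeal)
    have hdim := Groth.Agent.Lib.Helper13.Chevalley.localDim_fiber_eq_fibreDimAt_SpecMap R A q Q hQ
    exact Groth.Agent.S9175.result R A (q.asIdeal.under R) q.asIdeal Q hQ d (hdim.trans hd)
  -- Step 2: Zariski's main theorem
  letI algTAg : Algebra (MvPolynomial (Fin d) R) (Localization.Away g) := φ.toRingHom.toAlgebra
  haveI : IsScalarTower R (MvPolynomial (Fin d) R) (Localization.Away g) :=
    IsScalarTower.of_algebraMap_eq (fun r => (φ.commutes r).symm)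
  haveI : Algebra.FiniteType (MvPolynomial (Fin d) R) (Localization.Away g) := hφft
  haveI : Algebra.QuasiFinite (MvPolynomial (Fin d) R) (Localization.Away g) := hφqf
  have hdisj : Disjoint (Submonoid.powers g : Set A) (q.asIdeal : Set A) := by
    rw [Set.disjoint_left]
    rintro x ⟨k, rfl⟩ hx
    exact hg (q.isPrime.mem_of_pow_mem k hx)
  haveI hq' : (Ideal.map (algebraMap A (Localization.Away g)) q.asIdeal).IsPrime :=
    IsLocalization.isPrime_of_isPrime_disjoint (Submonoid.powers g) (Localization.Away g)
      q.asIdeal inferInstance hdisj
  have hq'comap : (Ideal.map (algebraMap A (Localization.Away g)) q.asIdeal).comap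
      (algebraMap A (Localization.Away g)) = q.asIdeal :=
    IsLocalization.under_map_of_isPrime_disjoint (Submonoid.powers g) (Localization.Away g)
      inferInstance hdisj
  obtain ⟨C, hCfg, r, hr, hbij⟩ :=
    Algebra.QuasiFiniteAt.exists_fg_and_exists_notMem_and_awayMap_bijective
      (R := MvPolynomial (Fin d) R) (S := Localization.Away g)
      (Ideal.map (algebraMap A (Localization.Away g)) q.asIdeal)
  -- Step 3: the common open
  haveI : Module.Finite (MvPolynomial (Fin d) R) C := ⟨(Submodule.fg_top _).mpr hCfg⟩
  haveI : IsNoetherianRing C := IsNoetherianRing.of_finite (MvPolynomial (Fin d) R) C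
  haveI : IsNoetherianRing (Localization.Away g) := inferInstance
  haveI : IsNoetherianRing (Localization.Away (C.val.toRingHom r)) := inferInstance
  haveI : Algebra.FiniteType R (Localization.Away (C.val.toRingHom r)) := by
    haveI : Algebra.FinitePresentation A (Localization.Away g) :=
      IsLocalization.Away.finitePresentation g
    haveI : Algebra.FinitePresentation (Localization.Away g)
        (Localization.Away (C.val.toRingHom r)) :=
      IsLocalization.Away.finitePresentation (C.val.toRingHom r)
    haveI : Algebra.FiniteType A (Localization.Away g) := inferInstance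
    haveI : Algebra.FiniteType (Localization.Away g) (Localization.Away (C.val.toRingHom r)) :=
      inferInstance
    haveI : Algebra.FiniteType R (Localization.Away g) := Algebra.FiniteType.trans (S := A)
      inferInstance inferInstance
    exact Algebra.FiniteType.trans (S := Localization.Away g) inferInstance inferInstance
  -- `B` is the localization of `C` at `r`
  haveI hCB : IsLocalization.Away r (Localization.Away (C.val.toRingHom r)) := by
    let ea : Localization.Away r →ₐ[C] Localization.Away (C.val.toRingHom r) :=
      { toRingHom := Localization.awayMap C.val.toRingHom r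
        commutes' := fun c => by
          change Localization.awayMap C.val.toRingHom r (algebraMap C (Localization.Away r) c) = _
          rw [Localization.awayMap, IsLocalization.Away.map, IsLocalization.map_eq]
          rfl }
    exact IsLocalization.isLocalization_of_algEquiv (Submonoid.powers r)
      (AlgEquiv.ofBijective ea hbij)
  haveI : Module.Flat C (Localization.Away (C.val.toRingHom r)) :=
    IsLocalization.flat _ (Submonoid.powers r)
  have hopenC : AlgebraicGeometry.IsOpenImmersion (AlgebraicGeometry.Spec.map
      (CommRingCat.ofHom (algebraMap C (Localization.Away (C.val.toRingHom r))))) :=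
    AlgebraicGeometry.IsOpenImmersion.of_isLocalization r
  have hopenA : AlgebraicGeometry.IsOpenImmersion (AlgebraicGeometry.Spec.map
      (CommRingCat.ofHom (algebraMap A (Localization.Away (C.val.toRingHom r))))) := by
    rw [IsScalarTower.algebraMap_eq A (Localization.Away g)
      (Localization.Away (C.val.toRingHom r)), CommRingCat.ofHom_comp,
      AlgebraicGeometry.Spec.map_comp]
    infer_instance
  -- Step 4: the derived-category chain
  have hsub := Groth.Agent.Lib.Helper90.QF.subsingleton_tensor_hd_of_chain R A C
    (Localization.Away (C.val.toRingHom r)) d hopenA hopenC n ψ hψ Rψ adj i hlt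
  -- Step 5: pass to the localization at `q`
  have hgu : IsUnit (algebraMap A (Localization.AtPrime q.asIdeal) g) :=
    IsLocalization.map_units (Localization.AtPrime q.asIdeal)
      (⟨g, hg⟩ : q.asIdeal.primeCompl)
  let f₁ : Localization.Away g →+* Localization.AtPrime q.asIdeal :=
    IsLocalization.Away.lift g hgu
  have hf₁ : ∀ a : A, f₁ (algebraMap A (Localization.Away g) a) =
      algebraMap A (Localization.AtPrime q.asIdeal) a :=
    fun a => IsLocalization.Away.lift_eq g hgu a
  have hru : IsUnit (f₁ (C.val.toRingHom r)) := by
    by_contra hnu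
    have hmem : C.val.toRingHom r ∈
        (IsLocalRing.maximalIdeal (Localization.AtPrime q.asIdeal)).comap f₁ := by
      rw [Ideal.mem_comap, IsLocalRing.mem_maximalIdeal]
      exact hnu
    have hJ : ((IsLocalRing.maximalIdeal (Localization.AtPrime q.asIdeal)).comap f₁).comap
        (algebraMap A (Localization.Away g)) = q.asIdeal := by
      rw [Ideal.comap_comap]
      have : f₁.comp (algebraMap A (Localization.Away g)) =
          algebraMap A (Localization.AtPrime q.asIdeal) := RingHom.ext hf₁
      rw [this]
      exact IsLocalization.AtPrime.under_maximalIdeal (Localization.AtPrime q.asIdeal) q.asIdeal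
    have hJ' : Ideal.map (algebraMap A (Localization.Away g)) q.asIdeal =
        (IsLocalRing.maximalIdeal (Localization.AtPrime q.asIdeal)).comap f₁ := by
      have hmu := IsLocalization.map_under (Submonoid.powers g) (Localization.Away g)
        ((IsLocalRing.maximalIdeal (Localization.AtPrime q.asIdeal)).comap f₁)
      exact (congrArg (Ideal.map (algebraMap A (Localization.Away g))) hJ).symm.trans hmu
    rw [← hJ'] at hmem
    exact hr hmem
  let f₂ : Localization.Away (C.val.toRingHom r) →+* Localization.AtPrime q.asIdeal :=
    IsLocalization.Away.lift (C.val.toRingHom r) hru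
  have hf₂ : ∀ a : A, f₂ (algebraMap A (Localization.Away (C.val.toRingHom r)) a) =
      algebraMap A (Localization.AtPrime q.asIdeal) a := by
    intro a
    rw [IsScalarTower.algebraMap_apply A (Localization.Away g)
      (Localization.Away (C.val.toRingHom r))]
    exact (IsLocalization.Away.lift_eq (C.val.toRingHom r) hru _).trans (hf₁ a)
  have hfin := Groth.Agent.Lib.Helper90.QF.subsingleton_localizedModule_of_tensor
    q.asIdeal f₂ hf₂ (Dual.HD A (Dual2.shriekVia n Rψ (Dual.inD R R)) i) hsub
  exact not_subsingleton _ hfin

end Groth.Agent.S1785
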