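import Groth.Statements.S6624
-- import your own Groth.Agent.* helpers here
import Groth.Agent.Lib.Helper32.RDPlus
import Groth.Agent.Lib.Helper32.RDBridge
import Mathlib.CategoryTheory.Abelian.Injective.Extend
import Mathlib.CategoryTheory.Abelian.Injective.Ext
import Mathlib.CategoryTheory.Abelian.Injective.Resolution

set_option autoImplicit false
universe w w' v v' u u'
open CategoryTheory CategoryTheory.Limits
open CohDer

namespace Groth.Agent.S6624

open Groth.Agent.Lib.Helper32 CochainComplex

theorem aux {A : Type u} [Category.{v} A] [Abelian A] [HasDerivedCategory.{w} A] [EnoughInjectives A]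
    {B : Type u'} [Category.{v'} B] [Abelian B] [HasDerivedCategory.{w'} B]
    (F : A ⥤ B) [F.Additive] (X : A) :
    IsIso (F.rightDerivedFunctorPlusUnit.app ((HomotopyCategory.Plus.singleFunctor A 0).obj X)) ↔
      (IsIso (F.toRightDerivedZero.app X) ∧ ∀ i : ℕ, 0 < i → IsZero ((F.rightDerived i).obj X)) := by
  let R : InjectiveResolution X := injectiveResolution X
  let L := R.cochainComplex
  let KX : CochainComplex.Plus A := ⟨(CochainComplex.singleFunctor A 0).obj X, ⟨0, inferInstance⟩⟩
  let LP : CochainComplex.Plus A := ⟨L, ⟨0, inferInstance⟩⟩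
  let iP : KX ⟶ LP := ObjectProperty.homMk R.ι'
  haveI : ∀ n, Injective (LP.obj.X n) := fun n => (inferInstance : Injective (R.cochainComplex.X n))
  haveI : QuasiIso iP.hom := (inferInstance : QuasiIso R.ι')
  change IsIso (F.rightDerivedFunctorPlusUnit.app ((HomotopyCategory.Plus.quotient A).obj KX)) ↔ _
  rw [RDPlus.isIso_unit_app_iff F KX LP iP, ← RDZero.quasiIso_map_ι_iff F R,
    ← ExtendMap.quasiIso_map_extendMap_iff F ComplexShape.embeddingUpNat R.ι]
  change QuasiIso ((F.mapHomologicalComplex _).map R.ι') ↔ _
  let a : (HomologicalComplex.single A (ComplexShape.up ℤ) 0).obj X ⟶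
      ((CochainComplex.single₀ A).obj X).extend ComplexShape.embeddingUpNat :=
    (HomologicalComplex.extendSingleIso _ _ _ _ (by simp)).inv
  let b : ((CochainComplex.single₀ A).obj X).extend ComplexShape.embeddingUpNat ⟶
      R.cocomplex.extend ComplexShape.embeddingUpNat :=
    HomologicalComplex.extendMap R.ι ComplexShape.embeddingUpNat
  have h : (F.mapHomologicalComplex (ComplexShape.up ℤ)).map R.ι' =
      (F.mapHomologicalComplex (ComplexShape.up ℤ)).map a ≫
        (F.mapHomologicalComplex (ComplexShape.up ℤ)).map b := by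
    rw [← Functor.map_comp]
    rfl
  rw [h]
  haveI : IsIso a := by dsimp only [a]; infer_instance
  haveI : IsIso ((F.mapHomologicalComplex (ComplexShape.up ℤ)).map a) := inferInstance
  have hqa : QuasiIso ((F.mapHomologicalComplex (ComplexShape.up ℤ)).map a) := inferInstance
  exact @quasiIso_iff_comp_left _ _ _ _ _ _ _ _ ((F.mapHomologicalComplex (ComplexShape.up ℤ)).map a)
    ((F.mapHomologicalComplex (ComplexShape.up ℤ)).map b) _ _ _ hqa

/-- Part (1): in the case where A has enough injectives: let F : A ⥤ B be an additive functor between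
abelian categories, A with enough injectives, and X an object of A. Then X is right acyclic for F,
i.e. the canonical map F(X)[0] ⟶ RF(X[0]) is an isomorphism in D⁺(B), if and only if F(X) ⟶ R⁰F(X)
is an isomorphism and RⁱF(X) = 0 for all i > 0. -/
theorem result {A : Type u} [Category.{v} A] [Abelian A] [HasDerivedCategory.{w} A] [EnoughInjectives A]
    {B : Type u'} [Category.{v'} B] [Abelian B] [HasDerivedCategory.{w'} B]
    (F : A ⥤ B) [F.Additive] (X : A) :
    IsIso (F.rightDerivedFunctorPlusUnit.app ((HomotopyCategory.Plus.singleFunctor A 0).obj X)) ↔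
      (IsIso (F.toRightDerivedZero.app X) ∧ ∀ i : ℕ, 0 < i → IsZero ((F.rightDerived i).obj X)) := by
  exact aux F X

end Groth.Agent.S6624
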