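import Groth.Statements.S11179
import Groth.Agent.S11185
open CategoryTheory.Limits DerivedCategory CategoryTheory.Abelian

set_option autoImplicit false
universe u
open CategoryTheory
attribute [local instance] HasDerivedCategory.standard
open Goren

namespace Groth.Agent.S11179

/-- A Noetherian local ring A is Gorenstein (A has finite injective dimension as a module over itself)
if and only if the complex A[0] is a dualizing complex for A (finite injective dimension expressed
by vanishing of maps M[0] → A[i] in D(A) outside a bounded range, finite cohomology, A → End(A[0])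
bijective and no self-maps of nonzero degree). -/
theorem result (A : Type u) [CommRing A] [IsLocalRing A] [IsNoetherianRing A] : LocCoh.IsGorensteinLocalRing A ↔ Dual.IsDualizing A (Dual.inD A A) := by
  constructor
  · intro hG
    obtain ⟨n, hn⟩ := hG.exists_hasInjectiveDimensionLT
    refine
      { isNoetherianRing := inferInstance
        finite_injective_dimension := ?_
        finite_cohomology := Groth.Agent.S11185.finite_cohomology A
        toEnd_bijective := Groth.Agent.S11185.toEnd_bijective A
        ext_self_subsingleton := ?_ }
    · refine ⟨0, n, fun M _ _ i hi => ?_⟩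
      rcases hi with hi | hi
      · exact Groth.Agent.S11185.subsingleton_hom_neg A (ModuleCat.of A M) (ModuleCat.of A A) i hi
      · obtain ⟨j, rfl⟩ : ∃ j : ℕ, i = (j : ℤ) := ⟨i.toNat, by omega⟩
        have h1 : Subsingleton (Abelian.Ext.{u} (ModuleCat.of A M) (ModuleCat.of A A) j) :=
          HasInjectiveDimensionLT.subsingleton _ n j (by omega) _
        exact (Ext.homEquiv (X := ModuleCat.of A M) (Y := ModuleCat.of A A) (n := j)).symm.subsingleton
    · intro i hi
      rcases lt_or_gt_of_ne hi with h | h
      · exact Groth.Agent.S11185.subsingleton_hom_neg A _ _ i h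
      · have : Projective (ModuleCat.of A A) :=
          (IsProjective.iff_projective (R := A) (P := A)).mp inferInstance
        exact Groth.Agent.S11185.subsingleton_hom_pos_of_projective A _ _ i h
  · intro hD
    obtain ⟨a, b, hab⟩ := hD.finite_injective_dimension
    refine { exists_hasInjectiveDimensionLT := ⟨(b + 1).toNat, ?_⟩ }
    refine HasInjectiveDimensionLT.mk (fun j hj Y e => ?_)
    have h1 : Subsingleton (Dual.inD A Y ⟶ (Dual.inD A A)⟦(j : ℤ)⟧) :=
      hab Y (j : ℤ) (Or.inr (by omega))
    have h2 : Subsingleton (Abelian.Ext.{u} Y (ModuleCat.of A A) j) :=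
      (Ext.homEquiv (X := Y) (Y := ModuleCat.of A A) (n := j)).subsingleton
    exact Subsingleton.elim _ _

end Groth.Agent.S11179
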