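import Groth.Statements.S6615
-- import your own Groth.Agent.* helpers here

set_option autoImplicit false
universe v u
open CategoryTheory CategoryTheory.Limits Opposite
open CohDer

namespace Groth.Agent.S6615

section Basic
variable {C : Type u} [Category.{v} C]

lemma tr_tr (X : ARSys.PS C) {n m l : ℕ} (h₁ : n ≤ m) (h₂ : m ≤ l) :
    ARSys.tr X h₂ ≫ ARSys.tr X h₁ = ARSys.tr X (h₁.trans h₂) := by
  dsimp only [ARSys.tr]
  rw [← X.map_comp]
  rfl

lemma tr_nat {X Y : ARSys.PS C} (f : X ⟶ Y) {n m : ℕ} (h : n ≤ m) :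
    ARSys.tr X h ≫ f.app (op n) = f.app (op m) ≫ ARSys.tr Y h :=
  f.naturality _

lemma cone_tr {X : ARSys.PS C} {A : C} (c : (Functor.const ℕᵒᵖ).obj A ⟶ X) {n m : ℕ} (h : n ≤ m) :
    c.app (op m) ≫ ARSys.tr X h = c.app (op n) := by
  have := c.naturality (homOfLE h).op
  simpa using this.symm

/-- the retraction at level `k ≥ i` -/
def sig (X : ARSys.PS C) {A : C} {i : ℕ} (s : X.obj (op i) ⟶ A) {k : ℕ} (hk : i ≤ k) :
    X.obj (op k) ⟶ A := ARSys.tr X hk ≫ s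

lemma c_sig {X : ARSys.PS C} {A : C} (c : (Functor.const ℕᵒᵖ).obj A ⟶ X) {i : ℕ}
    (s : X.obj (op i) ⟶ A) (hs : c.app (op i) ≫ s = 𝟙 A) {k : ℕ} (hk : i ≤ k) :
    c.app (op k) ≫ sig X s hk = 𝟙 A := by
  dsimp only [sig]
  rw [← Category.assoc, cone_tr, hs]

lemma tr_sig (X : ARSys.PS C) {A : C} {i : ℕ} (s : X.obj (op i) ⟶ A) {k k' : ℕ} (hk : i ≤ k)
    (hkk' : k ≤ k') : ARSys.tr X hkk' ≫ sig X s hk = sig X s (hk.trans hkk') := by
  dsimp only [sig]
  rw [← Category.assoc, tr_tr]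

lemma ev {X : ARSys.PS C} {A : C} (c : (Functor.const ℕᵒᵖ).obj A ⟶ X) {i : ℕ}
    (s : X.obj (op i) ⟶ A)
    (h : ∀ j : ℕ, ∃ (k : ℕ) (hi : i ≤ k) (hj : j ≤ k),
      ARSys.tr X hj = ARSys.tr X hi ≫ s ≫ c.app (op j)) (j : ℕ) :
    ∃ k₀ : ℕ, ∀ (k : ℕ) (_ : k₀ ≤ k), ∃ (hi : i ≤ k) (hj : j ≤ k),
      ARSys.tr X hj = sig X s hi ≫ c.app (op j) := by
  obtain ⟨k₀, hi, hj, e⟩ := h j
  refine ⟨k₀, fun k hk => ⟨hi.trans hk, hj.trans hk, ?_⟩⟩
  rw [← tr_tr X hj hk, e, ← tr_sig X s hi hk]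
  simp [sig]

end Basic

open CategoryTheory.Pretriangulated in
/-- Essential constancy of the middle system: in a triangulated category D, take an ℕ-indexed inverse
system of distinguished triangles with vertices A_n, B_n, C_n. When (A_n) and (C_n) are both
essentially constant, the middle system (B_n) is too. (The published statement also says the values
fit in a distinguished triangle receiving a map of triangles from some level; this row asserts only
the essential constancy of the middle system.) -/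
theorem result {D : Type u} [Category.{v} D] [Preadditive D] [HasZeroObject D] [HasShift D ℤ]
    [∀ n : ℤ, (shiftFunctor D n).Additive] [Pretriangulated D] [IsTriangulated D]
    (X Y Z : ARSys.PS D) (f : X ⟶ Y) (g : Y ⟶ Z) (h : Z ⟶ X ⋙ shiftFunctor D (1 : ℤ))
    (hT : ∀ n : ℕ, Triangle.mk (f.app (op n)) (g.app (op n)) (h.app (op n)) ∈ distinguishedTriangles)
    (hX : ∃ (A : D) (cA : (Functor.const ℕᵒᵖ).obj A ⟶ X), DerCA.IsEssConstant X A cA)
    (hZ : ∃ (C : D) (cC : (Functor.const ℕᵒᵖ).obj C ⟶ Z), DerCA.IsEssConstant Z C cC) :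
    ∃ (B : D) (cB : (Functor.const ℕᵒᵖ).obj B ⟶ Y), DerCA.IsEssConstant Y B cB := by
  obtain ⟨A, cA, iA, sA, hsA, hA⟩ := hX
  obtain ⟨C, cC, iC, sC, hsC, hC⟩ := hZ
  -- naturality of h w.r.t. transition maps
  have h_nat : ∀ {n m : ℕ} (hnm : n ≤ m),
      ARSys.tr Z hnm ≫ h.app (op n) = h.app (op m) ≫ (ARSys.tr X hnm)⟦(1 : ℤ)⟧' :=
    fun hnm => h.naturality _
  -- the base index
  let p := max iA iC
  have hpA : iA ≤ p := le_max_left _ _
  have hpC : iC ≤ p := le_max_right _ _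
  -- the connecting morphism
  let δ : C ⟶ A⟦(1 : ℤ)⟧ := cC.app (op p) ≫ h.app (op p) ≫ (sig X sA hpA)⟦(1 : ℤ)⟧'
  have hδ : ∀ (n : ℕ) (hn : p ≤ n),
      cC.app (op n) ≫ h.app (op n) ≫ (sig X sA (hpA.trans hn))⟦(1 : ℤ)⟧' = δ := by
    intro n hn
    dsimp only [δ]
    rw [← tr_sig X sA hpA hn, Functor.map_comp, ← reassoc_of% (h_nat hn),
      reassoc_of% (cone_tr cC hn)]
  obtain ⟨B, a, b, hT0⟩ := distinguished_cocone_triangle₂ δ
  -- the index q
  obtain ⟨q₀, hq₀⟩ := ev cC sC hC p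
  let q := max q₀ p
  have hpq : p ≤ q := le_max_right _ _
  obtain ⟨hqC, hpq', hq⟩ := hq₀ q (le_max_left _ _)
  have hqA : iA ≤ q := hpA.trans hpq
  -- the morphism s' : Y_q ⟶ B
  have hs'ex : ∃ s' : Y.obj (op q) ⟶ B, f.app (op q) ≫ s' = sig X sA hqA ≫ a ∧
      g.app (op q) ≫ sig Z sC hqC = s' ≫ b :=
    complete_distinguished_triangle_morphism₂ _ _ (hT q) hT0
    (sig X sA hqA) (sig Z sC hqC) (by
      change h.app (op q) ≫ (sig X sA hqA)⟦(1 : ℤ)⟧' = sig Z sC hqC ≫ δ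
      dsimp only [δ]
      rw [← reassoc_of% hq, reassoc_of% (h_nat hpq), ← Functor.map_comp, tr_sig])
  obtain ⟨s', hs'1, hs'2⟩ := hs'ex
  -- morphisms β_n : B ⟶ Y_n
  have hβ : ∀ n : ℕ, ∃ β : B ⟶ Y.obj (op n), a ≫ β = cA.app (op n) ≫ f.app (op n) ∧
      b ≫ cC.app (op n) = β ≫ g.app (op n) := by
    intro n
    refine complete_distinguished_triangle_morphism₂ _ _ hT0 (hT n)
      (cA.app (op n)) (cC.app (op n)) ?_
    change δ ≫ (cA.app (op n))⟦(1 : ℤ)⟧' = cC.app (op n) ≫ h.app (op n)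
    obtain ⟨m₀, hm₀⟩ := ev cA sA hA n
    let m := max m₀ p
    obtain ⟨hmA, hnm, hm⟩ := hm₀ m (le_max_left _ _)
    have hpm : p ≤ m := le_max_right _ _
    rw [← hδ m hpm, Category.assoc, Category.assoc, ← Functor.map_comp, ← hm, ← h_nat hnm,
      reassoc_of% (cone_tr cC hnm)]
  -- injectivity claim
  have hI : ∀ {W : D} (u : B ⟶ W) (k : ℕ) (hk : q ≤ k), ARSys.tr Y hk ≫ s' ≫ u = 0 → u = 0 := by
    intro W u k hk hu
    have hkA : iA ≤ k := hqA.trans hk
    have hkC : iC ≤ k := hqC.trans hk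
    have ha : a = cA.app (op k) ≫ f.app (op k) ≫ ARSys.tr Y hk ≫ s' := by
      rw [← reassoc_of% (tr_nat f hk), reassoc_of% (cone_tr cA hk), hs'1,
        ← Category.assoc (cA.app _), c_sig cA sA hsA hqA]
      exact (Category.id_comp a).symm
    have h1 : a ≫ u = 0 := by
      rw [ha]
      simp only [Category.assoc]
      rw [hu]
      simp
    have hwex : ∃ w : C ⟶ W, u = b ≫ w := Triangle.yoneda_exact₂ _ hT0 u h1
    obtain ⟨w, hw⟩ := hwex
    have h3 : g.app (op k) ≫ (sig Z sC hkC ≫ w) = 0 := by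
      rw [← tr_sig Z sC hqC hk, Category.assoc, ← reassoc_of% (tr_nat g hk), reassoc_of% hs'2,
        ← hw, hu]
    have hrex : ∃ r : (X.obj (op k))⟦(1 : ℤ)⟧ ⟶ W, sig Z sC hkC ≫ w = h.app (op k) ≫ r :=
      Triangle.yoneda_exact₃ _ (hT k) (sig Z sC hkC ≫ w) h3
    obtain ⟨r, hr⟩ := hrex
    obtain ⟨k₀, hk₀⟩ := ev cA sA hA k
    let k' := max k₀ (max k p)
    have hkk' : k ≤ k' := (le_max_left _ _).trans (le_max_right _ _)
    have hpk' : p ≤ k' := (le_max_right _ _).trans (le_max_right _ _)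
    obtain ⟨hk'A, hkk'2, e⟩ := hk₀ k' (le_max_left _ _)
    have hw' : w = δ ≫ ((cA.app (op k))⟦(1 : ℤ)⟧' ≫ r) := by
      calc w = cC.app (op k) ≫ sig Z sC hkC ≫ w := by
            rw [← Category.assoc, c_sig cC sC hsC hkC]
            exact (Category.id_comp w).symm
        _ = cC.app (op k) ≫ h.app (op k) ≫ r := by rw [hr]
        _ = cC.app (op k') ≫ ARSys.tr Z hkk' ≫ h.app (op k) ≫ r := by
            rw [reassoc_of% (cone_tr cC hkk')]
        _ = cC.app (op k') ≫ h.app (op k') ≫ (ARSys.tr X hkk')⟦(1 : ℤ)⟧' ≫ r := by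
            rw [reassoc_of% (h_nat hkk')]
        _ = δ ≫ ((cA.app (op k))⟦(1 : ℤ)⟧' ≫ r) := by
            rw [e, Functor.map_comp, ← hδ k' hpk']
            simp only [Category.assoc]
    have hbδ : b ≫ δ = 0 := comp_distTriang_mor_zero₂₃ _ hT0
    rw [hw, hw', ← Category.assoc b δ, hbδ, zero_comp]
  -- surjectivity claim
  have hS : ∀ n : ℕ, ∃ (u : B ⟶ Y.obj (op n)), ∃ (k : ℕ) (hk : q ≤ k) (hn : n ≤ k),
      ARSys.tr Y hk ≫ s' ≫ u = ARSys.tr Y hn := by
    intro n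
    obtain ⟨β, hβ1, hβ2⟩ := hβ n
    obtain ⟨k₀, hk₀⟩ := ev cA sA hA n
    let k := max k₀ q
    have hqk : q ≤ k := le_max_right _ _
    obtain ⟨hkA, hnk, ek⟩ := hk₀ k (le_max_left _ _)
    let e : Y.obj (op k) ⟶ Y.obj (op n) := ARSys.tr Y hqk ≫ s' ≫ β - ARSys.tr Y hnk
    have he : f.app (op k) ≫ e = 0 := by
      dsimp only [e]
      rw [Preadditive.comp_sub, ← reassoc_of% (tr_nat f hqk), reassoc_of% hs'1, hβ1,
        ← tr_nat f hnk, ek, reassoc_of% (tr_sig X sA hqA hqk)]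
      simp
    have he'ex : ∃ e' : Z.obj (op k) ⟶ Y.obj (op n), e = g.app (op k) ≫ e' :=
      Triangle.yoneda_exact₂ _ (hT k) e he
    obtain ⟨e', he'⟩ := he'ex
    obtain ⟨k₁, hk₁⟩ := ev cC sC hC k
    let k' := max k₁ k
    have hkk' : k ≤ k' := le_max_right _ _
    obtain ⟨hk'C, hkk'2, ek'⟩ := hk₁ k' (le_max_left _ _)
    refine ⟨β - b ≫ cC.app (op k) ≫ e', k', hqk.trans hkk', hnk.trans hkk', ?_⟩
    have e1 : ARSys.tr Y (hqk.trans hkk') ≫ s' ≫ β =
        ARSys.tr Y hkk' ≫ g.app (op k) ≫ e' + ARSys.tr Y (hnk.trans hkk') := by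
      rw [← tr_tr Y hqk hkk', Category.assoc, ← tr_tr Y hnk hkk', ← he']
      dsimp only [e]
      rw [Preadditive.comp_sub]
      abel
    have e2 : ARSys.tr Y (hqk.trans hkk') ≫ s' ≫ b ≫ cC.app (op k) ≫ e' =
        ARSys.tr Y hkk' ≫ g.app (op k) ≫ e' := by
      rw [← reassoc_of% hs'2, reassoc_of% (tr_nat g (hqk.trans hkk')),
        reassoc_of% (tr_sig Z sC hqC (hqk.trans hkk')), ← reassoc_of% ek',
        reassoc_of% (tr_nat g hkk')]
    rw [Preadditive.comp_sub, Preadditive.comp_sub, e1, e2]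
    abel
  -- monotonicity of the defining property
  have hmono : ∀ {n : ℕ} (u : B ⟶ Y.obj (op n)) (k : ℕ) (hk : q ≤ k) (hn : n ≤ k),
      ARSys.tr Y hk ≫ s' ≫ u = ARSys.tr Y hn → ∀ (k' : ℕ) (hkk' : k ≤ k'),
        ARSys.tr Y (hk.trans hkk') ≫ s' ≫ u = ARSys.tr Y (hn.trans hkk') := by
    intro n u k hk hn e k' hkk'
    rw [← tr_tr Y hk hkk', Category.assoc, e, tr_tr]
  choose cB kB hkBq hkBn hcB using hS
  have hcone : ∀ {n m : ℕ} (hnm : n ≤ m), cB m ≫ ARSys.tr Y hnm = cB n := by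
    intro n m hnm
    rw [← sub_eq_zero]
    have E1 := hmono (cB m) (kB m) (hkBq m) (hkBn m) (hcB m) (max (kB m) (kB n)) (le_max_left _ _)
    have E2 := hmono (cB n) (kB n) (hkBq n) (hkBn n) (hcB n) (max (kB m) (kB n)) (le_max_right _ _)
    apply hI _ (max (kB m) (kB n)) ((hkBq m).trans (le_max_left _ _))
    rw [Preadditive.comp_sub, Preadditive.comp_sub, E2, reassoc_of% E1, tr_tr, sub_self]
  let cBn : (Functor.const ℕᵒᵖ).obj B ⟶ Y :=
    { app := fun n => cB n.unop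
      naturality := by
        intro n m φ
        have hle : m.unop ≤ n.unop := leOfHom φ.unop
        have hφ : Y.map φ = ARSys.tr Y hle := by
          dsimp only [ARSys.tr]
          congr 1
        dsimp only [Functor.const_obj_obj, Functor.const_obj_map]
        rw [Category.id_comp, hφ, hcone hle] }
  refine ⟨B, cBn, q, s', ?_, fun j => ⟨kB j, hkBq j, hkBn j, (hcB j).symm⟩⟩
  change cB q ≫ s' = 𝟙 B
  rw [← sub_eq_zero]
  apply hI _ (kB q) (hkBq q)
  rw [Preadditive.comp_sub, Preadditive.comp_sub, reassoc_of% (hcB q), Category.comp_id, sub_self]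

end Groth.Agent.S6615
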