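import Groth.Statements.S1799
import Groth.Agent.Lib.Helper90.Shriek.PolyBC

set_option autoImplicit false
set_option linter.style.haveILetI false
universe u
open CategoryTheory
attribute [local instance] HasDerivedCategory.standard
open Dual2

namespace Groth.Agent.S1799

/-- Let A → B → C be ring maps of finite type between Noetherian rings, where each upper shriek φ^!(K)
is formed from a presentation ψ : P = (base)[x_1, …, x_n] → (target) as RHom_P(target, K ⊗^L P)[n],
the derived base change functors being assumed to exist and RHom_P(target, −) being given as a right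
adjoint of restriction of scalars. Then for every K in D(A) which is bounded below, the upper shriek
of K along A → C is isomorphic to the upper shriek along B → C of the upper shriek along A → B of K. -/
theorem result (A B C : Type u) [CommRing A] [CommRing B] [CommRing C] [IsNoetherianRing A] [IsNoetherianRing B] [IsNoetherianRing C] [Algebra A B] [Algebra B C] [Algebra A C] [IsScalarTower A B C] (n : ℕ) (ψ : MvPolynomial (Fin n) A →ₐ[A] B) (hψ : Function.Surjective ψ) [DRing.HasLBaseChange (algebraMap A (MvPolynomial (Fin n) A))] (Rψ : Dual.D (MvPolynomial (Fin n) A) ⥤ Dual.D B) (adj : DRing.restrictD ψ.toRingHom ⊣ Rψ) (m : ℕ) (χ : MvPolynomial (Fin m) B →ₐ[B] C) (hχ : Function.Surjective χ) [DRing.HasLBaseChange (algebraMap B (MvPolynomial (Fin m) B))] (Rχ : Dual.D (MvPolynomial (Fin m) B) ⥤ Dual.D C) (adjχ : DRing.restrictD χ.toRingHom ⊣ Rχ) (k : ℕ) (θ : MvPolynomial (Fin k) A →ₐ[A] C) (hθ : Function.Surjective θ) [DRing.HasLBaseChange (algebraMap A (MvPolynomial (Fin k) A))] (Rθ : Dual.D (MvPolynomial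 (Fin k) A) ⥤ Dual.D C) (adjθ : DRing.restrictD θ.toRingHom ⊣ Rθ) (K : Dual.D A) (c : ℤ) (hK : ∀ i : ℤ, i < c → Subsingleton (Dual.HD A K i)) : Nonempty (Dual2.shriekVia k Rθ K ≅ Dual2.shriekVia m Rχ (Dual2.shriekVia n Rψ K)) := by
  classical
  obtain ⟨K₀, hK₀, ⟨eK⟩⟩ := Groth.Agent.Lib.Helper32.LBC.exists_kproj_iso K
  haveI := hK₀
  -- the `θ` side
  have H₁ := Groth.Agent.Lib.Helper90.Shriek.Inv.start K₀
    (algebraMap A (MvPolynomial (Fin k) A)) θ.toRingHom Rθ adjθ K eK (k : ℤ)
  -- the composite side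
  have hflat : (algebraMap A (MvPolynomial (Fin n) A)).Flat := by
    rw [RingHom.flat_algebraMap_iff]
    infer_instance
  have H₂ := Groth.Agent.Lib.Helper90.Shriek.Inv.polyBC K₀
    (algebraMap A (MvPolynomial (Fin n) A)) hflat ψ.toRingHom hψ adj m K eK c hK (n : ℤ)
  have H₃ := H₂.compAdj K₀ _ _ _ _ χ.toRingHom adjχ (m : ℤ)
  have H₄ := H₃.twoLayer K₀ _ _ _
  refine Groth.Agent.Lib.Helper90.Shriek.Inv.unique_mv K₀ θ.toRingHom _ hθ ?_ ?_ _ _ _ _ ?_ H₁ H₄
  · -- surjectivity
    refine (hχ.comp (MvPolynomial.map_surjective ψ.toRingHom hψ)).comp ?_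
    exact (Groth.Agent.Lib.Helper90.Shriek.twoLayerEquiv A m n).toRingEquiv.symm.surjective
  · intro r
    change θ (MvPolynomial.C r) = χ (MvPolynomial.map ψ.toRingHom
      ((Groth.Agent.Lib.Helper90.Shriek.twoLayerEquiv A m n).symm (MvPolynomial.C r)))
    rw [Groth.Agent.Lib.Helper90.Shriek.twoLayerEquiv_symm_C, MvPolynomial.map_C]
    have h1 : θ (MvPolynomial.C r) = algebraMap A C r := θ.commutes r
    have h2 : ψ.toRingHom (MvPolynomial.C r) = algebraMap A B r := ψ.commutes r
    have h3 : χ (MvPolynomial.C (algebraMap A B r)) = algebraMap B C (algebraMap A B r) :=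
      χ.commutes _
    rw [h1, h2, h3, ← IsScalarTower.algebraMap_apply]
  · push_cast
    ring

end Groth.Agent.S1799
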