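import Groth.Statements.S18717
import Groth.Agent.Lib.Helper60.SkDual2
open Groth.Agent.Lib.Helper60

set_option autoImplicit false
universe u
open CategoryTheory
attribute [local instance] HasDerivedCategory.standard
open QGor

namespace Groth.Agent.S18717

/-- Affine-local form with a normalized dualizing complex (so the codimension function vanishes at the
closed point). Let A be a Noetherian local ring with normalized dualizing complex ω, M a nonzero
finite A-module which is equidimensional of dimension δ, E^j = Ext^j(M, ω) the A-module of morphisms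
M → ω[j] in D(A), and k ≥ 1. Then M satisfies (S_k) if and only if dim Supp E^j ≤ −j − k for every
integer j ≠ −δ, where for −j − k < 0 this means E^j = 0. -/
theorem result (A : Type u) [CommRing A] [IsNoetherianRing A]
    [IsLocalRing A] (ω : Dual.D A) (hω : Dual.IsDualizing A ω) (hn : Dual.IsNormalized A ω)
    (M : Type u) [AddCommGroup M] [Module A M] [Module.Finite A M] [Nontrivial M]
    (hM : EGA4.IsEquidimModule A M) (δ : ℕ) (hδ : Module.supportDim A M = δ) (k : ℕ) (hk : 1 ≤ k) :
    LocCoh.HasSk k A M ↔
      ∀ j : ℤ, j ≠ -(δ : ℤ) →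
        (-j - (k : ℤ) < 0 → Subsingleton (Dual.inD A M ⟶ ω⟦j⟧)) ∧
        (0 ≤ -j - (k : ℤ) → Module.supportDim A (Dual.inD A M ⟶ ω⟦j⟧) ≤ ((-j - (k : ℤ)).toNat : WithBot ℕ∞)) := by
  -- the key claim for (⇒)
  have claim : LocCoh.HasSk k A M → ∀ j : ℤ, j ≠ -(δ : ℤ) → ∀ p : PrimeSpectrum A,
      p ∈ Module.support A (Dual.inD A M ⟶ ω⟦j⟧) →
      ∃ d : ℕ, ringKrullDim (A ⧸ p.asIdeal) = d ∧ (d : ℤ) ≤ -j - (k : ℤ) := by
    intro hSk j hj p hp
    rw [Module.mem_support_iff] at hp
    have hnt : Nontrivial (LocalizedModule p.asIdeal.primeCompl M) := by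
      by_contra hcon
      rw [not_nontrivial_iff_subsingleton] at hcon
      obtain ⟨d, hd, hdfun⟩ := Groth.Agent.Lib.Helper6.CMChar.exists_dimFun_local ω hω hn p
      have := SkDual.loc_ext_subsingleton_of_subsingleton ω hω p.asIdeal d hdfun M j
      exact not_subsingleton _ this
    obtain ⟨d, n, k₀, hd, hn', hk₀, hle, hdn, hdfun⟩ := SkDual.exists_data ω hω hn M hM δ hδ p
    have h1 := SkDual.loc_ext_range ω hω p.asIdeal d hdfun M n k₀ hn' hk₀ j hp
    have h3 := hSk p.asIdeal
    rw [hn', hk₀] at h3
    have h4 : min k n ≤ k₀ := by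
      rcases min_le_iff.1 h3 with h | h
      · exact min_le_iff.2 (Or.inl (by exact_mod_cast h))
      · exact min_le_iff.2 (Or.inr (by exact_mod_cast h))
    refine ⟨d, hd, ?_⟩
    have hδ' : (δ : ℤ) = d + n := by exact_mod_cast hdn.symm
    omega
  constructor
  · intro hSk j hj
    constructor
    · intro hlt
      by_contra hcon
      rw [not_subsingleton_iff_nontrivial] at hcon
      obtain ⟨p, hp⟩ := Module.nonempty_support_of_nontrivial (R := A)
        (M := (Dual.inD A M ⟶ ω⟦j⟧))
      obtain ⟨d, -, hd⟩ := claim hSk j hj p hp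
      omega
    · intro hge
      refine SkDual.supportDim_le_of_forall _ (fun p hp => ?_)
      obtain ⟨d, hd1, hd2⟩ := claim hSk j hj p hp
      rw [hd1]
      have : d ≤ (-j - (k : ℤ)).toNat := by omega
      exact_mod_cast this
  · intro H p hp
    have hNB : IsNoetherianRing (Localization.AtPrime p) :=
      IsLocalization.isNoetherianRing p.primeCompl (Localization.AtPrime p) inferInstance
    by_cases hnt : Nontrivial (LocalizedModule p.primeCompl M)
    · obtain ⟨d, n, k₀, hd, hn', hk₀, hle, hdn, hdfun⟩ :=
        SkDual.exists_data ω hω hn M hM δ hδ ⟨p, hp⟩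
      have hn'' : Module.supportDim (Localization.AtPrime p) (LocalizedModule p.primeCompl M) = n :=
        hn'
      have hk₀' : LocCoh.depth (Localization.AtPrime p) (LocalizedModule p.primeCompl M) = k₀ :=
        hk₀
      rw [hn'', hk₀']
      have hgoal : min k n ≤ k₀ := by
        rcases hle.eq_or_lt with heq | hlt
        · rw [heq]; exact min_le_right _ _
        · have hi := SkDual.loc_ext_nontrivial_depth ω hω p d hdfun M k₀ hk₀'
          have hδ' : (δ : ℤ) = d + n := by exact_mod_cast hdn.symm
          have hj : -(d : ℤ) - (k₀ : ℤ) ≠ -(δ : ℤ) := by omega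
          obtain ⟨H1, H2⟩ := H (-(d : ℤ) - (k₀ : ℤ)) hj
          have hmem : (⟨p, hp⟩ : PrimeSpectrum A) ∈
              Module.support A (Dual.inD A M ⟶ ω⟦-(d : ℤ) - (k₀ : ℤ)⟧) :=
            Module.mem_support_iff.2 hi
          have hge : 0 ≤ -(-(d : ℤ) - (k₀ : ℤ)) - (k : ℤ) := by
            by_contra hcon
            rw [not_le] at hcon
            have := H1 hcon
            rw [← Module.support_eq_empty_iff (R := A)] at this
            rw [this] at hmem
            exact hmem
          have h5 := (Groth.Agent.Lib.Helper29.ringKrullDim_quotient_le_supportDim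
            (⟨p, hp⟩ : PrimeSpectrum A) hmem).trans (H2 hge)
          have h5' : ringKrullDim (A ⧸ p) = d := hd
          rw [h5'] at h5
          have h6 : d ≤ (-(-(d : ℤ) - (k₀ : ℤ)) - (k : ℤ)).toNat := by exact_mod_cast h5
          have : k ≤ k₀ := by omega
          exact (min_le_left _ _).trans this
      rcases min_le_iff.1 hgoal with h | h
      · exact min_le_iff.2 (Or.inl (by exact_mod_cast h))
      · exact min_le_iff.2 (Or.inr (by exact_mod_cast h))
    · rw [not_nontrivial_iff_subsingleton] at hnt
      rw [Module.supportDim_eq_bot_of_subsingleton, min_bot_right]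
      exact bot_le

end Groth.Agent.S18717
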