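import Groth.Statements.S19452
import Groth.Agent.Lib.Helper84.LocalFlat
import Mathlib

set_option autoImplicit false
universe u
attribute [local instance] W4c6puncthilbintro.dualAlgebra
open HilbD

namespace Groth.Agent.S19452

universe v
open TensorProduct Function DualNumber TrivSqZeroExt

section general

/-- Flatness descends along a surjective ring map (for modules already over the target). -/
theorem flat_of_surjective_algebraMap {A : Type*} {k : Type*} {N : Type*} [CommSemiring A]
    [CommSemiring k] [Algebra A k] [AddCommMonoid N] [Module A N] [Module k N] [IsScalarTower A k N]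
    (h : Surjective (algebraMap A k)) [Module.Flat A N] : Module.Flat k N := by
  have hb : IsBaseChange k (LinearMap.id : N →ₗ[A] N) := by
    apply IsBaseChange.of_lift_unique
    intro Q _ _ _ _ g
    refine ⟨{ g with map_smul' := ?_ }, ?_, ?_⟩
    · intro c x
      obtain ⟨a, rfl⟩ := h c
      simp only [AddHom.toFun_eq_coe, LinearMap.coe_toAddHom, RingHom.id_apply, algebraMap_smul]
      exact g.map_smul a x
    · ext x
      rfl
    · intro g' hg'
      ext x
      exact LinearMap.congr_fun hg' x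
  exact Module.Flat.isBaseChange (R := A) (S := k) (M := N) N hb

end general

section dual
variable {A : Type u} [CommRing A]

theorem span_eps_sq : Ideal.span {(ε : DualNumber A)} * Ideal.span {(ε : DualNumber A)} = ⊥ := by
  rw [Ideal.span_singleton_mul_span_singleton, DualNumber.eps_mul_eps]
  exact Ideal.span_singleton_eq_bot.mpr rfl

theorem sub_inl_fst_mem (b : DualNumber A) :
    b - inl b.fst ∈ Ideal.span {(ε : DualNumber A)} := by
  rw [Ideal.mem_span_singleton']
  refine ⟨inl b.snd, ?_⟩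
  ext
  · simp only [TrivSqZeroExt.fst_mul, TrivSqZeroExt.fst_inl, DualNumber.fst_eps, mul_zero,
      TrivSqZeroExt.fst_sub, sub_self]
  · simp only [TrivSqZeroExt.snd_mul, TrivSqZeroExt.fst_inl, DualNumber.snd_eps,
      TrivSqZeroExt.snd_inl, DualNumber.fst_eps, TrivSqZeroExt.snd_sub, sub_zero, smul_eq_mul,
      mul_one, MulOpposite.smul_eq_mul_unop, MulOpposite.unop_op, mul_zero, add_zero]

variable (A) in
/-- The ideal `(ε)` of the dual numbers. -/
def epsIdeal : Ideal (DualNumber A) := Ideal.span {(ε : DualNumber A)}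

local notation "𝔢" => epsIdeal A

theorem flat_dualNumber (M : Type v) [AddCommGroup M] [Module A M] [Module (DualNumber A) M]
    [IsScalarTower A (DualNumber A) M]
    (N : Type v) [AddCommGroup N] [Module A N] [Module.Flat A N]
    (π : M →ₗ[A] N) (hπ : Surjective π)
    (hker : ∀ m, π m = 0 ↔ ∃ m', m = (ε : DualNumber A) • m')
    (hann : ∀ m : M, (ε : DualNumber A) • m = 0 → ∃ m', m = (ε : DualNumber A) • m') :
    Module.Flat (DualNumber A) M := by
  have hsurj : Surjective (algebraMap A (DualNumber A ⧸ 𝔢) : A →+* (DualNumber A ⧸ 𝔢)) := by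
    intro c
    obtain ⟨b, rfl⟩ := Ideal.Quotient.mk_surjective c
    refine ⟨b.fst, ?_⟩
    rw [IsScalarTower.algebraMap_apply A (DualNumber A) (DualNumber A ⧸ 𝔢),
      Ideal.Quotient.algebraMap_eq]
    symm
    rw [Ideal.Quotient.eq]
    exact sub_inl_fst_mem b
  have : Module.Flat A ((DualNumber A ⧸ 𝔢) ⊗[DualNumber A] M) := by
    let e1 : (DualNumber A ⧸ 𝔢) ⊗[DualNumber A] M ≃ₗ[DualNumber A]
        M ⧸ (𝔢 • ⊤ : Submodule (DualNumber A) M) := TensorProduct.quotTensorEquivQuotSMul M 𝔢
    let e1' : (DualNumber A ⧸ 𝔢) ⊗[DualNumber A] M ≃ₗ[A]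
        M ⧸ (𝔢 • ⊤ : Submodule (DualNumber A) M) := e1.restrictScalars A
    have hk : LinearMap.ker π = (𝔢 • ⊤ : Submodule (DualNumber A) M).restrictScalars A := by
      ext m
      rw [LinearMap.mem_ker, hker, Submodule.restrictScalars_mem, epsIdeal,
        Submodule.ideal_span_singleton_smul, Submodule.mem_smul_pointwise_iff_exists]
      constructor
      · rintro ⟨m', rfl⟩
        exact ⟨m', trivial, rfl⟩
      · rintro ⟨m', -, rfl⟩
        exact ⟨m', rfl⟩
    let e2 : (M ⧸ (𝔢 • ⊤ : Submodule (DualNumber A) M)) ≃ₗ[A] N :=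
      (Submodule.Quotient.restrictScalarsEquiv A (𝔢 • ⊤ : Submodule (DualNumber A) M)).symm.trans
        ((Submodule.quotEquivOfEq _ _ hk.symm).trans (π.quotKerEquivOfSurjective hπ))
    exact Module.Flat.of_linearEquiv (e1'.trans e2)
  have : Module.Flat (DualNumber A ⧸ 𝔢) ((DualNumber A ⧸ 𝔢) ⊗[DualNumber A] M) :=
    flat_of_surjective_algebraMap hsurj
  apply Groth.Agent.Lib.Helper84.flat_of_sq_zero 𝔢 M (span_eps_sq (A := A))
  have hε : (ε : DualNumber A) ∈ 𝔢 := Ideal.mem_span_singleton_self _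
  have hform : ∀ z : 𝔢 ⊗[DualNumber A] M, ∃ m : M, z = (⟨ε, hε⟩ : 𝔢) ⊗ₜ[DualNumber A] m := by
    intro z
    induction z using TensorProduct.induction_on with
    | zero => exact ⟨0, (TensorProduct.tmul_zero _ _).symm⟩
    | tmul x m =>
      obtain ⟨b, hb⟩ := Ideal.mem_span_singleton'.mp x.2
      refine ⟨b • m, ?_⟩
      have hx : x = b • (⟨ε, hε⟩ : 𝔢) := Subtype.ext (by simpa [smul_eq_mul] using hb.symm)
      rw [hx, TensorProduct.smul_tmul]
    | add x y hx hy =>
      obtain ⟨m1, rfl⟩ := hx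
      obtain ⟨m2, rfl⟩ := hy
      exact ⟨m1 + m2, (TensorProduct.tmul_add _ _ _).symm⟩
  rw [injective_iff_map_eq_zero]
  intro z hz
  obtain ⟨m, rfl⟩ := hform z
  rw [LinearMap.rTensor_tmul] at hz
  have h2 := congrArg (TensorProduct.lid (DualNumber A) M) hz
  rw [TensorProduct.lid_tmul, map_zero] at h2
  obtain ⟨m', rfl⟩ := hann m h2
  rw [← TensorProduct.smul_tmul]
  have : (ε : DualNumber A) • (⟨ε, hε⟩ : 𝔢) = 0 := Subtype.ext (by simp [smul_eq_mul])
  rw [this, TensorProduct.zero_tmul]

end dual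

section setting
variable {A : Type u} [CommRing A] {R : Type u} [CommRing R] [Algebra A R]

instance isScalarTower_dual : IsScalarTower A (DualNumber A) (DualNumber R) :=
  IsScalarTower.of_algebraMap_eq (fun a => by
    change _ = W4c6puncthilbintro.dualMap A R (algebraMap A (DualNumber A) a)
    rw [show algebraMap A (DualNumber A) a = inl a from rfl, W4c6puncthilbintro.dualMap_inl])

theorem eps_smul (y : DualNumber R) : (ε : DualNumber A) • y = (ε : DualNumber R) * y := by
  change W4c6puncthilbintro.dualMap A R ε * y = _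
  rw [W4c6puncthilbintro.dualMap_eps]

theorem eps_mul_eq (y : DualNumber R) : (ε : DualNumber R) * y = inr y.fst := by
  ext
  · simp
  · simp

theorem eps_smul_mk (J : Ideal (DualNumber R)) (y : DualNumber R) :
    (ε : DualNumber A) • (Ideal.Quotient.mk J y) = Ideal.Quotient.mk J (inr y.fst) := by
  rw [← eps_mul_eq, ← eps_smul (A := A)]
  rfl

/-- In a flat module over the dual numbers, the annihilator of `ε` is `ε M`. -/
theorem exists_eq_eps_smul_of_flat (M : Type v) [AddCommGroup M] [Module (DualNumber A) M]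
    [Module.Flat (DualNumber A) M] (m : M) (hm : (ε : DualNumber A) • m = 0) :
    ∃ m' : M, m = (ε : DualNumber A) • m' := by
  have h : ∑ i : Unit, (fun _ => (ε : DualNumber A)) i • (fun _ => m) i = 0 := by simpa using hm
  obtain ⟨k, a, y, h1, h2⟩ := Module.Flat.isTrivialRelation_of_sum_smul_eq_zero h
  have h3 : ∀ j, a () j = (ε : DualNumber A) * inl (a () j).snd := by
    intro j
    have := h2 j
    simp only [Finset.univ_unique, Finset.sum_singleton] at this
    have hfst : (a default j).fst = 0 := by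
      have := congrArg TrivSqZeroExt.snd this
      simpa using this
    ext
    · simpa using hfst
    · simp
  refine ⟨∑ j, (inl (a () j).snd : DualNumber A) • y j, ?_⟩
  have h1' : m = ∑ j, a () j • y j := h1 ()
  rw [Finset.smul_sum]
  refine h1'.trans (Finset.sum_congr rfl fun j _ => ?_)
  rw [smul_smul, ← h3 j]

end setting

section lift
variable {A : Type u} [CommRing A] {R : Type u} [CommRing R] [Algebra A R] (I : Ideal R)
open W4c6puncthilbintro

theorem mem_liftIdeal {φ : I →ₗ[R] R ⧸ I} {x : DualNumber R} :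
    x ∈ liftIdeal I φ ↔ ∃ h : x.fst ∈ I, Ideal.Quotient.mk I x.snd = φ ⟨x.fst, h⟩ := Iff.rfl

theorem exists_mem_liftIdeal (φ : I →ₗ[R] R ⧸ I) (a : R) (ha : a ∈ I) :
    ∃ b : R, Ideal.Quotient.mk I b = φ ⟨a, ha⟩ ∧ (inl a + inr b : DualNumber R) ∈ liftIdeal I φ := by
  obtain ⟨b, hb⟩ := Ideal.Quotient.mk_surjective (φ ⟨a, ha⟩)
  refine ⟨b, hb, ?_⟩
  rw [mem_liftIdeal]
  have h1 : (inl a + inr b : DualNumber R).fst = a := by simp
  have h2 : (inl a + inr b : DualNumber R).snd = b := by simp
  refine ⟨by rw [h1]; exact ha, ?_⟩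
  rw [h2, hb]
  congr 1
  exact Subtype.ext h1.symm

theorem eq_inl_add_inr (x : DualNumber R) : x = inl x.fst + inr x.snd := by
  ext <;> simp

/-- The reduction map `R[ε]/J → R/I`. -/
noncomputable def redMap (J : Ideal (DualNumber R)) (hJ : ∀ x ∈ J, x.fst ∈ I) :
    (DualNumber R ⧸ J) →ₐ[A] R ⧸ I :=
  Ideal.Quotient.liftₐ J ((Ideal.Quotient.mkₐ A I).comp (TrivSqZeroExt.fstHom A R R))
    (fun x hx => by
      rw [AlgHom.comp_apply, Ideal.Quotient.mkₐ_eq_mk]
      exact Ideal.Quotient.eq_zero_iff_mem.mpr (hJ x hx))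

theorem redMap_mk (J : Ideal (DualNumber R)) (hJ : ∀ x ∈ J, x.fst ∈ I) (x : DualNumber R) :
    redMap (A := A) I J hJ (Ideal.Quotient.mk J x) = Ideal.Quotient.mk I x.fst := rfl

theorem flat_quotient_liftIdeal [Module.Flat A (R ⧸ I)] (φ : I →ₗ[R] R ⧸ I) :
    Module.Flat (DualNumber A) (DualNumber R ⧸ liftIdeal I φ) := by
  have hJ : ∀ x ∈ liftIdeal I φ, x.fst ∈ I := fun x hx => hx.1
  -- key: elements with first component in `I` are multiples of `ε` modulo `J_φ`
  have key : ∀ x : DualNumber R, x.fst ∈ I →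
      ∃ m' : DualNumber R ⧸ liftIdeal I φ,
        Ideal.Quotient.mk (liftIdeal I φ) x = (ε : DualNumber A) • m' := by
    intro x hx
    obtain ⟨b, -, hb⟩ := exists_mem_liftIdeal I φ x.fst hx
    refine ⟨Ideal.Quotient.mk _ (inl (x.snd - b)), ?_⟩
    rw [eps_smul_mk, Ideal.Quotient.eq]
    have : x - inr (inl (x.snd - b) : DualNumber R).fst = inl x.fst + inr b := by
      ext <;> simp
    rw [this]
    exact hb
  refine flat_dualNumber (DualNumber R ⧸ liftIdeal I φ) (R ⧸ I)
    (redMap (A := A) I _ hJ).toLinearMap ?_ ?_ ?_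
  · intro c
    obtain ⟨r, rfl⟩ := Ideal.Quotient.mk_surjective c
    refine ⟨Ideal.Quotient.mk _ (inl r), ?_⟩
    rw [AlgHom.toLinearMap_apply, redMap_mk]
    simp
  · intro m
    obtain ⟨x, rfl⟩ := Ideal.Quotient.mk_surjective m
    rw [AlgHom.toLinearMap_apply, redMap_mk, Ideal.Quotient.eq_zero_iff_mem]
    constructor
    · exact key x
    · rintro ⟨m', hm'⟩
      obtain ⟨y, rfl⟩ := Ideal.Quotient.mk_surjective m'
      rw [eps_smul_mk, Ideal.Quotient.eq] at hm'
      have h1 := hJ _ hm'
      simpa using h1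
  · intro m hm
    obtain ⟨x, rfl⟩ := Ideal.Quotient.mk_surjective m
    rw [eps_smul_mk, Ideal.Quotient.eq_zero_iff_mem, mem_liftIdeal] at hm
    obtain ⟨h0, h1⟩ := hm
    apply key x
    have h2 : (⟨(inr x.fst : DualNumber R).fst, h0⟩ : I) = 0 := Subtype.ext (by simp)
    rw [h2, map_zero] at h1
    have h3 : (inr x.fst : DualNumber R).snd = x.fst := by simp
    rw [h3] at h1
    exact Ideal.Quotient.eq_zero_iff_mem.mp h1

end lift

section main
variable {A : Type u} [CommRing A] {R : Type u} [CommRing R] [Algebra A R] (I : Ideal R)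
open W4c6puncthilbintro

theorem map_fst_liftIdeal (φ : I →ₗ[R] R ⧸ I) :
    Ideal.map (TrivSqZeroExt.fstHom A R R) (liftIdeal I φ) = I := by
  apply le_antisymm
  · rw [Ideal.map_le_iff_le_comap]
    intro x hx
    exact hx.1
  · intro a ha
    obtain ⟨b, -, hb⟩ := exists_mem_liftIdeal I φ a ha
    have := Ideal.mem_map_of_mem (TrivSqZeroExt.fstHom A R R) hb
    simpa using this

theorem liftIdeal_injective : Function.Injective (liftIdeal I) := by
  intro φ ψ h
  ext ⟨a, ha⟩
  obtain ⟨b, hb1, hb2⟩ := exists_mem_liftIdeal I φ a ha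
  rw [h, mem_liftIdeal] at hb2
  obtain ⟨h1, h2⟩ := hb2
  have e1 : (inl a + inr b : DualNumber R).fst = a := by simp
  have e2 : (inl a + inr b : DualNumber R).snd = b := by simp
  rw [e2] at h2
  rw [← hb1, h2]
  congr 1
  exact Subtype.ext e1

theorem exists_eq_liftIdeal (J : Ideal (DualNumber R))
    (hflat : Module.Flat (DualNumber A) (DualNumber R ⧸ J))
    (hJ : Ideal.map (TrivSqZeroExt.fstHom A R R) J = I) :
    ∃ φ : I →ₗ[R] R ⧸ I, J = liftIdeal I φ := by
  have hfst : ∀ x ∈ J, x.fst ∈ I := by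
    intro x hx
    rw [← hJ]
    exact Ideal.mem_map_of_mem (TrivSqZeroExt.fstHom A R R) hx
  have hex : ∀ a ∈ I, ∃ x ∈ J, x.fst = a := by
    intro a ha
    rw [← hJ] at ha
    obtain ⟨x, hx, rfl⟩ := (Ideal.mem_map_iff_of_surjective (TrivSqZeroExt.fstHom A R R)
      (fun r => ⟨inl r, by simp⟩)).mp ha
    exact ⟨x, hx, rfl⟩
  -- `c ε ∈ J ↔ c ∈ I`
  have hinr : ∀ c : R, (inr c : DualNumber R) ∈ J ↔ c ∈ I := by
    intro c
    constructor
    · intro hc
      have h1 : (ε : DualNumber A) • (Ideal.Quotient.mk J (inl c)) = 0 := by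
        rw [eps_smul_mk, Ideal.Quotient.eq_zero_iff_mem]
        simpa using hc
      obtain ⟨m', hm'⟩ := exists_eq_eps_smul_of_flat (A := A) (DualNumber R ⧸ J) _ h1
      obtain ⟨y, rfl⟩ := Ideal.Quotient.mk_surjective m'
      rw [eps_smul_mk, Ideal.Quotient.eq] at hm'
      have := hfst _ hm'
      simpa using this
    · intro hc
      obtain ⟨x, hx, rfl⟩ := hex c hc
      rw [← eps_mul_eq]
      exact J.mul_mem_left _ hx
  -- well-definedness
  have hwd : ∀ x ∈ J, ∀ x' ∈ J, x.fst = x'.fst →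
      Ideal.Quotient.mk I x.snd = Ideal.Quotient.mk I x'.snd := by
    intro x hx x' hx' h
    rw [Ideal.Quotient.eq, ← hinr]
    have : (inr (x.snd - x'.snd) : DualNumber R) = x - x' := by
      ext
      · simp [h]
      · simp
    rw [this]
    exact J.sub_mem hx hx'
  choose g hg1 hg2 using hex
  let φ : I →ₗ[R] R ⧸ I :=
    { toFun := fun a => Ideal.Quotient.mk I (g a.1 a.2).snd
      map_add' := by
        intro a b
        rw [← map_add]
        have h1 : (g a.1 a.2 + g b.1 b.2) ∈ J := J.add_mem (hg1 _ _) (hg1 _ _)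
        have := hwd _ (hg1 (a + b).1 (a + b).2) _ h1 (by
          rw [hg2, TrivSqZeroExt.fst_add, hg2, hg2]; rfl)
        rw [this, TrivSqZeroExt.snd_add]
      map_smul' := by
        intro r a
        have h1 : (inl r * g a.1 a.2) ∈ J := J.mul_mem_left _ (hg1 _ _)
        have := hwd _ (hg1 (r • a).1 (r • a).2) _ h1 (by
          rw [hg2, TrivSqZeroExt.fst_mul, TrivSqZeroExt.fst_inl, hg2]; rfl)
        rw [this]
        simp [Algebra.smul_def] }
  have hφ : ∀ x ∈ J, ∀ h : x.fst ∈ I, Ideal.Quotient.mk I x.snd = φ ⟨x.fst, h⟩ := by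
    intro x hx h
    exact hwd x hx _ (hg1 _ h) (hg2 _ h).symm
  refine ⟨φ, ?_⟩
  ext x
  rw [mem_liftIdeal]
  constructor
  · intro hx
    exact ⟨hfst x hx, hφ x hx _⟩
  · rintro ⟨h1, h2⟩
    have h3 : Ideal.Quotient.mk I x.snd = Ideal.Quotient.mk I (g x.fst h1).snd := h2
    rw [Ideal.Quotient.eq, ← hinr] at h3
    have : x = g x.fst h1 + inr (x.snd - (g x.fst h1).snd) := by
      ext
      · simp [hg2]
      · simp
    rw [this]
    exact J.add_mem (hg1 _ _) h3

end main


/-- Let A be a commutative ring, R a commutative A-algebra free as an A-module, I an ideal of R with R/I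
flat over A, and view the dual numbers R[ε] as an algebra over A[ε] (ε ↦ ε). For φ : I → R/I linear
over R, let J_φ be the ideal of elements a + bε of R[ε] with a ∈ I and b ≡ φ(a) modulo I. Then each
R[ε]/J_φ is flat over A[ε] and J_φ reduces to I modulo ε; the assignment φ ↦ J_φ is injective; and
every ideal J of R[ε] with R[ε]/J flat over A[ε] which reduces to I modulo ε equals some J_φ. Thus
the first-order liftings of I correspond one-to-one to Hom_R(I, R/I) (the tangent space of the
Hilbert scheme at I). -/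
theorem result (A : Type u) [CommRing A] (R : Type u) [CommRing R]
    [Algebra A R] [Module.Free A R] (I : Ideal R) [Module.Flat A (R ⧸ I)] :
    (∀ φ : I →ₗ[R] R ⧸ I,
        Module.Flat (DualNumber A) (DualNumber R ⧸ W4c6puncthilbintro.liftIdeal I φ) ∧
          Ideal.map (TrivSqZeroExt.fstHom A R R) (W4c6puncthilbintro.liftIdeal I φ) = I) ∧
      Function.Injective (W4c6puncthilbintro.liftIdeal I) ∧
      ∀ J : Ideal (DualNumber R), Module.Flat (DualNumber A) (DualNumber R ⧸ J) →
        Ideal.map (TrivSqZeroExt.fstHom A R R) J = I →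
          ∃ φ : I →ₗ[R] R ⧸ I, J = W4c6puncthilbintro.liftIdeal I φ := by
  refine ⟨fun φ => ⟨flat_quotient_liftIdeal I φ, map_fst_liftIdeal I φ⟩, liftIdeal_injective I, ?_⟩
  intro J hflat hJ
  exact exists_eq_liftIdeal I J hflat hJ

end Groth.Agent.S19452
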