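import Groth.Statements.S17439
import Mathlib
import Groth.Agent.Lib.Helper11.TensorBasis

set_option autoImplicit false
universe u
open CategoryTheory AlgebraicGeometry
open DefoSh

namespace Groth.Agent.S17439

section Aux17439
open CategoryTheory.Limits TopologicalSpace Opposite TensorProduct
open Groth.Agent.Lib.Helper45 Groth.Agent.Lib.Helper49 Groth.Agent.Lib.Helper11.GenLocus

variable {X : Scheme.{u}}

/-- two morphisms out of a tensor product which agree on the sections `m ⊗ n` are equal. -/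
theorem tensorMod_hom_ext {M N P : X.Modules} (g g' : CohB1.tensorMod M N ⟶ P)
    (h : ∀ (U : X.Opens) (m : Γ(M, U)) (n : Γ(N, U)),
      g.app U (SecTwist.tmul M N U m n) = g'.app U (SecTwist.tmul M N U m n)) : g = g' := by
  refine Scheme.Modules.hom_ext _ _ fun U => ?_
  ext y
  obtain ⟨y', rfl⟩ : ∃ y' : Γ(CohB1.tensorMod M N, U), y' = y := ⟨y, rfl⟩
  have key : ∀ x : X, x ∈ U → ∃ (W : X.Opens) (hW : W ≤ U), x ∈ W ∧
      mres P hW (g.app U y') = mres P hW (g'.app U y') := by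
    intro x hx
    obtain ⟨W', hW', hxW', p, hp⟩ := toTensor_locSurj M N U y' x hx
    refine ⟨W', hW', hxW', ?_⟩
    have e1 : mres P hW' (g.app U y') = g.app W' (mres (CohB1.tensorMod M N) hW' y') :=
      (app_map g (homOfLE hW') y').symm
    have e2 : mres P hW' (g'.app U y') = g'.app W' (mres (CohB1.tensorMod M N) hW' y') :=
      (app_map g' (homOfLE hW') y').symm
    have hp' : mres (CohB1.tensorMod M N) hW' y' = ((SecTwist.toTensor M N).app (op W')).hom p :=
      hp.symm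
    rw [e1, e2, hp']
    let τ : ((CohB1.toPMod M).obj (op W') ⊗[((X.sheaf.obj ⋙ forget₂ CommRingCat RingCat).obj
        (op W'))] (CohB1.toPMod N).obj (op W')) →+ Γ(CohB1.tensorMod M N, W') :=
      { toFun := fun q => ((SecTwist.toTensor M N).app (op W')).hom q
        map_zero' := map_zero _
        map_add' := map_add _ }
    let G : Γ(CohB1.tensorMod M N, W') →+ Γ(P, W') := (g.app W').hom
    let G' : Γ(CohB1.tensorMod M N, W') →+ Γ(P, W') := (g'.app W').hom
    have hall : ∀ q, (G.comp τ) q = (G'.comp τ) q := by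
      intro q
      induction q using TensorProduct.induction_on with
      | zero => rw [map_zero, map_zero]
      | tmul m n => exact h W' m n
      | add a b ha hb => rw [map_add, map_add, ha, hb]
    exact hall p
  choose W hW hxW hres using key
  apply TopCat.Sheaf.eq_of_locally_eq' ⟨P.presheaf, P.isSheaf⟩ (fun i : U => W i.1 i.2) U
    (fun i => homOfLE (hW i.1 i.2))
  · intro x hx
    exact Opens.mem_iSup.mpr ⟨⟨x, hx⟩, hxW x hx⟩
  · intro i
    exact hres i.1 i.2

end Aux17439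

section Conn
open CategoryTheory.Limits TopologicalSpace Opposite TensorProduct
open Groth.Agent.Lib.Helper45 Groth.Agent.Lib.Helper49 Groth.Agent.Lib.Helper11.GenLocus

variable {X : Scheme.{u}}

theorem tensorMap_add_left {M M' N : X.Modules} (f g : M ⟶ M') :
    KoszTw.tensorMap (f + g) (𝟙 N) = KoszTw.tensorMap f (𝟙 N) + KoszTw.tensorMap g (𝟙 N) := by
  apply tensorMod_hom_ext
  intro U m n
  rw [KoszTw.tensorMap_tmul, Scheme.Modules.Hom.add_app, Scheme.Modules.Hom.add_app]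
  change SecTwist.tmul M' N U (f.app U m + g.app U m) ((𝟙 N : N ⟶ N).app U n) =
    (KoszTw.tensorMap f (𝟙 N)).app U (SecTwist.tmul M N U m n) +
      (KoszTw.tensorMap g (𝟙 N)).app U (SecTwist.tmul M N U m n)
  rw [KoszTw.tensorMap_tmul, KoszTw.tensorMap_tmul]
  exact tmul_add_left M' N U _ _ _

theorem tensorMap_zero_left {M M' N : X.Modules} :
    KoszTw.tensorMap (0 : M ⟶ M') (𝟙 N) = 0 := by
  have h := tensorMap_add_left (N := N) (0 : M ⟶ M') 0
  rw [add_zero] at h
  exact left_eq_add.mp h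

variable {k : Type u} [Field k] [X.Over (Spec (CommRingCat.of k))]

/-- the image of a scalar in the functions on an open. -/
noncomputable def cst (U : X.Opens) (c : k) : Γ(X, U) :=
  X.presheaf.map (homOfLE (le_top : U ≤ ⊤)).op (Coh.toGlobal (X ↘ Spec (CommRingCat.of k)) c)

theorem tensorMap_smul_left {M M' N : X.Modules} (c : k) (f : M ⟶ M') :
    KoszTw.tensorMap (c • f) (𝟙 N) = c • KoszTw.tensorMap f (𝟙 N) := by
  apply tensorMod_hom_ext
  intro U m n
  have e2 := KLin.smul_app_apply c (KoszTw.tensorMap f (𝟙 N)) U (SecTwist.tmul M N U m n)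
  refine Eq.trans ?_ e2.symm
  rw [KoszTw.tensorMap_tmul, KLin.smul_app_apply]
  have e3 := KoszTw.tensorMap_tmul f (𝟙 N) U m n
  refine Eq.trans ?_ (congrArg (fun z => cst (k := k) U c • z) e3).symm
  exact tmul_smul_left M' N U _ _ _

variable {Ω' : X.Modules} (δ : OmegaSh.Der (X ↘ Spec (CommRingCat.of k)) Ω')

theorem der_cst (U : X.Opens) (c : k) : δ.app U (cst U c) = 0 := by
  have h0 : δ.app ⊤ (Coh.toGlobal (X ↘ Spec (CommRingCat.of k)) c) = 0 :=
    δ.d_app (X := op ⊤) ((Scheme.ΓSpecIso (CommRingCat.of k)).inv.hom c)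
  have h1 := δ.d_map (homOfLE (le_top : U ≤ ⊤)).op
    (Coh.toGlobal (X ↘ Spec (CommRingCat.of k)) c)
  change δ.d (X := op U) _ = 0
  refine h1.trans ?_
  have h0' : δ.d (X := op ⊤) (Coh.toGlobal (X ↘ Spec (CommRingCat.of k)) c) = 0 := h0
  rw [h0']
  exact map_zero _

end Conn

section Horiz
open CategoryTheory.Limits TopologicalSpace Opposite TensorProduct
open Groth.Agent.Lib.Helper45 Groth.Agent.Lib.Helper49 Groth.Agent.Lib.Helper11.GenLocus

variable {X : Scheme.{u}} {k : Type u} [Field k] [X.Over (Spec (CommRingCat.of k))]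
  {Ω' : X.Modules} (δ : OmegaSh.Der (X ↘ Spec (CommRingCat.of k)) Ω')

theorem tmul_zero_right (M N : X.Modules) (U : X.Opens) (m : (CohB1.toPMod M).obj (op U)) :
    SecTwist.tmul M N U m (0 : (CohB1.toPMod N).obj (op U)) = 0 := by
  have e : m ⊗ₜ[((X.sheaf.obj ⋙ forget₂ CommRingCat RingCat).obj (op U))]
      (0 : (CohB1.toPMod N).obj (op U)) = 0 := TensorProduct.tmul_zero _ m
  exact (congrArg ((SecTwist.toTensor M N).app (op U)).hom e).trans (map_zero _)

variable {M M' : X.Modules} {c : Coh.toAb M ⟶ Coh.toAb (CohB1.tensorMod M Ω')}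
  {c' : Coh.toAb M' ⟶ Coh.toAb (CohB1.tensorMod M' Ω')}

theorem isHorizontal_add {φ ψ : M ⟶ M'} (hφ : ConnSh.IsHorizontal c c' φ)
    (hψ : ConnSh.IsHorizontal c c' ψ) : ConnSh.IsHorizontal c c' (φ + ψ) := by
  intro U e
  rw [tensorMap_add_left, Scheme.Modules.Hom.add_app, Scheme.Modules.Hom.add_app]
  change ConnSh.secApp c' U (φ.app U e + ψ.app U e) =
    (KoszTw.tensorMap φ (𝟙 Ω')).app U (ConnSh.secApp c U e) +
      (KoszTw.tensorMap ψ (𝟙 Ω')).app U (ConnSh.secApp c U e)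
  refine ((ConnSh.secApp c' U).map_add _ _).trans ?_
  exact congrArg₂ (· + ·) (hφ U e) (hψ U e)

theorem isHorizontal_smul (hc' : ConnSh.IsConn δ M' c') (a : k) {φ : M ⟶ M'}
    (hφ : ConnSh.IsHorizontal c c' φ) : ConnSh.IsHorizontal c c' (a • φ) := by
  intro U e
  rw [tensorMap_smul_left]
  have e1 : (a • φ).app U e = cst U a • φ.app U e := KLin.smul_app_apply a φ U e
  have e2 : (a • KoszTw.tensorMap φ (𝟙 Ω')).app U (ConnSh.secApp c U e) =
      cst U a • (KoszTw.tensorMap φ (𝟙 Ω')).app U (ConnSh.secApp c U e) :=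
    KLin.smul_app_apply a (KoszTw.tensorMap φ (𝟙 Ω')) U (ConnSh.secApp c U e)
  refine (congrArg (ConnSh.secApp c' U) e1).trans ?_
  refine (hc' U (cst U a) (φ.app U e)).trans ?_
  refine Eq.trans ?_ e2.symm
  have h3 : SecTwist.tmul M' Ω' U (φ.app U e) (δ.app U (cst U a)) = 0 := by
    rw [der_cst]
    exact tmul_zero_right M' Ω' U _
  exact (congrArg₂ (· + ·) (congrArg (fun z => cst U a • z) (hφ U e)) h3).trans (add_zero _)

end Horiz

section Triv
open CategoryTheory.Limits TopologicalSpace Opposite TensorProduct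
open Groth.Agent.Lib.Helper45 Groth.Agent.Lib.Helper49 Groth.Agent.Lib.Helper11.GenLocus

variable {X : Scheme.{u}} {k : Type u} [Field k] [X.Over (Spec (CommRingCat.of k))]
  {Ω' : X.Modules} (δ : OmegaSh.Der (X ↘ Spec (CommRingCat.of k)) Ω') (E : X.Modules)
  (nabla : Coh.toAb E ⟶ Coh.toAb (CohB1.tensorMod E Ω'))

/-- the underlying map of abelian sheaves. -/
noncomputable abbrev toAbMap {M N : X.Modules} (φ : M ⟶ N) : Coh.toAb M ⟶ Coh.toAb N :=
  (SheafOfModules.toSheaf X.ringCatSheaf).map φ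

/-- the connection `∇ ⊕ ∇` on `E ⊞ E`. -/
noncomputable def trivConn : Coh.toAb (E ⊞ E) ⟶ Coh.toAb (CohB1.tensorMod (E ⊞ E) Ω') :=
  toAbMap (biprod.fst : E ⊞ E ⟶ E) ≫ nabla ≫
      toAbMap (KoszTw.tensorMap (biprod.inl : E ⟶ E ⊞ E) (𝟙 Ω')) +
    toAbMap (biprod.snd : E ⊞ E ⟶ E) ≫ nabla ≫
      toAbMap (KoszTw.tensorMap (biprod.inr : E ⟶ E ⊞ E) (𝟙 Ω'))

theorem trivConn_apply (U : X.Opens) (e : (E ⊞ E).val.obj (op U)) :
    ConnSh.secApp (trivConn E nabla) U e =
      (KoszTw.tensorMap (biprod.inl : E ⟶ E ⊞ E) (𝟙 Ω')).app U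
          (ConnSh.secApp nabla U ((biprod.fst : E ⊞ E ⟶ E).app U e)) +
        (KoszTw.tensorMap (biprod.inr : E ⟶ E ⊞ E) (𝟙 Ω')).app U
          (ConnSh.secApp nabla U ((biprod.snd : E ⊞ E ⟶ E).app U e)) := rfl


theorem tensorMap_comp_left {M M' M'' N : X.Modules} (f : M ⟶ M') (f' : M' ⟶ M'') :
    KoszTw.tensorMap f (𝟙 N) ≫ KoszTw.tensorMap f' (𝟙 N) = KoszTw.tensorMap (f ≫ f') (𝟙 N) := by
  rw [← KoszTw.tensorMap_comp, Category.comp_id]

theorem app_comp_apply {M M' M'' : X.Modules} (f : M ⟶ M') (f' : M' ⟶ M'') (U : X.Opens)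
    (x : M.val.obj (op U)) : f'.app U (f.app U x) = (f ≫ f').app U x := rfl

theorem inr_horizontal :
    ConnSh.IsHorizontal nabla (trivConn E nabla) (biprod.inr : E ⟶ E ⊞ E) := by
  intro U x
  refine (trivConn_apply E nabla U _).trans ?_
  have h1 : (biprod.fst : E ⊞ E ⟶ E).app U ((biprod.inr : E ⟶ E ⊞ E).app U x) = 0 := by
    rw [app_comp_apply, biprod.inr_fst]
    rfl
  have h2 : (biprod.snd : E ⊞ E ⟶ E).app U ((biprod.inr : E ⟶ E ⊞ E).app U x) = x := by
    rw [app_comp_apply, biprod.inr_snd]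
    rfl
  have t1 : (KoszTw.tensorMap (biprod.inl : E ⟶ E ⊞ E) (𝟙 Ω')).app U
      (ConnSh.secApp nabla U ((biprod.fst : E ⊞ E ⟶ E).app U
        ((biprod.inr : E ⟶ E ⊞ E).app U x))) = 0 :=
    (congrArg (fun z => (KoszTw.tensorMap (biprod.inl : E ⟶ E ⊞ E) (𝟙 Ω')).app U
      (ConnSh.secApp nabla U z)) h1).trans
      ((congrArg (fun z => (KoszTw.tensorMap (biprod.inl : E ⟶ E ⊞ E) (𝟙 Ω')).app U z)
        (map_zero (ConnSh.secApp nabla U))).trans (map_zero _))
  have t2 : (KoszTw.tensorMap (biprod.inr : E ⟶ E ⊞ E) (𝟙 Ω')).app U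
      (ConnSh.secApp nabla U ((biprod.snd : E ⊞ E ⟶ E).app U
        ((biprod.inr : E ⟶ E ⊞ E).app U x))) =
      (KoszTw.tensorMap (biprod.inr : E ⟶ E ⊞ E) (𝟙 Ω')).app U (ConnSh.secApp nabla U x) :=
    congrArg (fun z => (KoszTw.tensorMap (biprod.inr : E ⟶ E ⊞ E) (𝟙 Ω')).app U
      (ConnSh.secApp nabla U z)) h2
  exact (congrArg₂ (· + ·) t1 t2).trans (zero_add _)

theorem fst_horizontal :
    ConnSh.IsHorizontal (trivConn E nabla) nabla (biprod.fst : E ⊞ E ⟶ E) := by
  intro U e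
  refine Eq.symm ?_
  refine (congrArg (fun z => (KoszTw.tensorMap (biprod.fst : E ⊞ E ⟶ E) (𝟙 Ω')).app U z)
    (trivConn_apply E nabla U e)).trans ?_
  refine (map_add (ConcreteCategory.hom ((KoszTw.tensorMap (biprod.fst : E ⊞ E ⟶ E) (𝟙 Ω')).app U))
    _ _).trans ?_
  have t1 : ∀ A : (CohB1.tensorMod E Ω').val.obj (op U),
      (KoszTw.tensorMap (biprod.fst : E ⊞ E ⟶ E) (𝟙 Ω')).app U
        ((KoszTw.tensorMap (biprod.inl : E ⟶ E ⊞ E) (𝟙 Ω')).app U A) = A := by
    intro A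
    rw [app_comp_apply, tensorMap_comp_left, biprod.inl_fst, KoszTw.tensorMap_id]
    rfl
  have t2 : ∀ B : (CohB1.tensorMod E Ω').val.obj (op U),
      (KoszTw.tensorMap (biprod.fst : E ⊞ E ⟶ E) (𝟙 Ω')).app U
        ((KoszTw.tensorMap (biprod.inr : E ⟶ E ⊞ E) (𝟙 Ω')).app U B) = 0 := by
    intro B
    rw [app_comp_apply, tensorMap_comp_left, biprod.inr_fst, tensorMap_zero_left]
    rfl
  exact (congrArg₂ (· + ·) (t1 _) (t2 _)).trans (add_zero _)

theorem trivConn_isConn (hn : ConnSh.IsConn δ E nabla) :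
    ConnSh.IsConn δ (E ⊞ E) (trivConn E nabla) := by
  intro U t e
  have hcomp : ∀ (j : E ⟶ E ⊞ E) (q : E ⊞ E ⟶ E),
      (KoszTw.tensorMap j (𝟙 Ω')).app U (ConnSh.secApp nabla U (q.app U (t • e))) =
        t • (KoszTw.tensorMap j (𝟙 Ω')).app U (ConnSh.secApp nabla U (q.app U e)) +
          tm (E ⊞ E) Ω' U (j.app U (q.app U e)) (δ.app U t) := by
    intro j q
    have e1 : q.app U (t • e) = t • q.app U e := Scheme.Modules.Hom.app_smul q t e
    refine (congrArg (fun z => (KoszTw.tensorMap j (𝟙 Ω')).app U (ConnSh.secApp nabla U z))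
      e1).trans ?_
    refine (congrArg (fun z => (KoszTw.tensorMap j (𝟙 Ω')).app U z)
      (hn U t (q.app U e))).trans ?_
    refine (map_add (ConcreteCategory.hom ((KoszTw.tensorMap j (𝟙 Ω')).app U)) _ _).trans ?_
    refine congrArg₂ (· + ·) ?_ ?_
    · exact Scheme.Modules.Hom.app_smul (KoszTw.tensorMap j (𝟙 Ω')) t _
    · exact KoszTw.tensorMap_tmul j (𝟙 Ω') U (q.app U e) (δ.app U t)
  refine (trivConn_apply E nabla U (t • e)).trans ?_
  rw [hcomp biprod.inl biprod.fst, hcomp biprod.inr biprod.snd]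
  have htot : (biprod.inl : E ⟶ E ⊞ E).app U ((biprod.fst : E ⊞ E ⟶ E).app U e) +
      (biprod.inr : E ⟶ E ⊞ E).app U ((biprod.snd : E ⊞ E ⟶ E).app U e) = e := by
    rw [app_comp_apply, app_comp_apply]
    have := congrArg (fun f => (Scheme.Modules.Hom.app f U) e)
      (biprod.total : (biprod.fst : E ⊞ E ⟶ E) ≫ biprod.inl + biprod.snd ≫ biprod.inr = 𝟙 _)
    exact this
  have hsum : tm (E ⊞ E) Ω' U
        ((biprod.inl : E ⟶ E ⊞ E).app U ((biprod.fst : E ⊞ E ⟶ E).app U e)) (δ.app U t) +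
      tm (E ⊞ E) Ω' U
        ((biprod.inr : E ⟶ E ⊞ E).app U ((biprod.snd : E ⊞ E ⟶ E).app U e)) (δ.app U t) =
      tm (E ⊞ E) Ω' U e (δ.app U t) := by
    rw [← tm_add_left, htot]
  have hfinal : (t • (KoszTw.tensorMap (biprod.inl : E ⟶ E ⊞ E) (𝟙 Ω')).app U
          (ConnSh.secApp nabla U ((biprod.fst : E ⊞ E ⟶ E).app U e)) +
        tm (E ⊞ E) Ω' U
          ((biprod.inl : E ⟶ E ⊞ E).app U ((biprod.fst : E ⊞ E ⟶ E).app U e)) (δ.app U t)) +
      (t • (KoszTw.tensorMap (biprod.inr : E ⟶ E ⊞ E) (𝟙 Ω')).app U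
          (ConnSh.secApp nabla U ((biprod.snd : E ⊞ E ⟶ E).app U e)) +
        tm (E ⊞ E) Ω' U
          ((biprod.inr : E ⟶ E ⊞ E).app U ((biprod.snd : E ⊞ E ⟶ E).app U e)) (δ.app U t)) =
      t • ((KoszTw.tensorMap (biprod.inl : E ⟶ E ⊞ E) (𝟙 Ω')).app U
          (ConnSh.secApp nabla U ((biprod.fst : E ⊞ E ⟶ E).app U e)) +
        (KoszTw.tensorMap (biprod.inr : E ⟶ E ⊞ E) (𝟙 Ω')).app U
          (ConnSh.secApp nabla U ((biprod.snd : E ⊞ E ⟶ E).app U e))) +
      tm (E ⊞ E) Ω' U e (δ.app U t) := by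
    rw [smul_add, ← hsum]
    abel
  exact hfinal

end Triv

/-- Let k be a field, X a scheme over k with a receptacle of differentials (Ω′, δ) over k, Ω′
quasi-coherent, and E a finite locally free O_X-module with a connection ∇ : E → E ⊗ Ω′. Then ∇ has
at least one deformation over the trivial first-order deformation E ⊕ εE of E (a connection on E ⊕
εE commuting with k[ε] and reducing to ∇), so the set of deformations of ∇ over the trivial
deformation (the set that corresponds to H⁰(End(E) ⊗ Ω′)) is not empty. The published statement is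
for a curve with its sheaf of differentials; this row takes any scheme over k with any
quasi-coherent receptacle of differentials, which the printed computation does not use. -/
theorem result (k : Type u) [Field k] (X : Scheme.{u})
    [X.Over (Spec (CommRingCat.of k))] (Ω' : X.Modules) (δ : OmegaSh.Der (X ↘ Spec (CommRingCat.of k)) Ω')
    (hΩ' : Coh.IsQCoh Ω') (E : X.Modules) (hE : FlatMod.IsFinLocFree E)
    (nabla : Coh.toAb E ⟶ Coh.toAb (CohB1.tensorMod E Ω')) (hn : ConnSh.IsConn δ E nabla) :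
    Nonempty (DefoSh.DefoConn δ nabla (DefoSh.Defo.trivDual k E)) := by
  have hconn := trivConn_isConn δ E nabla hn
  refine ⟨{ conn := trivConn E nabla
            isConn := hconn
            act_horizontal := ?_
            π_horizontal := fst_horizontal E nabla }⟩
  intro a
  have h := DefoSh.dualAct_hom (k := k) E a
  change ConnSh.IsHorizontal (trivConn E nabla) (trivConn E nabla)
    (DefoSh.dualAct k E a : E ⊞ E ⟶ E ⊞ E)
  rw [h]
  exact isHorizontal_add
    (isHorizontal_smul δ hconn _ (DefoSh.isHorizontal_id _))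
    (isHorizontal_smul δ hconn _
      (DefoSh.isHorizontal_comp (fst_horizontal E nabla) (inr_horizontal E nabla)))

end Groth.Agent.S17439
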