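import Groth.Statements.S2136
import Mathlib
import Groth.Agent.Lib.Helper61.GU6

set_option autoImplicit false
universe u
open CAlg

namespace Groth.Agent.S2136

/-- Let `A` be a domain, `A → B` a ring map of finite type, and `𝔮` a prime of `B` lying over `𝔭 ⊆ A`,
with `A_𝔭` geometrically unibranch, `A → B` unramified at `𝔮` and `A_𝔭 → B_𝔮` injective. Then `B_g`
is étale over `A` for some `g ∉ 𝔮`. (`B` is assumed of finite type over `A` throughout; the
published statement needs this only after inverting an element outside `𝔮`.) -/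
theorem result {A B : Type u} [CommRing A] [IsDomain A] [CommRing B]
    [Algebra A B] (q : Ideal B) [q.IsPrime] (p : Ideal A) [p.IsPrime] [q.LiesOver p]
    (hA : CAlg2.IsGeomUnibranch (Localization.AtPrime p)) [Algebra.FiniteType A B] [Algebra.IsUnramifiedAt A q]
    (hinj : Function.Injective (Localization.localRingHom p q (algebraMap A B) (q.over_def p))) :
    ∃ g : B, g ∉ q ∧ Algebra.Etale A (Localization.Away g) := by
  classical
  obtain ⟨f, hf, P, φ, hφ⟩ :=
    Algebra.IsUnramifiedAt.exists_hasStandardEtaleSurjectionOn (R := A) q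
  -- the prime `qf` of `B_f`
  have hdisj : Disjoint (Submonoid.powers f : Set B) (q : Set B) := by
    rw [Set.disjoint_left]
    rintro _ ⟨n, rfl⟩ hmem
    exact hf (‹q.IsPrime›.mem_of_pow_mem n hmem)
  let qf : Ideal (Localization.Away f) := q.map (algebraMap B (Localization.Away f))
  have hqf : qf.IsPrime :=
    IsLocalization.isPrime_of_isPrime_disjoint (Submonoid.powers f) _ q ‹_› hdisj
  have hqfc : qf.comap (algebraMap B (Localization.Away f)) = q :=
    IsLocalization.under_map_of_isPrime_disjoint (Submonoid.powers f) _ ‹_› hdisj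
  let 𝔮 : Ideal P.Ring := qf.comap φ
  have h𝔮 : 𝔮.IsPrime := Ideal.comap_isPrime _ _
  have hover : 𝔮.LiesOver p := by
    constructor
    ext a
    rw [Ideal.under_def, Ideal.mem_comap, Ideal.mem_comap, AlgHom.commutes,
      IsScalarTower.algebraMap_apply A B (Localization.Away f), ← Ideal.mem_comap, hqfc,
      (‹q.LiesOver p›).over, Ideal.under_def, Ideal.mem_comap]
  have hdomA : IsDomain (Localization.AtPrime p) := inferInstance
  obtain ⟨hdom, -⟩ :=
    Groth.Agent.Lib.Helper61.GU.isGeomUnibranch_atPrime_of_etale A P.Ring p 𝔮 hdomA hA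
  have hmk : ∀ (b : B) (n : ℕ), b ∈ q →
      IsLocalization.mk' (Localization.Away f) b (⟨f ^ n, n, rfl⟩ : Submonoid.powers f) ∈ qf :=
    fun b n hb => (IsLocalization.mk'_mem_map_algebraMap_iff (Submonoid.powers f) _ q b _).mpr
      ⟨1, one_mem _, by simpa using hb⟩
  -- every element of `ker φ` dies in `C_𝔮`
  have hker : ∀ x : P.Ring, φ x = 0 → ∃ s, s ∉ 𝔮 ∧ s * x = 0 := by
    let D := Localization.AtPrime 𝔮
    let I : Ideal D := (RingHom.ker φ).map (algebraMap P.Ring D)
    have hinjI : Function.Injective (algebraMap A (D ⧸ I)) := by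
      rw [injective_iff_map_eq_zero]
      intro a ha
      rw [IsScalarTower.algebraMap_apply A D (D ⧸ I), Ideal.Quotient.algebraMap_eq,
        Ideal.Quotient.eq_zero_iff_mem, IsScalarTower.algebraMap_apply A P.Ring D,
        IsLocalization.algebraMap_mem_map_algebraMap_iff 𝔮.primeCompl] at ha
      obtain ⟨s, hs, hsa⟩ := ha
      have h1 : φ s * algebraMap A (Localization.Away f) a = 0 := by
        have := RingHom.mem_ker.mp hsa
        simpa using this
      have h2 : φ s ∉ qf := hs
      obtain ⟨b, ⟨_, n, rfl⟩, hb⟩ := IsLocalization.exists_mk'_eq (Submonoid.powers f) (φ s)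
      have hbq : b ∉ q := fun hb' => h2 (hb ▸ hmk b n hb')
      have h3 : algebraMap B (Localization.Away f) (b * algebraMap A B a) = 0 := by
        have : algebraMap B (Localization.Away f) b = φ s * algebraMap B _ (f ^ n) := by
          rw [← hb, IsLocalization.mk'_spec]
        rw [map_mul, this, ← IsScalarTower.algebraMap_apply A B, mul_right_comm, h1, zero_mul]
      obtain ⟨⟨_, m, rfl⟩, hm⟩ := (IsLocalization.map_eq_zero_iff (Submonoid.powers f) _ _).mp h3
      have h4 : algebraMap A (Localization.AtPrime q) a = 0 := by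
        rw [IsScalarTower.algebraMap_apply A B, IsLocalization.map_eq_zero_iff q.primeCompl]
        refine ⟨⟨f ^ m * b, ?_⟩, ?_⟩
        · exact q.primeCompl.mul_mem (pow_mem (show f ∈ q.primeCompl from hf) m) hbq
        · simpa [mul_assoc] using hm
      have h5 : Localization.localRingHom p q (algebraMap A B) (q.over_def p)
          (algebraMap A _ a) = 0 := by
        rw [Localization.localRingHom_to_map, ← IsScalarTower.algebraMap_apply]
        exact h4
      have h6 : algebraMap A (Localization.AtPrime p) a = 0 := hinj (by rw [h5, map_zero])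
      exact (IsLocalization.injective _ p.primeCompl_le_nonZeroDivisors) (by rw [h6, map_zero])
    have hI : I = ⊥ := Groth.Agent.Lib.Helper61.GU.eq_bot_of_quasiFinite_of_injective I hinjI
    intro x hx
    have : algebraMap P.Ring D x ∈ I := Ideal.mem_map_of_mem _ (RingHom.mem_ker.mpr hx)
    rw [hI, Ideal.mem_bot, IsLocalization.map_eq_zero_iff 𝔮.primeCompl] at this
    obtain ⟨⟨s, hs⟩, h⟩ := this
    exact ⟨s, hs, h⟩
  have : IsReduced P.Ring := Groth.Agent.S9407.result A P.Ring
  obtain ⟨h, hh, hkill⟩ :=
    Groth.Agent.Lib.Helper61.GU.exists_not_mem_forall_mul_eq_zero (A := A) 𝔮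
  obtain ⟨b, ⟨_, n, rfl⟩, hb⟩ := IsLocalization.exists_mk'_eq (Submonoid.powers f) (φ h)
  have hbq : b ∉ q := fun hb' => hh (show φ h ∈ qf from hb ▸ hmk b n hb')
  obtain ⟨u, hu⟩ := hφ (algebraMap B (Localization.Away f) (f ^ n))
  obtain ⟨a, ha⟩ : ∃ a, a = h * u := ⟨_, rfl⟩
  have hφa : φ a = algebraMap B (Localization.Away f) b := by
    rw [ha, map_mul, hu, ← hb, IsLocalization.mk'_spec]
  have hkill' : ∀ x, φ.toRingHom x = 0 → ∃ n, a ^ n * x = 0 := fun x hx => ⟨1, by
    obtain ⟨s, hs, hsx⟩ := hker x hx
    rw [pow_one, ha, mul_right_comm, hkill x ⟨s, hs, hsx⟩, zero_mul]⟩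
  let ψ : Localization.Away a →ₐ[A] Localization.Away (φ a) :=
    IsLocalization.Away.mapₐ (Localization.Away a) (Localization.Away (φ a)) φ a
  have hψs : Function.Surjective ψ := IsLocalization.Away.mapₐ_surjective_of_surjective a hφ
  have hψi : Function.Injective ψ :=
    (IsLocalization.Away.map_injective_iff (S := Localization.Away a)
      (Q := Localization.Away (φ a)) φ.toRingHom a).mpr hkill'
  let e1 : Localization.Away a ≃ₐ[A] Localization.Away (φ a) :=
    AlgEquiv.ofBijective ψ ⟨hψi, hψs⟩
  have : Algebra.Etale A (Localization.Away a) := Algebra.Etale.comp A P.Ring _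
  have : IsLocalization.Away (f * b) (Localization.Away (φ a)) := by
    rw [hφa]
    infer_instance
  let e2 : Localization.Away (f * b) ≃ₐ[B] Localization.Away (φ a) :=
    IsLocalization.algEquiv (Submonoid.powers (f * b)) _ _
  refine ⟨f * b, ?_, Algebra.Etale.of_equiv (e1.trans (e2.restrictScalars A).symm)⟩
  exact ‹q.IsPrime›.mul_notMem hf hbq

end Groth.Agent.S2136
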