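import Groth.Statements.S1394
import Mathlib
import Groth.Agent.Lib.Helper61.EtLocalCore

set_option autoImplicit false
universe u
open FlatMor

namespace Groth.Agent.S1394

open IsLocalRing

/-- A Noetherian local domain in which some nonzero element lies in every nonzero prime has
at most the primes `⊥` and `𝔪`. -/
theorem eq_maximalIdeal_of_forall_mem {D : Type u} [CommRing D] [IsDomain D] [IsNoetherianRing D]
    [IsLocalRing D] (x : D) (hx0 : x ≠ 0)
    (hx : ∀ P : Ideal D, P.IsPrime → P ≠ ⊥ → x ∈ P) (P : Ideal D) [hP : P.IsPrime] (hP0 : P ≠ ⊥) :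
    P = maximalIdeal D := by
  classical
  by_contra hne
  have hPlt : P < maximalIdeal D := lt_of_le_of_ne (le_maximalIdeal hP.ne_top) hne
  have hbotlt : (⊥ : Ideal D) < P := bot_lt_iff_ne_bot.mpr hP0
  -- height of the maximal ideal is at least 2
  have hht : (2 : ℕ∞) ≤ (maximalIdeal D).height := by
    have h1 := Ideal.height_add_one_le_of_lt_of_isPrime hbotlt
    have h2 := Ideal.height_add_one_le_of_lt_of_isPrime hPlt
    calc (2 : ℕ∞) = 0 + 1 + 1 := by norm_num
      _ ≤ (⊥ : Ideal D).height + 1 + 1 := by gcongr; exact bot_le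
      _ ≤ P.height + 1 := by gcongr
      _ ≤ _ := h2
  set S := (Ideal.span {x}).minimalPrimes with hS
  have hSfin : S.Finite := Ideal.finite_minimalPrimes_of_isNoetherianRing D _
  have hxP : x ∈ P := hx P hP hP0
  -- the maximal ideal is not contained in the union
  have hnot : ¬ ((maximalIdeal D : Set D) ⊆
      ⋃ Q ∈ (↑hSfin.toFinset : Set (Ideal D)), (Q : Set D)) := by
    intro hsub
    have hsub' := (Ideal.subset_union_prime (R := D) (s := hSfin.toFinset) (f := fun Q => Q) ⊥ ⊥
      ?_).mp hsub
    · obtain ⟨Q, hQ, hle⟩ := hsub'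
      have hQS : Q ∈ S := hSfin.mem_toFinset.mp hQ
      have hQp : Q.IsPrime := hQS.1.1
      have hQeq : Q = maximalIdeal D := le_antisymm (le_maximalIdeal hQp.ne_top) hle
      have : Q.height ≤ 1 :=
        Ideal.height_le_one_of_isPrincipal_of_mem_minimalPrimes (Ideal.span {x}) Q hQS
      rw [hQeq] at this
      have := hht.trans this
      norm_num at this
    · intro Q hQ _ _
      exact (hSfin.mem_toFinset.mp hQ).1.1
  obtain ⟨y, hym, hy⟩ := Set.not_subset.mp hnot
  have hyS : ∀ Q ∈ S, y ∉ Q := by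
    intro Q hQ hyQ
    apply hy
    simp only [Set.mem_iUnion]
    exact ⟨Q, by simpa using hQ, hyQ⟩
  -- `S` is nonempty
  obtain ⟨Q₀, hQ₀, -⟩ := Ideal.exists_minimalPrimes_le (I := Ideal.span {x}) (J := P)
    ((Ideal.span_singleton_le_iff_mem _).mpr hxP)
  have hy0 : y ≠ 0 := fun h => hyS Q₀ hQ₀ (h ▸ Q₀.zero_mem)
  -- minimal prime over `y`
  obtain ⟨Q', hQ', -⟩ := Ideal.exists_minimalPrimes_le (I := Ideal.span {y}) (J := maximalIdeal D)
    ((Ideal.span_singleton_le_iff_mem _).mpr hym)
  have hQ'p : Q'.IsPrime := hQ'.1.1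
  have hyQ' : y ∈ Q' := hQ'.1.2 (Ideal.mem_span_singleton_self y)
  have hQ'0 : Q' ≠ ⊥ := fun h => hy0 (by simpa [h] using hyQ')
  have hxQ' : x ∈ Q' := hx Q' hQ'p hQ'0
  obtain ⟨Q, hQ, hQle⟩ := Ideal.exists_minimalPrimes_le (I := Ideal.span {x}) (J := Q')
    ((Ideal.span_singleton_le_iff_mem _).mpr hxQ')
  have hQp : Q.IsPrime := hQ.1.1
  have hxQ : x ∈ Q := hQ.1.2 (Ideal.mem_span_singleton_self x)
  have hQ0 : (⊥ : Ideal D) < Q := bot_lt_iff_ne_bot.mpr fun h => hx0 (by simpa [h] using hxQ)
  have hQ'ht : Q'.height ≤ 1 :=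
    Ideal.height_le_one_of_isPrincipal_of_mem_minimalPrimes (Ideal.span {y}) Q' hQ'
  rcases eq_or_lt_of_le hQle with heq | hlt
  · exact hyS Q hQ (heq ▸ hyQ')
  · have h1 := Ideal.height_add_one_le_of_lt_of_isPrime hQ0
    have h2 := Ideal.height_add_one_le_of_lt_of_isPrime hlt
    have : (2 : ℕ∞) ≤ Q'.height := by
      calc (2 : ℕ∞) = 0 + 1 + 1 := by norm_num
        _ ≤ (⊥ : Ideal D).height + 1 + 1 := by gcongr; exact bot_le
        _ ≤ Q.height + 1 := by gcongr
        _ ≤ _ := h2
    have := this.trans hQ'ht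
    norm_num at this

/-- In a Noetherian local ring, a nonempty open subset of the spectrum missing the closed point
contains a prime `q` such that the only prime strictly above `q` is the maximal ideal. -/
theorem exists_mem_open_forall_lt_eq_maximalIdeal {B : Type u} [CommRing B] [IsNoetherianRing B]
    [IsLocalRing B] (W : Set (PrimeSpectrum B)) (hW : IsOpen W) (hne : W.Nonempty) :
    ∃ q ∈ W, ∀ P : Ideal B, P.IsPrime → q.asIdeal < P → P = maximalIdeal B := by
  classical
  obtain ⟨I, hI⟩ := (PrimeSpectrum.isClosed_iff_zeroLocus_ideal _).mp hW.isClosed_compl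
  have hmemW : ∀ q : PrimeSpectrum B, q ∈ W ↔ ¬ I ≤ q.asIdeal := by
    intro q
    have : q ∈ Wᶜ ↔ I ≤ q.asIdeal := by rw [hI]; simp [PrimeSpectrum.mem_zeroLocus]
    rw [← this]; simp
  let T : Set (Ideal B) := {J | J.IsPrime ∧ ¬ I ≤ J}
  obtain ⟨q₀, hq₀⟩ := hne
  have hTne : T.Nonempty := ⟨q₀.asIdeal, q₀.2, (hmemW q₀).mp hq₀⟩
  obtain ⟨q, hqT, hqmax⟩ := (IsWellFounded.wf (r := ((· > ·) : Ideal B → Ideal B → Prop))).has_min T hTne
  have hqp : q.IsPrime := hqT.1
  refine ⟨⟨q, hqp⟩, (hmemW _).mpr hqT.2, ?_⟩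
  intro P hP hlt
  obtain ⟨x, hxI, hxq⟩ := SetLike.not_le_iff_exists.mp hqT.2
  -- pass to the quotient domain
  have hnt : Nontrivial (B ⧸ q) := Ideal.Quotient.nontrivial_iff.mpr hqp.ne_top
  have hloc : IsLocalRing (B ⧸ q) :=
    .of_surjective' (Ideal.Quotient.mk q) Ideal.Quotient.mk_surjective
  let D := B ⧸ q
  let π : B →+* D := Ideal.Quotient.mk q
  have hπ : Function.Surjective π := Ideal.Quotient.mk_surjective
  have hker : ∀ b : B, π b = 0 ↔ b ∈ q := fun b => Ideal.Quotient.eq_zero_iff_mem
  have hx0 : π x ≠ 0 := fun h => hxq ((hker x).mp h)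
  have hall : ∀ P' : Ideal D, P'.IsPrime → P' ≠ ⊥ → π x ∈ P' := by
    intro P' hP' hP'0
    have hcp : (P'.comap π).IsPrime := Ideal.comap_isPrime _ _
    have hle : q ≤ P'.comap π := by
      intro b hb
      rw [Ideal.mem_comap, (hker b).mpr hb]
      exact P'.zero_mem
    have hne' : q ≠ P'.comap π := by
      intro h
      apply hP'0
      have := Ideal.map_comap_of_surjective π hπ P'
      rw [← this, ← h]
      exact (Ideal.map_eq_bot_iff_le_ker _).mpr fun b hb => (hker b).mpr hb
    have hnotT : P'.comap π ∉ T := fun hT => hqmax _ hT (lt_of_le_of_ne hle hne')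
    have : I ≤ P'.comap π := by
      by_contra h
      exact hnotT ⟨hcp, h⟩
    exact this hxI
  have hkerle : RingHom.ker π ≤ P := fun b hb => hlt.le ((hker b).mp hb)
  have hPmap : (P.map π).IsPrime := Ideal.map_isPrime_of_surjective hπ hkerle
  have hPmap0 : P.map π ≠ ⊥ := by
    intro h
    have h1 := (Ideal.map_eq_bot_iff_le_ker _).mp h
    have h2 : P ≤ q := fun b hb => (hker b).mp (h1 hb)
    exact absurd hlt (not_lt_of_ge h2)
  have hmax := eq_maximalIdeal_of_forall_mem (π x) hx0 hall (P.map π) hPmap0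
  have hcm : (P.map π).comap π = P := by
    rw [Ideal.comap_map_of_surjective π hπ, ← RingHom.ker_eq_comap_bot]
    exact sup_eq_left.mpr hkerle
  refine (le_maximalIdeal hP.ne_top).antisymm ?_
  intro b hb
  rw [← hcm, Ideal.mem_comap, hmax, mem_maximalIdeal, mem_nonunits_iff]
  intro hu
  have : IsLocalHom π := .of_surjective _ hπ
  exact hb (isUnit_of_map_unit π b hu)

open Groth.Agent.Lib.Helper61.EtLocalCore in
/-- A one-dimensional Noetherian local domain, essentially of finite type over `A`, with residue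
field finite over `A` and in which the image of some element of `A` is a nonzero nonunit, is
quasi-finite over `A`. -/
theorem quasiFinite_of_dim_one {A D : Type u} [CommRing A] [CommRing D] [IsDomain D]
    [IsNoetherianRing D] [IsLocalRing D] [Algebra A D] [Algebra.EssFiniteType A D]
    (hdim : ∀ P : Ideal D, P.IsPrime → P ≠ ⊥ → P = maximalIdeal D)
    (a : A) (ham : algebraMap A D a ∈ maximalIdeal D) (ha0 : algebraMap A D a ≠ 0)
    [Module.Finite A (D ⧸ maximalIdeal D)] :
    Algebra.QuasiFinite A D := by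
  let C' := Algebra.EssFiniteType.subalgebra A D
  let n : Ideal C' := qC A D
  let L := Localization.AtPrime n
  let e : D ≃ₐ[A] L := equivLocQC A D
  have hunder : n.under A = (maximalIdeal D).comap (algebraMap A D) := by
    show Ideal.comap (algebraMap A C') (Ideal.comap (algebraMap C' D) (maximalIdeal D)) = _
    rw [Ideal.comap_comap, ← IsScalarTower.algebraMap_eq]
  let JD : Ideal D := (n.under A).map (algebraMap A D)
  let JL : Ideal L := (n.under A).map (algebraMap A L)
  have hJDle : JD ≤ maximalIdeal D := by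
    show Ideal.map _ _ ≤ _
    rw [hunder]; exact Ideal.map_comap_le
  have hJD0 : JD ≠ ⊥ := by
    intro h
    apply ha0
    have : algebraMap A D a ∈ JD := Ideal.mem_map_of_mem _ (by rw [hunder]; exact ham)
    rw [h] at this
    simpa using this
  -- `D ⧸ JD` is finite over `A`
  have hfin : Module.Finite A (D ⧸ JD) := by
    let f : D ⧸ JD →ₐ[A] D ⧸ maximalIdeal D := Ideal.Quotient.factorₐ A hJDle
    have hf : Function.Surjective f := Ideal.Quotient.factor_surjective hJDle
    refine Module.finite_of_surjective_of_ker_le_nilradical f hf ?_ (IsNoetherian.noetherian _)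
    have hkerf : RingHom.ker f = (maximalIdeal D).map (Ideal.Quotient.mk JD) :=
      Ideal.Quotient.factor_ker hJDle
    rw [hkerf, nilradical_eq_sInf]
    refine le_sInf fun P' hP' => ?_
    have hP'p : P'.IsPrime := hP'
    have hcp : (P'.comap (Ideal.Quotient.mk JD)).IsPrime := Ideal.comap_isPrime _ _
    have hJle : JD ≤ P'.comap (Ideal.Quotient.mk JD) := by
      conv_lhs => rw [← Ideal.mk_ker (I := JD)]
      exact Ideal.comap_mono bot_le
    have hne : P'.comap (Ideal.Quotient.mk JD) ≠ ⊥ := fun h => hJD0 (le_bot_iff.mp (h ▸ hJle))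
    have := hdim _ hcp hne
    rw [← this, Ideal.map_comap_of_surjective _ Ideal.Quotient.mk_surjective]
  -- transfer to `L ⧸ JL`
  have hJ : JL = JD.map (e : D →+* L) := by
    show Ideal.map _ _ = Ideal.map _ (Ideal.map _ _)
    rw [Ideal.map_map]
    congr 1
    ext r
    simp
  let e' : (D ⧸ JD) ≃ₐ[A] (L ⧸ JL) := Ideal.quotientEquivAlg JD JL e hJ
  have hq1 : Algebra.QuasiFinite A (L ⧸ JL) :=
    (Algebra.QuasiFinite.iff_of_algEquiv e').mp inferInstance
  have hw : Algebra.WeaklyQuasiFiniteAt A n := (Algebra.weaklyQuasiFiniteAt_iff n).mpr hq1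
  have hq2 : Algebra.QuasiFiniteAt A n := Algebra.QuasiFiniteAt.of_weaklyQuasiFiniteAt n
  exact (Algebra.QuasiFinite.iff_of_algEquiv e).mpr hq2


/-- Let A → B be a local homomorphism of local rings with A Noetherian, B essentially of finite type
over A, and the residue field of B finite over that of A. Let V ⊆ Spec B be an open subset
containing some prime that does not lie over the maximal ideal of A. Then V contains a prime q, not
lying over the maximal ideal of A, such that B/q is quasi-finite over A in the sense that every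
fibre ring of A → B/q is finite over the corresponding residue field of A. (The published statement
is stronger: there B/q is moreover a localization of a quasi-finite A-algebra of finite type, which
implies this.) -/
theorem result {A B : Type u} [CommRing A] [CommRing B] [IsLocalRing A] [IsLocalRing B] [IsNoetherianRing A]
    [Algebra A B] [IsLocalHom (algebraMap A B)] [Algebra.EssFiniteType A B]
    [Module.Finite (IsLocalRing.ResidueField A) (IsLocalRing.ResidueField B)]
    (V : Set (PrimeSpectrum B)) (hV : IsOpen V) (hne : ∃ q ∈ V, q.asIdeal.comap (algebraMap A B) ≠ IsLocalRing.maximalIdeal A) :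
    ∃ q ∈ V, q.asIdeal.comap (algebraMap A B) ≠ IsLocalRing.maximalIdeal A ∧ Algebra.QuasiFinite A (B ⧸ q.asIdeal) := by
  classical
  have hBN : IsNoetherianRing B := Algebra.EssFiniteType.isNoetherianRing A B
  let mB : Ideal B := (maximalIdeal A).map (algebraMap A B)
  have h0 : IsLocalHom (algebraMap A B) := inferInstance
  have hmBle : mB ≤ maximalIdeal B :=
    ((IsLocalRing.local_hom_TFAE (algebraMap A B)).out 0 2).mp h0
  let W : Set (PrimeSpectrum B) := V ∩ (PrimeSpectrum.zeroLocus (mB : Set B))ᶜ
  have hWopen : IsOpen W := hV.inter (PrimeSpectrum.isClosed_zeroLocus _).isOpen_compl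
  have hiff : ∀ q : PrimeSpectrum B, mB ≤ q.asIdeal ↔
      q.asIdeal.comap (algebraMap A B) = maximalIdeal A := by
    intro q
    constructor
    · intro h
      have h1 : maximalIdeal A ≤ q.asIdeal.comap (algebraMap A B) := Ideal.map_le_iff_le_comap.mp h
      exact ((le_maximalIdeal (Ideal.comap_isPrime _ _).ne_top).antisymm h1)
    · intro h
      rw [Ideal.map_le_iff_le_comap, h]
  have hWne : W.Nonempty := by
    obtain ⟨q₀, hq₀V, hq₀⟩ := hne
    refine ⟨q₀, hq₀V, ?_⟩
    simp only [Set.mem_compl_iff, PrimeSpectrum.mem_zeroLocus, SetLike.coe_subset_coe]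
    exact fun h => hq₀ ((hiff q₀).mp h)
  obtain ⟨q, hqW, hqmax⟩ := exists_mem_open_forall_lt_eq_maximalIdeal W hWopen hWne
  have hqnot : ¬ mB ≤ q.asIdeal := by
    have := hqW.2
    simpa only [Set.mem_compl_iff, PrimeSpectrum.mem_zeroLocus, SetLike.coe_subset_coe] using this
  have hqne : q.asIdeal.comap (algebraMap A B) ≠ maximalIdeal A := fun h => hqnot ((hiff q).mpr h)
  refine ⟨q, hqW.1, hqne, ?_⟩
  -- the quotient domain
  have hnt : Nontrivial (B ⧸ q.asIdeal) := Ideal.Quotient.nontrivial_iff.mpr q.2.ne_top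
  have hloc : IsLocalRing (B ⧸ q.asIdeal) :=
    .of_surjective' (Ideal.Quotient.mk q.asIdeal) Ideal.Quotient.mk_surjective
  let D := B ⧸ q.asIdeal
  let π : B →ₐ[A] D := Ideal.Quotient.mkₐ A q.asIdeal
  have hπ : Function.Surjective π := Ideal.Quotient.mk_surjective
  have hDess : Algebra.EssFiniteType A D := Algebra.EssFiniteType.of_surjective π hπ
  have hπloc : IsLocalHom (π : B →+* D) := .of_surjective _ hπ
  have hmBD : ∀ b : B, π b ∈ maximalIdeal D ↔ b ∈ maximalIdeal B := by
    intro b
    simp only [mem_maximalIdeal, mem_nonunits_iff]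
    exact not_congr ⟨fun h => isUnit_of_map_unit (π : B →+* D) b h, fun h => h.map π⟩
  have hdim : ∀ P : Ideal D, P.IsPrime → P ≠ ⊥ → P = maximalIdeal D := by
    intro P hP hP0
    have hcp : (P.comap (π : B →+* D)).IsPrime := Ideal.comap_isPrime _ _
    have hle : q.asIdeal ≤ P.comap (π : B →+* D) := by
      intro b hb
      have : π b = 0 := Ideal.Quotient.eq_zero_iff_mem.mpr hb
      rw [Ideal.mem_comap]
      show π b ∈ P
      rw [this]; exact P.zero_mem
    have hne' : q.asIdeal ≠ P.comap (π : B →+* D) := by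
      intro h
      apply hP0
      rw [← Ideal.map_comap_of_surjective (π : B →+* D) hπ P, ← h]
      exact (Ideal.map_eq_bot_iff_le_ker _).mpr (by
        intro b hb
        exact Ideal.Quotient.eq_zero_iff_mem.mpr hb)
    have := hqmax _ hcp (lt_of_le_of_ne hle hne')
    refine (le_maximalIdeal hP.ne_top).antisymm ?_
    intro d hd
    obtain ⟨b, rfl⟩ := hπ d
    have hb : b ∈ maximalIdeal B := (hmBD b).mp hd
    rw [← this] at hb
    exact hb
  -- an element of `𝔪_A` not in `q`
  obtain ⟨a, haA, haq⟩ : ∃ a ∈ maximalIdeal A, algebraMap A B a ∉ q.asIdeal := by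
    by_contra h
    push Not at h
    exact hqnot (Ideal.map_le_iff_le_comap.mpr fun a ha => h a ha)
  have ham : algebraMap A D a ∈ maximalIdeal D := by
    have : algebraMap A D a = π (algebraMap A B a) := rfl
    rw [this, hmBD]
    exact hmBle (Ideal.mem_map_of_mem _ haA)
  have ha0 : algebraMap A D a ≠ 0 := by
    have : algebraMap A D a = π (algebraMap A B a) := rfl
    rw [this]
    exact fun h => haq (Ideal.Quotient.eq_zero_iff_mem.mp h)
  -- finiteness of the residue field of `D`
  have hfinres : Module.Finite A (D ⧸ maximalIdeal D) := by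
    have h1 : Module.Finite A (ResidueField A) := by
      show Module.Finite A (A ⧸ maximalIdeal A)
      infer_instance
    have h2' : Module.Finite A (ResidueField B) :=
      Module.Finite.trans (ResidueField A) (ResidueField B)
    have h2 : Module.Finite A (B ⧸ maximalIdeal B) := h2'
    have hle : maximalIdeal B ≤ (maximalIdeal D).comap π := fun b hb => (hmBD b).mpr hb
    let g : (B ⧸ maximalIdeal B) →ₐ[A] (D ⧸ maximalIdeal D) :=
      Ideal.quotientMapₐ (maximalIdeal D) π hle
    have hg : Function.Surjective g := Ideal.quotientMap_surjective (H := hle) hπ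
    exact Module.Finite.of_surjective g.toLinearMap hg
  exact quasiFinite_of_dim_one hdim a ham ha0

end Groth.Agent.S1394
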