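import Groth.Statements.S16373
import Groth.Agent.S16372
import Mathlib.Tactic

set_option autoImplicit false
universe u
open FrobAlg

namespace Groth.Agent.S16373

section aux

variable (p : ℕ) [Fact p.Prime] (m : ℕ) (R : Type u) [CommRing R]

/-- The shift `V : W_m → W_{m+1}` is injective. -/
theorem shift_injective :
    Function.Injective (WittGrp.shift p (Nat.le_succ m) :
      TruncatedWittVector p m R → TruncatedWittVector p (m + 1) R) := by
  intro x x' h
  ext i
  have h' := congrArg (fun w => TruncatedWittVector.coeff (p := p) (⟨i + 1, by omega⟩ : Fin (m + 1)) w) h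
  simp only [WittGrp.coeff_shift] at h'
  rw [dif_pos (by simp), dif_pos (by simp)] at h'
  convert h' using 2 <;> (ext; simp)

/-- The zeroth coefficient of a shifted vector vanishes. -/
theorem coeff_zero_shift (x : TruncatedWittVector p m R) :
    (WittGrp.shift p (Nat.le_succ m) x).coeff 0 = 0 := by
  rw [WittGrp.coeff_shift, dif_neg]
  simp

/-- A vector with vanishing zeroth coefficient is a shift. -/
theorem exists_eq_shift (w : TruncatedWittVector p (m + 1) R) (hw : w.coeff 0 = 0) :
    ∃ z : TruncatedWittVector p m R, w = WittGrp.shift p (Nat.le_succ m) z := by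
  refine ⟨TruncatedWittVector.mk p fun i => w.coeff i.succ, ?_⟩
  ext i
  rw [WittGrp.coeff_shift]
  split_ifs with hi
  · rw [TruncatedWittVector.coeff_mk]
    congr 1
    ext
    simp only [Fin.val_succ]
    have : m.succ - m = 1 := by omega
    omega
  · have : i = 0 := by
      ext
      simp only [Fin.val_zero]
      have : m.succ - m = 1 := by omega
      omega
    rw [this, hw]

/-- `p * w = V (F (R w))` in `W_{m+1}(R)`. -/
theorem p_mul_eq (hp : (p : R) = 0) (w : TruncatedWittVector p (m + 1) R) :
    (p : TruncatedWittVector p (m + 1) R) * w =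
      WittGrp.shift p (Nat.le_succ m)
        (WittGrp.frob p m hp (TruncatedWittVector.truncate (Nat.le_succ m) w)) := by
  rcases subsingleton_or_nontrivial R with hR | hR
  · exact TruncatedWittVector.ext fun i => Subsingleton.elim _ _
  · have : CharP R p := (CharP.charP_iff_prime_eq_zero (Fact.out : p.Prime)).mpr hp
    obtain ⟨W, rfl⟩ := WittVector.truncate_surjective p (m + 1) R w
    have e : m.succ - m = 1 := by omega
    rw [TruncatedWittVector.truncate_wittVector_truncate, WittGrp.frob_truncate,
      WittGrp.shift_truncate, e, Function.iterate_one, WittVector.verschiebung_frobenius,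
      map_mul, map_natCast, mul_comm]

end aux

/-- Let p be a prime, m ≥ 1, R a commutative ring with p = 0 in R and σ : W_m(R) → R a quasi-F-splitting
of level m (additive, σ(1) = 1, σ(F(x)·y) = x₀·σ(y) with F the componentwise p-th power). Let I ⊆
W_{m+1}(R) be the ideal generated by the shifts V(x) of the x with σ(x) = 0, and Q = W_{m+1}(R)/I.
Then Q is a flat lifting of R modulo p²: an element of Q lies in pQ exactly when the first Witt
component of a representative vanishes (so Q/pQ is R through the first component), and an element of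
Q is killed by p exactly when it lies in pQ. (Stated for a ring; the source has a scheme over the
prime field. For m = 1 this is the lifting attached to a Frobenius splitting.) -/
theorem result
    (p : ℕ) [Fact p.Prime] (m : ℕ) (hm : 0 < m) (R : Type u) [CommRing R] (hp : (p : R) = 0)
    (σ : TruncatedWittVector p m R →+ R) (h1 : σ 1 = 1)
    (hF : ∀ x y : TruncatedWittVector p m R, σ (WittGrp.frob p m hp x * y) = x.coeff ⟨0, hm⟩ * σ y)
    (I : Ideal (TruncatedWittVector p (m + 1) R))
    (hI : I = Ideal.span (WittGrp.shift p (Nat.le_succ m) '' {x : TruncatedWittVector p m R | σ x = 0})) :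
    (∀ w : TruncatedWittVector p (m + 1) R,
        Ideal.Quotient.mk I w ∈ Ideal.span ({(p : TruncatedWittVector p (m + 1) R ⧸ I)} : Set _) ↔
          w.coeff 0 = 0) ∧
    (∀ q : TruncatedWittVector p (m + 1) R ⧸ I,
        (p : TruncatedWittVector p (m + 1) R ⧸ I) * q = 0 ↔
          q ∈ Ideal.span ({(p : TruncatedWittVector p (m + 1) R ⧸ I)} : Set _)) := by
  set V := WittGrp.shift p (Nat.le_succ m) (R := R) with hV
  -- the ideal is exactly the set of shifts of the kernel of σ
  have hmemI : ∀ w ∈ I, ∃ x : TruncatedWittVector p m R, σ x = 0 ∧ w = V x := by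
    intro w hw
    rw [hI] at hw
    induction hw using Submodule.span_induction with
    | mem y hy =>
      obtain ⟨x, hx, rfl⟩ := hy
      exact ⟨x, hx, rfl⟩
    | zero => exact ⟨0, map_zero σ, (map_zero V).symm⟩
    | add y z _ _ hy hz =>
      obtain ⟨x, hx, rfl⟩ := hy
      obtain ⟨x', hx', rfl⟩ := hz
      exact ⟨x + x', by rw [map_add, hx, hx', add_zero], (map_add V x x').symm⟩
    | smul a y _ hy =>
      obtain ⟨x, hx, rfl⟩ := hy
      obtain ⟨x', hx', e⟩ := Groth.Agent.S16372.result p m hm R hp σ h1 hF a x hx
      exact ⟨x', hx', e⟩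
  have hVI : ∀ x : TruncatedWittVector p m R, σ x = 0 → V x ∈ I := by
    intro x hx
    rw [hI]
    exact Ideal.subset_span ⟨x, hx, rfl⟩
  have hσF : ∀ u : TruncatedWittVector p m R, σ (WittGrp.frob p m hp u) = u.coeff ⟨0, hm⟩ := by
    intro u
    have := hF u 1
    rwa [mul_one, h1, mul_one] at this
  have hcast : (p : TruncatedWittVector p (m + 1) R ⧸ I) =
      Ideal.Quotient.mk I (p : TruncatedWittVector p (m + 1) R) := (map_natCast _ p).symm
  -- part (a)
  have partA : ∀ w : TruncatedWittVector p (m + 1) R,
      Ideal.Quotient.mk I w ∈ Ideal.span ({(p : TruncatedWittVector p (m + 1) R ⧸ I)} : Set _) ↔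
        w.coeff 0 = 0 := by
    intro w
    constructor
    · intro h
      obtain ⟨q, hq⟩ := Ideal.mem_span_singleton'.mp h
      obtain ⟨u, rfl⟩ := Ideal.Quotient.mk_surjective q
      rw [hcast, ← map_mul, Ideal.Quotient.eq] at hq
      obtain ⟨x, -, hx⟩ := hmemI _ hq
      have hw : w = V (WittGrp.frob p m hp (TruncatedWittVector.truncate (Nat.le_succ m) u) - x) := by
        rw [map_sub, ← hx, ← p_mul_eq, mul_comm]
        ring
      rw [hw]
      exact coeff_zero_shift p m R _
    · intro hw
      obtain ⟨z, rfl⟩ := exists_eq_shift p m R w hw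
      -- choose u with zeroth coefficient σ z
      let u : TruncatedWittVector p (m + 1) R := TruncatedWittVector.mk p fun _ => σ z
      have hu : (TruncatedWittVector.truncate (Nat.le_succ m) u).coeff ⟨0, hm⟩ = σ z := by
        rw [TruncatedWittVector.coeff_truncate, TruncatedWittVector.coeff_mk]
      set x := z - WittGrp.frob p m hp (TruncatedWittVector.truncate (Nat.le_succ m) u) with hxdef
      have hx : σ x = 0 := by
        rw [hxdef, map_sub, hσF, hu, sub_self]
      have hz : V z = (p : TruncatedWittVector p (m + 1) R) * u + V x := by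
        rw [p_mul_eq p m R hp, ← map_add, hxdef]
        congr 1
        ring
      rw [hz, map_add, Ideal.Quotient.eq_zero_iff_mem.mpr (hVI x hx), add_zero, map_mul, ← hcast]
      exact Ideal.mul_mem_right _ _ (Ideal.subset_span rfl)
  refine ⟨partA, ?_⟩
  intro q
  obtain ⟨w, rfl⟩ := Ideal.Quotient.mk_surjective q
  rw [partA]
  constructor
  · intro h
    rw [hcast, ← map_mul, Ideal.Quotient.eq_zero_iff_mem] at h
    obtain ⟨x, hx, e⟩ := hmemI _ h
    rw [p_mul_eq p m R hp] at e
    have e' := shift_injective p m R e
    have := hσF (TruncatedWittVector.truncate (Nat.le_succ m) w)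
    rw [e', hx, TruncatedWittVector.coeff_truncate] at this
    exact this.symm
  · intro hw
    obtain ⟨z, rfl⟩ := exists_eq_shift p m R w hw
    rw [hcast, ← map_mul, Ideal.Quotient.eq_zero_iff_mem,
      Groth.Agent.S16372.mul_shift_eq p m R hp, map_natCast, map_natCast]
    apply hVI
    rw [← nsmul_eq_mul, map_nsmul, nsmul_eq_mul, hp, zero_mul]

end Groth.Agent.S16373
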