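import Groth.Statements.S13147
import Mathlib.Tactic
import Groth.Agent.S16373
import Groth.Agent.Lib.Helper84.LocalFlat

set_option autoImplicit false
universe u
open FrobAlg

namespace Groth.Agent.S13147

open Groth.Agent.S16373 in
/-- The two key facts on the quotient `W₂(A)/splitIdeal`, deduced from `S16373` with `m = 1`. -/
theorem key (p : ℕ) [Fact p.Prime] (A : Type u) [CommRing A] (hpA : (p : A) = 0) (φ : A →+ A)
    (hφ : ∀ a b : A, φ (a ^ p * b) = a * φ b) (hφ1 : φ 1 = 1) :
    (∀ w : W2 p A,
        Ideal.Quotient.mk (splitIdeal p A φ) w ∈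
          Ideal.span ({(p : W2 p A ⧸ splitIdeal p A φ)} : Set _) ↔ w.coeff 0 = 0) ∧
    (∀ q : W2 p A ⧸ splitIdeal p A φ,
        (p : W2 p A ⧸ splitIdeal p A φ) * q = 0 ↔
          q ∈ Ideal.span ({(p : W2 p A ⧸ splitIdeal p A φ)} : Set _)) := by
  let σ : TruncatedWittVector p 1 A →+ A :=
    { toFun := fun x => φ (x.coeff 0)
      map_zero' := by rw [TruncatedWittVector.coeff_zero, map_zero]
      map_add' := fun x y => by
        obtain ⟨X, rfl⟩ := WittVector.truncate_surjective p 1 A x
        obtain ⟨Y, rfl⟩ := WittVector.truncate_surjective p 1 A y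
        rw [← map_add, WittVector.coeff_truncate, WittVector.coeff_truncate,
          WittVector.coeff_truncate, ← map_add]
        congr 1
        exact WittVector.add_coeff_zero X Y }
  have hσ : ∀ x, σ x = φ (x.coeff 0) := fun _ => rfl
  have h1 : σ 1 = 1 := by
    rw [hσ, ← map_one (WittVector.truncate (p := p) (R := A) 1), WittVector.coeff_truncate]
    simpa using hφ1
  have hF : ∀ x y : TruncatedWittVector p 1 A,
      σ (WittGrp.frob p 1 hpA x * y) = x.coeff ⟨0, Nat.one_pos⟩ * σ y := by
    intro x y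
    rw [hσ, hσ]
    have : (WittGrp.frob p 1 hpA x * y).coeff 0 = x.coeff 0 ^ p * y.coeff 0 := by
      have hx : (WittGrp.frob p 1 hpA x).coeff 0 = x.coeff 0 ^ p := WittGrp.coeff_frob p 1 hpA x 0
      rw [← hx]
      obtain ⟨X, hX⟩ := WittVector.truncate_surjective p 1 A (WittGrp.frob p 1 hpA x)
      obtain ⟨Y, rfl⟩ := WittVector.truncate_surjective p 1 A y
      rw [← hX, ← map_mul, WittVector.coeff_truncate, WittVector.coeff_truncate,
        WittVector.coeff_truncate]
      exact WittVector.mul_coeff_zero X Y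
    rw [this, hφ]
    rfl
  refine Groth.Agent.S16373.result p 1 Nat.one_pos A hpA σ h1 hF (splitIdeal p A φ) ?_
  unfold splitIdeal
  congr 1
  ext w
  simp only [Set.mem_ofPred_eq, Set.mem_image, res_apply]
  constructor
  · rintro ⟨h0, h1'⟩
    obtain ⟨z, rfl⟩ := exists_eq_shift p 1 A w h0
    refine ⟨z, ?_, rfl⟩
    rw [hσ]
    convert h1' using 2
    rw [WittGrp.coeff_shift, dif_pos (by simp)]
    rfl
  · rintro ⟨z, hz, rfl⟩
    refine ⟨coeff_zero_shift p 1 A z, ?_⟩
    rw [hσ] at hz
    convert hz using 2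
    rw [WittGrp.coeff_shift, dif_pos (by simp)]
    rfl

section W2k

open Groth.Agent.S16373

variable (p : ℕ) [Fact p.Prime]

/-- `p = 0` in `W₁(R)` when `p = 0` in `R`. -/
theorem natCast_W1_eq_zero (R : Type u) [CommRing R] (hp : (p : R) = 0) :
    (p : TruncatedWittVector p 1 R) = 0 := by
  have h := p_mul_eq p 0 R hp (1 : TruncatedWittVector p (0 + 1) R)
  rw [mul_one] at h
  rw [h]
  have : (WittGrp.frob p 0 hp) ((TruncatedWittVector.truncate (Nat.le_succ 0)) 1) = 0 :=
    TruncatedWittVector.ext fun i => i.elim0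
  rw [this, map_zero]

/-- `p * p = 0` in `W₂(R)` when `p = 0` in `R`. -/
theorem natCast_W2_sq_eq_zero (R : Type u) [CommRing R] (hp : (p : R) = 0) :
    (p : W2 p R) * (p : W2 p R) = 0 := by
  have h := p_mul_eq p 1 R hp (p : TruncatedWittVector p (1 + 1) R)
  rw [h, map_natCast, map_natCast, natCast_W1_eq_zero p R hp, map_zero]

/-- Over a perfect field, the kernel of the residue map of `W₂(k)` is generated by `p`. -/
theorem ker_res_eq_span (k : Type u) [Field k] [CharP k p] [PerfectRing k p] :
    RingHom.ker (res p k) = Ideal.span {(p : W2 p k)} := by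
  have hp : (p : k) = 0 := CharP.cast_eq_zero k p
  apply le_antisymm
  · intro x hx
    rw [RingHom.mem_ker, res_apply] at hx
    obtain ⟨z, rfl⟩ := exists_eq_shift p 1 k x hx
    let u : W2 p k := TruncatedWittVector.mk p fun _ => (frobeniusEquiv k p).symm (z.coeff 0)
    have hu : WittGrp.frob p 1 hp (TruncatedWittVector.truncate (Nat.le_succ 1) u) = z := by
      ext i
      rw [WittGrp.coeff_frob, TruncatedWittVector.coeff_truncate, TruncatedWittVector.coeff_mk]
      have hi : i = 0 := Subsingleton.elim _ _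
      rw [hi]
      exact frobeniusEquiv_symm_pow_p k p (z.coeff 0)
    rw [Ideal.mem_span_singleton']
    refine ⟨u, ?_⟩
    rw [mul_comm, p_mul_eq p 1 k hp, hu]
  · rw [Ideal.span_le, Set.singleton_subset_iff, SetLike.mem_coe, RingHom.mem_ker, map_natCast, hp]

end W2k

/-- Let k be a perfect field of characteristic p and (A, φ) a k-algebra with a Frobenius splitting (φ
additive, φ(a^p b) = a φ(b), φ(1) = 1). The quotient of W₂(A) by the ideal generated by the Witt
vectors (0, a) with φ(a) = 0 — the ring of twisted Witt vectors of (A, φ) — is a flat lifting of A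
over W₂(k): flat over W₂(k), with reduction map onto A induced by (a₀, a₁) ↦ a₀ whose kernel is
generated by the maximal ideal of W₂(k). (The published statement also asserts that a morphism of
algebras with Frobenius splittings compatible with the splittings induces a ring map between these
quotients; that part is not stated here.) -/
theorem result
    (p : ℕ) [Fact p.Prime] (k : Type u) [Field k] [CharP k p] [PerfectRing k p]
    (A : Type u) [CommRing A] [Algebra k A] (φ : A →+ A)
    (hφ : ∀ a b : A, φ (a ^ p * b) = a * φ b) (hφ1 : φ 1 = 1) :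
    FrobAlg.IsLift p k A (FrobAlg.W2 p A ⧸ FrobAlg.splitIdeal p A φ)
      ((Ideal.Quotient.mk (FrobAlg.splitIdeal p A φ)).comp (WittGrp.truncMap p 2 (algebraMap k A)))
      (FrobAlg.splitRes p A φ) := by
  have hpk : (p : k) = 0 := CharP.cast_eq_zero k p
  have hpA : (p : A) = 0 := by
    rw [← map_natCast (algebraMap k A), hpk, map_zero]
  obtain ⟨keyA, keyB⟩ := key p A hpA φ hφ hφ1
  set I := FrobAlg.splitIdeal p A φ with hIdef
  set ι := (Ideal.Quotient.mk I).comp (WittGrp.truncMap p 2 (algebraMap k A)) with hι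
  have hπ : ∀ w : W2 p A, FrobAlg.splitRes p A φ (Ideal.Quotient.mk I w) = w.coeff 0 := by
    intro w
    change FrobAlg.res p A w = _
    rw [res_apply]
  have hcomm : (FrobAlg.splitRes p A φ).comp ι = (algebraMap k A).comp (FrobAlg.res p k) := by
    ext x
    rw [RingHom.comp_apply, hι, RingHom.comp_apply, hπ, WittGrp.coeff_truncMap,
      RingHom.comp_apply, res_apply]
  have hιp : ι (p : W2 p k) = (p : W2 p A ⧸ I) := map_natCast ι p
  refine ⟨?_, ?_, ?_, hcomm⟩
  · -- flatness
    let : Algebra (W2 p k) (W2 p A ⧸ I) := ι.toAlgebra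
    change Module.Flat (W2 p k) (W2 p A ⧸ I)
    have hsmul : ∀ (r : W2 p k) (q : W2 p A ⧸ I), r • q = ι r * q := fun _ _ => rfl
    set I₀ : Ideal (W2 p k) := Ideal.span {(p : W2 p k)} with hI₀
    have hI₀ker : I₀ = RingHom.ker (res p k) := (ker_res_eq_span p k).symm
    have hmax : I₀.IsMaximal := by
      rw [hI₀ker]
      apply RingHom.ker_isMaximal_of_surjective
      intro a
      exact ⟨TruncatedWittVector.mk p fun _ => a, by rw [res_apply, TruncatedWittVector.coeff_mk]⟩
    let : Field (W2 p k ⧸ I₀) := Ideal.Quotient.field I₀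
    have hsq : I₀ * I₀ = ⊥ := by
      rw [hI₀, Ideal.span_singleton_mul_span_singleton, natCast_W2_sq_eq_zero p k hpk,
        Ideal.span_singleton_eq_bot]
    have hfree : Module.Free (W2 p k ⧸ I₀)
        (TensorProduct (W2 p k) (W2 p k ⧸ I₀) (W2 p A ⧸ I)) := Module.Free.of_divisionRing _ _
    have hflat : Module.Flat (W2 p k ⧸ I₀)
        (TensorProduct (W2 p k) (W2 p k ⧸ I₀) (W2 p A ⧸ I)) := Module.Flat.of_free
    apply Groth.Agent.Lib.Helper84.flat_of_sq_zero I₀ _ hsq
    -- injectivity of `I₀ ⊗ Q → W₂(k) ⊗ Q`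
    have hpmem : (p : W2 p k) ∈ I₀ := Ideal.subset_span rfl
    have hform : ∀ t : TensorProduct (W2 p k) I₀ (W2 p A ⧸ I),
        ∃ q : W2 p A ⧸ I, t = (⟨(p : W2 p k), hpmem⟩ : I₀) ⊗ₜ[W2 p k] q := by
      intro t
      induction t with
      | zero => exact ⟨0, (TensorProduct.tmul_zero _ _).symm⟩
      | tmul x q =>
        obtain ⟨r, hr⟩ := Ideal.mem_span_singleton'.mp x.2
        refine ⟨r • q, ?_⟩
        rw [TensorProduct.tmul_smul, TensorProduct.smul_tmul']
        congr 1
        apply Subtype.ext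
        simpa [smul_eq_mul] using hr.symm
      | add t t' ht ht' =>
        obtain ⟨q, rfl⟩ := ht
        obtain ⟨q', rfl⟩ := ht'
        exact ⟨q + q', (TensorProduct.tmul_add _ _ _).symm⟩
    rw [injective_iff_map_eq_zero]
    intro t ht
    obtain ⟨q, rfl⟩ := hform t
    rw [LinearMap.rTensor_tmul] at ht
    have h2 := congrArg (TensorProduct.lid (W2 p k) (W2 p A ⧸ I)) ht
    rw [map_zero, Submodule.subtype_apply, TensorProduct.lid_tmul, hsmul, hιp] at h2
    obtain ⟨q', hq'⟩ := Ideal.mem_span_singleton'.mp ((keyB q).mp h2)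
    have hq'' : q = (p : W2 p k) • q' := by rw [hsmul, hιp, mul_comm, hq']
    rw [hq'', TensorProduct.tmul_smul, TensorProduct.smul_tmul']
    have : (p : W2 p k) • (⟨(p : W2 p k), hpmem⟩ : I₀) = 0 := by
      apply Subtype.ext
      simpa [smul_eq_mul] using natCast_W2_sq_eq_zero p k hpk
    rw [this, TensorProduct.zero_tmul]
  · -- surjectivity
    intro a
    exact ⟨Ideal.Quotient.mk I (TruncatedWittVector.mk p fun _ => a), by
      rw [hπ, TruncatedWittVector.coeff_mk]⟩
  · -- kernel
    apply le_antisymm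
    · intro q hq
      obtain ⟨w, rfl⟩ := Ideal.Quotient.mk_surjective q
      rw [RingHom.mem_ker, hπ] at hq
      have h := (keyA w).mpr hq
      have hle : Ideal.span ({(p : W2 p A ⧸ I)} : Set _) ≤
          Ideal.map ι (RingHom.ker (FrobAlg.res p k)) := by
        rw [Ideal.span_le, Set.singleton_subset_iff, ← hιp]
        apply Ideal.mem_map_of_mem
        rw [RingHom.mem_ker, map_natCast, hpk]
      exact hle h
    · rw [Ideal.map_le_iff_le_comap]
      intro x hx
      rw [Ideal.mem_comap, RingHom.mem_ker, ← RingHom.comp_apply, hcomm, RingHom.comp_apply,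
        RingHom.mem_ker.mp hx, map_zero]

end Groth.Agent.S13147
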