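import Groth.Statements.S14080
import Mathlib

set_option autoImplicit false
universe u
open ArSing

namespace Groth.Agent.S14080.Aux

open PowerSeries

theorem algHom_ext_of_X {R : Type*} [CommRing R] (F G : R⟦X⟧ →ₐ[R] R⟦X⟧) (hX : F X = G X)
    (hd : (X : R⟦X⟧) ∣ F X) : F = G := by
  have hpoly : ∀ p : Polynomial R, F (p : R⟦X⟧) = G (p : R⟦X⟧) := by
    intro p
    have : F.comp (Polynomial.coeToPowerSeries.algHom R) = G.comp (Polynomial.coeToPowerSeries.algHom R) := by
      apply Polynomial.algHom_ext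
      simpa using hX
    exact DFunLike.congr_fun this p
  apply AlgHom.ext
  intro f
  ext n
  have hf := eq_X_pow_mul_shift_add_trunc (n + 1) f
  set g : R⟦X⟧ := mk fun i => coeff (i + (n + 1)) f with hg
  obtain ⟨c, hc⟩ := hd
  have eF : F f = (F X) ^ (n + 1) * F g + F ((trunc (n + 1) f : Polynomial R) : R⟦X⟧) := by
    conv_lhs => rw [hf]
    rw [map_add, map_mul, map_pow]
  have eG : G f = (G X) ^ (n + 1) * G g + G ((trunc (n + 1) f : Polynomial R) : R⟦X⟧) := by
    conv_lhs => rw [hf]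
    rw [map_add, map_mul, map_pow]
  rw [eF, eG, hpoly, ← hX, hc, mul_pow, mul_assoc, mul_assoc, map_add, map_add, coeff_X_pow_mul',
    coeff_X_pow_mul']
  simp

theorem constantCoeff_algEquiv_X {k : Type*} [Field k] (σ : k⟦X⟧ ≃ₐ[k] k⟦X⟧) :
    constantCoeff (σ X) = 0 := by
  by_contra h
  have hu : IsUnit (σ X) := by
    rw [isUnit_iff_constantCoeff]
    exact isUnit_iff_ne_zero.mpr h
  have : IsUnit (X : k⟦X⟧) := by
    have := hu.map σ.symm
    simpa using this
  rw [isUnit_iff_constantCoeff] at this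
  simp at this

theorem main (k : Type*) [Field k] (h2 : (2 : k) ≠ 0)
    (σ : PowerSeries k ≃ₐ[k] PowerSeries k) (hσ : ∀ f, σ (σ f) = f) :
    (PowerSeries.coeff 1 (σ PowerSeries.X)) ^ 2 = 1 ∧
    ∃ φ : PowerSeries k ≃ₐ[k] PowerSeries k,
      φ PowerSeries.X = PowerSeries.C (2⁻¹ : k) *
        (PowerSeries.X + PowerSeries.C (PowerSeries.coeff 1 (σ PowerSeries.X)) * σ PowerSeries.X) ∧
      ∀ f, φ.symm (σ (φ f)) = PowerSeries.rescale (PowerSeries.coeff 1 (σ PowerSeries.X)) f := by
  set s := σ X with hs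
  set ξ := coeff 1 s with hξ
  have hs0 : constantCoeff s = 0 := constantCoeff_algEquiv_X σ
  have hXs : (X : k⟦X⟧) ∣ s := X_dvd_iff.mpr hs0
  -- σ = substitution of s
  have hsub : HasSubst s := HasSubst.of_constantCoeff_zero' hs0
  have hσeq : (σ : k⟦X⟧ →ₐ[k] k⟦X⟧) = substAlgHom hsub := by
    apply algHom_ext_of_X
    · rw [substAlgHom_X]; rfl
    · exact hXs
  have hσapp : ∀ f, σ f = subst s f := by
    intro f
    have := DFunLike.congr_fun hσeq f
    rw [← coe_substAlgHom hsub]
    exact this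
  -- ξ^2 = 1
  have hξ2 : ξ ^ 2 = 1 := by
    have h1 : σ s = X := hσ X
    rw [hσapp] at h1
    have h2 := congrArg (coeff 1) h1
    rw [coeff_subst' hsub, coeff_one_X] at h2
    rw [finsum_eq_single _ 1] at h2
    · simpa [sq] using h2
    · intro d hd
      rcases d with _ | _ | d
      · simp
      · exact absurd rfl hd
      · obtain ⟨c, hc⟩ := hXs
        have : coeff 1 (s ^ (d + 2)) = 0 := by
          rw [hc, mul_pow, coeff_X_pow_mul']
          simp
        rw [this, smul_zero]
  refine ⟨hξ2, ?_⟩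
  -- y
  set y : k⟦X⟧ := C (2⁻¹ : k) * (X + C ξ * s) with hy
  have hy0 : constantCoeff y = 0 := by simp [hy, hs0]
  have hy1 : coeff 1 y = 1 := by
    rw [hy, coeff_C_mul, map_add, coeff_one_X, coeff_C_mul, ← hξ, ← sq, hξ2]
    rw [← two_mul, mul_one, inv_mul_cancel₀ h2]
  have hyu : IsUnit (coeff 1 y) := by rw [hy1]; exact isUnit_one
  have hysub : HasSubst y := HasSubst.of_constantCoeff_zero' hy0
  set z := substInvOfIsUnit y hyu with hz
  have hzsub : HasSubst z := HasSubst.substInvOfIsUnit y hyu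
  have hyz : subst z y = X := subst_substInvOfIsUnit_right y hy0 hyu
  have hzy : subst y z = X := subst_substInvOfIsUnit_left y hy0 hyu
  let φ : k⟦X⟧ ≃ₐ[k] k⟦X⟧ := AlgEquiv.ofAlgHom (substAlgHom hysub) (substAlgHom hzsub)
    (by
      apply algHom_ext_of_X
      · simp only [AlgHom.comp_apply, substAlgHom_X, AlgHom.id_apply]
        rw [coe_substAlgHom, hzy]
      · simp only [AlgHom.comp_apply, substAlgHom_X]
        rw [coe_substAlgHom, hzy])
    (by
      apply algHom_ext_of_X
      · simp only [AlgHom.comp_apply, substAlgHom_X, AlgHom.id_apply]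
        rw [coe_substAlgHom, hyz]
      · simp only [AlgHom.comp_apply, substAlgHom_X]
        rw [coe_substAlgHom, hyz])
  have hφX : φ X = y := by
    change substAlgHom hysub X = y
    rw [substAlgHom_X]
  refine ⟨φ, hφX, ?_⟩
  intro f
  rw [AlgEquiv.symm_apply_eq]
  -- σ ∘ φ = φ ∘ rescale ξ
  have hrX : rescaleAlgHom ξ X = C ξ * X := by
    have := DFunLike.congr_fun (coe_rescaleAlgHom ξ) X
    simpa [rescale_X] using this
  have key : ((σ : k⟦X⟧ →ₐ[k] k⟦X⟧).comp (φ : k⟦X⟧ →ₐ[k] k⟦X⟧)) =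
      (φ : k⟦X⟧ →ₐ[k] k⟦X⟧).comp (rescaleAlgHom ξ) := by
    have hσy : σ y = C ξ * y := by
      rw [hy, map_mul, map_add, map_mul, hσ X]
      have hC : ∀ c : k, σ (C c) = C c := fun c => σ.commutes c
      rw [hC, hC]
      have : C ξ * C ξ = (1 : k⟦X⟧) := by rw [← map_mul, ← sq, hξ2, map_one]
      calc C (2⁻¹ : k) * (s + C ξ * X) = C (2⁻¹ : k) * (C ξ * X + (C ξ * C ξ) * s) := by
            rw [this]; ring
        _ = C ξ * (C (2⁻¹ : k) * (X + C ξ * s)) := by ring
    apply algHom_ext_of_X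
    · simp only [AlgHom.comp_apply, AlgEquiv.coe_toAlgHom]
      rw [hφX, hσy, hrX, map_mul, hφX]
      congr 1
      exact (φ.commutes ξ).symm
    · simp only [AlgHom.comp_apply, AlgEquiv.coe_toAlgHom]
      rw [hφX, hσy]
      exact Dvd.dvd.mul_left (X_dvd_iff.mpr hy0) _
  have := DFunLike.congr_fun key f
  simp only [AlgHom.comp_apply, AlgEquiv.coe_toAlgHom] at this
  rw [this]
  congr 1
  exact DFunLike.congr_fun (coe_rescaleAlgHom ξ) f

end Groth.Agent.S14080.Aux

namespace Groth.Agent.S14080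

/-- Let k be a field in which 2 is invertible and σ an involutive k-algebra automorphism of the power
series ring k[[t]], with ξ the coefficient of t in σ(t). Then ξ^2 = 1, the k-algebra endomorphism φ
with φ(t) = (t + ξ σ(t))/2 is an automorphism, and φ⁻¹ σ φ is the automorphism t ↦ ξ t. (The
published statement is over an algebraically closed field of characteristic prime to 2; only the
invertibility of 2 is used, so any field with 2 ≠ 0 is allowed here.) -/
theorem result (k : Type u) [Field k] (h2 : (2 : k) ≠ 0)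
    (σ : PowerSeries k ≃ₐ[k] PowerSeries k) (hσ : ∀ f, σ (σ f) = f) :
    (PowerSeries.coeff 1 (σ PowerSeries.X)) ^ 2 = 1 ∧
    ∃ φ : PowerSeries k ≃ₐ[k] PowerSeries k,
      φ PowerSeries.X = PowerSeries.C (2⁻¹ : k) *
        (PowerSeries.X + PowerSeries.C (PowerSeries.coeff 1 (σ PowerSeries.X)) * σ PowerSeries.X) ∧
      ∀ f, φ.symm (σ (φ f)) = PowerSeries.rescale (PowerSeries.coeff 1 (σ PowerSeries.X)) f := by
  exact Aux.main k h2 σ hσ

end Groth.Agent.S14080
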