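import Groth.Statements.S8261
import Mathlib.AlgebraicGeometry.ProjectiveSpectrum.Proper
-- import your own Groth.Agent.* helpers here

set_option autoImplicit false
universe u
open CategoryTheory CategoryTheory.Limits AlgebraicGeometry Opposite TopologicalSpace
open scoped HomogeneousIdeal
open EGA2

namespace Groth.Agent.S8261

open HomogeneousLocalization in
/-- Pure algebra: a graded ring `A` generated by `A₀ ∪ A₁` with `A₁` spanned over `R` (through `φ : R → A₀`) by the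
finite set `T`: the algebra is generated over `A₀` by `T`. -/
theorem adjoin_eq_top {R A : Type u} [CommRing R] [CommRing A] (𝒜 : ℕ → AddSubgroup A) [GradedRing 𝒜]
    (φ : R →+* A) (hφ : ∀ r, φ r ∈ 𝒜 0)
    (hgen : Subring.closure ((𝒜 0 : Set A) ∪ (𝒜 1 : Set A)) = ⊤)
    (T : Finset A) (hT : ∀ x ∈ 𝒜 1, ∃ c : A → R, x = ∑ t ∈ T, φ (c t) * t) :
    Algebra.adjoin (𝒜 0) (T : Set A) = ⊤ := by
  rw [← top_le_iff]
  have : (⊤ : Subring A) ≤ (Algebra.adjoin (𝒜 0) (T : Set A)).toSubring := by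
    rw [← hgen, Subring.closure_le]
    rintro x (hx | hx)
    · exact (Algebra.adjoin (𝒜 0) (T : Set A)).algebraMap_mem ⟨x, hx⟩
    · obtain ⟨c, rfl⟩ := hT x hx
      refine Subalgebra.sum_mem _ fun t ht => Subalgebra.mul_mem _ ?_ (Algebra.subset_adjoin ht)
      exact (Algebra.adjoin (𝒜 0) (T : Set A)).algebraMap_mem ⟨φ (c t), hφ _⟩
  intro x _
  exact this (Subring.mem_top x)

open HomogeneousLocalization in
theorem away_finiteType {R A : Type u} [CommRing R] [CommRing A] (𝒜 : ℕ → AddSubgroup A) [GradedRing 𝒜]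
    (φ : R →+* A) (hφ : ∀ r, φ r ∈ 𝒜 0) (φ₀ : R →+* 𝒜 0) (hφ₀ : ∀ r, (φ₀ r : A) = φ r)
    (hgen : Subring.closure ((𝒜 0 : Set A) ∪ (𝒜 1 : Set A)) = ⊤)
    (T : Finset A) (hT1 : ∀ t ∈ T, t ∈ 𝒜 1) (hT : ∀ x ∈ 𝒜 1, ∃ c : A → R, x = ∑ t ∈ T, φ (c t) * t)
    (f : A) (hf : f ∈ 𝒜 1) :
    ((fromZeroRingHom 𝒜 (Submonoid.powers f)).comp φ₀).FiniteType := by
  classical
  haveI : Algebra.FiniteType (𝒜 0) A := ⟨⟨T, adjoin_eq_top 𝒜 φ hφ hgen T hT⟩⟩
  obtain ⟨S', hS'⟩ := (Away.finiteType (𝒜 := 𝒜) f 1 hf).1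
  letI : Algebra R (Away 𝒜 f) := ((fromZeroRingHom 𝒜 (Submonoid.powers f)).comp φ₀).toAlgebra
  change Algebra.FiniteType R (Away 𝒜 f)
  -- the fractions t / f
  let q : A → Away 𝒜 f := fun t => if ht : t ∈ 𝒜 1 then Away.mk 𝒜 hf 1 t (by simpa using ht) else 0
  refine ⟨⟨S' ∪ T.image q, ?_⟩⟩
  set C := Algebra.adjoin R ((↑(S' ∪ T.image q) : Set (Away 𝒜 f))) with hC
  -- the image of `𝒜 0` lies in `C`
  have key : ∀ a : 𝒜 0, fromZeroRingHom 𝒜 (Submonoid.powers f) a ∈ C := by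
    intro a
    have haf : (a : A) * f ∈ 𝒜 1 := by
      simpa using SetLike.mul_mem_graded (A := 𝒜) a.2 hf
    obtain ⟨c, hc⟩ := hT _ haf
    have : fromZeroRingHom 𝒜 (Submonoid.powers f) a = ∑ t ∈ T, c t • q t := by
      apply (show Function.Injective (algebraMap (Away 𝒜 f) (Localization.Away f))
        from val_injective _)
      rw [map_sum]
      simp only [HomogeneousLocalization.algebraMap_apply]
      have h1 : ∀ t ∈ T, (c t • q t).val =
          Localization.mk (φ (c t) * t) (⟨f ^ 1, 1, rfl⟩ : Submonoid.powers f) := by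
        intro t ht
        have hq : q t = Away.mk 𝒜 hf 1 t (by simpa using hT1 t ht) := dif_pos (hT1 t ht)
        rw [Algebra.smul_def, val_mul, hq, Away.val_mk]
        change (fromZeroRingHom 𝒜 (Submonoid.powers f) (φ₀ (c t))).val * _ = _
        rw [fromZeroRingHom]
        simp only [RingHom.coe_mk, MonoidHom.coe_mk, OneHom.coe_mk, val_mk, Localization.mk_mul, hφ₀]
        congr 1
        exact one_mul _
      rw [Finset.sum_congr rfl h1, ← Localization.mk_sum, ← hc, fromZeroRingHom]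
      simp only [RingHom.coe_mk, MonoidHom.coe_mk, OneHom.coe_mk, val_mk]
      rw [Localization.mk_eq_mk_iff, Localization.r_iff_exists]
      exact ⟨1, by simp [mul_comm]⟩
    rw [this]
    refine Subalgebra.sum_mem _ fun t ht => Subalgebra.smul_mem _ (Algebra.subset_adjoin ?_) _
    simp only [Finset.coe_union, Finset.coe_image, Set.mem_union, Set.mem_image]
    exact Or.inr ⟨t, ht, rfl⟩
  let C' : Subalgebra (𝒜 0) (Away 𝒜 f) :=
    { C.toSubsemiring with
      algebraMap_mem' := fun a => key a }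
  have hC' : (⊤ : Subalgebra (𝒜 0) (Away 𝒜 f)) ≤ C' := by
    rw [← hS']
    refine Algebra.adjoin_le fun x hx => ?_
    change x ∈ C
    exact Algebra.subset_adjoin (by simp [hx])
  rw [← top_le_iff]
  intro x _
  exact hC' (Algebra.mem_top : x ∈ (⊤ : Subalgebra (𝒜 0) (Away 𝒜 f)))

/-- Let 𝒮 be a quasi-coherent positively graded O_Y-algebra generated by 𝒮_1 with 𝒮_1 of finite type
over O_Y. Then Proj(𝒮) is of finite type over Y. -/
theorem result {Y P : Scheme.{u}} (𝒮 : RelProj.QCGrAlg Y)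
    (hgen : 𝒮.IsGenDegOne) (hft : 𝒮.IsFTDeg 1) (p : P ⟶ Y)
    (chart : ∀ (U : Y.Opens) (hU : IsAffineOpen U), (((p ⁻¹ᵁ U : P.Opens) : Scheme.{u}) ≅ Proj (𝒮.deg U hU)))
    (hP : RelProj.IsRelProj 𝒮 p chart) : LocallyOfFiniteType p ∧ QuasiCompact p := by
  have key : ∀ U : Y.affineOpens, p ∣_ U.1 = (chart U.1 U.2).hom ≫ Proj.toSpecZero (𝒮.deg U.1 U.2) ≫
      Spec.map (𝒮.strZero U.1 U.2) ≫ U.2.isoSpec.inv := by
    intro U
    rw [← cancel_mono U.1.ι]
    simp only [Category.assoc, IsAffineOpen.isoSpec_inv_ι]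
    rw [hP.chart_over U.1 U.2]
    simp
  have hfg : ∀ U : Y.affineOpens, ∃ T : Finset (𝒮.presheaf.obj (op U.1)),
      (∀ t ∈ T, t ∈ 𝒮.deg U.1 U.2 1) ∧ Algebra.adjoin (𝒮.deg U.1 U.2 0) (T : Set (𝒮.presheaf.obj (op U.1))) = ⊤ ∧
      ∀ f ∈ T, ((HomogeneousLocalization.fromZeroRingHom (𝒮.deg U.1 U.2) (Submonoid.powers f)).comp
        (𝒮.strZero U.1 U.2).hom).FiniteType := by
    intro U
    obtain ⟨T, hT1, hT⟩ := hft U.1 U.2
    refine ⟨T, fun t ht => hT1 ht, ?_, fun f hf => ?_⟩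
    · exact adjoin_eq_top (𝒮.deg U.1 U.2) (𝒮.str.app (op U.1)).hom (𝒮.str_mem U.1 U.2) (hgen U.1 U.2) T hT
    · exact away_finiteType (𝒮.deg U.1 U.2) (𝒮.str.app (op U.1)).hom (𝒮.str_mem U.1 U.2)
        (𝒮.strZero U.1 U.2).hom (fun r => rfl) (hgen U.1 U.2) T (fun t ht => hT1 ht) hT f (hT1 hf)
  constructor
  · rw [IsZariskiLocalAtTarget.iff_of_iSup_eq_top (P := @LocallyOfFiniteType) _ (iSup_affineOpens_eq_top Y)]
    intro U
    rw [key U]
    obtain ⟨T, hT1, hTtop, hTft⟩ := hfg U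
    suffices h : LocallyOfFiniteType (Proj.toSpecZero (𝒮.deg U.1 U.2) ≫ Spec.map (𝒮.strZero U.1 U.2)) by
      rw [← Category.assoc, ← Category.assoc, Category.assoc (chart U.1 U.2).hom]
      infer_instance
    rw [IsZariskiLocalAtSource.iff_of_iSup_eq_top (P := @LocallyOfFiniteType) _
      (Proj.iSup_basicOpen_eq_top' (𝒮.deg U.1 U.2) (ι := T) (↑) (fun i ↦ ⟨_, hT1 _ i.2⟩) (by simpa using hTtop))]
    intro i
    rw [← MorphismProperty.cancel_left_of_respectsIso (P := @LocallyOfFiniteType)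
      (Proj.basicOpenIsoSpec (𝒮.deg U.1 U.2) (i : 𝒮.presheaf.obj (op U.1)) (hT1 _ i.2) Nat.one_pos).inv,
      ← Category.assoc, ← Proj.awayι, Proj.awayι_toSpecZero_assoc, ← Spec.map_comp,
      HasRingHomProperty.Spec_iff (P := @LocallyOfFiniteType)]
    exact hTft _ i.2
  · rw [IsZariskiLocalAtTarget.iff_of_iSup_eq_top (P := @QuasiCompact) _ (iSup_affineOpens_eq_top Y)]
    intro U
    rw [key U]
    obtain ⟨T, hT1, hTtop, hTft⟩ := hfg U
    haveI : Algebra.FiniteType (𝒮.deg U.1 U.2 0) (𝒮.presheaf.obj (op U.1)) := ⟨⟨T, hTtop⟩⟩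
    infer_instance

end Groth.Agent.S8261
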