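import Groth.Statements.S12141
import Groth.Agent.Lib.Helper42.RelProjQBaseChange

set_option autoImplicit false
universe u
open CategoryTheory CategoryTheory.Limits AlgebraicGeometry TopologicalSpace Opposite
open scoped HomogeneousIdeal
noncomputable section
open EGA2

namespace Groth.Agent.S12141

/-- Let ψ : Y' → Y be a morphism of schemes, 𝒮 a quasi-coherent positively graded O_Y-algebra and 𝒮' =
ψ^*𝒮, presented as a quasi-coherent graded O_{Y'}-algebra with a graded ψ-morphism u : 𝒮 → ψ_*𝒮'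
whose squares over affine opens U' ⊆ ψ⁻¹(U) are pushouts of rings; let P = Proj(𝒮), P' = Proj(𝒮')
with their charts. Then the morphism Proj(u) : P' → P is everywhere defined (its open of definition
G(u) is P' and it exists, pinned on the standard affine charts), and any such morphism identifies P'
with the fibre product P ×_Y Y'. -/
theorem result {Y Y' P P' : Scheme.{u}} (ψ : Y' ⟶ Y)
    (𝒮 : RelProj.QCGrAlg Y) (𝒮' : RelProj.QCGrAlg Y') (u : RelProj.QGrHom ψ 𝒮 𝒮')
    (hu : RelSpec.IsQBaseChange u.toQHom)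
    (p : P ⟶ Y) (chart : ∀ (U : Y.Opens) (hU : IsAffineOpen U), (((p ⁻¹ᵁ U : P.Opens) : Scheme.{u}) ≅ Proj (𝒮.deg U hU)))
    (hP : RelProj.IsRelProj 𝒮 p chart)
    (p' : P' ⟶ Y') (chart' : ∀ (U : Y'.Opens) (hU : IsAffineOpen U), (((p' ⁻¹ᵁ U : P'.Opens) : Scheme.{u}) ≅ Proj (𝒮'.deg U hU)))
    (hP' : RelProj.IsRelProj 𝒮' p' chart') :
    (∃ h : P' ⟶ P, RelProj.IsProjQMap u p chart p' chart' h) ∧
      ∀ h : P' ⟶ P, RelProj.IsProjQMap u p chart p' chart' h → IsPullback h p' p ψ := by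
  have htop : RelProj.domQ u p' chart' = ⊤ :=
    Groth.Agent.Lib.Helper42.domQ_eq_top_of_isQBaseChange u hu p' chart'
  refine ⟨?_, ?_⟩
  · obtain ⟨v, hv, -⟩ := Groth.Agent.Lib.Helper42.existsUnique_isProjQMapOn u hP hP'
    haveI : IsIso (RelProj.domQ u p' chart').ι :=
      Groth.Agent.Lib.Helper42.isIso_ι_of_eq_top _ htop
    refine ⟨inv (RelProj.domQ u p' chart').ι ≫ v, htop, ?_⟩
    intro U hU U' hU' hle d hd f hf
    have hW := RelProj.range_awayEmb_subset_domQ u p' chart' U hU U' hU' hle hd f hf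
    have h1 := hv U hU U' hU' hle d hd f hf hW
    rw [← h1, ← Category.assoc]
    congr 1
    rw [← cancel_mono (RelProj.domQ u p' chart').ι, Category.assoc, IsIso.inv_hom_id,
      Category.comp_id, IsOpenImmersion.lift_fac]
  · intro h hh
    have hirr : ∀ (U : Y.Opens) (hU : IsAffineOpen U) (U' : Y'.Opens) (hU' : IsAffineOpen U')
        (hle : U' ≤ ψ ⁻¹ᵁ U),
        (𝒮'.deg U' hU')₊ ≤ ((𝒮.deg U hU)₊).map (u.gradedAt U hU U' hU' hle) :=
      fun U hU U' hU' hle =>
        Groth.Agent.Lib.Helper42.irrelevant_le_map_gradedAt u hu hU hU' hle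
    refine Groth.Agent.Lib.Helper42.isPullback_of_cover_base h p' p ψ
      (Groth.Agent.Lib.Helper42.affPairCover ψ) ?_
    rintro ⟨U, hU, U', hU', hle⟩
    refine ⟨Proj (𝒮'.deg U' hU'), RelProj.emb p' chart' U' hU',
      Groth.Agent.Lib.Helper42.RelProjGlue.toOpen 𝒮' U' hU',
      Groth.Agent.Lib.Helper42.isPullback_emb hP' U' hU', ?_⟩
    have e1 : RelProj.emb p' chart' U' hU' ≫ h =
        Proj.map (u.gradedAt U hU U' hU' hle) (hirr U hU U' hU' hle) ≫ RelProj.emb p chart U hU := by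
      refine (Proj.mapAffineOpenCover (u.gradedAt U hU U' hU' hle)
        (hirr U hU U' hU' hle)).openCover.hom_ext _ _ ?_
      intro (s : (i : ℕ+) × ↥(𝒮.deg U hU ↑i))
      have h2 := hh.2 U hU U' hU' hle s.1.1 s.1.2 s.2.1 s.2.2
      unfold RelProj.awayEmb at h2
      rw [Category.assoc] at h2
      change Proj.awayι (𝒮'.deg U' hU') (u.gradedAt U hU U' hU' hle s.2.1) _ s.1.2 ≫ _ =
        Proj.awayι (𝒮'.deg U' hU') (u.gradedAt U hU U' hU' hle s.2.1) _ s.1.2 ≫ _
      rw [h2]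
      exact (Proj.awayι_comp_map_assoc (u.gradedAt U hU U' hU' hle) (hirr U hU U' hU' hle) s.1.2
        (s.2 : 𝒮.presheaf.obj (op U)) s.2.2 (RelProj.emb p chart U hU)).symm
    have e2 : U'.ι ≫ ψ = ψ.resLE U U' hle ≫ U.ι := (Scheme.Hom.resLE_comp_ι ..).symm
    change IsPullback (RelProj.emb p' chart' U' hU' ≫ h)
      (Groth.Agent.Lib.Helper42.RelProjGlue.toOpen 𝒮' U' hU') p (U'.ι ≫ ψ)
    rw [e1, e2]
    refine IsPullback.paste_horiz ?_ (Groth.Agent.Lib.Helper42.isPullback_emb hP U hU)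
    exact Groth.Agent.Lib.Helper42.isPullback_projMap_rel ψ 𝒮 𝒮' hU hU' hle
      (u.gradedAt U hU U' hU' hle) (hu U hU U' hU' hle) (hirr U hU U' hU' hle)

end Groth.Agent.S12141
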