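import Groth.Statements.S6284
import Mathlib

set_option autoImplicit false
universe u
open scoped TensorProduct
open CAlg

namespace Groth.Agent.S6284

/-- Nontriviality of `K ⊗ M` does not change along a field extension compatible with `R`. -/
theorem nontrivial_tensor_field_ext {R : Type u} [CommRing R] (K L : Type u) [Field K] [Field L]
    [Algebra R K] [Algebra R L] (φ : K →+* L)
    (hφ : ∀ r, φ (algebraMap R K r) = algebraMap R L r) (M : Type u) [AddCommGroup M] [Module R M] :
    Nontrivial (L ⊗[R] M) ↔ Nontrivial (K ⊗[R] M) := by
  letI : Algebra K L := φ.toAlgebra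
  haveI : IsScalarTower R K L := IsScalarTower.of_algebraMap_eq (fun r => (hφ r).symm)
  let e := TensorProduct.AlgebraTensorModule.cancelBaseChange R K L L M
  rw [← e.toEquiv.nontrivial_congr]
  exact Module.FaithfullyFlat.nontrivial_tensorProduct_iff_right K L

/-- Let R → R' be a ring map and M a finite R-module. Then the support of R' ⊗_R M is the inverse image
of the support of M under Spec(R') → Spec(R). -/
theorem result {R R' : Type u} [CommRing R] [CommRing R'] [Algebra R R'] (M : Type u) [AddCommGroup M] [Module R M] [Module.Finite R M] : Module.support R' (R' ⊗[R] M) = PrimeSpectrum.comap (algebraMap R R') ⁻¹' Module.support R M := by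
  ext q
  rw [Set.mem_preimage, Module.mem_support_iff_nontrivial_residueField_tensorProduct,
    Module.mem_support_iff_nontrivial_residueField_tensorProduct]
  let e := TensorProduct.AlgebraTensorModule.cancelBaseChange R R' q.asIdeal.ResidueField
    q.asIdeal.ResidueField M
  rw [e.toEquiv.nontrivial_congr]
  exact nontrivial_tensor_field_ext
    (PrimeSpectrum.comap (algebraMap R R') q).asIdeal.ResidueField q.asIdeal.ResidueField
    (Ideal.ResidueField.map _ _ (algebraMap R R') rfl)
    (fun r => by
      rw [Ideal.ResidueField.map_algebraMap]
      exact (IsScalarTower.algebraMap_apply R R' q.asIdeal.ResidueField r).symm) M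

end Groth.Agent.S6284
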