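import Groth.Statements.S12231
import Groth.Agent.S6284
import Groth.Agent.Lib.Helper13.GenFibreCons
import Mathlib

set_option autoImplicit false
universe u
open TensorProduct
open FlatMor

namespace Groth.Agent.S12231

open TensorProduct
open FlatMor

/-- scalar tower `R → S' → C'` derived from the others. -/
lemma tower_aux (R R' S' C' : Type*) [CommRing R] [CommRing R'] [CommRing S'] [CommRing C']
    [Algebra R R'] [Algebra R' S'] [Algebra R S'] [IsScalarTower R R' S']
    [Algebra R' C'] [Algebra R C'] [IsScalarTower R R' C'] [Algebra S' C'] [IsScalarTower R' S' C'] :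
    IsScalarTower R S' C' :=
  .of_algebraMap_eq fun x => by
    rw [IsScalarTower.algebraMap_apply R R' C', IsScalarTower.algebraMap_apply R' S' C',
      ← IsScalarTower.algebraMap_apply R R' S']

/-- the right-hand square of a composite of pushouts is a pushout. -/
lemma isPushout_right (R S C R' S' C' : Type*) [CommRing R] [CommRing S] [CommRing C]
    [CommRing R'] [CommRing S'] [CommRing C'] [Algebra R S] [Algebra S C] [Algebra R C]
    [IsScalarTower R S C] [Algebra R R']
    [Algebra R' S'] [Algebra R S'] [Algebra S S'] [IsScalarTower R R' S'] [IsScalarTower R S S']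
    [Algebra.IsPushout R R' S S']
    [Algebra R' C'] [Algebra R C'] [Algebra C C'] [IsScalarTower R R' C'] [IsScalarTower R C C']
    [Algebra.IsPushout R R' C C']
    [Algebra S' C'] [IsScalarTower R' S' C'] [Algebra S C'] [IsScalarTower S S' C']
    [IsScalarTower S C C'] : Algebra.IsPushout S S' C C' := by
  have : IsScalarTower R S' C' := tower_aux R R' S' C'
  have h1 : Algebra.IsPushout R S R' S' := Algebra.IsPushout.symm inferInstance
  have h2 : Algebra.IsPushout R C R' C' := Algebra.IsPushout.symm inferInstance
  exact ((Algebra.IsPushout.comp_iff R S R' S' (T := C) (T' := C')).mp h2).symm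

/-- dimension of the support of a base change, in terms of an ideal cutting out the support. -/
lemma supportDim_baseChange (S T N : Type u) [CommRing S] [CommRing T] [Algebra S T]
    [AddCommGroup N] [Module S N] [Module.Finite S N] (J : Ideal S)
    (hJ : Module.support S N = PrimeSpectrum.zeroLocus J) :
    Module.supportDim T (T ⊗[S] N) = ringKrullDim (T ⧸ J.map (algebraMap S T)) := by
  rw [Module.supportDim, Groth.Agent.S6284.result, hJ, PrimeSpectrum.preimage_comap_zeroLocus,
    ringKrullDim_quotient, Ideal.map, PrimeSpectrum.zeroLocus_span]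

attribute [local instance] Algebra.TensorProduct.rightAlgebra in
/-- dimension of the support of the fibre module over `K`. -/
lemma supportDim_fibre (R S K N : Type u) [CommRing R] [CommRing S] [CommRing K] [Algebra R S]
    [Algebra R K] [AddCommGroup N] [Module S N] [Module.Finite S N] (J : Ideal S)
    (hJ : Module.support S N = PrimeSpectrum.zeroLocus J) :
    Module.supportDim (K ⊗[R] S) ((K ⊗[R] S) ⊗[S] N) = ringKrullDim (K ⊗[R] (S ⧸ J)) := by
  rw [supportDim_baseChange S (K ⊗[R] S) N J hJ]
  exact (ringKrullDim_eq_of_ringEquiv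
    (Algebra.TensorProduct.tensorQuotientEquiv (R := R) K S K J).toRingEquiv).symm

/-- `K ⊗_{R'} (S'/JS') ≅ K ⊗_R (S/J)` when `S' = R' ⊗_R S`. -/
noncomputable def fibreQuotEquiv (R S R' S' K : Type u) [CommRing R] [CommRing S] [CommRing R']
    [CommRing S'] [CommRing K] [Algebra R S] [Algebra R R'] [Algebra R' S'] [Algebra R S']
    [Algebra S S'] [IsScalarTower R R' S'] [IsScalarTower R S S'] [Algebra.IsPushout R R' S S']
    [Algebra R' K] [Algebra R K] [IsScalarTower R R' K] (J : Ideal S) :
    K ⊗[R'] (S' ⧸ J.map (algebraMap S S')) ≃+* K ⊗[R] (S ⧸ J) :=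
  let e1 : (S' ⧸ J.map (algebraMap S S')) ≃ₐ[R'] S' ⊗[S] (S ⧸ J) :=
    (Algebra.TensorProduct.quotIdealMapEquivTensorQuot S' J).restrictScalars R'
  let e2 : S' ⊗[S] (S ⧸ J) ≃ₐ[R'] R' ⊗[R] (S ⧸ J) :=
    Algebra.IsPushout.cancelBaseChangeAlg R R' S S' (S ⧸ J)
  let e3 : K ⊗[R'] (S' ⧸ J.map (algebraMap S S')) ≃ₐ[K] K ⊗[R'] (R' ⊗[R] (S ⧸ J)) :=
    Algebra.TensorProduct.congr AlgEquiv.refl (e1.trans e2)
  let e4 : K ⊗[R'] (R' ⊗[R] (S ⧸ J)) ≃ₐ[K] K ⊗[R] (S ⧸ J) :=
    Algebra.TensorProduct.cancelBaseChange R R' K K (S ⧸ J)
  (e3.trans e4).toRingEquiv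

/-- finiteness of a base change of modules. -/
lemma finite_of_isBaseChange {A B M M' : Type*} [CommRing A] [CommRing B] [Algebra A B]
    [AddCommGroup M] [Module A M] [AddCommGroup M'] [Module B M'] [Module A M']
    [IsScalarTower A B M'] [Module.Finite A M] (f : M →ₗ[A] M') (hf : IsBaseChange B f) :
    Module.Finite B M' :=
  Module.Finite.equiv hf.equiv

/-- surjectivity is stable under pushout. -/
lemma surjective_of_isPushout (S S' C C' : Type*) [CommRing S] [CommRing S'] [CommRing C]
    [CommRing C'] [Algebra S S'] [Algebra S C] [Algebra S' C'] [Algebra C C'] [Algebra S C']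
    [IsScalarTower S S' C'] [IsScalarTower S C C'] [Algebra.IsPushout S S' C C']
    (h : Function.Surjective (algebraMap S C)) : Function.Surjective (algebraMap S' C') := by
  intro x
  obtain ⟨y, rfl⟩ := (Algebra.IsPushout.equiv S S' C C').surjective x
  induction y with
  | zero => exact ⟨0, by simp⟩
  | add a b ha hb =>
    obtain ⟨a', ha'⟩ := ha
    obtain ⟨b', hb'⟩ := hb
    exact ⟨a' + b', by rw [map_add, map_add, ha', hb']⟩
  | tmul s' c =>
    obtain ⟨s, rfl⟩ := h c
    refine ⟨s' * algebraMap S S' s, ?_⟩
    rw [Algebra.IsPushout.equiv_tmul, map_mul, ← IsScalarTower.algebraMap_apply S S' C',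
      ← IsScalarTower.algebraMap_apply S C C']

/-- the support of a base change of a finite module. -/
lemma support_of_isBaseChange (S S' N N' : Type u) [CommRing S] [CommRing S'] [Algebra S S']
    [AddCommGroup N] [Module S N] [Module.Finite S N] [AddCommGroup N'] [Module S' N'] [Module S N']
    [IsScalarTower S S' N'] (f : N →ₗ[S] N') (hf : IsBaseChange S' f) (J : Ideal S)
    (hJ : Module.support S N = PrimeSpectrum.zeroLocus J) :
    Module.support S' N' = PrimeSpectrum.zeroLocus (J.map (algebraMap S S')) := by
  rw [← hf.equiv.support_eq, Groth.Agent.S6284.result, hJ, PrimeSpectrum.preimage_comap_zeroLocus,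
    Ideal.map, PrimeSpectrum.zeroLocus_span]

/-- All schemes are affine here, as in the ambient rendering of a one-step dévissage. Let R → S be a
ring map of finite type, N a finite S-module, p a prime of R and (C, D, G, n) a one-step dévissage
of N/S/R over p — C a finitely presented quotient of S with a finite C-module G identified with N
over S, D an R-algebra smooth of relative dimension n with geometrically irreducible fibres and a
finite map D → C over R, n the dimension of the support of the fibre module of N over p. Let R → R'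
be a ring map, p' a prime of R' over p, and let S', C', D' be the base changes of S, C, D to R'
(pushout squares, with the R'-algebra maps S' → C' ← D' induced from S → C ← D) and N' = N ⊗_S S',
G' = G ⊗_C C' (base-change maps f, g). Then (C', D', G', n) is a one-step dévissage of N'/S'/R' over
p'. -/
theorem result
    (R S : Type u) [CommRing R] [CommRing S] [Algebra R S] [Algebra.FiniteType R S]
    (N : Type u) [AddCommGroup N] [Module S N] [Module R N] [IsScalarTower R S N] [Module.Finite S N]
    (p : Ideal R) [p.IsPrime]
    (C D G : Type u) [CommRing C] [CommRing D] [Algebra S C] [Algebra R C] [IsScalarTower R S C]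
    [Algebra R D] [Algebra D C] [IsScalarTower R D C] [AddCommGroup G] [Module C G] [Module S G]
    [IsScalarTower S C G] (n : ℕ)
    (h : FlatCA.IsOneStepDevissage R S N p C D G n)
    (R' : Type u) [CommRing R'] [Algebra R R'] (p' : Ideal R') [p'.IsPrime] [p'.LiesOver p]
    (S' C' D' : Type u) [CommRing S'] [CommRing C'] [CommRing D']
    [Algebra R' S'] [Algebra R S'] [Algebra S S'] [IsScalarTower R R' S'] [IsScalarTower R S S']
    [Algebra.IsPushout R R' S S']
    [Algebra R' C'] [Algebra R C'] [Algebra C C'] [IsScalarTower R R' C'] [IsScalarTower R C C']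
    [Algebra.IsPushout R R' C C']
    [Algebra R' D'] [Algebra R D'] [Algebra D D'] [IsScalarTower R R' D'] [IsScalarTower R D D']
    [Algebra.IsPushout R R' D D']
    [Algebra S' C'] [IsScalarTower R' S' C'] [Algebra S C'] [IsScalarTower S S' C'] [IsScalarTower S C C']
    [Algebra D' C'] [IsScalarTower R' D' C'] [Algebra D C'] [IsScalarTower D D' C'] [IsScalarTower D C C']
    (N' : Type u) [AddCommGroup N'] [Module S' N'] [Module R' N'] [IsScalarTower R' S' N']
    [Module S N'] [IsScalarTower S S' N'] (f : N →ₗ[S] N') (hf : IsBaseChange S' f)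
    (G' : Type u) [AddCommGroup G'] [Module C' G'] [Module S' G'] [IsScalarTower S' C' G']
    [Module C G'] [IsScalarTower C C' G'] (g : G →ₗ[C] G') (hg : IsBaseChange C' g) :
    FlatCA.IsOneStepDevissage R' S' N' p' C' D' G' n := by
  obtain ⟨⟨e⟩, hsurj, hfp, hfinDC, hfinCG, hsm, hgi, hdim⟩ := h
  have hPS : Algebra.IsPushout S S' C C' := isPushout_right R S C R' S' C'
  have hPD : Algebra.IsPushout D D' C C' := isPushout_right R D C R' D' C'
  refine ⟨?_, ?_, ?_, ?_, ?_, ?_, ?_, ?_⟩
  · -- N' ≃ G'
    have e1 : N' ≃ₗ[S'] S' ⊗[S] N := hf.equiv.symm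
    have e2 : S' ⊗[S] N ≃ₗ[S'] S' ⊗[S] G :=
      TensorProduct.AlgebraTensorModule.congr (LinearEquiv.refl S' S') e
    have e3 : C' ⊗[C] G ≃ₗ[S'] S' ⊗[S] G := Algebra.IsPushout.cancelBaseChange S S' C C' G
    have e4 : C' ⊗[C] G ≃ₗ[S'] G' := hg.equiv.restrictScalars S'
    exact ⟨e1.trans (e2.trans (e3.symm.trans e4))⟩
  · exact surjective_of_isPushout S S' C C' hsurj
  · have : Algebra.IsPushout S C S' C' := hPS.symm
    exact Algebra.FinitePresentation.equiv (Algebra.IsPushout.equiv S S' C C')
  · have : Algebra.IsPushout D C D' C' := hPD.symm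
    exact Module.Finite.equiv (Algebra.IsPushout.equiv D D' C C').toLinearEquiv
  · exact finite_of_isBaseChange g hg
  · have : Algebra.IsPushout R D R' D' := Algebra.IsPushout.symm inferInstance
    have hpb := AlgebraicGeometry.isPullback_SpecMap_of_isPushout _ _ _ _
      (CommRingCat.isPushout_of_isPushout R D R' D')
    have := AlgebraicGeometry.smoothOfRelativeDimension_isStableUnderBaseChange (n := n)
    exact CategoryTheory.MorphismProperty.of_isPullback
      (P := @AlgebraicGeometry.SmoothOfRelativeDimension n) hpb hsm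
  · have : Algebra.IsPushout R D R' D' := Algebra.IsPushout.symm inferInstance
    have hpb := AlgebraicGeometry.isPullback_SpecMap_of_isPushout _ _ _ _
      (CommRingCat.isPushout_of_isPushout R D R' D')
    exact CategoryTheory.MorphismProperty.of_isPullback
      (P := @AlgebraicGeometry.GeometricallyIrreducible) hpb hgi
  · -- dimension of the support of the fibre module
    have hJ : Module.support S N = PrimeSpectrum.zeroLocus (Module.annihilator S N : Set S) :=
      Module.support_eq_zeroLocus
    generalize Module.annihilator S N = J at hJ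
    have h1 : ringKrullDim (p.ResidueField ⊗[R] (S ⧸ J)) = n := by
      rw [← supportDim_fibre R S p.ResidueField N J hJ]; exact hdim
    have hfinN' : Module.Finite S' N' := finite_of_isBaseChange f hf
    have hJ' := support_of_isBaseChange S S' N N' f hf J hJ
    have h2 : Module.supportDim (p'.Fiber S') (FlatCA.fiberMod p' S' N') =
        ringKrullDim (p'.ResidueField ⊗[R'] (S' ⧸ J.map (algebraMap S S'))) :=
      supportDim_fibre R' S' p'.ResidueField N' _ hJ'
    rw [h2, ringKrullDim_eq_of_ringEquiv (fibreQuotEquiv R S R' S' p'.ResidueField J), ← h1]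
    let φ : p.ResidueField →ₐ[R] p'.ResidueField :=
      Ideal.ResidueField.mapₐ p p' (Algebra.ofId R R') (Ideal.LiesOver.over (P := p') (p := p))
    let _ : Algebra p.ResidueField p'.ResidueField := φ.toRingHom.toAlgebra
    have : IsScalarTower R p.ResidueField p'.ResidueField :=
      IsScalarTower.of_algebraMap_eq fun x => (φ.commutes x).symm
    exact Groth.Agent.Lib.Helper13.GenFibreCons.ringKrullDim_tensor_eq_of_field_ext
      p.ResidueField p'.ResidueField

end Groth.Agent.S12231
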