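import Groth.Statements.S12239
import Groth.Agent.S12231
import Groth.Agent.Lib.Helper55.LocalDimTop
import Mathlib

set_option autoImplicit false
universe u
open FlatMor

namespace Groth.Agent.S12239

open TensorProduct
open FlatMor

section approx

variable {R R' : Type*} [CommRing R] [CommRing R'] [Algebra R R'] (p : Ideal R) [p.IsPrime]
  (p' : Ideal R') [p'.IsPrime] [hp' : p'.LiesOver p]

/-- elements of `R'` are fractions from `R` modulo `p'` when `κ(p) → κ(p')` is surjective. -/
lemma exists_approx_base
    (hκ : Function.Surjective (Ideal.ResidueField.mapₐ p p' (Algebra.ofId R R') hp'.over))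
    (r' : R') : ∃ b ∉ p, ∃ a : R, algebraMap R R' b * r' - algebraMap R R' a ∈ p' := by
  obtain ⟨z, hz⟩ := hκ (algebraMap R' p'.ResidueField r')
  obtain ⟨⟨a', ⟨b', hb'⟩⟩, hab⟩ := IsLocalization.surj (nonZeroDivisors (R ⧸ p)) z
  obtain ⟨a, rfl⟩ := Ideal.Quotient.mk_surjective a'
  obtain ⟨b, rfl⟩ := Ideal.Quotient.mk_surjective b'
  have hb : b ∉ p := by
    intro hb
    have : (Ideal.Quotient.mk p b) = 0 := Ideal.Quotient.eq_zero_iff_mem.mpr hb
    rw [this] at hb'
    exact zero_notMem_nonZeroDivisors hb'
  refine ⟨b, hb, a, ?_⟩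
  rw [← Ideal.algebraMap_residueField_eq_zero, map_sub, map_mul, ← hz]
  simp only at hab
  have h1 : algebraMap (R ⧸ p) p.ResidueField (Ideal.Quotient.mk p b) =
      algebraMap R p.ResidueField b := rfl
  have h2 : algebraMap (R ⧸ p) p.ResidueField (Ideal.Quotient.mk p a) =
      algebraMap R p.ResidueField a := rfl
  rw [h1, h2] at hab
  have := congrArg (Ideal.ResidueField.mapₐ p p' (Algebra.ofId R R') hp'.over) hab
  rw [map_mul, AlgHom.commutes, AlgHom.commutes] at this
  rw [← IsScalarTower.algebraMap_apply R R' p'.ResidueField,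
    ← IsScalarTower.algebraMap_apply R R' p'.ResidueField, mul_comm, this, sub_self]

end approx


section pushout

variable {R R' : Type*} [CommRing R] [CommRing R'] [Algebra R R'] (p : Ideal R) [p.IsPrime]
  (p' : Ideal R') [p'.IsPrime] [hp' : p'.LiesOver p]
  (T T' : Type*) [CommRing T] [CommRing T'] [Algebra R T] [Algebra R' T'] [Algebra R T']
  [Algebra T T'] [IsScalarTower R R' T'] [IsScalarTower R T T'] [Algebra.IsPushout R R' T T']

/-- elements of the pushout `T'` are fractions from `T` modulo `p'T'`. -/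
lemma exists_approx
    (hκ : Function.Surjective (Ideal.ResidueField.mapₐ p p' (Algebra.ofId R R') hp'.over))
    (x : T') : ∃ b ∉ p, ∃ s : T,
      algebraMap R T' b * x - algebraMap T T' s ∈ p'.map (algebraMap R' T') := by
  have hP : Algebra.IsPushout R T R' T' := Algebra.IsPushout.symm inferInstance
  obtain ⟨y, rfl⟩ := (Algebra.IsPushout.equiv R T R' T').surjective x
  induction y with
  | zero => exact ⟨1, fun h => ‹p.IsPrime›.ne_top ((Ideal.eq_top_iff_one p).mpr h), 0, by simp⟩
  | add x y hx hy =>
    obtain ⟨b₁, hb₁, s₁, h₁⟩ := hx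
    obtain ⟨b₂, hb₂, s₂, h₂⟩ := hy
    refine ⟨b₁ * b₂, fun h => (‹p.IsPrime›.mem_or_mem h).elim hb₁ hb₂,
      b₂ • s₁ + b₁ • s₂, ?_⟩
    have : algebraMap R T' (b₁ * b₂) * ((Algebra.IsPushout.equiv R T R' T') (x + y)) -
        algebraMap T T' (b₂ • s₁ + b₁ • s₂) =
        algebraMap R T' b₂ * (algebraMap R T' b₁ * (Algebra.IsPushout.equiv R T R' T') x -
          algebraMap T T' s₁) +
        algebraMap R T' b₁ * (algebraMap R T' b₂ * (Algebra.IsPushout.equiv R T R' T') y -
          algebraMap T T' s₂) := by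
      simp only [map_add, map_mul, Algebra.smul_def, ← IsScalarTower.algebraMap_apply R T T']
      ring
    rw [this]
    exact Ideal.add_mem _ (Ideal.mul_mem_left _ _ h₁) (Ideal.mul_mem_left _ _ h₂)
  | tmul t r' =>
    obtain ⟨b, hb, a, hab⟩ := exists_approx_base p p' hκ r'
    refine ⟨b, hb, a • t, ?_⟩
    have : algebraMap R T' b * (Algebra.IsPushout.equiv R T R' T') (t ⊗ₜ[R] r') -
        algebraMap T T' (a • t) =
        algebraMap T T' t * algebraMap R' T' (algebraMap R R' b * r' - algebraMap R R' a) := by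
      rw [Algebra.IsPushout.equiv_tmul]
      simp only [map_sub, map_mul, Algebra.smul_def, ← IsScalarTower.algebraMap_apply R T T',
        ← IsScalarTower.algebraMap_apply R R' T']
      ring
    rw [this]
    exact Ideal.mul_mem_left _ _ (Ideal.mem_map_of_mem _ hab)

/-- a prime of the pushout `T'` over `p'` is determined by its contraction to `T`, when
`κ(p) → κ(p')` is surjective. -/
lemma prime_le_of_comap_le
    (hκ : Function.Surjective (Ideal.ResidueField.mapₐ p p' (Algebra.ofId R R') hp'.over))
    (t₁ t₂ : Ideal T') [t₂.IsPrime] (h₁ : t₁.comap (algebraMap R' T') = p')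
    (h₂ : t₂.comap (algebraMap R' T') = p')
    (h : t₁.comap (algebraMap T T') ≤ t₂.comap (algebraMap T T')) : t₁ ≤ t₂ := by
  intro x hx
  obtain ⟨b, hb, s, hbs⟩ := exists_approx p p' T T' hκ x
  have hp1 : p'.map (algebraMap R' T') ≤ t₁ := Ideal.map_le_iff_le_comap.mpr h₁.ge
  have hp2 : p'.map (algebraMap R' T') ≤ t₂ := Ideal.map_le_iff_le_comap.mpr h₂.ge
  have hs1 : algebraMap T T' s ∈ t₁ := by
    have := Ideal.sub_mem _ (Ideal.mul_mem_left t₁ (algebraMap R T' b) hx) (hp1 hbs)
    simpa using this
  have hs2 : algebraMap T T' s ∈ t₂ := h hs1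
  have hbx : algebraMap R T' b * x ∈ t₂ := by
    have := Ideal.add_mem _ (hp2 hbs) hs2
    simpa using this
  refine (‹t₂.IsPrime›.mem_or_mem hbx).resolve_left fun hb2 => hb ?_
  rw [hp'.over, Ideal.mem_comap, ← h₂, Ideal.mem_comap, ← IsScalarTower.algebraMap_apply]
  exact hb2

lemma prime_eq_of_comap_eq
    (hκ : Function.Surjective (Ideal.ResidueField.mapₐ p p' (Algebra.ofId R R') hp'.over))
    (t₁ t₂ : Ideal T') [t₁.IsPrime] [t₂.IsPrime] (h₁ : t₁.comap (algebraMap R' T') = p')
    (h₂ : t₂.comap (algebraMap R' T') = p')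
    (h : t₁.comap (algebraMap T T') = t₂.comap (algebraMap T T')) : t₁ = t₂ :=
  le_antisymm (prime_le_of_comap_le p p' T T' hκ t₁ t₂ h₁ h₂ h.le)
    (prime_le_of_comap_le p p' T T' hκ t₂ t₁ h₂ h₁ h.ge)

end pushout


section resfield

variable {R R' : Type*} [CommRing R] [CommRing R'] [Algebra R R'] (p : Ideal R) [p.IsPrime]
  (p' : Ideal R') [p'.IsPrime] [hp' : p'.LiesOver p]
  (T T' : Type*) [CommRing T] [CommRing T'] [Algebra R T] [Algebra R' T'] [Algebra R T']
  [Algebra T T'] [IsScalarTower R R' T'] [IsScalarTower R T T'] [Algebra.IsPushout R R' T T']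

/-- the residue field extension `κ(t) → κ(t')` is surjective for a prime `t'` of the pushout over
`t` and `p'`, when `κ(p) → κ(p')` is surjective. -/
lemma residueField_map_surjective
    (hκ : Function.Surjective (Ideal.ResidueField.mapₐ p p' (Algebra.ofId R R') hp'.over))
    (t : Ideal T) [t.IsPrime] (t' : Ideal T') [t'.IsPrime] [ht : t'.LiesOver t]
    [ht' : t'.LiesOver p'] :
    Function.Surjective (Ideal.ResidueField.mapₐ t t' (Algebra.ofId T T') ht.over) := by
  set ψ := Ideal.ResidueField.mapₐ t t' (Algebra.ofId T T') ht.over with hψ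
  have hpT : p'.map (algebraMap R' T') ≤ t' := Ideal.map_le_iff_le_comap.mpr ht'.over.le
  -- images of elements of `T'` are in the range
  have key : ∀ u : T', algebraMap T' t'.ResidueField u ∈ ψ.toRingHom.fieldRange := by
    intro u
    obtain ⟨b, hb, s, hbs⟩ := exists_approx p p' T T' hκ u
    have h0 : algebraMap T' t'.ResidueField (algebraMap R T' b * u - algebraMap T T' s) = 0 :=
      Ideal.algebraMap_residueField_eq_zero.mpr (hpT hbs)
    rw [map_sub, map_mul, sub_eq_zero] at h0
    have hb' : algebraMap T' t'.ResidueField (algebraMap R T' b) ≠ 0 := by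
      rw [Ne, Ideal.algebraMap_residueField_eq_zero]
      intro hb2
      apply hb
      rw [hp'.over, Ideal.mem_comap, ht'.over, Ideal.mem_comap,
        ← IsScalarTower.algebraMap_apply]
      exact hb2
    have h1 : algebraMap T' t'.ResidueField (algebraMap R T' b) ∈ ψ.toRingHom.fieldRange := by
      refine ⟨algebraMap T t.ResidueField (algebraMap R T b), ?_⟩
      rw [IsScalarTower.algebraMap_apply R T T']
      change ψ (algebraMap T t.ResidueField (algebraMap R T b)) = _
      rw [ψ.commutes, IsScalarTower.algebraMap_apply T T' t'.ResidueField]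
    have h2 : algebraMap T' t'.ResidueField (algebraMap T T' s) ∈ ψ.toRingHom.fieldRange := by
      refine ⟨algebraMap T t.ResidueField s, ?_⟩
      change ψ (algebraMap T t.ResidueField s) = _
      rw [ψ.commutes, IsScalarTower.algebraMap_apply T T' t'.ResidueField]
    have : algebraMap T' t'.ResidueField u =
        (algebraMap T' t'.ResidueField (algebraMap R T' b))⁻¹ *
          algebraMap T' t'.ResidueField (algebraMap T T' s) := by
      rw [← h0, ← mul_assoc, inv_mul_cancel₀ hb', one_mul]
    rw [this]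
    exact mul_mem (inv_mem h1) h2
  intro x
  obtain ⟨a, c, hc, rfl⟩ := IsFractionRing.div_surjective (A := T' ⧸ t') x
  obtain ⟨a, rfl⟩ := Ideal.Quotient.mk_surjective a
  obtain ⟨c, rfl⟩ := Ideal.Quotient.mk_surjective c
  have : algebraMap (T' ⧸ t') t'.ResidueField (Ideal.Quotient.mk t' a) /
      algebraMap (T' ⧸ t') t'.ResidueField (Ideal.Quotient.mk t' c) ∈ ψ.toRingHom.fieldRange :=
    div_mem (key a) (key c)
  exact this

end resfield


section purelyTrans

variable {R R' D D' : Type u} [CommRing R] [CommRing R'] [Algebra R R'] (p : Ideal R) [p.IsPrime]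
  (p' : Ideal R') [p'.IsPrime] [hp' : p'.LiesOver p]
  [CommRing D] [CommRing D'] [Algebra R D] [Algebra R' D'] [Algebra R D']
  [Algebra D D'] [IsScalarTower R R' D'] [IsScalarTower R D D'] [Algebra.IsPushout R R' D D']

lemma purelyTranscendental_baseChange
    (hκ : Function.Bijective (Ideal.ResidueField.mapₐ p p' (Algebra.ofId R R') hp'.over))
    (y : Ideal D) [y.IsPrime] [hy : y.LiesOver p] (y' : Ideal D') [y'.IsPrime]
    [hyy : y'.LiesOver y] [hy' : y'.LiesOver p']
    (h4 : FlatCA.PurelyTranscendental p y) : FlatCA.PurelyTranscendental p' y' := by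
  unfold FlatCA.PurelyTranscendental at h4 ⊢
  set φ₁ := Ideal.ResidueField.mapₐ p y (Algebra.ofId R D) hy.over with hφ₁
  set φ₂ := Ideal.ResidueField.mapₐ p' y' (Algebra.ofId R' D') hy'.over with hφ₂
  set σ := Ideal.ResidueField.mapₐ p p' (Algebra.ofId R R') hp'.over with hσ
  set ψ := Ideal.ResidueField.mapₐ y y' (Algebra.ofId D D') hyy.over with hψ
  have hψsurj : Function.Surjective ψ := residueField_map_surjective p p' D D' hκ.2 y y'
  have hcomm : ψ.toRingHom.comp φ₁.toRingHom = φ₂.toRingHom.comp σ.toRingHom := by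
    apply Ideal.ResidueField.ringHom_ext
    refine RingHom.ext fun r => ?_
    simp only [RingHom.comp_apply, AlgHom.toRingHom_eq_coe, RingHom.coe_coe, AlgHom.commutes]
    rw [IsScalarTower.algebraMap_apply R D y.ResidueField, ψ.commutes,
      IsScalarTower.algebraMap_apply D D' y'.ResidueField,
      IsScalarTower.algebraMap_apply R R' p'.ResidueField, φ₂.commutes,
      IsScalarTower.algebraMap_apply R' D' y'.ResidueField,
      ← IsScalarTower.algebraMap_apply R D D', ← IsScalarTower.algebraMap_apply R R' D']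
  let A1 : Algebra p.ResidueField y.ResidueField := φ₁.toRingHom.toAlgebra
  let A2 : Algebra p'.ResidueField y'.ResidueField := φ₂.toRingHom.toAlgebra
  let A3 : Algebra p.ResidueField p'.ResidueField := σ.toRingHom.toAlgebra
  let A4 : Algebra p.ResidueField y'.ResidueField := (φ₂.toRingHom.comp σ.toRingHom).toAlgebra
  have tw : IsScalarTower p.ResidueField p'.ResidueField y'.ResidueField :=
    IsScalarTower.of_algebraMap_eq fun _ => rfl
  let ψ' : y.ResidueField ≃ₐ[p.ResidueField] y'.ResidueField :=
    AlgEquiv.ofBijective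
      { ψ.toRingHom with
        commutes' := fun r => congrArg (fun f : p.ResidueField →+* y'.ResidueField => f r) hcomm }
      ⟨ψ.toRingHom.injective, hψsurj⟩
  obtain ⟨ι, x, hx, hadj⟩ := h4
  refine ⟨ι, ψ' ∘ x, ?_, ?_⟩
  · have h1 : IsTranscendenceBasis p.ResidueField (ψ' ∘ x) := ψ'.isTranscendenceBasis hx
    have : Algebra.IsIntegral p.ResidueField p'.ResidueField :=
      Algebra.isIntegral_of_surjective hκ.2
    exact (Algebra.IsIntegral.isTranscendenceBasis_iff p.ResidueField p'.ResidueField).mp h1
  · have h2 : IntermediateField.adjoin p.ResidueField (Set.range (ψ' ∘ x)) = ⊤ := by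
      rw [Set.range_comp, ← AlgEquiv.coe_toAlgHom, ← IntermediateField.adjoin_map, hadj,
        ← AlgHom.fieldRange_eq_map, AlgHom.fieldRange_eq_top]
      exact ψ'.surjective
    rw [eq_top_iff]
    intro z _
    have hz : z ∈ IntermediateField.adjoin p.ResidueField (Set.range (ψ' ∘ x)) := by
      rw [h2]; trivial
    have hle : IntermediateField.adjoin p.ResidueField (Set.range (ψ' ∘ x)) ≤
        (IntermediateField.adjoin p'.ResidueField (Set.range (ψ' ∘ x))).restrictScalars
          p.ResidueField := by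
      rw [IntermediateField.adjoin_le_iff]
      exact IntermediateField.subset_adjoin _ _
    exact hle hz

end purelyTrans


section fiberIdeal

variable {R S : Type u} [CommRing R] [CommRing S] [Algebra R S] (p : Ideal R) [p.IsPrime]

/-- the contraction map from the spectrum of the fibre ring to the spectrum of `S` is injective. -/
lemma comap_includeRight_injective (Q₁ Q₂ : PrimeSpectrum (p.Fiber S))
    (h : Q₁.asIdeal.comap (Algebra.TensorProduct.includeRight (R := R) (A := p.ResidueField)
      (B := S)).toRingHom = Q₂.asIdeal.comap (Algebra.TensorProduct.includeRight (R := R)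
      (A := p.ResidueField) (B := S)).toRingHom) : Q₁ = Q₂ := by
  apply (PrimeSpectrum.preimageEquivFiber R S ⟨p, inferInstance⟩).symm.injective
  apply Subtype.ext
  apply PrimeSpectrum.ext
  exact h

/-- the extension of a prime `q` over `p` to the fibre ring is the prime corresponding to `q`. -/
lemma exists_prime_fiberIdeal (q : Ideal S) [q.IsPrime] [hq : q.LiesOver p] :
    ∃ Q : PrimeSpectrum (p.Fiber S), Q.asIdeal = FlatCA.fiberIdeal p q ∧
      Q.asIdeal.comap (Algebra.TensorProduct.includeRight (R := R) (A := p.ResidueField)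
        (B := S)).toRingHom = q := by
  let q₀ : (PrimeSpectrum.comap (algebraMap R S) ⁻¹' {(⟨p, inferInstance⟩ : PrimeSpectrum R)}) :=
    ⟨⟨q, inferInstance⟩, by
      simp only [Set.mem_preimage, Set.mem_singleton_iff]
      exact PrimeSpectrum.ext hq.over.symm⟩
  let Q := PrimeSpectrum.preimageEquivFiber R S ⟨p, inferInstance⟩ q₀
  have hQ : Q.asIdeal.comap (Algebra.TensorProduct.includeRight (R := R) (A := p.ResidueField)
      (B := S)).toRingHom = q := by
    have := (PrimeSpectrum.preimageEquivFiber R S ⟨p, inferInstance⟩).symm_apply_apply q₀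
    exact congrArg (fun z => z.1.asIdeal) this
  refine ⟨Q, le_antisymm ?_ ?_, hQ⟩
  · intro x hx
    obtain ⟨r, hr, s, e⟩ := Ideal.Fiber.exists_smul_eq_one_tmul p x
    have hs : s ∈ q := by
      rw [← hQ, Ideal.mem_comap]
      change (1 : p.ResidueField) ⊗ₜ[R] s ∈ Q.asIdeal
      rw [← e, Algebra.smul_def]
      exact Ideal.mul_mem_left _ _ hx
    have hu : IsUnit (algebraMap R (p.Fiber S) r) := by
      rw [IsScalarTower.algebraMap_apply R p.ResidueField (p.Fiber S)]
      refine IsUnit.map _ (isUnit_iff_ne_zero.mpr ?_)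
      rwa [Ne, Ideal.algebraMap_residueField_eq_zero]
    have hx' : x = ↑(hu.unit⁻¹) * ((1 : p.ResidueField) ⊗ₜ[R] s) := by
      rw [← e, Algebra.smul_def, ← mul_assoc]
      simp
    rw [hx']
    exact Ideal.mul_mem_left _ _ (Ideal.mem_map_of_mem _ hs)
  · unfold FlatCA.fiberIdeal
    rw [Ideal.map_le_iff_le_comap, hQ]

end fiberIdeal


section fibreIso

variable {R R' S S' : Type u} [CommRing R] [CommRing R'] [Algebra R R'] (p : Ideal R) [p.IsPrime]
  (p' : Ideal R') [p'.IsPrime] [hp' : p'.LiesOver p]
  [CommRing S] [CommRing S'] [Algebra R S] [Algebra R' S'] [Algebra R S']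
  [Algebra S S'] [IsScalarTower R R' S'] [IsScalarTower R S S'] [Algebra.IsPushout R R' S S']

/-- first step: `κ(p) ⊗_R S ≅ κ(p') ⊗_R S`. -/
noncomputable def fibreIso₁
    (hκ : Function.Bijective (Ideal.ResidueField.mapₐ p p' (Algebra.ofId R R') hp'.over)) :
    p.ResidueField ⊗[R] S ≃ₐ[R] p'.ResidueField ⊗[R] S :=
  Algebra.TensorProduct.congr (AlgEquiv.ofBijective _ hκ) AlgEquiv.refl

/-- second step: `κ(p') ⊗_{R'} S' ≅ κ(p') ⊗_R S`. -/
noncomputable def fibreIso₂ :
    p'.ResidueField ⊗[R'] S' ≃ₐ[p'.ResidueField] p'.ResidueField ⊗[R] S :=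
  (Algebra.TensorProduct.congr AlgEquiv.refl (Algebra.IsPushout.equiv R R' S S').symm).trans
    (Algebra.TensorProduct.cancelBaseChange R R' p'.ResidueField p'.ResidueField S)

/-- the isomorphism of fibre rings `κ(p) ⊗ S ≅ κ(p') ⊗ S'` when `κ(p) ≅ κ(p')`. -/
noncomputable def fibreIso
    (hκ : Function.Bijective (Ideal.ResidueField.mapₐ p p' (Algebra.ofId R R') hp'.over)) :
    p.Fiber S ≃+* p'.Fiber S' :=
  (fibreIso₁ (S := S) p p' hκ).toRingEquiv.trans (fibreIso₂ (S := S) (S' := S') p').symm.toRingEquiv

lemma fibreIso_one_tmul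
    (hκ : Function.Bijective (Ideal.ResidueField.mapₐ p p' (Algebra.ofId R R') hp'.over))
    (s : S) : fibreIso p p' hκ ((1 : p.ResidueField) ⊗ₜ[R] s) =
      (1 : p'.ResidueField) ⊗ₜ[R'] (algebraMap S S' s) := by
  change (fibreIso₂ (S := S) (S' := S') p').symm (fibreIso₁ (S := S) p p' hκ (1 ⊗ₜ[R] s)) = _
  rw [AlgEquiv.symm_apply_eq]
  simp [fibreIso₁, fibreIso₂, Algebra.IsPushout.equiv_symm_algebraMap_right]

end fibreIso


section localDim

variable {R R' S S' : Type u} [CommRing R] [CommRing R'] [Algebra R R'] (p : Ideal R) [p.IsPrime]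
  (p' : Ideal R') [p'.IsPrime] [hp' : p'.LiesOver p]
  [CommRing S] [CommRing S'] [Algebra R S] [Algebra R' S'] [Algebra R S']
  [Algebra S S'] [IsScalarTower R R' S'] [IsScalarTower R S S'] [Algebra.IsPushout R R' S S']
  (N N' : Type u) [AddCommGroup N] [Module S N] [Module R N] [IsScalarTower R S N]
  [Module.Finite S N] [AddCommGroup N'] [Module S' N'] [Module R' N'] [IsScalarTower R' S' N']
  [Module S N'] [IsScalarTower S S' N']

omit [Module R N] [IsScalarTower R S N] in
attribute [local instance] Algebra.TensorProduct.rightAlgebra in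
/-- membership in the support of the fibre module, in terms of the support of the module. -/
lemma mem_support_fiberMod_iff (Q : PrimeSpectrum (p.Fiber S)) :
    Q ∈ Module.support (p.Fiber S) (FlatCA.fiberMod p S N) ↔
      PrimeSpectrum.comap (Algebra.TensorProduct.includeRight (R := R) (A := p.ResidueField)
        (B := S)).toRingHom Q ∈ Module.support S N := by
  change Q ∈ Module.support (p.Fiber S) ((p.Fiber S) ⊗[S] N) ↔ _
  rw [Groth.Agent.S6284.result]
  rfl

omit [Module R N] [IsScalarTower R S N] [Module R' N'] [IsScalarTower R' S' N'] in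
lemma exists_localDim_baseChange
    (hκ : Function.Bijective (Ideal.ResidueField.mapₐ p p' (Algebra.ofId R R') hp'.over))
    (f : N →ₗ[S] N') (hf : IsBaseChange S' f)
    (q : Ideal S) [q.IsPrime] [hq : q.LiesOver p] (q' : Ideal S') [q'.IsPrime]
    [hqq : q'.LiesOver q] [hq' : q'.LiesOver p'] (n : ℕ)
    (h1 : ∃ (ξ : PrimeSpectrum (p.Fiber S))
      (hξ : ξ ∈ Module.support (p.Fiber S) (FlatCA.fiberMod p S N)),
      ξ.asIdeal = FlatCA.fiberIdeal p q ∧
      FlatMor.localDim (Module.support (p.Fiber S) (FlatCA.fiberMod p S N)) ⟨ξ, hξ⟩ = n) :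
    ∃ (ξ' : PrimeSpectrum (p'.Fiber S'))
      (hξ' : ξ' ∈ Module.support (p'.Fiber S') (FlatCA.fiberMod p' S' N')),
      ξ'.asIdeal = FlatCA.fiberIdeal p' q' ∧
      FlatMor.localDim (Module.support (p'.Fiber S') (FlatCA.fiberMod p' S' N')) ⟨ξ', hξ'⟩ = n := by
  obtain ⟨ξ, hξ, hξq, hdim⟩ := h1
  have hfinN' : Module.Finite S' N' := Groth.Agent.S12231.finite_of_isBaseChange f hf
  set Φ := fibreIso (S := S) (S' := S') p p' hκ with hΦ
  let h : PrimeSpectrum (p'.Fiber S') ≃ₜ PrimeSpectrum (p.Fiber S) :=
    PrimeSpectrum.homeomorphOfRingEquiv Φ.symm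
  have hh : ∀ x, h x = PrimeSpectrum.comap (Φ : p.Fiber S →+* p'.Fiber S') x := fun x => rfl
  -- compatibility of contractions
  have hcomp : ∀ x : PrimeSpectrum (p'.Fiber S'),
      PrimeSpectrum.comap (Algebra.TensorProduct.includeRight (R := R) (A := p.ResidueField)
        (B := S)).toRingHom (h x) =
      PrimeSpectrum.comap (algebraMap S S')
        (PrimeSpectrum.comap (Algebra.TensorProduct.includeRight (R := R') (A := p'.ResidueField)
          (B := S')).toRingHom x) := by
    intro x
    rw [hh, ← PrimeSpectrum.comap_comp_apply, ← PrimeSpectrum.comap_comp_apply]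
    congr 1
    refine RingHom.ext fun s => ?_
    simp only [RingHom.comp_apply, AlgHom.toRingHom_eq_coe, RingHom.coe_coe,
      Algebra.TensorProduct.includeRight_apply]
    exact fibreIso_one_tmul p p' hκ s
  -- supports correspond
  have hsupp : ∀ x : PrimeSpectrum (p'.Fiber S'),
      x ∈ Module.support (p'.Fiber S') (FlatCA.fiberMod p' S' N') ↔
        h x ∈ Module.support (p.Fiber S) (FlatCA.fiberMod p S N) := by
    intro x
    rw [mem_support_fiberMod_iff, mem_support_fiberMod_iff, hcomp, ← hf.equiv.support_eq,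
      Groth.Agent.S6284.result]
    rfl
  obtain ⟨Q', hQ', hQ'q⟩ := exists_prime_fiberIdeal p' q'
  obtain ⟨Q, hQ, hQq⟩ := exists_prime_fiberIdeal p q
  have hξQ : ξ = Q := PrimeSpectrum.ext (hξq.trans hQ.symm)
  have hhQ' : h Q' = ξ := by
    rw [hξQ]
    apply comap_includeRight_injective
    have := congrArg PrimeSpectrum.asIdeal (hcomp Q')
    rw [PrimeSpectrum.comap_asIdeal, PrimeSpectrum.comap_asIdeal, PrimeSpectrum.comap_asIdeal,
      hQ'q] at this
    rw [this, hQq]
    exact hqq.over.symm
  have hQ's : Q' ∈ Module.support (p'.Fiber S') (FlatCA.fiberMod p' S' N') := by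
    rw [hsupp, hhQ']; exact hξ
  refine ⟨Q', hQ's, hQ', ?_⟩
  let hs := h.subtype hsupp
  have := Groth.Agent.Lib.Helper55.localDim_eq_of_isOpenEmbedding hs hs.isOpenEmbedding ⟨Q', hQ's⟩
  rw [this, ← hdim]
  congr 1
  exact Subtype.ext hhQ'

end localDim

open TensorProduct in
/-- All schemes are affine, as in the ambient rendering of a one-step dévissage. Let R → S be of finite
type, N a finite S-module, p a prime of R and q a prime of S over p (the points s and x). Let (C, D,
G, n) be a one-step dévissage of N/S/R over p — C a finitely presented quotient of S carrying a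
finite module G identified with N, D smooth over R of relative dimension n with geometrically
irreducible fibres, D → C finite over R, n the dimension of the support of the fibre module N ⊗ κ(p)
— which is moreover a one-step dévissage at q for primes z of C and y of D: the local dimension of
that support at the point given by q equals n; z lies over q and over y; z is the only prime of C
over y; and κ(y) is purely transcendental over κ(p). Let R → R' be a ring map and p' a prime of R'
over p such that κ(p) → κ(p') is bijective, and let S', C', D', N', G' be the base changes along R →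
R' (pushout squares compatible with S → C ← D, and N' = N ⊗_S S', G' = G ⊗_C C'). Let q', z', y' be
primes of S', C', D' lying over q, z, y respectively and over p'. Then q' is the only prime of S'
over both q and p', and the base-changed data is again a one-step dévissage at q': (C', D', G', n)
is a one-step dévissage of N'/S'/R' over p'; the local dimension at q' of the support of N' ⊗ κ(p')
equals n; z' lies over q' and over y'; z' is the only prime of C' over y'; and κ(y') is purely
transcendental over κ(p'). -/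
theorem result
    (R S : Type u) [CommRing R] [CommRing S] [Algebra R S] [Algebra.FiniteType R S]
    (N : Type u) [AddCommGroup N] [Module S N] [Module R N] [IsScalarTower R S N] [Module.Finite S N]
    (p : Ideal R) [p.IsPrime] (q : Ideal S) [q.IsPrime] [q.LiesOver p]
    (C D G : Type u) [CommRing C] [CommRing D] [Algebra S C] [Algebra R C] [IsScalarTower R S C]
    [Algebra R D] [Algebra D C] [IsScalarTower R D C] [AddCommGroup G] [Module C G] [Module S G]
    [IsScalarTower S C G] (n : ℕ)
    (h : FlatCA.IsOneStepDevissage R S N p C D G n)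
    (z : Ideal C) [z.IsPrime] (y : Ideal D) [y.IsPrime] [z.LiesOver q] [z.LiesOver y] [y.LiesOver p]
    (h1 : ∃ (ξ : PrimeSpectrum (p.Fiber S)) (hξ : ξ ∈ Module.support (p.Fiber S) (FlatCA.fiberMod p S N)),
      ξ.asIdeal = FlatCA.fiberIdeal p q ∧
      FlatMor.localDim (Module.support (p.Fiber S) (FlatCA.fiberMod p S N)) ⟨ξ, hξ⟩ = n)
    (h3 : ∀ (z₁ : Ideal C) [z₁.IsPrime], z₁.LiesOver y → z₁ = z)
    (h4 : FlatCA.PurelyTranscendental p y)
    (R' : Type u) [CommRing R'] [Algebra R R'] (p' : Ideal R') [p'.IsPrime] [hp' : p'.LiesOver p]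
    (hκ : Function.Bijective (Ideal.ResidueField.mapₐ p p' (Algebra.ofId R R') hp'.over))
    (S' C' D' : Type u) [CommRing S'] [CommRing C'] [CommRing D']
    [Algebra R' S'] [Algebra R S'] [Algebra S S'] [IsScalarTower R R' S'] [IsScalarTower R S S']
    [Algebra.IsPushout R R' S S']
    [Algebra R' C'] [Algebra R C'] [Algebra C C'] [IsScalarTower R R' C'] [IsScalarTower R C C']
    [Algebra.IsPushout R R' C C']
    [Algebra R' D'] [Algebra R D'] [Algebra D D'] [IsScalarTower R R' D'] [IsScalarTower R D D']
    [Algebra.IsPushout R R' D D']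
    [Algebra S' C'] [IsScalarTower R' S' C'] [Algebra S C'] [IsScalarTower S S' C'] [IsScalarTower S C C']
    [Algebra D' C'] [IsScalarTower R' D' C'] [Algebra D C'] [IsScalarTower D D' C'] [IsScalarTower D C C']
    (N' : Type u) [AddCommGroup N'] [Module S' N'] [Module R' N'] [IsScalarTower R' S' N']
    [Module S N'] [IsScalarTower S S' N'] (f : N →ₗ[S] N') (hf : IsBaseChange S' f)
    (G' : Type u) [AddCommGroup G'] [Module C' G'] [Module S' G'] [IsScalarTower S' C' G']
    [Module C G'] [IsScalarTower C C' G'] (g : G →ₗ[C] G') (hg : IsBaseChange C' g)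
    (q' : Ideal S') [q'.IsPrime] [q'.LiesOver q] [q'.LiesOver p']
    (z' : Ideal C') [z'.IsPrime] [z'.LiesOver z] [z'.LiesOver p']
    (y' : Ideal D') [y'.IsPrime] [y'.LiesOver y] [y'.LiesOver p'] :
    (∀ (q₁ : Ideal S') [q₁.IsPrime], q₁.LiesOver q → q₁.LiesOver p' → q₁ = q') ∧
    FlatCA.IsOneStepDevissage R' S' N' p' C' D' G' n ∧
    (∃ (ξ' : PrimeSpectrum (p'.Fiber S')) (hξ' : ξ' ∈ Module.support (p'.Fiber S') (FlatCA.fiberMod p' S' N')),
      ξ'.asIdeal = FlatCA.fiberIdeal p' q' ∧
      FlatMor.localDim (Module.support (p'.Fiber S') (FlatCA.fiberMod p' S' N')) ⟨ξ', hξ'⟩ = n) ∧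
    z'.LiesOver q' ∧ z'.LiesOver y' ∧
    (∀ (z₁ : Ideal C') [z₁.IsPrime], z₁.LiesOver y' → z₁ = z') ∧
    FlatCA.PurelyTranscendental p' y' := by
  have hPS : Algebra.IsPushout S S' C C' := Groth.Agent.S12231.isPushout_right R S C R' S' C'
  have hqq : q'.LiesOver q := inferInstance
  have hq'p' : q'.LiesOver p' := inferInstance
  have hz'z : z'.LiesOver z := inferInstance
  have hz'p' : z'.LiesOver p' := inferInstance
  have hy'y : y'.LiesOver y := inferInstance
  have hy'p' : y'.LiesOver p' := inferInstance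
  have hzq : z.LiesOver q := inferInstance
  have hzy : z.LiesOver y := inferInstance
  have ha : ∀ (q₁ : Ideal S') [q₁.IsPrime], q₁.LiesOver q → q₁.LiesOver p' → q₁ = q' := by
    intro q₁ _ h1 h2
    exact prime_eq_of_comap_eq p p' S S' hκ.2 q₁ q' h2.over.symm hq'p'.over.symm
      (h1.over.symm.trans hqq.over)
  refine ⟨ha, ?_, ?_, ?_, ?_, ?_, ?_⟩
  · exact Groth.Agent.S12231.result R S N p C D G n h R' p' S' C' D' N' f hf G' g hg
  · exact exists_localDim_baseChange p p' N N' hκ f hf q q' n h1
  · -- z' over q'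
    have hprime : (z'.comap (algebraMap S' C')).IsPrime := Ideal.comap_isPrime _ _
    refine ⟨(ha (z'.comap (algebraMap S' C')) ⟨?_⟩ ⟨?_⟩).symm⟩
    · change q = Ideal.comap (algebraMap S S') (Ideal.comap (algebraMap S' C') z')
      rw [Ideal.comap_comap, ← IsScalarTower.algebraMap_eq S S' C',
        IsScalarTower.algebraMap_eq S C C', ← Ideal.comap_comap]
      exact hzq.over.trans (congrArg _ hz'z.over)
    · change p' = Ideal.comap (algebraMap R' S') (Ideal.comap (algebraMap S' C') z')
      rw [Ideal.comap_comap, ← IsScalarTower.algebraMap_eq R' S' C']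
      exact hz'p'.over
  · -- z' over y'
    have hprime : (z'.comap (algebraMap D' C')).IsPrime := Ideal.comap_isPrime _ _
    refine ⟨(prime_eq_of_comap_eq p p' D D' hκ.2 (z'.comap (algebraMap D' C')) y' ?_
      hy'p'.over.symm ?_).symm⟩
    · rw [Ideal.comap_comap, ← IsScalarTower.algebraMap_eq R' D' C']
      exact hz'p'.over.symm
    · rw [Ideal.comap_comap, ← IsScalarTower.algebraMap_eq D D' C',
        IsScalarTower.algebraMap_eq D C C', ← Ideal.comap_comap]
      exact ((hzy.over.trans (congrArg _ hz'z.over)).symm).trans hy'y.over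
  · -- uniqueness of z'
    intro z₁ _ hz₁
    have h1 : z₁.comap (algebraMap R' C') = p' := by
      rw [IsScalarTower.algebraMap_eq R' D' C', ← Ideal.comap_comap]
      exact ((congrArg (Ideal.comap (algebraMap R' D')) hz₁.over).symm).trans hy'p'.over.symm
    have hprime : (z₁.comap (algebraMap C C')).IsPrime := Ideal.comap_isPrime _ _
    have h2 : z₁.comap (algebraMap C C') = z := by
      refine h3 _ ⟨?_⟩
      change y = Ideal.comap (algebraMap D C) (Ideal.comap (algebraMap C C') z₁)
      rw [Ideal.comap_comap, ← IsScalarTower.algebraMap_eq D C C',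
        IsScalarTower.algebraMap_eq D D' C', ← Ideal.comap_comap]
      exact hy'y.over.trans (congrArg _ hz₁.over)
    exact prime_eq_of_comap_eq p p' C C' hκ.2 z₁ z' h1 hz'p'.over.symm (h2.trans hz'z.over)
  · exact purelyTranscendental_baseChange p p' hκ y y' h4

end Groth.Agent.S12239
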