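import Groth.Statements.S12767
import Groth.Agent.Lib.Helper65.RelStack
import Groth.Agent.Lib.Helper65.OfPshStack

set_option autoImplicit false
open CategoryTheory AlgebraicGeometry
universe u
open AlgSt

namespace Groth.Agent.S12767

/-- Take categories `𝒳` and `𝒴` fibred in groupoids over `(Sch/S)` and a 1-morphism `j : 𝒳 ⟶ 𝒴` between
them which is representable by algebraic spaces. If `𝒴` is a stack in groupoids (fppf topology),
then so is `𝒳`. -/
theorem result {S : Scheme.{u}} {𝒳 𝒴 : AlgSt.Cat S}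
    (h𝒳 : FibCat.IsFibGrpd 𝒳.p) (h𝒴 : Stk.IsStack (QuotSh.J Scheme.fppfPrecoverage S) 𝒴)
    (j : 𝒳 ⥤ᵇ 𝒴) (hj : AlgSt.RepByAlgSp1 j) :
    Stk.IsStack (QuotSh.J Scheme.fppfPrecoverage S) 𝒳 := by
  apply Groth.Agent.Lib.Helper65.isStack_of_fp_isStack j _ h𝒳 h𝒴
  intro U y
  obtain ⟨F, e, he⟩ := hj U y
  have hF : Stk.IsStack (QuotSh.J Scheme.fppfPrecoverage S) (AlgSt.ofSp F.obj) :=
    (Groth.Agent.Lib.Helper65.isStack_ofPsh_iff _ _).2
      ((isSheaf_iff_isSheaf_of_type _ _).1 F.obj.property)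
  exact Groth.Agent.Lib.Helper65.isStack_of_equivOver _ e he hF

end Groth.Agent.S12767
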