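import Groth.Statements.S12801

set_option autoImplicit false
open CategoryTheory
universe v₂ u₂ v u
open Stk

namespace Groth.Agent.S12801

/-- The topology on `𝒳` of sieves whose image under `p` generates a covering sieve. -/
def pushTop {C : Type u} [Category.{v} C] {𝒳 : Type u₂} [Category.{v₂} 𝒳] (p : 𝒳 ⥤ C)
    (hp : FibCat.IsFibGrpd p) (J : GrothendieckTopology C) : GrothendieckTopology 𝒳 where
  sieves x := {S | S.functorPushforward p ∈ J (p.obj x)}
  top_mem' x := by
    have : (⊤ : Sieve x).functorPushforward p = ⊤ := by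
      rw [← Sieve.id_mem_iff_eq_top]
      exact ⟨x, 𝟙 x, 𝟙 _, trivial, by simp⟩
    simp only [Set.mem_ofPred_eq, this]
    exact J.top_mem _
  pullback_stable' := by
    intro x y S f hS
    simp only [Set.mem_ofPred_eq] at hS ⊢
    refine J.superset_covering ?_ (J.pullback_stable (p.map f) hS)
    intro V h hh
    obtain ⟨z, g, k, hg, hk⟩ := hh
    obtain ⟨w, φ, hφ⟩ := hp.exists_lift k
    have := hφ
    have := hp.isStronglyCartesian f
    have hdom : p.obj w = V := IsHomLift.domain_eq p k φ
    subst hdom
    have hφ' : p.map φ = k := by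
      have := IsHomLift.fac p k φ
      simpa using this.symm
    have hcomp : p.IsHomLift (h ≫ p.map f) (φ ≫ g) := by
      rw [hk, ← hφ', ← p.map_comp]
      infer_instance
    let χ := Functor.IsStronglyCartesian.map p (p.map f) f (f' := h ≫ p.map f) rfl (φ ≫ g)
    have hχ : χ ≫ f = φ ≫ g := Functor.IsStronglyCartesian.fac p (p.map f) f rfl (φ ≫ g)
    have : p.IsHomLift h χ := Functor.IsStronglyCartesian.map_isHomLift p (p.map f) f rfl (φ ≫ g)
    refine ⟨w, χ, 𝟙 _, ?_, ?_⟩
    · change S (χ ≫ f)
      rw [hχ]
      exact S.downward_closed hg φ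
    · have := IsHomLift.fac p h χ
      simpa using this
  transitive' := by
    intro x S hS R hR
    simp only [Set.mem_ofPred_eq] at hS hR ⊢
    refine J.transitive hS _ ?_
    intro V h hh
    obtain ⟨z, g, k, hg, rfl⟩ := hh
    refine J.superset_covering ?_ (J.pullback_stable k (hR hg))
    intro W m hm
    obtain ⟨w, r, l, hr, hl⟩ := hm
    refine ⟨w, r ≫ g, l, hr, ?_⟩
    rw [p.map_comp, ← Category.assoc, hl, Category.assoc]

theorem result {C : Type u} [Category.{v} C] {𝒳 : Type u₂} [Category.{v₂} 𝒳] (p : 𝒳 ⥤ C)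
    (hp : FibCat.IsFibGrpd p) (J : GrothendieckTopology C) {x : 𝒳} (S : Sieve x) :
    S ∈ p.restrictedTopology J x ↔ S.functorPushforward p ∈ J (p.obj x) := by
  refine ⟨fun h => ?_, Functor.mem_restrictedTopology_of_functorPushforward_mem⟩
  have hle : p.restrictedTopology J ≤ pushTop p hp J := by
    rw [Functor.restrictedTopology, Precoverage.toGrothendieck_le_iff_le_toPrecoverage]
    intro y R hR
    rw [GrothendieckTopology.mem_toPrecoverage_iff]
    change (Sieve.generate R).functorPushforward p ∈ J _
    rw [← Sieve.generate_map_eq_functorPushforward]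
    exact hR
  exact hle _ h

end Groth.Agent.S12801
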