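import Groth.Statements.S10542
import Groth.Agent.Lib.Helper54.FpqcLocP
import Groth.Agent.Lib.Helper54.EtLocalBridge

set_option autoImplicit false
universe u
open CategoryTheory CategoryTheory.Limits AlgebraicGeometry
open AlgSp

namespace Groth.Agent.S10542

/-- The property of morphisms of algebraic spaces over S given by f is smooth (on etale charts) is fpqc
local on the base: for an fpqc covering of an algebraic space Y by algebraic spaces Y_i, a morphism
f : X ⟶ Y of algebraic spaces and cartesian squares X_i = Y_i ×_Y X, f has the property if and only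
if every X_i ⟶ Y_i has it. -/
theorem result (S : Scheme.{u}) :
    AlgSp.IsLocalOnBase (AlgSp.IsFpqcCover (S := S)) (AlgSp.LocP @Smooth) := by
  intro ι Y Yi g hY hYi hcov X f hX Xi p q hXi sq
  constructor
  · intro hf i
    exact Groth.Agent.Lib.Helper54.locP_of_isPullback_of_isAlgSpace
      Groth.Agent.Lib.Helper54.etLocal_smooth hX hY (sq i) hf
  · intro hp
    refine Groth.Agent.Lib.Helper54.locP_of_fpqc_local Groth.Agent.Lib.Helper54.etLocal_smooth f g hcov.2 p q sq
      (fun i => ?_)
    obtain ⟨U, a, hae, has⟩ := (hXi i).atlas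
    obtain ⟨V, b, hbe, hbs⟩ := (hYi i).atlas
    exact Groth.Agent.Lib.Helper54.locPU_of_locP Groth.Agent.Lib.Helper54.etLocal_smooth (hp i) a hae has b hbe hbs

end Groth.Agent.S10542
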