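import Groth.Statements.S10544
import Groth.Agent.Lib.Helper54.FpqcLocP
import Groth.Agent.Lib.Helper54.EtLocalBridge
import Groth.Agent.Lib.Helper54.SourceLocal2

set_option autoImplicit false
universe u
open CategoryTheory CategoryTheory.Limits AlgebraicGeometry
open AlgSp

namespace Groth.Agent.S10544

/-- The property of morphisms of algebraic spaces over S given by f is etale (composition with every
representable etale map from a scheme is representable etale) is fpqc local on the base: for an fpqc
covering of an algebraic space Y by algebraic spaces Y_i, a morphism f : X ⟶ Y of algebraic spaces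
and cartesian squares X_i = Y_i ×_Y X, f has the property if and only if every X_i ⟶ Y_i has it. -/
theorem result (S : Scheme.{u}) :
    AlgSp.IsLocalOnBase (AlgSp.IsFpqcCover (S := S)) AlgSp.IsEtaleMor := by
  intro ι Y Yi g hY hYi hcov X f hX Xi p q hXi sq
  constructor
  · intro hf i
    exact Groth.Agent.Lib.Helper54.isEtaleMor_of_locP_etale (hXi i) (hYi i)
      (Groth.Agent.Lib.Helper54.locP_of_isPullback_of_isAlgSpace
        Groth.Agent.Lib.Helper54.etLocal_etale hX hY (sq i)
        (Groth.Agent.Lib.Helper54.locP_etale_of_isEtaleMor hf))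
  · intro hp
    refine Groth.Agent.Lib.Helper54.isEtaleMor_of_locP_etale hX hY ?_
    refine Groth.Agent.Lib.Helper54.locP_of_fpqc_local Groth.Agent.Lib.Helper54.etLocal_etale f g hcov.2 p q sq
      (fun i => ?_)
    obtain ⟨U, a, hae, has⟩ := (hXi i).atlas
    obtain ⟨V, b, hbe, hbs⟩ := (hYi i).atlas
    exact Groth.Agent.Lib.Helper54.locPU_of_locP Groth.Agent.Lib.Helper54.etLocal_etale
      (Groth.Agent.Lib.Helper54.locP_etale_of_isEtaleMor (hp i)) a hae has b hbe hbs

end Groth.Agent.S10544
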