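import Groth.Statements.S9874
-- import your own Groth.Agent.* helpers here
import Groth.Agent.Lib.Helper51.AlgSpPullback

set_option autoImplicit false
universe u
open CategoryTheory CategoryTheory.Limits AlgebraicGeometry
open AlgSp

namespace Groth.Agent.S9874

/-- Let `H` be an fppf sheaf of sets over `S` whose diagonal `H ⟶ H × H` is representable by schemes,
let `X`, `Y` be algebraic spaces over `S` with maps `f : X ⟶ H`, `g : Y ⟶ H`, and let `P` with its
two projections be a fibre product `X ×_H Y` in sheaves. Then `P` is an algebraic space over `S`. -/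
theorem result (S : Scheme.{u}) (H : AlgSp.Sp S)
    (hH : AlgSp.Representable (Limits.diag H)) (X Y : AlgSp.Space S) (f : X.obj ⟶ H) (g : Y.obj ⟶ H)
    (P : AlgSp.Sp S) (fst : P ⟶ X.obj) (snd : P ⟶ Y.obj) (h : IsPullback fst snd f g) :
    AlgSp.IsAlgSpace P := by
  refine ⟨Groth.Agent.Lib.Helper51.representable_diag_of_isPullback X.property.diag Y.property.diag h, ?_⟩
  obtain ⟨U, pX, hXe, hXs⟩ := X.property.atlas
  obtain ⟨V, pY, hYe, hYs⟩ := Y.property.atlas
  -- first base change: along `fst : P ⟶ X`
  have sq1 : IsPullback (pullback.snd fst pX) (pullback.fst fst pX) pX fst :=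
    (IsPullback.of_hasPullback fst pX).flip
  -- second base change: along `P₁ ⟶ P ⟶ Y`
  have sq2 : IsPullback (pullback.snd (pullback.fst fst pX ≫ snd) pY)
      (pullback.fst (pullback.fst fst pX ≫ snd) pY) pY (pullback.fst fst pX ≫ snd) :=
    (IsPullback.of_hasPullback _ pY).flip
  have e1 : AlgSp.RepWith @Etale (pullback.fst fst pX) := MorphismProperty.of_isPullback sq1 hXe
  have s1 : AlgSp.RepWith @Surjective (pullback.fst fst pX) := MorphismProperty.of_isPullback sq1 hXs
  have e2 : AlgSp.RepWith @Etale (pullback.fst (pullback.fst fst pX ≫ snd) pY) :=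
    MorphismProperty.of_isPullback sq2 hYe
  have s2 : AlgSp.RepWith @Surjective (pullback.fst (pullback.fst fst pX ≫ snd) pY) :=
    MorphismProperty.of_isPullback sq2 hYs
  -- the double base change is `h_U ×_H h_V`, hence representable
  have sq3 := sq2.flip.paste_horiz (sq1.paste_vert h)
  obtain ⟨W, w', w, hW⟩ := Functor.relativelyRepresentable.of_diag hH (pX ≫ f) (pY ≫ g)
  let ε := hW.isoIsPullback _ _ sq3
  refine ⟨W, ε.hom ≫ pullback.fst (pullback.fst fst pX ≫ snd) pY ≫ pullback.fst fst pX, ?_, ?_⟩
  · exact (MorphismProperty.cancel_left_of_respectsIso (AlgSp.RepWith @Etale) ε.hom _).2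
      ((AlgSp.RepWith @Etale).comp_mem _ _ e2 e1)
  · exact (MorphismProperty.cancel_left_of_respectsIso (AlgSp.RepWith @Surjective) ε.hom _).2
      ((AlgSp.RepWith @Surjective).comp_mem _ _ s2 s1)

end Groth.Agent.S9874
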