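import Groth.Statements.S6401
import Groth.Agent.Lib.Helper31.FibCat

set_option autoImplicit false
open CategoryTheory
universe v u
open FibCat

namespace Groth.Agent.S6401

open Functor Groth.Agent.Lib.Helper31 in
/-- lifts with a propositionally given codomain -/
theorem exists_lift' {C : Type u} [Category.{v} C] {𝒴 : BasedCategory.{v, max u v} C}
    (h𝒴 : FibCat.IsFibGrpd 𝒴.p) {y : 𝒴.obj} {V U : C} (hU : 𝒴.p.obj y = U) (f : V ⟶ U) :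
    ∃ (y₀ : 𝒴.obj) (b : y₀ ⟶ y), 𝒴.p.IsHomLift f b := by
  subst hU
  exact h𝒴.exists_lift f

open Functor Groth.Agent.Lib.Helper31 in
/-- For categories `𝒳, 𝒴, 𝒮` fibred in groupoids over `C` and functors `F : 𝒳 ⟶ 𝒮`, `G : 𝒴 ⟶ 𝒮` over
`C`, the 2-fibre product `𝒳 ×_𝒮 𝒴` over `C` is fibred in groupoids over `C`. -/
theorem result {C : Type u} [Category.{v} C] {𝒳 𝒴 𝒮 : BasedCategory.{v, max u v} C} (F : 𝒳 ⥤ᵇ 𝒮) (G : 𝒴 ⥤ᵇ 𝒮) (h𝒳 : FibCat.IsFibGrpd 𝒳.p) (h𝒴 : FibCat.IsFibGrpd 𝒴.p) (h𝒮 : FibCat.IsFibGrpd 𝒮.p) :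
    FibCat.IsFibGrpd (FibCat.fp F G).p := by
  refine ⟨?_, ?_⟩
  · intro Y V f₀
    obtain ⟨f, hf⟩ : ∃ f : V ⟶ 𝒳.p.obj Y.obj.fst, f = f₀ := ⟨f₀, rfl⟩
    obtain ⟨x₀, a, ha⟩ := h𝒳.exists_lift (x := Y.obj.fst) f
    have hY : 𝒴.p.obj Y.obj.snd = 𝒳.p.obj Y.obj.fst := (FibCat.fpSnd F G).w_obj Y
    obtain ⟨y₀, b, hb⟩ := exists_lift' h𝒴 hY f
    have hV : 𝒳.p.obj x₀ = V := IsHomLift.domain_eq 𝒳.p f a
    subst hV
    have hFa : 𝒮.p.IsStronglyCartesian f (F.map a) := isStronglyCartesian_of_isFibGrpd 𝒮.p h𝒮 _ _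
    have hGb : 𝒮.p.IsStronglyCartesian f (G.map b) := isStronglyCartesian_of_isFibGrpd 𝒮.p h𝒮 _ _
    have hι := fp_iso_isHomLift F G Y
    obtain ⟨ι₀, hι₀, w⟩ := fp_exists_iso F G Y.obj.iso f a b
    let X : (FibCat.fp F G).obj := ⟨⟨x₀, y₀, ι₀⟩, hι₀⟩
    let Φ : X ⟶ Y := ObjectProperty.homMk ⟨a, b, w⟩
    refine ⟨X, Φ, ?_⟩
    rw [← hf]
    exact (fp_isHomLift_iff F G f Φ).mpr ha
  · intro X Y Φ
    have k1 := h𝒳.isStronglyCartesian Φ.hom.fst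
    have k2 : 𝒴.p.IsStronglyCartesian (𝒳.p.map Φ.hom.fst) Φ.hom.snd := by
      have : 𝒴.p.IsHomLift (𝒳.p.map Φ.hom.fst) Φ.hom.snd := fp_snd_isHomLift F G _ Φ
      exact isStronglyCartesian_of_isFibGrpd 𝒴.p h𝒴 _ _
    have k3 : 𝒮.p.IsStronglyCartesian (𝒳.p.map Φ.hom.fst) (G.map Φ.hom.snd) :=
      isStronglyCartesian_of_isFibGrpd 𝒮.p h𝒮 _ _
    exact fp_isStronglyCartesian F G (𝒳.p.map Φ.hom.fst) Φ

end Groth.Agent.S6401
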