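import Groth.Statements.S12800
import Groth.Agent.S6401
import Groth.Agent.Lib.Helper31.FibCat

set_option autoImplicit false
open CategoryTheory
universe v u
open FibCat

namespace Groth.Agent.S12800

/-- For categories `𝒮`, `𝒯` fibred in groupoids over `C`, a category `ℛ` fibred in setoids over `C`, a
functor `f : 𝒯 ⟶ 𝒮` over `C` with faithful underlying functor and a functor `g : ℛ ⟶ 𝒮` over `C`,
the 2-fibre product `𝒯 ×_𝒮 ℛ` over `C` is fibred in setoids. (The published statement takes stacks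
in groupoids over a site and concludes a stack in setoids; the stack property of the 2-fibre product
is the separate result on 2-fibre products of stacks in groupoids, and the setoid property stated
here needs no topology.) -/
theorem result {C : Type u} [Category.{v} C] {𝒮 𝒯 ℛ : BasedCategory.{v, max u v} C}
    (h𝒮 : FibCat.IsFibGrpd 𝒮.p) (h𝒯 : FibCat.IsFibGrpd 𝒯.p) (hℛ : FibCat.IsFibSetoid ℛ.p) (f : 𝒯 ⥤ᵇ 𝒮) [f.toFunctor.Faithful] (g : ℛ ⥤ᵇ 𝒮) :
    FibCat.IsFibSetoid (FibCat.fp f g).p := by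
  refine ⟨Groth.Agent.S6401.result f g h𝒯 hℛ.1 h𝒮, fun U => fun a b => ⟨fun φ ψ => ?_⟩⟩
  have hφ : (FibCat.fp f g).p.IsHomLift (𝟙 U) φ.1 := φ.2
  have hψ : (FibCat.fp f g).p.IsHomLift (𝟙 U) ψ.1 := ψ.2
  have hφ1 : 𝒯.p.IsHomLift (𝟙 U) φ.1.hom.fst :=
    (Groth.Agent.Lib.Helper31.fp_isHomLift_iff f g (𝟙 U) φ.1).mp hφ
  have hψ1 : 𝒯.p.IsHomLift (𝟙 U) ψ.1.hom.fst :=
    (Groth.Agent.Lib.Helper31.fp_isHomLift_iff f g (𝟙 U) ψ.1).mp hψ
  have hφ2 : ℛ.p.IsHomLift (𝟙 U) φ.1.hom.snd :=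
    Groth.Agent.Lib.Helper31.fp_snd_isHomLift f g (𝟙 U) φ.1
  have hψ2 : ℛ.p.IsHomLift (𝟙 U) ψ.1.hom.snd :=
    Groth.Agent.Lib.Helper31.fp_snd_isHomLift f g (𝟙 U) ψ.1
  have hsnd : φ.1.hom.snd = ψ.1.hom.snd := by
    have hthin := hℛ.2 U
    have := Subsingleton.elim (Functor.Fiber.homMk ℛ.p U φ.1.hom.snd)
      (Functor.Fiber.homMk ℛ.p U ψ.1.hom.snd)
    exact congrArg (Functor.Fiber.fiberInclusion.map) this
  have hfst : φ.1.hom.fst = ψ.1.hom.fst := by
    apply f.toFunctor.map_injective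
    have h1 := φ.1.hom.w
    have h2 := ψ.1.hom.w
    rw [hsnd] at h1
    rw [← cancel_mono b.1.obj.iso.hom]
    exact h1.trans h2.symm
  apply Functor.Fiber.hom_ext
  apply ObjectProperty.hom_ext
  apply Limits.CategoricalPullback.hom_ext
  · exact hfst
  · exact hsnd

end Groth.Agent.S12800
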