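import Groth.Statements.S12762
import Groth.Agent.Lib.Helper66.SmBoot10
import Groth.Agent.Lib.Helper65.StUniv
import Groth.Agent.Lib.Helper65.FpSwap
import Groth.Agent.S12776
import Groth.Agent.S12763
import Groth.Agent.S12800

set_option autoImplicit false
open CategoryTheory AlgebraicGeometry
universe u
open AlgSt

namespace Groth.Agent.S12762

/-- (2) ⇔ (3): a 1-morphism `f : 𝒳 ⟶ 𝒴` of algebraic stacks over `S` is faithful (equivalently, faithful
on every fibre category) if and only if it is representable by algebraic spaces. -/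
theorem result {S : Scheme.{u}} {𝒳 𝒴 : AlgSt.Cat S}
    (h𝒳 : AlgSt.IsAlgStack Scheme.fppfPrecoverage 𝒳) (h𝒴 : AlgSt.IsAlgStack Scheme.fppfPrecoverage 𝒴) (f : 𝒳 ⥤ᵇ 𝒴) :
    f.toFunctor.Faithful ↔ AlgSt.RepByAlgSp1 f := by
  constructor
  · intro hfaith U y
    have halg : AlgSt.IsAlgStack Scheme.fppfPrecoverage (FibCat.fp y f) :=
      Groth.Agent.S12763.result h𝒴.isStack h𝒴.diag
        (Groth.Agent.Lib.Helper65.isAlgStack_overCat U) h𝒳 y f
    have hU : FibCat.IsFibSetoid (FibCat.overCat U).p :=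
      Groth.Agent.Lib.Helper65.isFibSetoid_of_equivOver (AlgSt.toOverCat U)
        (Groth.Agent.Lib.Helper65.toOverCat_isEquivOver U)
        (Groth.Agent.Lib.Helper65.isFibSetoid_ofPsh _)
    have h1 : FibCat.IsFibSetoid (FibCat.fp f y).p :=
      Groth.Agent.S12800.result h𝒴.isStack.1 h𝒳.isStack.1 hU f y
    have h2 : FibCat.IsFibSetoid (FibCat.fp y f).p :=
      Groth.Agent.Lib.Helper65.isFibSetoid_of_equivOver (Groth.Agent.Lib.Helper65.fpSwap f y)
        (Groth.Agent.Lib.Helper65.fpSwap_isEquivOver f y) h1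
    exact Groth.Agent.Lib.Helper66.SmBoot.repByAlgSp_of_isAlgStack_of_isFibSetoid halg h2
  · intro hf
    exact Groth.Agent.S12776.result h𝒳.isStack.1 h𝒴.isStack.1 f hf

end Groth.Agent.S12762
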