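import Groth.Statements.S1877
import Groth.Agent.Lib.Helper37.GrpdRingThm
import Groth.Agent.Lib.Helper37.GroupoidRank
import Mathlib.Algebra.Category.Ring.Epi

set_option autoImplicit false
set_option linter.style.haveILetI false
universe u
open CategoryTheory CategoryTheory.Limits AlgebraicGeometry
open Grpd

namespace Groth.Agent.S1877
open Groth.Agent.Lib.Helper37 TensorProduct


/-- Let (U, R, s, t, c) be a groupoid scheme over S with U and R affine, s and t finite locally free,
and j = (t, s) : R → U ×_S U a monomorphism (so an equivalence relation). Then U → M = Spec C is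
finite locally free and (t, s) identifies R with U ×_M U. (The source's final clause, that M is the
fppf quotient sheaf U/R, is not restated.) (A groupoid scheme carries U, R, s, t, c, e, i over S
with the groupoid axioms on T-points; 'finite locally free' is finite, flat and locally of finite
presentation; C ⊂ Γ(U) is the ring of functions a with s♯(a) = t♯(a) and M = Spec C.) -/
theorem result (S : Scheme.{u}) (G : Grpd.GroupoidScheme S) [IsAffine G.U] [IsAffine G.R] [IsFinite G.s] [Flat G.s] [LocallyOfFinitePresentation G.s] [IsFinite G.t] [Flat G.t] [LocallyOfFinitePresentation G.t] [Mono G.j] : (IsFinite G.toQuot ∧ Flat G.toQuot ∧ LocallyOfFinitePresentation G.toQuot) ∧ ∃ φ : G.R ≅ pullback G.toQuot G.toQuot, φ.hom ≫ pullback.fst G.toQuot G.toQuot = G.t ∧ φ.hom ≫ pullback.snd G.toQuot G.toQuot = G.s := by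
  letI algAB : Algebra Γ(G.U, ⊤) Γ(G.R, ⊤) := G.s.appTop.hom.toAlgebra
  have hfin : Module.Finite Γ(G.U, ⊤) Γ(G.R, ⊤) := G.s.finite_appTop
  have hflat : Module.Flat Γ(G.U, ⊤) Γ(G.R, ⊤) :=
    (HasRingHomProperty.iff_of_isAffine (P := @Flat) (f := G.s)).mp inferInstance
  have hfp : Algebra.FinitePresentation Γ(G.U, ⊤) Γ(G.R, ⊤) :=
    (HasRingHomProperty.iff_of_isAffine (P := @LocallyOfFinitePresentation) (f := G.s)).mp
      inferInstance
  have hmfp : Module.FinitePresentation Γ(G.U, ⊤) Γ(G.R, ⊤) :=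
    Module.FinitePresentation.of_finite_of_finitePresentation _ _
  have hproj : Module.Projective Γ(G.U, ⊤) Γ(G.R, ⊤) :=
    Module.Flat.projective_of_finitePresentation
  let D : RData Γ(G.U, ⊤) Γ(G.R, ⊤) Γ(pullback G.s G.t, ⊤) :=
    { τ := G.t.appTop.hom
      e := G.e.appTop.hom
      c := G.c.appTop.hom
      p₁ := (pullback.fst G.s G.t).appTop.hom
      p₂ := (pullback.snd G.s G.t).appTop.hom
      hes := fun a => by
        change G.e.appTop.hom (G.s.appTop.hom a) = a
        rw [← appTop_comp_apply', G.e_s, Scheme.Hom.id_appTop]; rfl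
      het := fun a => by
        rw [← appTop_comp_apply', G.e_t, Scheme.Hom.id_appTop]; rfl
      hps := (isPushout_appTop_of_isPullback (isPullback_c_snd G)).flip
      hpt := (isPushout_appTop_of_isPullback (IsPullback.of_hasPullback G.s G.t)).flip
      hct := fun a => by
        rw [← appTop_comp_apply', c_t, appTop_comp_apply'] }
  have hinj : Function.Injective (algebraMap G.invariants Γ(G.U, ⊤)) := Subtype.val_injective
  have hinv : ∀ a, algebraMap Γ(G.U, ⊤) Γ(G.R, ⊤) a = D.τ a ↔
      a ∈ Set.range (algebraMap G.invariants Γ(G.U, ⊤)) := by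
    intro a
    constructor
    · intro ha
      exact ⟨⟨a, ha⟩, rfl⟩
    · rintro ⟨z, rfl⟩
      exact z.2
  letI algCB : Algebra G.invariants Γ(G.R, ⊤) :=
    ((algebraMap Γ(G.U, ⊤) Γ(G.R, ⊤)).comp (algebraMap G.invariants Γ(G.U, ⊤))).toAlgebra
  haveI : IsScalarTower G.invariants Γ(G.U, ⊤) Γ(G.R, ⊤) :=
    IsScalarTower.of_algebraMap_eq fun _ => rfl
  let τa : Γ(G.U, ⊤) →ₐ[G.invariants] Γ(G.R, ⊤) :=
    { G.t.appTop.hom with commutes' := fun z => z.2.symm }
  let ψ : Γ(G.U, ⊤) ⊗[G.invariants] Γ(G.U, ⊤) →ₐ[G.invariants] Γ(G.R, ⊤) :=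
    Algebra.TensorProduct.lift (IsScalarTower.toAlgHom G.invariants Γ(G.U, ⊤) Γ(G.R, ⊤)) τa
      (fun _ _ => Commute.all _ _)
  have hψ : ∀ a a', ψ.toRingHom (a ⊗ₜ a') = algebraMap Γ(G.U, ⊤) Γ(G.R, ⊤) a * D.τ a' := by
    intro a a'
    simp [ψ, τa, D]
  have hσψ : G.s.appTop = CommRingCat.ofHom (Algebra.TensorProduct.includeLeftRingHom :
      Γ(G.U, ⊤) →+* Γ(G.U, ⊤) ⊗[G.invariants] Γ(G.U, ⊤)) ≫ CommRingCat.ofHom ψ.toRingHom := by
    ext a
    have := hψ a 1
    rw [map_one, mul_one] at this
    exact this.symm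
  have hτψ : G.t.appTop = CommRingCat.ofHom (Algebra.TensorProduct.includeRight :
      Γ(G.U, ⊤) →ₐ[G.invariants] Γ(G.U, ⊤) ⊗[G.invariants] Γ(G.U, ⊤)).toRingHom ≫
      CommRingCat.ofHom ψ.toRingHom := by
    ext a
    have := hψ 1 a
    rw [map_one, one_mul] at this
    exact this.symm
  have hψs : Function.Surjective ψ.toRingHom := by
    haveI hepi : Epi (CommRingCat.ofHom ψ.toRingHom) := by
      refine ⟨fun {Z} g h hgh => ?_⟩
      have hσ : G.s.appTop ≫ g = G.s.appTop ≫ h := by
        rw [hσψ, Category.assoc, hgh, ← Category.assoc]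
      have hτ : G.t.appTop ≫ g = G.t.appTop ≫ h := by
        rw [hτψ, Category.assoc, hgh, ← Category.assoc]
      have hαβ : (Spec.map g ≫ G.R.isoSpec.inv) ≫ G.j = (Spec.map h ≫ G.R.isoSpec.inv) ≫ G.j := by
        apply pullback.hom_ext
        · simp only [Category.assoc, GroupoidScheme.j, pullback.lift_fst]
          rw [← Scheme.isoSpec_inv_naturality, ← Category.assoc, ← Category.assoc,
            ← Spec.map_comp, ← Spec.map_comp, hτ]
        · simp only [Category.assoc, GroupoidScheme.j, pullback.lift_snd]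
          rw [← Scheme.isoSpec_inv_naturality, ← Category.assoc, ← Category.assoc,
            ← Spec.map_comp, ← Spec.map_comp, hσ]
      have h1 := (cancel_mono G.j).mp hαβ
      have h2 : Spec.map g = Spec.map h := (cancel_mono G.R.isoSpec.inv).mp h1
      exact Spec.map_injective h2
    have hfinψ : RingHom.Finite (CommRingCat.ofHom ψ.toRingHom).hom := by
      refine RingHom.Finite.of_comp_finite (f := (Algebra.TensorProduct.includeLeftRingHom :
        Γ(G.U, ⊤) →+* Γ(G.U, ⊤) ⊗[G.invariants] Γ(G.U, ⊤))) ?_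
      have : (CommRingCat.ofHom ψ.toRingHom).hom.comp (Algebra.TensorProduct.includeLeftRingHom :
          Γ(G.U, ⊤) →+* Γ(G.U, ⊤) ⊗[G.invariants] Γ(G.U, ⊤)) =
          algebraMap Γ(G.U, ⊤) Γ(G.R, ⊤) := by
        ext a
        have := hψ a 1
        rw [map_one, mul_one] at this
        exact this
      rw [this]
      exact RingHom.finite_algebraMap.mpr hfin
    exact RingHom.surjective_of_epi_of_finite (CommRingCat.ofHom ψ.toRingHom) hfinψ
  obtain ⟨hCfin, hCflat, hCfp, hbij⟩ := D.ring_theorem hinj hinv ψ.toRingHom hψ hψs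
  refine ⟨⟨?_, ?_, ?_⟩, ?_⟩
  · rw [GroupoidScheme.toQuot, MorphismProperty.cancel_left_of_respectsIso @IsFinite,
      IsFinite.SpecMap_iff]
    exact RingHom.finite_algebraMap.mpr hCfin
  · rw [GroupoidScheme.toQuot, MorphismProperty.cancel_left_of_respectsIso @Flat,
      Flat.SpecMap_iff]
    exact RingHom.flat_algebraMap_iff.mpr hCflat
  · rw [GroupoidScheme.toQuot,
      MorphismProperty.cancel_left_of_respectsIso @LocallyOfFinitePresentation,
      LocallyOfFinitePresentation.SpecMap_iff]
    exact RingHom.finitePresentation_algebraMap.mpr hCfp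
  · have hpush : IsPushout (CommRingCat.ofHom (algebraMap G.invariants Γ(G.U, ⊤)))
        (CommRingCat.ofHom (algebraMap G.invariants Γ(G.U, ⊤))) G.s.appTop G.t.appTop := by
      refine (CommRingCat.isPushout_tensorProduct G.invariants Γ(G.U, ⊤) Γ(G.U, ⊤)).of_iso
        (Iso.refl _) (Iso.refl _) (Iso.refl _)
        (RingEquiv.ofBijective ψ.toRingHom hbij).toCommRingCatIso ?_ ?_ ?_ ?_
      · simp
      · simp
      · rw [Iso.refl_hom, Category.id_comp]
        exact hσψ.symm
      · rw [Iso.refl_hom, Category.id_comp]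
        exact hτψ.symm
    have hpb := (isPullback_SpecMap_of_isPushout _ _ _ _ hpush).flip
    have hpb' : IsPullback G.t G.s G.toQuot G.toQuot := by
      refine hpb.of_iso' G.R.isoSpec G.U.isoSpec G.U.isoSpec (Iso.refl _) ?_ ?_ ?_ ?_
      · exact Scheme.isoSpec_hom_naturality G.t
      · exact Scheme.isoSpec_hom_naturality G.s
      · rw [Iso.refl_hom, Category.comp_id]
        rfl
      · rw [Iso.refl_hom, Category.comp_id]
        rfl
    exact ⟨hpb'.isoPullback, hpb'.isoPullback_hom_fst, hpb'.isoPullback_hom_snd⟩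

end Groth.Agent.S1877
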