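import Groth.Statements.S1878
import Groth.Agent.Lib.Helper37.GroupoidOrbitAlg
import Mathlib.AlgebraicGeometry.PullbackCarrier
import Mathlib.AlgebraicGeometry.ResidueField
import Mathlib.FieldTheory.IsAlgClosed.AlgebraicClosure

set_option autoImplicit false
set_option linter.style.haveILetI false
universe u
open CategoryTheory CategoryTheory.Limits AlgebraicGeometry
open Grpd

namespace Groth.Agent.S1878
open Groth.Agent.Lib.Helper37

section helpers

variable {S : Scheme.{u}} (G : Grpd.GroupoidScheme S)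

lemma s_toQuot : G.s ≫ G.toQuot = G.t ≫ G.toQuot := by
  unfold GroupoidScheme.toQuot
  rw [← Category.assoc, ← Category.assoc, Scheme.toSpecΓ_naturality,
    Scheme.toSpecΓ_naturality, Category.assoc, Category.assoc, ← Spec.map_comp,
    ← Spec.map_comp]
  congr 2
  ext ⟨a, ha⟩
  exact ha

theorem lift_kpoint [IsAffine G.U] [IsAffine G.R] [IsFinite G.s] [Flat G.s]
    [LocallyOfFinitePresentation G.s] (k : Type u) [Field k] [IsAlgClosed k]
    (m : Spec (CommRingCat.of k) ⟶ Spec (CommRingCat.of G.invariants)) :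
    ∃ x : Spec (CommRingCat.of k) ⟶ G.U, x ≫ G.toQuot = m := by
  haveI := isIntegral_invariants G
  obtain ⟨ξ, hξ⟩ := exists_ringHom_extension_of_isIntegral (C := G.invariants)
    (A := Γ(G.U, ⊤)) Subtype.val_injective (Spec.preimage m).hom
  refine ⟨Spec.map (CommRingCat.ofHom ξ) ≫ G.U.isoSpec.inv, ?_⟩
  unfold GroupoidScheme.toQuot
  rw [Category.assoc, ← Category.assoc G.U.isoSpec.inv, ← Scheme.isoSpec_hom, Iso.inv_hom_id,
    Category.id_comp, ← Spec.map_comp, ← Spec.map_preimage m]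
  congr 1
  ext c
  exact RingHom.congr_fun hξ c

theorem kpoints_orbit [IsAffine G.U] [IsAffine G.R] [IsFinite G.s] [Flat G.s]
    [LocallyOfFinitePresentation G.s] (k : Type u) [Field k] [IsAlgClosed k]
    (x₀ x₁ : Spec (CommRingCat.of k) ⟶ G.U) (h : x₀ ≫ G.toQuot = x₁ ≫ G.toQuot) :
    ∃ r : Spec (CommRingCat.of k) ⟶ G.R, r ≫ G.t = x₀ ∧ r ≫ G.s = x₁ := by
  letI : Algebra Γ(G.U, ⊤) Γ(G.R, ⊤) := G.s.appTop.hom.toAlgebra
  have hfin : Module.Finite Γ(G.U, ⊤) Γ(G.R, ⊤) := G.s.finite_appTop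
  have hflat : Module.Flat Γ(G.U, ⊤) Γ(G.R, ⊤) :=
    (HasRingHomProperty.iff_of_isAffine (P := @Flat) (f := G.s)).mp inferInstance
  have hfp : Algebra.FinitePresentation Γ(G.U, ⊤) Γ(G.R, ⊤) :=
    (HasRingHomProperty.iff_of_isAffine (P := @LocallyOfFinitePresentation) (f := G.s)).mp
      inferInstance
  have hmfp : Module.FinitePresentation Γ(G.U, ⊤) Γ(G.R, ⊤) :=
    Module.FinitePresentation.of_finite_of_finitePresentation _ _
  have hproj : Module.Projective Γ(G.U, ⊤) Γ(G.R, ⊤) := Module.Flat.projective_of_finitePresentation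
  obtain ⟨n, r, i, -, -, hri⟩ :=
    Module.Finite.exists_comp_eq_id_of_projective Γ(G.U, ⊤) Γ(G.R, ⊤)
  have hr : ∀ x, r (i x) = x := fun x => LinearMap.congr_fun hri x
  have hes : ∀ a, G.e.appTop.hom (algebraMap Γ(G.U, ⊤) Γ(G.R, ⊤) a) = a := by
    intro a
    change G.e.appTop.hom (G.s.appTop.hom a) = a
    rw [← appTop_comp_apply', G.e_s, Scheme.Hom.id_appTop]; rfl
  have het : ∀ a, G.e.appTop.hom (G.t.appTop.hom a) = a := by
    intro a
    rw [← appTop_comp_apply', G.e_t, Scheme.Hom.id_appTop]; rfl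
  have hpt := (isPushout_appTop_of_isPullback (IsPullback.of_hasPullback G.s G.t)).flip
  have hps := (isPushout_appTop_of_isPullback (isPullback_c_snd G)).flip
  have hct : ∀ a, G.c.appTop.hom (G.t.appTop.hom a) =
      (pullback.fst G.s G.t).appTop.hom (G.t.appTop.hom a) := by
    intro a
    rw [← appTop_comp_apply', c_t, appTop_comp_apply']
  have hφ₀ : Spec.map (Spec.preimage (x₀ ≫ G.U.toSpecΓ)) = x₀ ≫ G.U.toSpecΓ := Spec.map_preimage _
  have hφ₁ : Spec.map (Spec.preimage (x₁ ≫ G.U.toSpecΓ)) = x₁ ≫ G.U.toSpecΓ := Spec.map_preimage _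
  have hagree : ∀ a, algebraMap Γ(G.U, ⊤) Γ(G.R, ⊤) a = G.t.appTop.hom a →
      (Spec.preimage (x₀ ≫ G.U.toSpecΓ)).hom a = (Spec.preimage (x₁ ≫ G.U.toSpecΓ)).hom a := by
    intro a ha
    unfold GroupoidScheme.toQuot at h
    rw [← Category.assoc, ← Category.assoc, ← hφ₀, ← hφ₁, ← Spec.map_comp, ← Spec.map_comp] at h
    have h2 := Spec.map_injective h
    have h3 := congrArg (fun f => f.hom (⟨a, ha⟩ : G.invariants)) h2
    exact h3
  obtain ⟨ρ, hρt, hρs⟩ := exists_hom_of_agree G.t.appTop.hom G.e.appTop.hom hes het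
    G.c.appTop.hom (pullback.fst G.s G.t).appTop.hom (pullback.snd G.s G.t).appTop.hom hps hpt hct
    i r hr (Spec.preimage (x₀ ≫ G.U.toSpecΓ)).hom (Spec.preimage (x₁ ≫ G.U.toSpecΓ)).hom hagree
  refine ⟨Spec.map (CommRingCat.ofHom ρ) ≫ G.R.isoSpec.inv, ?_, ?_⟩
  · rw [Category.assoc, ← Scheme.isoSpec_inv_naturality, ← Category.assoc, ← Spec.map_comp]
    have : G.t.appTop ≫ CommRingCat.ofHom ρ = Spec.preimage (x₀ ≫ G.U.toSpecΓ) := by
      ext a
      exact RingHom.congr_fun hρt a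
    rw [this, hφ₀, Category.assoc, Scheme.toSpecΓ_isoSpec_inv, Category.comp_id]
  · rw [Category.assoc, ← Scheme.isoSpec_inv_naturality, ← Category.assoc, ← Spec.map_comp]
    have : G.s.appTop ≫ CommRingCat.ofHom ρ = Spec.preimage (x₁ ≫ G.U.toSpecΓ) := by
      ext a
      exact RingHom.congr_fun hρs a
    rw [this, hφ₁, Category.assoc, Scheme.toSpecΓ_isoSpec_inv, Category.comp_id]

/-- A geometric point above a given point of a scheme. -/
theorem exists_geometric_point {X : Scheme.{u}} (x : X) :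
    ∃ (k : Type u) (_ : Field k) (_ : IsAlgClosed k) (y : Spec (CommRingCat.of k) ⟶ X),
      ∀ pt : Spec (CommRingCat.of k), y pt = x := by
  refine ⟨AlgebraicClosure (X.residueField x), inferInstance, inferInstance,
    Spec.map (CommRingCat.ofHom (algebraMap (X.residueField x)
      (AlgebraicClosure (X.residueField x)))) ≫ X.fromSpecResidueField x, fun pt => ?_⟩
  rw [Scheme.Hom.comp_apply, Scheme.fromSpecResidueField_apply]

theorem points_part [IsAffine G.U] [IsAffine G.R] [IsFinite G.s] [Flat G.s]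
    [LocallyOfFinitePresentation G.s] :
    Function.Surjective G.toQuot ∧ ∀ u₀ u₁ : G.U, G.toQuot u₀ = G.toQuot u₁ ↔
      ∃ r : G.R, G.t r = u₀ ∧ G.s r = u₁ := by
  refine ⟨fun m => ?_, fun u₀ u₁ => ⟨fun h => ?_, ?_⟩⟩
  · obtain ⟨k, _, _, y, hy⟩ := exists_geometric_point m
    obtain ⟨x, hx⟩ := lift_kpoint G k y
    have pt : ↥(Spec (CommRingCat.of k)) := IsLocalRing.closedPoint k
    refine ⟨x pt, ?_⟩
    rw [← Scheme.Hom.comp_apply, hx, hy]
  · obtain ⟨z, hz0, hz1⟩ := Scheme.Pullback.exists_preimage_pullback (f := G.toQuot)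
      (g := G.toQuot) u₀ u₁ h
    obtain ⟨k, _, _, y, hy⟩ := exists_geometric_point z
    obtain ⟨r, hrt, hrs⟩ := kpoints_orbit G k (y ≫ pullback.fst _ _) (y ≫ pullback.snd _ _)
      (by rw [Category.assoc, Category.assoc, pullback.condition])
    have pt : ↥(Spec (CommRingCat.of k)) := IsLocalRing.closedPoint k
    refine ⟨r pt, ?_, ?_⟩
    · rw [← Scheme.Hom.comp_apply, hrt, Scheme.Hom.comp_apply, hy, hz0]
    · rw [← Scheme.Hom.comp_apply, hrs, Scheme.Hom.comp_apply, hy, hz1]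
  · rintro ⟨r, rfl, rfl⟩
    rw [← Scheme.Hom.comp_apply, ← Scheme.Hom.comp_apply, s_toQuot]

end helpers

/-- Let (U, R, s, t, c) be a groupoid scheme over S with U, R affine and s, t finite locally free, and M
= Spec C. (1) U → M is surjective and two points of U have the same image iff some point of R has
them as target and source. (2) For every algebraically closed field k, M(k) = U(k)/R(k): every
k-point of M lifts to U, and two k-points of U agree in M iff they are the target and source of a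
k-point of R. (A groupoid scheme carries U, R, s, t, c, e, i over S with the groupoid axioms on
T-points; 'finite locally free' is finite, flat and locally of finite presentation; C ⊂ Γ(U) is the
ring of functions a with s♯(a) = t♯(a) and M = Spec C.) -/
theorem result (S : Scheme.{u}) (G : Grpd.GroupoidScheme S) [IsAffine G.U] [IsAffine G.R] [IsFinite G.s] [Flat G.s] [LocallyOfFinitePresentation G.s] [IsFinite G.t] [Flat G.t] [LocallyOfFinitePresentation G.t] : (Function.Surjective G.toQuot ∧ ∀ u₀ u₁ : G.U, G.toQuot u₀ = G.toQuot u₁ ↔ ∃ r : G.R, G.t r = u₀ ∧ G.s r = u₁) ∧ ∀ (k : Type u) [Field k] [IsAlgClosed k], (∀ m : Spec (CommRingCat.of k) ⟶ Spec (CommRingCat.of G.invariants), ∃ x : Spec (CommRingCat.of k) ⟶ G.U, x ≫ G.toQuot = m) ∧ ∀ x₀ x₁ : Spec (CommRingCat.of k) ⟶ G.U, x₀ ≫ G.toQuot = x₁ ≫ G.toQuot ↔ ∃ r : Spec (CommRingCat.of k) ⟶ G.R, r ≫ G.t = x₀ ∧ r ≫ G.s = x₁ := by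
  refine ⟨points_part G, fun k _ _ => ⟨lift_kpoint G k, fun x₀ x₁ => ⟨kpoints_orbit G k x₀ x₁, ?_⟩⟩⟩
  rintro ⟨r, rfl, rfl⟩
  rw [Category.assoc, Category.assoc, s_toQuot]

end Groth.Agent.S1878
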