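import Groth.Statements.S7488
import Groth.Agent.S1877
import Groth.Agent.Lib.Helper26.QuotRep
import Groth.Agent.Lib.Helper37.GroupoidIntegral
import Mathlib.RingTheory.Flat.FaithfullyFlat.Algebra

set_option autoImplicit false
set_option linter.style.haveILetI false
universe u
open CategoryTheory CategoryTheory.Limits AlgebraicGeometry
open Grpd

namespace Groth.Agent.S7488

/-- Let (U, R, s, t, c) be a groupoid scheme over S with U and R affine, s and t finite locally free,
and j = (t, s) : R -> U x_S U a monomorphism. Let C be the ring of R-invariant functions on U and M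
= Spec C. Then the structure morphism U -> S factors uniquely through U -> M, and for the resulting
structure of scheme over S on M, the morphism U -> M represents the quotient sheaf U/R in the fppf
topology: it coequalizes s and t and the induced map from the coequalizer of h_R => h_U (sheaves of
sets on the big fppf site of S) to h_M is an isomorphism. (The published statement also asserts that
U -> M is finite locally free and that R = U x_M U; this row states only the quotient-sheaf clause.)
(A groupoid scheme carries U, R, s, t, c, e, i over S with the groupoid axioms on T-points; c is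
defined on the fibre product of s and t and sends a pair (a, b) with s(a) = t(b) to a composed with
b.) -/
theorem result (S : Scheme.{u}) (G : Grpd.GroupoidScheme S) [IsAffine G.U] [IsAffine G.R] [IsFinite G.s] [Flat G.s] [LocallyOfFinitePresentation G.s] [IsFinite G.t] [Flat G.t] [LocallyOfFinitePresentation G.t] [Mono G.j] : ∃! m : Spec (CommRingCat.of G.invariants) ⟶ S, ∃ h : G.toQuot ≫ m = G.pU, QuotSh.IsQuotient Scheme.fppfPrecoverage (Over.homMk G.s G.s_over : Over.mk G.pR ⟶ Over.mk G.pU) (Over.homMk G.t G.t_over : Over.mk G.pR ⟶ Over.mk G.pU) (Over.homMk G.toQuot h : Over.mk G.pU ⟶ Over.mk m) := by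
  obtain ⟨⟨hfinite, hflat, hlfp⟩, φ, hφ1, hφ2⟩ := Groth.Agent.S1877.result S G
  haveI := hflat
  haveI := hlfp
  have hw : G.t ≫ G.toQuot = G.s ≫ G.toQuot := by
    rw [← hφ1, ← hφ2, Category.assoc, Category.assoc, pullback.condition]
  have hpb : IsPullback G.t G.s G.toQuot G.toQuot := IsPullback.of_iso_pullback ⟨hw⟩ φ hφ1 hφ2
  haveI hsurj : Surjective G.toQuot := by
    have hfl : Module.Flat G.invariants Γ(G.U, ⊤) := by
      rw [GroupoidScheme.toQuot, MorphismProperty.cancel_left_of_respectsIso @Flat,
        Flat.SpecMap_iff] at hflat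
      exact RingHom.flat_algebraMap_iff.mp hflat
    haveI := Groth.Agent.Lib.Helper37.isIntegral_invariants G
    haveI : FaithfulSMul G.invariants Γ(G.U, ⊤) :=
      (faithfulSMul_iff_algebraMap_injective _ _).mpr Subtype.val_injective
    have hff : Module.FaithfullyFlat G.invariants Γ(G.U, ⊤) :=
      Module.FaithfullyFlat.of_comap_surjective
        (Algebra.IsIntegral.comap_surjective G.invariants Γ(G.U, ⊤))
    have h2 : Surjective (Spec.map (CommRingCat.ofHom G.invariants.subtype)) :=
      ((flat_and_surjective_SpecMap_iff _).mpr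
        ((RingHom.faithfullyFlat_algebraMap_iff).mpr hff)).2
    rw [GroupoidScheme.toQuot]
    infer_instance
  have hsh := (GrothendieckTopology.Subcanonical.isSheaf_of_isRepresentable
    (J := Scheme.fppfTopology) (yoneda.obj S)).isSheafFor _
    (Precoverage.generate_mem_toGrothendieck G.toQuot.singleton_mem_fppfPrecoverage)
  rw [Presieve.isSheafFor_singleton] at hsh
  obtain ⟨m, hm, hmu⟩ := hsh G.pU (by
    intro Z p₁ p₂ h
    obtain ⟨r, hr1, hr2⟩ := hpb.exists_lift p₁ p₂ h
    change p₁ ≫ G.pU = p₂ ≫ G.pU
    rw [← hr1, ← hr2, Category.assoc, Category.assoc, G.t_over, G.s_over])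
  have hm' : G.toQuot ≫ m = G.pU := hm
  refine ⟨m, ⟨hm', ?_⟩, ?_⟩
  · refine Groth.Agent.Lib.Helper26.QuotRep.isQuotient_of_isKernelPair _ _ _ _ ?_
      G.toQuot.singleton_mem_fppfPrecoverage
    refine IsPullback.of_map (Over.forget S) (by ext; exact hw.symm) ?_
    exact hpb.flip
  · rintro m' ⟨h', -⟩
    exact hmu m' h'

end Groth.Agent.S7488
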