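import Groth.Statements.S1341
import Groth.Agent.Lib.Helper13.CMChart
import Groth.Agent.S4961
import Groth.Agent.Lib.Helper24.CMEtaleField
import Groth.Agent.Lib.Helper55.FlatDim

set_option autoImplicit false
universe u
open FlatMor

namespace Groth.Agent.S1341

open AlgebraicGeometry CategoryTheory Limits in
/-- Let f : X ⟶ S be flat and locally of finite presentation. Then the set of points of X at which f is
Cohen–Macaulay is open in X, and its intersection with every fibre of f is dense in that fibre. -/
theorem result {X S : Scheme.{u}} (f : X ⟶ S) [Flat f] [LocallyOfFinitePresentation f] :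
    IsOpen {x : ↑X | MoreMor.IsCMAt f x} ∧ ∀ s : S, Dense ((f.fiberι s) ⁻¹' {x : ↑X | MoreMor.IsCMAt f x}) := by
  refine ⟨Groth.Agent.S4961.result f, fun s => ?_⟩
  have hpb : IsPullback (f.fiberι s) (f.fiberToSpecResidueField s) f (S.fromSpecResidueField s) :=
    IsPullback.of_hasPullback _ _
  have hset := Groth.Agent.S1342.result f (f.fiberToSpecResidueField s) (f.fiberι s)
    (S.fromSpecResidueField s) hpb
  rw [← hset]
  haveI hfp : LocallyOfFinitePresentation (f.fiberToSpecResidueField s) :=
    MorphismProperty.pullback_snd (P := @LocallyOfFinitePresentation) _ _ inferInstance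
  haveI hN : IsLocallyNoetherian (f.fiber s) :=
    Groth.Agent.Lib.Helper13.CMChart.isLocallyNoetherian_fiber f s
  rw [dense_iff_inter_open]
  rintro W hW ⟨z, hz⟩
  have hT := irreducibleComponent_mem_irreducibleComponents z
  have hqs : QuasiSober ↥(f.fiber s) := inferInstance
  obtain ⟨ξ, hξ⟩ := hqs.sober hT.1 (isClosed_of_mem_irreducibleComponents _ hT)
  have hspec : ξ ⤳ z := by
    rw [specializes_iff_mem_closure, hξ.def]
    exact mem_irreducibleComponent
  refine ⟨ξ, hspec.mem_open hW hz, ?_⟩
  change MoreMor.IsCMAt (f.fiberToSpecResidueField s) ξ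
  have hm : IsLocalRing.maximalIdeal ↑((Spec (S.residueField s)).presheaf.stalk
      ((f.fiberToSpecResidueField s) ξ)) = ⊥ :=
    Groth.Agent.Lib.Helper24.maximalIdeal_stalk_Spec_field_eq_bot
      (k := ↑(S.residueField s)) _
  rw [Groth.Agent.Lib.Helper24.isCMAt_iff_of_maximalIdeal_eq_bot _ ξ hm]
  have hdim0 := Groth.Agent.Lib.Helper55.ringKrullDim_stalk_eq_zero_of_closure_mem_irreducibleComponents
    ξ (by rw [hξ.def]; exact hT)
  have hdim : Ring.KrullDimLE 0 ((f.fiber s).presheaf.stalk ξ) := by
    rw [Ring.krullDimLE_iff, hdim0]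
    rfl
  have hA : IsArtinianRing ((f.fiber s).presheaf.stalk ξ) :=
    isArtinianRing_iff_isNoetherianRing_krullDimLE_zero.mpr ⟨inferInstance, hdim⟩
  exact Groth.Agent.Lib.Helper73.CMFibre.isCohenMacaulayLocalRing_of_isArtinianRing _

end Groth.Agent.S1341
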