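import Groth.Statements.S1936
import Groth.Agent.S1341
import Groth.Agent.S1342
import Groth.Agent.S4961
import Groth.Agent.Lib.Helper70.GrpdSmA
import Groth.Agent.H46.CMAt

set_option autoImplicit false
universe u
open CategoryTheory CategoryTheory.Limits AlgebraicGeometry
open Grpd

namespace Groth.Agent.S1936

/-- Let (U, R, s, t, c) be a groupoid scheme over S with s, t flat and locally of finite presentation.
There is an open U' ⊆ U such that t⁻¹(U') is exactly the set of points of R at which s is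
Cohen–Macaulay, s⁻¹(U') is exactly the set of points at which t is Cohen–Macaulay, and both t
restricted to s⁻¹(U') and s restricted to t⁻¹(U') are surjective onto U. (Part (5), that the
restriction of R to U' is a groupoid with Cohen–Macaulay s', t', then follows and is not restated.)
Cohen–Macaulay at a point: flat there with Cohen–Macaulay fibre local ring (Grpd.IsCMAt). (A
groupoid scheme carries U, R, s, t, c, e, i over S with the groupoid axioms on T-points; 'finite
locally free' is finite, flat and locally of finite presentation; C ⊂ Γ(U) is the ring of functions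
a with s♯(a) = t♯(a) and M = Spec C.) -/
theorem result (S : Scheme.{u}) (G : Grpd.GroupoidScheme S) [Flat G.s] [LocallyOfFinitePresentation G.s] [Flat G.t] [LocallyOfFinitePresentation G.t] : ∃ U' : G.U.Opens, (G.t ⁻¹ᵁ U' : Set G.R) = {r | Grpd.IsCMAt G.s r} ∧ (G.s ⁻¹ᵁ U' : Set G.R) = {r | Grpd.IsCMAt G.t r} ∧ ⇑G.t '' (G.s ⁻¹ᵁ U' : Set G.R) = Set.univ ∧ ⇑G.s '' (G.t ⁻¹ᵁ U' : Set G.R) = Set.univ := by
  classical
  -- bridge between the two notions of Cohen–Macaulay at a point
  have hbr : ∀ {X Y : Scheme.{u}} (f : X ⟶ Y) (x : X), Grpd.IsCMAt f x ↔ MoreMor.IsCMAt f x :=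
    fun f x => (Groth.Agent.H46.CMAt.isCMAt_iff f x).symm
  have hsetS : {r : G.R | Grpd.IsCMAt G.s r} = {r : G.R | MoreMor.IsCMAt G.s r} := by
    ext r; exact hbr G.s r
  have hsetT : {r : G.R | Grpd.IsCMAt G.t r} = {r : G.R | MoreMor.IsCMAt G.t r} := by
    ext r; exact hbr G.t r
  rw [hsetS, hsetT]
  have hWs_open : IsOpen {r : G.R | MoreMor.IsCMAt G.s r} := Groth.Agent.S4961.result G.s
  -- key: pr₀⁻¹(Ws) = c⁻¹(Ws)
  have h1 := Groth.Agent.S1342.result G.s (pullback.snd G.s G.t) (pullback.fst G.s G.t) G.t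
    (IsPullback.of_hasPullback G.s G.t)
  have h2 := Groth.Agent.S1342.result G.s (pullback.snd G.s G.t) G.c G.s
    (Groth.Agent.Lib.Helper70.GrpdSmA.isPullback_c G)
  have h12 : (pullback.fst G.s G.t) ⁻¹' {r : G.R | MoreMor.IsCMAt G.s r} =
      G.c ⁻¹' {r : G.R | MoreMor.IsCMAt G.s r} := h1.symm.trans h2
  have hsat : ∀ r w : G.R, G.t r = G.t w → MoreMor.IsCMAt G.s r → MoreMor.IsCMAt G.s w := by
    intro r w h hr
    obtain ⟨z, hz1, hz2⟩ := Groth.Agent.Lib.Helper70.GrpdSmA.exists_point G r w h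
    have hz : z ∈ (pullback.fst G.s G.t) ⁻¹' {r : G.R | MoreMor.IsCMAt G.s r} := by
      show MoreMor.IsCMAt G.s (pullback.fst G.s G.t z)
      rw [hz1]; exact hr
    rw [h12] at hz
    have hz' : MoreMor.IsCMAt G.s (G.c z) := hz
    rwa [hz2] at hz'
  have hopen : IsOpenMap G.t := G.t.isOpenMap
  let U' : G.U.Opens := ⟨G.t '' {r : G.R | MoreMor.IsCMAt G.s r}, hopen _ hWs_open⟩
  have hU' : (G.t ⁻¹ᵁ U' : Set G.R) = {r : G.R | MoreMor.IsCMAt G.s r} := by
    ext w
    constructor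
    · rintro ⟨r, hr, hrw⟩
      exact hsat r w hrw hr
    · intro hw
      exact ⟨w, hw, rfl⟩
  -- the CM locus of t is the preimage under i of the CM locus of s
  have hsq : IsPullback G.i G.t G.s (𝟙 G.U) :=
    IsPullback.of_horiz_isIso ⟨by rw [G.i_s, Category.comp_id]⟩
  have h3 := Groth.Agent.S1342.result G.s G.t G.i (𝟙 G.U) hsq
  have hsU' : (G.s ⁻¹ᵁ U' : Set G.R) = {r : G.R | MoreMor.IsCMAt G.t r} := by
    rw [h3, ← hU']
    ext r
    show G.s r ∈ U' ↔ G.t (G.i r) ∈ U'
    rw [← Scheme.Hom.comp_apply, G.i_t]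
  -- every fibre of a flat lfp morphism contains a CM point
  have hfib : ∀ {X Y : Scheme.{u}} (f : X ⟶ Y) [Flat f] [LocallyOfFinitePresentation f] (x₀ : X),
      ∃ r : X, MoreMor.IsCMAt f r ∧ f r = f x₀ := by
    intro X Y f _ _ x₀
    have hd := (Groth.Agent.S1341.result f).2 (f x₀)
    haveI : Nonempty ↥(f.fiber (f x₀)) := ⟨f.asFiber x₀⟩
    obtain ⟨y, hy⟩ := hd.nonempty
    refine ⟨f.fiberι (f x₀) y, hy, ?_⟩
    have : f.fiberι (f x₀) y ∈ Set.range (f.fiberι (f x₀)) := ⟨y, rfl⟩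
    rw [f.range_fiberι] at this
    exact this
  refine ⟨U', hU', hsU', ?_, ?_⟩
  · rw [hsU']
    apply Set.eq_univ_of_forall
    intro u
    obtain ⟨r, hr, hru⟩ := hfib G.t (G.e u)
    refine ⟨r, hr, ?_⟩
    rw [hru, ← Scheme.Hom.comp_apply, G.e_t]
    rfl
  · rw [hU']
    apply Set.eq_univ_of_forall
    intro u
    obtain ⟨r, hr, hru⟩ := hfib G.s (G.e u)
    refine ⟨r, hr, ?_⟩
    rw [hru, ← Scheme.Hom.comp_apply, G.e_s]
    rfl

end Groth.Agent.S1936
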