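import Groth.Statements.S10104
import Groth.Agent.S10103
import Groth.Agent.Lib.Helper66.FppfBoot1

set_option autoImplicit false
universe u
open CategoryTheory CategoryTheory.Limits AlgebraicGeometry
open AlgSp

namespace Groth.Agent.S10104

/-- Let `F` be an fppf sheaf of sets over `S` admitting a map `U ⟶ F` from an algebraic space `U`, where
the map is representable by algebraic spaces and is flat, surjective and locally of finite
presentation. It follows that `F` is an algebraic space over `S`. (The published statement lists
further sufficient conditions, namely `U` a scheme, or the diagonal of `F` representable by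
algebraic spaces with `U ⟶ F` surjective, flat and locally of finite presentation, each of which
implies the hypotheses of this row.) -/
theorem result (S : Scheme.{u}) (F : AlgSp.Sp S) (U : AlgSp.Space S)
    (p : U.obj ⟶ F) (hp : AlgSp.RepBySpWith (AlgSp.IsSurjectiveMor ⊓ AlgSp.LocP @Flat ⊓ AlgSp.LocP @LocallyOfFinitePresentation) p.hom) :
    AlgSp.IsAlgSpace F := by
  have h103 : Groth.Agent.Lib.Helper66.FppfBoot.H103 S := fun s t h hs1 hs2 ht1 ht2 => Groth.Agent.S10103.result S s t h
  exact Groth.Agent.Lib.Helper66.FppfBoot.isAlgSpace_of_repBySpWith_fppf h103 U.property p hp

end Groth.Agent.S10104
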