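import Groth.Statements.S6404
import Groth.Agent.Lib.Helper31.FibCat

set_option autoImplicit false
open CategoryTheory
universe v u
open FibCat

namespace Groth.Agent.S6404

open Functor Groth.Agent.Lib.Helper31 in
/-- The inertia of a category fibred in groupoids over `C` is fibred in groupoids over `C`. -/
theorem result {C : Type u} [Category.{v} C] {𝒳 : BasedCategory.{v, max u v} C} (h𝒳 : FibCat.IsFibGrpd 𝒳.p) :
    FibCat.IsFibGrpd (FibCat.inertia (FibCat.toSelf 𝒳)).p := by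
  refine ⟨?_, ?_⟩
  · intro B V f₀
    obtain ⟨f, hf⟩ : ∃ f : V ⟶ 𝒳.p.obj B.pt, f = f₀ := ⟨f₀, rfl⟩
    obtain ⟨y, φ, hφ⟩ := h𝒳.exists_lift (x := B.pt) f
    have hφ' : 𝒳.p.IsStronglyCartesian f φ := isStronglyCartesian_of_isFibGrpd 𝒳.p h𝒳 f φ
    obtain ⟨A, Φ, hA, hΦ⟩ := inertia_exists_lift (FibCat.toSelf 𝒳) B f φ (by
      intro β hβ _
      have hy : 𝒳.p.obj y = V := IsHomLift.domain_eq 𝒳.p f φ
      subst hy
      have : 𝒳.p.map β = 𝟙 (𝒳.p.obj y) := (IsHomLift.eq_of_isHomLift 𝒳.p (𝟙 (𝒳.p.obj y)) β).symm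
      exact this)
    refine ⟨A, Φ, ?_⟩
    rw [← hf]
    exact (inertia_isHomLift_iff (FibCat.toSelf 𝒳) f Φ).mpr inferInstance
  · intro A B Φ
    have := h𝒳.isStronglyCartesian Φ.hom
    exact inertia_isStronglyCartesian (FibCat.toSelf 𝒳) (𝒳.p.map Φ.hom) Φ

end Groth.Agent.S6404
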