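import Groth.Statements.S9881
-- import your own Groth.Agent.* helpers here
import Groth.Agent.Lib.Helper51.AlgSpCoprodPullback

set_option autoImplicit false
universe u
open CategoryTheory CategoryTheory.Limits AlgebraicGeometry
open AlgSp

namespace Groth.Agent.S9881

/-- Let `F_i` be a family of algebraic spaces over `S` indexed by a type in the universe of `S`, so that
the coproduct of any chosen atlases exists as a scheme (this realizes the size condition of the
published statement). Then the coproduct `∐ F_i` in fppf sheaves of sets over `S` (any colimit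
cofan) is an algebraic space over `S`. -/
theorem result (S : Scheme.{u}) {ι : Type u} (F : ι → AlgSp.Sp S)
    (h : ∀ i, AlgSp.IsAlgSpace (F i)) (c : Cofan F) (hc : IsColimit c) : AlgSp.IsAlgSpace c.pt := by
  have vk := Groth.Agent.Lib.Helper51.isVanKampenColimit_sheaf_discrete (AlgSp.J S) c hc
  -- monomorphisms from open immersions
  have hmono : ∀ {A B : Over S} (g : A ⟶ B), IsOpenImmersion g.left → Mono g := by
    intro A B g hg
    have : Mono ((Over.forget S).map g) := by
      change Mono g.left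
      infer_instance
    exact (Over.forget S).mono_of_mono_map this
  have hopen : ∀ {T : Over S} {ψ : T ⟶ Groth.Agent.Lib.Helper51.idxOver ι S} {V : ι → Over S}
      {g : ∀ i, V i ⟶ T} {k : ∀ i, V i ⟶ Over.mk (𝟙 S)}
      (_ : ∀ i, IsPullback (g i) (k i) ψ
        (Groth.Agent.Lib.Helper51.sigmaOverι (fun _ : ι ↦ S) (fun _ ↦ 𝟙 S) i)) (i : ι),
      IsOpenImmersion (g i).left := by
    intro T ψ V g k h2 i
    have hpb : IsPullback (k i).left (g i).left (Sigma.ι (fun _ : ι ↦ S) i) ψ.left :=
      (h2 i).flip.map (Over.forget S)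
    exact MorphismProperty.of_isPullback hpb (inferInstanceAs (IsOpenImmersion (Sigma.ι _ i)))
  refine ⟨?_, ?_⟩
  · -- the diagonal
    apply Functor.relativelyRepresentable.diag_of_map_from_obj
    intro T ξ T' ξ'
    obtain ⟨ψ, V, g, k, fst, h1, h2⟩ := Groth.Agent.Lib.Helper51.exists_decomposition F c hc T ξ
    obtain ⟨ψ', V', g', k', fst', h1', h2'⟩ :=
      Groth.Agent.Lib.Helper51.exists_decomposition F c hc T' ξ'
    have : ∀ i, Mono (g i) := fun i ↦ hmono _ (hopen h2 i)
    have : ∀ i, Mono (g' i) := fun i ↦ hmono _ (hopen h2' i)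
    have hex : ∀ i, ∃ (W : Over S) (b : W ⟶ V' i) (a : W ⟶ V i),
        IsPullback ((AlgSp.yon S).map a) ((AlgSp.yon S).map b) (fst i) (fst' i) := by
      intro i
      obtain ⟨W, b, a', hW⟩ := Functor.relativelyRepresentable.of_diag (h i).diag (fst i) (fst' i)
      obtain ⟨a, rfl⟩ := (AlgSp.yon S).map_surjective a'
      exact ⟨W, b, a, hW⟩
    choose W b a hW using hex
    have := Groth.Agent.Lib.Helper51.isPullback_sigmaOverDesc F c hc ξ ξ' V V' g g' fst fst' h1 h1'
      (fun i ↦ (W i).left) (fun i ↦ (W i).hom) a b hW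
    exact ⟨_, _, _, this⟩
  · -- the atlas
    have hat : ∀ i, ∃ (U : Over S) (p : (AlgSp.yon S).obj U ⟶ F i),
        AlgSp.RepWith @Etale p ∧ AlgSp.RepWith @Surjective p := fun i ↦ (h i).atlas
    choose U p hpe hps using hat
    have hcU := Groth.Agent.Lib.Helper51.isColimitYonSigmaOver (fun i ↦ (U i).left)
      (fun i ↦ (U i).hom)
    let P : (AlgSp.yon S).obj (Groth.Agent.Lib.Helper51.sigmaOver (fun i ↦ (U i).left)
        (fun i ↦ (U i).hom)) ⟶ c.pt := Cofan.IsColimit.desc hcU (fun i ↦ p i ≫ c.inj i)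
    have hP : ∀ i, (AlgSp.yon S).map (Groth.Agent.Lib.Helper51.sigmaOverι (fun i ↦ (U i).left)
        (fun i ↦ (U i).hom) i) ≫ P = p i ≫ c.inj i := fun i ↦ Cofan.IsColimit.fac hcU _ i
    have hsqP : ∀ i, IsPullback (p i) ((AlgSp.yon S).map
        (Groth.Agent.Lib.Helper51.sigmaOverι (fun i ↦ (U i).left) (fun i ↦ (U i).hom) i))
        (c.inj i) P := by
      intro i
      exact ((vk _ (Discrete.natTrans fun i ↦ p i.as) P
        (by
          apply NatTrans.ext
          funext ⟨j⟩
          exact (hP j).symm)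
        (NatTrans.Equifibered.of_discrete _)).1 ⟨hcU⟩ ⟨i⟩).flip
    have : ∀ i, Mono (Groth.Agent.Lib.Helper51.sigmaOverι (fun i ↦ (U i).left)
        (fun i ↦ (U i).hom) i) := fun i ↦ inferInstance
    -- the base change of the atlas to a scheme
    have key : ∀ ⦃T : Over S⦄ (ξ : (AlgSp.yon S).obj T ⟶ c.pt), ∃ (W : Over S)
        (fstW : (AlgSp.yon S).obj W ⟶ (AlgSp.yon S).obj (Groth.Agent.Lib.Helper51.sigmaOver
          (fun i ↦ (U i).left) (fun i ↦ (U i).hom))) (snd : W ⟶ T)
        (_ : IsPullback fstW ((AlgSp.yon S).map snd) P ξ), Etale snd.left ∧ Surjective snd.left := by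
      intro T ξ
      obtain ⟨ψ, V, g, k, fst, h1, h2⟩ := Groth.Agent.Lib.Helper51.exists_decomposition F c hc T ξ
      have hgo : ∀ i, IsOpenImmersion (g i).left := hopen h2
      have : ∀ i, Mono (g i) := fun i ↦ hmono _ (hgo i)
      have hex : ∀ i, ∃ (W : Over S) (a : W ⟶ V i) (b : W ⟶ U i),
          IsPullback ((AlgSp.yon S).map a) ((AlgSp.yon S).map b) (fst i) (p i) ∧
            Etale a.left ∧ Surjective a.left := by
        intro i
        obtain ⟨W, a, b', hW⟩ := (hpe i).1 (fst i)
        obtain ⟨b, rfl⟩ := (AlgSp.yon S).map_surjective b'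
        exact ⟨W, a, b, hW.flip, (hpe i).2 _ _ _ hW, (hps i).2 _ _ _ hW⟩
      choose W a b hW hae has using hex
      have hpb := Groth.Agent.Lib.Helper51.isPullback_sigmaOverDesc F c hc ξ P V U g
        (Groth.Agent.Lib.Helper51.sigmaOverι (fun i ↦ (U i).left) (fun i ↦ (U i).hom))
        fst p h1 hsqP (fun i ↦ (W i).left) (fun i ↦ (W i).hom) a b hW
      refine ⟨_, _, _, hpb.flip, ?_, ?_⟩
      · change Etale (Sigma.desc fun i ↦ (a i ≫ g i).left)
        apply IsZariskiLocalAtSource.sigmaDesc
        intro i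
        rw [Over.comp_left]
        infer_instance
      · refine ⟨fun t ↦ ?_⟩
        obtain ⟨i, y, hy⟩ := (sigmaOpenCover (fun _ : ι ↦ S)).exists_eq (ψ.left t)
        have hpbS : IsPullback (g i).left (k i).left ψ.left (Sigma.ι (fun _ : ι ↦ S) i) :=
          (h2 i).map (Over.forget S)
        obtain ⟨v, hv, -⟩ := Scheme.exists_preimage_of_isPullback hpbS t y hy.symm
        obtain ⟨w, hw⟩ := (has i).surj v
        refine ⟨Sigma.ι (fun i ↦ (W i).left) i w, ?_⟩
        change (Sigma.desc fun i ↦ (a i ≫ g i).left) (Sigma.ι (fun i ↦ (W i).left) i w) = t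
        rw [← Scheme.Hom.comp_apply, Sigma.ι_desc, Over.comp_left, Scheme.Hom.comp_apply, hw, hv]
    refine ⟨_, P, ?_, ?_⟩
    · apply MorphismProperty.relative.of_exists
      intro T ξ
      obtain ⟨W, fstW, snd, hpb, he, -⟩ := key ξ
      exact ⟨W, fstW, snd, hpb, he⟩
    · apply MorphismProperty.relative.of_exists
      intro T ξ
      obtain ⟨W, fstW, snd, hpb, -, hs⟩ := key ξ
      exact ⟨W, fstW, snd, hpb, hs⟩

end Groth.Agent.S9881
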