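import Groth.Statements.S12999
import Groth.Agent.Lib.Helper66.LfpNoeth

set_option autoImplicit false
universe u
open CategoryTheory AlgebraicGeometry
open AlgSt

namespace Groth.Agent.S12999

/-- A morphism of algebraic stacks which is locally of finite type with locally Noetherian target is
locally of finite presentation. (Part (2), for finite type and quasi-separated, only adds the
quasi-compactness clauses.) -/
theorem result
    (S : Scheme.{u}) (𝒳 : AlgSt.Cat S) (𝒴 : AlgSt.Cat S)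
    (h𝒳 : AlgSt.IsAlgStack Scheme.fppfPrecoverage 𝒳)
    (h𝒴 : AlgSt.IsAlgStack Scheme.fppfPrecoverage 𝒴)
    (f : 𝒳 ⥤ᵇ 𝒴) :
    AlgSt.SmoothLocally (fun T ↦ IsLocallyNoetherian T) 𝒴 → AlgSt.LocQ (AlgSp.LocP @LocallyOfFiniteType) f → AlgSt.LocQ (AlgSp.LocP @LocallyOfFinitePresentation) f := by
  intro hN hf
  obtain ⟨U₀, V₀, x₀, y₀, k₀, α₀, hx₀, hx₀s, hy₀, hk₀⟩ := hf
  have hV₀ : IsLocallyNoetherian V₀.left := hN V₀ y₀ hy₀
  have hk : LocallyOfFiniteType k₀.left := AlgSp.locP_yon_map hk₀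
  have hk' : LocallyOfFinitePresentation k₀.left :=
    Groth.Agent.Lib.Helper66.LfpNoeth.locallyOfFinitePresentation_of_isLocallyNoetherian k₀.left
  exact ⟨U₀, V₀, x₀, y₀, k₀, α₀, hx₀, hx₀s, hy₀, Groth.Agent.Lib.Helper66.LfpNoeth.locP_lfp_yon_map k₀ hk'⟩

end Groth.Agent.S12999
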