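import Groth.Statements.S0220
import Mathlib

set_option autoImplicit false
universe u
open CategoryTheory CategoryTheory.Limits AlgebraicGeometry TopologicalSpace
open Curves

namespace Groth.Agent.S0220

open AlgebraicGeometry CategoryTheory

/-- An injective ring map from a Dedekind-like domain into a domain is flat. -/
theorem flat_of_injective_of_dim_le_one {A B : Type*} [CommRing A] [CommRing B] [IsDomain A]
    [IsDomain B] [IsNoetherianRing A] [IsIntegrallyClosed A] (hdim : ringKrullDim A ≤ 1)
    (φ : A →+* B) (hφ : Function.Injective φ) : φ.Flat := by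
  algebraize [φ]
  have : Ring.KrullDimLE 1 A := (Ring.krullDimLE_iff).mpr hdim
  have : Ring.DimensionLEOne A := ⟨fun {p} hp hp' => Ideal.IsPrime.isMaximal_of_ne_bot hp' hp⟩
  have : IsDedekindDomain A := {}
  have : Module.IsTorsionFree A B := Module.isTorsionFree_iff_algebraMap_injective.mpr hφ
  exact (inferInstance : Module.Flat A B)

/-- The dimension of a local ring of a scheme is at most the dimension of the scheme. -/
theorem ringKrullDim_stalk_le_topologicalKrullDim (Y : Scheme.{u}) (y : Y) :
    ringKrullDim (Y.presheaf.stalk y) ≤ topologicalKrullDim Y := by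
  obtain ⟨_, ⟨U, hU, rfl⟩, hyU, -⟩ :=
    Y.isBasis_affineOpens.exists_subset_of_mem_open (Set.mem_univ y) isOpen_univ
  have h1 : ringKrullDim Γ(Y, U) ≤ topologicalKrullDim Y := by
    rw [← PrimeSpectrum.topologicalKrullDim_eq_ringKrullDim Γ(Y, U)]
    change topologicalKrullDim (Spec Γ(Y, U)) ≤ _
    rw [← IsHomeomorph.topologicalKrullDim_eq _ hU.isoSpec.hom.homeomorph.isHomeomorph]
    exact topologicalKrullDim_subspace_le Y U
  let := TopCat.Presheaf.algebra_section_stalk Y.presheaf ⟨y, hyU⟩
  have := hU.isLocalization_stalk ⟨y, hyU⟩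
  rw [IsLocalization.AtPrime.ringKrullDim_eq_height (hU.primeIdealOf ⟨y, hyU⟩).asIdeal _]
  exact (Ideal.height_le_ringKrullDim_of_ne_top (Ideal.IsPrime.ne_top inferInstance)).trans h1

/-- In an integral scheme of dimension at most one, every point other than the generic point is
closed. -/
theorem isClosed_singleton_of_ne_genericPoint (Y : Scheme.{u}) [IsIntegral Y]
    (hY : topologicalKrullDim Y ≤ 1) (y : Y) (hy : y ≠ genericPoint Y) : IsClosed ({y} : Set Y) := by
  rw [← closure_eq_iff_isClosed]
  refine Set.Subset.antisymm ?_ subset_closure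
  intro z hz
  by_contra hzy
  have hzy' : z ≠ y := hzy
  have hyz : y ⤳ z := specializes_iff_mem_closure.mpr hz
  have hηy : genericPoint Y ⤳ y := genericPoint_specializes y
  have h1 : z < y := by
    refine lt_iff_le_not_ge.mpr ⟨Scheme.le_iff_specializes.mpr hyz, fun h => hzy' ?_⟩
    exact ((Scheme.le_iff_specializes.mp h).antisymm hyz).eq
  have h2 : y < genericPoint Y := by
    refine lt_iff_le_not_ge.mpr ⟨Scheme.le_iff_specializes.mpr hηy, fun h => hy ?_⟩
    exact ((Scheme.le_iff_specializes.mp h).antisymm hηy).eq
  have h3 : Order.coheight y + 1 ≤ Order.coheight z := Order.coheight_add_one_le h1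
  have h4 : Order.coheight (genericPoint Y) + 1 ≤ Order.coheight y := Order.coheight_add_one_le h2
  have h5 : (2 : ℕ∞) ≤ Order.coheight z := by
    calc (2 : ℕ∞) = 0 + 1 + 1 := by norm_num
      _ ≤ Order.coheight (genericPoint Y) + 1 + 1 := by gcongr; exact zero_le
      _ ≤ Order.coheight y + 1 := by gcongr
      _ ≤ Order.coheight z := h3
  have h6 : ringKrullDim (Y.presheaf.stalk z) ≤ 1 :=
    (ringKrullDim_stalk_le_topologicalKrullDim Y z).trans hY
  rw [ringKrullDim_stalk_eq_coheight] at h6
  have h7 : (Order.coheight z : WithBot ℕ∞) ≤ ((1 : ℕ∞) : WithBot ℕ∞) := h6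
  have h8 : Order.coheight z ≤ 1 := WithBot.coe_le_coe.mp h7
  exact absurd (h5.trans h8) (by norm_num)

/-- A nonconstant morphism between curves over a field (integral, separated, finite type, dimension one)
whose target has integrally closed local domains is flat. -/
theorem result (k : Type u) [Field k] (X Y : Scheme.{u}) (p : X ⟶ Spec (CommRingCat.of k)) (q : Y ⟶ Spec (CommRingCat.of k))
    [IsIntegral X] [IsIntegral Y] [IsSeparated p] [IsSeparated q] [LocallyOfFiniteType p] [LocallyOfFiniteType q]
    [QuasiCompact p] [QuasiCompact q] (hX : topologicalKrullDim X = 1) (hY : topologicalKrullDim Y = 1)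
    (hN : ∀ y : Y, IsDomain (Y.presheaf.stalk y) ∧ IsIntegrallyClosed (Y.presheaf.stalk y))
    (f : X ⟶ Y) (hf : f ≫ q = p) (hnc : (Set.range f.base).Nontrivial) :
    Flat f := by
  have hYN : IsLocallyNoetherian Y := LocallyOfFiniteType.isLocallyNoetherian q
  -- the generic point goes to the generic point
  have hgen : f.base (genericPoint X) = genericPoint Y := by
    by_contra hne
    have hcl := isClosed_singleton_of_ne_genericPoint Y hY.le _ hne
    have hconst : ∀ x : X, f.base x = f.base (genericPoint X) := by
      intro x
      have h1 : f.base (genericPoint X) ⤳ f.base x :=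
        (genericPoint_specializes x).map f.continuous
      have h2 : f.base x ∈ closure ({f.base (genericPoint X)} : Set Y) :=
        specializes_iff_mem_closure.mp h1
      rw [hcl.closure_eq] at h2
      exact h2
    obtain ⟨a, ⟨x₁, rfl⟩, b, ⟨x₂, rfl⟩, hab⟩ := hnc
    exact hab ((hconst x₁).trans (hconst x₂).symm)
  apply Flat.of_stalkMap
  intro x
  have hdim : ringKrullDim (Y.presheaf.stalk (f.base x)) ≤ 1 :=
    (ringKrullDim_stalk_le_topologicalKrullDim Y (f.base x)).trans hY.le
  obtain ⟨hdom, hic⟩ := hN (f.base x)
  refine flat_of_injective_of_dim_le_one hdim (f.stalkMap x).hom ?_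
  -- injectivity via function fields
  have hsp : genericPoint X ⤳ x := genericPoint_specializes x
  have hcomm := Scheme.Hom.stalkSpecializes_stalkMap f (genericPoint X) x hsp
  have hinj1 : Function.Injective
      (Y.presheaf.stalkSpecializes (f.base.hom.map_specializes hsp)).hom := by
    have hF : ∀ (y' : Y) (h : y' = genericPoint Y) (h' : y' ⤳ f.base x),
        Function.Injective (Y.presheaf.stalkSpecializes h').hom := by
      rintro _ rfl h'
      exact IsFractionRing.injective (Y.presheaf.stalk (f.base x)) Y.functionField
    exact hF _ hgen _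
  have hinj2 : Function.Injective (f.stalkMap (genericPoint X)).hom := by
    have hfield : IsField (Y.presheaf.stalk (f.base (genericPoint X))) := by
      have hF : ∀ (y' : Y) (h : y' = genericPoint Y), IsField (Y.presheaf.stalk y') := by
        rintro _ rfl
        exact Field.toIsField Y.functionField
      exact hF _ hgen
    let _ := hfield.toField
    exact (f.stalkMap (genericPoint X)).hom.injective
  have hinj3 : Function.Injective
      ((Y.presheaf.stalkSpecializes (f.base.hom.map_specializes hsp)) ≫
        f.stalkMap (genericPoint X)).hom := by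
    rw [CommRingCat.hom_comp]
    exact hinj2.comp hinj1
  rw [hcomm, CommRingCat.hom_comp] at hinj3
  exact Function.Injective.of_comp hinj3

end Groth.Agent.S0220
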