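import Groth.Statements.S0219
import Mathlib
import Groth.Agent.S0220

set_option autoImplicit false
universe u
open CategoryTheory CategoryTheory.Limits AlgebraicGeometry TopologicalSpace
open Curves

namespace Groth.Agent.S0219

/-- In a scheme of dimension at most one there is no chain of specializations of length two. -/
theorem no_chain_of_dim_le_one (X : Scheme.{u}) (hX : topologicalKrullDim X ≤ 1)
    {z y g : X} (h1 : z < y) (h2 : y < g) : False := by
  have h3 : Order.coheight y + 1 ≤ Order.coheight z := Order.coheight_add_one_le h1
  have h4 : Order.coheight g + 1 ≤ Order.coheight y := Order.coheight_add_one_le h2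
  have h5 : (2 : ℕ∞) ≤ Order.coheight z := by
    calc (2 : ℕ∞) = 0 + 1 + 1 := by norm_num
      _ ≤ Order.coheight g + 1 + 1 := by gcongr; exact zero_le
      _ ≤ Order.coheight y + 1 := by gcongr
      _ ≤ Order.coheight z := h3
  have h6 : ringKrullDim (X.presheaf.stalk z) ≤ 1 :=
    (Groth.Agent.S0220.ringKrullDim_stalk_le_topologicalKrullDim X z).trans hX
  rw [ringKrullDim_stalk_eq_coheight] at h6
  have h7 : (Order.coheight z : WithBot ℕ∞) ≤ ((1 : ℕ∞) : WithBot ℕ∞) := h6
  have h8 : Order.coheight z ≤ 1 := WithBot.coe_le_coe.mp h7
  exact absurd (h5.trans h8) (by norm_num)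

/-- Strict specialization gives a strict inequality in the specialization preorder. -/
theorem lt_of_specializes_of_ne {X : Scheme.{u}} {a b : X} (h : a ⤳ b) (hne : a ≠ b) : b < a := by
  refine lt_iff_le_not_ge.mpr ⟨Scheme.le_iff_specializes.mpr h, fun h' => hne ?_⟩
  exact (h.antisymm (Scheme.le_iff_specializes.mp h')).eq

/-- A quasi-sober Noetherian `T1` space is finite. -/
theorem finite_of_noetherianSpace_of_t1 (α : Type*) [TopologicalSpace α] [NoetherianSpace α]
    [QuasiSober α] [T1Space α] : Finite α := by
  have hfin := TopologicalSpace.NoetherianSpace.finite_irreducibleComponents (α := α)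
  have huniv : (Set.univ : Set α) = ⋃₀ irreducibleComponents α := sUnion_irreducibleComponents.symm
  have : (Set.univ : Set α).Finite := by
    rw [huniv]
    refine Set.Finite.sUnion hfin fun s hs => ?_
    have hirr : IsIrreducible s := hs.1
    have hcl : IsClosed s := isClosed_of_mem_irreducibleComponents s hs
    obtain ⟨g, hg⟩ := QuasiSober.sober hirr hcl
    have : s = {g} := by
      rw [← hg.def, closure_singleton]
    rw [this]
    exact Set.finite_singleton g
  exact Set.finite_univ_iff.mp this

set_option backward.isDefEq.respectTransparency.types false in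
/-- A morphism over a field from a proper scheme of dimension at most one to a separated scheme, which
does not contract any one-dimensional irreducible component to a point, is finite. -/
theorem result (k : Type u) [Field k] (X Y : Scheme.{u}) (p : X ⟶ Spec (CommRingCat.of k)) (q : Y ⟶ Spec (CommRingCat.of k))
    [IsProper p] [IsSeparated q] (f : X ⟶ Y) (hf : f ≫ q = p) (hdim : topologicalKrullDim X ≤ 1)
    (h : ∀ Z ∈ irreducibleComponents (X : Type u), topologicalKrullDim Z = 1 → (f.base '' Z).Nontrivial) :
    IsFinite f := by
  have hpf : IsProper (f ≫ q) := hf ▸ inferInstance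
  have hfp : IsProper f := IsProper.of_comp f q
  -- no nontrivial specializations inside the fibres of `f`
  have key : ∀ z1 z2 : X, z1 ⤳ z2 → f z1 = f z2 → z1 = z2 := by
    intro z1 z2 hsp hfz
    by_contra hne
    have h12 : z2 < z1 := lt_of_specializes_of_ne hsp hne
    -- `z2` is a closed point
    have hz2 : IsClosed ({z2} : Set X) := by
      rw [← closure_eq_iff_isClosed]
      refine Set.Subset.antisymm ?_ subset_closure
      intro z3 hz3
      by_contra h3
      have h23 : z2 ⤳ z3 := specializes_iff_mem_closure.mpr hz3
      exact no_chain_of_dim_le_one X hdim (lt_of_specializes_of_ne h23 (Ne.symm h3)) h12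
    -- the closure of `z1` is an irreducible component
    have hC : closure ({z1} : Set X) ∈ irreducibleComponents (X : Type u) := by
      refine ⟨isIrreducible_singleton.closure, ?_⟩
      intro s hs hCs
      have hscl : IsIrreducible (closure s) := hs.closure
      obtain ⟨g, hg⟩ := QuasiSober.sober hscl isClosed_closure
      have hz1s : z1 ∈ closure s := subset_closure (hCs (subset_closure rfl))
      have hgz1 : g ⤳ z1 := by
        rw [← hg.def] at hz1s
        exact specializes_iff_mem_closure.mpr hz1s
      have hgeq : g = z1 := by
        by_contra hgne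
        exact no_chain_of_dim_le_one X hdim h12 (lt_of_specializes_of_ne hgz1 hgne)
      rw [hgeq] at hg
      intro x hx
      rw [hg.def]
      exact subset_closure hx
    -- it has dimension one
    have hdimC : topologicalKrullDim (closure ({z1} : Set X)) = 1 := by
      refine le_antisymm ((topologicalKrullDim_subspace_le X _).trans hdim) ?_
      have hz1C : z1 ∈ closure ({z1} : Set X) := subset_closure rfl
      have hz2C : z2 ∈ closure ({z1} : Set X) := specializes_iff_mem_closure.mp hsp
      let a : TopologicalSpace.IrreducibleCloseds (closure ({z1} : Set X)) :=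
        ⟨closure {⟨z2, hz2C⟩}, isIrreducible_singleton.closure, isClosed_closure⟩
      let b : TopologicalSpace.IrreducibleCloseds (closure ({z1} : Set X)) :=
        ⟨closure {⟨z1, hz1C⟩}, isIrreducible_singleton.closure, isClosed_closure⟩
      have hab : a < b := by
        refine lt_of_le_of_ne ?_ ?_
        · change closure {(⟨z2, hz2C⟩ : closure ({z1} : Set X))} ⊆ closure {⟨z1, hz1C⟩}
          refine closure_minimal ?_ isClosed_closure
          rw [Set.singleton_subset_iff]
          rw [← specializes_iff_mem_closure]
          exact Topology.IsInducing.subtypeVal.specializes_iff.mp hsp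
        · intro hab
          have h1 : (⟨z1, hz1C⟩ : closure ({z1} : Set X)) ∈ (b : Set _) := subset_closure rfl
          rw [← hab] at h1
          have h2 : (⟨z2, hz2C⟩ : closure ({z1} : Set X)) ⤳ ⟨z1, hz1C⟩ :=
            specializes_iff_mem_closure.mpr h1
          have h2' : z2 ⤳ z1 := Topology.IsInducing.subtypeVal.specializes_iff.mpr h2
          exact hne (hsp.antisymm h2').eq
      exact (Order.one_le_krullDim_iff).mpr ⟨a, b, hab⟩
    -- but its image is a single point
    have hnt := h _ hC hdimC
    have hcl : IsClosed (f '' {z2}) := f.isClosedMap _ hz2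
    rw [Set.image_singleton] at hcl
    have hsub : f.base '' closure ({z1} : Set X) ⊆ {f z2} := by
      refine (image_closure_subset_closure_image f.continuous).trans ?_
      rw [Set.image_singleton]
      change closure {f z1} ⊆ _
      rw [hfz, hcl.closure_eq]
    exact Set.not_nontrivial_singleton (hnt.mono hsub)
  -- the fibres are finite
  have hfin : ∀ y : Y, (f ⁻¹' {y}).Finite := by
    intro y
    have hlft : LocallyOfFiniteType (f.fiberToSpecResidueField y) :=
      MorphismProperty.pullback_snd _ _ inferInstance
    have hN : IsLocallyNoetherian (f.fiber y) :=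
      LocallyOfFiniteType.isLocallyNoetherian (f.fiberToSpecResidueField y)
    have hN' : IsNoetherian (f.fiber y) := {}
    have hT1 : T1Space (f.fiber y) := by
      refine ⟨fun z => ?_⟩
      rw [← closure_eq_iff_isClosed]
      refine Set.Subset.antisymm ?_ subset_closure
      intro z' hz'
      have hsp : z ⤳ z' := specializes_iff_mem_closure.mpr hz'
      have hsp' : f.fiberι y z ⤳ f.fiberι y z' := hsp.map (f.fiberι y).continuous
      have e1 : f (f.fiberι y z) = y := by
        have : f.fiberι y z ∈ Set.range (f.fiberι y) := ⟨z, rfl⟩
        rw [f.range_fiberι y] at this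
        exact this
      have e2 : f (f.fiberι y z') = y := by
        have : f.fiberι y z' ∈ Set.range (f.fiberι y) := ⟨z', rfl⟩
        rw [f.range_fiberι y] at this
        exact this
      have := key _ _ hsp' (e1.trans e2.symm)
      exact ((f.fiberι y).isEmbedding.injective this).symm
    have : Finite (f.fiber y) := finite_of_noetherianSpace_of_t1 (f.fiber y)
    rw [← f.range_fiberι y]
    exact Set.finite_range _
  have hqf : LocallyQuasiFinite f := LocallyQuasiFinite.of_finite_preimage_singleton f hfin
  exact IsFinite.of_isProper_of_locallyQuasiFinite f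

end Groth.Agent.S0219
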