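import Groth.Statements.S6370
-- import your own Groth.Agent.* helpers here
import Groth.Agent.Lib.Helper85.KrullAkizukiField

set_option autoImplicit false
universe u
open CAlg

namespace Groth.Agent.S6370

/-- For a one-dimensional Noetherian domain A with fraction field K, a finite field extension L of K
(separable or not) and B the integral closure of A in L: B is a Dedekind domain, Spec B → Spec A is
surjective and has finite fibres, and at every maximal ideal Q of B the residue field B/Q is finite
over A/(Q ∩ A). -/
theorem result (A K L B : Type u) [CommRing A] [IsDomain A]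
    [IsNoetherianRing A] (hdim : ringKrullDim A = 1) [Field K] [Algebra A K] [IsFractionRing A K]
    [Field L] [Algebra K L] [FiniteDimensional K L] [Algebra A L] [IsScalarTower A K L]
    [CommRing B] [IsDomain B] [Algebra A B] [Algebra B L] [IsScalarTower A B L] [IsIntegralClosure B A L] :
    IsDedekindDomain B ∧ Function.Surjective (PrimeSpectrum.comap (algebraMap A B)) ∧
      (∀ p : PrimeSpectrum A, (PrimeSpectrum.comap (algebraMap A B) ⁻¹' {p}).Finite) ∧
      ∀ Q : Ideal B, Q.IsMaximal → Module.Finite (A ⧸ Q.comap (algebraMap A B)) (B ⧸ Q) := by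
  classical
  have hKD : Ring.KrullDimLE 1 A := Ring.krullDimLE_iff.mpr (by rw [hdim]; rfl)
  have hB : Function.Injective (algebraMap B L) := IsIntegralClosure.algebraMap_injective B A L
  have hint : Algebra.IsIntegral A B := IsIntegralClosure.isIntegral_algebra A L
  have hAB : Function.Injective (algebraMap A B) := by
    have h1 : Function.Injective (algebraMap A L) :=
      Groth.Agent.Lib.Helper85.KrullAkizuki.sandwich_injective A K L
    rw [IsScalarTower.algebraMap_eq A B L] at h1
    exact Function.Injective.of_comp h1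
  have hDA : Ring.DimensionLEOne A :=
    ⟨fun {p} hp hp' => Ring.krullDimLE_one_iff_of_noZeroDivisors.mp hKD p hp hp'⟩
  have hDB : Ring.DimensionLEOne B := Ring.DimensionLEOne.of_isIntegral A B
  have hNB : IsNoetherianRing B :=
    Groth.Agent.Lib.Helper85.KrullAkizuki.sandwich_isNoetherianRing A K L B hB
  have hfr : IsFractionRing B L := IsIntegralClosure.isFractionRing_of_finite_extension A K L B
  have hfin : ∀ a : A, a ≠ 0 → Module.Finite A (B ⧸ (Ideal.span {algebraMap A B a} : Ideal B)) :=
    fun a ha => Groth.Agent.Lib.Helper85.KrullAkizuki.sandwich_finite_quotient A K L B hB ha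
  refine ⟨?_, ?_, ?_, ?_⟩
  · rw [isDedekindDomain_iff B L]
    refine ⟨inferInstance, hNB, hDB, fun {x} hx => ?_⟩
    have h1 : IsIntegral A x := isIntegral_trans x hx
    exact IsIntegralClosure.isIntegral_iff.mp h1
  · intro p
    obtain ⟨Q, -, hQ, hQp⟩ := Ideal.exists_ideal_over_prime_of_isIntegral p.asIdeal (⊥ : Ideal B)
      (by rw [Ideal.comap_bot_of_injective _ hAB]; exact bot_le)
    exact ⟨⟨Q, hQ⟩, PrimeSpectrum.ext hQp⟩
  · intro p
    by_cases hp : p.asIdeal = ⊥
    · refine Set.Finite.subset (Set.finite_singleton (⟨⊥, Ideal.isPrime_bot⟩ : PrimeSpectrum B)) ?_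
      intro Q hQ
      have h1 : Q.asIdeal.comap (algebraMap A B) = ⊥ := by
        have := congrArg PrimeSpectrum.asIdeal (Set.mem_singleton_iff.mp hQ)
        rw [← hp, ← this]
        rfl
      have h2 : Q.asIdeal = ⊥ := Ideal.eq_bot_of_comap_eq_bot h1
      exact Set.mem_singleton_iff.mpr (PrimeSpectrum.ext h2)
    · obtain ⟨a, hap, ha0⟩ := Submodule.exists_mem_ne_zero_of_ne_bot hp
      set I : Ideal B := Ideal.span {algebraMap A B a} with hI
      have : IsArtinianRing (B ⧸ I) :=
        Groth.Agent.Lib.Helper85.KrullAkizuki.sandwich_isArtinianRing_quotient A K L B hB ha0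
      refine Set.Finite.subset (Set.finite_range (PrimeSpectrum.comap (Ideal.Quotient.mk I))) ?_
      intro Q hQ
      rw [range_comap_of_surjective _ _ Ideal.Quotient.mk_surjective, Ideal.mk_ker,
        PrimeSpectrum.mem_zeroLocus]
      have h1 : Q.asIdeal.comap (algebraMap A B) = p.asIdeal :=
        congrArg PrimeSpectrum.asIdeal (Set.mem_singleton_iff.mp hQ)
      have h2 : algebraMap A B a ∈ Q.asIdeal := by
        rw [← Ideal.mem_comap, h1]; exact hap
      rw [hI]
      exact (Ideal.span_singleton_le_iff_mem _).mpr h2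
  · intro Q hQ
    have hnf : ¬ IsField B := by
      intro hf
      have h1 : IsField A := isField_of_isIntegral_of_isField hAB hf
      have h2 := ringKrullDim_eq_zero_of_isField h1
      rw [hdim] at h2
      exact one_ne_zero h2
    have hQ0 : Q ≠ ⊥ := Ring.ne_bot_of_isMaximal_of_not_isField hQ hnf
    have hp0 : Q.comap (algebraMap A B) ≠ ⊥ := fun h => hQ0 (Ideal.eq_bot_of_comap_eq_bot h)
    obtain ⟨a, hap, ha0⟩ := Submodule.exists_mem_ne_zero_of_ne_bot hp0
    have := hfin a ha0
    have hle : (Ideal.span {algebraMap A B a} : Ideal B) ≤ Q :=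
      (Ideal.span_singleton_le_iff_mem _).mpr (Ideal.mem_comap.mp hap)
    have h1 : Module.Finite A (B ⧸ Q) :=
      Module.Finite.of_surjective (Ideal.Quotient.factorₐ A hle).toLinearMap
        (Ideal.Quotient.factor_surjective hle)
    exact Module.Finite.of_restrictScalars_finite A _ _

end Groth.Agent.S6370
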