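import Groth.Statements.S1640
import Groth.Agent.S6370
import Groth.Agent.Lib.Helper85.SemilocalInv
import Groth.Agent.Lib.Helper85.KrullAkizukiField

set_option autoImplicit false
universe u
open Variety

namespace Groth.Agent.S1640


section helpers
set_option linter.style.haveILetI false
open Groth.Agent.Lib.Helper85 Groth.Agent.Lib.Helper85.SemilocalInv IsDedekindDomain WithZero



theorem exists_pow_mem_jacobson {K : Type u} [Field K] (B : Subring K) [IsNoetherianRing B]
    [IsFractionRing B K] (hdim : ringKrullDim B = 1) (y : K)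
    (hy : IsIntegral B y)
    (hU : ∀ z : K, IsIntegral B z → 1 + z * y ≠ 0 ∧ IsIntegral B (1 + z * y)⁻¹) :
    ∃ n₀ : ℕ, ∀ n, n₀ ≤ n → ∃ h : y ^ n ∈ B, (⟨y ^ n, h⟩ : B) ∈ (⊥ : Ideal B).jacobson := by
  classical
  haveI : Ring.KrullDimLE 1 B := Ring.krullDimLE_iff.mpr (by rw [hdim]; rfl)
  set B₁ : Subalgebra B K := Algebra.adjoin B {y} with hB₁
  have hB₁int : ∀ t ∈ B₁, IsIntegral B t := fun t ht => adjoin_le_integralClosure hy ht
  have hfg : (Subalgebra.toSubmodule B₁).FG := hy.fg_adjoin_singleton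
  obtain ⟨s, hs⟩ := hfg
  obtain ⟨⟨d, hd⟩, hds⟩ := IsLocalization.exist_integer_multiples_of_finset (nonZeroDivisors B) s
  have hd0 : d ≠ 0 := nonZeroDivisors.ne_zero hd
  -- `d B₁ ⊆ B`
  have hdB' : ∀ t ∈ Submodule.span B (s : Set K), (d : K) * t ∈ B := by
    intro t ht
    induction ht using Submodule.span_induction with
    | mem x hx =>
      obtain ⟨b, hb⟩ := hds x hx
      have : (d : K) * x = (b : K) := by
        have h1 : algebraMap B K b = (b : K) := rfl
        rw [← h1, hb]; rfl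
      rw [this]; exact b.2
    | zero => rw [mul_zero]; exact B.zero_mem
    | add x z _ _ hx hz => rw [mul_add]; exact B.add_mem hx hz
    | smul c x _ hx =>
      have : (d : K) * c • x = (c : K) * ((d : K) * x) := by
        rw [Algebra.smul_def]
        have : algebraMap B K c = (c : K) := rfl
        rw [this]; ring
      rw [this]; exact B.mul_mem c.2 hx
  have hdB : ∀ t ∈ B₁, (d : K) * t ∈ B := by
    intro t ht
    exact hdB' t (by rw [hs]; exact ht)
  -- Artinian quotient
  have hinj : Function.Injective (algebraMap B₁ K) := Subtype.val_injective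
  haveI hArt : IsArtinianRing (B₁ ⧸ (Ideal.span {algebraMap B B₁ d} : Ideal B₁)) :=
    KrullAkizuki.sandwich_isArtinianRing_quotient B K K B₁ hinj hd0
  set y₁ : B₁ := ⟨y, Algebra.subset_adjoin rfl⟩ with hy₁
  set I : Ideal B₁ := Ideal.span {algebraMap B B₁ d} with hI
  obtain ⟨n, q', hq'⟩ := IsArtinian.exists_pow_succ_smul_dvd (Ideal.Quotient.mk I y₁)
    (1 : B₁ ⧸ I)
  obtain ⟨q, rfl⟩ := Ideal.Quotient.mk_surjective q'
  have h1 : y₁ ^ (n + 1) * q - y₁ ^ n ∈ I := by
    rw [← Ideal.Quotient.eq]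
    rw [smul_eq_mul, smul_eq_mul, mul_one] at hq'
    rw [map_mul, map_pow, map_pow]
    exact hq'
  obtain ⟨c, hc⟩ := Ideal.mem_span_singleton'.mp h1
  have h2 : y ^ (n + 1) * (q : K) - y ^ n = (c : K) * (d : K) := by
    have h3 := congrArg (Subtype.val) hc
    have h4 : ((c * algebraMap B B₁ d : B₁) : K) = (c : K) * (d : K) := rfl
    have h5 : ((y₁ ^ (n + 1) * q - y₁ ^ n : B₁) : K) = y ^ (n + 1) * (q : K) - y ^ n := by
      simp [hy₁]
    rw [← h4, ← h5]
    exact h3.symm
  -- the unit `u = 1 - y q`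
  have hqint : IsIntegral B (-(q : K)) := (hB₁int _ q.2).neg
  obtain ⟨hu0, huint⟩ := hU (-(q : K)) hqint
  set u₁ : B₁ := 1 + (-q) * y₁ with hu₁
  have hu₁K : algebraMap B₁ K u₁ = 1 + -(q : K) * y := rfl
  have huint' : IsIntegral B₁ (algebraMap B₁ K u₁)⁻¹ := by
    rw [hu₁K]; exact huint.tower_top
  obtain ⟨w, hw⟩ := exists_eq_inv_of_isIntegral (R := B₁) (K := K) u₁ (by rw [hu₁K]; exact hu0)
    huint'
  rw [hu₁K] at hw
  have hwK : (1 + -(q : K) * y) * algebraMap B₁ K w = 1 := by
    rw [hw]; exact mul_inv_cancel₀ hu0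
  -- `y ^ n = d * (-(c w))`
  have h6 : y ^ n = (d : K) * (-(c : K) * algebraMap B₁ K w) := by
    have h7 : y ^ n * (1 + -(q : K) * y) = -((c : K) * (d : K)) := by
      rw [← h2]; ring
    calc y ^ n = y ^ n * ((1 + -(q : K) * y) * algebraMap B₁ K w) := by rw [hwK, mul_one]
      _ = (y ^ n * (1 + -(q : K) * y)) * algebraMap B₁ K w := by ring
      _ = (d : K) * (-(c : K) * algebraMap B₁ K w) := by rw [h7]; ring
  have hpow : ∀ k, n ≤ k → y ^ k ∈ B := by
    intro k hk
    obtain ⟨j, rfl⟩ := Nat.exists_eq_add_of_le hk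
    have h8 : y ^ (n + j) = (d : K) * ((y₁ ^ j * (-c * w) : B₁) : K) := by
      rw [pow_add, h6]
      have : ((y₁ ^ j * (-c * w) : B₁) : K) = y ^ j * (-(c : K) * algebraMap B₁ K w) := by
        simp [hy₁]
      rw [this]; ring
    rw [h8]
    exact hdB _ (Subtype.mem _)
  refine ⟨n + 1, fun k hk => ⟨hpow k (by omega), ?_⟩⟩
  rw [Ideal.mem_jacobson_bot]
  intro b
  obtain ⟨j, rfl⟩ : ∃ j, k = j + 1 := ⟨k - 1, by omega⟩
  have hzint : IsIntegral B ((b : K) * y ^ j) := by
    have hb : IsIntegral B (b : K) := isIntegral_algebraMap (x := b)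
    exact hb.mul (hy.pow j)
  obtain ⟨hv0, hvint⟩ := hU _ hzint
  set v : B := ⟨y ^ (j + 1), hpow (j + 1) (by omega)⟩ * b + 1 with hv
  have hvK : algebraMap B K v = 1 + (b : K) * y ^ j * y := by
    have : algebraMap B K v = y ^ (j + 1) * (b : K) + 1 := rfl
    rw [this]; ring
  obtain ⟨w', hw'⟩ := exists_eq_inv_of_isIntegral (R := B) (K := K) v (by rw [hvK]; exact hv0)
    (by rw [hvK]; exact hvint)
  rw [isUnit_iff_exists_inv]
  refine ⟨w', ?_⟩
  apply Subtype.val_injective
  have : ((v * w' : B) : K) = algebraMap B K v * algebraMap B K w' := rfl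
  rw [this, hw']
  rw [hvK]
  exact mul_inv_cancel₀ hv0




theorem exists_vals {K : Type u} [Field K] (B : Subring K) [IsNoetherianRing B]
    [IsFractionRing B K] (hdim : ringKrullDim B = 1) (hsl : Finite (MaximalSpectrum B)) :
    ∃ (ι : Type u) (_ : Finite ι) (_ : Nonempty ι) (val : ι → Valuation K ℤᵐ⁰),
      (∀ w, ∀ b ∈ B, val w b ≤ 1) ∧ (∀ w, ∃ π : K, π ≠ 0 ∧ val w π < 1) ∧
      (∀ x : K, (∀ w, val w x ≤ 1) → IsIntegral B x) ∧
      (∀ x : K, IsIntegral B x → ∀ w, val w x ≤ 1) := by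
  classical
  set C : Subalgebra B K := integralClosure B K with hC
  obtain ⟨hD, -, hfib, -⟩ := Groth.Agent.S6370.result B K K C hdim
  haveI := hD
  haveI : IsFractionRing C K := integralClosure.isFractionRing_of_finite_extension K K
  have hle : ∀ (v : HeightOneSpectrum C) (x : K), IsIntegral B x → v.valuation K x ≤ 1 := by
    intro v x hx
    exact v.valuation_le_one (K := K) (⟨x, hx⟩ : C)
  refine ⟨HeightOneSpectrum C, ?_, ?_, fun v => v.valuation K, ?_, ?_, ?_, ?_⟩
  · -- finiteness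
    haveI : Algebra.IsIntegral B C := inferInstance
    set T : Set (PrimeSpectrum C) :=
      ⋃ m : MaximalSpectrum B, PrimeSpectrum.comap (algebraMap B C) ⁻¹' {m.toPrimeSpectrum} with hT
    have hTfin : T.Finite := Set.finite_iUnion (fun m => hfib _)
    haveI := hTfin.to_subtype
    have hmem : ∀ v : HeightOneSpectrum C, (⟨v.asIdeal, v.isPrime⟩ : PrimeSpectrum C) ∈ T := by
      intro v
      haveI := v.isMaximal
      rw [hT, Set.mem_iUnion]
      exact ⟨⟨v.asIdeal.comap (algebraMap B C),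
        Ideal.isMaximal_comap_of_isIntegral_of_isMaximal _⟩, rfl⟩
    refine Finite.of_injective (fun v : HeightOneSpectrum C => (⟨_, hmem v⟩ : T)) ?_
    intro v₁ v₂ h
    have h1 := congrArg (fun t : T => (t : PrimeSpectrum C).asIdeal) h
    exact HeightOneSpectrum.ext h1
  · -- nonempty
    haveI : Algebra.IsIntegral B C := inferInstance
    have hnf : ¬ IsField C := by
      intro hf
      have hBf : IsField B :=
        isField_of_isIntegral_of_isField (R := B) (S := C)
          (FaithfulSMul.algebraMap_injective B C) hf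
      have := ringKrullDim_eq_zero_of_isField hBf
      rw [hdim] at this
      exact absurd this (by norm_num)
    obtain ⟨p, hp0, hp⟩ := Ring.not_isField_iff_exists_prime.mp hnf
    exact ⟨⟨p, hp, hp0⟩⟩
  · intro v b hb
    exact hle v b (isIntegral_algebraMap (x := (⟨b, hb⟩ : B)))
  · intro v
    obtain ⟨π, hπ⟩ := v.valuation_exists_uniformizer K
    refine ⟨π, ?_, ?_⟩
    · intro h0
      rw [h0, map_zero] at hπ
      exact absurd hπ.symm (by simp)
    · show v.valuation K π < 1
      rw [hπ, ← exp_zero]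
      exact exp_lt_exp.mpr (by norm_num)
  · intro x hx
    obtain ⟨c, hc⟩ := HeightOneSpectrum.mem_integers_of_valuation_le_one K x hx
    rw [← hc]
    exact c.2
  · intro x hx v
    exact hle v x hx


end helpers

/-- Let K be a field, A ⊆ K a subring with fraction field K, and B_1, …, B_r ⊆ K Noetherian
one-dimensional subrings with finitely many maximal ideals and fraction field K, such that for each
i the subring generated by A and B_i is all of K. Then some nonzero x ∈ A has x⁻¹ lying in B_i and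
in the Jacobson radical of B_i for every i. -/
theorem result (K : Type u) [Field K] (A : Subring K) [IsFractionRing A K]
    (r : ℕ) (B : Fin r → Subring K) [∀ i, IsNoetherianRing (B i)] [∀ i, IsFractionRing (B i) K]
    (hdim : ∀ i, ringKrullDim (B i) = 1) (hsl : ∀ i, Finite (MaximalSpectrum (B i)))
    (hgen : ∀ i, A ⊔ B i = ⊤) :
    ∃ x : K, x ∈ A ∧ x ≠ 0 ∧ ∀ i, ∃ hx : x⁻¹ ∈ B i, (⟨x⁻¹, hx⟩ : B i) ∈ (⊥ : Ideal (B i)).jacobson := by
  classical
  have H := fun i => exists_vals (B i) (hdim i) (hsl i)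
  choose ι hfin hne val hB hπ hint hint' using H
  have := hfin
  have hA : ∀ w : Σ i, ι i, ∃ a ∈ A, 1 < val w.1 w.2 a := by
    rintro ⟨i, j⟩
    by_contra hcon
    have hcon' : ∀ a ∈ A, val i j a ≤ 1 := by
      intro a ha
      by_contra h
      exact hcon ⟨a, ha, not_le.mp h⟩
    have hle : A ⊔ B i ≤ (val i j).integer := by
      apply sup_le
      · intro a ha; exact hcon' a ha
      · intro b hb; exact hB i j b hb
    rw [hgen i] at hle
    obtain ⟨π, hπ0, hπ1⟩ := hπ i j
    have h1 : val i j π⁻¹ ≤ 1 := hle (Subring.mem_top π⁻¹)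
    rw [map_inv₀] at h1
    have h2 : val i j π ≠ 0 := (Valuation.ne_zero_iff _).mpr hπ0
    have h3 : 1 < (val i j π)⁻¹ := (one_lt_inv₀ (zero_lt_iff.mpr h2)).mpr hπ1
    exact absurd h1 (not_le.mpr h3)
  obtain ⟨x, hxA, hx0, hx⟩ := Groth.Agent.Lib.Helper85.SemilocalInv.exists_forall_one_lt A
    (fun w : Σ i, ι i => val w.1 w.2) hA
  have hy : ∀ i j, val i j x⁻¹ < 1 := by
    intro i j
    rw [map_inv₀]
    exact inv_lt_one_of_one_lt₀ (hx ⟨i, j⟩)
  have hpow : ∀ i, ∃ n₀ : ℕ, ∀ n, n₀ ≤ n →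
      ∃ h : x⁻¹ ^ n ∈ B i, (⟨x⁻¹ ^ n, h⟩ : B i) ∈ (⊥ : Ideal (B i)).jacobson := by
    intro i
    apply exists_pow_mem_jacobson (B i) (hdim i) x⁻¹
    · exact hint i _ (fun j => (hy i j).le)
    · intro z hz
      have hv : ∀ j, val i j (1 + z * x⁻¹) = 1 := by
        intro j
        apply Valuation.map_one_add_of_lt
        rw [map_mul]
        calc val i j z * val i j x⁻¹ ≤ 1 * val i j x⁻¹ :=
              mul_le_mul_left (hint' i z hz j) _
          _ = val i j x⁻¹ := one_mul _
          _ < 1 := hy i j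
      obtain ⟨j₀⟩ := hne i
      refine ⟨?_, ?_⟩
      · intro h0
        have := hv j₀
        rw [h0, map_zero] at this
        exact zero_ne_one this
      · apply hint i
        intro j
        rw [map_inv₀, hv j, inv_one]
  choose n₀ hn₀ using hpow
  set N := Finset.univ.sup n₀ with hN
  refine ⟨x ^ N, A.pow_mem hxA N, pow_ne_zero N hx0, fun i => ?_⟩
  obtain ⟨h, hj⟩ := hn₀ i N (Finset.le_sup (Finset.mem_univ i))
  have e : (x ^ N)⁻¹ = x⁻¹ ^ N := (inv_pow x N).symm
  refine ⟨e ▸ h, ?_⟩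
  convert hj using 2

end Groth.Agent.S1640
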