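import Groth.Statements.S11040
import Groth.Agent.Lib.Helper67.FFFunEq
import Groth.Agent.Lib.Helper67.PairRoots
-- import your own Groth.Agent.* helpers here

set_option autoImplicit false
open FunFld

namespace Groth.Agent.S11040

/-- The numerator of the zeta function of a function field of one variable of genus `g` over a finite
field with `q` elements factors over `ℂ` as `∏ (1 - αᵢ t)` with `α₁, …, α_{2g}` algebraic integers,
numbered so that `αᵢ α_{2g-i+1} = q`. -/
theorem result
    (k K : Type*) [Field k] [Finite k] [Field K] [Algebra k K]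
    (hK : FunFld.IsFunctionField k K) :
    ∃ α : Fin (2 * FunFld.genus k K) → ℂ, (∀ i, IsIntegral ℤ (α i)) ∧
      PowerSeries.map (Int.castRingHom ℂ) (FunFld.numerZ k K) =
        ((∏ i, (1 - Polynomial.C (α i) * Polynomial.X) : Polynomial ℂ) : PowerSeries ℂ) ∧
      ∀ i, α i * α (Fin.rev i) = (Nat.card k : ℂ) := by
  classical
  letI : Fintype (Groth.Agent.Lib.Helper67.FFClass.Cl0 k K) :=
    @Fintype.ofFinite _ (Groth.Agent.Lib.Helper67.FFClass.finite_Cl0 hK)
  have hsymm := fun i hi => Groth.Agent.Lib.Helper67.FFFunEq.coeff_numerZ_symm hK i hi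
  have hvan := fun n hn => Groth.Agent.Lib.Helper67.FFRational.coeff_numerZ_eq_zero hK n hn
  have hq := Groth.Agent.Lib.Helper67.FFSchmidt.two_le_card (k := k)
  have hq0 : (Nat.card k : ℚ) ≠ 0 := by
    have : (0 : ℚ) < (Nat.card k : ℚ) := by exact_mod_cast (by omega : 0 < Nat.card k)
    exact this.ne'
  have hL0 : PowerSeries.coeff 0 (FunFld.numerZ k K) = 1 := by
    rw [Groth.Agent.Lib.Helper67.FFFunEq.coeff_numerZ_zero,
      Groth.Agent.Lib.Helper67.FFFunEq.effDivCount_zero hK, Nat.cast_one]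
  obtain ⟨p, hp⟩ := Groth.Agent.Lib.Helper67.FFRational.exists_polynomial hK
  have hcoeff : ∀ n, p.coeff n = PowerSeries.coeff n (FunFld.numerZ k K) := by
    intro n
    rw [← hp, Polynomial.coeff_coe]
  set g := FunFld.genus k K with hg
  have hFE : ∀ i ≤ 2 * g, p.coeff (2 * g - i) * (Nat.card k : ℤ) ^ i =
      (Nat.card k : ℤ) ^ g * p.coeff i := by
    intro i hi
    rw [hcoeff, hcoeff]
    have h := hsymm i hi
    have h2 : ((PowerSeries.coeff (2 * g - i) (FunFld.numerZ k K) : ℤ) : ℚ) * (Nat.card k : ℚ) ^ i =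
        (Nat.card k : ℚ) ^ g * ((PowerSeries.coeff i (FunFld.numerZ k K) : ℤ) : ℚ) := by
      rw [h]
      have h3 : (Nat.card k : ℚ) ^ g = (Nat.card k : ℚ) ^ ((g : ℤ) - i) * (Nat.card k : ℚ) ^ i := by
        rw [← zpow_natCast, ← zpow_natCast, ← zpow_add₀ hq0]
        congr 1
        ring
      rw [h3]
      ring
    exact_mod_cast h2
  have hlead : p.coeff (2 * g) ≠ 0 := by
    intro h
    have := hFE 0 (Nat.zero_le _)
    rw [Nat.sub_zero, h, hcoeff 0, hL0, zero_mul, mul_one] at this
    have hq' : (Nat.card k : ℤ) ≠ 0 := by exact_mod_cast (by omega : Nat.card k ≠ 0)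
    exact pow_ne_zero _ hq' this.symm
  have hdeg : p.natDegree = 2 * g := by
    apply Polynomial.natDegree_eq_of_le_of_coeff_ne_zero _ hlead
    rw [Polynomial.natDegree_le_iff_coeff_eq_zero]
    intro N hN
    rw [hcoeff]
    exact hvan N hN
  have hq' : (Nat.card k : ℤ) ≠ 0 := by exact_mod_cast (by omega : Nat.card k ≠ 0)
  obtain ⟨α, hα1, hα2, hα3⟩ := Groth.Agent.Lib.Helper67.PairRoots.exists_paired_roots p g
    (Nat.card k : ℤ) hq' hdeg (by rw [hcoeff, hL0]) hFE
  refine ⟨α, hα1, ?_, ?_⟩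
  · rw [← hα2, ← hp]
    ext n
    simp [Polynomial.coeff_coe, Polynomial.coeff_map]
  · intro i
    rw [hα3 i]
    simp

end Groth.Agent.S11040
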