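import Groth.Statements.S11068
import Groth.Agent.Lib.Helper67.FFFrobFixed
-- import your own Groth.Agent.* helpers here

set_option autoImplicit false
open FunFld

namespace Groth.Agent.S11068

/-- Over a finite constant field with `q` elements, let `K̄ = k̄ ⊗ K` be the constant-field extension to
an algebraic closure and `F` its Frobenius map (identity on `k̄`, `q`-th power on `K`). A place `Q`
of `K̄/k̄` satisfies `Q^F = Q` (the maximal ideal of `Q` is exactly the preimage of itself under
`F`) if and only if `Q` is defined over `k`, i.e. the place of `K` below `Q` has degree one. -/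
theorem result
    (k K kb Kb : Type*) [Field k] [Finite k] [Field K] [Algebra k K] [Field kb] [Algebra k kb]
    [IsAlgClosure k kb] [Field Kb] [Algebra K Kb] [Algebra kb Kb]
    (hK : FunFld.IsFunctionField k K)
    (hc : ∀ c : k, algebraMap K Kb (algebraMap k K c) = algebraMap kb Kb (algebraMap k kb c))
    (hgen : Algebra.adjoin K (Set.range (algebraMap kb Kb)) = ⊤)
    (F : Kb →+* Kb) (hF1 : ∀ c : kb, F (algebraMap kb Kb c) = algebraMap kb Kb c)
    (hF2 : ∀ x : K, F (algebraMap K Kb x) = algebraMap K Kb x ^ Nat.card k)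
    (Q : FunFld.Place kb Kb) :
    (∀ z : Kb, Q.1 (F z) < 1 ↔ Q.1 z < 1) ↔
      ∃ P : FunFld.Place k K, (∀ x : K, Q.1 (algebraMap K Kb x) ≤ 1 ↔ P.1 x ≤ 1) ∧ P.deg = 1 := by
  classical
  letI : Algebra k Kb := ((algebraMap K Kb).comp (algebraMap k K)).toAlgebra
  haveI : IsScalarTower k K Kb := IsScalarTower.of_algebraMap_eq (fun c => rfl)
  haveI : IsScalarTower k kb Kb := IsScalarTower.of_algebraMap_eq (fun c => hc c)
  haveI : IsAlgClosed kb := IsAlgClosure.isAlgClosed k
  haveI : Algebra.IsAlgebraic k kb := IsAlgClosure.isAlgebraic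
  haveI : Algebra.IsAlgebraic K Kb := by
    have hint : ∀ z : Kb, IsIntegral K z := by
      intro z
      have hz : z ∈ Algebra.adjoin K (Set.range (algebraMap kb Kb)) := by rw [hgen]; trivial
      have hle : Algebra.adjoin K (Set.range (algebraMap kb Kb)) ≤ integralClosure K Kb := by
        apply Algebra.adjoin_le
        rintro _ ⟨c, rfl⟩
        have h1 : IsIntegral k c := Algebra.IsIntegral.isIntegral c
        have h2 : IsIntegral k (algebraMap kb Kb c) := h1.map (IsScalarTower.toAlgHom k kb Kb)
        exact h2.tower_top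
      exact hle hz
    exact ⟨fun z => (hint z).isAlgebraic⟩
  constructor
  · intro hfix
    obtain ⟨P, e, he⟩ := Groth.Agent.FF.Ext.exists_isOverWith_below (K := K)
      (Groth.Agent.Lib.Helper67.FFConstExt.placeDown (k := k) Q)
    have hle : ∀ x : K, Q.1 (algebraMap K Kb x) ≤ 1 ↔ P.1 x ≤ 1 :=
      fun x => Groth.Agent.FF.Ext.le_one_iff he x
    exact ⟨P, hle, Groth.Agent.Lib.Helper67.FFFrobFixed.deg_one_of_frob_fixed hK hc F hF1 hF2 Q P
      hle hfix⟩
  · rintro ⟨P, hle, hP⟩ z
    exact Groth.Agent.Lib.Helper67.FFFrobFixed.frob_fixed_of_deg_one hc hgen F hF1 hF2 Q P hle hP z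

end Groth.Agent.S11068
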