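import Groth.Statements.S13056
import Mathlib.RingTheory.PowerSeries.Derivative
import Mathlib.RingTheory.PowerSeries.Inverse
import Mathlib.Algebra.Polynomial.Taylor

set_option autoImplicit false
universe u v
open Zeta

namespace Groth.Agent.S13056

open Polynomial Matrix

variable {K : Type u} [Field K] {n : Type v} [Fintype n] [DecidableEq n]

/-- the matrix `1 - X • M` over `K⟦X⟧` -/
noncomputable def matA (M : Matrix n n K) : Matrix n n (PowerSeries K) :=
  1 - (PowerSeries.X : PowerSeries K) • M.map (PowerSeries.C : K →+* PowerSeries K)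

/-- its inverse `∑ X^m M^m`. -/
noncomputable def matAinv (M : Matrix n n K) : Matrix n n (PowerSeries K) :=
  Matrix.of fun i j => PowerSeries.mk fun m => (M ^ m) i j

theorem matA_mul_matAinv (M : Matrix n n K) : matA M * matAinv M = 1 := by
  unfold matA
  rw [sub_mul, one_mul, Matrix.smul_mul]
  refine Matrix.ext fun i j => PowerSeries.ext fun m => ?_
  rw [Matrix.sub_apply, Matrix.smul_apply, smul_eq_mul, map_sub]
  have hS : ∀ m, PowerSeries.coeff m
      ((M.map (PowerSeries.C : K →+* PowerSeries K) * matAinv M) i j) = (M * M ^ m) i j := by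
    intro m
    rw [Matrix.mul_apply, map_sum, Matrix.mul_apply]
    refine Finset.sum_congr rfl fun k _ => ?_
    simp [matAinv, PowerSeries.coeff_C_mul]
  cases m with
  | zero =>
    rw [PowerSeries.coeff_zero_X_mul, sub_zero]
    simp [matAinv, Matrix.one_apply]
  | succ m =>
    rw [PowerSeries.coeff_succ_X_mul, hS, ← pow_succ']
    simp [matAinv, Matrix.one_apply]
    split_ifs <;> simp

/-- `det (1 - X M)` as a power series is the coercion of `charpolyRev`. -/
theorem det_matA (M : Matrix n n K) :
    (matA M).det = ((M.charpolyRev : K[X]) : PowerSeries K) := by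
  rw [Matrix.charpolyRev, ← Polynomial.coeToPowerSeries.ringHom_apply, RingHom.map_det]
  congr 1
  refine Matrix.ext fun i j => ?_
  simp [matA, Matrix.one_apply]
  split_ifs <;> simp [mul_comm]

/-- the trace of `A⁻¹ M`. -/
theorem trace_matAinv_mul (M : Matrix n n K) :
    Matrix.trace (matAinv M * M.map (PowerSeries.C : K →+* PowerSeries K)) =
      PowerSeries.mk fun m => Matrix.trace (M ^ (m + 1)) := by
  refine PowerSeries.ext fun m => ?_
  rw [PowerSeries.coeff_mk, Matrix.trace, Matrix.trace, map_sum]
  refine Finset.sum_congr rfl fun i _ => ?_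
  rw [Matrix.diag_apply, Matrix.diag_apply, pow_succ, Matrix.mul_apply, Matrix.mul_apply, map_sum]
  refine Finset.sum_congr rfl fun k _ => ?_
  simp [matAinv, PowerSeries.coeff_mul_C]

/-- Jacobi's formula for `det (1 - X M)`. -/
theorem derivative_charpolyRev (M : Matrix n n K) :
    (((Polynomial.derivative M.charpolyRev : K[X])) : PowerSeries K) =
      -(((M.charpolyRev : K[X]) : PowerSeries K) *
        PowerSeries.mk fun m => Matrix.trace (M ^ (m + 1))) := by
  set R := PowerSeries K
  set t : R := PowerSeries.X
  -- the polynomial over `R`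
  set PR : R[X] := M.charpolyRev.map (algebraMap K R) with hPR
  have h1 : (taylor t PR).coeff 1 = ((Polynomial.derivative M.charpolyRev : K[X]) : PowerSeries K) := by
    rw [taylor_coeff_one, hPR, Polynomial.derivative_map, Polynomial.eval_map,
      PowerSeries.algebraMap_eq, Polynomial.eval₂_C_X_eq_coe]
  rw [← h1]
  -- compute `taylor t PR` as a determinant
  set MC : Matrix n n R := M.map (PowerSeries.C : K →+* PowerSeries K) with hMC
  set N : Matrix n n R := -(matAinv M * MC) with hN
  have h2 : taylor t PR = C (matA M).det * det (1 + (X : R[X]) • N.map C) := by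
    have e1 : PR = det (1 - (X : R[X]) • MC.map C) := by
      rw [hPR, Matrix.charpolyRev, ← Polynomial.coe_mapRingHom, RingHom.map_det]
      congr 1
      refine Matrix.ext fun i j => ?_
      simp [MC, Matrix.one_apply]
      split_ifs <;> simp <;> rfl
    have e2 : taylor t PR = det ((matA M).map C - (X : R[X]) • MC.map C) := by
      rw [e1, ← Polynomial.taylorAlgHom_apply, AlgHom.map_det]
      congr 1
      refine Matrix.ext fun i j => ?_
      simp [matA, MC, Matrix.one_apply, Polynomial.taylorAlgHom_apply, t]
      split_ifs <;> simp <;> ring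
    have e3 : (matA M).map C - (X : R[X]) • MC.map C =
        (matA M).map (C : R →+* R[X]) * (1 + (X : R[X]) • N.map C) := by
      have hNC : (matA M).map (C : R →+* R[X]) * N.map (C : R →+* R[X]) = -(MC.map C) := by
        rw [← Matrix.map_mul, hN, Matrix.mul_neg, ← Matrix.mul_assoc, matA_mul_matAinv,
          Matrix.one_mul]
        refine Matrix.ext fun i j => ?_
        simp
      rw [Matrix.mul_add, Matrix.mul_one, Matrix.mul_smul, hNC, smul_neg, sub_eq_add_neg]
    rw [e2, e3, Matrix.det_mul]
    congr 1
    exact (RingHom.map_det C (matA M)).symm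
  rw [h2, Polynomial.coeff_C_mul, coeff_det_one_add_X_smul_one, det_matA, hN, Matrix.trace_neg,
    trace_matAinv_mul, mul_neg]

/-- uniqueness for the differential equation `y' = y h`, `y(0) = 1`. -/
theorem eq_of_derivative_eq_mul [CharZero K] (y z h : PowerSeries K)
    (hy : PowerSeries.derivative K y = y * h) (hz : PowerSeries.derivative K z = z * h)
    (hy0 : PowerSeries.constantCoeff y = 1) (hz0 : PowerSeries.constantCoeff z = 1) : y = z := by
  have hz0' : PowerSeries.constantCoeff z ≠ 0 := by rw [hz0]; exact one_ne_zero
  have hzz : z * z⁻¹ = 1 := PowerSeries.mul_inv_cancel z hz0'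
  have key : y * z⁻¹ = 1 := by
    apply PowerSeries.derivative.ext
    · rw [Derivation.leibniz, PowerSeries.derivative_inv', hy, hz, Derivation.map_one_eq_zero,
        smul_eq_mul, smul_eq_mul]
      have : y * (-z⁻¹ ^ 2 * (z * h)) + z⁻¹ * (y * h) = (1 - z * z⁻¹) * (y * h * z⁻¹) := by ring
      rw [this, hzz, sub_self, zero_mul]
    · rw [map_mul, hy0, one_mul, map_one, PowerSeries.constantCoeff_inv, hz0, inv_one]
  calc y = y * (z * z⁻¹) := by rw [hzz, mul_one]
    _ = (y * z⁻¹) * z := by ring
    _ = z := by rw [key, one_mul]

/-- For an endomorphism φ of a finite-dimensional vector space over a field K, det(Id − tφ) = exp(−∑_{m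
≥ 1} tr(φ^m) t^m / m) as power series in t. Stated for a square matrix M, with det(1 − tM) Mathlib's
reversed characteristic polynomial, and over a field of characteristic zero (the exponential series
needs ℚ ⊆ K; this is the case in which the identity is used). -/
theorem result {K : Type u} [Field K] [CharZero K]
    {n : Type v} [Fintype n] [DecidableEq n] (M : Matrix n n K) :
    ((M.charpolyRev : Polynomial K) : PowerSeries K) =
      PowerSeries.subst (PowerSeries.mk fun m : ℕ => -(Matrix.trace (M ^ m)) / (m : K))
        (PowerSeries.exp K) := by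
  set g : PowerSeries K := PowerSeries.mk fun m : ℕ => -(Matrix.trace (M ^ m)) / (m : K) with hg
  have hg0 : PowerSeries.constantCoeff g = 0 := by
    simp [hg]
  have hgs : PowerSeries.HasSubst g := PowerSeries.HasSubst.of_constantCoeff_zero' hg0
  have hg' : PowerSeries.derivative K g =
      -(PowerSeries.mk fun m => Matrix.trace (M ^ (m + 1))) := by
    refine PowerSeries.ext fun m => ?_
    rw [PowerSeries.coeff_derivative, hg, PowerSeries.coeff_mk, map_neg, PowerSeries.coeff_mk]
    have : ((m : K) + 1) ≠ 0 := by exact_mod_cast Nat.succ_ne_zero m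
    push_cast
    field_simp
  apply eq_of_derivative_eq_mul _ _ (PowerSeries.derivative K g)
  · rw [PowerSeries.derivative_coe, derivative_charpolyRev, hg', mul_neg]
  · rw [PowerSeries.derivative_subst hgs, PowerSeries.derivative_exp]
  · rw [Polynomial.constantCoeff_coe, Polynomial.coeff_zero_eq_eval_zero]
    exact Matrix.eval_charpolyRev
  · rw [← PowerSeries.coeff_zero_eq_constantCoeff_apply, PowerSeries.coeff_subst' hgs,
      finsum_eq_single _ 0]
    · simp
    · intro d hd
      rw [PowerSeries.coeff_zero_eq_constantCoeff_apply, map_pow, hg0, zero_pow hd, smul_zero]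

end Groth.Agent.S13056
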