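import Groth.Statements.S15451
import Mathlib
import Groth.Agent.Lib.Helper97.VarProd
import Groth.Agent.Lib.Helper67.WeilCoh

set_option autoImplicit false
universe u v
open CategoryTheory AlgebraicGeometry
open WeilCoh

namespace Groth.Agent.S15451

section helpers

open Groth.Agent.Lib.Helper97.VarDim Groth.Agent.Lib.Helper97.VarPt
  Groth.Agent.Lib.Helper97.VarTrdeg Groth.Agent.Lib.Helper97.VarProd Groth.Agent.Lib.Helper67

variable {k : Type u} [Field k] [IsAlgClosed k] {K : Type v} [Field K] [CharZero K]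
  (T : WeilCoh.Theory k K)

/-- rearrangement with sign in a product -/
theorem rearr {X P : WeilCoh.Var k} (p q : P ⟶ X) (β γ : ℤ) (A B C D : T.H X)
    (hB : B ∈ T.gr X β) (hC : C ∈ T.gr X γ) :
    (T.pull p A * T.pull q B) * (T.pull p C * T.pull q D) =
      ((-1 : K) ^ (β.natAbs * γ.natAbs)) • (T.pull p (A * C) * T.pull q (B * D)) := by
  have h1 := T.gradedComm P β γ (T.pull q B) (T.pull p C) (T.pull_mem q β B hB)
    (T.pull_mem p γ C hC)
  calc (T.pull p A * T.pull q B) * (T.pull p C * T.pull q D)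
      = T.pull p A * (T.pull q B * T.pull p C) * T.pull q D := by
        simp only [mul_assoc]
    _ = T.pull p A * (((-1 : K) ^ (β.natAbs * γ.natAbs)) • (T.pull p C * T.pull q B)) *
          T.pull q D := by rw [h1]
    _ = ((-1 : K) ^ (β.natAbs * γ.natAbs)) • (T.pull p (A * C) * T.pull q (B * D)) := by
        rw [map_mul, map_mul, mul_smul_comm, smul_mul_assoc]
        simp only [mul_assoc]

theorem parity (m s n : ℕ) (h : m + s = 2 * n) : (-1 : K) ^ (m * s) = (-1 : K) ^ (m * m) := by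
  rw [neg_one_pow_eq_pow_mod_two (n := m * s), neg_one_pow_eq_pow_mod_two (n := m * m)]
  have h2 : m % 2 = s % 2 := by omega
  rw [Nat.mul_mod m s, Nat.mul_mod m m, h2]

theorem mem_of_eq {X : WeilCoh.Var k} {x : T.H X} {i j : ℤ} (h : x ∈ T.gr X i) (hij : i = j) :
    x ∈ T.gr X j := hij ▸ h

/-- core computation -/
theorem core (X P : WeilCoh.Var k) (φ : X ⟶ X) (p q : P ⟶ X)
    (hP : WeilCoh.IsProd p q)
    (ι : ℕ → Type) [∀ r, Fintype (ι r)] [∀ r, DecidableEq (ι r)]
    (e : (r : ℕ) → Module.Basis (ι r) K ↥(T.gr X (r : ℤ)))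
    (f : (r : ℕ) → ι r → ↥(T.gr X (2 * (WeilCoh.dim X.obj.left : ℤ) - r)))
    (hef : ∀ r, r ≤ 2 * WeilCoh.dim X.obj.left → ∀ i l : ι r,
      T.tr X ((f r l : T.H X) * (e r i : T.H X)) = if i = l then 1 else 0)
    (a : ℤ) (x : T.H X) (hx : x ∈ T.gr X a) (s : ℕ) (hs : s ≤ 2 * WeilCoh.dim X.obj.left)
    (l : ι s) :
    T.tr X (x * T.pull φ (e s l : T.H X)) =
      T.tr P ((∑ r ∈ Finset.range (2 * WeilCoh.dim X.obj.left + 1), ∑ i : ι r,
        T.pull p (T.pull φ (e r i : T.H X)) * T.pull q (f r i : T.H X)) *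
          (T.pull p x * T.pull q (e s l : T.H X))) := by
  classical
  have hN : (WeilCoh.dim P.obj.left : ℤ) = 2 * (WeilCoh.dim X.obj.left : ℤ) := by
    have := var_dim_prod k p q hP
    rw [this]; push_cast; ring
  set y : T.H X := (e s l : T.H X) with hy
  have hyd : y ∈ T.gr X (s : ℤ) := (e s l).2
  have hφy : T.pull φ y ∈ T.gr X (s : ℤ) := T.pull_mem φ _ _ hyd
  rw [Finset.sum_mul, map_sum]
  have hterm : ∀ (r : ℕ) (i : ι r),
      T.tr P ((T.pull p (T.pull φ (e r i : T.H X)) * T.pull q (f r i : T.H X)) *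
          (T.pull p x * T.pull q y)) =
        ((-1 : K) ^ ((2 * (WeilCoh.dim X.obj.left : ℤ) - r).natAbs * a.natAbs)) *
          T.tr P (T.pull p (T.pull φ (e r i : T.H X) * x) * T.pull q ((f r i : T.H X) * y)) := by
    intro r i
    rw [rearr T p q (2 * (WeilCoh.dim X.obj.left : ℤ) - r) a _ _ _ _ (f r i).2 hx, map_smul, smul_eq_mul]
  by_cases hcase : a + s = 2 * (WeilCoh.dim X.obj.left : ℤ)
  · -- the interesting case
    rw [Finset.sum_eq_single s]
    · rw [Finset.sum_mul, map_sum]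
      have hmain : ∀ i : ι s,
          T.tr P ((T.pull p (T.pull φ (e s i : T.H X)) * T.pull q (f s i : T.H X)) *
            (T.pull p x * T.pull q y)) =
          ((-1 : K) ^ ((2 * (WeilCoh.dim X.obj.left : ℤ) - s).natAbs * a.natAbs)) *
            (T.tr X (T.pull φ (e s i : T.H X) * x) * (if l = i then 1 else 0)) := by
        intro i
        rw [hterm s i]
        congr 1
        have hu : T.pull φ (e s i : T.H X) * x ∈ T.gr X (2 * (WeilCoh.dim X.obj.left : ℤ)) :=
          mem_of_eq T (SetLike.mul_mem_graded (T.pull_mem φ _ _ (e s i).2) hx) (by omega)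
        have hv : (f s i : T.H X) * y ∈ T.gr X (2 * (WeilCoh.dim X.obj.left : ℤ)) :=
          mem_of_eq T (SetLike.mul_mem_graded (f s i).2 hyd) (by omega)
        rw [T.tr_prod p q hP _ _ hu hv, hef s hs l i]
      rw [Finset.sum_congr rfl (fun i _ => hmain i), ← Finset.mul_sum]
      simp only [mul_ite, mul_one, mul_zero, Finset.sum_ite_eq, Finset.mem_univ, if_true]
      have hcomm := T.gradedComm X a (s : ℤ) x (T.pull φ y) hx hφy
      rw [hcomm, map_smul, smul_eq_mul]
      congr 1
      have ha : a = 2 * (WeilCoh.dim X.obj.left : ℤ) - s := by omega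
      have h1 : a.natAbs = 2 * WeilCoh.dim X.obj.left - s := by rw [ha]; omega
      have h2 : (2 * (WeilCoh.dim X.obj.left : ℤ) - s).natAbs = 2 * WeilCoh.dim X.obj.left - s := by omega
      have h3 : ((s : ℕ) : ℤ).natAbs = s := by simp
      rw [h1, h2, h3]
      exact parity (2 * WeilCoh.dim X.obj.left - s) s (WeilCoh.dim X.obj.left) (by omega)
    · intro r hr hrs
      rw [Finset.sum_mul, map_sum]
      apply Finset.sum_eq_zero
      intro i _
      rw [hterm r i]
      rw [Finset.mem_range] at hr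
      rcases lt_or_gt_of_ne hrs with hlt | hgt
      · -- r < s : second factor vanishes
        have hv : (f r i : T.H X) * y ∈ T.gr X ((2 * (WeilCoh.dim X.obj.left : ℤ) - r) + s) :=
          SetLike.mul_mem_graded (f r i).2 hyd
        rw [T.vanish X _ (Or.inr (by omega))] at hv
        rw [(Submodule.mem_bot K).mp hv, map_zero, mul_zero, map_zero, mul_zero]
      · -- r > s : first factor vanishes
        have hu : T.pull φ (e r i : T.H X) * x ∈ T.gr X ((r : ℤ) + a) :=
          SetLike.mul_mem_graded (T.pull_mem φ _ _ (e r i).2) hx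
        rw [T.vanish X _ (Or.inr (by omega))] at hu
        rw [(Submodule.mem_bot K).mp hu, map_zero, zero_mul, map_zero, mul_zero]
    · intro h
      exfalso
      apply h
      rw [Finset.mem_range]
      omega
  · -- degrees do not match: everything vanishes
    have hL : T.tr X (x * T.pull φ y) = 0 :=
      T.tr_vanish X (a + s) _ (SetLike.mul_mem_graded hx hφy) (by omega)
    rw [hL]
    symm
    apply Finset.sum_eq_zero
    intro r _
    rw [Finset.sum_mul, map_sum]
    apply Finset.sum_eq_zero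
    intro i _
    have hmem : (T.pull p (T.pull φ (e r i : T.H X)) * T.pull q (f r i : T.H X)) *
          (T.pull p x * T.pull q y) ∈
        T.gr P (((r : ℤ) + (2 * (WeilCoh.dim X.obj.left : ℤ) - r)) + (a + s)) :=
      SetLike.mul_mem_graded
        (SetLike.mul_mem_graded (T.pull_mem p _ _ (T.pull_mem φ _ _ (e r i).2))
          (T.pull_mem q _ _ (f r i).2))
        (SetLike.mul_mem_graded (T.pull_mem p _ _ hx) (T.pull_mem q _ _ hyd))
    exact T.tr_vanish P _ _ hmem (by rw [hN]; omega)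

/-- the key identity for arbitrary classes -/
theorem star (X P : WeilCoh.Var k) (φ : X ⟶ X) (p q : P ⟶ X)
    (hP : WeilCoh.IsProd p q)
    (ι : ℕ → Type) [∀ r, Fintype (ι r)] [∀ r, DecidableEq (ι r)]
    (e : (r : ℕ) → Module.Basis (ι r) K ↥(T.gr X (r : ℤ)))
    (f : (r : ℕ) → ι r → ↥(T.gr X (2 * (WeilCoh.dim X.obj.left : ℤ) - r)))
    (hef : ∀ r, r ≤ 2 * WeilCoh.dim X.obj.left → ∀ i l : ι r,
      T.tr X ((f r l : T.H X) * (e r i : T.H X)) = if i = l then 1 else 0)
    (x y : T.H X) :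
    T.tr X (x * T.pull φ y) =
      T.tr P ((∑ r ∈ Finset.range (2 * WeilCoh.dim X.obj.left + 1), ∑ i : ι r,
        T.pull p (T.pull φ (e r i : T.H X)) * T.pull q (f r i : T.H X)) *
          (T.pull p x * T.pull q y)) := by
  classical
  set R : T.H P := ∑ r ∈ Finset.range (2 * WeilCoh.dim X.obj.left + 1), ∑ i : ι r,
        T.pull p (T.pull φ (e r i : T.H X)) * T.pull q (f r i : T.H X) with hR
  -- homogeneous x, arbitrary y
  have hhom : ∀ (a : ℤ) (x : T.H X), x ∈ T.gr X a → ∀ y : T.H X,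
      T.tr X (x * T.pull φ y) = T.tr P (R * (T.pull p x * T.pull q y)) := by
    intro a x hx y
    let A : T.H X →ₗ[K] K := (T.tr X) ∘ₗ (LinearMap.mulLeft K x) ∘ₗ (T.pull φ).toLinearMap
    let B : T.H X →ₗ[K] K :=
      (T.tr P) ∘ₗ (LinearMap.mulLeft K (R * T.pull p x)) ∘ₗ (T.pull q).toLinearMap
    have hA : ∀ y, A y = T.tr X (x * T.pull φ y) := fun y => rfl
    have hB : ∀ y, B y = T.tr P (R * (T.pull p x * T.pull q y)) := by
      intro y
      show T.tr P ((R * T.pull p x) * T.pull q y) = _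
      rw [mul_assoc]
    rw [← hA, ← hB]
    have hy : y ∈ ⨆ i, T.gr X i := by
      rw [(T.decomp X).submodule_iSup_eq_top]; trivial
    refine Submodule.iSup_induction (T.gr X) (motive := fun y => A y = B y) hy ?_ ?_ ?_
    · intro i z hz
      by_cases hi : i < 0 ∨ 2 * (WeilCoh.dim X.obj.left : ℤ) < i
      · rw [T.vanish X i hi] at hz
        rw [(Submodule.mem_bot K).mp hz, map_zero, map_zero]
      · have hi' : 0 ≤ i ∧ i ≤ 2 * (WeilCoh.dim X.obj.left : ℤ) := by omega
        obtain ⟨s, rfl⟩ := Int.eq_ofNat_of_zero_le hi'.1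
        have hs : s ≤ 2 * WeilCoh.dim X.obj.left := by omega
        have hrepr := (e s).sum_repr ⟨z, hz⟩
        have hz' : z = ∑ l : ι s, ((e s).repr ⟨z, hz⟩ l) • ((e s l : T.gr X (s : ℤ)) : T.H X) := by
          have := congrArg (Subtype.val) hrepr
          simp only [Submodule.coe_sum, Submodule.coe_smul] at this
          exact this.symm
        rw [hz', map_sum, map_sum]
        apply Finset.sum_congr rfl
        intro l _
        rw [map_smul, map_smul, hA, hB]
        congr 1
        exact core T X P φ p q hP ι e f hef a x hx s hs l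
    · rw [map_zero, map_zero]
    · intro y₁ y₂ h₁ h₂
      rw [map_add, map_add, h₁, h₂]
  -- arbitrary x
  let A' : T.H X →ₗ[K] K := (T.tr X) ∘ₗ (LinearMap.mulRight K (T.pull φ y))
  let B' : T.H X →ₗ[K] K :=
    (T.tr P) ∘ₗ (LinearMap.mulLeft K R) ∘ₗ (LinearMap.mulRight K (T.pull q y)) ∘ₗ
      (T.pull p).toLinearMap
  have hA' : ∀ x, A' x = T.tr X (x * T.pull φ y) := fun x => rfl
  have hB' : ∀ x, B' x = T.tr P (R * (T.pull p x * T.pull q y)) := fun x => rfl
  rw [← hA', ← hB']
  have hx : x ∈ ⨆ i, T.gr X i := by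
    rw [(T.decomp X).submodule_iSup_eq_top]; trivial
  refine Submodule.iSup_induction (T.gr X) (motive := fun x => A' x = B' x) hx ?_ ?_ ?_
  · intro a z hz
    rw [hA', hB']
    exact hhom a z hz y
  · rw [map_zero, map_zero]
  · intro x₁ x₂ h₁ h₂
    rw [map_add, map_add, h₁, h₂]


end helpers


/-- Let H^* be a Weil cohomology theory (coefficients in K of characteristic zero, on nonsingular
connected projective varieties over an algebraically closed field k), φ an endomorphism of such a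
variety X of dimension n, p, q the projections of X × X and Γ_φ the graph of φ. If (e^r_i)_i is a
basis of H^r(X) and (f^{2n−r}_i)_i the dual basis of H^{2n−r}(X) for Poincaré duality,
Tr_X(f^{2n−r}_ℓ ∪ e^r_i) = δ_{i,ℓ}, for every 0 ≤ r ≤ 2n, then cl(Γ_φ) = Σ_{r=0}^{2n} Σ_i
p^*(φ^*(e^r_i)) ∪ q^*(f^{2n−r}_i) in H^{2n}(X × X). Here X × X is any object P with a cartesian
square p, q : P → X over Spec k, Γ_φ is the closure of the image of the generic point of X under the
section j = (id, φ) of p, and the f^{2n−r}_i are any family satisfying the duality relations. -/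
theorem result (k : Type u) [Field k] [IsAlgClosed k] (K : Type v) [Field K] [CharZero K]
    (T : WeilCoh.Theory k K)
    (X P : WeilCoh.Var k) [IrreducibleSpace ↥X.obj.left] (φ : X ⟶ X)
    (p q : P ⟶ X) (hP : WeilCoh.IsProd p q) (j : X ⟶ P) (hjp : j ≫ p = 𝟙 X) (hjq : j ≫ q = φ)
    (ι : ℕ → Type) [∀ r, Fintype (ι r)] [∀ r, DecidableEq (ι r)]
    (e : (r : ℕ) → Module.Basis (ι r) K ↥(T.gr X (r : ℤ)))
    (f : (r : ℕ) → ι r → ↥(T.gr X (2 * (WeilCoh.dim X.obj.left : ℤ) - r)))
    (hef : ∀ r, r ≤ 2 * WeilCoh.dim X.obj.left → ∀ i l : ι r,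
      T.tr X ((f r l : T.H X) * (e r i : T.H X)) = if i = l then 1 else 0) :
    T.cl P (WeilCoh.sm j (genericPoint ↥X.obj.left)) =
      ∑ r ∈ Finset.range (2 * WeilCoh.dim X.obj.left + 1), ∑ i : ι r,
        T.pull p (T.pull φ (e r i : T.H X)) * T.pull q (f r i : T.H X) := by
  classical
  set η := genericPoint ↥X.obj.left with hη
  have hsepP : IsSeparated P.obj.hom := Groth.Agent.Lib.Helper97.VarDim.var_isSeparated k P
  have hsepp : IsSeparated (WeilCoh.sm p) := by
    have h1 : WeilCoh.sm p ≫ X.obj.hom = P.obj.hom := Over.w p.hom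
    have : IsSeparated (WeilCoh.sm p ≫ X.obj.hom) := by rw [h1]; exact hsepP
    exact IsSeparated.of_comp (WeilCoh.sm p) X.obj.hom
  have hjp' : WeilCoh.sm j ≫ WeilCoh.sm p = 𝟙 X.obj.left := by
    have := congrArg (fun ψ => WeilCoh.sm ψ) hjp
    exact this
  have hci : IsClosedImmersion (WeilCoh.sm j) := by
    have : IsClosedImmersion (WeilCoh.sm j ≫ WeilCoh.sm p) := by rw [hjp']; infer_instance
    exact IsClosedImmersion.of_comp (WeilCoh.sm j) (WeilCoh.sm p)
  have hπ : WeilCoh.pdim P.obj.left (WeilCoh.sm j η) = WeilCoh.dim X.obj.left := by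
    rw [Groth.Agent.Lib.Helper97.VarDim.pdim_map_of_isClosedImmersion (WeilCoh.sm j) η,
      Groth.Agent.Lib.Helper97.VarPt.pdim_genericPoint]
  have hdeg : (WeilCoh.sm j).residueDegree η = 1 :=
    Groth.Agent.Lib.Helper97.VarDim.residueDegree_of_isClosedImmersion (WeilCoh.sm j) η
  have hN : WeilCoh.dim P.obj.left = WeilCoh.dim X.obj.left + WeilCoh.dim X.obj.left :=
    Groth.Agent.Lib.Helper97.VarProd.var_dim_prod k p q hP
  have hcP : (WeilCoh.codim P.obj.left (WeilCoh.sm j η) : ℤ) = (WeilCoh.dim X.obj.left : ℤ) := by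
    unfold WeilCoh.codim
    rw [hπ, hN]
    omega
  have hclX : T.cl X η = 1 := Groth.Agent.Lib.Helper97.VarPt.cl_genericPoint k T X
  have hcl : T.cl P (WeilCoh.sm j η) ∈ T.gr P (2 * (WeilCoh.dim X.obj.left : ℤ)) :=
    mem_of_eq T (T.cl_mem P _) (by rw [hcP])
  have hR : (∑ r ∈ Finset.range (2 * WeilCoh.dim X.obj.left + 1), ∑ i : ι r,
        T.pull p (T.pull φ (e r i : T.H X)) * T.pull q (f r i : T.H X)) ∈
      T.gr P (2 * (WeilCoh.dim X.obj.left : ℤ)) := by
    refine Submodule.sum_mem _ (fun r _ => Submodule.sum_mem _ (fun i _ => ?_))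
    exact mem_of_eq T (SetLike.mul_mem_graded (T.pull_mem p _ _ (T.pull_mem φ _ _ (e r i).2))
      (T.pull_mem q _ _ (f r i).2)) (by ring)
  have hpj : ∀ x : T.H X, T.pull j (T.pull p x) = x := by
    intro x
    have h1 := T.pull_comp j p
    rw [hjp, T.pull_id] at h1
    exact (congrArg (fun ψ => ψ x) h1).symm
  have hqj : ∀ y : T.H X, T.pull j (T.pull q y) = T.pull φ y := by
    intro y
    have h1 := T.pull_comp j q
    rw [hjq] at h1
    exact (congrArg (fun ψ => ψ y) h1).symm
  have hM : ∀ c : T.H P, T.tr P (T.cl P (WeilCoh.sm j η) * c) =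
      T.tr P ((∑ r ∈ Finset.range (2 * WeilCoh.dim X.obj.left + 1), ∑ i : ι r,
        T.pull p (T.pull φ (e r i : T.H X)) * T.pull q (f r i : T.H X)) * c) := by
    intro c
    obtain ⟨t, rfl⟩ := (T.kunneth p q hP).2 c
    induction t using TensorProduct.induction_on with
    | zero => simp
    | tmul x y =>
      have hk : WeilCoh.kunnethMap K (T.pull p) (T.pull q) (x ⊗ₜ[K] y) =
          T.pull p x * T.pull q y := rfl
      rw [hk, ← star T X P φ p q hP ι e f hef x y]
      have h := Groth.Agent.Lib.Helper97.VarTrdeg.tr_cl_mul_pull k T j η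
        (T.pull p x * T.pull q y)
      rw [hdeg, Nat.cast_one, one_mul, hclX, one_mul, map_mul, hpj x, hqj y] at h
      exact h.symm
    | add t₁ t₂ h₁ h₂ =>
      rw [map_add, mul_add, mul_add, map_add, map_add, h₁, h₂]
  refine Groth.Agent.Lib.Helper67.eq_of_forall_tr_mul_eq T P (2 * (WeilCoh.dim X.obj.left : ℤ))
    (2 * (WeilCoh.dim P.obj.left : ℤ) - 2 * (WeilCoh.dim X.obj.left : ℤ)) (by ring) _ _ hcl hR ?_
  intro c _
  exact hM c

end Groth.Agent.S15451
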