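import Groth.Statements.S15450
import Mathlib
import Groth.Agent.Lib.Helper97.VarProd
import Groth.Agent.Lib.Helper67.WeilCoh
import Groth.Agent.S15451

set_option autoImplicit false
universe u v
open CategoryTheory AlgebraicGeometry
open WeilCoh

namespace Groth.Agent.S15450

section helpers

variable {k : Type u} [Field k] [IsAlgClosed k] {K : Type v} [Field K] [CharZero K]
  (T : WeilCoh.Theory k K)

/-- dual family to a basis under Poincaré duality -/
theorem exists_dual (X : WeilCoh.Var k) (r : ℕ) (ι : Type) [Fintype ι] [DecidableEq ι]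
    (e : Module.Basis ι K ↥(T.gr X (r : ℤ))) :
    ∃ f : ι → ↥(T.gr X (2 * (WeilCoh.dim X.obj.left : ℤ) - r)), ∀ i l : ι,
      T.tr X ((f l : T.H X) * (e i : T.H X)) = if i = l then 1 else 0 := by
  classical
  have hperf := T.duality X (2 * (WeilCoh.dim X.obj.left : ℤ) - r) (r : ℤ) (by ring)
  have hsurj := (LinearMap.IsPerfPair.bijective_left
    (WeilCoh.pairing K (T.gr X (2 * (WeilCoh.dim X.obj.left : ℤ) - r)) (T.gr X (r : ℤ)) (T.tr X))).2
  choose f hf using fun l : ι => hsurj (e.coord l)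
  refine ⟨f, fun i l => ?_⟩
  have h1 := congrArg (fun ψ => ψ (e i)) (hf l)
  simp only [Groth.Agent.Lib.Helper67.pairing_apply] at h1
  rw [h1, Module.Basis.coord_apply, Module.Basis.repr_self, Finsupp.single_apply]

/-- the trace of φ^* on H^r through a basis and its dual family -/
theorem trace_eq (X : WeilCoh.Var k) (φ : X ⟶ X) (r : ℕ) (ι : Type) [Fintype ι] [DecidableEq ι]
    (e : Module.Basis ι K ↥(T.gr X (r : ℤ)))
    (f : ι → ↥(T.gr X (2 * (WeilCoh.dim X.obj.left : ℤ) - r)))
    (hef : ∀ i l : ι, T.tr X ((f l : T.H X) * (e i : T.H X)) = if i = l then 1 else 0) :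
    ∑ i, T.tr X ((f i : T.H X) * T.pull φ (e i : T.H X)) =
      LinearMap.trace K ↥(T.gr X (r : ℤ)) (T.pullDeg φ (r : ℤ)) := by
  classical
  rw [LinearMap.trace_eq_matrix_trace K e, Matrix.trace]
  apply Finset.sum_congr rfl
  intro i _
  rw [Matrix.diag_apply, LinearMap.toMatrix_apply]
  have hrepr := e.sum_repr (T.pullDeg φ (r : ℤ) (e i))
  have h1 : T.pull φ (e i : T.H X) =
      ∑ l, (e.repr (T.pullDeg φ (r : ℤ) (e i)) l) • ((e l : ↥(T.gr X (r : ℤ))) : T.H X) := by
    have := congrArg Subtype.val hrepr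
    simp only [Submodule.coe_sum, Submodule.coe_smul] at this
    exact this.symm
  rw [h1, Finset.mul_sum, map_sum]
  simp only [mul_smul_comm, map_smul, smul_eq_mul, hef]
  simp

theorem parity' (r n : ℕ) (h : r ≤ 2 * n) : (-1 : K) ^ (r * (2 * n - r)) = (-1 : K) ^ r := by
  rw [neg_one_pow_eq_pow_mod_two (n := r * (2 * n - r)), neg_one_pow_eq_pow_mod_two (n := r)]
  have h2 : (2 * n - r) % 2 = r % 2 := by omega
  rw [Nat.mul_mod, h2, ← Nat.mul_mod]
  congr 1
  rcases Nat.mod_two_eq_zero_or_one r with h0 | h1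
  · rw [Nat.mul_mod, h0]
  · rw [Nat.mul_mod, h1]

end helpers


/-- Let H^* be a Weil cohomology theory (coefficients in K of characteristic zero, on nonsingular
connected projective varieties over an algebraically closed field k), φ an endomorphism of such a
variety X, and Γ_φ, Δ ⊂ X × X the graph of φ and the diagonal. Then (Γ_φ · Δ) = Σ_{i=0}^{2 dim X}
(−1)^i trace(φ^* | H^i(X)). The intersection number is written in the form Tr_{X×X}(cl(Γ_φ) ∪ cl(Δ))
that the argument establishes (it equals the Chow-ring intersection number once the cycle class map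
is known to be a ring homomorphism compatible with degrees); X × X is any object P with a cartesian
square p, q : P → X over Spec k, Γ_φ and Δ are the closures of the images of the generic point of X
under the sections j = (id, φ) and d = (id, id) of p. -/
theorem result (k : Type u) [Field k] [IsAlgClosed k] (K : Type v) [Field K] [CharZero K]
    (T : WeilCoh.Theory k K)
    (X P : WeilCoh.Var k) [IrreducibleSpace ↥X.obj.left] (φ : X ⟶ X)
    (p q : P ⟶ X) (hP : WeilCoh.IsProd p q) (j d : X ⟶ P)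
    (hjp : j ≫ p = 𝟙 X) (hjq : j ≫ q = φ) (hdp : d ≫ p = 𝟙 X) (hdq : d ≫ q = 𝟙 X) :
    T.tr P (T.cl P (WeilCoh.sm j (genericPoint ↥X.obj.left)) * T.cl P (WeilCoh.sm d (genericPoint ↥X.obj.left))) =
      ∑ i ∈ Finset.range (2 * WeilCoh.dim X.obj.left + 1),
        (-1 : K) ^ i * LinearMap.trace K ↥(T.gr X (i : ℤ)) (T.pullDeg φ (i : ℤ)) := by
  classical
  set η := genericPoint ↥X.obj.left with hη
  -- bases and dual families
  let ι : ℕ → Type := fun r => Fin (Module.finrank K ↥(T.gr X (r : ℤ)))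
  let e : (r : ℕ) → Module.Basis (ι r) K ↥(T.gr X (r : ℤ)) := fun r =>
    Module.finBasis K ↥(T.gr X (r : ℤ))
  choose f hf using fun r : ℕ => exists_dual T X r (ι r) (e r)
  have hcl := Groth.Agent.S15451.result k K T X P φ p q hP j hjp hjq ι e f
    (fun r _ i l => hf r i l)
  -- facts on the diagonal
  have hsepP : IsSeparated P.obj.hom := Groth.Agent.Lib.Helper97.VarDim.var_isSeparated k P
  have hsepp : IsSeparated (WeilCoh.sm p) := by
    have h1 : WeilCoh.sm p ≫ X.obj.hom = P.obj.hom := Over.w p.hom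
    have : IsSeparated (WeilCoh.sm p ≫ X.obj.hom) := by rw [h1]; exact hsepP
    exact IsSeparated.of_comp (WeilCoh.sm p) X.obj.hom
  have hdp' : WeilCoh.sm d ≫ WeilCoh.sm p = 𝟙 X.obj.left := by
    have := congrArg (fun ψ => WeilCoh.sm ψ) hdp
    exact this
  have hjp' : WeilCoh.sm j ≫ WeilCoh.sm p = 𝟙 X.obj.left := by
    have := congrArg (fun ψ => WeilCoh.sm ψ) hjp
    exact this
  have hcid : IsClosedImmersion (WeilCoh.sm d) := by
    have : IsClosedImmersion (WeilCoh.sm d ≫ WeilCoh.sm p) := by rw [hdp']; infer_instance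
    exact IsClosedImmersion.of_comp (WeilCoh.sm d) (WeilCoh.sm p)
  have hcij : IsClosedImmersion (WeilCoh.sm j) := by
    have : IsClosedImmersion (WeilCoh.sm j ≫ WeilCoh.sm p) := by rw [hjp']; infer_instance
    exact IsClosedImmersion.of_comp (WeilCoh.sm j) (WeilCoh.sm p)
  have hdeg : (WeilCoh.sm d).residueDegree η = 1 :=
    Groth.Agent.Lib.Helper97.VarDim.residueDegree_of_isClosedImmersion (WeilCoh.sm d) η
  have hN : WeilCoh.dim P.obj.left = WeilCoh.dim X.obj.left + WeilCoh.dim X.obj.left :=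
    Groth.Agent.Lib.Helper97.VarProd.var_dim_prod k p q hP
  have hclX : T.cl X η = 1 := Groth.Agent.Lib.Helper97.VarPt.cl_genericPoint k T X
  have hcodim : ∀ g : X ⟶ P, IsClosedImmersion (WeilCoh.sm g) →
      T.cl P (WeilCoh.sm g η) ∈ T.gr P (2 * (WeilCoh.dim X.obj.left : ℤ)) := by
    intro g hg
    have hπ : WeilCoh.pdim P.obj.left (WeilCoh.sm g η) = WeilCoh.dim X.obj.left := by
      rw [Groth.Agent.Lib.Helper97.VarDim.pdim_map_of_isClosedImmersion (WeilCoh.sm g) η,
        Groth.Agent.Lib.Helper97.VarPt.pdim_genericPoint]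
    have hcP : (WeilCoh.codim P.obj.left (WeilCoh.sm g η) : ℤ) = (WeilCoh.dim X.obj.left : ℤ) := by
      unfold WeilCoh.codim
      rw [hπ, hN]
      omega
    exact Groth.Agent.S15451.mem_of_eq T (T.cl_mem P _) (by rw [hcP])
  -- commute the two classes
  have hcomm := T.gradedComm P _ _ _ _ (hcodim j hcij) (hcodim d hcid)
  have hsign : ((-1 : K) ^ ((2 * (WeilCoh.dim X.obj.left : ℤ)).natAbs *
      (2 * (WeilCoh.dim X.obj.left : ℤ)).natAbs)) = 1 := by
    have : (2 * (WeilCoh.dim X.obj.left : ℤ)).natAbs = 2 * WeilCoh.dim X.obj.left := by omega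
    rw [this, mul_assoc, pow_mul]
    simp
  rw [hsign, one_smul] at hcomm
  rw [hcomm]
  -- push to X along d
  have h := Groth.Agent.Lib.Helper97.VarTrdeg.tr_cl_mul_pull k T d η
    (T.cl P (WeilCoh.sm j η))
  rw [hdeg, Nat.cast_one, one_mul, hclX, one_mul] at h
  rw [← h, hcl, map_sum, map_sum]
  have hpd : ∀ x : T.H X, T.pull d (T.pull p x) = x := by
    intro x
    have h1 := T.pull_comp d p
    rw [hdp, T.pull_id] at h1
    exact (congrArg (fun ψ => ψ x) h1).symm
  have hqd : ∀ y : T.H X, T.pull d (T.pull q y) = y := by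
    intro y
    have h1 := T.pull_comp d q
    rw [hdq, T.pull_id] at h1
    exact (congrArg (fun ψ => ψ y) h1).symm
  apply Finset.sum_congr rfl
  intro r hr
  rw [Finset.mem_range] at hr
  rw [map_sum, map_sum, ← trace_eq T X φ r (ι r) (e r) (f r) (hf r), Finset.mul_sum]
  apply Finset.sum_congr rfl
  intro i _
  rw [map_mul, hpd, hqd]
  have hc := T.gradedComm X (r : ℤ) (2 * (WeilCoh.dim X.obj.left : ℤ) - r)
    (T.pull φ (e r i : T.H X)) (f r i : T.H X) (T.pull_mem φ _ _ (e r i).2) (f r i).2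
  rw [hc, map_smul, smul_eq_mul]
  congr 1
  have h1 : ((r : ℕ) : ℤ).natAbs = r := by simp
  have h2 : (2 * (WeilCoh.dim X.obj.left : ℤ) - r).natAbs = 2 * WeilCoh.dim X.obj.left - r := by
    omega
  rw [h1, h2]
  exact parity' r (WeilCoh.dim X.obj.left) (by omega)

end Groth.Agent.S15450
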