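import Groth.Statements.S1965
import Mathlib

set_option autoImplicit false
universe u
open Polynomial
open EtAlg

namespace Groth.Agent.S1965


section helpers
open Polynomial IsLocalRing

/-- Hensel's lemma (Newton's method) in an adically complete ring, without monicity
(the Mathlib proof of `IsAdicComplete.henselianRing` never uses monicity). -/
theorem hensel_nonmonic (R : Type*) [CommRing R] (I : Ideal R) [IsAdicComplete I R]
    (f : R[X]) (a₀ : R) (h₁ : f.eval a₀ ∈ I)
    (h₂ : IsUnit (Ideal.Quotient.mk I (f.derivative.eval a₀))) :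
    ∃ a : R, f.IsRoot a ∧ a - a₀ ∈ I := by
  classical
  let f' := derivative f
  let c : ℕ → R := fun n => Nat.recOn n a₀ fun _ b => b - f.eval b * Ring.inverse (f'.eval b)
  have hc : ∀ n, c (n + 1) = c n - f.eval (c n) * Ring.inverse (f'.eval (c n)) := by
    intro n
    simp only [c]
  have hc_mod : ∀ n, c n ≡ a₀ [SMOD I] := by
    intro n
    induction n with
    | zero => rfl
    | succ n ih => ?_
    rw [hc, sub_eq_add_neg, ← add_zero a₀]
    refine ih.add ?_
    rw [SModEq.zero, Ideal.neg_mem_iff]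
    refine I.mul_mem_right _ ?_
    rw [← SModEq.zero] at h₁ ⊢
    exact (ih.eval f).trans h₁
  have hf'c : ∀ n, IsUnit (f'.eval (c n)) := by
    intro n
    have := isLocalHom_of_le_jacobson_bot I (IsAdicComplete.le_jacobson_bot I)
    apply IsUnit.of_map (Ideal.Quotient.mk I)
    convert h₂ using 1
    exact SModEq.def.mp ((hc_mod n).eval _)
  have hfcI : ∀ n, f.eval (c n) ∈ I ^ (n + 1) := by
    intro n
    induction n with
    | zero => rw [zero_add, pow_one]; exact h₁
    | succ n ih => ?_
    rw [← taylor_eval_sub (c n), hc, sub_eq_add_neg, sub_eq_add_neg,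
      add_neg_cancel_comm]
    rw [eval_eq_sum, sum_over_range' _ _ _ (lt_add_of_pos_right _ zero_lt_two), ←
      Finset.sum_range_add_sum_Ico _ (Nat.le_add_left _ _)]
    swap
    · intro i
      rw [zero_mul]
    refine Ideal.add_mem _ ?_ ?_
    · rw [← one_add_one_eq_two, Finset.sum_range_succ, Finset.range_one, Finset.sum_singleton,
        taylor_coeff_zero, taylor_coeff_one, pow_zero, pow_one, mul_one, mul_neg,
        mul_left_comm, Ring.mul_inverse_cancel _ (hf'c n), mul_one, add_neg_cancel]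
      exact Ideal.zero_mem _
    · refine Submodule.sum_mem _ ?_
      simp only [Finset.mem_Ico]
      rintro i ⟨h2i, _⟩
      have aux : n + 2 ≤ i * (n + 1) := by trans 2 * (n + 1) <;> nlinarith only [h2i]
      refine Ideal.mul_mem_left _ _ (Ideal.pow_le_pow_right aux ?_)
      rw [pow_mul']
      exact Ideal.pow_mem_pow ((Ideal.neg_mem_iff _).2 <| Ideal.mul_mem_right _ _ ih) _
  have aux : ∀ m n, m ≤ n → c m ≡ c n [SMOD (I ^ m • ⊤ : Ideal R)] := by
    intro m n hmn
    rw [← Ideal.one_eq_top, Ideal.smul_eq_mul, mul_one]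
    obtain ⟨k, rfl⟩ := Nat.exists_eq_add_of_le hmn
    clear hmn
    induction k with
    | zero => rw [add_zero]
    | succ k ih => ?_
    rw [← add_assoc, hc, ← add_zero (c m), sub_eq_add_neg]
    refine ih.add ?_
    symm
    rw [SModEq.zero, Ideal.neg_mem_iff]
    refine Ideal.mul_mem_right _ _ (Ideal.pow_le_pow_right ?_ (hfcI _))
    rw [add_assoc]
    exact le_self_add
  obtain ⟨a, ha⟩ := IsPrecomplete.prec' c (aux _ _)
  refine ⟨a, ?_, ?_⟩
  · show f.IsRoot a
    suffices ∀ n, f.eval a ≡ 0 [SMOD (I ^ n • ⊤ : Ideal R)] by exact IsHausdorff.haus' _ this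
    intro n
    specialize ha n
    rw [← Ideal.one_eq_top, Ideal.smul_eq_mul, mul_one] at ha ⊢
    refine (ha.symm.eval f).trans ?_
    rw [SModEq.zero]
    exact Ideal.pow_le_pow_right le_self_add (hfcI _)
  · show a - a₀ ∈ I
    specialize ha (0 + 1)
    rw [hc, pow_one, ← Ideal.one_eq_top, Ideal.smul_eq_mul, mul_one, sub_eq_add_neg] at ha
    rw [← SModEq.sub_mem, ← add_zero a₀]
    refine ha.symm.trans (SModEq.rfl.add ?_)
    rw [SModEq.zero, Ideal.neg_mem_iff]
    exact Ideal.mul_mem_right _ _ h₁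


/-- in a one-dimensional Noetherian local domain every nonzero principal ideal contains a power of
the maximal ideal -/
theorem exists_pow_le_span {A : Type*} [CommRing A] [IsDomain A] [IsLocalRing A]
    [IsNoetherianRing A] (hdim : ringKrullDim A = 1) {b : A} (hb : b ≠ 0) :
    ∃ N : ℕ, maximalIdeal A ^ N ≤ Ideal.span {b} := by
  have hK : Ring.KrullDimLE 1 A := Ring.krullDimLE_iff.mpr (by rw [hdim]; rfl)
  have hmax := Ring.krullDimLE_one_iff_of_noZeroDivisors.mp hK
  apply Ideal.exists_pow_le_of_le_radical_of_fg _ (IsNoetherian.noetherian _)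
  rw [Ideal.radical_eq_sInf]
  apply le_sInf
  rintro p ⟨hbp, hp⟩
  have hp0 : p ≠ ⊥ := by
    rintro rfl
    exact hb (by simpa using hbp (Ideal.subset_span rfl))
  rw [IsLocalRing.eq_maximalIdeal (hmax p hp0 hp)]

theorem eval_mem_of_coeff_mem {A : Type*} [CommRing A] (J : Ideal A) (Q : A[X])
    (hQ : ∀ i, Q.coeff i ∈ J) (x : A) : Q.eval x ∈ J := by
  rw [eval_eq_sum_range]
  exact Ideal.sum_mem _ fun i _ => Ideal.mul_mem_right _ _ (hQ i)

theorem derivative_coeff_mem {A : Type*} [CommRing A] (J : Ideal A) (Q : A[X])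
    (hQ : ∀ i, Q.coeff i ∈ J) (i : ℕ) : (derivative Q).coeff i ∈ J := by
  rw [coeff_derivative]
  exact Ideal.mul_mem_right _ _ (hQ _)

/-- Newton–Hensel with non-unit derivative: if `F(α) = d² e` with `d = F'(α)` and `e ∈ m ^ c`,
`1 ≤ c`, then `F` has a root `β` with `β - α ∈ m ^ c`. -/
theorem exists_root_of_eval_eq {A : Type*} [CommRing A] [IsLocalRing A]
    [IsAdicComplete (maximalIdeal A) A] (F : A[X]) (α e : A) (c : ℕ) (hc : 1 ≤ c)
    (he : e ∈ maximalIdeal A ^ c)
    (hF : F.eval α = (derivative F).eval α ^ 2 * e) :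
    ∃ β : A, F.eval β = 0 ∧ β - α ∈ maximalIdeal A ^ c := by
  classical
  set d := (derivative F).eval α with hd
  set a : ℕ → A := fun k => (taylor α F).coeff k with ha
  have ha0 : a 0 = d ^ 2 * e := by rw [ha]; simp only; rw [taylor_coeff_zero, hF]
  have ha1 : a 1 = d := by rw [ha]; simp only; rw [taylor_coeff_one]
  set D := F.natDegree with hD
  set G : A[X] := ∑ k ∈ Finset.range D, C (a (k + 2) * d ^ k) * X ^ k with hG
  set H : A[X] := C e + X * (1 + X * G) with hH
  have hem : e ∈ maximalIdeal A := Ideal.pow_le_self (by omega) he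
  have hH0 : H.eval 0 = e := by simp [hH]
  have hH0' : (derivative H).eval 0 = 1 := by simp [hH]
  obtain ⟨t, ht, htm⟩ := hensel_nonmonic A (maximalIdeal A) H 0 (by rw [hH0]; exact hem)
    (by rw [hH0', map_one]; exact isUnit_one)
  rw [sub_zero] at htm
  have hHt : e + t * (1 + t * G.eval t) = 0 := by
    have : H.eval t = 0 := ht
    simpa [hH] using this
  -- `t ∈ m ^ c`
  have hunit : IsUnit (1 + t * G.eval t) := by
    rw [← IsLocalRing.notMem_maximalIdeal]
    intro h
    have h1 : (1 : A) ∈ maximalIdeal A := by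
      have := Ideal.sub_mem _ h (Ideal.mul_mem_right (G.eval t) _ htm)
      simpa using this
    exact (Ideal.ne_top_iff_one _).mp (maximalIdeal.isMaximal A).ne_top h1
  obtain ⟨w, hw⟩ := isUnit_iff_exists_inv.mp hunit
  have htc : t ∈ maximalIdeal A ^ c := by
    have : t = -(e * w) := by
      have h2 : t * (1 + t * G.eval t) = -e := by linear_combination hHt
      calc t = t * ((1 + t * G.eval t) * w) := by rw [hw, mul_one]
        _ = (t * (1 + t * G.eval t)) * w := by ring
        _ = -(e * w) := by rw [h2]; ring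
    rw [this]
    exact (Ideal.neg_mem_iff _).mpr (Ideal.mul_mem_right _ _ he)
  refine ⟨α + d * t, ?_, ?_⟩
  · -- Taylor expansion
    have h1 : F.eval (α + d * t) = (taylor α F).eval (d * t) := by
      rw [taylor_eval, add_comm]
    have hdeg : (taylor α F).natDegree < D + 2 := by
      rw [natDegree_taylor]; omega
    rw [h1, eval_eq_sum_range' hdeg, Finset.sum_range_succ', Finset.sum_range_succ']
    have hGt : G.eval t = ∑ k ∈ Finset.range D, a (k + 2) * d ^ k * t ^ k := by
      rw [hG, eval_finsetSum]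
      refine Finset.sum_congr rfl fun k _ => ?_
      simp
    have h2 : ∑ k ∈ Finset.range D, (taylor α F).coeff (k + 1 + 1) * (d * t) ^ (k + 1 + 1)
        = d ^ 2 * t ^ 2 * G.eval t := by
      rw [hGt, Finset.mul_sum]
      refine Finset.sum_congr rfl fun k _ => ?_
      show a (k + 2) * (d * t) ^ (k + 1 + 1) = _
      ring
    rw [h2]
    have h3 : (taylor α F).coeff (0 + 1) = d := ha1
    have h4 : (taylor α F).coeff 0 = d ^ 2 * e := ha0
    rw [h3, h4]
    linear_combination d ^ 2 * hHt
  · have : α + d * t - α = d * t := by ring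
    rw [this]
    exact Ideal.mul_mem_left _ _ htc

end helpers

/-- Let A be a complete Noetherian local domain of Krull dimension 1 with maximal ideal m, P a
polynomial over A and α a root of P which is not a root of the derivative P'. Then for every c there
is an n such that for every polynomial Q all of whose coefficients lie in m^n, the polynomial P + Q
has a root β with β - α in m^c. -/
theorem result (A : Type u) [CommRing A] [IsDomain A] [IsLocalRing A] [IsNoetherianRing A]
    [IsAdicComplete (IsLocalRing.maximalIdeal A) A] (hdim : ringKrullDim A = 1) (P : A[X]) (α : A)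
    (hα : P.eval α = 0) (hα' : (derivative P).eval α ≠ 0) (c : ℕ) :
    ∃ n : ℕ, ∀ Q : A[X], (∀ i, Q.coeff i ∈ IsLocalRing.maximalIdeal A ^ n) →
      ∃ β : A, (P + Q).eval β = 0 ∧ β - α ∈ IsLocalRing.maximalIdeal A ^ c := by
  classical
  set m := IsLocalRing.maximalIdeal A with hm
  set d₀ := (derivative P).eval α with hd₀
  obtain ⟨N, hN⟩ := exists_pow_le_span hdim (b := d₀ ^ 2) (pow_ne_zero 2 hα')
  set c' := max c 1 with hc'
  refine ⟨N + c', fun Q hQ => ?_⟩
  have hmn : m ^ (N + c') ≤ Ideal.span {d₀ ^ 2} * m ^ c' := by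
    rw [pow_add]
    exact Ideal.mul_mono_left hN
  have hQα : Q.eval α ∈ m ^ (N + c') := eval_mem_of_coeff_mem _ Q hQ α
  have hQ'α : (derivative Q).eval α ∈ m ^ (N + c') :=
    eval_mem_of_coeff_mem _ _ (derivative_coeff_mem _ Q hQ) α
  obtain ⟨e₀, he₀, he₀'⟩ := Ideal.mem_span_singleton_mul.mp (hmn hQα)
  obtain ⟨μ, hμ, hμ'⟩ := Ideal.mem_span_singleton_mul.mp (hmn hQ'α)
  set F := P + Q with hF
  have hFα : F.eval α = d₀ ^ 2 * e₀ := by
    rw [hF, eval_add, hα, zero_add, he₀']
  have hF'α : (derivative F).eval α = d₀ * (1 + d₀ * μ) := by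
    rw [hF, derivative_add, eval_add, ← hd₀, ← hμ']; ring
  have hμm : μ ∈ m := Ideal.pow_le_self (by omega) hμ
  have hunit : IsUnit (1 + d₀ * μ) := by
    rw [← IsLocalRing.notMem_maximalIdeal]
    intro h
    have h1 : (1 : A) ∈ m := by
      have := Ideal.sub_mem _ h (Ideal.mul_mem_left m d₀ hμm)
      simpa using this
    exact (Ideal.ne_top_iff_one _).mp (IsLocalRing.maximalIdeal.isMaximal A).ne_top h1
  obtain ⟨w, hw⟩ := isUnit_iff_exists_inv.mp hunit
  have hd₀w : d₀ = (derivative F).eval α * w := by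
    rw [hF'α, mul_assoc, hw, mul_one]
  have hFα' : F.eval α = (derivative F).eval α ^ 2 * (w ^ 2 * e₀) := by
    rw [hFα]
    conv_lhs => rw [hd₀w]
    ring
  obtain ⟨β, hβ, hβ'⟩ := exists_root_of_eval_eq F α (w ^ 2 * e₀) c' (le_max_right _ _)
    (Ideal.mul_mem_left _ _ he₀) hFα'
  exact ⟨β, hβ, Ideal.pow_le_pow_right (le_max_left _ _) hβ'⟩

end Groth.Agent.S1965
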