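import Groth.Statements.S13596
import Mathlib.RingTheory.Invariant.Basic
import Mathlib.AlgebraicGeometry.Morphisms.Integral

set_option autoImplicit false
universe u
open CategoryTheory AlgebraicGeometry
open SGA1

namespace Groth.Agent.S13596

/-- Let a finite group G act on a scheme X and let p : X ⟶ Y be a quotient of X by G (affine,
G-invariant, and identifying the sections of O_Y over every open with the G-invariant sections of
O_X over its preimage). Then p is an integral morphism. -/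
theorem result {X Y : Scheme.{u}} {G : Type u} [Group G] [Finite G]
    (ρ : G →* Aut X) (p : X ⟶ Y) (hp : SGA1.IsQuot ρ p) :
    IsIntegralHom p := by
  have haff := hp.affine
  refine { toIsAffineHom := haff, isIntegral_app := fun U hU => ?_ }
  -- auxiliary facts on `appLE`
  have key_one : ∀ (a : X ⟶ X) (_ : a = 𝟙 X) (e : p ⁻¹ᵁ U ≤ a ⁻¹ᵁ (p ⁻¹ᵁ U)),
      a.appLE (p ⁻¹ᵁ U) (p ⁻¹ᵁ U) e = 𝟙 _ := by
    rintro _ rfl e
    simp only [Scheme.Hom.appLE, Scheme.Hom.id_app]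
    exact X.presheaf.map_id _
  have key_mul : ∀ (a b c : X ⟶ X) (_ : c = a ≫ b) (ea : p ⁻¹ᵁ U ≤ a ⁻¹ᵁ (p ⁻¹ᵁ U))
      (eb : p ⁻¹ᵁ U ≤ b ⁻¹ᵁ (p ⁻¹ᵁ U)) (ec : p ⁻¹ᵁ U ≤ c ⁻¹ᵁ (p ⁻¹ᵁ U)),
      c.appLE (p ⁻¹ᵁ U) (p ⁻¹ᵁ U) ec =
        b.appLE (p ⁻¹ᵁ U) (p ⁻¹ᵁ U) eb ≫ a.appLE (p ⁻¹ᵁ U) (p ⁻¹ᵁ U) ea := by
    rintro a b _ rfl ea eb ec
    rw [Scheme.Hom.appLE_comp_appLE]
  let σ : G → (Γ(X, p ⁻¹ᵁ U) →+* Γ(X, p ⁻¹ᵁ U)) := fun g =>
    ((ρ g).hom.appLE (p ⁻¹ᵁ U) (p ⁻¹ᵁ U) (preimage_le_of_inv ρ p hp.inv g U)).hom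
  have σ_one : ∀ b, σ 1 b = b := by
    intro b
    have h1 : (ρ 1).hom = 𝟙 X := by rw [map_one]; rfl
    have := key_one (ρ 1).hom h1 (preimage_le_of_inv ρ p hp.inv 1 U)
    change ((ρ 1).hom.appLE (p ⁻¹ᵁ U) (p ⁻¹ᵁ U) _).hom b = b
    rw [this]
    rfl
  have σ_mul : ∀ g h b, σ (g * h) b = σ h (σ g b) := by
    intro g h b
    have h1 : (ρ (g * h)).hom = (ρ h).hom ≫ (ρ g).hom := by rw [map_mul]; rfl
    have := key_mul (ρ h).hom (ρ g).hom (ρ (g * h)).hom h1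
      (preimage_le_of_inv ρ p hp.inv h U) (preimage_le_of_inv ρ p hp.inv g U)
      (preimage_le_of_inv ρ p hp.inv (g * h) U)
    change ((ρ (g * h)).hom.appLE (p ⁻¹ᵁ U) (p ⁻¹ᵁ U) _).hom b = _
    rw [this]
    rfl
  let _ : MulSemiringAction G Γ(X, p ⁻¹ᵁ U) :=
    { smul := fun g b => σ g⁻¹ b
      one_smul := fun b => by change σ 1⁻¹ b = b; rw [inv_one]; exact σ_one b
      mul_smul := fun g h b => by
        change σ (g * h)⁻¹ b = σ g⁻¹ (σ h⁻¹ b)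
        rw [mul_inv_rev, σ_mul]
      smul_zero := fun g => map_zero (σ g⁻¹)
      smul_add := fun g a b => map_add (σ g⁻¹) a b
      smul_one := fun g => map_one (σ g⁻¹)
      smul_mul := fun g a b => map_mul (σ g⁻¹) a b }
  let _ : Algebra Γ(Y, U) Γ(X, p ⁻¹ᵁ U) := (p.app U).hom.toAlgebra
  have : Algebra.IsInvariant Γ(Y, U) Γ(X, p ⁻¹ᵁ U) G :=
    ⟨fun b hb => (hp.range_iff U b).mpr (fun g => by
      have := hb g⁻¹
      change σ g⁻¹⁻¹ b = b at this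
      rwa [inv_inv] at this)⟩
  have hint := Algebra.IsInvariant.isIntegral Γ(Y, U) Γ(X, p ⁻¹ᵁ U) G
  exact fun b => hint.isIntegral b

end Groth.Agent.S13596
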