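import Groth.Statements.S2908
import Groth.Agent.Lib.Helper69.Quot
import Groth.Agent.S13596
import Mathlib.AlgebraicGeometry.Morphisms.UniversallyClosed

set_option autoImplicit false
open CategoryTheory CategoryTheory.Limits AlgebraicGeometry
universe u
open SGA1

namespace Groth.Agent.S2908

/-- Let a finite group G act on a scheme X and let p : X ⟶ Y be a quotient of X by G. Then p is
surjective, two points of X have the same image exactly when they lie in one G-orbit, and the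
topology of Y is the quotient topology. -/
theorem result {X Y : Scheme.{u}} {G : Type u} [Group G] [Finite G] (ρ : G →* Aut X)
    (p : X ⟶ Y) (hp : SGA1.IsQuot ρ p) :
    Function.Surjective p.base ∧ (∀ x x' : X, p.base x = p.base x' ↔ ∃ g : G, (ρ g).hom.base x = x') ∧
      Topology.IsQuotientMap p.base := by
  have hint : IsIntegralHom p := Groth.Agent.S13596.result ρ p hp
  have hcl : IsClosedMap p.base := p.isClosedMap
  -- surjectivity
  have hsurj : Function.Surjective p.base := by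
    intro y
    by_contra hy
    have hy' : y ∉ Set.range p.base := fun ⟨x, hx⟩ => hy ⟨x, hx⟩
    let V : Y.Opens := ⟨(Set.range p.base)ᶜ, hcl.isClosed_range.isOpen_compl⟩
    have hyV : y ∈ V := hy'
    have hpre : p ⁻¹ᵁ V = ⊥ := by
      ext x
      simp only [TopologicalSpace.Opens.coe_bot, Set.mem_empty_iff_false, iff_false]
      intro hx
      exact hx ⟨x, rfl⟩
    have h01 : (1 : Γ(Y, V)) = 0 := by
      apply hp.injective V
      have : Subsingleton Γ(X, p ⁻¹ᵁ V) := by rw [hpre]; infer_instance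
      exact Subsingleton.elim _ _
    have : V = ⊥ := by
      rw [← Y.basicOpen_one (U := V), h01, Y.basicOpen_zero]
    rw [this] at hyV
    exact hyV
  refine ⟨hsurj, ?_, hcl.isQuotientMap p.continuous hsurj⟩
  intro x x'
  constructor
  · intro hxx'
    obtain ⟨_, ⟨U, hU', rfl⟩, hyU, -⟩ := Y.isBasis_affineOpens.exists_subset_of_mem_open
      (Set.mem_univ (p.base x)) isOpen_univ
    have hU : IsAffineOpen U := hU'
    have hV : IsAffineOpen (p ⁻¹ᵁ U) := hU.preimage p
    have hx : x ∈ p ⁻¹ᵁ U := hyU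
    have hx' : x' ∈ p ⁻¹ᵁ U := by
      change p.base x' ∈ U
      rw [← hxx']
      exact hyU
    let _ := Groth.Agent.Lib.Helper69.sectionMulSemiringAction ρ p hp.inv U
    let _ : Algebra Γ(Y, U) Γ(X, p ⁻¹ᵁ U) := (p.app U).hom.toAlgebra
    have hfix : ∀ (g : G) (a : Γ(Y, U)),
        Groth.Agent.Lib.Helper69.sectionAct ρ p hp.inv U g ((p.app U).hom a) =
          (p.app U).hom a := fun g a =>
      (hp.range_iff U ((p.app U).hom a)).mp ⟨a, rfl⟩ g
    have : Algebra.IsInvariant Γ(Y, U) Γ(X, p ⁻¹ᵁ U) G :=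
      ⟨fun b hb => (hp.range_iff U b).mpr (fun g => by
        have := hb g⁻¹
        change Groth.Agent.Lib.Helper69.sectionAct ρ p hp.inv U g⁻¹⁻¹ b = b at this
        rwa [inv_inv] at this)⟩
    have : SMulCommClass G Γ(Y, U) Γ(X, p ⁻¹ᵁ U) := ⟨fun g a b => by
      change Groth.Agent.Lib.Helper69.sectionAct ρ p hp.inv U g⁻¹ ((p.app U).hom a * b) =
        (p.app U).hom a * Groth.Agent.Lib.Helper69.sectionAct ρ p hp.inv U g⁻¹ b
      rw [map_mul, hfix]⟩
    have hPQ : (hV.primeIdealOf ⟨x, hx⟩).asIdeal.under Γ(Y, U) =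
        (hV.primeIdealOf ⟨x', hx'⟩).asIdeal.under Γ(Y, U) := by
      have e1 := IsAffineOpen.comap_primeIdealOf_appLE U hU (p ⁻¹ᵁ U) hV le_rfl hx
      have e2 := IsAffineOpen.comap_primeIdealOf_appLE U hU (p ⁻¹ᵁ U) hV le_rfl hx'
      have e3 : hU.primeIdealOf ⟨p x, le_rfl (a := p ⁻¹ᵁ U) hx⟩ =
          hU.primeIdealOf ⟨p x', le_rfl (a := p ⁻¹ᵁ U) hx'⟩ := by
        congr 1
        exact Subtype.ext hxx'
      have e4 := congrArg PrimeSpectrum.asIdeal (e1.trans (e3.trans e2.symm))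
      rw [Scheme.Hom.appLE_eq_app] at e4
      exact e4
    obtain ⟨g, hg⟩ := Algebra.IsInvariant.exists_smul_of_under_eq Γ(Y, U) Γ(X, p ⁻¹ᵁ U) G
      (hV.primeIdealOf ⟨x, hx⟩).asIdeal (hV.primeIdealOf ⟨x', hx'⟩).asIdeal hPQ
    refine ⟨g, ?_⟩
    have hgx : (ρ g).hom.base x ∈ p ⁻¹ᵁ U := SGA1.preimage_le_of_inv ρ p hp.inv g U hx
    have e5 := IsAffineOpen.comap_primeIdealOf_appLE (f := (ρ g).hom) (p ⁻¹ᵁ U) hV (p ⁻¹ᵁ U) hV
      (SGA1.preimage_le_of_inv ρ p hp.inv g U) hx
    have e6 : hV.primeIdealOf ⟨(ρ g).hom.base x, hgx⟩ = hV.primeIdealOf ⟨x', hx'⟩ := by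
      rw [← e5]
      apply PrimeSpectrum.ext
      rw [hg, Ideal.pointwise_smul_eq_comap]
      ext b
      change Groth.Agent.Lib.Helper69.sectionAct ρ p hp.inv U g b ∈
          (hV.primeIdealOf ⟨x, hx⟩).asIdeal ↔
        Groth.Agent.Lib.Helper69.sectionAct ρ p hp.inv U g⁻¹⁻¹ b ∈
          (hV.primeIdealOf ⟨x, hx⟩).asIdeal
      rw [inv_inv]
    have := congrArg hV.fromSpec e6
    rw [hV.fromSpec_primeIdealOf, hV.fromSpec_primeIdealOf] at this
    exact this
  · rintro ⟨g, rfl⟩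
    have := hp.inv g
    rw [← Scheme.Hom.comp_apply, this]

end Groth.Agent.S2908
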