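import Groth.Statements.S0051
import Groth.Agent.Lib.Helper83.AmpleSerre
import Groth.Agent.S0050
import Groth.Agent.S0046
-- import your own Groth.Agent.* helpers here

set_option autoImplicit false
universe u
open Coherent

namespace Groth.Agent.S0051

open AlgebraicGeometry CategoryTheory in
/-- Let R be Noetherian, X → Spec R proper and L invertible on X. Then L is ample if and only if for
every coherent F there is n₀ with H^p(X, F ⊗ L^{⊗n}) = 0 for all n ≥ n₀ and p > 0. -/
theorem result (R : Type u) [CommRing R] [IsNoetherianRing R]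
    (X : Scheme.{u}) (f : X ⟶ Spec (CommRingCat.of R)) [IsProper f] (L : X.Modules)
    (hL : PicF.IsInvertible L) :
    CohB1.IsAmple L ↔ ∀ (M : X.Modules), Coh.IsCoh M → ∃ n₀ : ℕ, ∀ n : ℕ, n₀ ≤ n → ∀ p : ℕ, 0 < p →
      Subsingleton (Coh.HH X (CohB1.tensorMod M (CohB1.tensorPow L n)) p) := by
  let _ : X.Over (Spec (CommRingCat.of R)) := ⟨f⟩
  have hprop : IsProper (X ↘ Spec (CommRingCat.of R)) := ‹IsProper f›
  constructor
  · intro hA M hM
    exact Groth.Agent.Lib.Helper83.AmpleSerre.serre_vanishing_of_isAmple R X L hA M hM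
  · intro h
    have hN : IsLocallyNoetherian X := LocallyOfFiniteType.isLocallyNoetherian f
    have hc : CompactSpace X := QuasiCompact.compactSpace_of_compactSpace f
    apply Groth.Agent.S0050.result X L hL
    intro I i hi hI
    have hO : PicF.IsInvertible (Coh.structureModule X) :=
      Groth.Agent.Lib.Helper11.GenLocus.isInvertible_structureModule X
    have hOcoh : Coh.IsCoh (Coh.structureModule X) :=
      ⟨Groth.Agent.Lib.Helper45.isQuasicoherent_of_isInvertible hO,
        Groth.Agent.Lib.Helper11.GenLocus.isFiniteType_of_isInvertible hO⟩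
    have hIcoh : Coh.IsCoh I := Groth.Agent.S0046.result X (Coh.structureModule X) I i hOcoh hI
    obtain ⟨n₀, hn₀⟩ := h I hIcoh
    exact ⟨n₀, hn₀ (n₀ + 1) (Nat.le_succ _) 1 Nat.one_pos⟩
end Groth.Agent.S0051
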