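import Groth.Statements.S1519
import Groth.Agent.Lib.Helper67.CurveInv
import Groth.Agent.Lib.Helper11.GenLocus

set_option autoImplicit false
universe u
open CategoryTheory CategoryTheory.Limits AlgebraicGeometry
open Variety

namespace Groth.Agent.S1519

/-- On a proper curve over a field, if an invertible module has a nonzero global section which vanishes
at some point (the section does not generate the module near that point), then the degree is
positive. -/
theorem result (k : Type u) [Field k] (X : Scheme.{u}) [X.Over (Spec (CommRingCat.of k))]
    [IsIntegral X] [IsProper (X ↘ (Spec (CommRingCat.of k)))] (hdim : topologicalKrullDim X = 1)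
    (L : X.Modules) (hL : PicF.IsInvertible L) (s : Coh.structureModule X ⟶ L) (hs : s ≠ 0)
    (x : X) (hx : x ∉ CohB1.genLocus L s) :
    0 < Curv2.deg k X L 1 := by
  have hO1 := Groth.Agent.Lib.Helper67.CurveTors.rank_one_of_isInvertible
    (Groth.Agent.Lib.Helper11.GenLocus.isInvertible_structureModule X)
  have hL1 := Groth.Agent.Lib.Helper67.CurveTors.rank_one_of_isInvertible hL
  obtain ⟨-, he, hiso⟩ := Groth.Agent.Lib.Helper67.CurveInv.main k X hdim.le hO1 hL1 s hs
  unfold Curv2.deg
  rw [he]
  have hpos : 0 < Module.finrank k (Coh.HH X (cokernel s) 0) := by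
    rcases Nat.eq_zero_or_pos (Module.finrank k (Coh.HH X (cokernel s) 0)) with h0 | h0
    · exfalso
      haveI := hiso h0
      apply hx
      have htop : (⊤ : X.Opens) ≤ CohB1.genLocus L s := by
        rw [Groth.Agent.Lib.Helper11.GenLocus.le_genLocus_iff]
        infer_instance
      exact htop trivial
    · exact h0
  have : (0 : ℤ) < (Module.finrank k (Coh.HH X (cokernel s) 0) : ℤ) := by exact_mod_cast hpos
  push_cast
  linarith

end Groth.Agent.S1519
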