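import Groth.Statements.S7661
-- import your own Groth.Agent.* helpers here

set_option autoImplicit false
universe u
open CategoryTheory CategoryTheory.Limits AlgebraicGeometry
open Variety

namespace Groth.Agent.S7661

/-- Let A be a ring, I an ideal, p_1, …, p_r prime ideals with I ⊄ p_i for all i, and let f̄ ∈ A/I. Then
f̄ lifts to an element f ∈ A with f ∉ p_i for all i. -/
theorem result (A : Type u) [CommRing A] (I : Ideal A)
    (s : Finset (Ideal A)) (hs : ∀ p ∈ s, p.IsPrime) (hI : ∀ p ∈ s, ¬ I ≤ p) (fbar : A ⧸ I) :
    ∃ f : A, Ideal.Quotient.mk I f = fbar ∧ ∀ p ∈ s, f ∉ p := by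
  classical
  induction s using Finset.strongInduction with
  | H s ih =>
    by_cases hne : s.Nonempty
    · obtain ⟨q, hqs, hqmin⟩ := s.exists_minimal hne
      obtain ⟨f, hf, hfs⟩ := ih (s.erase q) (Finset.erase_ssubset hqs)
        (fun p hp => hs p (Finset.mem_of_mem_erase hp))
        (fun p hp => hI p (Finset.mem_of_mem_erase hp))
      have hqprime : q.IsPrime := hs q hqs
      by_cases hfq : f ∈ q
      · -- need a correction term
        obtain ⟨a, haI, haq⟩ := Set.not_subset.mp (hI q hqs)
        have hb : ∀ p ∈ s.erase q, ∃ b ∈ p, b ∉ q := by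
          intro p hp
          have hpq : ¬ p ≤ q := by
            intro hle
            have := hqmin (Finset.mem_of_mem_erase hp) hle
            exact (Finset.ne_of_mem_erase hp) (le_antisymm hle this)
          exact Set.not_subset.mp hpq
        choose! b hbp hbq using hb
        set j := a * ∏ p ∈ s.erase q, b p with hj
        have hjI : j ∈ I := I.mul_mem_right _ haI
        have hjq : j ∉ q := by
          intro h
          rcases hqprime.mem_or_mem h with h | h
          · exact haq h
          · obtain ⟨p, hp, hbpq⟩ := (Ideal.IsPrime.prod_mem_iff).mp h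
            exact hbq p hp hbpq
        have hjp : ∀ p ∈ s.erase q, j ∈ p := by
          intro p hp
          refine p.mul_mem_left _ ?_
          rw [← Finset.mul_prod_erase _ _ hp]
          exact p.mul_mem_right _ (hbp p hp)
        refine ⟨f + j, ?_, ?_⟩
        · rw [map_add, hf, Ideal.Quotient.eq_zero_iff_mem.mpr hjI, add_zero]
        · intro p hp hfp
          by_cases hpq : p = q
          · subst hpq
            exact hjq ((Ideal.add_mem_iff_right _ hfq).mp hfp)
          · have hp' : p ∈ s.erase q := Finset.mem_erase.mpr ⟨hpq, hp⟩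
            exact hfs p hp' ((Ideal.add_mem_iff_left _ (hjp p hp')).mp hfp)
      · refine ⟨f, hf, ?_⟩
        intro p hp
        by_cases hpq : p = q
        · subst hpq; exact hfq
        · exact hfs p (Finset.mem_erase.mpr ⟨hpq, hp⟩)
    · rw [Finset.not_nonempty_iff_eq_empty] at hne
      subst hne
      obtain ⟨f, hf⟩ := Ideal.Quotient.mk_surjective fbar
      exact ⟨f, hf, by simp⟩

end Groth.Agent.S7661
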