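import Groth.Statements.S2925
import Groth.Agent.Lib.Helper69.Descent
import Groth.Agent.S2908

set_option autoImplicit false
open CategoryTheory CategoryTheory.Limits AlgebraicGeometry
universe u
open SGA1
open TopologicalSpace
open Groth.Agent.Lib.Helper69

namespace Groth.Agent.S2925

/-- Let a finite group G act on a scheme X and let p : X ⟶ Y be a quotient of X by G. Then every
G-invariant morphism X ⟶ Z factors uniquely through p. -/
theorem result {X Y : Scheme.{u}} {G : Type u} [Group G] [Finite G] (ρ : G →* Aut X)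
    (p : X ⟶ Y) (hp : SGA1.IsQuot ρ p) (Z : Scheme.{u}) (h : X ⟶ Z) (hh : ∀ g : G, (ρ g).hom ≫ h = h) :
    ∃! h' : Y ⟶ Z, p ≫ h' = h := by
  obtain ⟨hsurj, horb, hq⟩ := Groth.Agent.S2908.result ρ p hp
  have hfib : ∀ x x' : X, p.base x = p.base x' → h.base x = h.base x' := by
    intro x x' hxx'
    obtain ⟨g, rfl⟩ := (horb x x').mp hxx'
    exact (congrArg (fun f => f.base x) (hh g)).symm
  have hrange : ∀ (W : Z.Opens) (s : Γ(Z, W)),
      (h.app W ≫ X.presheaf.map (eqToHom (preimage_descBase p h hq hfib W)).op).hom s ∈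
        Set.range (p.app ((Opens.map (descBase p h hq hfib)).obj W)).hom := by
    intro W s
    rw [hp.range_iff]
    intro g
    have hle : p ⁻¹ᵁ ((Opens.map (descBase p h hq hfib)).obj W) ≤ h ⁻¹ᵁ W :=
      (preimage_descBase p h hq hfib W).le
    have e1 : h.app W ≫ X.presheaf.map (eqToHom (preimage_descBase p h hq hfib W)).op =
        h.appLE W (p ⁻¹ᵁ ((Opens.map (descBase p h hq hfib)).obj W)) hle := rfl
    have key : ∀ (a : X ⟶ Z) (_ : a = h)
        (e' : p ⁻¹ᵁ ((Opens.map (descBase p h hq hfib)).obj W) ≤ a ⁻¹ᵁ W),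
        a.appLE W (p ⁻¹ᵁ ((Opens.map (descBase p h hq hfib)).obj W)) e' =
          h.appLE W (p ⁻¹ᵁ ((Opens.map (descBase p h hq hfib)).obj W)) hle := by
      rintro _ rfl _; rfl
    have e2 := Scheme.Hom.appLE_comp_appLE (ρ g).hom h W
      (p ⁻¹ᵁ ((Opens.map (descBase p h hq hfib)).obj W))
      (p ⁻¹ᵁ ((Opens.map (descBase p h hq hfib)).obj W)) hle
      (SGA1.preimage_le_of_inv ρ p hp.inv g _)
    rw [key _ (hh g)] at e2
    rw [e1]
    exact congrArg (fun f => f.hom s) e2
  refine ⟨desc p h hq hfib hp.injective hrange, comp_desc p h hq hfib hp.injective hrange, ?_⟩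
  intro v hv
  exact hom_ext_of_surjective_of_injective p hsurj hp.injective _ _
    (hv.trans (comp_desc p h hq hfib hp.injective hrange).symm)

end Groth.Agent.S2925
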