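import Groth.Statements.S13605
import Groth.Agent.Lib.Helper69.SymBox
import Groth.Agent.Lib.Helper69.QuotRestrict

set_option autoImplicit false
universe u
open CategoryTheory AlgebraicGeometry
open CategoryTheory.Limits
open SymProd

namespace Groth.Agent.S13605
open Groth.Agent.Lib.Helper69.SymBox Groth.Agent.Lib.Helper69 CategoryTheory.Limits

/-- Let f : X ⟶ S be a morphism of schemes satisfying (AF) (every finite set of points of X over a
single point of S lies in an affine open of X), let 𝒮 be a cover of S by affine opens, let d ≥ 1 and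
let (Y, q, g) be a d-th symmetric power of X over S: q : X ×_S ⋯ ×_S X ⟶ Y is a quotient by the
symmetric group on d letters permuting the factors (affine, invariant, sections of O_Y = invariant
sections) and q ≫ g is the structure map of the fibre power. Then Y is covered by affine opens of
the form Sym^d(U/V) with V in the given cover: for every point y of Y there are V ∈ 𝒮 and an affine
open U ⊆ f⁻¹V of X such that the open W = ⋂_i pr_i⁻¹ U of the fibre power (the fibre power of U over
V) is affine and stable under every permutation of the factors, and an affine open W' of Y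
containing y with q⁻¹ W' = W. (The published statement also fixes an affine open cover of X
subordinate to the cover of S, in which any d points over a common point of a member V lie in a
common member mapping into V, and concludes that the corresponding opens Sym^d(U/V) cover Y; this
row states the pointwise form, producing U for each y.) -/
theorem result {X S Y : Scheme.{u}} (f : X ⟶ S) (hAF : SymProd.IsAF f)
    (𝒮 : Set S.Opens) (h𝒮 : ∀ V ∈ 𝒮, IsAffineOpen V) (hcov : ∀ s : S, ∃ V ∈ 𝒮, s ∈ V)
    (d : ℕ) (hd : 0 < d) (q : SymProd.fibPow f d ⟶ Y) (g : Y ⟶ S) (hq : SymProd.IsSymProd f d q g) (y : Y) :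
    ∃ V ∈ 𝒮, ∃ U : X.Opens, IsAffineOpen U ∧ U ≤ f ⁻¹ᵁ V ∧
      ∃ W : (SymProd.fibPow f d).Opens,
        (W : Set ↥(SymProd.fibPow f d)) =
          ⋂ i : Fin d, (WidePullback.π (fun _ : Fin d => f) i).base ⁻¹' (U : Set X) ∧
        IsAffineOpen W ∧ (∀ σ : Equiv.Perm (Fin d), (SymProd.permHom f d σ) ⁻¹ᵁ W = W) ∧
        ∃ W' : Y.Opens, y ∈ W' ∧ IsAffineOpen W' ∧ q ⁻¹ᵁ W' = W := by
  classical
  have hQ := hq.isQuot
  obtain ⟨hsurj, -, -⟩ := Groth.Agent.S2908.result (SymProd.permActU f d) q hQ
  obtain ⟨x, rfl⟩ := hsurj y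
  let s : S := (WidePullback.base (fun _ : Fin d => f)) x
  let pt : Fin d → X := fun i => (WidePullback.π (fun _ : Fin d => f) i) x
  have hpt : ∀ i, f (pt i) = s := by
    intro i
    change f ((WidePullback.π (fun _ : Fin d => f) i) x) = _
    rw [← Scheme.Hom.comp_apply, WidePullback.π_arrow]
  obtain ⟨U₀, hU₀, hptU₀⟩ := hAF s (Finset.univ.image pt) (by
    intro y hy
    obtain ⟨i, -, rfl⟩ := Finset.mem_image.mp hy
    exact hpt i)
  obtain ⟨V, hV𝒮, hsV⟩ := hcov s
  have hV := h𝒮 V hV𝒮
  obtain ⟨h, hle, hmem⟩ := exists_basicOpen_le_of_finset hU₀ (f ⁻¹ᵁ V) (Finset.univ.image pt)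
    hptU₀ (by
      intro y hy
      obtain ⟨i, -, rfl⟩ := Finset.mem_image.mp hy
      change f (pt i) ∈ V
      rw [hpt i]
      exact hsV)
  have hx : x ∈ boxOpen f d V (X.basicOpen h) := by
    rw [mem_boxOpen]
    exact ⟨hsV, fun i => hmem _ (Finset.mem_image.mpr ⟨i, Finset.mem_univ i, rfl⟩)⟩
  have hUaff : IsAffineOpen (X.basicOpen h) := hU₀.basicOpen h
  have hWaff := isAffineOpen_boxOpen f d hV hUaff hle
  refine ⟨V, hV𝒮, X.basicOpen h, hUaff, hle, boxOpen f d V (X.basicOpen h), ?_, hWaff,
    fun σ => permHom_preimage_boxOpen f d V _ σ, ?_⟩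
  · ext z
    rw [SetLike.mem_coe, mem_boxOpen]
    simp only [Set.mem_iInter, Set.mem_preimage, SetLike.mem_coe]
    constructor
    · exact fun hz => hz.2
    · intro hz
      refine ⟨?_, hz⟩
      have h0 := hle (hz ⟨0, hd⟩)
      change f ((WidePullback.π (fun _ : Fin d => f) ⟨0, hd⟩) z) ∈ V at h0
      rwa [← Scheme.Hom.comp_apply, WidePullback.π_arrow] at h0
  · obtain ⟨W', hW'⟩ := exists_opens_preimage_eq (SymProd.permActU f d) q hQ
      (boxOpen f d V (X.basicOpen h)) (fun σ z hz => by
        rw [SymProd.permActU_hom]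
        exact permHom_mem_boxOpen f d V _ σ.down z hz)
    refine ⟨W', ?_, ?_, hW'⟩
    · change x ∈ q ⁻¹ᵁ W'
      rw [hW']
      exact hx
    · apply isAffineOpen_of_isAffineOpen_preimage (SymProd.permActU f d) q hQ W'
      rw [hW']
      exact hWaff

end Groth.Agent.S13605
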