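import Groth.Statements.S2909
import Groth.Agent.Lib.Helper69.Quot4
import Groth.Agent.S13596
import Mathlib.AlgebraicGeometry.Morphisms.Finite
import Mathlib.AlgebraicGeometry.Morphisms.Separated
import Mathlib.RingTheory.Adjoin.Tower

set_option autoImplicit false
open CategoryTheory CategoryTheory.Limits AlgebraicGeometry
universe u
open SGA1
open Groth.Agent.Lib.Helper69

namespace Groth.Agent.S2909

/-- Let a finite group G act on a scheme X by automorphisms over a scheme Z (structure morphism f), and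
let p : X ⟶ Y be a quotient of X by G with Y ⟶ Z the induced morphism q (so p ≫ q = f). Then X is
affine over Z iff Y is, X is separated over Z iff Y is; if f is locally of finite type then p is
finite; and if moreover Z is locally Noetherian and f quasi-compact then q is of finite type
(locally of finite type and quasi-compact). -/
theorem result {X Y Z : Scheme.{u}} {G : Type u} [Group G] [Finite G] (ρ : G →* Aut X)
    (p : X ⟶ Y) (hp : SGA1.IsQuot ρ p) (f : X ⟶ Z) (q : Y ⟶ Z) (hq : p ≫ q = f) (hρ : ∀ g : G, (ρ g).hom ≫ f = f) :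
    (IsAffineHom f ↔ IsAffineHom q) ∧ (IsSeparated f ↔ IsSeparated q) ∧
    (LocallyOfFiniteType f → IsFinite p) ∧
    (IsLocallyNoetherian Z → LocallyOfFiniteType f → QuasiCompact f → LocallyOfFiniteType q ∧ QuasiCompact q) := by
  subst hq
  have hpaff : IsAffineHom p := hp.affine
  have hpint : IsIntegralHom p := Groth.Agent.S13596.result ρ p hp
  obtain ⟨hsurj, -, -⟩ := Groth.Agent.S2908.result ρ p hp
  refine ⟨⟨fun h => ?_, fun h => inferInstance⟩, ⟨fun h => ?_, fun h => inferInstance⟩, fun h => ?_,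
    fun hZ hft hqc => ⟨?_, ?_⟩⟩
  · -- affine
    refine ⟨fun U hU => ?_⟩
    have h1 : IsAffineOpen ((p ≫ q) ⁻¹ᵁ U) := hU.preimage (p ≫ q)
    exact isAffineOpen_of_isAffineOpen_preimage ρ p hp (q ⁻¹ᵁ U) h1
  · -- separated
    let P : pullback (p ≫ q) (p ≫ q) ⟶ pullback q q :=
      pullback.map (p ≫ q) (p ≫ q) q q p p (𝟙 Z) ((Category.comp_id _).trans rfl)
        ((Category.comp_id _).trans rfl)
    have hPint : IsIntegralHom P :=
      MorphismProperty.pullbackMap (P := @IsIntegralHom) hpint hpint rfl rfl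
    have hcomm : pullback.diagonal (p ≫ q) ≫ P = p ≫ pullback.diagonal q := by
      apply pullback.hom_ext
      · simp only [P, Category.assoc, pullback.lift_fst, pullback.diagonal_fst, Category.comp_id]
        rw [pullback.diagonal_fst_assoc]
      · simp only [P, Category.assoc, pullback.lift_snd, pullback.diagonal_snd, Category.comp_id]
        rw [pullback.diagonal_snd_assoc]
    have hrange : Set.range (pullback.diagonal q).base =
        P.base '' Set.range (pullback.diagonal (p ≫ q)).base := by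
      ext z
      constructor
      · rintro ⟨y, rfl⟩
        obtain ⟨x, rfl⟩ := hsurj y
        refine ⟨_, ⟨x, rfl⟩, ?_⟩
        exact congrArg (fun f => f.base x) hcomm
      · rintro ⟨_, ⟨x, rfl⟩, rfl⟩
        exact ⟨p.base x, (congrArg (fun f => f.base x) hcomm).symm⟩
    have hcl : IsClosed (Set.range (pullback.diagonal q).base) := by
      rw [hrange]
      exact P.isClosedMap _ (pullback.diagonal (p ≫ q)).isClosedEmbedding.isClosed_range
    exact ⟨IsClosedImmersion.of_isPreimmersion _ hcl⟩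
  · -- finite
    have : LocallyOfFiniteType p := locallyOfFiniteType_of_comp p q
    exact (IsFinite.iff_isIntegralHom_and_locallyOfFiniteType p).mpr ⟨hpint, this⟩
  · -- locally of finite type
    rw [HasRingHomProperty.iff_appLE (P := @LocallyOfFiniteType)]
    intro U V e
    have hW : IsAffineOpen (p ⁻¹ᵁ V.1) := V.2.preimage p
    have hft' := (HasRingHomProperty.iff_appLE (P := @LocallyOfFiniteType)).mp hft U
      ⟨p ⁻¹ᵁ V.1, hW⟩ (show p ⁻¹ᵁ V.1 ≤ (p ≫ q) ⁻¹ᵁ U.1 from p.preimage_mono e)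
    have hcomp : (p ≫ q).appLE U.1 (p ⁻¹ᵁ V.1) (p.preimage_mono e) =
        q.appLE U.1 V.1 e ≫ p.app V.1 := by
      rw [← Scheme.Hom.appLE_eq_app, Scheme.Hom.appLE_comp_appLE]
    have hA : IsNoetherianRing Γ(Z, U.1) := IsLocallyNoetherian.component_noetherian U
    let _ := sectionMulSemiringAction ρ p hp.inv V.1
    let _ : Algebra Γ(Y, V.1) Γ(X, p ⁻¹ᵁ V.1) := sectionAlgebra p V.1
    have : Algebra.IsInvariant Γ(Y, V.1) Γ(X, p ⁻¹ᵁ V.1) G := isInvariant ρ p hp V.1
    have hint : Algebra.IsIntegral Γ(Y, V.1) Γ(X, p ⁻¹ᵁ V.1) :=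
      Algebra.IsInvariant.isIntegral Γ(Y, V.1) Γ(X, p ⁻¹ᵁ V.1) G
    let _ : Algebra Γ(Z, U.1) Γ(Y, V.1) := (q.appLE U.1 V.1 e).hom.toAlgebra
    let _ : Algebra Γ(Z, U.1) Γ(X, p ⁻¹ᵁ V.1) :=
      ((p ≫ q).appLE U.1 (p ⁻¹ᵁ V.1) (p.preimage_mono e)).hom.toAlgebra
    have : IsScalarTower Γ(Z, U.1) Γ(Y, V.1) Γ(X, p ⁻¹ᵁ V.1) :=
      .of_algebraMap_eq' (congrArg CommRingCat.Hom.hom hcomp)
    have hAC : Algebra.FiniteType Γ(Z, U.1) Γ(X, p ⁻¹ᵁ V.1) := hft'
    have hBCft : Algebra.FiniteType Γ(Y, V.1) Γ(X, p ⁻¹ᵁ V.1) :=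
      Algebra.FiniteType.of_restrictScalars_finiteType Γ(Z, U.1) _ _
    have hBC : Module.Finite Γ(Y, V.1) Γ(X, p ⁻¹ᵁ V.1) := Algebra.IsIntegral.finite
    have := fg_of_fg_of_fg Γ(Z, U.1) Γ(Y, V.1) Γ(X, p ⁻¹ᵁ V.1) hAC.1 hBC.1 (hp.injective V.1)
    exact ⟨this⟩
  · -- quasi-compact
    refine ⟨fun U hU hUc => ?_⟩
    have h1 : IsCompact ((p ≫ q).base ⁻¹' U) := QuasiCompact.isCompact_preimage U hU hUc
    have h2 : q.base ⁻¹' U = p.base '' ((p ≫ q).base ⁻¹' U) := by
      ext y
      constructor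
      · intro hy
        obtain ⟨x, rfl⟩ := hsurj y
        exact ⟨x, hy, rfl⟩
      · rintro ⟨x, hx, rfl⟩
        exact hx
    rw [h2]
    exact h1.image p.continuous

end Groth.Agent.S2909
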