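import Groth.Statements.S2919
import Groth.Agent.S2908
import Groth.Agent.S2925
import Mathlib.AlgebraicGeometry.Morphisms.Separated
import Mathlib.AlgebraicGeometry.Limits
import Mathlib.FieldTheory.IsAlgClosed.AlgebraicClosure

set_option autoImplicit false
open CategoryTheory CategoryTheory.Limits AlgebraicGeometry
universe u
open SGA1

namespace Groth.Agent.S2919

/-- Let a finite group G act on X, p : X ⟶ Y a quotient with Y locally Noetherian and p finite, G acting
freely on geometric points, and suppose p has a section. Then the morphism from the disjoint union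
of copies of Y indexed by G to X which is s followed by the action of g on the g-th copy is an
isomorphism. -/
theorem result {X Y : Scheme.{u}} {G : Type u} [Group G] [Finite G] (ρ : G →* Aut X)
    (p : X ⟶ Y) (hp : SGA1.IsQuot ρ p) [IsLocallyNoetherian Y] [IsFinite p]
    (hfree : (∀ (K : Type u) [Field K] [IsAlgClosed K] (ξ : Spec (CommRingCat.of K) ⟶ X) (g : G), ξ ≫ (ρ g).hom = ξ → g = 1)) (s : Y ⟶ X) (hs : s ≫ p = 𝟙 Y) :
    IsIso (Sigma.desc (fun g : G => s ≫ (ρ g).hom) : (∐ fun _ : G => Y) ⟶ X) := by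
  have hmul : ∀ a b : G, (ρ (a * b)).hom = (ρ b).hom ≫ (ρ a).hom := fun a b => by
    rw [map_mul]; rfl
  have hone : (ρ 1).hom = 𝟙 X := by rw [map_one]; rfl
  have hsep : IsSeparated p := inferInstance
  have hsci : IsClosedImmersion s := by
    have : IsClosedImmersion (s ≫ p) := by rw [hs]; infer_instance
    exact IsClosedImmersion.of_comp s p
  have hps : ∀ y : Y, p.base (s.base y) = y := fun y => by
    have := congrArg (fun q : Y ⟶ Y => q.base y) hs
    exact this
  -- Step 1
  have hfix : ∀ (h : G) (y : Y), (ρ h).hom.base (s.base y) = s.base y → h = 1 := by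
    intro h y hy
    -- residue field maps
    have hPS : p.residueFieldMap (s.base y) ≫ s.residueFieldMap y =
        (Y.residueFieldCongr (hps y)).hom := by
      rw [← Scheme.residueFieldMap_comp, Scheme.Hom.residueFieldMap_congr hs,
        Scheme.residueFieldMap_id]
      exact Category.comp_id _
    have hSiso : IsIso (s.residueFieldMap y) := by
      rw [ConcreteCategory.isIso_iff_bijective]
      refine ⟨(s.residueFieldMap y).hom.injective, fun t => ?_⟩
      refine ⟨p.residueFieldMap (s.base y) ((Y.residueFieldCongr (hps y)).inv t), ?_⟩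
      have := congrArg (fun f => f.hom ((Y.residueFieldCongr (hps y)).inv t)) hPS
      simp only [CommRingCat.hom_comp, RingHom.comp_apply] at this
      rw [this]
      exact congrArg (fun f => f.hom t) (Y.residueFieldCongr (hps y)).inv_hom_id
    have hPiso : IsIso (p.residueFieldMap (s.base y)) := by
      have : p.residueFieldMap (s.base y) =
          (Y.residueFieldCongr (hps y)).hom ≫ inv (s.residueFieldMap y) := by
        rw [← hPS, Category.assoc, IsIso.hom_inv_id, Category.comp_id]
      rw [this]; infer_instance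
    let τ : X.residueField (s.base y) ⟶ X.residueField (s.base y) :=
      (X.residueFieldCongr hy.symm).hom ≫ (ρ h).hom.residueFieldMap (s.base y)
    have hτ1 : Spec.map τ ≫ X.fromSpecResidueField (s.base y) =
        X.fromSpecResidueField (s.base y) ≫ (ρ h).hom := by
      simp only [τ, Spec.map_comp, Category.assoc]
      rw [Scheme.residueFieldCongr_fromSpecResidueField,
        Scheme.Hom.SpecMap_residueFieldMap_fromSpecResidueField]
    have hτ2 : p.residueFieldMap (s.base y) ≫ τ = p.residueFieldMap (s.base y) := by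
      apply Spec.map_injective
      rw [← cancel_mono (Y.fromSpecResidueField (p.base (s.base y))), Spec.map_comp, Category.assoc,
        Scheme.Hom.SpecMap_residueFieldMap_fromSpecResidueField, ← Category.assoc, hτ1,
        Category.assoc, hp.inv]
    have hτ3 : τ = 𝟙 _ := by
      rw [← cancel_epi (p.residueFieldMap (s.base y)), hτ2, Category.comp_id]
    have hfix1 : X.fromSpecResidueField (s.base y) ≫ (ρ h).hom =
        X.fromSpecResidueField (s.base y) := by
      rw [← hτ1, hτ3, Spec.map_id, Category.id_comp]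
    apply hfree (AlgebraicClosure (X.residueField (s.base y)))
      (Spec.map (CommRingCat.ofHom (algebraMap (X.residueField (s.base y))
        (AlgebraicClosure (X.residueField (s.base y))))) ≫ X.fromSpecResidueField (s.base y)) h
    rw [Category.assoc, hfix1]
  -- Step 2: translates of `range s` are disjoint and cover
  have hginv : ∀ (g : G) (x : X), (ρ g⁻¹).hom.base ((ρ g).hom.base x) = x := by
    intro g x
    rw [← Scheme.Hom.comp_apply, ← hmul, inv_mul_cancel, hone]; rfl
  have hginv' : ∀ (g : G) (x : X), (ρ g).hom.base ((ρ g⁻¹).hom.base x) = x := by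
    intro g x
    rw [← Scheme.Hom.comp_apply, ← hmul, mul_inv_cancel, hone]; rfl
  have hpg : ∀ (g : G) (x : X), p.base ((ρ g).hom.base x) = p.base x := by
    intro g x
    rw [← Scheme.Hom.comp_apply, hp.inv]
  have hcover : ∀ x : X, ∃ g : G, ∃ y : Y, (ρ g).hom.base (s.base y) = x := by
    intro x
    obtain ⟨g, hg⟩ := ((Groth.Agent.S2908.result ρ p hp).2.1 (s.base (p.base x)) x).mp (hps _)
    exact ⟨g, p.base x, hg⟩
  have hdisj0 : ∀ (g : G) (y y' : Y), (ρ g).hom.base (s.base y) = s.base y' → g = 1 := by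
    intro g y y' h
    have hyy : y = y' := by
      have := congrArg p.base h
      rw [hpg, hps, hps] at this
      exact this
    subst hyy
    exact hfix g y h
  have hZopen : IsOpen (Set.range s.base) := by
    have hcompl : (Set.range s.base)ᶜ = ⋃ g : {g : G // g ≠ 1}, (ρ g.1).hom.base '' Set.range s.base := by
      ext x
      simp only [Set.mem_compl_iff, Set.mem_range, Set.mem_iUnion, Set.mem_image]
      constructor
      · intro hx
        obtain ⟨g, y, hgy⟩ := hcover x
        refine ⟨⟨g, ?_⟩, s.base y, ⟨y, rfl⟩, hgy⟩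
        rintro rfl
        apply hx
        refine ⟨y, ?_⟩
        rw [← hgy, hone]; rfl
      · rintro ⟨⟨g, hg⟩, _, ⟨y, rfl⟩, hgy⟩ ⟨y', hy'⟩
        exact hg (hdisj0 g y y' (hgy.trans hy'.symm))
    rw [← isClosed_compl_iff, hcompl]
    refine isClosed_iUnion_of_finite fun g => ?_
    have hhomeo : IsClosedMap (ρ g.1).hom.base := by
      have : IsIso (ρ g.1).hom := Iso.isIso_hom (ρ g.1)
      exact (ρ g.1).hom.homeomorph.isClosedMap
    exact hhomeo _ s.isClosedEmbedding.isClosed_range
  let Z : X.Opens := ⟨Set.range s.base, hZopen⟩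
  have hgiso : ∀ g : G, IsIso (ρ g).hom := fun g => Iso.isIso_hom (ρ g)
  let f : G → ((Z : Scheme.{u}) ⟶ X) := fun g => Z.ι ≫ (ρ g).hom
  have hfoi : ∀ g, IsOpenImmersion (f g) := fun g => inferInstance
  have hfrange : ∀ g, Set.range (f g).base = (ρ g).hom.base '' Set.range s.base := by
    intro g
    rw [Scheme.Hom.comp_base, TopCat.coe_comp, Set.range_comp, Scheme.Opens.range_ι]; rfl
  have hcov : ⨆ g, (f g).opensRange = ⊤ := by
    rw [eq_top_iff]; intro x _
    obtain ⟨g, y, hgy⟩ := hcover x
    rw [TopologicalSpace.Opens.mem_iSup]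
    refine ⟨g, ?_⟩
    show x ∈ Set.range (f g).base
    rw [hfrange]; exact ⟨s.base y, ⟨y, rfl⟩, hgy⟩
  have hdisj : Pairwise (Function.onFun Disjoint (fun g => (f g).opensRange)) := by
    intro g g' hgg'
    rw [Function.onFun, disjoint_iff]
    ext x
    simp only [TopologicalSpace.Opens.coe_inf, Scheme.Hom.coe_opensRange, Set.mem_inter_iff,
      TopologicalSpace.Opens.coe_bot, Set.mem_empty_iff_false, iff_false, not_and]
    rw [hfrange, hfrange]
    rintro ⟨_, ⟨y, rfl⟩, h1⟩ ⟨_, ⟨y', rfl⟩, h2⟩
    apply hgg'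
    have h3 : (ρ (g'⁻¹ * g)).hom.base (s.base y) = s.base y' := by
      rw [hmul, Scheme.Hom.comp_apply, h1, ← h2, hginv]
    have := hdisj0 _ y y' h3
    exact (inv_mul_eq_one.mp this).symm
  obtain ⟨hcolim⟩ := nonempty_isColimit_cofanMk_of f hcov hdisj
  let ψ : X ⟶ (Z : Scheme.{u}) := Cofan.IsColimit.desc hcolim (fun _ => 𝟙 _)
  have hψ : ∀ g, f g ≫ ψ = 𝟙 _ := fun g => Cofan.IsColimit.fac hcolim _ g
  have hψinv : ∀ h : G, (ρ h).hom ≫ ψ = ψ := by
    intro h
    apply Cofan.IsColimit.hom_ext hcolim
    intro g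
    show f g ≫ (ρ h).hom ≫ ψ = f g ≫ ψ
    have : f g ≫ (ρ h).hom = f (h * g) := by simp only [f, Category.assoc, hmul]
    rw [← Category.assoc, this, hψ, hψ]
  obtain ⟨ψb, hψb, hψbuniq⟩ := Groth.Agent.S2925.result ρ p hp Z ψ hψinv
  have h1 : (Z.ι ≫ p) ≫ ψb = 𝟙 _ := by
    rw [Category.assoc, hψb]
    have := hψ 1
    simpa only [f, hone, Category.comp_id] using this
  have h2 : ψb ≫ (Z.ι ≫ p) = 𝟙 Y := by
    obtain ⟨q, hq, hquniq⟩ := Groth.Agent.S2925.result ρ p hp Y p hp.inv
    have e1 : p ≫ (ψb ≫ Z.ι ≫ p) = p := by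
      rw [← Category.assoc, hψb]
      apply Cofan.IsColimit.hom_ext hcolim
      intro g
      show f g ≫ ψ ≫ Z.ι ≫ p = f g ≫ p
      rw [← Category.assoc, hψ, Category.id_comp]
      simp only [f, Category.assoc, hp.inv]
    exact (hquniq _ e1).trans (hquniq _ (Category.comp_id p)).symm
  have hsfac : s = ψb ≫ Z.ι := by
    have hsub : Set.range s.base ⊆ Set.range Z.ι.base := by
      rw [Scheme.Opens.range_ι]; exact subset_rfl
    have hs' : IsOpenImmersion.lift Z.ι s hsub ≫ Z.ι = s := IsOpenImmersion.lift_fac _ _ _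
    have : IsOpenImmersion.lift Z.ι s hsub = ψb := by
      calc IsOpenImmersion.lift Z.ι s hsub
          = IsOpenImmersion.lift Z.ι s hsub ≫ (Z.ι ≫ p) ≫ ψb := by rw [h1, Category.comp_id]
        _ = (IsOpenImmersion.lift Z.ι s hsub ≫ Z.ι) ≫ p ≫ ψb := by simp only [Category.assoc]
        _ = ψb := by rw [hs', ← Category.assoc, hs, Category.id_comp]
    rw [← hs', this]
  have hψbiso : IsIso ψb := ⟨Z.ι ≫ p, h2, h1⟩
  have hΦ : Sigma.desc (fun g : G => s ≫ (ρ g).hom) =
      Limits.Sigma.map (fun _ : G => ψb) ≫ Sigma.desc f := by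
    apply Sigma.hom_ext; intro g
    rw [Sigma.ι_desc, ← Category.assoc, Sigma.ι_map, Category.assoc, Sigma.ι_desc, hsfac,
      Category.assoc]
  rw [hΦ]
  have : IsIso (Sigma.desc f) :=
    (Cofan.nonempty_isColimit_iff_isIso_sigmaDesc (Cofan.mk X f)).mp ⟨hcolim⟩
  infer_instance

end Groth.Agent.S2919
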