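import Groth.Statements.S7662
import Groth.Agent.Lib.Helper69.ClosedCover

set_option autoImplicit false
universe u
open CategoryTheory CategoryTheory.Limits AlgebraicGeometry
open Variety

namespace Groth.Agent.S7662

/-- Let X be a scheme with finitely many irreducible components Z_1, …, Z_t and T ⊆ X a finite set of
points such that, for each i, some affine open of Z_i with its reduced closed subscheme structure
contains the points of T on Z_i. Then some affine open of X contains every point of T. -/
theorem result (X : Scheme.{u})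
    (hX : (irreducibleComponents (X : Type u)).Finite) (T : Finset X)
    (h : ∀ (Z : Set X) (hZ : Z ∈ irreducibleComponents (X : Type u)),
      ∃ V : (Scheme.IdealSheafData.vanishingIdeal
          (⟨Z, isClosed_of_mem_irreducibleComponents Z hZ⟩ : TopologicalSpace.Closeds X)).subscheme.Opens,
        IsAffineOpen V ∧ ∀ t ∈ T, t ∈ Z → t ∈ (Scheme.IdealSheafData.vanishingIdeal
          (⟨Z, isClosed_of_mem_irreducibleComponents Z hZ⟩ : TopologicalSpace.Closeds X)).subschemeι.base '' (V : Set _)) :
    ∃ U : X.Opens, IsAffineOpen U ∧ ∀ t ∈ T, t ∈ U := by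
  classical
  let Q : TopologicalSpace.Closeds X → Prop := fun C =>
    ∃ W : (Scheme.IdealSheafData.vanishingIdeal C).subscheme.Opens, IsAffineOpen W ∧
      ∀ y, (Scheme.IdealSheafData.vanishingIdeal C).subschemeι y ∈ T → y ∈ W
  let cl : Set X → TopologicalSpace.Closeds X := fun Z =>
    if hZ : Z ∈ irreducibleComponents (X : Type u) then
      ⟨Z, isClosed_of_mem_irreducibleComponents Z hZ⟩ else ⊥
  have hbot : Q ⊥ := by
    refine ⟨⊥, isAffineOpen_bot _, fun y _ => ?_⟩
    have hy : (Scheme.IdealSheafData.vanishingIdeal (⊥ : TopologicalSpace.Closeds X)).subschemeι y ∈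
        ((⊥ : TopologicalSpace.Closeds X) : Set X) := by
      rw [← Scheme.IdealSheafData.coe_support_vanishingIdeal, ← Scheme.IdealSheafData.range_subschemeι]
      exact ⟨y, rfl⟩
    exact hy.elim
  have hsup : ∀ C₁, Q C₁ → ∀ C₂, Q C₂ → Q (C₁ ⊔ C₂) := fun C₁ H₁ C₂ H₂ =>
    Groth.Agent.Lib.Helper69.ClosedCover.exists_affineOpen_closeds_sup X T C₁ C₂ (C₁ ⊔ C₂)
      le_sup_left le_sup_right (by rw [TopologicalSpace.Closeds.coe_sup]) H₁ H₂
  have hcomp : ∀ Z ∈ hX.toFinset, Q (cl Z) := by
    intro Z hZ
    have hZ' : Z ∈ irreducibleComponents (X : Type u) := hX.mem_toFinset.mp hZ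
    have hcl : cl Z = ⟨Z, isClosed_of_mem_irreducibleComponents Z hZ'⟩ := dif_pos hZ'
    rw [hcl]
    obtain ⟨V, hV, hTV⟩ := h Z hZ'
    refine ⟨V, hV, fun y hy => ?_⟩
    have hyZ : (Scheme.IdealSheafData.vanishingIdeal
        (⟨Z, isClosed_of_mem_irreducibleComponents Z hZ'⟩ : TopologicalSpace.Closeds X)).subschemeι y ∈ Z := by
      have : (Scheme.IdealSheafData.vanishingIdeal
          (⟨Z, isClosed_of_mem_irreducibleComponents Z hZ'⟩ : TopologicalSpace.Closeds X)).subschemeι y ∈
          Set.range (Scheme.IdealSheafData.vanishingIdeal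
          (⟨Z, isClosed_of_mem_irreducibleComponents Z hZ'⟩ : TopologicalSpace.Closeds X)).subschemeι :=
        ⟨y, rfl⟩
      rw [Scheme.IdealSheafData.range_subschemeι,
        Scheme.IdealSheafData.coe_support_vanishingIdeal] at this
      exact this
    obtain ⟨v, hv, hvy⟩ := hTV _ hy hyZ
    have hinj := (Scheme.IdealSheafData.vanishingIdeal
        (⟨Z, isClosed_of_mem_irreducibleComponents Z hZ'⟩ : TopologicalSpace.Closeds X)).subschemeι.isClosedEmbedding.injective
    rw [← hinj hvy]
    exact hv
  have hall : Q (hX.toFinset.sup cl) := Finset.sup_induction hbot hsup hcomp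
  set C := hX.toFinset.sup cl with hCdef
  obtain ⟨W, hW, hTW⟩ := hall
  have hCuniv : (C : Set X) = Set.univ := by
    rw [Set.eq_univ_iff_forall]
    intro x
    have hx : x ∈ ⋃₀ irreducibleComponents (X : Type u) := by
      rw [sUnion_irreducibleComponents]; trivial
    obtain ⟨Z, hZ, hxZ⟩ := hx
    have hle : cl Z ≤ C := Finset.le_sup (f := cl) (hX.mem_toFinset.mpr hZ)
    have hcl : cl Z = ⟨Z, isClosed_of_mem_irreducibleComponents Z hZ⟩ := dif_pos hZ
    rw [hcl] at hle
    exact hle hxZ
  have hcov : Set.range (Scheme.IdealSheafData.vanishingIdeal C).subschemeι ∪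
      Set.range (Scheme.IdealSheafData.vanishingIdeal C).subschemeι = Set.univ := by
    rw [Set.union_self, Scheme.IdealSheafData.range_subschemeι,
      Scheme.IdealSheafData.coe_support_vanishingIdeal, hCuniv]
  exact Groth.Agent.Lib.Helper69.ClosedCover.exists_affineOpen_of_closed_cover
    (Scheme.IdealSheafData.vanishingIdeal C).subschemeι
    (Scheme.IdealSheafData.vanishingIdeal C).subschemeι hcov T W hW hTW W hW hTW

end Groth.Agent.S7662
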