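import Groth.Statements.S13052
import Groth.Agent.Lib.Helper67.ZetaMult

set_option autoImplicit false
universe u
open CategoryTheory AlgebraicGeometry
open Zeta

namespace Groth.Agent.S13052

/-- If X is a scheme of finite type over a finite field k, Y ↪ X a closed subscheme and U = X ∖ Y its
open complement, then Z(X, t) = Z(Y, t) · Z(U, t). Here Y is any scheme with a closed immersion into
X whose image is the complement of U (its scheme structure plays no role), and Y, U are k-schemes
through X. -/
theorem result {k : Type u} [Field k] [Finite k]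
    {X Y : Scheme.{u}} (f : X ⟶ Spec (CommRingCat.of k)) [LocallyOfFiniteType f] [QuasiCompact f]
    (U : X.Opens) (i : Y ⟶ X) [IsClosedImmersion i] (hY : Set.range i.base = (U : Set X)ᶜ) :
    Zeta.zetaFun f = Zeta.zetaFun (i ≫ f) * Zeta.zetaFun (U.ι ≫ f) := by
  classical
  let Y' : ULift.{u} Bool → Scheme.{u} := fun b => cond b.down Y (U : Scheme.{u})
  let g' : ∀ b, Y' b ⟶ X := fun b =>
    match b with
    | ⟨true⟩ => i
    | ⟨false⟩ => U.ι
  haveI : ∀ b, IsImmersion (g' b) := by
    rintro ⟨_ | _⟩
    · change IsImmersion U.ι; infer_instance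
    · change IsImmersion i; infer_instance
  have hrT : Set.range (g' ⟨true⟩).base = (U : Set X)ᶜ := hY
  have hrF : Set.range (g' ⟨false⟩).base = (U : Set X) := by
    change Set.range U.ι.base = _
    exact Scheme.Opens.range_ι U
  have hpart : ∀ x : X, IsClosed ({x} : Set X) → ∃! b, x ∈ Set.range (g' b).base := by
    intro x _
    by_cases hx : x ∈ (U : Set X)
    · refine ⟨⟨false⟩, by change x ∈ Set.range (g' ⟨false⟩).base; rw [hrF]; exact hx, ?_⟩
      rintro ⟨_ | _⟩ hb
      · rfl
      · rw [hrT] at hb; exact absurd hx hb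
    · refine ⟨⟨true⟩, by change x ∈ Set.range (g' ⟨true⟩).base; rw [hrT]; exact hx, ?_⟩
      rintro ⟨_ | _⟩ hb
      · rw [hrF] at hb; exact absurd hb hx
      · rfl
  rw [Groth.Agent.Lib.Helper67.zetaFun_eq_prod f Y' g' hpart]
  rw [← Equiv.prod_comp (Equiv.ulift.{u, 0}.symm : Bool ≃ ULift.{u} Bool), Fintype.prod_bool]
  rfl

end Groth.Agent.S13052
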