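import Groth.Statements.S13055
import Groth.Agent.Lib.Helper66.LogDeriv

set_option autoImplicit false
universe u
open CategoryTheory AlgebraicGeometry
open Zeta

namespace Groth.Agent.S13055

section Generic
open Groth.Agent.Lib.Helper66 PowerSeries

theorem mk_pow_mul_one_sub (c : ℚ) : (PowerSeries.mk fun m => c ^ m) * (1 - C c * X) = 1 := by
  ext n
  cases n with
  | zero => simp
  | succ n =>
    rw [mul_sub, mul_one, ← mul_assoc, map_sub, coeff_succ_mul_X, coeff_mk, mul_comm _ (C c), coeff_C_mul,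
      coeff_mk, coeff_one, if_neg (Nat.succ_ne_zero n), pow_succ]
    ring

theorem inv_one_sub (c : ℚ) : (1 - C c * X : ℚ⟦X⟧)⁻¹ = PowerSeries.mk fun m => c ^ m := by
  symm
  rw [PowerSeries.eq_inv_iff_mul_eq_one (by simp)]
  exact mk_pow_mul_one_sub c

theorem coeff_dlog_one_sub (c : ℚ) (m : ℕ) :
    coeff m (d⁄dX ℚ (1 - C c * X : ℚ⟦X⟧) * (1 - C c * X : ℚ⟦X⟧)⁻¹) = - c ^ (m + 1) := by
  have h1 : d⁄dX ℚ (1 - C c * X : ℚ⟦X⟧) = - C c := by
    rw [map_sub, Derivation.leibniz]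
    simp
  rw [h1, inv_one_sub, neg_mul, map_neg, coeff_C_mul, coeff_mk, pow_succ]
  ring

/-- the logarithm series attached to a sequence of point counts -/
noncomputable def logSeries (N : ℕ → ℕ) : ℚ⟦X⟧ := PowerSeries.mk fun m => (N m : ℚ) / m

theorem constantCoeff_logSeries (N : ℕ → ℕ) : constantCoeff (logSeries N) = 0 := by
  rw [← coeff_zero_eq_constantCoeff_apply, logSeries, coeff_mk]
  simp

theorem coeff_derivative_logSeries (N : ℕ → ℕ) (m : ℕ) :
    coeff m (d⁄dX ℚ (logSeries N)) = (N (m + 1) : ℚ) := by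
  rw [coeff_derivative, logSeries, coeff_mk]
  have : ((m + 1 : ℕ) : ℚ) ≠ 0 := by exact_mod_cast Nat.succ_ne_zero m
  push_cast at this ⊢
  field_simp

theorem generic (N : ℕ → ℕ) (q : ℕ) (P : Polynomial ℤ)
    (hP : ∀ m : ℕ, 1 ≤ m → (N m : ℤ) = P.eval ((q : ℤ) ^ m)) :
    (exp ℚ).subst (logSeries N) * ∏ i ∈ Finset.range (P.natDegree + 1),
        (1 - PowerSeries.C ((q : ℚ) ^ i) * PowerSeries.X) ^ (P.coeff i).toNat =
      ∏ i ∈ Finset.range (P.natDegree + 1),
        (1 - PowerSeries.C ((q : ℚ) ^ i) * PowerSeries.X) ^ (-P.coeff i).toNat := by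
  have hL0 := constantCoeff_logSeries N
  have hlin : ∀ i : ℕ, IsLogDeriv (1 - C ((q : ℚ) ^ i) * X : ℚ⟦X⟧)
      (d⁄dX ℚ (1 - C ((q : ℚ) ^ i) * X : ℚ⟦X⟧) * (1 - C ((q : ℚ) ^ i) * X : ℚ⟦X⟧)⁻¹) :=
    fun i => isLogDeriv_of_constantCoeff_ne_zero _ (by simp)
  have hF := (isLogDeriv_exp_subst (logSeries N) hL0).mul
    (IsLogDeriv.prod (Finset.range (P.natDegree + 1)) _ _
      (fun i _ => (hlin i).pow (P.coeff i).toNat))
  have hG := IsLogDeriv.prod (Finset.range (P.natDegree + 1)) _ _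
      (fun i _ => (hlin i).pow (-P.coeff i).toNat)
  have key : d⁄dX ℚ (logSeries N) + ∑ i ∈ Finset.range (P.natDegree + 1), (P.coeff i).toNat •
      (d⁄dX ℚ (1 - C ((q : ℚ) ^ i) * X : ℚ⟦X⟧) * (1 - C ((q : ℚ) ^ i) * X : ℚ⟦X⟧)⁻¹) =
      ∑ i ∈ Finset.range (P.natDegree + 1), (-P.coeff i).toNat •
      (d⁄dX ℚ (1 - C ((q : ℚ) ^ i) * X : ℚ⟦X⟧) * (1 - C ((q : ℚ) ^ i) * X : ℚ⟦X⟧)⁻¹) := by
    ext m
    rw [map_add, coeff_derivative_logSeries, map_sum, map_sum]
    simp only [map_nsmul, coeff_dlog_one_sub]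
    simp only [nsmul_eq_mul]
    have h1 := hP (m + 1) (Nat.succ_le_succ (Nat.zero_le m))
    have h2 : (N (m + 1) : ℚ) = ((N (m + 1) : ℤ) : ℚ) := by push_cast; rfl
    rw [h2, h1, Polynomial.eval_eq_sum_range]
    push_cast
    rw [← sub_eq_zero, ← Finset.sum_add_distrib, ← Finset.sum_sub_distrib]
    apply Finset.sum_eq_zero
    intro i _
    have h3 : ((P.coeff i).toNat : ℚ) - ((-P.coeff i).toNat : ℚ) = (P.coeff i : ℚ) := by
      exact_mod_cast Int.toNat_sub_toNat_neg (P.coeff i)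
    rw [← pow_mul, ← pow_mul, mul_comm i (m + 1)]
    linear_combination (-((q : ℚ) ^ ((m + 1) * i))) * h3
  rw [key] at hF
  apply hF.unique hG
  · simp [constantCoeff_exp_subst _ hL0]
  · simp

end Generic

/-- Let X be a scheme of finite type over a finite field k with q elements and P = a_d y^d + ⋯ + a_0 ∈
ℤ[y] with N_m = P(q^m) for every m ≥ 1 (X is of polynomial count). Then Z(X, t) = ∏_{i = 0}^{d} (1 −
q^i t)^{−a_i}; stated cleared of denominators, with the factors of positive exponent moved to the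
left. -/
theorem result {k : Type u} [Field k] [Finite k] {X : Scheme.{u}}
    (f : X ⟶ Spec (CommRingCat.of k)) [LocallyOfFiniteType f] [QuasiCompact f] (P : Polynomial ℤ)
    (hP : ∀ m : ℕ, 1 ≤ m → (Zeta.nPts f m : ℤ) = P.eval ((Nat.card k : ℤ) ^ m)) :
    Zeta.zetaFun f * ∏ i ∈ Finset.range (P.natDegree + 1),
        (1 - PowerSeries.C ((Nat.card k : ℚ) ^ i) * PowerSeries.X) ^ (P.coeff i).toNat =
      ∏ i ∈ Finset.range (P.natDegree + 1),
        (1 - PowerSeries.C ((Nat.card k : ℚ) ^ i) * PowerSeries.X) ^ (-P.coeff i).toNat := by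
  exact generic (Zeta.nPts f) (Nat.card k) P hP

end Groth.Agent.S13055
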