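import Groth.Statements.S18416
import Groth.Agent.Lib.Helper62.EtaleQuot2

set_option autoImplicit false
set_option linter.style.haveILetI false
universe u v w
open CAlg

namespace Groth.Agent.S18416

/-- Let R → C and C → B be smooth ring homomorphisms, J an ideal of B and K the preimage of J in C, and
suppose that C surjects onto A = B/J (so that C/K = B/J = A). Then for every prime x of A there
exist f ∈ B whose image in A does not lie in x and an ideal J₀ of B_f contained in J B_f such that
the composite C → B_f → B_f/J₀ is étale. -/
theorem result (R : Type u) (C : Type v) (B : Type w)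
    [CommRing R] [CommRing C] [CommRing B] [Algebra R C] [Algebra C B] [Algebra R B] [IsScalarTower R C B]
    [Algebra.Smooth R C] [Algebra.Smooth C B] (J : Ideal B)
    (hsurj : Function.Surjective ((Ideal.Quotient.mk J).comp (algebraMap C B)))
    (x : PrimeSpectrum (B ⧸ J)) :
    ∃ f : B, Ideal.Quotient.mk J f ∉ x.asIdeal ∧
      ∃ J₀ : Ideal (Localization.Away f), J₀ ≤ J.map (algebraMap B (Localization.Away f)) ∧
        ((Ideal.Quotient.mk J₀).comp ((algebraMap B (Localization.Away f)).comp (algebraMap C B))).Etale := by
  classical
  have hCJ : ∀ b : B, ∃ c : C, b - algebraMap C B c ∈ J := by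
    intro b
    obtain ⟨c, hc⟩ := hsurj (Ideal.Quotient.mk J b)
    refine ⟨c, ?_⟩
    rw [← Ideal.Quotient.eq]
    exact hc.symm
  obtain ⟨f, hf, κ, hκ, a, ha, b, hb⟩ :=
    Groth.Agent.Lib.Helper62.EtaleQuot.exists_away_basis J hCJ
      (x.asIdeal.comap (Ideal.Quotient.mk J))
  refine ⟨f, hf, Ideal.span (Set.range fun i => algebraMap B (Localization.Away f) (a i)), ?_, ?_⟩
  · rw [Ideal.span_le]
    rintro _ ⟨i, rfl⟩
    exact Ideal.mem_map_of_mem _ (ha i)
  · haveI : Fintype κ := Fintype.ofFinite κ
    haveI : Algebra.Smooth B (Localization.Away f) := Algebra.Smooth.of_isLocalization_Away f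
    haveI : Algebra.Smooth C (Localization.Away f) := Algebra.Smooth.comp C B _
    set J₀ : Ideal (Localization.Away f) :=
      Ideal.span (Set.range fun i => algebraMap B (Localization.Away f) (a i)) with hJ₀
    have hker : RingHom.ker (algebraMap (Localization.Away f) (Localization.Away f ⧸ J₀)) = J₀ := by
      rw [Ideal.Quotient.algebraMap_eq, Ideal.mk_ker]
    have hfe : Algebra.FormallyEtale C (Localization.Away f ⧸ J₀) :=
      Groth.Agent.Lib.Helper62.EtaleQuot.formallyEtale_of_basis (C := C)
        (P := Localization.Away f) (T := Localization.Away f ⧸ J₀)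
        Ideal.Quotient.mk_surjective (fun i => algebraMap B (Localization.Away f) (a i))
        (fun i => by rw [hker]; exact Ideal.subset_span ⟨i, rfl⟩)
        (by rw [hker]) b hb
    have hfg : J₀.FG := ⟨Finset.univ.image fun i => algebraMap B (Localization.Away f) (a i), by
      rw [hJ₀]; congr 1; ext y; simp⟩
    have hfp : Algebra.FinitePresentation C (Localization.Away f ⧸ J₀) :=
      Algebra.FinitePresentation.quotient hfg
    have het : Algebra.Etale C (Localization.Away f ⧸ J₀) := ⟨hfe, hfp⟩
    have := RingHom.etale_algebraMap.mpr het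
    convert this using 1
    rw [IsScalarTower.algebraMap_eq C (Localization.Away f) (Localization.Away f ⧸ J₀),
      IsScalarTower.algebraMap_eq C B (Localization.Away f), Ideal.Quotient.algebraMap_eq]


end Groth.Agent.S18416
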