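import Groth.Statements.S9426
import Mathlib
import Groth.Agent.Lib.Helper48.Thickening

set_option autoImplicit false
universe u
open OmegaSh

namespace Groth.Agent.S9426

/-- A formally unramified R-algebra S admits a universal first order thickening: an R-algebra surjection
S' → S with square-zero kernel through which every R-algebra map from S into a square-zero quotient
A/I lifts uniquely to A. -/
theorem result (R : Type u) [CommRing R]
    (S : Type u) [CommRing S] [Algebra R S] [Algebra.FormallyUnramified R S] :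
    ∃ (S' : Type u) (_ : CommRing S') (_ : Algebra R S') (π : S' →ₐ[R] S),
      OmegaSh.IsUnivThickeningRing R S S' π := by
  classical
  let G := Algebra.Generators.self R S
  have hsurj : Function.Surjective (algebraMap G.Ring S) := G.algebraMap_surjective
  obtain ⟨J, hJ⟩ : ∃ J : Ideal G.Ring, J = RingHom.ker (algebraMap G.Ring S) := ⟨_, rfl⟩
  have key : ∀ s : S, ∃ g : G.Ring, g ∈ J ∧
      KaehlerDifferential.D R G.Ring g - KaehlerDifferential.D R G.Ring (MvPolynomial.X s) ∈
        (J • ⊤ : Submodule G.Ring (Ω[G.Ring⁄R])) := by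
    intro s
    obtain ⟨g, hg, hg'⟩ := Groth.Agent.Lib.Helper48.exists_mem_ker_D_sub_mem_smul_top R G.Ring S hsurj
      (KaehlerDifferential.D R G.Ring (MvPolynomial.X s))
    exact ⟨g, hJ ▸ hg, hJ ▸ hg'⟩
  choose g hgJ hg using key
  obtain ⟨J', hJ'⟩ : ∃ J' : Ideal G.Ring, J' = J ^ 2 ⊔ Ideal.span (Set.range g) := ⟨_, rfl⟩
  have hJ'J : J' ≤ J := by
    rw [hJ']
    refine sup_le (Ideal.pow_le_self two_ne_zero) ?_
    rw [Ideal.span_le]
    rintro _ ⟨s, rfl⟩
    exact hgJ s
  have hgJ' : ∀ s, g s ∈ J' := fun s => by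
    rw [hJ']; exact Ideal.mem_sup_right (Ideal.subset_span ⟨s, rfl⟩)
  have hJ2 : J ^ 2 ≤ J' := by rw [hJ']; exact le_sup_left
  let φ : G.Ring →ₐ[R] S := IsScalarTower.toAlgHom R G.Ring S
  have hφ : ∀ x, φ x = algebraMap G.Ring S x := fun x => rfl
  have hφX : ∀ s : S, φ (MvPolynomial.X s) = s := fun s => by
    rw [hφ, Algebra.Generators.algebraMap_apply]; simp [G, Algebra.Generators.self]
  have hkill : ∀ x ∈ J', φ x = 0 := fun x hx => by
    have := hJ'J hx; rw [hJ] at this; exact this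
  let π : (G.Ring ⧸ J') →ₐ[R] S := Ideal.Quotient.liftₐ J' φ hkill
  have hπmk : ∀ p : G.Ring, π (Ideal.Quotient.mk J' p) = φ p := fun p => rfl
  refine ⟨G.Ring ⧸ J', inferInstance, inferInstance, π, ?_, ?_, ?_⟩
  · intro s
    obtain ⟨p, hp⟩ := hsurj s
    exact ⟨Ideal.Quotient.mk J' p, hp⟩
  · -- kernel of π is the image of J
    have hker : RingHom.ker π.toRingHom ≤ J.map (Ideal.Quotient.mk J') := by
      intro x hx
      obtain ⟨p, rfl⟩ := Ideal.Quotient.mk_surjective x
      refine Ideal.mem_map_of_mem _ ?_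
      rw [hJ]; exact hx
    rw [eq_bot_iff]
    calc RingHom.ker π.toRingHom ^ 2 ≤ (J.map (Ideal.Quotient.mk J')) ^ 2 := Ideal.pow_right_mono hker 2
      _ = (J ^ 2).map (Ideal.Quotient.mk J') := (Ideal.map_pow _ _ _).symm
      _ ≤ J'.map (Ideal.Quotient.mk J') := Ideal.map_mono hJ2
      _ = ⊥ := Ideal.map_quotient_self J'
  · intro A _ _ I hI a
    have hII : ∀ x ∈ I, ∀ y ∈ I, x * y = 0 := fun x hx y hy => by
      have : x * y ∈ I ^ 2 := by rw [pow_two]; exact Ideal.mul_mem_mul hx hy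
      rwa [hI] at this
    -- choose a lift of `a ∘ φ`
    have hl : ∀ s : S, ∃ x : A, Ideal.Quotient.mk I x = a s := fun s =>
      Ideal.Quotient.mk_surjective _
    choose l hl using hl
    let ψ₀ : G.Ring →ₐ[R] A := MvPolynomial.aeval l
    have h₀ : (Ideal.Quotient.mkₐ R I).comp ψ₀ = a.comp φ := by
      refine MvPolynomial.algHom_ext fun s => ?_
      simp only [AlgHom.comp_apply, Ideal.Quotient.mkₐ_eq_mk, ψ₀, MvPolynomial.aeval_X, hl, hφX]
    have h₀' : ∀ p, Ideal.Quotient.mk I (ψ₀ p) = a (φ p) := fun p => congr($h₀ p)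
    have hψ₀J : ∀ j ∈ J, ψ₀ j ∈ I := fun j hj => by
      rw [← Ideal.Quotient.eq_zero_iff_mem, h₀']
      rw [hJ] at hj
      rw [hφ, hj, map_zero]
    let : Algebra G.Ring A := ψ₀.toRingHom.toAlgebra
    have : IsScalarTower R G.Ring A := IsScalarTower.of_algebraMap_eq fun r => (ψ₀.commutes r).symm
    have hJI : ∀ j ∈ J, ∀ m : I, j • m = 0 := fun j hj m => by
      ext
      rw [Submodule.coe_smul_of_tower, Algebra.smul_def]
      exact hII _ (hψ₀J j hj) _ m.2
    -- the correcting derivation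
    let D₀ : Derivation R G.Ring I :=
      MvPolynomial.mkDerivation R fun s => -⟨ψ₀ (g s), hψ₀J _ (hgJ s)⟩
    have hD : ∀ (D : Derivation R G.Ring I) (s : S), D (g s) = D (MvPolynomial.X s) := fun D s =>
      Groth.Agent.Lib.Helper48.derivation_eq_of_D_sub_mem_smul_top J hJI D _ _ (hg s)
    let ψ : G.Ring →ₐ[R] A := liftOfDerivationToSquareZero I hI D₀
    have hψ : ∀ p, ψ p = D₀ p + ψ₀ p := fun p => rfl
    have hψmk : ∀ p, Ideal.Quotient.mk I (ψ p) = a (φ p) := fun p => by
      rw [hψ, map_add, Ideal.Quotient.eq_zero_iff_mem.mpr (D₀ p).2, zero_add, h₀']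
    have hψJ : ∀ j ∈ J, ψ j ∈ I := fun j hj => by
      rw [← Ideal.Quotient.eq_zero_iff_mem, hψmk]
      rw [hJ] at hj
      rw [hφ, hj, map_zero]
    -- uniqueness statement for maps out of the polynomial ring
    have huniq : ∀ ψ₁ : G.Ring →ₐ[R] A, (Ideal.Quotient.mkₐ R I).comp ψ₁ = a.comp φ →
        (∀ s, ψ₁ (g s) = 0) → ψ₁ = ψ := by
      intro ψ₁ h₁ hg₁
      have e₁ : (Ideal.Quotient.mkₐ R I).comp ψ₁ = IsScalarTower.toAlgHom R G.Ring (A ⧸ I) := by
        rw [h₁, ← h₀]; rfl
      let D₁ : Derivation R G.Ring I := derivationToSquareZeroOfLift I hI ψ₁ e₁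
      have hD₁ : ∀ p, (D₁ p : A) = ψ₁ p - ψ₀ p := fun p => rfl
      have : D₁ = D₀ := by
        refine MvPolynomial.derivation_ext fun s => ?_
        rw [← hD D₁ s]
        ext
        rw [hD₁, hg₁, zero_sub]
        simp [D₀, MvPolynomial.mkDerivation_X]
      refine AlgHom.ext fun p => ?_
      rw [hψ, ← this, hD₁, sub_add_cancel]
    have hψkill : ∀ x ∈ J', ψ x = 0 := by
      intro x hx
      rw [hJ'] at hx
      have hle : J ^ 2 ⊔ Ideal.span (Set.range g) ≤ RingHom.ker ψ.toRingHom := by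
        refine sup_le ?_ ?_
        · rw [pow_two, Ideal.mul_le]
          intro x hx y hy
          rw [RingHom.mem_ker]
          change ψ (x * y) = 0
          rw [map_mul]
          exact hII _ (hψJ x hx) _ (hψJ y hy)
        · rw [Ideal.span_le]
          rintro _ ⟨s, rfl⟩
          change ψ (g s) = 0
          rw [hψ, hD D₀ s]
          simp [D₀, MvPolynomial.mkDerivation_X]
      exact hle hx
    let a' : (G.Ring ⧸ J') →ₐ[R] A := Ideal.Quotient.liftₐ J' ψ hψkill
    have ha'mk : ∀ p, a' (Ideal.Quotient.mk J' p) = ψ p := fun p => rfl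
    refine ⟨a', ?_, ?_⟩
    · refine AlgHom.ext fun x => ?_
      obtain ⟨p, rfl⟩ := Ideal.Quotient.mk_surjective x
      simp only [AlgHom.comp_apply, Ideal.Quotient.mkₐ_eq_mk, ha'mk, hψmk, hπmk]
    · intro b hb
      have hb' : ∀ p, Ideal.Quotient.mk I (b (Ideal.Quotient.mk J' p)) = a (φ p) := fun p =>
        congr($hb (Ideal.Quotient.mk J' p))
      have := huniq (b.comp (Ideal.Quotient.mkₐ R J')) ?_ ?_
      · refine AlgHom.ext fun x => ?_
        obtain ⟨p, rfl⟩ := Ideal.Quotient.mk_surjective x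
        rw [ha'mk, ← this]; rfl
      · refine AlgHom.ext fun p => ?_
        exact hb' p
      · intro s
        simp only [AlgHom.comp_apply, Ideal.Quotient.mkₐ_eq_mk]
        rw [Ideal.Quotient.eq_zero_iff_mem.mpr (hgJ' s), map_zero]

end Groth.Agent.S9426
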