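import Groth.Statements.S7420
import Groth.Agent.Lib.Helper37.AWN

set_option autoImplicit false
universe u
open CategoryTheory AlgebraicGeometry
open HTop

namespace Groth.Agent.S7420

/-- A scheme `X` is seminormal if and only if `O_X(U)` is seminormal for every affine open `U ⊆ X`; the
same holds with 'seminormal' replaced by 'absolutely weakly normal'. -/
theorem result (X : Scheme.{u}) :
    (HTop.IsSeminormal X ↔ ∀ U : X.affineOpens, HTop.IsSeminormalRing Γ(X, U)) ∧
    (HTop.IsAWN X ↔ ∀ U : X.affineOpens, HTop.IsAWNRing Γ(X, U)) := by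
  have hnhd : ∀ x : X, ∃ U : X.affineOpens, x ∈ (U : X.Opens) := by
    intro x
    obtain ⟨(U : X.Opens), hU, hxU, -⟩ := TopologicalSpace.Opens.isBasis_iff_nbhd.mp
      X.isBasis_affineOpens (TopologicalSpace.Opens.mem_top x)
    exact ⟨⟨U, hU⟩, hxU⟩
  constructor
  · constructor
    · intro h V
      have hsup : (⨆ x : X, ((h x).choose : X.Opens)) = ⊤ := by
        rw [eq_top_iff]
        intro x _
        exact TopologicalSpace.Opens.mem_iSup.mpr ⟨x, (h x).choose_spec.1⟩
      refine of_affine_open_cover (P := fun U => HTop.IsSeminormalRing Γ(X, U))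
        (fun x : X => (h x).choose) hsup V ?_ ?_ (fun x => (h x).choose_spec.2)
      · intro U f hU
        have := U.2.isLocalization_basicOpen f
        exact Groth.Agent.Lib.Helper37.isSeminormalRing_of_isLocalizationAway f
          Γ(X, X.basicOpen f) hU
      · intro U s hs hP
        refine Groth.Agent.Lib.Helper37.isSeminormalRing_of_span_eq_top s hs
          (fun f => Γ(X, X.basicOpen f)) (fun f _ => U.2.isLocalization_basicOpen f)
          (fun f hf => hP ⟨f, hf⟩)
    · intro h x
      obtain ⟨U, hxU⟩ := hnhd x
      exact ⟨U, hxU, h U⟩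
  · constructor
    · intro h V
      have hsup : (⨆ x : X, ((h x).choose : X.Opens)) = ⊤ := by
        rw [eq_top_iff]
        intro x _
        exact TopologicalSpace.Opens.mem_iSup.mpr ⟨x, (h x).choose_spec.1⟩
      refine of_affine_open_cover (P := fun U => HTop.IsAWNRing Γ(X, U))
        (fun x : X => (h x).choose) hsup V ?_ ?_ (fun x => (h x).choose_spec.2)
      · intro U f hU
        have := U.2.isLocalization_basicOpen f
        exact Groth.Agent.Lib.Helper37.isAWNRing_of_isLocalizationAway f
          Γ(X, X.basicOpen f) hU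
      · intro U s hs hP
        refine Groth.Agent.Lib.Helper37.isAWNRing_of_span_eq_top s hs
          (fun f => Γ(X, X.basicOpen f)) (fun f _ => U.2.isLocalization_basicOpen f)
          (fun f hf => hP ⟨f, hf⟩)
    · intro h x
      obtain ⟨U, hxU⟩ := hnhd x
      exact ⟨U, hxU, h U⟩

end Groth.Agent.S7420
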