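import Groth.Statements.S10881
import Groth.Agent.Lib.Helper97.FinRegFlat
import Groth.Agent.S2082
import Groth.Agent.Lib.Helper73.RegularNormal
import Groth.Agent.Lib.Helper28.RegularCM

set_option autoImplicit false
universe u
open CategoryTheory AlgebraicGeometry
open FlatMor

namespace Groth.Agent.S10881

/-- A finite morphism f : X → Y between regular schemes (locally Noetherian with regular local rings)
under which each irreducible component of X dominates some irreducible component of Y is flat, hence
finite locally free. (The published statement asks only that f be dominant; for X the disjoint union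
of the affine line and a point, mapped to the affine line Y by the identity and the inclusion of a
closed point, f is finite and dominant between regular schemes but not flat, and the published
argument uses injectivity of the local ring maps, which holds exactly under the component-wise
dominance assumed here.) -/
theorem result {X Y : Scheme.{u}} (f : X ⟶ Y) [IsFinite f]
    [IsLocallyNoetherian X] [IsLocallyNoetherian Y]
    (hX : ∀ x : X, IsRegularLocalRing (X.presheaf.stalk x))
    (hY : ∀ y : Y, IsRegularLocalRing (Y.presheaf.stalk y))
    (hdom : ∀ Z ∈ irreducibleComponents (X : Type u), closure (f.base '' Z) ∈ irreducibleComponents (Y : Type u)) :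
    Flat f := by
  open Groth.Agent.Lib.Helper97.FinRegFlat in
  rw [AlgebraicGeometry.Flat.iff_flat_stalkMap]
  intro x
  haveI hB := hX x
  haveI hA := hY (f.base x)
  obtain ⟨hAd, hAic⟩ := Groth.Agent.Lib.Helper73.RegularNormal.isIntegrallyClosed_of_isRegularLocalRing
    (Y.presheaf.stalk (f.base x))
  obtain ⟨hBd, -⟩ := Groth.Agent.Lib.Helper73.RegularNormal.isIntegrallyClosed_of_isRegularLocalRing
    (X.presheaf.stalk x)
  letI := (f.stalkMap x).hom.toAlgebra
  haveI : IsLocalHom (algebraMap (Y.presheaf.stalk (f.base x)) (X.presheaf.stalk x)) :=
    inferInstanceAs (IsLocalHom (f.stalkMap x).hom)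
  haveI : Algebra.HasGoingDown (Y.presheaf.stalk (f.base x)) (X.presheaf.stalk x) :=
    hasGoingDown_of_loc (stalkMap_injective_of_dominant f hdom x) (exists_integral_frac f x)
  have hdim := ringKrullDim_eq_add_of_hasGoingDown (A := Y.presheaf.stalk (f.base x))
    (B := X.presheaf.stalk x)
  haveI : LocCoh.IsCohenMacaulayLocalRing (X.presheaf.stalk x) :=
    Groth.Agent.Lib.Helper28.isCohenMacaulayLocalRing_of_isRegularLocalRing (X.presheaf.stalk x)
  exact Groth.Agent.S2082.result hdim

end Groth.Agent.S10881
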