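import Groth.Statements.S15345
import Mathlib.RingTheory.TensorProduct.Basic
import Mathlib.RingTheory.FiniteType
import Mathlib.AlgebraicGeometry.Morphisms.FiniteType
import Mathlib.AlgebraicGeometry.PullbackCarrier
-- import your own Groth.Agent.* helpers here

set_option autoImplicit false
set_option linter.style.haveILetI false
set_option linter.unusedSectionVars false
universe u
open CategoryTheory CategoryTheory.Limits AlgebraicGeometry
open Mor

namespace Groth.Agent.S15345

open TensorProduct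

/-- Every element of `B ⊗[R] R'` comes from `B ⊗[R] A₀` for a finitely generated subalgebra
`A₀ ⊆ R'`. -/
theorem exists_fg_subalgebra (R B R' : Type u) [CommRing R] [CommRing B] [CommRing R']
    [Algebra R B] [Algebra R R'] (h : B ⊗[R] R') :
    ∃ (A₀ : Subalgebra R R'), A₀.FG ∧ ∃ h'' : B ⊗[R] A₀,
      Algebra.TensorProduct.map (AlgHom.id R B) A₀.val h'' = h := by
  induction h using TensorProduct.induction_on with
  | zero => exact ⟨⊥, Subalgebra.fg_bot, 0, map_zero _⟩
  | tmul b r =>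
    have hfg : (Algebra.adjoin R ({r} : Set R')).FG := by
      have := Subalgebra.fg_adjoin_finset (R := R) ({r} : Finset R')
      simpa using this
    refine ⟨Algebra.adjoin R {r}, hfg,
      b ⊗ₜ ⟨r, Algebra.subset_adjoin (Set.mem_singleton r)⟩, ?_⟩
    simp
  | add x y hx hy =>
    obtain ⟨A₁, hA₁, x'', hx''⟩ := hx
    obtain ⟨A₂, hA₂, y'', hy''⟩ := hy
    refine ⟨A₁ ⊔ A₂, hA₁.sup hA₂,
      Algebra.TensorProduct.map (AlgHom.id R B) (Subalgebra.inclusion le_sup_left) x'' +
      Algebra.TensorProduct.map (AlgHom.id R B) (Subalgebra.inclusion le_sup_right) y'', ?_⟩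
    rw [map_add, ← hx'', ← hy'']
    congr 1
    · rw [← AlgHom.comp_apply, ← Algebra.TensorProduct.map_comp]
      rfl
    · rw [← AlgHom.comp_apply, ← Algebra.TensorProduct.map_comp]
      rfl

/-- The topological core of the argument. -/
theorem core {P P'' Z Z'' : Type*} [TopologicalSpace P] [TopologicalSpace P'']
    [TopologicalSpace Z] [TopologicalSpace Z''] (Pi : P → P'')
    (ι : Z → P) (ι'' : Z'' → P'') (hι'' : Topology.IsOpenEmbedding ι'')
    (PiZ : Z → Z'') (hcomm : ∀ z, ι'' (PiZ z) = Pi (ι z))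
    (hcart : ∀ y, Pi y ∈ Set.range ι'' → y ∈ Set.range ι) (z₀ : Z) (y₁ : P)
    (hspec : Pi y₁ ⤳ Pi (ι z₀)) (D'' : Set Z'') (hD : IsOpen D'') (h0 : PiZ z₀ ∈ D'') :
    ∃ z₁, ι z₁ = y₁ ∧ PiZ z₁ ∈ D'' := by
  have hopen : IsOpen (ι'' '' D'') := hι''.isOpenMap _ hD
  have hmem : Pi (ι z₀) ∈ ι'' '' D'' := ⟨PiZ z₀, h0, hcomm z₀⟩
  obtain ⟨w, hw, hw'⟩ := hspec.mem_open hopen hmem
  obtain ⟨z₁, rfl⟩ := hcart y₁ ⟨w, hw'⟩
  refine ⟨z₁, rfl, ?_⟩
  rw [← hcomm] at hw'
  rwa [← hι''.injective hw']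

/-- The hypothesis of the statement. -/
def Hyp {X Y : Scheme.{u}} (f : Y ⟶ X) : Prop :=
  ∀ (X' : Scheme.{u}) (g : X' ⟶ X) [LocallyOfFiniteType g] (y₀ y₁ : ↥(pullback f g)),
      (pullback.snd f g).base y₁ ⤳ (pullback.snd f g).base y₀ → y₁ ⤳ y₀

section Affine

variable {X Y : Scheme.{u}} (f : Y ⟶ X)
  (R B : Type u) [CommRing R] [CommRing B] [Algebra R B]
  (φU : Spec (.of R) ⟶ X) (φV : Spec (.of B) ⟶ Y) [IsOpenImmersion φU] [IsOpenImmersion φV]
  (hV : φV ≫ f = Spec.map (CommRingCat.ofHom (algebraMap R B)) ≫ φU)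
  (T : Type u) [CommRing T] [Algebra R T]

/-- The chart `Spec (B ⊗[R] T) ⟶ Y ×[X] Spec T`. -/
noncomputable def chart :
    Spec (.of (B ⊗[R] T)) ⟶ pullback f (Spec.map (CommRingCat.ofHom (algebraMap R T)) ≫ φU) :=
  (pullbackSpecIso R B T).inv ≫
    pullback.map (Spec.map (CommRingCat.ofHom (algebraMap R B)))
      (Spec.map (CommRingCat.ofHom (algebraMap R T))) f
      (Spec.map (CommRingCat.ofHom (algebraMap R T)) ≫ φU) φV (𝟙 _) φU hV.symm
      (by rw [Category.id_comp])

instance : IsOpenImmersion (chart f R B φU φV hV T) := by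
  unfold chart
  infer_instance

lemma range_chart :
    Set.range (chart f R B φU φV hV T) =
      pullback.fst f (Spec.map (CommRingCat.ofHom (algebraMap R T)) ≫ φU) ⁻¹' Set.range φV := by
  unfold chart
  rw [Scheme.Hom.comp_base, TopCat.coe_comp, Set.range_comp,
    Set.range_eq_univ.mpr (pullbackSpecIso R B T).inv.surjective, Set.image_univ,
    Scheme.Pullback.range_map]
  simp

@[reassoc]
lemma chart_fst :
    chart f R B φU φV hV T ≫ pullback.fst f _ =
      Spec.map (CommRingCat.ofHom Algebra.TensorProduct.includeLeftRingHom) ≫ φV := by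
  unfold chart
  rw [Category.assoc, pullback.map, pullback.lift_fst, pullbackSpecIso_inv_fst_assoc]

@[reassoc]
lemma chart_snd :
    chart f R B φU φV hV T ≫ pullback.snd f _ =
      Spec.map (CommRingCat.ofHom (R := T) (S := B ⊗[R] T)
        (RingHomClass.toRingHom Algebra.TensorProduct.includeRight)) := by
  unfold chart
  rw [Category.assoc, pullback.map, pullback.lift_snd, pullbackSpecIso_inv_snd_assoc,
    Category.comp_id]

section Transition

variable (T'' : Type u) [CommRing T''] [Algebra R T''] (θ : T'' →ₐ[R] T)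

lemma trans_base :
    Spec.map (CommRingCat.ofHom θ.toRingHom) ≫
      (Spec.map (CommRingCat.ofHom (algebraMap R T'')) ≫ φU) =
    Spec.map (CommRingCat.ofHom (algebraMap R T)) ≫ φU := by
  rw [← Category.assoc, ← Spec.map_comp, ← CommRingCat.ofHom_comp]
  congr 3
  exact θ.comp_algebraMap

/-- The transition map between the fibre products. -/
noncomputable def trans :
    pullback f (Spec.map (CommRingCat.ofHom (algebraMap R T)) ≫ φU) ⟶
      pullback f (Spec.map (CommRingCat.ofHom (algebraMap R T'')) ≫ φU) :=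
  pullback.map f _ f _ (𝟙 Y) (Spec.map (CommRingCat.ofHom θ.toRingHom)) (𝟙 X)
    (by rw [Category.id_comp, Category.comp_id])
    (by rw [Category.comp_id, trans_base])

@[reassoc]
lemma trans_fst : trans f R φU T T'' θ ≫ pullback.fst f _ = pullback.fst f _ := by
  unfold trans
  rw [pullback.map, pullback.lift_fst, Category.comp_id]

@[reassoc]
lemma trans_snd : trans f R φU T T'' θ ≫ pullback.snd f _ =
    pullback.snd f _ ≫ Spec.map (CommRingCat.ofHom θ.toRingHom) := by
  unfold trans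
  rw [pullback.map, pullback.lift_snd]

lemma chart_trans :
    chart f R B φU φV hV T ≫ trans f R φU T T'' θ =
      Spec.map (CommRingCat.ofHom
        (Algebra.TensorProduct.map (AlgHom.id R B) θ).toRingHom) ≫
        chart f R B φU φV hV T'' := by
  apply pullback.hom_ext
  · rw [Category.assoc, trans_fst, chart_fst, Category.assoc, chart_fst, ← Spec.map_comp_assoc,
      ← CommRingCat.ofHom_comp]
    congr 3
    ext b
    simp
  · rw [Category.assoc, trans_snd, chart_snd_assoc, Category.assoc, chart_snd, ← Spec.map_comp,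
      ← Spec.map_comp, ← CommRingCat.ofHom_comp, ← CommRingCat.ofHom_comp]
    congr 2

end Transition

lemma mem_range_chart_of_trans (T'' : Type u) [CommRing T''] [Algebra R T''] (θ : T'' →ₐ[R] T)
    (y : ↥(pullback f (Spec.map (CommRingCat.ofHom (algebraMap R T)) ≫ φU)))
    (hy : trans f R φU T T'' θ y ∈ Set.range (chart f R B φU φV hV T'')) :
    y ∈ Set.range (chart f R B φU φV hV T) := by
  rw [range_chart] at hy ⊢
  simp only [Set.mem_preimage] at hy ⊢
  rwa [← Scheme.Hom.comp_apply, trans_fst] at hy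

include hV in
theorem affine_case (hyp : Hyp f)
    (y₀ y₁ : ↥(pullback f (Spec.map (CommRingCat.ofHom (algebraMap R T)) ≫ φU)))
    (hy₀ : (pullback.fst f (Spec.map (CommRingCat.ofHom (algebraMap R T)) ≫ φU)) y₀ ∈
      Set.range φV)
    (hs : (pullback.snd f (Spec.map (CommRingCat.ofHom (algebraMap R T)) ≫ φU)) y₁ ⤳
      (pullback.snd f (Spec.map (CommRingCat.ofHom (algebraMap R T)) ≫ φU)) y₀) : y₁ ⤳ y₀ := by
  have hy₀' : y₀ ∈ Set.range (chart f R B φU φV hV T) := by rw [range_chart]; exact hy₀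
  obtain ⟨z₀, rfl⟩ := hy₀'
  rw [specializes_iff_forall_open]
  intro W hW hW0
  have hopen : IsOpen ((chart f R B φU φV hV T) ⁻¹' W) :=
    hW.preimage (chart f R B φU φV hV T).continuous
  obtain ⟨_, ⟨h, rfl⟩, hz₀, hsub⟩ :=
    PrimeSpectrum.isTopologicalBasis_basic_opens.exists_subset_of_mem_open
      (show z₀ ∈ (chart f R B φU φV hV T) ⁻¹' W from hW0) hopen
  obtain ⟨A₀, hA₀, h'', hh''⟩ := exists_fg_subalgebra R B T h
  haveI : LocallyOfFiniteType (Spec.map (CommRingCat.ofHom (algebraMap R A₀))) := by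
    rw [HasRingHomProperty.Spec_iff (P := @LocallyOfFiniteType)]
    have : Algebra.FiniteType R A₀ := (Subalgebra.fg_iff_finiteType A₀).mp hA₀
    exact (RingHom.finiteType_algebraMap (A := R) (B := A₀)).mpr this
  have key := hyp _ (Spec.map (CommRingCat.ofHom (algebraMap R A₀)) ≫ φU)
    (trans f R φU T A₀ A₀.val (chart f R B φU φV hV T z₀)) (trans f R φU T A₀ A₀.val y₁) (by
      rw [← Scheme.Hom.comp_apply, ← Scheme.Hom.comp_apply, trans_snd]
      exact hs.map (Spec.map (CommRingCat.ofHom A₀.val.toRingHom)).continuous)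
  obtain ⟨z₁, hz₁, hz₁'⟩ := core (trans f R φU T A₀ A₀.val) (chart f R B φU φV hV T)
    (chart f R B φU φV hV A₀) (chart f R B φU φV hV A₀).isOpenEmbedding
    (Spec.map (CommRingCat.ofHom (Algebra.TensorProduct.map (AlgHom.id R B) A₀.val).toRingHom))
    (fun z => by
      rw [← Scheme.Hom.comp_apply, ← Scheme.Hom.comp_apply, chart_trans])
    (fun y hy => mem_range_chart_of_trans f R B φU φV hV T A₀ A₀.val y hy)
    z₀ y₁ key (PrimeSpectrum.basicOpen h'' : Set (PrimeSpectrum (B ⊗[R] A₀)))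
      (PrimeSpectrum.basicOpen h'').isOpen (by
      change h'' ∉ Ideal.comap _ z₀.asIdeal
      rw [Ideal.mem_comap]
      change (Algebra.TensorProduct.map (AlgHom.id R B) A₀.val) h'' ∉ z₀.asIdeal
      rw [hh'']
      exact hz₀)
  rw [← hz₁]
  apply hsub
  change h ∉ z₁.asIdeal
  rw [← hh'']
  exact hz₁'

end Affine

/-- Reflection of specializations along `pullback.snd f g` for points whose image in `Y` lies in a
given set. -/
def Refl {X Y X' : Scheme.{u}} (f : Y ⟶ X) (g : X' ⟶ X) (S : Set Y) : Prop :=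
  ∀ y₀ y₁ : ↥(pullback f g), (pullback.fst f g) y₀ ∈ S →
    (pullback.snd f g) y₁ ⤳ (pullback.snd f g) y₀ → y₁ ⤳ y₀

theorem refl_of_eq {X Y X' : Scheme.{u}} (f : Y ⟶ X) {g₁ g₂ : X' ⟶ X} (e : g₁ = g₂) (S : Set Y)
    (H : Refl f g₂ S) : Refl f g₁ S := by
  subst e; exact H

theorem main {X Y : Scheme.{u}} (f : Y ⟶ X) (hyp : Hyp f)
    (X' : Scheme.{u}) (g : X' ⟶ X) (y₀ y₁ : ↥(pullback f g))
    (hs : (pullback.snd f g) y₁ ⤳ (pullback.snd f g) y₀) : y₁ ⤳ y₀ := by
  -- choose affine opens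
  obtain ⟨U, hU, hxU, -⟩ := (TopologicalSpace.Opens.isBasis_iff_nbhd.mp X.isBasis_affineOpens)
    (show g ((pullback.snd f g) y₀) ∈ (⊤ : X.Opens) from trivial)
  have hq : f ((pullback.fst f g) y₀) ∈ U := by
    rw [← Scheme.Hom.comp_apply, pullback.condition, Scheme.Hom.comp_apply]; exact hxU
  obtain ⟨V, hV, hyV, eV⟩ := (TopologicalSpace.Opens.isBasis_iff_nbhd.mp Y.isBasis_affineOpens)
    (show (pullback.fst f g) y₀ ∈ f ⁻¹ᵁ U from hq)
  obtain ⟨U', hU', hxU', eU'⟩ := (TopologicalSpace.Opens.isBasis_iff_nbhd.mp X'.isBasis_affineOpens)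
    (show (pullback.snd f g) y₀ ∈ g ⁻¹ᵁ U from hxU)
  change IsAffineOpen U at hU
  change IsAffineOpen V at hV
  change IsAffineOpen U' at hU'
  letI : Algebra Γ(X, U) Γ(Y, V) := (f.appLE U V eV).hom.toAlgebra
  letI : Algebra Γ(X, U) Γ(X', U') := (g.appLE U U' eU').hom.toAlgebra
  have hVcomm : hV.fromSpec ≫ f =
      Spec.map (CommRingCat.ofHom (algebraMap Γ(X, U) Γ(Y, V))) ≫ hU.fromSpec :=
    (IsAffineOpen.SpecMap_appLE_fromSpec f hU hV eV).symm
  have hg' : hU'.fromSpec ≫ g =
      Spec.map (CommRingCat.ofHom (algebraMap Γ(X, U) Γ(X', U'))) ≫ hU.fromSpec :=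
    (IsAffineOpen.SpecMap_appLE_fromSpec g hU hU' eU').symm
  have HR : Refl f (hU'.fromSpec ≫ g) (Set.range hV.fromSpec) :=
    refl_of_eq f hg' _ (fun w₀ w₁ h0 h1 =>
      affine_case f Γ(X, U) Γ(Y, V) hU.fromSpec hV.fromSpec hVcomm Γ(X', U') hyp w₀ w₁ h0 h1)
  -- the open immersion `j`
  let j : pullback f (hU'.fromSpec ≫ g) ⟶ pullback f g :=
    pullback.map f (hU'.fromSpec ≫ g) f g (𝟙 Y) hU'.fromSpec (𝟙 X)
      (by rw [Category.id_comp, Category.comp_id]) (by rw [Category.comp_id])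
  have hjfst : j ≫ pullback.fst f g = pullback.fst f _ := by
    simp only [j, pullback.map, pullback.lift_fst, Category.comp_id]
  have hjsnd : j ≫ pullback.snd f g = pullback.snd f _ ≫ hU'.fromSpec := by
    simp only [j, pullback.map, pullback.lift_snd]
  have hrange : Set.range j = (pullback.snd f g) ⁻¹' (U' : Set X') := by
    simp only [j]
    rw [Scheme.Pullback.range_map, hU'.range_fromSpec]
    simp
  have hy₁U' : (pullback.snd f g) y₁ ∈ U' := hs.mem_open U'.isOpen hxU'
  obtain ⟨w₀, rfl⟩ : y₀ ∈ Set.range j := by rw [hrange]; exact hxU'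
  obtain ⟨w₁, rfl⟩ : y₁ ∈ Set.range j := by rw [hrange]; exact hy₁U'
  refine (HR w₀ w₁ ?_ ?_).map j.continuous
  · rw [hV.range_fromSpec, ← hjfst, Scheme.Hom.comp_apply]
    exact hyV
  · rw [← Scheme.Hom.comp_apply, ← Scheme.Hom.comp_apply, hjsnd, Scheme.Hom.comp_apply,
      Scheme.Hom.comp_apply] at hs
    exact hU'.fromSpec.isOpenEmbedding.isInducing.specializes_iff.mp hs

/-- Let f : Y ⟶ X be a morphism of schemes, X quasi-separated. If for every morphism X' ⟶ X locally of
finite type the projection Y ×_X X' ⟶ X' reflects specializations (the image of y₁ specializing to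
the image of y₀ forces y₁ to specialize to y₀), then the same holds for every morphism X' ⟶ X. (The
published statement assumes moreover that f is a monomorphism; this row does not.) -/
theorem result {X Y : Scheme.{u}} [QuasiSeparatedSpace ↥X]
    (f : Y ⟶ X)
    (h : ∀ (X' : Scheme.{u}) (g : X' ⟶ X) [LocallyOfFiniteType g] (y₀ y₁ : ↥(pullback f g)),
      (pullback.snd f g).base y₁ ⤳ (pullback.snd f g).base y₀ → y₁ ⤳ y₀) :
    ∀ (X' : Scheme.{u}) (g : X' ⟶ X) (y₀ y₁ : ↥(pullback f g)),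
        (pullback.snd f g).base y₁ ⤳ (pullback.snd f g).base y₀ → y₁ ⤳ y₀ := by
  intro X' g y₀ y₁ hs
  exact main f (fun X' g _ y₀ y₁ hs => h X' g y₀ y₁ hs) X' g y₀ y₁ hs

end Groth.Agent.S15345
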