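import Groth.Statements.S1373
import Groth.Agent.S15345
-- import your own Groth.Agent.* helpers here

set_option autoImplicit false
set_option linter.style.haveILetI false
set_option linter.unusedSectionVars false
universe u
open FlatMor

namespace Groth.Agent.S1373

open AlgebraicGeometry CategoryTheory Limits TensorProduct
open Groth.Agent.S15345

/-- Base change of an open map along an injective continuous map whose base change is open. -/
theorem isOpenMap_snd_of_cartesian {A A' O P : Type*} [TopologicalSpace A] [TopologicalSpace A']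
    [TopologicalSpace O] [TopologicalSpace P] (F : A → A') (hF : IsOpenMap F) (ψ : O → A')
    (hψc : Continuous ψ) (hψi : Function.Injective ψ) (fst : P → A) (hfst : IsOpenMap fst)
    (snd : P → O) (hcomm : ∀ w, F (fst w) = ψ (snd w)) : IsOpenMap snd := by
  intro W hW
  have : snd '' W = ψ ⁻¹' (F '' (fst '' W)) := by
    ext o
    constructor
    · rintro ⟨w, hw, rfl⟩
      exact ⟨fst w, ⟨w, hw, rfl⟩, hcomm w⟩
    · rintro ⟨a, ⟨w, hw, rfl⟩, ha⟩
      refine ⟨w, hw, hψi ?_⟩
      rw [← hcomm, ha]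
  rw [this]
  exact (hF _ (hfst _ hW)).preimage hψc

theorem isOpenMap_snd_congr {X S S' : Scheme.{u}} (f : X ⟶ S) {g₁ g₂ : S' ⟶ S} (e : g₁ = g₂)
    (H : IsOpenMap (pullback.snd f g₁)) : IsOpenMap (pullback.snd f g₂) := by
  subst e; exact H

/-- If `𝔸ⁿ_X ⟶ 𝔸ⁿ_S` is open, then so is the base change of `f` along `O ⟶ 𝔸ⁿ_S ⟶ S` for any open
immersion `O ⟶ 𝔸ⁿ_S`. -/
theorem isOpenMap_snd_of_openImmersion {X S : Scheme.{u}} (f : X ⟶ S) (n : Type u)
    (hf : IsOpenMap ⇑(AffineSpace.map n f)) {O : Scheme.{u}} (ψ : O ⟶ 𝔸(n; S))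
    [IsOpenImmersion ψ] : IsOpenMap (pullback.snd f (ψ ≫ 𝔸(n; S) ↘ S)) := by
  have h1 : IsOpenMap (pullback.snd (AffineSpace.map n f) ψ) :=
    isOpenMap_snd_of_cartesian _ hf ψ ψ.continuous ψ.isOpenEmbedding.injective
      (pullback.fst (AffineSpace.map n f) ψ) (pullback.fst (AffineSpace.map n f) ψ).isOpenMap
      (pullback.snd (AffineSpace.map n f) ψ)
      (fun w => by rw [← Scheme.Hom.comp_apply, ← Scheme.Hom.comp_apply, pullback.condition])
  have hpb : IsPullback (pullback.fst (AffineSpace.map n f) ψ ≫ 𝔸(n; X) ↘ X)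
      (pullback.snd (AffineSpace.map n f) ψ) f (ψ ≫ 𝔸(n; S) ↘ S) :=
    (IsPullback.of_hasPullback (AffineSpace.map n f) ψ).paste_horiz
      (AffineSpace.isPullback_map f).flip
  have h3 : pullback.snd f (ψ ≫ 𝔸(n; S) ↘ S) =
      hpb.isoPullback.inv ≫ pullback.snd (AffineSpace.map n f) ψ :=
    (hpb.isoPullback_inv_snd).symm
  rw [h3, Scheme.Hom.comp_base, TopCat.coe_comp]
  exact h1.comp hpb.isoPullback.inv.homeomorph.isOpenMap

theorem isOpenMap_snd_mvPolynomial {X S : Scheme.{u}} (f : X ⟶ S)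
    (hyp : ∀ n : ℕ, IsOpenMap ⇑(AffineSpace.map (ULift.{u} (Fin n)) f))
    (R : Type u) [CommRing R] (φU : Spec (.of R) ⟶ S) [IsOpenImmersion φU] (m : ℕ) :
    IsOpenMap (pullback.snd f (Spec.map (CommRingCat.ofHom
      (algebraMap R (MvPolynomial (ULift.{u} (Fin m)) R))) ≫ φU)) := by
  haveI : IsOpenImmersion (AffineSpace.map (ULift.{u} (Fin m)) φU) :=
    MorphismProperty.of_isPullback (AffineSpace.isPullback_map φU).flip inferInstance
  let ψ : Spec (.of (MvPolynomial (ULift.{u} (Fin m)) R)) ⟶ 𝔸(ULift.{u} (Fin m); S) :=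
    (AffineSpace.SpecIso (ULift.{u} (Fin m)) (.of R)).inv ≫ AffineSpace.map _ φU
  have hψ : ψ ≫ 𝔸(ULift.{u} (Fin m); S) ↘ S = Spec.map (CommRingCat.ofHom
      (algebraMap R (MvPolynomial (ULift.{u} (Fin m)) R))) ≫ φU := by
    simp only [ψ, Category.assoc, AffineSpace.map_over, AffineSpace.SpecIso_inv_over_assoc]
    rfl
  exact isOpenMap_snd_congr f hψ (isOpenMap_snd_of_openImmersion f _ (hyp m) ψ)

theorem exists_preimage_of_isPullback {P X Y S : Scheme.{u}} {fst : P ⟶ X} {snd : P ⟶ Y}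
    {f : X ⟶ S} {g : Y ⟶ S} (h : IsPullback fst snd f g) (x : X) (y : Y) (e : f x = g y) :
    ∃ z : P, fst z = x ∧ snd z = y := by
  obtain ⟨z, hz1, hz2⟩ := Scheme.Pullback.exists_preimage_pullback x y e
  refine ⟨h.isoPullback.inv z, ?_, ?_⟩
  · rw [← Scheme.Hom.comp_apply, h.isoPullback_inv_fst, hz1]
  · rw [← Scheme.Hom.comp_apply, h.isoPullback_inv_snd, hz2]

section Transfer

variable {Y X : Scheme.{u}} (f : Y ⟶ X)
  (R B : Type u) [CommRing R] [CommRing B] [Algebra R B]
  (φU : Spec (.of R) ⟶ X) (φV : Spec (.of B) ⟶ Y) [IsOpenImmersion φU] [IsOpenImmersion φV]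
  (hV : φV ≫ f = Spec.map (CommRingCat.ofHom (algebraMap R B)) ≫ φU)
  (T : Type u) [CommRing T] [Algebra R T]
  (T'' : Type u) [CommRing T''] [Algebra R T''] (θ : T'' →ₐ[R] T)

lemma isPullback_trans :
    IsPullback (trans f R φU T T'' θ)
      (pullback.snd f (Spec.map (CommRingCat.ofHom (algebraMap R T)) ≫ φU))
      (pullback.snd f (Spec.map (CommRingCat.ofHom (algebraMap R T'')) ≫ φU))
      (Spec.map (CommRingCat.ofHom θ.toRingHom)) := by
  refine IsPullback.of_right ?_ (trans_snd f R φU T T'' θ) (IsPullback.of_hasPullback f _)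
  rw [trans_fst, trans_base]
  exact IsPullback.of_hasPullback f _

theorem isOpen_image_chart_basicOpen
    (hopen : IsOpenMap (pullback.snd f (Spec.map (CommRingCat.ofHom (algebraMap R T'')) ≫ φU)))
    (h'' : B ⊗[R] T'') :
    IsOpen ((pullback.snd f (Spec.map (CommRingCat.ofHom (algebraMap R T)) ≫ φU)) ''
      ((chart f R B φU φV hV T) '' (PrimeSpectrum.basicOpen
        (Algebra.TensorProduct.map (AlgHom.id R B) θ h'') : Set (PrimeSpectrum (B ⊗[R] T))))) := by
  have key : (pullback.snd f (Spec.map (CommRingCat.ofHom (algebraMap R T)) ≫ φU)) ''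
      ((chart f R B φU φV hV T) '' (PrimeSpectrum.basicOpen
        (Algebra.TensorProduct.map (AlgHom.id R B) θ h'') : Set (PrimeSpectrum (B ⊗[R] T)))) =
      (Spec.map (CommRingCat.ofHom θ.toRingHom)) ⁻¹'
        ((pullback.snd f (Spec.map (CommRingCat.ofHom (algebraMap R T'')) ≫ φU)) ''
          ((chart f R B φU φV hV T'') '' (PrimeSpectrum.basicOpen h'' :
            Set (PrimeSpectrum (B ⊗[R] T''))))) := by
    ext t
    constructor
    · rintro ⟨_, ⟨z, hz, rfl⟩, rfl⟩
      refine ⟨trans f R φU T T'' θ (chart f R B φU φV hV T z), ⟨Spec.map (CommRingCat.ofHom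
        (Algebra.TensorProduct.map (AlgHom.id R B) θ).toRingHom) z, ?_, ?_⟩, ?_⟩
      · exact hz
      · rw [← Scheme.Hom.comp_apply, ← Scheme.Hom.comp_apply, chart_trans]
      · rw [← Scheme.Hom.comp_apply, ← Scheme.Hom.comp_apply, trans_snd]
        rfl
    · rintro ⟨_, ⟨z'', hz'', rfl⟩, ht⟩
      obtain ⟨y, hy1, hy2⟩ := exists_preimage_of_isPullback (isPullback_trans f R φU T T'' θ)
        (chart f R B φU φV hV T'' z'') t ht
      obtain ⟨z, rfl⟩ := mem_range_chart_of_trans f R B φU φV hV T T'' θ y ⟨z'', hy1.symm⟩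
      refine ⟨_, ⟨z, ?_, rfl⟩, hy2⟩
      have h1 : chart f R B φU φV hV T'' (Spec.map (CommRingCat.ofHom
          (Algebra.TensorProduct.map (AlgHom.id R B) θ).toRingHom) z) =
          chart f R B φU φV hV T'' z'' := by
        rw [← hy1, ← Scheme.Hom.comp_apply, ← Scheme.Hom.comp_apply, chart_trans]
      have h2 := (chart f R B φU φV hV T'').isOpenEmbedding.injective h1
      change (Algebra.TensorProduct.map (AlgHom.id R B) θ h'') ∉ z.asIdeal
      have h3 : h'' ∉ (Spec.map (CommRingCat.ofHom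
          (Algebra.TensorProduct.map (AlgHom.id R B) θ).toRingHom) z).asIdeal := by
        rw [h2]; exact hz''
      exact h3
  rw [key]
  exact (hopen _ ((chart f R B φU φV hV T'').isOpenEmbedding.isOpenMap _
    (PrimeSpectrum.basicOpen h'').isOpen)).preimage
    (Spec.map (CommRingCat.ofHom θ.toRingHom)).continuous

end Transfer

theorem exists_mvPolynomial (R B T : Type u) [CommRing R] [CommRing B] [CommRing T]
    [Algebra R B] [Algebra R T] (h : B ⊗[R] T) :
    ∃ (m : ℕ) (θ : MvPolynomial (ULift.{u} (Fin m)) R →ₐ[R] T)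
      (h'' : B ⊗[R] MvPolynomial (ULift.{u} (Fin m)) R),
      Algebra.TensorProduct.map (AlgHom.id R B) θ h'' = h := by
  obtain ⟨A₀, hfg, h0, hh0⟩ := exists_fg_subalgebra R B T h
  have hft : Algebra.FiniteType R A₀ := (Subalgebra.fg_iff_finiteType A₀).mp hfg
  obtain ⟨m, g, hg⟩ := Algebra.FiniteType.iff_quotient_mvPolynomial''.mp hft
  let ρ : MvPolynomial (ULift.{u} (Fin m)) R →ₐ[R] A₀ :=
    g.comp (MvPolynomial.rename Equiv.ulift)
  have hρ : Function.Surjective ρ := by
    intro a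
    obtain ⟨q, rfl⟩ := hg a
    refine ⟨MvPolynomial.rename Equiv.ulift.symm q, ?_⟩
    have : (ULift.down.{u} ∘ ULift.up.{u} : Fin m → Fin m) = id := rfl
    simp [ρ, MvPolynomial.rename_rename, this]
  have hsurj : Function.Surjective (Algebra.TensorProduct.map (AlgHom.id R B) ρ) :=
    Algebra.TensorProduct.map_surjective (f := AlgHom.id R B) (g := ρ)
      Function.surjective_id hρ
  obtain ⟨h'', hh''⟩ := hsurj h0
  refine ⟨m, A₀.val.comp ρ, h'', ?_⟩
  rw [← hh0, ← hh'', ← AlgHom.comp_apply, ← Algebra.TensorProduct.map_comp]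
  rfl

/-- Local openness of `pullback.snd f g` at points whose image in `X` lies in a given set. -/
def OpenAt {X S S' : Scheme.{u}} (f : X ⟶ S) (g : S' ⟶ S) (V : Set X) : Prop :=
  ∀ W : Set ↥(pullback f g), IsOpen W → ∀ y ∈ W, pullback.fst f g y ∈ V →
    ∃ O : Set S', IsOpen O ∧ pullback.snd f g y ∈ O ∧ O ⊆ pullback.snd f g '' W

theorem openAt_of_eq {X S S' : Scheme.{u}} (f : X ⟶ S) {g₁ g₂ : S' ⟶ S} (e : g₁ = g₂) (V : Set X)
    (H : OpenAt f g₂ V) : OpenAt f g₁ V := by
  subst e; exact H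

theorem openAt_affine {X S : Scheme.{u}} (f : X ⟶ S)
    (hyp : ∀ n : ℕ, IsOpenMap ⇑(AffineSpace.map (ULift.{u} (Fin n)) f))
    (R B : Type u) [CommRing R] [CommRing B] [Algebra R B]
    (φU : Spec (.of R) ⟶ S) (φV : Spec (.of B) ⟶ X) [IsOpenImmersion φU] [IsOpenImmersion φV]
    (hV : φV ≫ f = Spec.map (CommRingCat.ofHom (algebraMap R B)) ≫ φU)
    (T : Type u) [CommRing T] [Algebra R T] :
    OpenAt f (Spec.map (CommRingCat.ofHom (algebraMap R T)) ≫ φU) (Set.range φV) := by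
  intro W hW y hy hyV
  have hy' : y ∈ Set.range (chart f R B φU φV hV T) := by rw [range_chart]; exact hyV
  obtain ⟨z, rfl⟩ := hy'
  have hopen : IsOpen ((chart f R B φU φV hV T) ⁻¹' W) :=
    hW.preimage (chart f R B φU φV hV T).continuous
  obtain ⟨_, ⟨h, rfl⟩, hz, hsub⟩ :=
    PrimeSpectrum.isTopologicalBasis_basic_opens.exists_subset_of_mem_open
      (show z ∈ (chart f R B φU φV hV T) ⁻¹' W from hy) hopen
  obtain ⟨m, θ, h'', rfl⟩ := exists_mvPolynomial R B T h
  refine ⟨_, isOpen_image_chart_basicOpen f R B φU φV hV T _ θ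
    (isOpenMap_snd_mvPolynomial f hyp R φU m) h'', ⟨_, ⟨z, hz, rfl⟩, rfl⟩, ?_⟩
  rintro _ ⟨_, ⟨z', hz', rfl⟩, rfl⟩
  exact ⟨_, hsub hz', rfl⟩

theorem isOpenMap_snd {X S : Scheme.{u}} (f : X ⟶ S)
    (hyp : ∀ n : ℕ, IsOpenMap ⇑(AffineSpace.map (ULift.{u} (Fin n)) f))
    {S' : Scheme.{u}} (g : S' ⟶ S) : IsOpenMap (pullback.snd f g) := by
  intro W hW
  rw [isOpen_iff_forall_mem_open]
  rintro _ ⟨y, hy, rfl⟩
  -- choose affine opens
  obtain ⟨U, hU, hxU, -⟩ := (TopologicalSpace.Opens.isBasis_iff_nbhd.mp S.isBasis_affineOpens)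
    (show g ((pullback.snd f g) y) ∈ (⊤ : S.Opens) from trivial)
  have hq : f ((pullback.fst f g) y) ∈ U := by
    rw [← Scheme.Hom.comp_apply, pullback.condition, Scheme.Hom.comp_apply]; exact hxU
  obtain ⟨V, hV, hyV, eV⟩ := (TopologicalSpace.Opens.isBasis_iff_nbhd.mp X.isBasis_affineOpens)
    (show (pullback.fst f g) y ∈ f ⁻¹ᵁ U from hq)
  obtain ⟨U', hU', hxU', eU'⟩ :=
    (TopologicalSpace.Opens.isBasis_iff_nbhd.mp S'.isBasis_affineOpens)
    (show (pullback.snd f g) y ∈ g ⁻¹ᵁ U from hxU)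
  change IsAffineOpen U at hU
  change IsAffineOpen V at hV
  change IsAffineOpen U' at hU'
  letI : Algebra Γ(S, U) Γ(X, V) := (f.appLE U V eV).hom.toAlgebra
  letI : Algebra Γ(S, U) Γ(S', U') := (g.appLE U U' eU').hom.toAlgebra
  have hVcomm : hV.fromSpec ≫ f =
      Spec.map (CommRingCat.ofHom (algebraMap Γ(S, U) Γ(X, V))) ≫ hU.fromSpec :=
    (IsAffineOpen.SpecMap_appLE_fromSpec f hU hV eV).symm
  have hg' : hU'.fromSpec ≫ g =
      Spec.map (CommRingCat.ofHom (algebraMap Γ(S, U) Γ(S', U'))) ≫ hU.fromSpec :=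
    (IsAffineOpen.SpecMap_appLE_fromSpec g hU hU' eU').symm
  have HR : OpenAt f (hU'.fromSpec ≫ g) (Set.range hV.fromSpec) :=
    openAt_of_eq f hg' _
      (openAt_affine f hyp Γ(S, U) Γ(X, V) hU.fromSpec hV.fromSpec hVcomm Γ(S', U'))
  -- the open immersion `j`
  let j : pullback f (hU'.fromSpec ≫ g) ⟶ pullback f g :=
    pullback.map f (hU'.fromSpec ≫ g) f g (𝟙 X) hU'.fromSpec (𝟙 S)
      (by rw [Category.id_comp, Category.comp_id]) (by rw [Category.comp_id])
  have hjfst : j ≫ pullback.fst f g = pullback.fst f _ := by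
    simp only [j, pullback.map, pullback.lift_fst, Category.comp_id]
  have hjsnd : j ≫ pullback.snd f g = pullback.snd f _ ≫ hU'.fromSpec := by
    simp only [j, pullback.map, pullback.lift_snd]
  have hrange : Set.range j = (pullback.snd f g) ⁻¹' (U' : Set S') := by
    simp only [j]
    rw [Scheme.Pullback.range_map, hU'.range_fromSpec]
    simp
  obtain ⟨w, rfl⟩ : y ∈ Set.range j := by rw [hrange]; exact hxU'
  obtain ⟨O', hO', hwO', hO'sub⟩ := HR (j ⁻¹' W) (hW.preimage j.continuous) w hy (by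
    rw [hV.range_fromSpec, ← hjfst, Scheme.Hom.comp_apply]
    exact hyV)
  refine ⟨hU'.fromSpec '' O', ?_, hU'.fromSpec.isOpenEmbedding.isOpenMap _ hO', ?_⟩
  · rintro _ ⟨o', ho', rfl⟩
    obtain ⟨w', hw', rfl⟩ := hO'sub ho'
    refine ⟨j w', hw', ?_⟩
    rw [← Scheme.Hom.comp_apply, hjsnd, Scheme.Hom.comp_apply]
  · refine ⟨_, hwO', ?_⟩
    rw [← Scheme.Hom.comp_apply, ← hjsnd, Scheme.Hom.comp_apply]

open AlgebraicGeometry CategoryTheory Limits in
/-- (1) ⇔ (3): a morphism f : X → S is universally open if and only if for every n the induced morphism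
from affine n-space over X to affine n-space over S is open. -/
theorem result {X S : Scheme.{u}} (f : X ⟶ S) :
    UniversallyOpen f ↔ ∀ n : ℕ, IsOpenMap ⇑(AffineSpace.map (ULift.{u} (Fin n)) f) := by
  constructor
  · intro hf n
    have : UniversallyOpen (AffineSpace.map (ULift.{u} (Fin n)) f) :=
      MorphismProperty.of_isPullback (AffineSpace.isPullback_map f).flip inferInstance
    exact (AffineSpace.map (ULift.{u} (Fin n)) f).isOpenMap
  · intro hyp
    refine ⟨MorphismProperty.universally_mk' _ _ fun {T} g _ => ?_⟩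
    have h1 : pullback.fst g f = (pullbackSymmetry g f).hom ≫ pullback.snd f g :=
      (pullbackSymmetry_hom_comp_snd g f).symm
    change IsOpenMap (pullback.fst g f)
    rw [h1, Scheme.Hom.comp_base, TopCat.coe_comp]
    exact (isOpenMap_snd f hyp g).comp (pullbackSymmetry g f).hom.homeomorph.isOpenMap

end Groth.Agent.S1373
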