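import Groth.Statements.S14503
import Groth.Agent.Lib.Helper74.LatticeDet

set_option autoImplicit false
universe u
open IntTh

namespace Groth.Agent.S14503

/-- Let A ⊆ B be a module-finite extension of domains with A Noetherian local of Krull dimension one, K
⊆ L their fraction fields, and r ∈ B nonzero. Then B/rB has finite length as an A-module and
length_A(B/rB) equals the order at the closed point of A of the norm N_{L/K}(r), i.e.
length_A(A/(a)) − length_A(A/(b)) for N_{L/K}(r) = a/b. -/
theorem result (A : Type u) [CommRing A] [IsDomain A]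
    [IsNoetherianRing A] [IsLocalRing A] (hA : ringKrullDim A = 1) (B : Type u) [CommRing B]
    [IsDomain B] [Algebra A B] (hinj : Function.Injective (algebraMap A B)) [Module.Finite A B]
    (K L : Type u) [Field K] [Field L] [Algebra A K] [IsFractionRing A K] [Algebra B L]
    [IsFractionRing B L] [Algebra K L] [Algebra A L] [IsScalarTower A B L] [IsScalarTower A K L]
    [FiniteDimensional K L] (r : B) (hr : r ≠ 0) :
    Module.length A (B ⧸ Ideal.span {r}) < ⊤ ∧
      ((Module.length A (B ⧸ Ideal.span {r})).toNat : ℤ) =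
        CycAlg.ordFrac A K (Algebra.norm K (algebraMap B L r)) := by
  classical
  have hdim : Ring.KrullDimLE 1 A := Ring.krullDimLE_iff.mpr (le_of_eq hA)
  -- the lattice `B ⊆ L`
  let ιB : B →ₗ[A] L := (IsScalarTower.toAlgHom A B L).toLinearMap
  have hιB : ∀ x, ιB x = algebraMap B L x := fun x => rfl
  have hιinj : Function.Injective ιB := IsFractionRing.injective B L
  set M : Submodule A L := LinearMap.range ιB with hMdef
  have hMfg : M.FG := by
    rw [hMdef, LinearMap.range_eq_map]
    exact Module.Finite.fg_top.map ιB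
  have halg : Algebra.IsAlgebraic A B := Algebra.IsIntegral.isAlgebraic
  have hMsp : Submodule.span K (M : Set L) = ⊤ := by
    rw [eq_top_iff]
    intro x _
    obtain ⟨a, b, hb, rfl⟩ := IsFractionRing.div_surjective (A := B) x
    have hb0 : b ≠ 0 := nonZeroDivisors.ne_zero hb
    obtain ⟨c, d, hd, hdc⟩ := (Algebra.IsAlgebraic.isAlgebraic (R := A) b).exists_smul_eq_mul a hb
    have hdK : algebraMap A K d ≠ 0 := by
      rw [Ne, map_eq_zero_iff _ (IsFractionRing.injective A K)]
      exact hd
    have hbL : algebraMap B L b ≠ 0 := by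
      rw [Ne, map_eq_zero_iff _ (IsFractionRing.injective B L)]
      exact hb0
    have hx : algebraMap B L a / algebraMap B L b = (algebraMap A K d)⁻¹ • algebraMap B L c := by
      have h1 : algebraMap A K d • algebraMap B L a = algebraMap B L b * algebraMap B L c := by
        have h2 : algebraMap B L (d • a) = d • algebraMap B L a :=
          (IsScalarTower.toAlgHom A B L).toLinearMap.map_smul d a
        rw [algebraMap_smul, ← map_mul, ← hdc, h2]
      rw [div_eq_iff hbL, smul_mul_assoc, mul_comm, ← h1, smul_smul, inv_mul_cancel₀ hdK,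
        one_smul]
    rw [hx]
    exact Submodule.smul_mem _ _ (Submodule.subset_span ⟨c, rfl⟩)
  have hM : Groth.Agent.Lib.Helper74.IsLat K M := ⟨hMfg, hMsp⟩
  -- multiplication by `r`
  set r' : L := algebraMap B L r with hr'
  have hr'0 : r' ≠ 0 := by
    rw [hr', Ne, map_eq_zero_iff _ (IsFractionRing.injective B L)]
    exact hr
  let φ : L ≃ₗ[K] L := LinearEquiv.ofLinearMap (Algebra.lmul K L r') (Algebra.lmul K L r'⁻¹)
    (by ext x; simp [← mul_assoc, mul_inv_cancel₀ hr'0])
    (by ext x; simp [← mul_assoc, inv_mul_cancel₀ hr'0])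
  have hφ : ∀ x, φ x = r' * x := fun x => rfl
  have hdet : LinearMap.det φ.toLinearMap = Algebra.norm K r' := rfl
  set φM : Submodule A L := M.map (φ.restrictScalars A).toLinearMap with hφM
  have hle : φM ≤ M := by
    rintro _ ⟨_, ⟨b, rfl⟩, rfl⟩
    refine ⟨r * b, ?_⟩
    change algebraMap B L (r * b) = r' * algebraMap B L b
    rw [map_mul]
  have hφMlat : Groth.Agent.Lib.Helper74.IsLat K φM := hM.map K φ
  -- identification of the quotient
  let G : ↥M →ₗ[A] (B ⧸ Ideal.span {r}) :=
    ((Ideal.Quotient.mkₐ A (Ideal.span {r})).toLinearMap) ∘ₗ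
      (LinearEquiv.ofInjective ιB hιinj).symm.toLinearMap
  have hG : Function.Surjective G := by
    intro t
    obtain ⟨b, rfl⟩ := Ideal.Quotient.mk_surjective t
    refine ⟨LinearEquiv.ofInjective ιB hιinj b, ?_⟩
    simp only [G, LinearMap.comp_apply, LinearEquiv.coe_coe, LinearEquiv.symm_apply_apply]
    rfl
  have hker : LinearMap.ker G = φM.submoduleOf M := by
    ext ⟨m, hm⟩
    obtain ⟨b, rfl⟩ := hm
    have hb : (LinearEquiv.ofInjective ιB hιinj).symm ⟨ιB b, ⟨b, rfl⟩⟩ = b := by
      apply (LinearEquiv.ofInjective ιB hιinj).injective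
      rw [LinearEquiv.apply_symm_apply]
      rfl
    rw [LinearMap.mem_ker, Submodule.submoduleOf, Submodule.mem_comap, Submodule.subtype_apply]
    simp only [G, LinearMap.comp_apply, LinearEquiv.coe_coe, hb]
    change Ideal.Quotient.mk (Ideal.span {r}) b = 0 ↔ _
    rw [Ideal.Quotient.eq_zero_iff_mem, Ideal.mem_span_singleton']
    constructor
    · rintro ⟨c, rfl⟩
      refine ⟨ιB c, ⟨c, rfl⟩, ?_⟩
      change r' * algebraMap B L c = algebraMap B L (c * r)
      rw [map_mul, mul_comm]
    · rintro ⟨_, ⟨c, rfl⟩, hc⟩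
      refine ⟨c, ?_⟩
      apply IsFractionRing.injective B L
      have hc' : r' * algebraMap B L c = algebraMap B L b := hc
      rw [map_mul, ← hc', mul_comm]
  have e1 : (↥M ⧸ φM.submoduleOf M) ≃ₗ[A] (B ⧸ Ideal.span {r}) :=
    (Submodule.quotEquivOfEq _ _ hker.symm).trans (G.quotKerEquivOfSurjective hG)
  have hlen : Module.length A (B ⧸ Ideal.span {r}) =
      Module.length A (↥M ⧸ φM.submoduleOf M) := e1.length_eq.symm
  have hfin : Module.length A (↥M ⧸ φM.submoduleOf M) < ⊤ :=
    Groth.Agent.Lib.Helper74.length_quotient_submoduleOf_lt_top K φM M hMfg hφMlat.2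
  refine ⟨hlen ▸ hfin, ?_⟩
  rw [hlen, ← Groth.Agent.Lib.Helper74.latDist_of_le hle, ← hdet]
  exact Groth.Agent.Lib.Helper74.latDist_map_eq_ordFrac_det K hM φ

end Groth.Agent.S14503
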