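import Mathlib
import Groth.Statements.S12205
import Groth.Agent.Lib.Helper73.LeftDerivedLES
import Groth.Agent.S11450

set_option autoImplicit false
universe u
open CategoryTheory
open CAlg

namespace Groth.Agent.S12205

open Groth.Agent.Lib.Helper73 MonoidalCategory Limits
open scoped TensorProduct

section linalg

variable {R : Type u} [CommRing R]
variable {K P M : Type u} [AddCommGroup K] [Module R K] [AddCommGroup P] [Module R P]
  [AddCommGroup M] [Module R M]

lemma inj_aux (S : Type u) [CommRing S] [Algebra R S]
    (f : K →ₗ[R] P) (g : P →ₗ[R] M) (hfg : Function.Exact f g)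
    (hg : Function.Surjective g) [Module.Flat S (S ⊗[R] M)]
    (hI : Function.Injective (f.lTensor S))
    (N : Type u) [AddCommGroup N] [Module S N]
    (F : Type u) [AddCommGroup F] [Module S F] [Module.Flat S F] (π : F →ₗ[S] N)
    (hπ : Function.Surjective π) :
    Function.Injective ((f.baseChange S).lTensor N) := by
  have hf' : Function.Injective (f.baseChange S) := hI
  have hex' : Function.Exact (f.baseChange S) (g.baseChange S) := lTensor_exact S hfg hg
  have hg' : Function.Surjective (g.baseChange S) := LinearMap.lTensor_surjective _ hg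
  have hflat1 : Function.Injective ((LinearMap.ker π).subtype.rTensor (S ⊗[R] M)) :=
    Module.Flat.rTensor_preserves_injective_linearMap _ (Submodule.injective_subtype _)
  have hflat2 : Function.Injective ((f.baseChange S).lTensor F) :=
    Module.Flat.lTensor_preserves_injective_linearMap _ hf'
  have hk : Function.Exact (LinearMap.ker π).subtype π := LinearMap.exact_subtype_ker_map π
  exact lTensor_injective_of_exact_of_exact_of_rTensor_injective hk hπ hex' hg' hflat1 hflat2

/-- abstract version over an algebra `S` -/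
lemma inj_of_module (S : Type u) [CommRing S] [Algebra R S]
    (f : K →ₗ[R] P) (g : P →ₗ[R] M) (hfg : Function.Exact f g)
    (hg : Function.Surjective g) [Module.Flat S (S ⊗[R] M)]
    (hI : Function.Injective (f.lTensor S))
    (N : Type u) [AddCommGroup N] [Module R N] [Module S N] [IsScalarTower R S N] :
    Function.Injective (f.lTensor N) := by
  have key : Function.Injective ((f.baseChange S).lTensor N) :=
    inj_aux S f g hfg hg hI N (N →₀ S) (Finsupp.linearCombination S id)
      (Finsupp.linearCombination_id_surjective _ _)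
  have nat := TensorProduct.AlgebraTensorModule.lTensor_comp_cancelBaseChange R S S
    (M := N) f
  intro x y hxy
  obtain ⟨x', rfl⟩ := (TensorProduct.AlgebraTensorModule.cancelBaseChange R S S N K).surjective x
  obtain ⟨y', rfl⟩ := (TensorProduct.AlgebraTensorModule.cancelBaseChange R S S N K).surjective y
  have h1 : ∀ z, f.lTensor N (TensorProduct.AlgebraTensorModule.cancelBaseChange R S S N K z) =
      TensorProduct.AlgebraTensorModule.cancelBaseChange R S S N P ((f.baseChange S).lTensor N z) :=
    fun z => congrArg (fun φ => φ z) nat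
  rw [h1, h1] at hxy
  rw [key ((TensorProduct.AlgebraTensorModule.cancelBaseChange R S S N P).injective hxy)]

/-- base case: modules killed by `I` -/
lemma inj_of_killed (I : Ideal R) (f : K →ₗ[R] P) (g : P →ₗ[R] M) (hfg : Function.Exact f g)
    (hg : Function.Surjective g) [Module.Flat (R ⧸ I) ((R ⧸ I) ⊗[R] M)]
    (hI : Function.Injective (f.lTensor (R ⧸ I)))
    (N : Type u) [AddCommGroup N] [Module R N] (hN : ∀ a ∈ I, ∀ x : N, a • x = 0) :
    Function.Injective (f.lTensor N) := by
  have hT : Module.IsTorsionBySet R N I := fun x a => hN a.1 a.2 x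
  let _ := hT.module
  have : IsScalarTower R (R ⧸ I) N := hT.isScalarTower
  exact inj_of_module (R ⧸ I) f g hfg hg hI N

/-- extension step -/
lemma inj_of_ext (f : K →ₗ[R] P) [Module.Flat R P]
    {N' N N'' : Type u} [AddCommGroup N'] [Module R N'] [AddCommGroup N] [Module R N]
    [AddCommGroup N''] [Module R N'']
    (i : N' →ₗ[R] N) (p : N →ₗ[R] N'') (hi : Function.Injective i) (hip : Function.Exact i p)
    (hp : Function.Surjective p)
    (h' : Function.Injective (f.lTensor N')) (h'' : Function.Injective (f.lTensor N'')) :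
    Function.Injective (f.lTensor N) := by
  rw [injective_iff_map_eq_zero]
  intro x hx
  have h1 : f.lTensor N'' (p.rTensor K x) = 0 := by
    rw [← LinearMap.comp_apply, LinearMap.lTensor_comp_rTensor, ← LinearMap.rTensor_comp_lTensor,
      LinearMap.comp_apply, hx, map_zero]
  have h2 : p.rTensor K x = 0 := by
    apply h''
    rw [h1, map_zero]
  obtain ⟨x', rfl⟩ := (rTensor_exact K hip hp x).mp h2
  have h3 : i.rTensor P (f.lTensor N' x') = 0 := by
    rw [← LinearMap.comp_apply, LinearMap.rTensor_comp_lTensor, ← LinearMap.lTensor_comp_rTensor,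
      LinearMap.comp_apply, hx]
  have h4 : Function.Injective (i.rTensor P) :=
    Module.Flat.rTensor_preserves_injective_linearMap i hi
  have h5 : f.lTensor N' x' = 0 := by
    apply h4
    rw [h3, map_zero]
  have h6 : x' = 0 := by
    apply h'
    rw [h5, map_zero]
  rw [h6, map_zero]

lemma inj_of_pow (I : Ideal R) (f : K →ₗ[R] P) (g : P →ₗ[R] M) (hfg : Function.Exact f g)
    (hg : Function.Surjective g) [Module.Flat (R ⧸ I) ((R ⧸ I) ⊗[R] M)] [Module.Flat R P]
    (hI : Function.Injective (f.lTensor (R ⧸ I))) (m : ℕ) :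
    ∀ (N : Type u) [AddCommGroup N] [Module R N], (∀ a ∈ I ^ m, ∀ x : N, a • x = 0) →
      Function.Injective (f.lTensor N) := by
  induction m with
  | zero =>
    intro N _ _ hN
    have : Subsingleton N := ⟨fun x y => by
      have hx := hN 1 (by simp) x
      have hy := hN 1 (by simp) y
      rw [one_smul] at hx hy
      rw [hx, hy]⟩
    intro x y _
    exact Subsingleton.elim _ _
  | succ m ih =>
    intro N _ _ hN
    let N' : Submodule R N := I • (⊤ : Submodule R N)
    have h' : Function.Injective (f.lTensor N') := by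
      apply ih
      intro a ha x
      obtain ⟨x, hx⟩ := x
      apply Subtype.ext
      change a • x = 0
      refine Submodule.smul_induction_on hx (fun b hb y _ => ?_) (fun y z hy hz => ?_)
      · rw [← mul_smul]
        exact hN _ (by rw [pow_succ]; exact Ideal.mul_mem_mul ha hb) y
      · rw [smul_add, hy, hz, add_zero]
    have h'' : Function.Injective (f.lTensor (N ⧸ N')) := by
      apply inj_of_killed I f g hfg hg hI
      intro a ha x
      obtain ⟨y, rfl⟩ := Submodule.mkQ_surjective N' x
      rw [← map_smul]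
      exact (Submodule.Quotient.mk_eq_zero N').mpr (Submodule.smul_mem_smul ha Submodule.mem_top)
    exact inj_of_ext f N'.subtype N'.mkQ (Submodule.injective_subtype _)
      (LinearMap.exact_subtype_mkQ N') (Submodule.mkQ_surjective _) h' h''

end linalg

/-- `L₁F(X₃) = 0` if `F(f)` is mono and `X₂` is projective. -/
lemma isZero_of_mono {A : Type u} [CommRing A] (N : ModuleCat.{u} A)
    {S : ShortComplex (ModuleCat.{u} A)} (hS : S.ShortExact) [Projective S.X₂]
    (hmono : Mono ((Groth.Agent.S11450.TF N).map S.f)) :
    IsZero (((Groth.Agent.S11450.TF N).leftDerived 1).obj S.X₃) := by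
  obtain ⟨-, δ, w₁, w₂, hex₃, hex₁⟩ := leftDerived_les (Groth.Agent.S11450.TF N) hS 0
  have hF : PreservesFiniteColimits (Groth.Agent.S11450.TF N) := by
    change PreservesFiniteColimits (tensorLeft N)
    infer_instance
  let e := (Groth.Agent.S11450.TF N).leftDerivedZeroIsoSelf
  have hnat := e.hom.naturality S.f
  have h3 : ((Groth.Agent.S11450.TF N).leftDerived 0).map S.f =
      e.hom.app S.X₁ ≫ (Groth.Agent.S11450.TF N).map S.f ≫ e.inv.app S.X₂ := by
    rw [← Category.assoc, ← hnat, Category.assoc, Iso.hom_inv_id_app, Category.comp_id]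
  have i1 : IsIso (e.hom.app S.X₁) := ⟨⟨e.inv.app S.X₁, by simp, by simp⟩⟩
  have i2 : IsIso (e.inv.app S.X₂) := ⟨⟨e.hom.app S.X₂, by simp, by simp⟩⟩
  have m1 : Mono (e.hom.app S.X₁) := IsIso.mono_of_iso _
  have m2 : Mono (e.inv.app S.X₂) := IsIso.mono_of_iso _
  have h4 : Mono ((Groth.Agent.S11450.TF N).map S.f ≫ e.inv.app S.X₂) :=
    @mono_comp _ _ _ _ _ _ hmono _ m2
  have h5 : Mono (((Groth.Agent.S11450.TF N).leftDerived 0).map S.f) := by
    rw [h3]
    exact @mono_comp _ _ _ _ _ _ m1 _ h4
  have hδ : δ = 0 := by
    rw [← cancel_mono (((Groth.Agent.S11450.TF N).leftDerived 0).map S.f), w₂, zero_comp]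
  have hepi : Epi (((Groth.Agent.S11450.TF N).leftDerived 1).map S.g) :=
    (ShortComplex.exact_iff_epi _ hδ).mp hex₃
  have hz : IsZero (((Groth.Agent.S11450.TF N).leftDerived 1).obj S.X₂) :=
    (Groth.Agent.S11450.TF N).isZero_leftDerived_obj_projective_succ 0 _
  exact IsZero.of_epi (((Groth.Agent.S11450.TF N).leftDerived 1).map S.g) hz

lemma core (R : Type u) [CommRing R] (I : Ideal R) (M : Type u)
    [AddCommGroup M] [Module R M] [Module.Flat (R ⧸ I) ((R ⧸ I) ⊗[R] M)]
    (h : Limits.IsZero (((CategoryTheory.Tor (ModuleCat.{u} R) 1).obj (ModuleCat.of R (R ⧸ I))).obj (ModuleCat.of R M)))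
    (N : Type u) [AddCommGroup N] [Module R N] (m : ℕ) (hN : ∀ a : R, a ∈ I ^ m → ∀ x : N, a • x = 0)
    (P : Type u) [AddCommGroup P] [Module R P] [Module.Free R P] (K : Submodule R P)
    (g : P →ₗ[R] M) (hg : Function.Surjective g) (hex : Function.Exact K.subtype g) :
    Limits.IsZero (((CategoryTheory.Tor (ModuleCat.{u} R) 1).obj (ModuleCat.of R N)).obj (ModuleCat.of R M)) := by
  have hS := Groth.Agent.S11450.shortExact_of_linear K.subtype g
    (Submodule.injective_subtype _) hg hex
  have hmono := Groth.Agent.S11450.mono_tensor_of_isZero (ModuleCat.of R (R ⧸ I)) hS h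
  rw [ModuleCat.mono_iff_injective] at hmono
  have hinj : Function.Injective (K.subtype.lTensor N) :=
    inj_of_pow I K.subtype g hex hg hmono m N hN
  have hproj : Projective (ModuleCat.of R P) :=
    (IsProjective.iff_projective (R := R) P).mp inferInstance
  have hmonoN : Mono ((Groth.Agent.S11450.TF (ModuleCat.of R N)).map
      (ModuleCat.shortComplexOfCompEqZero K.subtype g hex.linearMap_comp_eq_zero).f) := by
    rw [ModuleCat.mono_iff_injective]
    exact hinj
  have : Projective (ModuleCat.shortComplexOfCompEqZero K.subtype g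
        hex.linearMap_comp_eq_zero).X₂ := hproj
  exact isZero_of_mono (ModuleCat.of R N) hS hmonoN

theorem result (R : Type u) [CommRing R] (I : Ideal R) (M : Type u)
    [AddCommGroup M] [Module R M] [Module.Flat (R ⧸ I) ((R ⧸ I) ⊗[R] M)]
    (h : Limits.IsZero (((CategoryTheory.Tor (ModuleCat.{u} R) 1).obj (ModuleCat.of R (R ⧸ I))).obj (ModuleCat.of R M)))
    (N : Type u) [AddCommGroup N] [Module R N] (m : ℕ) (hN : ∀ a : R, a ∈ I ^ m → ∀ x : N, a • x = 0) :
    Limits.IsZero (((CategoryTheory.Tor (ModuleCat.{u} R) 1).obj (ModuleCat.of R N)).obj (ModuleCat.of R M)) :=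
  core R I M h N m hN (M →₀ R) (LinearMap.ker (Finsupp.linearCombination R id))
    (Finsupp.linearCombination R id) (Finsupp.linearCombination_id_surjective _ _)
    (LinearMap.exact_subtype_ker_map _)

end Groth.Agent.S12205
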