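import Groth.Statements.S1906
-- import your own Groth.Agent.* helpers here
import Groth.Agent.Lib.Helper85.IntMult.NormPush

set_option autoImplicit false
universe u
open CategoryTheory AlgebraicGeometry
open Cyc

namespace Groth.Agent.S1906

/-- Let p : X → Y be a dominant proper morphism of integral schemes with δX(η_X) = δY(η_Y), and f a
nonzero rational function on X. Then p_*(div_X f) = div_Y(Nm f) coefficientwise, where Nm is the
norm for the finite extension κ(η_X)/κ(p(η_X)) of function fields. A pair (X, δ) with Cyc.IsSetup
plays the role of a scheme locally of finite type over a fixed base with a dimension function (X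
locally Noetherian with universally catenary local rings, δ a dimension function), and
Cyc.DeltaCompat records that the dimension function upstairs is the induced one. -/
theorem result (X Y : Scheme.{u}) [IsIntegral X] [IsIntegral Y] (δX : X → ℤ) (δY : Y → ℤ) (hX : Cyc.IsSetup X δX) (hY : Cyc.IsSetup Y δY) (p : X ⟶ Y) [IsProper p] (hδ : Cyc.DeltaCompat p δX δY) (hdom : p (genericPoint X) = genericPoint Y) (hn : δX (genericPoint X) = δY (genericPoint Y)) (f : X.residueField (genericPoint X)) (hf : f ≠ 0) (α : AlgebraicCycle X ℤ) (hα : ⇑α = Cyc.divFun δX (genericPoint X) f) : ⇑(AlgebraicCycle.map p δX δY α) = Cyc.divFun δY (p (genericPoint X)) (Cyc.normGen p (genericPoint X) f) := by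
  classical
  funext y
  have hL : AlgebraicCycle.map p δX δY α y =
      ∑ᶠ x ∈ p ⁻¹' {y}, α x * ((AlgebraicCycle.mapCoeff p δX δY x : ℕ) : ℤ) := rfl
  rw [hL, hα]
  have hξy : p (genericPoint X) ⤳ y := by
    rw [hdom]
    exact genericPoint_specializes y
  by_cases hy1 : δY y + 1 = δY (p (genericPoint X))
  · have hR : Cyc.divFun δY (p (genericPoint X)) (Cyc.normGen p (genericPoint X) f) y =
        Cyc.ordAt y (p (genericPoint X)) hξy (Cyc.normGen p (genericPoint X) f) := by
      unfold Cyc.divFun
      rw [dif_pos ⟨hξy, hy1⟩]
    rw [hR]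
    exact Groth.Agent.Lib.Helper85.NormPush.map_divFun_apply δX δY hX hY p hδ hdom hn f hf y hξy hy1
  · have hR : Cyc.divFun δY (p (genericPoint X)) (Cyc.normGen p (genericPoint X) f) y = 0 := by
      unfold Cyc.divFun
      rw [dif_neg]
      exact fun h => hy1 h.2
    rw [hR]
    apply finsum_mem_eq_zero_of_forall_eq_zero
    intro x hx
    have hpx : p x = y := hx
    by_cases hc : δX x = δY (p x)
    · have hd : Cyc.divFun δX (genericPoint X) f x = 0 := by
        unfold Cyc.divFun
        rw [dif_neg]
        rintro ⟨-, h2⟩
        apply hy1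
        rw [hdom, ← hn, ← h2, hc, hpx]
      rw [hd, zero_mul]
    · have hm : AlgebraicCycle.mapCoeff p δX δY x = 0 := by
        unfold AlgebraicCycle.mapCoeff
        rw [if_neg hc]
      rw [hm]
      simp

end Groth.Agent.S1906
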