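import Groth.Statements.S6482
import Mathlib

set_option autoImplicit false
universe u
open CategoryTheory AlgebraicGeometry
open CategoryTheory.Limits
open Cyc

namespace Groth.Agent.S6482

/-- Let f : Y → X be an envelope. Then f_* : Z_k(Y) → Z_k(X) is surjective, hence so is f_* : CH_k(Y) →
CH_k(X). An envelope is a proper, completely decomposed morphism (every point of the target has a
point over it with trivial residue field extension; this prelude's Cyc.IsCompletelyDecomposed). Here
a pair (X, δ) with Cyc.IsSetup plays the role of a scheme locally of finite type over the base (S,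
δ) (X locally Noetherian with universally catenary local rings, δ a dimension function), and
Cyc.DeltaCompat records that the dimension function upstairs is the induced one. -/
theorem result (X Y : Scheme.{u}) (δ : X → ℤ) (δY : Y → ℤ) (hX : Cyc.IsSetup X δ) (hY : Cyc.IsSetup Y δY) (f : Y ⟶ X) [IsProper f] (hcd : Cyc.IsCompletelyDecomposed f) (hδ : Cyc.DeltaCompat f δY δ) (k : ℤ) (α : AlgebraicCycle X ℤ) (hα : α ∈ Cyc.Zk X δ k) : ∃ β : AlgebraicCycle Y ℤ, β ∈ Cyc.Zk Y δY k ∧ AlgebraicCycle.map f δY δ β = α := by
  classical
  choose s hs1 hs2 using hcd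
  -- residue degree one at the chosen points
  have hdeg : ∀ x : X, f.residueDegree (s x) = 1 := by
    intro x
    unfold Scheme.Hom.residueDegree
    let _ := (f.residueFieldMap (s x)).hom.toAlgebra
    have hbij : Function.Bijective (Algebra.linearMap (X.residueField (f (s x))) (Y.residueField (s x))) :=
      ⟨(f.residueFieldMap (s x)).hom.injective, hs2 x⟩
    have e := LinearEquiv.ofBijective _ hbij
    rw [← e.finrank_eq, Module.finrank_self]
  have hδs : ∀ x : X, δY (s x) = δ (f (s x)) := by
    intro x
    obtain ⟨n, hn, hδn⟩ := hδ (s x)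
    let _ := (f.residueFieldMap (s x)).hom.toAlgebra
    have hsurj : Function.Surjective (algebraMap (X.residueField (f (s x))) (Y.residueField (s x))) :=
      hs2 x
    have hint : Algebra.IsIntegral (X.residueField (f (s x))) (Y.residueField (s x)) :=
      Algebra.isIntegral_of_surjective hsurj
    have h0 : Algebra.trdeg (X.residueField (f (s x))) (Y.residueField (s x)) = 0 :=
      trdeg_eq_zero
    have hn0 : n = 0 := by
      have : ((n : ℕ) : Cardinal) = 0 := hn.symm.trans h0
      exact_mod_cast this
    rw [hδn, hn0]; simp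
  let βfun : Y → ℤ := fun y => if y = s (f y) then α (f y) else 0
  have hsupp : ∀ y : Y, βfun y ≠ 0 → y = s (f y) ∧ α (f y) ≠ 0 := by
    intro y hy
    by_cases h : y = s (f y)
    · refine ⟨h, ?_⟩
      simpa [βfun, if_pos h] using hy
    · exact absurd (by simp [βfun, if_neg h]) hy
  have hβs : ∀ x : X, βfun (s x) = α x := by
    intro x
    have : s x = s (f (s x)) := by rw [hs1 x]
    simp only [βfun, if_pos this, hs1 x]
  let β : AlgebraicCycle Y ℤ :=
    { toFun := βfun
      supportWithinDomain' := by simp
      supportLocallyFiniteWithinDomain' := by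
        intro y _
        obtain ⟨t, ht, hfin⟩ := α.supportLocallyFiniteWithinDomain' (f y) trivial
        refine ⟨f ⁻¹' t, f.continuous.continuousAt.preimage_mem_nhds ht, ?_⟩
        refine (hfin.image s).subset ?_
        rintro y' ⟨hy't, hy'⟩
        obtain ⟨h1, h2⟩ := hsupp y' hy'
        exact ⟨f y', ⟨hy't, h2⟩, h1.symm⟩ }
  have hβ : ∀ y, β y = βfun y := fun y => rfl
  refine ⟨β, ?_, ?_⟩
  · intro y hy
    by_contra hne
    rw [hβ] at hne
    obtain ⟨h1, h2⟩ := hsupp y hne
    have h3 : δ (f y) = k := by
      by_contra h
      exact h2 (hα (f y) h)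
    apply hy
    rw [h1, hδs, hs1, h3]
  · ext x
    show (∑ᶠ y ∈ f ⁻¹' {x}, β y * ((AlgebraicCycle.mapCoeff f δY δ y : ℕ) : ℤ)) = α x
    rw [finsum_mem_def, finsum_eq_single _ (s x)]
    · have hmem : s x ∈ f ⁻¹' {x} := hs1 x
      rw [Set.indicator_of_mem hmem, hβ, hβs]
      have hc : AlgebraicCycle.mapCoeff f δY δ (s x) = 1 := by
        unfold AlgebraicCycle.mapCoeff
        rw [if_pos (hδs x), hdeg]
      rw [hc]; simp
    · intro y hy
      by_cases hmem : y ∈ f ⁻¹' {x}
      · rw [Set.indicator_of_mem hmem]
        have hfy : f y = x := hmem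
        have : βfun y = 0 := by
          by_contra hne
          obtain ⟨h1, -⟩ := hsupp y hne
          rw [hfy] at h1
          exact hy h1
        rw [hβ, this, zero_mul]
      · rw [Set.indicator_of_notMem hmem]

end Groth.Agent.S6482
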