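import Groth.Statements.S1856
-- import your own Groth.Agent.* helpers here
import Groth.Agent.Lib.Helper85.IntMult.DivPullRat
import Groth.Agent.Lib.Helper85.IntMult.RelDimGeneric

set_option autoImplicit false
universe u
open CategoryTheory AlgebraicGeometry
open Cyc

namespace Groth.Agent.S1856

/-- Let f : X → Y be flat, locally of finite type, of relative dimension r, and α, β rationally
equivalent k-cycles on Y. Then the flat pullbacks f^*α, f^*β (any cycles on X whose coefficients are
given by the flat-pullback formula) are rationally equivalent (k + r)-cycles on X. Here a pair (X,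
δ) with Cyc.IsSetup plays the role of a scheme locally of finite type over a fixed base with a
dimension function (X locally Noetherian with universally catenary local rings, δ a dimension
function), and Cyc.DeltaCompat records that the dimension function upstairs is the induced one. -/
theorem result (X Y : Scheme.{u}) (δX : X → ℤ) (δY : Y → ℤ) (hX : Cyc.IsSetup X δX) (hY : Cyc.IsSetup Y δY) (f : X ⟶ Y) [Flat f] [LocallyOfFiniteType f] (r : ℕ) (hr : Cyc.HasRelDim f r) (hδ : Cyc.DeltaCompat f δX δY) (k : ℤ) (α β : AlgebraicCycle Y ℤ) (hα : α ∈ Cyc.Zk Y δY k) (hβ : β ∈ Cyc.Zk Y δY k) (h : Cyc.RatEquiv δY k α β) (α' β' : AlgebraicCycle X ℤ) (hα' : ⇑α' = Cyc.pullFun f δX δY r ⇑α) (hβ' : ⇑β' = Cyc.pullFun f δX δY r ⇑β) : Cyc.RatEquiv δX (k + r) α' β' := by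
  have hc : ∀ x : X, Groth.Agent.Lib.Helper85.DivPull.GenFib f x → δX x = δY (f x) + (r : ℤ) :=
    fun x hmax => Groth.Agent.Lib.Helper85.RelDimGeneric.delta_eq_add_of_generic f r hr δX δY hδ
      x hmax
  have hsub : ⇑(α' - β') = Cyc.pullFun f δX δY (r : ℤ) ⇑(α - β) := by
    funext x
    have h1 : (α' - β') x = α' x - β' x := rfl
    have h2 : ∀ y : Y, (α - β) y = α y - β y := fun y => rfl
    rw [h1, hα', hβ']
    unfold Cyc.pullFun
    simp only [h2]
    split_ifs
    · ring
    · ring
  exact Groth.Agent.Lib.Helper85.DivPullRat.ratEquivZero_pullFun δY δX hY hX f (r : ℤ) hc k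
    (α - β) h (α' - β') hsub

end Groth.Agent.S1856
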