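import Groth.Statements.S6313
import Mathlib
import Groth.Agent.Lib.Helper30.Resolution

set_option autoImplicit false
universe u
open CategoryTheory
open CAlg

namespace Groth.Agent.S6313


open scoped TensorProduct in
/-- Lemma C: exactness of `M ⊗ P₂ → M ⊗ P₁ → M ⊗ P₀` in the middle, for a presentation of the
inclusion `ι₀ : K₀ → P₀`, is injectivity of `M ⊗ ι₀`. -/
lemma exact_iff_lTensor_injective {R : Type u} [CommRing R] (M : Type u) [AddCommGroup M]
    [Module R M] {P₀ P₁ P₂ K₀ K₁ : Type u} [AddCommGroup P₀] [Module R P₀] [AddCommGroup P₁]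
    [Module R P₁] [AddCommGroup P₂] [Module R P₂] [AddCommGroup K₀] [Module R K₀]
    [AddCommGroup K₁] [Module R K₁]
    (π₁ : P₁ →ₗ[R] K₀) (ι₀ : K₀ →ₗ[R] P₀) (ι₁ : K₁ →ₗ[R] P₁) (π₂ : P₂ →ₗ[R] K₁)
    (hπ₁ : Function.Surjective π₁) (hπ₂ : Function.Surjective π₂) (hex : Function.Exact ι₁ π₁) :
    (∀ y, (ι₀ ∘ₗ π₁).lTensor M y = 0 → ∃ z, (ι₁ ∘ₗ π₂).lTensor M z = y) ↔
      Function.Injective (ι₀.lTensor M) := by
  have hex' : Function.Exact (ι₁.lTensor M) (π₁.lTensor M) := lTensor_exact M hex hπ₁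
  have hs₁ : Function.Surjective (π₁.lTensor M) := LinearMap.lTensor_surjective M hπ₁
  have hs₂ : Function.Surjective (π₂.lTensor M) := LinearMap.lTensor_surjective M hπ₂
  constructor
  · intro h
    rw [injective_iff_map_eq_zero]
    intro w hw
    obtain ⟨y, rfl⟩ := hs₁ w
    have h1 : (ι₀ ∘ₗ π₁).lTensor M y = 0 := by
      rw [LinearMap.lTensor_comp, LinearMap.comp_apply]; exact hw
    obtain ⟨z, rfl⟩ := h y h1
    rw [LinearMap.lTensor_comp, LinearMap.comp_apply]
    exact (hex' _).mpr ⟨_, rfl⟩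
  · intro h y hy
    rw [LinearMap.lTensor_comp, LinearMap.comp_apply] at hy
    have h1 : π₁.lTensor M y = 0 := h (by rw [hy, map_zero])
    obtain ⟨w, rfl⟩ := (hex' y).mp h1
    obtain ⟨z, rfl⟩ := hs₂ w
    exact ⟨z, by rw [LinearMap.lTensor_comp, LinearMap.comp_apply]⟩


open scoped TensorProduct in
lemma lTensor_injective_iff_of_equiv {R : Type u} [CommRing R] (M : Type u) [AddCommGroup M]
    [Module R M] {A A' B : Type u} [AddCommGroup A] [Module R A] [AddCommGroup A'] [Module R A']
    [AddCommGroup B] [Module R B] (f : A →ₗ[R] B) (g : A' →ₗ[R] B) (e : A ≃ₗ[R] A')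
    (h : f = g ∘ₗ e.toLinearMap) :
    Function.Injective (f.lTensor M) ↔ Function.Injective (g.lTensor M) := by
  have hbij : Function.Bijective (e.toLinearMap.lTensor M) := (e.lTensor M).bijective
  rw [h, LinearMap.lTensor_comp, LinearMap.coe_comp]
  constructor
  · intro h
    exact (Function.Injective.of_comp_iff' _ hbij).mp h
  · intro h
    exact h.comp hbij.injective


open Groth.Agent.Lib.Helper30.Resolution in
/-- Lemma D: `Tor₁(M, R/I) = 0` iff `M ⊗ I → M ⊗ R` is injective. -/
lemma tor_one_isZero_iff (R : Type u) [CommRing R] (M : Type u) [AddCommGroup M] [Module R M]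
    (I : Ideal R) :
    Limits.IsZero (((CategoryTheory.Tor (ModuleCat.{u} R) 1).obj (ModuleCat.of R M)).obj
      (ModuleCat.of R (R ⧸ I))) ↔ Function.Injective (I.subtype.lTensor M) := by
  let π₀ : ModuleCat.of R R ⟶ ModuleCat.of R (R ⧸ I) := ModuleCat.ofHom (Submodule.mkQ I)
  let s : Stage R :=
    { Z := ModuleCat.of R (R ⧸ I)
      X := ModuleCat.of R R
      π := π₀
      epi := (ModuleCat.epi_iff_surjective _).mpr (Submodule.mkQ_surjective I)
      proj := by
        rw [← IsProjective.iff_projective]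
        infer_instance }
  let P : ProjectiveResolution (ModuleCat.of R (R ⧸ I)) := res s
  let F := MonoidalCategory.tensorLeft (ModuleCat.of R M)
  let K := (F.mapHomologicalComplex (ComplexShape.down ℕ)).obj P.complex
  have e := P.isoLeftDerivedObj F 1
  have h1 : Limits.IsZero (((CategoryTheory.Tor (ModuleCat.{u} R) 1).obj (ModuleCat.of R M)).obj
      (ModuleCat.of R (R ⧸ I))) ↔ K.ExactAt 1 := by
    rw [HomologicalComplex.exactAt_iff_isZero_homology]
    exact e.isZero_iff
  rw [h1, HomologicalComplex.exactAt_iff' K 2 1 0 (by simp) (by simp),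
    ShortComplex.moduleCat_exact_iff]
  -- identify the maps
  have hg : (K.sc' 2 1 0).g.hom = (s.ι.hom ∘ₗ s.next.π.hom).lTensor M := by
    show (F.map (P.complex.d 1 0)).hom = _
    rw [show P.complex.d 1 0 = s.d from res_d_one_zero s]
    rfl
  have hf : (K.sc' 2 1 0).f.hom = (s.next.ι.hom ∘ₗ s.next.next.π.hom).lTensor M := by
    show (F.map (P.complex.d 2 1)).hom = _
    rw [show P.complex.d 2 1 = s.next.d from res_d_two_one s]
    rfl
  have hπ₁ : Function.Surjective s.next.π.hom := (ModuleCat.epi_iff_surjective _).mp inferInstance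
  have hπ₂ : Function.Surjective s.next.next.π.hom :=
    (ModuleCat.epi_iff_surjective _).mp inferInstance
  have hex : Function.Exact s.next.ι.hom s.next.π.hom := by
    have := ShortComplex.exact_of_f_is_kernel
      (ShortComplex.mk s.next.ι s.next.π s.next.ι_comp_π) s.next.isKernel
    exact (ShortComplex.ShortExact.moduleCat_exact_iff_function_exact _).mp this
  have hC := exact_iff_lTensor_injective M s.next.π.hom s.ι.hom s.next.ι.hom
    s.next.next.π.hom hπ₁ hπ₂ hex
  have h2 : (∀ x₂ : (K.sc' 2 1 0).X₂, (K.sc' 2 1 0).g x₂ = 0 → ∃ x₁, (K.sc' 2 1 0).f x₁ = x₂) ↔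
      (∀ y, (s.ι.hom ∘ₗ s.next.π.hom).lTensor M y = 0 →
        ∃ z, (s.next.ι.hom ∘ₗ s.next.next.π.hom).lTensor M z = y) := by
    have hg' : ∀ x, (K.sc' 2 1 0).g x = (s.ι.hom ∘ₗ s.next.π.hom).lTensor M x :=
      fun x => congrArg (fun l => l x) hg
    have hf' : ∀ x, (K.sc' 2 1 0).f x = (s.next.ι.hom ∘ₗ s.next.next.π.hom).lTensor M x :=
      fun x => congrArg (fun l => l x) hf
    constructor
    · intro h y hy
      obtain ⟨z, hz⟩ := h y ((hg' y).trans hy)
      exact ⟨z, (hf' z).symm.trans hz⟩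
    · intro h y hy
      obtain ⟨z, hz⟩ := h y ((hg' y).symm.trans hy)
      exact ⟨z, (hf' z).trans hz⟩
  rw [h2, hC]
  -- compare `kernel.ι π₀` with `I.subtype`
  have hι : s.ι.hom = (LinearMap.ker π₀.hom).subtype ∘ₗ (ModuleCat.kernelIsoKer π₀).hom.hom := by
    have := ModuleCat.kernelIsoKer_hom_ker_subtype π₀
    have h3 := congrArg ModuleCat.Hom.hom this
    rw [ModuleCat.hom_comp] at h3
    exact h3.symm
  have h4 : Function.Injective (s.ι.hom.lTensor M) ↔
      Function.Injective ((LinearMap.ker π₀.hom).subtype.lTensor M) :=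
    lTensor_injective_iff_of_equiv M s.ι.hom (LinearMap.ker π₀.hom).subtype
      (ModuleCat.kernelIsoKer π₀).toLinearEquiv hι
  rw [h4]
  have hker : LinearMap.ker π₀.hom = I := Submodule.ker_mkQ I
  have h5 : ∀ J : Submodule R R, J = I →
      (Function.Injective (J.subtype.lTensor M) ↔ Function.Injective (I.subtype.lTensor M)) := by
    rintro J rfl
    exact Iff.rfl
  exact h5 _ hker

/-- For a ring R and an R-module M, flatness of M over R is equivalent to the vanishing of Tor₁ᴿ(M, R/I)
for every finitely generated ideal I ⊆ R. -/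
theorem result (R : Type u) [CommRing R] (M : Type u) [AddCommGroup M] [Module R M] : Module.Flat R M ↔ ∀ I : Ideal R, I.FG → Limits.IsZero (((CategoryTheory.Tor (ModuleCat.{u} R) 1).obj (ModuleCat.of R M)).obj (ModuleCat.of R (R ⧸ I))) := by
  rw [Module.Flat.iff_lTensor_injective]
  constructor
  · intro h I hI
    exact (tor_one_isZero_iff R M I).mpr (h hI)
  · intro h I hI
    exact (tor_one_isZero_iff R M I).mp (h I hI)

end Groth.Agent.S6313
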