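import Groth.Statements.S6924
import Mathlib
import Groth.Agent.Lib.Helper10.FittingMinors
import Groth.Agent.S6894
import Groth.Agent.S6895
import Groth.Agent.S6914
import Groth.Agent.S6915
-- import your own Groth.Agent.* helpers here

set_option autoImplicit false
universe u
open TensorProduct
open Fitt

namespace Groth.Agent.S6924

open Groth.Agent.Lib.Helper10.Fitting

section Helpers

/-- Lower Fitting ideals are `f`-power torsion when `M` is locally free of rank `r` on `D(f)`. -/
theorem fitt_lt_pow_torsion {R : Type u} [CommRing R] (M : Type u) [AddCommGroup M]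
    [Module R M] [Module.Finite R M] (f : R) (r j : ℕ) (hj : j < r)
    (hf : ∀ (p : Ideal R) [p.IsPrime], f ∉ p → ∃ g : R, g ∉ p ∧ g ∈ (Ideal.span {f}).radical ∧
      Module.Free (Localization.Away g) (LocalizedModule (Submonoid.powers g) M) ∧
        Module.finrank (Localization.Away g) (LocalizedModule (Submonoid.powers g) M) = r)
    (y : R) (hy : y ∈ Fitt.ideal R M j) : ∃ n : ℕ, f ^ n * y = 0 := by
  classical
  let K : Ideal R := LinearMap.ker (LinearMap.toSpanSingleton R R y)
  have hK : ∀ t : R, t ∈ K ↔ t * y = 0 := by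
    intro t
    show t ∈ LinearMap.ker (LinearMap.toSpanSingleton R R y) ↔ _
    rw [LinearMap.mem_ker, LinearMap.toSpanSingleton_apply, smul_eq_mul]
  have hrad : f ∈ K.radical := by
    rw [Ideal.radical_eq_sInf, Ideal.mem_sInf]
    rintro p ⟨hKp, hp⟩
    by_contra hfp
    haveI := hp
    obtain ⟨g, hgp, -, hfr, hrk⟩ := hf p hfp
    haveI := hfr
    haveI := Groth.Agent.S6895.nontrivial_away p g hgp
    let b := Module.finBasisOfFinrankEq (Localization.Away g)
      (LocalizedModule (Submonoid.powers g) M) hrk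
    have hbot : Fitt.ideal (Localization.Away g) (LocalizedModule (Submonoid.powers g) M) j = ⊥ :=
      fitt_eq_bot_of_basis b (by simpa using hj)
    rw [fitt_isLocalizedModule (Submonoid.powers g) (Localization.Away g)
      (LocalizedModule.mkLinearMap (Submonoid.powers g) M) j] at hbot
    have h0 : algebraMap R (Localization.Away g) y = 0 := by
      have : algebraMap R (Localization.Away g) y ∈
          (Fitt.ideal R M j).map (algebraMap R (Localization.Away g)) :=
        Ideal.mem_map_of_mem _ hy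
      rw [hbot] at this
      exact this
    rw [IsLocalization.map_eq_zero_iff (Submonoid.powers g)] at h0
    obtain ⟨⟨s, m, rfl⟩, hs⟩ := h0
    exact hgp (hp.mem_of_pow_mem m (hKp ((hK _).mpr hs)))
  obtain ⟨n, hn⟩ := hrad
  exact ⟨n, (hK _).mp hn⟩

theorem mem_radical_fitt {R : Type u} [CommRing R] (M : Type u) [AddCommGroup M]
    [Module R M] [Module.Finite R M] (f : R) (r : ℕ)
    (hf : ∀ (p : Ideal R) [p.IsPrime], f ∉ p → ∃ g : R, g ∉ p ∧ g ∈ (Ideal.span {f}).radical ∧
      Module.Free (Localization.Away g) (LocalizedModule (Submonoid.powers g) M) ∧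
        Module.finrank (Localization.Away g) (LocalizedModule (Submonoid.powers g) M) = r) :
    f ∈ (Fitt.ideal R M r).radical := by
  classical
  rw [Ideal.radical_eq_sInf, Ideal.mem_sInf]
  rintro p ⟨hle, hp⟩
  by_contra hfp
  haveI := hp
  obtain ⟨g, hgp, -, hfr, hrk⟩ := hf p hfp
  haveI := hfr
  haveI := Groth.Agent.S6895.nontrivial_away p g hgp
  let b := Module.finBasisOfFinrankEq (Localization.Away g)
    (LocalizedModule (Submonoid.powers g) M) hrk
  exact ((Groth.Agent.S6894.result M r p).2.2.mpr ⟨g, hgp, ⇑b, b.span_eq⟩) hle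

theorem exists_finite_minors {R : Type*} [CommRing R] {ι : Type*} (K : Set (ι → R)) (p : ℕ)
    (c : R) (hc : c ∈ Minors K p) :
    ∃ S : Set (ι → R), S.Finite ∧ S ⊆ K ∧ c ∈ Minors S p := by
  classical
  unfold Minors at hc
  obtain ⟨T, hT, hcT⟩ := Submodule.mem_span_finite_of_mem_span hc
  have hT' : ∀ d, d ∈ T → ∃ (z : Fin p → (ι → R)) (e : Fin p → ι), (∀ b, z b ∈ K) ∧
      d = Matrix.det (Matrix.of fun a b => z b (e a)) := fun d hd => hT hd
  choose z e hz using hT'
  refine ⟨⋃ d : ↥T, Set.range (z d.1 d.2), ?_, ?_, ?_⟩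
  · exact Set.finite_iUnion (fun d => Set.finite_range _)
  · intro v hv
    simp only [Set.mem_iUnion, Set.mem_range] at hv
    obtain ⟨d, b, rfl⟩ := hv
    exact (hz d.1 d.2).1 b
  · refine Submodule.span_mono ?_ hcT
    intro d hd
    refine ⟨z d hd, e d hd, fun b => ?_, (hz d hd).2⟩
    simp only [Set.mem_iUnion, Set.mem_range]
    exact ⟨⟨d, hd⟩, b, rfl⟩

theorem minors_fg {R : Type*} [CommRing R] {ι : Type*} [Finite ι] (S : Set (ι → R))
    (hS : S.Finite) (p : ℕ) : (Minors S p).FG := by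
  classical
  haveI := hS.to_subtype
  unfold Minors
  apply Submodule.fg_span
  apply Set.Finite.subset (Set.finite_range (fun ze : (Fin p → ↥S) × (Fin p → ι) =>
    Matrix.det (Matrix.of fun a b => ((ze.1 b : ↥S) : ι → R) (ze.2 a))))
  rintro d ⟨z, e, hz, rfl⟩
  exact ⟨(fun b => ⟨z b, hz b⟩, e), rfl⟩

theorem minors_mono {R : Type*} [CommRing R] {ι : Type*} {S S' : Set (ι → R)} (h : S ⊆ S')
    (p : ℕ) : Minors S p ≤ Minors S' p := by
  unfold Minors
  apply Ideal.span_mono
  rintro d ⟨z, e, hz, rfl⟩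
  exact ⟨z, e, fun b => h (hz b), rfl⟩

/-- The Fitting ideals of an explicitly presented module. -/
theorem fitt_quotient_span {R : Type u} [CommRing R] {ι : Type} [Fintype ι] [DecidableEq ι]
    (S : Set (ι → R)) (p k : ℕ) (hpk : p + k = Fintype.card ι) :
    Fitt.ideal R ((ι → R) ⧸ Submodule.span R S) k = Minors S p := by
  let x₁ : ι → (ι → R) ⧸ Submodule.span R S := fun i => Submodule.Quotient.mk (Pi.single i 1)
  have hx₁ : Submodule.span R (Set.range x₁) = ⊤ := by
    have h1 : Set.range x₁ = (Submodule.span R S).mkQ '' Set.range ⇑(Pi.basisFun R ι) := by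
      rw [← Set.range_comp]
      congr 1
      funext i
      simp [x₁]
    rw [h1, ← Submodule.map_span, (Pi.basisFun R ι).span_eq, Submodule.map_top,
      Submodule.range_mkQ]
  have hrel : Rel R x₁ = Submodule.span R S := by
    ext v
    rw [mem_Rel]
    have h2 : ∑ i, v i • x₁ i = Submodule.Quotient.mk v := by
      have h3 : ∑ i, v i • x₁ i =
          (Submodule.span R S).mkQ (∑ i, v i • (Pi.single i 1 : ι → R)) := by
        rw [map_sum]
        apply Finset.sum_congr rfl
        intro i _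
        rw [map_smul]
        rfl
      rw [h3, Submodule.mkQ_apply]
      congr 1
      funext l
      simp [Finset.sum_apply, Pi.single_apply]
    rw [h2, Submodule.Quotient.mk_eq_zero]
  rw [fitt_eq_G x₁ hx₁ k]
  have hS1 : S ⊆ (Rel R x₁ : Set (ι → R)) := by
    rw [hrel]
    exact Submodule.subset_span
  exact G_eq_Minors x₁ S hS1 hrel.le p k hpk

theorem pow_torsion_map {R : Type u} [CommRing R] (R₁ : Type u) [CommRing R₁] [Algebra R R₁]
    (a : R) (L : Ideal R) (h : ∀ y ∈ L, ∃ n : ℕ, a ^ n * y = 0) :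
    ∀ z ∈ L.map (algebraMap R R₁), ∃ n : ℕ, (algebraMap R R₁ a) ^ n * z = 0 := by
  intro z hz
  set a₁ := algebraMap R R₁ a with ha₁
  unfold Ideal.map at hz
  induction hz using Submodule.span_induction with
  | mem z hz =>
    obtain ⟨y, hy, rfl⟩ := hz
    obtain ⟨n, hn⟩ := h y hy
    refine ⟨n, ?_⟩
    rw [ha₁, ← map_pow, ← map_mul, hn, map_zero]
  | zero => exact ⟨0, by simp⟩
  | add z₁ z₂ _ _ h₁ h₂ =>
    obtain ⟨n₁, h₁⟩ := h₁
    obtain ⟨n₂, h₂⟩ := h₂
    refine ⟨n₁ + n₂, ?_⟩
    rw [mul_add, pow_add]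
    have e1 : a₁ ^ n₁ * a₁ ^ n₂ * z₁ = a₁ ^ n₂ * (a₁ ^ n₁ * z₁) := by ring
    have e2 : a₁ ^ n₁ * a₁ ^ n₂ * z₂ = a₁ ^ n₁ * (a₁ ^ n₂ * z₂) := by ring
    rw [e1, e2, h₁, h₂, mul_zero, mul_zero, add_zero]
  | smul t z _ h =>
    obtain ⟨n, h⟩ := h
    refine ⟨n, ?_⟩
    rw [smul_eq_mul, mul_left_comm, h, mul_zero]

/-- In the affine blow-up algebra of `f · J` at `a = f b` (`b ∈ J`), the ideal `J` becomes
principal, generated by `b`. -/
theorem map_eq_span_of_mul {R : Type u} [CommRing R] (J : Ideal R) (f a b : R) (hb : b ∈ J)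
    (hab : a = f * b) (R₁ : Type u) [CommRing R₁] [Algebra R R₁]
    (e : R₁ ≃ₐ[R] ↥(BlowUp.affineAlgebra R (Ideal.span {f} * J) a)) :
    J.map (algebraMap R R₁) = Ideal.span {algebraMap R R₁ b} := by
  have hnzd : algebraMap R R₁ a ∈ nonZeroDivisors R₁ :=
    Groth.Agent.S6915.algebraMap_mem_nonZeroDivisors _ a R₁ e
  apply le_antisymm
  · rw [Ideal.map_le_iff_le_comap]
    intro y hy
    rw [Ideal.mem_comap, Ideal.mem_span_singleton']
    have hfy : f * y ∈ Ideal.span {f} * J :=
      Ideal.mul_mem_mul (Ideal.mem_span_singleton_self f) hy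
    have hq : IsLocalization.mk' (Localization.Away a) (f * y)
        (⟨a, Submonoid.mem_powers a⟩ : Submonoid.powers a) ∈
          BlowUp.affineAlgebra R (Ideal.span {f} * J) a :=
      Algebra.subset_adjoin ⟨f * y, hfy, rfl⟩
    have hc : e.symm ⟨_, hq⟩ * algebraMap R R₁ a = algebraMap R R₁ (f * y) := by
      apply e.injective
      rw [map_mul, AlgEquiv.apply_symm_apply, AlgEquiv.commutes, AlgEquiv.commutes]
      apply Subtype.ext
      show IsLocalization.mk' (Localization.Away a) (f * y)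
          (⟨a, Submonoid.mem_powers a⟩ : Submonoid.powers a) *
            algebraMap R (Localization.Away a) a = algebraMap R (Localization.Away a) (f * y)
      rw [mul_comm]
      exact IsLocalization.mk'_spec' (Localization.Away a) (f * y)
        (⟨a, Submonoid.mem_powers a⟩ : Submonoid.powers a)
    refine ⟨e.symm ⟨_, hq⟩, ?_⟩
    -- cancel `f`
    have h1 : (e.symm ⟨_, hq⟩ * algebraMap R R₁ b - algebraMap R R₁ y) * algebraMap R R₁ a = 0 := by
      have h2 : algebraMap R R₁ a = algebraMap R R₁ f * algebraMap R R₁ b := by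
        rw [hab, map_mul]
      have h3 : algebraMap R R₁ (f * y) = algebraMap R R₁ f * algebraMap R R₁ y := map_mul _ _ _
      rw [h3, h2] at hc
      rw [sub_mul, h2]
      have h4 : e.symm ⟨_, hq⟩ * algebraMap R R₁ b * (algebraMap R R₁ f * algebraMap R R₁ b) =
          (e.symm ⟨_, hq⟩ * (algebraMap R R₁ f * algebraMap R R₁ b)) * algebraMap R R₁ b := by ring
      rw [h4, hc]
      ring
    have h5 := (mem_nonZeroDivisors_iff.mp hnzd).2 _ h1
    exact sub_eq_zero.mp h5
  · rw [Ideal.span_le, Set.singleton_subset_iff]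
    exact Ideal.mem_map_of_mem _ hb

/-- A surjection of modules induces an inequality between the Fitting ideals of the quotients by
power torsion (strict transforms). -/
theorem fitt_powTorsion_le {R₁ : Type u} [CommRing R₁] {N₁ N : Type u} [AddCommGroup N₁]
    [Module R₁ N₁] [AddCommGroup N] [Module R₁ N] (ψ : N₁ →ₗ[R₁] N) (hψ : Function.Surjective ψ)
    (a₁ : R₁) (k : ℕ) :
    Fitt.ideal R₁ (N₁ ⧸ FlatCA.powTorsion R₁ a₁ N₁) k ≤
      Fitt.ideal R₁ (N ⧸ FlatCA.powTorsion R₁ a₁ N) k := by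
  have hle : FlatCA.powTorsion R₁ a₁ N₁ ≤ (FlatCA.powTorsion R₁ a₁ N).comap ψ := by
    intro m hm
    obtain ⟨n, hn⟩ := Groth.Agent.S6915.mem_powTorsion a₁ hm
    rw [Submodule.mem_comap]
    unfold FlatCA.powTorsion
    apply Submodule.mem_iSup_of_mem n
    rw [Submodule.mem_torsionBy_iff, ← map_smul, hn, map_zero]
  apply fitt_le_of_surjective (Submodule.mapQ _ _ ψ hle)
  intro w
  obtain ⟨n, rfl⟩ := Submodule.Quotient.mk_surjective _ w
  obtain ⟨n₁, rfl⟩ := hψ n
  exact ⟨Submodule.Quotient.mk n₁, rfl⟩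

end Helpers

/-- Let `M` be a finite `R`-module and `f ∈ R` such that every prime of `D(f)` has a basic open
neighbourhood `D(g) ⊆ D(f)` with `M_g` free of rank `r` (in other words `M_f` is, locally on `D(f)`,
free of rank `r`). Then there is a finitely generated ideal `I ⊆ R` with `V(I) = V(f)` such that for
every `a ∈ I` and (a copy `R₁` of) the affine blow-up algebra `R[I/a]`, the strict transform `(M ⊗_R
R₁)/(a-power torsion)` is finite locally free of rank `r` over `R₁`. -/
theorem result {R : Type u} [CommRing R] (M : Type u) [AddCommGroup M]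
    [Module R M] [Module.Finite R M] (f : R) (r : ℕ)
    (hf : ∀ (p : Ideal R) [p.IsPrime], f ∉ p → ∃ g : R, g ∉ p ∧ g ∈ (Ideal.span {f}).radical ∧
      Module.Free (Localization.Away g) (LocalizedModule (Submonoid.powers g) M) ∧
        Module.finrank (Localization.Away g) (LocalizedModule (Submonoid.powers g) M) = r) :
    ∃ I : Ideal R, I.FG ∧ I.radical = (Ideal.span {f}).radical ∧ ∀ a ∈ I, ∀ (R₁ : Type u) [CommRing R₁] [Algebra R R₁] (e : R₁ ≃ₐ[R] ↥(BlowUp.affineAlgebra R I a)),
      ∀ (p' : Ideal R₁) [p'.IsPrime], ∃ g : R₁, g ∉ p' ∧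
        Module.Free (Localization.Away g) (LocalizedModule (Submonoid.powers g) ((R₁ ⊗[R] M) ⧸ FlatCA.powTorsion R₁ (algebraMap R R₁ a) (R₁ ⊗[R] M))) ∧
        Module.finrank (Localization.Away g) (LocalizedModule (Submonoid.powers g) ((R₁ ⊗[R] M) ⧸ FlatCA.powTorsion R₁ (algebraMap R R₁ a) (R₁ ⊗[R] M))) = r := by
  classical
  -- generators, padded so that there are at least `r` of them
  obtain ⟨n₀, x₀, hx₀⟩ := Module.Finite.exists_fin (R := R) (M := M)
  let x : Fin n₀ ⊕ Fin r → M := Sum.elim x₀ (fun _ => 0)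
  have hx : Submodule.span R (Set.range x) = ⊤ := by
    rw [eq_top_iff, ← hx₀]
    apply Submodule.span_mono
    rintro _ ⟨i, rfl⟩
    exact ⟨Sum.inl i, rfl⟩
  have hcard : n₀ + r = Fintype.card (Fin n₀ ⊕ Fin r) := by simp
  -- a power of `f` is in `Fit_r(M)`, expressed through minors of relations
  obtain ⟨N, hN⟩ := mem_radical_fitt M f r hf
  have hNm : f ^ N ∈ Minors (Rel R x : Set ((Fin n₀ ⊕ Fin r) → R)) n₀ := by
    rw [← G_eq_Minors x (Rel R x : Set ((Fin n₀ ⊕ Fin r) → R)) (le_refl _) Submodule.subset_span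
      n₀ r hcard, ← fitt_eq_G x hx r]
    exact hN
  obtain ⟨S, hSfin, hSK, hNS⟩ := exists_finite_minors _ n₀ _ hNm
  set J := Minors S n₀ with hJ
  refine ⟨Ideal.span {f} * J, ?_, ?_, ?_⟩
  · exact (Submodule.fg_span (Set.finite_singleton f)).mul (minors_fg S hSfin n₀)
  · apply le_antisymm
    · apply Ideal.radical_mono
      exact (Ideal.mul_le_left : Ideal.span {f} * J ≤ Ideal.span {f})
    · rw [Ideal.radical_le_radical_iff, Ideal.span_le, Set.singleton_subset_iff]
      refine ⟨N + 1, ?_⟩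
      rw [pow_succ']
      exact Ideal.mul_mem_mul (Ideal.mem_span_singleton_self f) hNS
  intro a ha R₁ _ _ e p' hp'
  obtain ⟨b, hb, hab⟩ := Ideal.mem_span_singleton_mul.mp ha
  set a₁ := algebraMap R R₁ a with ha₁
  have hnzd : a₁ ∈ nonZeroDivisors R₁ :=
    Groth.Agent.S6915.algebraMap_mem_nonZeroDivisors _ a R₁ e
  refine (Groth.Agent.S6895.result
    ((R₁ ⊗[R] M) ⧸ FlatCA.powTorsion R₁ a₁ (R₁ ⊗[R] M)) r).mpr ⟨?_, ?_⟩ p'
  · intro j hj
    apply Groth.Agent.S6915.fitt_quotient_powTorsion_eq_bot (R₁ ⊗[R] M) j a₁ hnzd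
    intro z hz
    rw [fitt_baseChange R₁ j] at hz
    refine pow_torsion_map R₁ a (Fitt.ideal R M j) ?_ z hz
    intro y hy
    obtain ⟨n, hn⟩ := fitt_lt_pow_torsion M f r j hj hf y hy
    refine ⟨n, ?_⟩
    rw [← hab, mul_pow, mul_assoc, mul_left_comm, hn, mul_zero]
  · intro j hj
    -- the explicitly presented module `M₁` surjecting onto `M`
    let M₁ := ((Fin n₀ ⊕ Fin r) → R) ⧸ Submodule.span R S
    have hker : Submodule.span R S ≤ LinearMap.ker (Fintype.linearCombination R x) := by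
      rw [Submodule.span_le]
      exact hSK
    let φ : M₁ →ₗ[R] M := (Submodule.span R S).liftQ (Fintype.linearCombination R x) hker
    have hφ : Function.Surjective φ := by
      intro m
      have hm : m ∈ Submodule.span R (Set.range x) := by rw [hx]; trivial
      rw [← Fintype.range_linearCombination, LinearMap.mem_range] at hm
      obtain ⟨v, rfl⟩ := hm
      exact ⟨Submodule.Quotient.mk v, rfl⟩
    have hfit₁ : Fitt.ideal R M₁ r = J := fitt_quotient_span S n₀ r hcard
    have hJmap : J.map (algebraMap R R₁) = Ideal.span {algebraMap R R₁ b} :=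
      map_eq_span_of_mul J f a b hb hab.symm R₁ e
    have hfitN₁ : Fitt.ideal R₁ (R₁ ⊗[R] M₁) r = Ideal.span {algebraMap R R₁ b} := by
      rw [fitt_baseChange R₁ r, hfit₁, hJmap]
    have htop₁ : Fitt.ideal R₁ ((R₁ ⊗[R] M₁) ⧸ FlatCA.powTorsion R₁ a₁ (R₁ ⊗[R] M₁)) r = ⊤ := by
      apply Groth.Agent.S6914.fitt_quotient_eq_top (R₁ ⊗[R] M₁) r (algebraMap R R₁ b) hfitN₁
      intro m hm
      unfold FlatCA.powTorsion
      apply Submodule.mem_iSup_of_mem 1
      rw [Submodule.mem_torsionBy_iff, pow_one, ha₁, ← hab, map_mul, mul_smul, hm, smul_zero]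
    have hsurj : Function.Surjective (LinearMap.baseChange R₁ φ) := by
      show Function.Surjective (LinearMap.lTensor R₁ φ)
      exact LinearMap.lTensor_surjective R₁ hφ
    have h6 := fitt_powTorsion_le (LinearMap.baseChange R₁ φ) hsurj a₁ r
    rw [htop₁, top_le_iff] at h6
    exact top_le_iff.mp (h6 ▸ fitt_mono hj)

end Groth.Agent.S6924
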