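import Groth.Statements.S10890
import Groth.Agent.S6924
import Groth.Agent.Lib.Helper10.FittingSplit

set_option autoImplicit false
universe u
open CAlgX

namespace Groth.Agent.S10890

open Groth.Agent.Lib.Helper10.Fitting

theorem minors_eq {R : Type u} [CommRing R] {n m : ℕ} (A : Matrix (Fin n) (Fin m) R) (p : ℕ) :
    Minors (Set.range A.col) p = CAlgX.minorIdeal A p := by
  unfold Minors CAlgX.minorIdeal
  congr 1
  ext d
  constructor
  · rintro ⟨z, e, hz, rfl⟩
    choose g hg using hz
    refine ⟨(e, g), ?_⟩
    show Matrix.det (A.submatrix e g) = _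
    congr 1
    funext a b
    simp only [Matrix.submatrix_apply, Matrix.of_apply]
    rw [← hg b]
    rfl
  · rintro ⟨⟨f, g⟩, rfl⟩
    exact ⟨fun b => A.col (g b), f, fun b => ⟨g b, rfl⟩, rfl⟩

theorem minorIdeal_eq_bot_of_lt {R : Type u} [CommRing R] {n m : ℕ}
    (A : Matrix (Fin n) (Fin m) R) (p : ℕ) (h : n < p) : CAlgX.minorIdeal A p = ⊥ := by
  unfold CAlgX.minorIdeal
  rw [Ideal.span_eq_bot]
  rintro d ⟨⟨f, g⟩, rfl⟩
  have hninj : ¬ Function.Injective f := by
    intro hf
    have := Fintype.card_le_of_injective f hf
    simp at this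
    omega
  rw [Function.Injective] at hninj
  simp only [not_forall] at hninj
  obtain ⟨a, b, hab, hne⟩ := hninj
  exact Matrix.det_zero_of_row_eq hne (by
    ext j
    simp [Matrix.submatrix_apply, hab])

theorem finrank_eq_of_fitt {R : Type u} [CommRing R] [Nontrivial R] (M : Type u) [AddCommGroup M]
    [Module R M] [Module.Free R M] [Module.Finite R M] (k : ℕ)
    (hbot : ∀ j, j < k → Fitt.ideal R M j = ⊥) (htop : Fitt.ideal R M k = ⊤) :
    Module.finrank R M = k := by
  let b := Module.finBasis R M
  by_contra hne
  rcases lt_or_gt_of_ne hne with h | h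
  · have h1 : Fitt.ideal R M (Module.finrank R M) = ⊤ :=
      fitt_eq_top_of_span b b.span_eq le_rfl
    rw [hbot _ h] at h1
    exact bot_ne_top h1
  · have h1 : Fitt.ideal R M k = ⊥ := fitt_eq_bot_of_basis b (by simpa using h)
    rw [htop] at h1
    exact bot_ne_top h1.symm

theorem free_of_isCompl {R : Type u} [CommRing R] [IsLocalRing R] {n : ℕ}
    (N N' : Submodule R (Fin n → R)) (hc : IsCompl N N') : Module.Free R N ∧ Module.Finite R N := by
  have hproj : Module.Projective R N :=
    Module.Projective.of_split N.subtype (Submodule.linearProjOfIsCompl N N' hc) (by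
      ext v : 1
      exact Submodule.linearProjOfIsCompl_apply_left hc v)
  have hfin : Module.Finite R N :=
    Module.Finite.of_surjective (Submodule.linearProjOfIsCompl N N' hc)
      (Submodule.linearProjOfIsCompl_surjective hc)
  exact ⟨Module.free_of_flat_of_isLocalRing, hfin⟩

theorem finrank_add_of_isCompl {R : Type u} [CommRing R] [IsLocalRing R] {n : ℕ}
    (N N' : Submodule R (Fin n → R)) (hc : IsCompl N N') :
    Module.finrank R N + Module.finrank R N' = n := by
  obtain ⟨h1, h2⟩ := free_of_isCompl N N' hc
  obtain ⟨h3, h4⟩ := free_of_isCompl N' N hc.symm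
  rw [← Module.finrank_prod, (Submodule.prodEquivOfIsCompl N N' hc).finrank_eq,
    Module.finrank_fin_fun]

theorem fitt_quot_eq {R : Type u} [CommRing R] {n m : ℕ} (A : Matrix (Fin n) (Fin m) R)
    (p k : ℕ) (hpk : p + k = n) :
    Fitt.ideal R ((Fin n → R) ⧸ LinearMap.range (Matrix.mulVecLin A)) k =
      CAlgX.minorIdeal A p := by
  rw [← minors_eq, ← Groth.Agent.S6924.fitt_quotient_span (Set.range A.col) p k (by simpa using hpk),
    ← Matrix.range_mulVecLin]

/-- (i) ⇔ (ii): let R be a local ring, A an n × m matrix over R regarded as a linear map R^m → R^n, and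
1 ≤ r ≤ n. Then the image of A is a direct summand of R^n of rank r if and only if every (r+1) ×
(r+1) minor of A is zero and the r × r minors of A generate the unit ideal. (The printed statement
is over an arbitrary ring with 'direct summand of rank r'; its proof localises at once, and this row
states the local case, where a direct summand of R^n is free and its rank is its finrank.) -/
theorem result (R : Type u) [CommRing R] [IsLocalRing R] (n m r : ℕ)
    (hr : 1 ≤ r) (hrn : r ≤ n) (A : Matrix (Fin n) (Fin m) R) :
    (∃ N' : Submodule R (Fin n → R), IsCompl (LinearMap.range (Matrix.mulVecLin A)) N' ∧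
        Module.finrank R (LinearMap.range (Matrix.mulVecLin A)) = r) ↔
      (CAlgX.minorIdeal A (r + 1) = ⊥ ∧ CAlgX.minorIdeal A r = ⊤) := by
  classical
  have hnt : Nontrivial R := inferInstance
  constructor
  · rintro ⟨N', hc, hrank⟩
    have hadd := finrank_add_of_isCompl _ N' hc
    obtain ⟨h3, h4⟩ := free_of_isCompl N' _ hc.symm
    have hN' : Module.finrank R N' = n - r := by omega
    let b := Module.finBasis R N'
    have e := Submodule.quotientEquivOfIsCompl _ N' hc
    constructor
    · by_cases h : r + 1 ≤ n
      · rw [← fitt_quot_eq A (r + 1) (n - r - 1) (by omega), fitt_congr e]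
        exact fitt_eq_bot_of_basis b (by simp; omega)
      · exact minorIdeal_eq_bot_of_lt A (r + 1) (by omega)
    · rw [← fitt_quot_eq A r (n - r) (by omega), fitt_congr e]
      exact fitt_eq_top_of_span b b.span_eq (by omega)
  · rintro ⟨hbot, htop⟩
    set N := LinearMap.range (Matrix.mulVecLin A) with hN
    have htopM : Fitt.ideal R ((Fin n → R) ⧸ N) (n - r) = ⊤ := by
      rw [fitt_quot_eq A r (n - r) (by omega), htop]
    have hbotM : ∀ j, j < n - r → Fitt.ideal R ((Fin n → R) ⧸ N) j = ⊥ := by
      intro j hj
      have h1 : Fitt.ideal R ((Fin n → R) ⧸ N) (n - r - 1) = ⊥ := by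
        rw [fitt_quot_eq A (r + 1) (n - r - 1) (by omega), hbot]
      exact le_bot_iff.mp (h1 ▸ fitt_mono (by omega))
    let x : Fin n → (Fin n → R) ⧸ N := fun i => N.mkQ (Pi.single i 1)
    have hx : Submodule.span R (Set.range x) = ⊤ := by
      have h1 : Set.range x = N.mkQ '' Set.range ⇑(Pi.basisFun R (Fin n)) := by
        rw [← Set.range_comp]
        congr 1
        funext i
        simp [x]
      rw [h1, ← Submodule.map_span, (Pi.basisFun R (Fin n)).span_eq, Submodule.map_top,
        Submodule.range_mkQ]
    have hproj : Module.Projective R ((Fin n → R) ⧸ N) := by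
      apply projective_of_G_eq_top x hx (n - r)
      · intro B hB
        have h1 : B.det ∈ G R x (n - r - 1) := det_mem_G _ _ B (by omega)
        rw [← fitt_eq_G x hx, hbotM _ (by omega), Ideal.mem_bot] at h1
        exact h1
      · rw [← fitt_eq_G x hx, htopM]
    obtain ⟨σ, hσ⟩ := Module.projective_lifting_property N.mkQ
      (LinearMap.id : ((Fin n → R) ⧸ N) →ₗ[R] _) (Submodule.mkQ_surjective N)
    have hσ' : ∀ y, N.mkQ (σ y) = y := fun y => LinearMap.congr_fun hσ y
    have hc : IsCompl N (LinearMap.range σ) := by
      constructor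
      · rw [Submodule.disjoint_def]
        rintro v hv ⟨y, rfl⟩
        have h1 : N.mkQ (σ y) = 0 := by
          rw [Submodule.mkQ_apply, Submodule.Quotient.mk_eq_zero]
          exact hv
        rw [hσ'] at h1
        rw [h1, map_zero]
      · rw [codisjoint_iff, eq_top_iff]
        intro v _
        have h1 : v - σ (N.mkQ v) ∈ N := by
          rw [← Submodule.Quotient.mk_eq_zero, ← Submodule.mkQ_apply, map_sub, hσ', sub_self]
        have h2 : v = (v - σ (N.mkQ v)) + σ (N.mkQ v) := by abel
        rw [h2]
        exact Submodule.add_mem_sup h1 ⟨_, rfl⟩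
    refine ⟨LinearMap.range σ, hc, ?_⟩
    have hadd := finrank_add_of_isCompl _ _ hc
    obtain ⟨h3, h4⟩ := free_of_isCompl _ _ hc.symm
    have e := Submodule.quotientEquivOfIsCompl _ _ hc
    have hfreeM : Module.Free R ((Fin n → R) ⧸ N) := Module.Free.of_equiv e.symm
    have hfinM : Module.Finite R ((Fin n → R) ⧸ N) := Module.Finite.equiv e.symm
    have hrk := finrank_eq_of_fitt ((Fin n → R) ⧸ N) (n - r) hbotM htopM
    rw [e.finrank_eq] at hrk
    omega

end Groth.Agent.S10890
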