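import Groth.Statements.S4270
import Mathlib
import Groth.Agent.Lib.Helper11.NegPowers
import Groth.Agent.Lib.Helper11.PullbackAmple2

set_option autoImplicit false
universe u
open CategoryTheory CategoryTheory.Limits AlgebraicGeometry
attribute [local instance] HasDerivedCategory.standard
open KSix

namespace Groth.Agent.S4270

section helpers

open CategoryTheory CategoryTheory.Limits AlgebraicGeometry TopologicalSpace Opposite MonoidalCategory
open Groth.Agent.Lib.Helper45 Groth.Agent.Lib.Helper49 Groth.Agent.Lib.Helper11.GenLocus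
open Groth.Agent.Lib.Helper11.NegPowers Groth.Agent.Lib.Helper11.PullbackAmple2

variable {X : Scheme.{u}}

attribute [local instance] Abelian.hasFiniteBiproducts

theorem isFinLocFree_biproduct_of_isInvertible {k : ℕ} (N : Fin k → X.Modules)
    (hN : ∀ j, PicF.IsInvertible (N j)) : FlatMod.IsFinLocFree (⨁ N) := by
  intro x
  choose V hxV t ht using fun j => exists_isBasisOn_of_isInvertible (hN j) x
  let U : X.Opens := Finset.univ.inf V
  have hU : ∀ j, U ≤ V j := fun j => Finset.inf_le (Finset.mem_univ j)
  have hxU : x ∈ U := by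
    have : ∀ (s : Finset (Fin k)), x ∈ s.inf V := by
      intro s
      induction s using Finset.induction_on with
      | empty => simp
      | insert j s hj ih =>
        rw [Finset.inf_insert]
        exact ⟨hxV j, ih⟩
    exact this _
  have hiso : ∀ j, Nonempty ((N j).restrict U.ι ≅ Coh.structureModule (U : Scheme.{u})) :=
    fun j => nonempty_iso_of_isBasisOn ((ht j).mono (hU j))
  refine ⟨U, k, hxU, ⟨?_⟩⟩
  have hadd : (Scheme.Modules.restrictFunctor U.ι).Additive := by
    have : (Scheme.Modules.pushforward U.ι).Additive := inferInstance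
    exact (Scheme.Modules.restrictAdjunction U.ι).left_adjoint_additive
  exact (Scheme.Modules.restrictFunctor U.ι).mapBiproduct N ≪≫
    biproduct.mapIso (fun j => (hiso j).some) ≪≫
    (biproduct.isoCoproduct _)

theorem main_S4270 (X : Scheme.{u}) (hX : MoreMor.HasAmpleFamily X) :
    PerfAux.HasResolutionProperty X := by
  intro F hF hF'
  have hqs : QuasiSeparatedSpace X := quasiSeparatedSpace_of_hasAmpleFamily hX
  obtain ⟨hc, hpt⟩ := hX
  have hloc : ∀ x : X, ∃ (G : X.Opens) (M : X.Modules) (r : ℕ) (φ : Fin r → (M ⟶ F)), x ∈ G ∧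
      PicF.IsInvertible M ∧
        ∀ (V : X.Opens) (_ : V ≤ G) (y : Γ(F, V)) (z : X), z ∈ V →
          ∃ (W : X.Opens) (hWV : W ≤ V), z ∈ W ∧ ∃ m : Fin r → Γ(M, W),
            mres F hWV y = ∑ j, (φ j).app W (m j) := by
    intro x
    obtain ⟨L, n, s, hL, hn, hxs, ha⟩ := hpt x
    obtain ⟨n', rfl⟩ : ∃ n', n = n' + 1 := ⟨n - 1, by omega⟩
    obtain ⟨k, M, r, φ, hk, hiso, hM, hsurj⟩ := exists_local_quotient F hF' L hL n' s ha
    exact ⟨CohB1.genLocus _ s, M, r, φ, hxs, hM, hsurj⟩
  obtain ⟨k, N, π, hN, hπ⟩ := exists_global_quotient F PicF.IsInvertible hloc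
  exact ⟨⨁ N, π, isFinLocFree_biproduct_of_isInvertible N hN, hπ⟩

end helpers

/-- A scheme admitting an ample family of invertible modules has the resolution property: every
quasi-coherent module of finite type is a quotient of a finite locally free module. -/
theorem result (X : Scheme.{u}) (hX : MoreMor.HasAmpleFamily X) :
    PerfAux.HasResolutionProperty X := by
  exact main_S4270 X hX

end Groth.Agent.S4270
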