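import Groth.Statements.S4736
import Mathlib
import Groth.Agent.Lib.Helper22.FibreLocalization
-- import your own Groth.Agent.* helpers here

set_option autoImplicit false
universe u
open EGA4

namespace Groth.Agent.S4736

open Groth.Agent.Lib.Helper22 TensorProduct in
/-- Let A → B be a regular homomorphism of Noetherian rings (flat, with geometrically regular fibres)
and S a multiplicative subset of A. Then the induced homomorphism S⁻¹A → S⁻¹B is regular. (S⁻¹A and
S⁻¹B are given here as arbitrary localizations at S and at its image.) -/
theorem result (A B : Type u) [CommRing A] [CommRing B] [IsNoetherianRing A] [IsNoetherianRing B]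
    [Algebra A B] (h : CAlg.IsRegularHom A B) (S : Submonoid A)
    (A' B' : Type u) [CommRing A'] [CommRing B'] [Algebra A A'] [Algebra B B'] [Algebra A' B'] [Algebra A B']
    [IsScalarTower A A' B'] [IsScalarTower A B B'] [IsLocalization S A']
    [IsLocalization (Algebra.algebraMapSubmonoid B S) B'] :
    CAlg.IsRegularHom A' B' := by
  obtain ⟨hflat, hfib⟩ := h
  have hpush : Algebra.IsPushout A A' B B' := isPushout_of_isLocalization' S A' B'
  refine ⟨Module.Flat.isBaseChange A A' B B' hpush.out, ?_⟩
  intro p' _
  let p : Ideal A := p'.comap (algebraMap A A')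
  have hpprime : p.IsPrime := inferInstance
  obtain ⟨hnoeth, hreg⟩ := hfib p
  let φ := Ideal.ResidueField.map p p' (algebraMap A A') rfl
  have hφ : Function.Bijective φ := residueFieldMap_bijective_of_isLocalization S A' p' p rfl
  letI : Algebra p.ResidueField p'.ResidueField := φ.toAlgebra
  haveI : Module.Finite p.ResidueField p'.ResidueField :=
    Module.Finite.of_surjective (Algebra.linearMap p.ResidueField p'.ResidueField) hφ.2
  constructor
  · -- the fibre ring is Noetherian
    obtain ⟨e⟩ := nonempty_ringEquiv_fiber_tensor (B := B) S A' B' p' p rfl p'.ResidueField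
      (by rw [Algebra.algebraMap_self, RingHom.id_comp]; rfl)
    have h1 : IsNoetherianRing (p'.ResidueField ⊗[p.ResidueField] (p.Fiber B)) := by
      let ψ : p.ResidueField ≃ₐ[p.ResidueField] p'.ResidueField :=
        AlgEquiv.ofBijective (Algebra.ofId p.ResidueField p'.ResidueField) hφ
      let e' : p'.ResidueField ⊗[p.ResidueField] (p.Fiber B) ≃ₐ[p.ResidueField] (p.Fiber B) :=
        (Algebra.TensorProduct.congr ψ.symm AlgEquiv.refl).trans
          (Algebra.TensorProduct.lid p.ResidueField (p.Fiber B))
      exact isNoetherianRing_of_ringEquiv _ e'.symm.toRingEquiv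
    have h2 : IsNoetherianRing (p'.ResidueField ⊗[p'.ResidueField] (p'.Fiber B')) :=
      isNoetherianRing_of_ringEquiv _ e.symm
    exact isNoetherianRing_of_ringEquiv _
      (Algebra.TensorProduct.lid p'.ResidueField (p'.Fiber B')).toRingEquiv
  · intro k' _ _ hfin
    letI : Algebra p.ResidueField k' :=
      ((algebraMap p'.ResidueField k').comp φ).toAlgebra
    haveI : IsScalarTower p.ResidueField p'.ResidueField k' :=
      IsScalarTower.of_algebraMap_eq fun x => rfl
    haveI : Module.Finite p.ResidueField k' := Module.Finite.trans p'.ResidueField k'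
    obtain ⟨e⟩ := nonempty_ringEquiv_fiber_tensor (B := B) S A' B' p' p rfl k' rfl
    haveI : IsRegularRing (k' ⊗[p.ResidueField] (p.Fiber B)) := hreg k' inferInstance
    exact IsRegularRing.of_ringEquiv (R := k' ⊗[p.ResidueField] (p.Fiber B)) e.symm

end Groth.Agent.S4736
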