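import Groth.Statements.S4756
import Mathlib
import Groth.Agent.Lib.Helper22.FibreLocalization
-- import your own Groth.Agent.* helpers here

set_option autoImplicit false
universe u
open EGA4

namespace Groth.Agent.S4756

/-- Normality of a ring (all local rings integrally closed domains) is invariant under ring
isomorphisms. -/
theorem isNormalRing_of_ringEquiv {R R' : Type u} [CommRing R] [CommRing R'] (e : R ≃+* R')
    (h : EGA4.IsNormalRing R) : EGA4.IsNormalRing R' := by
  intro q hq
  let q₀ : Ideal R := q.comap (e : R →+* R')
  have hq₀ : q₀.IsPrime := Ideal.comap_isPrime _ _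
  obtain ⟨hdom, hic⟩ := h q₀
  let ε : Localization.AtPrime q₀ ≃+* Localization.AtPrime q :=
    Localization.localRingEquiv q₀ q e rfl
  exact ⟨ε.symm.toMulEquiv.isDomain _, IsIntegrallyClosed.of_equiv ε⟩

open Groth.Agent.Lib.Helper22 TensorProduct in
/-- Let A → B be a normal homomorphism of Noetherian rings (flat, with geometrically normal fibres) and
S a multiplicative subset of A. Then the induced homomorphism S⁻¹A → S⁻¹B (arbitrary localizations
at S and at its image) is normal. -/
theorem result (A B : Type u) [CommRing A] [CommRing B] [IsNoetherianRing A] [IsNoetherianRing B]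
    [Algebra A B] (h : EGA4.IsNormalHom A B) (S : Submonoid A)
    (A' B' : Type u) [CommRing A'] [CommRing B'] [Algebra A A'] [Algebra B B'] [Algebra A' B'] [Algebra A B']
    [IsScalarTower A A' B'] [IsScalarTower A B B'] [IsLocalization S A']
    [IsLocalization (Algebra.algebraMapSubmonoid B S) B'] :
    EGA4.IsNormalHom A' B' := by
  obtain ⟨hflat, hfib⟩ := h
  have hpush : Algebra.IsPushout A A' B B' := isPushout_of_isLocalization' S A' B'
  refine ⟨Module.Flat.isBaseChange A A' B B' hpush.out, ?_⟩
  intro p' _
  let p : Ideal A := p'.comap (algebraMap A A')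
  have hpprime : p.IsPrime := inferInstance
  have hnorm := hfib p
  let φ := Ideal.ResidueField.map p p' (algebraMap A A') rfl
  have hφ : Function.Bijective φ := residueFieldMap_bijective_of_isLocalization S A' p' p rfl
  letI : Algebra p.ResidueField p'.ResidueField := φ.toAlgebra
  haveI : Module.Finite p.ResidueField p'.ResidueField :=
    Module.Finite.of_surjective (Algebra.linearMap p.ResidueField p'.ResidueField) hφ.2
  intro k' _ _ hfin
  letI : Algebra p.ResidueField k' :=
    ((algebraMap p'.ResidueField k').comp φ).toAlgebra
  haveI : IsScalarTower p.ResidueField p'.ResidueField k' :=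
    IsScalarTower.of_algebraMap_eq fun x => rfl
  haveI : Module.Finite p.ResidueField k' := Module.Finite.trans p'.ResidueField k'
  obtain ⟨e⟩ := nonempty_ringEquiv_fiber_tensor (B := B) S A' B' p' p rfl k' rfl
  exact isNormalRing_of_ringEquiv (R := k' ⊗[p.ResidueField] (p.Fiber B)) e.symm
    (hnorm k' inferInstance)

end Groth.Agent.S4756
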