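import Groth.Statements.S4752
import Mathlib
import Groth.Agent.Lib.Helper22.ReducedAscent
-- import your own Groth.Agent.* helpers here

set_option autoImplicit false
universe u
open EGA4

namespace Groth.Agent.S4752

open TensorProduct in
/-- For `R = B ⊗[A] k'` with `k'` an algebraic field extension of `κ(p)`, the residue field of a
prime `𝔮` of `R` is algebraic over the residue field of its contraction to `B`. -/
theorem isAlgebraic_residueField_tensor (A B : Type u) [CommRing A] [CommRing B] [Algebra A B]
    (p : Ideal A) [p.IsPrime] (k' : Type u) [Field k'] [Algebra p.ResidueField k'] [Algebra A k']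
    [IsScalarTower A p.ResidueField k'] [Algebra.IsAlgebraic p.ResidueField k']
    (𝔮 : Ideal (B ⊗[A] k')) [𝔮.IsPrime] (q : Ideal B) [q.IsPrime]
    (hq : q = 𝔮.comap (algebraMap B (B ⊗[A] k')))
    [Algebra q.ResidueField 𝔮.ResidueField]
    (halg : algebraMap q.ResidueField 𝔮.ResidueField =
      Ideal.ResidueField.map q 𝔮 (algebraMap B (B ⊗[A] k')) hq) :
    Algebra.IsAlgebraic q.ResidueField 𝔮.ResidueField := by
  -- `p` is the contraction of `q`
  have hpq : p = q.comap (algebraMap A B) := by
    ext a
    rw [Ideal.mem_comap, hq, Ideal.mem_comap]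
    have h1 : algebraMap B (B ⊗[A] k') (algebraMap A B a) =
        (Algebra.TensorProduct.includeRight : k' →ₐ[A] B ⊗[A] k') (algebraMap A k' a) := by
      rw [← IsScalarTower.algebraMap_apply, AlgHom.commutes]
    rw [h1]
    constructor
    · intro ha
      have : algebraMap A k' a = 0 := by
        rw [IsScalarTower.algebraMap_apply A p.ResidueField k',
          Ideal.algebraMap_residueField_eq_zero.mpr ha, map_zero]
      rw [this, map_zero]
      exact 𝔮.zero_mem
    · intro ha
      by_contra hap
      have hne : algebraMap A k' a ≠ 0 := by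
        rw [IsScalarTower.algebraMap_apply A p.ResidueField k']
        intro h0
        have := (map_eq_zero (algebraMap p.ResidueField k')).mp h0
        exact hap (Ideal.algebraMap_residueField_eq_zero.mp this)
      have hunit : IsUnit ((Algebra.TensorProduct.includeRight : k' →ₐ[A] B ⊗[A] k')
          (algebraMap A k' a)) := (IsUnit.mk0 _ hne).map _
      exact (inferInstance : 𝔮.IsPrime).ne_top (Ideal.eq_top_of_isUnit_mem _ ha hunit)
  subst hq
  set R := B ⊗[A] k' with hR
  set L := 𝔮.ResidueField with hL
  set q := 𝔮.comap (algebraMap B R) with hq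
  -- the map `k' → L`
  let ψ : k' →+* L := (algebraMap R L).comp
    (Algebra.TensorProduct.includeRight : k' →ₐ[A] R).toRingHom
  -- compatibility of the two maps from `κ(p)` to `L`
  have hsq : (algebraMap q.ResidueField L).comp
      (Ideal.ResidueField.map p q (algebraMap A B) hpq) =
      ψ.comp (algebraMap p.ResidueField k') := by
    apply Ideal.ResidueField.ringHom_ext
    ext a
    have h1 : (algebraMap q.ResidueField L)
        (Ideal.ResidueField.map p q (algebraMap A B) hpq (algebraMap A p.ResidueField a)) =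
        algebraMap R L (algebraMap A R a) := by
      rw [Ideal.ResidueField.map_algebraMap, halg, Ideal.ResidueField.map_algebraMap,
        ← IsScalarTower.algebraMap_apply A B R]
    have h2 : ψ (algebraMap p.ResidueField k' (algebraMap A p.ResidueField a)) =
        algebraMap R L (algebraMap A R a) := by
      rw [← IsScalarTower.algebraMap_apply A p.ResidueField k']
      change algebraMap R L ((Algebra.TensorProduct.includeRight : k' →ₐ[A] R) (algebraMap A k' a)) = _
      rw [AlgHom.commutes]
    simp only [RingHom.comp_apply]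
    rw [h1, h2]
  -- images of elements of `k'` are integral over `κ(q)`
  have hk' : ∀ x : k', IsIntegral q.ResidueField (ψ x) := by
    intro x
    have hx : IsIntegral p.ResidueField x := (Algebra.IsAlgebraic.isAlgebraic x).isIntegral
    exact hx.map_of_comp_eq _ ψ hsq
  -- images of elements of `B` are integral over `κ(q)`
  have hB : ∀ b : B, IsIntegral q.ResidueField (algebraMap R L (algebraMap B R b)) := by
    intro b
    have : algebraMap R L (algebraMap B R b) =
        algebraMap q.ResidueField L (algebraMap B q.ResidueField b) := by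
      rw [halg, Ideal.ResidueField.map_algebraMap]
    rw [this]
    exact isIntegral_algebraMap
  -- all images of `R` are integral
  have hRint : ∀ r : R, IsIntegral q.ResidueField (algebraMap R L r) := by
    intro r
    induction r using TensorProduct.induction_on with
    | zero => rw [map_zero]; exact isIntegral_zero
    | tmul b x =>
      have : (b ⊗ₜ[A] x : R) = algebraMap B R b *
          (Algebra.TensorProduct.includeRight : k' →ₐ[A] R) x := by
        rw [Algebra.TensorProduct.algebraMap_apply, Algebra.TensorProduct.includeRight_apply,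
          Algebra.TensorProduct.tmul_mul_tmul, mul_one, one_mul]
        rfl
      rw [this, map_mul]
      exact (hB b).mul (hk' x)
    | add x y hx hy => rw [map_add]; exact hx.add hy
  -- every element of `L` is a quotient
  constructor
  intro z
  rw [isAlgebraic_iff_isIntegral]
  obtain ⟨a, b, hb, rfl⟩ := IsFractionRing.div_surjective (A := R ⧸ 𝔮) z
  obtain ⟨a, rfl⟩ := Ideal.Quotient.mk_surjective a
  obtain ⟨b, rfl⟩ := Ideal.Quotient.mk_surjective b
  have ha' : IsIntegral q.ResidueField (algebraMap (R ⧸ 𝔮) L (Ideal.Quotient.mk 𝔮 a)) := hRint a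
  have hb' : IsIntegral q.ResidueField (algebraMap (R ⧸ 𝔮) L (Ideal.Quotient.mk 𝔮 b)) := hRint b
  rw [div_eq_mul_inv]
  refine ha'.mul ?_
  rw [← isAlgebraic_iff_isIntegral, IsAlgebraic.inv_iff, isAlgebraic_iff_isIntegral]
  exact hb'

open TensorProduct Groth.Agent.Lib.Helper22 in
/-- Core: for a finite field extension `k'` of `κ(p)`, the ring `(κ(p) ⊗[A] C) ⊗[κ(p)] k'` is reduced. -/
theorem isReduced_fiber_tensor_of_finite (A B C : Type u) [CommRing A] [CommRing B] [CommRing C]
    [IsNoetherianRing B] [Algebra A B] [Algebra B C] [Algebra A C]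
    [IsScalarTower A B C] [Module.Flat B C]
    (hAB : ∀ (p : Ideal A) [p.IsPrime], Algebra.IsGeometricallyReduced p.ResidueField (p.Fiber B))
    (hBC : ∀ (q : Ideal B) [q.IsPrime], Algebra.IsGeometricallyReduced q.ResidueField (q.Fiber C))
    (p : Ideal A) [p.IsPrime] (k' : Type u) [Field k'] [Algebra p.ResidueField k']
    [Module.Finite p.ResidueField k'] :
    IsReduced ((p.Fiber C) ⊗[p.ResidueField] k') := by
  letI : Algebra A k' :=
    ((algebraMap p.ResidueField k').comp (algebraMap A p.ResidueField)).toAlgebra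
  haveI : IsScalarTower A p.ResidueField k' := IsScalarTower.of_algebraMap_eq fun x => rfl
  haveI : Algebra.IsAlgebraic p.ResidueField k' := Algebra.IsAlgebraic.of_finite _ _
  -- (i) `R = B ⊗[A] k'` is Noetherian
  haveI : Algebra.EssFiniteType A k' := Algebra.EssFiniteType.comp A p.ResidueField k'
  haveI : IsNoetherianRing (B ⊗[A] k') := Algebra.EssFiniteType.isNoetherianRing B _
  -- (ii) `R` is reduced
  haveI : IsReduced (B ⊗[A] k') := by
    haveI := hAB p
    have h1 : IsReduced (k' ⊗[p.ResidueField] (p.Fiber B)) := inferInstance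
    let e : k' ⊗[p.ResidueField] (p.Fiber B) ≃ₐ[k'] k' ⊗[A] B :=
      Algebra.TensorProduct.cancelBaseChange A p.ResidueField k' k' B
    let e' : B ⊗[A] k' ≃ₐ[A] k' ⊗[A] B := Algebra.TensorProduct.comm A B k'
    haveI : IsReduced (k' ⊗[A] B) := isReduced_of_injective e.symm.toRingHom e.symm.injective
    exact isReduced_of_injective e'.toRingHom e'.injective
  -- (iv) the fibres of `R → R ⊗[B] C` over minimal primes are reduced
  have hfib : ∀ (𝔮 : Ideal (B ⊗[A] k')) (h𝔮 : 𝔮 ∈ minimalPrimes (B ⊗[A] k')),
      haveI : 𝔮.IsPrime := h𝔮.1.1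
      IsReduced (𝔮.ResidueField ⊗[B ⊗[A] k'] ((B ⊗[A] k') ⊗[B] C)) := by
    intro 𝔮 h𝔮
    haveI : 𝔮.IsPrime := h𝔮.1.1
    let q : Ideal B := 𝔮.comap (algebraMap B (B ⊗[A] k'))
    haveI : q.IsPrime := Ideal.comap_isPrime _ _
    letI : Algebra q.ResidueField 𝔮.ResidueField :=
      (Ideal.ResidueField.map q 𝔮 (algebraMap B (B ⊗[A] k')) rfl).toAlgebra
    haveI : Algebra.IsAlgebraic q.ResidueField 𝔮.ResidueField :=
      isAlgebraic_residueField_tensor A B p k' 𝔮 q rfl rfl
    haveI : IsScalarTower B q.ResidueField 𝔮.ResidueField :=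
      IsScalarTower.of_algebraMap_eq fun b => by
        change _ = Ideal.ResidueField.map q 𝔮 (algebraMap B (B ⊗[A] k')) rfl _
        rw [Ideal.ResidueField.map_algebraMap]
        exact IsScalarTower.algebraMap_apply B (B ⊗[A] k') 𝔮.ResidueField b
    haveI := hBC q
    have h1 : IsReduced (𝔮.ResidueField ⊗[q.ResidueField] (q.Fiber C)) := inferInstance
    let e1 : 𝔮.ResidueField ⊗[q.ResidueField] (q.Fiber C) ≃ₐ[𝔮.ResidueField] 𝔮.ResidueField ⊗[B] C :=
      Algebra.TensorProduct.cancelBaseChange B q.ResidueField 𝔮.ResidueField 𝔮.ResidueField C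
    let e2 : 𝔮.ResidueField ⊗[B ⊗[A] k'] ((B ⊗[A] k') ⊗[B] C) ≃ₐ[𝔮.ResidueField]
        𝔮.ResidueField ⊗[B] C :=
      Algebra.TensorProduct.cancelBaseChange B (B ⊗[A] k') 𝔮.ResidueField 𝔮.ResidueField C
    exact isReduced_of_injective (e2.trans e1.symm).toRingHom (e2.trans e1.symm).injective
  -- (v) ascent
  have hT : IsReduced ((B ⊗[A] k') ⊗[B] C) :=
    isReduced_of_flat_of_isReduced_fiber_minimalPrimes (B ⊗[A] k') ((B ⊗[A] k') ⊗[B] C)
      (minimalPrimes.finite_of_isNoetherianRing _) hfib
  -- transport to `(κ(p) ⊗[A] C) ⊗[κ(p)] k'`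
  let f1 : (B ⊗[A] k') ⊗[B] C ≃ₐ[B] C ⊗[B] (B ⊗[A] k') := Algebra.TensorProduct.comm B _ C
  let f2 : C ⊗[B] (B ⊗[A] k') ≃ₐ[C] C ⊗[A] k' := Algebra.TensorProduct.cancelBaseChange A B C C k'
  let f3 : C ⊗[A] k' ≃ₐ[A] k' ⊗[A] C := Algebra.TensorProduct.comm A C k'
  let f4 : k' ⊗[p.ResidueField] (p.Fiber C) ≃ₐ[k'] k' ⊗[A] C :=
    Algebra.TensorProduct.cancelBaseChange A p.ResidueField k' k' C
  let f5 : (p.Fiber C) ⊗[p.ResidueField] k' ≃ₐ[p.ResidueField] k' ⊗[p.ResidueField] (p.Fiber C) :=
    Algebra.TensorProduct.comm p.ResidueField (p.Fiber C) k'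
  let F : (p.Fiber C) ⊗[p.ResidueField] k' ≃+* (B ⊗[A] k') ⊗[B] C :=
    f5.toRingEquiv.trans (f4.toRingEquiv.trans (f3.symm.toRingEquiv.trans
      (f2.symm.toRingEquiv.trans f1.symm.toRingEquiv)))
  exact isReduced_of_injective F.toRingHom F.injective

open TensorProduct in

/-- Case of reduced morphisms, affine form: let A → B → C be homomorphisms of Noetherian rings, both
flat and with geometrically reduced fibres. Then the composite A → C is flat with geometrically
reduced fibres. -/
theorem result (A B C : Type u) [CommRing A] [CommRing B] [CommRing C] [IsNoetherianRing A]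
    [IsNoetherianRing B] [IsNoetherianRing C] [Algebra A B] [Algebra B C] [Algebra A C] [IsScalarTower A B C]
    [Module.Flat A B] [Module.Flat B C]
    (hAB : ∀ (p : Ideal A) [p.IsPrime], Algebra.IsGeometricallyReduced p.ResidueField (p.Fiber B))
    (hBC : ∀ (q : Ideal B) [q.IsPrime], Algebra.IsGeometricallyReduced q.ResidueField (q.Fiber C)) :
    Module.Flat A C ∧ ∀ (p : Ideal A) [p.IsPrime], Algebra.IsGeometricallyReduced p.ResidueField (p.Fiber C) := by
  refine ⟨Module.Flat.trans A B C, fun p _ => ?_⟩
  rw [Algebra.isGeometricallyReduced_field_iff]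
  -- reduce to finitely generated subextensions of the algebraic closure
  have key : IsReduced ((p.Fiber C) ⊗[p.ResidueField] (AlgebraicClosure p.ResidueField)) := by
    apply IsReduced.tensorProduct_of_flat_of_forall_fg
    intro k' hk'
    letI : Field k' := (Subalgebra.isField_of_algebraic k').toField
    haveI : Algebra.FiniteType p.ResidueField k' := (Subalgebra.fg_iff_finiteType k').mp hk'
    haveI : Algebra.IsIntegral p.ResidueField k' :=
      Algebra.IsIntegral.of_injective k'.val Subtype.val_injective
    haveI : Module.Finite p.ResidueField k' := Algebra.IsIntegral.finite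
    exact isReduced_fiber_tensor_of_finite A B C hAB hBC p k'
  let e := Algebra.TensorProduct.comm p.ResidueField (AlgebraicClosure p.ResidueField) (p.Fiber C)
  exact isReduced_of_injective e.toRingHom e.injective

end Groth.Agent.S4752
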