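import Groth.Statements.S4753
import Mathlib
import Groth.Agent.S4656
-- import your own Groth.Agent.* helpers here

set_option autoImplicit false
universe u
open EGA4

namespace Groth.Agent.S4753

open TensorProduct in
/-- For `A → B → C` with `C` faithfully flat over `B`, the map of fibres
`κ(p) ⊗[A] B → κ(p) ⊗[A] C` is injective. -/
theorem fiber_map_injective (A B C : Type u) [CommRing A] [CommRing B] [CommRing C]
    [Algebra A B] [Algebra B C] [Algebra A C] [IsScalarTower A B C] [Module.FaithfullyFlat B C]
    (K : Type u) [CommRing K] [Algebra A K] :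
    Function.Injective (Algebra.TensorProduct.map (AlgHom.id K K)
      (IsScalarTower.toAlgHom A B C)) := by
  have h1 : Function.Injective (TensorProduct.mk B C (B ⊗[A] K) 1) :=
    Module.FaithfullyFlat.tensorProduct_mk_injective (B ⊗[A] K)
  let canc : C ⊗[B] (B ⊗[A] K) ≃ₗ[C] C ⊗[A] K :=
    TensorProduct.AlgebraTensorModule.cancelBaseChange A B C C K
  have key : ∀ x : K ⊗[A] B,
      (TensorProduct.comm A K C) ((Algebra.TensorProduct.map (AlgHom.id K K)
        (IsScalarTower.toAlgHom A B C)) x) =
      canc ((1 : C) ⊗ₜ[B] (TensorProduct.comm A K B x)) := by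
    intro x
    induction x using TensorProduct.induction_on with
    | zero => simp
    | tmul k b =>
      simp only [Algebra.TensorProduct.map_tmul, AlgHom.coe_id, id_eq, IsScalarTower.coe_toAlgHom',
        TensorProduct.comm_tmul, canc, TensorProduct.AlgebraTensorModule.cancelBaseChange_tmul]
      rw [Algebra.smul_def, mul_one]
    | add x y hx hy =>
      simp only [map_add, TensorProduct.tmul_add, hx, hy]
  intro x y hxy
  have h2 : canc ((1 : C) ⊗ₜ[B] (TensorProduct.comm A K B x)) =
      canc ((1 : C) ⊗ₜ[B] (TensorProduct.comm A K B y)) := by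
    rw [← key x, ← key y, hxy]
  have h3 := h1 (canc.injective h2)
  exact (TensorProduct.comm A K B).injective h3

/-- Case of reduced morphisms, affine form: let A → B → C be homomorphisms of Noetherian rings such that
B → C is faithfully flat with geometrically reduced fibres and the composite A → C is flat with
geometrically reduced fibres. Then A → B is flat with geometrically reduced fibres. -/
theorem result (A B C : Type u) [CommRing A] [CommRing B] [CommRing C]
    [IsNoetherianRing A] [IsNoetherianRing B] [IsNoetherianRing C] [Algebra A B] [Algebra B C] [Algebra A C]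
    [IsScalarTower A B C] [Module.FaithfullyFlat B C] [Module.Flat A C]
    (hBC : ∀ (q : Ideal B) [q.IsPrime], Algebra.IsGeometricallyReduced q.ResidueField (q.Fiber C))
    (hAC : ∀ (p : Ideal A) [p.IsPrime], Algebra.IsGeometricallyReduced p.ResidueField (p.Fiber C)) :
    Module.Flat A B ∧ ∀ (p : Ideal A) [p.IsPrime], Algebra.IsGeometricallyReduced p.ResidueField (p.Fiber B) := by
  refine ⟨Groth.Agent.S4656.flat_of_faithfullyFlat_tower A B C, fun p _ => ?_⟩
  haveI := hAC p
  exact Algebra.IsGeometricallyReduced.of_injective
    (Algebra.TensorProduct.map (AlgHom.id p.ResidueField p.ResidueField)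
      (IsScalarTower.toAlgHom A B C))
    (fiber_map_injective A B C p.ResidueField)

end Groth.Agent.S4753
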