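import Groth.Statements.S3081
import Groth.Agent.Lib.Helper74.GiraudCoprod
import Groth.Agent.Lib.Helper74.ClosedTopology
import Mathlib

set_option autoImplicit false
universe u
open CategoryTheory
open SGA4

set_option linter.unusedSectionVars false

namespace Groth.Agent.S3081.Aux

open CategoryTheory.Limits Opposite


variable {C : Type u} [SmallCategory C] (J : GrothendieckTopology C)

open Groth.Agent.Lib.Helper74.ClosedTopology in
lemma sectionsEquiv_comp {Z Z' : Sheaf J (Type u)} (T : C)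
    (f : (presheafToSheaf J (Type u)).obj (yoneda.obj T) ⟶ Z) (p : Z ⟶ Z') :
    sectionsEquiv J Z' T (f ≫ p) = p.hom.app (op T) (sectionsEquiv J Z T f) := by
  unfold sectionsEquiv
  simp only [Equiv.trans_apply]
  rw [Adjunction.homEquiv_naturality_right]
  exact yonedaEquiv_comp _ _

section rel

variable {J}
variable {R A : Sheaf J (Type u)} (p₁ p₂ : R ⟶ A)

/-- the sectionwise relation -/
def Rel (T : Cᵒᵖ) (a b : A.obj.obj T) : Prop :=
  ∃ r : R.obj.obj T, p₁.hom.app T r = a ∧ p₂.hom.app T r = b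

lemma Rel.map {T T' : Cᵒᵖ} (k : T ⟶ T') {a b : A.obj.obj T} (h : Rel p₁ p₂ T a b) :
    Rel p₁ p₂ T' (A.obj.map k a) (A.obj.map k b) := by
  obtain ⟨r, rfl, rfl⟩ := h
  exact ⟨R.obj.map k r, NatTrans.naturality_apply p₁.hom k r, NatTrans.naturality_apply p₂.hom k r⟩

variable (hR : SGA4.IsEquivRel p₁ p₂)
include hR

open Groth.Agent.Lib.Helper74.ClosedTopology in
lemma sections_injective (T : Cᵒᵖ) (r r' : R.obj.obj T)
    (h1 : p₁.hom.app T r = p₁.hom.app T r') (h2 : p₂.hom.app T r = p₂.hom.app T r') : r = r' := by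
  obtain ⟨T⟩ := T
  have hinj := (hR ((presheafToSheaf J (Type u)).obj (yoneda.obj T))).1
  let e := sectionsEquiv J R T
  have : e.symm r = e.symm r' := by
    apply hinj
    apply Prod.ext
    · apply (sectionsEquiv J A T).injective
      change sectionsEquiv J A T (e.symm r ≫ p₁) = sectionsEquiv J A T (e.symm r' ≫ p₁)
      rw [sectionsEquiv_comp, sectionsEquiv_comp, Equiv.apply_symm_apply, Equiv.apply_symm_apply]
      exact h1
    · apply (sectionsEquiv J A T).injective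
      change sectionsEquiv J A T (e.symm r ≫ p₂) = sectionsEquiv J A T (e.symm r' ≫ p₂)
      rw [sectionsEquiv_comp, sectionsEquiv_comp, Equiv.apply_symm_apply, Equiv.apply_symm_apply]
      exact h2
  exact e.symm.injective this

open Groth.Agent.Lib.Helper74.ClosedTopology in
lemma rel_iff_generalized (T : C) (a b : A.obj.obj (op T)) :
    Rel p₁ p₂ (op T) a b ↔
      ∃ f : (presheafToSheaf J (Type u)).obj (yoneda.obj T) ⟶ R,
        f ≫ p₁ = (sectionsEquiv J A T).symm a ∧ f ≫ p₂ = (sectionsEquiv J A T).symm b := by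
  constructor
  · rintro ⟨r, h1, h2⟩
    refine ⟨(sectionsEquiv J R T).symm r, ?_, ?_⟩
    · apply (sectionsEquiv J A T).injective
      rw [sectionsEquiv_comp, Equiv.apply_symm_apply, Equiv.apply_symm_apply, h1]
    · apply (sectionsEquiv J A T).injective
      rw [sectionsEquiv_comp, Equiv.apply_symm_apply, Equiv.apply_symm_apply, h2]
  · rintro ⟨f, h1, h2⟩
    refine ⟨sectionsEquiv J R T f, ?_, ?_⟩
    · rw [← sectionsEquiv_comp, h1, Equiv.apply_symm_apply]
    · rw [← sectionsEquiv_comp, h2, Equiv.apply_symm_apply]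

open Groth.Agent.Lib.Helper74.ClosedTopology in
lemma rel_equivalence (T : Cᵒᵖ) : Equivalence (Rel p₁ p₂ T) := by
  obtain ⟨T⟩ := T
  have heq := (hR ((presheafToSheaf J (Type u)).obj (yoneda.obj T))).2
  refine ⟨fun a => ?_, fun {a b} h => ?_, fun {a b c} h h' => ?_⟩
  · rw [rel_iff_generalized p₁ p₂ hR]
    exact heq.refl _
  · rw [rel_iff_generalized p₁ p₂ hR] at h ⊢
    exact heq.symm h
  · rw [rel_iff_generalized p₁ p₂ hR] at h h' ⊢
    exact heq.trans h h'

end rel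


section quotient

variable {J}
variable {R A : Sheaf J (Type u)} (p₁ p₂ : R ⟶ A)

/-- the quotient presheaf -/
def Q : Cᵒᵖ ⥤ Type u where
  obj T := Quot (Rel p₁ p₂ T)
  map {T T'} k := ↾(Quot.map (A.obj.map k) (fun _ _ h => h.map p₁ p₂ k))
  map_id T := by
    apply ConcreteCategory.hom_ext
    rintro ⟨a⟩
    change Quot.mk _ (A.obj.map (𝟙 T) a) = Quot.mk _ a
    rw [Functor.map_id_apply]
  map_comp {T T' T''} k k' := by
    apply ConcreteCategory.hom_ext
    rintro ⟨a⟩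
    change Quot.mk _ (A.obj.map (k ≫ k') a) = Quot.mk _ (A.obj.map k' (A.obj.map k a))
    rw [Functor.map_comp_apply]

/-- the quotient map of presheaves -/
def q : A.obj ⟶ Q p₁ p₂ where
  app T := ↾(Quot.mk _)
  naturality T T' k := by
    apply ConcreteCategory.hom_ext
    intro a
    rfl

lemma q_surjective (T : Cᵒᵖ) (x : (Q p₁ p₂).obj T) : ∃ a, (q p₁ p₂).app T a = x := by
  obtain ⟨a⟩ := x
  exact ⟨a, rfl⟩

lemma q_eq_of_rel {T : Cᵒᵖ} {a b : A.obj.obj T} (h : Rel p₁ p₂ T a b) :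
    (q p₁ p₂).app T a = (q p₁ p₂).app T b := Quot.sound h

/-- the quotient sheaf -/
noncomputable def B : Sheaf J (Type u) := (presheafToSheaf J (Type u)).obj (Q p₁ p₂)

/-- the quotient map -/
noncomputable def π : A ⟶ B p₁ p₂ := ObjectProperty.homMk (q p₁ p₂ ≫ toSheafify J (Q p₁ p₂))

lemma π_hom : (π p₁ p₂).hom = q p₁ p₂ ≫ toSheafify J (Q p₁ p₂) := rfl

variable (hR : SGA4.IsEquivRel p₁ p₂)
include hR

lemma rel_of_q_eq {T : Cᵒᵖ} {a b : A.obj.obj T} (h : (q p₁ p₂).app T a = (q p₁ p₂).app T b) :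
    Rel p₁ p₂ T a b := by
  have h' : Quot.mk (Rel p₁ p₂ T) a = Quot.mk (Rel p₁ p₂ T) b := h
  have heq := rel_equivalence p₁ p₂ hR T
  have := Quot.eqvGen_exact h'
  exact (Equivalence.eqvGen_iff heq).mp this

/-- (K1) -/
lemma π_eq_iff {T : Cᵒᵖ} (a b : A.obj.obj T) :
    (π p₁ p₂).hom.app T a = (π p₁ p₂).hom.app T b ↔ Rel p₁ p₂ T a b := by
  constructor
  · intro h
    have h' : (toSheafify J (Q p₁ p₂)).app T ((q p₁ p₂).app T a) =
        (toSheafify J (Q p₁ p₂)).app T ((q p₁ p₂).app T b) := h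
    have hS := Presheaf.equalizerSieve_mem J (toSheafify J (Q p₁ p₂)) _ _ h'
    -- local sections of R
    have hloc : ∀ ⦃V : C⦄ (k : V ⟶ T.unop), Presheaf.equalizerSieve (F := Q p₁ p₂)
        ((q p₁ p₂).app T a) ((q p₁ p₂).app T b) k →
        Rel p₁ p₂ (op V) (A.obj.map k.op a) (A.obj.map k.op b) := by
      intro V k hk
      exact rel_of_q_eq p₁ p₂ hR hk
    -- glue
    have hRsh : Presieve.IsSheaf J R.obj := (isSheaf_iff_isSheaf_of_type J R.obj).mp R.property
    have hAsh : Presieve.IsSheaf J A.obj := (isSheaf_iff_isSheaf_of_type J A.obj).mp A.property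
    let x : Presieve.FamilyOfElements R.obj (Presheaf.equalizerSieve (F := Q p₁ p₂)
        ((q p₁ p₂).app T a) ((q p₁ p₂).app T b)).arrows :=
      fun V k hk => (hloc k hk).choose
    have hx1 : ∀ ⦃V : C⦄ (k : V ⟶ T.unop) (hk), p₁.hom.app (op V) (x k hk) = A.obj.map k.op a :=
      fun V k hk => (hloc k hk).choose_spec.1
    have hx2 : ∀ ⦃V : C⦄ (k : V ⟶ T.unop) (hk), p₂.hom.app (op V) (x k hk) = A.obj.map k.op b :=
      fun V k hk => (hloc k hk).choose_spec.2
    have hxc : x.Compatible := by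
      intro V₁ V₂ W g₁ g₂ k₁ k₂ h₁ h₂ hcomm
      apply sections_injective p₁ p₂ hR
      · rw [NatTrans.naturality_apply, NatTrans.naturality_apply, hx1 k₁ h₁, hx1 k₂ h₂,
          ← Functor.map_comp_apply, ← Functor.map_comp_apply, ← op_comp, ← op_comp,
          hcomm]
      · rw [NatTrans.naturality_apply, NatTrans.naturality_apply, hx2 k₁ h₁, hx2 k₂ h₂,
          ← Functor.map_comp_apply, ← Functor.map_comp_apply, ← op_comp, ← op_comp,
          hcomm]
    obtain ⟨r, hr, -⟩ := hRsh _ hS x hxc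
    refine ⟨r, ?_, ?_⟩
    · apply (hAsh _ hS).isSeparatedFor.ext
      intro V k hk
      rw [← NatTrans.naturality_apply, hr k hk, hx1 k hk]
    · apply (hAsh _ hS).isSeparatedFor.ext
      intro V k hk
      rw [← NatTrans.naturality_apply, hr k hk, hx2 k hk]
  · intro h
    change (toSheafify J (Q p₁ p₂)).app T ((q p₁ p₂).app T a) =
        (toSheafify J (Q p₁ p₂)).app T ((q p₁ p₂).app T b)
    rw [q_eq_of_rel p₁ p₂ h]


lemma π_comm : p₁ ≫ π p₁ p₂ = p₂ ≫ π p₁ p₂ := by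
  apply Sheaf.hom_ext
  ext T r
  exact (π_eq_iff p₁ p₂ hR _ _).mpr ⟨r, rfl, rfl⟩

/-- (K2) -/
lemma isPullback_π : IsPullback p₁ p₂ (π p₁ p₂) (π p₁ p₂) := by
  apply IsPullback.of_map (sheafToPresheaf J (Type u)) (π_comm p₁ p₂ hR)
  apply IsPullback.of_forall_isPullback_app
  intro T
  rw [Types.isPullback_iff]
  refine ⟨?_, ?_, ?_⟩
  · exact congr_app (congr_arg (fun f => f.hom) (π_comm p₁ p₂ hR)) T
  · rintro r r' ⟨h1, h2⟩
    exact sections_injective p₁ p₂ hR T r r' h1 h2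
  · intro a b h
    exact (π_eq_iff p₁ p₂ hR a b).mp h

/-- the reflexivity section -/
lemma exists_refl : ∃ ρ : A ⟶ R, ρ ≫ p₁ = 𝟙 A ∧ ρ ≫ p₂ = 𝟙 A := (hR A).2.refl (𝟙 A)

omit hR in
/-- the induced map from the quotient presheaf -/
def qDesc {Z : Sheaf J (Type u)} (h : A ⟶ Z) (hh : p₁ ≫ h = p₂ ≫ h) : Q p₁ p₂ ⟶ Z.obj where
  app T := ↾(Quot.lift (h.hom.app T) (by
    rintro a b ⟨r, rfl, rfl⟩
    exact congr_fun (congr_arg (fun f => (f.hom.app T : _ → _)) hh) r))
  naturality T T' k := by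
    apply ConcreteCategory.hom_ext
    rintro ⟨a⟩
    exact NatTrans.naturality_apply h.hom k a

omit hR in
lemma q_qDesc {Z : Sheaf J (Type u)} (h : A ⟶ Z) (hh : p₁ ≫ h = p₂ ≫ h) :
    q p₁ p₂ ≫ qDesc p₁ p₂ h hh = h.hom := by
  ext T a
  rfl

omit hR in
/-- the induced map from the quotient sheaf -/
noncomputable def πDesc {Z : Sheaf J (Type u)} (h : A ⟶ Z) (hh : p₁ ≫ h = p₂ ≫ h) :
    B p₁ p₂ ⟶ Z :=
  ObjectProperty.homMk (sheafifyLift J (qDesc p₁ p₂ h hh) Z.property)

omit hR in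
lemma π_πDesc {Z : Sheaf J (Type u)} (h : A ⟶ Z) (hh : p₁ ≫ h = p₂ ≫ h) :
    π p₁ p₂ ≫ πDesc p₁ p₂ h hh = h := by
  apply Sheaf.hom_ext
  change (q p₁ p₂ ≫ toSheafify J (Q p₁ p₂)) ≫ sheafifyLift J (qDesc p₁ p₂ h hh) Z.property = h.hom
  rw [Category.assoc, toSheafify_sheafifyLift, q_qDesc]

omit hR in
lemma πDesc_unique {Z : Sheaf J (Type u)} (m m' : B p₁ p₂ ⟶ Z)
    (hm : π p₁ p₂ ≫ m = π p₁ p₂ ≫ m') : m = m' := by
  apply Sheaf.hom_ext
  apply sheafify_hom_ext J _ _ Z.property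
  ext T x
  obtain ⟨a, rfl⟩ := q_surjective p₁ p₂ T x
  exact congr_fun (congr_arg (fun f => (f.hom.app T : _ → _)) hm) a

/-- (K3) -/
lemma isPushout_π : IsPushout p₁ p₂ (π p₁ p₂) (π p₁ p₂) := by
  obtain ⟨ρ, hρ1, hρ2⟩ := exists_refl p₁ p₂ hR
  have key : ∀ s : PushoutCocone p₁ p₂, s.inl = s.inr := by
    intro s
    calc s.inl = ρ ≫ p₁ ≫ s.inl := by rw [← Category.assoc, hρ1, Category.id_comp]
      _ = ρ ≫ p₂ ≫ s.inr := by rw [s.condition]
      _ = s.inr := by rw [← Category.assoc, hρ2, Category.id_comp]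
  have hh : ∀ s : PushoutCocone p₁ p₂, p₁ ≫ s.inl = p₂ ≫ s.inl := by
    intro s
    rw [s.condition, key s]
  refine ⟨⟨π_comm p₁ p₂ hR⟩, ⟨PushoutCocone.IsColimit.mk _
    (fun s => πDesc p₁ p₂ s.inl (hh s)) ?_ ?_ ?_⟩⟩
  · intro s
    exact π_πDesc p₁ p₂ s.inl (hh s)
  · intro s
    rw [← key s]
    exact π_πDesc p₁ p₂ s.inl (hh s)
  · intro s m hm _
    apply πDesc_unique p₁ p₂
    rw [hm, π_πDesc]

omit hR in
instance : Sheaf.IsLocallySurjective (π p₁ p₂) := by
  change Presheaf.IsLocallySurjective J (q p₁ p₂ ≫ toSheafify J (Q p₁ p₂))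
  have : Presheaf.IsLocallySurjective J (q p₁ p₂) :=
    Presheaf.isLocallySurjective_of_surjective J _ (fun T x => q_surjective p₁ p₂ T x)
  infer_instance

omit hR in
/-- (K4) -/
lemma effectiveEpi_snd {B' : Sheaf J (Type u)} (g : B' ⟶ B p₁ p₂) :
    EffectiveEpi (pullback.snd (π p₁ p₂) g) := by
  have hpb := ((IsPullback.of_hasPullback (π p₁ p₂) g).map (sheafToPresheaf J (Type u)))
  have hls : Sheaf.IsLocallySurjective (pullback.snd (π p₁ p₂) g) := by
    constructor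
    intro U b'
    refine J.superset_covering ?_ (Presheaf.imageSieve_mem J (π p₁ p₂).hom (g.hom.app (op U) b'))
    rintro V k ⟨a, ha⟩
    have hpbV := hpb.app (op V)
    obtain ⟨x, -, hx⟩ := Types.exists_of_isPullback hpbV a (B'.obj.map k.op b')
      (ha.trans (NatTrans.naturality_apply g.hom k.op b').symm)
    exact ⟨x, hx⟩
  have : Epi (pullback.snd (π p₁ p₂) g) := inferInstance
  have := IsRegularEpiCategory.regularEpiOfEpi (pullback.snd (π p₁ p₂) g)
  exact (isRegularEpi_iff_effectiveEpi _).mp this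

end quotient


end Groth.Agent.S3081.Aux

namespace Groth.Agent.S3081

open CategoryTheory.Limits in
/-- c): in the category of sheaves of u-small sets on a u-small site, every u-small family has a
coproduct which is disjoint and stable under base change, and every equivalence relation is
effective with universally effective-epimorphic quotient map. -/
theorem result {C : Type u} [SmallCategory C] (J : GrothendieckTopology C) :
    SGA4.HasDisjointUniversalCoproducts.{u + 1, u} (Sheaf J (Type u)) ∧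
    ∀ (R A : Sheaf J (Type u)) (p₁ p₂ : R ⟶ A), SGA4.IsEquivRel p₁ p₂ → SGA4.IsEffectiveUniversalEquivRel p₁ p₂ := by
  refine ⟨Groth.Agent.Lib.Helper74.GiraudCoprod.hasDisjointUniversalCoproducts J, fun R A p₁ p₂ hR => ?_⟩
  exact ⟨Aux.B p₁ p₂, Aux.π p₁ p₂, Aux.isPullback_π p₁ p₂ hR, Aux.isPushout_π p₁ p₂ hR,
    fun B' g => Aux.effectiveEpi_snd p₁ p₂ g⟩

end Groth.Agent.S3081
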