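import Groth.Statements.S6140
import Groth.Agent.S3081
import Mathlib

set_option autoImplicit false
open CategoryTheory CategoryTheory.Limits
universe u
universe v w
open SGA4

set_option linter.unusedSectionVars false

namespace Groth.Agent.S6140.Aux

open Opposite


section generic

variable {E : Type v} [Category.{w} E]

/-- a pushout square `(p₁,p₂,π,π)` makes `π` a coequalizer -/
noncomputable def isColimitCoforkOfIsPushout {R X Y : E} {p₁ p₂ : R ⟶ X} {π : X ⟶ Y}
    (sq : IsPushout p₁ p₂ π π) : IsColimit (Cofork.ofπ π sq.w) :=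
  Cofork.IsColimit.mk' _ fun s => by
    refine ⟨sq.desc s.π s.π s.condition, sq.inl_desc _ _ _, fun {m} hm => ?_⟩
    apply sq.hom_ext
    · rw [sq.inl_desc]; exact hm
    · rw [sq.inr_desc]; exact hm

/-- a coequalizer of a reflexive pair gives a pushout square -/
lemma isPushout_of_isColimit_cofork {R X Y : E} {p₁ p₂ : R ⟶ X} {π : X ⟶ Y}
    (ρ : X ⟶ R) (h1 : ρ ≫ p₁ = 𝟙 X) (h2 : ρ ≫ p₂ = 𝟙 X) (w : p₁ ≫ π = p₂ ≫ π)
    (hc : IsColimit (Cofork.ofπ π w)) : IsPushout p₁ p₂ π π := by
  have key : ∀ s : PushoutCocone p₁ p₂, s.inl = s.inr := by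
    intro s
    calc s.inl = ρ ≫ p₁ ≫ s.inl := by rw [← Category.assoc, h1, Category.id_comp]
      _ = ρ ≫ p₂ ≫ s.inr := by rw [s.condition]
      _ = s.inr := by rw [← Category.assoc, h2, Category.id_comp]
  have hh : ∀ s : PushoutCocone p₁ p₂, p₁ ≫ s.inl = p₂ ≫ s.inl := by
    intro s
    rw [s.condition, key s]
  refine ⟨⟨w⟩, ⟨PushoutCocone.IsColimit.mk _
    (fun s => Cofork.IsColimit.desc hc s.inl (hh s)) ?_ ?_ ?_⟩⟩
  · intro s
    exact Cofork.IsColimit.π_desc' hc _ _
  · intro s
    rw [← key s]
    exact Cofork.IsColimit.π_desc' hc _ _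
  · intro s m hm _
    apply Cofork.IsColimit.hom_ext hc
    rw [Cofork.IsColimit.π_desc' hc]
    exact hm

/-- fully faithful functors preserving kernel pairs reflect effective epimorphisms -/
lemma effectiveEpi_of_map {E' : Type*} [Category E'] (F : E ⥤ E') [F.Full] [F.Faithful]
    {X Y : E} (f : X ⟶ Y) [HasPullback f f] [PreservesLimit (cospan f f) F]
    [EffectiveEpi (F.map f)] : EffectiveEpi f := by
  have hl := isLimitPullbackConeMapOfIsLimit F _ (pullbackIsPullback f f)
  have hc := isColimitCoforkOfEffectiveEpi (F.map f) _ hl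
  exact effectiveEpi_of_kernelPair f (isColimitOfIsColimitCoforkMap F pullback.condition hc)

end generic



section sheaf3

variable {C : Type u} [SmallCategory C]

/-- a universally effective epimorphism generates a covering sieve of the canonical topology -/
lemma generate_singleton_mem [HasPullbacks C] {U P : C} (e : P ⟶ U)
    (he : ∀ (V : C) (g : V ⟶ U), EffectiveEpi (pullback.snd e g)) :
    Sieve.generate (Presieve.singleton e) ∈ Sheaf.canonicalTopology C U := by
  apply Sheaf.mem_finestTopology_of_forall_isSheafFor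
  rintro _ ⟨W, rfl⟩ V g
  rw [← Sieve.pullbackArrows_comm, Presieve.pullback_singleton, ← Presieve.isSheafFor_iff_generate]
  have := he V g
  exact Presieve.IsSheafFor.singleton_of_isRepresentable_of_effectiveEpi _ _

variable [HasPullbacks C]

local notation "Jc" => Sheaf.canonicalTopology C

variable (C) in
/-- the sheaf-valued Yoneda embedding for the canonical topology -/
noncomputable abbrev yC : C ⥤ Sheaf (Sheaf.canonicalTopology C) (Type u) :=
  (Sheaf.canonicalTopology C).yoneda

lemma isLocallySurjective_yoneda_map {X B : C} (π : X ⟶ B)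
    (heff : ∀ (B' : C) (g : B' ⟶ B), EffectiveEpi (pullback.snd π g)) :
    Sheaf.IsLocallySurjective ((yC C).map π) := by
  constructor
  intro U b
  let b' : U ⟶ B := b
  have hmem : Sieve.generate (Presieve.singleton (pullback.snd π b')) ∈ Jc U := by
    apply generate_singleton_mem
    intro V g
    have := heff _ (g ≫ b')
    rw [← pullbackLeftPullbackSndIso_hom_snd]
    infer_instance
  refine (Jc).superset_covering ?_ hmem
  rintro V k ⟨W, h, _, ⟨⟩, rfl⟩
  refine ⟨h ≫ pullback.fst π b', ?_⟩
  change (h ≫ pullback.fst π b') ≫ π = (h ≫ pullback.snd π b') ≫ b'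
  rw [Category.assoc, Category.assoc, pullback.condition]

/-- (⇒) -/
noncomputable def isColimit_yoneda_of_effective {R X B : C} {p₁ p₂ : R ⟶ X} {π : X ⟶ B}
    (hpb : IsPullback p₁ p₂ π π)
    (heff : ∀ (B' : C) (g : B' ⟶ B), EffectiveEpi (pullback.snd π g)) :
    IsColimit (Cofork.ofπ ((yC C).map π) (by rw [← (yC C).map_comp, hpb.w, (yC C).map_comp]) :
      Cofork ((yC C).map p₁) ((yC C).map p₂)) := by
  have hls := isLocallySurjective_yoneda_map π heff
  have hepi : Epi ((yC C).map π) := inferInstance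
  have hreg := IsRegularEpiCategory.regularEpiOfEpi ((yC C).map π)
  have heffy : EffectiveEpi ((yC C).map π) := (isRegularEpi_iff_effectiveEpi _).mp hreg
  exact isColimitCoforkOfEffectiveEpi ((yC C).map π) _ (hpb.map (yC C)).isLimit

end sheaf3



section sheaf4

variable {C : Type u} [SmallCategory C]


lemma rel_iff_sectionwise {R X : C} {p₁ p₂ : R ⟶ X} (hR : SGA4.IsEquivRel p₁ p₂)
    (T : Sheaf (Sheaf.canonicalTopology C) (Type u)) (a b : T ⟶ (yC C).obj X) :
    (∃ f : T ⟶ (yC C).obj R, f ≫ (yC C).map p₁ = a ∧ f ≫ (yC C).map p₂ = b) ↔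
      ∀ (U : Cᵒᵖ) (t : T.obj.obj U), ∃ r : U.unop ⟶ R,
        r ≫ p₁ = (a.hom.app U t : U.unop ⟶ X) ∧ r ≫ p₂ = (b.hom.app U t : U.unop ⟶ X) := by
  constructor
  · rintro ⟨f, rfl, rfl⟩ U t
    exact ⟨f.hom.app U t, rfl, rfl⟩
  · intro h
    choose r hr1 hr2 using h
    have hnat : ∀ (U V : Cᵒᵖ) (k : U ⟶ V) (t : T.obj.obj U),
        r V (T.obj.map k t) = k.unop ≫ r U t := by
      intro U V k t
      apply (hR _).1
      apply Prod.ext
      · change r V (T.obj.map k t) ≫ p₁ = (k.unop ≫ r U t) ≫ p₁
        rw [hr1, Category.assoc, hr1]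
        exact NatTrans.naturality_apply a.hom k t
      · change r V (T.obj.map k t) ≫ p₂ = (k.unop ≫ r U t) ≫ p₂
        rw [hr2, Category.assoc, hr2]
        exact NatTrans.naturality_apply b.hom k t
    let f' : T.obj ⟶ yoneda.obj R :=
      { app := fun U => ↾(fun t => r U t)
        naturality := fun U V k => by
          apply ConcreteCategory.hom_ext
          intro t
          exact hnat U V k t }
    refine ⟨ObjectProperty.homMk f', ?_, ?_⟩
    · apply Sheaf.hom_ext
      ext U t
      exact hr1 U t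
    · apply Sheaf.hom_ext
      ext U t
      exact hr2 U t

lemma isEquivRel_yoneda {R X : C} {p₁ p₂ : R ⟶ X} (hR : SGA4.IsEquivRel p₁ p₂) :
    SGA4.IsEquivRel ((yC C).map p₁) ((yC C).map p₂) := by
  intro T
  refine ⟨?_, ?_, ?_, ?_⟩
  · intro f f' h
    have h1 : f ≫ (yC C).map p₁ = f' ≫ (yC C).map p₁ := congr_arg Prod.fst h
    have h2 : f ≫ (yC C).map p₂ = f' ≫ (yC C).map p₂ := congr_arg Prod.snd h
    apply Sheaf.hom_ext
    ext U t
    apply (hR _).1
    apply Prod.ext
    · exact congr_fun (congr_arg (fun φ => (φ.hom.app U : _ → _)) h1) t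
    · exact congr_fun (congr_arg (fun φ => (φ.hom.app U : _ → _)) h2) t
  · intro a
    rw [rel_iff_sectionwise hR]
    intro U t
    exact (hR _).2.refl _
  · intro a b h
    rw [rel_iff_sectionwise hR] at h ⊢
    intro U t
    exact (hR _).2.symm (h U t)
  · intro a b c h h'
    rw [rel_iff_sectionwise hR] at h h' ⊢
    intro U t
    exact (hR _).2.trans (h U t) (h' U t)

end sheaf4



section sheaf5

variable {C : Type u} [SmallCategory C]

/-- the comparison between `ε` and the sheaf-valued Yoneda embedding -/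
noncomputable def εIso (J : GrothendieckTopology C) [J.Subcanonical] :
    yoneda ⋙ presheafToSheaf J (Type u) ≅ J.yoneda :=
  (Functor.isoWhiskerLeft J.yoneda (sheafificationNatIso J (Type u))).symm ≪≫
    Functor.rightUnitor _

variable [HasPullbacks C]

/-- (⇐) -/
lemma effective_of_isColimit_yoneda {R X Y : C} {p₁ p₂ : R ⟶ X} (hR : SGA4.IsEquivRel p₁ p₂)
    {π : X ⟶ Y} (w : p₁ ≫ π = p₂ ≫ π) (hc : IsColimit (Cofork.ofπ π w))
    (h4 : IsColimit (Cofork.ofπ ((yC C).map π) (by rw [← (yC C).map_comp, w, (yC C).map_comp]) :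
      Cofork ((yC C).map p₁) ((yC C).map p₂))) :
    IsPullback p₁ p₂ π π ∧ IsPushout p₁ p₂ π π ∧
      ∀ (B' : C) (g : B' ⟶ Y), EffectiveEpi (pullback.snd π g) := by
  obtain ⟨B, π', hpb', hpo', heff'⟩ :=
    (Groth.Agent.S3081.result (Sheaf.canonicalTopology C)).2 _ _ _ _ (isEquivRel_yoneda hR)
  have hπ' := isColimitCoforkOfIsPushout hpo'
  let eB : (yC C).obj Y ≅ B := IsColimit.coconePointUniqueUpToIso h4 hπ'
  have heB : (yC C).map π ≫ eB.hom = π' :=
    IsColimit.comp_coconePointUniqueUpToIso_hom h4 hπ' WalkingParallelPair.one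
  have hpbY : IsPullback ((yC C).map p₁) ((yC C).map p₂) ((yC C).map π) ((yC C).map π) := by
    refine IsPullback.of_iso hpb' (Iso.refl _) (Iso.refl _) (Iso.refl _) eB.symm ?_ ?_ ?_ ?_
    · simp
    · simp
    · simp [← heB]
    · simp [← heB]
  refine ⟨IsPullback.of_map (yC C) w hpbY, ?_, ?_⟩
  · obtain ⟨ρ, h1, h2⟩ := (hR X).2.refl (𝟙 X)
    exact isPushout_of_isColimit_cofork ρ h1 h2 w hc
  · intro B' g
    have hsq := (IsPullback.of_hasPullback π g).map (yC C)
    have hsq' : IsPullback ((yC C).map (pullback.fst π g)) ((yC C).map (pullback.snd π g)) π'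
        ((yC C).map g ≫ eB.hom) := by
      refine IsPullback.of_iso hsq (Iso.refl _) (Iso.refl _) (Iso.refl _) eB ?_ ?_ ?_ ?_
      · simp
      · simp
      · simp [heB]
      · simp
    have := heff' _ ((yC C).map g ≫ eB.hom)
    have : EffectiveEpi ((yC C).map (pullback.snd π g)) := by
      rw [← hsq'.isoPullback_hom_snd]
      infer_instance
    exact effectiveEpi_of_map (yC C) (pullback.snd π g)

end sheaf5

end Groth.Agent.S6140.Aux


namespace Groth.Agent.S6140

/-- Let `C` be a small category with pullbacks, `p₁ p₂ : R ⇉ X` an equivalence relation in `C` admitting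
a coequalizer cofork `c`, and `ε` the canonical functor to sheaves of sets for the canonical
topology of `C`. Then the equivalence relation is effective and universal (`R` is the kernel pair of
the quotient map, which is a coequalizer all of whose base changes are effective epimorphisms) if
and only if `ε` takes `c` to a coequalizer of `ε p₁, ε p₂`. (For a small category every topology has
a small topologically generating family, so both implications of the published statement apply. The
published statement asks only that the quotient map have all base changes; this row assumes that `C`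
has all pullbacks.) -/
theorem result
    {C : Type u} [SmallCategory C] [HasPullbacks C] {R X : C} (p₁ p₂ : R ⟶ X)
    (hR : SGA4.IsEquivRel p₁ p₂) (c : Cofork p₁ p₂) (hc : IsColimit c) :
    SGA4.IsEffectiveUniversalEquivRel p₁ p₂ ↔
      Nonempty (IsColimit ((yoneda ⋙ presheafToSheaf (Sheaf.canonicalTopology C) (Type u)).mapCocone c)) := by
  constructor
  · rintro ⟨B, π, hpb, hpo, heff⟩
    have hπ := Aux.isColimitCoforkOfIsPushout hpo
    have e : c ≅ Cofork.ofπ π hpo.w := hc.uniqueUpToIso hπ
    have h1 : IsColimit ((Aux.yC C).mapCocone (Cofork.ofπ π hpo.w)) :=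
      (isColimitMapCoconeCoforkEquiv (Aux.yC C) hpo.w).symm
        (Aux.isColimit_yoneda_of_effective hpb heff)
    have h2 : IsColimit ((Aux.yC C).mapCocone c) :=
      IsColimit.ofIsoColimit h1 ((Cocone.functoriality _ (Aux.yC C)).mapIso e.symm)
    exact ⟨IsColimit.mapCoconeEquiv (Aux.εIso (Sheaf.canonicalTopology C)).symm h2⟩
  · rintro ⟨h⟩
    have h2 : IsColimit ((Aux.yC C).mapCocone c) :=
      IsColimit.mapCoconeEquiv (Aux.εIso (Sheaf.canonicalTopology C)) h
    have e := Cofork.isoCoforkOfπ c
    have hc' : IsColimit (Cofork.ofπ c.π c.condition) := IsColimit.ofIsoColimit hc e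
    have h3 : IsColimit ((Aux.yC C).mapCocone (Cofork.ofπ c.π c.condition)) :=
      IsColimit.ofIsoColimit h2 ((Cocone.functoriality _ (Aux.yC C)).mapIso e)
    have h4 := isColimitMapCoconeCoforkEquiv (Aux.yC C) c.condition h3
    obtain ⟨a, b, d⟩ := Aux.effective_of_isColimit_yoneda hR c.condition hc' h4
    exact ⟨c.pt, c.π, a, b, d⟩


end Groth.Agent.S6140
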