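import Groth.Statements.S9115
import Groth.Agent.Lib.Helper74.ModQc.FreeOnMap
import Groth.Agent.Lib.Helper74.ModQc.CokerLift

set_option autoImplicit false
universe u
open CategoryTheory CategoryTheory.Limits Opposite
open ModSite

namespace Groth.Agent.S9115

/-- Let (C, O) be a small ringed site with O commutative and B a set of objects of C such that every
object has a covering family by members of B and each member of B is quasi-compact (its sheaf h_U^#
is a quasi-compact object of the topos). If F and G are O-modules of the form Coker(⊕_{j≤m}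
j_{V_j!}O_{V_j} → ⊕_{i≤n} j_{U_i!}O_{U_i}) with finitely many Uᵢ, Vⱼ in B, then so is the cokernel
of any morphism F → G. -/
theorem result {C : Type u} [SmallCategory C] {J : GrothendieckTopology C}
    (O : Sheaf J CommRingCat.{u}) (B : Set C)
    (hB₁ : ∀ X : C, ∃ (κ : Type u) (Y : κ → C) (g : ∀ k, Y k ⟶ X), Sieve.ofArrows Y g ∈ J X ∧ ∀ k, Y k ∈ B)
    (hB₂ : ∀ U ∈ B, CohCx.IsQcObject ((presheafToSheaf J (Type u)).obj (yoneda.obj U))) (F G : ModSite.Mod O) (α : F ⟶ G)
    (hF : (∃ (m' n' : ℕ) (V' : Fin m' → C) (U' : Fin n' → C)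
        (ψ : (∐ fun j => ModSite.freeOn O (V' j)) ⟶ ∐ fun i => ModSite.freeOn O (U' i)),
        (∀ j, V' j ∈ B) ∧ (∀ i, U' i ∈ B) ∧ Nonempty (F ≅ cokernel ψ)))
    (hG : (∃ (m' n' : ℕ) (V' : Fin m' → C) (U' : Fin n' → C)
        (ψ : (∐ fun j => ModSite.freeOn O (V' j)) ⟶ ∐ fun i => ModSite.freeOn O (U' i)),
        (∀ j, V' j ∈ B) ∧ (∀ i, U' i ∈ B) ∧ Nonempty (G ≅ cokernel ψ))) :
    (∃ (m' n' : ℕ) (V' : Fin m' → C) (U' : Fin n' → C)
        (ψ : (∐ fun j => ModSite.freeOn O (V' j)) ⟶ ∐ fun i => ModSite.freeOn O (U' i)),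
        (∀ j, V' j ∈ B) ∧ (∀ i, U' i ∈ B) ∧ Nonempty (cokernel α ≅ cokernel ψ)) := by
  classical
  open Groth.Agent.Lib.Helper74.ModQc in
  obtain ⟨mF, nF, VF, UF, ψF, hVF, hUF, ⟨eF⟩⟩ := hF
  obtain ⟨mG, nG, VG, UG, ψG, hVG, hUG, ⟨eG⟩⟩ := hG
  -- the presentation maps
  let pF : (∐ fun i => ModSite.freeOn O (UF i)) ⟶ F := cokernel.π ψF ≫ eF.inv
  let πG : (∐ fun i => ModSite.freeOn O (UG i)) ⟶ G := cokernel.π ψG ≫ eG.inv
  have hpF : Epi pF := epi_comp _ _
  have hπG : Epi πG := epi_comp _ _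
  have hqc : ∀ i, ToposFin.IsQCSite J (UF i) := fun i =>
    Groth.Agent.Lib.Helper74.ModQc.isQCSite_of_isQcObject (hB₂ _ (hUF i))
  -- the sections of `G` given by the generators of `F`
  let s : ∀ i, G.val.obj (op (UF i)) := fun i =>
    Groth.Agent.Lib.Helper74.ModQc.toSec O (Sigma.ι (fun i => ModSite.freeOn O (UF i)) i ≫ pF ≫ α)
  choose S hS hlift using fun i => Groth.Agent.Lib.Helper74.ModQc.exists_cover_lift πG (s i)
  choose r Y y hYB hyS hycov using fun i =>
    Groth.Agent.Lib.Helper74.ModQc.exists_finite_basis_cover B hB₁ (hqc i) (S i) (hS i)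
  choose t ht using fun i k => hlift i (y i k) (hyS i k)
  -- the lifts and the covering maps
  let c : ∀ (i : Fin nF) (k : Fin (r i)),
      ModSite.freeOn O (Y i k) ⟶ ∐ fun i => ModSite.freeOn O (UG i) :=
    fun i k => Groth.Agent.Lib.Helper74.ModQc.ofSec O (t i k)
  have hc : ∀ i k, c i k ≫ πG =
      (Groth.Agent.Lib.Helper74.ModQc.freeOnMap O (y i k) ≫
        Sigma.ι (fun i => ModSite.freeOn O (UF i)) i) ≫ pF ≫ α := by
    intro i k
    rw [Groth.Agent.Lib.Helper74.ModQc.ofSec_comp, ht i k,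
      ← Groth.Agent.Lib.Helper74.ModQc.freeOnMap_ofSec,
      Groth.Agent.Lib.Helper74.ModQc.ofSec_toSec]
    simp only [Category.assoc]
  -- the index type of the new relations
  let T := Fin mG ⊕ (Σ i : Fin nF, Fin (r i))
  let VT : T → C := fun x => Sum.elim VG (fun p => Y p.1 p.2) x
  have hVT : ∀ x, VT x ∈ B := by
    rintro (j | ⟨i, k⟩)
    · exact hVG j
    · exact hYB i k
  let comp : ∀ x : T, ModSite.freeOn O (VT x) ⟶ ∐ fun i => ModSite.freeOn O (UG i) := fun x =>
    match x with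
    | Sum.inl j => Sigma.ι (fun j => ModSite.freeOn O (VG j)) j ≫ ψG
    | Sum.inr p => c p.1 p.2
  let e : T ≃ Fin (Fintype.card T) := Fintype.equivFin T
  let ψ : (∐ fun l : Fin (Fintype.card T) => ModSite.freeOn O (VT (e.symm l))) ⟶
      ∐ fun i => ModSite.freeOn O (UG i) :=
    Sigma.desc (fun l => comp (e.symm l))
  have hψ : ∀ {Z : ModSite.Mod O} (h : (∐ fun i => ModSite.freeOn O (UG i)) ⟶ Z),
      ψ ≫ h = 0 → ∀ x : T, comp x ≫ h = 0 := by
    intro Z h hh x
    have h1 := Sigma.ι (fun l : Fin (Fintype.card T) => ModSite.freeOn O (VT (e.symm l))) (e x) ≫= hh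
    rw [← Category.assoc, Sigma.ι_desc, comp_zero] at h1
    have h2 : ∀ (x' : T) (_ : x' = x), comp x' ≫ h = 0 → comp x ≫ h = 0 := by
      rintro x' rfl hx'
      exact hx'
    exact h2 _ (e.symm_apply_apply x) h1
  refine ⟨Fintype.card T, nG, fun l => VT (e.symm l), UG, ψ, fun l => hVT _, hUG, ?_⟩
  refine Groth.Agent.Lib.Helper74.ModQc.nonempty_cokernel_iso_of_lifts α pF ψG eG ψ ?_ ?_ ?_
  · -- `ψ` is killed by `PG ⟶ G ⟶ coker α`
    apply Sigma.hom_ext
    intro l
    rw [← Category.assoc, Sigma.ι_desc, comp_zero]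
    generalize e.symm l = x
    rcases x with j | ⟨i, k⟩
    · change (Sigma.ι (fun j => ModSite.freeOn O (VG j)) j ≫ ψG) ≫ πG ≫ cokernel.π α = 0
      rw [Category.assoc]
      change _ ≫ ψG ≫ (cokernel.π ψG ≫ eG.inv) ≫ cokernel.π α = 0
      rw [Category.assoc, cokernel.condition_assoc, zero_comp, comp_zero]
    · change c i k ≫ πG ≫ cokernel.π α = 0
      rw [← Category.assoc, hc i k]
      simp only [Category.assoc, cokernel.condition, comp_zero]
  · intro Z h hh
    apply Sigma.hom_ext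
    intro j
    rw [comp_zero, ← Category.assoc]
    exact hψ h hh (Sum.inl j)
  · intro Z h hh
    -- it suffices to check after the covering maps
    have hzero : ∀ i k, (Groth.Agent.Lib.Helper74.ModQc.freeOnMap O (y i k) ≫
        Sigma.ι (fun i => ModSite.freeOn O (UF i)) i) ≫ pF ≫ α ≫ eG.hom ≫
          cokernel.desc ψG h (by
            apply Sigma.hom_ext
            intro j
            rw [comp_zero, ← Category.assoc]
            exact hψ h hh (Sum.inl j)) = 0 := by
      intro i k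
      have h1 : c i k ≫ h = 0 := hψ h hh (Sum.inr ⟨i, k⟩)
      have h2 := hc i k
      rw [← h1]
      have h3 : πG ≫ eG.hom ≫ cokernel.desc ψG h (by
            apply Sigma.hom_ext
            intro j
            rw [comp_zero, ← Category.assoc]
            exact hψ h hh (Sum.inl j)) = h := by
        change (cokernel.π ψG ≫ eG.inv) ≫ _ = h
        rw [Category.assoc, eG.inv_hom_id_assoc, cokernel.π_desc]
      conv_rhs => rw [← h3, ← Category.assoc, h2]
      simp only [Category.assoc]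
    apply Sigma.hom_ext
    intro i
    rw [comp_zero]
    apply Groth.Agent.Lib.Helper74.ModQc.hom_ext_of_cover (y i) (hycov i)
    intro k
    rw [comp_zero]
    have := hzero i k
    simp only [Category.assoc] at this ⊢
    exact this

end Groth.Agent.S9115
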