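import Groth.Statements.S4495
import Mathlib.Geometry.RingedSpace.LocallyRingedSpace
import Mathlib.Topology.Sheaves.SheafCondition.UniqueGluing
import Mathlib.Topology.Connected.Clopen

set_option autoImplicit false
universe u
open FlatCx

namespace Groth.Agent.S4495

open CategoryTheory AlgebraicGeometry Opposite TopologicalSpace

/-- In a local ring, the germ of an idempotent is a unit iff the germ of `1 - e` is not. -/
theorem isUnit_iff_not_isUnit_one_sub {R : Type*} [CommRing R] [IsLocalRing R] {e : R}
    (he : IsIdempotentElem e) : IsUnit e ↔ ¬ IsUnit (1 - e) := by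
  constructor
  · intro h1 h2
    have h0 : e * (1 - e) = 0 := by
      have : e * e = e := he
      rw [mul_sub, mul_one, this, sub_self]
    have : IsUnit (e * (1 - e)) := h1.mul h2
    rw [h0] at this
    exact not_isUnit_zero this
  · intro h
    rcases IsLocalRing.isUnit_or_isUnit_one_sub_self e with h' | h'
    · exact h'
    · exact absurd h' h

theorem mem_basicOpen_iff (Z : LocallyRingedSpace.{u}) {e : Z.presheaf.obj (op ⊤)}
    (he : IsIdempotentElem e) (x : Z) :
    x ∈ Z.toRingedSpace.basicOpen e ↔ x ∉ Z.toRingedSpace.basicOpen (1 - e) := by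
  rw [RingedSpace.mem_top_basicOpen, RingedSpace.mem_top_basicOpen, map_sub, map_one]
  have : IsLocalRing (Z.presheaf.stalk x) := Z.isLocalRing x
  exact isUnit_iff_not_isUnit_one_sub (he.map _)

theorem eq_one_of_basicOpen_eq_top (Z : LocallyRingedSpace.{u}) {e : Z.presheaf.obj (op ⊤)}
    (he : IsIdempotentElem e) (h : ∀ x : Z, x ∈ Z.toRingedSpace.basicOpen e) : e = 1 := by
  have hu : IsUnit e := by
    apply Z.toRingedSpace.isUnit_of_isUnit_germ
    intro x hx
    exact (RingedSpace.mem_basicOpen _ e x hx).mp (h x)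
  exact (IsIdempotentElem.iff_eq_one_of_isUnit hu).mp he

theorem forward (Z : LocallyRingedSpace.{u}) [PreconnectedSpace Z]
    (e : Z.presheaf.obj (op ⊤)) (he : IsIdempotentElem e) : e = 0 ∨ e = 1 := by
  let B : Opens Z.toTopCat := Z.toRingedSpace.basicOpen e
  let B' : Opens Z.toTopCat := Z.toRingedSpace.basicOpen (1 - e)
  have hcompl : (B : Set Z.toTopCat)ᶜ = (B' : Set Z.toTopCat) := by
    ext x
    rw [Set.mem_compl_iff, SetLike.mem_coe, SetLike.mem_coe]
    change ¬ (x ∈ Z.toRingedSpace.basicOpen e) ↔ x ∈ Z.toRingedSpace.basicOpen (1 - e)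
    rw [mem_basicOpen_iff Z he x, not_not]
  have hclopen : IsClopen (B : Set Z.toTopCat) := by
    refine ⟨?_, B.isOpen⟩
    rw [← isOpen_compl_iff, hcompl]
    exact B'.isOpen
  rcases isClopen_iff.mp hclopen with h | h
  · left
    have h1 : (1 - e) = 1 := by
      apply eq_one_of_basicOpen_eq_top Z he.one_sub
      intro x
      have : x ∈ (B : Set Z.toTopCat)ᶜ := by
        rw [h]; simp
      rw [hcompl] at this
      exact this
    have : e = 1 - (1 - e) := by ring
    rw [this, h1, sub_self]
  · right
    apply eq_one_of_basicOpen_eq_top Z he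
    intro x
    have : x ∈ (B : Set Z.toTopCat) := by rw [h]; trivial
    exact this

theorem eq_bot_of_subsingleton (Z : LocallyRingedSpace.{u}) (U : Opens Z)
    (h : (1 : Z.presheaf.obj (op U)) = 0) : U = ⊥ := by
  rw [eq_bot_iff]
  intro x hx
  exfalso
  have : IsLocalRing (Z.presheaf.stalk x) := Z.isLocalRing x
  have := congrArg (Z.presheaf.germ U x hx) h
  rw [map_one, map_zero] at this
  exact one_ne_zero this

theorem subsingleton_of_eq_bot (Z : LocallyRingedSpace.{u}) (W : Opens Z) (hW : W = ⊥)
    (s t : Z.presheaf.obj (op W)) : s = t := by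
  refine Z.sheaf.eq_of_locally_eq' (fun i : PEmpty.{1} => (i.elim : Opens Z)) W
    (fun i => i.elim) ?_ s t (fun i => i.elim)
  rw [hW]
  exact bot_le

theorem exists_glue (Z : LocallyRingedSpace.{u}) (U V : Opens Z) (hUV : U ⊓ V = ⊥)
    (hcov : U ⊔ V = ⊤) :
    ∃ e : Z.presheaf.obj (op ⊤), IsIdempotentElem e ∧
      Z.presheaf.map (homOfLE le_top : U ⟶ ⊤).op e = 1 ∧
      Z.presheaf.map (homOfLE le_top : V ⟶ ⊤).op e = 0 := by
  let W : Bool → Opens Z := fun b => if b then U else V
  let sf : ∀ b : Bool, Z.presheaf.obj (op (W b)) := fun b => if b then 1 else 0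
  have hcompat : TopCat.Presheaf.IsCompatible Z.sheaf.1 W sf := by
    intro i j
    by_cases hij : i = j
    · subst hij
      rfl
    · apply subsingleton_of_eq_bot
      cases i <;> cases j
      · exact absurd rfl hij
      · simpa [W, inf_comm] using hUV
      · simpa [W] using hUV
      · exact absurd rfl hij
  obtain ⟨e, he, -⟩ := Z.sheaf.existsUnique_gluing' W ⊤ (fun i => homOfLE le_top)
    (by
      rw [← hcov, sup_le_iff]
      exact ⟨le_iSup W true, le_iSup W false⟩) sf hcompat
  have hU : Z.presheaf.map (homOfLE le_top : U ⟶ ⊤).op e = 1 := he true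
  have hV : Z.presheaf.map (homOfLE le_top : V ⟶ ⊤).op e = 0 := he false
  refine ⟨e, ?_, hU, hV⟩
  refine Z.sheaf.eq_of_locally_eq₂ (homOfLE le_top : U ⟶ ⊤) (homOfLE le_top : V ⟶ ⊤)
    hcov.ge (e * e) e ?_ ?_
  · exact ((Z.presheaf.map (homOfLE le_top : U ⟶ ⊤).op).hom.map_mul e e).trans
      (by rw [show (Z.presheaf.map (homOfLE le_top : U ⟶ ⊤).op).hom e = 1 from hU, mul_one]; exact hU.symm)
  · exact ((Z.presheaf.map (homOfLE le_top : V ⟶ ⊤).op).hom.map_mul e e).trans
      (by rw [show (Z.presheaf.map (homOfLE le_top : V ⟶ ⊤).op).hom e = 0 from hV, mul_zero]; exact hV.symm)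

theorem backward (Z : LocallyRingedSpace.{u})
    (h : ∀ e : Z.presheaf.obj (op ⊤), IsIdempotentElem e → e = 0 ∨ e = 1) :
    PreconnectedSpace Z := by
  rw [preconnectedSpace_iff_clopen]
  intro s hs
  let U : Opens Z := ⟨s, hs.isOpen⟩
  let V : Opens Z := ⟨sᶜ, hs.compl.isOpen⟩
  have hUV : U ⊓ V = ⊥ := by
    ext x
    simp [U, V]
  have hcov : U ⊔ V = ⊤ := by
    ext x
    simp [U, V]
  obtain ⟨e, he, hU, hV⟩ := exists_glue Z U V hUV hcov
  rcases h e he with h0 | h1
  · left
    rw [h0, map_zero] at hU
    have := eq_bot_of_subsingleton Z U hU.symm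
    have := congrArg (fun W : Opens Z => (W : Set Z)) this
    simpa [U] using this
  · right
    rw [h1, map_one] at hV
    have := eq_bot_of_subsingleton Z V hV
    have := congrArg (fun W : Opens Z => (W : Set Z)) this
    simpa [V] using this

open CategoryTheory AlgebraicGeometry Opposite in
/-- A locally ringed space Z is connected, in the sense that it is not the disjoint union of two
nonempty open subsets (the empty space being allowed), if and only if every idempotent of the ring
of global sections Γ(Z, O_Z) is 0 or 1 (equivalently, Γ(Z, O_Z) is not isomorphic to a product of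
two nonzero rings). -/
theorem result (Z : LocallyRingedSpace.{u}) :
    PreconnectedSpace Z ↔
      ∀ e : Z.presheaf.obj (op ⊤), IsIdempotentElem e → e = 0 ∨ e = 1 := by
  constructor
  · intro h e he
    exact forward Z e he
  · exact backward Z


end Groth.Agent.S4495
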