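import Groth.Statements.S3844
import Mathlib.RingTheory.Flat.Basic
import Mathlib.RingTheory.Finiteness.Ideal
import Mathlib.AlgebraicGeometry.Morphisms.QuasiCompact

set_option autoImplicit false
universe u
open CategoryTheory CategoryTheory.Limits AlgebraicGeometry TopologicalSpace
open Rat20

namespace Groth.Agent.S3844

section helpers
open AlgebraicGeometry CategoryTheory TopologicalSpace TensorProduct

theorem eq_zero_of_flat {A B : Type u} [CommRing A] [CommRing B] (φ : A →+* B) (hφ : φ.Flat)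
    {k : ℕ} (w : Fin k → A) (hw : ∀ x : A, (∀ j, w j * x = 0) → x = 0) (b : B)
    (hb : ∀ j, φ (w j) * b = 0) : b = 0 := by
  algebraize [φ]
  let ψ : A →ₗ[A] (Fin k → A) := LinearMap.pi (fun j => LinearMap.mulLeft A (w j))
  have hψ : Function.Injective ψ := by
    rw [injective_iff_map_eq_zero]
    intro x hx
    apply hw
    intro j
    exact congrFun hx j
  have hinj := Module.Flat.lTensor_preserves_injective_linearMap (M := B) ψ hψ
  have h0 : ψ.lTensor B (b ⊗ₜ[A] (1 : A)) = 0 := by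
    rw [LinearMap.lTensor_tmul]
    have h1 : ψ 1 = ∑ j, w j • Pi.single j (1 : A) := by
      ext i
      simp [ψ, Finset.sum_apply, Pi.single_apply]
    rw [h1, TensorProduct.tmul_sum]
    apply Finset.sum_eq_zero
    intro j _
    rw [TensorProduct.tmul_smul, TensorProduct.smul_tmul', Algebra.smul_def]
    have : algebraMap A B (w j) * b = 0 := hb j
    rw [this, TensorProduct.zero_tmul]
  have h1 : b ⊗ₜ[A] (1 : A) = 0 := hinj (by rw [h0, map_zero])
  have h2 := congrArg (TensorProduct.rid A B) h1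
  simpa using h2

theorem eq_zero_of_flat_of_ideal {A B : Type u} [CommRing A] [CommRing B] [IsNoetherianRing A]
    (φ : A →+* B) (hφ : φ.Flat) (S : Set A)
    (hI : ∀ (N : ℕ) (x : A), (∀ u ∈ (Ideal.span S) ^ N, u * x = 0) → x = 0) (b : B)
    (hb : ∀ t ∈ S, ∃ n : ℕ, φ t ^ n * b = 0) : b = 0 := by
  set I := Ideal.span S with hIdef
  let 𝔞 : Ideal A := Ideal.comap φ (Submodule.annihilator (Ideal.span {b}))
  have hmem : ∀ u : A, u ∈ 𝔞 ↔ φ u * b = 0 := by
    intro u
    simp only [𝔞, Ideal.mem_comap, Submodule.mem_annihilator_span_singleton, smul_eq_mul]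
  have hrad : I ≤ 𝔞.radical := by
    rw [hIdef, Ideal.span_le]
    intro t ht
    obtain ⟨n, hn⟩ := hb t ht
    exact ⟨n, (hmem _).mpr (by rw [map_pow]; exact hn)⟩
  obtain ⟨N, hN⟩ := Ideal.exists_pow_le_of_le_radical_of_fg hrad (IsNoetherian.noetherian I)
  obtain ⟨k, w, hw⟩ := Submodule.fg_iff_exists_fin_generating_family.mp
    (IsNoetherian.noetherian (I ^ N))
  refine eq_zero_of_flat φ hφ w (fun x hx => hI N x ?_) b (fun j => ?_)
  · intro u hu
    have hle : I ^ N ≤ Submodule.annihilator (Ideal.span {x}) := by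
      rw [← hw]
      apply Submodule.span_le.mpr
      rintro _ ⟨j, rfl⟩
      exact (Submodule.mem_annihilator_span_singleton x (w j)).mpr (hx j)
    exact (Submodule.mem_annihilator_span_singleton x u).mp (hle hu)
  · apply (hmem _).mp
    apply hN
    rw [← hw]
    exact Submodule.subset_span ⟨j, rfl⟩

theorem local_claim {X X' : Scheme.{u}} (f : X' ⟶ X) [Flat f] [IsLocallyNoetherian X] (V : X.Opens)
    (hV : CInt.IsSchematicallyDense V) (U' : X.Opens) (hU' : IsAffineOpen U') (W' : X'.Opens)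
    (hW' : IsAffineOpen W') (e : W' ≤ f ⁻¹ᵁ U') (b : Γ(X', W'))
    (hb : X'.presheaf.map (homOfLE (inf_le_left : W' ⊓ f ⁻¹ᵁ V ≤ W')).op b = 0) : b = 0 := by
  have : IsNoetherianRing Γ(X, U') := IsLocallyNoetherian.component_noetherian ⟨U', hU'⟩
  have hflat : (f.appLE U' W' e).hom.Flat :=
    HasRingHomProperty.appLE @Flat f inferInstance ⟨U', hU'⟩ ⟨W', hW'⟩ e
  refine eq_zero_of_flat_of_ideal (f.appLE U' W' e).hom hflat {t | X.basicOpen t ≤ V} ?_ b ?_
  · intro N x hx
    apply hV U'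
    rw [map_zero]
    refine TopCat.Presheaf.section_ext X.sheaf (U' ⊓ V) _ 0 (fun y hy => ?_)
    change X.presheaf.germ (U' ⊓ V) y hy
      (X.presheaf.map (homOfLE (inf_le_left : U' ⊓ V ≤ U')).op x) =
      X.presheaf.germ (U' ⊓ V) y hy 0
    rw [map_zero]
    obtain ⟨t, ht1, ht2⟩ := hU'.exists_basicOpen_le (V := V) ⟨y, hy.2⟩ hy.1
    have htN : t ^ N ∈ Ideal.span {t | X.basicOpen t ≤ V} ^ N :=
      Ideal.pow_mem_pow (Ideal.subset_span ht1) N
    have h0 := hx _ htN
    have hg := congrArg (X.presheaf.germ U' y hy.1) h0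
    rw [map_mul, map_pow, map_zero] at hg
    have hunit : IsUnit (X.presheaf.germ U' y hy.1 t) := (X.mem_basicOpen t y hy.1).mp ht2
    have h1 : X.presheaf.germ U' y hy.1 x = 0 := (hunit.pow N).mul_right_eq_zero.mp hg
    rw [TopCat.Presheaf.germ_res_apply]
    exact h1
  · intro t ht
    have hbo : X'.basicOpen (f.appLE U' W' e t) = W' ⊓ f ⁻¹ᵁ (X.basicOpen t) :=
      Scheme.basicOpen_appLE f W' U' e t
    have hle : X'.basicOpen (f.appLE U' W' e t) ≤ W' ⊓ f ⁻¹ᵁ V := by
      rw [hbo]; exact inf_le_inf_left _ (f.preimage_mono ht)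
    have hres : X'.presheaf.map (homOfLE (X'.basicOpen_le (f.appLE U' W' e t))).op b = 0 := by
      have h1 : X'.presheaf.map (homOfLE (X'.basicOpen_le (f.appLE U' W' e t))).op b =
          X'.presheaf.map (homOfLE hle).op
            (X'.presheaf.map (homOfLE (inf_le_left : W' ⊓ f ⁻¹ᵁ V ≤ W')).op b) := by
        rw [← CommRingCat.comp_apply, ← Functor.map_comp]
        rfl
      rw [h1, hb, map_zero]
    obtain ⟨n, hn⟩ := exists_pow_mul_eq_zero_of_res_basicOpen_eq_zero_of_isAffineOpen X' hW' b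
      (f.appLE U' W' e t) hres
    exact ⟨n, hn⟩

end helpers

/-- For the open subset U = X: let f : X' → X be flat with X locally Noetherian. Then for every
schematically dense open subset V of X, the preimage f⁻¹(V) is schematically dense in X'. -/
theorem result {X X' : Scheme.{u}} (f : X' ⟶ X) [Flat f]
    [IsLocallyNoetherian X] (V : X.Opens) (hV : CInt.IsSchematicallyDense V) :
    CInt.IsSchematicallyDense (f ⁻¹ᵁ V) := by
  intro W
  rw [injective_iff_map_eq_zero]
  intro a ha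
  refine TopCat.Presheaf.section_ext X'.sheaf W a 0 (fun x hx => ?_)
  change X'.presheaf.germ W x hx a = X'.presheaf.germ W x hx 0
  rw [map_zero]
  obtain ⟨U', hU', hxU', -⟩ := TopologicalSpace.Opens.isBasis_iff_nbhd.mp X.isBasis_affineOpens
    (show f x ∈ (⊤ : X.Opens) from trivial)
  obtain ⟨W', hW', hxW', hW'le⟩ := TopologicalSpace.Opens.isBasis_iff_nbhd.mp
    X'.isBasis_affineOpens (show x ∈ W ⊓ f ⁻¹ᵁ U' from ⟨hx, hxU'⟩)
  have hW'W : W' ≤ W := hW'le.trans inf_le_left
  have e : W' ≤ f ⁻¹ᵁ U' := hW'le.trans inf_le_right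
  suffices hb : X'.presheaf.map (CategoryTheory.homOfLE hW'W).op a = 0 by
    rw [← TopCat.Presheaf.germ_res_apply X'.presheaf (CategoryTheory.homOfLE hW'W) x hxW' a, hb,
      map_zero]
  refine local_claim f V hV U' hU' W' hW' e _ ?_
  have hle : W' ⊓ f ⁻¹ᵁ V ≤ W ⊓ f ⁻¹ᵁ V := inf_le_inf_right _ hW'W
  have h1 : X'.presheaf.map (CategoryTheory.homOfLE (inf_le_left : W' ⊓ f ⁻¹ᵁ V ≤ W')).op
      (X'.presheaf.map (CategoryTheory.homOfLE hW'W).op a) =
      X'.presheaf.map (CategoryTheory.homOfLE hle).op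
        (X'.presheaf.map (CategoryTheory.homOfLE (inf_le_left : W ⊓ f ⁻¹ᵁ V ≤ W)).op a) := by
    rw [← CommRingCat.comp_apply, ← CommRingCat.comp_apply, ← CategoryTheory.Functor.map_comp,
      ← CategoryTheory.Functor.map_comp]
    rfl
  rw [h1, ha, map_zero]

end Groth.Agent.S3844
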