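import Groth.Statements.S9219
import Groth.Agent.Lib.Helper13.LimDescent

set_option autoImplicit false
universe u
open CategoryTheory AlgebraicGeometry
open Lim

namespace Groth.Agent.S9219

open Groth.Agent.Lib.Helper13.LimDescent Limits in
set_option backward.isDefEq.respectTransparency false in
/-- Let S = lim S_i be a cofiltered limit of schemes with affine transition morphisms (the S_i are not
assumed quasi-compact or quasi-separated), i an index, and X_i → S_i, Y_i → S_i morphisms locally of
finite presentation with X_i, Y_i quasi-compact and quasi-separated; let X be the base change of X_i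
to S (a pullback square). If two S_i-morphisms f_i, g_i : X_i → Y_i have the same base change to S
(equivalently, the same composite with X → X_i), then for some index j over i their base changes to
S_j agree, i.e. they have the same composite with X_i ×_{S_i} S_j → X_i. This is the faithfulness
part of the equivalence between the colimit of the categories of quasi-compact quasi-separated
schemes locally of finite presentation over the S_i and the corresponding category over S. -/
theorem result {I : Type u} [SmallCategory I] [IsCofiltered I]
    (D : I ⥤ Scheme.{u}) (c : Limits.Cone D) (hc : Limits.IsLimit c)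
    [∀ (i j : I) (f : i ⟶ j), IsAffineHom (D.map f)] (i : I)
    {Xi Yi : Scheme.{u}} (xi : Xi ⟶ D.obj i) (yi : Yi ⟶ D.obj i)
    [CompactSpace Xi] [QuasiSeparatedSpace Xi] [LocallyOfFinitePresentation xi]
    [CompactSpace Yi] [QuasiSeparatedSpace Yi] [LocallyOfFinitePresentation yi]
    {X : Scheme.{u}} (qX : X ⟶ Xi) (pX : X ⟶ c.pt) (hX : IsPullback qX pX xi (c.π.app i))
    (fi gi : Xi ⟶ Yi) (hfi : fi ≫ yi = xi) (hgi : gi ≫ yi = xi) (h : qX ≫ fi = qX ≫ gi) :
    ∃ (j : I) (φ : j ⟶ i), pullback.fst xi (D.map φ) ≫ fi = pullback.fst xi (D.map φ) ≫ gi := by
  have hD : ∀ {a b : I} (f : a ⟶ b), IsAffineHom (D.map f) := fun f => inferInstance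
  -- the structure maps of the system of base changes
  let t : sys D i xi ⟶ (Functor.const (Over i)).obj (D.obj i) :=
    { app := fun k => pullback.snd (D.map k.hom) xi ≫ xi
      naturality := fun k k' a => by
        dsimp only [Functor.const_obj_obj, Functor.const_obj_map]
        rw [Category.comp_id, ← Category.assoc, sys_map_snd] }
  have e : pullback.snd (c.π.app i) xi = hX.flip.isoPullback.inv ≫ qX := by
    rw [Iso.eq_inv_comp]; exact hX.flip.isoPullback_hom_snd
  obtain ⟨k, hik, hk⟩ := Scheme.exists_hom_comp_eq_comp_of_locallyOfFiniteType
    (sys D i xi) t yi (sysCone D c i xi) (isLimitSysCone D c i xi hc) (i := top i)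
    (pullback.snd (D.map (top i).hom) xi ≫ fi) (pullback.snd (D.map (top i).hom) xi ≫ gi)
    (by simp only [t, Category.assoc, hfi]) (by simp only [t, Category.assoc, hgi])
    (by
      rw [← Category.assoc, ← Category.assoc, sysCone_π_snd, e, Category.assoc, Category.assoc, h])
  refine ⟨k.left, k.hom, ?_⟩
  rw [← Category.assoc, ← Category.assoc, sys_map_snd] at hk
  have e2 : pullback.fst xi (D.map k.hom) =
      (pullbackSymmetry xi (D.map k.hom)).hom ≫ pullback.snd (D.map k.hom) xi := by
    simp
  rw [e2, Category.assoc, Category.assoc, hk]

end Groth.Agent.S9219
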