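import Groth.Statements.S7615
import Groth.Agent.Lib.Helper38.SepOfGeomReduced
import Groth.Agent.Lib.Helper50.GeomReducedScheme
import Groth.Agent.Lib.Helper50.GeomIrredScheme

set_option autoImplicit false
universe u
open CategoryTheory CategoryTheory.Limits AlgebraicGeometry
open Variety

namespace Groth.Agent.S7615

/-- Let X be a proper variety over a field k (integral, separated, of finite type and proper over k) and
K = H^0(X, O_X), a k-algebra via the structure morphism. Then K is a field, finite over k; K/k is
separable when X is geometrically reduced over k, and purely inseparable when X is geometrically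
irreducible over k. -/
theorem result (k : Type u) [Field k] (X : Scheme.{u}) [X.Over (Spec (CommRingCat.of k))] [IsIntegral X] [IsProper (X ↘ (Spec (CommRingCat.of k)))] :
    letI := ((X ↘ (Spec (CommRingCat.of k))).appTop.hom.comp (Scheme.ΓSpecIso (CommRingCat.of k)).inv.hom : k →+* Γ(X, ⊤)).toAlgebra
    IsField ↑Γ(X, ⊤) ∧ Module.Finite k ↑Γ(X, ⊤) ∧
      (GeometricallyReduced (X ↘ (Spec (CommRingCat.of k))) → Algebra.IsSeparable k ↑Γ(X, ⊤)) ∧
      (GeometricallyIrreducible (X ↘ (Spec (CommRingCat.of k))) → IsPurelyInseparable k ↑Γ(X, ⊤)) := by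
  letI alg : Algebra k ↑Γ(X, ⊤) :=
    ((X ↘ (Spec (CommRingCat.of k))).appTop.hom.comp
      (Scheme.ΓSpecIso (CommRingCat.of k)).inv.hom : k →+* Γ(X, ⊤)).toAlgebra
  have hfield : IsField ↑Γ(X, ⊤) := isField_of_universallyClosed k (X ↘ (Spec (CommRingCat.of k)))
  have hfin : Module.Finite k ↑Γ(X, ⊤) := by
    have h1 : (X ↘ (Spec (CommRingCat.of k))).appTop.hom.Finite :=
      finite_appTop_of_universallyClosed k (X ↘ (Spec (CommRingCat.of k)))
    have h2 : ((Scheme.ΓSpecIso (CommRingCat.of k)).inv.hom).Finite :=
      RingHom.Finite.of_surjective _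
        (Scheme.ΓSpecIso (CommRingCat.of k)).symm.commRingCatIsoToRingEquiv.surjective
    exact RingHom.Finite.comp h1 h2
  refine ⟨hfield, hfin, ?_, ?_⟩
  · intro hred
    letI := hfield.toField
    -- the germ map to the function field
    have hgr := Groth.Agent.Lib.Helper50.isGeometricallyReduced_stalk_of_geometricallyReduced
      (X ↘ Spec (CommRingCat.of k)) (genericPoint X) (Curv2.stalkMap k X (genericPoint X))
      (Groth.Agent.Lib.Helper50.specMap_stalkMap_eq k (genericPoint X))
    letI : Algebra k (X.presheaf.stalk (genericPoint X)) :=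
      (Curv2.stalkMap k X (genericPoint X)).toAlgebra
    let ψ : ↑Γ(X, ⊤) →ₐ[k] X.presheaf.stalk (genericPoint X) :=
      { (X.presheaf.germ ⊤ (genericPoint X) trivial).hom with
        commutes' := fun _ => rfl }
    have hinj : Function.Injective ψ :=
      germ_injective_of_isIntegral X (U := ⊤) (genericPoint X) trivial
    haveI : Algebra.IsGeometricallyReduced k ↑Γ(X, ⊤) :=
      Algebra.IsGeometricallyReduced.of_injective ψ hinj
    exact Groth.Agent.Lib.Helper38.isSeparable_of_isGeometricallyReduced
  · intro hirr
    letI := hfield.toField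
    letI : Algebra k (X.residueField (genericPoint X)) :=
      (Curv2.resMap k X (genericPoint X)).toAlgebra
    let ψ : ↑Γ(X, ⊤) →ₐ[k] X.residueField (genericPoint X) :=
      { ((X.presheaf.germ ⊤ (genericPoint X) trivial) ≫ X.residue (genericPoint X)).hom with
        commutes' := fun _ => rfl }
    refine Groth.Agent.Lib.Helper38.isPurelyInseparable_of_sepClosedIn ψ fun α hα => ?_
    exact Groth.Agent.Lib.Helper50.mem_range_of_geometricallyIrreducible
      (X ↘ Spec (CommRingCat.of k)) (Curv2.resMap k X (genericPoint X))
      (Groth.Agent.Lib.Helper50.specMap_resMap_eq k (genericPoint X)) α hα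

end Groth.Agent.S7615
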