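import Groth.Statements.S14864
import Mathlib.RingTheory.WittVector.Domain
import Mathlib.RingTheory.WittVector.Identities
import Mathlib.RingTheory.WittVector.Truncated
import Mathlib.Tactic

set_option autoImplicit false
universe u
open CAlg

namespace Groth.Agent.S14864

section
variable {p : ℕ} [hp : Fact p.Prime] {R : Type u} [CommRing R]

local notation "𝕀" => RingHom.ker (WittVector.constantCoeff : WittVector p R →+* R)

/-- elements of the kernel of the zeroth component are Verschiebungs -/
theorem exists_verschiebung_of_mem {x : WittVector p R}
    (hx : x ∈ RingHom.ker (WittVector.constantCoeff : WittVector p R →+* R)) :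
    ∃ y : WittVector p R, x = WittVector.verschiebung y := by
  have h0 : x.coeff 0 = 0 := hx
  refine ⟨x.shift 1, ?_⟩
  have := WittVector.eq_iterate_verschiebung (x := x) (n := 1)
    (by intro i hi; interval_cases i; exact h0)
  simpa using this

theorem verschiebung_mem (y : WittVector p R) :
    WittVector.verschiebung y ∈ RingHom.ker (WittVector.constantCoeff : WittVector p R →+* R) := by
  rw [RingHom.mem_ker]
  exact WittVector.verschiebung_coeff_zero y

theorem verschiebung_mul_verschiebung (a b : WittVector p R) :
    WittVector.verschiebung a * WittVector.verschiebung b =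
      (p : WittVector p R) * WittVector.verschiebung (a * b) := by
  rw [← WittVector.verschiebung_mul_frobenius, WittVector.frobenius_verschiebung,
    ← mul_assoc, ← nsmul_eq_mul', map_nsmul, nsmul_eq_mul]

/-- `I * I ≤ (p) * I` -/
theorem ker_mul_ker_le :
    (RingHom.ker (WittVector.constantCoeff : WittVector p R →+* R)) *
      (RingHom.ker (WittVector.constantCoeff : WittVector p R →+* R)) ≤
    Ideal.span {(p : WittVector p R)} *
      (RingHom.ker (WittVector.constantCoeff : WittVector p R →+* R)) := by
  rw [Ideal.mul_le]
  intro r hr s hs
  obtain ⟨a, rfl⟩ := exists_verschiebung_of_mem hr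
  obtain ⟨b, rfl⟩ := exists_verschiebung_of_mem hs
  rw [verschiebung_mul_verschiebung]
  exact Ideal.mul_mem_mul (Ideal.mem_span_singleton_self _) (verschiebung_mem _)

theorem ker_pow_succ_le (n : ℕ) :
    (RingHom.ker (WittVector.constantCoeff : WittVector p R →+* R)) ^ (n + 1) ≤
    Ideal.span {(p : WittVector p R)} ^ n *
      (RingHom.ker (WittVector.constantCoeff : WittVector p R →+* R)) := by
  induction n with
  | zero => simp
  | succ n ih =>
    calc (RingHom.ker (WittVector.constantCoeff : WittVector p R →+* R)) ^ (n + 1 + 1)
        = (RingHom.ker (WittVector.constantCoeff : WittVector p R →+* R)) ^ (n + 1) *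
          (RingHom.ker (WittVector.constantCoeff : WittVector p R →+* R)) := pow_succ _ _
      _ ≤ (Ideal.span {(p : WittVector p R)} ^ n *
            (RingHom.ker (WittVector.constantCoeff : WittVector p R →+* R))) *
          (RingHom.ker (WittVector.constantCoeff : WittVector p R →+* R)) :=
          Ideal.mul_mono_left ih
      _ = Ideal.span {(p : WittVector p R)} ^ n *
            ((RingHom.ker (WittVector.constantCoeff : WittVector p R →+* R)) *
            (RingHom.ker (WittVector.constantCoeff : WittVector p R →+* R))) := mul_assoc _ _ _
      _ ≤ Ideal.span {(p : WittVector p R)} ^ n *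
            (Ideal.span {(p : WittVector p R)} *
            (RingHom.ker (WittVector.constantCoeff : WittVector p R →+* R))) :=
          Ideal.mul_mono_right ker_mul_ker_le
      _ = Ideal.span {(p : WittVector p R)} ^ (n + 1) *
            (RingHom.ker (WittVector.constantCoeff : WittVector p R →+* R)) := by
          rw [← mul_assoc, ← pow_succ]

theorem iterate_frobenius_natCast_pow (N k : ℕ) :
    (WittVector.frobenius^[k]) ((p : WittVector p R) ^ N) = (p : WittVector p R) ^ N := by
  apply Function.iterate_fixed
  rw [map_pow, map_natCast]

/-- multiplication by `p^N` (with `p^N = 0` in `R`) pushes `I_k` into `I_{k+1}` -/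
theorem pow_mul_mem_ker_truncate (N : ℕ) (hN : (p : R) ^ N = 0) (k : ℕ) (x : WittVector p R)
    (hx : x ∈ RingHom.ker (WittVector.truncate (p := p) (R := R) k)) :
    (p : WittVector p R) ^ N * x ∈ RingHom.ker (WittVector.truncate (p := p) (R := R) (k + 1)) := by
  rw [WittVector.mem_ker_truncate] at hx ⊢
  have hxV := WittVector.eq_iterate_verschiebung (x := x) (n := k) hx
  have e : (p : WittVector p R) ^ N * x =
      (WittVector.verschiebung^[k]) (x.shift k * (p : WittVector p R) ^ N) := by
    conv_lhs => rw [hxV]
    rw [mul_comm, WittVector.iterate_verschiebung_mul_left, iterate_frobenius_natCast_pow]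
  intro i hi
  rw [e]
  rcases Nat.lt_or_ge i k with h | h
  · exact WittVector.iterate_verschiebung_coeff_eq_zero _ h
  · have hik : i = 0 + k := by omega
    rw [hik, WittVector.iterate_verschiebung_coeff]
    have : (x.shift k * (p : WittVector p R) ^ N).coeff 0 =
        WittVector.constantCoeff (x.shift k * (p : WittVector p R) ^ N) := rfl
    rw [this, map_mul, map_pow, map_natCast, hN, mul_zero]

theorem pow_mem_ker_truncate (N : ℕ) (hN : (p : R) ^ N = 0) (n : ℕ) :
    (p : WittVector p R) ^ (N * n) ∈ RingHom.ker (WittVector.truncate (p := p) (R := R) n) := by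
  induction n with
  | zero =>
    rw [WittVector.mem_ker_truncate]
    intro i hi; omega
  | succ n ih =>
    rw [Nat.mul_succ, pow_add, mul_comm]
    exact pow_mul_mem_ker_truncate N hN n _ ih

end

/-- Let p be a prime and R a commutative ring in which p is nilpotent; write W = W(R) for the p-typical
Witt vectors, I ⊆ W for the kernel of the projection onto the zeroth component, and I_n ⊆ W for the
kernel of the truncation W → W_n(R). The p-adic topology on W equals its I-adic topology — every
power of the ideal pW contains some power of I and every power of I contains some power of pW — and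
this common topology is finer than the V-adic one: every I_n contains some power of pW. -/
theorem result (p : ℕ) [Fact p.Prime] (R : Type u) [CommRing R]
    (hp : IsNilpotent (p : R)) :
    (∀ n : ℕ, ∃ m : ℕ, (RingHom.ker (WittVector.constantCoeff : WittVector p R →+* R)) ^ m ≤ Ideal.span {(p : WittVector p R)} ^ n) ∧
      (∀ n : ℕ, ∃ m : ℕ, Ideal.span {(p : WittVector p R)} ^ m ≤ (RingHom.ker (WittVector.constantCoeff : WittVector p R →+* R)) ^ n) ∧
        ∀ n : ℕ, ∃ m : ℕ, Ideal.span {(p : WittVector p R)} ^ m ≤ RingHom.ker (WittVector.truncate (p := p) (R := R) n) := by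
  obtain ⟨N, hN⟩ := hp
  refine ⟨?_, ?_, ?_⟩
  · intro n
    refine ⟨n + 1, (ker_pow_succ_le n).trans Ideal.mul_le_left⟩
  · intro n
    refine ⟨N * n, ?_⟩
    have hmem : (p : WittVector p R) ^ N ∈
        RingHom.ker (WittVector.constantCoeff : WittVector p R →+* R) := by
      rw [RingHom.mem_ker, map_pow, map_natCast, hN]
    rw [pow_mul, Ideal.span_singleton_pow]
    apply Ideal.pow_right_mono
    rw [Ideal.span_le, Set.singleton_subset_iff]
    exact hmem
  · intro n
    refine ⟨N * n, ?_⟩
    rw [Ideal.span_singleton_pow, Ideal.span_le, Set.singleton_subset_iff]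
    exact pow_mem_ker_truncate N hN n

end Groth.Agent.S14864
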