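import Groth.Statements.S2987
import Mathlib
import Groth.Agent.Lib.Helper3.FiniteEtalePairLift
import Groth.Agent.Lib.Helper3.Henselian
import Groth.Agent.Lib.Helper77.IsoTriv6
import Groth.Agent.Lib.Helper77.DefRigid4

set_option autoImplicit false
universe u
open TensorProduct SGA3b
open SGA3b

namespace Groth.Agent.S2987

open TensorProduct Groth.Agent.Lib.Helper77 Groth.Agent.Lib.Helper77.MultBC in
/-- the local step for quasi-isotriviality: lift an étale chart over `(R/I)_f` to `R_f`. -/
theorem quasiIsotrivialConst_lift (R : Type u) [CommRing R] (A : Type u) [CommRing A]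
    [HopfAlgebra R A] [Module.Flat R A] (I : Ideal R) (hI : IsNilpotent I) (f : R)
    (h0 : IsQuasiIsotrivialConst (Localization.Away (Ideal.Quotient.mk I f))
      (Localization.Away (Ideal.Quotient.mk I f) ⊗[R ⧸ I] ((R ⧸ I) ⊗[R] A))) :
    IsQuasiIsotrivialConst (Localization.Away f) (Localization.Away f ⊗[R] A) := by
  obtain ⟨R₀', _, _, het, hff, hd⟩ := h0
  have hI' : ∀ x ∈ I, IsNilpotent x := by
    intro x hx
    obtain ⟨n, hn⟩ := hI
    exact ⟨n, by have := Ideal.pow_mem_pow hx n; rwa [hn] at this⟩
  have hmapnil : ∀ {X Y : Type u} [CommRing X] [CommRing Y] (g : X →+* Y) (J : Ideal X),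
      IsNilpotent J → IsNilpotent (Ideal.map g J) := by
    intro X Y _ _ g J hJ
    obtain ⟨n, hn⟩ := hJ
    exact ⟨n, by rw [← Ideal.map_pow, hn, Ideal.zero_eq_bot, Ideal.map_bot]; rfl⟩
  -- the reduction map on localizations
  let π : Localization.Away f →+* Localization.Away (Ideal.Quotient.mk I f) :=
    Localization.awayMap (Ideal.Quotient.mk I) f
  have hπ : Function.Surjective π := by
    rw [Localization.awayMap_surjective_iff]
    intro a
    obtain ⟨b, rfl⟩ := Ideal.Quotient.mk_surjective a
    exact ⟨b, 0, by rw [pow_zero, one_mul]⟩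
  have hπalg : ∀ r : R, π (algebraMap R (Localization.Away f) r) =
      algebraMap (R ⧸ I) (Localization.Away (Ideal.Quotient.mk I f)) (Ideal.Quotient.mk I r) := by
    intro r
    change Localization.awayMap (Ideal.Quotient.mk I) f (algebraMap R (Localization.Away f) r) = _
    rw [Localization.awayMap, IsLocalization.Away.map, IsLocalization.map_eq]
  have hk : RingHom.ker π =
      (RingHom.ker (Ideal.Quotient.mk I)).map (algebraMap R (Localization.Away f)) :=
    IsLocalization.ker_map (Localization.Away (Ideal.Quotient.mk I f)) (Ideal.Quotient.mk I)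
      (Submonoid.map_powers (Ideal.Quotient.mk I) f)
  have hJnil : ∀ x ∈ RingHom.ker π, IsNilpotent x := by
    rw [hk, Ideal.mk_ker]
    exact GLLift.nil_map R (Localization.Away f) hI'
  have hJnil' : IsNilpotent (RingHom.ker π) := by
    rw [hk, Ideal.mk_ker]
    exact hmapnil _ _ hI
  -- `R₀'` as an étale algebra over `K / J`
  let ι : (Localization.Away f ⧸ RingHom.ker π) ≃+* Localization.Away (Ideal.Quotient.mk I f) :=
    RingHom.quotientKerEquivOfSurjective hπ
  letI : Algebra (Localization.Away f ⧸ RingHom.ker π) (Localization.Away (Ideal.Quotient.mk I f)) :=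
    ι.toRingHom.toAlgebra
  letI : Algebra (Localization.Away f ⧸ RingHom.ker π) R₀' :=
    ((algebraMap (Localization.Away (Ideal.Quotient.mk I f)) R₀').comp ι.toRingHom).toAlgebra
  haveI : IsScalarTower (Localization.Away f ⧸ RingHom.ker π)
      (Localization.Away (Ideal.Quotient.mk I f)) R₀' := IsScalarTower.of_algebraMap_eq (fun _ => rfl)
  haveI : Algebra.Etale (Localization.Away f ⧸ RingHom.ker π)
      (Localization.Away (Ideal.Quotient.mk I f)) :=
    Algebra.Etale.of_equiv (AlgEquiv.ofRingEquiv (f := ι) (fun _ => rfl))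
  haveI : Algebra.Etale (Localization.Away (Ideal.Quotient.mk I f)) R₀' := het
  haveI : Algebra.Etale (Localization.Away f ⧸ RingHom.ker π) R₀' :=
    Algebra.Etale.comp _ (Localization.Away (Ideal.Quotient.mk I f)) _
  obtain ⟨R', _, _, het', ψ, hψsurj, hψker, hψalg⟩ :=
    Groth.Agent.Lib.Helper3.exists_etale_lift_of_quotient (RingHom.ker π) R₀'
  have hψalg' : ∀ x, ψ (algebraMap (Localization.Away f) R' x) =
      algebraMap (Localization.Away (Ideal.Quotient.mk I f)) R₀' (π x) := by
    intro x
    rw [hψalg]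
    change algebraMap (Localization.Away (Ideal.Quotient.mk I f)) R₀'
      (ι (Ideal.Quotient.mk _ x)) = _
    rw [RingHom.quotientKerEquivOfSurjective_apply_mk]
  -- algebra structures over `R`
  letI : Algebra R R' :=
    ((algebraMap (Localization.Away f) R').comp (algebraMap R (Localization.Away f))).toAlgebra
  haveI : IsScalarTower R (Localization.Away f) R' := IsScalarTower.of_algebraMap_eq (fun _ => rfl)
  letI : Algebra (R ⧸ I) R₀' :=
    ((algebraMap (Localization.Away (Ideal.Quotient.mk I f)) R₀').comp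
      (algebraMap (R ⧸ I) (Localization.Away (Ideal.Quotient.mk I f)))).toAlgebra
  haveI : IsScalarTower (R ⧸ I) (Localization.Away (Ideal.Quotient.mk I f)) R₀' :=
    IsScalarTower.of_algebraMap_eq (fun _ => rfl)
  letI : Algebra R R₀' := ((algebraMap (R ⧸ I) R₀').comp (Ideal.Quotient.mk I)).toAlgebra
  haveI : IsScalarTower R (R ⧸ I) R₀' := IsScalarTower.of_algebraMap_eq (fun _ => rfl)
  let ψa : R' →ₐ[R] R₀' :=
    { ψ with
      commutes' := by
        intro r
        change ψ (algebraMap (Localization.Away f) R' (algebraMap R (Localization.Away f) r)) = _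
        rw [hψalg', hπalg]
        rfl }
  have hψa : ∀ x, ψa x = ψ x := fun _ => rfl
  have hnil : IsNilpotent (RingHom.ker ψa) := by
    have h1 : RingHom.ker ψa = RingHom.ker ψ := rfl
    rw [h1, hψker]
    exact hmapnil _ _ hJnil'
  have hd1 : IsDiag R₀' (R₀' ⊗[R ⧸ I] ((R ⧸ I) ⊗[R] A)) :=
    isDiag_of_equiv (cancelBC (R ⧸ I) (Localization.Away (Ideal.Quotient.mk I f)) R₀' _) hd
  have hd2 : IsDiag R₀' (R₀' ⊗[R] A) := isDiag_of_equiv (cancelBC R (R ⧸ I) R₀' A) hd1
  have hdiag : IsDiag R' (R' ⊗[R] A) :=
    DefRigid.isDiag_lift_of_flat A R' R₀' ψa (fun y => hψsurj y) hnil hd2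
  have hdiag' : IsDiag R' (R' ⊗[Localization.Away f] (Localization.Away f ⊗[R] A)) :=
    isDiag_of_equiv (cancelBC R (Localization.Away f) R' A).symm hdiag
  haveI : Module.FaithfullyFlat (Localization.Away (Ideal.Quotient.mk I f)) R₀' := hff
  haveI : Algebra.Etale (Localization.Away f) R' := het'
  have hff' : Module.FaithfullyFlat (Localization.Away f) R' :=
    IsoTriv6.faithfullyFlat_of_lift π R' R₀' hπ hJnil ψ hψalg'
  exact ⟨R', inferInstance, inferInstance, het', hff', hdiag'⟩

open TensorProduct in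
/-- quasi-isotriviality lifts along a nil ideal. -/
theorem quasiIsotrivial_lift (R : Type u) [CommRing R] (A : Type u) [CommRing A] [HopfAlgebra R A]
    [Module.Flat R A] (I : Ideal R) (hI : IsNilpotent I)
    (h0 : IsQuasiIsotrivial (R ⧸ I) ((R ⧸ I) ⊗[R] A)) : IsQuasiIsotrivial R A := by
  obtain ⟨s₀, hs₀, hloc₀⟩ := h0
  have hI' : ∀ x ∈ I, IsNilpotent x := by
    intro x hx
    obtain ⟨n, hn⟩ := hI
    exact ⟨n, by have := Ideal.pow_mem_pow hx n; rwa [hn] at this⟩
  refine ⟨{f : R | Ideal.Quotient.mk I f ∈ s₀}, ?_, ?_⟩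
  · have h1 : Ideal.map (Ideal.Quotient.mk I) (Ideal.span {f : R | Ideal.Quotient.mk I f ∈ s₀}) = ⊤ := by
      rw [Ideal.map_span, ← hs₀]
      congr 1
      ext y
      constructor
      · rintro ⟨f, hf, rfl⟩
        exact hf
      · intro hy
        obtain ⟨f, rfl⟩ := Ideal.Quotient.mk_surjective y
        exact ⟨f, hy, rfl⟩
    have h2 : (1 : R ⧸ I) ∈ Ideal.map (Ideal.Quotient.mk I)
        (Ideal.span {f : R | Ideal.Quotient.mk I f ∈ s₀}) := by rw [h1]; trivial
    rw [Ideal.mem_map_iff_of_surjective _ Ideal.Quotient.mk_surjective] at h2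
    obtain ⟨j, hj, hj1⟩ := h2
    have h3 : IsNilpotent (1 - j) := by
      apply hI'
      rw [← Ideal.Quotient.eq_zero_iff_mem, map_sub, map_one, hj1, sub_self]
    have h4 : IsUnit j := by
      have := h3.isUnit_one_sub
      rwa [sub_sub_cancel] at this
    exact Ideal.eq_top_of_isUnit_mem _ hj h4
  · intro f hf
    exact quasiIsotrivialConst_lift R A I hI f (hloc₀ _ hf)

/-- Let R be a ring, I a nilpotent ideal, and H = Spec A an affine R-group with A flat over R. If the
base change of H to R/I is a quasi-isotrivial group of multiplicative type, then so is H. (Affine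
group schemes over an affine base are taken in Hopf-algebra form; base change is the tensor
product.) -/
theorem result (R : Type u) [CommRing R] (A : Type u) [CommRing A] [HopfAlgebra R A] [Module.Flat R A] (I : Ideal R) (hI : IsNilpotent I)
    (h0 : IsQuasiIsotrivial (R ⧸ I) ((R ⧸ I) ⊗[R] A)) : IsQuasiIsotrivial R A := by
  exact quasiIsotrivial_lift R A I hI h0

end Groth.Agent.S2987
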