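import Groth.Statements.S15898
import Mathlib
import Groth.Agent.Lib.Helper50.SpecConnected
import Groth.Agent.Lib.Helper77.IsoTriv1
import Groth.Agent.Lib.Helper77.IsoTriv2
import Groth.Agent.Lib.Helper77.IsoTriv3
import Groth.Agent.Lib.Helper77.IsoTriv4

set_option autoImplicit false
universe u
open SGA3b

namespace Groth.Agent.S15898

open TensorProduct in
/-- a splitting over `T` is inherited by any `T`-algebra. -/
theorem split_transfer {R T R' S : Type u} [CommRing R] [CommRing T] [CommRing R'] [CommRing S]
    [Algebra R T] [Algebra R R'] [Algebra R S] (f : T →ₐ[R] R')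
    (h : Algebra.IsFiniteSplit T (T ⊗[R] S)) : Algebra.IsFiniteSplit R' (R' ⊗[R] S) := by
  let _ : Algebra T R' := f.toRingHom.toAlgebra
  have : IsScalarTower R T R' := IsScalarTower.of_algebraMap_eq (fun x => (f.commutes x).symm)
  exact Algebra.IsFiniteSplit.of_algEquiv (Algebra.TensorProduct.cancelBaseChange R T R' R' S)

open TensorProduct CartDual Groth.Agent.Lib.Helper77 in
/-- `(⟹)`: étale dual over a connected base implies isotrivial. -/
theorem isIsotrivial_of_etale (R : Type u) [CommRing R]
    [ConnectedSpace (PrimeSpectrum R)] (A : Type u) [CommRing A] [HopfAlgebra R A]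
    [Coalgebra.IsCocomm R A] [Module.Finite R A] [Module.Projective R A]
    [Algebra.Etale R (CartDual.D R A)] : SGA3b.IsIsotrivial R A := by
  obtain ⟨p₀⟩ := (inferInstance : Nonempty (PrimeSpectrum R))
  have hn : Module.rankAtStalk (R := R) (D R A) =
      ((Module.rankAtStalk (R := R) (D R A) p₀ : ℕ) : PrimeSpectrum R → ℕ) := by
    ext p
    exact IsoTriv3.rank_const R (D R A) p p₀
  obtain ⟨T, _, _, _, _, _, hsplit⟩ := Algebra.IsFiniteSplit.exists_tensorProduct_of_etale hn
  have : Nontrivial R :=
    (Groth.Agent.Lib.Helper50.connectedSpace_primeSpectrum_iff.mp inferInstance).1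
  have : Nontrivial T := (FaithfulSMul.algebraMap_injective R T).nontrivial
  obtain ⟨R', _, _, f, het, hfin, hff, hconn⟩ := IsoTriv3.exists_connected_piece R T
  have h5 : Algebra.IsFiniteSplit R' (R' ⊗[R] D R A) := split_transfer f hsplit
  obtain ⟨m, ⟨e⟩⟩ := h5.nonempty_algEquiv_fun
  have hR' := Groth.Agent.Lib.Helper50.connectedSpace_primeSpectrum_iff.mp hconn
  have : Nontrivial R' := hR'.1
  exact ⟨R', inferInstance, inferInstance, het, hfin, hff,
    IsoTriv2.isDiag_of_split ((IsoTriv1.dualBC R R' A).symm.trans e) hR'.2⟩

open TensorProduct CartDual Groth.Agent.Lib.Helper77 in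
/-- `(⟸)`: isotrivial implies étale dual. -/
theorem etale_of_isIsotrivial (R : Type u) [CommRing R] [Nontrivial R]
    (A : Type u) [CommRing A] [HopfAlgebra R A]
    [Coalgebra.IsCocomm R A] [Module.Finite R A] [Module.Projective R A]
    (h : SGA3b.IsIsotrivial R A) : Algebra.Etale R (CartDual.D R A) := by
  obtain ⟨R', _, _, het, hfin, hff, ⟨M, _, ⟨E⟩⟩⟩ := h
  have : Nontrivial R' := (FaithfulSMul.algebraMap_injective R R').nontrivial
  have : Module.Finite R' (MonoidAlgebra R' M) := Module.Finite.equiv E.toLinearEquiv
  have : Finite M := Module.Finite.finite_basis (MonoidAlgebra.basis M R')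
  have : Algebra.Etale R' (D R' (R' ⊗[R] A)) :=
    Algebra.Etale.of_equiv (IsoTriv4.dualCongr E).symm
  have : Algebra.Etale R' (R' ⊗[R] D R A) := Algebra.Etale.of_equiv (IsoTriv1.dualBC R R' A).symm
  exact Algebra.Etale.of_etale_tensorProduct_of_faithfullyFlat R'

/-- Let R be a Noetherian ring whose spectrum is connected and A a commutative and cocommutative Hopf
algebra over R which is finitely generated and projective as an R-module (a finite flat commutative
group scheme G = Spec A over the connected base S = Spec R). Then G is multiplicative, i.e. the dual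
Hopf algebra Hom_R(A, R) of the Cartier dual G^D is étale over R, if and only if A is isotrivial:
for some finite étale faithfully flat R-algebra R' the base change R' ⊗_R A is isomorphic as an
R'-bialgebra to the group algebra R'[M] of a commutative group M (G becomes a diagonalizable group
after a finite étale surjective base change). -/
theorem result (R : Type u) [CommRing R] [IsNoetherianRing R]
    [ConnectedSpace (PrimeSpectrum R)] (A : Type u) [CommRing A] [HopfAlgebra R A] [Coalgebra.IsCocomm R A]
    [Module.Finite R A] [Module.Projective R A] :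
    Algebra.Etale R (CartDual.D R A) ↔ SGA3b.IsIsotrivial R A := by
  have : Nontrivial R :=
    (Groth.Agent.Lib.Helper50.connectedSpace_primeSpectrum_iff.mp inferInstance).1
  exact ⟨fun h => by have := h; exact isIsotrivial_of_etale R A, etale_of_isIsotrivial R A⟩

end Groth.Agent.S15898
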