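import Groth.Statements.S4454
import Groth.Agent.Lib.Helper38.FieldNagata
import Groth.Agent.Lib.Helper38.NormL2

set_option autoImplicit false
universe u
open CategoryTheory CategoryTheory.Limits AlgebraicGeometry
open EGA2

namespace Groth.Agent.S4454

/-- Case of an integral curve and a single field: let X be an integral algebraic curve over a field k, K
a finite extension of its field of rational functions and X' the integral closure of X in K (the
normalization of X along the morphism g : Spec K ⟶ X through the generic point). Then the canonical
morphism X' ⟶ X is finite and X' is a normal algebraic curve over k (local rings integrally closed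
domains, of dimension one at closed points). -/
theorem result (k : Type u) [Field k] (X : Scheme.{u})
    [X.Over (Spec (CommRingCat.of k))] [LocallyOfFiniteType (X ↘ (Spec (CommRingCat.of k)))]
    [QuasiCompact (X ↘ (Spec (CommRingCat.of k)))] [IsSeparated (X ↘ (Spec (CommRingCat.of k)))] [IsIntegral X]
    (hX : ∀ x : X, IsClosed ({x} : Set X) → ringKrullDim (X.presheaf.stalk x) = 1)
    (K : Type u) [Field K] (φ : X.functionField →+* K) (hφ : φ.Finite) (g : Spec (CommRingCat.of K) ⟶ X)
    (hg : g = Spec.map (CommRingCat.ofHom φ) ≫ X.fromSpecStalk (genericPoint X)) [QuasiCompact g] [QuasiSeparated g] :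
    IsFinite g.fromNormalization ∧ Pi1.IsNormalScheme g.normalization ∧
      ∀ x' : g.normalization, IsClosed ({x'} : Set g.normalization) → ringKrullDim (g.normalization.presheaf.stalk x') = 1 := by
  subst hg
  letI := φ.toAlgebra
  haveI : FiniteDimensional X.functionField K := hφ
  haveI hqc : QuasiCompact (Groth.Agent.Lib.Helper38.NormL.fL X K) := ‹QuasiCompact _›
  haveI hqs : QuasiSeparated (Groth.Agent.Lib.Helper38.NormL.fL X K) := ‹QuasiSeparated _›
  have hfin : IsFinite (Groth.Agent.Lib.Helper38.NormL.fL X K).fromNormalization := by
    refine Groth.Agent.Lib.Helper38.NormL.isFinite_of_finite X K (fun U hU _ => ?_)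
    letI algL : Algebra Γ(X, U) K :=
      ((algebraMap X.functionField K).comp (algebraMap Γ(X, U) X.functionField)).toAlgebra
    haveI := functionField_isFractionRing_of_isAffineOpen X U hU
    haveI : IsScalarTower Γ(X, U) X.functionField K := IsScalarTower.of_algebraMap_eq' rfl
    have h := LocallyOfFiniteType.finiteType_appLE (f := (X ↘ (Spec (CommRingCat.of k))))
      (isAffineOpen_top _) hU le_top
    have h2 : (((X ↘ (Spec (CommRingCat.of k))).appLE ⊤ U le_top).hom.comp
        (Scheme.ΓSpecIso (CommRingCat.of k)).inv.hom).FiniteType :=
      h.comp (RingHom.FiniteType.of_surjective _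
        (ConcreteCategory.bijective_of_isIso (Scheme.ΓSpecIso (CommRingCat.of k)).inv).2)
    letI := (((X ↘ (Spec (CommRingCat.of k))).appLE ⊤ U le_top).hom.comp
      (Scheme.ΓSpecIso (CommRingCat.of k)).inv.hom).toAlgebra
    haveI : Algebra.FiniteType k Γ(X, U) := h2
    exact Groth.Agent.Lib.Helper48.finite_integralClosure_of_finiteType_field k Γ(X, U)
      X.functionField K
  refine ⟨hfin, Groth.Agent.Lib.Helper38.NormL.isNormalScheme X K, fun x' hx' => ?_⟩
  apply Groth.Agent.Lib.Helper38.NormL.ringKrullDim_stalk_eq_one X K x'
  apply hX
  have h1 := (Groth.Agent.Lib.Helper38.NormL.fL X K).fromNormalization.isClosedMap _ hx'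
  rwa [Set.image_singleton] at h1

end Groth.Agent.S4454
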