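import Groth.Statements.S2345
import Mathlib
import Groth.Agent.S4454
import Groth.Agent.S4442
import Groth.Agent.Lib.Helper38.NormL3
import Groth.Agent.Lib.Helper78.P1Curve
import Groth.Agent.Lib.Helper78.P1Field

set_option autoImplicit false
universe u
open CategoryTheory CategoryTheory.Limits AlgebraicGeometry
attribute [local instance] Curv2.stalkAlgebra
open EGA2

namespace Groth.Agent.S2345

open Groth.Agent.Lib.Helper78 Groth.Agent.Lib.Helper38 in
/-- The generic point is the only point of an integral scheme whose closure is an irreducible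
component. -/
theorem eq_genericPoint_of_mem_irreducibleComponents (X : Scheme.{u}) [IsIntegral X] (x : X)
    (hx : closure ({x} : Set X) ∈ irreducibleComponents (X : Type u)) : x = genericPoint X := by
  rw [irreducibleComponents_eq_singleton, Set.mem_singleton_iff] at hx
  exact (show IsGenericPoint x Set.univ from hx).eq (genericPoint_spec X)

/-- Let K be a finitely generated field extension of k of transcendence degree one. Then there is an
integral normal algebraic curve X, proper over k, whose function field is isomorphic to K compatibly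
with the maps from k. -/
theorem result (k : Type u) [Field k] (K : Type u) [Field K] [Algebra k K]
    (hfg : (⊤ : IntermediateField k K).FG) (htr : Algebra.trdeg k K = 1) :
    ∃ (X : Scheme.{u}) (_ : X.Over (Spec (CommRingCat.of k))) (_ : IsIntegral X), IsProper (X ↘ (Spec (CommRingCat.of k))) ∧ Pi1.IsNormalScheme X ∧
      (∀ x : X, IsClosed ({x} : Set X) → ringKrullDim (X.presheaf.stalk x) = 1) ∧
      ∃ e : X.presheaf.stalk (genericPoint X) ≃+* K, ∀ c : k, e (algebraMap k (X.presheaf.stalk (genericPoint X)) c) = algebraMap k K c := by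
  classical
  obtain ⟨t, ht⟩ : ∃ t : K, Transcendental k t := by
    have h1 : Algebra.Transcendental k K :=
      trdeg_ne_zero_iff.mp (by rw [htr]; exact one_ne_zero)
    exact h1.transcendental
  let Pk : Scheme.{u} := Groth.Agent.Lib.Helper78.P1Curve.P k
  letI overP : Pk.Over (Spec (CommRingCat.of k)) := ⟨Groth.Agent.Lib.Helper78.P1Curve.toSpec k⟩
  haveI hproper : IsProper (Pk ↘ Spec (CommRingCat.of k)) :=
    inferInstanceAs (IsProper (Groth.Agent.Lib.Helper78.P1Curve.toSpec k))
  haveI : IsIntegral Pk := inferInstanceAs (IsIntegral (Groth.Agent.Lib.Helper78.P1Curve.P k))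
  obtain ⟨φ, hφ1, hφ2, hφ3⟩ := Groth.Agent.Lib.Helper78.P1Curve.exists_ringHom_of_closedPoint_eq
    (k := k) Pk (Groth.Agent.Lib.Helper78.P1Curve.pt k K t)
    (Groth.Agent.Lib.Helper78.P1Curve.pt_toSpec k K t) (genericPoint Pk)
    (Groth.Agent.Lib.Helper78.P1Curve.pt_closedPoint k ht)
  have ht' : t ∈ Set.range φ := by
    rw [hφ3]; exact Groth.Agent.Lib.Helper78.P1Curve.mem_range_stalkClosedPointTo_pt k K t
  letI algF : Algebra Pk.functionField K := φ.toAlgebra
  letI algkF : Algebra k Pk.functionField := Curv2.stalkAlgebra k Pk (genericPoint Pk)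
  haveI : IsScalarTower k Pk.functionField K :=
    IsScalarTower.of_algebraMap_eq (fun c => (hφ2 c).symm)
  have hfin : Module.Finite Pk.functionField K :=
    Groth.Agent.Lib.Helper78.P1Field.finite_of_tower hfg htr ht ht'
  have hX : ∀ x : Pk, IsClosed ({x} : Set Pk) → ringKrullDim (Pk.presheaf.stalk x) = 1 := by
    refine (Groth.Agent.S4442.result k Pk).mp ?_
    intro x hx
    obtain rfl := eq_genericPoint_of_mem_irreducibleComponents Pk x hx
    -- the residue map at the generic point is bijective
    have hbij : Function.Bijective (Pk.residue (genericPoint Pk)).hom :=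
      ⟨RingHom.injective _, Scheme.residue_surjective Pk (genericPoint Pk)⟩
    let eres : Pk.functionField ≃+* Pk.residueField (genericPoint Pk) :=
      RingEquiv.ofBijective _ hbij
    letI : Algebra k (Pk.residueField (genericPoint Pk)) := Curv2.resAlgebra k Pk (genericPoint Pk)
    let θ : Pk.residueField (genericPoint Pk) →ₐ[k] K :=
      { toRingHom := φ.comp eres.symm.toRingHom
        commutes' := by
          intro c
          have h1 : algebraMap k (Pk.residueField (genericPoint Pk)) c =
              eres (Curv2.stalkMap k Pk (genericPoint Pk) c) := rfl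
          simp only [RingHom.toMonoidHom_eq_coe, OneHom.toFun_eq_coe, MonoidHom.toOneHom_coe,
            MonoidHom.coe_coe, RingHom.coe_comp, Function.comp_apply]
          rw [h1]
          simp only [RingEquiv.toRingHom_eq_coe, RingHom.coe_coe, RingEquiv.symm_apply_apply]
          exact hφ2 c }
    refine Groth.Agent.Lib.Helper78.P1Field.trdeg_eq_one htr θ ht ?_
    obtain ⟨z, hz⟩ := ht'
    exact ⟨eres z, by simp [θ, hz]⟩
  have hφfin : φ.Finite := hfin
  let g : Spec (CommRingCat.of K) ⟶ Pk := Groth.Agent.Lib.Helper38.NormL.fL Pk K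
  have hg : g = Spec.map (CommRingCat.ofHom φ) ≫ Pk.fromSpecStalk (genericPoint Pk) := rfl
  have hgpt : g = Groth.Agent.Lib.Helper78.P1Curve.pt k K t := hg.trans hφ1
  haveI : IsNoetherian (Spec (CommRingCat.of K)) := inferInstance
  haveI hqc : QuasiCompact g := inferInstance
  haveI hqs : QuasiSeparated g := inferInstance
  obtain ⟨hgfin, hnormal, hdim⟩ := Groth.Agent.S4454.result k Pk hX K φ hφfin g hg
  let X' : Scheme.{u} := g.normalization
  letI overX' : X'.Over (Spec (CommRingCat.of k)) :=
    ⟨g.fromNormalization ≫ (Pk ↘ Spec (CommRingCat.of k))⟩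
  haveI hint : IsIntegral X' := inferInstanceAs (IsIntegral g.normalization)
  refine ⟨X', overX', hint, ?_, hnormal, hdim, ?_⟩
  · change IsProper (g.fromNormalization ≫ (Pk ↘ Spec (CommRingCat.of k)))
    infer_instance
  · have hf : g.toNormalization ≫ (X' ↘ Spec (CommRingCat.of k)) =
        Spec.map (CommRingCat.ofHom (algebraMap k K)) := by
      change g.toNormalization ≫ g.fromNormalization ≫ (Pk ↘ Spec (CommRingCat.of k)) = _
      rw [Scheme.Hom.toNormalization_fromNormalization_assoc, hgpt]
      exact Groth.Agent.Lib.Helper78.P1Curve.pt_toSpec k K t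
    obtain ⟨φ', -, hφ'2, hφ'3⟩ := Groth.Agent.Lib.Helper78.P1Curve.exists_ringHom_of_closedPoint_eq
      (k := k) X' g.toNormalization hf (genericPoint X')
      (Groth.Agent.Lib.Helper38.NormL.toNormalization_closedPoint Pk K)
    have hsurj : Function.Surjective φ' := by
      rw [← Set.range_eq_univ, hφ'3,
        (Groth.Agent.Lib.Helper38.NormL.stalkClosedPointTo_props Pk K).2]
      ext y
      simp only [Set.mem_ofPred_eq, Set.mem_univ, iff_true]
      exact Algebra.IsIntegral.isIntegral y
    refine ⟨RingEquiv.ofBijective φ' ⟨RingHom.injective φ', hsurj⟩, fun c => ?_⟩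
    exact hφ'2 c

end Groth.Agent.S2345
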