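import Groth.Statements.S4443
import Groth.Agent.Lib.Helper20.Curve

set_option autoImplicit false
universe u
open CategoryTheory CategoryTheory.Limits AlgebraicGeometry
open EGA2

namespace Groth.Agent.S4443

open Groth.Agent.Lib.Helper20.Curve TopologicalSpace

/-- Let X be an irreducible algebraic curve over a field k (separated and of finite type over k,
nonempty, irreducible, local rings at closed points of dimension one). Then the generic point is the
only non-closed point of X, and the closed subsets of X distinct from X are exactly the finite sets
of closed points. (The published statement adds that these are also exactly the subsets of X that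
are not dense in X, an immediate consequence; this row does not state it.) -/
theorem result (k : Type u) [Field k] (X : Scheme.{u})
    [X.Over (Spec (CommRingCat.of k))] [LocallyOfFiniteType (X ↘ (Spec (CommRingCat.of k)))]
    [QuasiCompact (X ↘ (Spec (CommRingCat.of k)))] [IsSeparated (X ↘ (Spec (CommRingCat.of k)))]
    [Nonempty X] [IrreducibleSpace X] (hcurve : ∀ x : X, IsClosed ({x} : Set X) → ringKrullDim (X.presheaf.stalk x) = 1) :
    (∀ x : X, ¬ IsClosed ({x} : Set X) → x = genericPoint X) ∧
      ∀ F : Set X, IsClosed F → (F ≠ Set.univ ↔ (F.Finite ∧ ∀ x ∈ F, IsClosed ({x} : Set X))) := by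
  have hcpt : CompactSpace X :=
    QuasiCompact.compactSpace_of_compactSpace (X ↘ (Spec (CommRingCat.of k)))
  have hln : IsLocallyNoetherian X :=
    LocallyOfFiniteType.isLocallyNoetherian (X ↘ (Spec (CommRingCat.of k)))
  have hn : IsNoetherian X := { }
  have hns : NoetherianSpace X := inferInstance
  have part1 : ∀ x : X, ¬ IsClosed ({x} : Set X) → x = genericPoint X :=
    fun x hx => eq_genericPoint_of_not_isClosed hcurve x hx
  refine ⟨part1, fun F hF => ⟨fun hne => ?_, fun ⟨hfin, hcl⟩ huniv => ?_⟩⟩
  · -- the generic point is not in `F`
    have hξ : genericPoint X ∉ F := by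
      intro hmem
      apply hne
      rw [Set.eq_univ_iff_forall]
      intro z
      have h1 : closure ({genericPoint X} : Set X) ⊆ F := hF.closure_subset_iff.mpr (by simpa using hmem)
      rw [genericPoint_closure] at h1
      exact h1 trivial
    have hclosed : ∀ x ∈ F, IsClosed ({x} : Set X) := by
      intro x hx
      by_contra hncl
      exact hξ (part1 x hncl ▸ hx)
    refine ⟨?_, hclosed⟩
    obtain ⟨S, hSf, hSc, hSi, hSU⟩ := NoetherianSpace.exists_finite_set_isClosed_irreducible hF
    rw [hSU]
    refine Set.Finite.sUnion hSf fun t ht => ?_
    -- each irreducible component is a singleton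
    obtain ⟨z, hz⟩ := QuasiSober.sober (hSi t ht) (hSc t ht)
    have hzt : z ∈ t := hz.mem
    have hzF : z ∈ F := by rw [hSU]; exact ⟨t, ht, hzt⟩
    have : t = {z} := by
      rw [← hz.def, (hclosed z hzF).closure_eq]
    rw [this]
    exact Set.finite_singleton z
  · apply not_isClosed_genericPoint hcurve
    apply hcl
    rw [huniv]
    trivial


end Groth.Agent.S4443
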