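import Groth.Statements.S4451
import Groth.Agent.Lib.Helper20.Curve2
import Groth.Agent.Lib.Helper20.ValCrit

set_option autoImplicit false
universe u
open CategoryTheory CategoryTheory.Limits AlgebraicGeometry
attribute [local instance] Curv2.stalkAlgebra
open EGA2

namespace Groth.Agent.S4451

open Groth.Agent.Lib.Helper20.Curve Groth.Agent.Lib.Helper20.ValCrit IsLocalRing

lemma fromSpecStalk_comp_toSpec {X : Scheme.{u}} {A : Type u} [CommRing A]
    (f : X ⟶ Spec (CommRingCat.of A)) (x : X) :
    X.fromSpecStalk x ≫ f =
      Spec.map (CommRingCat.ofHom ((X.presheaf.germ ⊤ x trivial).hom.comp (Coh.toGlobal f))) := by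
  apply ext_to_Spec
  show (Scheme.ΓSpecIso (CommRingCat.of A)).inv ≫ (X.fromSpecStalk x ≫ f).appTop =
    (Scheme.ΓSpecIso (CommRingCat.of A)).inv ≫ (Spec.map _).appTop
  rw [← Scheme.ΓSpecIso_inv_naturality, Scheme.Hom.comp_appTop, Scheme.fromSpecStalk_appTop]
  have : (Spec (X.presheaf.stalk x)).presheaf.map (homOfLE (le_top : (⊤ : (Spec (X.presheaf.stalk x)).Opens) ≤ ⊤)).op = 𝟙 _ :=
    (Spec (X.presheaf.stalk x)).presheaf.map_id _
  rw [this, Category.comp_id]
  rfl

/-- Let X be a normal, complete, irreducible algebraic curve over a field k with field of rational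
functions K. The set of local rings of X, as subrings of K, consists of K itself (at the generic
point) and of the valuation rings of K containing k (and distinct from K): every non-generic point
has such a valuation ring as local ring, and every such valuation ring is the local ring of exactly
one point. -/
theorem result (k : Type u) [Field k] (X : Scheme.{u})
    [X.Over (Spec (CommRingCat.of k))] [IsProper (X ↘ (Spec (CommRingCat.of k)))] [IsIntegral X]
    (hX : ∀ x : X, IsClosed ({x} : Set X) → ringKrullDim (X.presheaf.stalk x) = 1) (hnorm : Pi1.IsNormalScheme X) :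
    (∀ x : X, x ≠ genericPoint X → ∃ R : ValuationSubring X.functionField, R ≠ ⊤ ∧
        (R : Set X.functionField) = Set.range (algebraMap (X.presheaf.stalk x) X.functionField)) ∧
      ∀ R : ValuationSubring X.functionField, R ≠ ⊤ → (∀ c : k, algebraMap k X.functionField c ∈ R) →
        ∃! x : X, (R : Set X.functionField) = Set.range (algebraMap (X.presheaf.stalk x) X.functionField) := by
  have hcpt : CompactSpace X :=
    QuasiCompact.compactSpace_of_compactSpace (X ↘ (Spec (CommRingCat.of k)))
  have hln : IsLocallyNoetherian X :=
    LocallyOfFiniteType.isLocallyNoetherian (X ↘ (Spec (CommRingCat.of k)))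
  have hsep : X.IsSeparated := by
    constructor
    rw [← terminal.comp_from (X ↘ (Spec (CommRingCat.of k)))]
    infer_instance
  -- non-generic points are closed with one-dimensional local rings
  have hdim : ∀ x : X, x ≠ genericPoint X → ringKrullDim (X.presheaf.stalk x) = 1 := by
    intro x hx
    apply hX
    by_contra hncl
    exact hx (eq_genericPoint_of_not_isClosed hX x hncl)
  have hic : ∀ x : X, IsIntegrallyClosed (X.presheaf.stalk x) := fun x => (hnorm x).2
  -- all local rings are valuation rings
  have hval : ∀ x : X, ValuationRing (X.presheaf.stalk x) := by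
    intro x
    rcases eq_or_ne x (genericPoint X) with rfl | hx
    · exact inferInstanceAs (ValuationRing X.functionField)
    · have := hic x
      exact valuationRing_of_dim_one _ (hdim x hx)
  refine ⟨fun x hx => ?_, fun R hR hk => ?_⟩
  · have := hval x
    refine ⟨rangeValSub (X.presheaf.stalk x) X.functionField, ?_, coe_rangeValSub _ _⟩
    exact rangeValSub_ne_top _ _ (not_isField_of_ringKrullDim_eq_one _ (hdim x hx))
  · -- existence through the valuative criterion
    let κ : k →+* R := (algebraMap k X.functionField).codRestrict R.toSubring hk
    let i₂ : Spec (CommRingCat.of R) ⟶ Spec (CommRingCat.of k) := Spec.map (CommRingCat.ofHom κ)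
    have hsq : X.fromSpecStalk (genericPoint X) ≫ (X ↘ (Spec (CommRingCat.of k))) =
        Spec.map (CommRingCat.ofHom (algebraMap R X.functionField)) ≫ i₂ := by
      rw [fromSpecStalk_comp_toSpec, ← Spec.map_comp]
      rfl
    obtain ⟨x, hx1, hx2⟩ := exists_dominated_point (X ↘ (Spec (CommRingCat.of k))) R i₂ hsq
    have hx2' : ∀ a : X.presheaf.stalk x, ¬ IsUnit a →
        R.valuation (algebraMap (X.presheaf.stalk x) X.functionField a) < 1 :=
      fun a ha => hx2 a ((mem_maximalIdeal a).mpr ha)
    have hxR : (R : Set X.functionField) =
        Set.range (algebraMap (X.presheaf.stalk x) X.functionField) := by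
      have := hval x
      exact eq_range_of_dominates R hx1 hx2'
    refine ⟨x, hxR, fun x' hx' => ?_⟩
    -- uniqueness
    have dom : ∀ z : X, (R : Set X.functionField) =
        Set.range (algebraMap (X.presheaf.stalk z) X.functionField) →
        (∀ a : X.presheaf.stalk z, algebraMap (X.presheaf.stalk z) X.functionField a ∈ R) ∧
        (∀ a : X.presheaf.stalk z, ¬ IsUnit a →
          R.valuation (algebraMap (X.presheaf.stalk z) X.functionField a) < 1) := by
      intro z hz
      have hmem : ∀ a : X.presheaf.stalk z,
          algebraMap (X.presheaf.stalk z) X.functionField a ∈ R := by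
        intro a
        have : algebraMap (X.presheaf.stalk z) X.functionField a ∈ (R : Set X.functionField) := by
          rw [hz]; exact ⟨a, rfl⟩
        exact this
      refine ⟨hmem, fun a ha => ?_⟩
      have hle : R.valuation (algebraMap (X.presheaf.stalk z) X.functionField a) ≤ 1 :=
        (R.valuation_le_one_iff _).mpr (hmem a)
      refine lt_of_le_of_ne hle fun heq => ha ?_
      -- the inverse lies in `R`, hence in the range
      have ha0 : algebraMap (X.presheaf.stalk z) X.functionField a ≠ 0 := by
        intro h0
        rw [h0, map_zero] at heq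
        exact zero_ne_one heq
      have hinv : (algebraMap (X.presheaf.stalk z) X.functionField a)⁻¹ ∈ (R : Set X.functionField) := by
        show _ ∈ R
        rw [← R.valuation_le_one_iff, map_inv₀, heq, inv_one]
      rw [hz] at hinv
      obtain ⟨b, hb⟩ := hinv
      have hab : algebraMap (X.presheaf.stalk z) X.functionField (a * b) =
          algebraMap (X.presheaf.stalk z) X.functionField 1 := by
        rw [map_mul, hb, mul_inv_cancel₀ ha0, map_one]
      have := IsFractionRing.injective (X.presheaf.stalk z) X.functionField hab
      exact IsUnit.of_mul_eq_one b this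
    obtain ⟨d1, d2⟩ := dom x hxR
    obtain ⟨d1', d2'⟩ := dom x' hx'
    exact eq_of_dominates R x' x d1' d2' d1 d2


end Groth.Agent.S4451
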