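import Groth.Statements.S4445
import Groth.Agent.S4451
import Groth.Agent.Lib.Helper20.ExtendVal
import Groth.Agent.Lib.Helper20.Curve
import Groth.Agent.Lib.Helper20.Curve2

set_option autoImplicit false
universe u
open CategoryTheory CategoryTheory.Limits AlgebraicGeometry
attribute [local instance] Curv2.stalkAlgebra
open EGA2

namespace Groth.Agent.S4445

/-- Let X be a normal irreducible algebraic curve over a field k with field of rational functions K, and
Y an integral complete (proper over k) algebraic curve with field of rational functions L. Dominant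
k-morphisms X ⟶ Y correspond bijectively to k-embeddings L → K: for every k-algebra homomorphism φ :
L → K there is exactly one k-morphism u : X ⟶ Y mapping the generic point of X to the generic point
of Y and inducing φ on the stalks at the generic points. -/
theorem result (k : Type u) [Field k] (X Y : Scheme.{u})
    [X.Over (Spec (CommRingCat.of k))] [LocallyOfFiniteType (X ↘ (Spec (CommRingCat.of k)))]
    [QuasiCompact (X ↘ (Spec (CommRingCat.of k)))] [IsSeparated (X ↘ (Spec (CommRingCat.of k)))] [IsIntegral X]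
    (hX : ∀ x : X, IsClosed ({x} : Set X) → ringKrullDim (X.presheaf.stalk x) = 1) (hnorm : Pi1.IsNormalScheme X)
    [Y.Over (Spec (CommRingCat.of k))] [IsProper (Y ↘ (Spec (CommRingCat.of k)))] [IsIntegral Y]
    (hY : ∀ y : Y, IsClosed ({y} : Set Y) → ringKrullDim (Y.presheaf.stalk y) = 1)
    (φ : Y.functionField →ₐ[k] X.functionField) :
    ∃! u : X ⟶ Y, u ≫ (Y ↘ (Spec (CommRingCat.of k))) = X ↘ (Spec (CommRingCat.of k)) ∧
      ∃ hu : u.base (genericPoint X) = genericPoint Y,
        (Y.presheaf.stalkSpecializes (specializes_of_eq hu) ≫ u.stalkMap (genericPoint X)).hom = (φ : Y.functionField →+* X.functionField) := by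
  classical
  set sX := X ↘ (Spec (CommRingCat.of k)) with hsX
  set sY := Y ↘ (Spec (CommRingCat.of k)) with hsY
  have hcpt : CompactSpace X := QuasiCompact.compactSpace_of_compactSpace sX
  haveI hln : IsLocallyNoetherian X := LocallyOfFiniteType.isLocallyNoetherian sX
  obtain ⟨ψ, hψ⟩ : ∃ ψ : Y.presheaf.stalk (genericPoint Y) ⟶ X.presheaf.stalk (genericPoint X),
      ψ.hom = (φ : Y.functionField →+* X.functionField) :=
    ⟨CommRingCat.ofHom (φ : Y.functionField →+* X.functionField), rfl⟩
  have hψc : ∀ c : k, ψ.hom (Curv2.stalkMap k Y (genericPoint Y) c) =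
      Curv2.stalkMap k X (genericPoint X) c := by
    intro c
    rw [hψ]
    exact φ.commutes c
  -- the morphism from the generic point
  let f₀ : Spec (X.presheaf.stalk (genericPoint X)) ⟶ Y :=
    Spec.map ψ ≫ Y.fromSpecStalk (genericPoint Y)
  have h₀ : f₀ ≫ sY = X.fromSpecStalk (genericPoint X) ≫ sX := by
    show (Spec.map ψ ≫ Y.fromSpecStalk (genericPoint Y)) ≫ sY = _
    rw [Category.assoc, Groth.Agent.S4451.fromSpecStalk_comp_toSpec sY,
      Groth.Agent.S4451.fromSpecStalk_comp_toSpec sX, ← Spec.map_comp]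
    congr 1
    ext c
    exact hψc c
  -- key consequence of an equality of morphisms from the generic point
  have key : ∀ u : X ⟶ Y, X.fromSpecStalk (genericPoint X) ≫ u = f₀ ↔
      ∃ hu : u.base (genericPoint X) = genericPoint Y,
        (Y.presheaf.stalkSpecializes (specializes_of_eq hu) ≫ u.stalkMap (genericPoint X)) = ψ := by
    intro u
    constructor
    · intro h
      have hu : u.base (genericPoint X) = genericPoint Y := by
        have h1 := congr($h (IsLocalRing.closedPoint _))
        rw [Scheme.Hom.comp_apply, Scheme.fromSpecStalk_closedPoint] at h1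
        rw [h1]
        show (Y.fromSpecStalk (genericPoint Y)) ((Spec.map ψ) (IsLocalRing.closedPoint _)) = _
        have h2 : (Spec.map ψ)
            (IsLocalRing.closedPoint (X.presheaf.stalk (genericPoint X))) =
            IsLocalRing.closedPoint (Y.presheaf.stalk (genericPoint Y)) :=
          Subsingleton.elim (α := PrimeSpectrum Y.functionField) _ _
        rw [h2]
        exact Scheme.fromSpecStalk_closedPoint
      refine ⟨hu, ?_⟩
      have h3 : Spec.map (Y.presheaf.stalkSpecializes (specializes_of_eq hu) ≫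
          u.stalkMap (genericPoint X)) ≫ Y.fromSpecStalk (genericPoint Y) = f₀ := by
        rw [Spec.map_comp, Category.assoc, Scheme.SpecMap_stalkSpecializes_fromSpecStalk,
          Scheme.SpecMap_stalkMap_fromSpecStalk, h]
      have h4 := (cancel_mono (Y.fromSpecStalk (genericPoint Y))).mp h3
      exact Spec.map_injective h4
    · rintro ⟨hu, h⟩
      show _ = Spec.map ψ ≫ Y.fromSpecStalk (genericPoint Y)
      rw [← h, Spec.map_comp, Category.assoc,
        Scheme.SpecMap_stalkSpecializes_fromSpecStalk, Scheme.SpecMap_stalkMap_fromSpecStalk]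
  -- the partial map
  let pm := Scheme.PartialMap.ofFromSpecStalk sX sY f₀ h₀
  have hpm1 := Scheme.PartialMap.ofFromSpecStalk_comp sX sY f₀ h₀
  have hpm2 := Scheme.PartialMap.mem_domain_ofFromSpecStalk sX sY f₀ h₀
  have hpm3 := Scheme.PartialMap.fromSpecStalkOfMem_ofFromSpecStalk sX sY f₀ h₀
  -- all local rings are valuation rings
  have hP : ∀ y ∈ (Set.univ : Set X), (∃ W : X.Opens, y ∈ W ∧ IsIntegral (W : Scheme.{u})) ∧
      ∃ hdom : IsDomain (X.presheaf.stalk y), @ValuationRing (X.presheaf.stalk y) _ hdom := by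
    intro y _
    haveI : Nonempty ((⊤ : X.Opens) : Scheme.{u}) := ⟨⟨genericPoint X, trivial⟩⟩
    haveI : IsIntegral ((⊤ : X.Opens) : Scheme.{u}) :=
      isIntegral_of_isOpenImmersion (⊤ : X.Opens).ι
    refine ⟨⟨⊤, trivial, inferInstance⟩, inferInstance, ?_⟩
    by_cases hcl : IsClosed ({y} : Set X)
    · haveI := (hnorm y).2
      exact Groth.Agent.Lib.Helper20.Curve.valuationRing_of_dim_one _ (hX y hcl)
    · have hy := Groth.Agent.Lib.Helper20.Curve.eq_genericPoint_of_not_isClosed hX y hcl
      subst hy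
      exact inferInstanceAs (ValuationRing X.functionField)
  obtain ⟨U, hVU, g', hg'1, hg'2, hU⟩ :=
    Groth.Agent.Lib.Helper20.ExtendVal.exists_extension_of_forall_mem sY sX Set.univ hP
      pm.domain pm.dense_domain pm.hom hpm1
  obtain rfl : U = ⊤ := by
    ext x
    simp only [TopologicalSpace.Opens.coe_top, Set.mem_univ, iff_true]
    exact hU (Set.mem_univ x)
  let u : X ⟶ Y := (Scheme.topIso X).inv ≫ g'
  have hιu : (⊤ : X.Opens).ι ≫ u = g' := by
    show (⊤ : X.Opens).ι ≫ (Scheme.topIso X).inv ≫ g' = g'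
    rw [← Category.assoc]
    have : (⊤ : X.Opens).ι ≫ (Scheme.topIso X).inv = 𝟙 _ := (Scheme.topIso X).hom_inv_id
    rw [this, Category.id_comp]
  have hu1 : u ≫ sY = sX := by
    show ((Scheme.topIso X).inv ≫ g') ≫ sY = sX
    rw [Category.assoc, hg'1, ← Category.assoc]
    have : (Scheme.topIso X).inv ≫ (⊤ : X.Opens).ι = 𝟙 _ := (Scheme.topIso X).inv_hom_id
    rw [this, Category.id_comp]
  have hu2 : X.fromSpecStalk (genericPoint X) ≫ u = f₀ := by
    rw [← hpm3]
    show _ = pm.domain.fromSpecStalkOfMem _ hpm2 ≫ pm.hom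
    rw [← hg'2, ← hιu, Scheme.homOfLE_ι_assoc, Scheme.Opens.fromSpecStalkOfMem_ι_assoc]
  refine ⟨u, ⟨hu1, ?_⟩, ?_⟩
  · obtain ⟨hu, h⟩ := (key u).mp hu2
    exact ⟨hu, (congrArg CommRingCat.Hom.hom h).trans hψ⟩
  rintro u' ⟨hu'1, hu', h'⟩
  have h'' : (Y.presheaf.stalkSpecializes (specializes_of_eq hu') ≫
      u'.stalkMap (genericPoint X)) = ψ :=
    CommRingCat.hom_ext (h'.trans hψ.symm)
  have h5 : X.fromSpecStalk (genericPoint X) ≫ u' = X.fromSpecStalk (genericPoint X) ≫ u := by
    rw [(key u').mpr ⟨hu', h''⟩, hu2]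
  obtain ⟨W, hηW, hW⟩ := spread_out_unique_of_isGermInjective' u' u h5
  haveI : IsDominant W.ι := by
    refine ⟨?_⟩
    rw [DenseRange, Scheme.Opens.range_ι]
    exact W.isOpen.dense ⟨_, hηW⟩
  exact ext_of_isDominant_of_isSeparated sY (hu'1.trans hu1.symm) W.ι hW

end Groth.Agent.S4445
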