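import Groth.Statements.S10613
import Groth.Agent.Lib.Helper54.MonoUnram

set_option autoImplicit false
universe u
open CategoryTheory CategoryTheory.Limits AlgebraicGeometry
open AlgSp

namespace Groth.Agent.S10613

/-- For a morphism f : X ⟶ Y of algebraic spaces over S, these four conditions on f are equivalent: (a)
unramified plus monomorphism; (b) unramified plus universally injective; (c) a monomorphism that is
locally of finite type; (d) universally injective, locally of finite type and formally unramified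
(lifting sense). In that case f is representable by schemes, separated and locally quasi-finite.
(Unramified is the etale-local condition locally of finite type and formally unramified on charts;
monomorphisms are taken in fppf sheaves.) -/
theorem result {S : Scheme.{u}} {X Y : AlgSp.Space S} (f : X ⟶ Y) :
    ((AlgSp.LocP (@LocallyOfFiniteType ⊓ @FormallyUnramified) f.hom ∧ Mono f.hom) ↔
      (AlgSp.LocP (@LocallyOfFiniteType ⊓ @FormallyUnramified) f.hom ∧ AlgSp.IsUnivInjectiveMor f.hom)) ∧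
    ((AlgSp.LocP (@LocallyOfFiniteType ⊓ @FormallyUnramified) f.hom ∧ Mono f.hom) ↔
      (AlgSp.LocP @LocallyOfFiniteType f.hom ∧ Mono f.hom)) ∧
    ((AlgSp.LocP (@LocallyOfFiniteType ⊓ @FormallyUnramified) f.hom ∧ Mono f.hom) ↔
      (AlgSp.IsUnivInjectiveMor f.hom ∧ AlgSp.LocP @LocallyOfFiniteType f.hom ∧ AlgSp.IsFormallyUnramifiedMor f.hom)) ∧
    (AlgSp.LocP @LocallyOfFiniteType f.hom ∧ Mono f.hom →
      AlgSp.Representable f.hom ∧ AlgSp.IsSeparatedMor f.hom ∧
        AlgSp.LocP (@LocallyQuasiFinite ⊓ @LocallyOfFiniteType) f.hom) := by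
  have hX := X.property
  have hY := Y.property
  have hbd : (AlgSp.LocP (@LocallyOfFiniteType ⊓ @FormallyUnramified) f.hom ∧
      AlgSp.IsUnivInjectiveMor f.hom) →
      (AlgSp.LocP (@LocallyOfFiniteType ⊓ @FormallyUnramified) f.hom ∧ Mono f.hom) :=
    fun ⟨h1, h2⟩ =>
      ⟨h1, Groth.Agent.Lib.Helper54.mono_of_unramified_of_isUnivInjectiveMor hX hY f.hom h1 h2⟩
  have hab : (AlgSp.LocP (@LocallyOfFiniteType ⊓ @FormallyUnramified) f.hom ∧ Mono f.hom) →
      (AlgSp.LocP (@LocallyOfFiniteType ⊓ @FormallyUnramified) f.hom ∧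
        AlgSp.IsUnivInjectiveMor f.hom) :=
    fun ⟨h1, h2⟩ => ⟨h1, Groth.Agent.Lib.Helper54.isUnivInjectiveMor_of_mono f.hom⟩
  have hfu := Groth.Agent.H52.isFormallyUnramifiedMor_iff_locP hX hY f.hom
  refine ⟨⟨hab, hbd⟩, ⟨fun ⟨h1, h2⟩ => ⟨fun U V a b h ha hb w => (h1 a b h ha hb w).1, h2⟩,
    fun ⟨h1, h2⟩ => ⟨Groth.Agent.Lib.Helper54.locP_unramified_of_mono hX hY f.hom h1, h2⟩⟩,
    ⟨fun h => ?_, fun ⟨h1, h2, h3⟩ => ?_⟩, fun ⟨h1, h2⟩ => ?_⟩
  · obtain ⟨h1, h2⟩ := hab h
    exact ⟨h2, fun U V a b h' ha hb w => (h1 a b h' ha hb w).1,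
      hfu.2 fun U V a b h' ha hb w => (h1 a b h' ha hb w).2⟩
  · exact hbd ⟨fun U V a b h' ha hb w => ⟨h2 a b h' ha hb w, hfu.1 h3 a b h' ha hb w⟩, h1⟩
  · exact Groth.Agent.Lib.Helper54.representable_of_mono_lft hX hY f.hom h1

end Groth.Agent.S10613
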