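import Groth.Statements.S1316
import Groth.Agent.S1313
import Mathlib.AlgebraicGeometry.Morphisms.Immersion

set_option autoImplicit false
universe u
open FlatMor

namespace Groth.Agent.S1316

open AlgebraicGeometry CategoryTheory Limits in
/-- Let Y ⟶ Y' be a thickening, let X be the base change to Y of a scheme X' over Y', and assume both X
⟶ Y and X' ⟶ Y' are locally of finite type. Then X ⟶ Y is an immersion if and only if X' ⟶ Y' is. -/
theorem result {X X' Y Y' : Scheme.{u}} (iX : X ⟶ X') (iY : Y ⟶ Y') (f : X ⟶ Y) (f' : X' ⟶ Y')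
    (hY : MoreMor.IsThickening iY) (hc : IsPullback iX f f' iY) [LocallyOfFiniteType f] [LocallyOfFiniteType f'] :
    IsImmersion f ↔ IsImmersion f' := by
  constructor
  · intro himm
    obtain ⟨hcl, hsurj⟩ := hY
    have hhomeo : IsHomeomorph iY.base :=
      isHomeomorph_iff_isEmbedding_surjective.mpr ⟨iY.isEmbedding, hsurj.surj⟩
    have hsurjX : Surjective iX := MorphismProperty.of_isPullback hc.flip hsurj
    let U' : Y'.Opens := ⟨iY '' (f.coborderRange : Set Y), hhomeo.isOpenMap _ f.coborderRange.2⟩
    have hpre : iY ⁻¹ᵁ U' = f.coborderRange := by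
      ext y
      change iY y ∈ iY '' (f.coborderRange : Set Y) ↔ _
      exact iY.isEmbedding.injective.mem_set_image
    have hrange' : Set.range f' ⊆ Set.range U'.ι := by
      rintro _ ⟨x', rfl⟩
      obtain ⟨x, rfl⟩ := hsurjX.surj x'
      rw [Scheme.Opens.range_ι]
      refine ⟨f x, ?_, ?_⟩
      · exact subset_coborder ⟨x, rfl⟩
      · rw [← Scheme.Hom.comp_apply, ← Scheme.Hom.comp_apply, hc.w]
    let fV : X ⟶ (iY ⁻¹ᵁ U').toScheme := f.liftCoborder ≫ (Y.isoOfEq hpre.symm).hom
    let f'U : X' ⟶ U'.toScheme := IsOpenImmersion.lift U'.ι f' hrange'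
    have hfV : fV ≫ (iY ⁻¹ᵁ U').ι = f := by simp [fV]
    have hf'U : f'U ≫ U'.ι = f' := IsOpenImmersion.lift_fac _ _ _
    have hclV : IsClosedImmersion fV := inferInstance
    have comm : iX ≫ f'U = fV ≫ (iY ∣_ U') := by
      rw [← cancel_mono U'.ι, Category.assoc, Category.assoc, hf'U, morphismRestrict_ι,
        ← Category.assoc, hfV, hc.w]
    have hbig : IsPullback iX (fV ≫ (iY ⁻¹ᵁ U').ι) (f'U ≫ U'.ι) iY := by
      rw [hfV, hf'U]; exact hc
    have hsq : IsPullback iX fV f'U (iY ∣_ U') :=
      IsPullback.of_bot hbig comm (isPullback_morphismRestrict iY U')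
    have hthick : MoreMor.IsThickening (iY ∣_ U') :=
      ⟨MorphismProperty.of_isPullback (isPullback_morphismRestrict iY U').flip hcl,
        MorphismProperty.of_isPullback (isPullback_morphismRestrict iY U').flip hsurj⟩
    have hlftV : LocallyOfFiniteType fV := inferInstance
    have hlft'U : LocallyOfFiniteType f'U := by
      have : LocallyOfFiniteType (f'U ≫ U'.ι) := by rw [hf'U]; infer_instance
      exact locallyOfFiniteType_of_comp f'U U'.ι
    have hcl'U : IsClosedImmersion f'U :=
      (Groth.Agent.S1313.result iX (iY ∣_ U') fV f'U hthick hsq).mp hclV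
    rw [← hf'U]
    infer_instance
  · intro h
    exact MorphismProperty.of_isPullback hc h

end Groth.Agent.S1316
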