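import Groth.Statements.S0422
import Groth.Agent.H76.LimFlat
import Groth.Agent.H76.NilFlat
import Groth.Agent.H76.FibreFlat

set_option autoImplicit false
universe u
open FlatMor

namespace Groth.Agent.S0422

open TensorProduct in
/-- Fibrewise criterion of flatness modulo a locally nilpotent ideal: let R → S be of finite type, S' an
S-algebra which is of finite presentation over R, I an ideal of R all of whose elements are
nilpotent, and M a finitely presented S'-module which is flat over R and such that M/IM is flat over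
S/IS. Then M is flat over S. (The published statement also asserts flatness over R of suitable
localizations of S; that part is not stated here.) -/
theorem result {R S S' M : Type u} [CommRing R] [CommRing S] [CommRing S'] [Algebra R S] [Algebra S S'] [Algebra R S'] [IsScalarTower R S S']
    [Algebra.FiniteType R S] [Algebra.FinitePresentation R S'] (I : Ideal R) (hI : ∀ a ∈ I, IsNilpotent a)
    [AddCommGroup M] [Module S' M] [Module S M] [Module R M] [IsScalarTower S S' M] [IsScalarTower R S M]
    [Module.FinitePresentation S' M] [Module.Flat R M]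
    (h : Module.Flat (S ⧸ I.map (algebraMap R S)) ((S ⧸ I.map (algebraMap R S)) ⊗[S] M)) : Module.Flat S M := by
  classical
  haveI : Algebra.FinitePresentation S S' :=
    Algebra.FinitePresentation.of_restrict_scalars_finitePresentation R S S'
  -- the directed system of finitely generated subideals of `I`
  let ι : Type u := {J : Ideal R // J.FG ∧ J ≤ I}
  let T : ι → Type u := fun J => S ⧸ J.1.map (algebraMap R S)
  let L : Type u := S ⧸ I.map (algebraMap R S)
  let γ : ∀ J : ι, T J →ₐ[S] L := fun J => Ideal.Quotient.factorₐ S (Ideal.map_mono J.2.2)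
  let Tr : ∀ J J' : ι, (T J →ₐ[S] T J') → Prop := fun J J' φ =>
    ∃ h : J.1 ≤ J'.1, φ = Ideal.Quotient.factorₐ S (Ideal.map_mono h)
  have hsys : Groth.Agent.Lib.Helper48.AlgPathSystem S T L γ Tr := by
    refine ⟨?_, ?_, ?_, ?_, ?_⟩
    · rintro J J' _ ⟨h, rfl⟩
      apply Ideal.Quotient.algHom_ext
      ext
    · rintro J J' J'' _ _ ⟨h, rfl⟩ ⟨h', rfl⟩
      refine ⟨h.trans h', ?_⟩
      apply Ideal.Quotient.algHom_ext
      ext
    · intro J J'
      exact ⟨⟨J.1 ⊔ J'.1, Submodule.FG.sup J.2.1 J'.2.1, sup_le J.2.2 J'.2.2⟩, _, _, ⟨le_sup_left, rfl⟩,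
        ⟨le_sup_right, rfl⟩⟩
    · intro n
      obtain ⟨x, rfl⟩ := Ideal.Quotient.mk_surjective n
      exact ⟨⟨⊥, Submodule.fg_bot, bot_le⟩, Ideal.Quotient.mk _ x, rfl⟩
    · intro J x hx
      obtain ⟨s, rfl⟩ := Ideal.Quotient.mk_surjective x
      have hs : s ∈ I.map (algebraMap R S) := by
        have : Ideal.Quotient.mk (I.map (algebraMap R S)) s = 0 := hx
        exact Ideal.Quotient.eq_zero_iff_mem.mp this
      -- `s` lies in the extension of a finitely generated subideal
      obtain ⟨t, ht, hst⟩ := Submodule.mem_span_finite_of_mem_span hs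
      obtain ⟨t', ht', rfl⟩ := Finset.subset_set_image_iff.mp ht
      let J' : ι := ⟨J.1 ⊔ Ideal.span (t' : Set R), Submodule.FG.sup J.2.1 ⟨t', rfl⟩,
        sup_le J.2.2 (Ideal.span_le.mpr ht')⟩
      refine ⟨J', _, ⟨le_sup_left, rfl⟩, ?_⟩
      show Ideal.Quotient.mk (J'.1.map (algebraMap R S)) s = 0
      rw [Ideal.Quotient.eq_zero_iff_mem]
      have hle : Ideal.span ((t'.image (algebraMap R S) : Finset S) : Set S) ≤
          J'.1.map (algebraMap R S) := by
        rw [Ideal.span_le]
        intro y hy
        rw [Finset.coe_image] at hy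
        obtain ⟨a, ha, rfl⟩ := hy
        exact Ideal.mem_map_of_mem _ (Ideal.mem_sup_right (Ideal.subset_span ha))
      exact hle hst
  obtain ⟨J, hJ⟩ := Groth.Agent.H76.LimFlat.exists_flat hsys S' M h
  -- the nilpotent case
  set IJ : Ideal S := J.1.map (algebraMap R S) with hIJ
  haveI : Module.Flat (S ⧸ IJ) ((S ⧸ IJ) ⊗[S] M) := hJ
  have hnilR : IsNilpotent J.1 := by
    rw [Ideal.FG.isNilpotent_iff_le_nilradical J.2.1]
    intro a ha
    exact mem_nilradical.mpr (hI a (J.2.2 ha))
  have hnil : IsNilpotent IJ := by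
    obtain ⟨n, hn⟩ := hnilR
    refine ⟨n, ?_⟩
    rw [hIJ, ← Ideal.map_pow, hn]
    exact Ideal.map_bot
  have hinj : Function.Injective (LinearMap.rTensor M (Submodule.subtype IJ)) :=
    Groth.Agent.H76.FibreFlat.rTensor_map_injective (R := R) (S := S) (M := M) J.1
      (Module.Flat.rTensor_preserves_injective_linearMap _ Subtype.val_injective)
  exact Groth.Agent.H76.NilFlat.flat_of_nilpotent IJ M hinj hnil

end Groth.Agent.S0422
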