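import Groth.Statements.S0392
import Groth.Agent.H76.FibreFlat

set_option autoImplicit false
universe u
open FlatMor

namespace Groth.Agent.S0392

open TensorProduct in
/-- Fibrewise criterion of flatness, Noetherian local form: for local homomorphisms R → S → S' of
Noetherian local rings and a nonzero finite S'-module M that is flat over R and whose reduction
modulo the maximal ideal of R is flat over the corresponding fibre ring of S, the ring S is flat
over R and M is flat over S. -/
theorem result {R S S' M : Type u} [CommRing R] [CommRing S] [CommRing S'] [IsLocalRing R] [IsLocalRing S] [IsLocalRing S']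
    [IsNoetherianRing R] [IsNoetherianRing S] [IsNoetherianRing S'] [Algebra R S] [Algebra S S'] [Algebra R S'] [IsScalarTower R S S']
    [IsLocalHom (algebraMap R S)] [IsLocalHom (algebraMap S S')]
    [AddCommGroup M] [Module S' M] [Module S M] [Module R M] [IsScalarTower S S' M] [IsScalarTower R S M]
    [Module.Finite S' M] [Nontrivial M] [Module.Flat R M]
    (h : Module.Flat (S ⧸ ((IsLocalRing.maximalIdeal R).map (algebraMap R S))) ((S ⧸ ((IsLocalRing.maximalIdeal R).map (algebraMap R S))) ⊗[S] M)) :
    Module.Flat R S ∧ Module.Flat S M := by
  have hI : (IsLocalRing.maximalIdeal R).map (algebraMap R S) ≠ ⊤ := by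
    have hle : (IsLocalRing.maximalIdeal R).map (algebraMap R S) ≤ IsLocalRing.maximalIdeal S :=
      Ideal.map_le_iff_le_comap.mpr (fun x hx => map_nonunit (algebraMap R S) x hx)
    intro htop
    rw [htop] at hle
    exact (IsLocalRing.maximalIdeal.isMaximal S).ne_top (top_le_iff.mp hle)
  have h0 : Function.Injective
      (LinearMap.rTensor M (Submodule.subtype (IsLocalRing.maximalIdeal R))) :=
    Module.Flat.rTensor_preserves_injective_linearMap _ Subtype.val_injective
  have h1 := Groth.Agent.H76.FibreFlat.rTensor_map_injective (S := S) (M := M)
    (IsLocalRing.maximalIdeal R) h0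
  haveI := h
  have hSM : Module.Flat S M :=
    Groth.Agent.H76.LocalCrit.flat_of_local (R := S) (S := S') _ hI h1
  haveI := hSM
  haveI : Module.FaithfullyFlat S M :=
    Groth.Agent.H76.FibreFlat.faithfullyFlat_of_local (S := S) (S' := S') (M := M)
  exact ⟨Groth.Agent.H76.FibreFlat.flat_of_faithfullyFlat_module (R := R) (S := S) (M := M), hSM⟩

end Groth.Agent.S0392
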