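import Groth.Statements.S10830
import Mathlib.Topology.KrullDimension

set_option autoImplicit false
universe u
open Topology TopologicalSpace
open TopDim

namespace Groth.Agent.S10830

open Order in
/-- In an irreducible topological space X of finite Krull dimension, every proper closed subset Y has
strictly smaller Krull dimension than X. -/
theorem result (X : Type u) [TopologicalSpace X]
    [IrreducibleSpace X] (hfin : topologicalKrullDim X ≠ ⊤) (Y : Set X) (hY : IsClosed Y) (hYX : Y ≠ Set.univ) :
    topologicalKrullDim ↥Y < topologicalKrullDim X := by
  unfold topologicalKrullDim at *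
  by_cases hemp : IsEmpty (IrreducibleCloseds Y)
  · rw [krullDim_eq_bot]
    exact bot_lt_krullDim_iff.mpr
      ⟨⟨Set.univ, IrreducibleSpace.isIrreducible_univ X, isClosed_univ⟩⟩
  rw [not_isEmpty_iff] at hemp
  -- the top element of `IrreducibleCloseds X`
  let T : IrreducibleCloseds X := ⟨Set.univ, IrreducibleSpace.isIrreducible_univ X, isClosed_univ⟩
  have hind : IsInducing ((↑) : Y → X) := IsInducing.subtypeVal
  let g : IrreducibleCloseds Y → IrreducibleCloseds X :=
    IrreducibleCloseds.map ((↑) : Y → X) continuous_subtype_val
  have hg : StrictMono g := IrreducibleCloseds.map_strictMono_of_isInducing hind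
  have hgT : ∀ Z, g Z < T := by
    intro Z
    refine lt_of_le_of_ne (fun x _ => Set.mem_univ x) ?_
    intro h
    apply hYX
    have h1 : (g Z : Set X) ⊆ Y := by
      change closure (((↑) : Y → X) '' (Z : Set Y)) ⊆ Y
      refine closure_minimal ?_ hY
      rintro _ ⟨y, _, rfl⟩
      exact y.2
    have h2 : (g Z : Set X) = Set.univ := by rw [h]; rfl
    rw [h2] at h1
    exact Set.eq_univ_of_univ_subset h1
  let f : WithTop (IrreducibleCloseds Y) → IrreducibleCloseds X := fun z =>
    match z with
    | ⊤ => T
    | (Z : IrreducibleCloseds Y) => g Z
  have hf : StrictMono f := by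
    intro a b hab
    induction a with
    | top => exact absurd hab (not_top_lt)
    | coe a =>
      induction b with
      | top => exact hgT a
      | coe b => exact hg (WithTop.coe_lt_coe.mp hab)
  have hle := krullDim_le_of_strictMono f hf
  rw [krullDim_WithTop] at hle
  have hXne : ⊥ < krullDim (IrreducibleCloseds X) := bot_lt_krullDim_iff.mpr ⟨T⟩
  generalize krullDim (IrreducibleCloseds Y) = a at *
  generalize krullDim (IrreducibleCloseds X) = b at *
  induction a with
  | bot => exact hXne
  | coe a =>
    induction b with
    | bot => simp at hXne
    | coe b =>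
      have hb : b ≠ ⊤ := by rintro rfl; exact hfin rfl
      have hle' : a + 1 ≤ b := by exact_mod_cast hle
      have : a < b := by
        have ha : a ≠ ⊤ := by
          rintro rfl
          simp at hle'
          exact hb hle'
        exact lt_of_lt_of_le (ENat.lt_add_one_iff ha |>.mpr le_rfl) hle'
      exact_mod_cast this

end Groth.Agent.S10830
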