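import Groth.Statements.S4644
-- import your own Groth.Agent.* helpers here
import Groth.Agent.S10830
import Groth.Agent.Lib.Helper55.DimPoint
import Groth.Agent.Lib.Helper55.DimSup
import Mathlib.AlgebraicGeometry.Noetherian
import Mathlib.Topology.NoetherianSpace

set_option autoImplicit false
open CategoryTheory AlgebraicGeometry
universe u
open FBase

namespace Groth.Agent.S4644

open Topology TopologicalSpace Groth.Agent.Lib.Helper55

/-- The closure of a point which is an irreducible component contains a nonempty open subset, as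
soon as the point has a Noetherian open neighbourhood. -/
theorem exists_isOpen_subset_closure {X : Type*} [TopologicalSpace X] (ξ : X)
    (hξ : closure ({ξ} : Set X) ∈ irreducibleComponents X) (U : Set X) (hU : IsOpen U)
    (hξU : ξ ∈ U) [NoetherianSpace ↥U] :
    ∃ V : Set X, IsOpen V ∧ V.Nonempty ∧ V ⊆ closure ({ξ} : Set X) := by
  set C : Set ↥U := Subtype.val ⁻¹' closure ({ξ} : Set X) with hC
  have hCeq : C = closure ({⟨ξ, hξU⟩} : Set ↥U) := by
    rw [IsInducing.subtypeVal.closure_eq_preimage_closure_image]
    simp [hC]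
  have hCmem : C ∈ irreducibleComponents ↥U := by
    refine ⟨hCeq ▸ isIrreducible_singleton.closure, ?_⟩
    intro S hS hCS
    have h1 : IsIrreducible (closure (Subtype.val '' S : Set X)) :=
      (hS.image _ continuous_subtype_val.continuousOn).closure
    have h2 : closure ({ξ} : Set X) ⊆ closure (Subtype.val '' S : Set X) := by
      apply closure_mono
      intro x hx
      rw [Set.mem_singleton_iff.mp hx]
      exact ⟨⟨ξ, hξU⟩, hCS (subset_closure rfl), rfl⟩
    have h3 := hξ.2 h1 h2
    intro s hs
    exact h3 (subset_closure ⟨s, hs, rfl⟩)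
  obtain ⟨o, ho, hne, hoC⟩ :=
    NoetherianSpace.exists_isOpen_nonempty_subset_irreducibleComponent C hCmem
  refine ⟨Subtype.val '' o, hU.isOpenMap_subtype_val o ho, hne.image _, ?_⟩
  rintro _ ⟨x, hx, rfl⟩
  exact hoC hx

/-- A closed proper subset of an irreducible set of finite dimension has smaller dimension. -/
theorem topologicalKrullDim_lt_of_ssubset {X : Type u} [TopologicalSpace X] (A B : Set X)
    (hA : IsClosed A) (hB : IsIrreducible B) (hAB : A ⊆ B) (hne : A ≠ B)
    (hfin : topologicalKrullDim ↥B ≠ ⊤) : topologicalKrullDim ↥A < topologicalKrullDim ↥B := by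
  have : IrreducibleSpace ↥B := Subtype.irreducibleSpace hB
  have h1 := Groth.Agent.S10830.result ↥B hfin (Subtype.val ⁻¹' A)
    (hA.preimage continuous_subtype_val) (by
      intro h
      apply hne
      refine subset_antisymm hAB ?_
      intro b hb
      have : (⟨b, hb⟩ : ↥B) ∈ Subtype.val ⁻¹' A := by rw [h]; trivial
      exact this)
  refine lt_of_le_of_lt ?_ h1
  let g : ↥A → ↥(Subtype.val ⁻¹' A : Set ↥B) := fun a => ⟨⟨a.1, hAB a.2⟩, a.2⟩
  have hg : IsInducing g := by
    refine IsInducing.of_comp ?_ (continuous_subtype_val.comp continuous_subtype_val) ?_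
    · exact (continuous_subtype_val.subtype_mk _).subtype_mk _
    · exact IsInducing.subtypeVal
  exact hg.topologicalKrullDim_le

/-- Let Y be a nonempty scheme locally of finite type over a field k whose irreducible components all
have the same dimension, and let Z be a locally closed subset of Y (the underlying set of a
subscheme). Then Z is nowhere dense in Y if and only if dim Z < dim Y. (For Y empty the left side
holds and the right side fails, so Y is taken nonempty; dimensions are Krull dimensions of the
underlying spaces.) -/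
theorem result {k : Type u} [Field k] {Y : Scheme.{u}} [Nonempty ↥Y]
    (g : Y ⟶ Spec (CommRingCat.of k)) [LocallyOfFiniteType g]
    (heq : ∀ T ∈ irreducibleComponents ↥Y, topologicalKrullDim ↥T = topologicalKrullDim ↥Y)
    (Z : Set ↥Y) (hZ : IsLocallyClosed Z) :
    IsNowhereDense Z ↔ topologicalKrullDim ↥Z < topologicalKrullDim ↥Y := by
  have hLN : IsLocallyNoetherian Y := LocallyOfFiniteType.isLocallyNoetherian g
  -- every point is a specialization of the generic point of some irreducible component
  have hgen : ∀ y : Y, ∃ ξ : Y, ξ ⤳ y ∧ closure ({ξ} : Set Y) ∈ irreducibleComponents ↥Y := by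
    intro y
    obtain ⟨T, hT, hyT⟩ := exists_mem_irreducibleComponents_subset_of_isIrreducible
      ({y} : Set Y) isIrreducible_singleton
    obtain ⟨ξ, hξ⟩ := QuasiSober.sober hT.1 (isClosed_of_mem_irreducibleComponents T hT)
    refine ⟨ξ, ?_, hξ.def ▸ hT⟩
    rw [specializes_iff_mem_closure, hξ.def]
    exact hyT rfl
  have hdim : ∀ ξ : Y, closure ({ξ} : Set Y) ∈ irreducibleComponents ↥Y →
      topologicalKrullDim ↥(closure ({ξ} : Set Y)) = topologicalKrullDim ↥Y := fun ξ h => heq _ h
  obtain ⟨n, hn⟩ : ∃ n : ℕ, topologicalKrullDim ↥Y = n := by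
    obtain ⟨y⟩ := ‹Nonempty ↥Y›
    obtain ⟨ξ, -, hξ⟩ := hgen y
    obtain ⟨U, hU, hξU, -⟩ := exists_isAffineOpen_mem_and_subset (x := ξ) (U := ⊤) trivial
    obtain ⟨s, hs⟩ := exists_nat_forall_isAffineOpen_dim_closure_inter g ξ
    refine ⟨s, ?_⟩
    rw [← hdim ξ hξ, ← topologicalKrullDim_closure_inter_opens_eq g ξ U hξU]
    exact hs U hU hξU
  rw [hn]
  constructor
  · intro hnd
    have hW : interior (closure Z) = ∅ := hnd
    refine lt_of_le_of_lt (topologicalKrullDim_mono_set (subset_closure : Z ⊆ closure Z)) ?_
    set W : Set Y := closure Z with hWdef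
    have hWcl : IsClosed W := isClosed_closure
    have : QuasiSober ↥W := hWcl.isClosedEmbedding_subtypeVal.quasiSober
    -- each point of `W` has closure of dimension `< n`
    have key : ∀ w : ↥W, topologicalKrullDim ↥(closure ({w} : Set ↥W)) < (n : WithBot ℕ∞) := by
      intro w
      have h1 := topologicalKrullDim_closure_inter_range_eq (Subtype.val : ↥W → Y)
        IsEmbedding.subtypeVal w
      rw [← h1]
      refine lt_of_le_of_lt (topologicalKrullDim_inter_le _ _) ?_
      obtain ⟨ξ, hξw, hξ⟩ := hgen w.1
      have hsub : closure ({w.1} : Set Y) ⊆ closure ({ξ} : Set Y) :=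
        closure_minimal (by rintro _ rfl; exact specializes_iff_mem_closure.mp hξw)
          isClosed_closure
      have hfin : topologicalKrullDim ↥(closure ({ξ} : Set Y)) ≠ ⊤ := by
        rw [hdim ξ hξ, hn]
        have h : ((n : ℕ∞) : WithBot ℕ∞) ≠ ((⊤ : ℕ∞) : WithBot ℕ∞) := by
          rw [Ne, WithBot.coe_inj]
          exact ENat.natCast_ne_top n
        exact h
      have hne : closure ({w.1} : Set Y) ≠ closure ({ξ} : Set Y) := by
        intro h
        have hξW : closure ({ξ} : Set Y) ⊆ W := by
          rw [← h]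
          exact closure_minimal (by rintro _ rfl; exact w.2) hWcl
        obtain ⟨U, hU, hξU, -⟩ := exists_isAffineOpen_mem_and_subset (x := ξ) (U := ⊤) trivial
        have hnoeth : IsNoetherianRing Γ(Y, U) :=
          IsLocallyNoetherian.component_noetherian ⟨U, hU⟩
        have : NoetherianSpace ↥(U : Set Y) := noetherianSpace_of_isAffineOpen U hU
        obtain ⟨V, hVo, hVne, hV⟩ := exists_isOpen_subset_closure ξ hξ (U : Set Y) U.2 hξU
        have : V ⊆ interior W := interior_maximal (hV.trans hξW) hVo
        rw [hW] at this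
        obtain ⟨v, hv⟩ := hVne
        exact this hv
      have := topologicalKrullDim_lt_of_ssubset _ _ isClosed_closure
        isIrreducible_singleton.closure hsub hne hfin
      rwa [hdim ξ hξ, hn] at this
    rw [topologicalKrullDim_eq_iSup_closure (X := ↥W)]
    rcases Nat.eq_zero_or_pos n with rfl | hpos
    · have : ∀ w : ↥W, topologicalKrullDim ↥(closure ({w} : Set ↥W)) = ⊥ := by
        intro w
        have h := key w
        have h0 : ((0 : ℕ) : WithBot ℕ∞) = 0 := rfl
        rw [h0] at h
        exact (WithBot.lt_coe_bot).mp h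
      simp only [this, iSup_bot]
      exact WithBot.bot_lt_coe _
    · obtain ⟨m, rfl⟩ : ∃ m, n = m + 1 := ⟨n - 1, by omega⟩
      have hle : ∀ w : ↥W, topologicalKrullDim ↥(closure ({w} : Set ↥W)) ≤ (m : WithBot ℕ∞) := by
        intro w
        have h := key w
        generalize topologicalKrullDim ↥(closure ({w} : Set ↥W)) = a at h ⊢
        induction a with
        | bot => exact bot_le
        | coe a =>
          have h' : a < ((m + 1 : ℕ) : ℕ∞) := by exact_mod_cast h
          have h'' : a ≤ (m : ℕ∞) := by
            rw [Nat.cast_add, Nat.cast_one] at h'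
            exact (ENat.lt_add_one_iff (ENat.natCast_ne_top m)).mp h'
          exact_mod_cast h''
      refine lt_of_le_of_lt (iSup_le hle) ?_
      exact_mod_cast Nat.lt_succ_self m
  · intro hlt
    by_contra hnd
    have hne : (interior (closure Z)).Nonempty := by
      rw [Set.nonempty_iff_ne_empty]
      exact hnd
    obtain ⟨O, F, hO, hF, rfl⟩ := hZ
    obtain ⟨v0, hv0⟩ := hne
    have hv0cl : v0 ∈ closure (O ∩ F) := interior_subset hv0
    obtain ⟨v, hvV, hvOF⟩ := mem_closure_iff.mp hv0cl _ isOpen_interior hv0
    set V' : Opens Y := ⟨interior (closure (O ∩ F)) ∩ O, isOpen_interior.inter hO⟩ with hV'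
    have hV'sub : (V' : Set Y) ⊆ O ∩ F := by
      rintro x ⟨hx1, hx2⟩
      refine ⟨hx2, ?_⟩
      have : closure (O ∩ F) ⊆ F := closure_minimal Set.inter_subset_right hF
      exact this (interior_subset hx1)
    have hvV' : v ∈ V' := ⟨hvV, hvOF.1⟩
    obtain ⟨ξ, hξv, hξ⟩ := hgen v
    have hξV' : ξ ∈ V' := hξv.mem_open V'.2 hvV'
    have h1 := topologicalKrullDim_closure_inter_opens_eq g ξ V' hξV'
    rw [hdim ξ hξ, hn] at h1
    have h2 : topologicalKrullDim ↥(closure ({ξ} : Set Y) ∩ (V' : Set Y)) ≤
        topologicalKrullDim ↥(O ∩ F) :=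
      topologicalKrullDim_mono_set (Set.inter_subset_right.trans hV'sub)
    rw [h1] at h2
    exact absurd hlt (not_lt.mpr h2)

end Groth.Agent.S4644
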