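import Groth.Statements.S10561
import Groth.Agent.Lib.Helper54.Transfer
import Groth.Agent.Lib.Helper54.Reduced

set_option autoImplicit false
universe u
open CategoryTheory CategoryTheory.Limits AlgebraicGeometry
open AlgSp

namespace Groth.Agent.S10561

/-- Let f : X ⟶ Y be a flat and surjective morphism of algebraic spaces over S. If X is reduced then Y
is reduced. -/
theorem result {S : Scheme.{u}} {X Y : AlgSp.Space S} (f : X ⟶ Y)
    (hfl : AlgSp.LocP @Flat f.hom) (hs : AlgSp.IsSurjectiveMor f.hom) (hX : AlgSp.IsReducedSp X.obj) :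
    AlgSp.IsReducedSp Y.obj := by
  obtain ⟨U, p, hpe, hps, hU⟩ := hX
  obtain ⟨W, q, hqe, hqs⟩ := Y.property.atlas
  obtain ⟨V, a, h, ha, sq, hrep⟩ := Groth.Agent.Lib.Helper54.exists_chart_square f.hom p hpe q hqe
  refine ⟨W, q, hqe, hqs, ?_⟩
  have hflat : Flat h.left := Groth.Agent.Lib.Helper54.locP_of_chart_square hfl hqe sq hrep
  have hsurj : Surjective h.left :=
    ⟨Groth.Agent.Lib.Helper54.surjective_of_chart_square sq
      (Groth.Agent.H52.surjective_points_of_repWith_surjective p hps) hs⟩
  have : IsReduced U.left := hU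
  have : IsReduced V.left := Groth.Agent.Lib.Helper54.isReduced_of_etale_scheme a.left
  exact Groth.Agent.Lib.Helper54.isReduced_of_flat_of_surjective h.left

end Groth.Agent.S10561
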