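import Groth.Statements.S10686
import Groth.Agent.S10561
import Groth.Agent.S9906
import Groth.Agent.H52.FibreProd
import Groth.Agent.H52.LocPInst
import Groth.Agent.H52.LocPCalc4
import Groth.Agent.H53.FieldQuotPts

set_option autoImplicit false
universe u
open CategoryTheory CategoryTheory.Limits AlgebraicGeometry
open AlgSp

namespace Groth.Agent.S10686

variable {S : Scheme.{u}}

theorem flat_surjective_spec_field {K L : Type u} [Field K] [Field L]
    (φ : Spec (CommRingCat.of K) ⟶ Spec (CommRingCat.of L)) :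
    Flat φ ∧ Surjective φ := by
  haveI : Subsingleton ↥(Spec (CommRingCat.of L)) :=
    inferInstanceAs (Subsingleton (PrimeSpectrum L))
  exact ⟨inferInstance, ⟨fun y => ⟨IsLocalRing.closedPoint K, Subsingleton.elim _ _⟩⟩⟩

theorem yon_map_toHom {F : AlgSp.Sp S} (p : AlgSp.FieldPt F) {T : Over S} (c : T ⟶ p.pt) :
    (AlgSp.yon S).map c ≫ p.toHom = (AlgSp.J S).uliftYonedaEquiv.symm (F.obj.map c.op p.val) :=
  (AlgSp.J S).uliftYonedaEquiv_symm_naturality_left c F p.val

/-- The field point obtained by extending the field of a field point. -/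
noncomputable def extPt {F : AlgSp.Sp S} (k : AlgSp.FieldPt F) {k' : Type u} [Field k'] (φ : k.K →+* k') :
    AlgSp.FieldPt F where
  K := k'
  str := Spec.map (CommRingCat.ofHom φ) ≫ k.str
  val := F.obj.map (Over.homMk (Spec.map (CommRingCat.ofHom φ)) rfl :
    Over.mk (Spec.map (CommRingCat.ofHom φ) ≫ k.str) ⟶ k.pt).op k.val

theorem extPt_toHom {F : AlgSp.Sp S} (k : AlgSp.FieldPt F) {k' : Type u} [Field k'] (φ : k.K →+* k') :
    (extPt k φ).toHom = (AlgSp.yon S).map (Over.homMk (Spec.map (CommRingCat.ofHom φ)) rfl :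
      Over.mk (Spec.map (CommRingCat.ofHom φ) ≫ k.str) ⟶ k.pt) ≫ k.toHom :=
  (yon_map_toHom k _).symm

theorem mk_extPt {F : AlgSp.Sp S} (k : AlgSp.FieldPt F) {k' : Type u} [Field k'] (φ : k.K →+* k') :
    AlgSp.Points.mk (extPt k φ) = AlgSp.Points.mk k := by
  exact (Groth.Agent.H53.FieldQuot.points_mk_eq_of_factor k (extPt k φ)
    (Over.homMk (Spec.map (CommRingCat.ofHom φ)) rfl :
      Over.mk (Spec.map (CommRingCat.ofHom φ) ≫ k.str) ⟶ k.pt) (extPt_toHom k φ).symm).symm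

/-- Descent of reducedness of a fibre along a flat surjective change of the base point. -/
theorem reduced_descent {X Y : AlgSp.Space S} (f : X ⟶ Y)
    {T₀ T₁ : Over S} (c : T₁ ⟶ T₀) (hfl : Flat c.left) (hsurj : Surjective c.left)
    (y₀ : (AlgSp.yon S).obj T₀ ⟶ Y.obj)
    {X₀ X₁ : AlgSp.Sp S} (a₀ : X₀ ⟶ X.obj) (b₀ : X₀ ⟶ (AlgSp.yon S).obj T₀)
    (sq₀ : IsPullback a₀ b₀ f.hom y₀)
    (a₁ : X₁ ⟶ X.obj) (b₁ : X₁ ⟶ (AlgSp.yon S).obj T₁)
    (sq₁ : IsPullback a₁ b₁ f.hom ((AlgSp.yon S).map c ≫ y₀))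
    (h₁ : AlgSp.EtaleLocally (fun U => IsReduced U) X₁) :
    AlgSp.EtaleLocally (fun U => IsReduced U) X₀ := by
  have hX₀ : AlgSp.IsAlgSpace X₀ :=
    Groth.Agent.H52.isAlgSpace_of_isPullback sq₀ X.property Y.property (AlgSp.IsAlgSpace.yon_obj _)
  have hX₁ : AlgSp.IsAlgSpace X₁ :=
    Groth.Agent.H52.isAlgSpace_of_isPullback sq₁ X.property Y.property (AlgSp.IsAlgSpace.yon_obj _)
  let g : X₁ ⟶ X₀ := sq₀.lift a₁ (b₁ ≫ (AlgSp.yon S).map c) (by rw [sq₁.w, Category.assoc])
  have hg1 : g ≫ a₀ = a₁ := sq₀.lift_fst _ _ _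
  have hg2 : g ≫ b₀ = b₁ ≫ (AlgSp.yon S).map c := sq₀.lift_snd _ _ _
  have sqL : IsPullback g b₁ b₀ ((AlgSp.yon S).map c) :=
    IsPullback.of_right (by rw [hg1]; exact sq₁) hg2 sq₀
  have hcF : AlgSp.RepWith @Flat ((AlgSp.yon S).map c) := (AlgSp.repWith_yon_map_iff @Flat c).2 hfl
  have hcS : AlgSp.RepWith @Surjective ((AlgSp.yon S).map c) :=
    (AlgSp.repWith_yon_map_iff @Surjective c).2 hsurj
  have hgF : AlgSp.RepWith @Flat g := (AlgSp.RepWith @Flat).of_isPullback sqL.flip hcF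
  have hgS : AlgSp.RepWith @Surjective g := (AlgSp.RepWith @Surjective).of_isPullback sqL.flip hcS
  have hgF' : AlgSp.LocP @Flat g := Groth.Agent.H52.isEtLocal_flat.locP_of_repWith' g hgF
  let X₀' : AlgSp.Space S := ⟨X₀, hX₀⟩
  let X₁' : AlgSp.Space S := ⟨X₁, hX₁⟩
  let g' : X₁' ⟶ X₀' := ObjectProperty.homMk g
  have hgS' : AlgSp.IsSurjectiveMor g := (Groth.Agent.S9906.result g' hgS.1).1 hgS
  exact Groth.Agent.S10561.result g' hgF' hgS' h₁

/-- For a morphism f : X ⟶ Y between algebraic spaces over S and a point y of |Y|, write X_k for the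
fibre (pullback in fppf sheaves) over a field point k of Y and call X_k geometrically reduced when
for every field homomorphism k ⟶ k' the base change X_{k'} is reduced (some etale surjective scheme
chart reduced). The following are equivalent: (1) X_k is geometrically reduced for some k in the
class of y; (2) X_k is geometrically reduced for every k in the class of y; (3) X_k is reduced for
every k in the class of y. -/
theorem result {S : Scheme.{u}} {X Y : AlgSp.Space S} (f : X ⟶ Y) (y : AlgSp.Points Y.obj) :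
    [∃ (k : AlgSp.FieldPt Y.obj), AlgSp.Points.mk k = y ∧
        ∀ (k' : Type u) [Field k'] (φ : k.K →+* k') (Xk' : AlgSp.Sp S) (a : Xk' ⟶ X.obj)
          (b : Xk' ⟶ (AlgSp.yon S).obj (Over.mk (Spec.map (CommRingCat.ofHom φ) ≫ k.str))),
          IsPullback a b f.hom ((AlgSp.yon S).map (Over.homMk (Spec.map (CommRingCat.ofHom φ)) rfl :
            Over.mk (Spec.map (CommRingCat.ofHom φ) ≫ k.str) ⟶ k.pt) ≫ k.toHom) →
          AlgSp.EtaleLocally (fun U => IsReduced U) Xk',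
      ∀ (k : AlgSp.FieldPt Y.obj), AlgSp.Points.mk k = y →
        ∀ (k' : Type u) [Field k'] (φ : k.K →+* k') (Xk' : AlgSp.Sp S) (a : Xk' ⟶ X.obj)
          (b : Xk' ⟶ (AlgSp.yon S).obj (Over.mk (Spec.map (CommRingCat.ofHom φ) ≫ k.str))),
          IsPullback a b f.hom ((AlgSp.yon S).map (Over.homMk (Spec.map (CommRingCat.ofHom φ)) rfl :
            Over.mk (Spec.map (CommRingCat.ofHom φ) ≫ k.str) ⟶ k.pt) ≫ k.toHom) →
          AlgSp.EtaleLocally (fun U => IsReduced U) Xk',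
      ∀ (k : AlgSp.FieldPt Y.obj), AlgSp.Points.mk k = y →
        ∀ (Xk : AlgSp.Sp S) (a : Xk ⟶ X.obj) (b : Xk ⟶ (AlgSp.yon S).obj k.pt), IsPullback a b f.hom k.toHom →
          AlgSp.EtaleLocally (fun U => IsReduced U) Xk].TFAE := by
  tfae_have 2 → 1 := by
    intro h2
    obtain ⟨k, hk⟩ := AlgSp.Points.mk_surjective y
    exact ⟨k, hk, h2 k hk⟩
  tfae_have 3 → 2 := by
    intro h3 k hk k' _ φ Xk' a b sq
    refine h3 (extPt k φ) ((mk_extPt k φ).trans hk) Xk' a b ?_
    rw [extPt_toHom]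
    exact sq
  tfae_have 2 → 3 := by
    intro h2 k hk Xk a b sq
    let h : Over.mk (Spec.map (CommRingCat.ofHom (RingHom.id k.K)) ≫ k.str) ⟶ k.pt :=
      Over.homMk (Spec.map (CommRingCat.ofHom (RingHom.id k.K))) rfl
    haveI hl : IsIso h.left := by
      change IsIso (Spec.map (CommRingCat.ofHom (RingHom.id k.K)))
      rw [show CommRingCat.ofHom (RingHom.id k.K) = 𝟙 _ from rfl, Spec.map_id]
      infer_instance
    haveI : IsIso h := by
      haveI : IsIso ((Over.forget S).map h) := hl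
      exact isIso_of_reflects_iso h (Over.forget S)
    have leftSq : IsPullback (𝟙 Xk) (b ≫ inv ((AlgSp.yon S).map h)) b ((AlgSp.yon S).map h) :=
      IsPullback.of_horiz_isIso ⟨by simp⟩
    have big := leftSq.paste_horiz sq
    rw [Category.id_comp] at big
    exact h2 k hk k.K (RingHom.id k.K) Xk a _ big
  tfae_have 1 → 2 := by
    rintro ⟨k₀, hk₀, H⟩ k hk k' _ φ Xk' a b sq
    have hrel : AlgSp.FieldPt.Rel k₀ k := AlgSp.Points.mk_eq_mk_iff.1 (hk₀.trans hk.symm)
    obtain ⟨Ω, _, w, α, β, hαβ⟩ := hrel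
    obtain ⟨Ω', _, i₁, i₂, hi⟩ :=
      AlgSp.FieldPt.exists_amalgamation (Spec.preimage β.left).hom φ
    let ψ : k₀.K →+* Ω' := i₁.comp (Spec.preimage α.left).hom
    have e1 : Spec.map (CommRingCat.ofHom i₂) ≫ Spec.map (CommRingCat.ofHom φ) =
        Spec.map (CommRingCat.ofHom i₁) ≫ β.left := by
      rw [← Spec.map_comp, ← CommRingCat.ofHom_comp, ← hi, CommRingCat.ofHom_comp, Spec.map_comp,
        CommRingCat.ofHom_hom, Spec.map_preimage]
    have e2 : Spec.map (CommRingCat.ofHom ψ) = Spec.map (CommRingCat.ofHom i₁) ≫ α.left := by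
      change Spec.map (CommRingCat.ofHom (i₁.comp (Spec.preimage α.left).hom)) = _
      rw [CommRingCat.ofHom_comp, Spec.map_comp, CommRingCat.ofHom_hom, Spec.map_preimage]
    have wα : α.left ≫ k₀.str = w := Over.w α
    have wβ : β.left ≫ k.str = w := Over.w β
    have hw : Spec.map (CommRingCat.ofHom i₂) ≫ Spec.map (CommRingCat.ofHom φ) ≫ k.str =
        Spec.map (CommRingCat.ofHom ψ) ≫ k₀.str := by
      rw [← Category.assoc, e1, e2, Category.assoc, Category.assoc, wα, wβ]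
    let c : Over.mk (Spec.map (CommRingCat.ofHom ψ) ≫ k₀.str) ⟶
        Over.mk (Spec.map (CommRingCat.ofHom φ) ≫ k.str) :=
      Over.homMk (Spec.map (CommRingCat.ofHom i₂)) hw
    let hφ : Over.mk (Spec.map (CommRingCat.ofHom φ) ≫ k.str) ⟶ k.pt :=
      Over.homMk (Spec.map (CommRingCat.ofHom φ)) rfl
    let hψ : Over.mk (Spec.map (CommRingCat.ofHom ψ) ≫ k₀.str) ⟶ k₀.pt :=
      Over.homMk (Spec.map (CommRingCat.ofHom ψ)) rfl
    have hwe : Spec.map (CommRingCat.ofHom i₁) ≫ w = Spec.map (CommRingCat.ofHom ψ) ≫ k₀.str := by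
      rw [e2, Category.assoc, wα]
    let e : Over.mk (Spec.map (CommRingCat.ofHom ψ) ≫ k₀.str) ⟶ Over.mk w :=
      Over.homMk (Spec.map (CommRingCat.ofHom i₁)) hwe
    have hc1 : c ≫ hφ = e ≫ β := Over.OverMorphism.ext e1
    have hc2 : hψ = e ≫ α := Over.OverMorphism.ext e2
    have hαβ' : (AlgSp.yon S).map β ≫ k.toHom = (AlgSp.yon S).map α ≫ k₀.toHom := by
      rw [yon_map_toHom, yon_map_toHom, hαβ]
    have hc : (AlgSp.yon S).map c ≫ ((AlgSp.yon S).map hφ ≫ k.toHom) =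
        (AlgSp.yon S).map hψ ≫ k₀.toHom := by
      rw [← Category.assoc, ← Functor.map_comp, hc1, Functor.map_comp, Category.assoc, hαβ',
        ← Category.assoc, ← Functor.map_comp, ← hc2]
    have sq₁' := IsPullback.of_hasPullback f.hom ((AlgSp.yon S).map hψ ≫ k₀.toHom)
    have hred := H Ω' ψ (pullback f.hom ((AlgSp.yon S).map hψ ≫ k₀.toHom)) (pullback.fst _ _)
      (pullback.snd _ _) sq₁'
    obtain ⟨hfl, hsurj⟩ := flat_surjective_spec_field c.left
    refine reduced_descent f c hfl hsurj _ a b sq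
      (pullback.fst f.hom ((AlgSp.yon S).map hψ ≫ k₀.toHom))
      (pullback.snd f.hom ((AlgSp.yon S).map hψ ≫ k₀.toHom)) ?_ hred
    rw [hc]
    exact sq₁'
  tfae_finish

end Groth.Agent.S10686
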