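import Groth.Statements.S9267
import Groth.Agent.Lib.Helper47.CechKoszul

set_option autoImplicit false
universe u
attribute [local instance] HasDerivedCategory.standard
open CategoryTheory
open DerCA

namespace Groth.Agent.S9267

/-- For a Koszul-regular sequence f_1, ..., f_r in a ring R, the extended alternating Cech complex R → ⊕
R_{f_i} → ... → R_{f_1 ... f_r} has cohomology only in degree r. -/
theorem result (R : Type u) [CommRing R] (fs : List R)
    (hfs : LCI.IsKoszulRegularSeq R fs) (q : ℤ) (hq : q ≠ (fs.length : ℤ)) :
    Limits.IsZero (DerCA.extCechH fs (ModuleCat.of R R) q) := by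
  open Groth.Agent.Lib.Helper47 Groth.Agent.Lib.Helper47.CechKoszul in
  classical
  by_contra hcon0
  -- the set of degrees with nonvanishing cohomology is nonempty and bounded below by `0`
  set Y := DerCA.extCech (ModuleCat.of R R) fs with hY
  have hN : ∀ a ∈ fs, Nil a Y := fun a ha q' x =>
    exists_pow_smul_extCechH_eq_zero (ModuleCat.of R R) fs a ha q' x
  -- strong induction: all degrees `< q'` vanish for `q' ≤ min q ...`
  have key : ∀ n : ℕ, ∀ q' : ℤ, q' < n → q' ≠ (fs.length : ℤ) → Limits.IsZero (Y.homology q') := by
    intro n
    induction n with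
    | zero =>
      intro q' hq' _
      exact isZero_extCechH (ModuleCat.of R R) fs q' (Or.inl (by simpa using hq'))
    | succ n ih =>
      intro q' hq' hne
      by_cases hlt : q' < n
      · exact ih q' hlt hne
      · have hqn : q' = n := by push_cast at hq'; lia
        by_cases hgt : (fs.length : ℤ) < q'
        · exact isZero_extCechH (ModuleCat.of R R) fs q' (Or.inr hgt)
        · have hlt' : q' < (fs.length : ℤ) := lt_of_le_of_ne (not_lt.mp hgt) hne
          by_contra hnz
          have hbelow : ∀ q'' : ℤ, q'' < q' → Limits.IsZero (Y.homology q'') := by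
            intro q'' hq''
            exact ih q'' (by lia) (by lia)
          obtain ⟨_, h2⟩ := not_isZero_homology_CC Y fs hN q' hbelow hnz fs (fun a h => h)
          exact h2 (isZero_homology_CC_extCech_of_koszulRegular fs hfs _ (by lia))
  obtain ⟨n, hn⟩ : ∃ n : ℕ, q < n := ⟨(q.toNat + 1 : ℕ), by push_cast; lia⟩
  exact hcon0 (key n q hn hq)

end Groth.Agent.S9267
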