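import Groth.Statements.S1699
import Groth.Agent.Lib.Helper45.AssPoint
import Groth.Agent.Lib.Helper45.AffinePoints
import Groth.Agent.Lib.Helper45.WeakAssNoeth

set_option autoImplicit false
universe u
open CategoryTheory CategoryTheory.Limits AlgebraicGeometry TopologicalSpace
open SDiv

namespace Groth.Agent.S1699

open Groth.Agent.Lib.Helper45

variable {X : Scheme.{u}}

/-- For `x` in an affine open `U`: the maximal ideal of `O_{X,x}` is an associated prime of
`O_{X,x}` iff the prime of `x` is weakly associated to the ring `Γ(X, U)`. -/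
theorem isAssociatedPrime_stalk_iff {U : X.Opens} (hU : IsAffineOpen U) (x : U) :
    IsAssociatedPrime (IsLocalRing.maximalIdeal (X.presheaf.stalk (x : X)))
      (X.presheaf.stalk (x : X)) ↔
      (hU.primeIdealOf x).asIdeal ∈ FlatCA.weakAss Γ(X, U) Γ(X, U) := by
  have := hU.isLocalization_stalk x
  rw [isAssociatedPrime_maximalIdeal_iff]
  exact (mem_weakAss_iff_exists_radical_annEl_eq_maximalIdeal (hU.primeIdealOf x).asIdeal
    (X.presheaf.stalk (x : X)) (Algebra.linearMap Γ(X, U) (X.presheaf.stalk (x : X)))).symm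

theorem section_ext_ring (U : X.Opens) (s t : Γ(X, U))
    (h : ∀ (x : X) (hx : x ∈ U), X.presheaf.germ U x hx s = X.presheaf.germ U x hx t) : s = t :=
  TopCat.Presheaf.section_ext X.sheaf U s t h

/-- The germ of `t` at `y` vanishes iff some element outside the prime of `y` kills `t`. -/
theorem germ_eq_zero_iff {U : X.Opens} (hU : IsAffineOpen U) (y : U) (t : Γ(X, U)) :
    X.presheaf.germ U y y.2 t = 0 ↔ ∃ u : Γ(X, U), u ∉ (hU.primeIdealOf y).asIdeal ∧ u * t = 0 := by
  have := hU.isLocalization_stalk y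
  have h := IsLocalization.map_eq_zero_iff (hU.primeIdealOf y).asIdeal.primeCompl
    (X.presheaf.stalk (y : X)) t
  constructor
  · intro h0
    obtain ⟨u, hu⟩ := h.mp h0
    exact ⟨u, u.2, hu⟩
  · rintro ⟨u, hu, hut⟩
    exact h.mpr ⟨⟨u, hu⟩, hut⟩

/-- (1) if and only if (3): let X be a locally Noetherian scheme and U an open subscheme. Then U is
scheme-theoretically dense in X if and only if U contains every associated point of X (every point
whose local ring has its maximal ideal as an associated prime). -/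
theorem result (X : Scheme.{u}) [IsLocallyNoetherian X] (U : X.Opens) :
    CInt.IsSchematicallyDense U ↔ ∀ x : ↥X, IsAssociatedPrime (IsLocalRing.maximalIdeal ↑(X.presheaf.stalk x)) ↑(X.presheaf.stalk x) → x ∈ U := by
  constructor
  · -- dense ⇒ contains the associated points
    intro hdense x hx
    by_contra hxU
    obtain ⟨_, ⟨W, hW : IsAffineOpen W, rfl⟩, hxW, -⟩ :=
      X.isBasis_affineOpens.exists_subset_of_mem_open (Set.mem_univ x) isOpen_univ
    have : IsNoetherianRing Γ(X, W) := IsLocallyNoetherian.component_noetherian ⟨W, hW⟩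
    rw [isAssociatedPrime_stalk_iff hW ⟨x, hxW⟩] at hx
    obtain ⟨t0, ht0⟩ := hx
    replace ht0 : (hW.primeIdealOf ⟨x, hxW⟩).asIdeal ∈ (annEl Γ(X, W) t0).minimalPrimes := ht0
    rw [← colon_bot_singleton_eq_annEl] at ht0
    obtain ⟨t, ht⟩ := Submodule.exists_eq_colon_of_mem_minimalPrimes ht0
    rw [colon_bot_singleton_eq_annEl] at ht
    -- `t` vanishes on `W ⊓ U`
    have hres : X.presheaf.map (homOfLE (inf_le_left : W ⊓ U ≤ W)).op t = 0 := by
      apply section_ext_ring
      intro y hy
      rw [map_zero, TopCat.Presheaf.germ_res_apply]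
      have hyW : y ∈ W := hy.1
      have hyU : y ∈ U := hy.2
      rw [germ_eq_zero_iff hW ⟨y, hyW⟩]
      -- the prime of `x` is not contained in the prime of `y`
      have hnle : ¬ (hW.primeIdealOf ⟨x, hxW⟩).asIdeal ≤ (hW.primeIdealOf ⟨y, hyW⟩).asIdeal := by
        intro hle
        have hsp : x ⤳ y := (primeIdealOf_le_iff hW ⟨y, hyW⟩ ⟨x, hxW⟩).mp hle
        exact hxU (hsp.mem_open U.2 hyU)
      obtain ⟨u, hu, huy⟩ := SetLike.not_le_iff_exists.mp hnle
      refine ⟨u, huy, ?_⟩
      rw [ht, mem_annEl, smul_eq_mul] at hu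
      exact hu
    have ht0' : t = 0 := by
      have := hdense W
      apply this
      rw [hres, map_zero]
    have htop : annEl Γ(X, W) t = ⊤ := by
      rw [ht0']
      exact annEl_eq_top_iff.mpr rfl
    exact (hW.primeIdealOf ⟨x, hxW⟩).isPrime.ne_top (ht.trans htop)
  · -- contains the associated points ⇒ dense
    intro h V
    rw [injective_iff_map_eq_zero]
    intro r hr
    apply section_ext_ring
    intro x hxV
    rw [map_zero]
    obtain ⟨_, ⟨W, hW : IsAffineOpen W, rfl⟩, hxW, hWV⟩ :=
      X.isBasis_affineOpens.exists_subset_of_mem_open hxV V.2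
    have hWV' : W ≤ V := hWV
    have hm : X.presheaf.map (homOfLE hWV').op r = 0 := by
      by_contra hne
      obtain ⟨p, hp, hle⟩ := exists_mem_weakAss_of_ne_zero (R := Γ(X, W)) (M := Γ(X, W)) hne
      have hpP : p.IsPrime := isPrime_of_mem_weakAss hp
      obtain ⟨y, hy⟩ := exists_primeIdealOf_eq hW ⟨p, hpP⟩
      have hyp : (hW.primeIdealOf y).asIdeal = p := congrArg PrimeSpectrum.asIdeal hy
      have hass : IsAssociatedPrime (IsLocalRing.maximalIdeal (X.presheaf.stalk (y : X)))
          (X.presheaf.stalk (y : X)) := by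
        rw [isAssociatedPrime_stalk_iff hW y, hyp]
        exact hp
      have hyU : (y : X) ∈ U := h _ hass
      have hyV : (y : X) ∈ V := hWV' y.2
      have hgerm : X.presheaf.germ W y y.2 (X.presheaf.map (homOfLE hWV').op r) = 0 := by
        rw [TopCat.Presheaf.germ_res_apply,
          ← TopCat.Presheaf.germ_res_apply X.presheaf (homOfLE (inf_le_left : V ⊓ U ≤ V)) (y : X)
            ⟨hyV, hyU⟩ r, hr, map_zero]
      obtain ⟨u, hu, hut⟩ := (germ_eq_zero_iff hW y _).mp hgerm
      have hup : u ∈ p := hle (by rw [mem_annEl, smul_eq_mul]; exact hut)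
      exact hu (hyp.ge hup)
    rw [← TopCat.Presheaf.germ_res_apply X.presheaf (homOfLE hWV') x hxW r, hm, map_zero]

end Groth.Agent.S1699
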