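import Groth.Statements.S15806
import Mathlib
import Groth.Agent.S1699
import Groth.Agent.S3844

set_option autoImplicit false
universe u
open CategoryTheory AlgebraicGeometry
open WildQuot

namespace Groth.Agent.S15806

open CategoryTheory AlgebraicGeometry Opposite

theorem appLE_congr_hom {P Y : Scheme.{u}} {q q' : P ⟶ Y} (h : q = q') {U : Y.Opens} {V : P.Opens}
    (e : V ≤ q ⁻¹ᵁ U) (e' : V ≤ q' ⁻¹ᵁ U) : q.appLE U V e = q'.appLE U V e' := by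
  subst h; rfl

/-- two morphisms agreeing on a schematically dense open `T`, compared on sections -/
theorem appLE_eq_of_isSchematicallyDense {G₁ G₂ : Scheme.{u}} (φ ψ : G₁ ⟶ G₂) (T : G₁.Opens)
    (hT : CInt.IsSchematicallyDense T) (h : T.ι ≫ φ = T.ι ≫ ψ)
    (V₂ : G₂.Opens) (V₁ : G₁.Opens) (h₁ : V₁ ≤ φ ⁻¹ᵁ V₂) (h₂ : V₁ ≤ ψ ⁻¹ᵁ V₂) :
    φ.appLE V₂ V₁ h₁ = ψ.appLE V₂ V₁ h₂ := by
  ext b
  apply hT V₁
  change (φ.appLE V₂ V₁ h₁ ≫ G₁.presheaf.map (homOfLE (inf_le_left : V₁ ⊓ T ≤ V₁)).op) b =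
    (ψ.appLE V₂ V₁ h₂ ≫ G₁.presheaf.map (homOfLE (inf_le_left : V₁ ⊓ T ≤ V₁)).op) b
  rw [Scheme.Hom.appLE_map, Scheme.Hom.appLE_map]
  -- now on O = V₁ ⊓ T
  have hO : T.ι ''ᵁ (T.ι ⁻¹ᵁ (V₁ ⊓ T)) = V₁ ⊓ T := by
    rw [Scheme.Hom.image_preimage_eq_opensRange_inf, Scheme.Opens.opensRange_ι]
    exact inf_eq_right.mpr inf_le_right
  have e₂ : T.ι ⁻¹ᵁ (V₁ ⊓ T) ≤ T.ι ⁻¹ᵁ (V₁ ⊓ T) := le_rfl
  have hr : IsIso (T.ι.appLE (V₁ ⊓ T) (T.ι ⁻¹ᵁ (V₁ ⊓ T)) e₂) := by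
    rw [Scheme.Opens.ι_appLE]
    have : homOfLE (show T.ι ''ᵁ (T.ι ⁻¹ᵁ (V₁ ⊓ T)) ≤ V₁ ⊓ T from hO.le) = eqToHom hO :=
      Subsingleton.elim _ _
    rw [this]
    exact inferInstanceAs (IsIso (G₁.presheaf.mapIso (eqToIso hO).op).hom)
  have key : φ.appLE V₂ (V₁ ⊓ T) (inf_le_left.trans h₁) ≫
        T.ι.appLE (V₁ ⊓ T) (T.ι ⁻¹ᵁ (V₁ ⊓ T)) e₂ =
      ψ.appLE V₂ (V₁ ⊓ T) (inf_le_left.trans h₂) ≫
        T.ι.appLE (V₁ ⊓ T) (T.ι ⁻¹ᵁ (V₁ ⊓ T)) e₂ := by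
    rw [Scheme.Hom.appLE_comp_appLE, Scheme.Hom.appLE_comp_appLE]
    exact appLE_congr_hom h _ _
  have := (cancel_mono _).mp key
  exact congr($this b)

/-- Let `S` be a Noetherian scheme, `G_1 → S` and `G_2 → S` finite flat morphisms, and `U ⊆ S` an open
subset containing every associated point of `S`, i.e. every point whose local ring has the maximal
ideal as an associated prime (for `S` Noetherian this says exactly that `U` is dense and contains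
all points at which `S` does not satisfy Serre's condition `S_1`, which is the printed hypothesis).
If two `S`-morphisms `φ, ψ : G_1 → G_2` agree on the preimage of `U`, then `φ = ψ`. -/
theorem result
    (S G₁ G₂ : Scheme.{u}) [AlgebraicGeometry.IsNoetherian S] (f₁ : G₁ ⟶ S) (f₂ : G₂ ⟶ S)
    [AlgebraicGeometry.IsFinite f₁] [AlgebraicGeometry.Flat f₁]
    [AlgebraicGeometry.IsFinite f₂] [AlgebraicGeometry.Flat f₂]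
    (U : S.Opens)
    (hU : ∀ s : S, IsLocalRing.maximalIdeal (S.presheaf.stalk s) ∈
        associatedPrimes (S.presheaf.stalk s) (S.presheaf.stalk s) → s ∈ U)
    (φ ψ : G₁ ⟶ G₂) (hφ : φ ≫ f₂ = f₁) (hψ : ψ ≫ f₂ = f₁)
    (h : (f₁ ⁻¹ᵁ U).ι ≫ φ = (f₁ ⁻¹ᵁ U).ι ≫ ψ) : φ = ψ := by
  have hdense : CInt.IsSchematicallyDense U :=
    (Groth.Agent.S1699.result S U).mpr (fun s hs => hU s hs)
  have hdense₁ : CInt.IsSchematicallyDense (f₁ ⁻¹ᵁ U) := Groth.Agent.S3844.result f₁ U hdense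
  apply Scheme.hom_ext_of_forall
  intro x
  obtain ⟨_, ⟨W, hW : IsAffineOpen W, rfl⟩, hxW, -⟩ :=
    S.isBasis_affineOpens.exists_subset_of_mem_open (Set.mem_univ (f₁ x)) isOpen_univ
  refine ⟨f₁ ⁻¹ᵁ W, hxW, ?_⟩
  have h₁ : f₁ ⁻¹ᵁ W ≤ φ ⁻¹ᵁ (f₂ ⁻¹ᵁ W) := by
    rw [← Scheme.Hom.comp_preimage, hφ]
  have h₂ : f₁ ⁻¹ᵁ W ≤ ψ ⁻¹ᵁ (f₂ ⁻¹ᵁ W) := by
    rw [← Scheme.Hom.comp_preimage, hψ]
  rw [← Scheme.Hom.resLE_comp_ι φ h₁, ← Scheme.Hom.resLE_comp_ι ψ h₂]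
  congr 1
  have hA₂ : IsAffineOpen (f₂ ⁻¹ᵁ W) := hW.preimage f₂
  have : IsAffine (f₂ ⁻¹ᵁ W).toScheme := hA₂
  apply ext_of_isAffine
  change (Scheme.Hom.resLE φ (f₂ ⁻¹ᵁ W) (f₁ ⁻¹ᵁ W) h₁).app ⊤ =
    (Scheme.Hom.resLE ψ (f₂ ⁻¹ᵁ W) (f₁ ⁻¹ᵁ W) h₂).app ⊤
  rw [Scheme.Hom.resLE_app_top, Scheme.Hom.resLE_app_top]
  congr 2
  exact appLE_eq_of_isSchematicallyDense φ ψ _ hdense₁ h _ _ _ _

end Groth.Agent.S15806
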