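import Groth.Statements.S15725
import Groth.Agent.Lib.Helper80.WeightCover
import Mathlib

set_option autoImplicit false
universe u
open W4c2invhilbsl2

namespace Groth.Agent.S15725

theorem weight_wt3 (p q m : ℕ) (d : Fin 3 →₀ ℕ) :
    Finsupp.weight (wt3 p q m) d = ((d 0 : ℤ) - p * d 1 + q * d 2, (d 2 : ZMod m) - d 1) := by
  rw [Finsupp.weight_apply, Finsupp.sum_fintype _ _ (by simp), Fin.sum_univ_three]
  simp only [wt3]
  ext
  · simp; ring
  · simp; ring

theorem result (k : Type u) [Field k] (p q m : ℕ) (hp : 0 < p) (hpq : p < q) (hcop : Nat.Coprime p q) (hm : 0 < m) (f : MvPolynomial (Fin 3) k)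
    (hf : f ∈ MvPolynomial.weightedHomogeneousSubmodule k (W4c2invhilbsl2.wt3 p q m) ((q : ℤ) - (p : ℤ), (0 : ZMod m))) :
    ∃ a b : MvPolynomial (Fin 3) k, a ∈ MvPolynomial.weightedHomogeneousSubmodule k (W4c2invhilbsl2.wt3 p q m) 0 ∧ b ∈ MvPolynomial.weightedHomogeneousSubmodule k (W4c2invhilbsl2.wt3 p q m) 0 ∧
      f = a * MvPolynomial.X (0 : Fin 3) ^ (q - p) + b * (MvPolynomial.X (1 : Fin 3) * MvPolynomial.X (2 : Fin 3)) := by
  classical
  have hpq' : (p : ℤ) < q := by exact_mod_cast hpq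
  have hp' : (0 : ℤ) < p := by exact_mod_cast hp
  let γ : Fin 2 → (Fin 3 →₀ ℕ) := ![Finsupp.single 0 (q - p), Finsupp.single 1 1 + Finsupp.single 2 1]
  have hcover : ∀ d : Fin 3 →₀ ℕ, Finsupp.weight (wt3 p q m) d = ((q : ℤ) - (p : ℤ), (0 : ZMod m)) →
      ∃ i, γ i ≤ d := by
    intro d hd
    rw [weight_wt3, Prod.mk.injEq] at hd
    obtain ⟨hd1, hd2⟩ := hd
    by_cases h1 : d 1 = 0
    · -- then d 2 = 0 and d 0 = q - p
      refine ⟨0, ?_⟩
      have h2 : d 2 = 0 := by
        by_contra h2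
        have : (1 : ℤ) ≤ d 2 := by exact_mod_cast Nat.one_le_iff_ne_zero.2 h2
        rw [h1] at hd1
        push_cast at hd1
        have h0 : (0 : ℤ) ≤ d 0 := Int.natCast_nonneg _
        have hq0 : (0 : ℤ) ≤ q := Int.natCast_nonneg _
        nlinarith [mul_le_mul_of_nonneg_left this hq0]
      have h0 : d 0 = q - p := by
        rw [h1, h2] at hd1
        have : (d 0 : ℤ) = ((q - p : ℕ) : ℤ) := by rw [Nat.cast_sub hpq.le]; simpa using hd1
        exact_mod_cast this
      intro i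
      fin_cases i <;> simp [γ, h0]
    · by_cases h2 : d 2 = 0
      · refine ⟨0, ?_⟩
        have h0 : q - p ≤ d 0 := by
          rw [h2] at hd1
          have : ((q - p : ℕ) : ℤ) ≤ (d 0 : ℤ) := by
            rw [Nat.cast_sub hpq.le]
            have : (0 : ℤ) ≤ (p : ℤ) * d 1 := by positivity
            simp at hd1; linarith
          exact_mod_cast this
        intro i
        fin_cases i <;> simp [γ, h0]
      · refine ⟨1, ?_⟩
        intro i
        fin_cases i <;> simp [γ] <;> omega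
  obtain ⟨a, ha, hfa⟩ := Groth.Agent.Lib.Helper80.exists_decomp_of_cover (wt3 p q m)
    ((q : ℤ) - (p : ℤ), (0 : ZMod m)) f hf γ hcover
  refine ⟨a 0, a 1, ?_, ?_, ?_⟩
  · have := ha 0
    have hw : Finsupp.weight (wt3 p q m) (γ 0) = ((q : ℤ) - (p : ℤ), (0 : ZMod m)) := by
      rw [weight_wt3]; simp [γ, Nat.cast_sub hpq.le]
    rwa [hw, sub_self] at this
  · have := ha 1
    have hw : Finsupp.weight (wt3 p q m) (γ 1) = ((q : ℤ) - (p : ℤ), (0 : ZMod m)) := by
      rw [weight_wt3]; simp [γ]; ring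
    rwa [hw, sub_self] at this
  · rw [hfa, Fin.sum_univ_two]
    have h0 : (MvPolynomial.monomial (γ 0) (1 : k)) = MvPolynomial.X (0 : Fin 3) ^ (q - p) := by
      simp [γ, MvPolynomial.X_pow_eq_monomial]
    have h1 : (MvPolynomial.monomial (γ 1) (1 : k)) = MvPolynomial.X (1 : Fin 3) * MvPolynomial.X (2 : Fin 3) := by
      simp [γ, MvPolynomial.X, MvPolynomial.monomial_mul]
    rw [h0, h1]

end Groth.Agent.S15725
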