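import Groth.Statements.S15738
import Mathlib

set_option autoImplicit false
universe u
open W4c2invhilbsl2

namespace Groth.Agent.S15738

section aux
variable {R : Type*} [CommRing R]

theorem aux1_le (A B C : R) (s : ℕ) (d0 d1 d2 e0 e1 e2 : ℕ) (h1 : d1 + e2 = e1 + d2)
    (h2 : d0 + s * d2 = e0 + s * e2) (hle : d2 ≤ e2) :
    A ^ d0 * B ^ d1 * C ^ d2 - A ^ e0 * B ^ e1 * C ^ e2 ∈ Ideal.span {A ^ s - B * C} := by
  obtain ⟨t, rfl⟩ := Nat.exists_eq_add_of_le hle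
  have he1 : e1 = d1 + t := by omega
  have hd0 : d0 = e0 + s * t := by
    have : d0 + s * d2 = e0 + s * t + s * d2 := by rw [h2]; ring
    omega
  subst he1 hd0
  have : A ^ (e0 + s * t) * B ^ (d1 + t) * C ^ d2 - A ^ e0 * B ^ (d1 + t + t) * C ^ (d2 + t) =
      A ^ e0 * B ^ (d1 + t) * C ^ d2 * ((A ^ s) ^ t - (B * C) ^ t) := by
    rw [mul_pow]; ring
  have h3 : A ^ (e0 + s * t) * B ^ d1 * C ^ d2 - A ^ e0 * B ^ (d1 + t) * C ^ (d2 + t) =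
      A ^ e0 * B ^ d1 * C ^ d2 * ((A ^ s) ^ t - (B * C) ^ t) := by
    rw [mul_pow]; ring
  rw [h3]
  apply Ideal.mul_mem_left
  rw [Ideal.mem_span_singleton]
  exact sub_dvd_pow_sub_pow _ _ _

theorem aux1 (A B C : R) (s : ℕ) (d0 d1 d2 e0 e1 e2 : ℕ) (h1 : d1 + e2 = e1 + d2)
    (h2 : d0 + s * d2 = e0 + s * e2) :
    A ^ d0 * B ^ d1 * C ^ d2 - A ^ e0 * B ^ e1 * C ^ e2 ∈ Ideal.span {A ^ s - B * C} := by
  rcases le_total d2 e2 with hle | hle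
  · exact aux1_le A B C s d0 d1 d2 e0 e1 e2 h1 h2 hle
  · have := aux1_le A B C s e0 e1 e2 d0 d1 d2 h1.symm h2.symm hle
    have hneg : A ^ d0 * B ^ d1 * C ^ d2 - A ^ e0 * B ^ e1 * C ^ e2 =
        -(A ^ e0 * B ^ e1 * C ^ e2 - A ^ d0 * B ^ d1 * C ^ d2) := (neg_sub _ _).symm
    rw [hneg]
    exact neg_mem this

theorem aux2 (A B C : R) (s p m : ℕ) (d0 d1 d2 e0 e1 e2 j : ℕ) (h1 : d1 + e2 = e1 + m * j + d2)
    (h2 : d0 + s * d2 = e0 + m * p * j + s * e2) :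
    A ^ d0 * B ^ d1 * C ^ d2 - A ^ e0 * B ^ e1 * C ^ e2 * (A ^ (m * p) * B ^ m) ^ j ∈
      Ideal.span {A ^ s - B * C} := by
  have := aux1 A B C s d0 d1 d2 (e0 + m * p * j) (e1 + m * j) e2 h1 h2
  have h3 : A ^ e0 * B ^ e1 * C ^ e2 * (A ^ (m * p) * B ^ m) ^ j =
      A ^ (e0 + m * p * j) * B ^ (e1 + m * j) * C ^ e2 := by
    rw [mul_pow, ← pow_mul, ← pow_mul, pow_add, pow_add]; ring
  rw [h3]; exact this

end aux

/-- Let k be a field and m ≥ 1; for a monomial X₀^d₀X₁^d₁X₂^d₂ of the polynomial ring in X₀, X₁, X₂ (X₂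
standing for Xⱼ, j = 3 or 4, of the five-variable ring) put n = d₀ − p·d₁ + q·d₂ (its weight for the
torus diag(t, t^(−p), t^q)), c = d₁ − d₂ and ω = p·d₁ − q·d₂, so that d₀ = n + ω; here 0 < p < q are
coprime integers. Take two monomials X₀^d₀X₁^d₁X₂^d₂ and X₀^e₀X₁^e₁X₂^e₂ with the same n and with
values c, c' of c congruent modulo m (so both lie in the same ℤ × ℤ/m-weight piece for the weights
(1,0), (−p,−1), (q,1)). Then: (i) if c = c', the difference of the two monomials lies in the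
principal ideal (X₀^(q−p) − X₁X₂); (ii) if c' < c, the monomial X₀^d₀X₁^d₁X₂^d₂ lies in the ideal
(X₀^(q−p) − X₁X₂, X₀^(mp)X₁^m); (iii) in all cases the difference lies in the ideal (X₀^(q−p) −
X₁X₂, 1 − X₀^(mp)X₁^m). -/
theorem result (k : Type u) [Field k] (p q m : ℕ) (hp : 0 < p) (hpq : p < q) (hcop : Nat.Coprime p q) (hm : 0 < m)
    (d0 d1 d2 e0 e1 e2 : ℕ) (hn : (e0 : ℤ) - (p : ℤ) * e1 + (q : ℤ) * e2 = (d0 : ℤ) - (p : ℤ) * d1 + (q : ℤ) * d2)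
    (hc : (m : ℤ) ∣ ((d1 : ℤ) - d2) - ((e1 : ℤ) - e2)) :
    ((d1 : ℤ) - d2 = (e1 : ℤ) - e2 →
      (MvPolynomial.X (0 : Fin 3) ^ d0 * MvPolynomial.X (1 : Fin 3) ^ d1 * MvPolynomial.X (2 : Fin 3) ^ d2 - MvPolynomial.X (0 : Fin 3) ^ e0 * MvPolynomial.X (1 : Fin 3) ^ e1 * MvPolynomial.X (2 : Fin 3) ^ e2 : MvPolynomial (Fin 3) k) ∈ Ideal.span {MvPolynomial.X (0 : Fin 3) ^ (q - p) - MvPolynomial.X (1 : Fin 3) * MvPolynomial.X (2 : Fin 3)}) ∧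
    ((e1 : ℤ) - e2 < (d1 : ℤ) - d2 →
      (MvPolynomial.X (0 : Fin 3) ^ d0 * MvPolynomial.X (1 : Fin 3) ^ d1 * MvPolynomial.X (2 : Fin 3) ^ d2 : MvPolynomial (Fin 3) k) ∈ Ideal.span {MvPolynomial.X (0 : Fin 3) ^ (q - p) - MvPolynomial.X (1 : Fin 3) * MvPolynomial.X (2 : Fin 3), MvPolynomial.X (0 : Fin 3) ^ (m * p) * MvPolynomial.X (1 : Fin 3) ^ m}) ∧
    ((MvPolynomial.X (0 : Fin 3) ^ d0 * MvPolynomial.X (1 : Fin 3) ^ d1 * MvPolynomial.X (2 : Fin 3) ^ d2 - MvPolynomial.X (0 : Fin 3) ^ e0 * MvPolynomial.X (1 : Fin 3) ^ e1 * MvPolynomial.X (2 : Fin 3) ^ e2 : MvPolynomial (Fin 3) k) ∈ Ideal.span {MvPolynomial.X (0 : Fin 3) ^ (q - p) - MvPolynomial.X (1 : Fin 3) * MvPolynomial.X (2 : Fin 3), 1 - MvPolynomial.X (0 : Fin 3) ^ (m * p) * MvPolynomial.X (1 : Fin 3) ^ m}) := by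
  set A : MvPolynomial (Fin 3) k := MvPolynomial.X 0 with hA
  set B : MvPolynomial (Fin 3) k := MvPolynomial.X 1 with hB
  set C : MvPolynomial (Fin 3) k := MvPolynomial.X 2 with hC
  have hs : ((q - p : ℕ) : ℤ) = (q : ℤ) - p := Nat.cast_sub hpq.le
  -- part (i)
  have part1 : ∀ (d0 d1 d2 e0 e1 e2 : ℕ),
      (e0 : ℤ) - (p : ℤ) * e1 + (q : ℤ) * e2 = (d0 : ℤ) - (p : ℤ) * d1 + (q : ℤ) * d2 →
      (d1 : ℤ) - d2 = (e1 : ℤ) - e2 →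
      A ^ d0 * B ^ d1 * C ^ d2 - A ^ e0 * B ^ e1 * C ^ e2 ∈ Ideal.span {A ^ (q - p) - B * C} := by
    intro d0 d1 d2 e0 e1 e2 hn hceq
    apply aux1
    · have : ((d1 + e2 : ℕ) : ℤ) = ((e1 + d2 : ℕ) : ℤ) := by push_cast; linarith
      exact_mod_cast this
    · have : ((d0 + (q - p) * d2 : ℕ) : ℤ) = ((e0 + (q - p) * e2 : ℕ) : ℤ) := by
        push_cast [hs]
        linear_combination (-1 : ℤ) * hn + (p : ℤ) * hceq
      exact_mod_cast this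
  -- the key step for c' < c
  have part2 : ∀ (d0 d1 d2 e0 e1 e2 : ℕ),
      (e0 : ℤ) - (p : ℤ) * e1 + (q : ℤ) * e2 = (d0 : ℤ) - (p : ℤ) * d1 + (q : ℤ) * d2 →
      (m : ℤ) ∣ ((d1 : ℤ) - d2) - ((e1 : ℤ) - e2) →
      (e1 : ℤ) - e2 < (d1 : ℤ) - d2 →
      ∃ j : ℕ, 0 < j ∧ A ^ d0 * B ^ d1 * C ^ d2 - A ^ e0 * B ^ e1 * C ^ e2 * (A ^ (m * p) * B ^ m) ^ j ∈
        Ideal.span {A ^ (q - p) - B * C} := by
    intro d0 d1 d2 e0 e1 e2 hn hc hlt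
    obtain ⟨j', hj'⟩ := hc
    have hm' : (0 : ℤ) < m := by exact_mod_cast hm
    have hj'pos : 0 < j' := by
      have : 0 < (m : ℤ) * j' := by rw [← hj']; linarith
      exact (mul_pos_iff_of_pos_left hm').1 this
    obtain ⟨j, rfl⟩ := Int.eq_ofNat_of_zero_le hj'pos.le
    refine ⟨j, by exact_mod_cast hj'pos, ?_⟩
    apply aux2
    · have : ((d1 + e2 : ℕ) : ℤ) = ((e1 + m * j + d2 : ℕ) : ℤ) := by push_cast; linarith
      exact_mod_cast this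
    · have : ((d0 + (q - p) * d2 : ℕ) : ℤ) = ((e0 + m * p * j + (q - p) * e2 : ℕ) : ℤ) := by
        push_cast [hs]
        linear_combination (-1 : ℤ) * hn + (p : ℤ) * hj'
      exact_mod_cast this
  have hsub1 : Ideal.span {A ^ (q - p) - B * C} ≤
      Ideal.span {A ^ (q - p) - B * C, A ^ (m * p) * B ^ m} :=
    Ideal.span_mono (by intro x hx; simp only [Set.mem_singleton_iff] at hx; simp [hx])
  have hsub2 : Ideal.span {A ^ (q - p) - B * C} ≤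
      Ideal.span {A ^ (q - p) - B * C, 1 - A ^ (m * p) * B ^ m} :=
    Ideal.span_mono (by intro x hx; simp only [Set.mem_singleton_iff] at hx; simp [hx])
  have hu2 : ∀ j : ℕ, (A ^ (m * p) * B ^ m) ^ j - 1 ∈
      Ideal.span {A ^ (q - p) - B * C, 1 - A ^ (m * p) * B ^ m} := by
    intro j
    have h1 : (1 - A ^ (m * p) * B ^ m) ∈
        Ideal.span {A ^ (q - p) - B * C, 1 - A ^ (m * p) * B ^ m} :=
      Ideal.subset_span (by simp)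
    have h2 : (A ^ (m * p) * B ^ m - 1) ∣ (A ^ (m * p) * B ^ m) ^ j - 1 := by
      simpa using sub_dvd_pow_sub_pow (A ^ (m * p) * B ^ m) 1 j
    obtain ⟨w, hw⟩ := h2
    rw [hw]
    apply Ideal.mul_mem_right
    have hneg : A ^ (m * p) * B ^ m - 1 = -(1 - A ^ (m * p) * B ^ m) := (neg_sub _ _).symm
    rw [hneg]
    exact neg_mem h1
  have part3 : ∀ (d0 d1 d2 e0 e1 e2 : ℕ),
      (e0 : ℤ) - (p : ℤ) * e1 + (q : ℤ) * e2 = (d0 : ℤ) - (p : ℤ) * d1 + (q : ℤ) * d2 →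
      (m : ℤ) ∣ ((d1 : ℤ) - d2) - ((e1 : ℤ) - e2) →
      (e1 : ℤ) - e2 < (d1 : ℤ) - d2 →
      A ^ d0 * B ^ d1 * C ^ d2 - A ^ e0 * B ^ e1 * C ^ e2 ∈
        Ideal.span {A ^ (q - p) - B * C, 1 - A ^ (m * p) * B ^ m} := by
    intro d0 d1 d2 e0 e1 e2 hn hc hlt
    obtain ⟨j, -, hj⟩ := part2 d0 d1 d2 e0 e1 e2 hn hc hlt
    have : A ^ d0 * B ^ d1 * C ^ d2 - A ^ e0 * B ^ e1 * C ^ e2 =
        (A ^ d0 * B ^ d1 * C ^ d2 - A ^ e0 * B ^ e1 * C ^ e2 * (A ^ (m * p) * B ^ m) ^ j) +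
        A ^ e0 * B ^ e1 * C ^ e2 * ((A ^ (m * p) * B ^ m) ^ j - 1) := by ring
    rw [this]
    exact Ideal.add_mem _ (hsub2 hj) (Ideal.mul_mem_left _ _ (hu2 j))
  refine ⟨part1 d0 d1 d2 e0 e1 e2 hn, ?_, ?_⟩
  · intro hlt
    obtain ⟨j, hjpos, hj⟩ := part2 d0 d1 d2 e0 e1 e2 hn hc hlt
    obtain ⟨j, rfl⟩ := Nat.exists_eq_succ_of_ne_zero hjpos.ne'
    have : A ^ d0 * B ^ d1 * C ^ d2 =
        (A ^ d0 * B ^ d1 * C ^ d2 - A ^ e0 * B ^ e1 * C ^ e2 * (A ^ (m * p) * B ^ m) ^ (j + 1)) +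
        A ^ e0 * B ^ e1 * C ^ e2 * (A ^ (m * p) * B ^ m) ^ j * (A ^ (m * p) * B ^ m) := by ring
    rw [this]
    exact Ideal.add_mem _ (hsub1 hj) (Ideal.mul_mem_left _ _ (Ideal.subset_span (by simp)))
  · rcases lt_trichotomy ((d1 : ℤ) - d2) ((e1 : ℤ) - e2) with hlt | heq | hlt
    · have hc' : (m : ℤ) ∣ ((e1 : ℤ) - e2) - ((d1 : ℤ) - d2) := by
        have := dvd_neg.2 hc
        simpa using this
      have := part3 e0 e1 e2 d0 d1 d2 hn.symm hc' hlt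
      have hneg : A ^ d0 * B ^ d1 * C ^ d2 - A ^ e0 * B ^ e1 * C ^ e2 =
          -(A ^ e0 * B ^ e1 * C ^ e2 - A ^ d0 * B ^ d1 * C ^ d2) := (neg_sub _ _).symm
      rw [hneg]
      exact neg_mem this
    · exact hsub2 (part1 d0 d1 d2 e0 e1 e2 hn heq)
    · exact part3 d0 d1 d2 e0 e1 e2 hn hc hlt

end Groth.Agent.S15738
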