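import Groth.Statements.S15727
import Groth.Agent.S15738
import Mathlib

set_option autoImplicit false
universe u
open W4c2invhilbsl2

namespace Groth.Agent.S15727

open MvPolynomial

theorem weight_wt5 (p q m : ℕ) (d : Fin 5 →₀ ℕ) :
    Finsupp.weight (wt5 p q m) d =
      ((d 0 : ℤ) - p * (d 1 + d 2) + q * (d 3 + d 4), ((d 3 : ZMod m) + d 4) - (d 1 + d 2)) := by
  rw [Finsupp.weight_apply, Finsupp.sum_fintype _ _ (by simp), Fin.sum_univ_five]
  simp only [wt5]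
  ext
  · simp; ring
  · simp; ring

theorem span_le_of_pairwise {k V : Type*} [Field k] [AddCommGroup V] [Module k V] (S : Set V)
    (h : ∀ v ∈ S, ∀ w ∈ S, ∃ c : k, v = c • w ∨ w = c • v) :
    ∃ v₀ : V, Submodule.span k S ≤ Submodule.span k {v₀} := by
  by_cases h0 : ∀ v ∈ S, v = 0
  · refine ⟨0, Submodule.span_le.2 ?_⟩
    intro v hv; rw [h0 v hv]; exact zero_mem _
  · push_neg at h0
    obtain ⟨v₀, hv₀, hne⟩ := h0
    refine ⟨v₀, Submodule.span_le.2 ?_⟩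
    intro w hw
    rw [SetLike.mem_coe, Submodule.mem_span_singleton]
    obtain ⟨c, hc | hc⟩ := h v₀ hv₀ w hw
    · have hc0 : c ≠ 0 := by rintro rfl; rw [zero_smul] at hc; exact hne hc
      exact ⟨c⁻¹, by rw [hc, smul_smul, inv_mul_cancel₀ hc0, one_smul]⟩
    · exact ⟨c, hc.symm⟩

theorem monomial_eq5 {k : Type*} [CommRing k] (d : Fin 5 →₀ ℕ) :
    (monomial d (1 : k) : MvPolynomial (Fin 5) k) =
      X 0 ^ d 0 * X 1 ^ d 1 * X 2 ^ d 2 * X 3 ^ d 3 * X 4 ^ d 4 := by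
  rw [monomial_eq, C_1, one_mul, Finsupp.prod_fintype _ _ (by simp), Fin.prod_univ_five]

theorem key (k : Type u) [Field k] (p q m : ℕ) (hpq : p < q) (hm : 0 < m) (s : k)
    (d e : Fin 5 →₀ ℕ) (hd2 : d 2 = 0) (hd3 : d 3 = 0) (he2 : e 2 = 0) (he3 : e 3 = 0)
    (hw : Finsupp.weight (wt5 p q m) d = Finsupp.weight (wt5 p q m) e)
    (hle : (e 1 : ℤ) - e 4 ≤ (d 1 : ℤ) - d 4) :
    ∃ j : ℕ, Ideal.Quotient.mk (idealI k p q m s) (monomial d 1) =
      (s ^ j) • Ideal.Quotient.mk (idealI k p q m s) (monomial e 1) := by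
  rw [weight_wt5, weight_wt5, Prod.mk.injEq, hd2, hd3, he2, he3] at hw
  obtain ⟨hw1, hw2⟩ := hw
  push_cast at hw1 hw2
  simp only [add_zero, zero_add] at hw1 hw2
  have hs : ((q - p : ℕ) : ℤ) = (q : ℤ) - p := Nat.cast_sub hpq.le
  have hdvd : (m : ℤ) ∣ ((d 1 : ℤ) - d 4) - ((e 1 : ℤ) - e 4) := by
    rw [← ZMod.intCast_zmod_eq_zero_iff_dvd]
    push_cast
    linear_combination (-1 : ZMod m) * hw2
  obtain ⟨j', hj'⟩ := hdvd
  have hm' : (0 : ℤ) < m := by exact_mod_cast hm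
  have hj'nn : 0 ≤ j' := by
    have : 0 ≤ (m : ℤ) * j' := by rw [← hj']; linarith
    exact (mul_nonneg_iff_of_pos_left hm').1 this
  obtain ⟨j, rfl⟩ := Int.eq_ofNat_of_zero_le hj'nn
  refine ⟨j, ?_⟩
  have haux := Groth.Agent.S15738.aux2 (X 0 : MvPolynomial (Fin 5) k) (X 1) (X 4) (q - p) p m
    (d 0) (d 1) (d 4) (e 0) (e 1) (e 4) j
    (by
      have : ((d 1 + e 4 : ℕ) : ℤ) = ((e 1 + m * j + d 4 : ℕ) : ℤ) := by push_cast; linarith
      exact_mod_cast this)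
    (by
      have : ((d 0 + (q - p) * d 4 : ℕ) : ℤ) = ((e 0 + m * p * j + (q - p) * e 4 : ℕ) : ℤ) := by
        push_cast [hs]
        linear_combination hw1 + (p : ℤ) * hj'
      exact_mod_cast this)
  have hI1 : Ideal.span {(X 0 : MvPolynomial (Fin 5) k) ^ (q - p) - X 1 * X 4} ≤ idealI k p q m s := by
    apply Ideal.span_mono
    intro x hx
    rw [Set.mem_singleton_iff] at hx
    rw [hx]; simp
  have hu : Ideal.Quotient.mk (idealI k p q m s) ((X 0 : MvPolynomial (Fin 5) k) ^ (m * p) * X 1 ^ m) =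
      Ideal.Quotient.mk (idealI k p q m s) (C s) := by
    symm
    rw [Ideal.Quotient.eq]
    apply Ideal.subset_span
    simp
  have h1 := Ideal.Quotient.eq.2 (hI1 haux)
  rw [monomial_eq5 d, monomial_eq5 e, hd2, hd3, he2, he3]
  simp only [pow_zero, mul_one]
  rw [h1, map_mul, map_pow, hu, ← map_pow, ← map_mul, ← C_pow, mul_comm, C_mul']
  exact map_smul (Ideal.Quotient.mkₐ k (idealI k p q m s)) (s ^ j) _

theorem result (k : Type u) [Field k] [IsAlgClosed k] (p q m : ℕ) (hp : 0 < p) (hpq : p < q) (hcop : Nat.Coprime p q) (hm : 0 < m) (s : k) (ν : ℤ × ZMod m) :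
    Module.rank k (W4c2invhilbsl2.piece k (W4c2invhilbsl2.wt5 p q m) (W4c2invhilbsl2.idealI k p q m s) ν) ≤ 1 := by
  classical
  set I := idealI k p q m s with hI
  set S : Set (MvPolynomial (Fin 5) k ⧸ I) :=
    {v | ∃ d : Fin 5 →₀ ℕ, Finsupp.weight (wt5 p q m) d = ν ∧
      v = Ideal.Quotient.mk I (monomial d 1)} with hS
  have hpiece : piece k (wt5 p q m) I ν ≤ Submodule.span k S := by
    rintro _ ⟨f, hf, rfl⟩
    have hfsum := (support_sum_monomial_coeff f).symm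
    rw [hfsum, map_sum]
    apply Submodule.sum_mem
    intro d hd
    have h1 : monomial d (coeff d f) = coeff d f • (monomial d 1 : MvPolynomial (Fin 5) k) := by
      rw [smul_monomial, smul_eq_mul, mul_one]
    rw [h1, map_smul]
    apply Submodule.smul_mem
    apply Submodule.subset_span
    exact ⟨d, hf (mem_support_iff.1 hd), rfl⟩
  have hzero : ∀ d : Fin 5 →₀ ℕ, (d 2 ≠ 0 ∨ d 3 ≠ 0) →
      Ideal.Quotient.mk I (monomial d (1 : k)) = 0 := by
    intro d hd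
    rw [Ideal.Quotient.eq_zero_iff_mem, monomial_eq5]
    rcases hd with h | h
    · obtain ⟨n, hn⟩ := Nat.exists_eq_succ_of_ne_zero h
      have : (X 0 : MvPolynomial (Fin 5) k) ^ d 0 * X 1 ^ d 1 * X 2 ^ d 2 * X 3 ^ d 3 * X 4 ^ d 4 =
          (X 0 ^ d 0 * X 1 ^ d 1 * X 2 ^ n * X 3 ^ d 3 * X 4 ^ d 4) * X 2 := by
        rw [hn, pow_succ]; ring
      rw [this]
      apply Ideal.mul_mem_left
      apply Ideal.subset_span
      simp
    · obtain ⟨n, hn⟩ := Nat.exists_eq_succ_of_ne_zero h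
      have : (X 0 : MvPolynomial (Fin 5) k) ^ d 0 * X 1 ^ d 1 * X 2 ^ d 2 * X 3 ^ d 3 * X 4 ^ d 4 =
          (X 0 ^ d 0 * X 1 ^ d 1 * X 2 ^ d 2 * X 3 ^ n * X 4 ^ d 4) * X 3 := by
        rw [hn, pow_succ]; ring
      rw [this]
      apply Ideal.mul_mem_left
      apply Ideal.subset_span
      simp
  obtain ⟨v₀, hv₀⟩ := span_le_of_pairwise (k := k) S (by
    rintro v ⟨d, hd, rfl⟩ w ⟨e, he, rfl⟩
    by_cases hdz : d 2 ≠ 0 ∨ d 3 ≠ 0
    · exact ⟨0, Or.inl (by rw [hzero d hdz, zero_smul])⟩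
    by_cases hez : e 2 ≠ 0 ∨ e 3 ≠ 0
    · exact ⟨0, Or.inr (by rw [hzero e hez, zero_smul])⟩
    push_neg at hdz hez
    rcases le_total ((e 1 : ℤ) - e 4) ((d 1 : ℤ) - d 4) with hle | hle
    · obtain ⟨j, hj⟩ := key k p q m hpq hm s d e hdz.1 hdz.2 hez.1 hez.2 (hd.trans he.symm) hle
      exact ⟨s ^ j, Or.inl hj⟩
    · obtain ⟨j, hj⟩ := key k p q m hpq hm s e d hez.1 hez.2 hdz.1 hdz.2 (he.trans hd.symm) hle
      exact ⟨s ^ j, Or.inr hj⟩)
  rw [rank_submodule_le_one_iff']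
  exact ⟨v₀, hpiece.trans hv₀⟩

end Groth.Agent.S15727
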