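import Groth.Statements.S4546
-- import your own Groth.Agent.* helpers here
import Mathlib
import Groth.Agent.S2475
import Groth.Agent.Lib.Helper89.AdmSub

set_option autoImplicit false
universe u
open EGA41

namespace Groth.Agent.S4546

open Groth.Agent.Lib.Helper89 TensorProduct
/-- Let K be a field of characteristic p > 0, k₀ a subfield, (k_α) a decreasing filtered family of
subfields of K containing k₀ with ⋂_α k_α(K^p) = k₀(K^p). Then for every extension L of K such that
Υ_{L/K/k₀} has finite rank over L, one has ⋂_α k_α(L^p) = k₀(L^p) (the k_α being viewed inside L). -/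
theorem result (p : ℕ) [Fact p.Prime] {k₀ K L : Type u}
    [Field k₀] [Field K] [Field L] [Algebra k₀ K] [Algebra K L] [Algebra k₀ L] [IsScalarTower k₀ K L] [CharP K p] [CharP L p]
    {ι : Type u} [Preorder ι] [IsDirected ι (· ≤ ·)] [Nonempty ι] (k : ι → IntermediateField k₀ K) (hk : Antitone k)
    (h : (⨅ i, k i ⊔ IntermediateField.adjoin k₀ (Set.range fun y : K => y ^ p)) =
      IntermediateField.adjoin k₀ (Set.range fun y : K => y ^ p))
    [Module.Finite L (EGA41.imperfection k₀ K L)] :
    (⨅ i, (k i).map (IsScalarTower.toAlgHom k₀ K L) ⊔ IntermediateField.adjoin k₀ (Set.range fun y : L => y ^ p)) =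
      IntermediateField.adjoin k₀ (Set.range fun y : L => y ^ p) := by
  classical
  let k' : ι → IntermediateField k₀ L := fun i => (k i).map (IsScalarTower.toAlgHom k₀ K L)
  have hk' : Antitone k' := fun i j hij => IntermediateField.map_mono _ (hk hij)
  refine (Groth.Agent.S2475.result p k' hk').mpr ?_
  intro ω hω
  have hsep := (Groth.Agent.S2475.result p k hk).mp h
  obtain ⟨i₀, hi₀⟩ := AdmSub.exists_admissible_index (L := L)
    (fun i => KaehlerDifferential.map k₀ (k i) K K)
    (fun i j hij v hv => AdmSub.map_eq_zero_mono (hk hij) v hv) hsep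
    (EGA41.imperfection k₀ K L)
  have hC : ∀ j, ∃ z : L ⊗[K] Ω[K⁄k₀], KaehlerDifferential.mapBaseChange k₀ K L z = ω ∧
      (KaehlerDifferential.map k₀ (k j) K K).baseChange L z = 0 := by
    intro j
    have h1 := AdmSub.mem_span_of_map_eq_zero ω (hω j)
    let P : Submodule L (Ω[L⁄k₀]) :=
      (LinearMap.ker ((KaehlerDifferential.map k₀ (k j) K K).baseChange L)).map
        (KaehlerDifferential.mapBaseChange k₀ K L)
    have hP : ω ∈ P := by
      refine Submodule.span_le.mpr ?_ h1
      rintro _ ⟨a, rfl⟩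
      obtain ⟨b, hb, hab⟩ := (IntermediateField.mem_map (k j)).mp a.2
      refine ⟨(1 : L) ⊗ₜ[K] KaehlerDifferential.D k₀ K b, ?_, ?_⟩
      · rw [SetLike.mem_coe, LinearMap.mem_ker, LinearMap.baseChange_tmul,
          KaehlerDifferential.map_D]
        have : algebraMap K K b = algebraMap (k j) K ⟨b, hb⟩ := rfl
        rw [this, Derivation.map_algebraMap, TensorProduct.tmul_zero]
      · rw [KaehlerDifferential.mapBaseChange_tmul, one_smul, KaehlerDifferential.map_D]
        congr 1
    obtain ⟨z, hz1, hz2⟩ := hP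
    exact ⟨z, hz2, hz1⟩
  obtain ⟨z, hz1, hz2⟩ := hC i₀
  have hall : ∀ j, (KaehlerDifferential.map k₀ (k j) K K).baseChange L z = 0 := by
    intro j
    obtain ⟨l, hjl, hi₀l⟩ := exists_ge_ge j i₀
    obtain ⟨z', hz'1, hz'2⟩ := hC l
    have hdiff : z' - z ∈ EGA41.imperfection k₀ K L := by
      change KaehlerDifferential.mapBaseChange k₀ K L (z' - z) = 0
      rw [map_sub, hz'1, hz1, sub_self]
    have hz'3 : (KaehlerDifferential.map k₀ (k i₀) K K).baseChange L z' = 0 :=
      AdmSub.baseChange_eq_zero_of_ker_le _ _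
        (fun v hv => AdmSub.map_eq_zero_mono (hk hi₀l) v hv) z' hz'2
    have hzz0 : z' - z = 0 := hi₀ _ hdiff (by rw [map_sub, hz'3, hz2, sub_self])
    have hzz : z' = z := sub_eq_zero.mp hzz0
    rw [← hzz]
    exact AdmSub.baseChange_eq_zero_of_ker_le _ _
      (fun v hv => AdmSub.map_eq_zero_mono (hk hjl) v hv) z' hz'2
  have hz0 : z = 0 := AdmSub.eq_zero_of_forall_baseChange_eq_zero
    (fun i => KaehlerDifferential.map k₀ (k i) K K) hsep z hall
  rw [← hz1, hz0, map_zero]

end Groth.Agent.S4546
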