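import Groth.Statements.S4548
import Mathlib
import Groth.Agent.Lib.Helper81.PBasisFamily
import Groth.Agent.Lib.Helper81.PowerSeriesPSub

set_option autoImplicit false
universe u
open EGA41

namespace Groth.Agent.S4548
open MvPowerSeries Groth.Agent.Lib.Helper81.PowerSeriesPSub in
/-- membership of `algebraMap c` in the subfield generated by a subring with a basis containing 1 -/
theorem mem_of_mem_closure {A : Type*} [CommRing A] [Nontrivial A] [NoZeroDivisors A]
    (S : Subring A) {ι : Type*}
    (b : Module.Basis ι S A) (i₀ : ι) (hb : b i₀ = 1) (c : A)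
    (hc : algebraMap A (FractionRing A) c ∈
      Subfield.closure (algebraMap A (FractionRing A) '' (S : Set A))) : c ∈ S := by
  haveI : IsDomain A := NoZeroDivisors.to_isDomain A
  have hcl : Subring.closure (algebraMap A (FractionRing A) '' (S : Set A)) =
      S.map (algebraMap A (FractionRing A)) := by
    rw [← Subring.coe_map]
    exact Subring.closure_eq _
  obtain ⟨y, hy, t, ht, hyt⟩ := Subfield.mem_closure_iff.1 hc
  rw [hcl] at hy ht
  obtain ⟨s, hs, rfl⟩ := hy
  obtain ⟨t', ht', rfl⟩ := ht
  have hinj : Function.Injective (algebraMap A (FractionRing A)) :=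
    IsFractionRing.injective A (FractionRing A)
  by_cases h0 : t' = 0
  · rw [h0, map_zero, div_zero] at hyt
    have : c = 0 := hinj (by rw [map_zero]; exact hyt.symm)
    rw [this]
    exact S.zero_mem
  · have h0' : algebraMap A (FractionRing A) t' ≠ 0 := fun h => h0 (hinj (by rw [h, map_zero]))
    rw [div_eq_iff h0', ← map_mul] at hyt
    have h1 : t' * c = s := by
      rw [mul_comm]
      exact (hinj hyt).symm
    exact mem_of_mul_mem S b i₀ hb c ⟨s, hs⟩ ⟨t', ht'⟩
      (fun h => h0 (congrArg Subtype.val h)) h1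


/-- Let k be a field of characteristic p > 0, A = k[[T_1, …, T_r]] and K its field of fractions. Then
there is a decreasing filtered family (A_α) of Noetherian subrings of A (rendered: a nonempty
family, directed downwards for inclusion) such that A is a free A_α-module of finite type for every
α and, K_α denoting the subfield of K generated by A_α (its field of fractions inside K), ⋂_α K_α =
K^p. -/
theorem result (p : ℕ) [Fact p.Prime] (k : Type u) [Field k] [CharP k p]
    (r : ℕ) :
    ∃ (ι : Type u) (_ : Nonempty ι) (S : ι → Subring (MvPowerSeries (Fin r) k)),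
      (∀ a b : ι, ∃ c, S c ≤ S a ⊓ S b) ∧
      (∀ i, IsNoetherianRing (S i) ∧ Module.Free (S i) (MvPowerSeries (Fin r) k) ∧ Module.Finite (S i) (MvPowerSeries (Fin r) k)) ∧
      ((⨅ i, Subfield.closure (algebraMap (MvPowerSeries (Fin r) k) (FractionRing (MvPowerSeries (Fin r) k)) '' (S i)) :
          Set (FractionRing (MvPowerSeries (Fin r) k)))) =
        Set.range fun x : FractionRing (MvPowerSeries (Fin r) k) => x ^ p := by
  classical
  have hp : p.Prime := Fact.out
  haveI : IsDomain (MvPowerSeries (Fin r) k) := NoZeroDivisors.to_isDomain _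
  obtain ⟨I, L, hpow, hmono, hbasis, hint⟩ :=
    Groth.Agent.Lib.Helper81.PBasisFamily.exists_family p k
  have hbas : ∀ F : Finset I, ∃ (ι : Type u)
      (b : Module.Basis ι (Groth.Agent.Lib.Helper81.PowerSeriesPSub.SL p (σ := Fin r) (L F))
        (MvPowerSeries (Fin r) k)) (i₀ : ι), Finite ι ∧ b i₀ = 1 := by
    intro F
    obtain ⟨J, _, u, j₀, hj₀, hind, hspn⟩ := hbasis F
    obtain ⟨b, hb⟩ := Groth.Agent.Lib.Helper81.PowerSeriesPSub.exists_basis p hp.pos
      (σ := Fin r) (L F) u j₀ hj₀ hind hspn
    exact ⟨_, b, _, inferInstance, hb⟩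
  refine ⟨Finset I, ⟨∅⟩,
    fun F => Groth.Agent.Lib.Helper81.PowerSeriesPSub.SL p (σ := Fin r) (L F), ?_, ?_, ?_⟩
  · intro F G
    exact ⟨F ∪ G, le_inf
      (Groth.Agent.Lib.Helper81.PowerSeriesPSub.SL_mono p (hmono _ _ Finset.subset_union_left))
      (Groth.Agent.Lib.Helper81.PowerSeriesPSub.SL_mono p (hmono _ _ Finset.subset_union_right))⟩
  · intro F
    obtain ⟨ι, b, i₀, hfin, hb⟩ := hbas F
    haveI : Module.Free (Groth.Agent.Lib.Helper81.PowerSeriesPSub.SL p (σ := Fin r) (L F))
        (MvPowerSeries (Fin r) k) := Module.Free.of_basis b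
    haveI : Module.Finite (Groth.Agent.Lib.Helper81.PowerSeriesPSub.SL p (σ := Fin r) (L F))
        (MvPowerSeries (Fin r) k) := Module.Finite.of_basis b
    exact ⟨Groth.Agent.Lib.Helper81.PowerSeriesPSub.isNoetherianRing_of_free _,
      inferInstance, inferInstance⟩
  · ext z
    rw [Set.iInf_eq_iInter, Set.mem_iInter]
    constructor
    · intro hz
      obtain ⟨a, b, hb0, rfl⟩ := IsFractionRing.div_surjective (A := MvPowerSeries (Fin r) k) z
      have hb0' : algebraMap (MvPowerSeries (Fin r) k) (FractionRing (MvPowerSeries (Fin r) k)) b ≠ 0 :=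
        IsFractionRing.to_map_ne_zero_of_mem_nonZeroDivisors hb0
      obtain ⟨m, hm⟩ : ∃ m, p = m + 1 := ⟨p - 1, (Nat.sub_add_cancel hp.one_le).symm⟩
      have hc : ∀ F : Finset I, a * b ^ m ∈
          Groth.Agent.Lib.Helper81.PowerSeriesPSub.SL p (σ := Fin r) (L F) := by
        intro F
        obtain ⟨ι, bb, i₀, hfin, hbb⟩ := hbas F
        apply mem_of_mem_closure _ bb i₀ hbb
        have h1 := hz F
        have h2 : algebraMap (MvPowerSeries (Fin r) k) (FractionRing (MvPowerSeries (Fin r) k))
            (b ^ p) ∈ Subfield.closure (algebraMap (MvPowerSeries (Fin r) k)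
              (FractionRing (MvPowerSeries (Fin r) k)) ''
              (Groth.Agent.Lib.Helper81.PowerSeriesPSub.SL p (σ := Fin r) (L F) : Set _)) :=
          Subfield.subset_closure ⟨b ^ p,
            Groth.Agent.Lib.Helper81.PowerSeriesPSub.pow_mem_SL p (L F) (hpow F) b, rfl⟩
        have h3 := Subfield.mul_mem _ h1 h2
        have h4 : algebraMap (MvPowerSeries (Fin r) k) (FractionRing (MvPowerSeries (Fin r) k)) a /
            algebraMap (MvPowerSeries (Fin r) k) (FractionRing (MvPowerSeries (Fin r) k)) b *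
            algebraMap (MvPowerSeries (Fin r) k) (FractionRing (MvPowerSeries (Fin r) k)) (b ^ p) =
            algebraMap (MvPowerSeries (Fin r) k) (FractionRing (MvPowerSeries (Fin r) k))
              (a * b ^ m) := by
          rw [hm, map_mul, map_pow, map_pow, pow_succ]
          field_simp
        rw [h4] at h3
        exact h3
      obtain ⟨g, hg⟩ := Groth.Agent.Lib.Helper81.PowerSeriesPSub.exists_pow_eq p (a * b ^ m)
        (fun n => hint _ (fun F => (hc F n).1)) (fun n => (hc ∅ n).2)
      refine ⟨algebraMap _ _ g / algebraMap _ _ b, ?_⟩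
      change (algebraMap (MvPowerSeries (Fin r) k) (FractionRing (MvPowerSeries (Fin r) k)) g /
        algebraMap (MvPowerSeries (Fin r) k) (FractionRing (MvPowerSeries (Fin r) k)) b) ^ p = _
      rw [div_pow, ← map_pow, ← hg, map_mul, map_pow, hm, pow_succ]
      field_simp
    · rintro ⟨w, rfl⟩ F
      obtain ⟨a, b, hb0, rfl⟩ := IsFractionRing.div_surjective (A := MvPowerSeries (Fin r) k) w
      change (algebraMap (MvPowerSeries (Fin r) k) (FractionRing (MvPowerSeries (Fin r) k)) a /
        algebraMap (MvPowerSeries (Fin r) k) (FractionRing (MvPowerSeries (Fin r) k)) b) ^ p ∈ _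
      rw [div_pow, ← map_pow, ← map_pow]
      exact Subfield.div_mem _
        (Subfield.subset_closure ⟨a ^ p,
          Groth.Agent.Lib.Helper81.PowerSeriesPSub.pow_mem_SL p (L F) (hpow F) a, rfl⟩)
        (Subfield.subset_closure ⟨b ^ p,
          Groth.Agent.Lib.Helper81.PowerSeriesPSub.pow_mem_SL p (L F) (hpow F) b, rfl⟩)

end Groth.Agent.S4548
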