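import Groth.Statements.S3820
import Mathlib
import Groth.Agent.Lib.Helper81.SymGrSmooth3
import Groth.Agent.Lib.Helper81.DiffSmoothBridge
import Groth.Prelude.Def_CAlgX

set_option autoImplicit false
universe u
open scoped TensorProduct
open PP16

namespace Groth.Agent.S3820

/-- Let B be an A-algebra which is formally smooth (for the discrete topologies). Then Spec B is
differentially smooth over Spec A: the module of differentials is projective and the canonical
surjections Sym^n(Ω_{B/A}) → I^n/I^(n+1) are bijective for all n. -/
theorem result (A B : Type u) [CommRing A] [CommRing B] [Algebra A B]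
    [Algebra.FormallySmooth A B] : PP16.IsDiffSmooth A B := by
  haveI := Groth.Agent.Lib.Helper81.DiffSmoothBridge.formallySmooth_quotient_ideal A B
  have hadic : CAlgX.IsAdicFormallySmooth B (B ⊗[A] B) (KaehlerDifferential.ideal A B) := by
    intro E _ _ N hN ψ _
    exact Algebra.FormallySmooth.exists_lift N ⟨2, hN⟩ ψ
  exact Groth.Agent.Lib.Helper81.DiffSmoothBridge.isDiffSmooth_of_symGrBijective A B inferInstance
    (Groth.Agent.Lib.Helper81.SymGrSmooth.symGrBijective_of_isAdicFormallySmooth
      (KaehlerDifferential.ideal A B) hadic).2

end Groth.Agent.S3820
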