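import Groth.Statements.S2031
import Mathlib
import Groth.Agent.Lib.Helper81.PopStrictMain

set_option autoImplicit false
universe u
open Smoothing

namespace Groth.Agent.S2031
open Groth.Agent.Lib.Helper81.Pop MvPolynomial Matrix in
theorem nontrivial_case {R A : Type u} [CommRing R] [CommRing A]
    [Algebra R A] (a : A) [Algebra.Smooth R (Localization.Away a)]
    [Nontrivial (Localization.Away a)]
    (p q : ℕ) (e : (Ω[Localization.Away a⁄R] × (Fin p → Localization.Away a)) ≃ₗ[Localization.Away a]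
      (Fin q → Localization.Away a))
    {n m : ℕ} (hom₀ : MvPolynomial (Fin n) R →ₐ[R] A) (hsurj₀ : Function.Surjective hom₀)
    (f₀ : Fin m → MvPolynomial (Fin n) R)
    (hker₀ : RingHom.ker hom₀.toRingHom = Ideal.span (Set.range f₀)) :
    ∃ e₀ : ℕ, ∀ k : ℕ, e₀ ≤ k → Smoothing.IsStrictlyStandard R A (a ^ k) := by
  classical
  -- p ≤ q
  have hpq : p ≤ q := by
    let inj : (Fin p → Localization.Away a) →ₗ[Localization.Away a] (Fin q → Localization.Away a) :=
      e.toLinearMap ∘ₗ LinearMap.inr _ _ _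
    refine le_of_fin_injective (R := Localization.Away a) inj ?_
    intro x y hxy
    have := e.injective hxy
    exact (Prod.mk.injEq _ _ _ _ ▸ this).2
  set hom := extHom q hom₀ with hhom
  have hsurj : Function.Surjective hom := extHom_surjective q hom₀ hsurj₀
  have hker : RingHom.ker hom.toRingHom = Ideal.span (Set.range (extRel q f₀)) :=
    ker_extHom q hom₀ f₀ hker₀
  obtain ⟨a', ha'⟩ := hsurj a
  have htors : ∀ x : Algebra.H1Cotangent R A, ∃ k : ℕ, a ^ k • x = 0 :=
    h1Cotangent_torsion_of_formallySmooth_away a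
  obtain ⟨Mκ, N, hMN, hkerπ⟩ := exists_kernel_matrix hom₀ hsurj₀ a p q e
  have hκ : ∀ j, piKB hom a (Mκ j) = 0 := by
    intro j
    rw [hkerπ]
    exact ⟨Pi.single j 1, Matrix.single_one_vecMul _ _⟩
  obtain ⟨k₀, F, hF⟩ := exists_family_jacRowB_eq hom hsurj a a' ha' (fun j => Mκ j) hκ
  have hunit : IsUnit (algebraMap A (Localization.Away a) a) :=
    IsLocalization.Away.algebraMap_isUnit a
  obtain ⟨ainv, hainv⟩ := hunit.exists_left_inv
  have hMF : (Matrix.of fun j i => jacRowB hom a (F j) i) =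
      (algebraMap A (Localization.Away a) a) ^ k₀ • Mκ := by
    apply Matrix.ext
    intro j i
    rw [Matrix.of_apply, (hF j).2]
    rfl
  have hN' : (Matrix.of fun j i => jacRowB hom a (F j) i) * (ainv ^ k₀ • N) = 1 := by
    rw [hMF, Matrix.smul_mul, Matrix.mul_smul, smul_smul, ← mul_pow, mul_comm, hainv, one_pow,
      one_smul, hMN]
  obtain ⟨k₁, hk₁⟩ := exists_forall_pow_mem_span_minors hom a F (ainv ^ k₀ • N) hN'
  -- the tail relations
  have hrel0 : ∀ t, hom (extRel q f₀ t) = 0 := by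
    intro t
    have : extRel q f₀ t ∈ RingHom.ker hom.toRingHom := by
      rw [hker]; exact Ideal.subset_span ⟨t, rfl⟩
    exact this
  have htail : ∀ t, ∃ E : ℕ, ∀ k, E ≤ k → a' ^ k * extRel q f₀ t ∈
      Ideal.span (Set.range F) ⊔ (RingHom.ker hom.toRingHom) ^ 2 := by
    intro t
    obtain ⟨v, hv⟩ := (hkerπ _).1 (piKB_jacRowB hom a hsurj (extRel q f₀ t) (hrel0 t))
    refine exists_forall_pow_mul_mem hom hsurj a a' ha' htors F (fun j => (hF j).1)
      (extRel q f₀ t) (hrel0 t) (fun j => v j * ainv ^ k₀) ?_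
    rw [← hv]
    funext i
    simp only [Matrix.vecMul, dotProduct, Finset.sum_apply, Pi.smul_apply, smul_eq_mul]
    refine Finset.sum_congr rfl fun j _ => ?_
    rw [(hF j).2, Pi.smul_apply, smul_eq_mul, mul_assoc, ← mul_assoc (ainv ^ k₀), ← mul_pow, hainv,
      one_pow, one_mul]
  choose E hE using htail
  refine ⟨k₁ + ∑ t, E t, fun k hk => ?_⟩
  -- assemble the chart
  let f : (Fin n ⊕ Fin p) ⊕ (Fin m ⊕ Fin q) → MvPolynomial (Fin n ⊕ Fin q) R :=
    Sum.elim F (extRel q f₀)
  have hkerf : RingHom.ker hom.toRingHom = Ideal.span (Set.range f) := by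
    rw [hker]
    apply le_antisymm
    · apply Ideal.span_mono
      rintro _ ⟨t, rfl⟩
      exact ⟨Sum.inr t, rfl⟩
    · rw [Ideal.span_le]
      rintro _ ⟨j | t, rfl⟩
      · have : F j ∈ RingHom.ker hom.toRingHom := (hF j).1
        rw [hker] at this
        exact this
      · exact Ideal.subset_span ⟨t, rfl⟩
  have hcard : Nat.card (Fin n ⊕ Fin p) ≤ Nat.card (Fin n ⊕ Fin q) := by
    simp only [Nat.card_eq_fintype_card, Fintype.card_sum, Fintype.card_fin]
    omega
  have hrange : Set.range (f ∘ Sum.inl) = Set.range F := by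
    ext x
    constructor
    · rintro ⟨j, rfl⟩; exact ⟨j, rfl⟩
    · rintro ⟨j, rfl⟩; exact ⟨j, rfl⟩
  refine isStrictlyStandard_of_chart hcard f hom hsurj hkerf Sum.inl (a ^ k) ?_ ?_
  · exact hk₁ k (le_trans (Nat.le_add_right _ _) hk)
  · intro a₁ ha₁ ℓ
    rw [hrange, ← hkerf]
    rcases ℓ with j | t
    · exact Ideal.mem_sup_left (Ideal.mul_mem_left _ _ (Ideal.subset_span ⟨j, rfl⟩))
    · have h1 : a₁ * f (Sum.inr t) = a' ^ k * extRel q f₀ t + (a₁ - a' ^ k) * extRel q f₀ t := by
        change a₁ * extRel q f₀ t = _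
        ring
      rw [h1]
      refine add_mem (hE t k ?_) (Ideal.mem_sup_right ?_)
      · exact le_trans (Finset.single_le_sum (fun _ _ => Nat.zero_le _) (Finset.mem_univ t))
          (le_trans (Nat.le_add_left _ _) hk)
      · rw [pow_two]
        refine Ideal.mul_mem_mul ?_ (hrel0 t)
        rw [RingHom.mem_ker]
        change hom (a₁ - a' ^ k) = 0
        rw [map_sub, ha₁, map_pow, ha', sub_self]

/-- Let `A` be a finitely presented `R`-algebra and `a ∈ A` such that `A_a` is smooth over `R` with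
stably free module of differentials. Then `a^e` is strictly standard in `A` over `R` for all
sufficiently large `e`. -/
theorem result {R A : Type u} [CommRing R] [CommRing A]
    [Algebra R A] [Algebra.FinitePresentation R A] (a : A) [Algebra.Smooth R (Localization.Away a)]
    (p q : ℕ) (e : (Ω[Localization.Away a⁄R] × (Fin p → Localization.Away a)) ≃ₗ[Localization.Away a]
      (Fin q → Localization.Away a)) :
    ∃ e₀ : ℕ, ∀ n : ℕ, e₀ ≤ n → Smoothing.IsStrictlyStandard R A (a ^ n) := by
  classical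
  obtain ⟨n₀, hom₀, hsurj₀, hfg⟩ := (inferInstance : Algebra.FinitePresentation R A).out
  obtain ⟨m, f₀, hf₀⟩ := Submodule.fg_iff_exists_fin_generating_family.1 hfg
  have hker₀ : RingHom.ker hom₀.toRingHom = Ideal.span (Set.range f₀) := hf₀.symm
  rcases subsingleton_or_nontrivial (Localization.Away a) with hsub | hnt
  · -- `a` is nilpotent
    have h01 : algebraMap A (Localization.Away a) 1 = algebraMap A (Localization.Away a) 0 :=
      Subsingleton.elim _ _
    obtain ⟨⟨_, k₀, rfl⟩, hk₀⟩ :=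
      (IsLocalization.eq_iff_exists (Submonoid.powers a) (Localization.Away a)).1 h01
    simp only [mul_one, mul_zero] at hk₀
    refine ⟨k₀, fun k hk => ?_⟩
    have hak : a ^ k = 0 := by
      rw [← Nat.sub_add_cancel hk, pow_add, hk₀, mul_zero]
    rw [hak]
    refine Groth.Agent.Lib.Helper81.Pop.isStrictlyStandard_of_fin_chart (c := 0) (Nat.zero_le n₀) f₀
      hom₀ hsurj₀ hker₀ Fin.elim0 0 (zero_mem _) ?_
    intro a₁ ha₁ ℓ
    refine Ideal.mem_sup_right ?_
    rw [pow_two]
    refine Ideal.mul_mem_mul ?_ (Ideal.subset_span ⟨ℓ, rfl⟩)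
    rw [← hker₀]
    exact ha₁
  · exact nontrivial_case a p q e hom₀ hsurj₀ f₀ hker₀

end Groth.Agent.S2031
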