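import Groth.Statements.S9282
import Mathlib

set_option autoImplicit false
universe u
open CAlg

namespace Groth.Agent.S9282

/-- Let A → B be a local ring map between Noetherian local rings that is formally smooth for the adic
topology of the maximal ideal of B, and write K for the residue field of B. In the Jacobi–Zariski
sequence attached to A → B → K, the map from H_1(NL_{K/A}) to H_1(NL_{K/B}), which is m_B/m_B^2, is
injective; the remaining terms are exact in general, so that sequence starts with a zero. -/
theorem result (A B : Type u) [CommRing A]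
    [CommRing B] [IsLocalRing A] [IsLocalRing B] [IsNoetherianRing A] [IsNoetherianRing B]
    [Algebra A B] [IsLocalHom (algebraMap A B)]
    (hfs : CAlgX.IsAdicFormallySmooth A B (IsLocalRing.maximalIdeal B)) :
    Function.Injective
      (Algebra.H1Cotangent.map A B (IsLocalRing.ResidueField B) (IsLocalRing.ResidueField B)) := by
  classical
  let K := IsLocalRing.ResidueField B
  let P := (Algebra.Generators.self A K).toExtension
  let P' := (Algebra.Generators.self B K).toExtension
  let f : P.Hom P' := (Algebra.Generators.defaultHom (Algebra.Generators.self A K)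
    (Algebra.Generators.self B K)).toExtensionHom
  let 𝔫 : Ideal P.Ring := P.ker
  let C := P.Ring ⧸ 𝔫 ^ 2
  have h𝔫2 : ∀ a ∈ 𝔫 ^ 2, (IsScalarTower.toAlgHom A P.Ring K) a = 0 := by
    intro a ha
    exact Ideal.pow_le_self two_ne_zero ha
  let κ : C →ₐ[A] K := Ideal.Quotient.liftₐ (𝔫 ^ 2) (IsScalarTower.toAlgHom A P.Ring K) h𝔫2
  have hκmk : ∀ y : P.Ring, κ (Ideal.Quotient.mk (𝔫 ^ 2) y) =
      algebraMap P.Ring K y := fun y => rfl
  have hκsurj : Function.Surjective κ := by
    intro k
    obtain ⟨y, hy⟩ := P.algebraMap_surjective k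
    exact ⟨Ideal.Quotient.mk _ y, hy⟩
  let J : Ideal C := RingHom.ker κ.toRingHom
  have hJmem : ∀ c : C, c ∈ J ↔ κ c = 0 := fun c => Iff.rfl
  have hJ : J ^ 2 = ⊥ := by
    rw [eq_bot_iff, sq J, Ideal.mul_le]
    intro x hx y hy
    obtain ⟨x₀, rfl⟩ := Ideal.Quotient.mk_surjective x
    obtain ⟨y₀, rfl⟩ := Ideal.Quotient.mk_surjective y
    rw [hJmem, hκmk] at hx hy
    rw [Ideal.mem_bot, ← map_mul, Ideal.Quotient.eq_zero_iff_mem, sq 𝔫]
    exact Ideal.mul_mem_mul hx hy
  let e : (C ⧸ J) ≃ₐ[A] K := Ideal.quotientKerAlgEquivOfSurjective hκsurj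
  have heκ : ∀ c : C, e (Ideal.Quotient.mk J c) = κ c := fun c => rfl
  let u : B →ₐ[A] C ⧸ J := (e.symm : K →ₐ[A] C ⧸ J).comp (IsScalarTower.toAlgHom A B K)
  have hu : ∃ k : ℕ, ∀ x ∈ (IsLocalRing.maximalIdeal B) ^ k, u x = 0 := by
    refine ⟨1, fun x hx => ?_⟩
    rw [pow_one] at hx
    change e.symm (algebraMap B K x) = 0
    have : algebraMap B K x = 0 := (IsLocalRing.residue_eq_zero_iff x).mpr hx
    rw [this, map_zero]
  obtain ⟨v, hv⟩ := hfs C J hJ u hu
  have hκv : ∀ b : B, κ (v b) = algebraMap B K b := by
    intro b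
    rw [← heκ]
    have : Ideal.Quotient.mk J (v b) = u b := AlgHom.congr_fun hv b
    rw [this]
    exact e.apply_symm_apply _
  let w : P'.Ring →+* C :=
    MvPolynomial.eval₂Hom v.toRingHom (fun k => Ideal.Quotient.mk _ (MvPolynomial.X k))
  have hwf : ∀ y : P.Ring, w (f.toRingHom y) = Ideal.Quotient.mk (𝔫 ^ 2) y := by
    intro y
    have : w.comp f.toRingHom = Ideal.Quotient.mk (𝔫 ^ 2) := by
      apply MvPolynomial.ringHom_ext
      · intro a
        have h1 : f.toRingHom (MvPolynomial.C a) = MvPolynomial.C (algebraMap A B a) :=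
          f.toRingHom_algebraMap a
        change w (f.toRingHom (MvPolynomial.C a)) = _
        rw [h1]
        change MvPolynomial.eval₂Hom v.toRingHom _ (MvPolynomial.C (algebraMap A B a)) = _
        rw [MvPolynomial.eval₂Hom_C]
        change v (algebraMap A B a) = _
        rw [AlgHom.commutes]
        rfl
      · intro k
        have h1 : f.toRingHom (MvPolynomial.X k) = MvPolynomial.X k := by
          change (Algebra.Generators.defaultHom (Algebra.Generators.self A K)
            (Algebra.Generators.self B K)).toAlgHom (MvPolynomial.X k) = _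
          rw [Algebra.Generators.Hom.toAlgHom_X]
          rfl
        change w (f.toRingHom (MvPolynomial.X k)) = _
        rw [h1]
        change MvPolynomial.eval₂Hom v.toRingHom _ (MvPolynomial.X k) = _
        rw [MvPolynomial.eval₂Hom_X']
        rfl
    exact RingHom.congr_fun this y
  have hκw : ∀ z : P'.Ring, κ (w z) = algebraMap P'.Ring K z := by
    intro z
    have : κ.toRingHom.comp w = algebraMap P'.Ring K := by
      apply MvPolynomial.ringHom_ext
      · intro b
        change κ (MvPolynomial.eval₂Hom v.toRingHom _ (MvPolynomial.C b)) = _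
        rw [MvPolynomial.eval₂Hom_C]
        change κ (v b) = _
        rw [hκv]
        change _ = MvPolynomial.aeval (Algebra.Generators.self B K).val (MvPolynomial.C b)
        rw [MvPolynomial.aeval_C]
      · intro k
        change κ (MvPolynomial.eval₂Hom v.toRingHom _ (MvPolynomial.X k)) = _
        rw [MvPolynomial.eval₂Hom_X']
        change κ (Ideal.Quotient.mk (𝔫 ^ 2) (MvPolynomial.X k)) = _
        rw [hκmk]
        change MvPolynomial.aeval (Algebra.Generators.self A K).val (MvPolynomial.X k) =
          MvPolynomial.aeval (Algebra.Generators.self B K).val (MvPolynomial.X k)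
        rw [MvPolynomial.aeval_X, MvPolynomial.aeval_X]
        rfl
    exact RingHom.congr_fun this z
  have hwker : ∀ z ∈ P'.ker ^ 2, w z = 0 := by
    intro z hz
    have h1 : P'.ker.map w ≤ J := by
      rw [Ideal.map_le_iff_le_comap]
      intro z hz
      rw [Ideal.mem_comap, hJmem, hκw]
      exact hz
    have h2 : w z ∈ (P'.ker ^ 2).map w := Ideal.mem_map_of_mem _ hz
    rw [Ideal.map_pow] at h2
    have h3 := Ideal.pow_right_mono h1 2 h2
    rw [hJ] at h3
    exact h3
  rw [injective_iff_map_eq_zero]
  intro x hx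
  apply Subtype.ext
  have hx' : Algebra.Extension.Cotangent.map f x.1 = 0 := congrArg Subtype.val hx
  obtain ⟨x₀, hx₀⟩ := Algebra.Extension.Cotangent.mk_surjective x.1
  rw [← hx₀] at hx' ⊢
  rw [Algebra.Extension.Cotangent.map_mk, Algebra.Extension.Cotangent.mk_eq_zero_iff] at hx'
  change Algebra.Extension.Cotangent.mk x₀ = 0
  rw [Algebra.Extension.Cotangent.mk_eq_zero_iff]
  have h1 := hwker _ hx'
  change w (f.toRingHom x₀.1) = 0 at h1
  rw [hwf] at h1
  exact Ideal.Quotient.eq_zero_iff_mem.mp h1

end Groth.Agent.S9282
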