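import Groth.Statements.S2155
import Groth.Agent.Lib.Helper14.SmoothFibre

set_option autoImplicit false
universe u
open CategoryTheory AlgebraicGeometry
open Mor

namespace Groth.Agent.S2155

/-- Consider a cartesian square with `f : X → S` locally of finite presentation, base change `g : S' →
S`, and `f' : X' → S'`, `g' : X' → X` the projections. If `f` is flat, or if `g` is flat, then the
open set of points where `f'` is smooth is the preimage under `g'` of the open set of points where
`f` is smooth. -/
theorem result {X S X' S' : Scheme.{u}} (f : X ⟶ S) (g : S' ⟶ S) (f' : X' ⟶ S') (g' : X' ⟶ X)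
    (h : IsPullback g' f' f g) [LocallyOfFinitePresentation f] [LocallyOfFinitePresentation f'] (hflat : Flat f ∨ Flat g) :
    f'.smoothLocus = g' ⁻¹ᵁ f.smoothLocus := by
  ext x'
  show x' ∈ f'.smoothLocus ↔ g' x' ∈ f.smoothLocus
  constructor
  · intro hx'
    rcases hflat with hf | hg
    · let s' := f' x'
      have H1 : IsPullback (f'.fiberι s') (f'.fiberToSpecResidueField s') f'
          (S'.fromSpecResidueField s') := IsPullback.of_hasPullback _ _
      have H2 := H1.paste_horiz h
      have hlfp : LocallyOfFinitePresentation (f'.fiberToSpecResidueField s') :=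
        inferInstanceAs (LocallyOfFinitePresentation
          (CategoryTheory.Limits.pullback.snd f' (S'.fromSpecResidueField s')))
      have h3 : f'.asFiber x' ∈ (f'.fiberToSpecResidueField s').smoothLocus := by
        refine Groth.Agent.Lib.Helper14.mem_smoothLocus_of_isPullback H1 (f'.asFiber x') ?_
        rw [f'.fiberι_asFiber]
        exact hx'
      refine Groth.Agent.Lib.Helper14.mem_smoothLocus_of_isPullback_field
        (K := S'.residueField s') (Field.toIsField _) H2 (f'.asFiber x') (g' x') ?_
        (Flat.stalkMap f (g' x')) h3
      rw [Scheme.Hom.comp_apply, f'.fiberι_asFiber]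
    · exact Groth.Agent.Lib.Helper14.mem_smoothLocus_fst_of_isPullback h x'
        (Flat.stalkMap g (f' x')) hx'
  · intro hx
    exact Groth.Agent.Lib.Helper14.mem_smoothLocus_of_isPullback h x' hx

end Groth.Agent.S2155
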