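import Groth.Statements.S4994
import Groth.Agent.Lib.Helper82.QuasiRegSmoothSch
import Groth.Agent.S9773

set_option autoImplicit false
universe u
open CategoryTheory CategoryTheory.Limits AlgebraicGeometry TopologicalSpace
open Unram17

namespace Groth.Agent.S4994

/-- Let f : X ⟶ Y be locally of finite presentation. The diagonal X ⟶ X ×_Y X is a quasi-regular
immersion (that is, f is differentially smooth) if and only if the second projection X ×_Y X ⟶ X is
smooth at every point of the image of the diagonal. -/
theorem result {X Y : Scheme.{u}} (f : X ⟶ Y)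
    [LocallyOfFinitePresentation f] :
    RegImm.IsRegularImmersion RegImm.Kind.quasi (pullback.diagonal f) ↔
      ∀ x : ↥X, (pullback.diagonal f).base x ∈ (pullback.snd f f).smoothLocus := by
  constructor
  · intro h x
    have : IsIso (⊤ : X.Opens).ι := by
      rw [← Scheme.topIso_hom]; infer_instance
    exact Groth.Agent.Lib.Helper82.QuasiRegSmoothSch.mem_smoothLocus_of_quasiRegular
      (pullback.snd f f) (pullback.diagonal f) (pullback.diagonal_snd f) x ⊤ trivial
      (Groth.Agent.S9773.isRegularImmersion_iso_comp _ (pullback.diagonal f) _ h)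
  · intro h
    refine ⟨inferInstance, fun z => ?_⟩
    obtain ⟨V, hzV, hV⟩ :=
      Groth.Agent.Lib.Helper82.QuasiRegSmoothSch.exists_quasiRegular_of_mem_smoothLocus
        (pullback.snd f f) (pullback.diagonal f) (pullback.diagonal_snd f) z (h z)
    exact Groth.Agent.Lib.Helper82.QuasiRegSmoothSch.isRegularImmersionAt_of_comp_ι
      (pullback.diagonal f) RegImm.Kind.quasi V z hzV (hV.2 ⟨z, hzV⟩)

end Groth.Agent.S4994
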