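import Groth.Statements.S14616
import Groth.Agent.Lib.Helper74.Tower

set_option autoImplicit false
universe u
open Formal2

namespace Groth.Agent.S14616

section aux
open CategoryTheory Groth.Agent.Lib.Helper74

variable (G : ℕ → Type u) [∀ n, AddCommGroup (G n)] (t : ∀ n, G (n + 1) →+ G n)

/-- The tower functor. -/
noncomputable abbrev towerFunctor : ℕᵒᵖ ⥤ AddCommGrpCat.{u} :=
  Functor.ofOpSequence (X := fun n => AddCommGrpCat.of (G n))
    (fun n => AddCommGrpCat.ofHom (t n))

/-- The transition map `G j →+ G i` of the tower functor. -/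
noncomputable def trans {i j : ℕ} (h : i ≤ j) : G j →+ G i :=
  ((towerFunctor G t).map (homOfLE h).op).hom

theorem trans_self (i : ℕ) (x : G i) : trans G t (le_refl i) x = x := by
  have : (homOfLE (le_refl i)).op = 𝟙 (Opposite.op i) := rfl
  simp only [trans]
  rw [this, CategoryTheory.Functor.map_id]
  rfl

theorem trans_succ (i : ℕ) (x : G (i + 1)) : trans G t (Nat.le_add_right i 1) x = t i x := by
  simp only [trans]
  rw [Functor.ofOpSequence_map_homOfLE_succ]
  rfl

theorem trans_trans {i j k : ℕ} (h₁ : i ≤ j) (h₂ : j ≤ k) (x : G k) :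
    trans G t h₁ (trans G t h₂ x) = trans G t (h₁.trans h₂) x := by
  have : (homOfLE (h₁.trans h₂)).op = (homOfLE h₂).op ≫ (homOfLE h₁).op := rfl
  simp only [trans]
  rw [this, CategoryTheory.Functor.map_comp]
  rfl

theorem trans_eq_of_seq {i j : ℕ} (h : i ≤ j) (x : ∀ n, G n)
    (hx : ∀ n, i ≤ n → n < j → x n = t n (x (n + 1))) : trans G t h (x j) = x i := by
  induction j, h using Nat.le_induction with
  | base => exact trans_self G t i _
  | succ j hij ih =>
    rw [← trans_trans G t hij (Nat.le_add_right j 1), trans_succ,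
      ← hx j hij (Nat.lt_succ_self j)]
    exact ih (fun n h1 h2 => hx n h1 (Nat.lt_succ_of_lt h2))

end aux

open CategoryTheory in
/-- Let … → G_2 → G_1 → G_0 be an inverse system of abelian groups with transition maps t_n : G_{n+1} →
G_n which satisfies the Mittag-Leffler condition: for every i there is j ≥ i such that for all k ≥ j
the images of G_k → G_i and G_j → G_i coincide. Then lim¹ G_n = 0, i.e. the map (x_n) ↦ (x_n −
t_n(x_{n+1})) on ∏ G_n is surjective. -/
theorem result (G : ℕ → Type u) [∀ n, AddCommGroup (G n)]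
    (t : ∀ n, G (n + 1) →+ G n)
    (h : (Functor.ofOpSequence (X := fun n => AddCommGrpCat.of (G n))
      (fun n => AddCommGrpCat.ofHom (t n)) ⋙ forget AddCommGrpCat).IsMittagLeffler) :
    Function.Surjective (Formal2.towerDiff G t) := by
  classical
  set F : ℕᵒᵖ ⥤ Type u := towerFunctor G t ⋙ forget AddCommGrpCat with hFdef
  have hFmap : ∀ {i j : ℕ} (hij : i ≤ j) (x : G j),
      F.map (homOfLE hij).op x = trans G t hij x := fun _ _ => rfl
  -- the eventual range is the range of some transition map
  have hER : ∀ i : ℕ, ∃ (j : ℕ) (hij : i ≤ j),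
      F.eventualRange (Opposite.op i) = Set.range (trans G t hij) := by
    intro i
    obtain ⟨j', f, hf⟩ := (F.isMittagLeffler_iff_eventualRange).1 h (Opposite.op i)
    refine ⟨j'.unop, leOfHom f.unop, ?_⟩
    rw [hf]
    have : f = (homOfLE (leOfHom f.unop)).op := Subsingleton.elim _ _
    conv_lhs => rw [this]
    rfl
  choose j hij hj using hER
  let E : ∀ n, AddSubgroup (G n) := fun n => (trans G t (hij n)).range
  have hEcoe : ∀ n, ((E n : AddSubgroup (G n)) : Set (G n)) = F.eventualRange (Opposite.op n) := by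
    intro n
    rw [hj n]
    rfl
  have hmem : ∀ n (e : G n), e ∈ E n ↔ e ∈ F.eventualRange (Opposite.op n) := by
    intro n e
    rw [← hEcoe n]; rfl
  have hFt : ∀ n (x : G (n + 1)), F.map (homOfLE (Nat.le_add_right n 1)).op x = t n x := by
    intro n x
    rw [hFmap, trans_succ]
  apply Groth.Agent.Lib.Helper74.towerDiff_surjective_of_subgroups G t E
  · intro n e he
    rw [hmem] at he ⊢
    have := F.eventualRange_mapsTo (homOfLE (Nat.le_add_right n 1)).op he
    rwa [hFt] at this
  · intro n e he
    rw [hmem] at he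
    rw [h.eq_image_eventualRange F (homOfLE (Nat.le_add_right n 1)).op] at he
    obtain ⟨e', he', rfl⟩ := he
    exact ⟨e', (hmem _ _).2 he', (hFt n e').symm⟩
  · intro i
    refine ⟨j i - i, fun k hk z => ?_⟩
    have key := trans_eq_of_seq G t (hij i)
      (fun n => ((Groth.Agent.Lib.Helper74.towerShift G t)^[k - (n - i)] z) n) ?_
    · simp only [Nat.sub_self, Nat.sub_zero] at key
      rw [← key]
      exact ⟨_, rfl⟩
    · intro n hin hnj
      have e : k - (n - i) = (k - (n + 1 - i)) + 1 := by omega
      show ((Groth.Agent.Lib.Helper74.towerShift G t)^[k - (n - i)] z) n =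
        t n (((Groth.Agent.Lib.Helper74.towerShift G t)^[k - (n + 1 - i)] z) (n + 1))
      rw [e, Function.iterate_succ_apply', Groth.Agent.Lib.Helper74.towerShift_apply]

end Groth.Agent.S14616
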