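import Groth.Statements.S0874
import Groth.Agent.Lib.Helper83.TopStalkInj
import Groth.Agent.S0943
-- import your own Groth.Agent.* helpers here

set_option autoImplicit false
universe u
open CategoryTheory
open CohTop

namespace Groth.Agent.S0874
lemma a_succ {T : Type*} [Category T] [Preadditive T] [Limits.HasZeroObject T] [HasShift T ℤ]
    [∀ n : ℤ, (shiftFunctor T n).Additive] [Pretriangulated T]
    (K : ℕ → T) (t : ∀ n, K (n + 1) ⟶ K n) [Limits.HasProduct K] (L : T) (a : ∀ n, L ⟶ K n)
    (hL : CohCx.IsRlimVia K t L a) (n : ℕ) : a (n + 1) ≫ t n = a n := by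
  obtain ⟨c, hc⟩ := hL
  have h1 : Limits.Pi.lift a ≫
      (Limits.Pi.lift fun n => Limits.Pi.π K n - Limits.Pi.π K (n + 1) ≫ t n) = 0 :=
    Pretriangulated.comp_distTriang_mor_zero₁₂ _ hc
  have h2 := h1 =≫ Limits.Pi.π K n
  simp only [Category.assoc, Limits.Pi.lift_π, Preadditive.comp_sub,
    Limits.Pi.lift_π_assoc] at h2
  rw [Limits.zero_comp] at h2
  exact (sub_eq_zero.1 h2).symm

lemma a_transition {T : Type*} [Category T] [Preadditive T] [Limits.HasZeroObject T] [HasShift T ℤ]
    [∀ n : ℤ, (shiftFunctor T n).Additive] [Pretriangulated T]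
    (K : ℕ → T) (t : ∀ n, K (n + 1) ⟶ K n) [Limits.HasProduct K] (L : T) (a : ∀ n, L ⟶ K n)
    (hL : CohCx.IsRlimVia K t L a) (n k : ℕ) : a (n + k) ≫ CohCx.transition K t n k = a n := by
  induction k with
  | zero => exact Category.comp_id _
  | succ k ih =>
    change a (n + k + 1) ≫ t (n + k) ≫ CohCx.transition K t n k = a n
    rw [← Category.assoc, a_succ K t L a hL, ih]

open TopologicalSpace CategoryTheory.Limits in
/-- Let (K_n) be an inverse system in D(Ab X), the derived category of sheaves of abelian groups on X,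
with derived limit L (through maps a_n : L -> K_n), x a point and m an integer. Suppose there are an
index n(x) and a fundamental system of open neighbourhoods U of x such that (1) the inverse system
H^{m-1}(U, K_n) has vanishing R^1 lim and (2) for every n >= n(x), the transition map from H^m(U,
K_n) to H^m(U, K_{n(x)}) is one-to-one. Then a_{n(x)} induces an injection of stalks at x, from
H^m(L) into H^m(K_{n(x)}). -/
theorem result {X : TopCat.{u}} [HasDerivedCategory.{u} (CohTop.Ab X)]
    (K : ℕ → DerivedCategory (CohTop.Ab X)) (t : ∀ n, K (n + 1) ⟶ K n) [HasProduct K]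
    (L : DerivedCategory (CohTop.Ab X)) (a : ∀ n, L ⟶ K n) (hL : CohCx.IsRlimVia K t L a)
    (x : X) (m : ℤ) (nx : ℕ)
    (h : ∀ V : Opens X, x ∈ V → ∃ U : Opens X, x ∈ U ∧ U ≤ V ∧
      CohCx.LimOneIsZero (fun n => CohCx.HDU (K n) (m - 1) U)
        (fun n => Preadditive.rightComp _ ((shiftFunctor _ (m - 1)).map (t n))) ∧
      ∀ k : ℕ, Function.Injective
        (Preadditive.rightComp _ ((shiftFunctor _ m).map (CohCx.transition K t nx k)) :
          CohCx.HDU (K (nx + k)) m U → CohCx.HDU (K nx) m U)) :
    Function.Injective ((TopCat.Presheaf.stalkFunctor AddCommGrpCat.{u} x).map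
      ((DerivedCategory.homologyFunctor (CohTop.Ab X) m).map (a nx)).hom) := by

  let A := CohTop.Ab X
  let sm := shiftFunctor (DerivedCategory A) m
  let σ := (DerivedCategory.homologyFunctor A 0).shiftIso m 0 m (by simp)
  have hcore : Function.Injective ((TopCat.Presheaf.stalkFunctor AddCommGrpCat.{u} x).map
      ((DerivedCategory.homologyFunctor A 0).map (sm.map (a nx))).hom) := by
    apply Groth.Agent.Lib.Helper83.TopStalkInj.stalk_injective_H0
    intro V hxV
    obtain ⟨U, hxU, hUV, hlim, hinj⟩ := h V hxV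
    refine ⟨U, hxU, hUV, fun y hy => ?_⟩
    refine (Groth.Agent.S0943.result K t L a hL U m).2 hlim y (fun n => ?_)
    by_cases hn : nx ≤ n
    · obtain ⟨k, rfl⟩ := Nat.exists_eq_add_of_le hn
      apply hinj k
      change (y ≫ sm.map (a (nx + k))) ≫ sm.map (CohCx.transition K t nx k) =
        (0 : _ ⟶ sm.obj (K (nx + k))) ≫ sm.map (CohCx.transition K t nx k)
      rw [Category.assoc, ← Functor.map_comp, a_transition K t L a hL, Limits.zero_comp]
      exact hy
    · obtain ⟨k, rfl⟩ := Nat.exists_eq_add_of_le (Nat.le_of_not_le hn)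
      rw [← a_transition K t L a hL n k, Functor.map_comp, ← Category.assoc]
      change (y ≫ sm.map (a (n + k))) ≫ _ = 0
      rw [hy, Limits.zero_comp]
  let St := TopCat.Presheaf.stalkFunctor AddCommGrpCat.{u} x
  have hn : ((DerivedCategory.homologyFunctor A m).map (a nx)).hom ≫ (σ.inv.app (K nx)).hom =
      (σ.inv.app L).hom ≫ ((DerivedCategory.homologyFunctor A 0).map (sm.map (a nx))).hom :=
    congrArg (fun φ => φ.hom) (σ.inv.naturality (a nx))
  have hs : St.map ((DerivedCategory.homologyFunctor A m).map (a nx)).hom ≫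
      St.map (σ.inv.app (K nx)).hom =
      St.map (σ.inv.app L).hom ≫
        St.map ((DerivedCategory.homologyFunctor A 0).map (sm.map (a nx))).hom := by
    exact (St.map_comp _ _).symm.trans ((congrArg (fun φ => St.map φ) hn).trans (St.map_comp _ _))
  have i2 : Function.Injective (St.map (σ.inv.app L).hom) := by
    have : IsIso (St.map (σ.inv.app L).hom) := by
      have : IsIso (σ.inv.app L).hom :=
        inferInstanceAs (IsIso ((sheafToPresheaf _ _).map (σ.inv.app L)))
      infer_instance
    exact ((ConcreteCategory.isIso_iff_bijective _).1 this).1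
  intro t₁ t₂ ht
  have h5 := congrArg (fun z => St.map (σ.inv.app (K nx)).hom z) ht
  have h6 : ∀ z, St.map (σ.inv.app (K nx)).hom
      (St.map ((DerivedCategory.homologyFunctor A m).map (a nx)).hom z) =
      St.map ((DerivedCategory.homologyFunctor A 0).map (sm.map (a nx))).hom
        (St.map (σ.inv.app L).hom z) := fun z =>
    congrArg (fun φ => (ConcreteCategory.hom φ) z) hs
  exact i2 (hcore ((h6 t₁).symm.trans (h5.trans (h6 t₂))))
end Groth.Agent.S0874
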