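import Groth.Statements.S19602
import Groth.Agent.Lib.Helper59.OrbitClosure
-- import your own Groth.Agent.* helpers here

set_option autoImplicit false
universe u
open GIT

namespace Groth.Agent.S19602

/-- Let k be an algebraically closed field, G = Spec A a linearly reductive affine algebraic group over
k, and U = Spec R an affine k-scheme of finite type on which G acts. Two k-points x₁, x₂ of U have
the same image in U//G = Spec R^G if and only if the closures of their orbits have a common k-point.
Stated in coaction form. The published statement allows any affine U and asks only that the two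
orbit closures meet; this row assumes U of finite type over k and asks for a common k-point, which
is then equivalent. -/
theorem result (k : Type u) [Field k] [IsAlgClosed k]
    (A : Type u) [CommRing A] [HopfAlgebra k A] [Algebra.FiniteType k A] (hG : HopfRep.IsLinearlyReductive k A)
    (R : Type u) [CommRing R] [Algebra k R] [Algebra.FiniteType k R] [HopfRep.Comod k A R] [GLin.IsCoactAlg k A R]
    (x₁ x₂ : R →ₐ[k] k) :
    x₁.comp (GLin.invariants k A R).val = x₂.comp (GLin.invariants k A R).val ↔
      ∃ z : R →ₐ[k] k, GLin.InOrbitClosure k A x₁ z ∧ GLin.InOrbitClosure k A x₂ z := by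
  classical
  have hmul : ∀ f g : R, HopfRep.Comod.coact (k := k) (A := A) (f * g) =
      HopfRep.Comod.coact (k := k) (A := A) f * HopfRep.Comod.coact (k := k) (A := A) g :=
    GLin.IsCoactAlg.coact_mul
  have hone : HopfRep.Comod.coact (k := k) (A := A) (1 : R) = 1 := GLin.IsCoactAlg.coact_one (k := k)
  have horb : ∀ x : R →ₐ[k] k, Groth.Agent.Lib.Helper59.LinRed.orbitAlg hmul hone x =
      GLin.orbitHom k A x := fun x => rfl
  have hinv : ∀ (x : R →ₐ[k] k) (f : R), f ∈ GLin.invariants k A R →
      GLin.orbitHom k A x f = algebraMap k A (x f) := by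
    intro x f hf
    have hf' : HopfRep.Comod.coact (k := k) (A := A) f = f ⊗ₜ[k] (1 : A) := hf
    change (Algebra.TensorProduct.lid k A) ((Algebra.TensorProduct.map x (AlgHom.id k A))
      (HopfRep.Comod.coact (k := k) (A := A) f)) = _
    rw [hf']
    simp [Algebra.algebraMap_eq_smul_one]
  constructor
  · intro h
    by_cases hJ : RingHom.ker (GLin.orbitHom k A x₁) ⊔ RingHom.ker (GLin.orbitHom k A x₂) = ⊤
    · exfalso
      have h1 : (1 : R) ∈ RingHom.ker (GLin.orbitHom k A x₁) ⊔ RingHom.ker (GLin.orbitHom k A x₂) := by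
        rw [hJ]; trivial
      obtain ⟨f₁, hf₁, f₂, hf₂, h12⟩ := Submodule.mem_sup.mp h1
      obtain ⟨E, hE⟩ := Groth.Agent.Lib.Helper59.LinRed.exists_isReynolds (V := R) hG
      have hE1 : E 1 = 1 := by
        apply hE.apply_of_mem
        change HopfRep.Comod.coact (k := k) (A := A) (1 : R) = (1 : R) ⊗ₜ[k] (1 : A)
        rw [hone, Algebra.TensorProduct.one_def]
      have hEf₁ : E f₁ ∈ (RingHom.ker (GLin.orbitHom k A x₁)).restrictScalars k :=
        hE.apply_mem_of_isSubcomod hG _
          (Groth.Agent.Lib.Helper59.LinRed.isSubcomod_ker_orbitAlg hmul hone x₁) hf₁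
      have hEf₂ : E f₂ ∈ (RingHom.ker (GLin.orbitHom k A x₂)).restrictScalars k :=
        hE.apply_mem_of_isSubcomod hG _
          (Groth.Agent.Lib.Helper59.LinRed.isSubcomod_ker_orbitAlg hmul hone x₂) hf₂
      have hx₁ : x₁ (E f₁) = 0 :=
        Groth.Agent.Lib.Helper59.LinRed.apply_eq_zero_of_orbitAlg_eq_zero hmul hone x₁ hEf₁
      have hx₂ : x₂ (E f₂) = 0 :=
        Groth.Agent.Lib.Helper59.LinRed.apply_eq_zero_of_orbitAlg_eq_zero hmul hone x₂ hEf₂
      have hx₂' : x₂ (E f₁) = x₁ (E f₁) := by
        have := AlgHom.congr_fun h ⟨E f₁, hE.apply_mem f₁⟩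
        exact this.symm
      have : x₂ (E (f₁ + f₂)) = 0 := by
        rw [map_add, map_add, hx₂', hx₁, hx₂, add_zero]
      rw [h12, hE1, map_one] at this
      exact one_ne_zero this
    · obtain ⟨z, hz⟩ := Groth.Agent.Lib.Helper59.exists_algHom_of_ne_top k R _ hJ
      refine ⟨z, ?_, ?_⟩
      · intro f hf
        exact hz f (Submodule.mem_sup_left hf)
      · intro f hf
        exact hz f (Submodule.mem_sup_right hf)
  · rintro ⟨z, hz₁, hz₂⟩
    have key : ∀ (x : R →ₐ[k] k), GLin.InOrbitClosure k A x z →
        ∀ f : R, f ∈ GLin.invariants k A R → z f = x f := by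
      intro x hx f hf
      have : f - algebraMap k R (x f) ∈ RingHom.ker (GLin.orbitHom k A x) := by
        rw [RingHom.mem_ker, map_sub, hinv x f hf, AlgHom.commutes, sub_self]
      have h2 := hx this
      rw [RingHom.mem_ker, map_sub, AlgHom.commutes, sub_eq_zero] at h2
      rw [h2]
      rfl
    apply AlgHom.ext
    intro f
    change x₁ (f : R) = x₂ (f : R)
    rw [← key x₁ hz₁ f f.2, ← key x₂ hz₂ f f.2]

end Groth.Agent.S19602
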