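import Mathlib
import Groth.Statements.S18983

set_option autoImplicit false
universe u v w
open CAlg

namespace Groth.Agent.S18983


open Module

section
variable {k : Type u} [Field k] {Λ : Type v} [AddCommGroup Λ] [DecidableEq Λ]
  {V : Type w} [AddCommGroup V] [Module k V]
  (𝒱 : Λ → Submodule k V) (h𝒱 : DirectSum.IsInternal 𝒱)

/-- projection onto the degree `μ` part. -/
noncomputable def proj (μ : Λ) : V →ₗ[k] V :=
  letI := h𝒱.chooseDecomposition
  (𝒱 μ).subtype ∘ₗ (DirectSum.component k Λ (fun i => 𝒱 i) μ) ∘ₗ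
    (DirectSum.decomposeLinearEquiv 𝒱).toLinearMap

theorem proj_apply (μ : Λ) (x : V) :
    proj 𝒱 h𝒱 μ x = (letI := h𝒱.chooseDecomposition; ((DirectSum.decompose 𝒱 x μ : 𝒱 μ) : V)) := rfl

theorem proj_mem (μ : Λ) (x : V) : proj 𝒱 h𝒱 μ x ∈ 𝒱 μ := by
  rw [proj_apply]
  exact Subtype.property _

theorem proj_of_mem {μ : Λ} {x : V} (hx : x ∈ 𝒱 μ) : proj 𝒱 h𝒱 μ x = x := by
  rw [proj_apply]
  letI := h𝒱.chooseDecomposition
  exact DirectSum.decompose_of_mem_same 𝒱 hx

theorem proj_of_mem_ne {μ ν : Λ} {x : V} (hx : x ∈ 𝒱 ν) (h : ν ≠ μ) : proj 𝒱 h𝒱 μ x = 0 := by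
  rw [proj_apply]
  letI := h𝒱.chooseDecomposition
  exact DirectSum.decompose_of_mem_ne 𝒱 hx h

theorem sum_proj (x : V) : ∃ s : Finset Λ, x = ∑ μ ∈ s, proj 𝒱 h𝒱 μ x := by
  classical
  letI := h𝒱.chooseDecomposition
  refine ⟨(DirectSum.decompose 𝒱 x).support, ?_⟩
  exact (DirectSum.sum_support_decompose 𝒱 x).symm

variable (A : Module.End k V) (χ : Λ) (hhom : ∀ (μ : Λ) (v : V), v ∈ 𝒱 μ → A v ∈ 𝒱 (μ + χ))

include hhom in
theorem proj_comm (ν : Λ) (x : V) : A (proj 𝒱 h𝒱 ν x) = proj 𝒱 h𝒱 (ν + χ) (A x) := by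
  have hx : x ∈ ⨆ i, 𝒱 i := by
    rw [h𝒱.submodule_iSup_eq_top]; trivial
  induction hx using Submodule.iSup_induction' with
  | mem μ x hx =>
    by_cases h : μ = ν
    · subst h
      rw [proj_of_mem 𝒱 h𝒱 hx, proj_of_mem 𝒱 h𝒱 (hhom _ _ hx)]
    · rw [proj_of_mem_ne 𝒱 h𝒱 hx h, map_zero,
        proj_of_mem_ne 𝒱 h𝒱 (hhom _ _ hx) (fun h' => h (add_right_cancel h'))]
  | zero => simp
  | add x y _ _ hx hy => rw [map_add, map_add, map_add, map_add, hx, hy]

include hhom in
theorem pow_hom (m : ℕ) (μ : Λ) (x : V) (hx : x ∈ 𝒱 μ) : (A ^ m) x ∈ 𝒱 (μ + m • χ) := by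
  induction m with
  | zero => simpa using hx
  | succ m ih =>
    rw [pow_succ', Module.End.mul_apply, succ_nsmul, ← add_assoc]
    exact hhom _ _ ih

theorem pow_succ_apply (m : ℕ) (x : V) : (A ^ (m + 1)) x = (A ^ m) (A x) := by
  rw [pow_succ, Module.End.mul_apply]

theorem pow_succ_apply' (m : ℕ) (x : V) : (A ^ (m + 1)) x = A ((A ^ m) x) := by
  rw [pow_succ', Module.End.mul_apply]

variable [FiniteDimensional k V]

include hhom in
theorem main_ind (hA : IsNilpotent A) :
    ∀ (d : ℕ) (U : Submodule k V), finrank k U = d →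
      (∀ μ u, u ∈ U → proj 𝒱 h𝒱 μ u ∈ U) → (∀ u ∈ U, A u ∈ U) →
      ∃ (ι : Type w) (_ : Finite ι) (n : ι → ℕ) (t : ι → V),
        (∀ i, ∃ μ, t i ∈ 𝒱 μ) ∧ (∀ i, (A ^ (n i + 1)) (t i) = 0) ∧
        Submodule.span k (Set.range (fun p : Σ i, Fin (n i + 1) => (A ^ (p.2 : ℕ)) (t p.1))) = U ∧
        Nat.card (Σ i, Fin (n i + 1)) = finrank k U := by
  classical
  intro d
  induction d using Nat.strong_induction_on with
  | _ d ih =>
  intro U hd hUg hUs
  by_cases hU : U = ⊥
  · subst hU
    refine ⟨PEmpty, inferInstance, fun i => i.elim, fun i => i.elim, fun i => i.elim,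
      fun i => i.elim, ?_, ?_⟩
    · rw [Submodule.span_eq_bot]
      rintro x ⟨⟨i, _⟩, _⟩
      exact i.elim
    · rw [finrank_bot]
      haveI : IsEmpty (Σ i : PEmpty.{w+1}, Fin ((fun i : PEmpty.{w+1} => (i.elim : ℕ)) i + 1)) :=
        ⟨fun p => p.1.elim⟩
      exact Nat.card_of_isEmpty
  · have hpow_mem : ∀ (m : ℕ) (u : V), u ∈ U → (A ^ m) u ∈ U := by
      intro m
      induction m with
      | zero => intro u hu; simpa using hu
      | succ m ihm => intro u hu; rw [pow_succ_apply]; exact ihm _ (hUs u hu)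
    set U' := U.map A with hU'
    have hU'le : U' ≤ U := by
      rintro _ ⟨u, hu, rfl⟩
      exact hUs u hu
    have hU'ne : U' ≠ U := by
      intro h
      obtain ⟨m, hm⟩ := hA
      have hall : ∀ j : ℕ, U.map (A ^ j) = U := by
        intro j
        induction j with
        | zero =>
          rw [pow_zero, Module.End.one_eq_id, Submodule.map_id]
        | succ j ihj =>
          rw [pow_succ, Module.End.mul_eq_comp, Submodule.map_comp, ← hU', h, ihj]
      have h2 := hall m
      rw [hm] at h2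
      apply hU
      rw [← h2]
      ext x
      simp
    have hlt : finrank k U' < finrank k U :=
      Submodule.finrank_lt_finrank_of_lt (lt_of_le_of_ne hU'le hU'ne)
    have hU'g : ∀ μ u, u ∈ U' → proj 𝒱 h𝒱 μ u ∈ U' := by
      rintro μ _ ⟨u, hu, rfl⟩
      have h1 := proj_comm 𝒱 h𝒱 A χ hhom (μ - χ) u
      rw [sub_add_cancel] at h1
      rw [← h1]
      exact ⟨_, hUg _ _ hu, rfl⟩
    have hU's : ∀ u ∈ U', A u ∈ U' := fun u hu => ⟨u, hU'le hu, rfl⟩
    obtain ⟨ι', hfin', n', t', ht'hom, ht'top, hspan', hcard'⟩ :=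
      ih _ (hd ▸ hlt) U' rfl hU'g hU's
    letI : Fintype ι' := Fintype.ofFinite ι'
    set fam' : (Σ i, Fin (n' i + 1)) → V := fun p => (A ^ (p.2 : ℕ)) (t' p.1) with hfam'
    have hLI' : LinearIndependent k fam' := by
      rw [linearIndependent_iff_card_eq_finrank_span, Set.finrank, hspan', ← hcard',
        Nat.card_eq_fintype_card]
    have hmem' : ∀ p, fam' p ∈ U' := fun p => by
      rw [← hspan']
      exact Submodule.subset_span ⟨p, rfl⟩
    set bot : ι' → V := fun i => fam' ⟨i, Fin.last (n' i)⟩ with hbot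
    have hbotLI : LinearIndependent k bot :=
      hLI'.comp (fun i => (⟨i, Fin.last (n' i)⟩ : Σ i, Fin (n' i + 1)))
        (fun i j h => congrArg Sigma.fst h)
    have hbot_eq : ∀ i, bot i = (A ^ (n' i)) (t' i) := fun i => by
      simp [hbot, hfam']
    -- the kernel part
    set K : Submodule k V := U ⊓ LinearMap.ker A with hK
    set H : Set V := {x | x ∈ K ∧ ∃ μ, x ∈ 𝒱 μ} with hH
    have hKg : ∀ μ u, u ∈ K → proj 𝒱 h𝒱 μ u ∈ K := by
      intro μ u hu
      refine ⟨hUg _ _ hu.1, ?_⟩
      show A (proj 𝒱 h𝒱 μ u) = 0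
      rw [proj_comm 𝒱 h𝒱 A χ hhom, LinearMap.mem_ker.1 hu.2, map_zero]
    have hKH : K ≤ Submodule.span k H := by
      intro u hu
      obtain ⟨s, hs⟩ := sum_proj 𝒱 h𝒱 u
      rw [hs]
      refine Submodule.sum_mem _ (fun μ _ => Submodule.subset_span ?_)
      exact ⟨hKg μ u hu, μ, proj_mem 𝒱 h𝒱 μ u⟩
    have hbotH : Set.range bot ⊆ H := by
      rintro _ ⟨i, rfl⟩
      refine ⟨⟨hU'le (hmem' _), ?_⟩, ?_⟩
      · show A (bot i) = 0
        rw [hbot_eq, ← pow_succ_apply']
        exact ht'top i
      · obtain ⟨μ, hμ⟩ := ht'hom i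
        rw [hbot_eq]
        exact ⟨_, pow_hom 𝒱 A χ hhom _ μ _ hμ⟩
    obtain ⟨b, hbH, hsb, hHb, hbLI⟩ :=
      exists_linearIndepOn_id_extension hbotLI.linearIndepOn_id hbotH
    have hspanb : Submodule.span k b = K := by
      apply le_antisymm
      · rw [Submodule.span_le]
        exact fun x hx => (hbH hx).1
      · exact hKH.trans (Submodule.span_le.2 hHb)
    have hbLI' : LinearIndependent k (fun x : b => (x : V)) := hbLI
    haveI : Finite ↥b := hbLI'.finite
    -- lifts of the tops
    have hlift : ∀ i, ∃ t, t ∈ U ∧ (∃ μ, t ∈ 𝒱 μ) ∧ A t = t' i := by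
      intro i
      have h0 : t' i ∈ U' := by
        have := hmem' ⟨i, 0⟩
        simpa [hfam'] using this
      obtain ⟨u, hu, hue⟩ := h0
      obtain ⟨μ, hμ⟩ := ht'hom i
      refine ⟨proj 𝒱 h𝒱 (μ - χ) u, hUg _ _ hu, ⟨_, proj_mem 𝒱 h𝒱 _ _⟩, ?_⟩
      rw [proj_comm 𝒱 h𝒱 A χ hhom, sub_add_cancel, hue, proj_of_mem 𝒱 h𝒱 hμ]
    choose tl htlU htlhom htlA using hlift
    -- new data
    let J : Type w := ↥(b \ Set.range bot)
    haveI : Finite J := by
      refine Finite.of_injective (fun j : J => (⟨j.1, j.2.1⟩ : ↥b)) ?_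
      intro x y h
      have h' : (x : V) = (y : V) := congrArg (fun z : ↥b => (z : V)) h
      exact Subtype.ext h'
    let n : ι' ⊕ J → ℕ := Sum.elim (fun i => n' i + 1) (fun _ => 0)
    let t : ι' ⊕ J → V := Sum.elim tl (fun j => j.1)
    have hbker : ∀ x ∈ b, A x = 0 := fun x hx => LinearMap.mem_ker.1 (hbH hx).1.2
    have hbU : ∀ x ∈ b, x ∈ U := fun x hx => (hbH hx).1.1
    have htU : ∀ q, t q ∈ U := by
      rintro (i | j)
      · exact htlU i
      · exact hbU _ j.2.1
    refine ⟨ι' ⊕ J, inferInstance, n, t, ?_, ?_, ?_, ?_⟩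
    · rintro (i | j)
      · exact htlhom i
      · exact (hbH j.2.1).2
    · rintro (i | j)
      · show (A ^ (n' i + 1 + 1)) (tl i) = 0
        rw [pow_succ_apply, htlA]
        exact ht'top i
      · show (A ^ (0 + 1)) (j.1 : V) = 0
        rw [zero_add, pow_one]
        exact hbker _ j.2.1
    · set fam : (Σ q, Fin (n q + 1)) → V := fun p => (A ^ (p.2 : ℕ)) (t p.1) with hfam
      apply le_antisymm
      · rw [Submodule.span_le]
        rintro _ ⟨⟨q, l⟩, rfl⟩
        exact hpow_mem _ _ (htU q)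
      · intro u hu
        have hAu : A u ∈ Submodule.span k (Set.range fam') := by
          rw [hspan']
          exact ⟨u, hu, rfl⟩
        have hsub : Submodule.span k (Set.range fam') ≤ (Submodule.span k (Set.range fam)).map A := by
          rw [Submodule.span_le]
          rintro _ ⟨⟨i, l⟩, rfl⟩
          refine ⟨fam ⟨Sum.inl i, l.castSucc⟩, Submodule.subset_span ⟨_, rfl⟩, ?_⟩
          show A ((A ^ ((l.castSucc : Fin (n' i + 1 + 1)) : ℕ)) (tl i)) = (A ^ (l : ℕ)) (t' i)
          rw [Fin.val_castSucc, ← pow_succ_apply', pow_succ_apply, htlA]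
        obtain ⟨w', hw', hwA⟩ := hsub hAu
        have hfamU : Submodule.span k (Set.range fam) ≤ U := by
          rw [Submodule.span_le]
          rintro _ ⟨⟨q, l⟩, rfl⟩
          exact hpow_mem _ _ (htU q)
        have hK' : u - w' ∈ K := by
          refine ⟨U.sub_mem hu (hfamU hw'), ?_⟩
          show A (u - w') = 0
          rw [map_sub, hwA, sub_self]
        have hbfam : b ⊆ Set.range fam := by
          intro x hx
          by_cases hxs : x ∈ Set.range bot
          · obtain ⟨i, rfl⟩ := hxs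
            refine ⟨⟨Sum.inl i, Fin.last (n' i + 1)⟩, ?_⟩
            show (A ^ ((Fin.last (n' i + 1) : Fin (n' i + 1 + 1)) : ℕ)) (tl i) = bot i
            rw [Fin.val_last, pow_succ_apply, htlA, hbot_eq]
          · refine ⟨⟨Sum.inr ⟨x, hx, hxs⟩, 0⟩, ?_⟩
            show (A ^ ((0 : Fin (0 + 1)) : ℕ)) x = x
            simp
        have h3 : u - w' ∈ Submodule.span k (Set.range fam) := by
          have : u - w' ∈ Submodule.span k b := by rw [hspanb]; exact hK'
          exact Submodule.span_mono hbfam this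
        have := Submodule.add_mem _ h3 hw'
        simpa using this
    · -- cardinalities
      letI : Fintype J := Fintype.ofFinite J
      have hc1 : Nat.card (Σ q, Fin (n q + 1)) =
          (∑ i : ι', (n' i + 1 + 1)) + ∑ _j : J, (0 + 1) := by
        rw [Nat.card_congr (Equiv.sumSigmaDistrib _), Nat.card_sum, Nat.card_sigma, Nat.card_sigma]
        simp only [Nat.card_fin]
        rfl
      have hc2 : ∑ i : ι', (n' i + 1) = finrank k U' := by
        rw [← hcard', Nat.card_sigma]
        simp only [Nat.card_fin]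
      have hc3 : finrank k U = finrank k U' + finrank k K := by
        have h1 := LinearMap.finrank_range_add_finrank_ker (A.domRestrict U)
        rw [LinearMap.range_domRestrict] at h1
        have h2 : finrank k (LinearMap.ker (A.domRestrict U)) = finrank k K := by
          have : K = (LinearMap.ker (A.domRestrict U)).map U.subtype := by
            rw [hK, LinearMap.domRestrict, LinearMap.ker_comp, Submodule.map_comap_subtype]
          rw [this, Submodule.finrank_map_subtype_eq]
        rw [← h1, h2]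
      have hc4 : finrank k K = Nat.card ι' + Nat.card J := by
        letI : Fintype ↥b := Fintype.ofFinite _
        have h1 := finrank_span_eq_card hbLI'
        rw [Subtype.range_coe, hspanb] at h1
        rw [h1, ← Nat.card_eq_fintype_card,
          ← Nat.card_congr (Equiv.Set.sumDiffSubset hsb), Nat.card_sum,
          Nat.card_congr (Equiv.ofInjective bot hbotLI.injective).symm]
      rw [hc1, hc3, hc4, ← hc2]
      simp only [Finset.sum_add_distrib, Finset.sum_const, Finset.card_univ, smul_eq_mul, mul_one,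
        Nat.card_eq_fintype_card, zero_add]
      ring

end

/-- Let k be a field, Λ an additive commutative group, V a finite-dimensional k-vector space which is
the internal direct sum of subspaces V_μ indexed by Λ (a representation of a torus with character
group Λ), and A a nilpotent endomorphism of V mapping each V_μ into V_{μ+χ} for a fixed χ (the
infinitesimal generator of an action of the additive group on which the torus acts through the
character χ). Then V has a basis consisting of homogeneous vectors e_{i,l}, 0 ≤ l ≤ n_i, with A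
e_{i,0} = 0 and A e_{i,l+1} = e_{i,l}: a weight basis bringing A into Jordan normal form. (The
source states this, over an algebraically closed field of characteristic zero, as a decomposition of
every representation of the semidirect product of the additive group with a torus into twists of
symmetric powers of the standard two-dimensional representation by characters; the first line of its
proof reduces that to the present statement, which is what is proved, and which holds over any
field.) -/
theorem result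
    (k : Type u) [Field k] (Λ : Type v) [AddCommGroup Λ] [DecidableEq Λ]
    (V : Type w) [AddCommGroup V] [Module k V] [FiniteDimensional k V]
    (𝒱 : Λ → Submodule k V) (h𝒱 : DirectSum.IsInternal 𝒱)
    (A : Module.End k V) (hA : IsNilpotent A) (χ : Λ)
    (hhom : ∀ (μ : Λ) (v : V), v ∈ 𝒱 μ → A v ∈ 𝒱 (μ + χ)) :
    ∃ (ι : Type w) (_ : Finite ι) (n : ι → ℕ) (b : Module.Basis (Σ i : ι, Fin (n i + 1)) k V),
      (∀ (i : ι) (l : Fin (n i + 1)), ∃ μ : Λ, b ⟨i, l⟩ ∈ 𝒱 μ) ∧
      (∀ i : ι, A (b ⟨i, 0⟩) = 0) ∧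
      ∀ (i : ι) (l : Fin (n i)), A (b ⟨i, l.succ⟩) = b ⟨i, l.castSucc⟩ := by
  classical
  obtain ⟨ι, hfin, n, t, hthom, httop, hspan, hcard⟩ :=
    main_ind 𝒱 h𝒱 A χ hhom hA (finrank k (⊤ : Submodule k V)) ⊤ rfl
      (fun _ _ _ => Submodule.mem_top) (fun _ _ => Submodule.mem_top)
  letI : Fintype ι := Fintype.ofFinite ι
  set fam : (Σ i, Fin (n i + 1)) → V := fun p => (A ^ (p.2 : ℕ)) (t p.1) with hfam
  have hLI : LinearIndependent k fam := by
    rw [linearIndependent_iff_card_eq_finrank_span, Set.finrank, hspan, ← hcard,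
      Nat.card_eq_fintype_card]
  let B : Module.Basis (Σ i, Fin (n i + 1)) k V := Module.Basis.mk hLI hspan.ge
  let e : (Σ i, Fin (n i + 1)) ≃ (Σ i, Fin (n i + 1)) :=
    Equiv.sigmaCongrRight (fun i => Fin.revPerm)
  have hb : ∀ (i : ι) (l : Fin (n i + 1)), (B.reindex e) ⟨i, l⟩ = (A ^ (n i - (l : ℕ))) (t i) := by
    intro i l
    rw [Module.Basis.reindex_apply, Module.Basis.mk_apply]
    show (A ^ ((Fin.rev l : Fin (n i + 1)) : ℕ)) (t i) = _
    rw [Fin.val_rev]
    congr 2
    omega
  refine ⟨ι, hfin, n, B.reindex e, ?_, ?_, ?_⟩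
  · intro i l
    obtain ⟨μ, hμ⟩ := hthom i
    rw [hb]
    exact ⟨_, pow_hom 𝒱 A χ hhom _ μ _ hμ⟩
  · intro i
    rw [hb, ← pow_succ_apply']
    simpa using httop i
  · intro i l
    rw [hb, hb, ← pow_succ_apply']
    congr 2
    have := l.2
    simp only [Fin.val_succ, Fin.val_castSucc]
    omega

end Groth.Agent.S18983
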