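import Groth.Statements.S12421
-- import your own Groth.Agent.* helpers here

set_option autoImplicit false
universe u
open TensorProduct
open Desc

namespace Groth.Agent.S12421

section helpers

variable (R R' : Type u) [CommRing R] [CommRing R'] [Algebra R R']

/-- contraction `(a ⊗ n) ⊗ c ↦ n ⊗ (a * c)` -/
noncomputable def kappa (N : Type u) [AddCommGroup N] [Module R N] :
    (R' ⊗[R] N) ⊗[R] R' →ₗ[R] N ⊗[R] R' :=
  (LinearMap.mul' R R').lTensor N ∘ₗ (TensorProduct.assoc R N R' R').toLinearMap ∘ₗ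
    (TensorProduct.comm R R' N).toLinearMap.rTensor R'

@[simp] lemma kappa_tmul (N : Type u) [AddCommGroup N] [Module R N] (a c : R') (n : N) :
    kappa R R' N ((a ⊗ₜ[R] n) ⊗ₜ[R] c) = n ⊗ₜ[R] (a * c) := by
  simp [kappa]

/-- the homotopy `m ⊗ (a ⊗ x) ⊗ c ↦ m ⊗ x ⊗ (a * c)` -/
noncomputable def hmap (M N : Type u) [AddCommGroup M] [Module R M] [AddCommGroup N] [Module R N] :
    (M ⊗[R] (R' ⊗[R] N)) ⊗[R] R' →ₗ[R] (M ⊗[R] N) ⊗[R] R' :=
  kappa R R' (M ⊗[R] N) ∘ₗ (TensorProduct.leftComm R M R' N).toLinearMap.rTensor R'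

@[simp] lemma hmap_tmul (M N : Type u) [AddCommGroup M] [Module R M] [AddCommGroup N] [Module R N]
    (m : M) (a c : R') (x : N) :
    hmap R R' M N ((m ⊗ₜ[R] (a ⊗ₜ[R] x)) ⊗ₜ[R] c) = (m ⊗ₜ[R] x) ⊗ₜ[R] (a * c) := by
  simp [hmap]

end helpers

/-- Let R → R' be faithfully flat and M an R-module. With δ¹ : M ⊗ R' → M ⊗ (R' ⊗ R'), m ⊗ r ↦ m ⊗ (1 ⊗
r) − m ⊗ (r ⊗ 1), and δ² : M ⊗ (R' ⊗ R') → M ⊗ (R' ⊗ (R' ⊗ R')), m ⊗ x ↦ m ⊗ (1 ⊗ x) − m ⊗ (ins₁ x)
+ m ⊗ (ins₂ x), where ins₁ (r₁ ⊗ r₂) = r₁ ⊗ (1 ⊗ r₂) and ins₂ (r₁ ⊗ r₂) = r₁ ⊗ (r₂ ⊗ 1), the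
sequence M ⊗ R' → M ⊗ R'^{⊗2} → M ⊗ R'^{⊗3} is exact: the kernel of δ² is the image of δ¹. (The
published statement asserts exactness of the whole complex; this row states exactness at M ⊗ R′ ⊗ R′
only.) -/
theorem result (R R' : Type u) [CommRing R] [CommRing R'] [Algebra R R']
    [Module.FaithfullyFlat R R'] (M : Type u) [AddCommGroup M] [Module R M] :
    Function.Exact
      (LinearMap.lTensor M (Algebra.TensorProduct.includeRight : R' →ₐ[R] R' ⊗[R] R').toLinearMap -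
        LinearMap.lTensor M
          (Algebra.TensorProduct.includeLeft : R' →ₐ[R] R' ⊗[R] R').toLinearMap)
      (LinearMap.lTensor M
          (Algebra.TensorProduct.includeRight : R' ⊗[R] R' →ₐ[R] R' ⊗[R] (R' ⊗[R] R')).toLinearMap -
        LinearMap.lTensor M
          (Algebra.TensorProduct.map (AlgHom.id R R')
            (Algebra.TensorProduct.includeRight : R' →ₐ[R] R' ⊗[R] R')).toLinearMap +
        LinearMap.lTensor M
          (Algebra.TensorProduct.map (AlgHom.id R R')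
            (Algebra.TensorProduct.includeLeft : R' →ₐ[R] R' ⊗[R] R')).toLinearMap) := by
  set d1 : M ⊗[R] R' →ₗ[R] M ⊗[R] (R' ⊗[R] R') :=
    LinearMap.lTensor M (Algebra.TensorProduct.includeRight : R' →ₐ[R] R' ⊗[R] R').toLinearMap -
      LinearMap.lTensor M (Algebra.TensorProduct.includeLeft : R' →ₐ[R] R' ⊗[R] R').toLinearMap
    with hd1
  set d2 : M ⊗[R] (R' ⊗[R] R') →ₗ[R] M ⊗[R] (R' ⊗[R] (R' ⊗[R] R')) :=
    LinearMap.lTensor M
        (Algebra.TensorProduct.includeRight : R' ⊗[R] R' →ₐ[R] R' ⊗[R] (R' ⊗[R] R')).toLinearMap -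
      LinearMap.lTensor M
        (Algebra.TensorProduct.map (AlgHom.id R R')
          (Algebra.TensorProduct.includeRight : R' →ₐ[R] R' ⊗[R] R')).toLinearMap +
      LinearMap.lTensor M
        (Algebra.TensorProduct.map (AlgHom.id R R')
          (Algebra.TensorProduct.includeLeft : R' →ₐ[R] R' ⊗[R] R')).toLinearMap
    with hd2
  apply Module.FaithfullyFlat.rTensor_reflects_exact R R'
  -- the complex property
  have hcomp : d2 ∘ₗ d1 = 0 := by
    ext m r
    simp [hd1, hd2]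
  -- the homotopy identity
  have hhom : hmap R R' M (R' ⊗[R] R') ∘ₗ d2.rTensor R' + d1.rTensor R' ∘ₗ hmap R R' M R' =
      LinearMap.id := by
    ext m a b c
    simp [hd1, hd2]
  intro y
  constructor
  · intro hy
    refine ⟨hmap R R' M R' y, ?_⟩
    have := LinearMap.congr_fun hhom y
    simp only [LinearMap.add_apply, LinearMap.comp_apply, hy, map_zero, zero_add,
      LinearMap.id_apply] at this
    exact this
  · rintro ⟨x, rfl⟩
    rw [← LinearMap.comp_apply, ← LinearMap.rTensor_comp, hcomp]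
    simp

end Groth.Agent.S12421
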