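import Groth.Statements.S17329
import Mathlib
import Groth.Agent.Lib.Helper86.HopfQuot

set_option autoImplicit false
universe u v
open scoped TensorProduct
open Hopf

namespace Groth.Agent.S17329

open Groth.Agent.Lib.Helper86.HopfQuot

attribute [local instance] quotComod

theorem result (k : Type u) [Field k] [IsAlgClosed k]
    (A : Type v) [CommRing A] [HopfAlgebra k A] [Module.Finite k A] (I : Ideal A) [I.IsHopfIdeal k] :
    Module.Free
        ↥(AlgHom.equalizer
          ((Algebra.TensorProduct.map (AlgHom.id k A) (Ideal.Quotient.mkₐ k I)).comp (Bialgebra.comulAlgHom k A))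
          (Algebra.TensorProduct.includeLeft : A →ₐ[k] A ⊗[k] (A ⧸ I))) A ∧
      Module.finrank
        ↥(AlgHom.equalizer
          ((Algebra.TensorProduct.map (AlgHom.id k A) (Ideal.Quotient.mkₐ k I)).comp (Bialgebra.comulAlgHom k A))
          (Algebra.TensorProduct.includeLeft : A →ₐ[k] A ⊗[k] (A ⧸ I))) A =
        Module.finrank k (A ⧸ I) := by
  obtain ⟨b⟩ := exists_basis_quot k A I
    (AlgHom.equalizer
      ((Algebra.TensorProduct.map (AlgHom.id k A) (Ideal.Quotient.mkₐ k I)).comp
        (Bialgebra.comulAlgHom k A))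
      (Algebra.TensorProduct.includeLeft : A →ₐ[k] A ⊗[k] (A ⧸ I)))
    (fun x => by rw [AlgHom.mem_equalizer, quot_coactAlgHom]; rfl)
  refine ⟨Module.Free.of_basis b, ?_⟩
  have : Nontrivial A := (Bialgebra.counitAlgHom k A).toRingHom.domain_nontrivial
  rw [Module.finrank_eq_card_basis b, Fintype.card_fin]

end Groth.Agent.S17329
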