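import Groth.Statements.S17325
import Mathlib

set_option autoImplicit false
universe u v
open LieAlg

namespace Groth.Agent.S17325

open Polynomial

/-- Auxiliary polynomials. -/
noncomputable def auxD {k : Type u} [Field k] (p : ℕ) (a : ℕ → k) : ℕ → k[X]
  | 0 => C (a 0)
  | (i + 1) => X ^ (p ^ 2 - p) * (auxD p a i) ^ p + C (a (i + 1))

theorem auxD_eq_zero {k : Type u} [Field k] (p : ℕ) (hp : 2 ≤ p) (a : ℕ → k) (i : ℕ)
    (h : auxD p a i = 0) : ∀ j ≤ i, a j = 0 := by
  induction i with
  | zero =>
    intro j hj
    have : j = 0 := by omega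
    subst this
    simpa [auxD] using h
  | succ i ih =>
    have hpos : 0 < p ^ 2 - p := by
      have : p < p ^ 2 := by nlinarith
      omega
    have h0 : a (i + 1) = 0 := by
      have := congrArg (Polynomial.eval 0) h
      simpa [auxD, hpos.ne'] using this
    have h1 : auxD p a i = 0 := by
      simp only [auxD, h0, map_zero, add_zero] at h
      rcases mul_eq_zero.mp h with h2 | h2
      · exact absurd h2 (pow_ne_zero _ X_ne_zero)
      · exact pow_eq_zero_iff (by omega) |>.mp h2
    intro j hj
    rcases Nat.lt_or_ge j (i + 1) with hlt | hge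
    · exact ih h1 j (by omega)
    · have : j = i + 1 := by omega
      rw [this]; exact h0

theorem exists_fixed_of_semilinear {k : Type u} [Field k] [IsAlgClosed k] (p : ℕ) [Fact p.Prime]
    [CharP k p] {M : Type v} [AddCommGroup M] [Module k M] [FiniteDimensional k M]
    (F : M →+ M) (hF : ∀ (c : k) (x : M), F (c • x) = c ^ p • F x) (hinj : Function.Injective F)
    (x : M) (hx : x ≠ 0) : ∃ v : M, v ≠ 0 ∧ F v = v := by
  classical
  have hp : p.Prime := Fact.out
  have hp2 : 2 ≤ p := hp.two_le
  set xs : ℕ → M := fun i => F^[i] x with hxs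
  have hxs_succ : ∀ i, F (xs i) = xs (i + 1) := fun i => (Function.iterate_succ_apply' F i x).symm
  -- Step 1: some xs n lies in the span of the previous ones
  have hex : ∃ n, xs n ∈ Submodule.span k (Set.range (fun i : Fin n => xs i)) := by
    by_contra hcon
    push Not at hcon
    have hli : ∀ n, LinearIndependent k (fun i : Fin n => xs i) := by
      intro n
      induction n with
      | zero => exact linearIndependent_empty_type
      | succ n ih =>
        have : (fun i : Fin (n + 1) => xs i) = Fin.snoc (fun i : Fin n => xs i) (xs n) := by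
          funext i
          refine Fin.lastCases ?_ (fun j => ?_) i
          · simp
          · simp
        rw [this, linearIndependent_finSnoc]
        exact ⟨ih, hcon n⟩
    have := (hli (Module.finrank k M + 1)).fintype_card_le_finrank
    simp at this
  -- Step 2: minimal n
  let n := Nat.find hex
  have hn : xs n ∈ Submodule.span k (Set.range (fun i : Fin n => xs i)) := Nat.find_spec hex
  have hmin : ∀ m < n, xs m ∉ Submodule.span k (Set.range (fun i : Fin m => xs i)) :=
    fun m hm => Nat.find_min hex hm
  have hn0 : n ≠ 0 := by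
    intro h0
    rw [h0] at hn
    have : xs 0 = 0 := by simpa using hn
    exact hx this
  obtain ⟨m, hm⟩ : ∃ m, n = m + 1 := Nat.exists_eq_succ_of_ne_zero hn0
  -- Step 3: coefficients
  obtain ⟨a', ha'⟩ := (Submodule.mem_span_range_iff_exists_fun k).mp hn
  let a : ℕ → k := fun i => if h : i < n then a' ⟨i, h⟩ else 0
  have ha : ∑ i ∈ Finset.range n, a i • xs i = xs n := by
    rw [← ha', Finset.sum_range]
    apply Finset.sum_congr rfl
    intro i _
    simp [a]
  -- Step 4: some coefficient nonzero
  have hane : ∃ j ≤ m, a j ≠ 0 := by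
    by_contra hcon
    push Not at hcon
    have : xs n = 0 := by
      rw [← ha]
      apply Finset.sum_eq_zero
      intro i hi
      rw [Finset.mem_range] at hi
      rw [hcon i (by omega), zero_smul]
    have hinjn : Function.Injective (F^[n]) := hinj.iterate n
    apply hx
    apply hinjn
    rw [show F^[n] x = xs n from rfl, this]
    exact (iterate_map_zero F n).symm
  -- Step 5/6: polynomial root
  have hD : auxD p a m ≠ 0 := by
    intro h
    obtain ⟨j, hj, hj'⟩ := hane
    exact hj' (auxD_eq_zero p hp2 a m h j hj)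
  set Q : k[X] := X ^ (p - 1) * auxD p a m - 1 with hQ
  have hQdeg : Q.degree ≠ 0 := by
    intro hdeg
    have hC := Polynomial.eq_C_of_degree_eq_zero hdeg
    have h1 : X ^ (p - 1) * auxD p a m = C (Q.coeff 0 + 1) := by
      rw [map_add, ← hC, hQ]; simp
    have h2 := congrArg (Polynomial.eval 0) h1
    have hp1 : p - 1 ≠ 0 := by omega
    simp only [eval_mul, eval_pow, eval_X, zero_pow hp1, zero_mul, eval_C] at h2
    rw [← h2, map_zero] at h1
    rcases mul_eq_zero.mp h1 with h3 | h3
    · exact absurd h3 (pow_ne_zero _ X_ne_zero)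
    · exact hD h3
  obtain ⟨t, ht⟩ := IsAlgClosed.exists_root Q hQdeg
  have ht' : t ^ (p - 1) * (auxD p a m).eval t = 1 := by
    have : Q.eval t = 0 := ht
    rw [hQ] at this
    simpa [sub_eq_zero] using this
  have ht0 : t ≠ 0 := by
    intro h0
    rw [h0, zero_pow (by omega), zero_mul] at ht'
    exact zero_ne_one ht'
  -- Step 7: coefficients c
  let c : ℕ → k := fun i => t ^ p * (auxD p a i).eval t
  have hc0 : c 0 = a 0 * t ^ p := by
    simp [c, auxD, mul_comm]
  have hcs : ∀ i, c (i + 1) = c i ^ p + a (i + 1) * t ^ p := by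
    intro i
    simp only [c, auxD, eval_add, eval_mul, eval_pow, eval_X, eval_C]
    have : t ^ p * t ^ (p ^ 2 - p) = (t ^ p) ^ p := by
      rw [← pow_add, ← pow_mul]
      congr 1
      have : p ≤ p ^ 2 := by nlinarith
      rw [Nat.add_sub_cancel' this]; ring
    rw [mul_pow, ← this]; ring
  have hcm : c m = t := by
    show t ^ p * (auxD p a m).eval t = t
    have : t ^ p = t * t ^ (p - 1) := by
      rw [← pow_succ']; congr 1; omega
    rw [this, mul_assoc, ht', mul_one]
  -- Step 8: the fixed vector
  refine ⟨∑ i ∈ Finset.range (m + 1), c i • xs i, ?_, ?_⟩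
  · -- nonzero
    intro hv
    rw [Finset.sum_range_succ, hcm] at hv
    apply hmin m (by omega)
    have : xs m = ∑ i ∈ Finset.range m, (-(t⁻¹ * c i)) • xs i := by
      have h1 : t • xs m = -∑ i ∈ Finset.range m, c i • xs i := by
        rw [eq_neg_iff_add_eq_zero, add_comm]; exact hv
      have h2 : xs m = t⁻¹ • (t • xs m) := by rw [smul_smul, inv_mul_cancel₀ ht0, one_smul]
      rw [h2, h1, smul_neg, Finset.smul_sum, ← Finset.sum_neg_distrib]
      apply Finset.sum_congr rfl
      intro i _
      rw [smul_smul, neg_smul]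
    rw [this]
    apply Submodule.sum_mem
    intro i hi
    rw [Finset.mem_range] at hi
    exact Submodule.smul_mem _ _ (Submodule.subset_span ⟨⟨i, hi⟩, rfl⟩)
  · -- fixed
    rw [map_sum]
    simp only [hF, hxs_succ]
    rw [Finset.sum_range_succ, hcm]
    have hrel : xs (m + 1) = ∑ i ∈ Finset.range (m + 1), a i • xs i := by
      rw [← hm]; exact ha.symm
    rw [hrel, Finset.sum_range_succ' (fun i => c i • xs i), hc0, Finset.smul_sum,
      Finset.sum_range_succ' (fun i => t ^ p • a i • xs i)]
    simp only [hcs, add_smul]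
    rw [Finset.sum_add_distrib]
    simp only [smul_smul, mul_comm (t ^ p)]
    abel


theorem result (k : Type u) [Field k] [IsAlgClosed k]
    (p : ℕ) [Fact p.Prime] [CharP k p] (V : Type v) [AddCommGroup V] [Module k V] [FiniteDimensional k V]
    (g : Submodule k (Module.End k V)) (hg : ∀ u ∈ g, u ^ p ∈ g) (hne : g ≠ ⊥) :
    ∃ u ∈ g, u ≠ 0 ∧ ∃ c : k, u ^ p = c • u := by
  classical
  have hp : p.Prime := Fact.out
  have hgpow : ∀ u ∈ g, ∀ j : ℕ, u ^ p ^ j ∈ g := by
    intro u hu j
    induction j with
    | zero => simpa using hu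
    | succ j ih =>
      rw [pow_succ, pow_mul]
      exact hg _ ih
  by_cases hnil : ∃ u ∈ g, u ≠ 0 ∧ IsNilpotent u
  · -- Case 1: a nonzero nilpotent element
    obtain ⟨u, hu, hu0, N, hN⟩ := hnil
    have hex : ∃ j, u ^ p ^ j = 0 := by
      refine ⟨N, ?_⟩
      have hlt : N < p ^ N := Nat.lt_pow_self hp.one_lt
      rw [← Nat.sub_add_cancel hlt.le, pow_add, hN, mul_zero]
    let j := Nat.find hex
    have hj : u ^ p ^ j = 0 := Nat.find_spec hex
    have hj0 : j ≠ 0 := by
      intro h0
      rw [h0] at hj
      simp at hj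
      exact hu0 hj
    obtain ⟨i, hi⟩ : ∃ i, j = i + 1 := Nat.exists_eq_succ_of_ne_zero hj0
    refine ⟨u ^ p ^ i, hgpow u hu i, Nat.find_min hex (by omega), 0, ?_⟩
    rw [zero_smul, ← pow_mul, ← pow_succ, ← hi]
    exact hj
  · -- Case 2: no nonzero nilpotent element
    push Not at hnil
    obtain ⟨u, hu, hu0⟩ := Submodule.exists_mem_ne_zero_of_ne_bot hne
    haveI : Nontrivial (Module.End k V) := ⟨⟨u, 0, hu0⟩⟩
    haveI : CharP (Module.End k V) p :=
      charP_of_injective_algebraMap (algebraMap k (Module.End k V)).injective p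
    let R : Subalgebra k (Module.End k V) := Algebra.adjoin k {u}
    have hcomm : ∀ x ∈ R, ∀ y ∈ R, Commute x y := by
      intro x hx y hy
      exact setLike_mul_comm hx hy
    let M : Submodule k (Module.End k V) := g ⊓ Subalgebra.toSubmodule R
    have hMpow : ∀ x : M, (x : Module.End k V) ^ p ∈ M := fun x =>
      ⟨hg _ x.2.1, Subalgebra.pow_mem R x.2.2 p⟩
    let F : M →+ M :=
      { toFun := fun x => ⟨(x : Module.End k V) ^ p, hMpow x⟩
        map_zero' := by
          ext1
          show (0 : Module.End k V) ^ p = 0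
          exact zero_pow hp.ne_zero
        map_add' := by
          intro x y
          ext1
          show ((x : Module.End k V) + y) ^ p = (x : Module.End k V) ^ p + (y : Module.End k V) ^ p
          exact add_pow_char_of_commute p (hcomm _ x.2.2 _ y.2.2) }
    have hFs : ∀ (c : k) (x : M), F (c • x) = c ^ p • F x := by
      intro c x
      ext1
      show (c • (x : Module.End k V)) ^ p = c ^ p • (x : Module.End k V) ^ p
      exact smul_pow c _ p
    have hFinj : Function.Injective F := by
      intro x y hxy
      have h1 : (x : Module.End k V) ^ p = (y : Module.End k V) ^ p := congrArg Subtype.val hxy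
      have h2 : ((x : Module.End k V) - y) ^ p = 0 := by
        rw [sub_pow_char_of_commute p (hcomm _ x.2.2 _ y.2.2), h1, sub_self]
      have h3 : (x : Module.End k V) - y = 0 :=
        hnil _ (g.sub_mem x.2.1 y.2.1) |>.mt (fun h => h ⟨p, h2⟩) |> not_not.mp
      exact Subtype.ext (sub_eq_zero.mp h3)
    obtain ⟨v, hv0, hv⟩ := exists_fixed_of_semilinear p F hFs hFinj
      (⟨u, hu, Algebra.subset_adjoin (Set.mem_singleton u)⟩ : M) (by
        intro h
        exact hu0 (congrArg Subtype.val h))
    refine ⟨v, v.2.1, fun h => hv0 (Subtype.ext h), 1, ?_⟩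
    rw [one_smul]
    exact congrArg Subtype.val hv

end Groth.Agent.S17325
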