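import Groth.Statements.S17151
import Mathlib
import Groth.Agent.Lib.Helper86.Isoc2

set_option autoImplicit false
universe u v
open Isoc

namespace Groth.Agent.S17151

open Groth.Agent.Lib.Helper86

variable {p : ℕ} [Fact p.Prime] {k : Type u} [Field k] [CharP k p] [PerfectRing k p]
variable {N : Type v} [AddCommGroup N] [Module (WittVector p k) N] [Module (FractionRing (WittVector p k)) N]
  [IsScalarTower (WittVector p k) (FractionRing (WittVector p k)) N]
variable {τ : FractionRing (WittVector p k) →+* FractionRing (WittVector p k)}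
  {e : WittVector p k ≃+* WittVector p k}

/-- The normalised predicate: `P` is `F`-stable and isoclinic with data `(μ.num * j, μ.den * j)`. -/
def Good (F : N →ₛₗ[τ] N) (μ : ℚ) (P : Submodule (FractionRing (WittVector p k)) N) : Prop :=
  (∀ x ∈ P, F x ∈ P) ∧ ∃ j : ℕ, 0 < j ∧ AmbIsoclinic F P (μ.num * j) (μ.den * j)

theorem good_of_amb (h : WCompat τ e) {F : N →ₛₗ[τ] N} {μ : ℚ}
    {P : Submodule (FractionRing (WittVector p k)) N} (hP : ∀ x ∈ P, F x ∈ P) {r : ℤ} {s : ℕ}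
    (hs : 0 < s) (hrs : (r : ℚ) / s = μ) (hamb : AmbIsoclinic F P r s) : Good F μ P := by
  refine ⟨hP, s, hs, ?_⟩
  have hs' : (s : ℚ) ≠ 0 := by exact_mod_cast hs.ne'
  have hden : (μ.den : ℚ) ≠ 0 := by exact_mod_cast μ.den_ne_zero
  have key : r * μ.den = μ.num * s := by
    have h1 : (r : ℚ) / s = (μ.num : ℚ) / μ.den := by rw [hrs, Rat.num_div_den]
    rw [div_eq_div_iff hs' hden] at h1
    exact_mod_cast h1
  have := hamb.pow h μ.den
  rw [key, mul_comm s μ.den] at this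
  exact this

theorem good_iff (h : WCompat τ e) (F : N →ₛₗ[τ] N) (μ : ℚ)
    (P : Submodule (FractionRing (WittVector p k)) N) :
    Good F μ P ↔ ∃ hP : ∀ x ∈ P, F x ∈ P, Isoc.IsIsoclinic (F.restrict hP) μ := by
  constructor
  · rintro ⟨hP, j, hj, hamb⟩
    refine ⟨hP, (isIsoclinic_restrict_iff h F P hP μ).mpr ⟨μ.num * j, μ.den * j, ?_, ?_, hamb⟩⟩
    · exact Nat.mul_pos μ.den_pos hj
    · have hj' : (j : ℚ) ≠ 0 := by exact_mod_cast hj.ne'
      have hden : (μ.den : ℚ) ≠ 0 := by exact_mod_cast μ.den_ne_zero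
      push_cast
      rw [mul_div_mul_right _ _ hj', Rat.num_div_den]
  · rintro ⟨hP, hiso⟩
    obtain ⟨r, s, hs, hrs, hamb⟩ := (isIsoclinic_restrict_iff h F P hP μ).mp hiso
    exact good_of_amb h hP hs hrs hamb

theorem good_sup (h : WCompat τ e) {F : N →ₛₗ[τ] N} {μ : ℚ}
    {P₁ P₂ : Submodule (FractionRing (WittVector p k)) N} (h₁ : Good F μ P₁) (h₂ : Good F μ P₂) :
    Good F μ (P₁ ⊔ P₂) := by
  obtain ⟨hP₁, j₁, hj₁, a₁⟩ := h₁
  obtain ⟨hP₂, j₂, hj₂, a₂⟩ := h₂
  refine ⟨?_, j₁ * j₂, Nat.mul_pos hj₁ hj₂, ?_⟩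
  · intro x hx
    obtain ⟨y, hy, z, hz, rfl⟩ := Submodule.mem_sup.mp hx
    rw [map_add]
    exact Submodule.add_mem_sup (hP₁ y hy) (hP₂ z hz)
  · have b₁ := a₁.pow h j₂
    have b₂ := a₂.pow h j₁
    have e1 : μ.num * (j₁ : ℤ) * (j₂ : ℤ) = μ.num * ((j₁ * j₂ : ℕ) : ℤ) := by push_cast; ring
    have e2 : μ.num * (j₂ : ℤ) * (j₁ : ℤ) = μ.num * ((j₁ * j₂ : ℕ) : ℤ) := by push_cast; ring
    have e3 : μ.den * j₁ * j₂ = μ.den * (j₁ * j₂) := by ring
    have e4 : μ.den * j₂ * j₁ = μ.den * (j₁ * j₂) := by ring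
    rw [e1, e3] at b₁
    rw [e2, e4] at b₂
    exact b₁.sup h b₂

theorem good_bot (h : WCompat τ e) (F : N →ₛₗ[τ] N) (μ : ℚ) :
    Good F μ (⊥ : Submodule (FractionRing (WittVector p k)) N) := by
  refine ⟨?_, 1, Nat.one_pos, AmbIsoclinic.bot h F _ _⟩
  intro x hx
  rw [Submodule.mem_bot] at hx
  rw [hx, map_zero]
  exact Submodule.zero_mem _

theorem good_slopePart (h : WCompat τ e) (F : N →ₛₗ[τ] N) (μ : ℚ)
    [Module.Finite (FractionRing (WittVector p k)) N] : Good F μ (Isoc.slopePart F μ) := by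
  have hset : {P : Submodule (FractionRing (WittVector p k)) N |
      ∃ hP : ∀ x ∈ P, F x ∈ P, Isoc.IsIsoclinic (F.restrict hP) μ} = {P | Good F μ P} := by
    ext P
    exact (good_iff h F μ P).symm
  have hwf : WellFounded ((· > ·) : Submodule (FractionRing (WittVector p k)) N → _ → Prop) :=
    wellFounded_gt
  obtain ⟨Pmax, hPmax, hmax⟩ := hwf.has_min {P | Good F μ P} ⟨⊥, good_bot h F μ⟩
  have hle : ∀ P, Good F μ P → P ≤ Pmax := by
    intro P hP
    have h1 : Good F μ (P ⊔ Pmax) := good_sup h hP hPmax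
    have h2 : ¬ (P ⊔ Pmax > Pmax) := hmax _ h1
    have h3 : P ⊔ Pmax = Pmax := by
      by_contra hne
      exact h2 (lt_of_le_of_ne le_sup_right (Ne.symm hne))
    rw [← h3]; exact le_sup_left
  have heq : Isoc.slopePart F μ = Pmax := by
    unfold Isoc.slopePart
    rw [hset]
    exact le_antisymm (sSup_le hle) (le_sSup hPmax)
  rw [heq]; exact hPmax

theorem result (p : ℕ) [Fact p.Prime] (k : Type u) [Field k] [CharP k p] [PerfectRing k p] (a : ℤ)
    (N : Type v) [AddCommGroup N] [Module (WittVector p k) N] [Module (FractionRing (WittVector p k)) N]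
    [IsScalarTower (WittVector p k) (FractionRing (WittVector p k)) N]
    (F : N →ₛₗ[Isoc.frob p k a] N) (hF : Isoc.IsIsoc F) (μ : ℚ) :
    ∃ hP : ∀ x ∈ Isoc.slopePart F μ, F x ∈ Isoc.slopePart F μ,
      Isoc.IsIsoclinic (F.restrict hP) μ := by
  have hW := WCompat.frob (p := p) (k := k) a
  haveI := hF.finite
  exact (good_iff hW F μ _).mp (good_slopePart hW F μ)

end Groth.Agent.S17151
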