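import Groth.Statements.S17143
import Mathlib
import Groth.Agent.Lib.Helper86.Isoc

set_option autoImplicit false
universe u v
open Isoc

namespace Groth.Agent.S17143

open Groth.Agent.Lib.Helper86

variable {p : ℕ} [Fact p.Prime] {k : Type u} [Field k] [CharP k p] [PerfectRing k p]
variable {N : Type v} [AddCommGroup N] [Module (WittVector p k) N] [Module (FractionRing (WittVector p k)) N]
  [IsScalarTower (WittVector p k) (FractionRing (WittVector p k)) N]

theorem twist_iterate {τ : FractionRing (WittVector p k) →+* FractionRing (WittVector p k)}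
    {e : WittVector p k ≃+* WittVector p k} (h : WCompat τ e) (F : N →ₛₗ[τ] N) (m : ℤ) (n : ℕ)
    (j : ℕ) (x : N) :
    (⇑((p : FractionRing (WittVector p k)) ^ m • Isoc.iter F n))^[j] x =
      ((p : FractionRing (WittVector p k)) ^ (m * j)) • (⇑F)^[n * j] x := by
  induction j with
  | zero => simp
  | succ j ih =>
    rw [Function.iterate_succ_apply', ih]
    show (p : FractionRing (WittVector p k)) ^ m • (Isoc.iter F n)
      (((p : FractionRing (WittVector p k)) ^ (m * j)) • (⇑F)^[n * j] x) = _
    rw [Isoc.iter_apply, iterate_smul_p h, smul_smul, ← zpow_add₀ pL_ne_zero,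
      ← Function.iterate_add_apply]
    congr 2
    · push_cast; ring
    · ring

theorem latImg_twist {τ : FractionRing (WittVector p k) →+* FractionRing (WittVector p k)}
    {e : WittVector p k ≃+* WittVector p k} (h : WCompat τ e) (F : N →ₛₗ[τ] N) (m : ℤ) (n : ℕ)
    (j : ℕ) (M : Submodule (WittVector p k) N) :
    Isoc.latImg ((p : FractionRing (WittVector p k)) ^ m • Isoc.iter F n) j M =
      Isoc.pPow (m * j) (Isoc.latImg F (n * j) M) := by
  ext y
  rw [mem_latImg (h.pow n), mem_pPow_iff, mem_latImg h]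
  constructor
  · rintro ⟨x, hx, rfl⟩
    refine ⟨x, hx, ?_⟩
    rw [twist_iterate h, smul_smul, ← zpow_add₀ pL_ne_zero, neg_add_cancel, zpow_zero, one_smul]
  · rintro ⟨x, hx, hxy⟩
    refine ⟨x, hx, ?_⟩
    rw [twist_iterate h, hxy, smul_smul, ← zpow_add₀ pL_ne_zero, add_neg_cancel, zpow_zero, one_smul]

theorem isOrd_twist {τ : FractionRing (WittVector p k) →+* FractionRing (WittVector p k)}
    {e : WittVector p k ≃+* WittVector p k} (h : WCompat τ e) (F : N →ₛₗ[τ] N) (m : ℤ) (n : ℕ)
    (j : ℕ) (M : Submodule (WittVector p k) N) {r : ℤ} (hr : Isoc.IsOrd M F (n * j) r) :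
    Isoc.IsOrd M ((p : FractionRing (WittVector p k)) ^ m • Isoc.iter F n) j (m * j + r) := by
  constructor
  · rw [latImg_twist h, ← pPow_pPow]
    exact pPow_mono _ hr.1
  · rw [latImg_twist h, add_assoc, ← pPow_pPow, pPow_le_pPow_iff]
    exact hr.2

theorem result (p : ℕ) [Fact p.Prime] (k : Type u) [Field k] [CharP k p] [PerfectRing k p] (a : ℤ)
    (N : Type v) [AddCommGroup N] [Module (WittVector p k) N] [Module (FractionRing (WittVector p k)) N]
    [IsScalarTower (WittVector p k) (FractionRing (WittVector p k)) N]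
    (F : N →ₛₗ[Isoc.frob p k a] N) (hF : Isoc.IsIsoc F) (lam : ℝ) (hlam : Isoc.IsFirstSlope F lam) (m : ℤ) (n : ℕ) :
    Isoc.IsFirstSlope ((p : (FractionRing (WittVector p k))) ^ m • Isoc.iter F n) (n * lam + m) := by
  have hW := WCompat.frob (p := p) (k := k) a
  obtain ⟨M, hM, o, ho, hlim⟩ := hlam
  -- N is nontrivial
  haveI : Nontrivial N := by
    rw [← not_subsingleton_iff_nontrivial]
    intro hsub
    apply (ho 1 le_rfl).2
    intro x _
    rw [Subsingleton.elim x 0]
    exact Submodule.zero_mem _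
  have hord0 : Isoc.IsOrd M F 0 0 := by
    constructor
    · rw [latImg_zero, pPow_zero]
    · rw [latImg_zero, zero_add]
      intro hle
      exact isLattice_ne_bot hM (eq_bot_of_le_pPow_one hM.fg hle)
  set o₀ : ℕ → ℤ := fun i => if i = 0 then 0 else o i with ho₀
  have hord : ∀ i, Isoc.IsOrd M F i (o₀ i) := by
    intro i
    by_cases hi : i = 0
    · subst hi; simpa [ho₀] using hord0
    · simp only [ho₀, hi, if_false]
      exact ho i (Nat.one_le_iff_ne_zero.mpr hi)
  refine ⟨M, hM, fun j => m * j + o₀ (n * j), fun j _ => isOrd_twist hW F m n j M (hord _), ?_⟩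
  rcases Nat.eq_zero_or_pos n with hn | hn
  · subst hn
    have : Filter.Tendsto (fun _ : ℕ => (m : ℝ)) Filter.atTop (nhds ((0 : ℕ) * lam + m)) := by
      simp
    refine this.congr' ?_
    filter_upwards [Filter.eventually_ge_atTop 1] with j hj
    have hj' : (j : ℝ) ≠ 0 := by exact_mod_cast (by omega : j ≠ 0)
    simp [ho₀]
    field_simp
  · have hmul : Filter.Tendsto (fun j : ℕ => n * j) Filter.atTop Filter.atTop :=
      Filter.tendsto_id.const_mul_atTop' hn
    have h1 := hlim.comp hmul
    have h2 : Filter.Tendsto (fun j : ℕ => (m : ℝ) + n * ((o (n * j) : ℝ) / ((n * j : ℕ) : ℝ)))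
        Filter.atTop (nhds (m + n * lam)) := (h1.const_mul (n : ℝ)).const_add (m : ℝ)
    rw [add_comm]
    refine h2.congr' ?_
    filter_upwards [Filter.eventually_ge_atTop 1] with j hj
    have hj' : (j : ℝ) ≠ 0 := by exact_mod_cast (by omega : j ≠ 0)
    have hn' : (n : ℝ) ≠ 0 := by exact_mod_cast (by omega : n ≠ 0)
    have hnj : n * j ≠ 0 := by positivity
    simp only [ho₀, hnj, if_false]
    push_cast
    field_simp

end Groth.Agent.S17143
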