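import Groth.Statements.S17153
import Mathlib
import Groth.Prelude.Def_Isoc
import Groth.Agent.Lib.Helper86.Isoc
import Groth.Agent.Lib.Helper86.Isoc2
import Groth.Agent.Lib.Helper86.Isoc3
import Groth.Agent.Lib.Helper86.Isoc4

set_option autoImplicit false
universe u
open Isoc

namespace Groth.Agent.S17153

open Groth.Agent.Lib.Helper86

theorem result (p : ℕ) [Fact p.Prime] (k : Type u) [Field k] [CharP k p] [PerfectRing k p]
    (a : ℤ) (d : ℤ) (h : ℕ) (hh : 0 < h) (hdh : Int.gcd d h = 1)
    (P : Submodule (FractionRing (WittVector p k)) (Fin h → (FractionRing (WittVector p k))))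
    (hP : ∀ x ∈ P, Isoc.stdIsoc (Isoc.frob p k a) d h x ∈ P) : P = ⊥ ∨ P = ⊤ := by
  have hτ := WCompat.frob (p := p) (k := k) a
  have hinj := stdIsoc_injective (p := p) (k := k) (τ := Isoc.frob p k a) d h
  have htop := stdIsoc_amb hτ d h
  have hPamb := htop.sub hτ hinj P hP
  have hP' : AmbIsoclinic ((Isoc.stdIsoc (Isoc.frob p k a) d h).restrict hP) ⊤ d h :=
    AmbIsoclinic.of_map_injective hτ P.subtype (fun x => rfl) P.subtype_injective
      (by rwa [Submodule.map_subtype_top])
  obtain ⟨M, hfg, hspan, hM⟩ := hP'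
  have hMlat : M.IsLattice (FractionRing (WittVector p k)) := ⟨hfg, hspan⟩
  have hinj' : Function.Injective ((Isoc.stdIsoc (Isoc.frob p k a) d h).restrict hP) := by
    intro x y hxy
    apply Subtype.ext
    apply hinj
    exact congrArg Subtype.val hxy
  have hbij : Function.Bijective ((Isoc.stdIsoc (Isoc.frob p k a) d h).restrict hP) :=
    ⟨hinj', surjective_of_injective_semilinear hτ.surjective _ hinj'⟩
  obtain ⟨d', hd'⟩ := exists_isOrdP_detCoeff hτ
    (Module.finBasis (FractionRing (WittVector p k)) P) _ hbij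
  have h1 := latImg_le_det hτ _ _ hd' hMlat hM.le
  have h2 := det_le_latImg hτ _ _ hd' hMlat hM.ge
  have hdvd : (h : ℤ) ∣ (Module.finrank (FractionRing (WittVector p k)) P : ℤ) := by
    have h3 : (h : ℤ) ∣ (Module.finrank (FractionRing (WittVector p k)) P : ℤ) * d :=
      ⟨d', by linarith⟩
    exact (Int.isCoprime_iff_gcd_eq_one.mpr hdh).symm.dvd_of_dvd_mul_right h3
  have hdvd' : h ∣ Module.finrank (FractionRing (WittVector p k)) P := by exact_mod_cast hdvd
  have hle : Module.finrank (FractionRing (WittVector p k)) P ≤ h := by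
    have := Submodule.finrank_le P
    rwa [Module.finrank_fin_fun] at this
  rcases Nat.eq_zero_or_pos (Module.finrank (FractionRing (WittVector p k)) P) with h0 | hpos
  · left
    exact Submodule.finrank_eq_zero.mp h0
  · right
    have := Nat.le_of_dvd hpos hdvd'
    apply Submodule.eq_top_of_finrank_eq
    rw [Module.finrank_fin_fun]
    omega

end Groth.Agent.S17153
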