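import Groth.Statements.S17330
import Mathlib
import Groth.Prelude.Def_AlphaP
import Groth.Agent.Lib.Helper86.HopfPrim2
import Groth.Agent.Lib.Helper86.HopfPrim3
import Groth.Agent.Lib.Helper86.HopfPrim4

set_option autoImplicit false
universe u v
open Hopf

namespace Groth.Agent.S17330

open Groth.Agent.Lib.Helper86.HopfPrim

theorem result (k : Type u) [Field k] [IsAlgClosed k]
    (p : ℕ) [Fact p.Prime] [CharP k p] (A : Type v) [CommRing A] [HopfAlgebra k A] [Module.Finite k A]
    (hA : ¬ IsReduced A) :
    (∃ f : A →ₐc[k] MonoidAlgebra k (Multiplicative (ZMod p)), Function.Surjective f) ∨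
      (∃ f : A →ₐc[k] AlphaP.A p k, Function.Surjective f) := by
  obtain ⟨d, hd, hd0, h⟩ := exists_toral_or_nilpotent (k := k) (A := A) p hA
  obtain ⟨b, hb, hdb⟩ := exists_eq_one hd hd0
  rcases h with h | h
  · right
    exact ⟨toAlphaBialg p hd h, fun y => toAlpha_surjective p hd hb hdb y⟩
  · left
    exact ⟨toMuBialg p hd h, fun y => toMu_surjective p hd h hb hdb y⟩

end Groth.Agent.S17330
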