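import Groth.Statements.S17331
import Mathlib
import Groth.Prelude.Def_AlphaP
import Groth.Prelude.Def_ConstGrp
import Groth.Agent.S17330
import Groth.Agent.Lib.Helper86.HopfKer
import Groth.Agent.Lib.Helper86.HopfConst

set_option autoImplicit false
universe u v
open Hopf

namespace Groth.Agent.S17331

open Groth.Agent.Lib.Helper86

section Aux

variable (k : Type u) [Field k] [IsAlgClosed k] (A : Type v) [CommRing A] [HopfAlgebra k A]
  [Module.Finite k A]

theorem reduced_case (ℓ : ℕ) [Fact ℓ.Prime] (hA : Module.finrank k A = ℓ) [IsReduced A] :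
    Nonempty (A ≃ₐc[k] ConstGrp.F k (Multiplicative (ZMod ℓ))) := by
  classical
  have hfinite : Finite (WithConv (A →ₐ[k] k)) :=
    Finite.of_equiv (A →ₐ[k] k) (WithConv.equiv _).symm
  have : Fintype (WithConv (A →ₐ[k] k)) := Fintype.ofFinite _
  have e0 := HopfConst.equivF k A (MulEquiv.refl (WithConv (A →ₐ[k] k)))
  have h1 : Module.finrank k A = Fintype.card (WithConv (A →ₐ[k] k)) := by
    have h2 : Module.finrank k A = Module.finrank k (ConstGrp.F k (WithConv (A →ₐ[k] k))) :=
      LinearEquiv.finrank_eq (e0 : A ≃ₐ[k] ConstGrp.F k (WithConv (A →ₐ[k] k))).toLinearEquiv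
    rw [h2]
    exact Module.finrank_fintype_fun_eq_card k
  have h3 : Nat.card (WithConv (A →ₐ[k] k)) = ℓ := by
    rw [Nat.card_eq_fintype_card, ← h1, hA]
  have hc : IsCyclic (WithConv (A →ₐ[k] k)) := isCyclic_of_prime_card h3
  have key : ∀ n : ℕ, Nat.card (WithConv (A →ₐ[k] k)) = n →
      Nonempty (Multiplicative (ZMod n) ≃* WithConv (A →ₐ[k] k)) := by
    rintro n rfl
    exact ⟨zmodCyclicMulEquiv hc⟩
  obtain ⟨e⟩ := key ℓ h3
  exact ⟨HopfConst.equivF k A e⟩

theorem finrank_eq_of_surjective {B : Type u} [CommRing B] [HopfAlgebra k B] (p ℓ : ℕ)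
    (hp : p.Prime) (hℓ : ℓ.Prime) (hA : Module.finrank k A = ℓ) (hB : Module.finrank k B = p)
    (f : A →ₐc[k] B) (hf : Function.Surjective f) : ℓ = p ∧ Function.Bijective f := by
  have h1 := HopfKer.finrank_dvd_of_surjective f hf
  rw [hA, hB] at h1
  have h2 : p = ℓ := (Nat.prime_dvd_prime_iff_eq hp hℓ).1 h1
  refine ⟨h2.symm, ?_, hf⟩
  have : Module.Finite k B := Module.Finite.of_surjective (f : A →ₐ[k] B).toLinearMap hf
  have h3 : Module.finrank k A = Module.finrank k B := by rw [hA, hB, h2]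
  exact (LinearMap.injective_iff_surjective_of_finrank_eq_finrank h3
    (f := (f : A →ₐ[k] B).toLinearMap)).2 hf

end Aux

theorem result (k : Type u) [Field k] [IsAlgClosed k]
    (p : ℕ) [Fact p.Prime] [CharP k p] (A : Type v) [CommRing A] [HopfAlgebra k A]
    (ℓ : ℕ) [Fact ℓ.Prime] (hA : Module.finrank k A = ℓ) :
    (ℓ ≠ p → Nonempty (A ≃ₐc[k] ConstGrp.F k (Multiplicative (ZMod ℓ)))) ∧
      (ℓ = p → Nonempty (A ≃ₐc[k] ConstGrp.F k (Multiplicative (ZMod p))) ∨
        Nonempty (A ≃ₐc[k] MonoidAlgebra k (Multiplicative (ZMod p))) ∨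
        Nonempty (A ≃ₐc[k] AlphaP.A p k)) := by
  have hp : p.Prime := Fact.out
  have hℓ : ℓ.Prime := Fact.out
  have hfin : Module.Finite k A := Module.finite_of_finrank_pos (by rw [hA]; exact hℓ.pos)
  have hmu : Module.finrank k (MonoidAlgebra k (Multiplicative (ZMod p))) = p := by
    rw [Module.finrank_eq_card_basis (MonoidAlgebra.basis (Multiplicative (ZMod p)) k),
      Fintype.card_multiplicative, ZMod.card]
  have hal : Module.finrank k (AlphaP.A p k) = p := AlphaP.finrank_eq p k
  constructor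
  · intro hne
    by_cases hred : IsReduced A
    · exact reduced_case k A ℓ hA
    · exfalso
      rcases Groth.Agent.S17330.result k p A hred with ⟨f, hf⟩ | ⟨f, hf⟩
      · exact hne (finrank_eq_of_surjective k A p ℓ hp hℓ hA hmu f hf).1
      · exact hne (finrank_eq_of_surjective k A p ℓ hp hℓ hA hal f hf).1
  · intro heq
    by_cases hred : IsReduced A
    · left
      subst heq
      exact reduced_case k A ℓ hA
    · right
      rcases Groth.Agent.S17330.result k p A hred with ⟨f, hf⟩ | ⟨f, hf⟩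
      · left
        exact ⟨BialgEquiv.ofBijective f (finrank_eq_of_surjective k A p ℓ hp hℓ hA hmu f hf).2⟩
      · right
        exact ⟨BialgEquiv.ofBijective f (finrank_eq_of_surjective k A p ℓ hp hℓ hA hal f hf).2⟩

end Groth.Agent.S17331
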