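import Groth.Statements.S18467
import Mathlib
-- import your own Groth.Agent.* helpers here

set_option autoImplicit false
universe u
open Hopf

namespace Groth.Agent.S18467

/-- Let p be a prime and R a commutative ring containing an element u with u(p − 1) = 1, and let χ be a
homomorphism from the group of units of ℤ/p to the group of units of R such that χ(m) − 1 is a unit
of R for every m ≠ 1. For 0 ≤ i < p − 1 put e_i = u · Σ_m χ(m)^{−i} [m] in the group algebra
R[(ℤ/p)ˣ]. Then the e_i are idempotents, e_i e_j = 0 for i ≠ j, and Σ_i e_i = 1. (The published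
statement is for algebras over the subring of the p-adic integers generated over ℤ by the values of
the Teichmüller character χ and by 1/(p(p − 1)); the hypotheses on R and χ here are the properties
of that situation which the computation uses, so the row is stated for every such pair.) -/
theorem result
    (p : ℕ) [Fact p.Prime] (R : Type u) [CommRing R] (u : R) (hu : u * ((p - 1 : ℕ) : R) = 1)
    (χ : (ZMod p)ˣ →* Rˣ) (hχ : ∀ m : (ZMod p)ˣ, m ≠ 1 → IsUnit ((χ m : R) - 1)) :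
    CompleteOrthogonalIdempotents (fun i : Fin (p - 1) =>
      u • ∑ m : (ZMod p)ˣ, ((χ m⁻¹ : Rˣ) : R) ^ (i : ℕ) • MonoidAlgebra.of R (ZMod p)ˣ m) := by
  classical
  have hcard : Fintype.card (ZMod p)ˣ = p - 1 := ZMod.card_units p
  rw [CompleteOrthogonalIdempotents.iff_ortho_complete]
  -- multiplication by a group element
  have key1 : ∀ (g : (ZMod p)ˣ) (j : ℕ),
      MonoidAlgebra.of R (ZMod p)ˣ g *
        (u • ∑ m : (ZMod p)ˣ, ((χ m⁻¹ : Rˣ) : R) ^ j • MonoidAlgebra.of R (ZMod p)ˣ m) =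
      ((χ g : R) ^ j) •
        (u • ∑ m : (ZMod p)ˣ, ((χ m⁻¹ : Rˣ) : R) ^ j • MonoidAlgebra.of R (ZMod p)ˣ m) := by
    intro g j
    rw [mul_smul_comm, smul_comm ((χ g : R) ^ j) u]
    congr 1
    rw [Finset.mul_sum, Finset.smul_sum]
    apply Fintype.sum_equiv (Equiv.mulLeft g)
    intro m
    simp only [Equiv.coe_mulLeft]
    rw [mul_smul_comm, ← map_mul, smul_smul]
    congr 1
    rw [mul_inv, map_mul, Units.val_mul, mul_pow, ← mul_assoc, ← mul_pow, ← Units.val_mul,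
      ← map_mul, mul_inv_cancel, map_one, Units.val_one, one_pow, one_mul]
  -- product formula
  have key2 : ∀ (i j : ℕ),
      (u • ∑ m : (ZMod p)ˣ, ((χ m⁻¹ : Rˣ) : R) ^ i • MonoidAlgebra.of R (ZMod p)ˣ m) *
        (u • ∑ m : (ZMod p)ˣ, ((χ m⁻¹ : Rˣ) : R) ^ j • MonoidAlgebra.of R (ZMod p)ˣ m) =
      (u * ∑ m : (ZMod p)ˣ, ((χ m⁻¹ : Rˣ) : R) ^ i * ((χ m : Rˣ) : R) ^ j) •
        (u • ∑ m : (ZMod p)ˣ, ((χ m⁻¹ : Rˣ) : R) ^ j • MonoidAlgebra.of R (ZMod p)ˣ m) := by
    intro i j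
    rw [smul_mul_assoc, Finset.sum_mul, ← smul_smul, Finset.sum_smul]
    congr 1
    apply Finset.sum_congr rfl
    intro m _
    rw [smul_mul_assoc, key1, smul_smul]
  -- generator
  obtain ⟨g, hg⟩ := IsCyclic.exists_generator (α := (ZMod p)ˣ)
  have hord : orderOf g = p - 1 := by
    rw [orderOf_eq_card_of_forall_mem_zpowers hg, Nat.card_eq_fintype_card, hcard]
  have hsum0 : ∀ (i j : ℕ), i < p - 1 → j < p - 1 → i ≠ j →
      ∑ m : (ZMod p)ˣ, ((χ m⁻¹ : Rˣ) : R) ^ i * ((χ m : Rˣ) : R) ^ j = 0 := by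
    intro i j hi hj hij
    have hne : g⁻¹ ^ i * g ^ j ≠ 1 := by
      intro h
      rw [inv_pow, inv_mul_eq_one] at h
      have := pow_injOn_Iio_orderOf (x := g) (by simpa [hord] using hi) (by simpa [hord] using hj) h
      exact hij this
    have hunit := hχ _ hne
    have hmul : ((χ (g⁻¹ ^ i * g ^ j) : Rˣ) : R) *
        ∑ m : (ZMod p)ˣ, ((χ m⁻¹ : Rˣ) : R) ^ i * ((χ m : Rˣ) : R) ^ j
        = ∑ m : (ZMod p)ˣ, ((χ m⁻¹ : Rˣ) : R) ^ i * ((χ m : Rˣ) : R) ^ j := by
      rw [Finset.mul_sum]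
      apply Fintype.sum_equiv (Equiv.mulLeft g)
      intro m
      simp only [Equiv.coe_mulLeft]
      simp only [map_mul, map_pow, map_inv, Units.val_mul, Units.val_pow_eq_pow_val, mul_inv,
        mul_pow]
      ring
    have : (((χ (g⁻¹ ^ i * g ^ j) : Rˣ) : R) - 1) *
        ∑ m : (ZMod p)ˣ, ((χ m⁻¹ : Rˣ) : R) ^ i * ((χ m : Rˣ) : R) ^ j = 0 := by
      rw [sub_mul, hmul, one_mul, sub_self]
    exact (hunit.mul_right_eq_zero).mp this
  have hsum1 : ∀ (i : ℕ),
      ∑ m : (ZMod p)ˣ, ((χ m⁻¹ : Rˣ) : R) ^ i * ((χ m : Rˣ) : R) ^ i = ((p - 1 : ℕ) : R) := by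
    intro i
    have : ∀ m : (ZMod p)ˣ, ((χ m⁻¹ : Rˣ) : R) ^ i * ((χ m : Rˣ) : R) ^ i = 1 := by
      intro m
      rw [← mul_pow, ← Units.val_mul, ← map_mul, inv_mul_cancel, map_one, Units.val_one, one_pow]
    simp only [this, Finset.sum_const, Finset.card_univ, hcard, nsmul_eq_mul, mul_one]
  refine ⟨?_, ?_⟩
  · intro i j hij
    rw [key2, hsum0 i j i.2 j.2 (fun h => hij (Fin.ext h)), mul_zero, zero_smul]
  · -- completeness
    rw [← Finset.smul_sum, Finset.sum_comm]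
    have hss : ∀ y : (ZMod p)ˣ, ∑ x : Fin (p - 1), ((χ y⁻¹ : Rˣ) : R) ^ (x : ℕ) •
        MonoidAlgebra.of R (ZMod p)ˣ y
        = (∑ x : Fin (p - 1), ((χ y⁻¹ : Rˣ) : R) ^ (x : ℕ)) • MonoidAlgebra.of R (ZMod p)ˣ y :=
      fun y => (Finset.sum_smul).symm
    simp only [hss]
    have hgeom : ∀ m : (ZMod p)ˣ, (∑ i : Fin (p - 1), ((χ m⁻¹ : Rˣ) : R) ^ (i : ℕ))
        = if m = 1 then ((p - 1 : ℕ) : R) else 0 := by
      intro m
      rw [Fin.sum_univ_eq_sum_range (fun i => ((χ m⁻¹ : Rˣ) : R) ^ i) (p - 1)]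
      split_ifs with hm
      · subst hm
        simp
      · have hm' : m⁻¹ ≠ 1 := by simpa using hm
        have hunit := hχ _ hm'
        have h1 : (((χ m⁻¹ : Rˣ) : R) - 1) * ∑ i ∈ Finset.range (p - 1), ((χ m⁻¹ : Rˣ) : R) ^ i = 0 := by
          rw [mul_geom_sum, ← Units.val_pow_eq_pow_val, ← map_pow, ← hcard, pow_card_eq_one, map_one,
            Units.val_one, sub_self]
        exact (hunit.mul_right_eq_zero).mp h1
    simp only [hgeom]
    rw [Finset.sum_eq_single (1 : (ZMod p)ˣ)]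
    · rw [if_pos rfl, smul_smul, hu, map_one, one_smul]
    · intro m _ hm
      rw [if_neg hm, zero_smul]
    · intro h
      exact absurd (Finset.mem_univ _) h

end Groth.Agent.S18467
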