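import Groth.Statements.S15053
import Mathlib
import Groth.Agent.Lib.Helper86.GenComm
import Groth.Agent.Lib.Helper86.DualBC
import Groth.Agent.Lib.Helper86.MonoDual

set_option autoImplicit false
universe u v
open Hopf

namespace Groth.Agent.S15053

open TensorProduct Coalgebra WithConv
open Groth.Agent.Lib.Helper86

theorem isCocomm_of_local (S : Type u) [CommRing S] [IsLocalRing S] (H : Type v) [CommRing H]
    [HopfAlgebra S H] [Module.Finite S H] [Module.Free S H] (p : ℕ) [Fact p.Prime]
    (hH : Module.finrank S H = p) : Coalgebra.IsCocomm S H := by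
  let K := AlgebraicClosure (IsLocalRing.ResidueField S)
  have hloc : ∀ r : S, algebraMap S K r ≠ 0 → IsUnit r := by
    intro r hr
    by_contra hu
    apply hr
    have h1 : r ∈ IsLocalRing.maximalIdeal S := (IsLocalRing.mem_maximalIdeal r).2 hu
    rw [IsScalarTower.algebraMap_apply S (IsLocalRing.ResidueField S) K,
      IsLocalRing.ResidueField.algebraMap_eq, (IsLocalRing.residue_eq_zero_iff r).2 h1, map_zero]
  have hHK : Module.finrank K (K ⊗[S] H) = p := by
    rw [Module.finrank_baseChange, hH]
  obtain ⟨β', hβ'⟩ := MonoDual.exists_linearIndependent_pow K (K ⊗[S] H) p hHK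
  let a : Module.Basis (Fin p) S H := Module.finBasisOfFinrankEq S H hH
  obtain ⟨β, hβ⟩ := DualBC.Phi_surjective K a β'.ofConv
  have hpow : ∀ j : ℕ, DualBC.Phi K (β ^ j) = (β' ^ j).ofConv := by
    intro j
    have h1 := DualBC.Phi_pow K β j
    rw [hβ] at h1
    have h2 := congrArg WithConv.ofConv h1
    exact h2
  have hindep : LinearIndependent K (fun j : Fin p => β ^ (j : ℕ)) := by
    apply LinearIndependent.of_comp (DualBC.Phi (R := S) (A := H) K)
    have h3 : (DualBC.Phi (R := S) (A := H) K) ∘ (fun j : Fin p => β ^ (j : ℕ)) =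
        fun j : Fin p => (WithConv.linearEquiv K (K ⊗[S] H →ₗ[K] K)) (β' ^ (j : ℕ)) := by
      funext j
      exact hpow j
    rw [h3]
    exact hβ'.map' (WithConv.linearEquiv K (K ⊗[S] H →ₗ[K] K)).toLinearMap
      (LinearMap.ker_eq_bot.2 (WithConv.linearEquiv K (K ⊗[S] H →ₗ[K] K)).injective)
  let e : Module.Basis (Fin p) S (WithConv (H →ₗ[S] S)) :=
    a.dualBasis.map (WithConv.linearEquiv S (H →ₗ[S] S)).symm
  have hcomm := GenComm.commutative_of_generic hloc e β hindep
  exact DualBC.isCocomm_of_conv_comm hcomm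

theorem result (R : Type u) [CommRing R] (p : ℕ) [Fact p.Prime] (A : Type v) [CommRing A]
    [HopfAlgebra R A] [Module.Finite R A] [Module.Projective R A]
    (hp : ∀ q : PrimeSpectrum R, Module.rankAtStalk A q = p) :
    Coalgebra.IsCocomm R A := by
  apply DualBC.isCocomm_of_conv_comm
  intro φ ψ
  apply WithConv.ext
  apply LinearMap.ext
  intro a
  show (φ * ψ).ofConv a = (ψ * φ).ofConv a
  apply sub_eq_zero.1
  apply eq_zero_of_localization
  intro J hJ
  have hJp : J.IsPrime := hJ.isPrime
  have hfree : Module.Free (Localization.AtPrime J) (Localization.AtPrime J ⊗[R] A) :=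
    Module.free_of_flat_of_isLocalRing
  have hfin : Module.finrank (Localization.AtPrime J) (Localization.AtPrime J ⊗[R] A) = p := by
    rw [← Module.rankAtStalk_eq_finrank_tensorProduct ⟨J, hJp⟩]
    exact hp _
  have hcc := isCocomm_of_local (Localization.AtPrime J) (Localization.AtPrime J ⊗[R] A) p hfin
  have h1 := DualBC.bc_convMul (Localization.AtPrime J) φ ψ ((1 : Localization.AtPrime J) ⊗ₜ[R] a)
  have h2 := DualBC.bc_convMul (Localization.AtPrime J) ψ φ ((1 : Localization.AtPrime J) ⊗ₜ[R] a)
  rw [DualBC.bc_tmul, one_mul] at h1 h2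
  rw [map_sub, ← h1, ← h2, mul_comm, sub_self]

end Groth.Agent.S15053
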