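import Groth.Statements.S17537
import Mathlib

set_option autoImplicit false
universe u v
open CAlg

namespace Groth.Agent.S17537

/-- For a commutative ring A, an ideal I and an A-module M, the I-adic completion M^ of M is itself
I-adically complete if and only if, for every n, every element of M^ is congruent modulo I^n M^ to
the image of an element of M (the maps M/I^n M → M^/I^n M^ are surjective). -/
theorem result {A : Type u} [CommRing A] (I : Ideal A)
    (M : Type v) [AddCommGroup M] [Module A M] :
    IsAdicComplete I (AdicCompletion I M) ↔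
      ∀ (n : ℕ) (x : AdicCompletion I M), ∃ y : M,
        x - AdicCompletion.of I M y ∈ (I ^ n • ⊤ : Submodule A (AdicCompletion I M)) := by
  classical
  -- `of` maps `I^k M` into `I^k M^`
  have hof : ∀ (k : ℕ) (z : M), z ∈ (I ^ k • ⊤ : Submodule A M) →
      AdicCompletion.of I M z ∈ (I ^ k • ⊤ : Submodule A (AdicCompletion I M)) := by
    intro k z hz
    have h1 : (I ^ k • ⊤ : Submodule A M).map (AdicCompletion.of I M) ≤
        (I ^ k • ⊤ : Submodule A (AdicCompletion I M)) := by
      rw [Submodule.map_smul'']
      exact Submodule.smul_mono le_rfl le_top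
    exact h1 (Submodule.mem_map_of_mem hz)
  have hker : ∀ (k : ℕ) (w : AdicCompletion I M),
      w ∈ (I ^ k • ⊤ : Submodule A (AdicCompletion I M)) → w.val k = 0 := by
    intro k w hw
    have := AdicCompletion.pow_smul_top_le_ker_eval (I := I) (M := M) k hw
    simpa [LinearMap.mem_ker] using this
  constructor
  · intro hc n x
    obtain ⟨f, rfl⟩ := AdicCompletion.mk_surjective I M x
    have hprec : IsPrecomplete I (AdicCompletion I M) := hc.toIsPrecomplete
    obtain ⟨L, hL⟩ := hprec.prec (f := fun k => AdicCompletion.of I M (f k)) (by
      intro m k hmk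
      rw [SModEq.sub_mem, ← map_sub]
      apply hof
      rw [← SModEq.sub_mem]
      exact f.property hmk)
    have hLx : L = AdicCompletion.mk I M f := by
      apply AdicCompletion.ext
      intro k
      have h1 := hker k _ ((SModEq.sub_mem).1 (hL k))
      rw [AdicCompletion.val_sub_apply, sub_eq_zero] at h1
      rw [← h1]
      rfl
    refine ⟨f n, ?_⟩
    rw [← hLx, ← SModEq.sub_mem]
    exact (hL n).symm
  · intro h
    -- the kernel of `eval k` is `I^k M^`
    have hker' : ∀ (k : ℕ) (w : AdicCompletion I M), w.val k = 0 →
        w ∈ (I ^ k • ⊤ : Submodule A (AdicCompletion I M)) := by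
      intro k w hw
      obtain ⟨y, hy⟩ := h k w
      have h1 := hker k _ hy
      rw [AdicCompletion.val_sub_apply, hw, zero_sub, neg_eq_zero, AdicCompletion.of_apply,
        Submodule.mkQ_apply, Submodule.Quotient.mk_eq_zero] at h1
      have h2 := hof k y h1
      have := Submodule.add_mem _ hy h2
      simpa using this
    refine { toIsHausdorff := inferInstance, toIsPrecomplete := ⟨?_⟩ }
    intro s hs
    refine ⟨⟨fun k => (s k).val k, ?_⟩, ?_⟩
    · intro m k hmk
      have h1 := hker m _ ((SModEq.sub_mem).1 (hs hmk))
      rw [AdicCompletion.val_sub_apply, sub_eq_zero] at h1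
      rw [(s k).prop hmk]
      exact h1.symm
    · intro k
      rw [SModEq.sub_mem]
      apply hker'
      rw [AdicCompletion.val_sub_apply, sub_eq_zero]

end Groth.Agent.S17537
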