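import Groth.Statements.S17540
import Mathlib
import Groth.Agent.Lib.Helper87.AdicSum

set_option autoImplicit false
universe u v w
open W4c5adicflatcompl
open CAlg

namespace Groth.Agent.S17540

open Groth.Agent.Lib.Helper87 in
theorem aux {A : Type u} [CommRing A] (I : Ideal A) [IsAdicComplete I A]
    (M : Type v) [AddCommGroup M] [Module A M] [IsAdicComplete I M] (Z : Type w) (m : Z → M)
    (h : Submodule.span A (Set.range m) ⊔ I • ⊤ = ⊤) (x : M) :
    ∃ g : Z → A, g ∈ decaying I Z A ∧ IsAdicSum I (fun z => g z • m z) x := by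
  classical
  have hsmA : ∀ k : ℕ, (I ^ k • ⊤ : Submodule A A) = I ^ k := fun k => by
    rw [smul_eq_mul, Ideal.mul_top]
  -- Step: peel off one layer
  have step : ∀ (k : ℕ) (y : M), ∃ c : Z →₀ A, y ∈ (I ^ k • ⊤ : Submodule A M) →
      (∀ z, c z ∈ I ^ k) ∧ y - (c.sum fun z a => a • m z) ∈ (I ^ (k + 1) • ⊤ : Submodule A M) := by
    intro k y
    by_cases hy : y ∈ (I ^ k • ⊤ : Submodule A M)
    · have h1 : (I ^ k • ⊤ : Submodule A M) =
          I ^ k • Submodule.span A (Set.range m) ⊔ I ^ (k + 1) • ⊤ := by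
        conv_lhs => rw [← h]
        rw [Submodule.smul_sup, ← Submodule.mul_smul, ← pow_succ]
      rw [h1, Submodule.mem_sup] at hy
      obtain ⟨y1, hy1, y2, hy2, rfl⟩ := hy
      obtain ⟨c, hc, hcs⟩ := (Submodule.mem_ideal_smul_span_iff_exists_sum (I ^ k) m y1).1 hy1
      refine ⟨c, fun _ => ⟨hc, ?_⟩⟩
      rw [hcs]
      simpa using hy2
    · exact ⟨0, fun h' => absurd h' hy⟩
  choose F hF using step
  -- the remainders
  let X : ℕ → M := fun n => Nat.rec x (fun k y => y - ((F k y).sum fun z a => a • m z)) n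
  have hX0 : X 0 = x := rfl
  have hXs : ∀ k, X (k + 1) = X k - ((F k (X k)).sum fun z a => a • m z) := fun k => rfl
  have hXmem : ∀ k, X k ∈ (I ^ k • ⊤ : Submodule A M) := by
    intro k
    induction k with
    | zero => simp
    | succ k ih => rw [hXs]; exact (hF k (X k) ih).2
  let C : ℕ → (Z →₀ A) := fun k => F k (X k)
  have hC : ∀ k z, C k z ∈ I ^ k := fun k z => (hF k (X k) (hXmem k)).1 z
  have hXsum : ∀ n, x - ∑ k ∈ Finset.range n, ((C k).sum fun z a => a • m z) = X n := by
    intro n
    induction n with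
    | zero => simp [hX0]
    | succ n ih =>
      rw [Finset.sum_range_succ, hXs]
      show x - (_ + ((C n).sum fun z a => a • m z)) = X n - ((C n).sum fun z a => a • m z)
      rw [← ih]
      abel
  -- the coefficient function
  have hlim : ∀ z, ∃ L : A, ∀ n, (∑ k ∈ Finset.range n, C k z) ≡ L [SMOD (I ^ n • ⊤ : Submodule A A)] := by
    intro z
    apply IsPrecomplete.prec (I := I) (M := A) inferInstance
    intro a b hab
    refine SModEq.symm ?_
    rw [SModEq.sub_mem, hsmA]
    rw [← Finset.sum_range_add_sum_Ico _ hab, add_sub_cancel_left]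
    refine Ideal.sum_mem _ fun k hk => ?_
    exact Ideal.pow_le_pow_right (Finset.mem_Ico.1 hk).1 (hC k z)
  choose g hg using hlim
  have hg' : ∀ z n, (∑ k ∈ Finset.range n, C k z) - g z ∈ I ^ n := by
    intro z n
    have := (SModEq.sub_mem).1 (hg z n)
    rwa [hsmA] at this
  let S : ℕ → Finset Z := fun n => (Finset.range n).biUnion fun k => (C k).support
  have hSout : ∀ n z, z ∉ S n → g z ∈ I ^ n := by
    intro n z hz
    have h0 : ∑ k ∈ Finset.range n, C k z = 0 := by
      refine Finset.sum_eq_zero fun k hk => ?_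
      by_contra hne
      exact hz (Finset.mem_biUnion.2 ⟨k, hk, Finsupp.mem_support_iff.2 hne⟩)
    have := hg' z n
    rw [h0, zero_sub] at this
    exact (Ideal.neg_mem_iff _).1 this
  refine ⟨g, ?_, ?_⟩
  · intro n
    refine (S n).finite_toSet.subset ?_
    intro z hz
    by_contra hzs
    apply hz
    rw [hsmA]
    exact hSout n z hzs
  · intro n
    refine ⟨S n, fun z hz => Submodule.smul_mem_smul (hSout n z hz) Submodule.mem_top, ?_⟩
    have e1 : ∀ k ∈ Finset.range n, ((C k).sum fun z a => a • m z) = ∑ z ∈ S n, C k z • m z := by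
      intro k hk
      rw [Finsupp.sum]
      refine Finset.sum_subset (Finset.subset_biUnion_of_mem (fun k => (C k).support) hk) ?_
      intro z _ hz
      rw [Finsupp.notMem_support_iff.1 hz, zero_smul]
    have e2 : x - ∑ z ∈ S n, g z • m z =
        X n + ∑ z ∈ S n, ((∑ k ∈ Finset.range n, C k z) - g z) • m z := by
      rw [← hXsum n, Finset.sum_congr rfl e1, Finset.sum_comm]
      simp only [sub_smul, Finset.sum_sub_distrib, Finset.sum_smul]
      abel
    rw [e2]
    refine Submodule.add_mem _ (hXmem n) (Submodule.sum_mem _ fun z _ => ?_)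
    exact Submodule.smul_mem_smul (hg' z n) Submodule.mem_top

theorem result {A : Type u} [CommRing A] (I : Ideal A) [IsAdicComplete I A]
    (M : Type v) [AddCommGroup M] [Module A M] [IsAdicComplete I M] (Z : Type w) (m : Z → M) :
    Submodule.span A (Set.range m) ⊔ I • ⊤ = ⊤ ↔
      ∀ x : M, ∃ g : Z → A, g ∈ decaying I Z A ∧
        ∀ n : ℕ, ∃ S : Finset Z,
          (∀ z, z ∉ S → g z • m z ∈ (I ^ n • ⊤ : Submodule A M)) ∧
          x - (∑ z ∈ S, g z • m z) ∈ (I ^ n • ⊤ : Submodule A M) := by
  constructor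
  · intro h x
    exact aux I M Z m h x
  · intro h
    rw [eq_top_iff]
    intro x _
    obtain ⟨g, -, hg⟩ := h x
    obtain ⟨S, -, hS⟩ := hg 1
    rw [pow_one] at hS
    have : x = (∑ z ∈ S, g z • m z) + (x - ∑ z ∈ S, g z • m z) := by abel
    rw [this]
    refine Submodule.add_mem _ (Submodule.mem_sup_left ?_) (Submodule.mem_sup_right hS)
    exact Submodule.sum_mem _ fun z _ => Submodule.smul_mem _ _ (Submodule.subset_span ⟨z, rfl⟩)

end Groth.Agent.S17540
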