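import Groth.Statements.S17553
import Mathlib
import Groth.Agent.Lib.Helper87.AdicSum

set_option autoImplicit false
universe u v w
open W4c5adicflatcompl
open CAlg

namespace Groth.Agent.S17553

/-- Let A be I-adically complete, M an I-adically complete A-module, Z a set and f : Z → M a function.
There is an A-linear map from the I-adically decaying functions Z → A to M whose value on g is the
I-adically convergent sum of the g z • f z. -/
theorem result {A : Type u} [CommRing A] (I : Ideal A) [IsAdicComplete I A]
    (Z : Type v) (M : Type w) [AddCommGroup M] [Module A M] [IsAdicComplete I M] (f : Z → M) :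
    ∃ φ : decaying I Z A →ₗ[A] M, ∀ (g : decaying I Z A) (n : ℕ), ∃ S : Finset Z,
      (∀ z, z ∉ S → (g : Z → A) z • f z ∈ (I ^ n • ⊤ : Submodule A M)) ∧
      φ g - (∑ z ∈ S, (g : Z → A) z • f z) ∈ (I ^ n • ⊤ : Submodule A M) := by
  classical
  have hsm : ∀ (k : ℕ) (a : A), a ∈ (I ^ k • ⊤ : Submodule A A) → ∀ m : M,
      a • m ∈ (I ^ k • ⊤ : Submodule A M) := by
    intro k a ha m
    rw [smul_eq_mul, Ideal.mul_top] at ha
    exact Submodule.smul_mem_smul ha Submodule.mem_top
  have hex : ∀ g : decaying I Z A,
      ∃ x : M, Groth.Agent.Lib.Helper87.IsAdicSum I (fun z => (g : Z → A) z • f z) x := by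
    intro g
    apply Groth.Agent.Lib.Helper87.IsAdicSum.exists
    intro n
    refine (g.2 n).subset ?_
    intro z hz
    simp only [Set.mem_ofPred_eq] at hz ⊢
    exact fun h => hz (hsm n _ h (f z))
  choose φ hφ using hex
  refine ⟨{ toFun := φ, map_add' := ?_, map_smul' := ?_ }, ?_⟩
  · intro g g'
    refine Groth.Agent.Lib.Helper87.IsAdicSum.unique (hφ (g + g')) ?_
    have := (hφ g).add (hφ g')
    convert this using 1
    funext z
    simp [add_smul]
  · intro a g
    simp only [RingHom.id_apply]
    refine Groth.Agent.Lib.Helper87.IsAdicSum.unique (hφ (a • g)) ?_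
    have := (hφ g).smul a
    convert this using 1
    funext z
    simp [mul_smul]
  · intro g n
    exact hφ g n

end Groth.Agent.S17553
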