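import Groth.Statements.S3850
import Mathlib
import Groth.Agent.S5054
import Groth.Agent.Lib.Helper88.OmegaHat.EtaleFree
import Groth.Agent.Lib.Helper88.OmegaHat.EtaleOfUnram

set_option autoImplicit false
universe u
open EGA418

namespace Groth.Agent.S3850

/-- b) iff c), in the case n = dim A: let k be a field, A a complete Noetherian local k-algebra whose
residue field is finite over k, of dimension n, p a non-maximal prime ideal of A contained in an
irreducible component of dimension n (there is a minimal prime q ⊆ p with dim A/q = n), and Ω̂ the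
completion of the module of differentials of A over k for the topology of the maximal ideal. Then
Ω̂_p is a free A_p-module of rank n if and only if there is a local k-algebra map u : k[[T_1, …,
T_n]] → A making A a finite algebra over the power series ring and étale over it at p. -/
theorem result (k A : Type u) [Field k] [CommRing A]
    [IsLocalRing A] [IsNoetherianRing A] [Algebra k A] [IsAdicComplete (IsLocalRing.maximalIdeal A) A]
    [Module.Finite k (IsLocalRing.ResidueField A)] (n : ℕ) (hn : ringKrullDim A = n)
    (p : Ideal A) [p.IsPrime] (hp : p ≠ IsLocalRing.maximalIdeal A)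
    (hq : ∃ q ∈ minimalPrimes A, q ≤ p ∧ ringKrullDim (A ⧸ q) = n) :
    (Module.Free (Localization.AtPrime p)
        (LocalizedModule p.primeCompl (AdicCompletion (IsLocalRing.maximalIdeal A) (KaehlerDifferential k A))) ∧
      Module.finrank (Localization.AtPrime p)
        (LocalizedModule p.primeCompl (AdicCompletion (IsLocalRing.maximalIdeal A) (KaehlerDifferential k A))) = n) ↔
      ∃ (_ : Algebra (MvPowerSeries (Fin n) k) A) (_ : IsScalarTower k (MvPowerSeries (Fin n) k) A),
        IsLocalHom (algebraMap (MvPowerSeries (Fin n) k) A) ∧ Module.Finite (MvPowerSeries (Fin n) k) A ∧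
          Algebra.IsEtaleAt (MvPowerSeries (Fin n) k) p := by
  constructor
  · rintro ⟨hfree, hrank⟩
    obtain ⟨q, hqmin, hqp, hqdim⟩ := hq
    have hfinΩ := Groth.Agent.Lib.Helper88.OmegaHat.finite_omegaHat' k A
    have hb := Module.finBasisOfFinrankEq (Localization.AtPrime p)
      (LocalizedModule p.primeCompl (AdicCompletion (IsLocalRing.maximalIdeal A)
        (KaehlerDifferential k A))) hrank
    obtain ⟨a1, t1, hloc, hfin, hunr⟩ := (Groth.Agent.S5054.result k A p hp
      ⟨q, hqmin, hqp, hqdim.trans hn.symm⟩ n).mp ⟨hb, hb.span_eq⟩
    have hqprime : q.IsPrime := hqmin.1.1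
    refine ⟨a1, t1, hloc, hfin, ?_⟩
    exact Groth.Agent.Lib.Helper88.OmegaHat.isEtaleAt_of_isUnramifiedAt k n A p q hqp
      (le_of_eq hqdim.symm) hunr
  · rintro ⟨a1, t1, hloc, hfin, het⟩
    exact Groth.Agent.Lib.Helper88.OmegaHat.free_localized_of_isEtaleAt k n A p het

end Groth.Agent.S3850
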