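import Groth.Statements.S4990
import Mathlib
import Groth.Agent.Lib.Helper24.EtaleAtStalk

set_option autoImplicit false
universe u
open CategoryTheory CategoryTheory.Limits AlgebraicGeometry TopologicalSpace
open Unram17

namespace Groth.Agent.S4990

/-- Dimension formula for a flat local homomorphism of Noetherian local rings. -/
theorem ringKrullDim_eq_add_of_flat {A B : Type*} [CommRing A] [CommRing B]
    [IsLocalRing A] [IsLocalRing B] [IsNoetherianRing A] [IsNoetherianRing B] (φ : A →+* B)
    (hφ : φ.Flat) [IsLocalHom φ] :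
    ringKrullDim B = ringKrullDim A +
      ringKrullDim (B ⧸ (IsLocalRing.maximalIdeal A).map φ) := by
  algebraize [φ]
  have hloc : IsLocalHom (algebraMap A B) := ‹IsLocalHom φ›
  have hover : (IsLocalRing.maximalIdeal B).LiesOver (IsLocalRing.maximalIdeal A) :=
    ⟨(IsLocalRing.maximalIdeal_comap (algebraMap A B)).symm⟩
  have heq := Ideal.height_eq_height_add_of_liesOver_of_hasGoingDown (IsLocalRing.maximalIdeal A)
    (IsLocalRing.maximalIdeal B)
  have hne : (IsLocalRing.maximalIdeal A).map (algebraMap A B) ≠ ⊤ := by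
    intro h
    have h1 : (IsLocalRing.maximalIdeal A).map (algebraMap A B) ≤ IsLocalRing.maximalIdeal B :=
      Ideal.map_le_iff_le_comap.mpr (IsLocalRing.maximalIdeal_comap (algebraMap A B)).ge
    exact (IsLocalRing.maximalIdeal.isMaximal B).ne_top (top_le_iff.mp (h ▸ h1))
  have : Nontrivial (B ⧸ (IsLocalRing.maximalIdeal A).map (algebraMap A B)) :=
    Ideal.Quotient.nontrivial_iff.mpr hne
  have : IsLocalRing (B ⧸ (IsLocalRing.maximalIdeal A).map (algebraMap A B)) :=
    IsLocalRing.of_surjective' (Ideal.Quotient.mk _) Ideal.Quotient.mk_surjective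
  have hmax : (IsLocalRing.maximalIdeal B).map
      (Ideal.Quotient.mk ((IsLocalRing.maximalIdeal A).map (algebraMap A B))) =
      IsLocalRing.maximalIdeal (B ⧸ (IsLocalRing.maximalIdeal A).map (algebraMap A B)) := by
    have : IsLocalHom (Ideal.Quotient.mk ((IsLocalRing.maximalIdeal A).map (algebraMap A B))) :=
      IsLocalHom.of_surjective _ Ideal.Quotient.mk_surjective
    apply le_antisymm
    · exact Ideal.map_le_iff_le_comap.mpr (IsLocalRing.maximalIdeal_comap _).ge
    · intro z hz
      obtain ⟨b, rfl⟩ := Ideal.Quotient.mk_surjective z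
      refine Ideal.mem_map_of_mem _ ?_
      rw [← IsLocalRing.maximalIdeal_comap
        (Ideal.Quotient.mk ((IsLocalRing.maximalIdeal A).map (algebraMap A B)))]
      exact hz
  rw [hmax] at heq
  rw [← IsLocalRing.maximalIdeal_height_eq_ringKrullDim,
    ← IsLocalRing.maximalIdeal_height_eq_ringKrullDim, heq]
  change _ = _ + ringKrullDim (B ⧸ (IsLocalRing.maximalIdeal A).map (algebraMap A B))
  rw [← IsLocalRing.maximalIdeal_height_eq_ringKrullDim]
  push_cast
  rfl

/-- Let Y be locally Noetherian and f : X ⟶ Y locally of finite type, smooth on an open neighbourhood of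
a point x with image y. Then the Krull dimension of the local ring of X at x is the sum of the Krull
dimension of the local ring of Y at y and of the Krull dimension of the local ring of the fibre, the
quotient of the local ring at x by the extension of the maximal ideal at y. -/
theorem result {X Y : Scheme.{u}} (f : X ⟶ Y)
    [IsLocallyNoetherian Y] [LocallyOfFiniteType f] (x : ↥X)
    (hx : ∃ U : X.Opens, x ∈ U ∧ Smooth (U.ι ≫ f)) :
    ringKrullDim ↑(X.presheaf.stalk x) =
      ringKrullDim ↑(Y.presheaf.stalk (f.base x)) +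
        ringKrullDim (↑(X.presheaf.stalk x) ⧸
          (IsLocalRing.maximalIdeal ↑(Y.presheaf.stalk (f.base x))).map (f.stalkMap x).hom) := by
  obtain ⟨U, hxU, hU⟩ := hx
  obtain ⟨x', rfl⟩ : ∃ x' : U.toScheme, U.ι x' = x := ⟨⟨x, hxU⟩, rfl⟩
  have hfl : (f.stalkMap (U.ι x')).hom.Flat :=
    (Groth.Agent.Lib.Helper24.stalkMap_ι_comp_iff RingHom.Flat.respectsIso f U x').mp
      (Flat.stalkMap (U.ι ≫ f) x')
  have : IsLocallyNoetherian X := LocallyOfFiniteType.isLocallyNoetherian f
  exact ringKrullDim_eq_add_of_flat (f.stalkMap (U.ι x')).hom hfl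

end Groth.Agent.S4990
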