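import Groth.Statements.S5074
import Mathlib
import Groth.Agent.Lib.Helper88.OmegaHat.FibreUpperP
import Groth.Agent.Lib.Helper88.OmegaHat.FibreUpperZero
import Groth.Agent.Lib.Helper88.OmegaHat.DimIneq

set_option autoImplicit false
universe u
open EGA418

namespace Groth.Agent.S5074

/-- Let k be a field of characteristic exponent p such that k is finite over k^p (the Frobenius
endomorphism of k is a finite ring map), A a complete Noetherian local k-algebra whose residue field
is a finite extension of k, and P a prime ideal of A such that A_P is geometrically regular over k.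
Then for every minimal prime q of A contained in P (there is exactly one), the A_P-module obtained
by localising at P the completion of the module of differentials of A over k is free of rank equal
to dim(A/q). -/
theorem result (p : ℕ) (k A : Type u) [Field k] [ExpChar k p]
    (hk : (frobenius k p).Finite) [CommRing A] [IsLocalRing A] [IsNoetherianRing A] [Algebra k A]
    [IsAdicComplete (IsLocalRing.maximalIdeal A) A] [Module.Finite k (IsLocalRing.ResidueField A)]
    (P : Ideal A) [P.IsPrime] (hP : CAlg.IsGeometricallyRegular k (Localization.AtPrime P))
    (q : Ideal A) (hq : q ∈ minimalPrimes A) (hqP : q ≤ P) (n : ℕ) (hn : ringKrullDim (A ⧸ q) = n) :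
    Module.Free (Localization.AtPrime P) (LocalizedModule P.primeCompl (AdicCompletion (IsLocalRing.maximalIdeal A) (KaehlerDifferential k A))) ∧
      Module.finrank (Localization.AtPrime P) (LocalizedModule P.primeCompl (AdicCompletion (IsLocalRing.maximalIdeal A) (KaehlerDifferential k A))) = n := by
  classical
  have hregT : IsRegularRing (TensorProduct k k (Localization.AtPrime P)) :=
    hP k (Module.Finite.self k)
  have hregB : IsRegularRing (Localization.AtPrime P) :=
    IsRegularRing.of_ringEquiv (R := TensorProduct k k (Localization.AtPrime P))
      (Algebra.TensorProduct.lid k (Localization.AtPrime P)).toRingEquiv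
  have hregL : IsRegularLocalRing (Localization.AtPrime P) :=
    IsRegularLocalRing.of_isRegularRing_of_isLocalRing (Localization.AtPrime P)
  have hdom : IsDomain (Localization.AtPrime P) :=
    Groth.Agent.Lib.Helper85.isDomain_of_isRegularLocalRing (Localization.AtPrime P)
  have hqprime : q.IsPrime := hq.1.1
  have hfinΩ := Groth.Agent.Lib.Helper88.OmegaHat.finite_omegaHat' k A
  -- the dimensions
  have hh : ringKrullDim (Localization.AtPrime P) =
      ((IsLocalRing.maximalIdeal (Localization.AtPrime P)).spanFinrank : ℕ) :=
    (IsRegularLocalRing.spanFinrank_maximalIdeal (R := Localization.AtPrime P)).symm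
  have hne : P ≠ ⊤ := Ideal.IsPrime.ne_top inferInstance
  have hloc : IsLocalRing (A ⧸ P) := Groth.Agent.Lib.Helper85.isLocalRing_quotient P hne
  obtain ⟨d, -, hd, -, -⟩ := Groth.Agent.Lib.Helper48.exists_sop (A ⧸ P)
  have hineq := Groth.Agent.Lib.Helper88.OmegaHat.ringKrullDim_atPrime_add_quotient_le P q hq hqP
  rw [hh, ← hd, hn] at hineq
  have hhdn : (IsLocalRing.maximalIdeal (Localization.AtPrime P)).spanFinrank + d ≤ n := by
    exact_mod_cast hineq
  -- upper bound at `P`
  have hup : Module.finrank P.ResidueField
      (TensorProduct A P.ResidueField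
        (AdicCompletion (IsLocalRing.maximalIdeal A) (KaehlerDifferential k A))) ≤
      (IsLocalRing.maximalIdeal (Localization.AtPrime P)).spanFinrank + d := by
    cases ‹ExpChar k p› with
    | zero =>
      exact Groth.Agent.Lib.Helper88.OmegaHat.finrank_fibre_le_of_charZero k A P _ d hh hd.symm
    | prime hp =>
      have : Fact p.Prime := ⟨hp⟩
      exact Groth.Agent.Lib.Helper88.OmegaHat.finrank_fibre_le_of_charP p k A hk P hP _ d hh
        hd.symm
  -- lower bound at `q`
  have hlow : n ≤ Module.finrank q.ResidueField
      (TensorProduct A q.ResidueField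
        (AdicCompletion (IsLocalRing.maximalIdeal A) (KaehlerDifferential k A))) := by
    have h1 := Groth.Agent.Lib.Helper88.OmegaHat.fibre_rank_ge k A q q hq le_rfl
    rw [hn, ← Module.finrank_eq_rank, Cardinal.toENat_nat] at h1
    exact_mod_cast h1
  exact Groth.Agent.Lib.Helper88.OmegaHat.free_localized_of_fibre_rank P q hq hqP
    (AdicCompletion (IsLocalRing.maximalIdeal A) (KaehlerDifferential k A)) n
    (hup.trans hhdn) hlow

end Groth.Agent.S5074
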