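import Groth.Statements.S5055
import Mathlib
import Groth.Agent.S5054
import Groth.Agent.Lib.Helper88.OmegaHat.EtaleFree
import Groth.Agent.Lib.Helper88.OmegaHat.EtaleOfUnram
import Groth.Agent.Lib.Helper88.OmegaHat.GeomRegular

set_option autoImplicit false
universe u
open EGA418

namespace Groth.Agent.S5055

/-- Let k be a field, A a complete Noetherian local k-algebra of Krull dimension n whose residue field
is a finite extension of k, p a prime ideal distinct from the maximal ideal and containing a minimal
prime q with dim A/q = n, and Ω̂ the completion of the module of differentials of A over k. If the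
A_p-module Ω̂_p is generated by n elements, then it is free of rank n and A_p is a geometrically
regular k-algebra. -/
theorem result (k A : Type u) [Field k] [CommRing A]
    [IsLocalRing A] [IsNoetherianRing A] [Algebra k A] [IsAdicComplete (IsLocalRing.maximalIdeal A) A]
    [Module.Finite k (IsLocalRing.ResidueField A)]
    (n : ℕ) (hn : ringKrullDim A = n) (p : Ideal A) [p.IsPrime] (hp : p ≠ IsLocalRing.maximalIdeal A)
    (hq : ∃ q ∈ minimalPrimes A, q ≤ p ∧ ringKrullDim (A ⧸ q) = n)
    (hgen : ∃ s : Fin n → (LocalizedModule p.primeCompl (AdicCompletion (IsLocalRing.maximalIdeal A) (KaehlerDifferential k A))), Submodule.span (Localization.AtPrime p) (Set.range s) = ⊤) :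
    (Module.Free (Localization.AtPrime p) (LocalizedModule p.primeCompl (AdicCompletion (IsLocalRing.maximalIdeal A) (KaehlerDifferential k A))) ∧
      Module.finrank (Localization.AtPrime p) (LocalizedModule p.primeCompl (AdicCompletion (IsLocalRing.maximalIdeal A) (KaehlerDifferential k A))) = n) ∧
      CAlg.IsGeometricallyRegular k (Localization.AtPrime p) := by
  obtain ⟨q, hqmin, hqp, hqdim⟩ := hq
  obtain ⟨a1, t1, hloc, hfin, hunr⟩ := (Groth.Agent.S5054.result k A p hp
    ⟨q, hqmin, hqp, hqdim.trans hn.symm⟩ n).mp hgen
  have hqprime : q.IsPrime := hqmin.1.1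
  obtain ⟨E, _, _, _, p', _, ⟨e⟩⟩ :=
    Groth.Agent.Lib.Helper88.OmegaHat.exists_etale_algEquiv k n A p q hqp
      (le_of_eq hqdim.symm) hunr
  have het : Algebra.IsEtaleAt (MvPowerSeries (Fin n) k) p := by
    have hE' : Algebra.FormallyEtale (MvPowerSeries (Fin n) k) (Localization.AtPrime p') :=
      inferInstance
    exact Algebra.FormallyEtale.of_equiv e
  refine ⟨Groth.Agent.Lib.Helper88.OmegaHat.free_localized_of_isEtaleAt k n A p het, ?_⟩
  exact Groth.Agent.Lib.Helper88.OmegaHat.isGeometricallyRegular_of_algEquiv k n E p'
    (Localization.AtPrime p) e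

end Groth.Agent.S5055
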