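import Groth.Statements.S5818
import Groth.Agent.Lib.Helper21.Exal

set_option autoImplicit false
universe u v
open EGA41 Groth.Agent.Lib.Helper21

namespace Groth.Agent.S5818

attribute [local instance] Exal.opModule Exal.isCentralScalar_opModule

section

variable {A : Type u} {B C L : Type v} [CommRing A] [CommRing B] [CommRing C]
    [Algebra A B] [Algebra B C] [Algebra A C] [IsScalarTower A B C]
    [AddCommGroup L] [Module C L] [Module B L] [IsScalarTower B C L] [Module A L] [IsScalarTower A B L]
    [IsScalarTower A C L]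

lemma bwd (X : Exal.Ext B C L) (D : Derivation A B L)
    (e : X.Equiv (Exal.Ext.ofDerivation (C := C) D)) : X.IsTrivialOver A := by
  let τ : C →+* TrivSqZeroExt C L := TrivSqZeroExt.inlHom C L
  let ε : TrivSqZeroExt C L →+* X.E :=
    (e.toAlgEquiv.symm : (Exal.Ext.ofDerivation (C := C) D).E →+* X.E)
  have hε : ∀ b : B, ε (TrivSqZeroExt.inl (algebraMap B C b) + TrivSqZeroExt.inr (D b)) =
      algebraMap B X.E b := fun b => e.toAlgEquiv.symm.commutes b
  refine ⟨{ toRingHom := ε.comp τ, commutes' := fun a => ?_ }, fun c => ?_⟩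
  · change ε (TrivSqZeroExt.inl (algebraMap A C a)) = algebraMap B X.E (algebraMap A B a)
    rw [← hε, D.map_algebraMap, TrivSqZeroExt.inr_zero, add_zero,
      ← IsScalarTower.algebraMap_apply]
  · change X.proj (e.toAlgEquiv.symm (TrivSqZeroExt.inl c)) = c
    exact e.symm.proj_apply _

lemma fwd (X : Exal.Ext B C L) (s : C →ₐ[A] (X.restrictBase A).E)
    (hs : ∀ c, (X.restrictBase A).proj (s c) = c) :
    ∃ D : Derivation A B L, Nonempty (X.Equiv (Exal.Ext.ofDerivation (C := C) D)) := by
  let σ : C →+* X.E := s.toRingHom
  have hσ : ∀ c, X.proj (σ c) = c := hs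
  have hσA : ∀ a : A, σ (algebraMap A C a) = algebraMap B X.E (algebraMap A B a) :=
    fun a => s.commutes a
  let β : B →+* X.E := algebraMap B X.E
  have hβ : ∀ b, X.proj (β b) = algebraMap B C b := fun b => X.proj.commutes b
  have h0 : ∀ b : B, X.proj (β b - σ (algebraMap B C b)) = 0 := by
    intro b; rw [map_sub, hσ, hβ, sub_self]
  let Dfun : B → L := fun b => X.kerLift _ (h0 b)
  have hD : ∀ b, X.incl (Dfun b) = β b - σ (algebraMap B C b) := fun b => X.incl_kerLift _ _
  have hσincl : ∀ (c : C) (z : L), σ c * X.incl z = X.incl (c • z) := fun c z => by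
    rw [X.isExtension.mul_incl, hσ]
  have hβincl : ∀ (b : B) (z : L), β b * X.incl z = X.incl (b • z) := fun b z =>
    ExalLemmas.algebraMap_mul_incl X b z
  let lin : B →ₗ[A] L :=
    { toFun := Dfun
      map_add' := fun b b' => by
        apply X.isExtension.incl_injective
        rw [map_add, hD, hD, hD, map_add, map_add, map_add]
        ring
      map_smul' := fun a b => by
        apply X.isExtension.incl_injective
        rw [RingHom.id_apply, hD, ← algebraMap_smul B a (Dfun b), ← hβincl, hD, Algebra.smul_def,
          map_mul, map_mul, map_mul, ← IsScalarTower.algebraMap_apply A B C, hσA]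
        ring }
  have hleib : ∀ b b', lin (b * b') = b • lin b' + b' • lin b := by
    intro b b'
    apply X.isExtension.incl_injective
    change X.incl (Dfun (b * b')) = X.incl (b • Dfun b' + b' • Dfun b)
    rw [map_add, ← hβincl, ← algebraMap_smul C b' (Dfun b), ← hσincl, hD, hD, hD, map_mul, map_mul,
      map_mul]
    ring
  let D : Derivation A B L := Derivation.mk' lin hleib
  have hDapp : ∀ b, D b = Dfun b := fun b => rfl
  let ψ : TrivSqZeroExt C L →+* X.E :=
    { toFun := fun t => σ t.fst + X.incl t.snd
      map_one' := by simp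
      map_zero' := by simp
      map_add' := fun t t' => by
        simp only [TrivSqZeroExt.fst_add, TrivSqZeroExt.snd_add, map_add]
        ring
      map_mul' := fun t t' => by
        simp only [TrivSqZeroExt.fst_mul, TrivSqZeroExt.snd_mul, map_mul, map_add, op_smul_eq_smul,
          ← hσincl]
        have := ExalLemmas.incl_mul_incl X t.snd t'.snd
        linear_combination -this }
  have hψ : ∀ t, ψ t = σ t.fst + X.incl t.snd := fun t => rfl
  have hψinj : Function.Injective ψ := by
    rw [injective_iff_map_eq_zero]
    intro t ht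
    rw [hψ] at ht
    have h1 : t.fst = 0 := by
      have := congrArg X.proj ht
      rwa [map_add, hσ, ExalLemmas.proj_incl, add_zero, map_zero] at this
    rw [h1, map_zero, zero_add] at ht
    have h2 : t.snd = 0 := X.isExtension.incl_injective (by rw [ht, map_zero])
    exact TrivSqZeroExt.ext h1 h2
  have hψsurj : Function.Surjective ψ := by
    intro x
    have hx : X.proj (x - σ (X.proj x)) = 0 := by rw [map_sub, hσ, sub_self]
    obtain ⟨z, hz⟩ := (X.isExtension.exact _).1 hx
    refine ⟨TrivSqZeroExt.inl (X.proj x) + TrivSqZeroExt.inr z, ?_⟩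
    rw [hψ]
    simp only [TrivSqZeroExt.fst_add, TrivSqZeroExt.fst_inl, TrivSqZeroExt.fst_inr, add_zero,
      TrivSqZeroExt.snd_add, TrivSqZeroExt.snd_inl, TrivSqZeroExt.snd_inr, zero_add]
    rw [hz]
    ring
  let ψa : (Exal.Ext.ofDerivation (C := C) D).E →ₐ[B] X.E :=
    { toRingHom := ψ
      commutes' := fun b => by
        change ψ (TrivSqZeroExt.inl (algebraMap B C b) + TrivSqZeroExt.inr (D b)) = β b
        rw [hψ]
        simp only [TrivSqZeroExt.fst_add, TrivSqZeroExt.fst_inl, TrivSqZeroExt.fst_inr, add_zero,
          TrivSqZeroExt.snd_add, TrivSqZeroExt.snd_inl, TrivSqZeroExt.snd_inr, zero_add]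
        rw [hDapp, hD]
        ring }
  let E' : (Exal.Ext.ofDerivation (C := C) D).Equiv X :=
    { toAlgEquiv := AlgEquiv.ofBijective ψa ⟨hψinj, hψsurj⟩
      proj_apply := fun t => by
        change X.proj (ψ t) = TrivSqZeroExt.fst t
        rw [hψ, map_add, hσ, ExalLemmas.proj_incl, add_zero]
      apply_incl := fun z => by
        change ψ (TrivSqZeroExt.inr z) = X.incl z
        rw [hψ]
        simp }
  exact ⟨D, ⟨E'.symm⟩⟩

end

/-- Commutative rings, exactness at Exalcom_B(C, L) on underlying pointed sets. For ring maps A → B → C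
and a C-module L, a B-extension of C by L is A-trivial if and only if it is equivalent to the
extension attached to some A-derivation B → L. -/
theorem result {A : Type u} {B C L : Type v} [CommRing A] [CommRing B] [CommRing C]
    [Algebra A B] [Algebra B C] [Algebra A C] [IsScalarTower A B C]
    [AddCommGroup L] [Module C L] [Module B L] [IsScalarTower B C L] [Module A L] [IsScalarTower A B L]
    [IsScalarTower A C L]
    (X : Exal.Ext B C L) :
    X.IsTrivialOver A ↔
      ∃ D : Derivation A B L, Nonempty (X.Equiv (Exal.Ext.ofDerivation (C := C) D)) := by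
  constructor
  · rintro ⟨s, hs⟩
    exact fwd X s hs
  · rintro ⟨D, ⟨e⟩⟩
    exact bwd X D e

end Groth.Agent.S5818
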