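import Groth.Statements.S17860
import Groth.Agent.Lib.Helper19.GenCoverBridge

set_option autoImplicit false
open CategoryTheory AlgebraicGeometry
universe u
open Algz

namespace Groth.Agent.S17860

/-- Let `R` be a commutative ring and `M` a finite `R`-module. Suppose `Spec R` is covered by opens `U
0, …, U (m-1)` (not necessarily affine) such that over each `U i` the restriction of the associated
sheaf of modules `M~` is a quotient of the free module of rank `n` (it is generated by `n` sections
over `U i`). Then `M` is generated by `n * m` elements. -/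
theorem result (R : CommRingCat.{u}) (M : ModuleCat.{u} R)
    [Module.Finite R M] (n m : ℕ) (U : Fin m → (Spec R).Opens) (hU : ⨆ i, U i = ⊤)
    (hgen : ∀ i, ∃ φ : FlatMod.freeMod (↑(U i)) n ⟶ (AlgebraicGeometry.tilde M).restrict (U i).ι, Epi φ) :
    ∃ s : Fin (n * m) → M, Submodule.span R (Set.range s) = ⊤ := by
  have H : ∀ (i : Fin m) (I : Ideal R),
      PrimeSpectrum.zeroLocus (I : Set R) ⊆ {p : PrimeSpectrum R | p ∈ U i} →
      ∃ t : Fin n → M, ∀ p : PrimeSpectrum R, I ≤ p.asIdeal →
        Groth.Agent.Helper19.GenCover.LocGen (Submodule.span R (Set.range t)) p := by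
    intro i I hI
    obtain ⟨φ, hφ⟩ := hgen i
    exact Groth.Agent.Helper19.GenCoverSheaf.exists_locGen_of_sections M (U i)
      (Groth.Agent.Helper19.GenCoverBridge.sec M (U i) φ)
      (Groth.Agent.Helper19.GenCoverBridge.LG_sec M (U i) φ) I (fun p hp => hI hp)
  refine Groth.Agent.Helper19.GenCover.exists_generators n m
    (fun i => {p : PrimeSpectrum R | p ∈ U i}) (fun i => (U i).isOpen) ?_ H
  intro p
  have hp : p ∈ (⨆ i, U i) := by rw [hU]; trivial
  obtain ⟨i, hi⟩ := TopologicalSpace.Opens.mem_iSup.1 hp
  exact ⟨i, hi⟩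

end Groth.Agent.S17860
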