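import Groth.Statements.S17862
-- import your own Groth.Agent.* helpers here
import Mathlib
import Groth.Agent.Lib.Helper89.PiPointsD

set_option autoImplicit false
open CategoryTheory AlgebraicGeometry
universe u
open Algz

namespace Groth.Agent.S17862


open Groth.Agent.Lib.Helper89.PiPointsB in
/-- Sheaf-level version: two maps from `h_{Spec (Π A i)}` to a sheaf with representable quasi-compact
diagonal which agree on all `Spec (A i)` are equal. -/
theorem aux (S : Scheme.{u}) (F : AlgSp.Sp S) (hqs : AlgSp.IsQuasiSeparatedSp F)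
    {ι : Type u} (A : ι → CommRingCat.{u}) (h : Spec (CommRingCat.of (∀ i, A i)) ⟶ S)
    (g g' : (AlgSp.yon S).obj (Over.mk h) ⟶ F)
    (hgg' : ∀ i, (AlgSp.yon S).map (Over.homMk (pr A i) rfl :
        Over.mk (pr A i ≫ h) ⟶ Over.mk h) ≫ g =
      (AlgSp.yon S).map (Over.homMk (pr A i) rfl : Over.mk (pr A i ≫ h) ⟶ Over.mk h) ≫ g') :
    g = g' := by
  classical
  have hrep : (AlgSp.yon S).relativelyRepresentable (Limits.diag F) := hqs.rep
  have hpb := hrep.isPullback (Limits.prod.lift g g')
  have hqcE : QuasiCompact (hrep.snd (Limits.prod.lift g g')).left :=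
    hqs.property_snd (Limits.prod.lift g g')
  -- the equalizer is a monomorphism
  have hm1 : Mono ((AlgSp.yon S).map (hrep.snd (Limits.prod.lift g g'))) := hpb.mono_snd_of_mono
  have hm2 : Mono (hrep.snd (Limits.prod.lift g g')) := (AlgSp.yon S).mono_of_mono_map hm1
  have hm3 : Mono (hrep.snd (Limits.prod.lift g g')).left := inferInstance
  haveI : CompactSpace ↥(Over.mk h).left :=
    inferInstanceAs (CompactSpace ↥(Spec (CommRingCat.of (∀ i, A i))))
  haveI : QuasiSeparatedSpace ↥(Over.mk h).left :=
    inferInstanceAs (QuasiSeparatedSpace ↥(Spec (CommRingCat.of (∀ i, A i))))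
  haveI : CompactSpace (hrep.pullback (Limits.prod.lift g g')).left :=
    QuasiCompact.compactSpace_of_compactSpace (hrep.snd (Limits.prod.lift g g')).left
  haveI : QuasiSeparatedSpace (hrep.pullback (Limits.prod.lift g g')).left :=
    quasiSeparatedSpace_of_quasiSeparated (hrep.snd (Limits.prod.lift g g')).left
  -- the projections factor through the equalizer
  have key : ∀ i, ∃ e : Spec (A i) ⟶ (hrep.pullback (Limits.prod.lift g g')).left,
      e ≫ (hrep.snd (Limits.prod.lift g g')).left = pr A i := by
    intro i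
    have hi : ((AlgSp.yon S).map (Over.homMk (pr A i) rfl :
        Over.mk (pr A i ≫ h) ⟶ Over.mk h) ≫ g) ≫ Limits.diag F =
        (AlgSp.yon S).map (Over.homMk (pr A i) rfl : Over.mk (pr A i ≫ h) ⟶ Over.mk h) ≫
          Limits.prod.lift g g' := by
      rw [Limits.prod.comp_diag, Limits.prod.comp_lift, ← hgg' i]
    refine ⟨(hrep.lift _ _ hi).left, ?_⟩
    rw [← Over.comp_left, hrep.lift_snd]
    rfl
  choose e he using key
  obtain ⟨s, hs⟩ := Groth.Agent.Lib.Helper89.PiPointsD.surj
    (hrep.pullback (Limits.prod.lift g g')).left A e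
  have hsec : s ≫ (hrep.snd (Limits.prod.lift g g')).left =
      𝟙 (Spec (CommRingCat.of (∀ i, A i))) := by
    apply Groth.Agent.Lib.Helper89.PiPointsC.inj _ A
    intro i
    rw [← Category.assoc, hs i, he i, Category.comp_id]
  have hw1 : (hrep.snd (Limits.prod.lift g g')).left ≫ h =
      (hrep.pullback (Limits.prod.lift g g')).hom := Over.w (hrep.snd (Limits.prod.lift g g'))
  let s' : Over.mk h ⟶ hrep.pullback (Limits.prod.lift g g') := Over.homMk s (by
    show s ≫ (hrep.pullback (Limits.prod.lift g g')).hom = h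
    rw [← hw1, ← Category.assoc, hsec, Category.id_comp])
  have hs' : s' ≫ hrep.snd (Limits.prod.lift g g') = 𝟙 (Over.mk h) := by
    apply Over.OverMorphism.ext
    exact hsec
  have hw := hpb.w
  rw [Limits.prod.comp_diag, Limits.prod.comp_lift] at hw
  have e1 := congrArg (fun φ => φ ≫ Limits.prod.fst) hw
  have e2 := congrArg (fun φ => φ ≫ Limits.prod.snd) hw
  simp only [Limits.prod.lift_fst, Limits.prod.lift_snd] at e1 e2
  have h2 : (AlgSp.yon S).map (hrep.snd (Limits.prod.lift g g')) ≫ g =
      (AlgSp.yon S).map (hrep.snd (Limits.prod.lift g g')) ≫ g' := by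
    rw [← e1, ← e2]
  calc g = (AlgSp.yon S).map s' ≫ (AlgSp.yon S).map (hrep.snd (Limits.prod.lift g g')) ≫ g := by
        rw [← Category.assoc, ← (AlgSp.yon S).map_comp, hs', (AlgSp.yon S).map_id, Category.id_comp]
    _ = (AlgSp.yon S).map s' ≫ (AlgSp.yon S).map (hrep.snd (Limits.prod.lift g g')) ≫ g' := by
        rw [h2]
    _ = g' := by
        rw [← Category.assoc, ← (AlgSp.yon S).map_comp, hs', (AlgSp.yon S).map_id, Category.id_comp]

/-- Let `S` be an affine scheme, `X` a quasi-compact and quasi-separated algebraic space over `S`, and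
`A i` a family of commutative rings indexed by an arbitrary type, with a morphism `h` from the
spectrum of the product ring to `S`. Two `S`-morphisms `Spec (Π i, A i) ⟶ X` that agree after
composition with every `Spec (A i) ⟶ Spec (Π i, A i)` are equal. (For schemes this is the
injectivity half of the corresponding bijection; the algebraic-space case is the one stated here.
Over an affine base, relative and absolute quasi-separatedness agree.) -/
theorem result (S : Scheme.{u}) [IsAffine S]
    (X : AlgSp.Space S) (hqc : AlgSp.IsQuasiCompactSp X.obj) (hqs : AlgSp.IsQuasiSeparatedSp X.obj)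
    {ι : Type u} (A : ι → CommRingCat.{u}) (h : Spec (CommRingCat.of (∀ i, A i)) ⟶ S) :
    Function.Injective (fun g : (AlgSp.ofScheme S).obj (Over.mk h) ⟶ X => fun i : ι =>
      (AlgSp.ofScheme S).map (Over.homMk
        (Spec.map (CommRingCat.ofHom (Pi.evalRingHom (fun j => (A j : Type u)) i)))
        rfl : Over.mk (Spec.map (CommRingCat.ofHom (Pi.evalRingHom (fun j => (A j : Type u)) i)) ≫ h) ⟶
          Over.mk h) ≫ g) := by
  intro g g' hgg'
  apply ObjectProperty.hom_ext
  exact aux S X.obj hqs A h g.hom g'.hom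
    (fun i => congrArg (fun φ => φ.hom) (congrFun hgg' i))

end Groth.Agent.S17862
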