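import Groth.Statements.S17867
-- import your own Groth.Agent.* helpers here
import Mathlib
import Groth.Agent.Lib.Helper89.NisGenB
import Groth.Agent.Lib.Helper54.FiniteFibre

set_option autoImplicit false
open CategoryTheory AlgebraicGeometry
universe u
open Algz

namespace Groth.Agent.S17867

open CategoryTheory.Limits in
/-- In the case of schemes. Let `R` be a commutative ring and `f : U ⟶ Spec R` a Nisnevich cover of
length at most `m`, with `U` a quasi-compact quasi-separated scheme, and let `M` be a finite
`R`-module. If the pullback `f^* M~` of the associated sheaf of modules is a quotient of the free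
module of rank `N` on `U` (it is generated by `N` global sections), then `M` is generated by `N * m`
elements. (Finite generation of `M` follows from the other hypotheses by faithfully flat descent and
is assumed here; the original form is for a Nisnevich cover by a quasi-compact quasi-separated
algebraic space, stated here for a scheme `U`.) -/
theorem result (R : CommRingCat.{u}) (M : ModuleCat.{u} R)
    [Module.Finite R M] {U : Scheme.{u}} [CompactSpace U] [QuasiSeparatedSpace U]
    (f : U ⟶ Spec R) (m N : ℕ) (hf : W4c5algebraiztannaka.IsNisCoverLen f m)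
    (hgen : ∃ φ : FlatMod.freeMod U N ⟶ (Scheme.Modules.pullback f).obj (AlgebraicGeometry.tilde M), Epi φ) :
    ∃ s : Fin (N * m) → M, Submodule.span R (Set.range s) = ⊤ := by
  obtain ⟨φ, hφ⟩ := hgen
  obtain ⟨Z, hZ0, hZm, -, hZc, hsec⟩ := hf.flag
  refine Groth.Agent.Lib.Helper89.NisGenA.exists_generators_of_flag (R := R) (M := M) N m Z hZ0 hZm
    (fun k => (hZc k).1) ?_
  intro k I hI
  obtain ⟨T, g, s, hg, hrange, hsf⟩ := hsec k
  let q : Spec (CommRingCat.of (R ⧸ I)) ⟶ Spec R :=
    Spec.map (CommRingCat.ofHom (Ideal.Quotient.mk I))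
  have hq_range : Set.range q = PrimeSpectrum.zeroLocus (I : Set R) := by
    have := _root_.range_comap_of_surjective (R ⧸ I) (Ideal.Quotient.mk I)
      Ideal.Quotient.mk_surjective
    rw [Ideal.mk_ker] at this
    exact this
  have hsnd_range : Set.range (pullback.snd g q) = Set.univ := by
    rw [Scheme.Pullback.range_snd, Set.eq_univ_iff_forall]
    intro x
    change q x ∈ Set.range g
    have h1 : Set.range g = Z k.succ \ Z k.castSucc := hrange
    rw [h1]
    exact hI (hq_range ▸ Set.mem_range_self x)
  have hcl : IsClosedImmersion (pullback.snd g q) :=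
    IsClosedImmersion.of_isPreimmersion _ (hsnd_range ▸ isClosed_univ)
  let i : pullback g q ⟶ Spec R := pullback.snd g q ≫ q
  have hi : IsClosedImmersion i := inferInstance
  obtain ⟨haff, hsurj⟩ := IsClosedImmersion.isAffine_surjective_of_isAffine i
  let R'' : CommRingCat.{u} := Γ(pullback g q, ⊤)
  let ψ : R ⟶ R'' := (Scheme.ΓSpecIso R).inv ≫ i.appTop
  have hi_eq : i = (pullback g q).isoSpec.hom ≫ Spec.map ψ :=
    Groth.Agent.Lib.Helper54.hom_eq_toSpecΓ_comp i
  have hψ : Function.Surjective ψ.hom := by
    change Function.Surjective ((Scheme.ΓSpecIso R).inv ≫ i.appTop).hom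
    rw [CommRingCat.hom_comp, RingHom.coe_comp]
    exact hsurj.comp (ConcreteCategory.bijective_of_isIso (Scheme.ΓSpecIso R).inv).2
  let σ : Spec R'' ⟶ U := (pullback g q).isoSpec.inv ≫ pullback.fst g q ≫ s
  have hσ : σ ≫ f = Spec.map ψ := by
    have h1 : Spec.map ψ = (pullback g q).isoSpec.inv ≫ i := by
      rw [hi_eq, Iso.inv_hom_id_assoc]
    rw [h1]
    simp only [σ, i, Category.assoc, hsf, pullback.condition]
  obtain ⟨t, ht⟩ := Groth.Agent.Lib.Helper89.NisGenB.exists_lift_of_section R M f N φ R'' ψ hψ σ hσ
  refine ⟨t, fun p hp => Groth.Agent.Lib.Helper89.NisGenA.locGen_of_mem_smul t (RingHom.ker ψ.hom)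
    ht p ?_⟩
  have hp' : p ∈ Set.range i := by
    have hpq : p ∈ Set.range q := by
      rw [hq_range]
      exact hp
    obtain ⟨y, rfl⟩ := hpq
    have hy : y ∈ Set.range (pullback.snd g q) := hsnd_range ▸ Set.mem_univ y
    obtain ⟨z, rfl⟩ := hy
    exact ⟨z, rfl⟩
  obtain ⟨y, rfl⟩ := hp'
  intro a ha
  rw [hi_eq]
  change ψ.hom a ∈ (((pullback g q).isoSpec.hom y : Spec R'') : PrimeSpectrum R'').asIdeal
  rw [RingHom.mem_ker.mp ha]
  exact zero_mem _

end Groth.Agent.S17867
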