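import Groth.Statements.S1998
import Mathlib.Algebra.Polynomial.Lifts

set_option autoImplicit false
universe u
open EtAlg

namespace Groth.Agent.S1998

/-- Let (A_j, I_j) be a directed system of henselian pairs (ring maps A_j -> A_k for j ≤ k carrying I_j
into I_k). Then the direct limit A of the A_j together with the ideal generated by the images of the
I_j is a henselian pair. -/
theorem result {ι : Type u} [Preorder ι] [IsDirected ι (· ≤ ·)] [Nonempty ι]
    (G : ι → Type u) [∀ i, CommRing (G i)] (f : ∀ i j, i ≤ j → G i →+* G j)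
    [DirectedSystem G fun i j h => f i j h] (I : ∀ i, Ideal (G i))
    (hI : ∀ i j (h : i ≤ j), (I i).map (f i j h) ≤ I j) (hh : ∀ i, HenselianRing (G i) (I i)) :
    HenselianRing (Ring.DirectLimit G fun i j h => f i j h)
      (⨆ i, (I i).map (Ring.DirectLimit.of G (fun i j h => f i j h) i)) := by
  classical
  set L := Ring.DirectLimit G fun i j h => f i j h with hL
  set φ : ∀ i, G i →+* L := fun i => Ring.DirectLimit.of G (fun i j h => f i j h) i with hφ
  set J : Ideal L := ⨆ i, (I i).map (φ i) with hJ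
  have hφf : ∀ i j (h : i ≤ j) (x : G i), φ j (f i j h x) = φ i x := fun i j h x =>
    Ring.DirectLimit.of_f (f := fun i j h => f i j h) h x
  have hff : ∀ i j k (hij : i ≤ j) (hjk : j ≤ k) (x : G i), f j k hjk (f i j hij x) = f i k (hij.trans hjk) x :=
    fun i j k hij hjk x => DirectedSystem.map_map' (f := f) hij hjk x
  have hImem : ∀ i j (h : i ≤ j) (x : G i), x ∈ I i → f i j h x ∈ I j := fun i j h x hx =>
    hI i j h (Ideal.mem_map_of_mem _ hx)
  -- the ideal of elements coming from some `I i`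
  let K : Ideal L :=
    { carrier := {x | ∃ i, ∃ y ∈ I i, φ i y = x}
      zero_mem' := by
        obtain ⟨i⟩ := ‹Nonempty ι›
        exact ⟨i, 0, (I i).zero_mem, map_zero _⟩
      add_mem' := by
        rintro _ _ ⟨i, y, hy, rfl⟩ ⟨j, z, hz, rfl⟩
        obtain ⟨k, hik, hjk⟩ := exists_ge_ge i j
        refine ⟨k, f i k hik y + f j k hjk z, (I k).add_mem (hImem _ _ _ _ hy) (hImem _ _ _ _ hz), ?_⟩
        rw [map_add, hφf, hφf]
      smul_mem' := by
        rintro c _ ⟨i, y, hy, rfl⟩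
        obtain ⟨j, z, rfl⟩ := Ring.DirectLimit.exists_of c
        obtain ⟨k, hik, hjk⟩ := exists_ge_ge i j
        refine ⟨k, f j k hjk z * f i k hik y, (I k).mul_mem_left _ (hImem _ _ _ _ hy), ?_⟩
        rw [map_mul, hφf, hφf]; rfl }
  have hJK : J ≤ K := by
    refine iSup_le fun i => ?_
    rw [Ideal.map_le_iff_le_comap]
    intro y hy
    exact ⟨i, y, hy, rfl⟩
  have hKJ : K ≤ J := by
    rintro _ ⟨i, y, hy, rfl⟩
    exact (le_iSup (fun i => (I i).map (φ i)) i) (Ideal.mem_map_of_mem _ hy)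
  -- equalities descend
  have hzero : ∀ i (x : G i), φ i x = 0 → ∃ j, ∃ h : i ≤ j, f i j h x = 0 := fun i x hx =>
    Ring.DirectLimit.of.zero_exact hx
  -- membership descends
  have hmem : ∀ i (x : G i), φ i x ∈ J → ∃ j, ∃ h : i ≤ j, f i j h x ∈ I j := by
    intro i x hx
    obtain ⟨k, y, hy, hxy⟩ := hJK hx
    obtain ⟨m, him, hkm⟩ := exists_ge_ge i k
    have h0 : φ m (f i m him x - f k m hkm y) = 0 := by
      rw [map_sub, hφf, hφf, hxy, sub_self]
    obtain ⟨j, hmj, hj⟩ := hzero m _ h0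
    refine ⟨j, him.trans hmj, ?_⟩
    rw [map_sub, sub_eq_zero, hff, hff] at hj
    rw [hj]
    exact hImem _ _ _ _ hy
  refine ⟨?_, ?_⟩
  · -- Jacobson radical
    intro x hx
    obtain ⟨i, y, hy, rfl⟩ := hJK hx
    rw [Ideal.mem_jacobson_bot]
    intro c
    obtain ⟨j, z, rfl⟩ := Ring.DirectLimit.exists_of c
    obtain ⟨k, hik, hjk⟩ := exists_ge_ge i j
    have h1 : IsUnit (f i k hik y * f j k hjk z + 1) :=
      Ideal.mem_jacobson_bot.mp ((hh k).jac (hImem _ _ _ _ hy)) _
    have := h1.map (φ k)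
    rwa [map_add, map_mul, hφf, hφf, map_one] at this
  · intro F hF a₀ h₁ h₂
    -- unpack the unit condition
    obtain ⟨c, hc⟩ := h₂.exists_right_inv
    obtain ⟨b, rfl⟩ := Ideal.Quotient.mk_surjective c
    have hb : F.derivative.eval a₀ * b - 1 ∈ J := by
      rw [← Ideal.Quotient.eq_zero_iff_mem, map_sub, map_mul, hc, map_one, sub_self]
    -- descend the data
    obtain ⟨i₀, P₀, hP₀⟩ := Ring.DirectLimit.Polynomial.exists_of F
    obtain ⟨Q₀, hQ₀, -, hQ₀m⟩ := Polynomial.lifts_and_natDegree_eq_and_monic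
      ((Polynomial.mem_lifts F).mpr ⟨P₀, hP₀⟩) hF
    obtain ⟨i₁, α₁, hα₁⟩ := Ring.DirectLimit.exists_of a₀
    obtain ⟨i₂, β₂, hβ₂⟩ := Ring.DirectLimit.exists_of b
    obtain ⟨i₃, h03, h13⟩ := exists_ge_ge i₀ i₁
    obtain ⟨i, h3i, h2i⟩ := exists_ge_ge i₃ i₂
    have h0i : i₀ ≤ i := h03.trans h3i
    have h1i : i₁ ≤ i := h13.trans h3i
    obtain ⟨Q, hQ⟩ : ∃ Q : Polynomial (G i), Q = Q₀.map (f i₀ i h0i) := ⟨_, rfl⟩
    obtain ⟨α, hα⟩ : ∃ α : G i, α = f i₁ i h1i α₁ := ⟨_, rfl⟩
    obtain ⟨β, hβ⟩ : ∃ β : G i, β = f i₂ i h2i β₂ := ⟨_, rfl⟩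
    have hQF : Q.map (φ i) = F := by
      rw [hQ, Polynomial.map_map, ← hQ₀]
      congr 1
      ext x
      exact hφf _ _ _ x
    have hαa : φ i α = a₀ := by rw [hα, hφf, hα₁]
    have hβb : φ i β = b := by rw [hβ, hφf, hβ₂]
    have hQmonic : Q.Monic := by rw [hQ]; exact hQ₀m.map _
    have hev : ∀ (R : Polynomial (G i)), φ i (R.eval α) = (R.map (φ i)).eval a₀ := by
      intro R
      rw [Polynomial.eval_map, ← hαa, Polynomial.eval₂_hom]
    have h₁' : φ i (Q.eval α) ∈ J := by rw [hev, hQF]; exact h₁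
    have hb' : φ i (Q.derivative.eval α * β - 1) ∈ J := by
      rw [map_sub, map_mul, hev, ← Polynomial.derivative_map, hQF, hβb, map_one]; exact hb
    obtain ⟨j, hij, hj⟩ := hmem i _ h₁'
    obtain ⟨j', hij', hj'⟩ := hmem i _ hb'
    obtain ⟨m, hjm, hj'm⟩ := exists_ge_ge j j'
    have him : i ≤ m := hij.trans hjm
    have hm1 : f i m him (Q.eval α) ∈ I m := by
      rw [← hff i j m hij hjm]; exact hImem _ _ _ _ hj
    have hm2 : f i m him (Q.derivative.eval α * β - 1) ∈ I m := by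
      rw [← hff i j' m hij' hj'm]; exact hImem _ _ _ _ hj'
    have hevm : ∀ (R : Polynomial (G i)), f i m him (R.eval α) = (R.map (f i m him)).eval (f i m him α) := by
      intro R
      rw [Polynomial.eval_map, Polynomial.eval₂_hom]
    have hunit : IsUnit (Ideal.Quotient.mk (I m)
        ((Q.map (f i m him)).derivative.eval (f i m him α))) := by
      refine IsUnit.of_mul_eq_one (Ideal.Quotient.mk (I m) (f i m him β)) ?_
      rw [← map_mul, ← map_one (Ideal.Quotient.mk (I m)), Ideal.Quotient.eq,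
        Polynomial.derivative_map, ← hevm, ← map_mul, ← map_one (f i m him), ← map_sub]
      exact hm2
    obtain ⟨r, hr1, hr2⟩ := (hh m).is_henselian (Q.map (f i m him)) (hQmonic.map _) (f i m him α)
      (by rw [← hevm]; exact hm1) hunit
    refine ⟨φ m r, ?_, ?_⟩
    · have : F = (Q.map (f i m him)).map (φ m) := by
        rw [Polynomial.map_map, ← hQF]
        congr 1
        ext x
        exact (hφf _ _ _ x).symm
      rw [Polynomial.IsRoot.def, this, Polynomial.eval_map, Polynomial.eval₂_hom, hr1, map_zero]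
    · have : φ m r - a₀ = φ m (r - f i m him α) := by
        rw [map_sub, hφf, hαa]
      rw [this]
      exact hKJ ⟨m, _, hr2, rfl⟩

end Groth.Agent.S1998
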