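import Groth.Statements.S9306
import Mathlib
import Groth.Agent.Lib.Helper9.UnramBridge

set_option autoImplicit false
universe u
open EtRam

namespace Groth.Agent.S9306

open Groth.Agent.Lib.Helper9.UnramBridge Groth.Agent.Lib.Helper9 IsLocalRing TensorProduct

/-- The integral closure of a DVR in a finite separable unramified extension is étale. -/
theorem etale_integralClosure (A K K' : Type u) [CommRing A] [IsDomain A]
    [IsDiscreteValuationRing A] [Field K] [Field K'] [Algebra A K] [IsFractionRing A K]
    [Algebra K K'] [FiniteDimensional K K'] [Algebra.IsSeparable K K'] [Algebra A K']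
    [IsScalarTower A K K'] (h : EtRam.IsUnramifiedExt A (algebraMap A K')) :
    Algebra.Etale A (integralClosure A K') := by
  haveI : IsDedekindDomain (integralClosure A K') := integralClosure.isDedekindDomain A K K'
  haveI : Module.Finite A (integralClosure A K') :=
    IsIntegralClosure.finite A K K' (integralClosure A K')
  haveI : IsFractionRing (integralClosure A K') K' :=
    integralClosure.isFractionRing_of_finite_extension K K'
  have hinjA' : Function.Injective (algebraMap A (integralClosure A K')) := by
    intro a b hab
    have h1 : algebraMap A K' a = algebraMap A K' b := by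
      rw [IsScalarTower.algebraMap_apply A (integralClosure A K') K', hab,
        ← IsScalarTower.algebraMap_apply]
    rw [IsScalarTower.algebraMap_apply A K K', IsScalarTower.algebraMap_apply A K K'] at h1
    exact IsFractionRing.injective A K ((algebraMap K K').injective h1)
  haveI : Algebra.FormallyUnramified A (integralClosure A K') :=
    formallyUnramified_of_isUnramifiedExt_global A (integralClosure A K') hinjA' h
  haveI : Module.IsTorsionFree A (integralClosure A K') :=
    Module.isTorsionFree_iff_algebraMap_injective.mpr hinjA'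
  haveI : Module.Flat A (integralClosure A K') := inferInstance
  haveI : Algebra.FinitePresentation A (integralClosure A K') :=
    Algebra.FinitePresentation.of_finiteType.mp inferInstance
  exact Algebra.Etale.of_formallyUnramified_of_flat

set_option maxHeartbeats 1000000 in
/-- Transfer of unramifiedness along a local map `χ : C → V` from an unramified DVR `C` over `B` whose
image generates the ambient field. -/
theorem transfer (B C F : Type u) [CommRing B] [IsDomain B] [IsDiscreteValuationRing B]
    [CommRing C] [IsDomain C] [IsDiscreteValuationRing C] [Algebra B C]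
    [Algebra.EssFiniteType B C] [Algebra.FormallyUnramified B C]
    [Field F] (V : ValuationSubring F) [Algebra B V] [IsLocalHom (algebraMap B V)]
    (χ : C →+* V) (hχB : ∀ b, χ (algebraMap B C b) = algebraMap B V b)
    (hBVinj : Function.Injective (algebraMap B V))
    (hmaxC : maximalIdeal C = (maximalIdeal B).map (algebraMap B C))
    (hgen : ∀ E : Subfield F, (∀ c : C, ((χ c : V) : F) ∈ E) → E = ⊤) :
    EtRam.IsWeaklyUnramified B V ∧
      Algebra.IsSeparable (ResidueField B) (ResidueField V) := by
  classical
  obtain ⟨π, hπ⟩ := IsDiscreteValuationRing.exists_irreducible B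
  haveI hlocBC : IsLocalHom (algebraMap B C) := by
    refine ⟨fun b hb => ?_⟩
    have hb' : IsUnit (χ (algebraMap B C b)) := hb.map χ
    rw [hχB] at hb'
    exact isUnit_of_map_unit (algebraMap B V) b hb'
  have hϖirr : Irreducible (algebraMap B C π) := by
    rw [IsDiscreteValuationRing.irreducible_iff_uniformizer, hmaxC, hπ.maximalIdeal_eq,
      Ideal.map_span, Set.image_singleton]
  have hχϖ : ¬ IsUnit (χ (algebraMap B C π)) := by
    rw [hχB]
    exact map_nonunit (algebraMap B V) π
      (by rw [hπ.maximalIdeal_eq]; exact Ideal.mem_span_singleton_self π)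
  have hχϖ0 : χ (algebraMap B C π) ≠ 0 := by
    rw [hχB]
    intro h0
    exact hπ.ne_zero (hBVinj (by rw [h0, map_zero]))
  have hχinj : Function.Injective χ := by
    rw [injective_iff_map_eq_zero]
    intro c hc
    by_contra hc0
    obtain ⟨n, u, hu⟩ := IsDiscreteValuationRing.eq_unit_mul_pow_irreducible hc0 hϖirr
    rw [hu, map_mul, map_pow] at hc
    rcases mul_eq_zero.mp hc with h1 | h1
    · exact (u.isUnit.map χ).ne_zero h1
    · exact hχϖ0 (pow_eq_zero_iff (M₀ := V) (n := n) (fun hn => by
        rw [hn, pow_zero] at h1; exact one_ne_zero h1) |>.mp h1)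
  haveI hlocχ : IsLocalHom χ := by
    refine ⟨fun c hc => ?_⟩
    by_contra hnu
    have hcm : c ∈ maximalIdeal C := hnu
    rw [hϖirr.maximalIdeal_eq, Ideal.mem_span_singleton] at hcm
    obtain ⟨c', rfl⟩ := hcm
    rw [map_mul] at hc
    exact hχϖ (isUnit_of_mul_isUnit_left hc)
  -- the fraction field of `C` maps isomorphically onto `F`
  let χF : C →+* F := V.subtype.comp χ
  have hχF : ∀ c, χF c = ((χ c : V) : F) := fun c => rfl
  have hχFinj : Function.Injective χF := fun a b hab => hχinj (Subtype.ext hab)
  let χK : FractionRing C →+* F := IsFractionRing.lift hχFinj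
  have hχK : ∀ c, χK (algebraMap C _ c) = χF c :=
    fun c => IsFractionRing.lift_algebraMap hχFinj c
  have htop : χK.fieldRange = ⊤ := by
    apply hgen
    intro c
    exact ⟨algebraMap C _ c, by rw [hχK, hχF]⟩
  have hχsurj : Function.Surjective χ := by
    intro v
    have hv : (v : F) ∈ χK.fieldRange := by rw [htop]; trivial
    obtain ⟨x, hx⟩ := hv
    rcases ValuationRing.isInteger_or_isInteger C x with ⟨c, hc⟩ | ⟨c, hc⟩
    · refine ⟨c, Subtype.ext ?_⟩
      rw [← hx, ← hc, hχK, hχF]
    · by_cases hx0 : x = 0
      · refine ⟨0, Subtype.ext ?_⟩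
        rw [map_zero, ← hx, hx0, map_zero]
        rfl
      · have h1 : χF c * (v : F) = 1 := by
          rw [← hx, ← hχK, hc, ← map_mul, inv_mul_cancel₀ hx0, map_one]
        have hunit : IsUnit (χ c) := by
          refine IsUnit.of_mul_eq_one v (Subtype.ext ?_)
          exact h1
        have hcu : IsUnit c := isUnit_of_map_unit χ c hunit
        obtain ⟨d, hd⟩ := hcu.exists_right_inv
        refine ⟨d, Subtype.ext ?_⟩
        have h2 : χF c * χF d = 1 := by rw [← map_mul, hd, map_one]
        have hc0 : χF c ≠ 0 := left_ne_zero_of_mul_eq_one h1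
        exact mul_left_cancel₀ hc0 (h2.trans h1.symm)
  constructor
  · show (maximalIdeal B).map (algebraMap B V) = maximalIdeal V
    apply le_antisymm
    · exact Ideal.map_le_iff_le_comap.mpr (fun b hb => map_nonunit (algebraMap B V) b hb)
    · intro v hv
      obtain ⟨c, rfl⟩ := hχsurj v
      have hc : c ∈ maximalIdeal C := by
        by_contra hnc
        have hcu : IsUnit c := by rwa [mem_maximalIdeal, mem_nonunits_iff, not_not] at hnc
        exact hv (hcu.map χ)
      rw [hmaxC] at hc
      have hmem := Ideal.mem_map_of_mem χ hc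
      rw [Ideal.map_map] at hmem
      have hcomp : χ.comp (algebraMap B C) = algebraMap B V := RingHom.ext hχB
      rwa [hcomp] at hmem
  · haveI hsepC : Algebra.IsSeparable (ResidueField B) (ResidueField C) := inferInstance
    let e : C ≃+* V := RingEquiv.ofBijective χ ⟨hχinj, hχsurj⟩
    have he : ∀ c, e c = χ c := fun c => rfl
    let f : ResidueField V →ₐ[ResidueField B] ResidueField C :=
      { toRingHom := ResidueField.map ((e.symm : V ≃+* C) : V →+* C)
        commutes' := by
          intro x
          obtain ⟨b, rfl⟩ := residue_surjective x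
          show ResidueField.map _ (ResidueField.map (algebraMap B V) (residue B b)) =
            ResidueField.map (algebraMap B C) (residue B b)
          rw [ResidueField.map_residue, ResidueField.map_residue, ResidueField.map_residue]
          congr 1
          show e.symm (algebraMap B V b) = _
          rw [← hχB, ← he, RingEquiv.symm_apply_apply] }
    exact Algebra.IsSeparable.of_algHom (ResidueField B) (ResidueField C) f

set_option maxHeartbeats 4000000 in
/-- Core of the argument, with the compositum `F` given through two compatible embeddings. -/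
theorem core (A B K L K' F : Type u) [CommRing A] [IsDomain A]
    [IsDiscreteValuationRing A] [CommRing B] [IsDomain B] [IsDiscreteValuationRing B] [Algebra A B]
    [IsLocalHom (algebraMap A B)]
    [Field K] [Field L] [Field K'] [Field F] [Algebra A K] [IsFractionRing A K] [Algebra B L]
    [IsFractionRing B L] [Algebra K L] [Algebra A L] [IsScalarTower A K L] [IsScalarTower A B L]
    [Algebra K K'] [FiniteDimensional K K'] [Algebra.IsSeparable K K'] [Algebra A K']
    [IsScalarTower A K K'] (h : EtRam.IsUnramifiedExt A (algebraMap A K'))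
    (iK' : K' →+* F) (iL : L →+* F)
    (hcompat : iK'.comp (algebraMap K K') = iL.comp (algebraMap K L))
    (hgen : ∀ E : Subfield F, Set.range iK' ⊆ E → Set.range iL ⊆ E → E = ⊤) :
    EtRam.IsUnramifiedExt B (iL.comp (algebraMap B L)) := by
  classical
  intro V hdom
  intro hlocBV
  letI algBV : Algebra B V :=
    (RingHom.codRestrict (iL.comp (algebraMap B L)) V hdom.1).toAlgebra
  have halgBV : ∀ b : B, ((algebraMap B V b : V) : F) = iL (algebraMap B L b) := fun b => rfl
  show @EtRam.IsWeaklyUnramified B V _ _ _ _ algBV ∧
    @Algebra.IsSeparable (ResidueField B) (ResidueField V) _ _ _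
  -- the étale algebra `A'`
  haveI hAet : Algebra.Etale A (integralClosure A K') := etale_integralClosure A K K' h
  haveI hBet : Algebra.Etale B (B ⊗[A] integralClosure A K') := inferInstance
  -- maps to `F`
  letI algAF : Algebra A F := ((iL.comp (algebraMap B L)).comp (algebraMap A B)).toAlgebra
  let gB : B →ₐ[A] F := { toRingHom := iL.comp (algebraMap B L), commutes' := fun a => rfl }
  have hgA' : ∀ a : A, iK' (algebraMap (integralClosure A K') K'
      (algebraMap A (integralClosure A K') a)) = algebraMap A F a := by
    intro a
    rw [← IsScalarTower.algebraMap_apply A (integralClosure A K') K',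
      IsScalarTower.algebraMap_apply A K K']
    have := RingHom.congr_fun hcompat (algebraMap A K a)
    rw [RingHom.comp_apply, RingHom.comp_apply] at this
    rw [this, ← IsScalarTower.algebraMap_apply A K L, IsScalarTower.algebraMap_apply A B L]
    rfl
  let gA' : integralClosure A K' →ₐ[A] F :=
    { toRingHom := iK'.comp (algebraMap (integralClosure A K') K'), commutes' := hgA' }
  let Ψ : B ⊗[A] integralClosure A K' →ₐ[A] F := Algebra.TensorProduct.productMap gB gA'
  have hΨ : ∀ (b : B) (a' : integralClosure A K'), Ψ (b ⊗ₜ a') = gB b * gA' a' :=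
    fun b a' => Algebra.TensorProduct.productMap_apply_tmul gB gA' b a'
  -- `Ψ` lands in `V`
  have hgBV : ∀ b : B, gB b ∈ V := fun b => hdom.1 b
  have hgA'V : ∀ a' : integralClosure A K', gA' a' ∈ V := by
    intro a'
    have hint : IsIntegral A (gA' a') := (Algebra.IsIntegral.isIntegral (R := A) a').map gA'
    obtain ⟨p, hp, hpx⟩ := hint
    have hVint : IsIntegral V (gA' a') := by
      refine ⟨p.map ((algebraMap B V).comp (algebraMap A B)), hp.map _, ?_⟩
      rw [Polynomial.eval₂_map]
      have : (algebraMap V F).comp ((algebraMap B V).comp (algebraMap A B)) = algebraMap A F := by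
        ext a
        rfl
      rw [this]
      exact hpx
    obtain ⟨y, hy⟩ := (isIntegrallyClosed_iff F).mp (inferInstance : IsIntegrallyClosed V) hVint
    rw [← hy]
    exact y.2
  have hΨV : ∀ t : B ⊗[A] integralClosure A K', Ψ t ∈ V := by
    intro t
    induction t using TensorProduct.induction_on with
    | zero => rw [map_zero]; exact V.zero_mem
    | tmul b a' => rw [hΨ]; exact mul_mem (hgBV b) (hgA'V a')
    | add x y hx hy => rw [map_add]; exact add_mem hx hy
  let ΨV : B ⊗[A] integralClosure A K' →+* V := (Ψ : _ →+* F).codRestrict V hΨV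
  have hΨV_coe : ∀ t, ((ΨV t : V) : F) = Ψ t := fun t => rfl
  let 𝔮 : Ideal (B ⊗[A] integralClosure A K') := (maximalIdeal V).comap ΨV
  haveI h𝔮 : 𝔮.IsPrime := Ideal.comap_isPrime ΨV (maximalIdeal V)
  have hunits : ∀ y : 𝔮.primeCompl, IsUnit (ΨV y) := by
    intro y
    by_contra hnu
    exact y.2 hnu
  let χ : Localization.AtPrime 𝔮 →+* V := IsLocalization.lift (M := 𝔮.primeCompl) hunits
  have hχ : ∀ t, χ (algebraMap _ (Localization.AtPrime 𝔮) t) = ΨV t :=
    fun t => IsLocalization.lift_eq hunits t
  -- compatibility with `B`
  have hBV : ∀ b : B, ΨV (algebraMap B (B ⊗[A] integralClosure A K') b) = algebraMap B V b := by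
    intro b
    apply Subtype.ext
    rw [hΨV_coe, halgBV, Algebra.TensorProduct.algebraMap_apply, Algebra.algebraMap_self,
      RingHom.id_apply, hΨ, map_one, mul_one]
    rfl
  have hχB : ∀ b : B, χ (algebraMap B (Localization.AtPrime 𝔮) b) = algebraMap B V b := by
    intro b
    rw [IsScalarTower.algebraMap_apply B (B ⊗[A] integralClosure A K') (Localization.AtPrime 𝔮),
      hχ, hBV]
  have hBVinj : Function.Injective (algebraMap B V) := by
    intro b₁ b₂ hb
    have h1 := congrArg Subtype.val hb
    rw [halgBV, halgBV] at h1
    exact IsFractionRing.injective B L (iL.injective h1)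
  -- `𝔮` lies over the maximal ideal of `B`
  have hunder : 𝔮.under B = maximalIdeal B := by
    ext b
    rw [Ideal.under_def, Ideal.mem_comap]
    show ΨV (algebraMap B _ b) ∈ maximalIdeal V ↔ _
    rw [hBV]
    constructor
    · intro hb
      by_contra hnb
      have hu : IsUnit b := by
        rw [mem_maximalIdeal, mem_nonunits_iff, not_not] at hnb
        exact hnb
      exact hb (hu.map (algebraMap B V))
    · intro hb
      exact map_nonunit (algebraMap B V) b hb
  -- `C = B'_𝔮` is a DVR
  haveI hCdom : IsDomain (Localization.AtPrime 𝔮) :=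
    isDomain_localization_of_etale B (B ⊗[A] integralClosure A K') 𝔮
  have hmaxC : maximalIdeal (Localization.AtPrime 𝔮) =
      (maximalIdeal B).map (algebraMap B (Localization.AtPrime 𝔮)) := by
    rw [← hunder]
    exact maximalIdeal_eq_map_under_of_etale B (B ⊗[A] integralClosure A K') 𝔮
  obtain ⟨π, hπ⟩ := IsDiscreteValuationRing.exists_irreducible B
  have hπC0 : algebraMap B (Localization.AtPrime 𝔮) π ≠ 0 := by
    intro h0
    have := hχB π
    rw [h0, map_zero] at this
    exact hπ.ne_zero (hBVinj (by rw [← this, map_zero]))
  have hnfC : ¬ IsField (Localization.AtPrime 𝔮) := by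
    rw [IsLocalRing.isField_iff_maximalIdeal_eq, hmaxC, hπ.maximalIdeal_eq, Ideal.map_span,
      Set.image_singleton, Ideal.span_singleton_eq_bot]
    exact hπC0
  obtain ⟨_, hCdvr⟩ :=
    isDiscreteValuationRing_localization_of_etale B (B ⊗[A] integralClosure A K') 𝔮 hnfC
  haveI := hCdvr
  haveI : Algebra.EssFiniteType (B ⊗[A] integralClosure A K') (Localization.AtPrime 𝔮) :=
    Algebra.EssFiniteType.of_isLocalization _ 𝔮.primeCompl
  haveI : Algebra.EssFiniteType B (Localization.AtPrime 𝔮) :=
    Algebra.EssFiniteType.comp B (B ⊗[A] integralClosure A K') (Localization.AtPrime 𝔮)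
  haveI : Algebra.FormallyUnramified (B ⊗[A] integralClosure A K') (Localization.AtPrime 𝔮) :=
    Algebra.FormallyUnramified.of_isLocalization 𝔮.primeCompl
  haveI : Algebra.FormallyUnramified B (Localization.AtPrime 𝔮) :=
    Algebra.FormallyUnramified.comp B (B ⊗[A] integralClosure A K') (Localization.AtPrime 𝔮)
  haveI : IsFractionRing (integralClosure A K') K' :=
    integralClosure.isFractionRing_of_finite_extension K K'
  refine transfer B (Localization.AtPrime 𝔮) F V χ hχB hBVinj hmaxC ?_
  intro E hE
  have hrangeA' : ∀ a' : integralClosure A K',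
      iK' (algebraMap (integralClosure A K') K' a') ∈ E := by
    intro a'
    have := hE (algebraMap _ (Localization.AtPrime 𝔮) ((1 : B) ⊗ₜ[A] a'))
    rw [hχ, hΨV_coe, hΨ, map_one, one_mul] at this
    exact this
  have hrangeB : ∀ b : B, iL (algebraMap B L b) ∈ E := by
    intro b
    have := hE (algebraMap B (Localization.AtPrime 𝔮) b)
    rw [hχB, halgBV] at this
    exact this
  apply hgen
  · rintro _ ⟨k', rfl⟩
    obtain ⟨a', s, _, rfl⟩ := IsFractionRing.div_surjective (A := integralClosure A K') k'
    rw [map_div₀]
    exact div_mem (hrangeA' a') (hrangeA' s)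
  · rintro _ ⟨l, rfl⟩
    obtain ⟨b, s, _, rfl⟩ := IsFractionRing.div_surjective (A := B) l
    rw [map_div₀]
    exact div_mem (hrangeB b) (hrangeB s)

open TensorProduct in
/-- Let A → B be an injective local homomorphism of discrete valuation rings with fraction fields K ⊆ L,
and let K' be a finite separable extension of K that is unramified relative to A. Then every field F
onto which K' ⊗_K L surjects is, as an extension of L, unramified relative to B. (The published
statement also records that K' ⊗_K L is a finite product of fields, whose factors are these F; this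
row does not state that part.) -/
theorem result (A B K L K' : Type u) [CommRing A] [IsDomain A]
    [IsDiscreteValuationRing A] [CommRing B] [IsDomain B] [IsDiscreteValuationRing B] [Algebra A B]
    [IsLocalHom (algebraMap A B)] (hinj : Function.Injective (algebraMap A B))
    [Field K] [Field L] [Field K'] [Algebra A K] [IsFractionRing A K] [Algebra B L] [IsFractionRing B L]
    [Algebra K L] [Algebra A L] [IsScalarTower A K L] [IsScalarTower A B L]
    [Algebra K K'] [FiniteDimensional K K'] [Algebra.IsSeparable K K']
    (h : EtRam.IsUnramifiedExt A ((algebraMap K K').comp (algebraMap A K)))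
    (F : Type u) [Field F] [Algebra (K' ⊗[K] L) F] (hF : Function.Surjective (algebraMap (K' ⊗[K] L) F)) :
    EtRam.IsUnramifiedExt B ((algebraMap (K' ⊗[K] L) F).comp
      ((Algebra.TensorProduct.includeRight : L →ₐ[K] K' ⊗[K] L).toRingHom.comp (algebraMap B L))) := by
  letI algAK' : Algebra A K' := ((algebraMap K K').comp (algebraMap A K)).toAlgebra
  haveI : IsScalarTower A K K' := IsScalarTower.of_algebraMap_eq (fun _ => rfl)
  have h' : EtRam.IsUnramifiedExt A (algebraMap A K') := h
  let iK' : K' →+* F := (algebraMap (K' ⊗[K] L) F).comp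
    (Algebra.TensorProduct.includeLeft : K' →ₐ[K] K' ⊗[K] L).toRingHom
  let iL : L →+* F := (algebraMap (K' ⊗[K] L) F).comp
    (Algebra.TensorProduct.includeRight : L →ₐ[K] K' ⊗[K] L).toRingHom
  have hcompat : iK'.comp (algebraMap K K') = iL.comp (algebraMap K L) := by
    ext c
    show algebraMap (K' ⊗[K] L) F ((algebraMap K K' c) ⊗ₜ[K] (1 : L)) =
      algebraMap (K' ⊗[K] L) F ((1 : K') ⊗ₜ[K] (algebraMap K L c))
    congr 1
    rw [Algebra.algebraMap_eq_smul_one, Algebra.algebraMap_eq_smul_one, TensorProduct.smul_tmul]
  have hgen : ∀ E : Subfield F, Set.range iK' ⊆ E → Set.range iL ⊆ E → E = ⊤ := by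
    intro E h1 h2
    have key : ∀ t : K' ⊗[K] L, algebraMap (K' ⊗[K] L) F t ∈ E := by
      intro t
      induction t using TensorProduct.induction_on with
      | zero => rw [map_zero]; exact E.zero_mem
      | tmul k' l =>
        have hkl : (k' ⊗ₜ[K] l : K' ⊗[K] L) = (k' ⊗ₜ[K] (1 : L)) * ((1 : K') ⊗ₜ[K] l) := by
          rw [Algebra.TensorProduct.tmul_mul_tmul, mul_one, one_mul]
        rw [hkl, map_mul]
        exact mul_mem (h1 ⟨k', rfl⟩) (h2 ⟨l, rfl⟩)
      | add x y hx hy => rw [map_add]; exact add_mem hx hy
    rw [eq_top_iff]
    intro x _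
    obtain ⟨t, rfl⟩ := hF x
    exact key t
  exact core A B K L K' F h' iK' iL hcompat hgen

end Groth.Agent.S9306
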