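import Groth.Statements.S9329
import Mathlib
import Groth.Agent.Lib.Helper9.AbhyankarCore

set_option autoImplicit false
universe u
open EtRam

namespace Groth.Agent.S9329

open Polynomial IsLocalRing TensorProduct Groth.Agent.Lib.Helper9
  Groth.Agent.Lib.Helper9.AbhyankarCore Groth.Agent.Lib.Helper9.TameBase
  Groth.Agent.Lib.Helper9.DVRExt

section Helpers

variable {A K L : Type u} [CommRing A] [IsDomain A] [IsDiscreteValuationRing A] [Field K]
  [Algebra A K] [IsFractionRing A K] [Field L] [Algebra K L] [Algebra A L] [IsScalarTower A K L]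
  [FiniteDimensional K L] [Algebra.IsSeparable K L]

include K in
/-- A common multiple of all ramification indices, invertible in the residue field. -/
theorem exists_e0 (h : IsTamelyRamified A (algebraMap A L)) {π : A} (hπ : Irreducible π) :
    ∃ e₀ : ℕ, 0 < e₀ ∧ (e₀ : ResidueField A) ≠ 0 ∧
      (∀ (V : ValuationSubring L) (hdom : Dominates A (algebraMap A L) V),
        eV (algebraMap A L) V hdom ∣ e₀) ∧
      (∀ (V : ValuationSubring L) (hdom : Dominates A (algebraMap A L) V),
        (eV (algebraMap A L) V hdom : ResidueField A) ≠ 0) := by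
  classical
  haveI : Finite {V : ValuationSubring L // Dominates A (algebraMap A L) V} :=
    (finite_dominating A K).to_subtype
  letI := Fintype.ofFinite {V : ValuationSubring L // Dominates A (algebraMap A L) V}
  have hne0 : ∀ (V : ValuationSubring L) (hdom : Dominates A (algebraMap A L) V),
      eV (algebraMap A L) V hdom ≠ 0 := fun V hdom =>
    (structure_at (K := K) V hdom hπ).choose_spec.1
  have hne : ∀ (V : ValuationSubring L) (hdom : Dominates A (algebraMap A L) V),
      (eV (algebraMap A L) V hdom : ResidueField A) ≠ 0 := by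
    intro V hdom
    letI algV : Algebra A V := (RingHom.codRestrict (algebraMap A L) V hdom.1).toAlgebra
    haveI hlocV : IsLocalHom (algebraMap A V) := isLocalHom_of_dominates _ V hdom
    obtain ⟨-, hp⟩ := @h V hdom hlocV
    intro hz
    have hchar := (CharP.cast_eq_zero_iff (ResidueField A) (ringChar (ResidueField A))
      (eV (algebraMap A L) V hdom)).mp hz
    rcases CharP.char_is_prime_or_zero (ResidueField A) (ringChar (ResidueField A)) with hpr | h0
    · exact hp _ hpr inferInstance hchar
    · rw [h0, zero_dvd_iff] at hchar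
      exact hne0 V hdom hchar
  refine ⟨∏ x : {V : ValuationSubring L // Dominates A (algebraMap A L) V},
    eV (algebraMap A L) x.1 x.2, ?_, ?_, ?_, hne⟩
  · exact Finset.prod_pos (fun x _ => Nat.pos_of_ne_zero (hne0 x.1 x.2))
  · rw [Nat.cast_prod]
    exact Finset.prod_ne_zero_iff.mpr (fun x _ => hne x.1 x.2)
  · intro V hdom
    exact Finset.dvd_prod_of_mem
      (fun x : {V : ValuationSubring L // Dominates A (algebraMap A L) V} =>
        eV (algebraMap A L) x.1 x.2) (Finset.mem_univ ⟨V, hdom⟩)

set_option maxHeartbeats 2000000 in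
/-- The field `L(π^{1/e})`. -/
theorem exists_kummer_ext {π : A} (hπ : Irreducible π) (e : ℕ) (he : 0 < e)
    (hres : (e : ResidueField A) ≠ 0) :
    ∃ (L' : Type u) (_ : Field L') (_ : Algebra K L')
      (g' : AdjoinRoot (X ^ e - C π : A[X]) →+* L') (iL : L →ₐ[K] L'),
      FiniteDimensional K L' ∧ Algebra.IsSeparable K L' ∧
      (∀ a, g' (AdjoinRoot.of _ a) = algebraMap K L' (algebraMap A K a)) ∧
      (∀ E : Subfield L', (∀ l, iL l ∈ E) → g' (AdjoinRoot.root _) ∈ E → E = ⊤) := by
  classical
  obtain ⟨hmonic, hnat, hE⟩ := eisenstein_X_pow_sub_C hπ e he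
  have hpos : 0 < (X ^ e - C π : A[X]).natDegree := by rw [hnat]; exact he
  have heA : ((e : ℕ) : A) ≠ 0 := by
    intro h0
    apply hres
    rw [← map_natCast (residue A), h0, map_zero]
  have heK : ((e : ℕ) : K) ≠ 0 := by
    rw [← map_natCast (algebraMap A K)]
    intro h0
    exact heA (IsFractionRing.injective A K (by rw [h0, map_zero]))
  have hπK : algebraMap A K π ≠ 0 := fun h0 =>
    hπ.ne_zero (IsFractionRing.injective A K (by rw [h0, map_zero]))
  have hsepF : ((X ^ e - C π : A[X]).map (algebraMap A K)).Separable := by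
    rw [Polynomial.map_sub, Polynomial.map_pow, map_X, map_C]
    exact separable_X_pow_sub_C _ heK hπK
  obtain ⟨K', iF, iKK', iAK', itow, j, hfin, hsepK', -, -, hjof, hjinj, hjgen⟩ :=
    EisensteinField.exists_ext' A K (X ^ e - C π : A[X]) hmonic hE hpos hsepF
  haveI : FiniteDimensional K K' := Module.finite_of_finrank_pos (by rw [hfin, hnat]; exact he)
  haveI : Nontrivial (L ⊗[K] K') :=
    Algebra.TensorProduct.nontrivial_of_algebraMap_injective_of_flat_left (R := K) L K'
      (algebraMap K K').injective
  obtain ⟨𝔐, h𝔐⟩ := Ideal.exists_maximal (L ⊗[K] K')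
  letI fL' : Field ((L ⊗[K] K') ⧸ 𝔐) := Ideal.Quotient.field 𝔐
  let iK' : K' →+* (L ⊗[K] K') ⧸ 𝔐 := (Ideal.Quotient.mk 𝔐).comp
    (Algebra.TensorProduct.includeRight : K' →ₐ[K] L ⊗[K] K').toRingHom
  let g' : AdjoinRoot (X ^ e - C π : A[X]) →+* (L ⊗[K] K') ⧸ 𝔐 := iK'.comp j
  let iL : L →ₐ[K] (L ⊗[K] K') ⧸ 𝔐 := (Ideal.Quotient.mkₐ K 𝔐).comp
    (Algebra.TensorProduct.includeLeft : L →ₐ[K] L ⊗[K] K')
  haveI : Algebra.FormallyUnramified K L := Algebra.FormallyUnramified.of_isSeparable K L
  haveI : Algebra.FormallyUnramified K K' := Algebra.FormallyUnramified.of_isSeparable K K'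
  haveI : Algebra.FormallyUnramified L (L ⊗[K] K') := inferInstance
  haveI : Algebra.FormallyUnramified K (L ⊗[K] K') :=
    Algebra.FormallyUnramified.comp K L (L ⊗[K] K')
  haveI : Algebra.FormallyUnramified K ((L ⊗[K] K') ⧸ 𝔐) :=
    Algebra.FormallyUnramified.of_surjective (Ideal.Quotient.mkₐ K 𝔐)
      Ideal.Quotient.mk_surjective
  haveI : Module.Finite K (L ⊗[K] K') := inferInstance
  haveI hfdL' : Module.Finite K ((L ⊗[K] K') ⧸ 𝔐) :=
    Module.Finite.of_surjective (Ideal.Quotient.mkₐ K 𝔐).toLinearMap Ideal.Quotient.mk_surjective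
  have hsepL' : Algebra.IsSeparable K ((L ⊗[K] K') ⧸ 𝔐) :=
    Algebra.FormallyUnramified.isSeparable K _
  refine ⟨(L ⊗[K] K') ⧸ 𝔐, fL', inferInstance, g', iL, hfdL', hsepL', fun a => ?_,
    fun E hEL hEroot => ?_⟩
  · show Ideal.Quotient.mk 𝔐 ((1 : L) ⊗ₜ[K] j (AdjoinRoot.of _ a)) = _
    rw [hjof, IsScalarTower.algebraMap_apply A K K', Algebra.algebraMap_eq_smul_one (A := K'),
      TensorProduct.tmul_smul, ← Algebra.TensorProduct.one_def, ← Algebra.algebraMap_eq_smul_one,
      ← Ideal.Quotient.algebraMap_eq, ← IsScalarTower.algebraMap_apply]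
  · -- generation
    have hg'of : ∀ a, g' (AdjoinRoot.of _ a) ∈ E := by
      intro a
      have h1 : g' (AdjoinRoot.of _ a) = iL (algebraMap A L a) := by
        show Ideal.Quotient.mk 𝔐 ((1 : L) ⊗ₜ[K] j (AdjoinRoot.of _ a)) =
          Ideal.Quotient.mk 𝔐 (algebraMap A L a ⊗ₜ[K] (1 : K'))
        rw [hjof, IsScalarTower.algebraMap_apply A K K', IsScalarTower.algebraMap_apply A K L,
          Algebra.algebraMap_eq_smul_one (A := K'), Algebra.algebraMap_eq_smul_one (A := L),
          TensorProduct.smul_tmul]
      rw [h1]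
      exact hEL _
    have hg' : ∀ d, g' d ∈ E := by
      intro d
      induction d using AdjoinRoot.induction_on with
      | ih P =>
        induction P using Polynomial.induction_on' with
        | add p q hp hq => rw [map_add, map_add]; exact add_mem hp hq
        | monomial n a =>
          rw [← C_mul_X_pow_eq_monomial, map_mul, map_pow, AdjoinRoot.mk_C, AdjoinRoot.mk_X,
            map_mul, map_pow]
          exact mul_mem (hg'of a) (pow_mem hEroot n)
    have hK' : ∀ k, iK' k ∈ E := by
      have htop := hjgen (E.comap iK') (fun d => hg' d)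
      intro k
      have : k ∈ E.comap iK' := by rw [htop]; trivial
      exact this
    rw [eq_top_iff]
    intro x _
    obtain ⟨t, rfl⟩ := Ideal.Quotient.mk_surjective x
    induction t using TensorProduct.induction_on with
    | zero => rw [map_zero]; exact E.zero_mem
    | tmul l k =>
      have hlk : (l ⊗ₜ[K] k : L ⊗[K] K') = (l ⊗ₜ[K] (1 : K')) * ((1 : L) ⊗ₜ[K] k) := by
        rw [Algebra.TensorProduct.tmul_mul_tmul, mul_one, one_mul]
      rw [hlk, map_mul]
      exact mul_mem (hEL l) (hK' k)
    | add x y hx hy => rw [map_add]; exact add_mem (hx trivial) (hy trivial)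

end Helpers


open Polynomial IsLocalRing in
/-- Let `K` be the fraction field of a discrete valuation ring `A`, let `π` be a uniformizer of `A`, and
let `L` be a finite separable extension of `K` which is tamely ramified with respect to `A`. Then
there is `e₀ ≥ 1` invertible in the residue field of `A` such that for each `d ≥ 1` that is also
invertible in the residue field, setting `e = d e₀` and `A' = A[z]/(z^e - π)`, there is a finite
separable extension `L'` of `K` into which `L` embeds over `K`, carrying an `A'`-algebra structure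
extending `A → K → L'`, such that `L'` is unramified with respect to `A'`. (The local-ring instance
on `A'`, which holds, is quantified as a hypothesis.) -/
theorem result
    {A K L : Type u} [CommRing A] [IsDomain A]
    [IsDiscreteValuationRing A] [Field K] [Algebra A K] [IsFractionRing A K] [Field L] [Algebra K L]
    [Algebra A L] [IsScalarTower A K L] [FiniteDimensional K L] [Algebra.IsSeparable K L]
    (π : A) (hπ : maximalIdeal A = Ideal.span {π}) (h : EtRam.IsTamelyRamified A (algebraMap A L)) :
    ∃ e₀ : ℕ, 0 < e₀ ∧ (e₀ : ResidueField A) ≠ 0 ∧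
      ∀ d : ℕ, 0 < d → (d : ResidueField A) ≠ 0 →
        ∃ (L' : Type u) (_ : Field L') (_ : Algebra K L')
          (_ : Algebra (AdjoinRoot (X ^ (d * e₀) - C π : A[X])) L') (_ : L →ₐ[K] L'),
          FiniteDimensional K L' ∧ Algebra.IsSeparable K L' ∧
          (algebraMap (AdjoinRoot (X ^ (d * e₀) - C π : A[X])) L').comp (AdjoinRoot.of (X ^ (d * e₀) - C π)) =
            (algebraMap K L').comp (algebraMap A K) ∧
          ∀ [IsLocalRing (AdjoinRoot (X ^ (d * e₀) - C π : A[X]))],
            EtRam.IsUnramifiedExt (AdjoinRoot (X ^ (d * e₀) - C π : A[X]))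
              (algebraMap (AdjoinRoot (X ^ (d * e₀) - C π : A[X])) L') := by
  classical
  have hπirr : Irreducible π := (IsDiscreteValuationRing.irreducible_iff_uniformizer π).mpr hπ
  obtain ⟨e₀, he₀, he₀res, hdiv, hres⟩ := exists_e0 (K := K) h hπirr
  refine ⟨e₀, he₀, he₀res, fun d hd hdres => ?_⟩
  have he : 0 < d * e₀ := Nat.mul_pos hd he₀
  have heres : ((d * e₀ : ℕ) : ResidueField A) ≠ 0 := by
    rw [Nat.cast_mul]
    exact mul_ne_zero hdres he₀res
  obtain ⟨L', fL', aKL', g', iL, hfd, hsep, hcompat, hgen⟩ :=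
    exists_kummer_ext (K := K) (L := L) hπirr (d * e₀) he heres
  refine ⟨L', fL', aKL', g'.toAlgebra, iL, hfd, hsep, RingHom.ext hcompat, ?_⟩
  intro inst
  have hcompat' : ∀ a, g' (AdjoinRoot.of _ a) = iL.toRingHom (algebraMap A L a) := by
    intro a
    rw [hcompat, IsScalarTower.algebraMap_apply A K L]
    exact (iL.commutes _).symm
  exact unramified_of_kummer (K := K) hπirr h (d * e₀) he
    (fun V hdom => (hdiv V hdom).mul_left d) hres iL.toRingHom g' hcompat' hgen

end Groth.Agent.S9329
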