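import Groth.Statements.S1984
import Mathlib
import Groth.Agent.Lib.Helper9.TotRam

set_option autoImplicit false
universe u
open EtAlg

namespace Groth.Agent.S1984

open TensorProduct in
set_option maxHeartbeats 2000000 in
/-- Let A -> B be a weakly unramified extension of discrete valuation rings with fraction fields K ⊂ L,
and K₁/K a finite separable extension which is totally ramified with respect to A. Then L ⊗_K K₁ is
a field and K₁ is a weak solution for A -> B (the valuation ring of L ⊗_K K₁ over B is weakly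
unramified over that of K₁ over A). -/
theorem result (A B K L : Type u) [CommRing A] [IsDomain A] [IsDiscreteValuationRing A]
    [CommRing B] [IsDomain B] [IsDiscreteValuationRing B] [Algebra A B] [IsLocalHom (algebraMap A B)]
    (hinj : Function.Injective (algebraMap A B))
    [Field K] [Field L] [Algebra A K] [IsFractionRing A K] [Algebra B L] [IsFractionRing B L]
    [Algebra K L] [Algebra A L] [IsScalarTower A K L] [IsScalarTower A B L]
    (hw : EtRam.IsWeaklyUnramified A B) (K₁ : Type u) [Field K₁] [Algebra K K₁] [FiniteDimensional K K₁]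
    [Algebra.IsSeparable K K₁] (ht : EtRam.IsTotallyRamified A ((algebraMap K K₁).comp (algebraMap A K))) :
    IsField (L ⊗[K] K₁) ∧ EtRam.IsWeakSolution B K L K₁ := by
  classical
  letI algAK₁ : Algebra A K₁ := ((algebraMap K K₁).comp (algebraMap A K)).toAlgebra
  haveI towAKK₁ : IsScalarTower A K K₁ := IsScalarTower.of_algebraMap_eq (fun _ => rfl)
  have ht' : EtRam.IsTotallyRamified A (algebraMap A K₁) := ht
  have main : ∀ (M : Type u) [Field M] [Algebra K M] [Algebra L M] [Algebra K₁ M]
      [IsScalarTower K L M] [IsScalarTower K K₁ M],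
      Algebra.adjoin L (Set.range (algebraMap K₁ M)) = ⊤ →
      ∀ (W : ValuationSubring M),
        EtRam.Dominates B ((algebraMap L M).comp (algebraMap B L)) W →
        Module.finrank L M = Module.finrank K K₁ ∧
          (letI : Algebra (W.comap (algebraMap K₁ M)) W :=
            (EtRam.inclOfComap W (algebraMap K₁ M)).toAlgebra
          EtRam.IsWeaklyUnramified (W.comap (algebraMap K₁ M)) W) := by
    intro M _ _ _ _ _ _ hgen W hW
    letI algBM : Algebra B M := ((algebraMap L M).comp (algebraMap B L)).toAlgebra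
    haveI towBLM : IsScalarTower B L M := IsScalarTower.of_algebraMap_eq (fun _ => rfl)
    let ψ : L ⊗[K] K₁ →ₐ[L] M :=
      Algebra.TensorProduct.productLeftAlgHom (Algebra.ofId L M) (IsScalarTower.toAlgHom K K₁ M)
    have hψr : ψ.range = ⊤ := by
      rw [eq_top_iff, ← hgen]
      apply Algebra.adjoin_le
      rintro _ ⟨k, rfl⟩
      refine ⟨(1 : L) ⊗ₜ[K] k, ?_⟩
      simp [ψ]
    have hψ : Function.Surjective ψ := (AlgHom.range_eq_top ψ).mp hψr
    obtain ⟨hfd, hsep⟩ := Groth.Agent.Lib.Helper9.TameBC.finite_separable_of_quotient K L K₁ M ψ hψ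
    have hle : Module.finrank L M ≤ Module.finrank K K₁ := by
      have h1 : Module.finrank L M ≤ Module.finrank L (L ⊗[K] K₁) :=
        LinearMap.finrank_le_finrank_of_surjective (f := ψ.toLinearMap) hψ
      rwa [Module.finrank_baseChange] at h1
    have hcomm : ∀ a : A, algebraMap K₁ M (algebraMap A K₁ a) =
        algebraMap B M (algebraMap A B a) := by
      intro a
      show algebraMap K₁ M (algebraMap K K₁ (algebraMap A K a)) =
        algebraMap L M (algebraMap B L (algebraMap A B a))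
      rw [← IsScalarTower.algebraMap_apply K K₁ M, IsScalarTower.algebraMap_apply K L M,
        ← IsScalarTower.algebraMap_apply A K L, ← IsScalarTower.algebraMap_apply A B L]
    obtain ⟨h1, h2⟩ := Groth.Agent.Lib.Helper9.TotRam.core A B K L K₁ M hw ht' hcomm W hW
    exact ⟨le_antisymm hle h1, h2 hle⟩
  refine ⟨?_, fun M _ _ _ _ _ _ hgen W hW => (main M hgen W hW).2⟩
  -- `L ⊗[K] K₁` is a field
  haveI : Nontrivial (L ⊗[K] K₁) :=
    Algebra.TensorProduct.nontrivial_of_algebraMap_injective_of_flat_left (R := K) L K₁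
      (algebraMap K K₁).injective
  obtain ⟨𝔐, h𝔐⟩ := Ideal.exists_maximal (L ⊗[K] K₁)
  letI fM : Field ((L ⊗[K] K₁) ⧸ 𝔐) := Ideal.Quotient.field 𝔐
  letI algK₁M : Algebra K₁ ((L ⊗[K] K₁) ⧸ 𝔐) := ((Ideal.Quotient.mk 𝔐).comp
    (Algebra.TensorProduct.includeRight : K₁ →ₐ[K] L ⊗[K] K₁).toRingHom).toAlgebra
  haveI towKK₁M : IsScalarTower K K₁ ((L ⊗[K] K₁) ⧸ 𝔐) := IsScalarTower.of_algebraMap_eq (by
    intro k
    show Ideal.Quotient.mk 𝔐 (algebraMap K (L ⊗[K] K₁) k) =
      Ideal.Quotient.mk 𝔐 ((1 : L) ⊗ₜ[K] algebraMap K K₁ k)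
    rw [Algebra.TensorProduct.algebraMap_apply, Algebra.algebraMap_eq_smul_one (A := K₁),
      Algebra.algebraMap_eq_smul_one (A := L), TensorProduct.smul_tmul])
  have hgen : Algebra.adjoin L (Set.range (algebraMap K₁ ((L ⊗[K] K₁) ⧸ 𝔐))) = ⊤ := by
    rw [eq_top_iff]
    intro x _
    obtain ⟨t, rfl⟩ := Ideal.Quotient.mk_surjective x
    induction t using TensorProduct.induction_on with
    | zero => rw [map_zero]; exact Subalgebra.zero_mem _
    | tmul l k =>
      have hlk : (l ⊗ₜ[K] k : L ⊗[K] K₁) = l • ((1 : L) ⊗ₜ[K] k) := by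
        rw [TensorProduct.smul_tmul', smul_eq_mul, mul_one]
      have hmk : Ideal.Quotient.mk 𝔐 (l ⊗ₜ[K] k) =
          l • algebraMap K₁ ((L ⊗[K] K₁) ⧸ 𝔐) k := by
        rw [hlk]
        rfl
      rw [hmk]
      exact Subalgebra.smul_mem _ (Algebra.subset_adjoin (Set.mem_range_self k)) l
    | add x y hx hy => rw [map_add]; exact Subalgebra.add_mem _ (hx trivial) (hy trivial)
  obtain ⟨W, hWc⟩ := Groth.Agent.Lib.Helper9.AbhyankarCore.exists_extension
    (Groth.Agent.Lib.Helper9.UnramBridge.valSub B L) (algebraMap L ((L ⊗[K] K₁) ⧸ 𝔐))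
  have hW : EtRam.Dominates B ((algebraMap L ((L ⊗[K] K₁) ⧸ 𝔐)).comp (algebraMap B L)) W := by
    refine ⟨fun b => ?_, fun b hb => ?_⟩
    · have : algebraMap B L b ∈ W.comap (algebraMap L ((L ⊗[K] K₁) ⧸ 𝔐)) := by
        rw [hWc, Groth.Agent.Lib.Helper9.UnramBridge.mem_valSub_iff]
        exact ⟨b, rfl⟩
      exact this
    · rw [RingHom.comp_apply, ← Groth.Agent.Lib.Helper9.AbhyankarCore.valuation_comap_lt_one_iff,
        hWc, Groth.Agent.Lib.Helper9.DVRExt.valuation_valSub_lt_one_iff]
      exact hb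
  obtain ⟨hfr, -⟩ := main _ hgen W hW
  have hsurj : Function.Surjective (Ideal.Quotient.mkₐ L 𝔐).toLinearMap :=
    Ideal.Quotient.mkₐ_surjective L 𝔐
  have hinj' : Function.Injective (Ideal.Quotient.mkₐ L 𝔐).toLinearMap :=
    (LinearMap.injective_iff_surjective_of_finrank_eq_finrank
      (by rw [Module.finrank_baseChange, hfr])).mpr hsurj
  have hbot : 𝔐 = ⊥ := by
    rw [eq_bot_iff]
    intro x hx
    have h0 : (Ideal.Quotient.mkₐ L 𝔐).toLinearMap x = (Ideal.Quotient.mkₐ L 𝔐).toLinearMap 0 := by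
      rw [map_zero]
      exact Ideal.Quotient.eq_zero_iff_mem.mpr hx
    exact hinj' h0
  rw [hbot] at h𝔐
  exact Ring.isField_iff_maximal_bot.mpr h𝔐

end Groth.Agent.S1984
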