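import Mathlib
import Groth.Statements.S7158
import Groth.Agent.Lib.Helper9.TotRam

set_option autoImplicit false
universe u
open EtAlg

namespace Groth.Agent.S7158


open IsLocalRing EtRam
open Groth.Agent.Lib.Helper9 Groth.Agent.Lib.Helper9.DVRExt Groth.Agent.Lib.Helper9.TameBase
  Groth.Agent.Lib.Helper9.TotRam Groth.Agent.Lib.Helper9.AbhyankarCore

/-- Case (4) of the statement. -/
def Case4 (A : Type u) [CommRing A] [IsLocalRing A] {L : Type u} [Field L] (g : A →+* L)
    (p : ℕ) : Prop :=
  (∃ V : ValuationSubring L, Dominates A g V) ∧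
  (∀ V V' : ValuationSubring L, Dominates A g V → Dominates A g V' → V = V') ∧
  ∀ (V : ValuationSubring L) (h : Dominates A g V),
    letI : Algebra A V := (RingHom.codRestrict g V h.1).toAlgebra
    ∀ [IsLocalHom (algebraMap A V)],
      IsWeaklyUnramified A V ∧
        IsPurelyInseparable (ResidueField A) (ResidueField V) ∧
        Module.finrank (ResidueField A) (ResidueField V) = p

/-- residue degree of a dominating valuation subring -/
noncomputable def fV {A : Type u} [CommRing A] [IsLocalRing A] {L : Type u} [Field L]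
    (g : A →+* L) (V : ValuationSubring L) (hdom : Dominates A g V) : ℕ :=
  letI : Algebra A V := (RingHom.codRestrict g V hdom.1).toAlgebra
  haveI : IsLocalHom (algebraMap A V) := isLocalHom_of_dominates g V hdom
  Module.finrank (ResidueField A) (ResidueField V)

section Gen

variable (A K : Type u) {L : Type u} [CommRing A] [IsDomain A] [IsDiscreteValuationRing A]
  [Field K] [Algebra A K] [IsFractionRing A K] [Field L] [Algebra K L] [Algebra A L]
  [IsScalarTower A K L] [FiniteDimensional K L] [Algebra.IsSeparable K L]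

include K in
/-- approximation of elements of `V` by integral elements modulo the maximal ideal -/
theorem apx (V : ValuationSubring L) (hdom : Dominates A (algebraMap A L) V) (v : L)
    (hv : v ∈ V) : ∃ b : integralClosure A L, V.valuation (v - (b : L)) < 1 := by
  obtain ⟨𝔫, h𝔫, e, h𝔫0, he, hmem⟩ := exists_equiv_localization A K V hdom
  have hBV : ∀ b : integralClosure A L, (b : L) ∈ V := fun b =>
    mem_of_isIntegral V hdom.1 b.2
  obtain ⟨c, hc⟩ := e.surjective ⟨v, hv⟩
  obtain ⟨b, s, rfl⟩ := IsLocalization.exists_mk'_eq 𝔫.primeCompl c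
  have h2 : v * ((s : integralClosure A L) : L) = (b : L) := by
    have h1 : e (IsLocalization.mk' (Localization.AtPrime 𝔫) b s) *
        e (algebraMap _ _ (s : integralClosure A L)) = e (algebraMap _ _ b) := by
      rw [← map_mul, IsLocalization.mk'_spec]
    have h2 := congrArg (fun v : V => (v : L)) h1
    simp only [MulMemClass.coe_mul] at h2
    rw [hc, he, he] at h2
    exact h2
  obtain ⟨y, i, hi, hysi⟩ := h𝔫.exists_inv (x := (s : integralClosure A L)) s.2
  have hone : ((y : integralClosure A L) : L) * ((s : integralClosure A L) : L) + (i : L) = 1 := by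
    have := congrArg (fun t : integralClosure A L => (t : L)) hysi
    simpa using this
  refine ⟨b * y, ?_⟩
  have hiV : (⟨(i : L), hBV i⟩ : V) ∈ maximalIdeal V :=
    (V.valuation_lt_one_iff _).mpr ((hmem i).mp hi)
  have hvi : ((⟨v, hv⟩ : V) * ⟨(i : L), hBV i⟩ : V) ∈ maximalIdeal V :=
    Ideal.mul_mem_left _ _ hiV
  have h3 := (V.valuation_lt_one_iff _).mp hvi
  have h4 : v - ((b * y : integralClosure A L) : L) = v * (i : L) := by
    push_cast
    linear_combination ((y : integralClosure A L) : L) * h2 - v * hone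
  rw [h4]
  exact h3

include K in
theorem le_of_centre (V V' : ValuationSubring L) (hdom : Dominates A (algebraMap A L) V)
    (hdom' : Dominates A (algebraMap A L) V')
    (h : ∀ b : integralClosure A L, V'.valuation (b : L) < 1 → V.valuation (b : L) < 1) :
    V ≤ V' := by
  obtain ⟨𝔫, h𝔫, e, h𝔫0, he, hmem⟩ := exists_equiv_localization A K V hdom
  have hBV' : ∀ b : integralClosure A L, (b : L) ∈ V' := fun b =>
    mem_of_isIntegral V' hdom'.1 b.2
  intro x hx
  obtain ⟨c, hc⟩ := e.surjective ⟨x, hx⟩
  obtain ⟨b, s, rfl⟩ := IsLocalization.exists_mk'_eq 𝔫.primeCompl c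
  have h2 : x * ((s : integralClosure A L) : L) = (b : L) := by
    have h1 : e (IsLocalization.mk' (Localization.AtPrime 𝔫) b s) *
        e (algebraMap _ _ (s : integralClosure A L)) = e (algebraMap _ _ b) := by
      rw [← map_mul, IsLocalization.mk'_spec]
    have h2 := congrArg (fun v : V => (v : L)) h1
    simp only [MulMemClass.coe_mul] at h2
    rw [hc, he, he] at h2
    exact h2
  have hs : ¬ V'.valuation ((s : integralClosure A L) : L) < 1 := fun hlt =>
    s.2 ((hmem _).mpr (h _ hlt))
  have hs1 : V'.valuation ((s : integralClosure A L) : L) = 1 :=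
    le_antisymm ((V'.valuation_le_one_iff _).mpr (hBV' s)) (not_lt.mp hs)
  have hb1 : V'.valuation (b : L) ≤ 1 := (V'.valuation_le_one_iff _).mpr (hBV' b)
  have h3 : V'.valuation x * V'.valuation ((s : integralClosure A L) : L) =
      V'.valuation (b : L) := by rw [← map_mul, h2]
  rw [hs1, mul_one] at h3
  exact (V'.valuation_le_one_iff x).mp (h3 ▸ hb1)

include K in
theorem eq_of_centre (V V' : ValuationSubring L) (hdom : Dominates A (algebraMap A L) V)
    (hdom' : Dominates A (algebraMap A L) V')
    (h : ∀ b : integralClosure A L, V.valuation (b : L) < 1 ↔ V'.valuation (b : L) < 1) :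
    V = V' :=
  le_antisymm (le_of_centre A K V V' hdom hdom' (fun b hb => (h b).mpr hb))
    (le_of_centre A K V' V hdom' hdom (fun b hb => (h b).mp hb))

include K in
theorem exists_dominating : ∃ V : ValuationSubring L, Dominates A (algebraMap A L) V := by
  haveI : Algebra.IsIntegral A (integralClosure A L) := inferInstance
  have hinjAB : Function.Injective (algebraMap A (integralClosure A L)) := by
    intro a b hab
    apply algebraMap_injective_of_tower A K (L := L)
    exact congrArg (algebraMap (integralClosure A L) L) hab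
  obtain ⟨Q, hQ, hQc⟩ := Ideal.exists_ideal_over_maximal_of_isIntegral
    (S := integralClosure A L) (maximalIdeal A)
    (by rw [(RingHom.injective_iff_ker_eq_bot _).mp hinjAB]; exact bot_le)
  haveI := hQ.isPrime
  haveI : Q.LiesOver (maximalIdeal A) := ⟨hQc.symm⟩
  obtain ⟨V, hV, -⟩ := exists_dominating_of_prime A K Q
  exact ⟨V, hV⟩

/-- Galois conjugates of dominating valuation subrings dominate. -/
theorem dominates_comap (V : ValuationSubring L) (hdom : Dominates A (algebraMap A L) V)
    (σ : L ≃ₐ[K] L) : Dominates A (algebraMap A L) (V.comap (σ : L →+* L)) := by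
  have hσ : ∀ a : A, (σ : L →+* L) (algebraMap A L a) = algebraMap A L a := by
    intro a
    rw [IsScalarTower.algebraMap_apply A K L]
    exact σ.commutes _
  refine ⟨fun a => ?_, fun a ha => ?_⟩
  · show (σ : L →+* L) (algebraMap A L a) ∈ V
    rw [hσ]
    exact hdom.1 a
  · rw [valuation_comap_lt_one_iff, hσ]
    exact hdom.2 a ha


include K in
theorem perV (V : ValuationSubring L) (hdom : Dominates A (algebraMap A L) V) :
    ∃ P : Ideal (integralClosure A L), P.IsMaximal ∧ P.LiesOver (maximalIdeal A) ∧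
      (∀ b : integralClosure A L, b ∈ P ↔ V.valuation (b : L) < 1) ∧
      eV (algebraMap A L) V hdom = Ideal.ramificationIdx' (maximalIdeal A) P ∧
      fV (algebraMap A L) V hdom = Ideal.inertiaDeg' (maximalIdeal A) P := by
  classical
  obtain ⟨𝔫, h𝔫, e, h𝔫0, he, hmem⟩ := exists_equiv_localization A K V hdom
  haveI := h𝔫
  haveI hlo := liesOver_of_mem_iff A K V hdom 𝔫 hmem
  refine ⟨𝔫, h𝔫, hlo, hmem, ramIdx_eq A K V hdom 𝔫 e h𝔫0 he, ?_⟩
  have hBV : ∀ b : integralClosure A L, (b : L) ∈ V := fun b => mem_of_isIntegral V hdom.1 b.2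
  letI algAV : Algebra A V := (RingHom.codRestrict (algebraMap A L) V hdom.1).toAlgebra
  haveI hloc : IsLocalHom (algebraMap A V) := isLocalHom_of_dominates _ V hdom
  let ψ : integralClosure A L →+* V := (algebraMap (integralClosure A L) L).codRestrict V hBV
  let φ : integralClosure A L →+* ResidueField V := (residue V).comp ψ
  have hker : ∀ b, φ b = 0 ↔ b ∈ 𝔫 := by
    intro b
    show residue V (ψ b) = 0 ↔ _
    rw [residue_eq_zero_iff, V.valuation_lt_one_iff, hmem]
    rfl
  let j0 : (integralClosure A L ⧸ 𝔫) →+* ResidueField V :=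
    Ideal.Quotient.lift 𝔫 φ (fun b hb => (hker b).mpr hb)
  have hj0inj : Function.Injective j0 := by
    rw [injective_iff_map_eq_zero]
    intro x hx
    obtain ⟨b, rfl⟩ := Ideal.Quotient.mk_surjective x
    rw [Ideal.Quotient.eq_zero_iff_mem]
    exact (hker b).mp hx
  have hj0surj : Function.Surjective j0 := by
    intro x
    obtain ⟨v, rfl⟩ := residue_surjective x
    obtain ⟨b, hb⟩ := apx A K V hdom (v : L) v.2
    refine ⟨Ideal.Quotient.mk 𝔫 b, ?_⟩
    show residue V (ψ b) = residue V v
    rw [eq_comm, ← sub_eq_zero, ← map_sub, residue_eq_zero_iff, V.valuation_lt_one_iff]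
    exact hb
  let j : (integralClosure A L ⧸ 𝔫) ≃+* ResidueField V :=
    RingEquiv.ofBijective j0 ⟨hj0inj, hj0surj⟩
  let i : (A ⧸ maximalIdeal A) ≃+* ResidueField A := RingEquiv.refl _
  rw [Ideal.inertiaDeg'_algebraMap]
  symm
  refine Algebra.finrank_eq_of_equiv_equiv i j ?_
  apply Ideal.Quotient.ringHom_ext
  ext a
  show algebraMap (ResidueField A) (ResidueField V) (residue A a) =
    j0 (algebraMap (A ⧸ maximalIdeal A) (integralClosure A L ⧸ 𝔫) (Ideal.Quotient.mk _ a))
  rw [Ideal.Quotient.algebraMap_mk_of_liesOver]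
  rfl

include K in
theorem weaklyUnramified_iff (V : ValuationSubring L) (hdom : Dominates A (algebraMap A L) V) :
    letI : Algebra A V := (RingHom.codRestrict (algebraMap A L) V hdom.1).toAlgebra
    IsWeaklyUnramified A V ↔ eV (algebraMap A L) V hdom = 1 := by
  letI algV : Algebra A V := (RingHom.codRestrict (algebraMap A L) V hdom.1).toAlgebra
  haveI hdvr : IsDiscreteValuationRing V := isDiscreteValuationRing_of_dominates A K V hdom
  haveI hloc : IsLocalHom (algebraMap A V) := isLocalHom_of_dominates _ V hdom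
  have hinj : Function.Injective (algebraMap A V) := by
    intro a b hab
    apply algebraMap_injective_of_tower A K (L := L)
    exact congrArg (fun v : V => (v : L)) hab
  obtain ⟨π, hπ⟩ := IsDiscreteValuationRing.exists_irreducible A
  obtain ⟨ϖ, hϖ⟩ := IsDiscreteValuationRing.exists_irreducible V
  obtain ⟨he0, w, hw⟩ := exists_eq_unit_mul_pow hinj hπ hϖ
  constructor
  · intro hwu
    have hwu' : (maximalIdeal A).map (algebraMap A V) = maximalIdeal V := hwu
    show Ideal.ramificationIdx' (maximalIdeal A) (maximalIdeal V) = 1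
    rw [← hwu']
    apply Ideal.ramificationIdx'_map_self_eq_one
    · rw [hwu']; exact (maximalIdeal.isMaximal V).ne_top
    · rw [hwu']; exact IsDiscreteValuationRing.not_a_field V
  · intro h1
    have h1' : Ideal.ramificationIdx' (maximalIdeal A) (maximalIdeal V) = 1 := h1
    show Ideal.map (algebraMap A V) (maximalIdeal A) = maximalIdeal V
    rw [hπ.maximalIdeal_eq, Ideal.map_span, Set.image_singleton, hw, h1', pow_one,
      hϖ.maximalIdeal_eq]
    exact Ideal.span_singleton_eq_span_singleton.mpr
      ⟨w⁻¹, by rw [mul_comm (w : V), mul_assoc, Units.mul_inv, mul_one]⟩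

end Gen

section EFG

variable (A K : Type u) {L : Type u} [CommRing A] [IsDomain A] [IsDiscreteValuationRing A]
  [Field K] [Algebra A K] [IsFractionRing A K] [Field L] [Algebra K L] [Algebra A L]
  [IsScalarTower A K L] [FiniteDimensional K L] [IsGalois K L]

include K in
theorem efg : ∃ e f : ℕ,
    ((maximalIdeal A).primesOver (integralClosure A L)).ncard * (e * f) = Module.finrank K L ∧
    ∀ P : Ideal (integralClosure A L), P.IsMaximal → P.LiesOver (maximalIdeal A) →
      Ideal.ramificationIdx' (maximalIdeal A) P = e ∧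
        Ideal.inertiaDeg' (maximalIdeal A) P = f := by
  classical
  haveI : IsDedekindDomain (integralClosure A L) := integralClosure.isDedekindDomain A K L
  haveI : Module.Finite A (integralClosure A L) :=
    IsIntegralClosure.finite A K L (integralClosure A L)
  haveI : IsFractionRing (integralClosure A L) L :=
    integralClosure.isFractionRing_of_finite_extension K L
  have hinjAB : Function.Injective (algebraMap A (integralClosure A L)) := by
    intro a b hab
    apply algebraMap_injective_of_tower A K (L := L)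
    exact congrArg (algebraMap (integralClosure A L) L) hab
  haveI : Module.IsTorsionFree A (integralClosure A L) :=
    Module.isTorsionFree_iff_algebraMap_injective.mpr hinjAB
  haveI : Module.Flat A (integralClosure A L) := inferInstance
  haveI : SMulCommClass (L ≃ₐ[K] L) A L := ⟨fun σ a x => by
    show σ (a • x) = a • σ x
    rw [Algebra.smul_def, Algebra.smul_def, map_mul, IsScalarTower.algebraMap_apply A K L,
      AlgEquiv.commutes]⟩
  haveI : IsGaloisGroup (L ≃ₐ[K] L) A (integralClosure A L) :=
    IsGaloisGroup.of_isFractionRing _ _ _ K L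
  have H := Ideal.ncard_primesOver_mul_ramificationIdxIn_mul_inertiaDegIn (maximalIdeal A)
    (integralClosure A L) (L ≃ₐ[K] L)
  rw [IsGalois.card_aut_eq_finrank] at H
  have hp0 : maximalIdeal A ≠ ⊥ := IsDiscreteValuationRing.not_a_field A
  refine ⟨_, _, H, fun P hP hPo => ?_⟩
  haveI := hP
  haveI := hPo
  constructor
  · rw [Ideal.ramificationIdx'_eq_ramificationIdx (maximalIdeal A) P hp0,
      Ideal.ramificationIdxIn_eq_ramificationIdx (maximalIdeal A) P (L ≃ₐ[K] L)]
  · rw [Ideal.inertiaDeg'_eq_inertiaDeg,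
      Ideal.inertiaDegIn_eq_inertiaDeg (maximalIdeal A) P (L ≃ₐ[K] L)]

end EFG

section Tri

theorem sep_or_pi (k κ : Type*) [Field k] [Field κ] [Algebra k κ] (p : ℕ) (hp : p.Prime)
    (h : Module.finrank k κ = p) : Algebra.IsSeparable k κ ∨ IsPurelyInseparable k κ := by
  haveI : FiniteDimensional k κ := Module.finite_of_finrank_pos (h ▸ hp.pos)
  have hd := Field.finSepDegree_dvd_finrank k κ
  rw [h] at hd
  rcases (Nat.dvd_prime hp).mp hd with h1 | hpp
  · right
    exact (isPurelyInseparable_iff_finSepDegree_eq_one (F := k) (E := κ)).mpr h1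
  · left
    exact (Field.finSepDegree_eq_finrank_iff k κ).mp (hpp.trans h.symm)

theorem surj_of_finrank_one (k κ : Type*) [Field k] [Field κ] [Algebra k κ]
    (h : Module.finrank k κ = 1) : Function.Surjective (algebraMap k κ) := by
  intro w
  obtain ⟨c, hc⟩ := (finrank_eq_one_iff_of_nonzero' (1 : κ) one_ne_zero).mp h w
  exact ⟨c, by rw [← hc, Algebra.smul_def, mul_one]⟩

variable (A K : Type u) {L : Type u} [CommRing A] [IsDomain A] [IsDiscreteValuationRing A]
  [Field K] [Algebra A K] [IsFractionRing A K] [Field L] [Algebra K L] [Algebra A L]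
  [IsScalarTower A K L] [FiniteDimensional K L] [IsGalois K L]

include K in
theorem trichotomy (p : ℕ) (hp : p.Prime) (hdeg : Module.finrank K L = p) :
    IsUnramifiedExt A (algebraMap A L) ∨ IsTotallyRamified A (algebraMap A L) ∨
      Case4 A (algebraMap A L) p := by
  classical
  haveI : Algebra.IsSeparable K L := inferInstance
  obtain ⟨e, f, H, hef⟩ := efg A K (L := L)
  obtain ⟨V₀, hV₀⟩ := exists_dominating A K (L := L)
  rw [hdeg] at H
  have hnum : ∀ (V : ValuationSubring L) (hdom : Dominates A (algebraMap A L) V),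
      eV (algebraMap A L) V hdom = e ∧ fV (algebraMap A L) V hdom = f := by
    intro V hdom
    obtain ⟨P, hP, hPo, -, h1, h2⟩ := perV A K V hdom
    obtain ⟨h3, h4⟩ := hef P hP hPo
    exact ⟨h1.trans h3, h2.trans h4⟩
  have huniq : ((maximalIdeal A).primesOver (integralClosure A L)).ncard = 1 →
      ∀ V V' : ValuationSubring L, Dominates A (algebraMap A L) V →
        Dominates A (algebraMap A L) V' → V = V' := by
    intro hr V V' hV hV'
    obtain ⟨P, hP, hPo, hmem, -, -⟩ := perV A K V hV
    obtain ⟨P', hP', hPo', hmem', -, -⟩ := perV A K V' hV'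
    obtain ⟨Q, hQ⟩ := Set.ncard_eq_one.mp hr
    have h1 : P ∈ (maximalIdeal A).primesOver (integralClosure A L) := ⟨hP.isPrime, hPo⟩
    have h2 : P' ∈ (maximalIdeal A).primesOver (integralClosure A L) := ⟨hP'.isPrime, hPo'⟩
    rw [hQ] at h1 h2
    have hPP : P = P' := h1.trans h2.symm
    apply eq_of_centre A K V V' hV hV'
    intro b
    rw [← hmem, ← hmem', hPP]
  have hpr : (((maximalIdeal A).primesOver (integralClosure A L)).ncard * (e * f)).Prime := by
    rw [H]; exact hp
  rcases Nat.prime_mul_iff.mp hpr with ⟨-, hef1⟩ | ⟨hefp, hr1⟩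
  · left
    have he1 : e = 1 := Nat.eq_one_of_mul_eq_one_right hef1
    have hf1 : f = 1 := Nat.eq_one_of_mul_eq_one_left hef1
    intro V hdom inst
    letI algV : Algebra A V := (RingHom.codRestrict (algebraMap A L) V hdom.1).toAlgebra
    obtain ⟨h1, h2⟩ := hnum V hdom
    refine ⟨(weaklyUnramified_iff A K V hdom).mpr (h1.trans he1), ?_⟩
    have h3 : Module.finrank (ResidueField A) (ResidueField V) = 1 := h2.trans hf1
    have hs := surj_of_finrank_one _ _ h3
    exact ⟨fun x => by obtain ⟨c, rfl⟩ := hs x; exact isSeparable_algebraMap c⟩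
  · rw [hr1, one_mul] at H
    rcases Nat.prime_mul_iff.mp hefp with ⟨-, hf1⟩ | ⟨-, he1⟩
    · right; left
      refine ⟨⟨V₀, hV₀⟩, huniq hr1, fun V hdom => ?_⟩
      obtain ⟨-, h2⟩ := hnum V hdom
      letI algV : Algebra A V := (RingHom.codRestrict (algebraMap A L) V hdom.1).toAlgebra
      haveI hloc : IsLocalHom (algebraMap A V) := isLocalHom_of_dominates _ V hdom
      have h3 : Module.finrank (ResidueField A) (ResidueField V) = 1 := h2.trans hf1
      have hs := surj_of_finrank_one _ _ h3
      intro x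
      obtain ⟨c, rfl⟩ := hs x
      obtain ⟨a, rfl⟩ := residue_surjective c
      exact ⟨a, rfl⟩
    · rw [he1, one_mul] at H
      letI algV₀ : Algebra A V₀ := (RingHom.codRestrict (algebraMap A L) V₀ hV₀.1).toAlgebra
      haveI hloc₀ : IsLocalHom (algebraMap A V₀) := isLocalHom_of_dominates _ V₀ hV₀
      obtain ⟨h1, h2⟩ := hnum V₀ hV₀
      have hfin : Module.finrank (ResidueField A) (ResidueField V₀) = p := h2.trans H
      have hwu : IsWeaklyUnramified A V₀ :=
        (weaklyUnramified_iff A K V₀ hV₀).mpr (h1.trans he1)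
      rcases sep_or_pi (ResidueField A) (ResidueField V₀) p hp hfin with hsep | hpi
      · left
        intro V hdom inst
        obtain rfl : V₀ = V := huniq hr1 V₀ V hV₀ hdom
        exact ⟨hwu, hsep⟩
      · right; right
        refine ⟨⟨V₀, hV₀⟩, huniq hr1, fun V hdom inst => ?_⟩
        obtain rfl : V₀ = V := huniq hr1 V₀ V hV₀ hdom
        exact ⟨hwu, hpi, hfin⟩

end Tri

section Parts

open Polynomial

theorem coe_eval₂ {A : Type*} [CommRing A] {L : Type*} [Field L] (g : A →+* L)
    (V : ValuationSubring L) (h : ∀ a, g a ∈ V) (x : V) (Q : A[X]) :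
    ((eval₂ (RingHom.codRestrict g V h) x Q : V) : L) = eval₂ g (x : L) Q := by
  have h1 := hom_eval₂ Q (RingHom.codRestrict g V h) V.subtype x
  have hcomp : V.subtype.comp (RingHom.codRestrict g V h) = g := by ext a; rfl
  rw [hcomp] at h1
  exact h1

theorem cod_mem {A : Type u} [CommRing A] [IsLocalRing A] {L : Type u} [Field L] (g : A →+* L)
    (V : ValuationSubring L) (hdom : Dominates A g V) {c : A} (hc : c ∈ maximalIdeal A) :
    RingHom.codRestrict g V hdom.1 c ∈ maximalIdeal V :=
  (V.valuation_lt_one_iff _).mpr (hdom.2 c hc)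

theorem mem_of_cod_mem {A : Type u} [CommRing A] [IsLocalRing A] {L : Type u} [Field L]
    (g : A →+* L) (V : ValuationSubring L) (hdom : Dominates A g V) {c : A}
    (hc : RingHom.codRestrict g V hdom.1 c ∈ maximalIdeal V) : c ∈ maximalIdeal A := by
  by_contra hnm
  have hu : IsUnit c := by rwa [mem_maximalIdeal, mem_nonunits_iff, not_not] at hnm
  exact (mem_maximalIdeal _).mp hc (hu.map _)

theorem residue_pow_of_eq {A : Type u} [CommRing A] [IsLocalRing A] {L : Type u} [Field L]
    (g : A →+* L) (V : ValuationSubring L) (hdom : Dominates A g V) (p : ℕ) (y : V) (a r : A)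
    (h1 : residue V y ^ p = residue V (RingHom.codRestrict g V hdom.1 a))
    (h2 : residue V y = residue V (RingHom.codRestrict g V hdom.1 r)) :
    residue A a = residue A r ^ p := by
  rw [h2, ← map_pow, ← map_pow] at h1
  have h3 : RingHom.codRestrict g V hdom.1 (r ^ p - a) ∈ maximalIdeal V := by
    rw [← residue_eq_zero_iff, map_sub, map_sub, h1, sub_self]
  have h4 := mem_of_cod_mem g V hdom h3
  have h5 := (residue_eq_zero_iff _).mpr h4
  rw [map_sub, sub_eq_zero, map_pow] at h5
  exact h5.symm

theorem mem_range_of_sep_of_pow (k κ : Type*) [Field k] [Field κ] [Algebra k κ] (p : ℕ)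
    [hc : ExpChar k p] (x : κ) (hsep : IsSeparable k x)
    (hx : x ^ p ∈ (algebraMap k κ).range) : x ∈ (algebraMap k κ).range := by
  have hdeg := (minpoly.natSepDegree_eq_one_iff_pow_mem p).2 ⟨1, by rwa [pow_one]⟩
  rwa [hsep.natSepDegree_eq_natDegree, minpoly.natDegree_eq_one_iff] at hdeg

variable (A K : Type u) {L : Type u} [CommRing A] [IsDomain A] [IsDiscreteValuationRing A]
  [Field K] [Algebra A K] [IsFractionRing A K] [Field L] [Algebra K L] [Algebra A L]
  [IsScalarTower A K L]

include K in
theorem exists_of_finrank_one (h1 : Module.finrank K L = 1) (y : L) (hy : IsIntegral A y) :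
    ∃ r : A, y = algebraMap A L r := by
  obtain ⟨y₀, rfl⟩ := surj_of_finrank_one K L h1 y
  rw [isIntegral_algebraMap_iff (algebraMap K L).injective] at hy
  obtain ⟨r, rfl⟩ := IsIntegrallyClosed.algebraMap_eq_of_integral hy
  exact ⟨r, (IsScalarTower.algebraMap_apply A K L r).symm⟩

include K in
theorem exists_integral_root (p : ℕ) (hp0 : 0 < p) (P : A[X]) (hPm : P.Monic)
    (hPd : P.natDegree = p) (π : A) (hπ : maximalIdeal A = Ideal.span {π}) (ξ : K) (z : L)
    (hz : eval₂ (algebraMap A L) z P = algebraMap K L ξ)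
    (m : ℕ) (hm : 0 < m) (a : A)
    (hξ : ξ * algebraMap A K π ^ (m * p) = algebraMap A K a) :
    ∃ y : L, IsIntegral A y ∧ ∀ (V : ValuationSubring L)
      (hdom : Dominates A (algebraMap A L) V) (hy : y ∈ V),
      residue V ⟨y, hy⟩ ^ p = residue V (RingHom.codRestrict (algebraMap A L) V hdom.1 a) := by
  let Q : A[X] := scaleRoots P (π ^ m)
  have hQm : Q.Monic := (monic_scaleRoots_iff _).mpr hPm
  have hQd : Q.natDegree = p := (natDegree_scaleRoots _ _).trans hPd
  have hrel : algebraMap K L ξ * algebraMap A L π ^ (m * p) = algebraMap A L a := by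
    have := congrArg (algebraMap K L) hξ
    rw [map_mul, map_pow, ← IsScalarTower.algebraMap_apply,
      ← IsScalarTower.algebraMap_apply] at this
    exact this
  have hy : eval₂ (algebraMap A L) (algebraMap A L (π ^ m) * z) Q = algebraMap A L a := by
    rw [scaleRoots_eval₂_mul, hPd, hz, map_pow, ← pow_mul, mul_comm]
    exact hrel
  have hcp : Q.coeff p = 1 := by rw [← hQd]; exact hQm.coeff_natDegree
  refine ⟨algebraMap A L (π ^ m) * z, ⟨Q - C a, ?_, ?_⟩, ?_⟩
  · apply hQm.sub_of_left
    refine degree_C_le.trans_lt ?_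
    rw [degree_eq_natDegree hQm.ne_zero, hQd]
    exact_mod_cast hp0
  · rw [eval₂_sub, eval₂_C, hy, sub_self]
  · intro V hdom hyV
    have h1 : eval₂ (RingHom.codRestrict (algebraMap A L) V hdom.1)
        (⟨algebraMap A L (π ^ m) * z, hyV⟩ : V) Q =
        RingHom.codRestrict (algebraMap A L) V hdom.1 a :=
      Subtype.ext ((coe_eval₂ (algebraMap A L) V hdom.1 _ Q).trans hy)
    rw [eval₂_eq_sum_range, hQd, Finset.sum_range_succ, hcp, map_one, one_mul] at h1
    have h2 : ∑ i ∈ Finset.range p, RingHom.codRestrict (algebraMap A L) V hdom.1 (Q.coeff i) *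
        (⟨algebraMap A L (π ^ m) * z, hyV⟩ : V) ^ i ∈ maximalIdeal V := by
      apply Ideal.sum_mem
      intro i hi
      apply Ideal.mul_mem_right
      apply cod_mem (algebraMap A L) V hdom
      rw [coeff_scaleRoots, hPd]
      apply Ideal.mul_mem_left
      have hpi : 0 < p - i := Nat.sub_pos_of_lt (Finset.mem_range.mp hi)
      apply Ideal.pow_mem_of_mem _ _ _ hpi
      apply Ideal.pow_mem_of_mem _ _ _ hm
      rw [hπ]
      exact Ideal.mem_span_singleton_self π
    have h3 := congrArg (residue V) h1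
    rw [map_add, (residue_eq_zero_iff _).mpr h2, zero_add, map_pow] at h3
    exact h3

variable [FiniteDimensional K L] [Algebra.IsSeparable K L]

include K in
theorem eV_ne_one_of_pole (p : ℕ) (P : A[X]) (hPm : P.Monic) (hPd : P.natDegree = p)
    (π : A) (hπ : maximalIdeal A = Ideal.span {π}) (ξ : K) (z : L)
    (hz : eval₂ (algebraMap A L) z P = algebraMap K L ξ)
    (n : ℕ) (a : Aˣ) (hn : 0 < n) (hpn : ¬ p ∣ n)
    (hξ : ξ * algebraMap A K π ^ n = algebraMap A K a)
    (V : ValuationSubring L) (hdom : Dominates A (algebraMap A L) V) :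
    eV (algebraMap A L) V hdom ≠ 1 := by
  intro he1
  have hirr : Irreducible π := (IsDiscreteValuationRing.irreducible_iff_uniformizer π).mpr hπ
  obtain ⟨hdvr, -, hstr⟩ := structure_at (K := K) V hdom hirr
  haveI := hdvr
  obtain ⟨ϖ, hϖ⟩ := IsDiscreteValuationRing.exists_irreducible V
  obtain ⟨w, hw⟩ := hstr ϖ hϖ
  rw [he1, pow_one] at hw
  let cod : A →+* V := RingHom.codRestrict (algebraMap A L) V hdom.1
  have hπm : cod π ∈ maximalIdeal V :=
    cod_mem _ V hdom (by rw [hπ]; exact Ideal.mem_span_singleton_self π)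
  have hπw : cod π = w * ϖ := Subtype.ext hw
  have haU : IsUnit (cod a) := a.isUnit.map cod
  have hrel : algebraMap K L ξ * algebraMap A L π ^ n = algebraMap A L a := by
    have := congrArg (algebraMap K L) hξ
    rw [map_mul, map_pow, ← IsScalarTower.algebraMap_apply,
      ← IsScalarTower.algebraMap_apply] at this
    exact this
  have hzV : z ∉ V := by
    intro hzV
    have h0 : ((eval₂ cod ⟨z, hzV⟩ P : V) : L) = algebraMap K L ξ :=
      (coe_eval₂ _ V hdom.1 ⟨z, hzV⟩ P).trans hz
    have h1 : eval₂ cod ⟨z, hzV⟩ P * cod π ^ n = cod a := by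
      apply Subtype.ext
      show ((eval₂ cod ⟨z, hzV⟩ P : V) : L) * (algebraMap A L π) ^ n = algebraMap A L a
      rw [h0]
      exact hrel
    have h2 : cod a ∈ maximalIdeal V := by
      rw [← h1]
      exact Ideal.mul_mem_left _ _ (Ideal.pow_mem_of_mem _ hπm n hn)
    exact (mem_maximalIdeal _).mp h2 haU
  have hz0 : z ≠ 0 := fun h => hzV (h ▸ V.zero_mem)
  have htV : z⁻¹ ∈ V := (V.mem_or_inv_mem z).resolve_left hzV
  let tV : V := ⟨z⁻¹, htV⟩
  have htm : tV ∈ maximalIdeal V := by
    by_contra hnm
    have hu : IsUnit tV := by rwa [mem_maximalIdeal, mem_nonunits_iff, not_not] at hnm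
    obtain ⟨s, hs⟩ := hu.exists_right_inv
    have h1 : z⁻¹ * (s : L) = 1 := congrArg Subtype.val hs
    have h2 : (s : L) = z := by
      rw [eq_inv_of_mul_eq_one_right h1, inv_inv]
    exact hzV (h2 ▸ s.2)
  have ht0 : tV ≠ 0 := by
    intro h
    have : z⁻¹ = 0 := congrArg Subtype.val h
    exact hz0 (inv_eq_zero.mp this)
  letI : Invertible z := invertibleOfNonzero hz0
  have hrev := eval₂_reverse_mul_pow (algebraMap A L) z P
  rw [invOf_eq_inv, hPd, hz] at hrev
  obtain ⟨Q, hQ⟩ := X_dvd_sub_C (p := P.reverse)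
  rw [coeff_zero_reverse, hPm.leadingCoeff, map_one, sub_eq_iff_eq_add] at hQ
  let RV : V := eval₂ cod tV P.reverse
  have hRVcoe : (RV : L) = eval₂ (algebraMap A L) z⁻¹ P.reverse :=
    coe_eval₂ _ V hdom.1 tV P.reverse
  have hRV : RV = tV * eval₂ cod tV Q + 1 := by
    show eval₂ cod tV P.reverse = _
    rw [hQ, eval₂_add, eval₂_mul, eval₂_X, eval₂_one]
  have hRU : IsUnit RV := by
    apply isUnit_of_mem_nonunits_one_sub_self
    have : 1 - RV = -(tV * eval₂ cod tV Q) := by rw [hRV]; ring
    rw [this]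
    exact (mem_maximalIdeal _).mp ((maximalIdeal V).neg_mem (Ideal.mul_mem_right _ _ htm))
  have hmain : RV * cod π ^ n = cod a * tV ^ p := by
    apply Subtype.ext
    show (RV : L) * (algebraMap A L π) ^ n = algebraMap A L a * (z⁻¹) ^ p
    rw [hRVcoe]
    have h3 : z ^ p * (z⁻¹) ^ p = 1 := by rw [← mul_pow, mul_inv_cancel₀ hz0, one_pow]
    linear_combination ((algebraMap A L π) ^ n * (z⁻¹) ^ p) * hrev + (z⁻¹) ^ p * hrel -
      eval₂ (algebraMap A L) z⁻¹ P.reverse * (algebraMap A L π) ^ n * h3
  obtain ⟨m, u, hu⟩ := IsDiscreteValuationRing.eq_unit_mul_pow_irreducible ht0 hϖ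
  rw [hπw, hu] at hmain
  have hfin : ((hRU.unit * w ^ n : Vˣ) : V) * ϖ ^ n =
      ((haU.unit * u ^ p : Vˣ) : V) * ϖ ^ (m * p) := by
    simp only [Units.val_mul, Units.val_pow_eq_pow_val, IsUnit.unit_spec]
    linear_combination hmain
  have hnm := IsDiscreteValuationRing.unit_mul_pow_congr_pow hϖ hϖ _ _ _ _ hfin
  exact hpn ⟨m, by rw [hnm, mul_comm]⟩

include K in
theorem stable_of_unique (V : ValuationSubring L) (hdom : Dominates A (algebraMap A L) V)
    (huniq : ∀ V', Dominates A (algebraMap A L) V' → V' = V) (σ : L ≃ₐ[K] L) (x : L)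
    (hx : V.valuation x < 1) : V.valuation (σ x) < 1 := by
  have hc := dominates_comap A K V hdom σ
  have hV := huniq _ hc
  have h2 : (V.comap (σ : L →+* L)).valuation x < 1 := by
    rw [valuation_lt_one_iff', hV, ← valuation_lt_one_iff']
    exact hx
  exact (valuation_comap_lt_one_iff V (σ : L →+* L) x).mp h2

include K in
theorem partA_aux (P : A[X]) (a₀ : A) (z : L)
    (hz : eval₂ (algebraMap A L) z P = algebraMap A L a₀) (hzint : IsIntegral A z)
    (hsep : ((P - C a₀).map (residue A)).Separable)
    (σ : L ≃ₐ[K] L)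
    (hσ : ∀ V, Dominates A (algebraMap A L) V → ¬ V.valuation (σ z - z) < 1)
    (V : ValuationSubring L) (hdom : Dominates A (algebraMap A L) V)
    (huniq : ∀ V', Dominates A (algebraMap A L) V' → V' = V) :
    (¬ Function.Surjective
      (fun a : A => residue V (RingHom.codRestrict (algebraMap A L) V hdom.1 a))) ∧
    (letI : Algebra A V := (RingHom.codRestrict (algebraMap A L) V hdom.1).toAlgebra
     ∀ [IsLocalHom (algebraMap A V)],
      ¬ IsPurelyInseparable (ResidueField A) (ResidueField V)) := by
  have hzV : z ∈ V := mem_of_isIntegral V hdom.1 hzint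
  let cod := RingHom.codRestrict (algebraMap A L) V hdom.1
  let zV : V := ⟨z, hzV⟩
  have key : ∀ c : A, residue V zV = residue V (cod c) → False := by
    intro c hc
    have h1 : zV - cod c ∈ maximalIdeal V := by
      rw [← residue_eq_zero_iff, map_sub, hc, sub_self]
    have h2 : V.valuation (z - algebraMap A L c) < 1 := (V.valuation_lt_one_iff _).mp h1
    have h3 := stable_of_unique A K V hdom huniq σ _ h2
    have h4 : σ (z - algebraMap A L c) = σ z - algebraMap A L c := by
      rw [map_sub, IsScalarTower.algebraMap_apply A K L, AlgEquiv.commutes]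
    rw [h4] at h3
    have h5 := V.valuation.map_sub_lt h3 h2
    rw [sub_sub_sub_cancel_right] at h5
    exact hσ V hdom h5
  refine ⟨fun hs => ?_, ?_⟩
  · obtain ⟨c, hc⟩ := hs (residue V zV)
    exact key c hc.symm
  · intro inst hpi
    letI algV : Algebra A V := (RingHom.codRestrict (algebraMap A L) V hdom.1).toAlgebra
    have hroot : aeval (residue V zV) ((P - C a₀).map (residue A)) = 0 := by
      rw [aeval_def, eval₂_map]
      have hcomp : (algebraMap (ResidueField A) (ResidueField V)).comp (residue A) =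
          (residue V).comp cod := rfl
      rw [hcomp, ← hom_eval₂]
      have h0 : eval₂ cod zV (P - C a₀) = 0 := by
        apply Subtype.ext
        refine (coe_eval₂ _ V hdom.1 zV _).trans ?_
        show eval₂ (algebraMap A L) z (P - C a₀) = 0
        rw [eval₂_sub, eval₂_C, hz, sub_self]
      rw [h0, map_zero]
    have hsepz : IsSeparable (ResidueField A) (residue V zV) :=
      hsep.of_dvd (minpoly.dvd _ _ hroot)
    obtain ⟨c', hc'⟩ := RingHom.mem_range.mp
      (IsPurelyInseparable.inseparable (ResidueField A) _ hsepz)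
    obtain ⟨c, rfl⟩ := residue_surjective c'
    exact key c hc'.symm

end Parts

section Assemble

open Polynomial

variable (A K : Type u) {L : Type u} [CommRing A] [IsDomain A] [IsDiscreteValuationRing A]
  [Field K] [Algebra A K] [IsFractionRing A K] [Field L] [Algebra K L] [Algebra A L]
  [IsScalarTower A K L] [FiniteDimensional K L] [IsGalois K L]

include K in
theorem eV_eq_one_of_finrank_one (h1 : Module.finrank K L = 1) (V : ValuationSubring L)
    (hdom : Dominates A (algebraMap A L) V) : eV (algebraMap A L) V hdom = 1 := by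
  haveI : Algebra.IsSeparable K L := inferInstance
  obtain ⟨π, hπ⟩ := IsDiscreteValuationRing.exists_irreducible A
  obtain ⟨-, h0, -⟩ := structure_at (K := K) V hdom hπ
  have hle := ramIdx_le_finrank A K V hdom
  rw [h1] at hle
  have hle' : eV (algebraMap A L) V hdom ≤ 1 := hle
  omega

include K in
theorem assemble (p : ℕ) (hp : p.Prime) [CharP (ResidueField A) p]
    (hdeg : Module.finrank K L = 1 ∨ Module.finrank K L = p)
    (P : A[X]) (hPm : P.Monic) (hPd : P.natDegree = p) (π : A)
    (hπ : maximalIdeal A = Ideal.span {π}) (ξ : K) (z : L)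
    (hz : eval₂ (algebraMap A L) z P = algebraMap K L ξ)
    (hA : ∀ a₀ : A, algebraMap A K a₀ = ξ → Module.finrank K L = p →
      ((P - C a₀).map (residue A)).Separable ∧
        ∃ σ : L ≃ₐ[K] L, ∀ V, Dominates A (algebraMap A L) V → ¬ V.valuation (σ z - z) < 1) :
    (Module.finrank K L = 1 ∨ (IsUnramifiedExt A (algebraMap A L) ∧ Module.finrank K L = p) ∨
      (IsTotallyRamified A (algebraMap A L) ∧ Module.finrank K L = p) ∨
      Case4 A (algebraMap A L) p) ∧
    ((∃ a : A, algebraMap A K a = ξ) →
      Module.finrank K L = 1 ∨ (IsUnramifiedExt A (algebraMap A L) ∧ Module.finrank K L = p)) ∧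
    (∀ (n : ℕ) (a : Aˣ), 0 < n → ¬ p ∣ n → ξ * algebraMap A K π ^ n = algebraMap A K a →
      IsTotallyRamified A (algebraMap A L) ∧ Module.finrank K L = p) ∧
    (∀ (n : ℕ) (a : A), 0 < n → p ∣ n → (∀ r : A, residue A a ≠ residue A r ^ p) →
      ξ * algebraMap A K π ^ n = algebraMap A K a → Case4 A (algebraMap A L) p) := by
  classical
  haveI : Algebra.IsSeparable K L := inferInstance
  obtain ⟨V₀, hV₀⟩ := exists_dominating A K (L := L)
  letI algV₀ : Algebra A V₀ := (RingHom.codRestrict (algebraMap A L) V₀ hV₀.1).toAlgebra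
  haveI hloc₀ : IsLocalHom (algebraMap A V₀) := isLocalHom_of_dominates _ V₀ hV₀
  have hcases : Module.finrank K L = 1 ∨
      (IsUnramifiedExt A (algebraMap A L) ∧ Module.finrank K L = p) ∨
      (IsTotallyRamified A (algebraMap A L) ∧ Module.finrank K L = p) ∨
      Case4 A (algebraMap A L) p := by
    rcases hdeg with h1 | hd
    · exact Or.inl h1
    · rcases trichotomy A K p hp hd with h | h | h
      · exact Or.inr (Or.inl ⟨h, hd⟩)
      · exact Or.inr (Or.inr (Or.inl ⟨h, hd⟩))
      · exact Or.inr (Or.inr (Or.inr h))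
  refine ⟨hcases, ?_, ?_, ?_⟩
  · rintro ⟨a₀, ha₀⟩
    rcases hdeg with h1 | hd
    · exact Or.inl h1
    obtain ⟨hsep, σ, hσ⟩ := hA a₀ ha₀ hd
    have hz' : eval₂ (algebraMap A L) z P = algebraMap A L a₀ := by
      rw [hz, ← ha₀, ← IsScalarTower.algebraMap_apply]
    have hzint : IsIntegral A z := by
      refine ⟨P - C a₀, hPm.sub_of_left ?_, by rw [eval₂_sub, eval₂_C, hz', sub_self]⟩
      refine degree_C_le.trans_lt ?_
      rw [degree_eq_natDegree hPm.ne_zero, hPd]
      exact_mod_cast hp.pos
    rcases trichotomy A K p hp hd with h | h | h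
    · exact Or.inr ⟨h, hd⟩
    · exfalso
      have := partA_aux A K P a₀ z hz' hzint hsep σ hσ V₀ hV₀
        (fun V' hV' => h.2.1 V' V₀ hV' hV₀)
      exact this.1 (h.2.2 V₀ hV₀)
    · exfalso
      have := partA_aux A K P a₀ z hz' hzint hsep σ hσ V₀ hV₀
        (fun V' hV' => h.2.1 V' V₀ hV' hV₀)
      exact this.2 (h.2.2 V₀ hV₀).2.1
  · intro n a hn hpn hξ
    have hne := eV_ne_one_of_pole A K p P hPm hPd π hπ ξ z hz n a hn hpn hξ V₀ hV₀
    rcases hcases with h1 | ⟨h, hd⟩ | h | h
    · exact absurd (eV_eq_one_of_finrank_one A K h1 V₀ hV₀) hne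
    · exact absurd ((weaklyUnramified_iff A K V₀ hV₀).mp (h V₀ hV₀).1) hne
    · exact h
    · exact absurd ((weaklyUnramified_iff A K V₀ hV₀).mp (h.2.2 V₀ hV₀).1) hne
  · intro n a hn hpn hres hξ
    obtain ⟨m, rfl⟩ := hpn
    have hm : 0 < m := by
      rcases Nat.eq_zero_or_pos m with h0 | h0
      · rw [h0, mul_zero] at hn
        exact absurd hn (lt_irrefl 0)
      · exact h0
    rw [mul_comm p m] at hξ
    obtain ⟨y, hyint, hy⟩ := exists_integral_root A K p hp.pos P hPm hPd π hπ ξ z hz m hm a hξ
    have hyV₀ : y ∈ V₀ := mem_of_isIntegral V₀ hV₀.1 hyint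
    have hy₀ := hy V₀ hV₀ hyV₀
    rcases hcases with h1 | ⟨h, hd⟩ | ⟨h, hd⟩ | h
    · exfalso
      obtain ⟨r, rfl⟩ := exists_of_finrank_one A K h1 y hyint
      exact hres r (residue_pow_of_eq _ V₀ hV₀ p _ a r hy₀ rfl)
    · exfalso
      haveI : ExpChar (ResidueField A) p := ExpChar.prime hp
      haveI hs : Algebra.IsSeparable (ResidueField A) (ResidueField V₀) := (h V₀ hV₀).2
      have hmem := mem_range_of_sep_of_pow (ResidueField A) (ResidueField V₀) p
        (residue V₀ ⟨y, hyV₀⟩) (Algebra.IsSeparable.isSeparable _ _)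
        (RingHom.mem_range.mpr ⟨residue A a, hy₀.symm⟩)
      obtain ⟨c', hc'⟩ := RingHom.mem_range.mp hmem
      obtain ⟨r, rfl⟩ := residue_surjective c'
      exact hres r (residue_pow_of_eq _ V₀ hV₀ p _ a r hy₀ hc'.symm)
    · exfalso
      obtain ⟨r, hr⟩ := h.2.2 V₀ hV₀ (residue V₀ ⟨y, hyV₀⟩)
      exact hres r (residue_pow_of_eq _ V₀ hV₀ p _ a r hy₀ hr.symm)
    · exact h

end Assemble

section AS

open Polynomial

variable (p : ℕ) [hpF : Fact p.Prime] {K L : Type u} [Field K] [Field L] [Algebra K L]
  [CharP K p] [CharP L p]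

omit [CharP K p] in
include hpF in
theorem fix_bot (σ : L ≃ₐ[K] L) (c : L) (hc : c ∈ (⊥ : Subfield L)) : σ c = c := by
  obtain ⟨n, rfl⟩ := (mem_bot_iff_intCast p L).mp hc
  exact map_intCast σ n

omit [CharP K p] in
theorem as_mem_bot (ξ : K) (z : L) (hz : z ^ p - z = algebraMap K L ξ) (σ : L ≃ₐ[K] L) :
    σ z - z ∈ (⊥ : Subfield L) := by
  rw [Subfield.mem_bot_iff_pow_eq_self L p]
  have hzp : z ^ p = z + algebraMap K L ξ := by rw [← hz]; ring
  rw [sub_pow_char, ← map_pow, hzp, map_add, AlgEquiv.commutes]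
  ring

omit [CharP K p] in
noncomputable def asHom (ξ : K) (z : L) (hz : z ^ p - z = algebraMap K L ξ) :
    (L ≃ₐ[K] L) →* Multiplicative (⊥ : Subfield L) where
  toFun σ := Multiplicative.ofAdd ⟨σ z - z, as_mem_bot p ξ z hz σ⟩
  map_one' := by
    show Multiplicative.ofAdd (⟨(1 : L ≃ₐ[K] L) z - z, _⟩ : (⊥ : Subfield L)) = 1
    rw [← ofAdd_zero]
    congr 1
    apply Subtype.ext
    show (1 : L ≃ₐ[K] L) z - z = 0
    rw [AlgEquiv.one_apply, sub_self]
  map_mul' σ τ := by
    show Multiplicative.ofAdd (⟨(σ * τ) z - z, _⟩ : (⊥ : Subfield L)) =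
      Multiplicative.ofAdd ⟨σ z - z, _⟩ * Multiplicative.ofAdd ⟨τ z - z, _⟩
    rw [← ofAdd_add]
    congr 1
    apply Subtype.ext
    show (σ * τ) z - z = (σ z - z) + (τ z - z)
    have h1 : σ (τ z - z) = τ z - z := fix_bot p σ _ (as_mem_bot p ξ z hz τ)
    rw [AlgEquiv.mul_apply]
    have h2 : σ (τ z) = σ (τ z - z) + σ z := by
      rw [← map_add]
      congr 1
      ring
    rw [h2, h1]
    ring

omit hpF [CharP K p] [CharP L p] in
theorem eq_one_of_fix {z : L} (hadj : Algebra.adjoin K {z} = ⊤) (σ : L ≃ₐ[K] L)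
    (h : σ z = z) : σ = 1 := by
  apply AlgEquiv.coe_toAlgHom_injective
  apply AlgHom.ext_of_adjoin_eq_top hadj
  intro x hx
  rw [Set.mem_singleton_iff.mp hx]
  exact h

theorem as_main (ξ : K) (z : L) (hz : z ^ p - z = algebraMap K L ξ)
    (hgen : IntermediateField.adjoin K {z} = ⊤) :
    ∃ (_ : FiniteDimensional K L) (_ : IsGalois K L),
      (Module.finrank K L = 1 ∨ Module.finrank K L = p) ∧
      (Module.finrank K L = p → ∃ σ : L ≃ₐ[K] L, ∃ c : L, σ z - z = c ∧ c ^ (p - 1) = 1) := by
  have hp := hpF.out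
  let F : K[X] := X ^ p - X - C ξ
  have hFdeg : F.natDegree = p := by
    rw [show F = (X ^ p - X) - C ξ from rfl, natDegree_sub_C,
      FiniteField.X_pow_card_sub_X_natDegree_eq K hp.one_lt]
  have hF0 : F ≠ 0 := ne_zero_of_natDegree_gt (n := 0) (by rw [hFdeg]; exact hp.pos)
  have hroot : aeval z F = 0 := by
    simp only [F, map_sub, map_pow, aeval_X, aeval_C]
    rw [hz, sub_self]
  have hzalg : IsAlgebraic K z := ⟨F, hF0, hroot⟩
  have hadj : Algebra.adjoin K {z} = ⊤ := by
    rw [← IntermediateField.adjoin_simple_toSubalgebra_of_isAlgebraic hzalg, hgen,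
      IntermediateField.top_toSubalgebra]
  have hmap : F.map (algebraMap K L) = (X ^ p - X : L[X]).comp (X - C z) := by
    simp only [F, Polynomial.map_sub, Polynomial.map_pow, map_X, map_C, sub_comp, X_pow_comp,
      X_comp]
    rw [sub_pow_char, ← C_pow, ← hz, C_sub]
    ring
  have hsplit : (F.map (algebraMap K L)).Splits := by
    rw [hmap]
    have h0 : (X ^ p - X : L[X]).Splits := by
      have := (Subfield.splits_bot L p).map (⊥ : Subfield L).subtype
      simpa using this
    exact h0.comp_X_sub_C z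
  haveI : F.IsSplittingField K L := ⟨hsplit, by
    rw [eq_top_iff, ← hadj]
    apply Algebra.adjoin_mono
    rw [Set.singleton_subset_iff, mem_rootSet]
    exact ⟨hF0, hroot⟩⟩
  have hsepF : F.Separable := by
    rw [separable_def]
    have hder : derivative F = -1 := by
      simp only [F, derivative_sub, derivative_X_pow, derivative_X, derivative_C,
        CharP.cast_eq_zero K p, C_0, zero_mul, zero_sub, sub_zero]
    rw [hder]
    exact isCoprime_one_right.neg_right
  haveI hfd : FiniteDimensional K L := IsSplittingField.finiteDimensional L F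
  haveI hgal : IsGalois K L := IsGalois.of_separable_splitting_field hsepF
  have hfin := IsGalois.card_aut_eq_finrank K L
  have hcard : Nat.card (L ≃ₐ[K] L) ∣ p := by
    have hinj : Function.Injective (asHom p ξ z hz) := by
      rw [injective_iff_map_eq_one]
      intro σ hσ
      have h0 : σ z - z = 0 :=
        congrArg (fun t => ((Multiplicative.toAdd t : (⊥ : Subfield L)) : L)) hσ
      exact eq_one_of_fix hadj σ (sub_eq_zero.mp h0)
    have := Subgroup.card_dvd_of_injective _ hinj
    rwa [Nat.card_congr Multiplicative.toAdd, Subfield.card_bot L p] at this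
  rw [hfin] at hcard
  refine ⟨hfd, hgal, (Nat.dvd_prime hp).mp hcard, fun hd => ?_⟩
  have h1 : 1 < Nat.card (L ≃ₐ[K] L) := by rw [hfin, hd]; exact hp.one_lt
  haveI : Nontrivial (L ≃ₐ[K] L) := Finite.one_lt_card_iff_nontrivial.mp h1
  obtain ⟨σ, hσ⟩ := exists_ne (1 : L ≃ₐ[K] L)
  refine ⟨σ, σ z - z, rfl, ?_⟩
  have hc := as_mem_bot p ξ z hz σ
  have hc0 : σ z - z ≠ 0 := fun h0 => hσ (eq_one_of_fix hadj σ (sub_eq_zero.mp h0))
  have hcp := (Subfield.mem_bot_iff_pow_eq_self L p).mp hc
  have : (σ z - z) * (σ z - z) ^ (p - 1) = (σ z - z) * 1 := by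
    rw [← pow_succ', Nat.sub_add_cancel hp.one_le, hcp, mul_one]
  exact mul_left_cancel₀ hc0 this

end AS

section Main

open Polynomial

theorem main (p : ℕ) (hp : p.Prime) (A K L : Type u) [CommRing A] [IsDomain A]
    [IsDiscreteValuationRing A] [Field K] [Algebra A K] [IsFractionRing A K] [Field L]
    [Algebra K L] [Algebra A L] [IsScalarTower A K L] [CharP K p] (π : A)
    (hπ : maximalIdeal A = Ideal.span {π}) (ξ : K) (z : L)
    (hz : z ^ p - z = algebraMap K L ξ) (hgen : IntermediateField.adjoin K {z} = ⊤) :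
    IsGalois K L ∧
    (Module.finrank K L = 1 ∨ (IsUnramifiedExt A (algebraMap A L) ∧ Module.finrank K L = p) ∨
      (IsTotallyRamified A (algebraMap A L) ∧ Module.finrank K L = p) ∨
      Case4 A (algebraMap A L) p) ∧
    ((∃ a : A, algebraMap A K a = ξ) →
      Module.finrank K L = 1 ∨ (IsUnramifiedExt A (algebraMap A L) ∧ Module.finrank K L = p)) ∧
    (∀ (n : ℕ) (a : Aˣ), 0 < n → ¬ p ∣ n → ξ * algebraMap A K π ^ n = algebraMap A K a →
      IsTotallyRamified A (algebraMap A L) ∧ Module.finrank K L = p) ∧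
    (∀ (n : ℕ) (a : A), 0 < n → p ∣ n → (∀ r : A, residue A a ≠ residue A r ^ p) →
      ξ * algebraMap A K π ^ n = algebraMap A K a → Case4 A (algebraMap A L) p) := by
  haveI : Fact p.Prime := ⟨hp⟩
  haveI : CharP L p := CharP.of_ringHom_of_ne_zero (algebraMap K L) p hp.ne_zero
  haveI : CharP A p := (algebraMap A K).charP (IsFractionRing.injective A K) p
  haveI : CharP (ResidueField A) p := CharP.of_ringHom_of_ne_zero (residue A) p hp.ne_zero
  obtain ⟨hfd, hgal, hdeg, hσ⟩ := as_main p ξ z hz hgen
  haveI := hfd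
  haveI := hgal
  refine ⟨hgal, ?_⟩
  have hPm : (X ^ p - X : A[X]).Monic :=
    (monic_X_pow p).sub_of_left (by rw [degree_X_pow, degree_X]; exact_mod_cast hp.one_lt)
  have hPd : (X ^ p - X : A[X]).natDegree = p :=
    (natDegree_sub_eq_left_of_natDegree_lt
      (by rw [natDegree_X, natDegree_X_pow]; exact hp.one_lt)).trans (natDegree_X_pow p)
  have hzP : eval₂ (algebraMap A L) z (X ^ p - X : A[X]) = algebraMap K L ξ := by
    simp only [eval₂_sub, eval₂_pow, eval₂_X]
    exact hz
  refine assemble A K p hp hdeg (X ^ p - X) hPm hPd π hπ ξ z hzP (fun a₀ ha₀ hd => ⟨?_, ?_⟩)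
  · rw [separable_def]
    have hder : derivative (((X ^ p - X : A[X]) - C a₀).map (residue A)) = -1 := by
      simp only [Polynomial.map_sub, Polynomial.map_pow, map_X, map_C, derivative_sub,
        derivative_X_pow, derivative_X, derivative_C, CharP.cast_eq_zero (ResidueField A) p,
        C_0, zero_mul, zero_sub, sub_zero]
    rw [hder]
    exact isCoprime_one_right.neg_right
  · obtain ⟨σ, c, hc, hc1⟩ := hσ hd
    refine ⟨σ, fun V hV hlt => ?_⟩
    rw [hc] at hlt
    have hcV : c ∈ V := (V.valuation_le_one_iff c).mp hlt.le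
    have hm : (⟨c, hcV⟩ : V) ∈ maximalIdeal V := (V.valuation_lt_one_iff _).mpr hlt
    have hm1 : (⟨c, hcV⟩ : V) ^ (p - 1) ∈ maximalIdeal V :=
      Ideal.pow_mem_of_mem _ hm _ (Nat.sub_pos_of_lt hp.one_lt)
    have h1 : (⟨c, hcV⟩ : V) ^ (p - 1) = 1 := Subtype.ext hc1
    rw [h1] at hm1
    exact (Ideal.ne_top_iff_one _).mp (maximalIdeal.isMaximal V).ne_top hm1

end Main


/-- Let A be a discrete valuation ring whose fraction field K has characteristic p > 0, let ξ be an
element of K and let L = K(z) be obtained by adjoining a root z of z^p - z = ξ. Then L/K is a Galois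
extension, and it falls under one of four cases: (1) L = K; (2) L/K has degree p and is unramified
with respect to A; (3) L/K has degree p and is totally ramified with respect to A (ramification
index p); (4) exactly one valuation ring of L dominates A (so B, the integral closure of A in L, is
itself a discrete valuation ring), the extension A → B is weakly unramified, and its residue field
extension is purely inseparable of degree p. Moreover, with π a uniformizer of A: (A) if ξ lies in
A, case (1) or (2) holds; (B) if ξ = π⁻ⁿa with n > 0 prime to p and a a unit of A, case (3) holds;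
(C) if ξ = π⁻ⁿa with n > 0 divisible by p and the residue class of a not a p-th power, case (4)
holds. -/
theorem result (p : ℕ) (hp : p.Prime) (A K L : Type u) [CommRing A] [IsDomain A]
    [IsDiscreteValuationRing A] [Field K] [Algebra A K] [IsFractionRing A K] [Field L] [Algebra K L] [Algebra A L]
    [IsScalarTower A K L] [CharP K p] (π : A) (hπ : IsLocalRing.maximalIdeal A = Ideal.span {π})
    (ξ : K) (z : L) (hz : z ^ p - z = algebraMap K L ξ) (hgen : IntermediateField.adjoin K {z} = ⊤) :
    let g : A →+* L := algebraMap A L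
    let case1 : Prop := Module.finrank K L = 1
    let case2 : Prop := EtRam.IsUnramifiedExt A g ∧ Module.finrank K L = p
    let case3 : Prop := EtRam.IsTotallyRamified A g ∧ Module.finrank K L = p
    let case4 : Prop := (∃ V : ValuationSubring L, EtRam.Dominates A g V) ∧
      (∀ V V' : ValuationSubring L, EtRam.Dominates A g V → EtRam.Dominates A g V' → V = V') ∧
      ∀ (V : ValuationSubring L) (h : EtRam.Dominates A g V),
        letI : Algebra A V := (RingHom.codRestrict g V h.1).toAlgebra
        ∀ [IsLocalHom (algebraMap A V)],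
          EtRam.IsWeaklyUnramified A V ∧
            IsPurelyInseparable (IsLocalRing.ResidueField A) (IsLocalRing.ResidueField V) ∧
            Module.finrank (IsLocalRing.ResidueField A) (IsLocalRing.ResidueField V) = p
    IsGalois K L ∧ (case1 ∨ case2 ∨ case3 ∨ case4) ∧
      ((∃ a : A, algebraMap A K a = ξ) → case1 ∨ case2) ∧
      (∀ (n : ℕ) (a : Aˣ), 0 < n → ¬ p ∣ n → ξ * algebraMap A K π ^ n = algebraMap A K a → case3) ∧
      (∀ (n : ℕ) (a : A), 0 < n → p ∣ n → (∀ r : A, IsLocalRing.residue A a ≠ IsLocalRing.residue A r ^ p) →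
          ξ * algebraMap A K π ^ n = algebraMap A K a → case4) := by
  exact main p hp A K L π hπ ξ z hz hgen

end Groth.Agent.S7158
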