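import Groth.Statements.S7132
import Groth.Agent.Lib.Helper25.ValuationExt

set_option autoImplicit false
universe u
open EtAlg

namespace Groth.Agent.S7132

/-- For an injective local homomorphism A → B of discrete valuation rings whose fraction fields K ⊆ L
form a finite extension, the residue field of B is finite over that of A, and the ramification index
e times the residue degree f is at most [L : K]. -/
theorem result (A B K L : Type u) [CommRing A] [IsDomain A]
    [IsDiscreteValuationRing A] [CommRing B] [IsDomain B] [IsDiscreteValuationRing B] [Algebra A B]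
    (hinj : Function.Injective (algebraMap A B)) [IsLocalHom (algebraMap A B)]
    [Field K] [Field L] [Algebra A K] [IsFractionRing A K] [Algebra B L] [IsFractionRing B L]
    [Algebra K L] [Algebra A L] [IsScalarTower A K L] [IsScalarTower A B L] [FiniteDimensional K L] :
    Module.Finite (IsLocalRing.ResidueField A) (IsLocalRing.ResidueField B) ∧
      Ideal.ramificationIdx' (IsLocalRing.maximalIdeal A) (IsLocalRing.maximalIdeal B) *
          Module.finrank (IsLocalRing.ResidueField A) (IsLocalRing.ResidueField B) ≤
        Module.finrank K L := by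
  classical
  set f := algebraMap A B with hf
  obtain ⟨ϖA, hA⟩ := IsDiscreteValuationRing.exists_irreducible A
  obtain ⟨ϖB, hB⟩ := IsDiscreteValuationRing.exists_irreducible B
  have hmA : IsLocalRing.maximalIdeal A = Ideal.span {ϖA} := hA.maximalIdeal_eq
  have hmB : IsLocalRing.maximalIdeal B = Ideal.span {ϖB} := hB.maximalIdeal_eq
  have hfϖ : f ϖA ≠ 0 := by
    intro h
    exact hA.ne_zero (hinj (by rw [h, map_zero]))
  -- e := addVal (f ϖA)
  obtain ⟨e, he⟩ : ∃ e : ℕ, IsDiscreteValuationRing.addVal B (f ϖA) = e := by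
    have : IsDiscreteValuationRing.addVal B (f ϖA) ≠ ⊤ := by
      rw [Ne, IsDiscreteValuationRing.addVal_eq_top_iff]; exact hfϖ
    obtain ⟨e, he⟩ := ENat.ne_top_iff_exists.mp this
    exact ⟨e, he.symm⟩
  have hpowval : ∀ n : ℕ, IsDiscreteValuationRing.addVal B (ϖB ^ n) = n := by
    intro n
    rw [IsDiscreteValuationRing.addVal_pow, IsDiscreteValuationRing.addVal_uniformizer hB]
    simp
  have hle : ∀ n : ℕ, Ideal.map f (IsLocalRing.maximalIdeal A) ≤ IsLocalRing.maximalIdeal B ^ n ↔
      n ≤ e := by
    intro n
    rw [hmA, hmB, Ideal.map_span, Set.image_singleton, Ideal.span_singleton_pow,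
      Ideal.span_singleton_le_span_singleton, ← IsDiscreteValuationRing.addVal_le_iff_dvd,
      hpowval, he]
    exact Nat.cast_le
  have hram : Ideal.ramificationIdx' (IsLocalRing.maximalIdeal A) (IsLocalRing.maximalIdeal B) = e :=
    Ideal.ramificationIdx'_spec ((hle e).mpr le_rfl) (by rw [hle]; omega)
  rw [hram]
  have he1 : 1 ≤ e := by
    rw [← hle 1, pow_one]
    have h02 := (IsLocalRing.local_hom_TFAE f).out 0 2
    exact h02.mp (inferInstanceAs (IsLocalHom (algebraMap A B)))
  -- valuations of images
  have hval : ∀ x : A, x ≠ 0 → ∃ i : ℕ, IsDiscreteValuationRing.addVal B (f x) = ((i * e : ℕ) : ℕ∞) := by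
    intro x hx
    obtain ⟨i, u, rfl⟩ := IsDiscreteValuationRing.eq_unit_mul_pow_irreducible hx hA
    refine ⟨i, ?_⟩
    rw [map_mul, map_pow, IsDiscreteValuationRing.addVal_mul, IsDiscreteValuationRing.addVal_pow, he]
    have : IsDiscreteValuationRing.addVal B (f (u : A)) = 0 :=
      IsDiscreteValuationRing.addVal_eq_zero_of_unit (Units.map (f : A →* B) u)
    rw [this, zero_add]
    push_cast
    simp
  have hLinj : Function.Injective (algebraMap B L) := IsFractionRing.injective B L
  have hϖL : algebraMap B L ϖB ≠ 0 := by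
    intro h
    exact hB.ne_zero (hLinj (by rw [h, map_zero]))
  let x : Lˣ := Units.mk0 (algebraMap B L ϖB) hϖL
  let q : Fin e → (Lˣ ⧸ (Units.map (algebraMap B L).toMonoidHom).range) ⧸
      ((QuotientGroup.mk' (Units.map (algebraMap B L).toMonoidHom).range).comp
        (Units.map (algebraMap K L).toMonoidHom)).range :=
    fun t => QuotientGroup.mk (QuotientGroup.mk (x ^ (t : ℕ)))
  have hq : Function.Injective q := by
    intro t t' htt'
    simp only [q] at htt'
    rw [QuotientGroup.eq] at htt'
    obtain ⟨y, hy⟩ := htt'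
    simp only [MonoidHom.coe_comp, Function.comp_apply, QuotientGroup.mk'_apply] at hy
    rw [← QuotientGroup.mk_inv, ← QuotientGroup.mk_mul, QuotientGroup.eq] at hy
    obtain ⟨u, hu⟩ := hy
    have hu' := congrArg Units.val hu
    simp only [Units.val_mul, Units.val_inv_eq_inv_val, Units.coe_map, MonoidHom.coe_coe,
      RingHom.toMonoidHom_eq_coe, Units.val_pow_eq_pow_val, x, Units.val_mk0] at hu'
    -- hu' : algebraMap B L u = (algebraMap K L y)⁻¹ * ((ϖ^t)⁻¹ * ϖ^t')
    obtain ⟨a, b, hb, hab⟩ := IsFractionRing.div_surjective (A := A) (y : K)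
    have hb0 : b ≠ 0 := nonZeroDivisors.ne_zero hb
    have hbK : algebraMap A K b ≠ 0 := by
      rw [Ne, IsFractionRing.to_map_eq_zero_iff]; exact hb0
    have ha0 : a ≠ 0 := by
      rintro rfl
      rw [map_zero, zero_div] at hab
      exact y.ne_zero hab.symm
    have haK : algebraMap A K a ≠ 0 := by
      rw [Ne, IsFractionRing.to_map_eq_zero_iff]; exact ha0
    have key : f a * (u : B) * ϖB ^ (t : ℕ) = f b * ϖB ^ (t' : ℕ) := by
      apply hLinj
      rw [map_mul, map_mul, map_mul, map_pow, map_pow, hu', ← hab,
        ← IsScalarTower.algebraMap_apply A B L, ← IsScalarTower.algebraMap_apply A B L,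
        IsScalarTower.algebraMap_apply A K L a, IsScalarTower.algebraMap_apply A K L b, map_div₀]
      have h1 : algebraMap K L (algebraMap A K a) ≠ 0 := by
        rw [Ne, map_eq_zero_iff _ (algebraMap K L).injective]; exact haK
      have h2 : algebraMap K L (algebraMap A K b) ≠ 0 := by
        rw [Ne, map_eq_zero_iff _ (algebraMap K L).injective]; exact hbK
      field_simp
    obtain ⟨i, hi⟩ := hval a ha0
    obtain ⟨j, hj⟩ := hval b hb0
    have h2 := congrArg (IsDiscreteValuationRing.addVal B) key
    rw [IsDiscreteValuationRing.addVal_mul, IsDiscreteValuationRing.addVal_mul,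
      IsDiscreteValuationRing.addVal_mul, hpowval, hpowval, hi, hj,
      IsDiscreteValuationRing.addVal_eq_zero_of_unit u, add_zero] at h2
    have h3 : i * e + (t : ℕ) = j * e + (t' : ℕ) := by exact_mod_cast h2
    have h4 := congrArg (· % e) h3
    simp only [Nat.mul_add_mod_self_right, Nat.mod_eq_of_lt t.2, Nat.mod_eq_of_lt t'.2] at h4
    exact Fin.ext h4
  have G := fun f' ωb hωb =>
    Groth.Agent.Lib.Helper25.ValuationExt.mul_le_finrank (A := A) (B := B) (K := K) (L := L)
      f' e ωb hωb q hq
  have hfin : Module.Finite (IsLocalRing.ResidueField A) (IsLocalRing.ResidueField B) := by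
    by_contra hnf
    have hrank : ((Module.finrank K L + 1 : ℕ) : Cardinal) ≤
        Module.rank (IsLocalRing.ResidueField A) (IsLocalRing.ResidueField B) := by
      have := not_lt.mp (mt Module.rank_lt_aleph0_iff.mp hnf)
      exact Cardinal.natCast_lt_aleph0.le.trans this
    obtain ⟨ωb, hωb⟩ := exists_linearIndependent_of_le_rank hrank
    have := G (Module.finrank K L + 1) ωb hωb
    nlinarith
  refine ⟨hfin, ?_⟩
  have hb := Module.finBasis (IsLocalRing.ResidueField A) (IsLocalRing.ResidueField B)
  exact G _ hb hb.linearIndependent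


end Groth.Agent.S7132
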