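import Groth.Statements.S7157
import Mathlib
import Groth.Agent.Lib.Helper9.EisensteinField

set_option autoImplicit false
universe u
open EtAlg

namespace Groth.Agent.S7157

open Polynomial IsLocalRing Groth.Agent.Lib.Helper9 Groth.Agent.Lib.Helper9.EisensteinField

theorem root_eq_of_linear {A : Type u} [CommRing A] (π : A) (F : A[X]) (hF : F = X ^ 1 - C π) :
    AdjoinRoot.root F = AdjoinRoot.of F π := by
  have h0 : AdjoinRoot.mk F (X ^ 1 - C π) = 0 := by
    rw [← hF]
    exact AdjoinRoot.mk_self
  rw [map_sub, map_pow, AdjoinRoot.mk_X, AdjoinRoot.mk_C, pow_one, sub_eq_zero] at h0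
  exact h0

/-- Let A be a discrete valuation ring, π a uniformizer, K its field of fractions, and suppose the
residue field of A has characteristic p > 0. For every n > 1 and every power q of p there is a
separable degree-q extension L/K that is totally ramified with respect to A and whose ring of
integers B (the integral closure of A in L) contains elements π_B, b, b' with π_B^q = π + πⁿ·b and
π_B^q = π + π_B^(nq)·b' (π_B is then a uniformizer of B and the ramification index is q). -/
theorem result (p : ℕ) (hp : p.Prime) (A K : Type u)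
    [CommRing A] [IsDomain A] [IsDiscreteValuationRing A] [Field K] [Algebra A K] [IsFractionRing A K]
    [CharP (IsLocalRing.ResidueField A) p] (π : A) (hπ : IsLocalRing.maximalIdeal A = Ideal.span {π})
    (n : ℕ) (hn : 1 < n) (k : ℕ) :
    ∃ (L : Type u) (_ : Field L) (_ : Algebra K L) (_ : Algebra A L) (_ : IsScalarTower A K L),
      Module.finrank K L = p ^ k ∧ Algebra.IsSeparable K L ∧ EtRam.IsTotallyRamified A (algebraMap A L) ∧
      ∃ πB b b' : L, πB ∈ integralClosure A L ∧ b ∈ integralClosure A L ∧ b' ∈ integralClosure A L ∧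
        πB ^ (p ^ k) = algebraMap A L π + algebraMap A L π ^ n * b ∧
        πB ^ (p ^ k) = algebraMap A L π + πB ^ (n * p ^ k) * b' := by
  classical
  have hπirr : Irreducible π := (IsDiscreteValuationRing.irreducible_iff_uniformizer π).mpr hπ
  have hπmem : π ∈ maximalIdeal A := by rw [hπ]; exact Ideal.mem_span_singleton_self π
  have hπnot : π ∉ maximalIdeal A ^ 2 := by
    rw [hπ, Ideal.span_singleton_pow, Ideal.mem_span_singleton]
    rintro ⟨c, hc⟩
    have h1 : π * 1 = π * (π * c) := by
      rw [mul_one]
      conv_lhs => rw [hc]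
      ring
    have h2 := mul_left_cancel₀ hπirr.ne_zero h1
    exact hπirr.not_isUnit (IsUnit.of_mul_eq_one c h2.symm)
  have hinjAK : Function.Injective (algebraMap A K) := IsFractionRing.injective A K
  rcases Nat.eq_zero_or_pos k with hk | hk
  · -- the case `q = 1`
    subst hk
    obtain ⟨hmonic, hnat, hE⟩ := isEisensteinAt_X_pow_sub (O := A) 1 (C π)
      (degree_C_le.trans_lt (by norm_num))
      (fun i => by
        rw [coeff_C]
        split_ifs
        · exact hπmem
        · exact zero_mem _)
      (by rw [coeff_C_zero]; exact hπnot) one_pos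
    have hsep : ((X ^ 1 - C π : A[X]).map (algebraMap A K)).Separable := by
      rw [Polynomial.map_sub, Polynomial.map_pow, map_X, map_C, pow_one]
      exact separable_X_sub_C
    obtain ⟨L, iF, iKL, iAL, itow, j, hfin, hsepL, htr, hint, hjof, -⟩ :=
      exists_ext A K (X ^ 1 - C π : A[X]) hmonic hE (by rw [hnat]; exact one_pos) hsep
    refine ⟨L, iF, iKL, iAL, itow, by rw [hfin, hnat, pow_zero], hsepL, htr,
      j (AdjoinRoot.root _), 0, 0, hint _, Subalgebra.zero_mem _, Subalgebra.zero_mem _, ?_, ?_⟩
    all_goals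
      rw [root_eq_of_linear π (X ^ 1 - C π : A[X]) rfl, hjof, pow_zero, pow_one, mul_zero, add_zero]
  · -- the case `q = p ^ k ≥ 2`
    have hq2 : 2 ≤ p ^ k := by
      calc 2 ≤ p := hp.two_le
        _ = p ^ 1 := (pow_one p).symm
        _ ≤ p ^ k := Nat.pow_le_pow_right hp.pos hk
    have hn1 : 1 ≤ n := hn.le
    have hπn : π ^ n ∈ maximalIdeal A := Ideal.pow_mem_of_mem _ hπmem n (by omega)
    have hcoeff : ∀ i, (C (π ^ n) * X + C π : A[X]).coeff i ∈ maximalIdeal A := by
      intro i
      rw [coeff_add, coeff_C_mul, coeff_X, coeff_C]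
      apply Ideal.add_mem
      · split_ifs
        · rw [mul_one]; exact hπn
        · rw [mul_zero]; exact zero_mem _
      · split_ifs
        · exact hπmem
        · exact zero_mem _
    have hcoeff0 : (C (π ^ n) * X + C π : A[X]).coeff 0 = π := by
      rw [coeff_add, coeff_C_mul, coeff_X, coeff_C_zero, if_neg (by norm_num), mul_zero, zero_add]
    obtain ⟨hmonic, hnat, hE⟩ := isEisensteinAt_X_pow_sub (O := A) (p ^ k) (C (π ^ n) * X + C π)
      (degree_linear_le.trans_lt (by exact_mod_cast hq2))
      hcoeff (by rw [hcoeff0]; exact hπnot) (by omega)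
    set F : A[X] := X ^ (p ^ k) - (C (π ^ n) * X + C π) with hFdef
    have hpos : 0 < F.natDegree := by rw [hnat]; omega
    have hirr : Irreducible F := Eisenstein.irreducible F hmonic hE hpos
    have hirrK : Irreducible (F.map (algebraMap A K)) :=
      (hmonic.irreducible_iff_irreducible_map_fraction_map (K := K)).mp hirr
    have hsep : (F.map (algebraMap A K)).Separable := by
      rw [separable_iff_derivative_ne_zero hirrK]
      intro h0
      have h1 := congrArg (fun P : K[X] => P.coeff 0) h0
      simp only [coeff_derivative, coeff_zero, coeff_map] at h1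
      have h2 : F.coeff (0 + 1) = - π ^ n := by
        rw [hFdef, coeff_sub, coeff_X_pow, if_neg (by omega), coeff_add, coeff_C_mul, coeff_X,
          coeff_C, if_pos rfl, if_neg (by norm_num), mul_one, add_zero, zero_sub]
      rw [h2, map_neg, map_pow] at h1
      have h3 : algebraMap A K π ≠ 0 := fun h => hπirr.ne_zero (hinjAK (by rw [h, map_zero]))
      simp only [Nat.cast_zero, zero_add, mul_one, neg_eq_zero] at h1
      exact pow_ne_zero n h3 h1
    obtain ⟨L, iF, iKL, iAL, itow, j, hfin, hsepL, htr, hint, hjof, -⟩ :=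
      exists_ext A K F hmonic hE hpos hsep
    obtain ⟨hdom, hdvr, hmax, -⟩ := Eisenstein.adjoinRoot_dvr F hmonic hE hpos
    haveI := hdom
    haveI := hdvr
    -- the root relation
    have hroot : AdjoinRoot.root F ^ (p ^ k) =
        AdjoinRoot.of F π + AdjoinRoot.of F π ^ n * AdjoinRoot.root F := by
      have h0 : AdjoinRoot.mk F (X ^ (p ^ k) - (C (π ^ n) * X + C π)) = 0 := AdjoinRoot.mk_self
      rw [map_sub, map_pow, map_add, map_mul, AdjoinRoot.mk_X, AdjoinRoot.mk_C, AdjoinRoot.mk_C,
        sub_eq_zero, map_pow] at h0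
      rw [h0]
      ring
    have hrootmem : AdjoinRoot.root F ∈ maximalIdeal (AdjoinRoot F) := by
      rw [hmax]; exact Ideal.mem_span_singleton_self _
    have hxmem : -(AdjoinRoot.of F π ^ (n - 1) * AdjoinRoot.root F) ∈
        nonunits (AdjoinRoot F) := by
      have : -(AdjoinRoot.of F π ^ (n - 1) * AdjoinRoot.root F) ∈ maximalIdeal (AdjoinRoot F) :=
        neg_mem (Ideal.mul_mem_left _ _ hrootmem)
      exact this
    have hunit := IsLocalRing.isUnit_one_sub_self_of_mem_nonunits _ hxmem
    rw [sub_neg_eq_add] at hunit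
    obtain ⟨v, hv⟩ := hunit.exists_left_inv
    have hπv : AdjoinRoot.of F π = AdjoinRoot.root F ^ (p ^ k) * v := by
      have h1 : AdjoinRoot.root F ^ (p ^ k) =
          AdjoinRoot.of F π * (1 + AdjoinRoot.of F π ^ (n - 1) * AdjoinRoot.root F) := by
        rw [hroot]
        have : n = (n - 1) + 1 := by omega
        conv_lhs => rw [this, pow_succ]
        ring
      rw [h1, mul_assoc, mul_comm _ v, hv, mul_one]
    refine ⟨L, iF, iKL, iAL, itow, by rw [hfin, hnat], hsepL, htr,
      j (AdjoinRoot.root F), j (AdjoinRoot.root F), j (v ^ n * AdjoinRoot.root F),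
      hint _, hint _, hint _, ?_, ?_⟩
    · rw [← map_pow, hroot, map_add, map_mul, map_pow, hjof]
    · rw [← map_pow, ← map_pow, ← map_mul, ← hjof, ← map_add]
      congr 1
      rw [hroot]
      congr 1
      conv_lhs => rw [hπv]
      rw [mul_pow, ← pow_mul, mul_comm (p ^ k) n]
      ring

end Groth.Agent.S7157
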