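import Groth.Statements.S2921
import Mathlib
import Groth.Agent.Lib.Helper55.KrullDimIntegral
import Groth.Agent.Lib.Helper85.RegularLocal
-- import your own Groth.Agent.* helpers here

set_option autoImplicit false
universe u
open IsLocalRing
open SGA1

namespace Groth.Agent.S2921

set_option linter.style.haveILetI false
set_option linter.unusedSectionVars false

open MvPolynomial

section Kummer

variable {A : Type u} [CommRing A] {r : ℕ} (f : Fin r → A) (n : Fin r → ℕ)

/-- The class of the variable `T_i`. -/
noncomputable def T (i : Fin r) : SGA1.kummerAlg A f n :=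
  (Ideal.Quotient.mk _ (X i) : SGA1.kummerAlg A f n)

theorem algebraMap_eq_mk_C (a : A) :
    algebraMap A (SGA1.kummerAlg A f n) a = (Ideal.Quotient.mk _ (C a) : SGA1.kummerAlg A f n) :=
  rfl

theorem T_pow (i : Fin r) : T f n i ^ n i = algebraMap A (SGA1.kummerAlg A f n) (f i) := by
  unfold T
  rw [algebraMap_eq_mk_C, ← map_pow, ← sub_eq_zero, ← map_sub, Ideal.Quotient.eq_zero_iff_mem]
  exact Ideal.subset_span ⟨i, rfl⟩

theorem isIntegral_kummer (hn : ∀ i, 1 ≤ n i) : Algebra.IsIntegral A (SGA1.kummerAlg A f n) := by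
  constructor
  intro x
  obtain ⟨P, rfl⟩ := Ideal.Quotient.mk_surjective x
  induction P using MvPolynomial.induction_on with
  | C a =>
    rw [← algebraMap_eq_mk_C]
    exact isIntegral_algebraMap
  | add p q hp hq =>
    rw [map_add]
    exact hp.add hq
  | mul_X p i hp =>
    rw [map_mul]
    refine hp.mul ?_
    apply IsIntegral.of_pow (hn i)
    show IsIntegral A (T f n i ^ n i)
    rw [T_pow]
    exact isIntegral_algebraMap

theorem mk_sub_constantCoeff_mem (P : MvPolynomial (Fin r) A) :
    (Ideal.Quotient.mk _ P : SGA1.kummerAlg A f n) -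
      algebraMap A (SGA1.kummerAlg A f n) (constantCoeff P) ∈
      Ideal.span (Set.range (T f n)) := by
  induction P using MvPolynomial.induction_on with
  | C a =>
    rw [constantCoeff_C, algebraMap_eq_mk_C, sub_self]
    exact Ideal.zero_mem _
  | add p q hp hq =>
    rw [map_add, map_add, map_add]
    have := Ideal.add_mem _ hp hq
    convert this using 1
    ring
  | mul_X p i hp =>
    rw [map_mul, map_mul, constantCoeff_X, mul_zero, map_zero, sub_zero]
    exact Ideal.mul_mem_left _ _ (Ideal.subset_span ⟨i, rfl⟩)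

variable [IsLocalRing A]

theorem exists_eps (hm : ∀ i, f i ∈ maximalIdeal A) (hn : ∀ i, 1 ≤ n i) :
    ∃ ε : SGA1.kummerAlg A f n →+* ResidueField A,
      (∀ a, ε (algebraMap A (SGA1.kummerAlg A f n) a) = IsLocalRing.residue A a) ∧
      ∀ i, ε (T f n i) = 0 := by
  have hle : Ideal.span (Set.range fun i => (X i : MvPolynomial (Fin r) A) ^ n i - C (f i)) ≤
      RingHom.ker (MvPolynomial.eval₂Hom (IsLocalRing.residue A)
        (fun _ : Fin r => (0 : ResidueField A))) := by
    rw [Ideal.span_le]
    rintro _ ⟨i, rfl⟩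
    rw [SetLike.mem_coe, RingHom.mem_ker, map_sub, map_pow, eval₂Hom_X', eval₂Hom_C,
      zero_pow (by have := hn i; omega), zero_sub, neg_eq_zero, IsLocalRing.residue_eq_zero_iff]
    exact hm i
  refine ⟨Ideal.Quotient.lift _ (MvPolynomial.eval₂Hom (IsLocalRing.residue A)
    (fun _ : Fin r => (0 : ResidueField A))) (fun P hP => RingHom.mem_ker.mp (hle hP)), ?_, ?_⟩
  · intro a
    rw [algebraMap_eq_mk_C, Ideal.Quotient.lift_mk, eval₂Hom_C]
  · intro i
    unfold T
    rw [Ideal.Quotient.lift_mk, eval₂Hom_X']

theorem ker_eps_eq (ε : SGA1.kummerAlg A f n →+* ResidueField A)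
    (hεC : ∀ a, ε (algebraMap A (SGA1.kummerAlg A f n) a) = IsLocalRing.residue A a)
    (hεT : ∀ i, ε (T f n i) = 0) :
    RingHom.ker ε = Ideal.span (Set.range (T f n)) ⊔
      (maximalIdeal A).map (algebraMap A (SGA1.kummerAlg A f n)) := by
  have hT : Ideal.span (Set.range (T f n)) ≤ RingHom.ker ε := by
    rw [Ideal.span_le]
    rintro _ ⟨i, rfl⟩
    exact hεT i
  apply le_antisymm
  · intro x hx
    obtain ⟨P, rfl⟩ := Ideal.Quotient.mk_surjective x
    have h1 := mk_sub_constantCoeff_mem f n P
    have h2 : ε ((Ideal.Quotient.mk _ P : SGA1.kummerAlg A f n) -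
        algebraMap A (SGA1.kummerAlg A f n) (constantCoeff P)) = 0 := hT h1
    rw [map_sub, (RingHom.mem_ker).mp hx, zero_sub, neg_eq_zero, hεC,
      IsLocalRing.residue_eq_zero_iff] at h2
    have h3 : (Ideal.Quotient.mk _ P : SGA1.kummerAlg A f n) =
        ((Ideal.Quotient.mk _ P : SGA1.kummerAlg A f n) -
          algebraMap A (SGA1.kummerAlg A f n) (constantCoeff P)) +
        algebraMap A (SGA1.kummerAlg A f n) (constantCoeff P) := by ring
    rw [h3]
    exact Ideal.add_mem _ (Ideal.mem_sup_left h1)
      (Ideal.mem_sup_right (Ideal.mem_map_of_mem _ h2))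
  · rw [sup_le_iff]
    refine ⟨hT, ?_⟩
    rw [Ideal.map_le_iff_le_comap]
    intro a ha
    rw [Ideal.mem_comap, RingHom.mem_ker, hεC, IsLocalRing.residue_eq_zero_iff]
    exact ha

theorem isLocalRing_kummer (hm : ∀ i, f i ∈ maximalIdeal A) (hn : ∀ i, 1 ≤ n i) :
    ∃ _ : IsLocalRing (SGA1.kummerAlg A f n),
      maximalIdeal (SGA1.kummerAlg A f n) = Ideal.span (Set.range (T f n)) ⊔
        (maximalIdeal A).map (algebraMap A (SGA1.kummerAlg A f n)) := by
  obtain ⟨ε, hεC, hεT⟩ := exists_eps f n hm hn
  have hsurj : Function.Surjective ε := by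
    intro y
    obtain ⟨a, rfl⟩ := IsLocalRing.residue_surjective y
    exact ⟨_, hεC a⟩
  have hmax : (RingHom.ker ε).IsMaximal := RingHom.ker_isMaximal_of_surjective ε hsurj
  have hker := ker_eps_eq f n ε hεC hεT
  haveI := isIntegral_kummer f n hn
  have huniq : ∀ M : Ideal (SGA1.kummerAlg A f n), M.IsMaximal → M = RingHom.ker ε := by
    intro M hM
    haveI := hM
    have hcm : (M.comap (algebraMap A (SGA1.kummerAlg A f n))).IsMaximal :=
      Ideal.isMaximal_comap_of_isIntegral_of_isMaximal (R := A) M
    have hcm' : M.comap (algebraMap A (SGA1.kummerAlg A f n)) = maximalIdeal A :=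
      IsLocalRing.eq_maximalIdeal hcm
    have hle : RingHom.ker ε ≤ M := by
      rw [hker, sup_le_iff]
      constructor
      · rw [Ideal.span_le]
        rintro _ ⟨i, rfl⟩
        apply hM.isPrime.mem_of_pow_mem (n i)
        rw [T_pow]
        have : f i ∈ M.comap (algebraMap A (SGA1.kummerAlg A f n)) := by
          rw [hcm']; exact hm i
        exact this
      · rw [Ideal.map_le_iff_le_comap, hcm']
    exact (hmax.eq_of_le hM.ne_top hle).symm
  have hloc : IsLocalRing (SGA1.kummerAlg A f n) :=
    IsLocalRing.of_unique_max_ideal ⟨RingHom.ker ε, hmax, huniq⟩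
  refine ⟨hloc, ?_⟩
  rw [← hker]
  exact (IsLocalRing.eq_maximalIdeal hmax).symm

theorem algebraMap_injective_kummer [IsDomain A] (hn : ∀ i, 1 ≤ n i) :
    Function.Injective (algebraMap A (SGA1.kummerAlg A f n)) := by
  have hinjK : Function.Injective (algebraMap A (AlgebraicClosure (FractionRing A))) := by
    rw [IsScalarTower.algebraMap_eq A (FractionRing A) (AlgebraicClosure (FractionRing A))]
    exact (algebraMap (FractionRing A) (AlgebraicClosure (FractionRing A))).injective.comp
      (IsFractionRing.injective A (FractionRing A))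
  choose t ht using fun i : Fin r =>
    IsAlgClosed.exists_pow_nat_eq (algebraMap A (AlgebraicClosure (FractionRing A)) (f i))
      (show 0 < n i from hn i)
  have hle : Ideal.span (Set.range fun i => (X i : MvPolynomial (Fin r) A) ^ n i - C (f i)) ≤
      RingHom.ker (MvPolynomial.eval₂Hom (algebraMap A (AlgebraicClosure (FractionRing A))) t) := by
    rw [Ideal.span_le]
    rintro _ ⟨i, rfl⟩
    rw [SetLike.mem_coe, RingHom.mem_ker, map_sub, map_pow, eval₂Hom_X', eval₂Hom_C, ht,
      sub_self]
  obtain ⟨ψ, hψ⟩ : ∃ ψ : SGA1.kummerAlg A f n →+* AlgebraicClosure (FractionRing A),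
      ∀ a, ψ (algebraMap A (SGA1.kummerAlg A f n) a) =
        algebraMap A (AlgebraicClosure (FractionRing A)) a := by
    refine ⟨Ideal.Quotient.lift _
      (MvPolynomial.eval₂Hom (algebraMap A (AlgebraicClosure (FractionRing A))) t)
      (fun P hP => RingHom.mem_ker.mp (hle hP)), fun a => ?_⟩
    rw [algebraMap_eq_mk_C, Ideal.Quotient.lift_mk, eval₂Hom_C]
  intro a b hab
  apply hinjK
  rw [← hψ, ← hψ, hab]

end Kummer

theorem regular_part (A : Type u) [CommRing A] [IsRegularLocalRing A] (r : ℕ) (f : Fin r → A)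
    (hm : ∀ i, f i ∈ maximalIdeal A)
    (hf : LinearIndependent (ResidueField A) (fun i => (maximalIdeal A).toCotangent ⟨f i, hm i⟩))
    (n : Fin r → ℕ) (hn : ∀ i, 1 ≤ n i) :
    IsRegularLocalRing (SGA1.kummerAlg A f n) := by
  classical
  haveI : IsDomain A := Groth.Agent.Lib.Helper85.isDomain_of_isRegularLocalRing A
  obtain ⟨hloc, hmaxeq⟩ := isLocalRing_kummer f n hm hn
  haveI := hloc
  haveI := isIntegral_kummer f n hn
  have hinj := algebraMap_injective_kummer f n hn
  have hdim : ringKrullDim (SGA1.kummerAlg A f n) = ringKrullDim A :=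
    Groth.Agent.Lib.Helper55.ringKrullDim_eq_of_isIntegral_of_injective A _ hinj
  have hdimA : (Module.finrank (ResidueField A) (CotangentSpace A) : WithBot ℕ∞) =
      ringKrullDim A := (IsRegularLocalRing.iff_finrank_cotangentSpace A).mp inferInstance
  -- complement of the span of the `f i`
  obtain ⟨W', hW'⟩ := Submodule.exists_isCompl
    (Submodule.span (ResidueField A)
      (Set.range fun i => (maximalIdeal A).toCotangent ⟨f i, hm i⟩))
  have hfinW : Module.finrank (ResidueField A) (Submodule.span (ResidueField A)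
      (Set.range fun i => (maximalIdeal A).toCotangent ⟨f i, hm i⟩)) = r := by
    have := finrank_span_eq_card hf
    simpa using this
  have hadd := Submodule.finrank_add_eq_of_isCompl hW'
  obtain ⟨e, he⟩ : ∃ e : ℕ, Module.finrank (ResidueField A) W' = e := ⟨_, rfl⟩
  let b : Module.Basis (Fin e) (ResidueField A) W' := Module.finBasisOfFinrankEq _ _ he
  choose g hg using fun j : Fin e => (maximalIdeal A).toCotangent_surjective (b j : CotangentSpace A)
  have hs : Submodule.span (ResidueField A) ((maximalIdeal A).toCotangent ''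
      (Set.range (fun i => (⟨f i, hm i⟩ : maximalIdeal A)) ∪ Set.range g)) = ⊤ := by
    rw [Set.image_union, Submodule.span_union, ← Set.range_comp, ← Set.range_comp]
    have h2 : Submodule.span (ResidueField A) (Set.range ((maximalIdeal A).toCotangent ∘ g)) =
        W' := by
      have h3 : ((maximalIdeal A).toCotangent ∘ g) = (W'.subtype ∘ b) := by
        funext j
        exact hg j
      rw [h3, Set.range_comp, ← Submodule.map_span, b.span_eq, Submodule.map_top,
        Submodule.range_subtype]
    rw [h2]
    exact hW'.sup_eq_top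
  have hs' := IsLocalRing.CotangentSpace.span_image_eq_top_iff.mp hs
  have hmspan : ∀ x ∈ maximalIdeal A, x ∈ Ideal.span ((fun y : maximalIdeal A => (y : A)) ''
      (Set.range (fun i => (⟨f i, hm i⟩ : maximalIdeal A)) ∪ Set.range g)) := by
    intro x hx
    have h1 : (⟨x, hx⟩ : maximalIdeal A) ∈ Submodule.span A
        (Set.range (fun i => (⟨f i, hm i⟩ : maximalIdeal A)) ∪ Set.range g) := by
      rw [hs']; exact Submodule.mem_top
    have h2 := Submodule.mem_map_of_mem (f := (maximalIdeal A).subtype) h1
    rw [Submodule.map_span] at h2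
    exact h2
  -- generators of the maximal ideal of the Kummer algebra
  let F : Fin r ⊕ Fin e → SGA1.kummerAlg A f n :=
    Sum.elim (T f n) (fun j => algebraMap A (SGA1.kummerAlg A f n) (g j : A))
  have hmle : (maximalIdeal A).map (algebraMap A (SGA1.kummerAlg A f n)) ≤
      Ideal.span (Set.range F) := by
    rw [Ideal.map_le_iff_le_comap]
    intro x hx
    have h1 := hmspan x hx
    have h2 : Ideal.span ((fun y : maximalIdeal A => (y : A)) ''
        (Set.range (fun i => (⟨f i, hm i⟩ : maximalIdeal A)) ∪ Set.range g)) ≤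
        (Ideal.span (Set.range F)).comap (algebraMap A (SGA1.kummerAlg A f n)) := by
      rw [Ideal.span_le]
      rintro _ ⟨y, hy, rfl⟩
      rw [SetLike.mem_coe, Ideal.mem_comap]
      rcases hy with ⟨i, rfl⟩ | ⟨j, rfl⟩
      · show algebraMap A (SGA1.kummerAlg A f n) (f i) ∈ _
        rw [← T_pow]
        have hTi : T f n i ∈ Ideal.span (Set.range F) := Ideal.subset_span ⟨Sum.inl i, rfl⟩
        exact Ideal.pow_mem_of_mem _ hTi _ (hn i)
      · exact Ideal.subset_span ⟨Sum.inr j, rfl⟩
    exact h2 h1
  have hmax' : maximalIdeal (SGA1.kummerAlg A f n) = Ideal.span (Set.range F) := by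
    apply le_antisymm
    · rw [hmaxeq, sup_le_iff]
      refine ⟨?_, hmle⟩
      rw [Ideal.span_le]
      rintro _ ⟨i, rfl⟩
      exact Ideal.subset_span ⟨Sum.inl i, rfl⟩
    · rw [Ideal.span_le, hmaxeq]
      rintro _ ⟨z, rfl⟩
      rcases z with i | j
      · exact Ideal.mem_sup_left (Ideal.subset_span ⟨i, rfl⟩)
      · exact Ideal.mem_sup_right (Ideal.mem_map_of_mem _ (g j).2)
  apply IsRegularLocalRing.of_spanFinrank_maximalIdeal_le
  rw [hdim, ← hdimA, hmax']
  have h1 := Submodule.spanFinrank_span_le_ncard_of_finite (R := SGA1.kummerAlg A f n)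
    (Set.finite_range F)
  have h2 : (Set.range F).ncard ≤ r + e := by
    have := Set.ncard_image_le (f := F) (s := Set.univ) Set.finite_univ
    rw [Set.image_univ] at this
    simpa using this
  have h3 : r + e = Module.finrank (ResidueField A) (CotangentSpace A) := by
    rw [← hadd, hfinW, he]
  have h4 : (Ideal.span (Set.range F)).spanFinrank ≤
      Module.finrank (ResidueField A) (CotangentSpace A) := by
    rw [← h3]; exact le_trans h1 h2
  exact_mod_cast h4

theorem etale_part (A : Type u) [CommRing A] [IsLocalRing A] (r : ℕ) (f : Fin r → A)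
    (n : Fin r → ℕ) (hn : ∀ i, 1 ≤ n i)
    (hunit : ∀ i, IsUnit ((n i : ℕ) : ResidueField A)) :
    letI := (Localization.awayMap (algebraMap A (SGA1.kummerAlg A f n)) (∏ i, f i)).toAlgebra
    Algebra.Etale (Localization.Away (∏ i, f i))
      (Localization.Away (algebraMap A (SGA1.kummerAlg A f n) (∏ i, f i))) := by
  classical
  letI := (Localization.awayMap (algebraMap A (SGA1.kummerAlg A f n)) (∏ i, f i)).toAlgebra
  let P0 : Algebra.Presentation A (SGA1.kummerAlg A f n) (Fin r) (Fin r) :=
    Algebra.Presentation.naive (v := fun i => (X i : MvPolynomial (Fin r) A) ^ n i - C (f i))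
  let P : Algebra.PreSubmersivePresentation A (SGA1.kummerAlg A f n) (Fin r) (Fin r) :=
    { toPresentation := P0, map := id, map_inj := Function.injective_id }
  have hjac : P.jacobian = (Ideal.Quotient.mk _
      (∏ i, (C ((n i : ℕ) : A) * X i ^ (n i - 1))) : SGA1.kummerAlg A f n) := by
    rw [Algebra.PreSubmersivePresentation.jacobian_eq_jacobiMatrix_det]
    have hM : P.jacobiMatrix = Matrix.diagonal
        (fun i => (C ((n i : ℕ) : A) * X i ^ (n i - 1) : MvPolynomial (Fin r) A)) := by
      apply Matrix.ext
      intro i j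
      rw [Algebra.PreSubmersivePresentation.jacobiMatrix_apply]
      show pderiv i ((X j : MvPolynomial (Fin r) A) ^ n j - C (f j)) = _
      rw [Matrix.diagonal_apply]
      by_cases hij : i = j
      · subst hij
        simp [Derivation.leibniz_pow]
      · have hji : j ≠ i := fun h => hij h.symm
        simp [Derivation.leibniz_pow, pderiv_X_of_ne hji, hij]
    rw [hM, Matrix.det_diagonal]
    rfl
  have hprod : P.jacobian * ∏ i, T f n i =
      algebraMap A (SGA1.kummerAlg A f n) (∏ i, ((n i : ℕ) : A)) *
        algebraMap A (SGA1.kummerAlg A f n) (∏ i, f i) := by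
    rw [hjac, map_prod, ← Finset.prod_mul_distrib, map_prod, map_prod, ← Finset.prod_mul_distrib]
    refine Finset.prod_congr rfl fun i _ => ?_
    rw [map_mul, map_pow, mul_assoc]
    show _ * (T f n i ^ (n i - 1) * T f n i) = _
    rw [← pow_succ, Nat.sub_add_cancel (hn i), T_pow]
    rfl
  have hnunit : IsUnit (∏ i, ((n i : ℕ) : A)) := by
    rw [IsUnit.prod_univ_iff]
    intro i
    apply (isUnit_map_iff (IsLocalRing.residue A) _).mp
    rw [map_natCast]
    exact hunit i
  let Q : Algebra.SubmersivePresentation (SGA1.kummerAlg A f n)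
      (Localization.Away (algebraMap A (SGA1.kummerAlg A f n) (∏ i, f i))) Unit Unit :=
    Algebra.SubmersivePresentation.localizationAway _
      (algebraMap A (SGA1.kummerAlg A f n) (∏ i, f i))
  have hJu : IsUnit (algebraMap (SGA1.kummerAlg A f n)
      (Localization.Away (algebraMap A (SGA1.kummerAlg A f n) (∏ i, f i))) P.jacobian) := by
    have hdvd : P.jacobian ∣ algebraMap A (SGA1.kummerAlg A f n) (∏ i, ((n i : ℕ) : A)) *
        algebraMap A (SGA1.kummerAlg A f n) (∏ i, f i) := ⟨_, hprod.symm⟩
    apply isUnit_of_dvd_unit (map_dvd _ hdvd)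
    rw [map_mul]
    exact (hnunit.map _).map _ |>.mul
      (IsLocalization.Away.algebraMap_isUnit (algebraMap A (SGA1.kummerAlg A f n) (∏ i, f i)))
  let QP : Algebra.SubmersivePresentation A
      (Localization.Away (algebraMap A (SGA1.kummerAlg A f n) (∏ i, f i)))
      (Unit ⊕ Fin r) (Unit ⊕ Fin r) :=
    { toPreSubmersivePresentation := Q.toPreSubmersivePresentation.comp P
      jacobian_isUnit := by
        rw [Algebra.PreSubmersivePresentation.comp_jacobian_eq_jacobian_smul_jacobian,
          Algebra.smul_def, IsUnit.mul_iff]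
        exact ⟨hJu, Q.jacobian_isUnit⟩ }
  haveI hss : Algebra.IsStandardSmoothOfRelativeDimension 0 A
      (Localization.Away (algebraMap A (SGA1.kummerAlg A f n) (∏ i, f i))) :=
    QP.isStandardSmoothOfRelativeDimension (by
      show Nat.card _ - Nat.card _ = 0
      exact Nat.sub_self _)
  haveI : Algebra.Etale A
      (Localization.Away (algebraMap A (SGA1.kummerAlg A f n) (∏ i, f i))) := inferInstance
  haveI : Algebra.Etale A (Localization.Away (∏ i, f i)) :=
    Algebra.Etale.of_isLocalizationAway (∏ i, f i)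
  haveI : IsScalarTower A (Localization.Away (∏ i, f i))
      (Localization.Away (algebraMap A (SGA1.kummerAlg A f n) (∏ i, f i))) := by
    apply IsScalarTower.of_algebraMap_eq
    intro a
    rw [RingHom.algebraMap_toAlgebra]
    unfold Localization.awayMap IsLocalization.Away.map
    rw [IsLocalization.map_eq]
    exact IsScalarTower.algebraMap_apply A (SGA1.kummerAlg A f n) _ a
  exact Algebra.Etale.of_restrictScalars A _ _

/-- Regularity and etaleness; the tameness assertion is not stated: Let A be a regular local ring, f_1,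
…, f_r elements of the maximal ideal whose images in the cotangent space are linearly independent
(part of a regular system of parameters), and n_1, …, n_r ≥ 1. Then A' = A[T_1, …, T_r]/(T_i^{n_i} −
f_i) is a regular local ring; and if each n_i is invertible in the residue field of A, then A'
becomes etale over A after inverting f_1 ⋯ f_r. -/
theorem result (A : Type u) [CommRing A] [IsRegularLocalRing A] (r : ℕ) (f : Fin r → A)
    (hm : ∀ i, f i ∈ maximalIdeal A)
    (hf : LinearIndependent (ResidueField A) (fun i => (maximalIdeal A).toCotangent ⟨f i, hm i⟩))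
    (n : Fin r → ℕ) (hn : ∀ i, 1 ≤ n i) :
    IsRegularLocalRing (SGA1.kummerAlg A f n) ∧
    ((∀ i, IsUnit ((n i : ℕ) : ResidueField A)) →
      letI := (Localization.awayMap (algebraMap A (SGA1.kummerAlg A f n)) (∏ i, f i)).toAlgebra
      Algebra.Etale (Localization.Away (∏ i, f i)) (Localization.Away (algebraMap A (SGA1.kummerAlg A f n) (∏ i, f i)))) := by
  exact ⟨regular_part A r f hm hf n hn, fun hunit => etale_part A r f n hn hunit⟩

end Groth.Agent.S2921
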