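import Groth.Statements.S17593
import Mathlib
import Groth.Agent.H76.FlatLocusFP

set_option autoImplicit false
universe u
open Hensel

namespace Groth.Agent.S17593

/-- Suppose (A, I) is a Henselian pair, and R is an A-algebra of finite presentation for which A → R is
flat at each prime of R that contains IR. Then there is an étale R-algebra R' such that R/IR →
R'/IR' is bijective and A → R' is flat. -/
theorem result (A : Type u) [CommRing A] (I : Ideal A) [HenselianRing A I]
    (R : Type u) [CommRing R] [Algebra A R] [Algebra.FinitePresentation A R]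
    (h : ∀ (p : Ideal R) [p.IsPrime], I.map (algebraMap A R) ≤ p → Module.Flat A (Localization.AtPrime p))
    : ∃ (R' : Type u) (_ : CommRing R') (_ : Algebra R R') (_ : Algebra A R') (_ : IsScalarTower A R R'),
      Algebra.Etale R R' ∧
      Function.Bijective (Ideal.quotientMap ((I.map (algebraMap A R)).map (algebraMap R R'))
        (algebraMap R R') Ideal.le_comap_map) ∧ Module.Flat A R' := by
  classical
  -- the flat locus is open
  have hU : IsOpen {q : PrimeSpectrum R |
      Module.Flat A (LocalizedModule q.asIdeal.primeCompl R)} :=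
    Groth.Agent.H76.FlatLocusFP.isOpen_flatLocus (R := A) (S := R) (M := R)
  have hflat_iff : ∀ q : PrimeSpectrum R,
      Module.Flat A (LocalizedModule q.asIdeal.primeCompl R) ↔
        Module.Flat A (Localization.AtPrime q.asIdeal) := by
    intro q
    let e : LocalizedModule q.asIdeal.primeCompl R ≃ₗ[R] Localization.AtPrime q.asIdeal :=
      IsLocalizedModule.iso q.asIdeal.primeCompl
        (Algebra.linearMap R (Localization.AtPrime q.asIdeal))
    exact ⟨fun h => Module.Flat.of_linearEquiv (e.restrictScalars A).symm,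
      fun h => Module.Flat.of_linearEquiv (e.restrictScalars A)⟩
  obtain ⟨J, hJ⟩ := (PrimeSpectrum.isClosed_iff_zeroLocus_ideal _).1 hU.isClosed_compl
  have hsup : I.map (algebraMap A R) ⊔ J = ⊤ := by
    rw [← PrimeSpectrum.zeroLocus_empty_iff_eq_top, PrimeSpectrum.zeroLocus_sup,
      Set.eq_empty_iff_forall_notMem]
    rintro q ⟨hq1, hq2⟩
    rw [← hJ] at hq2
    apply hq2
    rw [Set.mem_setOf_eq, hflat_iff]
    haveI := q.isPrime
    exact h q.asIdeal hq1
  obtain ⟨i, hi, f, hf, hif⟩ := Submodule.mem_sup.1
    (hsup ▸ (Submodule.mem_top : (1 : R) ∈ (⊤ : Ideal R)))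
  have hfpow : ∀ n : ℕ, f ^ n - 1 ∈ I.map (algebraMap A R) := by
    intro n
    have h1 : f - 1 ∈ I.map (algebraMap A R) := by
      have : f - 1 = -i := by rw [← hif]; ring
      rw [this]
      exact Ideal.neg_mem_iff _ |>.2 hi
    have h2 : f ^ n - 1 = (f - 1) * ∑ k ∈ Finset.range n, f ^ k := by
      rw [mul_comm, ← mul_geom_sum]
      ring
    have h3 := (Commute.all f 1).mul_geom_sum₂ n
    have h4 : f ^ n - 1 = (f - 1) * ∑ k ∈ Finset.range n, f ^ k * 1 ^ (n - 1 - k) := by
      rw [h3, one_pow]
    rw [h4]
    exact Ideal.mul_mem_right _ _ h1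
  refine ⟨Localization.Away f, inferInstance, inferInstance, inferInstance, inferInstance,
    Algebra.Etale.of_isLocalizationAway f, ⟨?_, ?_⟩, ?_⟩
  · -- injective
    rw [injective_iff_map_eq_zero]
    intro x hx
    obtain ⟨r, rfl⟩ := Ideal.Quotient.mk_surjective x
    rw [Ideal.quotientMap_mk, Ideal.Quotient.eq_zero_iff_mem,
      IsLocalization.algebraMap_mem_map_algebraMap_iff (Submonoid.powers f)] at hx
    obtain ⟨m, ⟨n, rfl⟩, hm⟩ := hx
    rw [Ideal.Quotient.eq_zero_iff_mem]
    have : r = f ^ n * r - (f ^ n - 1) * r := by ring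
    rw [this]
    exact Ideal.sub_mem _ hm (Ideal.mul_mem_right _ _ (hfpow n))
  · -- surjective
    intro y
    obtain ⟨z, rfl⟩ := Ideal.Quotient.mk_surjective y
    obtain ⟨r, ⟨_, ⟨n, rfl⟩⟩, rfl⟩ := IsLocalization.exists_mk'_eq (Submonoid.powers f) z
    refine ⟨Ideal.Quotient.mk _ r, ?_⟩
    rw [Ideal.quotientMap_mk, Ideal.Quotient.eq]
    have h1 : algebraMap R (Localization.Away f) r -
        IsLocalization.mk' (Localization.Away f) r (⟨f ^ n, ⟨n, rfl⟩⟩ : Submonoid.powers f) =
        IsLocalization.mk' (Localization.Away f) ((f ^ n - 1) * r)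
          (⟨f ^ n, ⟨n, rfl⟩⟩ : Submonoid.powers f) := by
      rw [IsLocalization.eq_mk'_iff_mul_eq, sub_mul, IsLocalization.mk'_spec, ← map_mul, ← map_sub]
      congr 1
      ring
    rw [h1, IsLocalization.mk'_mem_map_algebraMap_iff]
    exact ⟨1, one_mem _, by rw [one_mul]; exact Ideal.mul_mem_right _ _ (hfpow n)⟩
  · -- flatness
    refine Module.flat_of_isLocalized_maximal (Localization.Away f) (Localization.Away f)
      (fun P _ => Localization.AtPrime P)
      (fun P _ => Algebra.linearMap (Localization.Away f) (Localization.AtPrime P)) ?_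
    intro P hP
    let q : PrimeSpectrum R := ⟨P.comap (algebraMap R (Localization.Away f)), inferInstance⟩
    have hfq : f ∉ q.asIdeal := by
      intro hfq
      have h1 : algebraMap R (Localization.Away f) f ∈ P := hfq
      exact hP.ne_top (P.eq_top_of_isUnit_mem h1 (IsLocalization.Away.algebraMap_isUnit f))
    have hqU : Module.Flat A (Localization.AtPrime q.asIdeal) := by
      rw [← hflat_iff]
      by_contra hnot
      have h1 : q ∈ PrimeSpectrum.zeroLocus (J : Set R) := by
        rw [← hJ]
        exact hnot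
      exact hfq (h1 hf)
    let e : Localization.AtPrime q.asIdeal ≃ₐ[R] Localization.AtPrime P :=
      IsLocalization.localizationLocalizationAtPrimeIsoLocalization (Submonoid.powers f) P
    exact Module.Flat.of_linearEquiv (e.toLinearEquiv.restrictScalars A).symm

end Groth.Agent.S17593
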