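import Groth.Statements.S17594
import Groth.Agent.Lib.Helper3.NbhdLocus

set_option autoImplicit false
universe u
open Hensel

namespace Groth.Agent.S17594

/-- Suppose (A, I) is a Henselian pair, and take an A-algebra R of finite presentation for which A → R
is smooth at every prime of R containing IR. Then there is an étale R-algebra R' such that R/IR →
R'/IR' is bijective and A → R' is smooth. -/
theorem result (A : Type u) [CommRing A] (I : Ideal A) [HenselianRing A I]
    (R : Type u) [CommRing R] [Algebra A R] [Algebra.FinitePresentation A R]
    (h : ∀ (p : Ideal R) [p.IsPrime], I.map (algebraMap A R) ≤ p → Algebra.IsSmoothAt A p)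
    : ∃ (R' : Type u) (_ : CommRing R') (_ : Algebra R R') (_ : Algebra A R') (_ : IsScalarTower A R R'),
      Algebra.Etale R R' ∧
      Function.Bijective (Ideal.quotientMap ((I.map (algebraMap A R)).map (algebraMap R R'))
        (algebraMap R R') Ideal.le_comap_map) ∧ Algebra.Smooth A R' := by
  classical
  obtain ⟨g, hg, hgU⟩ := Groth.Agent.Lib.Helper3.exists_basicOpen_subset_of_zeroLocus_subset
    (I.map (algebraMap A R)) (Algebra.smoothLocus A R) Algebra.isOpen_smoothLocus (by
      intro x hx
      exact h x.asIdeal hx)
  rw [Algebra.basicOpen_subset_smoothLocus_iff_smooth] at hgU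
  refine ⟨Localization.Away g, inferInstance, inferInstance, inferInstance, inferInstance,
    ?_, ?_, hgU⟩
  · exact Algebra.Etale.of_isLocalizationAway g
  · exact Groth.Agent.Lib.Helper3.quotientMap_away_bijective_of_one_sub_mem _ g hg _

end Groth.Agent.S17594
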