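import Groth.Statements.S3244
import Groth.Agent.Lib.Helper43.Kummer

set_option autoImplicit false
universe u
open CategoryTheory AlgebraicGeometry
open Dix

namespace Groth.Agent.S3244

open Groth.Agent.Lib.Helper43.MuConst CategoryTheory.Limits

/-- invertible on `X` (pointwise) implies a unit of global functions. -/
theorem isUnit_of_invertibleOn (X : Scheme.{u}) (n : ℕ) (hX : Dix.InvertibleOn X n) :
    IsUnit (n : Γ(X, ⊤)) := by
  apply isUnit_of_basicOpen_eq_top
  ext x
  simp only [TopologicalSpace.Opens.coe_top, Set.mem_univ, iff_true, SetLike.mem_coe]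
  rw [Scheme.mem_basicOpen_top]
  have h := hX x
  by_contra hnu
  apply h
  have h1 : X.presheaf.germ ⊤ x trivial (n : Γ(X, ⊤)) ∈ IsLocalRing.maximalIdeal (X.presheaf.stalk x) := hnu
  rw [← IsLocalRing.residue_eq_zero_iff] at h1
  rw [map_natCast, map_natCast] at h1
  exact h1

/-- the Kummer short complex -/
noncomputable def kummerSC (X : Scheme.{u}) (n : ℕ) : ShortComplex (EtCoh.Ab X) :=
  ShortComplex.mk (EtCoh.muι X n) (EtCoh.powMap X n) (kernel.condition _)

theorem kummerSC_shortExact (X : Scheme.{u}) (n : ℕ) (hn : IsUnit (n : Γ(X, ⊤))) :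
    (kummerSC X n).ShortExact := by
  have hm : Mono (kummerSC X n).f := inferInstanceAs (Mono (equalizer.ι (EtCoh.powMap X n) 0))
  have he : Epi (kummerSC X n).g := epi_powMap n hn
  refine ShortComplex.ShortExact.mk (ShortComplex.exact_of_f_is_kernel _ ?_)
  exact kernelIsKernel (EtCoh.powMap X n)


/-- Kummer theory at finite level: let n > 0 be an integer invertible on the scheme X (nonzero in every
residue field). Then for every i ≥ 1 the image of H^i(X_ét, μ_n) → H^i(X_ét, G_m), induced by the
inclusion μ_n → G_m, is exactly the subgroup of elements of H^i(X_ét, G_m) killed by n; in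
particular H²(X_ét, μ_n) maps onto the n-torsion of the cohomological Brauer group H²(X_ét, G_m).
(The published statement gives exact sequences obtained as the colimit of these over the powers n =
ℓ^m of a prime ℓ.) -/
theorem result (X : Scheme.{u}) (n : ℕ) (hn : 0 < n) (hX : Dix.InvertibleOn X n) (i : ℕ) (hi : 1 ≤ i) : Set.range ⇑((EtCoh.HF X i).map (EtCoh.muι X n)) = {ξ : (EtCoh.HF X i).obj (EtCoh.Gm X) | n • ξ = 0} := by
  have hu := isUnit_of_invertibleOn X n hX
  have hS := kummerSC_shortExact X n hu
  have hadd : (EtCoh.HF X i).Additive := by unfold EtCoh.HF; infer_instance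
  have hpow : ∀ ξ : (EtCoh.HF X i).obj (EtCoh.Gm X),
      (EtCoh.HF X i).map (EtCoh.powMap X n) ξ = n • ξ := by
    intro ξ
    have : (EtCoh.HF X i).map (EtCoh.powMap X n) = n • 𝟙 _ := by
      unfold EtCoh.powMap
      rw [Functor.map_nsmul, CategoryTheory.Functor.map_id]
    rw [this]
    simp
  ext ξ
  constructor
  · rintro ⟨η, rfl⟩
    change n • _ = 0
    rw [← hpow, ← ConcreteCategory.comp_apply, ← Functor.map_comp]
    have : EtCoh.muι X n ≫ EtCoh.powMap X n = 0 := kernel.condition _
    rw [this, Functor.map_zero]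
    rfl
  · intro hξ
    change n • ξ = 0 at hξ
    rw [← hpow] at hξ
    obtain ⟨η, hη⟩ := Abelian.Ext.covariant_sequence_exact₂ _ hS (n := i) ξ hξ
    exact ⟨η, hη⟩

end Groth.Agent.S3244
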