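import Groth.Statements.S1983
import Mathlib
import Groth.Agent.Lib.Helper9.AbhDVR
import Groth.Agent.Lib.Helper9.KADominates
import Groth.Agent.Lib.Helper9.AbhyankarCore
import Groth.Agent.Lib.Helper9.AbhGen

set_option autoImplicit false
universe u
open EtAlg

namespace Groth.Agent.S1983

open TensorProduct IsLocalRing EtRam Groth.Agent.Lib.Helper9 in
set_option maxHeartbeats 4000000 in
set_option synthInstance.maxHeartbeats 100000 in
/-- Suppose A -> B makes the discrete valuation ring B an extension of the discrete valuation ring A,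
with fraction fields K ⊂ L, and that this extension is weakly unramified with separable, i.e.
geometrically reduced and possibly transcendental, residue field extension (formally smooth for the
adic topology). Then every finite extension K₁/K is a solution for A -> B. -/
theorem result (A B K L : Type u) [CommRing A] [IsDomain A] [IsDiscreteValuationRing A]
    [CommRing B] [IsDomain B] [IsDiscreteValuationRing B] [Algebra A B] [IsLocalHom (algebraMap A B)]
    (hinj : Function.Injective (algebraMap A B))
    [Field K] [Field L] [Algebra A K] [IsFractionRing A K] [Algebra B L] [IsFractionRing B L]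
    [Algebra K L] [Algebra A L] [IsScalarTower A K L] [IsScalarTower A B L]
    (hw : EtRam.IsWeaklyUnramified A B) [Algebra.IsGeometricallyReduced (IsLocalRing.ResidueField A) (IsLocalRing.ResidueField B)]
    (K₁ : Type u) [Field K₁] [Algebra K K₁] [FiniteDimensional K K₁] : EtRam.IsSolution B K L K₁ := by
  classical
  letI algAK₁ : Algebra A K₁ := ((algebraMap K K₁).comp (algebraMap A K)).toAlgebra
  haveI towAKK₁ : IsScalarTower A K K₁ := IsScalarTower.of_algebraMap_eq (fun _ => rfl)
  intro M _ _ _ _ _ _ hgenM W hW
  letI algBM : Algebra B M := ((algebraMap L M).comp (algebraMap B L)).toAlgebra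
  haveI towBLM : IsScalarTower B L M := IsScalarTower.of_algebraMap_eq (fun _ => rfl)
  -- `M / L` is finite
  let ψM : L ⊗[K] K₁ →ₐ[L] M :=
    Algebra.TensorProduct.productLeftAlgHom (Algebra.ofId L M) (IsScalarTower.toAlgHom K K₁ M)
  have hψMr : ψM.range = ⊤ := by
    rw [eq_top_iff, ← hgenM]
    apply Algebra.adjoin_le
    rintro _ ⟨k, rfl⟩
    refine ⟨(1 : L) ⊗ₜ[K] k, ?_⟩
    simp [ψM]
  have hψM : Function.Surjective ψM := (AlgHom.range_eq_top ψM).mp hψMr
  haveI hfdM : Module.Finite L M := Module.Finite.of_surjective ψM.toLinearMap hψM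
  have hcomm : ∀ a : A, algebraMap K₁ M (algebraMap A K₁ a) =
      algebraMap B M (algebraMap A B a) := by
    intro a
    show algebraMap K₁ M (algebraMap K K₁ (algebraMap A K a)) =
      algebraMap L M (algebraMap B L (algebraMap A B a))
    rw [← IsScalarTower.algebraMap_apply K K₁ M, IsScalarTower.algebraMap_apply K L M,
      ← IsScalarTower.algebraMap_apply A K L, ← IsScalarTower.algebraMap_apply A B L]
  have hW' : Dominates B (algebraMap B M) W := hW
  have hdomV : Dominates A (algebraMap A K₁) (W.comap (algebraMap K₁ M)) := by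
    refine ⟨fun a => ?_, fun a ha => ?_⟩
    · show algebraMap K₁ M (algebraMap A K₁ a) ∈ W
      rw [hcomm]
      exact hW'.1 _
    · rw [AbhyankarCore.valuation_comap_lt_one_iff, hcomm]
      apply hW'.2
      have hw' : (maximalIdeal A).map (algebraMap A B) = maximalIdeal B := hw
      rw [← hw']
      exact Ideal.mem_map_of_mem _ ha
  haveI hdvrV : IsDiscreteValuationRing (W.comap (algebraMap K₁ M)) :=
    KADominates.isDiscreteValuationRing_of_dominates_finite A K _ hdomV
  haveI hdvrW : IsDiscreteValuationRing W :=
    KADominates.isDiscreteValuationRing_of_dominates_finite B L W hW'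
  -- algebra structures
  letI algAV : Algebra A (W.comap (algebraMap K₁ M)) :=
    (RingHom.codRestrict (algebraMap A K₁) (W.comap (algebraMap K₁ M)) hdomV.1).toAlgebra
  letI algBW : Algebra B W := (RingHom.codRestrict (algebraMap B M) W hW'.1).toAlgebra
  letI algVW : Algebra (W.comap (algebraMap K₁ M)) W :=
    (inclOfComap W (algebraMap K₁ M)).toAlgebra
  letI algAW : Algebra A W := ((algebraMap B W).comp (algebraMap A B)).toAlgebra
  haveI towABW : IsScalarTower A B W := IsScalarTower.of_algebraMap_eq (fun _ => rfl)
  haveI towAVW : IsScalarTower A (W.comap (algebraMap K₁ M)) W :=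
    IsScalarTower.of_algebraMap_eq (fun a => Subtype.ext (hcomm a).symm)
  haveI locAV : IsLocalHom (algebraMap A (W.comap (algebraMap K₁ M))) :=
    TameBase.isLocalHom_of_dominates _ _ hdomV
  haveI locBW : IsLocalHom (algebraMap B W) := TameBase.isLocalHom_of_dominates _ W hW'
  haveI locVW : IsLocalHom (algebraMap (W.comap (algebraMap K₁ M)) W) :=
    isLocalHom_inclOfComap W (algebraMap K₁ M)
  have hVW : Function.Injective (algebraMap (W.comap (algebraMap K₁ M)) W) := by
    intro a b hab
    have := congrArg (fun v : W => (v : M)) hab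
    exact Subtype.ext ((algebraMap K₁ M).injective this)
  haveI towAVK₁ : IsScalarTower A (W.comap (algebraMap K₁ M)) K₁ :=
    IsScalarTower.of_algebraMap_eq (fun _ => rfl)
  haveI hfinres : Module.Finite (ResidueField A) (ResidueField (W.comap (algebraMap K₁ M))) :=
    KADominates.finite_residueField A K K₁ (W.comap (algebraMap K₁ M)) Subtype.val_injective
  -- generation
  have hψ : ∀ (v : W.comap (algebraMap K₁ M)) (b : B),
      ((Algebra.TensorProduct.productMap (IsScalarTower.toAlgHom A (W.comap (algebraMap K₁ M)) W)
        (IsScalarTower.toAlgHom A B W) (v ⊗ₜ[A] b) : W) : M) =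
      algebraMap K₁ M (v : K₁) * algebraMap L M (algebraMap B L b) := by
    intro v b
    rw [Algebra.TensorProduct.productMap_apply_tmul]
    rfl
  have hgen : ∀ w : W, ∃ c s : (W.comap (algebraMap K₁ M)) ⊗[A] B,
      Algebra.TensorProduct.productMap (IsScalarTower.toAlgHom A (W.comap (algebraMap K₁ M)) W)
        (IsScalarTower.toAlgHom A B W) s ≠ 0 ∧
      w * Algebra.TensorProduct.productMap
        (IsScalarTower.toAlgHom A (W.comap (algebraMap K₁ M)) W)
        (IsScalarTower.toAlgHom A B W) s =
      Algebra.TensorProduct.productMap (IsScalarTower.toAlgHom A (W.comap (algebraMap K₁ M)) W)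
        (IsScalarTower.toAlgHom A B W) c := by
    intro w
    obtain ⟨n, v, b, v₀, b₀, hne, he⟩ :=
      AbhGen.generation A B K L K₁ M hgenM (W.comap (algebraMap K₁ M)) (w : M)
    refine ⟨∑ i, v i ⊗ₜ[A] b i, v₀ ⊗ₜ[A] b₀, ?_, ?_⟩
    · intro h0
      apply hne
      rw [← hψ, h0]
      rfl
    · apply Subtype.ext
      rw [MulMemClass.coe_mul, hψ, he, map_sum]
      rw [AddSubmonoidClass.coe_finset_sum]
      apply Finset.sum_congr rfl
      intro i _
      exact (hψ (v i) (b i)).symm
  obtain ⟨h1, h2⟩ := AbhDVR.weaklyUnramified_and_geometricallyReduced A B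
    (W.comap (algebraMap K₁ M)) W hw hVW hgen
  refine ⟨h1, ?_⟩
  have heq : (IsLocalRing.ResidueField.map (EtRam.inclOfComap W (algebraMap K₁ M))).toAlgebra =
      (inferInstance : Algebra (ResidueField (W.comap (algebraMap K₁ M))) (ResidueField W)) := by
    apply Algebra.algebra_ext
    intro r
    obtain ⟨x, rfl⟩ := residue_surjective r
    rfl
  rw [heq]
  exact h2

end Groth.Agent.S1983
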