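import Groth.Statements.S1232
import Groth.Agent.Lib.Helper45.WeakAssFlat

set_option autoImplicit false
universe u
open FlatMor

namespace Groth.Agent.S1232

open TensorProduct in
/-- Let A → B be a finite flat ring map, M an A-module and t a prime of B lying over the prime p of A.
Then t is a weakly associated prime of the B-module B ⊗_A M if and only if p is a weakly associated
prime of M. -/
theorem result {A B : Type u} [CommRing A] [CommRing B] [Algebra A B] [Module.Finite A B] [Module.Flat A B]
    (M : Type u) [AddCommGroup M] [Module A M] (p : Ideal A) [p.IsPrime] (t : Ideal B) [t.IsPrime] [t.LiesOver p] :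
    t ∈ FlatCA.weakAss B (B ⊗[A] M) ↔ p ∈ FlatCA.weakAss A M := by
  have htp : t.comap (algebraMap A B) = p := (Ideal.over_def t p).symm
  have hint : Algebra.IsIntegral A B := inferInstance
  constructor
  · intro ht
    have h1 : t.comap (algebraMap A B) ∈ FlatCA.weakAss A (B ⊗[A] M) :=
      Groth.Agent.Lib.Helper45.under_mem_weakAss_of_finite (A := A) ht
    rw [htp] at h1
    exact Groth.Agent.Lib.Helper45.mem_weakAss_of_mem_weakAss_tensor_of_finite_flat h1
  · rintro ⟨m, hm⟩
    replace hm : p ∈ (Groth.Agent.Lib.Helper45.annEl A m).minimalPrimes := hm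
    refine ⟨(1 : B) ⊗ₜ[A] m, ?_⟩
    show t ∈ (Groth.Agent.Lib.Helper45.annEl B ((1 : B) ⊗ₜ[A] m)).minimalPrimes
    rw [Groth.Agent.Lib.Helper45.annEl_one_tmul_of_flat]
    refine ⟨⟨inferInstance, ?_⟩, ?_⟩
    · rw [Ideal.map_le_iff_le_comap, htp]
      exact hm.1.2
    · intro t' ht' ht't
      have ht'P : t'.IsPrime := ht'.1
      have h1 : Groth.Agent.Lib.Helper45.annEl A m ≤ t'.comap (algebraMap A B) :=
        Ideal.map_le_iff_le_comap.mp ht'.2
      have h2 : t'.comap (algebraMap A B) ≤ p := by
        rw [← htp]; exact Ideal.comap_mono ht't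
      have h3 : p ≤ t'.comap (algebraMap A B) :=
        hm.2 ⟨Ideal.comap_isPrime _ _, h1⟩ h2
      by_contra hne
      have hlt : t' < t := lt_of_le_of_ne ht't (fun h => hne h.ge)
      have := Ideal.IsIntegral.comap_lt_comap (R := A) hlt
      rw [htp] at this
      exact absurd (lt_of_le_of_lt h3 this) (lt_irrefl _)

end Groth.Agent.S1232
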