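import Groth.Statements.S1819
import Groth.Agent.Lib.Helper60.BiDualE
import Groth.Agent.Lib.Helper35.ExtFin
import Groth.Agent.Lib.Helper6.RDual3

set_option autoImplicit false
universe u
open CategoryTheory
attribute [local instance] HasDerivedCategory.standard
open Dual

namespace Groth.Agent.S1819

/-- Let A be a Noetherian ring with a dualizing complex ω and K a complex of A-modules all of whose
cohomology modules are finite; assume RHom(K, −) exists. Then every cohomology module of RHom_A(K,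
ω) is finite, and for every complex E representing RHom_A(K, ω) (with RHom(E, −) existing) there is
an isomorphism RHom_A(E, ω) ≅ K in D(A). -/
theorem result (A : Type u) [CommRing A] [IsNoetherianRing A] (ω : Dual.D A) (hω : Dual.IsDualizing A ω) (K : DRing.Cx A) [DRing.HasRHomCx K] (hK : ∀ i : ℤ, Module.Finite A (Dual.HD A (DRing.toD K) i)) : (∀ i : ℤ, Module.Finite A (Dual.HD A ((DRing.RHomCx K).obj ω) i)) ∧ ∀ (E : DRing.Cx A) [DRing.HasRHomCx E], Nonempty (DRing.toD E ≅ (DRing.RHomCx K).obj ω) → Nonempty ((DRing.RHomCx E).obj ω ≅ DRing.toD K) := by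
  classical
  open Groth.Agent.Lib.Helper60.BiDual Groth.Agent.Lib.Helper35 Groth.Agent.Lib.Helper35.RHomKInj
    Groth.Agent.Lib.Helper6 DerivedCategory in
  obtain ⟨a, b, hab⟩ := hω.finite_injective_dimension
  have h21 := (KL.IA_tfae ω a b).out 1 0
  have hIA : KL.IA a b ω := h21.1 (fun (N : ModuleCat.{u} A) i hi => hab N i hi)
  have hIA' := hIA
  obtain ⟨I, hv, hinj, ⟨ι⟩⟩ := hIA
  have hGE : I.IsStrictlyGE a := by
    rw [CochainComplex.isStrictlyGE_iff]
    intro i hi
    exact hv i (Or.inl hi)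
  have hinj' : ∀ n : ℤ, Injective (I.X n) := hinj
  have hKI : I.IsKInjective := CochainComplex.isKInjective_of_injective I a
  have hωI : Dual.IsDualizing A (Q.obj I : Dual.D A) := HomBC.isDualizing_of_iso ι.symm hω
  have hu1 := isIso_rhomUnit K I
  let e1 : (DRing.RHomCx K).obj ω ≅ Q.obj (DRing.homCx K I) :=
    (DRing.RHomCx K).mapIso ι.symm ≪≫ (asIso (rhomUnit K I)).symm
  constructor
  · intro i
    have hfin : Module.Finite A ((Q.obj K : Dual.D A) ⟶ (Q.obj I : Dual.D A)⟦i⟧) :=
      KL.finite_hom_shift (Q.obj K) (Q.obj I) hK hωI.finite_cohomology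
        ⟨a, b, (KL.IA_iff a b _).mp ⟨I, hv, hinj, ⟨Iso.refl _⟩⟩⟩ i
    exact Module.Finite.equiv
      (((DerivedCategory.homologyFunctor (ModuleCat.{u} A) i).mapIso e1 ≪≫
        hQIso (DRing.homCx K I) i).toLinearEquiv ≪≫ₗ HomCxH.homologyEquiv K I i).symm
  · intro E _ ⟨e⟩
    have hP : P I K := P_of_finite a b hv hinj hωI.toEnd_bijective hωI.ext_self_subsingleton K hK
    have hev : IsIso (Q.map (evCx K I) : (Q.obj K : Dual.D A) ⟶ _) := by
      rw [isIso_Q_map_iff_quasiIso]
      exact hP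
    let e2 : (Q.obj E : Dual.D A) ≅ Q.obj (DRing.homCx K I) := e ≪≫ e1
    obtain ⟨Y, g, s, hs, hfac⟩ := DerivedCategory.left_fac e2.hom
    have hg : IsIso (Q.map g) := by
      have : Q.map g = e2.hom ≫ Q.map s := by
        rw [hfac, Category.assoc, IsIso.inv_hom_id, Category.comp_id]
      rw [this]
      infer_instance
    rw [isIso_Q_map_iff_quasiIso] at hs hg
    have hu2 := isIso_rhomUnit E I
    let e3 : (DRing.RHomCx E).obj ω ≅ Q.obj (DRing.homCx E I) :=
      (DRing.RHomCx E).mapIso ι.symm ≪≫ (asIso (rhomUnit E I)).symm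
    have q1 : IsIso (Q.map (homCxPre g I) : (Q.obj _ : Dual.D A) ⟶ _) := by
      rw [isIso_Q_map_iff_quasiIso]
      exact quasiIso_homCxPre g I
    have q2 : IsIso (Q.map (homCxPre s I) : (Q.obj _ : Dual.D A) ⟶ _) := by
      rw [isIso_Q_map_iff_quasiIso]
      exact quasiIso_homCxPre s I
    exact ⟨e3 ≪≫ (asIso (Q.map (homCxPre g I))).symm ≪≫ asIso (Q.map (homCxPre s I)) ≪≫
      (asIso (Q.map (evCx K I))).symm⟩

end Groth.Agent.S1819
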