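import Groth.Statements.S2165
import Groth.Agent.Lib.Helper82.ComplQuot
import Groth.Agent.Lib.Helper47.RegularLocalFlat
import Mathlib.RingTheory.Regular.Flat

set_option autoImplicit false
universe u
open LCI

namespace Groth.Agent.S2165

/-- Let R be a regular ring, p a prime ideal of R and f_1, ..., f_r a regular sequence of R contained in
p. Then the local ring R_p/(f_1, ..., f_r) is a complete intersection: its completion is a regular
local ring modulo a regular sequence. The instance hypothesis that the quotient is local always
holds. -/
theorem result {R : Type u} [CommRing R] [IsRegularRing R]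
    (p : Ideal R) [p.IsPrime] (rs : List R) (hmem : ∀ r ∈ rs, r ∈ p)
    (hreg : RingTheory.Sequence.IsRegular R rs)
    [IsLocalRing (Localization.AtPrime p ⧸
      Ideal.map (algebraMap R (Localization.AtPrime p)) (Ideal.ofList rs))] :
    Pi1.IsCompleteIntersection (Localization.AtPrime p ⧸
      Ideal.map (algebraMap R (Localization.AtPrime p)) (Ideal.ofList rs)) := by
  classical
  -- notation
  have hRA : IsRegularLocalRing (Localization.AtPrime p) :=
    IsRegularRing.isRegularLocalRing_localization _
  have hAN : IsNoetherianRing (Localization.AtPrime p) := inferInstance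
  have hBN : IsNoetherianRing (AdicCompletion (IsLocalRing.maximalIdeal (Localization.AtPrime p))
      (Localization.AtPrime p)) := Groth.Agent.S0543.result (Localization.AtPrime p) _
  have hmax : (IsLocalRing.maximalIdeal (Localization.AtPrime p)).map
      (algebraMap (Localization.AtPrime p)
        (AdicCompletion (IsLocalRing.maximalIdeal (Localization.AtPrime p))
          (Localization.AtPrime p))) =
      IsLocalRing.maximalIdeal (AdicCompletion (IsLocalRing.maximalIdeal (Localization.AtPrime p))
          (Localization.AtPrime p)) :=
    (AdicCompletion.maximalIdeal_eq_map (R := Localization.AtPrime p)).symm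
  have hRB : IsRegularLocalRing (AdicCompletion (IsLocalRing.maximalIdeal (Localization.AtPrime p))
      (Localization.AtPrime p)) :=
    (Groth.Agent.Lib.Helper47.isRegularLocalRing_iff_of_flat_of_map_maximalIdeal hmax).mp hRA
  have hff : Module.FaithfullyFlat (Localization.AtPrime p)
      (AdicCompletion (IsLocalRing.maximalIdeal (Localization.AtPrime p))
        (Localization.AtPrime p)) := Module.FaithfullyFlat.of_flat_of_isLocalHom
  have hregA : RingTheory.Sequence.IsRegular (Localization.AtPrime p)
      (rs.map (algebraMap R (Localization.AtPrime p))) :=
    RingTheory.Sequence.IsWeaklyRegular.isRegular_of_isLocalization_of_mem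
      (Localization.AtPrime p) p hreg.toIsWeaklyRegular hmem
  have hregB : RingTheory.Sequence.IsRegular
      (AdicCompletion (IsLocalRing.maximalIdeal (Localization.AtPrime p))
        (Localization.AtPrime p))
      ((rs.map (algebraMap R (Localization.AtPrime p))).map
        (algebraMap (Localization.AtPrime p)
          (AdicCompletion (IsLocalRing.maximalIdeal (Localization.AtPrime p))
            (Localization.AtPrime p)))) :=
    hregA.of_faithfullyFlat
  have hspan : Ideal.span {r | r ∈ (rs.map (algebraMap R (Localization.AtPrime p))).map
        (algebraMap (Localization.AtPrime p)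
          (AdicCompletion (IsLocalRing.maximalIdeal (Localization.AtPrime p))
            (Localization.AtPrime p)))} =
      (Ideal.map (algebraMap R (Localization.AtPrime p)) (Ideal.ofList rs)).map
        (algebraMap (Localization.AtPrime p)
          (AdicCompletion (IsLocalRing.maximalIdeal (Localization.AtPrime p))
            (Localization.AtPrime p))) := by
    rw [Ideal.map_ofList, Ideal.map_ofList]
  obtain ⟨e⟩ := Groth.Agent.Lib.Helper82.ComplQuot.exists_ringEquiv (Localization.AtPrime p)
    (Ideal.map (algebraMap R (Localization.AtPrime p)) (Ideal.ofList rs))
  refine ⟨AdicCompletion (IsLocalRing.maximalIdeal (Localization.AtPrime p))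
      (Localization.AtPrime p), inferInstance, hRB,
    (rs.map (algebraMap R (Localization.AtPrime p))).map
        (algebraMap (Localization.AtPrime p)
          (AdicCompletion (IsLocalRing.maximalIdeal (Localization.AtPrime p))
            (Localization.AtPrime p))), ?_, hregB, ⟨e.trans (Ideal.quotEquivOfEq hspan.symm)⟩⟩
  intro r hr
  obtain ⟨a, ha, rfl⟩ := List.mem_map.mp hr
  obtain ⟨b, hb, rfl⟩ := List.mem_map.mp ha
  rw [← hmax]
  apply Ideal.mem_map_of_mem
  exact (IsLocalization.AtPrime.to_map_mem_maximal_iff (Localization.AtPrime p) p b).mpr (hmem b hb)

end Groth.Agent.S2165
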