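import Groth.Statements.S3811
import Groth.Agent.H18.PPBasic
import Mathlib.RingTheory.TensorProduct.Maps

set_option autoImplicit false
universe u
open scoped TensorProduct
open PP16

namespace Groth.Agent.S3811

section helpers

variable (n : ℕ) (A B : Type u) [CommRing A] [CommRing B] [Algebra A B] (g : B →ₐ[A] A)

/-- the map `B ⊗ B → B / K^(n+1)`, `b ⊗ c ↦ g b • c`. -/
noncomputable def retrMap : B ⊗[A] B →ₐ[A] B ⧸ (RingHom.ker g) ^ (n + 1) :=
  Algebra.TensorProduct.lift ((Algebra.ofId A (B ⧸ (RingHom.ker g) ^ (n + 1))).comp g)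
    (Ideal.Quotient.mkₐ A _) (fun _ _ => Commute.all _ _)

theorem retrMap_tmul (b c : B) :
    retrMap n A B g (b ⊗ₜ c) = Ideal.Quotient.mk _ (algebraMap A B (g b) * c) := by
  simp [retrMap, Algebra.ofId_apply]

theorem sub_algebraMap_mem_ker (b : B) : b - algebraMap A B (g b) ∈ RingHom.ker g := by
  rw [RingHom.mem_ker, map_sub, AlgHom.commutes]
  simp

theorem retrMap_ideal_le :
    (KaehlerDifferential.ideal A B).map (retrMap n A B g) ≤
      (RingHom.ker g).map (Ideal.Quotient.mk ((RingHom.ker g) ^ (n + 1))) := by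
  rw [← KaehlerDifferential.span_range_eq_ideal, Ideal.map_span, Ideal.span_le]
  rintro _ ⟨_, ⟨b, rfl⟩, rfl⟩
  show retrMap n A B g ((1 : B) ⊗ₜ b - b ⊗ₜ (1 : B)) ∈ _
  rw [map_sub, retrMap_tmul, retrMap_tmul, ← map_sub]
  apply Ideal.mem_map_of_mem
  simp only [map_one, one_mul, mul_one]
  exact sub_algebraMap_mem_ker A B g b

theorem retrMap_pow_eq_zero (x : B ⊗[A] B) (hx : x ∈ (KaehlerDifferential.ideal A B) ^ (n + 1)) :
    retrMap n A B g x = 0 := by
  have h1 : retrMap n A B g x ∈ ((KaehlerDifferential.ideal A B) ^ (n + 1)).map (retrMap n A B g) :=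
    Ideal.mem_map_of_mem _ hx
  rw [Ideal.map_pow] at h1
  have h2 := Ideal.pow_right_mono (retrMap_ideal_le n A B g) (n + 1) h1
  rw [← Ideal.map_pow, Ideal.map_quotient_self] at h2
  simpa using h2

/-- the induced map `P^n → B / K^(n+1)`. -/
noncomputable def retrMapP : P n A B →ₐ[A] B ⧸ (RingHom.ker g) ^ (n + 1) :=
  Ideal.Quotient.liftₐ _ (retrMap n A B g) (retrMap_pow_eq_zero n A B g)

theorem retrMapP_mk (x : B ⊗[A] B) :
    retrMapP n A B g (Ideal.Quotient.mk _ x) = retrMap n A B g x := rfl

theorem retrMapP_algebraMap_ker (k : B) (hk : k ∈ RingHom.ker g) :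
    retrMapP n A B g (algebraMap B (P n A B) k) = 0 := by
  change retrMapP n A B g (Ideal.Quotient.mk _ (k ⊗ₜ[A] (1 : B))) = 0
  rw [retrMapP_mk, retrMap_tmul, (RingHom.mem_ker).mp hk]
  simp

theorem retrMapP_dn (b : B) :
    retrMapP n A B g (dn n A B b) = Ideal.Quotient.mk _ b := by
  change retrMapP n A B g (Ideal.Quotient.mk _ ((1 : B) ⊗ₜ[A] b)) = _
  rw [retrMapP_mk, retrMap_tmul]
  simp


end helpers

/-- Let B be an A-algebra with an A-algebra retraction g : B → A, and K the kernel of g. The composite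
of d^n : B → P^n_{B/A} with the projection P^n_{B/A} → P^n_{B/A} / K P^n_{B/A} (base change of
P^n_{B/A} along g) is surjective with kernel K^(n+1); thus P^n_{B/A} ⊗_B A is identified with
B/K^(n+1), the class of d^n t corresponding to the class of t. -/
theorem result (n : ℕ) (A B : Type u) [CommRing A] [CommRing B] [Algebra A B]
    (g : B →ₐ[A] A) :
    Function.Surjective ((Ideal.Quotient.mk ((RingHom.ker g).map (algebraMap B (PP16.P n A B)))).comp
        (PP16.dn n A B).toRingHom) ∧
      RingHom.ker ((Ideal.Quotient.mk ((RingHom.ker g).map (algebraMap B (PP16.P n A B)))).comp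
        (PP16.dn n A B).toRingHom) = RingHom.ker g ^ (n + 1) := by
  set J := (RingHom.ker g).map (algebraMap B (PP16.P n A B)) with hJ
  have key : ∀ b c : B, Ideal.Quotient.mk J (Ideal.Quotient.mk _ (b ⊗ₜ[A] c)) =
      Ideal.Quotient.mk J (dn n A B (algebraMap A B (g b) * c)) := by
    intro b c
    rw [Ideal.Quotient.eq]
    have e : (Ideal.Quotient.mk ((KaehlerDifferential.ideal A B) ^ (n + 1)) (b ⊗ₜ[A] c) : P n A B) -
        dn n A B (algebraMap A B (g b) * c) =
        algebraMap B (P n A B) (b - algebraMap A B (g b)) * dn n A B c := by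
      change Ideal.Quotient.mk _ (b ⊗ₜ[A] c) - Ideal.Quotient.mk _ ((1 : B) ⊗ₜ[A] (algebraMap A B (g b) * c)) =
        Ideal.Quotient.mk _ ((b - algebraMap A B (g b)) ⊗ₜ[A] (1 : B)) * Ideal.Quotient.mk _ ((1 : B) ⊗ₜ[A] c)
      rw [← map_sub, ← map_mul]
      congr 1
      rw [Algebra.TensorProduct.tmul_mul_tmul, mul_one, one_mul, TensorProduct.sub_tmul,
        Algebra.algebraMap_eq_smul_one, smul_mul_assoc, one_mul, TensorProduct.smul_tmul]
    rw [e]
    exact Ideal.mul_mem_right _ _ (Ideal.mem_map_of_mem _ (sub_algebraMap_mem_ker A B g b))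
  constructor
  · intro y
    obtain ⟨y, rfl⟩ := Ideal.Quotient.mk_surjective y
    obtain ⟨y, rfl⟩ := Ideal.Quotient.mk_surjective y
    induction y using TensorProduct.induction_on with
    | zero => exact ⟨0, by simp⟩
    | tmul b c => exact ⟨algebraMap A B (g b) * c, (key b c).symm⟩
    | add x y hx hy =>
      obtain ⟨a, ha⟩ := hx
      obtain ⟨b, hb⟩ := hy
      exact ⟨a + b, by rw [map_add, ha, hb, map_add, map_add]⟩
  · -- the retraction `Q → B / K^(n+1)`
    have hJ0 : ∀ x ∈ J, retrMapP n A B g x = 0 := by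
      intro x hx
      have : J ≤ RingHom.ker (retrMapP n A B g).toRingHom := by
        rw [hJ, Ideal.map_le_iff_le_comap]
        intro k hk
        exact retrMapP_algebraMap_ker n A B g k hk
      exact this hx
    apply le_antisymm
    · intro b hb
      rw [RingHom.mem_ker, RingHom.comp_apply, Ideal.Quotient.eq_zero_iff_mem] at hb
      have := hJ0 _ hb
      change retrMapP n A B g (dn n A B b) = 0 at this
      rwa [retrMapP_dn, Ideal.Quotient.eq_zero_iff_mem] at this
    · -- `K ⊆ ker φ + image of I`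
      have hK : ∀ b ∈ RingHom.ker g, Ideal.Quotient.mk J (dn n A B b) ∈
          ((KaehlerDifferential.ideal A B).map (Ideal.Quotient.mk ((KaehlerDifferential.ideal A B) ^ (n + 1)))).map
            (Ideal.Quotient.mk J) := by
        intro b hb
        have e : Ideal.Quotient.mk J (dn n A B b) =
            Ideal.Quotient.mk J (Ideal.Quotient.mk _ ((1 : B) ⊗ₜ[A] b - b ⊗ₜ[A] (1 : B))) := by
          rw [Ideal.Quotient.eq]
          have : dn n A B b - Ideal.Quotient.mk _ ((1 : B) ⊗ₜ[A] b - b ⊗ₜ[A] (1 : B)) =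
              algebraMap B (P n A B) b := by
            change Ideal.Quotient.mk _ ((1 : B) ⊗ₜ[A] b) - _ = Ideal.Quotient.mk _ (b ⊗ₜ[A] (1 : B))
            rw [← map_sub]; congr 1; abel
          rw [this]
          exact Ideal.mem_map_of_mem _ hb
        rw [e]
        exact Ideal.mem_map_of_mem _ (Ideal.mem_map_of_mem _
          (KaehlerDifferential.one_smul_sub_smul_one_mem_ideal A b))
      set φ := (Ideal.Quotient.mk J).comp (PP16.dn n A B).toRingHom with hφ
      have h1 : (RingHom.ker g).map φ ≤ ((KaehlerDifferential.ideal A B).map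
          (Ideal.Quotient.mk ((KaehlerDifferential.ideal A B) ^ (n + 1)))).map (Ideal.Quotient.mk J) := by
        rw [Ideal.map_le_iff_le_comap]
        intro b hb
        exact hK b hb
      have h2 := Ideal.pow_right_mono h1 (n + 1)
      have h3 : (Ideal.map (Ideal.Quotient.mk J) (Ideal.map (Ideal.Quotient.mk
          (KaehlerDifferential.ideal A B ^ (n + 1))) (KaehlerDifferential.ideal A B))) ^ (n + 1) = ⊥ := by
        have e1 := Ideal.map_pow (Ideal.Quotient.mk J) (Ideal.map (Ideal.Quotient.mk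
          (KaehlerDifferential.ideal A B ^ (n + 1))) (KaehlerDifferential.ideal A B)) (n + 1)
        have e2 := Ideal.map_pow (Ideal.Quotient.mk
          (KaehlerDifferential.ideal A B ^ (n + 1))) (KaehlerDifferential.ideal A B) (n + 1)
        rw [← e1, ← e2, Ideal.map_quotient_self, Ideal.map_bot]
      rw [h3] at h2
      intro b hb
      have hb' := Ideal.mem_map_of_mem φ hb
      have e3 := Ideal.map_pow φ (RingHom.ker g) (n + 1)
      rw [e3] at hb'
      have := h2 hb'
      rwa [Ideal.mem_bot] at this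

end Groth.Agent.S3811
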