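import Groth.Statements.S18379
import Mathlib

set_option autoImplicit false
open VerlindeComb
set_option linter.unusedSectionVars false
open Finset

namespace Groth.Agent.S18379



theorem sum_eq_factorial_mul_sum_strictMono {α : Type*} [LinearOrder α] [Fintype α] {m : ℕ}
    (H : (Fin m → α) → ℝ) (hsymm : ∀ (v : Fin m → α) (π : Equiv.Perm (Fin m)), H (v ∘ π) = H v)
    (hinj : ∀ v : Fin m → α, ¬ Function.Injective v → H v = 0) :
    ∑ v : Fin m → α, H v =
      (m.factorial : ℝ) * ∑ v ∈ (Finset.univ : Finset (Fin m → α)).filter StrictMono, H v := by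
  classical
  have h1 : ∑ v : Fin m → α, H v =
      ∑ v ∈ (Finset.univ : Finset (Fin m → α)).filter Function.Injective, H v := by
    rw [Finset.sum_filter]
    refine Finset.sum_congr rfl fun v _ => ?_
    split_ifs with h
    · rfl
    · exact hinj v h
  have h2 : (m.factorial : ℝ) * ∑ v ∈ (Finset.univ : Finset (Fin m → α)).filter StrictMono, H v =
      ∑ p ∈ (Finset.univ : Finset (Equiv.Perm (Fin m))) ×ˢ
        (Finset.univ : Finset (Fin m → α)).filter StrictMono, H (p.2 ∘ p.1) := by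
    rw [Finset.sum_product]
    simp_rw [hsymm]
    rw [Finset.sum_const, Finset.card_univ, Fintype.card_perm, Fintype.card_fin, nsmul_eq_mul]
  rw [h1, h2]
  symm
  refine Finset.sum_bij (fun p _ => p.2 ∘ p.1) ?_ ?_ ?_ ?_
  · intro p hp
    simp only [Finset.mem_product, Finset.mem_univ, Finset.mem_filter, true_and] at hp ⊢
    exact hp.injective.comp p.1.injective
  · rintro ⟨π, w⟩ hp ⟨π', w'⟩ hp' h
    simp only [Finset.mem_product, Finset.mem_univ, Finset.mem_filter, true_and] at hp hp'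
    simp only at h
    have hr : Set.range w = Set.range w' := by
      have e1 : Set.range (w ∘ π) = Set.range w := π.surjective.range_comp w
      have e2 : Set.range (w' ∘ π') = Set.range w' := π'.surjective.range_comp w'
      rw [← e1, ← e2, h]
    have hw : w = w' := (hp.range_inj hp').mp hr
    subst hw
    have hπ : π = π' := by
      ext i
      have := congrFun h i
      simp only [Function.comp_apply] at this
      rw [hp.injective this]
    rw [hπ]
  · intro v hv
    simp only [Finset.mem_filter, Finset.mem_univ, true_and] at hv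
    refine ⟨((Tuple.sort v)⁻¹, v ∘ Tuple.sort v), ?_, ?_⟩
    · simp only [Finset.mem_product, Finset.mem_univ, Finset.mem_filter, true_and]
      exact (Tuple.monotone_sort v).strictMono_of_injective (hv.comp (Tuple.sort v).injective)
    · funext i
      simp
  · intro p _
    rfl


section
variable (N : ℕ) [NeZero N]



/-- primitive `N`-th root of unity -/
noncomputable def zeta : ℂ := Complex.exp (2 * Real.pi * Complex.I / N)

theorem zeta_prim : IsPrimitiveRoot (zeta N) N :=
  Complex.isPrimitiveRoot_exp N (NeZero.ne N)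

theorem zeta_pow_N : zeta N ^ N = 1 := (zeta_prim N).pow_eq_one

theorem zeta_ne_zero : zeta N ≠ 0 := Complex.exp_ne_zero _

theorem normSq_zeta : Complex.normSq (zeta N) = 1 := by
  have h : zeta N = Complex.exp ((2 * Real.pi / N : ℝ) * Complex.I) := by
    rw [zeta]; congr 1; push_cast; ring
  rw [h, Complex.normSq_eq_norm_sq, Complex.norm_exp_ofReal_mul_I, one_pow]

theorem conj_zeta : (starRingEnd ℂ) (zeta N) = (zeta N)⁻¹ := by
  have h := Complex.mul_conj (zeta N)
  rw [normSq_zeta, Complex.ofReal_one] at h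
  exact eq_inv_of_mul_eq_one_right h

/-- value at a `Fin N` index -/
noncomputable def zv (a : Fin N) : ℂ := zeta N ^ (a : ℕ)

theorem zv_add (a c : Fin N) : zv N (a + c) = zv N a * zv N c := by
  rw [zv, zv, zv, Fin.val_add, ← pow_add, ← pow_eq_pow_mod _ (zeta_pow_N N)]

theorem normSq_zv (a : Fin N) : Complex.normSq (zv N a) = 1 := by
  rw [zv, map_pow, normSq_zeta, one_pow]

theorem zv_injective : Function.Injective (zv N) := by
  intro a b h
  exact Fin.ext ((zeta_prim N).pow_inj a.isLt b.isLt h)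

/-- pair factor -/
noncomputable def pd (a b : Fin N) : ℝ := Complex.normSq (zv N a - zv N b)

theorem pd_comm (a b : Fin N) : pd N a b = pd N b a := by
  rw [pd, pd, ← Complex.normSq_neg, neg_sub]

theorem pd_self (a : Fin N) : pd N a a = 0 := by
  rw [pd, sub_self, map_zero]

theorem pd_add (a b c : Fin N) : pd N (a + c) (b + c) = pd N a b := by
  rw [pd, pd, zv_add, zv_add, ← sub_mul, map_mul, normSq_zv, mul_one]

theorem pd_eq_sin (a b : Fin N) :
    pd N a b = ((2 : ℝ) * Real.sin (Real.pi * (((a : ℕ) : ℝ) - ((b : ℕ) : ℝ)) / (N : ℝ))) ^ 2 := by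
  have hz : ∀ c : Fin N, zv N c = Complex.exp ((2 * Real.pi * (c : ℕ) / N : ℝ) * Complex.I) := by
    intro c
    rw [zv, zeta, ← Complex.exp_nat_mul]
    congr 1
    push_cast
    ring
  rw [pd, hz, hz, Complex.normSq_apply]
  simp only [Complex.sub_re, Complex.sub_im, Complex.exp_ofReal_mul_I_re,
    Complex.exp_ofReal_mul_I_im]
  rw [Real.cos_sub_cos, Real.sin_sub_sin]
  have hN : (N : ℝ) ≠ 0 := Nat.cast_ne_zero.mpr (NeZero.ne N)
  have e1 : (2 * Real.pi * ((a : ℕ) : ℝ) / N - 2 * Real.pi * ((b : ℕ) : ℝ) / N) / 2 =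
      Real.pi * (((a : ℕ) : ℝ) - ((b : ℕ) : ℝ)) / (N : ℝ) := by
    field_simp
  rw [e1]
  set s := Real.sin (Real.pi * (((a : ℕ) : ℝ) - ((b : ℕ) : ℝ)) / (N : ℝ))
  set x := (2 * Real.pi * ((a : ℕ) : ℝ) / N + 2 * Real.pi * ((b : ℕ) : ℝ) / N) / 2
  have := Real.sin_sq_add_cos_sq x
  nlinarith [this]



/-- the Vandermonde-type product -/
noncomputable def F {m : ℕ} (v : Fin m → Fin N) : ℝ :=
  ∏ p ∈ (Finset.univ : Finset (Fin m × Fin m)).filter (fun p => p.1 < p.2), pd N (v p.1) (v p.2)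

/-- the Vandermonde determinant -/
noncomputable def D {m : ℕ} (v : Fin m → Fin N) : ℂ :=
  (Matrix.vandermonde (fun i => zv N (v i))).det

theorem prod_pairs {m : ℕ} (g : Fin m → Fin m → ℝ) :
    ∏ p ∈ (Finset.univ : Finset (Fin m × Fin m)).filter (fun p => p.1 < p.2), g p.1 p.2 =
      ∏ i : Fin m, ∏ j ∈ Finset.Ioi i, g i j := by
  rw [Finset.prod_filter, ← Finset.univ_product_univ, Finset.prod_product]
  refine Finset.prod_congr rfl fun i _ => ?_
  rw [← Finset.prod_filter]
  congr 1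
  ext j
  simp

theorem F_eq_normSq_D {m : ℕ} (v : Fin m → Fin N) : F N v = Complex.normSq (D N v) := by
  rw [F, D, Matrix.det_vandermonde, map_prod, prod_pairs (fun i j => pd N (v i) (v j))]
  refine Finset.prod_congr rfl fun i _ => ?_
  rw [map_prod]
  refine Finset.prod_congr rfl fun j _ => ?_
  rw [pd_comm, pd]

theorem D_comp_perm {m : ℕ} (v : Fin m → Fin N) (π : Equiv.Perm (Fin m)) :
    D N (v ∘ π) = Equiv.Perm.sign π * D N v := by
  rw [D, D, ← Matrix.det_permute]
  congr 1

theorem F_comp_perm {m : ℕ} (v : Fin m → Fin N) (π : Equiv.Perm (Fin m)) :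
    F N (v ∘ π) = F N v := by
  rw [F_eq_normSq_D, F_eq_normSq_D, D_comp_perm, map_mul]
  rcases Int.units_eq_one_or (Equiv.Perm.sign π) with h | h <;> simp [h]

theorem F_eq_zero_of_not_injective {m : ℕ} (v : Fin m → Fin N) (h : ¬ Function.Injective v) :
    F N v = 0 := by
  rw [F_eq_normSq_D, D, Complex.normSq_eq_zero, Matrix.det_vandermonde_eq_zero_iff]
  rw [Function.Injective] at h
  push Not at h
  obtain ⟨i, j, hij, hne⟩ := h
  exact ⟨i, j, by rw [hij], hne⟩



/-- orthogonality of characters -/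
theorem sum_zv_pow (s t : ℕ) (hs : s < N) (ht : t < N) :
    ∑ a : Fin N, zv N a ^ s * (starRingEnd ℂ) (zv N a) ^ t = if s = t then (N : ℂ) else 0 := by
  set x : ℂ := zeta N ^ s * (zeta N)⁻¹ ^ t with hx
  have hterm : ∀ a : Fin N, zv N a ^ s * (starRingEnd ℂ) (zv N a) ^ t = x ^ (a : ℕ) := by
    intro a
    rw [zv, map_pow, conj_zeta, hx, mul_pow, ← pow_mul, ← pow_mul, ← pow_mul, ← pow_mul,
      mul_comm (a : ℕ) s, mul_comm (a : ℕ) t]
  simp_rw [hterm]
  rw [Fin.sum_univ_eq_sum_range (fun i => x ^ i) N]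
  have hxN : x ^ N = 1 := by
    rw [hx, mul_pow, ← pow_mul, ← pow_mul, mul_comm s N, mul_comm t N, pow_mul, pow_mul, inv_pow,
      zeta_pow_N, inv_one, one_pow, one_pow, one_mul]
  split_ifs with hst
  · have hx1 : x = 1 := by
      rw [hx, hst, ← mul_pow, mul_inv_cancel₀ (zeta_ne_zero N), one_pow]
    rw [hx1]
    simp
  · have hx1 : x ≠ 1 := by
      intro h
      apply hst
      apply (zeta_prim N).pow_inj hs ht
      rw [hx] at h
      have h2 : zeta N ^ t ≠ 0 := pow_ne_zero _ (zeta_ne_zero N)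
      rw [inv_pow] at h
      field_simp at h
      exact h
    have h := geom_sum_mul x N
    rw [hxN, sub_self] at h
    rcases mul_eq_zero.mp h with h | h
    · exact h
    · exact absurd (sub_eq_zero.mp h) hx1





theorem D_eq_sum {m : ℕ} (v : Fin m → Fin N) :
    D N v = ∑ σ : Equiv.Perm (Fin m), ((Equiv.Perm.sign σ : ℤ) : ℂ) *
      ∏ i, zv N (v i) ^ ((σ i : Fin m) : ℕ) := by
  rw [D, ← Matrix.det_transpose, Matrix.det_apply']
  refine Finset.sum_congr rfl fun σ _ => ?_
  congr 1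

theorem conj_D_eq_sum {m : ℕ} (v : Fin m → Fin N) :
    (starRingEnd ℂ) (D N v) = ∑ τ : Equiv.Perm (Fin m), ((Equiv.Perm.sign τ : ℤ) : ℂ) *
      ∏ i, (starRingEnd ℂ) (zv N (v i)) ^ ((τ i : Fin m) : ℕ) := by
  rw [D_eq_sum, map_sum]
  refine Finset.sum_congr rfl fun τ _ => ?_
  rw [map_mul, map_intCast, map_prod]
  simp only [map_pow]

theorem sum_D_mul_conj {m : ℕ} (hm : m ≤ N) :
    ∑ v : Fin m → Fin N, D N v * (starRingEnd ℂ) (D N v) = (m.factorial : ℂ) * (N : ℂ) ^ m := by
  classical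
  simp_rw [conj_D_eq_sum N, D_eq_sum N, Finset.sum_mul_sum]
  rw [Finset.sum_comm]
  have key : ∀ σ τ : Equiv.Perm (Fin m),
      ∑ v : Fin m → Fin N, (((Equiv.Perm.sign σ : ℤ) : ℂ) * ∏ i, zv N (v i) ^ ((σ i : Fin m) : ℕ)) *
        (((Equiv.Perm.sign τ : ℤ) : ℂ) *
          ∏ i, (starRingEnd ℂ) (zv N (v i)) ^ ((τ i : Fin m) : ℕ)) =
      if σ = τ then (N : ℂ) ^ m else 0 := by
    intro σ τ
    have h1 : ∀ v : Fin m → Fin N,
        (((Equiv.Perm.sign σ : ℤ) : ℂ) * ∏ i, zv N (v i) ^ ((σ i : Fin m) : ℕ)) *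
        (((Equiv.Perm.sign τ : ℤ) : ℂ) *
          ∏ i, (starRingEnd ℂ) (zv N (v i)) ^ ((τ i : Fin m) : ℕ)) =
        (((Equiv.Perm.sign σ : ℤ) : ℂ) * ((Equiv.Perm.sign τ : ℤ) : ℂ)) *
          ∏ i, (zv N (v i) ^ ((σ i : Fin m) : ℕ) *
            (starRingEnd ℂ) (zv N (v i)) ^ ((τ i : Fin m) : ℕ)) := by
      intro v
      rw [Finset.prod_mul_distrib]
      ring
    simp_rw [h1]
    rw [← Finset.mul_sum]
    have h2 : ∑ v : Fin m → Fin N, ∏ i, (zv N (v i) ^ ((σ i : Fin m) : ℕ) *
            (starRingEnd ℂ) (zv N (v i)) ^ ((τ i : Fin m) : ℕ)) =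
        ∏ i : Fin m, ∑ a : Fin N, (zv N a ^ ((σ i : Fin m) : ℕ) *
            (starRingEnd ℂ) (zv N a) ^ ((τ i : Fin m) : ℕ)) := by
      rw [Finset.prod_univ_sum, Fintype.piFinset_univ]
    rw [h2]
    have h3 : ∀ i : Fin m, ∑ a : Fin N, (zv N a ^ ((σ i : Fin m) : ℕ) *
            (starRingEnd ℂ) (zv N a) ^ ((τ i : Fin m) : ℕ)) =
        if σ i = τ i then (N : ℂ) else 0 := by
      intro i
      rw [sum_zv_pow N _ _ (lt_of_lt_of_le (σ i).isLt hm) (lt_of_lt_of_le (τ i).isLt hm)]
      simp only [Fin.val_inj]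
    simp_rw [h3]
    rw [Finset.prod_ite_zero]
    by_cases hστ : σ = τ
    · subst hστ
      simp only [if_true, implies_true, Finset.prod_const, Finset.card_univ, Fintype.card_fin]
      rcases Int.units_eq_one_or (Equiv.Perm.sign σ) with h | h <;> simp [h]
    · rw [if_neg hστ, if_neg, mul_zero]
      intro h
      apply hστ
      ext i
      rw [h i (Finset.mem_univ i)]
  have h4 : ∀ σ : Equiv.Perm (Fin m), ∑ v : Fin m → Fin N, ∑ τ : Equiv.Perm (Fin m),
      (((Equiv.Perm.sign σ : ℤ) : ℂ) * ∏ i, zv N (v i) ^ ((σ i : Fin m) : ℕ)) *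
        (((Equiv.Perm.sign τ : ℤ) : ℂ) *
          ∏ i, (starRingEnd ℂ) (zv N (v i)) ^ ((τ i : Fin m) : ℕ)) = (N : ℂ) ^ m := by
    intro σ
    rw [Finset.sum_comm]
    simp_rw [key]
    simp
  simp_rw [h4]
  simp [Fintype.card_perm]



theorem F_add_const {m : ℕ} (v : Fin m → Fin N) (c : Fin N) :
    F N (fun i => v i + c) = F N v := by
  unfold F
  exact Finset.prod_congr rfl fun p _ => pd_add N _ _ _

theorem sum_F_cons (n' : ℕ) :
    ∑ v : Fin (n' + 1) → Fin N, F N v =
      (N : ℝ) * ∑ u : Fin n' → Fin N, F N (Fin.cons 0 u : Fin (n' + 1) → Fin N) := by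
  rw [← (Fin.consEquiv (fun _ => Fin N)).sum_comp, Fintype.sum_prod_type]
  have h : ∀ a : Fin N, ∑ u : Fin n' → Fin N,
      F N ((Fin.consEquiv (fun _ : Fin (n' + 1) => Fin N)) (a, u)) =
      ∑ u : Fin n' → Fin N, F N (Fin.cons 0 u : Fin (n' + 1) → Fin N) := by
    intro a
    rw [← Equiv.sum_comp (Equiv.addRight (fun _ : Fin n' => a))]
    refine Finset.sum_congr rfl fun u _ => ?_
    rw [← F_add_const N (Fin.cons 0 u : Fin (n' + 1) → Fin N) a]
    congr 1
    funext i
    refine Fin.cases ?_ (fun j => ?_) i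
    · simp
    · simp
  simp_rw [h]
  rw [Finset.sum_const, Finset.card_univ, Fintype.card_fin, nsmul_eq_mul]



theorem cons_comp_perm {n' : ℕ} (u : Fin n' → Fin N) (π : Equiv.Perm (Fin n')) :
    (Fin.cons 0 (u ∘ π) : Fin (n' + 1) → Fin N) =
      (Fin.cons 0 u : Fin (n' + 1) → Fin N) ∘ (Equiv.Perm.decomposeFin.symm (0, π)) := by
  funext i
  refine Fin.cases ?_ (fun j => ?_) i
  · simp
  · simp

theorem strictMono_cons_of_injective {n' : ℕ} (u : Fin n' → Fin N) (hu : StrictMono u)
    (hinj : Function.Injective (Fin.cons 0 u : Fin (n' + 1) → Fin N)) :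
    StrictMono (Fin.cons 0 u : Fin (n' + 1) → Fin N) := by
  intro i j hij
  induction i using Fin.cases with
  | zero =>
    induction j using Fin.cases with
    | zero => exact absurd hij (lt_irrefl _)
    | succ j' =>
      rw [Fin.cons_zero, Fin.cons_succ]
      have hne : u j' ≠ 0 := by
        intro h0
        have : (Fin.cons 0 u : Fin (n' + 1) → Fin N) j'.succ = (Fin.cons 0 u : Fin (n' + 1) → Fin N) 0 := by
          rw [Fin.cons_zero, Fin.cons_succ, h0]
        exact Fin.succ_ne_zero _ (hinj this)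
      exact Fin.pos_iff_ne_zero.mpr hne
  | succ i' =>
    induction j using Fin.cases with
    | zero => exact absurd hij (Fin.not_lt_zero _)
    | succ j' =>
      rw [Fin.cons_succ, Fin.cons_succ]
      exact hu (Fin.succ_lt_succ_iff.mp hij)

theorem strictMono_of_strictMono_cons {n' : ℕ} (u : Fin n' → Fin N)
    (h : StrictMono (Fin.cons 0 u : Fin (n' + 1) → Fin N)) : StrictMono u := by
  intro i j hij
  have := h (Fin.succ_lt_succ_iff.mpr hij)
  rwa [Fin.cons_succ, Fin.cons_succ] at this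

theorem sum_strictMono_cons (n' : ℕ) :
    ∑ u ∈ (Finset.univ : Finset (Fin n' → Fin N)).filter StrictMono,
        F N (Fin.cons 0 u : Fin (n' + 1) → Fin N) =
      ∑ w ∈ (Finset.univ : Finset (Fin (n' + 1) → Fin N)).filter
        (fun w => StrictMono w ∧ w 0 = 0), F N w := by
  classical
  have h1 : ∑ u ∈ (Finset.univ : Finset (Fin n' → Fin N)).filter StrictMono,
        F N (Fin.cons 0 u : Fin (n' + 1) → Fin N) =
      ∑ u ∈ (Finset.univ : Finset (Fin n' → Fin N)).filter
        (fun u => StrictMono (Fin.cons 0 u : Fin (n' + 1) → Fin N)),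
        F N (Fin.cons 0 u : Fin (n' + 1) → Fin N) := by
    symm
    apply Finset.sum_subset
    · intro u hu
      simp only [Finset.mem_filter, Finset.mem_univ, true_and] at hu ⊢
      exact strictMono_of_strictMono_cons N u hu
    · intro u hu hnu
      simp only [Finset.mem_filter, Finset.mem_univ, true_and] at hu hnu
      apply F_eq_zero_of_not_injective
      intro hinj
      exact hnu (strictMono_cons_of_injective N u hu hinj)
  rw [h1]
  refine Finset.sum_bij (fun u _ => (Fin.cons 0 u : Fin (n' + 1) → Fin N)) ?_ ?_ ?_ ?_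
  · intro u hu
    simp only [Finset.mem_filter, Finset.mem_univ, true_and] at hu ⊢
    exact ⟨hu, Fin.cons_zero _ _⟩
  · intro u _ u' _ h
    exact (Fin.cons_injective2 h).2
  · intro w hw
    simp only [Finset.mem_filter, Finset.mem_univ, true_and] at hw
    refine ⟨Fin.tail w, ?_, ?_⟩
    · simp only [Finset.mem_filter, Finset.mem_univ, true_and]
      rw [← hw.2, Fin.cons_self_tail]
      exact hw.1
    · rw [← hw.2, Fin.cons_self_tail]
  · intro u _
    rfl

theorem sum_strictAnti_eq (n' : ℕ) :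
    ∑ v ∈ (Finset.univ : Finset (Fin (n' + 1) → Fin N)).filter
        (fun v => StrictAnti v ∧ v (Fin.last n') = 0), F N v =
      ∑ w ∈ (Finset.univ : Finset (Fin (n' + 1) → Fin N)).filter
        (fun w => StrictMono w ∧ w 0 = 0), F N w := by
  classical
  refine Finset.sum_bij (fun v _ => v ∘ (Fin.revPerm : Equiv.Perm (Fin (n' + 1)))) ?_ ?_ ?_ ?_
  · intro v hv
    simp only [Finset.mem_filter, Finset.mem_univ, true_and] at hv ⊢
    refine ⟨hv.1.comp Fin.rev_strictAnti, ?_⟩
    simp only [Function.comp_apply, Fin.revPerm_apply, Fin.rev_zero]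
    exact hv.2
  · intro v _ v' _ h
    funext i
    have := congrFun h (Fin.rev i)
    simpa using this
  · intro w hw
    simp only [Finset.mem_filter, Finset.mem_univ, true_and] at hw
    refine ⟨w ∘ Fin.rev, ?_, ?_⟩
    · simp only [Finset.mem_filter, Finset.mem_univ, true_and]
      refine ⟨hw.1.comp_strictAnti Fin.rev_strictAnti, ?_⟩
      simp only [Function.comp_apply, Fin.rev_last]
      exact hw.2
    · funext i
      simp
  · intro v _
    exact (F_comp_perm N v _).symm


theorem sum_F {m : ℕ} (hm : m ≤ N) :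
    ∑ v : Fin m → Fin N, F N v = (m.factorial : ℝ) * (N : ℝ) ^ m := by
  apply Complex.ofReal_injective
  push_cast
  rw [← sum_D_mul_conj N hm]
  refine Finset.sum_congr rfl fun v _ => ?_
  rw [F_eq_normSq_D, Complex.mul_conj]

theorem main_sum (n' : ℕ) (hN : n' + 1 ≤ N) :
    ∑ v ∈ (Finset.univ : Finset (Fin (n' + 1) → Fin N)).filter
        (fun v => StrictAnti v ∧ v (Fin.last n') = 0), F N v =
      ((n' + 1 : ℕ) : ℝ) * (N : ℝ) ^ n' := by
  classical
  have h1 := sum_F N hN
  rw [sum_F_cons N n'] at h1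
  have h2 := sum_eq_factorial_mul_sum_strictMono
    (fun u : Fin n' → Fin N => F N (Fin.cons 0 u : Fin (n' + 1) → Fin N))
    (fun u π => by
      change F N (Fin.cons 0 (u ∘ π) : Fin (n' + 1) → Fin N) = _
      rw [cons_comp_perm, F_comp_perm])
    (fun u hu => by
      apply F_eq_zero_of_not_injective
      intro hinj
      apply hu
      intro i j hij
      have : (Fin.cons 0 u : Fin (n' + 1) → Fin N) i.succ =
          (Fin.cons 0 u : Fin (n' + 1) → Fin N) j.succ := by
        rw [Fin.cons_succ, Fin.cons_succ, hij]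
      exact Fin.succ_injective _ (hinj this))
  rw [h2, sum_strictMono_cons N n', ← sum_strictAnti_eq N n'] at h1
  have hN0 : (N : ℝ) ≠ 0 := Nat.cast_ne_zero.mpr (NeZero.ne N)
  have hf0 : (n'.factorial : ℝ) ≠ 0 := Nat.cast_ne_zero.mpr (Nat.factorial_ne_zero n')
  rw [Nat.factorial_succ, pow_succ] at h1
  push_cast at h1 ⊢
  have h3 : (N : ℝ) * (n'.factorial : ℝ) * ∑ v ∈ (Finset.univ : Finset (Fin (n' + 1) → Fin N)).filter
        (fun v => StrictAnti v ∧ v (Fin.last n') = 0), F N v =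
      (N : ℝ) * (n'.factorial : ℝ) * (((n' : ℝ) + 1) * (N : ℝ) ^ n') := by
    rw [mul_assoc, h1]
    ring
  exact mul_left_cancel₀ (mul_ne_zero hN0 hf0) h3

end


/-- Let r, k ≥ 1 be integers. Summing over all integer vectors v with r + k > v_1 > v_2 > ⋯ > v_{r-1} >
v_r = 0, one has Σ_v ∏_{i<j} (2 sin(π (v_i - v_j) / (r + k)))² = r (r + k)^{r-1}; that is, the
genus-zero Verlinde number of rank r and level k with no parabolic points, defined as (r (r +
k)^{r-1})⁻¹ times this sum, equals 1. Indices are 0-based below: v i stands for v_{i+1}. -/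
theorem result (r k : ℕ) (hr : 1 ≤ r) (hk : 1 ≤ k) :
    (∑ v ∈ (Finset.univ : Finset (Fin r → Fin (r + k))).filter
        (fun v : Fin r → Fin (r + k) => StrictAnti v ∧ ∀ i : Fin r, (i : ℕ) = r - 1 → (v i : ℕ) = 0),
      ∏ p ∈ (Finset.univ : Finset (Fin r × Fin r)).filter (fun p => p.1 < p.2),
        ((2 : ℝ) * Real.sin (Real.pi * ((v p.1 : ℕ) - (v p.2 : ℕ) : ℝ) / ((r : ℝ) + k))) ^ 2) =
      (r : ℝ) * ((r : ℝ) + k) ^ (r - 1) := by
  classical
  obtain ⟨n', rfl⟩ : ∃ n', r = n' + 1 := ⟨r - 1, by omega⟩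
  haveI : NeZero (n' + 1 + k) := ⟨by omega⟩
  have hmain := main_sum (n' + 1 + k) n' (by omega)
  have hcast : ((n' + 1 + k : ℕ) : ℝ) = ((n' + 1 : ℕ) : ℝ) + (k : ℝ) := by push_cast; ring
  rw [hcast] at hmain
  rw [Nat.add_sub_cancel, ← hmain]
  refine Finset.sum_congr ?_ fun v _ => ?_
  · refine Finset.filter_congr fun v _ => ?_
    constructor
    · rintro ⟨h1, h2⟩
      refine ⟨h1, ?_⟩
      apply Fin.ext
      rw [h2 (Fin.last n') (by simp)]
      rfl
    · rintro ⟨h1, h2⟩
      refine ⟨h1, fun i hi => ?_⟩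
      have : i = Fin.last n' := Fin.ext (by rw [hi]; simp)
      rw [this, h2]
      rfl
  · unfold F
    refine Finset.prod_congr rfl fun p _ => ?_
    rw [pd_eq_sin, hcast]

end Groth.Agent.S18379
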