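import Groth.Statements.S18377
import Mathlib
import Groth.Agent.S18379

set_option autoImplicit false
open Complex
open VerlindeComb

set_option linter.unusedSectionVars false
open Finset

namespace Groth.Agent.S18377



/-- sums over all tuples of a function vanishing on non-injective tuples, regrouped by the
sorted tuple and a permutation. -/
theorem sum_eq_sum_strictMono_sum_perm {α : Type*} [LinearOrder α] [Fintype α] {m : ℕ}
    {M : Type*} [AddCommMonoid M]
    (H : (Fin m → α) → M)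
    (hinj : ∀ v : Fin m → α, ¬ Function.Injective v → H v = 0) :
    ∑ v : Fin m → α, H v =
      ∑ w ∈ (Finset.univ : Finset (Fin m → α)).filter StrictMono,
        ∑ π : Equiv.Perm (Fin m), H (w ∘ π) := by
  classical
  have h1 : ∑ v : Fin m → α, H v =
      ∑ v ∈ (Finset.univ : Finset (Fin m → α)).filter Function.Injective, H v := by
    rw [Finset.sum_filter]
    refine Finset.sum_congr rfl fun v _ => ?_
    split_ifs with h
    · rfl
    · exact hinj v h
  have h2 : ∑ w ∈ (Finset.univ : Finset (Fin m → α)).filter StrictMono,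
        ∑ π : Equiv.Perm (Fin m), H (w ∘ π) =
      ∑ p ∈ (Finset.univ : Finset (Fin m → α)).filter StrictMono ×ˢ
        (Finset.univ : Finset (Equiv.Perm (Fin m))), H (p.1 ∘ p.2) := by
    rw [Finset.sum_product]
  rw [h1, h2]
  symm
  refine Finset.sum_bij (fun p _ => p.1 ∘ p.2) ?_ ?_ ?_ ?_
  · intro p hp
    simp only [Finset.mem_product, Finset.mem_univ, Finset.mem_filter, true_and, and_true] at hp ⊢
    exact hp.injective.comp p.2.injective
  · rintro ⟨w, π⟩ hp ⟨w', π'⟩ hp' h
    simp only [Finset.mem_product, Finset.mem_univ, Finset.mem_filter, true_and, and_true] at hp hp'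
    simp only at h
    have hr : Set.range w = Set.range w' := by
      have e1 : Set.range (w ∘ π) = Set.range w := π.surjective.range_comp w
      have e2 : Set.range (w' ∘ π') = Set.range w' := π'.surjective.range_comp w'
      rw [← e1, ← e2, h]
    have hw : w = w' := (hp.range_inj hp').mp hr
    subst hw
    have hπ : π = π' := by
      ext i
      have := congrFun h i
      simp only [Function.comp_apply] at this
      rw [hp.injective this]
    rw [hπ]
  · intro v hv
    simp only [Finset.mem_filter, Finset.mem_univ, true_and] at hv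
    refine ⟨(v ∘ Tuple.sort v, (Tuple.sort v)⁻¹), ?_, ?_⟩
    · simp only [Finset.mem_product, Finset.mem_univ, Finset.mem_filter, true_and, and_true]
      exact (Tuple.monotone_sort v).strictMono_of_injective (hv.comp (Tuple.sort v).injective)
    · funext i
      simp
  · intro p _
    rfl

/-- **Cauchy–Binet formula**. -/
theorem cauchy_binet {R : Type*} [CommRing R] {r M : ℕ}
    (A : Matrix (Fin r) (Fin M) R) (B : Matrix (Fin M) (Fin r) R) :
    (A * B).det = ∑ w ∈ (Finset.univ : Finset (Fin r → Fin M)).filter StrictMono,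
      (A.submatrix id w).det * (B.submatrix w id).det := by
  classical
  have h1 : (A * B).det = ∑ f : Fin r → Fin M, (A.submatrix id f).det * ∏ i, B (f i) i := by
    rw [Matrix.det_apply']
    simp_rw [Matrix.mul_apply, Finset.prod_univ_sum, Fintype.piFinset_univ, Finset.mul_sum]
    rw [Finset.sum_comm]
    refine Finset.sum_congr rfl fun f _ => ?_
    rw [Matrix.det_apply', Finset.sum_mul]
    refine Finset.sum_congr rfl fun σ _ => ?_
    rw [Finset.prod_mul_distrib]
    simp only [Matrix.submatrix_apply, id_eq]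
    ring
  rw [h1, sum_eq_sum_strictMono_sum_perm]
  · refine Finset.sum_congr rfl fun w _ => ?_
    rw [Matrix.det_apply' (B.submatrix w id), Finset.mul_sum]
    refine Finset.sum_congr rfl fun π _ => ?_
    have e1 : (A.submatrix id (w ∘ π)) = (A.submatrix id w).submatrix id π := by
      ext i j; rfl
    rw [e1, Matrix.det_permute']
    simp only [Matrix.submatrix_apply, id_eq, Function.comp_apply]
    ring
  · intro f hf
    rw [Function.Injective] at hf
    push Not at hf
    obtain ⟨i, j, hij, hne⟩ := hf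
    rw [Matrix.det_zero_of_column_eq hne, zero_mul]
    intro k
    simp only [Matrix.submatrix_apply, id_eq, hij]



theorem strictMono_add_le {r : ℕ} (w : Fin r → ℕ) (hw : StrictMono w) (i j : Fin r)
    (hij : i ≤ j) : w i + ((j : ℕ) - (i : ℕ)) ≤ w j := by
  obtain ⟨d, hd⟩ : ∃ d, (j : ℕ) = (i : ℕ) + d := ⟨(j : ℕ) - (i : ℕ), by
    have : (i : ℕ) ≤ (j : ℕ) := hij
    omega⟩
  induction d generalizing j with
  | zero =>
    have : i = j := Fin.ext (by omega)
    subst this
    simp
  | succ d ih =>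
    have hj' : (i : ℕ) + d < r := by have := j.isLt; omega
    have h1 := ih ⟨(i : ℕ) + d, hj'⟩ (by simp [Fin.le_def]) (by simp)
    have h2 : w ⟨(i : ℕ) + d, hj'⟩ < w j := hw (by simp [Fin.lt_def]; omega)
    simp only at h1
    omega

theorem sum_antitone_eq_sum_strictMono (r k : ℕ) (hr : 1 ≤ r) (T : (Fin r → ℕ) → ℂ) :
    ∑ μ ∈ (Finset.univ : Finset (Fin r → Fin k)).filter Antitone,
        T (fun i => (μ i : ℕ) + (r - 1 - (i : ℕ))) =
      ∑ w ∈ (Finset.univ : Finset (Fin r → Fin (r + k - 1))).filter StrictMono,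
        T (fun i => (w (Fin.rev i) : ℕ)) := by
  classical
  have hb : ∀ (μ : Fin r → Fin k) (i : Fin r), (μ (Fin.rev i) : ℕ) + (i : ℕ) < r + k - 1 := by
    intro μ i
    have := (μ (Fin.rev i)).isLt
    have := i.isLt
    omega
  refine Finset.sum_bij (fun μ _ => fun i => (⟨(μ (Fin.rev i) : ℕ) + (i : ℕ), hb μ i⟩ : Fin (r + k - 1)))
    ?_ ?_ ?_ ?_
  · intro μ hμ
    simp only [Finset.mem_filter, Finset.mem_univ, true_and] at hμ ⊢
    intro i i' hii'
    rw [Fin.lt_def]
    simp only
    have h1 : μ (Fin.rev i) ≤ μ (Fin.rev i') := hμ (Fin.rev_le_rev.mpr hii'.le)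
    have h2 : (μ (Fin.rev i) : ℕ) ≤ (μ (Fin.rev i') : ℕ) := h1
    have h3 : (i : ℕ) < (i' : ℕ) := hii'
    omega
  · intro μ _ μ' _ h
    funext i
    have := congrFun h (Fin.rev i)
    simp only [Fin.rev_rev, Fin.mk.injEq] at this
    exact Fin.ext (by omega)
  · intro w hw
    simp only [Finset.mem_filter, Finset.mem_univ, true_and] at hw
    have hw' : StrictMono (fun i => (w i : ℕ)) := fun a b hab => hw hab
    have hlast : r - 1 < r := by omega
    have hub : ∀ j : Fin r, (w j : ℕ) + (r - 1 - (j : ℕ)) ≤ r + k - 2 := by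
      intro j
      have h1 := strictMono_add_le _ hw' j ⟨r - 1, hlast⟩ (by
        rw [Fin.le_def]; have := j.isLt; simp only; omega)
      have h2 := (w ⟨r - 1, hlast⟩).isLt
      simp only at h1
      omega
    have hlb : ∀ j : Fin r, (j : ℕ) ≤ (w j : ℕ) := by
      intro j
      have h1 := strictMono_add_le _ hw' ⟨0, by omega⟩ j (by rw [Fin.le_def]; simp)
      simp only at h1
      omega
    have hk : ∀ j : Fin r, (w j : ℕ) - (j : ℕ) < k := by
      intro j
      have := hub j
      have := hlb j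
      have := j.isLt
      omega
    refine ⟨fun i => ⟨(w (Fin.rev i) : ℕ) - ((Fin.rev i : Fin r) : ℕ), hk _⟩, ?_, ?_⟩
    · simp only [Finset.mem_filter, Finset.mem_univ, true_and]
      intro i i' hii'
      rw [Fin.le_def]
      simp only
      have h1 := strictMono_add_le _ hw' (Fin.rev i') (Fin.rev i) (Fin.rev_le_rev.mpr hii')
      have h2 : ((Fin.rev i' : Fin r) : ℕ) ≤ ((Fin.rev i : Fin r) : ℕ) := Fin.rev_le_rev.mpr hii'
      have := hlb (Fin.rev i')
      omega
    · funext i
      apply Fin.ext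
      simp only [Fin.rev_rev]
      have := hlb i
      omega
  · intro μ _
    congr 1
    funext i
    simp only [Fin.rev_rev, Fin.val_rev]
    have := i.isLt
    omega


section
variable {r : ℕ} (N : ℕ) (z : Fin r → ℂ)



/-- generalized Vandermonde determinant -/
noncomputable def gv (e : Fin r → ℕ) : ℂ := (Matrix.of fun i j : Fin r => z j ^ e i).det

variable (hN : N ≠ 0) (hzN : ∀ j, z j ^ N = 1)

include hN hzN in
theorem conj_z (j : Fin r) : (starRingEnd ℂ) (z j) = (z j)⁻¹ :=
  (Complex.inv_eq_conj (Complex.norm_eq_one_of_pow_eq_one (hzN j) hN)).symm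

include hN hzN in
theorem z_ne_zero (j : Fin r) : z j ≠ 0 := by
  intro h
  have := hzN j
  rw [h, zero_pow hN] at this
  exact zero_ne_one this

theorem conj_gv (e : Fin r → ℕ) :
    (starRingEnd ℂ) (gv z e) = (Matrix.of fun i j : Fin r => (starRingEnd ℂ) (z j) ^ e i).det := by
  rw [gv, RingHom.map_det]
  congr 1
  ext i j
  simp

include hN hzN in
theorem gram_entry (hzinj : Function.Injective z) (j j' : Fin r) :
    ∑ l : Fin (N - 1), z j ^ (l : ℕ) * (starRingEnd ℂ) (z j') ^ (l : ℕ) =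
      (if j = j' then (N : ℂ) else 0) - (starRingEnd ℂ) (z j) * z j' := by
  have hz0 := z_ne_zero N z hN hzN
  have hc := conj_z N z hN hzN
  set x : ℂ := z j * (starRingEnd ℂ) (z j') with hx
  have hterm : ∀ l : Fin (N - 1), z j ^ (l : ℕ) * (starRingEnd ℂ) (z j') ^ (l : ℕ) = x ^ (l : ℕ) := by
    intro l; rw [hx, mul_pow]
  simp_rw [hterm]
  rw [Fin.sum_univ_eq_sum_range (fun i => x ^ i) (N - 1)]
  have hN1 : N - 1 + 1 = N := Nat.sub_add_cancel (Nat.one_le_iff_ne_zero.mpr hN)
  have hxN : x ^ N = 1 := by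
    rw [hx, mul_pow, hzN, hc, inv_pow, hzN, inv_one, one_mul]
  have hx0 : x ≠ 0 := by
    rw [hx, hc]; exact mul_ne_zero (hz0 j) (inv_ne_zero (hz0 j'))
  have hxM : x ^ (N - 1) = (starRingEnd ℂ) (z j) * z j' := by
    have h1 : x ^ (N - 1) * x = 1 := by rw [← pow_succ, hN1, hxN]
    have h2 : (starRingEnd ℂ) (z j) * z j' * x = 1 := by
      rw [hx, hc, hc]
      have hj := hz0 j
      have hj' := hz0 j'
      field_simp
    exact mul_right_cancel₀ hx0 (h1.trans h2.symm)
  have hsum : ∑ i ∈ Finset.range (N - 1), x ^ i + x ^ (N - 1) = ∑ i ∈ Finset.range N, x ^ i := by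
    rw [← Finset.sum_range_succ, hN1]
  split_ifs with hjj
  · subst hjj
    have hx1 : x = 1 := by
      rw [hx, hc, mul_inv_cancel₀ (hz0 j)]
    rw [← hxM, hx1]
    simp only [one_pow, Finset.sum_const, Finset.card_range, nsmul_eq_mul, mul_one]
    rw [Nat.cast_sub (Nat.one_le_iff_ne_zero.mpr hN)]
    simp
  · have hx1 : x ≠ 1 := by
      intro h
      apply hjj
      apply hzinj
      rw [hx, hc] at h
      have := hz0 j'
      field_simp at h
      exact h
    have h := geom_sum_mul x N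
    rw [hxN, sub_self] at h
    have h0 : ∑ i ∈ Finset.range N, x ^ i = 0 := by
      rcases mul_eq_zero.mp h with h | h
      · exact h
      · exact absurd (sub_eq_zero.mp h) hx1
    rw [h0] at hsum
    rw [zero_sub, ← hxM]
    exact eq_neg_of_add_eq_zero_left hsum







include hN hzN in
theorem sum_gv_mul_conj (hzinj : Function.Injective z) (hr : 1 ≤ r) :
    ∑ w ∈ (Finset.univ : Finset (Fin r → Fin (N - 1))).filter StrictMono,
      gv z (fun i => (w i : ℕ)) * (starRingEnd ℂ) (gv z (fun i => (w i : ℕ))) =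
      ((N : ℂ) - r) * (N : ℂ) ^ (r - 1) := by
  classical
  have hz0 := z_ne_zero N z hN hzN
  have hc := conj_z N z hN hzN
  let A' : Matrix (Fin r) (Fin (N - 1)) ℂ := Matrix.of fun j l => z j ^ (l : ℕ)
  let B' : Matrix (Fin (N - 1)) (Fin r) ℂ := Matrix.of fun l j => (starRingEnd ℂ) (z j) ^ (l : ℕ)
  have hcb := cauchy_binet A' B'
  have hterm : ∀ w : Fin r → Fin (N - 1),
      (A'.submatrix id w).det * (B'.submatrix w id).det =
        gv z (fun i => (w i : ℕ)) * (starRingEnd ℂ) (gv z (fun i => (w i : ℕ))) := by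
    intro w
    rw [conj_gv, gv, ← Matrix.det_transpose]
    rfl
  simp_rw [hterm] at hcb
  rw [← hcb]
  have hNC : (N : ℂ) ≠ 0 := Nat.cast_ne_zero.mpr hN
  have hG : A' * B' = (N : ℂ) • ((1 : Matrix (Fin r) (Fin r) ℂ) +
      Matrix.replicateCol Unit (fun j => -((starRingEnd ℂ) (z j)) / (N : ℂ)) *
        Matrix.replicateRow Unit z) := by
    ext j j'
    rw [Matrix.mul_apply]
    have := gram_entry N z hN hzN hzinj j j'
    simp only [A', B', Matrix.of_apply]
    rw [this]
    simp only [Matrix.smul_apply, Matrix.add_apply, Matrix.one_apply, Matrix.mul_apply,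
      Matrix.replicateCol_apply, Matrix.replicateRow_apply, Finset.univ_unique,
      Finset.sum_singleton, smul_eq_mul]
    split_ifs <;> field_simp <;> ring
  rw [hG, Matrix.det_smul, Matrix.det_one_add_replicateCol_mul_replicateRow, Fintype.card_fin]
  have hdot : z ⬝ᵥ (fun j => -((starRingEnd ℂ) (z j)) / (N : ℂ)) = -(r : ℂ) / N := by
    simp only [dotProduct]
    have : ∀ j : Fin r, z j * (-((starRingEnd ℂ) (z j)) / (N : ℂ)) = -1 / (N : ℂ) := by
      intro j
      rw [hc]
      have := hz0 j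
      field_simp
    simp_rw [this]
    simp
    ring
  rw [hdot]
  obtain ⟨r', rfl⟩ : ∃ r', r = r' + 1 := ⟨r - 1, by omega⟩
  rw [Nat.add_sub_cancel, pow_succ]
  field_simp
  ring







/-- sign of the reversal permutation, as a complex number -/
noncomputable def eps (r : ℕ) : ℂ := ((Equiv.Perm.sign (Fin.revPerm : Equiv.Perm (Fin r)) : ℤ) : ℂ)

theorem eps_mul_self (r : ℕ) : eps r * eps r = 1 := by
  unfold eps
  rcases Int.units_eq_one_or (Equiv.Perm.sign (Fin.revPerm : Equiv.Perm (Fin r))) with h | h <;>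
    simp [h]

theorem conj_eps (r : ℕ) : (starRingEnd ℂ) (eps r) = eps r := by
  unfold eps
  rw [map_intCast]

theorem gv_comp_rev (e : Fin r → ℕ) : gv z (fun i => e (Fin.rev i)) = eps r * gv z e := by
  rw [gv, gv, eps, ← Matrix.det_permute]
  rfl

theorem gv_add (e : Fin r → ℕ) (c : ℕ) :
    gv z (fun i => e i + c) = (∏ j, z j) ^ c * gv z e := by
  rw [gv, gv, ← Finset.prod_pow, ← Matrix.det_mul_row]
  congr 1
  ext i j
  simp only [Matrix.of_apply]
  rw [pow_add, mul_comm]

include hN hzN in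
theorem gv_compl (e : Fin r → ℕ) (he : ∀ i, e i ≤ N - 1) :
    gv z (fun i => N - 1 - e i) = (∏ j, z j)⁻¹ * (starRingEnd ℂ) (gv z e) := by
  have hz0 := z_ne_zero N z hN hzN
  have hc := conj_z N z hN hzN
  rw [conj_gv, gv, ← Finset.prod_inv_distrib, ← Matrix.det_mul_row]
  congr 1
  ext i j
  simp only [Matrix.of_apply]
  rw [hc, inv_pow]
  have h1 : z j ^ (N - 1 - e i) * z j ^ e i * z j = 1 := by
    rw [← pow_add, ← pow_succ]
    have : N - 1 - e i + e i + 1 = N := by
      have := he i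
      have : 1 ≤ N := Nat.one_le_iff_ne_zero.mpr hN
      omega
    rw [this, hzN]
  have h2 := hz0 j
  have h3 : z j ^ e i ≠ 0 := pow_ne_zero _ h2
  field_simp
  rw [← h1]
  ring







/-- the staircase exponent -/
def dl (r : ℕ) : Fin r → ℕ := fun i => r - 1 - (i : ℕ)

include hN hzN in
theorem gv_compl_rev (e : Fin r → ℕ) (he : ∀ i, e i ≤ N - 1) :
    gv z (fun i => N - 1 - e (Fin.rev i)) =
      (∏ j, z j)⁻¹ * (eps r * (starRingEnd ℂ) (gv z e)) := by
  rw [gv_compl N z hN hzN (fun i => e (Fin.rev i)) (fun i => he _), gv_comp_rev, map_mul, conj_eps]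

include hzN in
theorem prodS (k : ℕ) (hNk : N = r + k) (hN : N ≠ 0) (e : Fin r → ℕ) (he : ∀ i, e i ≤ N - 1) :
    gv z e * gv z (fun i => N - 1 - e (Fin.rev i)) *
        (gv z (dl r) * (starRingEnd ℂ) (gv z (dl r))) =
      (∏ j, z j) ^ k * (gv z e * (starRingEnd ℂ) (gv z e)) * (gv z (dl r) * gv z (dl r)) := by
  have hZ0 : (∏ j, z j) ≠ 0 := Finset.prod_ne_zero_iff.mpr fun j _ => z_ne_zero N z hN hzN j
  have h1 := gv_compl_rev N z hN hzN e he
  have hdl : ∀ i : Fin r, dl r i ≤ N - 1 := by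
    intro i
    have := i.isLt
    simp only [dl]
    omega
  have h2 := gv_compl_rev N z hN hzN (dl r) hdl
  have h3 : (fun i : Fin r => N - 1 - dl r (Fin.rev i)) = fun i => dl r i + k := by
    funext i
    have := i.isLt
    simp only [dl, Fin.val_rev]
    omega
  rw [h3, gv_add] at h2
  set Z := ∏ j, z j
  set a := gv z e
  set d := gv z (dl r)
  have hε := eps_mul_self r
  have hd : (starRingEnd ℂ) d = eps r * Z * (Z ^ k * d) := by
    rw [h2]
    have : eps r * Z * (Z⁻¹ * (eps r * (starRingEnd ℂ) d)) =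
        (eps r * eps r) * (Z * Z⁻¹) * (starRingEnd ℂ) d := by ring
    rw [this, hε, mul_inv_cancel₀ hZ0, one_mul, one_mul]
  rw [h1, hd]
  have : a * (Z⁻¹ * (eps r * (starRingEnd ℂ) a)) * (d * (eps r * Z * (Z ^ k * d))) =
      (eps r * eps r) * (Z⁻¹ * Z) * (Z ^ k * (a * (starRingEnd ℂ) a) * (d * d)) := by ring
  rw [this, hε, inv_mul_cancel₀ hZ0, one_mul, one_mul]


end

theorem main (r k : ℕ) (hr : 1 ≤ r) (hk : 1 ≤ k)
    (v : Fin r → ℕ) (hv : StrictAnti v) (hvlt : ∀ i, v i < r + k)
    (z : Fin r → ℂ) (hz : ∀ j, z j = Complex.exp (2 * Real.pi * Complex.I * (v j : ℂ) / ((r : ℂ) + k)))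
    (S : (Fin r → ℕ) → ℂ)
    (hS : ∀ μ : Fin r → ℕ, S μ =
      (Matrix.of fun i j : Fin r => z j ^ (μ i + (r - 1 - (i : ℕ)))).det /
        (Matrix.of fun i j : Fin r => z j ^ (r - 1 - (i : ℕ))).det) :
    (∑ μ ∈ (Finset.univ : Finset (Fin r → Fin k)).filter (fun μ : Fin r → Fin k => Antitone μ),
        S (fun i => (μ i : ℕ)) * S (fun i => k - (μ (Fin.rev i) : ℕ))) =
      Complex.exp (2 * Real.pi * Complex.I * (k : ℂ) * ((∑ j, v j : ℕ) : ℂ) / ((r : ℂ) + k)) *
        ((k : ℂ) * ((r : ℂ) + k) ^ (r - 1)) /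
        (∏ p ∈ (Finset.univ : Finset (Fin r × Fin r)).filter (fun p => p.1 < p.2),
          (((2 : ℝ) * Real.sin (Real.pi * ((v p.1 : ℝ) - (v p.2 : ℝ)) / ((r : ℝ) + k))) ^ 2 : ℝ) : ℂ) := by
  classical
  have hN : r + k ≠ 0 := by omega
  haveI : NeZero (r + k) := ⟨hN⟩
  set N := r + k with hNdef
  have hNC : ((N : ℕ) : ℂ) = (r : ℂ) + k := by rw [hNdef]; push_cast; ring
  let v' : Fin r → Fin N := fun i => ⟨v i, hvlt i⟩
  have hzv : ∀ j, z j = S18379.zv N (v' j) := by
    intro j
    rw [hz, S18379.zv, S18379.zeta, ← Complex.exp_nat_mul, hNC]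
    congr 1
    simp only [v']
    ring
  have hzN : ∀ j, z j ^ N = 1 := by
    intro j
    rw [hzv, S18379.zv, ← pow_mul, mul_comm, pow_mul, S18379.zeta_pow_N, one_pow]
  have hzinj : Function.Injective z := by
    intro i j hij
    rw [hzv, hzv] at hij
    have h1 := S18379.zv_injective N hij
    have h2 : v i = v j := by
      have := congrArg Fin.val h1
      simpa [v'] using this
    exact hv.injective h2
  -- the denominator
  set d := gv z (dl r) with hd
  have hdV : d = eps r * S18379.D N v' := by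
    have h1 : dl r = fun i : Fin r => (fun i : Fin r => (i : ℕ)) (Fin.rev i) := by
      funext i
      simp only [dl, Fin.val_rev]
      omega
    rw [hd, h1, gv_comp_rev, gv, S18379.D, ← Matrix.det_transpose]
    congr 2
    ext i j
    simp only [Matrix.transpose_apply, Matrix.of_apply, Matrix.vandermonde_apply, hzv]
  have hdd : d * (starRingEnd ℂ) d = ((S18379.F N v' : ℝ) : ℂ) := by
    rw [hdV, map_mul, conj_eps, S18379.F_eq_normSq_D, ← Complex.mul_conj]
    have := eps_mul_self r
    calc eps r * S18379.D N v' * (eps r * (starRingEnd ℂ) (S18379.D N v'))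
        = (eps r * eps r) * (S18379.D N v' * (starRingEnd ℂ) (S18379.D N v')) := by ring
      _ = _ := by rw [this, one_mul]
  have hF0 : S18379.F N v' ≠ 0 := by
    rw [S18379.F_eq_normSq_D, Ne, Complex.normSq_eq_zero, S18379.D,
      Matrix.det_vandermonde_eq_zero_iff]
    rintro ⟨i, j, hij, hne⟩
    rw [← hzv, ← hzv] at hij
    exact hne (hzinj hij)
  have hd0 : d ≠ 0 := by
    intro h0
    rw [h0, zero_mul] at hdd
    exact hF0 (Complex.ofReal_eq_zero.mp hdd.symm)
  have hP : (∏ p ∈ (Finset.univ : Finset (Fin r × Fin r)).filter (fun p => p.1 < p.2),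
      (((2 : ℝ) * Real.sin (Real.pi * ((v p.1 : ℝ) - (v p.2 : ℝ)) / ((r : ℝ) + k))) ^ 2 : ℝ) : ℂ) =
      ((S18379.F N v' : ℝ) : ℂ) := by
    rw [S18379.F, Complex.ofReal_prod]
    refine Finset.prod_congr rfl fun p _ => ?_
    rw [S18379.pd_eq_sin]
    have : ((N : ℕ) : ℝ) = (r : ℝ) + k := by rw [hNdef]; push_cast; ring
    rw [this]
  -- each term
  have hterm : ∀ μ : Fin r → Fin k,
      S (fun i => (μ i : ℕ)) * S (fun i => k - (μ (Fin.rev i) : ℕ)) =
        (∏ j, z j) ^ k / ((S18379.F N v' : ℝ) : ℂ) *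
          (gv z (fun i => (μ i : ℕ) + (r - 1 - (i : ℕ))) *
            (starRingEnd ℂ) (gv z (fun i => (μ i : ℕ) + (r - 1 - (i : ℕ))))) := by
    intro μ
    set e : Fin r → ℕ := fun i => (μ i : ℕ) + (r - 1 - (i : ℕ)) with he
    have hebound : ∀ i, e i ≤ N - 1 := by
      intro i
      have := (μ i).isLt
      have := i.isLt
      simp only [he]
      omega
    have h1 : S (fun i => (μ i : ℕ)) = gv z e / d := by rw [hS]; rfl
    have h2 : S (fun i => k - (μ (Fin.rev i) : ℕ)) = gv z (fun i => N - 1 - e (Fin.rev i)) / d := by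
      rw [hS]
      have : (fun i : Fin r => N - 1 - e (Fin.rev i)) =
          fun i : Fin r => k - (μ (Fin.rev i) : ℕ) + (r - 1 - (i : ℕ)) := by
        funext i
        have := (μ (Fin.rev i)).isLt
        have := i.isLt
        simp only [he, Fin.val_rev]
        omega
      rw [this]
      rfl
    have h3 := prodS N z hzN k hNdef hN e hebound
    rw [← hd, hdd] at h3
    rw [h1, h2]
    have hFC : ((S18379.F N v' : ℝ) : ℂ) ≠ 0 := Complex.ofReal_ne_zero.mpr hF0
    field_simp
    linear_combination h3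
  simp_rw [hterm]
  rw [← Finset.mul_sum]
  rw [sum_antitone_eq_sum_strictMono r k hr
    (fun e => gv z e * (starRingEnd ℂ) (gv z e))]
  have hrev : ∀ w : Fin r → Fin (r + k - 1),
      gv z (fun i => (w (Fin.rev i) : ℕ)) * (starRingEnd ℂ) (gv z (fun i => (w (Fin.rev i) : ℕ))) =
      gv z (fun i => (w i : ℕ)) * (starRingEnd ℂ) (gv z (fun i => (w i : ℕ))) := by
    intro w
    rw [gv_comp_rev z (fun i => (w i : ℕ)), map_mul, conj_eps]
    have := eps_mul_self r
    calc eps r * gv z (fun i => (w i : ℕ)) * (eps r * (starRingEnd ℂ) (gv z fun i => (w i : ℕ)))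
        = (eps r * eps r) * (gv z (fun i => (w i : ℕ)) *
            (starRingEnd ℂ) (gv z fun i => (w i : ℕ))) := by ring
      _ = _ := by rw [this, one_mul]
  simp_rw [hrev]
  rw [sum_gv_mul_conj N z hN hzN hzinj hr, hP]
  have hZ : (∏ j, z j) ^ k =
      Complex.exp (2 * Real.pi * Complex.I * (k : ℂ) * ((∑ j, v j : ℕ) : ℂ) / ((r : ℂ) + k)) := by
    simp_rw [hz]
    rw [← Complex.exp_sum, ← Complex.exp_nat_mul]
    congr 1
    push_cast
    rw [← Finset.sum_div, ← Finset.mul_sum]
    ring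
  rw [hZ, hNC]
  ring


/-- Let r, k ≥ 1 be integers and v_1 > v_2 > ⋯ > v_r ≥ 0 integers below r + k; put z_j = exp(2πi v_j /
(r + k)) and, for μ = (μ_1, …, μ_r), let S_μ(z) = det(z_j^{μ_i + r - i}) / det(z_j^{r - i}) be the
value of the Schur polynomial (the z_j are distinct, so the Vandermonde denominator is nonzero).
Then, summing over all μ with k > μ_1 ≥ ⋯ ≥ μ_r ≥ 0 and writing μ* = (k - μ_r, …, k - μ_1), one has
Σ_μ S_μ(z) S_{μ*}(z) = exp(2πi k (v_1 + ⋯ + v_r) / (r + k)) · k (r + k)^{r-1} / ∏_{i<j} (2 sin(π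
(v_i - v_j) / (r + k)))². Indices are 0-based below: μ i stands for μ_{i+1}. -/
theorem result (r k : ℕ) (hr : 1 ≤ r) (hk : 1 ≤ k)
    (v : Fin r → ℕ) (hv : StrictAnti v) (hvlt : ∀ i, v i < r + k)
    (z : Fin r → ℂ) (hz : ∀ j, z j = Complex.exp (2 * Real.pi * Complex.I * (v j : ℂ) / ((r : ℂ) + k)))
    (S : (Fin r → ℕ) → ℂ)
    (hS : ∀ μ : Fin r → ℕ, S μ =
      (Matrix.of fun i j : Fin r => z j ^ (μ i + (r - 1 - (i : ℕ)))).det /
        (Matrix.of fun i j : Fin r => z j ^ (r - 1 - (i : ℕ))).det) :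
    (∑ μ ∈ (Finset.univ : Finset (Fin r → Fin k)).filter (fun μ : Fin r → Fin k => Antitone μ),
        S (fun i => (μ i : ℕ)) * S (fun i => k - (μ (Fin.rev i) : ℕ))) =
      Complex.exp (2 * Real.pi * Complex.I * (k : ℂ) * ((∑ j, v j : ℕ) : ℂ) / ((r : ℂ) + k)) *
        ((k : ℂ) * ((r : ℂ) + k) ^ (r - 1)) /
        (∏ p ∈ (Finset.univ : Finset (Fin r × Fin r)).filter (fun p => p.1 < p.2),
          (((2 : ℝ) * Real.sin (Real.pi * ((v p.1 : ℝ) - (v p.2 : ℝ)) / ((r : ℝ) + k))) ^ 2 : ℝ) : ℂ) := by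
  exact main r k hr hk v hv hvlt z hz S hS

end Groth.Agent.S18377
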