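import Groth.Statements.S12915
import Mathlib.Algebra.Order.Antidiag.FinsuppEquiv
import Mathlib.LinearAlgebra.Dimension.Free
import Mathlib.LinearAlgebra.Dimension.Constructions
import Mathlib.LinearAlgebra.FiniteDimensional.Lemmas
import Mathlib.LinearAlgebra.Finsupp.Supported

set_option autoImplicit false
universe u
open CAlgX

namespace Groth.Agent.S12915

open MvPolynomial

attribute [local instance] MvPolynomial.gradedAlgebra

/-- the degree-`t` part of `k[x_0,…,x_r]` has dimension `C(t+r, r)`. -/
theorem finrank_homogeneousSubmodule (k : Type u) [Field k] (r t : ℕ) :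
    Module.finrank k (MvPolynomial.homogeneousSubmodule (Fin (r + 1)) k t) =
      Nat.choose (t + r) r := by
  classical
  rw [MvPolynomial.homogeneousSubmodule_eq_finsupp_supported]
  have hset : {d : Fin (r + 1) →₀ ℕ | d.degree = t} =
      ((Finset.univ : Finset (Fin (r + 1))).finsuppAntidiag t : Set (Fin (r + 1) →₀ ℕ)) := by
    ext d
    simp [Finset.mem_finsuppAntidiag, Finsupp.degree_eq_sum]
  rw [hset]
  rw [(AddMonoidAlgebra.supportedEquivFinsupp (R := k) (S := k)
    (((Finset.univ : Finset (Fin (r + 1))).finsuppAntidiag t : Set (Fin (r + 1) →₀ ℕ)))).finrank_eq]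
  rw [Module.finrank_finsupp_self]
  simp only [Finset.coe_sort_coe, Fintype.card_coe]
  rw [Finset.card_finsuppAntidiag_nat_eq_choose, Finset.card_univ, Fintype.card_fin]
  have : r + 1 + t - 1 = t + r := by omega
  rw [this, Nat.choose_symm_add]

theorem homogeneousComponent_mul_left {k : Type u} [Field k] {σ : Type*} {f : MvPolynomial σ k}
    {m : ℕ} (hf : f.IsHomogeneous m) (g : MvPolynomial σ k) (j : ℕ) :
    MvPolynomial.homogeneousComponent (m + j) (f * g) =
      f * MvPolynomial.homogeneousComponent j g := by
  classical
  have h := DirectSum.coe_decompose_mul_add_of_left_mem (MvPolynomial.homogeneousSubmodule σ k)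
    (i := m) (j := j) (a := f) (b := g) ((MvPolynomial.mem_homogeneousSubmodule m f).mpr hf)
  have e1 : ∀ (φ : MvPolynomial σ k) (i : ℕ),
      (DirectSum.decompose (MvPolynomial.homogeneousSubmodule σ k) φ i : MvPolynomial σ k) =
        MvPolynomial.homogeneousComponent i φ :=
    fun φ i => MvPolynomial.decomposition.decompose'_apply φ i
  rw [e1, e1] at h
  exact h

/-- Let k be a field, S = k[x_0, …, x_r], and f a nonzero homogeneous polynomial of degree m. For every
t ≥ m the image in S/(f) of the homogeneous polynomials of degree t is a k-vector space of dimension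
C(t + r, r) - C(t + r - m, r). (The published clause states that the hypersurface f = 0 in P^r has
degree m; its proof computes exactly this Hilbert function, whose polynomial has leading term m
t^(r-1)/(r-1)!, and that computation is what is stated here.) -/
theorem result (k : Type u) [Field k] (r m : ℕ)
    (f : MvPolynomial (Fin (r + 1)) k) (hf : f.IsHomogeneous m) (hf0 : f ≠ 0) (t : ℕ) (ht : m ≤ t) :
    Module.finrank k
        (Submodule.map ((Ideal.Quotient.mkₐ k (Ideal.span {f})).toLinearMap)
          (MvPolynomial.homogeneousSubmodule (Fin (r + 1)) k t)) =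
      Nat.choose (t + r) r - Nat.choose (t + r - m) r := by
  classical
  set V : ℕ → Submodule k (MvPolynomial (Fin (r + 1)) k) :=
    fun j => MvPolynomial.homogeneousSubmodule (Fin (r + 1)) k j with hV
  set π : MvPolynomial (Fin (r + 1)) k →ₗ[k] (MvPolynomial (Fin (r + 1)) k ⧸ Ideal.span {f}) :=
    (Ideal.Quotient.mkₐ k (Ideal.span {f})).toLinearMap
  have hfin : ∀ j, Module.Finite k (V j) := by
    intro j
    exact Module.Finite.iff_fg.mpr (MvPolynomial.homogeneousSubmodule_fg _ _ j)
  have := hfin t
  -- rank–nullity for `π` restricted to `V t`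
  have hrn := LinearMap.finrank_range_add_finrank_ker (π.domRestrict (V t))
  rw [LinearMap.range_domRestrict] at hrn
  -- the kernel is `f • V (t - m)`
  let μ : V (t - m) →ₗ[k] V t :=
    { toFun := fun g => ⟨f * g.1, by
        have h1 : (f * g.1).IsHomogeneous (m + (t - m)) :=
          hf.mul ((MvPolynomial.mem_homogeneousSubmodule _ _).mp g.2)
        rw [Nat.add_sub_cancel' ht] at h1
        exact (MvPolynomial.mem_homogeneousSubmodule _ _).mpr h1⟩
      map_add' := fun a b => by
        apply Subtype.ext
        simp [mul_add]
      map_smul' := fun c a => by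
        apply Subtype.ext
        simp }
  have hμinj : Function.Injective μ := by
    intro a b hab
    have : f * a.1 = f * b.1 := congrArg Subtype.val hab
    exact Subtype.ext (mul_left_cancel₀ hf0 this)
  have hμrange : LinearMap.range μ = LinearMap.ker (π.domRestrict (V t)) := by
    ext x
    rw [LinearMap.mem_ker, LinearMap.mem_range]
    constructor
    · rintro ⟨g, rfl⟩
      change Ideal.Quotient.mk (Ideal.span {f}) (f * g.1) = 0
      rw [Ideal.Quotient.eq_zero_iff_mem]
      exact Ideal.mul_mem_right _ _ (Ideal.subset_span rfl)
    · intro hx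
      have hx' : Ideal.Quotient.mk (Ideal.span {f}) x.1 = 0 := hx
      rw [Ideal.Quotient.eq_zero_iff_mem, Ideal.mem_span_singleton] at hx'
      obtain ⟨g, hg⟩ := hx'
      have hxhom : x.1.IsHomogeneous t := (MvPolynomial.mem_homogeneousSubmodule _ _).mp x.2
      refine ⟨⟨MvPolynomial.homogeneousComponent (t - m) g,
        MvPolynomial.homogeneousComponent_mem _ _⟩, ?_⟩
      apply Subtype.ext
      change f * MvPolynomial.homogeneousComponent (t - m) g = x.1
      rw [← homogeneousComponent_mul_left hf, Nat.add_sub_cancel' ht, ← hg]
      exact MvPolynomial.homogeneousComponent_of_mem ((MvPolynomial.mem_homogeneousSubmodule _ _).mpr hxhom)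
        |>.trans (if_pos rfl)
  have hker : Module.finrank k (LinearMap.ker (π.domRestrict (V t))) =
      Nat.choose (t + r - m) r := by
    rw [← hμrange, LinearMap.finrank_range_of_inj hμinj, hV, finrank_homogeneousSubmodule]
    congr 1
    omega
  rw [hker] at hrn
  have h3 : Module.finrank k (V t) = Nat.choose (t + r) r := finrank_homogeneousSubmodule k r t
  rw [h3] at hrn
  change Module.finrank k (Submodule.map π (V t)) = _
  omega

end Groth.Agent.S12915
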