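import Groth.Statements.S16515
import Mathlib.Tactic
import Mathlib.LinearAlgebra.FiniteDimensional.Lemmas
import Mathlib.LinearAlgebra.Dimension.Constructions

set_option autoImplicit false
universe u
open RatCurv

namespace Groth.Agent.S16515

open MvPolynomial Module

variable (K : Type u) [Field K]

/-- exponent vector of `x₀^j x₁^(d-j)` -/
noncomputable def ex (d j : ℕ) : Fin 2 →₀ ℕ := Finsupp.single 0 j + Finsupp.single 1 (d - j)

theorem ex_zero (d j : ℕ) : ex d j 0 = j := by simp [ex]

theorem ex_degree (d j : ℕ) (hj : j ≤ d) : (ex d j).degree = d := by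
  rw [ex, map_add, Finsupp.degree_single, Finsupp.degree_single]; omega

theorem eq_ex (d : ℕ) (m : Fin 2 →₀ ℕ) (hm : m.degree = d) : m = ex d (m 0) := by
  rw [Finsupp.degree_eq_sum, Fin.sum_univ_two] at hm
  ext i
  fin_cases i
  · simp [ex]
  · simp [ex]; omega

/-- the monomial `x₀^j x₁^(d-j)` -/
noncomputable def mon (d j : ℕ) : MvPolynomial (Fin 2) K := monomial (ex d j) 1

theorem mon_mem (d j : ℕ) (hj : j ≤ d) : mon K d j ∈ homogeneousSubmodule (Fin 2) K d :=
  (mem_homogeneousSubmodule _ _).mpr (isHomogeneous_monomial _ (ex_degree d j hj))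

theorem mem_span_mon (d : ℕ) (p : MvPolynomial (Fin 2) K)
    (hp : p ∈ homogeneousSubmodule (Fin 2) K d) :
    p ∈ Submodule.span K (Set.range fun j : Fin (d + 1) => mon K d j) := by
  rw [mem_homogeneousSubmodule] at hp
  rw [← support_sum_monomial_coeff p]
  apply Submodule.sum_mem
  intro m hm
  have hdeg : m.degree = d := by
    by_contra h
    exact (mem_support_iff.mp hm) (hp.coeff_eq_zero h)
  have h0 : m 0 ≤ d := by
    have := hdeg
    rw [Finsupp.degree_eq_sum, Fin.sum_univ_two] at this; omega
  have : monomial m (coeff m p) = coeff m p • mon K d (m 0) := by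
    rw [mon, ← eq_ex d m hdeg, smul_monomial, smul_eq_mul, mul_one]
  rw [this]
  apply Submodule.smul_mem
  apply Submodule.subset_span
  exact ⟨⟨m 0, by omega⟩, rfl⟩

theorem finite_homog (d : ℕ) : Module.Finite K ↥(homogeneousSubmodule (Fin 2) K d) := by
  have : homogeneousSubmodule (Fin 2) K d =
      Submodule.span K (Set.range fun j : Fin (d + 1) => mon K d j) := by
    apply le_antisymm
    · intro p hp; exact mem_span_mon K d p hp
    · rw [Submodule.span_le]
      rintro _ ⟨j, rfl⟩
      exact mon_mem K d j (by omega)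
  rw [Module.Finite.iff_fg, this]
  exact Submodule.fg_span (Set.finite_range _)

theorem finrank_homog_le (d : ℕ) : finrank K ↥(homogeneousSubmodule (Fin 2) K d) ≤ d + 1 := by
  have : homogeneousSubmodule (Fin 2) K d =
      Submodule.span K (Set.range fun j : Fin (d + 1) => mon K d j) := by
    apply le_antisymm
    · intro p hp; exact mem_span_mon K d p hp
    · rw [Submodule.span_le]
      rintro _ ⟨j, rfl⟩
      exact mon_mem K d j (by omega)
  rw [this]
  have := finrank_range_le_card (R := K) (fun j : Fin (d + 1) => mon K d j)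
  rw [Fintype.card_fin] at this
  exact this

/-- the linear map `c ↦ ∑ c_j x₀^j x₁^(d-j)` -/
noncomputable def G (d : ℕ) : (Fin (d + 1) → K) →ₗ[K] MvPolynomial (Fin 2) K :=
  Fintype.linearCombination K (fun j : Fin (d + 1) => mon K d j)

theorem G_apply (d : ℕ) (c : Fin (d + 1) → K) : G K d c = ∑ j, c j • mon K d j := by
  rw [G, Fintype.linearCombination_apply]

theorem G_mem (d : ℕ) (c : Fin (d + 1) → K) : G K d c ∈ homogeneousSubmodule (Fin 2) K d := by
  rw [G_apply]
  apply Submodule.sum_mem
  intro j _
  exact Submodule.smul_mem _ _ (mon_mem K d j (by omega))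

theorem G_injective (d : ℕ) : Function.Injective (G K d) := by
  rw [injective_iff_map_eq_zero]
  intro c hc
  funext i
  have := congrArg (coeff (ex d i)) hc
  rw [G_apply, coeff_sum, coeff_zero] at this
  rw [Finset.sum_eq_single i] at this
  · simpa [mon, coeff_monomial] using this
  · intro j _ hji
    rw [coeff_smul, mon, coeff_monomial, if_neg, smul_zero]
    intro h
    apply hji
    have := congrArg (fun m : Fin 2 →₀ ℕ => m 0) h
    simp only [ex_zero] at this
    exact Fin.ext this
  · intro h; exact absurd (Finset.mem_univ i) h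

/-- If C ⊂ P^n is a rational normal curve and P ⊂ P^n a linear r-plane with (r + 2) k ≥ (r + 1)(n + 1),
then P is contained in a k-secant (k − 1)-plane of C, i.e. in the span of some effective divisor of
degree k on C. Stated through the identification of the linear forms on P^n with the binary forms of
degree n on C ≅ P^1: the r-plane P is recorded by the space U of degree-n binary forms vanishing on
it (of codimension r + 1), an effective divisor of degree k on C by a nonzero binary form g of
degree k, and P ⊂ span(div g) says that every degree-n form divisible by g lies in U. Here k ≤ n,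
and the ground field is arbitrary (the source works over the complex numbers). -/
theorem result (K : Type u) [Field K] (n r k : ℕ)
    (hkn : k ≤ n) (hineq : (r + 1) * (n + 1) ≤ (r + 2) * k)
    (U : Submodule K (MvPolynomial (Fin 2) K))
    (hU : U ≤ MvPolynomial.homogeneousSubmodule (Fin 2) K n)
    (hcodim : Module.finrank K ↥U + (r + 1) = n + 1) :
    ∃ g ∈ MvPolynomial.homogeneousSubmodule (Fin 2) K k, g ≠ 0 ∧
      ∀ h ∈ MvPolynomial.homogeneousSubmodule (Fin 2) K (n - k), g * h ∈ U := by
  classical
  set S := homogeneousSubmodule (Fin 2) K n with hS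
  have : Module.Finite K ↥S := finite_homog K n
  set U' : Submodule K ↥S := U.comap S.subtype with hU'
  -- the linear maps
  have hmem : ∀ (j : Fin (n - k + 1)) (c : Fin (k + 1) → K),
      (LinearMap.mulRight K (mon K (n - k) j) ∘ₗ G K k) c ∈ S := by
    intro j c
    show G K k c * mon K (n - k) j ∈ S
    have h1 := (mem_homogeneousSubmodule _ _).mp (G_mem K k c)
    have h2 := (mem_homogeneousSubmodule _ _).mp (mon_mem K (n - k) j (by omega))
    have := h1.mul h2
    rw [show k + (n - k) = n by omega] at this
    exact (mem_homogeneousSubmodule _ _).mpr this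
  let L : Fin (n - k + 1) → ((Fin (k + 1) → K) →ₗ[K] ↥S) := fun j =>
    LinearMap.codRestrict S (LinearMap.mulRight K (mon K (n - k) j) ∘ₗ G K k) (hmem j)
  let Ψ : (Fin (k + 1) → K) →ₗ[K] (Fin (n - k + 1) → (↥S ⧸ U')) :=
    LinearMap.pi fun j => U'.mkQ ∘ₗ L j
  -- dimensions
  have hq : finrank K (↥S ⧸ U') ≤ r + 1 := by
    have h1 := Submodule.finrank_quotient_add_finrank U'
    have h2 : finrank K ↥U' = finrank K ↥U :=
      (Submodule.comapSubtypeEquivOfLe hU).finrank_eq
    have h3 := finrank_homog_le K n
    rw [← hS] at h3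
    omega
  have hfree : Module.Free K (↥S ⧸ U') := Module.Free.of_divisionRing K _
  have hlt : finrank K (Fin (n - k + 1) → (↥S ⧸ U')) < finrank K (Fin (k + 1) → K) := by
    rw [Module.finrank_pi_fintype, Module.finrank_fin_fun, Finset.sum_const, Finset.card_univ,
      Fintype.card_fin, smul_eq_mul]
    have h1 : (n - k + 1) * finrank K (↥S ⧸ U') ≤ (n - k + 1) * (r + 1) :=
      Nat.mul_le_mul_left _ hq
    have h2 : (r + 1) * (n - k + 1) + (r + 1) * k = (r + 1) * (n + 1) := by
      rw [← Nat.mul_add]; congr 1; omega
    have h3 : (r + 2) * k = (r + 1) * k + k := by ring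
    nlinarith
  have hker := LinearMap.ker_ne_bot_of_finrank_lt (f := Ψ) hlt
  obtain ⟨c, hcker, hc0⟩ := Submodule.exists_mem_ne_zero_of_ne_bot hker
  rw [LinearMap.mem_ker] at hcker
  refine ⟨G K k c, G_mem K k c, ?_, ?_⟩
  · intro h
    exact hc0 (G_injective K k (by rw [h, map_zero]))
  · intro h hh
    have hgen : ∀ j : Fin (n - k + 1), G K k c * mon K (n - k) j ∈ U := by
      intro j
      have := congrFun hcker j
      simp only [Ψ, LinearMap.pi_apply, LinearMap.comp_apply, Pi.zero_apply,
        Submodule.mkQ_apply, Submodule.Quotient.mk_eq_zero] at this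
      exact this
    have hspan := mem_span_mon K (n - k) h hh
    have : h ∈ U.comap (LinearMap.mulLeft K (G K k c)) := by
      refine (Submodule.span_le (p := U.comap (LinearMap.mulLeft K (G K k c)))).mpr ?_ hspan
      rintro _ ⟨j, rfl⟩
      exact hgen j
    exact this

end Groth.Agent.S16515
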