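import Groth.Statements.S18749
import Groth.Agent.Lib.Helper93.ModPairAmbProd

set_option autoImplicit false
universe u
open CategoryTheory CategoryTheory.Limits AlgebraicGeometry TopologicalSpace
open ModPair

namespace Groth.Agent.S18749

/-- Let (S, I_S), (T, J), (X, I) be schemes with quasi-coherent ideal sheaves of effective Cartier
divisors and f : X ⟶ S, g : T ⟶ S morphisms satisfying the modulus condition. Let Y₀ be the
scheme-theoretic image of pr₁⁻¹(X°) ∩ pr₂⁻¹(T°) in X ×_S T, let π : Y ⟶ Y₀ be a blowing up of Y₀ in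
the sum of the two ideal sheaves I, J pulled back to Y₀ (the intersection of the two pulled-back
divisors), and let K be an ideal sheaf on Y whose product with the exceptional ideal is the product
of the pull-backs of I and J to Y. Then K is the ideal sheaf of an effective Cartier divisor (the
divisor D_X + D_T − E), the projections Y ⟶ X and Y ⟶ T satisfy the modulus condition with respect
to K, and the interior of (Y, K) is the preimage of pr₁⁻¹(X°) ∩ pr₂⁻¹(T°). -/
theorem result {S T X Y : Scheme.{u}} (IS : S.IdealSheafData)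
    (J : T.IdealSheafData) (I : X.IdealSheafData) (hS : BlowUp.IsEffCartierIdeal IS)
    (hT : BlowUp.IsEffCartierIdeal J) (hX : BlowUp.IsEffCartierIdeal I)
    (f : X ⟶ S) (hf : ModPair.IsAmbient I IS f) (g : T ⟶ S) (hg : ModPair.IsAmbient J IS g)
    (π : Y ⟶ ModPair.mprod f g I J) (K : Y.IdealSheafData) (hY : ModPair.IsAmbProd f g I J π K) :
    BlowUp.IsEffCartierIdeal K ∧
      ModPair.IsAmbient K I (π ≫ ModPair.mprodι f g I J ≫ pullback.fst f g) ∧
      ModPair.IsAmbient K J (π ≫ ModPair.mprodι f g I J ≫ pullback.snd f g) ∧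
      ModPair.interior K = (π ≫ ModPair.mprodι f g I J) ⁻¹ᵁ ModPair.prodInterior f g I J := by
  obtain ⟨hblow, hK⟩ := hY
  -- notation
  set A := I.comap (ModPair.mprodι f g I J ≫ pullback.fst f g) with hAdef
  set B := J.comap (ModPair.mprodι f g I J ≫ pullback.snd f g) with hBdef
  have hA : BlowUp.IsEffCartierIdeal A :=
    Groth.Agent.Lib.Helper93.ModPairAmbProd.isEffCartierIdeal_comap_mprodι_fst I J hX hT f g
  have hB : BlowUp.IsEffCartierIdeal B :=
    Groth.Agent.Lib.Helper93.ModPairAmbProd.isEffCartierIdeal_comap_mprodι_snd I J hX hT f g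
  have hC : ModPair.prodCentre f g I J = A ⊔ B := rfl
  have hA' : BlowUp.IsEffCartierIdeal (A.comap π) :=
    Groth.Agent.H8.EffCartier.isEffCartierIdeal_comap_of_isBlowUp _ A π hblow hA
  have hB' : BlowUp.IsEffCartierIdeal (B.comap π) :=
    Groth.Agent.H8.EffCartier.isEffCartierIdeal_comap_of_isBlowUp _ B π hblow hB
  have hE : BlowUp.IsEffCartierIdeal ((ModPair.prodCentre f g I J).comap π) := hblow.1
  have hEsup : (ModPair.prodCentre f g I J).comap π = A.comap π ⊔ B.comap π := by
    rw [hC, Scheme.IdealSheafData.comap_sup]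
  have hKeff : BlowUp.IsEffCartierIdeal K := by
    have h1 : BlowUp.IsEffCartierIdeal (K * (ModPair.prodCentre f g I J).comap π) := by
      rw [hK]
      exact Groth.Agent.H8.EffCartier.isEffCartierIdeal_mul _ _ hA' hB'
    exact (Groth.Agent.H8.EffCartier.isEffCartierIdeal_of_mul _ _ h1).1
  have hKA : K ≤ A.comap π := by
    apply Groth.Agent.Lib.Helper93.ModPairAmbProd.le_of_mul_le_mul_of_isEffCartierIdeal _ hE
    rw [hK]
    apply mul_le_mul_right
    rw [hEsup]
    exact le_sup_right
  have hKB : K ≤ B.comap π := by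
    apply Groth.Agent.Lib.Helper93.ModPairAmbProd.le_of_mul_le_mul_of_isEffCartierIdeal _ hE
    rw [hK, mul_comm]
    apply mul_le_mul_right
    rw [hEsup]
    exact le_sup_left
  refine ⟨hKeff, ?_, ?_, ?_⟩
  · change K ≤ _
    rw [Scheme.IdealSheafData.comap_comp]
    exact hKA
  · change K ≤ _
    rw [Scheme.IdealSheafData.comap_comp]
    exact hKB
  · ext y
    have hsuppA : y ∈ (A.comap π).support ↔
        pullback.fst f g (ModPair.mprodι f g I J (π y)) ∈ I.support := by
      rw [hAdef, ← Scheme.IdealSheafData.comap_comp, Scheme.IdealSheafData.support_comap]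
      rfl
    have hsuppB : y ∈ (B.comap π).support ↔
        pullback.snd f g (ModPair.mprodι f g I J (π y)) ∈ J.support := by
      rw [hBdef, ← Scheme.IdealSheafData.comap_comp, Scheme.IdealSheafData.support_comap]
      rfl
    constructor
    · intro hy
      have hy1 : y ∉ K.support := hy
      have hyA : y ∉ (A.comap π).support :=
        fun h => hy1 (Scheme.IdealSheafData.support_antitone hKA h)
      have hyB : y ∉ (B.comap π).support :=
        fun h => hy1 (Scheme.IdealSheafData.support_antitone hKB h)
      exact ⟨fun h => hyA (hsuppA.mpr h), fun h => hyB (hsuppB.mpr h)⟩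
    · rintro ⟨h1, h2⟩
      change y ∉ K.support
      intro hy
      have h3 : y ∈ (K * (ModPair.prodCentre f g I J).comap π).support := by
        rw [Scheme.IdealSheafData.support_mul]
        exact Or.inl hy
      rw [hK, Scheme.IdealSheafData.support_mul] at h3
      rcases h3 with h3 | h3
      · exact h1 (hsuppA.mp h3)
      · exact h2 (hsuppB.mp h3)

end Groth.Agent.S18749
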