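import Groth.Statements.S4991
import Mathlib
import Groth.Agent.S2156
import Groth.Agent.S1563
import Groth.Agent.Lib.Helper24.SmoothRationalPoint
import Groth.Agent.Lib.Helper47.RegularLocalFlat2
import Groth.Agent.Lib.Helper49.FiberStalk

set_option autoImplicit false
universe u
open CategoryTheory CategoryTheory.Limits AlgebraicGeometry TopologicalSpace
open Unram17

namespace Groth.Agent.S4991

/-- Let Y be locally Noetherian and f : X ⟶ Y locally of finite type, smooth on an open neighbourhood of
a point x with image y. Then the local ring of X at x is regular if and only if the local ring of Y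
at y is regular. -/
theorem result {X Y : Scheme.{u}} (f : X ⟶ Y)
    [IsLocallyNoetherian Y] [LocallyOfFiniteType f] (x : ↥X)
    (hx : ∃ U : X.Opens, x ∈ U ∧ Smooth (U.ι ≫ f)) :
    IsRegularLocalRing ↑(X.presheaf.stalk x) ↔ IsRegularLocalRing ↑(Y.presheaf.stalk (f.base x)) := by
  open AlgebraicGeometry CategoryTheory Limits Groth.Agent.Lib.Helper24 in
  have hlfp : LocallyOfFinitePresentation f := inferInstance
  have hxs : x ∈ f.smoothLocus :=
    (Groth.Agent.Lib.Helper14.exists_smooth_nhd_iff_mem_smoothLocus f x).mp hx
  have hlfpX : LocallyOfFinitePresentation (f.fiberToSpecResidueField (f.base x)) :=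
    inferInstanceAs (LocallyOfFinitePresentation
      (pullback.snd f (Y.fromSpecResidueField (f.base x))))
  obtain ⟨hflat, hsm⟩ := (Groth.Agent.S2156.result f x).mp hxs
  constructor
  · intro hreg
    exact Groth.Agent.S1563.isRegularLocalRing_of_flat_local (f.stalkMap x).hom hflat
  · intro hreg
    have hXN : IsLocallyNoetherian X := LocallyOfFiniteType.isLocallyNoetherian f
    -- the stalk of the fibre is regular
    have h1 : IsRegularLocalRing ((f.fiber (f.base x)).presheaf.stalk (f.asFiber x)) :=
      isRegularLocalRing_stalk_of_mem_smoothLocus (Y.residueField (f.base x))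
        (f.fiberToSpecResidueField (f.base x)) (f.asFiber x) hsm
    -- transport along `fiberι (asFiber x) = x`
    have key : ∀ (x₁ : X) (hx₁ : (f.fiberι (f.base x)).base (f.asFiber x) = x₁),
        IsRegularLocalRing (Y.presheaf.stalk (f.base x₁)) → (f.stalkMap x₁).hom.Flat →
        IsRegularLocalRing (X.presheaf.stalk x₁) := by
      rintro _ rfl hregY hfl
      algebraize [(f.stalkMap ((f.fiberι (f.base x)).base (f.asFiber x))).hom]
      have : IsLocalHom (algebraMap (Y.presheaf.stalk
          (f.base ((f.fiberι (f.base x)).base (f.asFiber x))))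
          (X.presheaf.stalk ((f.fiberι (f.base x)).base (f.asFiber x)))) :=
        inferInstanceAs (IsLocalHom (f.stalkMap ((f.fiberι (f.base x)).base (f.asFiber x))).hom)
      have : Module.Flat (Y.presheaf.stalk (f.base ((f.fiberι (f.base x)).base (f.asFiber x))))
          (X.presheaf.stalk ((f.fiberι (f.base x)).base (f.asFiber x))) := hfl
      refine Groth.Agent.Lib.Helper47.isRegularLocalRing_of_flat_of_isRegularLocalRing_quotient
        (A := Y.presheaf.stalk (f.base ((f.fiberι (f.base x)).base (f.asFiber x)))) ?_
      have hker : RingHom.ker ((f.fiberι (f.base x)).stalkMap (f.asFiber x)).hom =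
          Ideal.map (f.stalkMap ((f.fiberι (f.base x)).base (f.asFiber x))).hom
            (IsLocalRing.maximalIdeal (Y.presheaf.stalk
              (f.base ((f.fiberι (f.base x)).base (f.asFiber x))))) :=
        le_antisymm (Groth.Agent.Lib.Helper49.ker_le_map f (f.base x) (f.asFiber x))
          (Groth.Agent.Lib.Helper49.map_le_ker f (f.base x) (f.asFiber x))
      have hsurj : Function.Surjective ((f.fiberι (f.base x)).stalkMap (f.asFiber x)).hom :=
        (f.fiberι (f.base x)).stalkMap_surjective (f.asFiber x)
      let e := RingHom.quotientKerEquivOfSurjective hsurj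
      have h2 : IsRegularLocalRing (X.presheaf.stalk ((f.fiberι (f.base x)).base (f.asFiber x)) ⧸
          RingHom.ker ((f.fiberι (f.base x)).stalkMap (f.asFiber x)).hom) :=
        IsRegularLocalRing.of_ringEquiv e.symm
      rw [hker] at h2
      exact h2
    exact key x (f.fiberι_asFiber x) hreg hflat

end Groth.Agent.S4991
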