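import Groth.Statements.S0455
import Groth.Agent.Lib.Lead.CechSES
import Groth.Agent.S0454

set_option autoImplicit false
universe u
open CohTop

namespace Groth.Agent.S0455

open TopologicalSpace CategoryTheory.Limits in
/-- If F is a flasque abelian sheaf on X, then for any family of opens the Cech cohomology groups of F
in positive degree are zero. -/
theorem result {X : TopCat.{u}} (F : CohTop.Ab X) [TopCat.Sheaf.IsFlasque F]
    {ι : Type u} (U : ι → Opens X) (p : ℕ) : IsZero (CohTop.cechH F.obj U (p + 1)) := by
  open Groth.Agent.Lib.Lead CategoryTheory Opposite in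
  have key : ∀ (p : ℕ) (G : CohTop.Ab X), TopCat.Sheaf.IsFlasque G →
      IsZero (CohTop.cechH G.obj U (p + 1)) := by
    intro p
    induction p with
    | zero =>
      intro G hG
      let S : ShortComplex (CohTop.Ab X) :=
        ShortComplex.mk (Injective.ι G) (cokernel.π (Injective.ι G)) (cokernel.condition _)
      have hS : S.ShortExact :=
        { exact := ShortComplex.exact_of_g_is_cokernel _ (cokernelIsCokernel S.f) }
      haveI hI : Injective S.X₂ := inferInstanceAs (Injective (Injective.under G))
      haveI hG' : TopCat.Sheaf.IsFlasque S.X₁ := hG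
      refine cech_h1_of_surjective U S hS ?_ (isZero_cechH_of_injective S.X₂ U 0)
      have := TopCat.Sheaf.IsFlasque.epi_of_shortExact (U := iSup U) hS
      exact (AddCommGrpCat.epi_iff_surjective _).1 this
    | succ n ih =>
      intro G hG
      let S : ShortComplex (CohTop.Ab X) :=
        ShortComplex.mk (Injective.ι G) (cokernel.π (Injective.ι G)) (cokernel.condition _)
      have hS : S.ShortExact :=
        { exact := ShortComplex.exact_of_g_is_cokernel _ (cokernelIsCokernel S.f) }
      haveI hI : Injective S.X₂ := inferInstanceAs (Injective (Injective.under G))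
      haveI hG' : TopCat.Sheaf.IsFlasque S.X₁ := hG
      haveI hI' : TopCat.Sheaf.IsFlasque S.X₂ := Groth.Agent.S0454.result S.X₂
      have hQ : TopCat.Sheaf.IsFlasque S.X₃ :=
        TopCat.Sheaf.IsFlasque.of_shortExact_of_isFlasque₁₂ hS
      refine cech_shift_down U S hS n ?_ (ih S.X₃ hQ) (isZero_cechH_of_injective S.X₂ U (n + 1))
      intro x
      have := TopCat.Sheaf.IsFlasque.epi_of_shortExact (U := cechOpen U x) hS
      exact (AddCommGrpCat.epi_iff_surjective _).1 this
  exact key p F inferInstance

end Groth.Agent.S0455
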