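import Groth.Statements.S8914
import Groth.Agent.Lib.Helper45.IdealModSections

set_option autoImplicit false
universe u
open CategoryTheory CategoryTheory.Limits AlgebraicGeometry TopologicalSpace
open SDiv

namespace Groth.Agent.S8914

open AlgebraicGeometry CategoryTheory Groth.Agent.Lib.Helper45

/-- Let S be a scheme and D ⊆ S a closed subscheme with quasi-coherent ideal sheaf 𝓘. Then the ideal
sheaf of D is an invertible O_S-module (that is, D is an effective Cartier divisor) if and only if
every point has an affine open neighbourhood Spec A in S with D ∩ Spec A = Spec A/(f) for a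
nonzerodivisor f ∈ A. -/
theorem result {S : Scheme.{u}} (𝓘 : S.IdealSheafData) :
    PicF.IsInvertible (ClSub.idealMod 𝓘) ↔ BlowUp.IsEffCartierIdeal 𝓘 := by
  constructor
  · -- invertible ⇒ effective Cartier
    intro hinv x
    obtain ⟨U, hxU, ⟨φ⟩⟩ := hinv x
    obtain ⟨W, hW, hxW, -⟩ := exists_isAffineOpen_mem_and_subset (X := (↑U : Scheme.{u}))
      (x := ⟨x, hxU⟩) (U := ⊤) trivial
    have hV : IsAffineOpen (U.ι ''ᵁ W) := hW.image_of_isOpenImmersion U.ι
    have hxV : x ∈ U.ι ''ᵁ W := ⟨⟨x, hxU⟩, hxW, rfl⟩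
    let V : S.affineOpens := ⟨U.ι ''ᵁ W, hV⟩
    let α := U.ι.appIso W
    -- conversions between `Γ(O_U, W)` (abelian group) and `Γ(U, W)` (ring)
    let one' : Γ(Coh.structureModule (↑U : Scheme.{u}), W) :=
      (show Γ(Coh.structureModule (↑U : Scheme.{u}), W) from (1 : Γ((↑U : Scheme.{u}), W)))
    let t' : Γ((ClSub.idealMod 𝓘).restrict U.ι, W) := φ.inv.app W one'
    let t : Γ(ClSub.idealMod 𝓘, U.ι ''ᵁ W) := t'
    let f : Γ(S, U.ι ''ᵁ W) := (ClSub.idealModι 𝓘).app (U.ι ''ᵁ W) t
    have hfI : f ∈ 𝓘.ideal V := idealModι_app_mem 𝓘 V t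
    have hφt : φ.hom.app W t' = one' := by
      change φ.hom.app W (φ.inv.app W one') = one'
      rw [← ConcreteCategory.comp_apply, ← Scheme.Modules.Hom.comp_app, Iso.inv_hom_id]
      rfl
    -- the two module structures
    have hsmul : ∀ (r : Γ((↑U : Scheme.{u}), W)) (m : Γ((ClSub.idealMod 𝓘).restrict U.ι, W)),
        r • m = (show Γ((ClSub.idealMod 𝓘).restrict U.ι, W) from
          (α.inv r) • (show Γ(ClSub.idealMod 𝓘, U.ι ''ᵁ W) from m)) := fun r m => rfl
    have hsmul1 : ∀ (r : Γ((↑U : Scheme.{u}), W)),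
        r • one' = (show Γ(Coh.structureModule (↑U : Scheme.{u}), W) from r) := fun r =>
      mul_one r
    refine ⟨V, hxV, f, ?_, ?_⟩
    · rw [mem_nonZeroDivisors_iff_right]
      intro b hb
      have h1 : (ClSub.idealModι 𝓘).app (U.ι ''ᵁ W) (b • t) = 0 :=
        (idealModι_app_smul 𝓘 (U.ι ''ᵁ W) b t).trans hb
      have h2 : b • t = 0 :=
        idealModι_app_injective 𝓘 _ (h1.trans (map_zero _).symm)
      have h3 : (α.hom b) • t' = 0 := by
        rw [hsmul]
        change (α.inv (α.hom b)) • t = 0
        rw [Iso.hom_inv_id_apply]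
        exact h2
      have h4 := congrArg (φ.hom.app W) h3
      rw [Scheme.Modules.Hom.app_smul, map_zero, hφt, hsmul1] at h4
      have h6 : α.hom b = 0 := h4
      have h7 := congrArg α.inv h6
      rwa [Iso.hom_inv_id_apply, map_zero] at h7
    · apply le_antisymm
      · intro a ha
        obtain ⟨s, hs⟩ := (mem_ideal_iff_exists_section 𝓘 V a).1 ha
        let s' : Γ((ClSub.idealMod 𝓘).restrict U.ι, W) := s
        let r : Γ((↑U : Scheme.{u}), W) := (show Γ((↑U : Scheme.{u}), W) from φ.hom.app W s')
        have e1 : φ.inv.app W (φ.hom.app W s') = s' := by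
          rw [← ConcreteCategory.comp_apply, ← Scheme.Modules.Hom.comp_app, Iso.hom_inv_id]
          rfl
        have e2 : φ.inv.app W (r • one') = r • t' :=
          Scheme.Modules.Hom.app_smul φ.inv r one'
        have hs' : s' = r • t' := by
          rw [hsmul1] at e2
          exact e1.symm.trans e2
        have hs'' : s = (α.inv r) • t := by
          rw [hsmul] at hs'
          exact hs'
        rw [Ideal.mem_span_singleton']
        refine ⟨α.inv r, ?_⟩
        rw [← hs]
        conv_rhs => rw [hs'']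
        exact (idealModι_app_smul 𝓘 (U.ι ''ᵁ W) _ t).symm
      · rw [Ideal.span_singleton_le_iff_mem]
        exact hfI
  · -- effective Cartier ⇒ invertible
    intro hcart x
    obtain ⟨U, hxU, f, hf, hIf⟩ := hcart x
    refine ⟨U.1, hxU, ?_⟩
    have hq := isQuasicoherent_idealMod 𝓘
    let θ := appₗ (ClSub.idealModι 𝓘) U.1
    have hθ : Function.Injective θ := idealModι_app_injective 𝓘 U.1
    let ν : Γ(Coh.structureModule S, U.1) →ₗ[Γ(S, U.1)] Γ(Coh.structureModule S, U.1) :=
      LinearMap.toSpanSingleton _ _ (show Γ(Coh.structureModule S, U.1) from f)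
    have hν : ∀ a : Γ(S, U.1), ν (show Γ(Coh.structureModule S, U.1) from a) =
        (show Γ(Coh.structureModule S, U.1) from a * f) := fun a => rfl
    have hνinj : Function.Injective ν := by
      rw [← LinearMap.ker_eq_bot, LinearMap.ker_eq_bot']
      intro a ha
      exact (mem_nonZeroDivisors_iff_right.1 hf) (show Γ(S, U.1) from a) ha
    have hrange : LinearMap.range θ = LinearMap.range ν := by
      ext y
      constructor
      · rintro ⟨s, rfl⟩
        have hmem := idealModι_app_mem 𝓘 U s
        rw [hIf, Ideal.mem_span_singleton'] at hmem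
        obtain ⟨a, ha⟩ := hmem
        exact ⟨show Γ(Coh.structureModule S, U.1) from a, ha⟩
      · rintro ⟨a, rfl⟩
        have hmem : (show Γ(S, U.1) from a) * f ∈ 𝓘.ideal U := by
          rw [hIf]
          exact Ideal.mul_mem_left _ _ (Ideal.mem_span_singleton_self f)
        obtain ⟨s, hs⟩ := (mem_ideal_iff_exists_section 𝓘 U _).1 hmem
        exact ⟨s, hs⟩
    let e := ((LinearEquiv.ofInjective θ hθ).trans (LinearEquiv.ofEq _ _ hrange)).trans
      (LinearEquiv.ofInjective ν hνinj).symm
    exact nonempty_restrict_iso_structureModule U.2 (ClSub.idealMod 𝓘) e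

end Groth.Agent.S8914
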