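import Groth.Statements.S0329
import Groth.Agent.Lib.Helper60.LocalCohFinite
open Groth.Agent.Lib.Helper60

set_option autoImplicit false
universe u v
open LocCoh

namespace Groth.Agent.S0329

/-- Part (1): ⇔(2) with T = V(I) (Faltings): for a finite module M over a Noetherian ring, the local
cohomology modules H^i_I(M) for i ≤ n are all finitely generated exactly when some ideal J with I
contained in the radical of J kills all of them. -/
theorem result (R : Type u) [CommRing R] [IsNoetherianRing R] (I : Ideal R) (M : Type u) [AddCommGroup M] [Module R M] [Module.Finite R M] (n : ℕ) : (∀ i : ℕ, i ≤ n → Module.Finite R (LocCoh.H I i M)) ↔ ∃ J : Ideal R, I ≤ J.radical ∧ ∀ i : ℕ, i ≤ n → ∀ a ∈ J, ∀ x : LocCoh.H I i M, a • x = 0 := by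
  constructor
  · intro hfin
    -- each `H^i` is finite and power torsion, hence killed by a power
    have h1 : ∀ i : ℕ, i ≤ n → ∃ k : ℕ, ∀ a ∈ I ^ k, ∀ x : LocCoh.H I i M, a • x = 0 := by
      intro i hi
      have := hfin i hi
      exact exists_pow_smul_eq_zero_of_finite I _ (lc_isPowerTorsion I i (ModuleCat.of R M))
    choose! k hk using h1
    refine ⟨I ^ ((Finset.range (n + 1)).sup k), ?_, ?_⟩
    · intro x hx
      exact ⟨_, Ideal.pow_mem_pow hx _⟩
    · intro i hi a ha x
      refine hk i hi a (Ideal.pow_le_pow_right ?_ ha) x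
      exact Finset.le_sup (f := k) (Finset.mem_range.mpr (by omega))
  · rintro ⟨J, hJ, hkill⟩
    obtain ⟨k, hk⟩ := Ideal.exists_pow_le_of_le_radical_of_fg hJ (IsNoetherian.noetherian I)
    exact lc_finite_of_pow_smul_eq_zero I n M k
      (fun i hi a ha x => hkill i hi a (hk ha) x)

end Groth.Agent.S0329
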