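import Groth.Statements.S2217
import Mathlib
import Groth.Agent.Lib.Helper94.OmegaGor
import Groth.Agent.Lib.Helper94.GramOmega
import Groth.Agent.Lib.Helper27.OmegaBC2
import Groth.Agent.S12080

set_option autoImplicit false
universe u
open Disc

namespace Groth.Agent.S2217

open TensorProduct Groth.Agent.Lib.Helper94

theorem forward {A B : Type u} [CommRing A] [CommRing B]
    [Algebra A B] [Module.Finite A B] [Module.Free A B]
    (h : ∀ (p : Ideal A) [p.IsPrime], LocCoh.IsGorensteinRing (p.Fiber B)) :
    Module.Invertible B (Disc.Omega A B) := by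
  classical
  let ι := Module.Free.ChooseBasisIndex A B
  let b : Module.Basis ι A B := Module.Free.chooseBasis A B
  have hp : ∀ (p : Ideal A) [p.IsPrime], ∃ φ : B →ₗ[A] A, (GramOmega.gram b φ).det ∉ p := by
    intro p _
    obtain ⟨e⟩ := (OmegaGor.isGorensteinRing_iff_omega p.ResidueField (p.Fiber B)).mp (h p)
    have hφ₀ : Function.Bijective (fun c : p.Fiber B => c • e.symm 1) := by
      have : (fun c : p.Fiber B => c • e.symm 1) = e.symm := by
        funext c
        rw [← map_smul, smul_eq_mul, mul_one]
      rw [this]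
      exact e.symm.bijective
    have hu := GramOmega.isUnit_det_of_bijective
      (Algebra.TensorProduct.basis p.ResidueField b) (e.symm 1).toLinearMap hφ₀
    exact GramOmega.exists_gram_notMem b p _ hu.ne_zero
  let s : Set B := {r | ∃ φ : B →ₗ[A] A, r = algebraMap A B (GramOmega.gram b φ).det}
  have hs : Ideal.span s = ⊤ := by
    let I : Ideal A := Ideal.span {d | ∃ φ : B →ₗ[A] A, d = (GramOmega.gram b φ).det}
    have hI : I = ⊤ := by
      by_contra hne
      obtain ⟨𝔪, h𝔪, hle⟩ := Ideal.exists_le_maximal I hne
      haveI := h𝔪.isPrime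
      obtain ⟨φ, hφ⟩ := hp 𝔪
      exact hφ (hle (Ideal.subset_span ⟨φ, rfl⟩))
    have h1 : I.map (algebraMap A B) ≤ Ideal.span s := by
      rw [Ideal.map_span, Ideal.span_le]
      rintro _ ⟨d, ⟨φ, rfl⟩, rfl⟩
      exact Ideal.subset_span ⟨φ, rfl⟩
    rw [hI, Ideal.map_top] at h1
    exact top_le_iff.mp h1
  refine Groth.Agent.S12080.result B (Disc.Omega A B) s hs ?_
  rintro f ⟨φ, rfl⟩
  exact GramOmega.nonempty_equiv_away_omega b φ

attribute [local instance] Algebra.TensorProduct.rightAlgebra in
theorem backward {A B : Type u} [CommRing A] [CommRing B]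
    [Algebra A B] [Module.Finite A B] [Module.Free A B]
    (h : Module.Invertible B (Disc.Omega A B)) (p : Ideal A) [p.IsPrime] :
    LocCoh.IsGorensteinRing (p.Fiber B) := by
  rw [OmegaGor.isGorensteinRing_iff_omega p.ResidueField (p.Fiber B)]
  have hB : Algebra.IsPushout A p.ResidueField B (p.Fiber B) := inferInstance
  have hj : IsBaseChange p.ResidueField hB.out.toDual := hB.out.dual
  have hbij := Groth.Agent.Lib.Helper27.OmegaBC2.omegaBC_bijective hB hj (B₁ := p.Fiber B)
  let e1 : (p.Fiber B) ⊗[B] Disc.Omega A B ≃ₗ[p.Fiber B]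
      (p.Fiber B) ⊗[p.Fiber B] Disc.Omega p.ResidueField (p.Fiber B) :=
    LinearEquiv.ofBijective _ hbij
  let e2 := e1 ≪≫ₗ TensorProduct.lid (p.Fiber B) (Disc.Omega p.ResidueField (p.Fiber B))
  haveI : Module.Invertible (p.Fiber B) (Disc.Omega p.ResidueField (p.Fiber B)) :=
    Module.Invertible.congr e2
  haveI : IsArtinianRing (p.Fiber B) := IsArtinianRing.of_finite p.ResidueField (p.Fiber B)
  haveI : Module.Free (p.Fiber B) (Disc.Omega p.ResidueField (p.Fiber B)) := inferInstance
  exact Module.Invertible.free_iff_linearEquiv.mp inferInstance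

/-- Equivalence of (2) and (4) in the affine finite free case: let A be a Noetherian ring and B an
A-algebra which is finite free as an A-module (so A -> B is flat and quasi-finite). Then all fibre
rings kappa(p) tensor_A B are Gorenstein if and only if omega_{B/A} = Hom_A(B, A), with its B-module
structure through the argument, is an invertible B-module. -/
theorem result {A B : Type u} [CommRing A] [CommRing B]
    [Algebra A B] [IsNoetherianRing A] [Module.Finite A B] [Module.Free A B] :
    (∀ (p : Ideal A) [p.IsPrime], LocCoh.IsGorensteinRing (p.Fiber B)) ↔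
      Module.Invertible B (Disc.Omega A B) := by
  exact ⟨forward, fun h p _ => backward h p⟩

end Groth.Agent.S2217
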