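import Groth.Statements.S8931
import Mathlib
import Groth.Agent.Lib.Helper10.Fitting
-- import your own Groth.Agent.* helpers here

set_option autoImplicit false
universe u
open Disc

namespace Groth.Agent.S8931

open Groth.Agent.Lib.Helper10.Fitting MvPolynomial

section Jacobian

variable {A : Type u} [CommRing A] {σ : Type} [Fintype σ] [DecidableEq σ]
  {B : Type u} [CommRing B] [Algebra A B] (π : MvPolynomial σ A →ₐ[A] B)

/-- the differentials of the coordinate functions -/
noncomputable def dX : σ → Ω[B⁄A] :=
  fun j => KaehlerDifferential.D A B (π (X j))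

theorem D_mk (p : MvPolynomial σ A) :
    KaehlerDifferential.D A B (π p) = ∑ j, π (pderiv j p) • dX π j := by
  induction p using MvPolynomial.induction_on with
  | C a =>
    have : π (C a) = algebraMap A B a := by
      rw [← MvPolynomial.algebraMap_eq, AlgHom.commutes]
    rw [this, Derivation.map_algebraMap]
    simp
  | add p q hp hq =>
    rw [map_add, map_add, hp, hq, ← Finset.sum_add_distrib]
    apply Finset.sum_congr rfl
    intro j _
    rw [map_add, map_add, add_smul]
  | mul_X p i hp =>
    rw [map_mul, Derivation.leibniz, hp]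
    simp only [pderiv_mul, pderiv_X, map_add, map_mul, add_smul, Finset.sum_add_distrib]
    rw [add_comm]
    congr 1
    · rw [Finset.smul_sum]
      apply Finset.sum_congr rfl
      intro j _
      rw [smul_smul, mul_comm]
    · rw [Finset.sum_eq_single i]
      · simp [dX]
      · intro j _ hji
        rw [Pi.single_eq_of_ne (Ne.symm hji)]
        simp
      · intro h
        exact absurd (Finset.mem_univ i) h

theorem span_dX (hπ : Function.Surjective π) :
    Submodule.span B (Set.range (dX π)) = ⊤ := by
  rw [eq_top_iff, ← KaehlerDifferential.span_range_derivation, Submodule.span_le]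
  rintro _ ⟨b, rfl⟩
  obtain ⟨p, rfl⟩ := hπ b
  rw [SetLike.mem_coe, D_mk]
  apply Submodule.sum_mem
  intro j _
  exact Submodule.smul_mem _ _ (Submodule.subset_span ⟨j, rfl⟩)

/-- the map `p ↦ (∂p/∂x_j mod I)_j` -/
noncomputable def ψ : MvPolynomial σ A →ₗ[A] (σ → B) :=
  LinearMap.pi (fun j => π.toLinearMap ∘ₗ (pderiv j).toLinearMap)

theorem ψ_apply (p : MvPolynomial σ A) (j : σ) : ψ π p j = π (pderiv j p) := rfl

theorem ψ_mul (p q : MvPolynomial σ A) :
    ψ π (p * q) = π p • ψ π q + π q • ψ π p := by
  funext j
  simp only [ψ_apply, Pi.add_apply, Pi.smul_apply, smul_eq_mul, pderiv_mul, map_add, map_mul]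
  ring

theorem ψ_X (j : σ) : ψ π (X j) = Pi.single j 1 := by
  funext l
  rw [ψ_apply, pderiv_X]
  by_cases h : l = j
  · subst h
    simp
  · rw [Pi.single_eq_of_ne (Ne.symm h), Pi.single_eq_of_ne h, map_zero]

variable {τ : Type} (f : τ → MvPolynomial σ A)

/-- rows of the Jacobian matrix modulo the ideal -/
noncomputable def J : τ → (σ → B) := fun i => ψ π (f i)

theorem ψ_mem_of_mem' (hker : RingHom.ker π.toRingHom = Ideal.span (Set.range f))
    (p : MvPolynomial σ A) (hp' : p ∈ Ideal.span (Set.range f)) :
    ψ π p ∈ Submodule.span B (Set.range (J π f)) := by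
  induction hp' using Submodule.span_induction with
  | mem y hy =>
    obtain ⟨i, rfl⟩ := hy
    exact Submodule.subset_span ⟨i, rfl⟩
  | zero =>
    rw [map_zero]
    exact zero_mem _
  | add a b _ _ ha hb =>
    rw [map_add]
    exact add_mem ha hb
  | smul c a ha ih =>
    rw [smul_eq_mul, ψ_mul]
    have h0 : π a = 0 := by
      have : a ∈ RingHom.ker π.toRingHom := by
        rw [hker]
        exact ha
      exact this
    rw [h0, zero_smul, add_zero]
    exact Submodule.smul_mem _ _ ih

theorem ψ_mem_of_mem (hker : RingHom.ker π.toRingHom = Ideal.span (Set.range f))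
    (p : MvPolynomial σ A) (hp : π p = 0) :
    ψ π p ∈ Submodule.span B (Set.range (J π f)) := by
  apply ψ_mem_of_mem' π f hker
  rw [← hker]
  exact hp

theorem J_mem_Rel (hker : RingHom.ker π.toRingHom = Ideal.span (Set.range f)) (i : τ) :
    J π f i ∈ Rel B (dX π) := by
  rw [mem_Rel]
  have h := D_mk π (f i)
  have h0 : π (f i) = 0 := by
    have : f i ∈ RingHom.ker π.toRingHom := by
      rw [hker]
      exact Ideal.subset_span ⟨i, rfl⟩
    exact this
  rw [h0, map_zero] at h
  exact h.symm

/-- the derivation `B → B^σ / (Jacobian rows)` -/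
noncomputable def δ (hπ : Function.Surjective π)
    (hker : RingHom.ker π.toRingHom = Ideal.span (Set.range f)) :
    Derivation A B ((σ → B) ⧸ Submodule.span B (Set.range (J π f))) := by
  set W := Submodule.span B (Set.range (J π f)) with hW
  let φ : MvPolynomial σ A →ₗ[A] ((σ → B) ⧸ W) := (W.mkQ.restrictScalars A) ∘ₗ ψ π
  have hφ : ∀ p q, π p = π q → φ p = φ q := by
    intro p q hpq
    rw [← sub_eq_zero, ← map_sub]
    have hmem : π (p - q) = 0 := by rw [map_sub, hpq, sub_self]
    have := ψ_mem_of_mem π f hker (p - q) hmem
    exact (Submodule.Quotient.mk_eq_zero W).mpr this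
  have hs : ∀ b, π (Function.surjInv hπ b) = b := Function.surjInv_eq hπ
  have hφmul : ∀ p q, φ (p * q) = π p • φ q + π q • φ p := by
    intro p q
    simp only [φ, LinearMap.comp_apply, LinearMap.restrictScalars_apply, ψ_mul, map_add, map_smul]
  exact
    { toLinearMap :=
        { toFun := fun b => φ (Function.surjInv hπ b)
          map_add' := by
            intro b c
            rw [← map_add]
            apply hφ
            rw [map_add, hs, hs, hs]
          map_smul' := by
            intro a b
            rw [RingHom.id_apply, ← map_smul]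
            apply hφ
            rw [hs, map_smul, hs] }
      map_one_eq_zero' := by
        show φ (Function.surjInv hπ 1) = 0
        have h1 : φ (Function.surjInv hπ 1) = φ 1 := by
          apply hφ
          rw [hs, map_one]
        rw [h1]
        have : ψ π 1 = 0 := by
          funext j
          rw [ψ_apply, pderiv_one, map_zero]
          rfl
        simp only [φ, LinearMap.comp_apply, this, map_zero]
      leibniz' := by
        intro b c
        show φ (Function.surjInv hπ (b * c)) =
          b • φ (Function.surjInv hπ c) + c • φ (Function.surjInv hπ b)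
        have h1 : φ (Function.surjInv hπ (b * c)) =
            φ (Function.surjInv hπ b * Function.surjInv hπ c) := by
          apply hφ
          rw [hs, map_mul, hs, hs]
        rw [h1, hφmul, hs, hs] }

theorem δ_mk (hπ : Function.Surjective π)
    (hker : RingHom.ker π.toRingHom = Ideal.span (Set.range f)) (p : MvPolynomial σ A) :
    δ π f hπ hker (π p) = Submodule.Quotient.mk (ψ π p) := by
  have hs : ∀ b, π (Function.surjInv hπ b) = b := Function.surjInv_eq hπ
  show Submodule.Quotient.mk (ψ π (Function.surjInv hπ (π p))) = _
  rw [← sub_eq_zero, ← Submodule.Quotient.mk_sub, Submodule.Quotient.mk_eq_zero, ← map_sub]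
  apply ψ_mem_of_mem π f hker
  rw [map_sub, hs, sub_self]

theorem Rel_le_span_J (hπ : Function.Surjective π)
    (hker : RingHom.ker π.toRingHom = Ideal.span (Set.range f)) :
    Rel B (dX π) ≤ Submodule.span B (Set.range (J π f)) := by
  intro v hv
  rw [mem_Rel] at hv
  have h1 := congrArg (δ π f hπ hker).liftKaehlerDifferential hv
  rw [map_zero, map_sum] at h1
  have h2 : ∀ j, (δ π f hπ hker).liftKaehlerDifferential (v j • dX π j) =
      Submodule.Quotient.mk (v j • (Pi.single j 1 : σ → B)) := by
    intro j
    rw [map_smul]
    unfold dX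
    rw [Derivation.liftKaehlerDifferential_comp_D, δ_mk, ψ_X]
    rfl
  simp only [h2] at h1
  have h4 : ∑ x, (Submodule.Quotient.mk (v x • (Pi.single x 1 : σ → B)) :
      (σ → B) ⧸ Submodule.span B (Set.range (J π f))) =
      Submodule.Quotient.mk (∑ x, v x • (Pi.single x 1 : σ → B)) := by
    have := (map_sum (Submodule.span B (Set.range (J π f))).mkQ
      (fun x => v x • (Pi.single x 1 : σ → B)) Finset.univ).symm
    exact this
  rw [h4, Submodule.Quotient.mk_eq_zero] at h1
  have h3 : ∑ j, v j • (Pi.single j 1 : σ → B) = v := by
    funext l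
    simp [Finset.sum_apply, Pi.single_apply]
  rwa [h3] at h1

theorem main (hπ : Function.Surjective π) (g : σ → MvPolynomial σ A)
    (hker : RingHom.ker π.toRingHom = Ideal.span (Set.range g)) :
    Fitt.ideal B (Ω[B⁄A]) 0 =
      Ideal.span {π (Matrix.det (Matrix.of fun i j : σ => MvPolynomial.pderiv j (g i)))} := by
  classical
  rw [fitt_eq_G (dX π) (span_dX π hπ) 0]
  have hdet : π (Matrix.det (Matrix.of fun i j : σ => MvPolynomial.pderiv j (g i))) =
      Matrix.det (Matrix.of (J π g)) := by
    have := RingHom.map_det π.toRingHom (Matrix.of fun i j : σ => MvPolynomial.pderiv j (g i))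
    exact this
  rw [hdet]
  apply le_antisymm
  · apply G_le_of_rel_le_span (dX π) 0 (Set.range (J π g)) (Rel_le_span_J π g hπ hker)
    intro a ha1 ha2
    have hall : ∀ i, a i ∈ Set.range (J π g) := by
      intro i
      by_contra hi
      have h5 : 0 < (Finset.univ.filter fun i => a i ∉ Set.range (J π g)).card :=
        Finset.card_pos.mpr ⟨i, by
          simp only [Finset.mem_filter, Finset.mem_univ, true_and]
          exact hi⟩
      have h6 : (Finset.univ.filter fun i => a i ∉ Set.range (J π g)).card ≤ 0 := by
        convert ha2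
      omega
    choose s hs using hall
    have ha : a = (Matrix.of (J π g)).submatrix s id := by
      ext i j
      rw [Matrix.submatrix_apply, Matrix.of_apply, hs i]
      rfl
    by_cases hinj : Function.Injective s
    · have hbij : Function.Bijective s := Finite.injective_iff_bijective.mp hinj
      let e : Equiv.Perm σ := Equiv.ofBijective s hbij
      have ha' : a = (Matrix.of (J π g)).submatrix e id := ha
      rw [ha', Matrix.det_permute]
      exact Ideal.mul_mem_left _ _ (Ideal.subset_span rfl)
    · rw [Function.Injective] at hinj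
      simp only [not_forall] at hinj
      obtain ⟨i, i', heq, hne⟩ := hinj
      have : a.det = 0 := by
        apply Matrix.det_zero_of_row_eq hne
        rw [← hs i, ← hs i', heq]
      rw [this]
      exact zero_mem _
  · rw [Ideal.span_le, Set.singleton_subset_iff]
    apply det_mem_G
    unfold nonRelCard
    rw [Nat.le_zero, Finset.card_eq_zero, Finset.filter_eq_empty_iff]
    intro i _ hi
    exact hi (J_mem_Rel π g hker i)

end Jacobian

/-- For a ring A, n ≥ 1 and f_1, …, f_n in A[x_1, …, x_n], with B = A[x_1, …, x_n]/(f_1, …, f_n), the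
zeroth Fitting ideal of Ω_{B/A} (the Kähler different of B over A) is generated by the image in B of
the Jacobian determinant det(∂f_i/∂x_j). -/
theorem result (A : Type u) [CommRing A] (n : ℕ) (hn : 1 ≤ n) (f : Fin n → MvPolynomial (Fin n) A) : Fitt.ideal (MvPolynomial (Fin n) A ⧸ Ideal.span (Set.range f)) (KaehlerDifferential A (MvPolynomial (Fin n) A ⧸ Ideal.span (Set.range f))) 0 = Ideal.span {Ideal.Quotient.mk (Ideal.span (Set.range f)) (Matrix.det (Matrix.of fun i j : Fin n => MvPolynomial.pderiv j (f i)))} := by
  apply main (Ideal.Quotient.mkₐ A (Ideal.span (Set.range f)))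
    (Ideal.Quotient.mkₐ_surjective A _) f
  exact Ideal.Quotient.mkₐ_ker A _

end Groth.Agent.S8931
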