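import Groth.Statements.S10955
import Mathlib

set_option autoImplicit false
universe u
open scoped TensorProduct
open Unram

namespace Groth.Agent.S10955

open KaehlerDifferential IsLocalRing

section core
variable (A B S : Type u) [CommRing A] [CommRing B] [CommRing S] [Algebra A B] [Algebra B S]
  [Algebra A S] [IsScalarTower A B S]

/-- over any ring: formal smoothness of the top of a tower from split injectivity -/
theorem formallySmooth_of_split [Algebra.FormallySmooth A S]
    (l : Ω[S⁄A] →ₗ[S] S ⊗[B] Ω[B⁄A]) (hl : l ∘ₗ mapBaseChange A B S = LinearMap.id) :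
    Algebra.FormallySmooth B S := by
  have hinj : Function.Injective (mapBaseChange A B S) :=
    Function.HasLeftInverse.injective ⟨l, LinearMap.congr_fun hl⟩
  refine ⟨?_, ?_⟩
  · -- Ω_{S/B} is a direct summand of Ω_{S/A}
    have hex := KaehlerDifferential.exact_mapBaseChange_map A B S
    have hsurj : Function.Surjective (KaehlerDifferential.map A B S S) :=
      KaehlerDifferential.map_surjective A B S
    obtain ⟨e, -⟩ := hex.splitInjectiveEquiv hsurj ⟨l, hl⟩
    refine Module.Projective.of_split
      (e.symm.toLinearMap ∘ₗ LinearMap.inr S (S ⊗[B] Ω[B⁄A]) Ω[S⁄B])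
      (LinearMap.snd S (S ⊗[B] Ω[B⁄A]) Ω[S⁄B] ∘ₗ e.toLinearMap) ?_
    ext x
    simp
  · -- H¹ vanishes
    rw [subsingleton_iff_forall_eq 0]
    intro x
    have h1 : Algebra.H1Cotangent.δ A B S x = 0 := by
      apply hinj
      rw [map_zero]
      exact (Algebra.H1Cotangent.exact_δ_mapBaseChange A B S _).mpr ⟨x, rfl⟩
    obtain ⟨y, rfl⟩ := (Algebra.H1Cotangent.exact_map_δ A B S x).mp h1
    rw [Subsingleton.elim y 0, map_zero]


theorem exists_retraction_of_formallySmooth [Algebra.FormallySmooth B S] :
    ∃ l : Ω[S⁄A] →ₗ[S] S ⊗[B] Ω[B⁄A], l ∘ₗ mapBaseChange A B S = LinearMap.id := by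
  have hinj : Function.Injective (mapBaseChange A B S) := by
    rw [injective_iff_map_eq_zero]
    intro x hx
    obtain ⟨y, rfl⟩ := (Algebra.H1Cotangent.exact_δ_mapBaseChange A B S x).mp hx
    rw [Subsingleton.elim y 0, map_zero]
  have hex := KaehlerDifferential.exact_mapBaseChange_map A B S
  have hsurj : Function.Surjective (KaehlerDifferential.map A B S S) :=
    KaehlerDifferential.map_surjective A B S
  obtain ⟨σ, hσ⟩ := Module.projective_lifting_property (KaehlerDifferential.map A B S S)
    (LinearMap.id : Ω[S⁄B] →ₗ[S] Ω[S⁄B]) hsurj
  obtain ⟨e, he1, -⟩ := hex.splitSurjectiveEquiv hinj ⟨σ, hσ⟩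
  refine ⟨LinearMap.fst S (S ⊗[B] Ω[B⁄A]) Ω[S⁄B] ∘ₗ e.toLinearMap, ?_⟩
  rw [LinearMap.comp_assoc, he1]
  ext x
  simp

theorem core_iff [IsLocalRing S] [Algebra.FormallySmooth A S]
    [Module.Finite S (S ⊗[B] Ω[B⁄A])] [Module.Finite S Ω[S⁄A]] :
    Algebra.FormallySmooth B S ↔
      Function.Injective ((mapBaseChange A B S).lTensor (ResidueField S)) := by
  haveI : Module.Free S Ω[S⁄A] := Module.free_of_flat_of_isLocalRing
  rw [← IsLocalRing.split_injective_iff_lTensor_residueField_injective]
  constructor
  · intro h
    exact exists_retraction_of_formallySmooth A B S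
  · rintro ⟨l, hl⟩
    exact formallySmooth_of_split A B S l hl

end core


section compare
variable (A B C : Type u) [CommRing A] [CommRing B] [CommRing C] [Algebra A B] [Algebra B C]
  [Algebra A C] [IsScalarTower A B C] (q : Ideal C) [q.IsPrime]

theorem map_map_apply (T : Type u) [CommRing T] [Algebra C T] [Algebra B T] [Algebra A T]
    [IsScalarTower A C T] [IsScalarTower B C T] [IsScalarTower A B T] (ω : Ω[B⁄A]) :
    KaehlerDifferential.map A A C T (KaehlerDifferential.map A A B C ω) =
      KaehlerDifferential.map A A B T ω := by
  have hω : ω ∈ Submodule.span B (Set.range (D A B)) := by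
    rw [span_range_derivation]; trivial
  induction hω using Submodule.span_induction with
  | mem ω hω =>
    obtain ⟨b, rfl⟩ := hω
    simp only [map_D]
    rw [← IsScalarTower.algebraMap_apply]
  | zero => simp
  | add x y _ _ hx hy => simp only [map_add, hx, hy]
  | smul b x _ hx =>
    rw [map_smul (KaehlerDifferential.map A A B T), ← hx,
      map_smul (KaehlerDifferential.map A A B C), LinearMap.map_smul_of_tower]

open TensorProduct.AlgebraTensorModule in
theorem compare_key (t : q.ResidueField ⊗[C] (C ⊗[B] Ω[B⁄A])) :
    (LinearEquiv.lTensor q.ResidueField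
        (tensorKaehlerEquivOfFormallyEtale A C (Localization.AtPrime q)))
      ((cancelBaseChange C (Localization.AtPrime q) (Localization.AtPrime q) q.ResidueField
        Ω[C⁄A]).symm ((mapBaseChange A B C).lTensor q.ResidueField t)) =
    (mapBaseChange A B (Localization.AtPrime q)).lTensor q.ResidueField
      ((cancelBaseChange B (Localization.AtPrime q) (Localization.AtPrime q) q.ResidueField
        Ω[B⁄A]).symm (cancelBaseChange B C C q.ResidueField Ω[B⁄A] t)) := by
  induction t using TensorProduct.induction_on with
  | zero => simp
  | add x y hx hy => simp only [map_add, hx, hy]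
  | tmul z x =>
    induction x using TensorProduct.induction_on with
    | zero => simp
    | add x y hx hy => simp only [TensorProduct.tmul_add, map_add, hx, hy]
    | tmul c ω =>
      simp only [LinearMap.lTensor_tmul, mapBaseChange_tmul, cancelBaseChange_symm_tmul,
        cancelBaseChange_tmul, LinearEquiv.lTensor_tmul, tensorKaehlerEquivOfFormallyEtale_apply,
        one_smul]
      rw [map_smul, map_map_apply, TensorProduct.smul_tmul]


open TensorProduct.AlgebraTensorModule in
theorem compare_injective :
    Function.Injective ((mapBaseChange A B C).lTensor q.ResidueField) ↔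
      Function.Injective
        ((mapBaseChange A B (Localization.AtPrime q)).lTensor q.ResidueField) := by
  let β := (cancelBaseChange C (Localization.AtPrime q) (Localization.AtPrime q) q.ResidueField
        Ω[C⁄A]).symm.toEquiv.trans (LinearEquiv.lTensor q.ResidueField
        (tensorKaehlerEquivOfFormallyEtale A C (Localization.AtPrime q))).toEquiv
  let e1 := (cancelBaseChange B C C q.ResidueField Ω[B⁄A]).toEquiv.trans
    (cancelBaseChange B (Localization.AtPrime q) (Localization.AtPrime q) q.ResidueField
        Ω[B⁄A]).symm.toEquiv
  have key : β ∘ ((mapBaseChange A B C).lTensor q.ResidueField) =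
      ((mapBaseChange A B (Localization.AtPrime q)).lTensor q.ResidueField) ∘ e1 := by
    funext t
    exact compare_key A B C q t
  rw [← Function.Injective.of_comp_iff β.injective, key,
    Function.Injective.of_comp_iff' _ e1.bijective]

end compare




/-- Let A → B → C be ring homomorphisms with B and C finitely presented over A, let q be a prime ideal
of C and p its inverse image in B, and assume that C is smooth over A at q and that B is smooth over
A at p. Then C is smooth over B at q if and only if the map obtained from the canonical map C ⊗_B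
Ω_{B/A} → Ω_{C/A} by tensoring over C with the residue field k(q) is injective. -/
theorem result (A B C : Type u) [CommRing A] [CommRing B]
    [CommRing C] [Algebra A B] [Algebra B C] [Algebra A C] [IsScalarTower A B C]
    [Algebra.FinitePresentation A B] [Algebra.FinitePresentation A C] (q : Ideal C) [q.IsPrime]
    (hC : Algebra.IsSmoothAt A q) (hB : Algebra.IsSmoothAt A (q.under B)) :
    Algebra.IsSmoothAt B q ↔
      Function.Injective ((KaehlerDifferential.mapBaseChange A B C).lTensor q.ResidueField) := by
  haveI : Algebra.FormallySmooth A (Localization.AtPrime q) := hC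
  rw [compare_injective]
  exact core_iff A B (Localization.AtPrime q)


end Groth.Agent.S10955
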