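import Groth.Statements.S16713
import Mathlib
import Groth.Agent.S5757
import Groth.Agent.S5758
import Groth.Agent.S2103
import Groth.Agent.S5803
import Groth.Agent.Lib.Helper28.RegularCM
import Groth.Agent.Lib.Helper85.HS.LocLength
import Groth.Agent.Lib.Helper10.KoszulH1
import Groth.Agent.Lib.Helper94.SurjLoc

set_option autoImplicit false
universe u
open CotT

namespace Groth.Agent.S16713

open KaehlerDifferential TensorProduct
open Groth.Agent.Lib.Helper94

open IsLocalRing in


/-- Unmixedness: in a regular local ring, the associated primes of the quotient by an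
`H_1`-regular sequence in the maximal ideal are minimal over the ideal. -/
theorem mem_minimalPrimes_of_mem_associatedPrimes_of_isH1Regular (T : Type u) [CommRing T]
    [IsRegularLocalRing T] {c : ℕ} (l : Fin c → T) (hl : ∀ i, l i ∈ maximalIdeal T)
    (h1 : CAlgX.IsH1Regular l) {𝔞 : Ideal T}
    (h𝔞 : 𝔞 ∈ associatedPrimes T (T ⧸ Ideal.span (Set.range l))) :
    𝔞 ∈ (Ideal.span (Set.range l)).minimalPrimes := by
  set J : Ideal T := Ideal.span (Set.range l) with hJ
  have hq : CAlgX.IsQuasiRegular l := Groth.Agent.S2103.result l h1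
  have hjac : ∀ i, l i ∈ Ring.jacobson T := fun i => by
    rw [IsLocalRing.ringJacobson_eq_maximalIdeal]; exact hl i
  have hw : RingTheory.Sequence.IsWeaklyRegular T (List.ofFn l) :=
    Groth.Agent.S5803.result T c l hjac hq
  have hCM : LocCoh.IsCohenMacaulayModule T T :=
    Groth.Agent.Lib.Helper28.isCohenMacaulayModule_self_of_isRegularLocalRing T
  have hmem : ∀ x ∈ List.ofFn l, x ∈ maximalIdeal T := by
    intro x hx
    obtain ⟨i, rfl⟩ := (List.mem_ofFn' l x).mp hx
    exact hl i
  have hCMq := (Groth.Agent.S5758.result T T hCM (List.ofFn l) hmem).2 hw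
  have hofList : Ideal.ofList (List.ofFn l) = J := by
    rw [hJ, Ideal.ofList]
    congr 1
    ext x
    simp [List.mem_ofFn']
  have hsub : (Ideal.ofList (List.ofFn l) • (⊤ : Submodule T T)) = J := by
    rw [hofList]
    simp
  let e : (T ⧸ (Ideal.ofList (List.ofFn l) • (⊤ : Submodule T T))) ≃ₗ[T] (T ⧸ J) :=
    Submodule.quotEquivOfEq _ _ hsub
  have h𝔞' : 𝔞 ∈ associatedPrimes T (T ⧸ (Ideal.ofList (List.ofFn l) • (⊤ : Submodule T T))) := by
    rw [LinearEquiv.AssociatedPrimes.eq e]; exact h𝔞
  have hdim𝔞 : ringKrullDim (T ⧸ 𝔞) = ringKrullDim (T ⧸ J) := by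
    rw [Groth.Agent.S5757.result T _ hCMq 𝔞 h𝔞', Module.supportDim_eq_of_equiv e,
      Module.supportDim_quotient_eq_ringKrullDim]
  have h𝔞p : 𝔞.IsPrime := IsAssociatedPrime.isPrime h𝔞
  have hJ𝔞 : J ≤ 𝔞 := by
    obtain ⟨-, x, hx⟩ := isAssociatedPrime_iff.mp h𝔞
    intro a ha
    rw [hx, Submodule.mem_colon_singleton, Submodule.mem_bot]
    obtain ⟨t, rfl⟩ := Ideal.Quotient.mk_surjective x
    rw [← Ideal.Quotient.mk_eq_mk, ← Submodule.Quotient.mk_smul, Ideal.Quotient.mk_eq_mk,
      Ideal.Quotient.eq_zero_iff_mem, smul_eq_mul]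
    exact J.mul_mem_right _ ha
  refine ⟨⟨h𝔞p, hJ𝔞⟩, ?_⟩
  rintro 𝔟 ⟨h𝔟p, hJ𝔟⟩ h𝔟𝔞
  by_contra hne
  have hlt : 𝔟 < 𝔞 := lt_of_le_of_ne h𝔟𝔞 (fun h => hne (h ▸ le_rfl))
  have h1 := Groth.Agent.Lib.Helper85.HS.ringKrullDim_quotient_succ_le_of_lt 𝔟 𝔞 hlt
  have h2 : ringKrullDim (T ⧸ 𝔟) ≤ ringKrullDim (T ⧸ J) :=
    ringKrullDim_le_of_surjective (Ideal.Quotient.factor hJ𝔟) (Ideal.Quotient.factor_surjective hJ𝔟)
  rw [← hdim𝔞] at h2
  have h3 : ringKrullDim (T ⧸ 𝔞) + 1 ≤ ringKrullDim (T ⧸ 𝔞) := h1.trans h2
  have hfin : ringKrullDim (T ⧸ 𝔞) < ⊤ :=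
    lt_of_le_of_lt (ringKrullDim_le_of_surjective _ Ideal.Quotient.mk_surjective)
      (ringKrullDim_lt_top (R := T))
  have hbot : ringKrullDim (T ⧸ 𝔞) ≠ ⊥ := by
    have : Nontrivial (T ⧸ 𝔞) := Ideal.Quotient.nontrivial_iff.mpr h𝔞p.ne_top
    intro h
    have h0 := ringKrullDim_nonneg_of_nontrivial (R := T ⧸ 𝔞)
    rw [h] at h0
    exact absurd h0 (by simp)
  obtain ⟨n, hn⟩ : ∃ n : ℕ, ringKrullDim (T ⧸ 𝔞) = n := by
    cases h : ringKrullDim (T ⧸ 𝔞) with
    | bot => exact absurd h hbot
    | coe m =>
      cases m with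
      | top => rw [h] at hfin; exact absurd hfin (lt_irrefl _)
      | coe n => exact ⟨n, rfl⟩
  rw [hn] at h3
  have : ((n + 1 : ℕ) : WithBot ℕ∞) ≤ (n : ℕ) := by exact_mod_cast h3
  have : n + 1 ≤ n := by exact_mod_cast this
  omega


/-- `H_1`-regularity is preserved by localization. -/
theorem isH1Regular_of_isLocalization {R R' : Type u} [CommRing R] [CommRing R'] [Algebra R R']
    (M : Submonoid R) [IsLocalization M R'] {c : ℕ} (l : Fin c → R) (h : CAlgX.IsH1Regular l) :
    CAlgX.IsH1Regular (fun i => algebraMap R R' (l i)) := by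
  intro a' ha'
  obtain ⟨b, hb⟩ := IsLocalization.exist_integer_multiples M (Finset.univ : Finset (Fin c)) a'
  choose a ha using fun i => hb i (Finset.mem_univ i)
  -- ha i : algebraMap R R' (a i) = b • a' i
  have hsum : algebraMap R R' (∑ i, a i * l i) = 0 := by
    rw [map_sum]
    have : ∀ i, algebraMap R R' (a i * l i) = (b : R) • (a' i * algebraMap R R' (l i)) := by
      intro i
      rw [map_mul, ha i, smul_mul_assoc]
    simp_rw [this]
    rw [← Finset.smul_sum, ha', smul_zero]
  obtain ⟨t, ht⟩ := (IsLocalization.map_eq_zero_iff M R' _).mp hsum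
  have hrel : ∑ i, ((t : R) * a i) * l i = 0 := by
    have : ∀ i, ((t : R) * a i) * l i = (t : R) * (a i * l i) := fun i => by ring
    simp_rw [this]
    rw [← Finset.mul_sum]; exact ht
  have hmem := h (fun i => (t : R) * a i) hrel
  -- push forward
  let φ : (Fin c → R) →ₗ[R] (Fin c → R') := (Algebra.linearMap R R').compLeft (Fin c)
  let S' : Set (Fin c → R') := {v | ∃ i j : Fin c, v = Pi.single i (algebraMap R R' (l j)) -
    Pi.single j (algebraMap R R' (l i))}
  have hφ : ∀ v ∈ Submodule.span R {v : Fin c → R | ∃ i j : Fin c,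
      v = Pi.single i (l j) - Pi.single j (l i)}, φ v ∈ Submodule.span R' S' := by
    intro v hv
    induction hv using Submodule.span_induction with
    | mem v hv =>
      obtain ⟨i, j, rfl⟩ := hv
      apply Submodule.subset_span
      refine ⟨i, j, ?_⟩
      ext k
      simp only [φ, LinearMap.compLeft_apply, Function.comp_apply, Pi.sub_apply,
        Algebra.linearMap_apply, map_sub]
      simp only [Pi.single_apply, apply_ite (algebraMap R R'), map_zero]
    | zero => simp
    | add x y _ _ hx hy => rw [map_add]; exact Submodule.add_mem _ hx hy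
    | smul r x _ hx =>
      rw [map_smul, ← algebraMap_smul R' r (φ x)]
      exact Submodule.smul_mem _ _ hx
  have h1 := hφ _ hmem
  have hunit : IsUnit (algebraMap R R' ((t : R) * (b : R))) :=
    IsLocalization.map_units R' (t * b)
  obtain ⟨u, hu⟩ := hunit
  have h2 : a' = (↑u⁻¹ : R') • φ (fun i => (t : R) * a i) := by
    ext i
    simp only [φ, LinearMap.compLeft_apply, Function.comp_apply, Pi.smul_apply,
      Algebra.linearMap_apply, smul_eq_mul, map_mul, ha i]
    rw [Algebra.smul_def, ← mul_assoc, ← mul_assoc]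
    have : (↑u⁻¹ : R') * algebraMap R R' (t : R) * algebraMap R R' (b : R) = 1 := by
      rw [mul_assoc, ← map_mul, ← hu]; simp
    rw [this, one_mul]
  rw [h2]
  exact Submodule.smul_mem _ _ h1



/-- Generic smoothness kills cotangent classes generically. -/
theorem exists_mul_mem_sq_of_formallySmooth (k P A : Type u) [Field k] [CommRing P] [CommRing A]
    [Algebra k P] [Algebra k A] [Algebra.FormallySmooth k P] (f : P →ₐ[k] A)
    (hf : Function.Surjective f) (p : Ideal A) [p.IsPrime]
    [Algebra.FormallySmooth k (Localization.AtPrime p)] (y : P) (hy : y ∈ RingHom.ker f.toRingHom)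
    (hDy : D k P y ∈ (RingHom.ker f.toRingHom) • (⊤ : Submodule P Ω[P⁄k])) :
    ∃ s : P, s ∉ p.comap f.toRingHom ∧ s * y ∈ (RingHom.ker f.toRingHom) ^ 2 := by
  set I : Ideal P := RingHom.ker f.toRingHom with hI
  set 𝔭 : Ideal P := p.comap f.toRingHom with h𝔭
  let P' := Localization.AtPrime 𝔭
  let A' := Localization.AtPrime p
  let ψ : P' →+* A' := SurjLoc.locHom f.toRingHom p
  have hψsurj : Function.Surjective ψ := SurjLoc.locHom_surjective f.toRingHom p hf
  have hψker : RingHom.ker ψ = I.map (algebraMap P P') := SurjLoc.ker_locHom f.toRingHom p hf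
  algebraize [ψ]
  have hψalg : ∀ x : P, algebraMap P' A' (algebraMap P P' x) = algebraMap A A' (f x) :=
    fun x => SurjLoc.locHom_algebraMap f.toRingHom p x
  have : IsScalarTower k P' A' := by
    refine .of_algebraMap_eq fun c => ?_
    rw [IsScalarTower.algebraMap_apply k P P', hψalg, IsScalarTower.algebraMap_apply k A A']
    congr 1
    exact (f.commutes c).symm
  have : Algebra.FormallyEtale P P' := .of_isLocalization 𝔭.primeCompl
  have : Algebra.FormallySmooth k P' := .comp k P P'
  obtain ⟨l, hl⟩ := (Algebra.FormallySmooth.iff_split_injection (R := k) (P := P') (A := A')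
    hψsurj).mp inferInstance
  have hinj : Function.Injective (kerCotangentToTensor k P' A') := by
    intro a b hab
    have := congrArg l hab
    rwa [← LinearMap.comp_apply, ← LinearMap.comp_apply, hl] at this
  have hker : RingHom.ker (algebraMap P' A') = I.map (algebraMap P P') := hψker
  have hy' : algebraMap P P' y ∈ RingHom.ker (algebraMap P' A') := by
    rw [hker]; exact Ideal.mem_map_of_mem _ hy
  -- the differential vanishes
  have hzero : ∀ ω ∈ I • (⊤ : Submodule P Ω[P⁄k]),
      (1 : A') ⊗ₜ[P'] (KaehlerDifferential.map k k P P' ω) = 0 := by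
    intro ω hω
    refine Submodule.smul_induction_on hω ?_ ?_
    · intro i hi ω₀ _
      rw [map_smul, ← algebraMap_smul P' i, TensorProduct.tmul_smul, TensorProduct.smul_tmul',
        Algebra.smul_def, mul_one]
      have : algebraMap P' A' (algebraMap P P' i) = 0 := by
        rw [← RingHom.mem_ker, hker]; exact Ideal.mem_map_of_mem _ hi
      rw [this, TensorProduct.zero_tmul]
    · intro x y hx hy
      rw [map_add, TensorProduct.tmul_add, hx, hy, add_zero]
  have hD : kerCotangentToTensor k P' A'
      ((RingHom.ker (algebraMap P' A')).toCotangent ⟨algebraMap P P' y, hy'⟩) = 0 := by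
    rw [kerCotangentToTensor_toCotangent]
    have := hzero _ hDy
    rwa [KaehlerDifferential.map_D] at this
  have h0 : (RingHom.ker (algebraMap P' A')).toCotangent ⟨algebraMap P P' y, hy'⟩ = 0 :=
    hinj (by rw [hD, map_zero])
  rw [Ideal.toCotangent_eq_zero] at h0
  have h0' : algebraMap P P' y ∈ (I ^ 2).map (algebraMap P P') := by
    rw [Ideal.map_pow, ← hker]; exact h0
  replace h0 := h0'
  obtain ⟨s, hs, hsy⟩ := (IsLocalization.algebraMap_mem_map_algebraMap_iff 𝔭.primeCompl P' _ _).mp h0
  exact ⟨s, hs, hsy⟩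

open IsLocalRing in


/-- Local step: coefficients of a class killed generically lie in the ideal. -/
theorem algebraMap_mem_map_sq (P T : Type u) [CommRing P] [CommRing T] [Algebra P T]
    (M : Submonoid P) [IsLocalization M T] [IsRegularLocalRing T] (I : Ideal P) (y : P)
    {c : ℕ} (l : Fin c → T) (hl : ∀ i, l i ∈ maximalIdeal T) (h1 : CAlgX.IsH1Regular l)
    (hspan : Ideal.span (Set.range l) = I.map (algebraMap P T)) (hy : y ∈ I)
    (hgen : ∀ 𝔭 ∈ I.minimalPrimes, ∃ s : P, s ∉ 𝔭 ∧ s * y ∈ I ^ 2) :
    algebraMap P T y ∈ (I ^ 2).map (algebraMap P T) := by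
  set J : Ideal T := Ideal.span (Set.range l) with hJ
  have hyJ : algebraMap P T y ∈ J := by rw [hspan]; exact Ideal.mem_map_of_mem _ hy
  obtain ⟨a, ha⟩ := Ideal.mem_span_range_iff_exists_fun.mp hyJ
  have hJ2 : (I ^ 2).map (algebraMap P T) = J ^ 2 := by rw [Ideal.map_pow, ← hspan]
  have hcoef : ∀ i, a i ∈ J := by
    intro i
    by_contra hai
    have hx : (Ideal.Quotient.mk J (a i) : T ⧸ J) ≠ 0 := by
      rwa [Ne, Ideal.Quotient.eq_zero_iff_mem]
    obtain ⟨𝔞, h𝔞, hle⟩ := exists_le_isAssociatedPrime_of_isNoetherianRing T _ hx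
    have hmin : 𝔞 ∈ J.minimalPrimes :=
      mem_minimalPrimes_of_mem_associatedPrimes_of_isH1Regular T l hl h1 h𝔞
    have hmin' : 𝔞 ∈ (I.map (algebraMap P T)).minimalPrimes := by rwa [← hspan]
    rw [IsLocalization.minimalPrimes_map M] at hmin'
    obtain ⟨s, hs𝔭, hsy⟩ := hgen _ hmin'
    have hsy' : ∑ j, (algebraMap P T s * a j) * l j ∈ J ^ 2 := by
      have : ∑ j, (algebraMap P T s * a j) * l j = algebraMap P T (s * y) := by
        rw [map_mul, ← ha, Finset.mul_sum]
        exact Finset.sum_congr rfl fun j _ => by ring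
      rw [this, ← hJ2]
      exact Ideal.mem_map_of_mem _ hsy
    have hmem := Groth.Agent.Lib.Helper10.KoszulH1.coeff_mem_of_isH1Regular l h1
      (fun j => algebraMap P T s * a j) hsy' i
    have hs𝔞 : algebraMap P T s ∈ 𝔞 := by
      apply hle
      rw [Submodule.mem_colon_singleton, Submodule.mem_bot, ← Ideal.Quotient.mk_eq_mk,
        ← Submodule.Quotient.mk_smul, Ideal.Quotient.mk_eq_mk, Ideal.Quotient.eq_zero_iff_mem,
        smul_eq_mul]
      exact hmem
    exact hs𝔭 hs𝔞
  rw [hJ2, ← ha, pow_two]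
  exact Ideal.sum_mem _ fun i _ => Ideal.mul_mem_mul (hcoef i) (Ideal.subset_span ⟨i, rfl⟩)

/-- If `1 ⊗ ω = 0` in `A ⊗[P] M` for a surjection `P → A` with kernel `I`, then `ω ∈ I M`. -/
theorem mem_smul_top_of_one_tmul_eq_zero {P A M : Type u} [CommRing P] [CommRing A] [Algebra P A]
    (hsurj : Function.Surjective (algebraMap P A)) [AddCommGroup M] [Module P M] (ω : M)
    (hω : (1 : A) ⊗ₜ[P] ω = 0) :
    ω ∈ RingHom.ker (algebraMap P A) • (⊤ : Submodule P M) := by
  set I : Ideal P := RingHom.ker (algebraMap P A) with hI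
  let e₀ : (P ⧸ I) →ₗ[P] A :=
    Submodule.liftQ _ (Algebra.linearMap P A) (by
      intro y hy
      rw [LinearMap.mem_ker, Algebra.linearMap_apply]
      exact hy)
  have he₀ : Function.Bijective e₀ := by
    constructor
    · rw [← LinearMap.ker_eq_bot, Submodule.ker_liftQ, eq_bot_iff,
        Submodule.map_le_iff_le_comap]
      intro y hy
      have : algebraMap P A y = 0 := hy
      rw [Submodule.mem_comap, Submodule.mem_bot, Submodule.mkQ_apply,
        Submodule.Quotient.mk_eq_zero]
      exact this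
    · intro a
      obtain ⟨p, rfl⟩ := hsurj a
      exact ⟨Submodule.Quotient.mk p, rfl⟩
  let e : (P ⧸ I) ≃ₗ[P] A := LinearEquiv.ofBijective e₀ he₀
  have h1 : (LinearEquiv.rTensor M e) ((1 : P ⧸ I) ⊗ₜ[P] ω) = 0 := by
    rw [LinearEquiv.rTensor_tmul]
    have : e 1 = 1 := by
      show e₀ (Submodule.Quotient.mk 1) = 1
      exact (Submodule.liftQ_apply _ _ 1).trans (by simp)
    rw [this, hω]
  have h2 : (1 : P ⧸ I) ⊗ₜ[P] ω = 0 :=
    (LinearEquiv.rTensor M e).injective (by rw [h1, map_zero])
  have h3 : ω ∈ LinearMap.ker (TensorProduct.mk P (P ⧸ I) M 1) := h2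
  rwa [LinearMap.ker_tensorProductMk] at h3

/-- The final assertion, in the case where the base is a field. Let k be a field and A a k-algebra which
is a local complete intersection over k (of finite type, presented by a polynomial algebra in
finitely many variables with Koszul-regular kernel) and generically smooth over k, in the sense that
the localization of A at each of its minimal primes is formally smooth over k. Then H^1 of the naive
cotangent complex L_{A/k} vanishes: for the presentation A = P/I by the polynomial k-algebra P on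
the elements of A, the conormal map I/I² → Ω_{P/k} ⊗_P A is injective, so that L_{A/k} is
quasi-isomorphic to Ω_{A/k}. (The published statement is for a generically smooth syntomic morphism
over an arbitrary base, where it fails when the base has embedded points: over B = k[s,t]/(s², st)
with 2 invertible in k, the algebra B[x]/(x² − t) is a relative complete intersection, free of rank
two and smooth where x is invertible, yet the class of s·x·(x² − t) is a non-zero element of the
kernel of its conormal map. This row states the case of an algebra of finite type over a field.) -/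
theorem result (k : Type u) [Field k]
    (A : Type u) [CommRing A] [Algebra k A] (hlci : LCI.IsLCI k A)
    (hgs : ∀ (p : Ideal A) [p.IsPrime], p ∈ minimalPrimes A → Algebra.FormallySmooth k (Localization.AtPrime p)) :
    Subsingleton (Algebra.H1Cotangent k A) := by
  obtain ⟨-, n, f, hf, hK⟩ := hlci
  let P := MvPolynomial (Fin n) k
  algebraize [f.toRingHom]
  have : IsScalarTower k P A := .of_algebraMap_eq' f.comp_algebraMap.symm
  have hsurj : Function.Surjective (algebraMap P A) := hf
  rw [← Algebra.FormallySmooth.kerCotangentToTensor_injective_iff (R := k) (P := P) (A := A) hsurj]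
  set I : Ideal P := RingHom.ker (algebraMap P A) with hI
  have hIf : RingHom.ker f.toRingHom = I := rfl
  rw [injective_iff_map_eq_zero]
  intro z hz
  obtain ⟨⟨y, hy⟩, rfl⟩ := Ideal.toCotangent_surjective _ z
  rw [kerCotangentToTensor_toCotangent] at hz
  have hDy : D k P y ∈ I • (⊤ : Submodule P Ω[P⁄k]) :=
    mem_smul_top_of_one_tmul_eq_zero hsurj _ hz
  rw [Ideal.toCotangent_eq_zero]
  show y ∈ I ^ 2
  -- generic vanishing
  have hgen : ∀ 𝔭 ∈ I.minimalPrimes, ∃ s : P, s ∉ 𝔭 ∧ s * y ∈ I ^ 2 := by
    intro 𝔭 h𝔭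
    have h1 : I = (⊥ : Ideal A).comap f.toRingHom := rfl
    rw [h1, Ideal.comap_minimalPrimes_eq_of_surjective hf] at h𝔭
    obtain ⟨p, hp, rfl⟩ := h𝔭
    have hpp : p.IsPrime := hp.1.1
    have := hgs p hp
    exact exists_mul_mem_sq_of_formallySmooth k P A f hf p y hy hDy
  -- local-global
  refine Ideal.mem_of_localization_maximal fun 𝔮 h𝔮 => ?_
  have h𝔮p : 𝔮.IsPrime := h𝔮.isPrime
  by_cases hle : I ≤ 𝔮
  · obtain ⟨g, hg, l, hlK, hlspan⟩ := hK ⟨𝔮, h𝔮p⟩ hle
    let S := Localization.Away g
    let T := Localization.AtPrime 𝔮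
    have hgunit : IsUnit (algebraMap P T g) :=
      IsLocalization.map_units T (⟨g, hg⟩ : 𝔮.primeCompl)
    let φ : S →+* T := IsLocalization.Away.lift g hgunit
    algebraize [φ]
    have : IsScalarTower P S T :=
      .of_algebraMap_eq' (IsLocalization.Away.lift_comp g hgunit).symm
    have hpow : Submonoid.powers g ≤ 𝔮.primeCompl := by
      rintro _ ⟨m, rfl⟩
      exact 𝔮.primeCompl.pow_mem hg m
    have hlocST : IsLocalization (𝔮.primeCompl.map (algebraMap P S)) T :=
      IsLocalization.isLocalization_of_submonoid_le S T (Submonoid.powers g) 𝔮.primeCompl hpow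
    have h1S : CAlgX.IsH1Regular l.get :=
      Groth.Agent.Lib.Helper10.KoszulH1.isH1Regular_of_isKoszulRegularSeq l hlK
    have h1T : CAlgX.IsH1Regular (fun i => algebraMap S T (l.get i)) :=
      isH1Regular_of_isLocalization (𝔮.primeCompl.map (algebraMap P S)) l.get h1S
    have hspanT : Ideal.span (Set.range fun i => algebraMap S T (l.get i)) =
        I.map (algebraMap P T) := by
      have h2 : Set.range (fun i => algebraMap S T (l.get i)) =
          (algebraMap S T) '' {x | x ∈ l} := by
        ext x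
        constructor
        · rintro ⟨i, rfl⟩
          exact ⟨l.get i, List.get_mem l i, rfl⟩
        · rintro ⟨x, hx, rfl⟩
          obtain ⟨i, rfl⟩ := List.get_of_mem hx
          exact ⟨i, rfl⟩
      rw [h2, ← Ideal.map_span, ← hlspan, Ideal.map_map, ← IsScalarTower.algebraMap_eq]
      rfl
    have hmemT : ∀ i, algebraMap S T (l.get i) ∈ IsLocalRing.maximalIdeal T := by
      intro i
      have h3 : algebraMap S T (l.get i) ∈ I.map (algebraMap P T) := by
        rw [← hspanT]; exact Ideal.subset_span ⟨i, rfl⟩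
      have h4 : I.map (algebraMap P T) ≤ IsLocalRing.maximalIdeal T := by
        rw [← Localization.AtPrime.map_eq_maximalIdeal]
        exact Ideal.map_mono hle
      exact h4 h3
    exact algebraMap_mem_map_sq P T 𝔮.primeCompl I y _ hmemT h1T hspanT hy hgen
  · have hle2 : ¬ I ^ 2 ≤ 𝔮 := fun h => hle (h𝔮p.le_of_pow_le h)
    rw [IsLocalization.AtPrime.map_eq_top_of_not_le (S := Localization.AtPrime 𝔮) hle2]
    trivial

end Groth.Agent.S16713
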