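import Groth.Statements.S2189
-- import your own Groth.Agent.* helpers here
import Groth.Agent.Lib.Helper85.Vasc.Local
import Groth.Agent.Lib.Helper85.Vasc.Global
import Groth.Agent.Lib.Helper85.Vasc.Spread

set_option autoImplicit false
universe u
open CategoryTheory
open LCI

namespace Groth.Agent.S2189

/-- Let R be a Noetherian ring and I an ideal which has finite projective dimension as an R-module and
whose conormal module I/I^2 is finite locally free (projective) over R/I. Then I is a regular ideal:
for every prime p containing I there is g outside p such that the extension of I to R_g is generated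
by a regular sequence of R_g. -/
theorem result {R : Type u} [CommRing R]
    [IsNoetherianRing R] (I : Ideal R) (n : ℕ)
    (hpd : HasProjectiveDimensionLT (ModuleCat.of R I) n)
    [Module.Projective (R ⧸ I) I.Cotangent] (p : Ideal R) [p.IsPrime] (hIp : I ≤ p) :
    ∃ g : R, g ∉ p ∧ ∃ rs : List (Localization.Away g),
      RingTheory.Sequence.IsRegular (Localization.Away g) rs ∧
        Ideal.ofList rs = I.map (algebraMap R (Localization.Away g)) := by
  classical
  obtain ⟨N, a, ψ, hsd⟩ := Groth.Agent.Lib.Helper85.Vasc.exists_splitData_of_projective I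
  obtain ⟨ψ', hsd'⟩ := Groth.Agent.Lib.Helper85.Vasc.exists_splitData_localization
    p.primeCompl (Localization.AtPrime p) I N a ψ hsd
  have hpd' := Groth.Agent.Lib.Helper85.Vasc.hasProjectiveDimensionLT_map_atPrime I n hpd p
  have hJ : I.map (algebraMap R (Localization.AtPrime p)) ≠ ⊤ := by
    intro htop
    have h1 : (Ideal.map (algebraMap R (Localization.AtPrime p)) p) = ⊤ :=
      top_le_iff.mp (htop ▸ Ideal.map_mono hIp)
    rw [Localization.AtPrime.map_eq_maximalIdeal] at h1
    exact (IsLocalRing.maximalIdeal.isMaximal _).ne_top h1
  obtain ⟨rs', hreg, hrs'⟩ := Groth.Agent.Lib.Helper85.Vasc.vasc_local N (Localization.AtPrime p)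
    (I.map (algebraMap R (Localization.AtPrime p))) hJ (n + 1) hpd' _ ψ' hsd'
  exact Groth.Agent.Lib.Helper85.Vasc.exists_regular_away I p hIp rs' hreg.toIsWeaklyRegular hrs'

end Groth.Agent.S2189
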