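import Groth.Statements.S11268
-- import your own Groth.Agent.* helpers here

set_option autoImplicit false
open W4bk4grassmannian

namespace Groth.Agent.S11268

theorem val_le_apply {d n : ℕ} (a : Fin d → Fin n) (ha : StrictMono a) :
    ∀ (m : ℕ) (hm : m < d), m ≤ (a ⟨m, hm⟩).val := by
  intro m
  induction m with
  | zero => intro _; exact Nat.zero_le _
  | succ s ih =>
    intro hm
    have h1 := ih (Nat.lt_of_succ_lt hm)
    have h2 : a ⟨s, Nat.lt_of_succ_lt hm⟩ < a ⟨s + 1, hm⟩ := ha (by simp [Fin.lt_def])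
    have h3 : (a ⟨s, Nat.lt_of_succ_lt hm⟩).val < (a ⟨s + 1, hm⟩).val := h2
    omega

open W4bk4grassmannian in
/-- Let τ < w in I(d,n), the strictly increasing maps Fin d → Fin n ordered entrywise. Then there is a
Schubert divisor φ of w, i.e. φ < w with Σ_t (φ_t - t) + 1 = Σ_t (w_t - t), such that τ ≤ φ: every
proper Schubert subvariety of X(w) lies in a Schubert divisor of X(w). -/
theorem result (d n : ℕ) (τ w : Idx d n) (h : τ < w) :
    ∃ φ ∈ divisors w, τ ≤ φ := by
  obtain ⟨hle, hnle⟩ := h
  have hle' : ∀ s, τ.1 s ≤ w.1 s := hle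
  have hex : ∃ s : Fin d, τ.1 s < w.1 s := by
    by_contra hcon
    push Not at hcon
    exact hnle hcon
  -- minimal such index
  obtain ⟨t, ht, hmin⟩ : ∃ t : Fin d, τ.1 t < w.1 t ∧ ∀ s : Fin d, τ.1 s < w.1 s → t ≤ s := by
    classical
    let S : Finset (Fin d) := Finset.univ.filter fun s => τ.1 s < w.1 s
    have hS : S.Nonempty := by
      obtain ⟨s, hs⟩ := hex
      exact ⟨s, by simp [S, hs]⟩
    refine ⟨S.min' hS, ?_, ?_⟩
    · have := S.min'_mem hS
      simpa [S] using this
    · intro s hs
      exact S.min'_le s (by simp [S, hs])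
  have htv : (τ.1 t).val < (w.1 t).val := ht
  have htt : t.val ≤ (τ.1 t).val := val_le_apply τ.1 τ.2 t.val t.isLt
  have hwpos : 0 < (w.1 t).val := by omega
  -- the new entry
  let e : Fin n := ⟨(w.1 t).val - 1, by have := (w.1 t).isLt; omega⟩
  have hev : e.val = (w.1 t).val - 1 := rfl
  let φf : Fin d → Fin n := Function.update w.1 t e
  have hφt : φf t = e := Function.update_self _ _ _
  have hφne : ∀ s, s ≠ t → φf s = w.1 s := fun s hs => Function.update_of_ne hs _ _
  have heq_below : ∀ s : Fin d, s < t → τ.1 s = w.1 s := by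
    intro s hs
    apply le_antisymm (hle' s)
    by_contra hcon
    have : τ.1 s < w.1 s := lt_of_le_not_ge (hle' s) hcon
    exact absurd (hmin s this) (not_le.mpr hs)
  have hφmono : StrictMono φf := by
    intro a b hab
    by_cases ha : a = t
    · have hb : b ≠ t := by rintro rfl; exact absurd hab (by rw [ha]; exact lt_irrefl _)
      rw [ha, hφt, hφne b hb]
      have h1 : w.1 t < w.1 b := w.2 (by rw [← ha]; exact hab)
      have h2 : (w.1 t).val < (w.1 b).val := h1
      show e.val < (w.1 b).val
      omega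
    · by_cases hb : b = t
      · rw [hb, hφt, hφne a ha]
        have hat : a < t := by rw [← hb]; exact hab
        have h1 : τ.1 a = w.1 a := heq_below a hat
        have h2 : τ.1 a < τ.1 t := τ.2 hat
        have h3 : (τ.1 a).val < (τ.1 t).val := h2
        show (w.1 a).val < e.val
        rw [← h1]
        omega
      · rw [hφne a ha, hφne b hb]
        exact w.2 hab
  let φ : Idx d n := ⟨φf, hφmono⟩
  have hφle : φ ≤ w := by
    intro s
    by_cases hs : s = t
    · show φf s ≤ w.1 s
      rw [hs, hφt]
      show e.val ≤ (w.1 t).val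
      omega
    · show φf s ≤ w.1 s
      rw [hφne s hs]
  have hτφ : τ ≤ φ := by
    intro s
    by_cases hs : s = t
    · show τ.1 s ≤ φf s
      rw [hs, hφt]
      show (τ.1 t).val ≤ e.val
      omega
    · show τ.1 s ≤ φf s
      rw [hφne s hs]
      exact hle' s
  refine ⟨φ, ⟨⟨hφle, ?_⟩, ?_⟩, hτφ⟩
  · intro hcon
    have := hcon t
    have h2 : (w.1 t).val ≤ (φf t).val := this
    rw [hφt] at h2
    omega
  · unfold codeg
    rw [← Finset.add_sum_erase _ _ (Finset.mem_univ t), ← Finset.add_sum_erase _ _ (Finset.mem_univ t)]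
    have h1 : ∑ x ∈ Finset.univ.erase t, ((φ.1 x).val - x.val) =
        ∑ x ∈ Finset.univ.erase t, ((w.1 x).val - x.val) := by
      apply Finset.sum_congr rfl
      intro x hx
      have hx' : x ≠ t := Finset.ne_of_mem_erase hx
      show (φf x).val - x.val = _
      rw [hφne x hx']
    rw [h1]
    have h2 : (φ.1 t).val = (w.1 t).val - 1 := by
      show (φf t).val = _
      rw [hφt]
    rw [h2]
    omega

end Groth.Agent.S11268
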