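import Groth.Statements.S11254
import Mathlib
import Groth.Agent.Lib.Helper95.SMTCompare
import Groth.Agent.S11268
-- import your own Groth.Agent.* helpers here

set_option autoImplicit false
universe u
open W4bk4grassmannian Groth.Agent.Lib.Helper95.SMT

namespace Groth.Agent.S11254

open W4bk4grassmannian in
/-- Let K be an algebraically closed field, 0 < d < n, and I(d,n) the strictly increasing maps Fin d →
Fin n ordered entrywise; S = K[X_θ : θ ∈ I(d,n)] is the Plücker polynomial ring and, for τ ∈ I(d,n),
J(τ) ⊆ S is the ideal of polynomials vanishing at the d × d row-minors of every n × d matrix over K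
whose minors on rows φ ≰ τ are zero (the homogeneous ideal of the Schubert variety X(τ) ⊆ G(d,n)).
Let τ ∈ I(d,n) admit some φ < τ (X(τ) has positive dimension). Then J(τ) + (X_τ) = ⋂_φ J(φ), the
intersection over the Schubert divisors φ of τ, i.e. the φ < τ with Σ_t (φ_t - t) + 1 = Σ_t (τ_t -
t). (For the zero-dimensional Schubert variety there is no divisor and the left side is the
irrelevant ideal, so positive dimension is required at the level of ideals.) -/
theorem result (K : Type u) [Field K] [IsAlgClosed K]
    (d n : ℕ) (hd : 0 < d) (hdn : d < n) (τ : Idx d n) (hτ : ∃ φ : Idx d n, φ < τ) :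
    schubertVanishing K d n τ ⊔ Ideal.span {MvPolynomial.X τ} =
      ⨅ φ ∈ divisors τ, schubertVanishing K d n φ := by
  classical
  obtain ⟨φ₁, hφ₁⟩ := hτ
  obtain ⟨δ₁, hδ₁, -⟩ := Groth.Agent.S11268.result d n φ₁ τ hφ₁
  have hdivlt : ∀ φ ∈ divisors τ, φ < τ := fun φ hφ => hφ.1
  apply le_antisymm
  · refine sup_le ?_ ?_
    · refine le_iInf fun φ => le_iInf fun hφ => ?_
      exact schubertVanishing_mono K (le_of_lt (hdivlt φ hφ))
    · rw [Ideal.span_le]
      rintro _ rfl
      rw [SetLike.mem_coe, Ideal.mem_iInf]
      intro φ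
      rw [Ideal.mem_iInf]
      intro hφ
      exact X_mem_schubertVanishing K φ τ (not_le_of_gt (hdivlt φ hφ))
  · apply le_of_std_dichotomy K hd
    · intro i j r _
      exact Ideal.mem_sup_left
        (vanishing_le_schubertVanishing τ (shuffleRel_mem_vanishing i j r))
    · refine sup_le ?_ ?_
      · refine le_iInf fun φ => le_iInf fun hφ => ?_
        exact schubertVanishing_mono K (le_of_lt (hdivlt φ hφ))
      · rw [Ideal.span_le]
        rintro _ rfl
        rw [SetLike.mem_coe, Ideal.mem_iInf]
        intro φ
        rw [Ideal.mem_iInf]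
        intro hφ
        exact X_mem_schubertVanishing K φ τ (not_le_of_gt (hdivlt φ hφ))
    · intro m c hc
      by_cases h1 : ∀ k, c k ≤ τ
      · by_cases h2 : ∃ k, c k = τ
        · left
          obtain ⟨k, hk⟩ := h2
          apply Ideal.mem_sup_right
          unfold chainMon
          refine Ideal.mem_of_dvd _ (Finset.dvd_prod_of_mem _ (Finset.mem_univ k)) ?_
          rw [hk]
          exact Ideal.subset_span rfl
        · right
          push Not at h2
          rcases Nat.eq_zero_or_pos m with hm | hm
          · subst hm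
            exact ⟨δ₁, fun k => k.elim0, iInf₂_le δ₁ hδ₁⟩
          · have hlt : c ⟨0, hm⟩ < τ := lt_of_le_of_ne (h1 _) (h2 _)
            obtain ⟨δ, hδ, hle⟩ := Groth.Agent.S11268.result d n (c ⟨0, hm⟩) τ hlt
            refine ⟨δ, fun k => le_trans (hc (show (⟨0, hm⟩ : Fin m) ≤ k from Nat.zero_le _)) hle, iInf₂_le δ hδ⟩
      · left
        push Not at h1
        exact Ideal.mem_sup_left (chainMon_mem_schubertVanishing K τ c h1)

end Groth.Agent.S11254
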