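import Groth.Statements.S11275
import Groth.Agent.S6924
import Groth.Agent.Lib.Helper10.FittingMinors

set_option autoImplicit false
universe u
open W4bk4grassmannian

namespace Groth.Agent.S11275

open Groth.Agent.Lib.Helper10.Fitting MvPolynomial

theorem minors_rows_eq {R : Type u} [CommRing R] {n m : ℕ} (A : Matrix (Fin n) (Fin m) R)
    (p : ℕ) : Minors (Set.range fun i : Fin n => A i) p = CAlgX.minorIdeal A p := by
  unfold Minors CAlgX.minorIdeal
  congr 1
  ext d
  constructor
  · rintro ⟨z, e, hz, rfl⟩
    choose f hf using hz
    refine ⟨(f, e), ?_⟩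
    show Matrix.det (A.submatrix f e) = _
    rw [← Matrix.det_transpose]
    congr 1
    funext a b
    simp only [Matrix.transpose_apply, Matrix.submatrix_apply, Matrix.of_apply]
    rw [← hf b]
  · rintro ⟨⟨f, g⟩, rfl⟩
    refine ⟨fun b => A (f b), g, fun b => ⟨f b, rfl⟩, ?_⟩
    show Matrix.det (A.submatrix f g) = _
    rw [← Matrix.det_transpose]
    rfl

theorem minors_mono {R : Type u} [CommRing R] {ι : Type} [Fintype ι] [DecidableEq ι]
    (S : Set (ι → R)) {p q : ℕ} (hpq : p ≤ q) (hq : q ≤ Fintype.card ι) :
    Minors S q ≤ Minors S p := by
  rw [← Groth.Agent.S6924.fitt_quotient_span S q (Fintype.card ι - q) (by omega),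
    ← Groth.Agent.S6924.fitt_quotient_span S p (Fintype.card ι - p) (by omega)]
  exact fitt_mono (by omega)

theorem cellMinor_mem (K : Type u) [CommRing K] (d r t : ℕ) (hd : 0 < d) (ht : 0 < t)
    (htd : t ≤ d) (θ : Idx d (d + r))
    (hθ : d ≤ (θ.1 ⟨d - t, Nat.sub_lt hd ht⟩).val) :
    cellMinor K d r θ ∈ CAlgX.minorIdeal (genMatrix K r d) t := by
  classical
  rw [← minors_rows_eq]
  set S := Set.range fun i : Fin r => (genMatrix K r d) i with hS
  set N : Matrix (Fin d) (Fin d) (CellRing K d r) := (cellMatrix K d r).submatrix θ.1 id with hN
  set T' := Finset.univ.filter (fun a : Fin d => (θ.1 a).val < d) with hT'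
  have hk : T'.card ≤ d - t := by
    have hsub : T' ⊆ Finset.Iio (⟨d - t, Nat.sub_lt hd ht⟩ : Fin d) := by
      intro a ha
      rw [hT', Finset.mem_filter] at ha
      rw [Finset.mem_Iio]
      by_contra hcon
      have h1 : θ.1 ⟨d - t, Nat.sub_lt hd ht⟩ ≤ θ.1 a := θ.2.monotone (not_lt.mp hcon)
      have h2 := Fin.le_def.mp h1
      omega
    refine le_trans (Finset.card_le_card hsub) ?_
    rw [Fin.card_Iio]
  have hmem : N.det ∈ Minors S (d - T'.card) := by
    apply det_mem_Minors_of_unit_rows S (d - T'.card) T'.card
      (by rw [Fintype.card_fin]; omega) N T' rfl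
      (fun a => if h : (θ.1 a).val < d then ⟨(θ.1 a).val, h⟩ else a)
    · intro a ha
      rw [hT', Finset.mem_filter] at ha
      funext j
      simp only [hN, Matrix.submatrix_apply, cellMatrix, Matrix.of_apply, id_eq, dif_pos ha.2,
        Pi.single_apply, Fin.ext_iff]
      by_cases h : (θ.1 a).val = j.val
      · rw [if_pos h, if_pos h.symm]
      · rw [if_neg h, if_neg (fun h' => h h'.symm)]
    · intro a ha
      have h : ¬ (θ.1 a).val < d := by
        intro h
        exact ha (by rw [hT', Finset.mem_filter]; exact ⟨Finset.mem_univ _, h⟩)
      refine ⟨⟨(θ.1 a).val - d, by have := (θ.1 a).isLt; omega⟩, ?_⟩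
      funext j
      simp only [hN, Matrix.submatrix_apply, cellMatrix, Matrix.of_apply, id_eq, dif_neg h,
        genMatrix]
  exact minors_mono S (by omega) (by rw [Fintype.card_fin]; omega) hmem

theorem minor_mem_span (K : Type u) [CommRing K] (d r t : ℕ) (hd : 0 < d) (ht : 0 < t)
    (htd : t ≤ d) (f : Fin t → Fin r) (g : Fin t → Fin d) :
    ((genMatrix K r d).submatrix f g).det ∈
      Ideal.span {f : CellRing K d r | ∃ θ : Idx d (d + r),
        d ≤ (θ.1 ⟨d - t, Nat.sub_lt hd ht⟩).val ∧ f = cellMinor K d r θ} := by
  classical
  by_cases hg : Function.Injective g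
  · by_cases hf : Function.Injective f
    · let w : Fin d → Fin (d + r) := fun i =>
        if h : ∃ b, g b = i then Fin.natAdd d (f (Classical.choose h)) else Fin.castAdd r i
      have hw1 : ∀ b, w (g b) = Fin.natAdd d (f b) := by
        intro b
        have h : ∃ b', g b' = g b := ⟨b, rfl⟩
        show (if h : ∃ b', g b' = g b then Fin.natAdd d (f (Classical.choose h))
          else Fin.castAdd r (g b)) = _
        rw [dif_pos h]
        congr 2
        exact hg (Classical.choose_spec h)
      have hw2 : ∀ i, (¬ ∃ b, g b = i) → w i = Fin.castAdd r i := by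
        intro i hi
        show (if h : ∃ b', g b' = i then Fin.natAdd d (f (Classical.choose h))
          else Fin.castAdd r i) = _
        rw [dif_neg hi]
      have hwinj : Function.Injective w := by
        intro i i' hii'
        by_cases hi : ∃ b, g b = i
        · obtain ⟨b, rfl⟩ := hi
          by_cases hi' : ∃ b', g b' = i'
          · obtain ⟨b', rfl⟩ := hi'
            rw [hw1, hw1] at hii'
            have := Fin.natAdd_injective _ _ hii'
            rw [hf this]
          · rw [hw1, hw2 _ hi'] at hii'
            have := congrArg Fin.val hii'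
            simp only [Fin.val_natAdd, Fin.val_castAdd] at this
            have := i'.isLt
            omega
        · by_cases hi' : ∃ b', g b' = i'
          · obtain ⟨b', rfl⟩ := hi'
            rw [hw1, hw2 _ hi] at hii'
            have := congrArg Fin.val hii'
            simp only [Fin.val_natAdd, Fin.val_castAdd] at this
            have := i.isLt
            omega
          · rw [hw2 _ hi, hw2 _ hi'] at hii'
            exact Fin.castAdd_injective _ _ hii'
      set v : Matrix (Fin d) (Fin d) (CellRing K d r) := (cellMatrix K d r).submatrix w id with hv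
      have hv1 : ∀ b j, v (g b) j = genMatrix K r d (f b) j := by
        intro b j
        have hnlt : ¬ (Fin.natAdd d (f b)).val < d := by
          simp only [Fin.val_natAdd]
          omega
        simp only [hv, Matrix.submatrix_apply, id_eq, hw1, cellMatrix, Matrix.of_apply,
          dif_neg hnlt, genMatrix]
        congr 2
        ext
        simp only [Fin.val_natAdd]
        omega
      have hv2 : ∀ i, (¬ ∃ b, g b = i) → v i = Pi.single i 1 := by
        intro i hi
        funext j
        simp only [hv, Matrix.submatrix_apply, id_eq, hw2 i hi, cellMatrix, Matrix.of_apply,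
          Fin.val_castAdd, dif_pos i.isLt, Pi.single_apply, Fin.ext_iff]
        by_cases h : i.val = j.val
        · rw [if_pos h, if_pos h.symm]
        · rw [if_neg h, if_neg (fun h' => h h'.symm)]
      have hpmi := det_eq_det_submatrix_of_unit_rows v (fun i => ¬ ∃ b, g b = i) hv2
      let ρ : Fin t ≃ {i // ¬ ¬ ∃ b, g b = i} :=
        Equiv.ofBijective (fun b => ⟨g b, not_not.mpr ⟨b, rfl⟩⟩) (by
          constructor
          · intro a a' h
            exact hg (congrArg Subtype.val h)
          · rintro ⟨i, hi⟩
            obtain ⟨a, rfl⟩ := not_not.mp hi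
            exact ⟨a, rfl⟩)
      have hdetρ : ((v.submatrix (Subtype.val : {i // ¬ ¬ ∃ b, g b = i} → Fin d)
          Subtype.val).submatrix ρ ρ).det =
          (v.submatrix (Subtype.val : {i // ¬ ¬ ∃ b, g b = i} → Fin d) Subtype.val).det :=
        Matrix.det_submatrix_equiv_self ρ _
      have heq : (genMatrix K r d).submatrix f g =
          ((v.submatrix (Subtype.val : {i // ¬ ¬ ∃ b, g b = i} → Fin d) Subtype.val).submatrix
            ρ ρ) := by
        refine Matrix.ext fun a b => ?_
        show genMatrix K r d (f a) (g b) = v (g a) (g b)
        rw [hv1]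
      rw [heq, hdetρ, ← hpmi]
      -- now sort
      have hcard : (Finset.univ.image w).card = d := by
        rw [Finset.card_image_of_injective _ hwinj, Finset.card_univ, Fintype.card_fin]
      let θ : Fin d ↪o Fin (d + r) := (Finset.univ.image w).orderEmbOfFin hcard
      have hex : ∀ i, ∃ a, θ a = w i := by
        intro i
        have h1 : w i ∈ Set.range θ := by
          rw [Finset.range_orderEmbOfFin]
          exact Finset.mem_coe.mpr (Finset.mem_image_of_mem w (Finset.mem_univ i))
        exact h1
      choose π hπ using hex
      have hπinj : Function.Injective π := by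
        intro i i' h
        apply hwinj
        rw [← hπ i, ← hπ i', h]
      let πe : Equiv.Perm (Fin d) := Equiv.ofBijective π (Finite.injective_iff_bijective.mp hπinj)
      have hπe : ∀ i, θ (πe i) = w i := hπ
      have hcond : d ≤ (θ ⟨d - t, Nat.sub_lt hd ht⟩).val := by
        by_contra hcon
        have hle : (Finset.Iic (⟨d - t, Nat.sub_lt hd ht⟩ : Fin d)).card ≤
            ((Finset.univ.image g)ᶜ).card := by
          apply Finset.card_le_card_of_injOn (fun a => πe.symm a)
          · intro a ha
            have ha' : a ≤ ⟨d - t, Nat.sub_lt hd ht⟩ := Finset.mem_Iic.mp (Finset.mem_coe.mp ha)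
            rw [Finset.mem_coe, Finset.mem_compl, Finset.mem_image]
            rintro ⟨b, -, hb⟩
            change g b = πe.symm a at hb
            have h1 : θ a = w (πe.symm a) := by
              rw [← hπe, Equiv.apply_symm_apply]
            rw [← hb, hw1] at h1
            have h2 : θ a ≤ θ ⟨d - t, Nat.sub_lt hd ht⟩ := θ.monotone ha'
            have h3 := Fin.le_def.mp h2
            rw [h1] at h3
            simp only [Fin.val_natAdd] at h3
            omega
          · exact πe.symm.injective.injOn
        simp only [Finset.card_compl, Finset.card_image_of_injective _ hg, Finset.card_univ,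
          Fintype.card_fin, Fin.card_Iic] at hle
        omega
      have hvθ : v = ((cellMatrix K d r).submatrix θ id).submatrix πe id := by
        ext i j
        simp only [hv, Matrix.submatrix_apply, id_eq]
        rw [hπe]
      rw [hvθ, Matrix.det_permute]
      apply Ideal.mul_mem_left
      apply Ideal.subset_span
      exact ⟨⟨θ, θ.strictMono⟩, hcond, rfl⟩
    · rw [Function.Injective] at hf
      simp only [not_forall] at hf
      obtain ⟨a, a', hfa, hne⟩ := hf
      have h0 : ((genMatrix K r d).submatrix f g).det = 0 := by
        apply Matrix.det_zero_of_row_eq hne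
        funext b
        simp only [Matrix.submatrix_apply, hfa]
      rw [h0]
      exact zero_mem _
  · rw [Function.Injective] at hg
    simp only [not_forall] at hg
    obtain ⟨a, a', hga, hne⟩ := hg
    have h0 : ((genMatrix K r d).submatrix f g).det = 0 := by
      apply Matrix.det_zero_of_column_eq hne
      intro b
      simp only [Matrix.submatrix_apply, hga]
    rw [h0]
    exact zero_mem _

open W4bk4grassmannian in
/-- Ideal-theoretic form; determinantal ideals as ideals of opposite cells of Schubert varieties: let K
be a commutative ring, d, r ≥ 1, 1 ≤ t ≤ min(d, r), Z the generic r × d matrix over K[z_{ij}] and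
[I_d ; Z] the (d + r) × d matrix with the identity block on top. For θ ∈ I(d, d + r) let q_θ be the
d × d minor of [I_d ; Z] on the rows θ (the Plücker coordinate p_θ on the opposite big cell). Then
the ideal generated by the q_θ with θ_{d-t} ≥ d (0-indexed; these are the θ not below the index φ =
(t-1, …, d-1, d+r+1-t, …, d+r-1) of the Schubert variety whose opposite cell is D_t) equals the
ideal generated by the t × t minors of Z. (The published statement is over an algebraically closed
field and identifies the determinantal variety D_t with the opposite cell of the Schubert variety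
X(φ); this row states the equality of ideals behind that identification, over any commutative ring
K.) -/
theorem result (K : Type u) [CommRing K] (d r t : ℕ) (hd : 0 < d)
    (ht : 0 < t) (htd : t ≤ d) (htr : t ≤ r) :
    Ideal.span {f : CellRing K d r | ∃ θ : Idx d (d + r),
        d ≤ (θ.1 ⟨d - t, Nat.sub_lt hd ht⟩).val ∧ f = cellMinor K d r θ} =
      CAlgX.minorIdeal (genMatrix K r d) t := by
  apply le_antisymm
  · rw [Ideal.span_le]
    rintro _ ⟨θ, hθ, rfl⟩
    exact cellMinor_mem K d r t hd ht htd θ hθ
  · unfold CAlgX.minorIdeal
    rw [Ideal.span_le]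
    rintro _ ⟨⟨f, g⟩, rfl⟩
    exact minor_mem_span K d r t hd ht htd f g

end Groth.Agent.S11275
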