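import Groth.Statements.S11250
import Mathlib
import Groth.Agent.Lib.Helper95.SMTIndep
-- import your own Groth.Agent.* helpers here

set_option autoImplicit false
universe u
open W4bk4grassmannian Groth.Agent.Lib.Helper95.SMT

namespace Groth.Agent.S11250

open W4bk4grassmannian in
/-- The shuffle relations together with the vanishing coordinates generate the homogeneous ideal of a
Schubert variety: let K be an algebraically closed field, 0 < d < n, and I(d,n) the strictly
increasing maps Fin d → Fin n ordered entrywise; S = K[X_θ : θ ∈ I(d,n)] is the Plücker polynomial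
ring and, for τ ∈ I(d,n), J(τ) ⊆ S is the ideal of polynomials vanishing at the d × d row-minors of
every n × d matrix over K whose minors on rows φ ≰ τ are zero (the homogeneous ideal of the Schubert
variety X(τ) ⊆ G(d,n)). Then the ideal I(τ) generated by the quadratic shuffle relations at pivots
(for i, j ∈ I(d,n) and r with j_t ≤ i_t for t < r and i_r < j_r, the signed sum over all shuffles of
the rows i_0, …, i_r, j_r, …, j_{d-1}) together with the variables X_φ, φ ≰ τ, is equal to J(τ). For
τ the largest element this says that the shuffle relations generate the homogeneous ideal of the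
Grassmannian G(d,n). -/
theorem result (K : Type u) [Field K] [IsAlgClosed K] (d n : ℕ)
    (hd : 0 < d) (hdn : d < n) (τ : Idx d n) :
    plIdeal K τ = schubertVanishing K d n τ := by
  classical
  have hsub : plIdeal K τ ≤ schubertVanishing K d n τ := by
    unfold plIdeal
    rw [Ideal.span_le]
    rintro f (⟨i, j, r, -, rfl⟩ | ⟨φ, hφ, rfl⟩)
    · exact vanishing_le_schubertVanishing τ (shuffleRel_mem_vanishing i j r)
    · exact X_mem_schubertVanishing K τ φ hφ
  apply le_antisymm hsub
  intro p hp
  have hI : ∀ (i j : Idx d n) (r : Fin d), IsPivot i j r → shuffleRel K i j r ∈ plIdeal K τ := by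
    intro i j r hr
    exact Ideal.subset_span (Or.inl ⟨i, j, r, hr, rfl⟩)
  have htop := span_stdSet_eq_top K (plIdeal K τ) hI
  have hmem : Ideal.Quotient.mk (plIdeal K τ) p ∈ Submodule.span K (stdSet K (plIdeal K τ)) := by
    rw [htop]; trivial
  unfold stdSet at hmem
  rw [Finsupp.mem_span_range_iff_exists_finsupp] at hmem
  obtain ⟨c, hc⟩ := hmem
  rw [Finsupp.sum] at hc
  set q : PlRing K d n := ∑ x ∈ c.support, c x • chainMon K x.2.1 with hq
  have hpq : p - q ∈ plIdeal K τ := by
    rw [← Ideal.Quotient.eq, ← hc, hq, ← Ideal.Quotient.mkₐ_eq_mk K, map_sum]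
    refine Finset.sum_congr rfl fun x _ => ?_
    rw [map_smul]
  have hqJ : q ∈ schubertVanishing K d n τ := by
    have := (schubertVanishing K d n τ).sub_mem hp (hsub hpq)
    rwa [sub_sub_cancel] at this
  -- all chains in the support fail to be below τ
  have hnot : ∀ x ∈ c.support, ∃ k, ¬ x.2.1 k ≤ τ := by
    intro x hx
    by_contra hcon
    push Not at hcon
    have h0 := coeff_eq_zero_of_mem_schubertVanishing K hd τ c.support (fun x => c x)
      (fun x => ⟨x.1, x.2.1⟩) (fun x _ => x.2.2)
      (by
        intro x _ y _ hxy
        obtain ⟨m, c, hc⟩ := x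
        obtain ⟨m', c', hc'⟩ := y
        simp only [Sigma.mk.injEq] at hxy
        obtain ⟨rfl, h2⟩ := hxy
        have := eq_of_heq h2
        subst this
        rfl)
      hqJ x hx hcon
    exact (Finsupp.mem_support_iff.mp hx) h0
  have hqI : q ∈ plIdeal K τ := by
    rw [hq]
    refine Ideal.sum_mem _ fun x hx => ?_
    obtain ⟨k, hk⟩ := hnot x hx
    rw [MvPolynomial.smul_eq_C_mul]
    apply Ideal.mul_mem_left
    unfold chainMon
    exact Ideal.mem_of_dvd _ (Finset.dvd_prod_of_mem _ (Finset.mem_univ k))
      (Ideal.subset_span (Or.inr ⟨x.2.1 k, hk, rfl⟩))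
  have := (plIdeal K τ).add_mem hpq hqI
  rwa [sub_add_cancel] at this

end Groth.Agent.S11250
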