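import Groth.Statements.S13441
import Groth.Agent.Lib.Helper68.MonomialIdeal

set_option autoImplicit false
universe u
open W4c1hilbpn

namespace Groth.Agent.S13441

open W4c1hilbpn in
/-- Let k be an infinite field, S = k[x,y,z] with variables ordered x > y > z, and I a strongly stable
ideal of finite colength, with staircase numbers b^z_{i,j} = the number of c with x^i y^j z^c
outside I and b^y_{i,j} = the number of b with x^i y^b z^j outside I. Then b^z_{i+1,j} ≤ b^z_{i,j+1}
and b^y_{i+1,j} ≤ b^y_{i,j+1} for all i and j (equivalently the maximum of the two neighbouring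
staircase numbers is the second one). -/
theorem result (k : Type u) [Field k] [Infinite k]
    (I : Ideal (MvPolynomial (Fin 3) k)) (hI : IsStronglyStable I) [Module.Finite k (MvPolynomial (Fin 3) k ⧸ I)] (i j : ℕ) :
    stairZ I (i + 1) j ≤ stairZ I i (j + 1) ∧ stairY I (i + 1) j ≤ stairY I i (j + 1) := by
  classical
  have hfin := Groth.Agent.Lib.Helper68.finite_not_mem_exps I hI.1
  -- `e3` is injective in each of the last two arguments
  have he3c : ∀ a b : ℕ, Function.Injective (fun c => e3 a b c) := by
    intro a b c c' h
    have := congrArg (fun β : Fin 3 →₀ ℕ => β 2) h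
    simpa [e3] using this
  have he3b : ∀ a c : ℕ, Function.Injective (fun b => e3 a b c) := by
    intro a c b b' h
    have := congrArg (fun β : Fin 3 →₀ ℕ => β 1) h
    simpa [e3] using this
  constructor
  · -- the `z`-staircase
    have hfinZ : {c : ℕ | e3 i (j + 1) c ∉ exps I}.Finite :=
      (hfin.preimage (he3c i (j + 1)).injOn)
    have hsub : {c : ℕ | e3 (i + 1) j c ∉ exps I} ⊆ {c : ℕ | e3 i (j + 1) c ∉ exps I} := by
      intro c hc hmem
      apply hc
      have := hI.2 (e3 i (j + 1) c) hmem 0 1 (by decide) (by simp [e3])
      convert this using 1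
      ext t
      simp only [Finsupp.coe_add, Finsupp.coe_tsub, Pi.add_apply, Pi.sub_apply,
        Finsupp.single_apply, e3, Finsupp.equivFunOnFinite_symm_apply_apply]
      fin_cases t <;> simp
    exact Nat.card_mono hfinZ hsub
  · have hfinY : {b : ℕ | e3 i b (j + 1) ∉ exps I}.Finite :=
      (hfin.preimage (he3b i (j + 1)).injOn)
    have hsub : {b : ℕ | e3 (i + 1) b j ∉ exps I} ⊆ {b : ℕ | e3 i b (j + 1) ∉ exps I} := by
      intro b hb hmem
      apply hb
      have := hI.2 (e3 i b (j + 1)) hmem 0 2 (by decide) (by simp [e3])
      convert this using 1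
      ext t
      simp only [Finsupp.coe_add, Finsupp.coe_tsub, Pi.add_apply, Pi.sub_apply,
        Finsupp.single_apply, e3, Finsupp.equivFunOnFinite_symm_apply_apply]
      fin_cases t <;> simp
    exact Nat.card_mono hfinY hsub

end Groth.Agent.S13441
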