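import Groth.Statements.S13453
-- import your own Groth.Agent.* helpers here

set_option autoImplicit false
universe u
open W4c1hilbpn

namespace Groth.Agent.S13453

open MvPolynomial in
theorem mem_sliceX_iff {k : Type u} [Field k] (I : Ideal (MvPolynomial (Fin 3) k)) (a : ℕ)
    (f : MvPolynomial (Fin 2) k) :
    f ∈ sliceX I a ↔ rename Fin.succ f * X 0 ^ a ∈ I := by
  unfold sliceX
  rw [Ideal.mem_comap, Submodule.mem_colon_singleton, smul_eq_mul]
  rfl

open MvPolynomial in
/-- coefficient of the shifted monomial in `rename f * x^a` -/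
theorem coeff_shift {k : Type u} [Field k] (a : ℕ) (f : MvPolynomial (Fin 2) k)
    (β : Fin 2 →₀ ℕ) :
    coeff (β.mapDomain Fin.succ + Finsupp.single 0 a)
      (rename Fin.succ f * (X 0 : MvPolynomial (Fin 3) k) ^ a) = coeff β f := by
  rw [X_pow_eq_monomial, coeff_mul_monomial, mul_one,
    coeff_rename_mapDomain _ (Fin.succ_injective 2)]

open MvPolynomial in
theorem monomial_shift {k : Type u} [Field k] (a : ℕ) (β : Fin 2 →₀ ℕ) (c : k) :
    rename Fin.succ (monomial β c) * (X 0 : MvPolynomial (Fin 3) k) ^ a =
      monomial (β.mapDomain Fin.succ + Finsupp.single 0 a) c := by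
  rw [rename_monomial, X_pow_eq_monomial, monomial_mul, mul_one]

open MvPolynomial in
/-- In a monomial ideal, membership of `rename f * x^a` is tested on the monomials of `f`. -/
theorem shift_mem_iff {k : Type u} [Field k] (I : Ideal (MvPolynomial (Fin 3) k))
    (hI : IsMonomial I) (a : ℕ) (f : MvPolynomial (Fin 2) k) :
    rename Fin.succ f * (X 0 : MvPolynomial (Fin 3) k) ^ a ∈ I ↔
      ∀ β ∈ f.support, monomial (β.mapDomain Fin.succ + Finsupp.single 0 a) (1 : k) ∈ I := by
  constructor
  · intro h β hβ
    apply hI _ h
    rw [mem_support_iff, coeff_shift]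
    exact mem_support_iff.mp hβ
  · intro h
    have hf : rename Fin.succ f * (X 0 : MvPolynomial (Fin 3) k) ^ a =
        ∑ β ∈ f.support, monomial (β.mapDomain Fin.succ + Finsupp.single 0 a) (coeff β f) := by
      conv_lhs => rw [f.as_sum]
      rw [map_sum, Finset.sum_mul]
      exact Finset.sum_congr rfl fun β _ => monomial_shift a β _
    rw [hf]
    refine sum_mem fun β hβ => ?_
    have : monomial (β.mapDomain Fin.succ + Finsupp.single 0 a) (coeff β f) =
        C (coeff β f) * monomial (β.mapDomain Fin.succ + Finsupp.single 0 a) (1 : k) := by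
      rw [C_mul_monomial, mul_one]
    rw [this]
    exact Ideal.mul_mem_left _ _ (h β hβ)

open W4c1hilbpn in
/-- Let k be an infinite field, S = k[x,y,z] with variables ordered x > y > z, and I a strongly stable
ideal of finite colength; write I_i for the ideal of polynomials f in k[y,z] with x^i f in I (so I
is the direct sum of the x^i I_i). Then each I_i is a strongly stable ideal of k[y,z] (with y > z)
and the ideal quotient (I_i : y) is contained in I_{i+1}. -/
theorem result (k : Type u) [Field k] [Infinite k]
    (I : Ideal (MvPolynomial (Fin 3) k)) (hI : IsStronglyStable I) [Module.Finite k (MvPolynomial (Fin 3) k ⧸ I)] (i : ℕ) :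
    IsStronglyStable (sliceX I i) ∧
      (sliceX I i).colon {(MvPolynomial.X 0 : MvPolynomial (Fin 2) k)} ≤ sliceX I (i + 1) := by
  classical
  obtain ⟨hmon, hstab⟩ := hI
  have hmonS : ∀ a : ℕ, IsMonomial (sliceX I a) := by
    intro a p hp β hβ
    rw [mem_sliceX_iff] at hp ⊢
    rw [shift_mem_iff I hmon] at hp
    rw [monomial_shift]
    exact hp β hβ
  refine ⟨⟨hmonS i, ?_⟩, ?_⟩
  · intro β hβ i' j' hij hβj
    have hβ' : MvPolynomial.monomial β (1 : k) ∈ sliceX I i := hβ
    rw [mem_sliceX_iff, monomial_shift] at hβ'
    have h1 := hstab _ hβ' (Fin.succ i') (Fin.succ j') (Fin.succ_lt_succ_iff.mpr hij) (by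
      rw [Finsupp.add_apply, Finsupp.mapDomain_apply (Fin.succ_injective 2)]
      omega)
    show MvPolynomial.monomial (β - Finsupp.single j' 1 + Finsupp.single i' 1) (1 : k) ∈ sliceX I i
    rw [mem_sliceX_iff, monomial_shift]
    have heq : (β - Finsupp.single j' 1 + Finsupp.single i' 1).mapDomain Fin.succ +
        Finsupp.single 0 i =
        β.mapDomain Fin.succ + Finsupp.single 0 i - Finsupp.single (Fin.succ j') 1 +
          Finsupp.single (Fin.succ i') 1 := by
      have hβ1 : β = (β - Finsupp.single j' 1) + Finsupp.single j' 1 := by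
        ext x
        simp only [Finsupp.add_apply, Finsupp.tsub_apply, Finsupp.single_apply]
        split_ifs with h
        · subst h; omega
        · omega
      conv_rhs => rw [hβ1]
      rw [Finsupp.mapDomain_add, Finsupp.mapDomain_add, Finsupp.mapDomain_single,
        Finsupp.mapDomain_single]
      ext x
      simp only [Finsupp.add_apply, Finsupp.tsub_apply]
      omega
    rw [heq]
    exact h1
  · intro f hf
    rw [Submodule.mem_colon_singleton, smul_eq_mul, mem_sliceX_iff] at hf
    rw [mem_sliceX_iff, shift_mem_iff I hmon]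
    intro β hβ
    -- the monomial `x^i * y * m_β` lies in `I`
    have hsupp : β + Finsupp.single 0 1 ∈ (f * MvPolynomial.X 0).support := by
      rw [MvPolynomial.mem_support_iff, MvPolynomial.coeff_mul_X]
      exact MvPolynomial.mem_support_iff.mp hβ
    have h1 := (shift_mem_iff I hmon i (f * MvPolynomial.X 0)).mp hf _ hsupp
    have h2 := hstab _ h1 0 1 (by decide) (by
      rw [Finsupp.add_apply, Finsupp.mapDomain_add, Finsupp.add_apply,
        Finsupp.mapDomain_single]
      simp)
    have heq : β.mapDomain Fin.succ + Finsupp.single 0 (i + 1) =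
        (β + Finsupp.single 0 1).mapDomain Fin.succ + Finsupp.single 0 i -
          Finsupp.single 1 1 + Finsupp.single 0 1 := by
      rw [Finsupp.mapDomain_add, Finsupp.mapDomain_single, Finsupp.single_add]
      ext x
      simp only [Finsupp.add_apply, Finsupp.tsub_apply]
      have : (Fin.succ (0 : Fin 2) : Fin 3) = 1 := rfl
      rw [this]
      omega
    rw [heq]
    exact h2

end Groth.Agent.S13453
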