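import Mathlib
import Groth.Statements.S14384

set_option autoImplicit false
universe u
open CAlg

namespace Groth.Agent.S14384

open KaehlerDifferential

theorem result (V : Type u) [CommRing V] [IsDomain V] [IsDiscreteValuationRing V] [CharZero V]
    (ϖ : V) (hϖ : Irreducible ϖ) (p : ℕ) [Fact p.Prime] [CharP (IsLocalRing.ResidueField V) p]
    [PerfectField (IsLocalRing.ResidueField V)]
    (R : Type u) [CommRing R] [Algebra V R] [Algebra.FiniteType V R] (d n : ℕ) (x' : Fin d → R)
    (hx' : Ideal.span {((p : R)) ^ n} • (⊤ : Submodule R (Ω[R⁄V])) ≤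
      Ideal.span {algebraMap V R ϖ * (p : R) ^ n} • (⊤ : Submodule R (Ω[R⁄V])) ⊔
        Submodule.span R (Set.range fun i => KaehlerDifferential.D V R (x' i)))
    (y : Fin d → R) (hy : ∀ i, y i ∈ Subring.closure (Set.range fun r : R => r ^ (p ^ (n + 1)))) :
    Ideal.span {((p : R)) ^ n} • (⊤ : Submodule R (Ω[R⁄V])) ≤
      Ideal.span {algebraMap V R ϖ * (p : R) ^ n} • (⊤ : Submodule R (Ω[R⁄V])) ⊔
        Submodule.span R (Set.range fun i => KaehlerDifferential.D V R (x' i + y i)) := by
  -- `p ∈ (ϖ)` in `V`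
  have hpV : (p : V) ∈ Ideal.span {ϖ} := by
    rw [← hϖ.maximalIdeal_eq, ← IsLocalRing.residue_eq_zero_iff, map_natCast]
    exact CharP.cast_eq_zero _ p
  obtain ⟨u, hu⟩ := Ideal.mem_span_singleton'.mp hpV
  have hpR : (p : R) = algebraMap V R ϖ * algebraMap V R u := by
    rw [← map_mul, mul_comm, hu, map_natCast]
  -- the submodule `p^(n+1) Ω`
  set P : Submodule R (Ω[R⁄V]) := Ideal.span {((p : R)) ^ (n + 1)} • ⊤ with hP
  have hPle : P ≤ Ideal.span {algebraMap V R ϖ * (p : R) ^ n} • (⊤ : Submodule R (Ω[R⁄V])) := by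
    apply Submodule.smul_mono_left
    rw [Ideal.span_singleton_le_span_singleton]
    refine ⟨algebraMap V R u, ?_⟩
    rw [pow_succ, hpR]
    ring
  have hmemP : ∀ (a : R) (m : Ω[R⁄V]), ((p : R) ^ (n + 1) * a) • m ∈ P := by
    intro a m
    rw [mul_smul]
    exact Submodule.smul_mem_smul (Ideal.mem_span_singleton_self _) Submodule.mem_top
  have hD : ∀ z ∈ Subring.closure (Set.range fun r : R => r ^ (p ^ (n + 1))),
      D V R z ∈ P := by
    intro z hz
    induction hz using Subring.closure_induction with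
    | mem z hz =>
      obtain ⟨r, rfl⟩ := hz
      rw [Derivation.leibniz_pow]
      have : (p ^ (n + 1)) • r ^ (p ^ (n + 1) - 1) • (D V R) r =
          ((p : R) ^ (n + 1) * r ^ (p ^ (n + 1) - 1)) • (D V R) r := by
        rw [mul_smul, ← Nat.cast_pow, Nat.cast_smul_eq_nsmul]
      rw [this]
      exact hmemP _ _
    | zero => rw [map_zero]; exact zero_mem _
    | one => rw [Derivation.map_one_eq_zero]; exact zero_mem _
    | add a b _ _ ha hb => rw [map_add]; exact add_mem ha hb
    | neg a _ ha => rw [map_neg]; exact neg_mem ha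
    | mul a b _ _ ha hb =>
      rw [Derivation.leibniz]
      exact add_mem (Submodule.smul_mem _ _ hb) (Submodule.smul_mem _ _ ha)
  refine hx'.trans (sup_le le_sup_left ?_)
  rw [Submodule.span_le]
  rintro _ ⟨i, rfl⟩
  have h1 : D V R (x' i) = D V R (x' i + y i) - D V R (y i) := by
    rw [map_add]; abel
  change D V R (x' i) ∈ _
  rw [h1]
  refine sub_mem ?_ ?_
  · exact Submodule.mem_sup_right (Submodule.subset_span ⟨i, rfl⟩)
  · exact Submodule.mem_sup_left (hPle (hD _ (hy i)))

end Groth.Agent.S14384
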