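import Groth.Statements.S13059
import Mathlib.LinearAlgebra.Matrix.Charpoly.Coeff
import Mathlib.LinearAlgebra.Charpoly.ToMatrix
import Mathlib.LinearAlgebra.Dual.Basis

set_option autoImplicit false
universe u
open Zeta

namespace Groth.Agent.S13059

open Polynomial Matrix in
/-- The matrix form of the statement. -/
theorem matrix_identity {K : Type u} [Field K] {n : Type*} [Fintype n] [DecidableEq n]
    (F G : Matrix n n K) (c : K) (hc : c ≠ 0) (hFG : Fᵀ * G = c • (1 : Matrix n n K)) :
    F.det • G.charpoly.reverse =
      ((-1) ^ Fintype.card n * c ^ Fintype.card n) • (c⁻¹ • F).charpoly := by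
  rw [Matrix.reverse_charpoly, Matrix.charpolyRev, Matrix.charpoly, Matrix.charmatrix]
  rw [Polynomial.smul_eq_C_mul, Polynomial.smul_eq_C_mul]
  have h1 : (C F.det : K[X]) = ((Fᵀ).map C).det := by
    rw [Matrix.transpose_map, Matrix.det_transpose]
    exact RingHom.map_det C F
  have h2 : (C ((-1) ^ Fintype.card n * c ^ Fintype.card n) : K[X]) =
      (C (-c)) ^ Fintype.card n := by
    rw [← mul_pow, ← C_pow]
    congr 1
    ring
  rw [h1, h2, ← Matrix.det_mul, ← Matrix.det_smul]
  rw [← Matrix.det_transpose (C (-c) • _)]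
  congr 1
  have h3 : (Fᵀ).map C * (G.map (C : K →+* K[X])) = (C c : K[X]) • (1 : Matrix n n K[X]) := by
    rw [← Matrix.map_mul, hFG]
    refine Matrix.ext fun i j => ?_
    simp only [Matrix.map_apply, Matrix.smul_apply, Matrix.one_apply, smul_eq_mul]
    split_ifs <;> simp
  rw [Matrix.mul_sub, Matrix.mul_one, Matrix.mul_smul, h3]
  refine Matrix.ext fun i j => ?_
  simp only [Matrix.sub_apply, Matrix.map_apply, Matrix.transpose_apply, Matrix.smul_apply,
    Matrix.one_apply, RingHom.mapMatrix_apply, Matrix.scalar_apply, Matrix.diagonal_apply,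
    smul_eq_mul]
  by_cases hij : i = j
  · subst hij
    simp only [if_true, mul_one, map_neg, C_mul]
    rw [neg_mul, mul_sub, ← mul_assoc, ← C_mul, mul_inv_cancel₀ hc]
    simp
  · rw [if_neg hij, if_neg (Ne.symm hij)]
    simp only [mul_zero, zero_sub, map_neg, C_mul]
    rw [neg_mul, mul_neg, neg_neg, ← mul_assoc, ← C_mul, mul_inv_cancel₀ hc]
    simp

/-- Let B : V × W → K be a perfect pairing of finite-dimensional vector spaces over a field K, c ∈ K
nonzero, and f, g endomorphisms of V, W with B(f v, g w) = c · B(v, w) for all v, w. Then det(Id − t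
g) = (−1)^r c^r t^r det(f)^{−1} det(Id − c^{−1} t^{−1} f) with r the common dimension; stated
cleared of denominators as det(f) · det(Id − t g) = (−1)^r c^r · det(t Id − c^{−1} f) in K[t],
det(Id − t g) being the reverse of the characteristic polynomial of g. -/
theorem result (K : Type u) [Field K] (V W : Type u)
    [AddCommGroup V] [Module K V] [FiniteDimensional K V] [AddCommGroup W] [Module K W]
    [FiniteDimensional K W] (B : V →ₗ[K] W →ₗ[K] K) [B.IsPerfPair] (f : V →ₗ[K] V) (g : W →ₗ[K] W)
    (c : K) (hc : c ≠ 0) (hfg : ∀ (v : V) (w : W), B (f v) (g w) = c * B v w) :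
    LinearMap.det f • (LinearMap.charpoly g).reverse =
      ((-1) ^ Module.finrank K W * c ^ Module.finrank K W) • (c⁻¹ • f).charpoly := by
  classical
  -- a basis of `V` and the dual basis of `W`
  let b : Module.Basis (Fin (Module.finrank K V)) K V := Module.finBasis K V
  let b' : Module.Basis (Fin (Module.finrank K V)) K W :=
    b.dualBasis.map B.flip.toPerfPair.symm
  have hbb' : ∀ i j, B (b i) (b' j) = if i = j then 1 else 0 := by
    intro i j
    have : B (b i) (b' j) = (b.dualBasis j) (b i) := by
      simp [b']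
    rw [this, Module.Basis.dualBasis_apply_self]
  set F := LinearMap.toMatrix b b f with hF
  set G := LinearMap.toMatrix b' b' g with hG
  have hfb : ∀ i, f (b i) = ∑ k, F k i • b k := by
    intro i
    rw [hF]
    simp_rw [LinearMap.toMatrix_apply]
    exact (b.sum_repr (f (b i))).symm
  have hgb : ∀ j, g (b' j) = ∑ l, G l j • b' l := by
    intro j
    rw [hG]
    simp_rw [LinearMap.toMatrix_apply]
    exact (b'.sum_repr (g (b' j))).symm
  have hFG : F.transpose * G = c • (1 : Matrix _ _ K) := by
    refine Matrix.ext fun i j => ?_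
    have h := hfg (b i) (b' j)
    rw [hfb, hgb] at h
    simp only [map_sum, map_smul, LinearMap.sum_apply, LinearMap.smul_apply, hbb', smul_eq_mul,
      mul_ite, mul_one, mul_zero, Finset.sum_ite_eq, Finset.sum_ite_eq', Finset.mem_univ,
      if_true] at h
    rw [Matrix.mul_apply, Matrix.smul_apply, Matrix.one_apply, smul_eq_mul, mul_ite, mul_one,
      mul_zero, ← h]
    refine Finset.sum_congr rfl fun k _ => ?_
    rw [Matrix.transpose_apply, mul_comm]
  have hcard : Fintype.card (Fin (Module.finrank K V)) = Module.finrank K W := by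
    rw [← Module.finrank_eq_card_basis b']
  have key := matrix_identity F G c hc hFG
  rw [hcard] at key
  rw [← LinearMap.det_toMatrix b f, ← LinearMap.charpoly_toMatrix g b',
    ← LinearMap.charpoly_toMatrix (c⁻¹ • f) b, map_smul]
  exact key

end Groth.Agent.S13059
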