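import Groth.Statements.S16430
import Mathlib.RingTheory.Etale.StandardEtale
import Mathlib.FieldTheory.PrimitiveElement
import Mathlib.RingTheory.Ideal.GoingUp
import Mathlib.RingTheory.Polynomial.Basic
import Mathlib.Algebra.Polynomial.Lifts
set_option autoImplicit false
universe u
open Hensel

namespace Groth.Agent.S16430

open Polynomial IsLocalRing

section

variable (A : Type u) [CommRing A] [IsLocalRing A] (l : Type u) [Field l]
  [Algebra (ResidueField A) l] (θ : l) (f : A[X]) (hf : f.Monic)
  (hfθ : f.map (residue A) = minpoly (ResidueField A) θ)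

/-- the map `A[X]/(f) → l`, `X ↦ θ` -/
noncomputable def psi : AdjoinRoot f →+* l :=
  AdjoinRoot.lift ((algebraMap (ResidueField A) l).comp (residue A)) θ (by
    rw [← Polynomial.eval₂_map, hfθ, ← Polynomial.aeval_def, minpoly.aeval])

include hfθ in
lemma psi_mk (G : A[X]) :
    psi A l θ f hfθ (AdjoinRoot.mk f G) = aeval θ (G.map (residue A)) := by
  rw [psi, AdjoinRoot.lift_mk, Polynomial.aeval_def, Polynomial.eval₂_map]

lemma psi_of (a : A) :
    psi A l θ f hfθ (AdjoinRoot.of f a) = algebraMap (ResidueField A) l (residue A a) := by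
  rw [psi, AdjoinRoot.lift_of]
  rfl

include hfθ in
lemma psi_surjective (hθ : IntermediateField.adjoin (ResidueField A) {θ} = ⊤)
    [FiniteDimensional (ResidueField A) l] :
    Function.Surjective (psi A l θ f hfθ) := by
  intro y
  have hint : IsIntegral (ResidueField A) θ := IsIntegral.of_finite _ _
  have hy : y ∈ (IntermediateField.adjoin (ResidueField A) {θ}).toSubalgebra := by
    rw [hθ]; trivial
  rw [IntermediateField.adjoin_simple_toSubalgebra_of_isAlgebraic hint.isAlgebraic] at hy
  obtain ⟨g, rfl⟩ := Algebra.adjoin_singleton_eq_range_aeval (ResidueField A) θ ▸ hy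
  obtain ⟨G, rfl⟩ := Polynomial.map_surjective (residue A) (residue_surjective) g
  exact ⟨AdjoinRoot.mk f G, psi_mk A l θ f hfθ G⟩

lemma ker_psi_le :
    RingHom.ker (psi A l θ f hfθ) ≤ Ideal.map (algebraMap A (AdjoinRoot f)) (maximalIdeal A) := by
  intro x hx
  obtain ⟨G, rfl⟩ := AdjoinRoot.mk_surjective x
  rw [RingHom.mem_ker, psi_mk] at hx
  obtain ⟨hbar, hh⟩ := minpoly.dvd (ResidueField A) θ hx
  obtain ⟨H, rfl⟩ := Polynomial.map_surjective (residue A) (residue_surjective) hbar
  rw [← hfθ, ← Polynomial.map_mul] at hh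
  have hQ : (G - f * H).map (residue A) = 0 := by
    rw [Polynomial.map_sub, hh, sub_self]
  have hcoeff : ∀ n, (G - f * H).coeff n ∈ maximalIdeal A := by
    intro n
    have := congrArg (fun p => p.coeff n) hQ
    simp only [Polynomial.coeff_map, Polynomial.coeff_zero] at this
    exact (residue_eq_zero_iff _).1 this
  have hmem : (G - f * H) ∈ Ideal.map (C : A →+* A[X]) (maximalIdeal A) :=
    Ideal.mem_map_C_iff.2 hcoeff
  have h2 : AdjoinRoot.mk f (G - f * H) ∈
      Ideal.map (AdjoinRoot.mk f) (Ideal.map (C : A →+* A[X]) (maximalIdeal A)) :=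
    Ideal.mem_map_of_mem _ hmem
  rw [Ideal.map_map] at h2
  have h3 : AdjoinRoot.mk f (G - f * H) = AdjoinRoot.mk f G := by
    rw [map_sub, map_mul, AdjoinRoot.mk_self, zero_mul, sub_zero]
  rw [h3] at h2
  exact h2

lemma ker_psi_isMaximal (hsurj : Function.Surjective (psi A l θ f hfθ)) :
    (RingHom.ker (psi A l θ f hfθ)).IsMaximal :=
  RingHom.ker_isMaximal_of_surjective _ hsurj

lemma map_maximalIdeal_le_ker :
    Ideal.map (algebraMap A (AdjoinRoot f)) (maximalIdeal A) ≤ RingHom.ker (psi A l θ f hfθ) := by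
  rw [Ideal.map_le_iff_le_comap]
  intro a ha
  rw [Ideal.mem_comap, RingHom.mem_ker, AdjoinRoot.algebraMap_eq, psi_of,
    (residue_eq_zero_iff a).2 ha, map_zero]

include hf in
lemma eq_ker_of_isMaximal (hsurj : Function.Surjective (psi A l θ f hfθ))
    (P : Ideal (AdjoinRoot f)) [P.IsMaximal] : P = RingHom.ker (psi A l θ f hfθ) := by
  have : Module.Finite A (AdjoinRoot f) := hf.finite_adjoinRoot
  have : Algebra.IsIntegral A (AdjoinRoot f) := inferInstance
  have hmax : (P.comap (algebraMap A (AdjoinRoot f))).IsMaximal :=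
    Ideal.isMaximal_comap_of_isIntegral_of_isMaximal P
  have h1 : P.comap (algebraMap A (AdjoinRoot f)) = maximalIdeal A := eq_maximalIdeal hmax
  have h2 : Ideal.map (algebraMap A (AdjoinRoot f)) (maximalIdeal A) ≤ P := by
    rw [Ideal.map_le_iff_le_comap, h1]
  have hK := ker_psi_isMaximal A l θ f hfθ hsurj
  exact (hK.eq_of_le (Ideal.IsMaximal.ne_top inferInstance)
    ((ker_psi_le A l θ f hfθ).trans h2)).symm

include hf in
lemma isLocalRing_adjoinRoot (hsurj : Function.Surjective (psi A l θ f hfθ)) :
    IsLocalRing (AdjoinRoot f) :=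
  IsLocalRing.of_unique_max_ideal ⟨RingHom.ker (psi A l θ f hfθ),
    ker_psi_isMaximal A l θ f hfθ hsurj,
    fun P hP => by
      have := hP
      exact eq_ker_of_isMaximal A l θ f hf hfθ hsurj P⟩

end

/-- étaleness of `A[X]/(f)` when `f'` is a unit there -/
lemma etale_adjoinRoot (A : Type u) [CommRing A] (f : A[X]) (hf : f.Monic)
    (hu : IsUnit (AdjoinRoot.mk f (derivative f))) : Algebra.Etale A (AdjoinRoot f) := by
  let P : StandardEtalePair A :=
    { f := f
      monic_f := hf
      g := derivative f
      cond := ⟨1, 0, 1, by simp⟩ }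
  let e₁ : P.Ring ≃ₐ[A] Localization.Away (AdjoinRoot.mk f (derivative f)) :=
    P.equivAwayAdjoinRoot
  let e₂ : AdjoinRoot f ≃ₐ[AdjoinRoot f] Localization.Away (AdjoinRoot.mk f (derivative f)) :=
    IsLocalization.atUnits (AdjoinRoot f) (Submonoid.powers (AdjoinRoot.mk f (derivative f)))
      (by
        rw [Submonoid.powers_le]
        exact hu)
  exact Algebra.Etale.of_equiv (e₁.trans (e₂.restrictScalars A).symm)

/-- For a Noetherian local ring A with residue field k and a finite separable field extension l of k,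
there is a local ring E, finite and etale over A with local structure map, whose residue field is
k-isomorphic to l. -/
theorem result (A : Type u)
    [CommRing A] [IsLocalRing A] [IsNoetherianRing A] (l : Type u) [Field l]
    [Algebra (IsLocalRing.ResidueField A) l] [FiniteDimensional (IsLocalRing.ResidueField A) l]
    [Algebra.IsSeparable (IsLocalRing.ResidueField A) l] :
    ∃ (E : Type u) (_ : CommRing E) (_ : IsLocalRing E) (_ : Algebra A E)
      (_ : IsLocalHom (algebraMap A E)),
      Module.Finite A E ∧ Algebra.Etale A E ∧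
        Nonempty (IsLocalRing.ResidueField E ≃ₐ[IsLocalRing.ResidueField A] l) := by
  obtain ⟨θ, hθ⟩ := Field.exists_primitive_element (ResidueField A) l
  have hint : IsIntegral (ResidueField A) θ := IsIntegral.of_finite _ _
  obtain ⟨f, hfθ, -, hf⟩ := Polynomial.lifts_and_natDegree_eq_and_monic
    (f := residue A) (p := minpoly (ResidueField A) θ)
    ((Polynomial.mem_lifts _).2 (Polynomial.map_surjective _ residue_surjective _))
    (minpoly.monic hint)
  have hsurj := psi_surjective A l θ f hfθ hθ
  have hloc : IsLocalRing (AdjoinRoot f) := isLocalRing_adjoinRoot A l θ f hf hfθ hsurj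
  have hK := ker_psi_isMaximal A l θ f hfθ hsurj
  have hmaxeq : maximalIdeal (AdjoinRoot f) = RingHom.ker (psi A l θ f hfθ) :=
    (eq_maximalIdeal hK).symm
  have hlochom : IsLocalHom (algebraMap A (AdjoinRoot f)) := by
    refine ((local_hom_TFAE (algebraMap A (AdjoinRoot f))).out 0 2).mpr ?_
    rw [hmaxeq]
    exact map_maximalIdeal_le_ker A l θ f hfθ
  refine ⟨AdjoinRoot f, inferInstance, hloc, inferInstance, hlochom, hf.finite_adjoinRoot, ?_, ?_⟩
  · -- étale
    apply etale_adjoinRoot A f hf
    have hsep : (minpoly (ResidueField A) θ).Separable :=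
      Algebra.IsSeparable.isSeparable (ResidueField A) θ
    have hne : psi A l θ f hfθ (AdjoinRoot.mk f (derivative f)) ≠ 0 := by
      rw [psi_mk, ← Polynomial.derivative_map, hfθ]
      exact hsep.aeval_derivative_ne_zero (minpoly.aeval _ _)
    have hnot : AdjoinRoot.mk f (derivative f) ∉ maximalIdeal (AdjoinRoot f) := by
      rw [hmaxeq, RingHom.mem_ker]
      exact hne
    exact (IsLocalRing.notMem_maximalIdeal).1 hnot
  · -- residue field
    have hker : ∀ a ∈ maximalIdeal (AdjoinRoot f), psi A l θ f hfθ a = 0 := by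
      intro a ha
      rw [hmaxeq] at ha
      exact ha
    let φ : ResidueField (AdjoinRoot f) →+* l :=
      Ideal.Quotient.lift (maximalIdeal (AdjoinRoot f)) (psi A l θ f hfθ) hker
    have hφ : ∀ x, φ (residue (AdjoinRoot f) x) = psi A l θ f hfθ x := fun x => rfl
    have hcomm : ∀ c : ResidueField A,
        φ (algebraMap (ResidueField A) (ResidueField (AdjoinRoot f)) c) =
          algebraMap (ResidueField A) l c := by
      intro c
      obtain ⟨a, rfl⟩ := residue_surjective c
      have : algebraMap (ResidueField A) (ResidueField (AdjoinRoot f)) (residue A a) =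
          residue (AdjoinRoot f) (algebraMap A (AdjoinRoot f) a) := rfl
      rw [this, hφ, AdjoinRoot.algebraMap_eq, psi_of]
    let φa : ResidueField (AdjoinRoot f) →ₐ[ResidueField A] l :=
      { φ with commutes' := hcomm }
    refine ⟨AlgEquiv.ofBijective φa ⟨φa.toRingHom.injective, ?_⟩⟩
    intro y
    obtain ⟨x, rfl⟩ := hsurj y
    exact ⟨residue (AdjoinRoot f) x, rfl⟩

end Groth.Agent.S16430
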