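import Groth.Statements.S7654
import Mathlib
import Groth.Agent.Lib.Helper98.DeltaBaseChangeD
import Groth.Agent.Lib.Helper9.Hens.LocalFlat
import Groth.Agent.Lib.Helper9.HensK.StrictUnique
import Groth.Agent.S0543
open Groth.Agent.Lib.Helper98.DeltaBaseChange IsLocalRing

set_option autoImplicit false
universe u
open CategoryTheory CategoryTheory.Limits AlgebraicGeometry
open Variety

namespace Groth.Agent.S7654

/-- For a reduced local Nagata ring A of Krull dimension one, the δ-invariant does not change on passing
to a henselization of A, to a strict henselization of A, or to the completion of A. -/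
theorem result (A : Type u) [CommRing A] [IsLocalRing A]
    [IsReduced A] (hN : CAlg.IsNagata A) (hdim : ringKrullDim A = 1) :
    (∀ (B : Type u) [CommRing B] [IsLocalRing B] [Algebra A B] [IsLocalHom (algebraMap A B)],
        Hensel.IsHenselization A B → Curv2.deltaInv B = Curv2.deltaInv A) ∧
      (∀ (B : Type u) [CommRing B] [IsLocalRing B] [Algebra A B] [IsLocalHom (algebraMap A B)],
        Hensel.IsStrictHenselization A B → Curv2.deltaInv B = Curv2.deltaInv A) ∧
      Curv2.deltaInv (Curv2.cpl A) = Curv2.deltaInv A := by
  classical
  haveI : IsNoetherianRing A := hN.1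
  have hfin : Module.Finite A (IC A) :=
    Groth.Agent.Lib.Helper38.finite_integralClosure_of_isNagata A hN
  refine ⟨?_, ?_, ?_⟩
  · intro B _ _ _ _ hH
    haveI := hH
    haveI : Module.Flat A B := Groth.Agent.Lib.Helper9.Hens.flat_of_isHenselization A B
    haveI : IsNoetherianRing B :=
      (Groth.Agent.Lib.Helper9.isNoetherianRing_iff_of_isHenselization A B).mp inferInstance
    have hmax := Groth.Agent.Lib.Helper9.Hens.map_maximalIdeal_of_isHenselization A B
    unfold Curv2.deltaInv
    exact length_eq A B hdim hfin hmax (fun m' hm' => fib_quotient A B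
      (Groth.Agent.Lib.Helper9.Hens.exists_sub_mem_map_maximalIdeal_of_isHenselization A B) m' hm')
  · intro B _ _ _ _ hH
    haveI := hH
    haveI : Module.Flat A B := Groth.Agent.Lib.Helper9.HensK.flat_of_isStrictHenselization A B
    haveI : IsNoetherianRing B :=
      (Groth.Agent.Lib.Helper9.isNoetherianRing_iff_of_isStrictHenselization A B).mp inferInstance
    have hmax := Groth.Agent.Lib.Helper9.HensK.map_maximalIdeal_of_isStrictHenselization A B
    unfold Curv2.deltaInv
    exact length_eq A B hdim hfin hmax (fun m' hm' => fib_quotient_etale A B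
      (Groth.Agent.Lib.Helper9.isEtaleCoveredFin_of_isStrictHenselization A B) m' hm')
  · haveI : IsNoetherianRing (AdicCompletion (maximalIdeal A) A) :=
      Groth.Agent.S0543.result A (maximalIdeal A)
    have hmax := (AdicCompletion.maximalIdeal_eq_map (R := A)).symm
    unfold Curv2.deltaInv Curv2.cpl
    exact length_eq A (AdicCompletion (maximalIdeal A) A) hdim hfin hmax
      (fun m' hm' => fib_quotient A _ (exists_sub_mem_map_completion A) m' hm')

end Groth.Agent.S7654
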