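import Groth.Statements.S9243
import Groth.Agent.Lib.Helper3.BranchCompletion
import Groth.Agent.S9237
import Groth.Agent.S0542

set_option autoImplicit false
universe u
open Brnch

namespace Groth.Agent.S9243

/-- Let A be a Noetherian local ring with henselization S and completion A^, and ψ : S → A^ the ring map
compatible with the structure maps from A. Then A and A^ have the same number of branches if and
only if, for every minimal prime q of S, the radical of the extension of q along ψ is a prime ideal
of A^. -/
theorem result (A S : Type u) [CommRing A] [IsLocalRing A]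
    [IsNoetherianRing A] [CommRing S] [IsLocalRing S] [Algebra A S] [IsLocalHom (algebraMap A S)]
    [Hensel.IsHenselization A S] (ψ : S →+* AdicCompletion (IsLocalRing.maximalIdeal A) A)
    (hψ : ψ.comp (algebraMap A S) = algebraMap A (AdicCompletion (IsLocalRing.maximalIdeal A) A)) :
    Brnch.numBranches A = Brnch.numBranches (AdicCompletion (IsLocalRing.maximalIdeal A) A) ↔
      ∀ q ∈ minimalPrimes S, (Ideal.map ψ q).radical.IsPrime := by
  open Groth.Agent.Lib.Helper3 Groth.Agent.Lib.Helper9 IsLocalRing in
  have hCh : HenselianLocalRing (AdicCompletion (maximalIdeal A) A) :=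
    Branch.henselianLocalRing_adicCompletion A
  let _ : Algebra S (AdicCompletion (maximalIdeal A) A) := ψ.toAlgebra
  have htower : IsScalarTower A S (AdicCompletion (maximalIdeal A) A) :=
    IsScalarTower.of_algebraMap_eq (fun r => (DFunLike.congr_fun hψ r).symm)
  obtain ⟨hflat, hloc⟩ := Branch.flat_and_isLocalHom_of_isEtaleCoveredFin A S
    (AdicCompletion (maximalIdeal A) A) (isEtaleCoveredFin_of_isHenselization A S)
    (Hens.map_maximalIdeal_of_isHenselization (R := A) (S := S))
  have hself := isHenselization_self (AdicCompletion (maximalIdeal A) A)
  have hSN : IsNoetherianRing S := (isNoetherianRing_iff_of_isHenselization A S).mp inferInstance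
  have hCN : IsNoetherianRing (AdicCompletion (maximalIdeal A) A) :=
    Groth.Agent.S0542.result A (maximalIdeal A) (maximalIdeal A).fg_of_isNoetherianRing
  rw [← Groth.Agent.S9237.result A S, ← Groth.Agent.S9237.result
    (AdicCompletion (maximalIdeal A) A) (AdicCompletion (maximalIdeal A) A)]
  exact Branch.card_minimalPrimes_eq_iff_radical_map_isPrime S
    (AdicCompletion (maximalIdeal A) A) (minimalPrimes.finite_of_isNoetherianRing S)
    (minimalPrimes.finite_of_isNoetherianRing _)

end Groth.Agent.S9243
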