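import Groth.Statements.S0124
-- import your own Groth.Agent.* helpers here
import Groth.Agent.Lib.Helper4.EtTorsion
import Groth.Agent.Lib.Helper4.EtaleTransfer
import Groth.Agent.S0099

set_option autoImplicit false
universe u
open CategoryTheory CategoryTheory.Limits AlgebraicGeometry Opposite
open EtPBC

namespace Groth.Agent.S0124

/-- Part (1): if X is quasi-compact and quasi-separated and F is a torsion abelian sheaf on X_et, then
H^n(X_et, F) is a torsion abelian group for every n. -/
theorem result (X : Scheme.{u}) [CompactSpace X] [QuasiSeparatedSpace X]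
    (F : EtCoh.Ab X) (hF : EtCoh.IsTorsion F) (n : ℕ) :
    IsAddTorsion (EtCoh.H X F n) := by
  intro x
  have h1 : PreservesColimitsOfShape (AsSmall.{u} ℕ) (EtCoh.HF X n) :=
    Groth.Agent.S0099.result X n (AsSmall.{u} ℕ)
  have h2 : PreservesColimitsOfShape ℕ (EtCoh.HF X n) :=
    preservesColimitsOfShape_of_equiv AsSmall.equiv.symm _
  have h3 : (EtCoh.HF X n).Additive :=
    (Groth.Agent.Lib.Helper33.ExtDelta.extDelta.{u + 1} (EtCoh.const X ℤ)).additive n
  obtain ⟨N, hN, hx⟩ := Groth.Agent.Lib.Helper4.TorsionSeq.exists_nsmul_eq_zero (EtCoh.HF X n) F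
    (Groth.Agent.Lib.Helper4.EtTorsion.isZero_colimit F hF) x
  exact isOfFinAddOrder_iff_nsmul_eq_zero.2 ⟨N, hN, hx⟩

end Groth.Agent.S0124
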