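import Groth.Statements.S14457
import Mathlib

set_option autoImplicit false
universe u
open CAlg

namespace Groth.Agent.S14457

open Polynomial

variable (A : Type u) [CommRing A] (a : A) (n : ℕ)

theorem monic_f (hn : 1 ≤ n) : ((X : A[X]) ^ n - C a).Monic :=
  monic_X_pow_sub_C a (by omega)

theorem deriv_f : derivative ((X : A[X]) ^ n - C a) = C (n : A) * X ^ (n - 1) := by
  rw [derivative_sub, derivative_C, sub_zero, derivative_X_pow]

/-- The standard étale pair `(X^n - a, 1)`. -/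
noncomputable def pair (hn : 1 ≤ n) (h : n = 1 ∨ IsUnit ((n : A) * a)) : StandardEtalePair A where
  f := X ^ n - C a
  monic_f := monic_f A a n hn
  g := 1
  cond := by
    rcases h with rfl | h
    · refine ⟨1, 0, 0, ?_⟩
      rw [deriv_f]
      simp
    · obtain ⟨v, hv⟩ := h.exists_right_inv
      refine ⟨C v * X, - C ((n : A) * v), 0, ?_⟩
      rw [deriv_f]
      have hX : (X : A[X]) ^ (n - 1) * X = X ^ n := by
        rw [← pow_succ]; congr 1; omega
      have : C (n : A) * X ^ (n - 1) * (C v * X) = C ((n : A) * v) * X ^ n := by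
        rw [← hX, C_mul]; ring
      rw [this, pow_zero]
      have h2 : C a * C ((n : A) * v) = (1 : A[X]) := by
        rw [← C_mul, ← C_1]; congr 1
        rw [← hv]; ring
      linear_combination h2

theorem etale_of (hn : 1 ≤ n) (h : n = 1 ∨ IsUnit ((n : A) * a)) :
    Algebra.Etale A (AdjoinRoot ((X : A[X]) ^ n - C a)) := by
  let P := pair A a n hn h
  have h1 : AdjoinRoot.mk P.f P.g = 1 := by
    show AdjoinRoot.mk _ (1 : A[X]) = 1
    exact map_one _
  let e₁ : P.Ring ≃ₐ[A] Localization.Away (AdjoinRoot.mk P.f P.g) := P.equivAwayAdjoinRoot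
  have hle : Submonoid.powers (AdjoinRoot.mk P.f P.g) ≤ IsUnit.submonoid (AdjoinRoot P.f) := by
    rintro _ ⟨k, rfl⟩
    show IsUnit ((AdjoinRoot.mk P.f P.g) ^ k)
    rw [h1, one_pow]
    exact isUnit_one
  let e₂ : AdjoinRoot P.f ≃ₐ[AdjoinRoot P.f] Localization.Away (AdjoinRoot.mk P.f P.g) :=
    IsLocalization.atUnits _ (Submonoid.powers (AdjoinRoot.mk P.f P.g)) hle
  exact Algebra.Etale.of_equiv (e₁.trans (e₂.restrictScalars A).symm)


theorem tsze_pow {R' : Type u} [CommRing R'] (x : R') (n : ℕ) :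
    (TrivSqZeroExt.inl x + TrivSqZeroExt.inr 1 : TrivSqZeroExt R' R') ^ n =
      TrivSqZeroExt.inl (x ^ n) + TrivSqZeroExt.inr ((n : R') * x ^ (n - 1)) := by
  apply TrivSqZeroExt.ext
  · rw [TrivSqZeroExt.fst_pow]; simp
  · rw [TrivSqZeroExt.snd_pow]; simp [Nat.pred_eq_sub_one]

theorem tsze_root {R' : Type u} [CommRing R'] [Algebra A R'] (x : R')
    (h1 : x ^ n = algebraMap A R' a) (h2 : (n : R') * x ^ (n - 1) = 0) :
    ((X : A[X]) ^ n - C a).eval₂ (Algebra.ofId A (TrivSqZeroExt R' R') : A →+* TrivSqZeroExt R' R')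
      (TrivSqZeroExt.inl x + TrivSqZeroExt.inr 1) = 0 := by
  rw [eval₂_sub, eval₂_pow, eval₂_X, eval₂_C, tsze_pow, h1, h2, TrivSqZeroExt.inr_zero, add_zero]
  have e1 : (Algebra.ofId A (TrivSqZeroExt R' R') : A →+* TrivSqZeroExt R' R') a =
      TrivSqZeroExt.inl (algebraMap A R' a) := by
    show algebraMap A (TrivSqZeroExt R' R') a = _
    rw [TrivSqZeroExt.algebraMap_eq_inl']
  rw [e1, sub_self]

theorem snd_eq_zero_of_formallyUnramified {A B R' : Type u} [CommRing A] [CommRing B] [CommRing R']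
    [Algebra A B] [Algebra A R'] [Algebra.FormallyUnramified A B] (q : B →ₐ[A] R')
    (g₂ : B →ₐ[A] TrivSqZeroExt R' R') (h : ∀ b, TrivSqZeroExt.fst (g₂ b) = q b) (b : B) :
    TrivSqZeroExt.snd (g₂ b) = 0 := by
  let g₁ : B →ₐ[A] TrivSqZeroExt R' R' := (TrivSqZeroExt.inlAlgHom A R' R').comp q
  let π : TrivSqZeroExt R' R' →ₐ[A] R' := TrivSqZeroExt.fstHom A R' R'
  have hker : IsNilpotent (RingHom.ker (π : TrivSqZeroExt R' R' →+* R')) := by
    refine ⟨2, ?_⟩
    have : RingHom.ker (π : TrivSqZeroExt R' R' →+* R') = TrivSqZeroExt.kerIdeal R' R' := by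
      ext x
      simp [TrivSqZeroExt.kerIdeal, RingHom.mem_ker, π]
    rw [this]
    exact TrivSqZeroExt.kerIdeal_sq _ _
  have hcomp : π.comp g₁ = π.comp g₂ := by
    ext b
    simp [π, g₁, h]
  have hg : g₁ = g₂ := Algebra.FormallyUnramified.lift_unique' π hker g₁ g₂ hcomp
  rw [← hg]
  simp [g₁]

/-- If `A[T]/(T^n - a)` is formally unramified over `A`, then `n * root^(n-1)` is a unit. -/
theorem isUnit_deriv_root
    [Algebra.FormallyUnramified A (AdjoinRoot ((X : A[X]) ^ n - C a))] :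
    IsUnit ((n : AdjoinRoot ((X : A[X]) ^ n - C a)) *
      (AdjoinRoot.root ((X : A[X]) ^ n - C a)) ^ (n - 1)) := by
  -- the relation α^n = a
  have hroot : (AdjoinRoot.root ((X : A[X]) ^ n - C a)) ^ n =
      AdjoinRoot.of ((X : A[X]) ^ n - C a) a := by
    have : ((X : A[X]) ^ n - C a).eval₂ (AdjoinRoot.of ((X : A[X]) ^ n - C a))
        (AdjoinRoot.root ((X : A[X]) ^ n - C a)) = 0 := AdjoinRoot.eval₂_root _
    rw [eval₂_sub, eval₂_pow, eval₂_X, eval₂_C, sub_eq_zero] at this
    exact this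
  generalize hd : ((n : AdjoinRoot ((X : A[X]) ^ n - C a)) *
      (AdjoinRoot.root ((X : A[X]) ^ n - C a)) ^ (n - 1)) = d
  have hqd : Ideal.Quotient.mkₐ A (Ideal.span {d}) d = 0 :=
    Ideal.Quotient.eq_zero_iff_mem.mpr (Ideal.mem_span_singleton_self d)
  have hz := tsze_root A a n (R' := AdjoinRoot ((X : A[X]) ^ n - C a) ⧸ Ideal.span {d})
    (Ideal.Quotient.mkₐ A (Ideal.span {d}) (AdjoinRoot.root ((X : A[X]) ^ n - C a)))
    (by rw [← map_pow, hroot]; exact (Ideal.Quotient.mkₐ A (Ideal.span {d})).commutes a)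
    (by rw [← hqd, ← hd, map_mul, map_natCast, map_pow])
  let g₂ := AdjoinRoot.liftAlgHom ((X : A[X]) ^ n - C a) (Algebra.ofId A _) _ hz
  have hg₂ : g₂ (AdjoinRoot.root ((X : A[X]) ^ n - C a)) = _ :=
    AdjoinRoot.liftAlgHom_root _ _ _ hz
  have hfst : ∀ b, TrivSqZeroExt.fst (g₂ b) = Ideal.Quotient.mkₐ A (Ideal.span {d}) b := by
    intro b
    have : (TrivSqZeroExt.fstHom A _ _).comp g₂ = Ideal.Quotient.mkₐ A (Ideal.span {d}) := by
      apply AdjoinRoot.algHom_ext
      rw [AlgHom.comp_apply, hg₂]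
      simp
    exact congrArg (fun φ => φ b) this
  have h1 := snd_eq_zero_of_formallyUnramified _ g₂ hfst (AdjoinRoot.root ((X : A[X]) ^ n - C a))
  rw [hg₂] at h1
  have h2 : (1 : AdjoinRoot ((X : A[X]) ^ n - C a) ⧸ Ideal.span {d}) = 0 := by
    simpa using h1
  have h3 : (1 : AdjoinRoot ((X : A[X]) ^ n - C a)) ∈ Ideal.span {d} := by
    rw [← Ideal.Quotient.eq_zero_iff_mem]
    exact h2
  exact Ideal.span_singleton_eq_top.mp ((Ideal.eq_top_iff_one _).mpr h3)


theorem isUnit_of_etale (hn : 2 ≤ n)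
    [Algebra.FormallyUnramified A (AdjoinRoot ((X : A[X]) ^ n - C a))] :
    IsUnit ((n : A) * a) := by
  rcases subsingleton_or_nontrivial A with hA | hA
  · exact isUnit_of_subsingleton _
  have hmonic := monic_f A a n (by omega)
  have hd := isUnit_deriv_root A a n
  have hroot : (AdjoinRoot.root ((X : A[X]) ^ n - C a)) ^ n =
      AdjoinRoot.of ((X : A[X]) ^ n - C a) a := by
    have : ((X : A[X]) ^ n - C a).eval₂ (AdjoinRoot.of ((X : A[X]) ^ n - C a))
        (AdjoinRoot.root ((X : A[X]) ^ n - C a)) = 0 := AdjoinRoot.eval₂_root _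
    rw [eval₂_sub, eval₂_pow, eval₂_X, eval₂_C, sub_eq_zero] at this
    exact this
  have h1 : IsUnit (n : AdjoinRoot ((X : A[X]) ^ n - C a)) := isUnit_of_mul_isUnit_left hd
  have h2 : IsUnit ((AdjoinRoot.root ((X : A[X]) ^ n - C a)) ^ (n - 1)) :=
    isUnit_of_mul_isUnit_right hd
  have h3 : IsUnit (AdjoinRoot.root ((X : A[X]) ^ n - C a)) :=
    (isUnit_pow_iff (by omega)).mp h2
  have h4 : IsUnit (algebraMap A (AdjoinRoot ((X : A[X]) ^ n - C a)) ((n : A) * a)) := by
    rw [map_mul, map_natCast, AdjoinRoot.algebraMap_eq, ← hroot]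
    exact h1.mul (h3.pow n)
  -- integrality and faithfulness
  have hfin : Module.Finite A (AdjoinRoot ((X : A[X]) ^ n - C a)) := hmonic.finite_adjoinRoot
  have hfree : Module.Free A (AdjoinRoot ((X : A[X]) ^ n - C a)) := hmonic.free_adjoinRoot
  have hnt : Nontrivial (AdjoinRoot ((X : A[X]) ^ n - C a)) := by
    refine ⟨⟨1, 0, ?_⟩⟩
    have := AdjoinRoot.mk_ne_zero_of_natDegree_lt hmonic (g := 1) one_ne_zero
      (by rw [natDegree_one, natDegree_X_pow_sub_C]; omega)
    simpa using this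
  have hint : Algebra.IsIntegral A (AdjoinRoot ((X : A[X]) ^ n - C a)) := inferInstance
  have hloc : IsLocalHom (algebraMap A (AdjoinRoot ((X : A[X]) ^ n - C a))) :=
    Algebra.IsIntegral.isLocalHom _ _
  exact hloc.map_nonunit _ h4

open Polynomial in
/-- Let A be a commutative ring, a an element of A and n ≥ 1 an integer. The A-algebra A[T]/(T^n − a) is
etale exactly when either n = 1 or the product n·a is a unit of A. (The exponent n is a positive
integer here; for n = 0 the quotient is (A/(1 − a))[T] and the equivalence fails.) -/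
theorem result (A : Type u) [CommRing A] (a : A) (n : ℕ) (hn : 1 ≤ n) :
    Algebra.Etale A (AdjoinRoot ((X : A[X]) ^ n - C a)) ↔ n = 1 ∨ IsUnit ((n : A) * a) := by
  constructor
  · intro h
    by_cases h1 : n = 1
    · exact Or.inl h1
    · right
      have : Algebra.FormallyUnramified A (AdjoinRoot ((X : A[X]) ^ n - C a)) := inferInstance
      exact isUnit_of_etale A a n (by omega)
  · exact etale_of A a n hn

end Groth.Agent.S14457
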