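import Groth.Statements.S8560
import Mathlib
import Groth.Agent.Lib.Helper43.LTorsion

set_option autoImplicit false
universe u
open CategoryTheory CategoryTheory.Limits AlgebraicGeometry Opposite
open EtAcyc

namespace Groth.Agent.S8560

open Groth.Agent.Lib.Helper4.EtaleSmallSite Groth.Agent.Lib.Helper4.EtaleTransfer
  Groth.Agent.Lib.Helper4.EtaleQCQS
  Groth.Agent.Lib.Helper4.EtRpushSmall Groth.Agent.Lib.Helper4.EtRpushTorsion
  Groth.Agent.Lib.Helper43.LTorsion EtAcyc

variable {X Y : Scheme.{u}}

/-- an `L`-torsion étale sheaf is locally `L`-torsion in the small model -/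
lemma isLocallyLTorsion_Φ (L : Set ℕ) (F : EtCoh.Ab X) (hF : EtAcyc.IsLTorsion L F) :
    IsLocallyLTorsion L ((Φ X).functor.obj F) := by
  intro U' s
  let T : Sieve U' :=
    { arrows := fun V g => ∃ k : ℕ, PrimesIn L k ∧ k • ((Φ X).functor.obj F).obj.map g.op s = 0
      downward_closed := fun {V W g} hg h => by
        obtain ⟨k, hk, hks⟩ := hg
        refine ⟨k, hk, ?_⟩
        rw [op_comp, Functor.map_comp, ConcreteCategory.comp_apply]
        rw [← map_nsmul, hks, map_zero] }
  refine ⟨T, ?_, fun V g hg => hg⟩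
  rw [mem_J'_iff]
  intro x
  obtain ⟨V, g, m, ⟨v, hv⟩, hm, hms⟩ := hF (ULiftHom.objDown U') s x
  exact ⟨V, g, v, ⟨m, hm, hms⟩, hv⟩

variable (f : X ⟶ Y)

/-- cohomology of an `L`-torsion sheaf over a qcqs object is `L`-torsion -/
lemma exists_nsmul_eq_zero' (L : Set ℕ) (F : EtCoh.Ab X) (hF : EtAcyc.IsLTorsion L F) (U'' : C' X)
    (hq : U'' ∈ B'' X) (n : ℕ)
    (t : (((Φ X).functor.obj F).cohomologyPresheaf n).obj (op U'')) :
    ∃ k : ℕ, PrimesIn L k ∧ k • t = 0 := by
  have h1 : PreservesColimitsOfShape (AsSmall.{u + 1} ℕ)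
      ((Sheaf.cohomologyPresheafFunctor.{u + 1} (J' X) n).flip.obj (op U'')) :=
    ⟨fun {K} => preservesColimit_flip_obj U'' hq n _ K⟩
  have h2 : PreservesColimitsOfShape ℕ
      ((Sheaf.cohomologyPresheafFunctor.{u + 1} (J' X) n).flip.obj (op U'')) :=
    preservesColimitsOfShape_of_equiv AsSmall.equiv.symm _
  exact exists_nsmul_eq_zero_ext (J' X) L _ (isLocallyLTorsion_Φ L F hF) U'' n h2 t


/-- For the etale sites of schemes and a set of primes L: if f : X ⟶ Y is a quasi-compact and
quasi-separated morphism of schemes and F is an abelian L-torsion sheaf on the small etale site of X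
(every section is, etale-locally around each point, killed by a positive integer all of whose prime
factors lie in L), then each higher direct image R^q f_* F is an L-torsion sheaf on Y. (The
published statement, for topoi, asks only that the morphism be quasi-compact; this row also assumes
f quasi-separated: for the spectrum of a polynomial ring in countably many variables over a
separably closed field glued to a copy of itself along the complement of the origin, and the direct
sum of the skyscraper sheaves ℤ/pⁿ at the points where exactly the n-th variable is 1, the structure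
morphism to the field is quasi-compact but H¹ contains a class of infinite order.) -/
theorem result {X Y : Scheme.{u}} (f : X ⟶ Y) [QuasiCompact f] [QuasiSeparated f]
    [EtCoh.BCCont f] (L : Set ℕ) (F : EtCoh.Ab X) (hF : EtAcyc.IsLTorsion L F) (q : ℕ) :
    EtAcyc.IsLTorsion L ((EtCoh.Rpush f q).obj F) := by
  intro U s x
  obtain ⟨e⟩ := nonempty_Rpush_obj_iso f F q
  let N := (Φ X).functor.obj F
  let P : (C' Y)ᵒᵖ ⥤ AddCommGrpCat.{u + 1} := (u' f).op ⋙ N.cohomologyPresheaf q
  let Sh := (presheafToSheaf (J' Y) AddCommGrpCat.{u + 1}).obj P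
  let G' := (Φ Y).functor.obj ((EtCoh.Rpush f q).obj F)
  let U' : C' Y := ULiftHom.objUp U
  let s' : Sh.obj.obj (op U') := e.hom.hom.app (op U') s
  have hT := Presheaf.imageSieve_mem (J' Y) (toSheafify (J' Y) P) (U := op U') s'
  rw [mem_J'_iff] at hT
  obtain ⟨V, g, v, ⟨t, ht⟩, hv⟩ := hT x
  obtain ⟨W, hW, hvW, -⟩ := exists_isAffineOpen_mem_and_subset
    (x := v) (U := (⊤ : V.left.Opens)) trivial
  let A : Y.Etale := openObj V W
  let h : A ⟶ V := openHom V W
  have hA := openObj_qcqs V W hW
  let A' : C' Y := ULiftHom.objUp A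
  let h' : A' ⟶ ULiftHom.objUp V := ULift.up h
  let g' : ULiftHom.objUp V ⟶ U' := ULift.up g
  obtain ⟨k, hk, hkt⟩ := exists_nsmul_eq_zero' L F hF ((u' f).obj A')
    (bc_mem_B'' f A hA.1 hA.2) q (P.map h'.op t)
  refine ⟨A, h ≫ g, k, ⟨⟨v, hvW⟩, ?_⟩, hk, ?_⟩
  · change g.left ((openHom V W).left ⟨v, hvW⟩) = x
    rw [openHom_left]
    exact hv
  · let s₀ : G'.obj.obj (op U') := s
    let r : G'.obj.obj (op A') := G'.obj.map (h' ≫ g').op s₀
    change k • r = 0
    -- compute the image of `r` in the sheafification
    have e1 : e.hom.hom.app (op A') r = Sh.obj.map (h' ≫ g').op s' := by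
      have := congrArg (fun φ => φ s₀) (congrArg AddCommGrpCat.Hom.hom
        (e.hom.hom.naturality (h' ≫ g').op))
      exact this
    have e2 : Sh.obj.map (h' ≫ g').op s' = (toSheafify (J' Y) P).app (op A') (P.map h'.op t) := by
      rw [op_comp, Functor.map_comp, ConcreteCategory.comp_apply]
      have h3 : Sh.obj.map g'.op s' = (toSheafify (J' Y) P).app (op (ULiftHom.objUp V)) t :=
        ht.symm
      rw [h3]
      exact (NatTrans.naturality_apply (toSheafify (J' Y) P) h'.op t).symm
    have e4 : (toSheafify (J' Y) P).app (op A') (k • P.map h'.op t) =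
        k • (toSheafify (J' Y) P).app (op A') (P.map h'.op t) :=
      map_nsmul ((toSheafify (J' Y) P).app (op A')).hom k _
    have e3 : e.hom.hom.app (op A') (k • r) = 0 := by
      refine (map_nsmul (e.hom.hom.app (op A')).hom k r).trans ?_
      change k • e.hom.hom.app (op A') r = 0
      rw [e1, e2, ← e4, hkt]
      exact map_zero ((toSheafify (J' Y) P).app (op A')).hom
    have hinj : Function.Injective (e.hom.hom.app (op A')) :=
      (((sheafSections (J' Y) AddCommGrpCat.{u + 1}).obj (op A')).mapIso
        e).addCommGroupIsoToAddEquiv.injective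
    exact hinj (e3.trans (map_zero (e.hom.hom.app (op A')).hom).symm)

end Groth.Agent.S8560
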