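import Groth.Statements.S8536
-- import your own Groth.Agent.* helpers here
import Groth.Agent.S8525
import Groth.Agent.Lib.Helper4.EtMVBridge

set_option autoImplicit false
universe u
open CategoryTheory CategoryTheory.Limits AlgebraicGeometry Opposite
open EtAcyc

namespace Groth.Agent.S8536

open CategoryTheory CategoryTheory.Limits AlgebraicGeometry Abelian

/-- a quotient of an `L`-torsion sheaf is `L`-torsion -/
theorem isLTorsion_of_epi {X : Scheme.{u}} (L : Set ℕ) {G Q : EtCoh.Ab X} (π : G ⟶ Q) [Epi π]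
    (hG : EtAcyc.IsLTorsion L G) : EtAcyc.IsLTorsion L Q := by
  rw [Groth.Agent.S8525.result] at hG ⊢
  intro Ω _ _ ξ t
  have hepi : Epi ((EtCoh.stalk ξ).map π) := inferInstance
  obtain ⟨t', rfl⟩ := (AddCommGrpCat.epi_iff_surjective _).1 hepi t
  obtain ⟨m, hm, hmt⟩ := hG Ω ξ t'
  exact ⟨m, hm, by rw [← map_nsmul, hmt, map_zero]⟩

section

variable {X Y : Scheme.{u}} (h : Y ⟶ X) [PreservesFiniteLimits (EtCoh.pull h)]

/-- naturality of `Hpull` in the sheaf -/
theorem Hpull_comp_mk₀ {F G : EtCoh.Ab X} (a : F ⟶ G) (n : ℕ) (e : EtCoh.H X F n) :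
    EtCore.Hpull h G n (e.comp (Ext.mk₀ a) (add_zero n)) =
      (EtCore.Hpull h F n e).comp (Ext.mk₀ ((EtCoh.pull h).map a)) (add_zero n) := by
  rw [Groth.Agent.Lib.Helper4.EtMVBridge.hr, Groth.Agent.Lib.Helper4.EtMVBridge.hr,
    Ext.mapExactFunctor_comp, Ext.mapExactFunctor_mk₀, Ext.comp_assoc_of_third_deg_zero]

/-- compatibility of `Hpull` with connecting homomorphisms -/
theorem Hpull_comp_extClass {S : ShortComplex (EtCoh.Ab X)} (hS : S.ShortExact) (n : ℕ)
    (e : EtCoh.H X S.X₃ n) :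
    EtCore.Hpull h S.X₁ (n + 1) (e.comp hS.extClass rfl) =
      (EtCore.Hpull h S.X₃ n e).comp (hS.map_of_exact (EtCoh.pull h)).extClass rfl := by
  rw [Groth.Agent.Lib.Helper4.EtMVBridge.hr, Groth.Agent.Lib.Helper4.EtMVBridge.hr,
    Ext.mapExactFunctor_comp, Ext.mapExactFunctor_extClass]
  exact (Ext.comp_assoc _ _ _ (zero_add n) rfl (by omega)).symm

end

end Groth.Agent.S8536

namespace Groth.Agent.S8536

/-- Let h : Y → X be a morphism of quasi-compact quasi-separated schemes, L a set of primes and n a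
natural number, and suppose that for every abelian L-torsion sheaf on X the pullback map on etale
cohomology along h is bijective in degrees ≤ n and injective in degree n + 1. Let u : F → G be a
monomorphism of abelian L-torsion sheaves on X and ξ a class in H^{n+1}(Y, h⁻¹F) whose image in
H^{n+1}(Y, h⁻¹G) comes from H^{n+1}(X, G). Then ξ comes from H^{n+1}(X, F). -/
theorem result {X Y : Scheme.{u}} [CompactSpace X] [QuasiSeparatedSpace X]
    [CompactSpace Y] [QuasiSeparatedSpace Y] (h : Y ⟶ X) (L : Set ℕ) (n : ℕ) (hc : EtAcyc.CompN h L n)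
    [PreservesFiniteLimits (EtCoh.pull h)] {F G : EtCoh.Ab X} (u : F ⟶ G) [Mono u]
    (hF : EtAcyc.IsLTorsion L F) (hG : EtAcyc.IsLTorsion L G)
    (ξ : EtCoh.H Y ((EtCoh.pull h).obj F) (n + 1))
    (hξ : (EtCoh.HF Y (n + 1)).map ((EtCoh.pull h).map u) ξ ∈ Set.range (EtCore.Hpull h G (n + 1))) :
    ξ ∈ Set.range (EtCore.Hpull h F (n + 1)) := by
  classical
  obtain ⟨η, hη⟩ := hξ
  -- the short exact sequence 0 → F → G → Q → 0
  let S : ShortComplex (EtCoh.Ab X) := ShortComplex.mk u (cokernel.π u) (cokernel.condition u)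
  have hS : S.ShortExact :=
    { exact := ShortComplex.exact_of_g_is_cokernel _ (cokernelIsCokernel _)
      mono_f := by dsimp [S]; infer_instance
      epi_g := by dsimp [S]; infer_instance }
  have hQ : EtAcyc.IsLTorsion L (cokernel u) := isLTorsion_of_epi L (cokernel.π u) hG
  have hS' := hS.map_of_exact (EtCoh.pull h)
  obtain ⟨hbijQ, hinjQ⟩ := hc (cokernel u) hQ
  have hξ' : ξ.comp (Abelian.Ext.mk₀ ((EtCoh.pull h).map u)) (add_zero (n + 1)) =
      EtCore.Hpull h G (n + 1) η := hη.symm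
  -- step 1: the image of η in H^{n+1}(X, Q) vanishes
  have h1 : η.comp (Abelian.Ext.mk₀ (cokernel.π u)) (add_zero (n + 1)) = 0 := by
    apply hinjQ
    rw [map_zero, Hpull_comp_mk₀, ← hξ', Abelian.Ext.comp_assoc_of_third_deg_zero, Abelian.Ext.mk₀_comp_mk₀,
      ← Functor.map_comp, cokernel.condition, Functor.map_zero, Abelian.Ext.mk₀_zero, Abelian.Ext.comp_zero]
  -- step 2: η comes from ζ
  obtain ⟨ζ, hζ⟩ := Abelian.Ext.covariant_sequence_exact₂ _ hS η h1
  -- step 3: ξ - h^*ζ dies in H^{n+1}(Y, h^*G)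
  have h3 : (ξ - EtCore.Hpull h F (n + 1) ζ).comp (Abelian.Ext.mk₀ ((EtCoh.pull h).map u))
      (add_zero (n + 1)) = 0 := by
    rw [sub_eq_add_neg, Abelian.Ext.add_comp, Abelian.Ext.neg_comp, hξ', ← Hpull_comp_mk₀]
    have : ζ.comp (Abelian.Ext.mk₀ u) (add_zero (n + 1)) = η := hζ
    rw [this, add_neg_cancel]
  obtain ⟨θ, hθ⟩ := Abelian.Ext.covariant_sequence_exact₁ _ hS' (ξ - EtCore.Hpull h F (n + 1) ζ) h3 rfl
  -- step 4: θ comes from X
  obtain ⟨θ', hθ'⟩ := (hbijQ n le_rfl).2 θ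
  refine ⟨ζ + θ'.comp hS.extClass rfl, ?_⟩
  rw [map_add]
  have h5 := Hpull_comp_extClass h hS n θ'
  have h6 : EtCore.Hpull h F (n + 1) (θ'.comp hS.extClass rfl) =
      ξ - EtCore.Hpull h F (n + 1) ζ := by
    rw [← hθ, ← hθ']
    exact h5
  rw [h6]
  abel

end Groth.Agent.S8536
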