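import Groth.Statements.S15795
import Mathlib

set_option autoImplicit false
universe u v
open WildQuot

namespace Groth.Agent.S15795

open IsLocalRing in
theorem core
    (A : Type u) [CommRing A] [IsLocalRing A]
    (G : Type v) [Group G] [MulSemiringAction G A]
    (n : ℕ) (u : Fin n → A)
    (hu : Ideal.span (Set.range u) = IsLocalRing.maximalIdeal A)
    (htri : ∀ (σ : G) (i : Fin n),
      σ • u i ∈ Ideal.span (u '' {j | j ≤ i}) ⊔ IsLocalRing.maximalIdeal A ^ 2)
    (τ : Fin n → G) :
    Ideal.span (Set.range fun i => τ i • u i) = IsLocalRing.maximalIdeal A := by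
  classical
  set m := maximalIdeal A with hm
  -- the ring automorphisms
  let e : G → (A ≃+* A) := fun σ => MulSemiringAction.toRingEquiv G A σ
  have he : ∀ (σ : G) (a : A), e σ a = σ • a := fun σ a => rfl
  have hmap_m : ∀ σ, m.map (e σ : A →+* A) = m := fun σ => map_ringEquiv_maximalIdeal (e σ)
  have hmap_m2 : ∀ σ, (m ^ 2).map (e σ : A →+* A) = m ^ 2 := by
    intro σ; rw [Ideal.map_pow, hmap_m]
  have hsmul_m : ∀ (σ : G) (a : A), a ∈ m → σ • a ∈ m := by
    intro σ a ha
    have := Ideal.mem_map_of_mem (e σ : A →+* A) ha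
    rwa [hmap_m] at this
  have hsmul_m2 : ∀ (σ : G) (a : A), a ∈ m ^ 2 → σ • a ∈ m ^ 2 := by
    intro σ a ha
    have := Ideal.mem_map_of_mem (e σ : A →+* A) ha
    rwa [hmap_m2] at this
  -- the two filtrations
  set I : ℕ → Ideal A := fun k => Ideal.span (u '' {j | j.val < k}) ⊔ m ^ 2 with hI
  set J : ℕ → Ideal A := fun k => Ideal.span ((fun j => τ j • u j) '' {j | j.val < k}) ⊔ m ^ 2 with hJ
  have hJmono : ∀ k l, k ≤ l → J k ≤ J l := by
    intro k l hkl
    apply sup_le_sup_right
    apply Ideal.span_mono
    apply Set.image_mono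
    intro j hj
    exact lt_of_lt_of_le hj hkl
  -- I k is stable under the group
  have hIstable : ∀ (σ : G) (k : ℕ) (a : A), a ∈ I k → σ • a ∈ I k := by
    intro σ k a ha
    have h1 : (I k).map (e σ : A →+* A) ≤ I k := by
      simp only [hI]
      rw [Ideal.map_sup, hmap_m2, Ideal.map_span]
      refine sup_le ?_ le_sup_right
      rw [Ideal.span_le]
      rintro _ ⟨_, ⟨j, hj, rfl⟩, rfl⟩
      have hj' : j.val < k := hj
      have h2 := htri σ j
      have h3 : Ideal.span (u '' {l | l ≤ j}) ⊔ m ^ 2 ≤ Ideal.span (u '' {j | j.val < k}) ⊔ m ^ 2 := by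
        apply sup_le_sup_right
        apply Ideal.span_mono
        apply Set.image_mono
        intro l hl
        have : l ≤ j := hl
        exact lt_of_le_of_lt (Fin.le_def.1 this) hj'
      exact h3 h2
    exact h1 (Ideal.mem_map_of_mem (e σ : A →+* A) ha)
  -- main induction
  have hIJ : ∀ k, k ≤ n → I k ≤ J k := by
    intro k
    induction k with
    | zero =>
      intro _
      simp [hI, hJ]
    | succ k ih =>
      intro hk
      have ihk := ih (by omega)
      simp only [hI]
      refine sup_le ?_ le_sup_right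
      rw [Ideal.span_le]
      rintro _ ⟨j, hj, rfl⟩
      have hj' : j.val < k + 1 := hj
      rcases Nat.lt_succ_iff_lt_or_eq.1 hj' with hlt | heq
      · apply hJmono k (k + 1) (Nat.le_succ k)
        apply ihk
        exact le_sup_left (a := Ideal.span (u '' {j | j.val < k})) (Ideal.subset_span ⟨j, hlt, rfl⟩)
      · -- the key case
        have h1 := htri (τ j)⁻¹ j
        obtain ⟨x, hx, y, hy, hxy⟩ := Submodule.mem_sup.1 h1
        have hset : u '' {l | l ≤ j} = insert (u j) (u '' {l | l.val < k}) := by
          ext a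
          constructor
          · rintro ⟨l, hl, rfl⟩
            have hl' : l ≤ j := hl
            rcases lt_or_eq_of_le hl' with h | h
            · right; exact ⟨l, by simpa [← heq] using h, rfl⟩
            · left; rw [h]
          · rintro (rfl | ⟨l, hl, rfl⟩)
            · exact ⟨j, le_refl j, rfl⟩
            · refine ⟨l, ?_, rfl⟩
              have : l.val < k := hl
              show l ≤ j
              rw [Fin.le_def]; omega
        rw [hset, Ideal.span_insert] at hx
        obtain ⟨x1, hx1, f, hf, hxf⟩ := Submodule.mem_sup.1 hx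
        obtain ⟨c, rfl⟩ := Ideal.mem_span_singleton'.1 hx1
        have hu_eq : u j = τ j • f + τ j • c * τ j • u j + τ j • y := by
          have h3 : τ j • ((τ j)⁻¹ • u j) = u j := smul_inv_smul _ _
          calc u j = τ j • ((τ j)⁻¹ • u j) := h3.symm
            _ = τ j • (c * u j + f + y) := by rw [hxf, hxy]
            _ = τ j • f + τ j • c * τ j • u j + τ j • y := by
              simp only [smul_add, smul_mul']; ring
        rw [hu_eq]
        refine Ideal.add_mem _ (Ideal.add_mem _ ?_ ?_) ?_
        · apply hJmono k (k + 1) (Nat.le_succ k)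
          apply ihk
          apply hIstable
          exact le_sup_left (a := Ideal.span (u '' {j | j.val < k})) hf
        · apply Ideal.mul_mem_left
          exact le_sup_left (b := m ^ 2) (Ideal.subset_span ⟨j, hj', rfl⟩)
        · exact le_sup_right (a := Ideal.span ((fun j => τ j • u j) '' {j | j.val < k + 1}))
            (hsmul_m2 _ _ hy)
  -- conclusion via Nakayama
  have hall : {j : Fin n | j.val < n} = Set.univ := by
    ext j; simp
  have hIn : I n = m := by
    simp only [hI, hall, Set.image_univ, hu]
    exact sup_eq_left.2 (Ideal.pow_le_self two_ne_zero)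
  have hJn : J n = Ideal.span (Set.range fun i => τ i • u i) ⊔ m ^ 2 := by
    simp only [hJ, hall, Set.image_univ]
  have hNm : Ideal.span (Set.range fun i => τ i • u i) ≤ m := by
    rw [Ideal.span_le]
    rintro _ ⟨i, rfl⟩
    apply hsmul_m
    rw [← hu]
    exact Ideal.subset_span ⟨i, rfl⟩
  apply le_antisymm hNm
  have hle : m ≤ Ideal.span (Set.range fun i => τ i • u i) ⊔ m • m := by
    have := hIJ n le_rfl
    rw [hIn, hJn, pow_two] at this
    exact this
  have hfg : (m : Submodule A A).FG := by
    rw [← hu]
    exact Submodule.fg_span (Set.finite_range u)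
  exact Submodule.le_of_le_smul_of_le_jacobson_bot hfg (maximalIdeal_le_jacobson ⊥) hle

theorem result
    (A : Type u) [CommRing A] [IsRegularLocalRing A]
    (G : Type v) [Group G] [Finite G] [MulSemiringAction G A]
    (hres : ∀ (σ : G) (a : A), σ • a - a ∈ IsLocalRing.maximalIdeal A)
    (n : ℕ) (hn : ringKrullDim A = n) (u : Fin n → A)
    (hu : Ideal.span (Set.range u) = IsLocalRing.maximalIdeal A)
    (htri : ∀ (σ : G) (i : Fin n),
      σ • u i ∈ Ideal.span (u '' {j | j ≤ i}) ⊔ IsLocalRing.maximalIdeal A ^ 2) :
    ∀ τ : Fin n → G,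
      Ideal.span (Set.range fun i => τ i • u i) = IsLocalRing.maximalIdeal A :=
  fun τ => core A G n u hu htri τ

end Groth.Agent.S15795
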