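import Groth.Statements.S15792
import Groth.Agent.S15795
import Mathlib

set_option autoImplicit false
universe u v

namespace Groth.Agent.S15792

open Module

/-- a finite `p`-group acting linearly on a nonzero vector space of characteristic `p` fixes a nonzero
vector. -/
theorem exists_fixed_ne_zero (p : ℕ) [Fact p.Prime] (κ : Type u) [Field κ] [CharP κ p]
    (G : Type v) [Group G] [Finite G] (hG : IsPGroup p G)
    (V : Type u) [AddCommGroup V] [Module κ V] [Nontrivial V] (ρ : Representation κ G V) :
    ∃ v : V, v ≠ 0 ∧ ∀ g, ρ g v = v := by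
  classical
  obtain ⟨v₀, hv₀⟩ := exists_ne (0 : V)
  have hpV : ∀ x : V, p • x = 0 := by
    intro x
    rw [← Nat.cast_smul_eq_nsmul κ, CharP.cast_eq_zero, zero_smul]
  set S : Set V := Set.range fun g => ρ g v₀ with hS
  set H : AddSubgroup V := AddSubgroup.closure S with hH
  have hv₀H : v₀ ∈ H := AddSubgroup.subset_closure ⟨1, by simp⟩
  have hstab : ∀ g (x : V), x ∈ H → ρ g x ∈ H := by
    intro g x hx
    induction hx using AddSubgroup.closure_induction with
    | mem x hx =>
      obtain ⟨g', rfl⟩ := hx
      apply AddSubgroup.subset_closure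
      exact ⟨g * g', by simp [map_mul]⟩
    | zero => simp
    | add x y _ _ hx hy => rw [map_add]; exact add_mem hx hy
    | neg x _ hx => rw [map_neg]; exact neg_mem hx
  -- H is finite
  haveI : AddGroup.FG H := by
    rw [AddGroup.fg_iff_addSubgroup_fg, AddSubgroup.fg_iff]
    exact ⟨S, rfl, Set.finite_range _⟩
  haveI : Finite H := by
    apply AddCommGroup.finite_of_fg_isAddTorsion
    intro x
    rw [isOfFinAddOrder_iff_nsmul_eq_zero]
    refine ⟨p, (Fact.out : p.Prime).pos, ?_⟩
    ext
    simp [hpV]
  letI : MulAction G H :=
    { smul := fun g x => ⟨ρ g x.1, hstab g x.1 x.2⟩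
      one_smul := fun x => by
        apply Subtype.ext
        show ρ 1 x.1 = x.1
        simp
      mul_smul := fun g g' x => by
        apply Subtype.ext
        show ρ (g * g') x.1 = ρ g (ρ g' x.1)
        simp [map_mul] }
  have hsmul : ∀ (g : G) (x : H), ((g • x : H) : V) = ρ g x.1 := fun _ _ => rfl
  have hdvd : p ∣ Nat.card H := by
    have h1 : addOrderOf (⟨v₀, hv₀H⟩ : H) = p := by
      apply addOrderOf_eq_prime
      · ext; simp [hpV]
      · intro h; apply hv₀; exact congrArg Subtype.val h
    rw [← h1]
    exact addOrderOf_dvd_natCard _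
  have h0 : (0 : H) ∈ MulAction.fixedPoints G H := by
    intro g
    apply Subtype.ext
    rw [hsmul]; simp
  obtain ⟨b, hb, hb0⟩ := hG.exists_fixed_point_of_prime_dvd_card_of_fixed_point H hdvd h0
  refine ⟨b.1, fun h => hb0 (Subtype.ext h.symm), fun g => ?_⟩
  have := hb g
  rw [← hsmul, this]

/-- a full flag fixed by a `p`-group. -/
theorem exists_flag (p : ℕ) [Fact p.Prime] (κ : Type u) [Field κ] [CharP κ p]
    (G : Type v) [Group G] [Finite G] (hG : IsPGroup p G) (n : ℕ) :
    ∀ (V : Type u) [AddCommGroup V] [Module κ V] [FiniteDimensional κ V]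
      (ρ : Representation κ G V), Module.finrank κ V = n →
      ∃ u : Fin n → V, Submodule.span κ (Set.range u) = ⊤ ∧
        ∀ g i, ρ g (u i) - u i ∈ Submodule.span κ (u '' {j | j < i}) := by
  induction n with
  | zero =>
    intro V _ _ _ ρ hn
    haveI : Subsingleton V := Module.finrank_zero_iff.1 hn
    refine ⟨fun i => i.elim0, Subsingleton.elim _ _, fun g i => i.elim0⟩
  | succ n ih =>
    intro V _ _ _ ρ hn
    haveI : Nontrivial V := Module.nontrivial_of_finrank_pos (R := κ) (by omega)
    obtain ⟨v, hv0, hv⟩ := exists_fixed_ne_zero p κ G hG V ρ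
    set W : Submodule κ V := Submodule.span κ {v} with hW
    have hWstab : ∀ g, W ≤ W.comap (ρ g) := by
      intro g
      rw [hW, Submodule.span_le]
      intro x hx
      rw [Set.mem_singleton_iff] at hx
      rw [hx, SetLike.mem_coe, Submodule.mem_comap, hv g]
      exact Submodule.mem_span_singleton_self v
    have hrank : Module.finrank κ (V ⧸ W) = n := by
      have h1 := Submodule.finrank_quotient_add_finrank W
      have h2 : Module.finrank κ W = 1 := finrank_span_singleton hv0
      omega
    obtain ⟨ū, hspan, htri⟩ := ih (V ⧸ W) (ρ.quotient W hWstab) hrank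
    choose u' hu' using fun i => Submodule.mkQ_surjective W (ū i)
    refine ⟨Fin.cons v u', ?_, ?_⟩
    · -- spanning
      set S := Submodule.span κ (Set.range (Fin.cons v u' : Fin (n + 1) → V)) with hS
      have hWS : W ≤ S := by
        rw [hW, Submodule.span_le, Set.singleton_subset_iff]
        apply Submodule.subset_span
        exact ⟨0, by simp⟩
      have hmap : Submodule.map W.mkQ S = ⊤ := by
        rw [eq_top_iff, ← hspan, Submodule.span_le]
        rintro _ ⟨i, rfl⟩
        refine ⟨u' i, ?_, hu' i⟩
        apply Submodule.subset_span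
        exact ⟨i.succ, by simp⟩
      rw [Submodule.map_mkQ_eq_top] at hmap
      rw [← hmap]
      exact (sup_eq_right.2 hWS).symm
    · intro g i
      refine Fin.cases ?_ (fun j => ?_) i
      · simp only [Fin.cons_zero, hv g, sub_self]
        exact zero_mem _
      · simp only [Fin.cons_succ]
        set T := Submodule.span κ ((Fin.cons v u' : Fin (n + 1) → V) '' {l | l < j.succ}) with hT
        have hWT : W ≤ T := by
          rw [hW, Submodule.span_le, Set.singleton_subset_iff]
          apply Submodule.subset_span
          exact ⟨0, by simp [Fin.succ_pos], by simp⟩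
        have hmapT : Submodule.span κ (ū '' {l | l < j}) ≤ Submodule.map W.mkQ T := by
          rw [Submodule.span_le]
          rintro _ ⟨l, hl, rfl⟩
          refine ⟨u' l, ?_, hu' l⟩
          apply Submodule.subset_span
          exact ⟨l.succ, by simpa using hl, by simp⟩
        have h1 := hmapT (htri g j)
        have h2 : W.mkQ (ρ g (u' j) - u' j) ∈ Submodule.map W.mkQ T := by
          rw [map_sub, hu' j]
          have : W.mkQ (ρ g (u' j)) = (ρ.quotient W hWstab) g (ū j) := by
            rw [← hu' j]; rfl
          rw [this]; exact h1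
        have h3 : ρ g (u' j) - u' j ∈ Submodule.comap W.mkQ (Submodule.map W.mkQ T) := h2
        rw [Submodule.comap_map_mkQ, sup_eq_right.2 hWT] at h3
        exact h3

section app

open IsLocalRing

variable (A : Type u) [CommRing A] [IsLocalRing A] (G : Type v) [Group G] [MulSemiringAction G A]

lemma smul_mem_max (σ : G) (a : A) (ha : a ∈ maximalIdeal A) : σ • a ∈ maximalIdeal A := by
  rw [mem_maximalIdeal, mem_nonunits_iff] at ha ⊢
  intro h
  apply ha
  have := h.map (MulSemiringAction.toRingHom G A σ⁻¹)
  simpa using this

/-- the additive map induced by `σ` on the cotangent space. -/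
noncomputable def cotMap (σ : G) : CotangentSpace A →ₗ[ℤ] CotangentSpace A :=
  Ideal.mapCotangent (R := ℤ) (maximalIdeal A) (maximalIdeal A)
    (MulSemiringAction.toRingHom G A σ).toIntAlgHom (fun a ha => smul_mem_max A G σ a ha)

lemma cotMap_toCotangent (σ : G) (y : maximalIdeal A) :
    cotMap A G σ ((maximalIdeal A).toCotangent y)
      = (maximalIdeal A).toCotangent ⟨σ • (y : A), smul_mem_max A G σ y y.2⟩ := rfl

variable (hres : ∀ (σ : G) (a : A), σ • a - a ∈ maximalIdeal A)

include hres in
lemma cotMap_smul (σ : G) (c : ResidueField A) (x : CotangentSpace A) :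
    cotMap A G σ (c • x) = c • cotMap A G σ x := by
  obtain ⟨a, rfl⟩ := residue_surjective c
  obtain ⟨y, rfl⟩ := Ideal.toCotangent_surjective _ x
  have h1 : ∀ z : maximalIdeal A, (residue A a) • (maximalIdeal A).toCotangent z
      = (maximalIdeal A).toCotangent (a • z) := by
    intro z
    rw [map_smul]
    exact algebraMap_smul (ResidueField A) a ((maximalIdeal A).toCotangent z)
  rw [h1, cotMap_toCotangent, cotMap_toCotangent, h1, Ideal.toCotangent_eq]
  have : ((⟨σ • ((a • y : maximalIdeal A) : A), smul_mem_max A G σ _ (a • y).2⟩ : maximalIdeal A) : A)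
      - ((a • (⟨σ • (y : A), smul_mem_max A G σ y y.2⟩ : maximalIdeal A) : maximalIdeal A) : A)
      = (σ • a - a) * (σ • (y : A)) := by
    simp only [Submodule.coe_smul, smul_eq_mul, smul_mul']
    ring
  rw [this, pow_two]
  exact Ideal.mul_mem_mul (hres σ a) (smul_mem_max A G σ y y.2)

/-- the representation of `G` on the cotangent space. -/
noncomputable def cotRep : Representation (ResidueField A) G (CotangentSpace A) where
  toFun σ :=
    { toFun := cotMap A G σ
      map_add' := map_add _
      map_smul' := fun c x => cotMap_smul A G hres σ c x }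
  map_one' := by
    apply LinearMap.ext
    intro x
    obtain ⟨y, rfl⟩ := Ideal.toCotangent_surjective _ x
    show cotMap A G 1 _ = _
    rw [cotMap_toCotangent]
    simp
  map_mul' := fun σ τ => by
    apply LinearMap.ext
    intro x
    obtain ⟨y, rfl⟩ := Ideal.toCotangent_surjective _ x
    rw [Module.End.mul_apply]
    show cotMap A G (σ * τ) _ = cotMap A G σ (cotMap A G τ _)
    rw [cotMap_toCotangent, cotMap_toCotangent, cotMap_toCotangent]
    simp [mul_smul]

lemma cotRep_toCotangent (σ : G) (y : maximalIdeal A) :
    cotRep A G hres σ ((maximalIdeal A).toCotangent y)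
      = (maximalIdeal A).toCotangent ⟨σ • (y : A), smul_mem_max A G σ y y.2⟩ := rfl

end app

section main

open IsLocalRing

/-- preimage of a `κ`-span in the cotangent space. -/
lemma mem_span_sup_sq (A : Type u) [CommRing A] [IsLocalRing A] (s : Set (maximalIdeal A))
    (z : maximalIdeal A)
    (hz : (maximalIdeal A).toCotangent z ∈
      Submodule.span (ResidueField A) ((maximalIdeal A).toCotangent '' s)) :
    (z : A) ∈ Ideal.span (Subtype.val '' s) ⊔ maximalIdeal A ^ 2 := by
  have h1 : (maximalIdeal A).toCotangent z ∈
      (Submodule.span (ResidueField A) ((maximalIdeal A).toCotangent '' s)).restrictScalars A := hz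
  rw [Submodule.restrictScalars_span A (ResidueField A) (residue_surjective),
    ← Submodule.map_span] at h1
  obtain ⟨w, hw, hwz⟩ := h1
  rw [Ideal.toCotangent_eq] at hwz
  have hw' : (w : A) ∈ Ideal.span (Subtype.val '' s) := by
    have := Submodule.mem_map_of_mem (f := (maximalIdeal A).subtype) hw
    rw [Submodule.map_span] at this
    exact this
  have : (z : A) = (w : A) - ((w : A) - (z : A)) := by ring
  rw [this]
  exact sub_mem (Ideal.mem_sup_left hw') (Ideal.mem_sup_right hwz)

end main

end Groth.Agent.S15792

namespace Groth.Agent.S15792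

open IsLocalRing

theorem result
    (p : ℕ) [Fact p.Prime] (A : Type u) [CommRing A] [IsRegularLocalRing A] [CharP A p]
    (G : Type v) [Group G] [Finite G] [MulSemiringAction G A] (hG : IsPGroup p G)
    (hres : ∀ (σ : G) (a : A), σ • a - a ∈ IsLocalRing.maximalIdeal A)
    (n : ℕ) (hn : ringKrullDim A = n) :
    ∃ u : Fin n → A, ∀ τ : Fin n → G,
      Ideal.span (Set.range fun i => τ i • u i) = IsLocalRing.maximalIdeal A := by
  classical
  have hp : p.Prime := Fact.out
  haveI : CharP (ResidueField A) p := by
    rw [CharP.charP_iff_prime_eq_zero hp]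
    have h1 : (residue A) (p : A) = (p : ResidueField A) := map_natCast _ _
    rw [← h1, CharP.cast_eq_zero, map_zero]
  have hfin : Module.finrank (ResidueField A) (CotangentSpace A) = n := by
    have h1 := (IsRegularLocalRing.iff_finrank_cotangentSpace A).1 inferInstance
    rw [hn] at h1
    exact_mod_cast h1
  obtain ⟨ū, hspan, htri⟩ := exists_flag p (ResidueField A) G hG n (CotangentSpace A)
    (cotRep A G hres) hfin
  choose y hy using fun i => Ideal.toCotangent_surjective _ (ū i)
  refine ⟨fun i => (y i : A), ?_⟩
  apply Groth.Agent.S15795.core A G n (fun i => (y i : A))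
  · have h1 : Submodule.span (ResidueField A)
        ((maximalIdeal A).toCotangent '' (Set.range y)) = ⊤ := by
      rw [← Set.range_comp]
      have : (maximalIdeal A).toCotangent ∘ y = ū := funext hy
      rw [this]; exact hspan
    rw [CotangentSpace.span_image_eq_top_iff] at h1
    have h2 := congrArg (Submodule.map (maximalIdeal A).subtype) h1
    rw [Submodule.map_span, Submodule.map_top, Submodule.range_subtype, ← Set.range_comp] at h2
    exact h2
  · intro σ i
    have hmem : σ • (y i : A) ∈ maximalIdeal A := smul_mem_max A G σ _ (y i).2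
    have h1 : (maximalIdeal A).toCotangent (⟨σ • (y i : A), hmem⟩ - y i) ∈
        Submodule.span (ResidueField A)
          ((maximalIdeal A).toCotangent '' (y '' {j | j < i})) := by
      have := htri σ i
      rw [← hy i, cotRep_toCotangent, ← map_sub] at this
      convert this using 2
      rw [Set.image_image]
      apply Set.image_congr
      intro j _
      exact hy j
    have h2 := mem_span_sup_sq A _ _ h1
    have h3 : Ideal.span (Subtype.val '' (y '' {j | j < i})) ⊔ maximalIdeal A ^ 2 ≤
        Ideal.span ((fun i => (y i : A)) '' {j | j ≤ i}) ⊔ maximalIdeal A ^ 2 := by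
      apply sup_le_sup_right
      apply Ideal.span_mono
      rw [Set.image_image]
      apply Set.image_mono
      intro j hj
      exact le_of_lt (show j < i from hj)
    have h4 : (y i : A) ∈ Ideal.span ((fun i => (y i : A)) '' {j | j ≤ i}) ⊔ maximalIdeal A ^ 2 := by
      apply Ideal.mem_sup_left
      apply Ideal.subset_span
      exact ⟨i, le_refl i, rfl⟩
    have h5 : σ • (y i : A) = (y i : A) + (σ • (y i : A) - (y i : A)) := by ring
    rw [h5]
    exact add_mem h4 (h3 h2)

end Groth.Agent.S15792
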