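import Groth.Statements.S15801
import Mathlib
import Groth.Agent.Lib.Helper73.MCM
import Groth.Agent.S11741
import Groth.Agent.Lib.Helper28.RegularCM
import Groth.Agent.Lib.Helper29.DepthCM
import Groth.Agent.Lib.Helper85.RegularGens
import Groth.Agent.Lib.Helper47.ComplMapFinite
import Groth.Agent.Lib.Helper61.PSLocal
-- import your own Groth.Agent.* helpers here

set_option autoImplicit false
universe u v
open WildQuot

namespace Groth.Agent.S15801

set_option linter.style.haveILetI false
set_option linter.unusedSectionVars false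

open scoped TensorProduct

/-- A regular local ring finite over a regular local ring of the same dimension (same residue
field) is free over it. -/
theorem free_of_dim_eq (R : Type u) [CommRing R] [IsRegularLocalRing R]
    (A : Type v) [CommRing A] [IsRegularLocalRing A] [Algebra R A] [Module.Finite R A]
    (hdimA : ringKrullDim A = ringKrullDim R)
    (hres : Function.Surjective (IsLocalRing.residue A ∘ algebraMap R A)) :
    Module.Free R A := by
  classical
  have hloc : ∀ r ∈ IsLocalRing.maximalIdeal R,
      algebraMap R A r ∈ IsLocalRing.maximalIdeal A := by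
    intro r hr
    let f : R →+* IsLocalRing.ResidueField A := (IsLocalRing.residue A).comp (algebraMap R A)
    have hf : Function.Surjective f := hres
    have hmax : (RingHom.ker f).IsMaximal := RingHom.ker_isMaximal_of_surjective f hf
    have hker : RingHom.ker f = IsLocalRing.maximalIdeal R := IsLocalRing.eq_maximalIdeal hmax
    have h1 : r ∈ RingHom.ker f := by rw [hker]; exact hr
    have h2 : IsLocalRing.residue A (algebraMap R A r) = 0 := h1
    exact (IsLocalRing.residue_eq_zero_iff _).1 h2
  haveI : Algebra.IsIntegral R A := Algebra.IsIntegral.of_finite R A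
  obtain ⟨d, hd⟩ : ∃ d : ℕ, (IsLocalRing.maximalIdeal R).spanFinrank = d := ⟨_, rfl⟩
  have hdR : ringKrullDim R = (d : ℕ) := by
    rw [← hd]
    exact (IsRegularLocalRing.spanFinrank_maximalIdeal (R := R)).symm
  obtain ⟨x, hx⟩ := Groth.Agent.Lib.Helper85.exists_fin_span_range_eq (IsLocalRing.maximalIdeal R)
    (IsLocalRing.maximalIdeal R).fg_of_isNoetherianRing hd
  have hxs : Ideal.ofList (List.ofFn x) = IsLocalRing.maximalIdeal R := by
    refine Eq.trans ?_ hx
    unfold Ideal.ofList
    congr 1
    ext r
    simp [List.mem_ofFn]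
  obtain ⟨J, hJ⟩ : ∃ J : Ideal A, J = (IsLocalRing.maximalIdeal R).map (algebraMap R A) :=
    ⟨_, rfl⟩
  have hJle : J ≤ IsLocalRing.maximalIdeal A := by
    rw [hJ, Ideal.map_le_iff_le_comap]
    intro r hr
    exact hloc r hr
  have hys_mem : ∀ y ∈ (List.ofFn x).map (algebraMap R A), y ∈ IsLocalRing.maximalIdeal A := by
    intro y hy
    obtain ⟨r, hr, rfl⟩ := List.mem_map.mp hy
    have hr' : r ∈ IsLocalRing.maximalIdeal R := by
      rw [← hxs]
      exact Ideal.subset_span hr
    exact hloc r hr'
  have hys : Ideal.ofList ((List.ofFn x).map (algebraMap R A)) = J := by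
    rw [← Ideal.map_ofList, hxs, hJ]
  have hJtop : J ≠ ⊤ := fun h =>
    (IsLocalRing.maximalIdeal.isMaximal A).ne_top (top_le_iff.mp (h ▸ hJle))
  haveI : Nontrivial (A ⧸ J) := Ideal.Quotient.nontrivial_iff.mpr hJtop
  have hK0 : Ring.KrullDimLE 0 (A ⧸ J) := by
    apply Ring.KrullDimLE.mk₀
    intro Q' hQ'
    haveI := hQ'
    have hsurj : Function.Surjective (Ideal.Quotient.mk J) := Ideal.Quotient.mk_surjective
    haveI hQ : (Q'.comap (Ideal.Quotient.mk J)).IsPrime := Ideal.comap_isPrime _ _
    have hJQ : J ≤ Q'.comap (Ideal.Quotient.mk J) := by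
      intro a ha
      show Ideal.Quotient.mk J a ∈ Q'
      rw [Ideal.Quotient.eq_zero_iff_mem.mpr ha]; exact Q'.zero_mem
    have hcomap : (Q'.comap (Ideal.Quotient.mk J)).comap (algebraMap R A) =
        IsLocalRing.maximalIdeal R := by
      have hle : IsLocalRing.maximalIdeal R ≤
          (Q'.comap (Ideal.Quotient.mk J)).comap (algebraMap R A) := by
        rw [← Ideal.map_le_iff_le_comap, ← hJ]; exact hJQ
      have hne : (Q'.comap (Ideal.Quotient.mk J)).comap (algebraMap R A) ≠ ⊤ :=
        (Ideal.comap_isPrime _ _).ne_top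
      exact ((IsLocalRing.maximalIdeal.isMaximal R).eq_of_le hne hle).symm
    have hQmax : (Q'.comap (Ideal.Quotient.mk J)).IsMaximal :=
      Ideal.isMaximal_of_isIntegral_of_isMaximal_comap (R := R) _
        (by rw [hcomap]; exact IsLocalRing.maximalIdeal.isMaximal R)
    rcases Ideal.map_eq_top_or_isMaximal_of_surjective (Ideal.Quotient.mk J) hsurj hQmax with h | h
    · rw [Ideal.map_comap_of_surjective _ hsurj] at h
      exact absurd h hQ'.ne_top
    · rwa [Ideal.map_comap_of_surjective _ hsurj] at h
  have h0 : ringKrullDim (A ⧸ J) = 0 := ringKrullDimZero_iff_ringKrullDim_eq_zero.mp hK0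
  have hCM : LocCoh.IsCohenMacaulayModule A A :=
    Groth.Agent.Lib.Helper28.isCohenMacaulayModule_self_of_isRegularLocalRing A
  have hreg : RingTheory.Sequence.IsWeaklyRegular A ((List.ofFn x).map (algebraMap R A)) := by
    rw [Groth.Agent.Lib.Helper29.isWeaklyRegular_iff_supportDim_of_isCohenMacaulayModule A A hCM _
      hys_mem]
    have h1 : (Ideal.ofList ((List.ofFn x).map (algebraMap R A)) • (⊤ : Submodule A A)) = J := by
      rw [hys, smul_eq_mul, Ideal.mul_top]
    rw [h1, Module.supportDim_self_eq_ringKrullDim, hdimA, hdR, List.length_map, List.length_ofFn]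
    have h2 : Module.supportDim A (A ⧸ J) = 0 := by
      rw [← h0]; exact Module.supportDim_quotient_eq_ringKrullDim _
    rw [h2, zero_add]
  have hreg' : RingTheory.Sequence.IsWeaklyRegular A (List.ofFn x) :=
    (RingTheory.Sequence.isWeaklyRegular_map_algebraMap_iff (S := A) (M := A) (List.ofFn x)).mp hreg
  obtain ⟨m, s, hs⟩ := Module.Finite.exists_fin (R := R) (M := A)
  let π : (Fin m → R) →ₗ[R] A := Fintype.linearCombination R s
  have hπ : Function.Surjective π :=
    (span_range_eq_top_iff_surjective_fintypeLinearCombination R s).1 hs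
  let e : ((Fin m → R) ⧸ LinearMap.ker π) ≃ₗ[R] A := π.quotKerEquivOfSurjective hπ
  have hreg'' : RingTheory.Sequence.IsWeaklyRegular ((Fin m → R) ⧸ LinearMap.ker π)
      (List.ofFn x) := (e.isWeaklyRegular_congr (List.ofFn x)).mpr hreg'
  have hmem : ∀ r ∈ List.ofFn x, r ∈ IsLocalRing.maximalIdeal R := by
    intro r hr
    rw [← hxs]; exact Ideal.subset_span hr
  have hdepth : ((IsLocalRing.maximalIdeal R).spanFinrank : ℕ∞) ≤
      LocCoh.depth R ((Fin m → R) ⧸ LinearMap.ker π) := by
    have h := Groth.Agent.Lib.Helper29.length_le_idealDepth (IsLocalRing.maximalIdeal R)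
      ((Fin m → R) ⧸ LinearMap.ker π) (List.ofFn x) hreg'' hmem
    rw [List.length_ofFn] at h
    rw [hd]; exact h
  haveI := Groth.Agent.Lib.Helper73.MCM.free_of_le_depth R ((Fin m → R) ⧸ LinearMap.ker π) hdepth
  exact Module.Free.of_equiv e


/-- approximation modulo powers of the maximal ideal by a finitely generated submodule -/
theorem exists_fg_approx {P A : Type*} [CommRing P] [CommRing A] [Algebra P A] [IsLocalRing A]
    [IsNoetherianRing A]
    (hres : ∀ a : A, ∃ r : P, a - algebraMap P A r ∈ IsLocalRing.maximalIdeal A) (N : ℕ) :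
    ∃ T : Submodule P A, T.FG ∧ ∀ a : A, ∃ t ∈ T, a - t ∈ IsLocalRing.maximalIdeal A ^ N := by
  classical
  obtain ⟨G, hG⟩ : ∃ G : Finset A, Submodule.span A (G : Set A) = IsLocalRing.maximalIdeal A :=
    (IsNoetherian.noetherian (IsLocalRing.maximalIdeal A))
  induction N with
  | zero =>
    refine ⟨⊥, Submodule.fg_bot, fun a => ⟨0, Submodule.zero_mem _, ?_⟩⟩
    rw [pow_zero, Ideal.one_eq_top]
    exact Submodule.mem_top
  | succ N ih =>
    obtain ⟨T, hT, hTa⟩ := ih
    refine ⟨Submodule.span P {(1 : A)} ⊔ G.sup (fun g => T.map (LinearMap.mulLeft P g)), ?_, ?_⟩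
    · apply Submodule.FG.sup (Submodule.fg_span_singleton _)
      apply Submodule.fg_finset_sup
      intro g _
      exact hT.map _
    · intro a
      obtain ⟨r, hr⟩ := hres a
      rw [← hG] at hr
      obtain ⟨c, -, hc⟩ := Submodule.mem_span_finset.mp hr
      choose tt htT htm using fun g => hTa (c g)
      refine ⟨r • (1 : A) + ∑ g ∈ G, g * tt g, ?_, ?_⟩
      · apply Submodule.add_mem
        · exact Submodule.mem_sup_left (Submodule.smul_mem _ _ (Submodule.mem_span_singleton_self _))
        · apply Submodule.mem_sup_right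
          apply Submodule.sum_mem
          intro g hg
          have h1 : T.map (LinearMap.mulLeft P g) ≤
              G.sup (fun g => T.map (LinearMap.mulLeft P g)) :=
            Finset.le_sup (f := fun g => T.map (LinearMap.mulLeft P g)) hg
          exact h1 ⟨tt g, htT g, rfl⟩
      · have h2 : a - (r • (1 : A) + ∑ g ∈ G, g * tt g) = ∑ g ∈ G, (c g - tt g) * g := by
          have h3 : a = algebraMap P A r + ∑ g ∈ G, c g • g := by
            rw [hc]
            ring
          rw [Algebra.smul_def, mul_one]
          conv_lhs => rw [h3]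
          rw [add_sub_add_left_eq_sub, ← Finset.sum_sub_distrib]
          refine Finset.sum_congr rfl fun g _ => ?_
          rw [smul_eq_mul]
          ring
        rw [h2, pow_succ]
        apply Ideal.sum_mem
        intro g hg
        apply Ideal.mul_mem_mul (htm g)
        rw [← hG]
        exact Submodule.subset_span hg

/-- complete Nakayama in the local setting -/
theorem finite_of_complete {P A : Type*} [CommRing P] [CommRing A] [Algebra P A] [IsLocalRing A]
    [IsNoetherianRing A] (I : Ideal P) [IsPrecomplete I P]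
    [IsHausdorff (IsLocalRing.maximalIdeal A) A]
    (hI : I.map (algebraMap P A) ≤ IsLocalRing.maximalIdeal A) (N : ℕ)
    (hN : IsLocalRing.maximalIdeal A ^ N ≤ I.map (algebraMap P A))
    (hres : ∀ a : A, ∃ r : P, a - algebraMap P A r ∈ IsLocalRing.maximalIdeal A) :
    Module.Finite P A := by
  haveI : IsHausdorff I A := by
    refine ⟨fun x hx => ?_⟩
    apply IsHausdorff.haus (inferInstance : IsHausdorff (IsLocalRing.maximalIdeal A) A)
    intro j
    have h1 := hx j
    rw [SModEq.zero] at h1 ⊢
    rw [Ideal.smul_top_eq_map (S := A)] at h1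
    have h2 : x ∈ Ideal.map (algebraMap P A) (I ^ j) := h1
    rw [Ideal.map_pow] at h2
    rw [smul_eq_mul, Ideal.mul_top]
    exact Ideal.pow_right_mono hI j h2
  obtain ⟨T, hT, hTa⟩ := exists_fg_approx (P := P) (A := A) hres N
  apply Groth.Agent.Lib.Helper47.ComplMap.finite_of_isPrecomplete_of_isHausdorff I T hT
  intro a
  obtain ⟨t, ht, hat⟩ := hTa a
  refine ⟨t, ht, ?_⟩
  rw [Ideal.smul_top_eq_map (S := A)]
  exact hN hat

end Groth.Agent.S15801

namespace Groth.Agent.S15801

/-- Let `A` be a complete regular local ring of Krull dimension `n`, `k` a field with `k → A` mapping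
onto the residue field, `x_1, …, x_n ∈ A` a system of parameters (the radical of `(x_1, …, x_n)` is
the maximal ideal), and `φ : k[[X_1, …, X_n]] → A` the `k`-algebra map with `φ X_i = x_i`. Then `A`
is a finite free module over `k[[X_1, …, X_n]]` through `φ`, of rank the length `d` of `A / (x_1, …,
x_n)`: there are `b_1, …, b_d ∈ A` such that `(r_1, …, r_d) ↦ Σ φ(r_i) b_i` is a bijection from
`d`-tuples of power series onto `A`. -/
theorem result
    (A : Type u) [CommRing A] [IsRegularLocalRing A]
    [IsAdicComplete (IsLocalRing.maximalIdeal A) A] (n : ℕ) (hn : ringKrullDim A = n)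
    (k : Type v) [Field k] [Algebra k A]
    (hk : Function.Surjective (IsLocalRing.residue A ∘ algebraMap k A))
    (x : Fin n → A) (hx : (Ideal.span (Set.range x)).radical = IsLocalRing.maximalIdeal A)
    (φ : MvPowerSeries (Fin n) k →ₐ[k] A) (hφ : ∀ i, φ (MvPowerSeries.X i) = x i) :
    ∃ (d : ℕ) (b : Fin d → A), (d : ℕ∞) = Module.length A (A ⧸ Ideal.span (Set.range x)) ∧
      Function.Bijective (fun r : Fin d → MvPowerSeries (Fin n) k => ∑ i, φ (r i) * b i) := by
  classical
  letI algPA : Algebra (MvPowerSeries (Fin n) k) A := φ.toRingHom.toAlgebra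
  have halg : ∀ r, algebraMap (MvPowerSeries (Fin n) k) A r = φ r := fun r => rfl
  have hJ : Ideal.map (algebraMap (MvPowerSeries (Fin n) k) A)
      (IsLocalRing.maximalIdeal (MvPowerSeries (Fin n) k)) = Ideal.span (Set.range x) := by
    rw [Groth.Agent.Lib.Helper61.PSLocal.maximalIdeal_eq_span_X, Ideal.map_span,
      ← Set.range_comp]
    congr 2
    funext i
    exact hφ i
  have hxm : Ideal.span (Set.range x) ≤ IsLocalRing.maximalIdeal A := by
    rw [← hx]
    exact Ideal.le_radical
  obtain ⟨N, hN⟩ := Ideal.exists_radical_pow_le_of_fg (Ideal.span (Set.range x))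
    (IsNoetherian.noetherian _)
  rw [hx] at hN
  have hres' : ∀ a : A, ∃ r : MvPowerSeries (Fin n) k,
      a - algebraMap (MvPowerSeries (Fin n) k) A r ∈ IsLocalRing.maximalIdeal A := by
    intro a
    obtain ⟨c, hc⟩ := hk (IsLocalRing.residue A a)
    refine ⟨algebraMap k (MvPowerSeries (Fin n) k) c, ?_⟩
    rw [halg, φ.commutes, ← IsLocalRing.residue_eq_zero_iff, map_sub, sub_eq_zero]
    exact hc.symm
  haveI hcompP : IsAdicComplete (IsLocalRing.maximalIdeal (MvPowerSeries (Fin n) k))
      (MvPowerSeries (Fin n) k) := by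
    rw [Groth.Agent.Lib.Helper61.PSLocal.maximalIdeal_eq_span_X]
    infer_instance
  haveI hfin : Module.Finite (MvPowerSeries (Fin n) k) A :=
    finite_of_complete (IsLocalRing.maximalIdeal (MvPowerSeries (Fin n) k))
      (by rw [hJ]; exact hxm) N (by rw [hJ]; exact hN) hres'
  haveI hregP : IsRegularLocalRing (MvPowerSeries (Fin n) k) := by
    apply IsRegularLocalRing.of_spanFinrank_maximalIdeal_le
    rw [Groth.Agent.S11741.ringKrullDim_mvPowerSeries,
      Groth.Agent.Lib.Helper61.PSLocal.maximalIdeal_eq_span_X]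
    have h1 := Submodule.spanFinrank_span_le_ncard_of_finite (R := MvPowerSeries (Fin n) k)
      (Set.finite_range (MvPowerSeries.X : Fin n → MvPowerSeries (Fin n) k))
    have h2 : (Set.range (MvPowerSeries.X : Fin n → MvPowerSeries (Fin n) k)).ncard ≤ n := by
      have := Set.ncard_image_le (f := (MvPowerSeries.X : Fin n → MvPowerSeries (Fin n) k))
        (s := Set.univ) Set.finite_univ
      rw [Set.image_univ] at this
      simpa using this
    have h3 : (Ideal.span (Set.range
        (MvPowerSeries.X : Fin n → MvPowerSeries (Fin n) k))).spanFinrank ≤ n := le_trans h1 h2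
    exact_mod_cast h3
  have hresP : Function.Surjective
      (IsLocalRing.residue A ∘ algebraMap (MvPowerSeries (Fin n) k) A) := by
    intro y
    obtain ⟨c, hc⟩ := hk y
    refine ⟨algebraMap k (MvPowerSeries (Fin n) k) c, ?_⟩
    rw [Function.comp_apply, halg, φ.commutes]
    exact hc
  haveI hfree : Module.Free (MvPowerSeries (Fin n) k) A :=
    free_of_dim_eq (MvPowerSeries (Fin n) k) A
      (hn.trans (Groth.Agent.S11741.ringKrullDim_mvPowerSeries k n).symm) hresP
  obtain ⟨b, -⟩ : ∃ b : Module.Basis (Fin (Module.finrank (MvPowerSeries (Fin n) k) A))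
      (MvPowerSeries (Fin n) k) A, True := ⟨Module.finBasis _ A, trivial⟩
  refine ⟨Module.finrank (MvPowerSeries (Fin n) k) A, b, ?_, ?_⟩
  · haveI hlh : IsLocalHom (algebraMap (MvPowerSeries (Fin n) k) A) := ⟨fun r hr => by
      by_contra h
      have h1 : r ∈ IsLocalRing.maximalIdeal (MvPowerSeries (Fin n) k) :=
        (IsLocalRing.mem_maximalIdeal r).2 h
      have h2 : algebraMap (MvPowerSeries (Fin n) k) A r ∈ IsLocalRing.maximalIdeal A := by
        apply hxm
        rw [← hJ]
        exact Ideal.mem_map_of_mem _ h1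
      exact (IsLocalRing.mem_maximalIdeal _).1 h2 hr⟩
    have hsurj : Function.Surjective
        (algebraMap (IsLocalRing.ResidueField (MvPowerSeries (Fin n) k))
          (IsLocalRing.ResidueField A)) := by
      intro y
      obtain ⟨a, rfl⟩ := IsLocalRing.residue_surjective y
      obtain ⟨r, hr⟩ := hres' a
      refine ⟨IsLocalRing.residue _ r, ?_⟩
      show IsLocalRing.ResidueField.map (algebraMap (MvPowerSeries (Fin n) k) A)
        (IsLocalRing.residue _ r) = IsLocalRing.residue _ a
      rw [IsLocalRing.ResidueField.map_residue, eq_comm, ← sub_eq_zero, ← map_sub,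
        IsLocalRing.residue_eq_zero_iff]
      exact hr
    have e2 : Module.length (IsLocalRing.ResidueField (MvPowerSeries (Fin n) k))
        (IsLocalRing.ResidueField A) = 1 := by
      rw [Module.length_eq_of_surjective hsurj, Module.length_eq_finrank, Module.finrank_self,
        Nat.cast_one]
    have e1 := IsLocalRing.length_restrictScalars (MvPowerSeries (Fin n) k) A
      (A ⧸ Ideal.map (algebraMap (MvPowerSeries (Fin n) k) A)
        (IsLocalRing.maximalIdeal (MvPowerSeries (Fin n) k)))
    rw [e2, mul_one] at e1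
    rw [← hJ, ← e1]
    let E : (A ⧸ Ideal.map (algebraMap (MvPowerSeries (Fin n) k) A)
        (IsLocalRing.maximalIdeal (MvPowerSeries (Fin n) k))) ≃ₗ[MvPowerSeries (Fin n) k]
        (Fin (Module.finrank (MvPowerSeries (Fin n) k) A) →₀
          (MvPowerSeries (Fin n) k ⧸ IsLocalRing.maximalIdeal (MvPowerSeries (Fin n) k))) :=
      (Submodule.Quotient.restrictScalarsEquiv (MvPowerSeries (Fin n) k)
        (Ideal.map (algebraMap (MvPowerSeries (Fin n) k) A)
          (IsLocalRing.maximalIdeal (MvPowerSeries (Fin n) k)))).symm ≪≫ₗ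
      Submodule.quotEquivOfEq _ _ (Ideal.smul_top_eq_map (S := A)
        (IsLocalRing.maximalIdeal (MvPowerSeries (Fin n) k))).symm ≪≫ₗ
      (TensorProduct.quotTensorEquivQuotSMul A
        (IsLocalRing.maximalIdeal (MvPowerSeries (Fin n) k))).symm ≪≫ₗ
      LinearEquiv.lTensor _ b.repr ≪≫ₗ
      TensorProduct.finsuppScalarRight (MvPowerSeries (Fin n) k) (MvPowerSeries (Fin n) k) _
        (Fin (Module.finrank (MvPowerSeries (Fin n) k) A))
    rw [E.length_eq, Module.length_finsupp]
    have h1 : Module.length (MvPowerSeries (Fin n) k)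
        (MvPowerSeries (Fin n) k ⧸ IsLocalRing.maximalIdeal (MvPowerSeries (Fin n) k)) = 1 := by
      show Module.length (MvPowerSeries (Fin n) k)
        (IsLocalRing.ResidueField (MvPowerSeries (Fin n) k)) = 1
      rw [Module.length_eq_of_surjective
        (IsLocalRing.residue_surjective (R := MvPowerSeries (Fin n) k)),
        Module.length_eq_finrank, Module.finrank_self, Nat.cast_one]
    rw [h1, mul_one]
    simp [ENat.card_eq_coe_fintype_card]
  · have heq : (fun r : Fin (Module.finrank (MvPowerSeries (Fin n) k) A) →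
        MvPowerSeries (Fin n) k => ∑ i, φ (r i) * b i) = b.equivFun.symm := by
      funext r
      rw [Module.Basis.equivFun_symm_apply]
      refine Finset.sum_congr rfl fun i _ => ?_
      rw [Algebra.smul_def]
      rfl
    rw [heq]
    exact b.equivFun.symm.bijective

end Groth.Agent.S15801
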