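import Groth.Statements.S2021
import Groth.Agent.H76.Glue
import Groth.Agent.S14952
import Groth.Agent.S14953
import Groth.Agent.S14954
import Mathlib.RingTheory.Flat.EquationalCriterion

set_option autoImplicit false
universe u
open TensorProduct
open EtAlg

namespace Groth.Agent.S2021

open Groth.Agent.H76

theorem result (B' B A' A : Type u) [CommRing B'] [CommRing B] [CommRing A'] [CommRing A]
    [Algebra B' B] [Algebra B' A'] [Algebra B A] [Algebra A' A] [Algebra B' A] [IsScalarTower B' B A] [IsScalarTower B' A' A]
    (hsq : EtMil.IsFibreSquare B' B A' A)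
    (N M' : Type u) [AddCommGroup N] [Module B N] [Module B' N] [IsScalarTower B' B N]
    [AddCommGroup M'] [Module A' M'] [Module B' M'] [IsScalarTower B' A' M'] (φ : A ⊗[B] N ≃ₗ[A] A ⊗[A'] M') :
    (Module.Finite B N → Module.Finite A' M' → Module.Finite B' ↥(EtMil.glue B' φ)) ∧
    (Module.Finite B N → Module.Projective B N → Module.Finite A' M' → Module.Projective A' M' →
      Module.Finite B' ↥(EtMil.glue B' φ) ∧ Module.Projective B' ↥(EtMil.glue B' φ)) := by
  have hfin : Module.Finite B N → Module.Finite A' M' → Module.Finite B' ↥(EtMil.glue B' φ) := by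
    intro hN hM'
    haveI : Module.Finite B (B ⊗[B'] (EtMil.glue B' φ)) :=
      Module.Finite.equiv (Glue.equivFst φ hsq).symm
    haveI : Module.Finite A' (A' ⊗[B'] (EtMil.glue B' φ)) :=
      Module.Finite.equiv (Glue.equivSnd φ hsq).symm
    exact Groth.Agent.S14953.result B' B A' A hsq _
  refine ⟨hfin, ?_⟩
  intro hN hNp hM' hM'p
  refine ⟨hfin hN hM', ?_⟩
  haveI : Module.Flat B (B ⊗[B'] (EtMil.glue B' φ)) :=
    Module.Flat.of_linearEquiv (Glue.equivFst φ hsq)
  haveI : Module.Flat A' (A' ⊗[B'] (EtMil.glue B' φ)) :=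
    Module.Flat.of_linearEquiv (Glue.equivSnd φ hsq)
  haveI : Module.FinitePresentation B N := Module.finitePresentation_of_projective B N
  haveI : Module.FinitePresentation A' M' := Module.finitePresentation_of_projective A' M'
  haveI : Module.FinitePresentation B (B ⊗[B'] (EtMil.glue B' φ)) :=
    Module.FinitePresentation.of_equiv (Glue.equivFst φ hsq).symm
  haveI : Module.FinitePresentation A' (A' ⊗[B'] (EtMil.glue B' φ)) :=
    Module.FinitePresentation.of_equiv (Glue.equivSnd φ hsq).symm
  haveI : Module.Flat B' ↥(EtMil.glue B' φ) := Groth.Agent.S14952.result B' B A' A hsq _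
  haveI : Module.FinitePresentation B' ↥(EtMil.glue B' φ) :=
    Groth.Agent.S14954.result B' B A' A hsq _
  exact Module.Flat.projective_of_finitePresentation

end Groth.Agent.S2021
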