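import Groth.Statements.S0005
import Groth.Agent.Lib.Helper2.PurityScheme
import Groth.Agent.Lib.Helper2.PurityExtend
import Groth.Agent.Lib.Helper2.PurePairDescent

set_option autoImplicit false
universe u
open FEt

namespace Groth.Agent.S0005

open CategoryTheory AlgebraicGeometry in
/-- Purity for finite étale covers, global form: let X be a Noetherian scheme all of whose local rings
are regular and U ⊆ X an open subscheme such that every point of X outside U has local ring of Krull
dimension at least 2. Then restriction of finite étale covers from X to U is an equivalence of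
categories. -/
theorem result (X : Scheme.{u}) [IsNoetherian X]
    (hreg : ∀ x : X, IsRegularLocalRing (X.presheaf.stalk x)) (U : X.Opens)
    (hU : ∀ x : X, x ∉ U → (2 : WithBot ℕ∞) ≤ ringKrullDim (X.presheaf.stalk x)) :
    (FEt.restrict U.ι).IsEquivalence := by
  have hess : (FEt.restrict U.ι).EssSurj :=
    Groth.Agent.Lib.Helper2.PurityExtend.essSurj_restrict_of_purity U (fun x hx => by
      haveI := hreg x
      exact Groth.Agent.Lib.Helper2.PurityScheme.purityHolds_of_isRegularLocalRing _ (hU x hx))
  have hdepth : ∀ x : X, x ∉ U →
      (2 : ℕ∞) ≤ LocCoh.depth (X.presheaf.stalk x) (X.presheaf.stalk x) := by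
    intro x hx
    haveI := hreg x
    have hA := hU x hx
    have hspan : 2 ≤ (IsLocalRing.maximalIdeal (X.presheaf.stalk x)).spanFinrank := by
      rw [← IsRegularLocalRing.spanFinrank_maximalIdeal (R := X.presheaf.stalk x)] at hA
      exact_mod_cast hA
    rw [Groth.Agent.Lib.Helper29.Purity.depth_self_eq]
    exact_mod_cast hspan
  have hH := Groth.Agent.Lib.Helper2.HartogsExt.hartogs_of_depth U hdepth
  obtain ⟨hfull, hfaith⟩ :=
    Groth.Agent.Lib.Helper2.PureDescent.full_faithful_restrict hH U.ι (Iso.refl _) (by simp)
  exact { faithful := hfaith, full := hfull, essSurj := hess }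

end Groth.Agent.S0005
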