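import Groth.Statements.S0015
-- import your own Groth.Agent.* helpers here

set_option autoImplicit false
universe u
open Coherent

namespace Groth.Agent.S0015

open AlgebraicGeometry in
/-- Let X be quasi-compact and quasi-separated and P a property of opens of X. If P holds for affine
opens, and P(U ∪ V) follows from P(U), P(V), P(U ∩ V) whenever U is quasi-compact open and V affine
open, then P holds for every quasi-compact open, in particular for X. -/
theorem result (X : Scheme.{u}) [CompactSpace X] [QuasiSeparatedSpace X]
    (P : X.Opens → Prop) (h₁ : ∀ U : X.Opens, IsAffineOpen U → P U)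
    (h₂ : ∀ U V : X.Opens, IsCompact (U : Set X) → IsAffineOpen V → P U → P V → P (U ⊓ V) →
      P (U ⊔ V))
    (U : X.Opens) (hU : IsCompact (U : Set X)) : P U := by
  classical
  -- Step 1: P holds for finite unions of basic opens of an affine open.
  have step0 : ∀ (W : X.Opens), IsAffineOpen W → ∀ (n : ℕ) (s : Finset Γ(X, W)), s.card ≤ n →
      P (⨆ f ∈ s, X.basicOpen f) := by
    intro W hW n
    induction n with
    | zero =>
      intro s hs
      have : s = ∅ := by simpa using hs
      subst this
      simpa using h₁ ⊥ (isAffineOpen_bot X)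
    | succ n ih =>
      intro s hs
      induction s using Finset.induction_on with
      | empty => simpa using h₁ ⊥ (isAffineOpen_bot X)
      | insert f s hf _ =>
        have hcard : s.card ≤ n := by
          rw [Finset.card_insert_of_notMem hf] at hs
          omega
        rw [Finset.iSup_insert, sup_comm]
        have hcomp : IsCompact ((⨆ g ∈ s, X.basicOpen g : X.Opens) : Set X) := by
          simp only [TopologicalSpace.Opens.iSup_mk, TopologicalSpace.Opens.carrier_eq_coe,
            TopologicalSpace.Opens.coe_mk]
          exact s.finite_toSet.isCompact_biUnion fun g _ => (hW.basicOpen g).isCompact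
        refine h₂ _ _ hcomp (hW.basicOpen f) (ih s hcard) (h₁ _ (hW.basicOpen f)) ?_
        have : (⨆ g ∈ s, X.basicOpen g) ⊓ X.basicOpen f =
            ⨆ g ∈ s.image (· * f), X.basicOpen g := by
          rw [Finset.iSup_finset_image]
          simp only [X.basicOpen_mul, iSup_inf_eq]
        rw [this]
        exact ih _ (Finset.card_image_le.trans hcard)
  have step1 : ∀ (W : X.Opens), IsAffineOpen W → ∀ (U : X.Opens), IsCompact (U : Set X) →
      U ≤ W → P U := by
    intro W hW U hU hUW
    have : ∀ x : U, ∃ f : Γ(X, W), X.basicOpen f ≤ U ∧ x.1 ∈ X.basicOpen f := fun x =>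
      hW.exists_basicOpen_le x (hUW x.2)
    choose f hf₁ hf₂ using this
    obtain ⟨t, ht⟩ := hU.elim_finite_subcover (fun x : U => (X.basicOpen (f x) : Set X))
      (fun x => (X.basicOpen (f x)).isOpen) (fun x hx => Set.mem_iUnion.mpr ⟨⟨x, hx⟩, hf₂ _⟩)
    have hUeq : U = ⨆ g ∈ t.image f, X.basicOpen g := by
      apply le_antisymm
      · intro x hx
        have := ht hx
        simp only [Set.mem_iUnion] at this
        obtain ⟨i, hi, hx⟩ := this
        simp only [Finset.mem_image, TopologicalSpace.Opens.mem_iSup]
        exact ⟨f i, ⟨i, hi, rfl⟩, hx⟩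
      · simp only [Finset.mem_image, iSup_le_iff]
        rintro g ⟨i, _, rfl⟩
        exact hf₁ i
    rw [hUeq]
    exact step0 W hW _ _ le_rfl
  refine compact_open_induction_on (P := P) U hU (h₁ ⊥ (isAffineOpen_bot X)) ?_
  intro S hS V hPS
  refine h₂ S V.1 hS V.2 hPS (h₁ _ V.2) (step1 V.1 V.2 _ ?_ inf_le_right)
  exact QuasiSeparatedSpace.inter_isCompact _ _ S.2 hS V.1.2 V.2.isCompact

end Groth.Agent.S0015
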