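import Groth.Statements.S0031
import Groth.Agent.S0461
import Groth.Agent.Lib.Helper1.SheafifyZero
import Groth.Agent.Lib.Helper1.QCohVanishing

set_option autoImplicit false
universe u
open Coherent

namespace Groth.Agent.S0031

open AlgebraicGeometry CategoryTheory in
/-- If f : X → S is quasi-compact and quasi-separated and S is quasi-compact, there is an integer n with
R^p f_* F = 0 for all p ≥ n and all quasi-coherent F (higher direct images of the underlying abelian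
sheaves). -/
theorem result {X S : Scheme.{u}} (f : X ⟶ S) [QuasiCompact f]
    [QuasiSeparated f] [CompactSpace S] :
    ∃ n : ℕ, ∀ (M : X.Modules), Coh.IsQCoh M → ∀ p : ℕ, n ≤ p →
      Limits.IsZero ((Coh.RpushAb f p).obj (Coh.toAb M)) := by
  classical
  obtain ⟨s, hs, hcov⟩ := (isCompact_iff_finite_and_eq_biUnion_affineOpens (X := S) (U := ⊤)).mp
    isCompact_univ
  -- a bound for each member of the covering
  have hV : ∀ V : S.affineOpens, ∃ d : ℕ, ∀ (Z : X.Opens),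
      (∀ U : X.Opens, IsAffineOpen U → U ≤ f ⁻¹ᵁ V.1 → IsAffineOpen (U ⊓ Z)) →
      ∀ (M : X.Modules), M.IsQuasicoherent → ∀ p : ℕ, d ≤ p →
      Subsingleton (CohTop.HU (X := X.toTopCat) (Coh.toAb M) p (f ⁻¹ᵁ V.1 ⊓ Z)) := fun V =>
    Groth.Agent.Lib.Helper1.exists_vanishing_of_isCompact_inter (f ⁻¹ᵁ V.1)
      (f.isQuasiSeparated_preimage V.2.isQuasiSeparated) (f ⁻¹ᵁ V.1)
      (f.isCompact_preimage V.2.isCompact) le_rfl
  choose d hd using hV
  obtain ⟨n, hn⟩ := (hs.image d).bddAbove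
  refine ⟨n, fun M hM p hp => ?_⟩
  obtain ⟨e⟩ := Groth.Agent.S0461.result f.base (Coh.toAb M) p
  refine Limits.IsZero.of_iso ?_ e
  refine Groth.Agent.Lib.Helper1.isZero_presheafToSheaf_of_basis _
    {W | ∃ V ∈ s, ∃ g : Γ(S, V.1), W = S.basicOpen g} ?_ ?_
  · rw [TopologicalSpace.Opens.isBasis_iff_nbhd]
    intro W x hxW
    have hx : x ∈ (⊤ : S.Opens) := trivial
    rw [hcov] at hx
    obtain ⟨V, hxV⟩ := TopologicalSpace.Opens.mem_iSup.mp hx
    obtain ⟨hVs, hxV⟩ := TopologicalSpace.Opens.mem_iSup.mp hxV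
    obtain ⟨g, hgW, hxg⟩ := V.2.exists_basicOpen_le (V := W) ⟨x, hxW⟩ hxV
    exact ⟨_, ⟨V, hVs, g, rfl⟩, hxg, hgW⟩
  · rintro _ ⟨V, hVs, g, rfl⟩
    have hle : X.basicOpen (f.app V.1 g) ≤ f ⁻¹ᵁ V.1 := X.basicOpen_le _
    have heq : f ⁻¹ᵁ S.basicOpen g = f ⁻¹ᵁ V.1 ⊓ X.basicOpen (f.app V.1 g) := by
      rw [Scheme.preimage_basicOpen, inf_eq_right.mpr hle]
    change Subsingleton (CohTop.HU (X := X.toTopCat) (Coh.toAb M) p (f ⁻¹ᵁ S.basicOpen g))
    rw [heq]
    refine hd V _ (fun U hU hUV => ?_) M hM p ((hn ⟨V, hVs, rfl⟩).trans hp)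
    rw [← X.basicOpen_res _ (homOfLE hUV).op]
    exact hU.basicOpen _

end Groth.Agent.S0031
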