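import Groth.Statements.S0032
import Groth.Agent.Lib.Helper1.QcqsLoc.GlobalSec

set_option autoImplicit false
universe u
open Coherent

namespace Groth.Agent.S0032

open AlgebraicGeometry CategoryTheory Opposite in
/-- Let f : X → S be quasi-compact and quasi-separated with S affine, and F quasi-coherent on X. Then
H^q(X, F) is isomorphic to the global sections of R^q f_* F (higher direct image of the underlying
abelian sheaf), for every q. -/
theorem result {X S : Scheme.{u}} (f : X ⟶ S)
    [QuasiCompact f] [QuasiSeparated f] [IsAffine S] (M : X.Modules) [Coh.IsQCoh M] (q : ℕ) :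
    Nonempty (Coh.HH X M q ≃+ ↑(((Coh.RpushAb f q).obj (Coh.toAb M)).obj.obj (op ⊤))) := by
  have : EnoughInjectives X.Modules :=
    inferInstanceAs (EnoughInjectives (SheafOfModules.{u} X.ringCatSheaf))
  have : HasInjectiveResolutions X.Modules := inferInstance
  obtain ⟨e₁⟩ :=
    Groth.Agent.Lib.Helper1.QcqsLoc.nonempty_HH_addEquiv_sections_rightDerived f M q
  obtain ⟨e₂⟩ := Groth.Agent.S11319.result f M q
  have e₃ := ((sheafToPresheaf (Opens.grothendieckTopology S) AddCommGrpCat.{u} ⋙
    (evaluation (TopologicalSpace.Opens S)ᵒᵖ AddCommGrpCat.{u}).obj (op ⊤)).mapIso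
      e₂).addCommGroupIsoToAddEquiv
  exact ⟨e₁.trans e₃⟩

end Groth.Agent.S0032
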