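import Groth.Statements.S0037
import Groth.Agent.S0461
import Groth.Agent.Lib.Helper1.AffineVanishing
import Groth.Agent.Lib.Helper61.StalkSheafifyZero
import Mathlib.AlgebraicGeometry.ZariskisMainTheorem

set_option autoImplicit false
universe u
open Coherent

namespace Groth.Agent.S0037

open AlgebraicGeometry CategoryTheory in
/-- Let Y be locally Noetherian, f : X → Y proper and y a point whose fibre f⁻¹{y} is finite. Then for
every coherent F on X and every p > 0 the stalk of R^p f_* F at y vanishes. -/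
theorem result {X Y : Scheme.{u}} (f : X ⟶ Y) [IsProper f]
    [IsLocallyNoetherian Y] (y : Y) (hy : (f.base ⁻¹' {y}).Finite) (M : X.Modules) (hM : Coh.IsCoh M)
    (p : ℕ) (hp : 0 < p) :
    Limits.IsZero (TopCat.Presheaf.stalk ((Coh.RpushAb f p).obj (Coh.toAb M)).obj y) := by
  obtain ⟨p, rfl⟩ : ∃ p', p = p' + 1 := ⟨p - 1, by omega⟩
  haveI : Coh.IsQCoh M := hM.1
  obtain ⟨V₀, hyV₀, hfin⟩ :=
    exists_isFinite_morphismRestrict_of_finite_preimage_singleton f y hy
  obtain ⟨e⟩ := Groth.Agent.S0461.result f.base (Coh.toAb M) (p + 1)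
  have hstalk : (TopCat.Presheaf.stalk ((Coh.RpushAb f (p + 1)).obj (Coh.toAb M)).obj y) ≅
      TopCat.Presheaf.stalk ((presheafToSheaf (Opens.grothendieckTopology Y)
        AddCommGrpCat.{u}).obj ((TopologicalSpace.Opens.map f.base).op ⋙
          Sheaf.cohomologyPresheaf.{u} (Coh.toAb M) (p + 1))).obj y :=
    (TopCat.Presheaf.stalkFunctor AddCommGrpCat.{u} y).mapIso
      ((sheafToPresheaf _ _).mapIso e)
  refine Limits.IsZero.of_iso ?_ hstalk
  refine Groth.Agent.Lib.Helper61.StalkSheafifyZero.isZero_stalk_presheafToSheaf_of_basis _ y V₀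
    hyV₀ _ Y.isBasis_affineOpens ?_
  intro V hV hVV₀
  have hV' : IsAffineOpen (f ⁻¹ᵁ V) := by
    have h1 : V₀.ι ''ᵁ (V₀.ι ⁻¹ᵁ V) = V := by
      rw [Scheme.Hom.image_preimage_eq_opensRange_inf, Scheme.Opens.opensRange_ι,
        inf_eq_right.mpr hVV₀]
    have h2 : IsAffineOpen (V₀.ι ⁻¹ᵁ V) := by
      rw [← Scheme.Hom.isAffineOpen_iff_of_isOpenImmersion V₀.ι, h1]
      exact hV
    have h3 : IsAffineOpen ((f ∣_ V₀) ⁻¹ᵁ (V₀.ι ⁻¹ᵁ V)) := h2.preimage (f ∣_ V₀)
    have h4 := (Scheme.Hom.isAffineOpen_iff_of_isOpenImmersion (f ⁻¹ᵁ V₀).ι).mpr h3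
    rwa [image_morphismRestrict_preimage, h1] at h4
  exact Groth.Agent.Lib.Helper1.subsingleton_HU_of_isAffineOpen M _ hV' p

end Groth.Agent.S0037
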