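import Groth.Statements.S0052
import Groth.Agent.S0051
import Groth.Agent.Lib.Helper45.Dev.AmpleFinite
import Groth.Agent.Lib.Helper11.PullbackAmple2

set_option linter.style.haveILetI false

set_option autoImplicit false
universe u
open Coherent

namespace Groth.Agent.S0052

open AlgebraicGeometry CategoryTheory in
/-- Let R be Noetherian, f : Y → X a finite surjective morphism of schemes proper over Spec R, and L
invertible on X. Ampleness of L is equivalent to ampleness of its pullback along f. -/
theorem result (R : Type u) [CommRing R] [IsNoetherianRing R]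
    {X Y : Scheme.{u}} (gX : X ⟶ Spec (CommRingCat.of R)) (gY : Y ⟶ Spec (CommRingCat.of R)) [IsProper gX]
    [IsProper gY] (f : Y ⟶ X) (hf : f ≫ gX = gY) [IsFinite f] [Surjective f] (L : X.Modules)
    (hL : PicF.IsInvertible L) :
    CohB1.IsAmple L ↔ CohB1.IsAmple ((Scheme.Modules.pullback f).obj L) := by
  open Groth.Agent.Lib.Helper45.AmpleFinite Groth.Agent.Lib.Helper45.SerreVanish in
  constructor
  · intro hamp
    exact Groth.Agent.Lib.Helper11.PullbackAmple.isAmple_pullback_of_isQuasiAffine f
      (Groth.Agent.Lib.Helper11.PullbackAmple2.isQuasiAffine_of_isAffineHom f) hamp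
  · intro hamp
    haveI : IsLocallyNoetherian X := LocallyOfFiniteType.isLocallyNoetherian gX
    haveI : CompactSpace X := QuasiCompact.compactSpace_of_compactSpace gX
    haveI : IsNoetherian X := {}
    haveI : IsLocallyNoetherian Y := LocallyOfFiniteType.isLocallyNoetherian gY
    haveI : CompactSpace Y := QuasiCompact.compactSpace_of_compactSpace gY
    haveI : IsNoetherian Y := {}
    have hL' : PicF.IsInvertible ((Scheme.Modules.pullback f).obj L) := hamp.1
    have hY := (Groth.Agent.S0051.result R Y gY ((Scheme.Modules.pullback f).obj L) hL').mp hamp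
    exact isAmple_of_serreVanish L hL
      (serreVanish_of_finite_surjective f L hL (fun M hM => hY M hM))

end Groth.Agent.S0052
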