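import Groth.Statements.S0063

set_option autoImplicit false
open CategoryTheory CategoryTheory.Limits AlgebraicGeometry Opposite
universe u
open EtBase

namespace Groth.Agent.S0063

/-- Rigidity of maps into an unramified separated scheme — two maps from a connected scheme over the
base that agree at one point, including on residue fields, coincide. -/
theorem result {X S Y : Scheme.{u}} (π : X ⟶ S)
    [FormallyUnramified π] [LocallyOfFiniteType π] [IsSeparated π]
    (h : Y ⟶ S) [ConnectedSpace Y] (f g : Y ⟶ X) (hf : f ≫ π = h) (hg : g ≫ π = h)
    (y : Y) (hy : Y.fromSpecResidueField y ≫ f = Y.fromSpecResidueField y ≫ g) : f = g := by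
  let Δ := pullback.diagonal π
  have hΔo : IsOpenImmersion Δ := inferInstance
  have hΔc : IsClosedImmersion Δ := inferInstance
  let fg : Y ⟶ pullback π π := pullback.lift f g (hf.trans hg.symm)
  let e := pullback.snd Δ fg
  have heo : IsOpenImmersion e := inferInstance
  have hec : IsClosedImmersion e := inferInstance
  have hclopen : IsClopen (Set.range e) :=
    ⟨e.isClosedEmbedding.isClosed_range, e.isOpenEmbedding.isOpen_range⟩
  have hy' : y ∈ Set.range e := by
    let t : Spec (Y.residueField y) ⟶ pullback Δ fg :=
      pullback.lift (Y.fromSpecResidueField y ≫ f) (Y.fromSpecResidueField y) (by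
        apply pullback.hom_ext
        · simp only [Δ, fg, Category.assoc, pullback.diagonal_fst, Category.comp_id]
          rw [pullback.lift_fst]
        · simp only [Δ, fg, Category.assoc, pullback.diagonal_snd, Category.comp_id]
          rw [pullback.lift_snd, hy])
    have ht : t ≫ e = Y.fromSpecResidueField y := pullback.lift_snd _ _ _
    have hne : Nonempty (Spec (Y.residueField y)) := inferInstance
    obtain ⟨s⟩ := hne
    refine ⟨t s, ?_⟩
    rw [← Scheme.Hom.comp_apply, ht, Scheme.fromSpecResidueField_apply]
  have hrange : Set.range e = Set.univ := hclopen.eq_univ ⟨y, hy'⟩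
  have hsurj : Surjective e := ⟨Set.range_eq_univ.mp hrange⟩
  have hiso : IsIso e := (isIso_iff_isOpenImmersion_and_surjective e).mpr ⟨heo, hsurj⟩
  have key : e ≫ f = e ≫ g := by
    have h1 : e ≫ fg = pullback.fst Δ fg ≫ Δ := pullback.condition.symm
    have h2 : e ≫ f = pullback.fst Δ fg := by
      have := congrArg (· ≫ pullback.fst π π) h1
      simp only [Δ, fg, Category.assoc, pullback.diagonal_fst, Category.comp_id] at this
      rwa [pullback.lift_fst] at this
    have h3 : e ≫ g = pullback.fst Δ fg := by
      have := congrArg (· ≫ pullback.snd π π) h1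
      simp only [Δ, fg, Category.assoc, pullback.diagonal_snd, Category.comp_id] at this
      rwa [pullback.lift_snd] at this
    rw [h2, h3]
  exact (cancel_epi e).mp key

end Groth.Agent.S0063
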