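import Groth.Statements.S0064
import Mathlib

set_option autoImplicit false
open CategoryTheory CategoryTheory.Limits AlgebraicGeometry Opposite
universe u
open EtBase

namespace Groth.Agent.S0064

open TopologicalSpace in
/-- A Noetherian topological space has finitely many clopen subsets. -/
theorem finite_clopens_of_noetherianSpace (W : Type*) [TopologicalSpace W] [NoetherianSpace W] :
    Finite (Clopens W) := by
  have hfin : {a : Set (Set W) | a ⊆ irreducibleComponents W}.Finite :=
    (NoetherianSpace.finite_irreducibleComponents (α := W)).finite_subsets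
  have : Finite ↥{a : Set (Set W) | a ⊆ irreducibleComponents W} := hfin.to_subtype
  let Φ : Clopens W → ↥{a : Set (Set W) | a ⊆ irreducibleComponents W} := fun C =>
    ⟨{Z | Z ∈ irreducibleComponents W ∧ Z ⊆ (C : Set W)}, fun Z hZ => hZ.1⟩
  have key : ∀ C C' : Clopens W, Φ C = Φ C' → (C : Set W) ⊆ C' := by
    intro C C' hCC' w hw
    have hZ : irreducibleComponent w ∈ (Φ C).1 :=
      ⟨irreducibleComponent_mem_irreducibleComponents w,
        (isIrreducible_irreducibleComponent (x := w)).isPreirreducible.isPreconnected.subset_isClopen
          C.isClopen ⟨w, mem_irreducibleComponent, hw⟩⟩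
    rw [hCC'] at hZ
    exact hZ.2 mem_irreducibleComponent
  refine Finite.of_injective Φ (fun C C' hCC' => ?_)
  exact SetLike.coe_injective ((key C C' hCC').antisymm (key C' C hCC'.symm))

/-- Let S be a Noetherian scheme, X → S a quasi-compact, separated, unramified morphism (formally
unramified and locally of finite type), and Y a Noetherian scheme with a morphism Y → S. Then there
are only finitely many S-morphisms Y → X. The published statement does not assume X → S separated;
it is stated here in the separated case. -/
theorem result {X S Y : Scheme.{u}} [IsNoetherian S] [IsNoetherian Y]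
    (π : X ⟶ S) [FormallyUnramified π] [LocallyOfFiniteType π] [QuasiCompact π] [IsSeparated π]
    (h : Y ⟶ S) : Set.Finite {f : Y ⟶ X | f ≫ π = h} := by
  let W := pullback π h
  let p : W ⟶ Y := pullback.snd π h
  have hpu : FormallyUnramified p :=
    MorphismProperty.of_isPullback (P := @FormallyUnramified) (IsPullback.of_hasPullback π h)
      ‹FormallyUnramified π›
  have hW1 : IsLocallyNoetherian W := inferInstance
  have hW2 : CompactSpace W := QuasiCompact.compactSpace_of_compactSpace p
  have hW : IsNoetherian W := {}
  have hfin : Finite (TopologicalSpace.Clopens W) := finite_clopens_of_noetherianSpace W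
  let σ : {f : Y ⟶ X | f ≫ π = h} → (Y ⟶ W) := fun f =>
    pullback.lift f.1 (𝟙 Y) (by rw [Category.id_comp]; exact f.2)
  have hσp : ∀ f, σ f ≫ p = 𝟙 Y := fun f => pullback.lift_snd _ _ _
  have hσfst : ∀ f, σ f ≫ pullback.fst π h = f.1 := fun f => pullback.lift_fst _ _ _
  have hcl : ∀ f, IsClosedImmersion (σ f) := by
    intro f
    have : IsClosedImmersion (σ f ≫ p) := by rw [hσp]; infer_instance
    exact IsClosedImmersion.of_comp (σ f) p
  have hop : ∀ f, IsOpenImmersion (σ f) := by
    intro f
    have : Etale (σ f ≫ p) := by rw [hσp]; infer_instance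
    have het : Etale (σ f) := Etale.of_comp (σ f) p
    have := hcl f
    exact IsOpenImmersion.of_flat_of_mono (σ f)
  let Φ : {f : Y ⟶ X | f ≫ π = h} → TopologicalSpace.Clopens W := fun f =>
    ⟨Set.range (σ f), ⟨(σ f).isClosedEmbedding.isClosed_range, (σ f).isOpenEmbedding.isOpen_range⟩⟩
  have hΦ : Function.Injective Φ := by
    intro f f' hff'
    have hrange : Set.range (σ f') ⊆ Set.range (σ f) := by
      have : ((Φ f' : TopologicalSpace.Clopens W) : Set W) = (Φ f : TopologicalSpace.Clopens W) := by
        rw [hff']
      exact this.le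
    have := hop f
    let τ : Y ⟶ Y := IsOpenImmersion.lift (σ f) (σ f') hrange
    have hτ : τ ≫ σ f = σ f' := IsOpenImmersion.lift_fac _ _ _
    have hτ1 : τ = 𝟙 Y := by
      have := congr($hτ ≫ p)
      rwa [Category.assoc, hσp, hσp, Category.comp_id] at this
    have hσ : σ f = σ f' := by rw [← hτ, hτ1, Category.id_comp]
    apply Subtype.ext
    rw [← hσfst f, ← hσfst f', hσ]
  exact Set.finite_coe_iff.mp (Finite.of_injective Φ hΦ)

end Groth.Agent.S0064
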