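import Groth.Statements.S0120
import Mathlib

set_option autoImplicit false
open CategoryTheory CategoryTheory.Limits AlgebraicGeometry Opposite
universe u
open EtBase

namespace Groth.Agent.S0120

/-- For an étale morphism X → Y with Y locally Noetherian and a point x of X, the local ring of X at x
and the local ring of Y at the image of x have the same Krull dimension. -/
theorem result {X Y : Scheme.{u}} (f : X ⟶ Y) [AlgebraicGeometry.Etale f]
    [IsLocallyNoetherian Y] (x : X) :
    ringKrullDim (X.presheaf.stalk x) = ringKrullDim (Y.presheaf.stalk (f.base x)) := by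
  have hX : IsLocallyNoetherian X := LocallyOfFiniteType.isLocallyNoetherian f
  have hflat : (f.stalkMap x).hom.Flat := Flat.stalkMap f x
  have hunr : (f.stalkMap x).hom.FormallyUnramified := FormallyUnramified.stalkMap f x
  have heft : (f.stalkMap x).hom.EssFiniteType := LocallyOfFiniteType.stalkMap f x
  have hloc : IsLocalHom (f.stalkMap x).hom := inferInstance
  algebraize [(f.stalkMap x).hom]
  have hloc' : IsLocalHom (algebraMap (Y.presheaf.stalk (f.base x)) (X.presheaf.stalk x)) := hloc
  have hmap : (IsLocalRing.maximalIdeal (Y.presheaf.stalk (f.base x))).map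
      (algebraMap (Y.presheaf.stalk (f.base x)) (X.presheaf.stalk x)) =
      IsLocalRing.maximalIdeal (X.presheaf.stalk x) :=
    Algebra.FormallyUnramified.map_maximalIdeal
  have hlies : (IsLocalRing.maximalIdeal (X.presheaf.stalk x)).LiesOver
      (IsLocalRing.maximalIdeal (Y.presheaf.stalk (f.base x))) := inferInstance
  have key := Ideal.height_eq_height_add_of_liesOver_of_hasGoingDown
    (IsLocalRing.maximalIdeal (Y.presheaf.stalk (f.base x)))
    (IsLocalRing.maximalIdeal (X.presheaf.stalk x))
  have hbot : (IsLocalRing.maximalIdeal (X.presheaf.stalk x)).map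
      (Ideal.Quotient.mk ((IsLocalRing.maximalIdeal (Y.presheaf.stalk (f.base x))).map
        (algebraMap (Y.presheaf.stalk (f.base x)) (X.presheaf.stalk x)))) = ⊥ :=
    Ideal.map_mk_eq_bot_of_le hmap.ge
  have hnt : Nontrivial (X.presheaf.stalk x ⧸
      ((IsLocalRing.maximalIdeal (Y.presheaf.stalk (f.base x))).map
        (algebraMap (Y.presheaf.stalk (f.base x)) (X.presheaf.stalk x)))) :=
    Ideal.Quotient.nontrivial_iff.mpr (hmap ▸ (IsLocalRing.maximalIdeal.isMaximal _).ne_top)
  rw [hbot, Ideal.height_bot, add_zero] at key
  rw [← IsLocalRing.maximalIdeal_height_eq_ringKrullDim,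
    ← IsLocalRing.maximalIdeal_height_eq_ringKrullDim, key]

end Groth.Agent.S0120
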