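import Groth.Statements.S0065
import Groth.Agent.S0120
import Groth.Agent.Lib.Helper24.FlatLocalGenerators

set_option autoImplicit false
open CategoryTheory CategoryTheory.Limits AlgebraicGeometry Opposite
universe u
open EtBase

namespace Groth.Agent.S0065

/-- For an étale morphism X → Y with Y locally Noetherian and a point x of X, the local ring of X at x
is regular if and only if the local ring of Y at the image of x is regular. -/
theorem result {X Y : Scheme.{u}} (f : X ⟶ Y) [AlgebraicGeometry.Etale f]
    [IsLocallyNoetherian Y] (x : X) :
    IsRegularLocalRing (X.presheaf.stalk x) ↔ IsRegularLocalRing (Y.presheaf.stalk (f.base x)) := by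
  have hX : IsLocallyNoetherian X := LocallyOfFiniteType.isLocallyNoetherian f
  have hflat : (f.stalkMap x).hom.Flat := Flat.stalkMap f x
  have hunr : (f.stalkMap x).hom.FormallyUnramified := FormallyUnramified.stalkMap f x
  have heft : (f.stalkMap x).hom.EssFiniteType := LocallyOfFiniteType.stalkMap f x
  have hloc : IsLocalHom (f.stalkMap x).hom := inferInstance
  have hdim := Groth.Agent.S0120.result f x
  algebraize [(f.stalkMap x).hom]
  have hloc' : IsLocalHom (algebraMap (Y.presheaf.stalk (f.base x)) (X.presheaf.stalk x)) := hloc
  have hmap : (IsLocalRing.maximalIdeal (Y.presheaf.stalk (f.base x))).map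
      (algebraMap (Y.presheaf.stalk (f.base x)) (X.presheaf.stalk x)) =
      IsLocalRing.maximalIdeal (X.presheaf.stalk x) :=
    Algebra.FormallyUnramified.map_maximalIdeal
  have hspan := Groth.Agent.Lib.Helper24.spanFinrank_maximalIdeal_eq_of_flat_of_map_eq hmap
  rw [isRegularLocalRing_iff, isRegularLocalRing_iff, hspan, hdim]

end Groth.Agent.S0065
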