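import Groth.Statements.S0068
import Mathlib
import Groth.Agent.Lib.Helper43.Recoll

set_option autoImplicit false
open CategoryTheory CategoryTheory.Limits AlgebraicGeometry Opposite
universe u
open EtBase

namespace Groth.Agent.S0068

open Groth.Agent.Lib.Helper43 Groth.Agent.Lib.Helper43.EtStalk

lemma bij_of_iso {A B : AddCommGrpCat.{u + 1}} (f : A ⟶ B) (h : IsIso f) : Function.Bijective f :=
  ConcreteCategory.bijective_of_isIso f

/-- the base change to `Z` of an étale `X`-scheme missing `Z` is empty -/
lemma isEmpty_bc {Z X : Scheme.{u}} (i : Z ⟶ X) (U : X.Etale)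
    (hU : Disjoint (Set.range U.hom.base) (Set.range i.base)) : IsEmpty ((EtCoh.bc i).obj U).left := by
  constructor
  intro p
  let p' : ↥(pullback U.hom i) := p
  have h1 : U.hom.base ((pullback.fst U.hom i).base p') = i.base ((pullback.snd U.hom i).base p') := by
    change ((pullback.fst U.hom i) ≫ U.hom).base p' = _
    rw [pullback.condition]
    rfl
  exact Set.disjoint_left.1 hU ⟨_, rfl⟩ ⟨_, h1.symm⟩

/-- conversely -/
lemma disjoint_of_isEmpty_bc {Z X : Scheme.{u}} (i : Z ⟶ X) (U : X.Etale)
    (hU : IsEmpty ((EtCoh.bc i).obj U).left) :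
    Disjoint (Set.range U.hom.base) (Set.range i.base) := by
  rw [Set.disjoint_left]
  rintro _ ⟨v, rfl⟩ ⟨z, hz⟩
  obtain ⟨p, -, -⟩ := Scheme.Pullback.exists_preimage_pullback (f := U.hom) (g := i) v z hz.symm
  exact hU.false p


/-- Part (2), second half — an abelian étale sheaf is a pushforward from a closed subscheme exactly when
its sections vanish over every étale scheme mapping into the open complement. -/
theorem result {Z X : Scheme.{u}} (i : Z ⟶ X) [IsClosedImmersion i] [EtCoh.BCCont i]
    (F : EtCoh.Ab X) :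
    (EtCoh.push i).essImage F ↔
      ∀ U : X.Etale, Disjoint (Set.range U.hom.base) (Set.range i.base) → IsZero (F.obj.obj (op U)) := by
  constructor
  · rintro ⟨G, ⟨e⟩⟩ U hU
    have h1 : Subsingleton (((EtCoh.push i).obj G).obj.obj (op U)) :=
      Groth.Agent.S0069.subsingleton_of_isEmpty G _ (isEmpty_bc i U hU)
    have h2 : IsZero (((EtCoh.push i).obj G).obj.obj (op U)) :=
      AddCommGrpCat.isZero_of_subsingleton _
    let eU : ((EtCoh.push i).obj G).obj.obj (op U) ≅ F.obj.obj (op U) :=
      ((sheafToPresheaf _ _).mapIso e).app (op U)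
    exact h2.of_iso eU.symm
  · intro hF
    -- the unit is an isomorphism
    have key : ∀ (Ω : Type u) [Field Ω] [IsSepClosed Ω] (ξ : Spec (CommRingCat.of Ω) ⟶ X),
        IsIso (((Scheme.pointSmallEtale ξ).sheafFiber (A := AddCommGrpCat.{u + 1})).map
          ((EtCoh.pullPushAdj i).unit.app F)) := by
      intro Ω _ _ ξ
      by_cases hmem : ξ.base default ∈ Set.range i.base
      · obtain ⟨ζ, rfl⟩ := ClosedStalk.exists_lift_closed i ξ hmem
        exact ClosedStalk.isIso_stalk_unit i F ζ
      · have hξ : Disjoint (Set.range ξ.base) (Set.range i.base) := by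
          rw [Set.disjoint_left]
          rintro _ ⟨q, rfl⟩ hq
          rw [Subsingleton.elim q default] at hq
          exact hmem hq
        have h1 : IsZero (((Scheme.pointSmallEtale ξ).sheafFiber (A := AddCommGrpCat.{u + 1})).obj
            ((EtCoh.push i).obj ((EtCoh.pull i).obj F))) := Groth.Agent.S0069.result i _ ξ hξ
        have h2 : IsZero (((Scheme.pointSmallEtale ξ).sheafFiber (A := AddCommGrpCat.{u + 1})).obj F) := by
          let Φ := Scheme.pointSmallEtale ξ
          have hsub : Subsingleton ↑(Φ.presheafFiber.obj F.obj) := by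
            constructor
            suffices h0 : ∀ a : ↑(Φ.presheafFiber.obj F.obj), a = 0 by
              intro a b
              rw [h0 a, h0 b]
            intro a
            obtain ⟨V, y, s, rfl⟩ := Φ.toPresheafFiber_jointly_surjective (P := F.obj) a
            obtain ⟨V', g, y', hyy', hemp⟩ := Groth.Agent.S0069.exists_refinement i ξ hξ V y
            rw [← hyy', ← Φ.toPresheafFiber_w_apply g y' F.obj]
            have hz := hF V' (disjoint_of_isEmpty_bc i V' hemp)
            have hss : Subsingleton (F.obj.obj (op V')) := AddCommGrpCat.subsingleton_of_isZero hz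
            have h3 : F.obj.map g.op s = 0 := @Subsingleton.elim _ hss _ _
            rw [h3]
            exact map_zero _
          exact @AddCommGrpCat.isZero_of_subsingleton _ hsub
        exact ⟨⟨0, h2.eq_of_src _ _, h1.eq_of_src _ _⟩⟩
    have hm : Mono ((EtCoh.pullPushAdj i).unit.app F) := mono_of_stalks_ab _ (fun Ω _ _ ξ =>
      (bij_of_iso _ (key Ω ξ)).1)
    have he : Epi ((EtCoh.pullPushAdj i).unit.app F) := epi_of_stalks_ab _ (fun Ω _ _ ξ =>
      (bij_of_iso _ (key Ω ξ)).2)
    have hiso : IsIso ((EtCoh.pullPushAdj i).unit.app F) := isIso_of_mono_of_epi _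
    exact ⟨(EtCoh.pull i).obj F, ⟨(asIso ((EtCoh.pullPushAdj i).unit.app F)).symm⟩⟩

end Groth.Agent.S0068
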