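import Groth.Statements.S0074
import Mathlib
import Groth.Agent.Lib.Helper43.HensSect
import Groth.Agent.Lib.Helper43.EtStalk

set_option autoImplicit false
open CategoryTheory CategoryTheory.Limits AlgebraicGeometry Opposite
universe u
open EtBase

namespace Groth.Agent.S0074

open Groth.Agent.Lib.Helper43 Groth.Agent.Lib.Helper43.EtStalk


/-- On the spectrum of a strictly henselian local ring, global sections of an abelian étale sheaf map
bijectively onto the stalk at the geometric closed point. -/
theorem result (R : Type u) [CommRing R] [HenselianLocalRing R]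
    [IsSepClosed (IsLocalRing.ResidueField R)] (F : EtCoh.Ab (Spec (CommRingCat.of R))) :
    Function.Bijective ((Scheme.pointSmallEtale
      (Spec.map (CommRingCat.ofHom (IsLocalRing.residue R)))).toPresheafFiber
        (EtCoh.top (Spec (CommRingCat.of R)))
        (Over.homMk (Spec.map (CommRingCat.ofHom (IsLocalRing.residue R))) (Category.comp_id _)) F.obj) := by
  let Φ := Scheme.pointSmallEtale (HensSect.ξ₀ R)
  let T := EtCoh.top (Spec (CommRingCat.of R))
  change Function.Bijective (Φ.toPresheafFiber T (HensSect.z₀ R) F.obj)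
  constructor
  · intro a b hab
    obtain ⟨U, g, y', hy', hs⟩ := (Φ.toPresheafFiber_eq_iff' _ _ _ _).1 hab
    obtain ⟨σ, hσ⟩ := HensSect.exists_section R U y'
    have h1 : σ ≫ g = 𝟙 T := HensSect.hom_top_ext _ _
    have h2 : ∀ c : F.obj.obj (op T), F.obj.map σ.op (F.obj.map g.op c) = c := by
      intro c
      have : F.obj.map (σ ≫ g).op c = c := by
        rw [h1, op_id, F.obj.map_id]
        rfl
      rw [op_comp, F.obj.map_comp] at this
      exact this
    rw [← h2 a, ← h2 b]
    exact congrArg (F.obj.map σ.op) hs
  · intro c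
    obtain ⟨U, y, t, rfl⟩ := Φ.toPresheafFiber_jointly_surjective (P := F.obj) c
    obtain ⟨σ, hσ⟩ := HensSect.exists_section R U y
    refine ⟨F.obj.map σ.op t, ?_⟩
    rw [← hσ]
    exact Φ.toPresheafFiber_w_apply σ (HensSect.z₀ R) F.obj t

end Groth.Agent.S0074
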