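import Groth.Statements.S0076
import Groth.Agent.Lib.Helper69.UnivHomeo2

set_option autoImplicit false
open CategoryTheory CategoryTheory.Limits AlgebraicGeometry Opposite
universe u
open EtBase
open Groth.Agent.Lib.Helper69

namespace Groth.Agent.S0076

/-- For X étale over S and any S-scheme Y, base change along an integral, universally injective,
surjective S' → S gives a bijection between S-morphisms Y → X and S'-morphisms of the base changes. -/
theorem result {S S' : Scheme.{u}} (g : S' ⟶ S) [IsIntegralHom g] [UniversallyInjective g]
    [Surjective g] (X Y : Over S) [AlgebraicGeometry.Etale X.hom] :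
    Function.Bijective (fun φ : Y ⟶ X => (Over.pullback g).map φ) := by
  have hqi : UniversallyInjective (pullback.fst Y.hom g) :=
    MorphismProperty.of_isPullback (P := @UniversallyInjective) (IsPullback.of_hasPullback Y.hom g).flip ‹_›
  have hdiag : IsOpenImmersion (pullback.diagonal X.hom) := inferInstance
  constructor
  · intro φ1 φ2 h
    have h1 : pullback.fst Y.hom g ≫ φ1.left = pullback.fst Y.hom g ≫ φ2.left := by
      have := congrArg (fun k => k.left ≫ pullback.fst X.hom g) h
      simp only [Over.pullback_map_left] at this
      exact (pullback.lift_fst _ _ _).symm.trans (this.trans (pullback.lift_fst _ _ _))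
    ext1
    exact eq_of_comp_eq_of_surjective X.hom φ1.left φ2.left (by rw [Over.w, Over.w])
      (pullback.fst Y.hom g) h1
  · intro ψ
    obtain ⟨ψl, hψl⟩ : ∃ ψl : pullback Y.hom g ⟶ pullback X.hom g, ψl = ψ.left := ⟨ψ.left, rfl⟩
    have hψw : ψl ≫ pullback.snd X.hom g = pullback.snd Y.hom g := by
      rw [hψl]; exact Over.w ψ
    obtain ⟨φ, hφ1, hφ2⟩ := exists_desc_of_universalHomeo' (pullback.fst Y.hom g) X.hom Y.hom
      (ψl ≫ pullback.fst X.hom g) (by
        rw [Category.assoc, pullback.condition, ← Category.assoc, hψw, pullback.condition])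
    refine ⟨Over.homMk φ hφ1, ?_⟩
    ext1
    have hgoal : ((Over.pullback g).map (Over.homMk φ hφ1 : Y ⟶ X)).left = ψl := by
      apply pullback.hom_ext
      · refine (pullback.lift_fst _ _ _).trans ?_
        exact hφ2
      · refine (pullback.lift_snd _ _ _).trans ?_
        exact hψw.symm
    exact hgoal.trans hψl

end Groth.Agent.S0076
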