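import Groth.Statements.S15362
import Groth.Agent.Lib.Helper96.SigmaLinWitt
import Groth.Agent.Lib.Helper96.SigmaLinDecomp
-- import your own Groth.Agent.* helpers here

set_option autoImplicit false
set_option linter.style.haveILetI false
universe u v w
open CAlg

namespace Groth.Agent.S15362

/-- For an algebraically closed field L of characteristic p > 0, a commutative L-algebra R integral over
L, and a finitely presented R-module M carrying an additive endomorphism φ with φ(r·m) = r^p·φ(m)
for r ∈ R, m ∈ M, the map m ↦ φ(m) − m is onto. (R is taken of exponential characteristic p so that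
its Frobenius is a ring endomorphism; for a non-zero L-algebra this is automatic.) -/
theorem result (p : ℕ) [Fact p.Prime]
    (L : Type u) [Field L] [IsAlgClosed L] [CharP L p]
    (R : Type v) [CommRing R] [Algebra L R] [Algebra.IsIntegral L R] [ExpChar R p]
    (M : Type w) [AddCommGroup M] [Module R M] [Module.FinitePresentation R M]
    (φ : M →ₛₗ[frobenius R p] M) :
    Function.Surjective fun m : M => φ m - m := by
  classical
  intro m
  have hp : p.Prime := Fact.out
  -- `M` as an `L`-module
  letI : Module L M := Module.compHom M (algebraMap L R)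
  haveI : IsScalarTower L R M := ⟨fun l r x => by
    change (l • r) • x = (algebraMap L R l) • (r • x)
    rw [Algebra.smul_def, mul_smul]⟩
  -- a finite generating set
  obtain ⟨S, hS⟩ := (Module.Finite.fg_top : (⊤ : Submodule R M).FG)
  -- coefficients of `φ s` and of `m`
  have hφS : ∀ s : M, ∃ f : M → R, ∑ t ∈ S, f t • t = φ s := by
    intro s
    have : φ s ∈ Submodule.span R (S : Set M) := by rw [hS]; trivial
    obtain ⟨f, -, hf⟩ := Submodule.mem_span_finset.mp this
    exact ⟨f, hf⟩
  choose a ha using hφS
  obtain ⟨r, -, hr⟩ : ∃ f : M → R, f.support ⊆ S ∧ ∑ t ∈ S, f t • t = m := by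
    have : m ∈ Submodule.span R (S : Set M) := by rw [hS]; trivial
    exact Submodule.mem_span_finset.mp this
  -- the finite-dimensional subalgebra
  let gens : Finset R := (S ×ˢ S).image (fun st => a st.1 st.2) ∪ S.image r
  let R' : Subalgebra L R := Algebra.adjoin L (gens : Set R)
  haveI : Module.Finite L R' :=
    Algebra.finite_adjoin_of_finite_of_isIntegral gens.finite_toSet
      (fun x _ => Algebra.IsIntegral.isIntegral x)
  have ha_mem : ∀ s ∈ S, ∀ t ∈ S, a s t ∈ R' := fun s hs t ht =>
    Algebra.subset_adjoin (Finset.mem_coe.mpr (Finset.mem_union_left _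
      (Finset.mem_image.mpr ⟨(s, t), Finset.mem_product.mpr ⟨hs, ht⟩, rfl⟩)))
  have hr_mem : ∀ t ∈ S, r t ∈ R' := fun t ht =>
    Algebra.subset_adjoin (Finset.mem_coe.mpr (Finset.mem_union_right _
      (Finset.mem_image.mpr ⟨t, ht, rfl⟩)))
  -- the finite-dimensional `φ`-stable subspace
  let V' : Submodule R' M := Submodule.span R' (S : Set M)
  let V : Submodule L M := V'.restrictScalars L
  haveI : Module.Finite R' V' := Module.Finite.span_of_finite R' S.finite_toSet
  haveI : IsScalarTower L R' V' := ⟨fun l r x => Subtype.ext (smul_assoc l r (x : M))⟩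
  haveI : Module.Finite L V' := Module.Finite.trans R' V'
  haveI : Module.Finite L V := Module.Finite.of_surjective
    ({ toFun := fun v => ⟨v.1, v.2⟩
       map_add' := fun _ _ => rfl
       map_smul' := fun _ _ => rfl } : V' →ₗ[L] V) (fun v => ⟨⟨v.1, v.2⟩, rfl⟩)
  have hφV : ∀ v ∈ V, φ v ∈ V := by
    intro v hv
    change v ∈ V' at hv
    change φ v ∈ V'
    induction hv using Submodule.span_induction with
    | mem s hs =>
      rw [← ha s]
      exact Submodule.sum_mem _ fun t ht =>
        Submodule.smul_mem V' (⟨a s t, ha_mem s hs t ht⟩ : R') (Submodule.subset_span ht)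
    | zero => rw [map_zero]; exact Submodule.zero_mem _
    | add x y _ _ hx hy => rw [map_add]; exact Submodule.add_mem _ hx hy
    | smul c x _ hx =>
      have : φ (c • x) = (c ^ p : R') • φ x := by
        change φ ((c : R) • x) = ((c : R) ^ p) • φ x
        rw [LinearMap.map_smulₛₗ, frobenius_def]
      rw [this]
      exact Submodule.smul_mem _ _ hx
  have hmV : m ∈ V := by
    change m ∈ V'
    rw [← hr]
    exact Submodule.sum_mem _ fun t ht =>
      Submodule.smul_mem V' (⟨r t, hr_mem t ht⟩ : R') (Submodule.subset_span ht)
  -- the restricted semilinear map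
  let T : V →ₛₗ[frobenius L p] V :=
    { toFun := fun v => ⟨φ v, hφV v v.2⟩
      map_add' := fun x y => Subtype.ext (by simp)
      map_smul' := fun l x => Subtype.ext (by
        change φ ((algebraMap L R l) • (x : M)) = (algebraMap L R (frobenius L p l)) • φ x
        rw [LinearMap.map_smulₛₗ, frobenius_def, frobenius_def, map_pow]) }
  have hsurj : Function.Surjective (frobenius L p) := by
    intro x
    obtain ⟨y, hy⟩ := IsAlgClosed.exists_pow_nat_eq x hp.pos
    exact ⟨y, hy⟩
  obtain ⟨v, hv⟩ := Groth.Agent.Lib.Helper96.SigmaLin.sub_map_surjective_of_surjective hsurj T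
    (Groth.Agent.Lib.Helper96.SigmaLin.hyp2_frobenius p L)
    (Groth.Agent.Lib.Helper96.SigmaLin.hyp3_frobenius p L) (-⟨m, hmV⟩)
  refine ⟨(v : M), ?_⟩
  have := congrArg Subtype.val hv
  change (v : M) - φ v = -m at this
  change φ (v : M) - v = m
  rw [← neg_sub, this, neg_neg]

end Groth.Agent.S15362
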