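import Groth.Statements.S0086
import Groth.Agent.Lib.Helper1.AffineAndDescent
import Mathlib.AlgebraicGeometry.Morphisms.LocalFlatDescent

set_option autoImplicit false
open CategoryTheory CategoryTheory.Limits AlgebraicGeometry Opposite
universe u
open EtBase

namespace Groth.Agent.S0086

/-- If the base change of a morphism of schemes along a quasi-compact, flat, surjective morphism is
proper, then the morphism itself is proper. (Stated for a single quasi-compact flat surjective base
change; together with Zariski-locality on the target this is fpqc descent for properness.) -/
theorem result :
    MorphismProperty.DescendsAlong @IsProper (@Surjective ⊓ @Flat ⊓ @QuasiCompact : MorphismProperty Scheme.{u}) := by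
  have h1 := Groth.Agent.Lib.Helper1.descendsAlong_isClosedImmersion_fpqc.{u}
  have h2 := Groth.Agent.S0079.result.{u}
  have h3 : MorphismProperty.DescendsAlong @IsSeparated
      (@Surjective ⊓ @Flat ⊓ @QuasiCompact : MorphismProperty Scheme.{u}) := by
    rw [IsSeparated.isSeparated_eq_diagonal_isClosedImmersion]
    infer_instance
  constructor
  intro A X Y Z fst snd f g hpb hf hfst
  have : IsProper fst := hfst
  have hsep : IsSeparated g :=
    MorphismProperty.of_isPullback_of_descendsAlong (P := @IsSeparated) hpb hf inferInstance
  have huc : UniversallyClosed g :=
    MorphismProperty.of_isPullback_of_descendsAlong (P := @UniversallyClosed) hpb hf inferInstance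
  have hqc : QuasiCompact g :=
    MorphismProperty.of_isPullback_of_descendsAlong (P := @QuasiCompact) hpb hf inferInstance
  have hlft : LocallyOfFiniteType g :=
    MorphismProperty.of_isPullback_of_descendsAlong (P := @LocallyOfFiniteType) hpb hf inferInstance
  exact { }

end Groth.Agent.S0086
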