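import Groth.Statements.S0096
import Groth.Agent.Lib.Helper7.EtaleSplitUnram
-- import your own Groth.Agent.* helpers here

set_option autoImplicit false
open CategoryTheory CategoryTheory.Limits AlgebraicGeometry Opposite
universe u
open EtBase

namespace Groth.Agent.S0096

/-- A finite unramified morphism becomes, after base change to a suitable étale neighbourhood of any
point of the base, a finite disjoint union of closed immersions. -/
theorem result {X S : Scheme.{u}} (f : X ⟶ S) [IsFinite f] [FormallyUnramified f] (s : S) :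
    ∃ (U : Scheme.{u}) (g : U ⟶ S) (_ : AlgebraicGeometry.Etale g) (u : U) (_ : g.base u = s)
      (n : ℕ) (V : Fin n → Scheme.{u}) (c : ∀ j, V j ⟶ U) (_ : ∀ j, IsClosedImmersion (c j))
      (e : (∐ V) ≅ pullback f g), ∀ j, Sigma.ι V j ≫ e.hom ≫ pullback.snd f g = c j := by
  classical
  open Groth.Agent.Lib.Helper7.EtaleSplit Groth.Agent.Lib.Helper22.Weighting in
  have hlftO : LocallyOfFiniteType ((⊤ : X.Opens).ι ≫ f) := inferInstance
  have hunrO : FormallyUnramified ((⊤ : X.Opens).ι ≫ f) :=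
    MorphismProperty.comp_mem _ _ _ (inferInstance : FormallyUnramified (⊤ : X.Opens).ι) ‹_›
  have hq : ∀ y ∈ f ⁻¹' {s}, f.QuasiFiniteAt y := fun y _ => f.quasiFiniteAt y
  obtain ⟨U, g, hg, u, hu, n, p, x₀, hx₀, hdeg, huniq, hinjp, hpO, hcov, hcl, hdisj⟩ :=
    exists_etale_pieces_pts_separated f s (f ⁻¹' {s}) (f.finite_preimage_singleton s) ⊤
      (fun _ _ => trivial) hq
  -- the part of the fibre product not covered by the pieces
  let F₀ : Set ↥(pullback f g) := (⋃ k, Set.range (p k).j)ᶜ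
  have hF₀cl : IsClosed F₀ :=
    (isOpen_iUnion fun k => (p k).j.isOpenEmbedding.isOpen_range).isClosed_compl
  have hZcl : IsClosed (pullback.snd f g '' F₀) := (pullback.snd f g).isClosedMap _ hF₀cl
  have huZ : u ∉ pullback.snd f g '' F₀ := by
    rintro ⟨w, hwF, hw⟩
    have hwT : pullback.fst f g w ∈ f ⁻¹' {s} := by
      change f (pullback.fst f g w) = s
      rw [← Scheme.Hom.comp_apply, pullback.condition, Scheme.Hom.comp_apply, hw, hu]
    obtain ⟨k, rfl⟩ := hcov w hw hwT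
    exact hwF (Set.mem_iUnion.mpr ⟨k, x₀ k, rfl⟩)
  obtain ⟨U₀, hU₀⟩ : ∃ U₀ : U.Opens, (U₀ : Set U) = (pullback.snd f g '' F₀)ᶜ :=
    ⟨⟨_, hZcl.isOpen_compl⟩, rfl⟩
  have hU₀mem : ∀ y : U, y ∈ U₀ ↔ y ∉ pullback.snd f g '' F₀ := fun y => by
    rw [← SetLike.mem_coe, hU₀]; rfl
  obtain ⟨U', hu', hU'U₀, x₁, h1, h2, h3, h4, h5, h6, h7⟩ :=
    exists_shrink_le p x₀ hx₀ hdeg hinjp hpO hcov @IsClosedImmersion (fun k => by
      have := (p k).formallyUnramified_π ⊤ (hpO k)
      exact exists_opens_isClosedImmersion (p k).π u (hdeg k)) U₀ ((hU₀mem u).mpr huZ)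
  set p' := fun k => (p k).baseChange U'.ι with hp'
  have hdisj' : ∀ k k', k ≠ k' → Disjoint (Set.range (p' k).j) (Set.range (p' k').j) :=
    fun k k' hkk' => disjoint_range_baseChange (p k) (p k') U'.ι (hdisj k k' hkk')
  have hcover : ∀ w : ↥(pullback f (U'.ι ≫ g)), ∃ k, w ∈ Set.range (p' k).j := by
    intro w
    have h8 : BPiece.q f g U'.ι w ∉ F₀ := by
      intro hF
      have h9 : pullback.snd f g (BPiece.q f g U'.ι w) ∈ pullback.snd f g '' F₀ := ⟨_, hF, rfl⟩
      rw [← Scheme.Hom.comp_apply, BPiece.q_snd, Scheme.Hom.comp_apply] at h9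
      exact (hU₀mem _).mp (hU'U₀ (pullback.snd f (U'.ι ≫ g) w).2) h9
    obtain ⟨k, hk⟩ := Set.mem_iUnion.mp (not_not.mp h8)
    exact ⟨k, mem_range_baseChange_of_q (p k) U'.ι w hk⟩
  have hopen : IsOpenImmersion (Sigma.desc fun k => (p' k).j) :=
    isOpenImmersion_sigmaDesc _ _ (fun k k' hkk' => hdisj' k k' hkk')
  have hiso : IsIso (Sigma.desc fun k => (p' k).j) := by
    apply isIso_of_isOpenImmersion_of_opensRange_eq_top
    rw [eq_top_iff]
    intro w _
    obtain ⟨k, y, rfl⟩ := hcover w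
    refine ⟨Sigma.ι (fun k => (p' k).P) k y, ?_⟩
    rw [← Scheme.Hom.comp_apply, Sigma.ι_desc]
  refine ⟨U', U'.ι ≫ g, inferInstance, ⟨u, hu'⟩, hu, n, fun k => (p' k).P, fun k => (p' k).π,
    h7, asIso (Sigma.desc fun k => (p' k).j), fun k => ?_⟩
  rw [asIso_hom, Sigma.ι_desc_assoc, BPiece.j_snd]

end Groth.Agent.S0096
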