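import Groth.Statements.S0098
import Groth.Agent.Lib.Helper24.FiniteUnramifiedOnePoint

set_option autoImplicit false
open CategoryTheory CategoryTheory.Limits AlgebraicGeometry Opposite
universe u
open EtBase

namespace Groth.Agent.S0098

/-- A finite étale morphism whose fibre over a point s is a single point with the same residue field is
an isomorphism over an open neighbourhood of s. -/
theorem result {X S : Scheme.{u}} (f : X ⟶ S) [IsFinite f] [AlgebraicGeometry.Etale f] (s : S) (x : X)
    (hx : f.base ⁻¹' {s} = {x}) (hκ : Function.Surjective (f.residueFieldMap x)) :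
    ∃ U : S.Opens, s ∈ U ∧ IsIso (f ∣_ U) := by
  obtain ⟨U, hsU, hU⟩ :=
    Groth.Agent.Lib.Helper24.exists_opens_forall_le_mono_restrict f s x hx hκ
  have hopen : IsOpenMap f := f.isOpenMap
  let U' : S.Opens := U ⊓ ⟨Set.range f, hopen.isOpen_range⟩
  have hfx : f x = s := by
    have : x ∈ f.base ⁻¹' {s} := by rw [hx]; rfl
    exact this
  refine ⟨U', ⟨hsU, x, hfx⟩, ?_⟩
  have hmono : Mono (f ∣_ U') := hU U' inf_le_left
  have het : Etale (f ∣_ U') := inferInstance
  have hoi : IsOpenImmersion (f ∣_ U') := IsOpenImmersion.of_flat_of_mono _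
  have hsurj : Surjective (f ∣_ U') := by
    rw [surjective_iff, morphismRestrict_base]
    rintro ⟨u, hu⟩
    obtain ⟨x', hx'⟩ := hu.2
    exact ⟨⟨x', by change f x' ∈ U'; rw [hx']; exact hu⟩, Subtype.ext hx'⟩
  exact (isIso_iff_isOpenImmersion_and_surjective _).mpr ⟨hoi, hsurj⟩

end Groth.Agent.S0098
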