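import Groth.Statements.S0102
import Mathlib
import Groth.Agent.S0671

set_option autoImplicit false
open CategoryTheory CategoryTheory.Limits AlgebraicGeometry Opposite
universe u
open EtBase

namespace Groth.Agent.S0102




/-- A section of an abelian étale sheaf over an étale scheme U vanishes on pullback to an étale V → U
exactly when V maps into a certain largest open subset of U. -/
theorem result {S : Scheme.{u}} (F : EtCoh.Ab S) (U : S.Etale) (σ : EtCoh.sect F U) :
    ∃ W : U.left.Opens, ∀ (V : S.Etale) (φ : V ⟶ U),
      F.obj.map φ.op σ = 0 ↔ Set.range φ.left.base ⊆ (W : Set U.left) := by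
  refine ⟨⟨(EtShriek.sectSupp F U σ)ᶜ, (Groth.Agent.S0671.isClosed_sectSupp F U σ).isOpen_compl⟩, ?_⟩
  intro V φ
  constructor
  · rintro h0 _ ⟨v, rfl⟩
    change _ ∉ EtShriek.sectSupp F U σ
    intro hmem
    exact hmem V φ ⟨v, rfl⟩ h0
  · intro hsub
    have hsh := (isSheaf_iff_isSheaf_of_type _ _).1
      ((Presheaf.isSheaf_iff_isSheaf_forget _ F.obj (forget AddCommGrpCat)).1 F.property)
    let R : Sieve V :=
      { arrows := fun V' h => F.obj.map (h ≫ φ).op σ = 0
        downward_closed := by
          intro Y Z f hf g
          rw [Category.assoc, op_comp, F.obj.map_comp]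
          change F.obj.map g.op (F.obj.map (f ≫ φ).op σ) = 0
          rw [hf, map_zero] }
    have hR : R ∈ S.smallEtaleTopology V := by
      rw [Groth.Agent.Lib.Helper43.EtOpenSub.mem_smallEtaleTopology_iff']
      intro v
      have hv : φ.left.base v ∉ EtShriek.sectSupp F U σ := hsub ⟨v, rfl⟩
      simp only [EtShriek.sectSupp, Set.mem_ofPred_eq, not_forall, not_not] at hv
      obtain ⟨Wv, g, ⟨w, hw⟩, h0⟩ := hv
      obtain ⟨z, hz1, hz2⟩ :=
        Scheme.Pullback.exists_preimage_pullback (f := φ.left) (g := g.left) v w hw.symm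
      let P : S.Etale := Scheme.Etale.mk (pullback.fst φ.left g.left ≫ V.hom)
      let a : P ⟶ V := MorphismProperty.Over.homMk (pullback.fst φ.left g.left) rfl
      let b : P ⟶ Wv := MorphismProperty.Over.homMk (pullback.snd φ.left g.left) (by
        have h1 := MorphismProperty.Over.w g
        have h2 := MorphismProperty.Over.w φ
        change pullback.snd φ.left g.left ≫ Wv.hom = pullback.fst φ.left g.left ≫ V.hom
        rw [← h1, ← h2, ← Category.assoc, ← Category.assoc, pullback.condition])
      have hab : a ≫ φ = b ≫ g := MorphismProperty.Over.Hom.ext pullback.condition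
      refine ⟨P, a, z, ?_, hz1⟩
      change F.obj.map (a ≫ φ).op σ = 0
      rw [hab, op_comp, F.obj.map_comp]
      change F.obj.map b.op (F.obj.map g.op σ) = 0
      rw [h0, map_zero]
    refine (hsh _ hR).isSeparatedFor.ext (fun Y f hf => ?_)
    change F.obj.map f.op (F.obj.map φ.op σ) = F.obj.map f.op 0
    rw [map_zero]
    have : F.obj.map (f ≫ φ).op σ = 0 := hf
    rw [op_comp, F.obj.map_comp] at this
    exact this

end Groth.Agent.S0102
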