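import Groth.Statements.S0105
import Mathlib
import Groth.Agent.Lib.Helper43.ConstSheaf
import Groth.Agent.Lib.Helper43.EtOpenSub

set_option autoImplicit false
open CategoryTheory CategoryTheory.Limits AlgebraicGeometry Opposite
universe u
open EtBase

namespace Groth.Agent.S0105

open Groth.Agent.Lib.Helper43 Groth.Agent.Lib.Helper43.ConstSheaf

section Core

variable {X : Scheme.{u}} (F : EtCoh.Ab X)
  {U₁ U₂ : X.Etale} {M₁ M₂ : AddCommGrpCat.{u + 1}}
  (α₁ : F.over U₁ ≅ K.{u + 1} (X.smallEtaleTopology.over U₁) M₁)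
  (α₂ : F.over U₂ ≅ K.{u + 1} (X.smallEtaleTopology.over U₂) M₂)

/-- the comparison map on constants -/
noncomputable def θ (W' : X.Etale) (a₁ : W' ⟶ U₁) (a₂ : W' ⟶ U₂) :
    M₁ →+ (K.{u + 1} (X.smallEtaleTopology.over U₂) M₂).obj.obj (op (Over.mk a₂)) :=
  ((α₂.hom.hom.app (op (Over.mk a₂))).hom).comp
    (((α₁.inv.hom.app (op (Over.mk a₁))).hom).comp
      (cst.{u + 1} (X.smallEtaleTopology.over U₁) M₁ (Over.mk a₁)).hom)

omit F in
/-- covering sieves of a nonempty object of the over site have nonempty members -/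
lemma over_exists_arrow (U : X.Etale) (W' : X.Etale) (a : W' ⟶ U) (hW : Nonempty W'.left)
    (S : Sieve (Over.mk a)) (hS : S ∈ (X.smallEtaleTopology.over U) (Over.mk a)) :
    ∃ (W'' : X.Etale) (q : W'' ⟶ W'), S (Over.homMk q rfl : Over.mk (q ≫ a) ⟶ Over.mk a) ∧
      Nonempty W''.left := by
  obtain ⟨x⟩ := hW
  have hS' : Sieve.overEquiv (Over.mk a) S ∈ X.smallEtaleTopology W' := hS
  obtain ⟨V, f, y, hf, -⟩ := (EtOpenSub.mem_smallEtaleTopology_iff' W' _).1 hS' x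
  exact ⟨V, f, (Sieve.overEquiv_iff S f).1 hf, ⟨y⟩⟩

omit F in
lemma cst_injective_over (U : X.Etale) (M : AddCommGrpCat.{u + 1}) (W' : X.Etale) (a : W' ⟶ U)
    (hW : Nonempty W'.left) :
    Function.Injective (cst.{u + 1} (X.smallEtaleTopology.over U) M (Over.mk a)) := by
  apply cst_injective.{u + 1}
  intro S hS
  obtain ⟨W'', q, hq, -⟩ := over_exists_arrow U W' a hW S hS
  exact ⟨_, _, hq⟩

lemma θ_map {W' W'' : X.Etale} (a₁ : W' ⟶ U₁) (a₂ : W' ⟶ U₂) (k : W'' ⟶ W')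
    (a₁' : W'' ⟶ U₁) (a₂' : W'' ⟶ U₂) (h₁ : k ≫ a₁ = a₁') (h₂ : k ≫ a₂ = a₂') (m : M₁) :
    (K.{u + 1} (X.smallEtaleTopology.over U₂) M₂).obj.map
      (Over.homMk k h₂ : Over.mk a₂' ⟶ Over.mk a₂).op (θ F α₁ α₂ W' a₁ a₂ m) =
    θ F α₁ α₂ W'' a₁' a₂' m := by
  let r₁ : Over.mk a₁' ⟶ Over.mk a₁ := Over.homMk k h₁
  let r₂ : Over.mk a₂' ⟶ Over.mk a₂ := Over.homMk k h₂
  let y := cst.{u + 1} (X.smallEtaleTopology.over U₁) M₁ (Over.mk a₁) m
  let x := α₁.inv.hom.app (op (Over.mk a₁)) y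
  have hA : (K.{u + 1} (X.smallEtaleTopology.over U₂) M₂).obj.map r₂.op
      (α₂.hom.hom.app (op (Over.mk a₂)) x) =
      α₂.hom.hom.app (op (Over.mk a₂')) ((F.over U₂).obj.map r₂.op x) :=
    (congrArg (fun t => t.hom x) (α₂.hom.hom.naturality r₂.op)).symm
  have hC : (F.over U₁).obj.map r₁.op (α₁.inv.hom.app (op (Over.mk a₁)) y) =
      α₁.inv.hom.app (op (Over.mk a₁'))
        ((K.{u + 1} (X.smallEtaleTopology.over U₁) M₁).obj.map r₁.op y) :=
    (congrArg (fun t => t.hom y) (α₁.inv.hom.naturality r₁.op)).symm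
  have hD : (K.{u + 1} (X.smallEtaleTopology.over U₁) M₁).obj.map r₁.op y =
      cst.{u + 1} (X.smallEtaleTopology.over U₁) M₁ (Over.mk a₁') m :=
    cst_map.{u + 1} _ M₁ r₁ m
  have hB : (F.over U₂).obj.map r₂.op x = (F.over U₁).obj.map r₁.op x := rfl
  change (K.{u + 1} (X.smallEtaleTopology.over U₂) M₂).obj.map r₂.op
      (α₂.hom.hom.app (op (Over.mk a₂)) x) = _
  rw [hA, hB, hC, hD]
  rfl

lemma θ_injective (W' : X.Etale) (a₁ : W' ⟶ U₁) (a₂ : W' ⟶ U₂) (hW : Nonempty W'.left) :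
    Function.Injective (θ F α₁ α₂ W' a₁ a₂) := by
  intro m m' h
  apply cst_injective_over U₁ M₁ W' a₁ hW
  have i2 : ∀ x, α₂.inv.hom.app (op (Over.mk a₂)) (α₂.hom.hom.app (op (Over.mk a₂)) x) = x :=
    fun x => congrArg (fun t => t.hom.app (op (Over.mk a₂)) x) α₂.hom_inv_id
  have i1 : ∀ y, α₁.hom.hom.app (op (Over.mk a₁)) (α₁.inv.hom.app (op (Over.mk a₁)) y) = y :=
    fun y => congrArg (fun t => t.hom.app (op (Over.mk a₁)) y) α₁.inv_hom_id
  have e : ∀ m : M₁, θ F α₁ α₂ W' a₁ a₂ m = α₂.hom.hom.app (op (Over.mk a₂))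
      (α₁.inv.hom.app (op (Over.mk a₁))
        (cst.{u + 1} (X.smallEtaleTopology.over U₁) M₁ (Over.mk a₁) m)) := fun _ => rfl
  rw [e, e] at h
  have h' := congrArg (α₂.inv.hom.app (op (Over.mk a₂))) h
  rw [i2, i2] at h'
  have h'' := congrArg (α₁.hom.hom.app (op (Over.mk a₁))) h'
  rw [i1, i1] at h''
  exact h''

omit F in
lemma iInf_mem {C : Type*} [Category C] (J : GrothendieckTopology C) {W : C} {ι : Type*} [Finite ι]
    (S : ι → Sieve W) (hS : ∀ i, S i ∈ J W) : (⨅ i, S i) ∈ J W := by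
  classical
  have := Fintype.ofFinite ι
  have : ∀ s : Finset ι, (⨅ i ∈ s, S i) ∈ J W := by
    intro s
    induction s using Finset.induction_on with
    | empty => simp
    | insert a s ha ih =>
      rw [Finset.iInf_insert]
      exact J.intersection_covering (hS a) ih
  simpa using this Finset.univ

include α₁ α₂ in
lemma exists_injective_hom [Finite M₁] (W : X.Etale) (p₁ : W ⟶ U₁) (p₂ : W ⟶ U₂)
    (hW : Nonempty W.left) : ∃ h : M₁ →+ M₂, Function.Injective h := by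
  let J₂ := X.smallEtaleTopology.over U₂
  have hloc : ∀ m : M₁, ∃ S : Sieve (Over.mk p₂), S ∈ J₂ (Over.mk p₂) ∧
      ∀ ⦃Y' : Over U₂⦄ (f : Y' ⟶ Over.mk p₂), S f →
      ∃ n : M₂, (K.{u + 1} J₂ M₂).obj.map f.op (θ F α₁ α₂ W p₁ p₂ m) = cst.{u + 1} J₂ M₂ Y' n :=
    fun m => locally_cst.{u + 1} J₂ M₂ _
  choose S hS hSloc using hloc
  have hmem : (⨅ m, S m) ∈ J₂ (Over.mk p₂) := iInf_mem J₂ S hS
  obtain ⟨W₁, q, hq, hW₁⟩ := over_exists_arrow U₂ W p₂ hW _ hmem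
  have hq' : ∀ m, S m (Over.homMk q rfl : Over.mk (q ≫ p₂) ⟶ Over.mk p₂) := by
    intro m
    exact (Sieve.sInf_apply _).1 hq (S m) ⟨m, rfl⟩
  have hn : ∀ m, ∃ n : M₂, θ F α₁ α₂ W₁ (q ≫ p₁) (q ≫ p₂) m =
      cst.{u + 1} J₂ M₂ (Over.mk (q ≫ p₂)) n := by
    intro m
    obtain ⟨n, hn⟩ := hSloc m _ (hq' m)
    refine ⟨n, ?_⟩
    rw [← hn]
    exact (θ_map F α₁ α₂ p₁ p₂ q (q ≫ p₁) (q ≫ p₂) rfl rfl m).symm
  choose h hh using hn
  have hcinj := cst_injective_over U₂ M₂ W₁ (q ≫ p₂) hW₁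
  have hadd : ∀ m m', h (m + m') = h m + h m' := by
    intro m m'
    apply hcinj
    rw [map_add, ← hh, ← hh, ← hh, map_add]
  refine ⟨AddMonoidHom.mk' h hadd, ?_⟩
  intro m m' hmm
  apply θ_injective F α₁ α₂ W₁ (q ≫ p₁) (q ≫ p₂) hW₁
  rw [hh, hh]
  exact congrArg _ hmm

include α₁ α₂ in
lemma nonempty_iso [Finite M₁] [Finite M₂] (W : X.Etale) (p₁ : W ⟶ U₁) (p₂ : W ⟶ U₂)
    (hW : Nonempty W.left) : Nonempty (M₁ ≅ M₂) := by
  obtain ⟨h, hh⟩ := exists_injective_hom F α₁ α₂ W p₁ p₂ hW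
  obtain ⟨h', hh'⟩ := exists_injective_hom F α₂ α₁ W p₂ p₁ hW
  have hcard : Nat.card M₂ ≤ Nat.card M₁ := Nat.card_le_card_of_injective h' hh'
  have hbij : Function.Bijective h := hh.bijective_of_nat_card_le hcard
  exact ⟨(AddEquiv.ofBijective h hbij).toAddCommGrpIso⟩

omit F in
/-- a common étale neighbourhood of two points with the same image -/
lemma exists_common (U₁ U₂ : X.Etale) (y₁ : U₁.left) (y₂ : U₂.left)
    (h : U₁.hom.base y₁ = U₂.hom.base y₂) :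
    ∃ (W : X.Etale) (_ : W ⟶ U₁) (_ : W ⟶ U₂), Nonempty W.left := by
  let W : X.Etale := Scheme.Etale.mk (pullback.fst U₁.hom U₂.hom ≫ U₁.hom)
  refine ⟨W, MorphismProperty.Over.homMk (pullback.fst U₁.hom U₂.hom) rfl,
    MorphismProperty.Over.homMk (pullback.snd U₁.hom U₂.hom) pullback.condition.symm, ?_⟩
  obtain ⟨z, -, -⟩ := Scheme.Pullback.exists_preimage_pullback y₁ y₂ h
  exact ⟨z⟩

end Core


/-- On a connected scheme X, a finite locally constant abelian sheaf F on the small étale site is, étale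
locally, constant with one and the same finite group everywhere: there are a finite abelian group M
and an étale covering (U_i) of X such that the restriction of F to every U_i is isomorphic to the
constant sheaf with value M. (The published statement covers arbitrary locally constant sheaves of
modules; stated here for finite locally constant abelian sheaves.) -/
theorem result {X : Scheme.{u}} [ConnectedSpace X] (F : EtCoh.Ab X) (h : EtCoh.IsFiniteLocallyConstant F) :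
    ∃ (M : Type) (_ : AddCommGroup M) (_ : Finite M) (ι : Type u) (U : ι → X.Etale), EtCoh.Covers U ∧
      ∀ i, Nonempty (EtCoh.restr F (U i) ≅
        (constantSheaf (X.smallEtaleTopology.over (U i)) AddCommGrpCat.{u + 1}).obj
          (AddCommGrpCat.of (ULift.{u + 1} M))) := by
  obtain ⟨ι, U, hcov, hU⟩ := h
  choose M instAdd instFin hα using hU
  obtain ⟨x₀⟩ : Nonempty X := inferInstance
  obtain ⟨i₀, y₀, hy₀⟩ := hcov x₀
  let N : ι → AddCommGrpCat.{u + 1} := fun i => AddCommGrpCat.of (ULift.{u + 1} (M i))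
  let A : Set ι := {i | Nonempty (N i ≅ N i₀)}
  have key : ∀ i j (yi : (U i).left) (yj : (U j).left),
      (U i).hom.base yi = (U j).hom.base yj → Nonempty (N i ≅ N j) := by
    intro i j yi yj hij
    obtain ⟨W, p₁, p₂, hW⟩ := exists_common (U i) (U j) yi yj hij
    obtain ⟨αi⟩ := hα i
    obtain ⟨αj⟩ := hα j
    have : Finite (N i) := inferInstanceAs (Finite (ULift.{u + 1} (M i)))
    have : Finite (N j) := inferInstanceAs (Finite (ULift.{u + 1} (M j)))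
    exact nonempty_iso F αi αj W p₁ p₂ hW
  let OA : Set X := ⋃ i ∈ A, Set.range (U i).hom.base
  let OB : Set X := ⋃ i ∈ Aᶜ, Set.range (U i).hom.base
  have hOA : IsOpen OA := isOpen_biUnion (fun i _ => (U i).hom.isOpenMap.isOpen_range)
  have hOB : IsOpen OB := isOpen_biUnion (fun i _ => (U i).hom.isOpenMap.isOpen_range)
  have hcover : Set.univ ⊆ OA ∪ OB := by
    intro x _
    obtain ⟨i, y, hy⟩ := hcov x
    by_cases hi : i ∈ A
    · exact Or.inl (Set.mem_biUnion hi ⟨y, hy⟩)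
    · exact Or.inr (Set.mem_biUnion (show i ∈ Aᶜ from hi) ⟨y, hy⟩)
  have hdisj : ∀ x, x ∈ OA → x ∈ OB → False := by
    intro x hxA hxB
    obtain ⟨i, hiA, yi, hyi⟩ := Set.mem_iUnion₂.1 hxA
    obtain ⟨j, hjB, yj, hyj⟩ := Set.mem_iUnion₂.1 hxB
    apply hjB
    obtain ⟨e⟩ := key j i yj yi (hyj.trans hyi.symm)
    obtain ⟨e'⟩ := hiA
    exact ⟨e ≪≫ e'⟩
  have hOBempty : ∀ x, x ∉ OB := by
    intro x hx
    have hA_ne : (Set.univ ∩ OA).Nonempty :=
      ⟨x₀, trivial, Set.mem_biUnion (show i₀ ∈ A from ⟨Iso.refl _⟩) ⟨y₀, hy₀⟩⟩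
    have hB_ne : (Set.univ ∩ OB).Nonempty := ⟨x, trivial, hx⟩
    obtain ⟨z, -, hzA, hzB⟩ := isPreconnected_univ (α := X) OA OB hOA hOB hcover hA_ne hB_ne
    exact hdisj z hzA hzB
  refine ⟨M i₀, instAdd i₀, instFin i₀, {i // i ∈ A}, fun i => U i.1, ?_, ?_⟩
  · intro x
    obtain ⟨i, y, hy⟩ := hcov x
    have hi : i ∈ A := by
      by_contra hi
      exact hOBempty x (Set.mem_biUnion (show i ∈ Aᶜ from hi) ⟨y, hy⟩)
    exact ⟨⟨i, hi⟩, y, hy⟩
  · rintro ⟨i, ⟨e⟩⟩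
    obtain ⟨αi⟩ := hα i
    exact ⟨αi ≪≫ (constantSheaf (X.smallEtaleTopology.over (U i)) AddCommGrpCat.{u + 1}).mapIso e⟩

end Groth.Agent.S0105
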