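import Groth.Statements.S0117
import Groth.Agent.Lib.Helper69.UnivHomeo2

set_option autoImplicit false
open CategoryTheory CategoryTheory.Limits AlgebraicGeometry Opposite
universe u
open EtBase

namespace Groth.Agent.S0117
open Groth.Agent.Lib.Helper69

/-- Topological invariance of étale morphisms, first-order form — for X étale over S and any S-scheme Y,
base change to a closed subscheme S₀ with the same underlying space gives a bijection between
S-morphisms Y → X and S₀-morphisms of the base changes. -/
theorem result {S S₀ : Scheme.{u}} (i : S₀ ⟶ S) [IsClosedImmersion i] [Surjective i]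
    (X Y : Over S) [AlgebraicGeometry.Etale X.hom] :
    Function.Bijective (fun φ : Y ⟶ X => (Over.pullback i).map φ) := by
  have hq : IsClosedImmersion (pullback.fst Y.hom i) :=
    MorphismProperty.of_isPullback (P := @IsClosedImmersion)
      (IsPullback.of_hasPullback Y.hom i).flip ‹_›
  have hqs : Surjective (pullback.fst Y.hom i) :=
    MorphismProperty.of_isPullback (P := @Surjective)
      (IsPullback.of_hasPullback Y.hom i).flip ‹_›
  have hmap : ∀ φ : Y ⟶ X, ((Over.pullback i).map φ).left ≫ pullback.fst X.hom i =
      pullback.fst Y.hom i ≫ φ.left := by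
    intro φ
    simp only [Over.pullback_map_left, pullback.lift_fst]
  constructor
  · intro φ ψ h
    ext1
    have hdiag : IsOpenImmersion (pullback.diagonal X.hom) := inferInstance
    refine eq_of_comp_eq_of_surjective X.hom φ.left ψ.left (by simp) (pullback.fst Y.hom i) ?_
    rw [← hmap φ, ← hmap ψ]
    simp only at h
    rw [h]
  · intro φ₀
    have : UniversallyInjective (pullback.fst Y.hom i) := inferInstance
    have : IsIntegralHom (pullback.fst Y.hom i) := inferInstance
    obtain ⟨φ, hφ1, hφ2⟩ := exists_desc_of_universalHomeo' (pullback.fst Y.hom i) X.hom Y.hom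
      (φ₀.left ≫ pullback.fst X.hom i) (by
        have := Over.w φ₀
        simp only [Over.pullback_obj_hom] at this
        rw [Category.assoc, pullback.condition, ← Category.assoc, this, pullback.condition])
    refine ⟨Over.homMk φ hφ1, ?_⟩
    ext1
    apply pullback.hom_ext
    · rw [hmap]; exact hφ2
    · have h1 := Over.w φ₀
      have h2 := Over.w ((Over.pullback i).map (Over.homMk φ hφ1 : Y ⟶ X))
      simp only [Over.pullback_obj_hom] at h1 h2
      rw [h1, h2]

end Groth.Agent.S0117
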