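import Groth.Statements.S0118
import Groth.Agent.S0117
import Groth.Agent.Lib.Helper7.EtaleLift.Global

set_option autoImplicit false
open CategoryTheory CategoryTheory.Limits AlgebraicGeometry Opposite
universe u
open EtBase

namespace Groth.Agent.S0118

/-- Base change to a closed subscheme with the same underlying space is an equivalence between the
categories of étale schemes over the two. -/
theorem result {S S₀ : Scheme.{u}} (i : S₀ ⟶ S) [IsClosedImmersion i] [Surjective i] :
    (EtCoh.bc i).IsEquivalence := by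
  have hP : ∀ (X Y : S.Etale), Function.Bijective
      (fun φ : (Scheme.Etale.forget S).obj Y ⟶ (Scheme.Etale.forget S).obj X =>
        (Over.pullback i).map φ) := by
    intro X Y
    have : AlgebraicGeometry.Etale ((Scheme.Etale.forget S).obj X).hom := X.prop
    exact Groth.Agent.S0117.result i _ _
  have hfaith : (Scheme.Etale.forget S ⋙ Over.pullback i).Faithful := by
    refine ⟨fun {Y X} f g h => ?_⟩
    exact (Scheme.Etale.forget S).map_injective ((hP X Y).1 h)
  have hfull : (Scheme.Etale.forget S ⋙ Over.pullback i).Full := by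
    refine ⟨fun {Y X} φ => ?_⟩
    obtain ⟨ψ, hψ⟩ := (hP X Y).2 φ
    obtain ⟨ψ', rfl⟩ := (Scheme.Etale.forget S).map_surjective ψ
    exact ⟨ψ', hψ⟩
  let e : EtCoh.bc i ⋙ Scheme.Etale.forget S₀ ≅ Scheme.Etale.forget S ⋙ Over.pullback i :=
    MorphismProperty.Over.pullbackCompForgetIso (P := EtCoh.etaleMP) (Q := ⊤) i
  have hfaith' : (EtCoh.bc i ⋙ Scheme.Etale.forget S₀).Faithful := Functor.Faithful.of_iso e.symm
  have hfull' : (EtCoh.bc i ⋙ Scheme.Etale.forget S₀).Full := Functor.Full.of_iso e.symm
  have h1 : (EtCoh.bc i).Faithful := Functor.Faithful.of_comp (EtCoh.bc i) (Scheme.Etale.forget S₀)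
  have h2 : (EtCoh.bc i).Full := Functor.Full.of_comp_faithful (EtCoh.bc i) (Scheme.Etale.forget S₀)
  have h3 : (EtCoh.bc i).EssSurj := by
    refine ⟨fun U₀ => ?_⟩
    have : AlgebraicGeometry.Etale U₀.hom := U₀.prop
    obtain ⟨U, k, u, hlift⟩ := Groth.Agent.Lib.Helper7.EtaleLift.exists_isEtLift i U₀.hom
    have hu : AlgebraicGeometry.Etale u := hlift.etale
    refine ⟨Scheme.Etale.mk u, ⟨?_⟩⟩
    refine (MorphismProperty.Over.isoMk hlift.isPullback.isoPullback ?_).symm
    exact hlift.isPullback.isoPullback_hom_snd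
  exact { faithful := h1, full := h2, essSurj := h3 }

end Groth.Agent.S0118
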