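import Groth.Statements.S0119
import Groth.Agent.Lib.Helper24.EtaleStalk

set_option autoImplicit false
open CategoryTheory CategoryTheory.Limits AlgebraicGeometry Opposite
universe u
open EtBase

namespace Groth.Agent.S0119

/-- Let f : X → Y be an étale morphism of schemes with Y locally Noetherian, and let x ∈ X. Then the
local ring O_{X,x} is reduced if and only if the local ring O_{Y,f(x)} is reduced. -/
theorem result {X Y : Scheme.{u}} (f : X ⟶ Y) [AlgebraicGeometry.Etale f]
    [IsLocallyNoetherian Y] (x : X) :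
    _root_.IsReduced (X.presheaf.stalk x) ↔ _root_.IsReduced (Y.presheaf.stalk (f.base x)) := by
  constructor
  · intro hS
    algebraize [(f.stalkMap x).hom]
    have : Module.FaithfullyFlat (Y.presheaf.stalk (f.base x)) (X.presheaf.stalk x) :=
      @Module.FaithfullyFlat.of_flat_of_isLocalHom _ _ _ _ _ _ _
        (Flat.stalkMap f x) (f.toLRSHom.prop x)
    exact isReduced_of_injective (f.stalkMap x).hom ‹RingHom.FaithfullyFlat _›.injective
  · intro hR
    obtain ⟨_, ⟨U, hU : IsAffineOpen U, rfl⟩, hfxU, -⟩ :=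
      Y.isBasis_affineOpens.exists_subset_of_mem_open (Set.mem_univ (f.base x)) isOpen_univ
    obtain ⟨_, ⟨V, hV : IsAffineOpen V, rfl⟩, hxV, hVU⟩ :=
      X.isBasis_affineOpens.exists_subset_of_mem_open (show x ∈ f ⁻¹ᵁ U from hfxU) (f ⁻¹ᵁ U).2
    have hVU' : V ≤ f ⁻¹ᵁ U := hVU
    have het : (f.appLE U V hVU').hom.Etale := f.etale_appLE hU hV hVU'
    algebraize [(f.appLE U V hVU').hom]
    let i1 : Algebra Γ(Y, U) (Y.presheaf.stalk (f.base x)) :=
      TopCat.Presheaf.algebra_section_stalk Y.presheaf (U := U) ⟨f.base x, hfxU⟩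
    let i2 : Algebra Γ(X, V) (X.presheaf.stalk x) :=
      TopCat.Presheaf.algebra_section_stalk X.presheaf (U := V) ⟨x, hxV⟩
    have h1 : IsLocalization.AtPrime (Y.presheaf.stalk (f.base x))
        (hU.primeIdealOf ⟨f.base x, hfxU⟩).asIdeal := hU.isLocalization_stalk ⟨f.base x, hfxU⟩
    have h2 : IsLocalization.AtPrime (X.presheaf.stalk x)
        (hV.primeIdealOf ⟨x, hxV⟩).asIdeal := hV.isLocalization_stalk ⟨x, hxV⟩
    have hpq : (hV.primeIdealOf ⟨x, hxV⟩).asIdeal.comap (algebraMap Γ(Y, U) Γ(X, V)) =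
        (hU.primeIdealOf ⟨f.base x, hfxU⟩).asIdeal :=
      congrArg PrimeSpectrum.asIdeal (IsAffineOpen.comap_primeIdealOf_appLE U hU V hV hVU' hxV)
    exact Groth.Agent.Lib.Helper24.isReduced_localization_of_etale Γ(Y, U) Γ(X, V)
      (hU.primeIdealOf ⟨f.base x, hfxU⟩).asIdeal (hV.primeIdealOf ⟨x, hxV⟩).asIdeal hpq
      (Y.presheaf.stalk (f.base x)) (X.presheaf.stalk x)

end Groth.Agent.S0119
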