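import Groth.Statements.S0130
import Mathlib
import Groth.Agent.Lib.Helper43.EtConstr
import Groth.Agent.Lib.Helper43.ConstrCover

set_option autoImplicit false
universe u
open CategoryTheory CategoryTheory.Limits AlgebraicGeometry Opposite
open EtPBC

namespace Groth.Agent.S0130

open Groth.Agent.Lib.Helper43 Groth.Agent.Lib.Helper43.StrataLib

open Groth.Agent.Lib.Helper43 Groth.Agent.Lib.Helper43.StrataLib


/-- Abelian case: X quasi-compact and quasi-separated, T_i -> X immersions with constructible images
covering X, and F pulled back to each T_i constructible; then F is constructible. -/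
theorem result (X : Scheme.{u}) [CompactSpace X] [QuasiSeparatedSpace X]
    (F : EtCoh.Ab X) {ι : Type u} (T : ι → Scheme.{u}) (g : ∀ i, T i ⟶ X) [∀ i, IsImmersion (g i)]
    [∀ i, EtCoh.BCCont (g i)]
    (hc : ∀ i, Topology.IsConstructible (Set.range (g i)))
    (hcov : (⋃ i, Set.range (g i)) = Set.univ)
    (h : ∀ i, EtPBC.IsConstructible ((EtCoh.pull (g i)).obj F)) :
    EtPBC.IsConstructible F := by
  rw [EtConstr.constructible_iff_strata_univ]
  refine ConstrCover.Strata.of_constructible_cover (EtConstr.P_comp F) T g inferInstance hc hcov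
    (fun i => ?_)
  have : CompactSpace (T i) := by
    rw [← isCompact_univ_iff, (g i).isEmbedding.isCompact_iff, Set.image_univ]
    exact (Groth.Agent.Lib.Helper38.IsConstructible.isRetrocompact (hc i)).isCompact
  have : QuasiSeparatedSpace (T i) := quasiSeparatedSpace_of_quasiSeparated (g i)
  have : Strata (EtConstr.P ((EtCoh.pull (g i)).obj F)) (Set.univ : Set (T i)) :=
    (EtConstr.constructible_iff_strata_univ (T i) _).1 (h i)
  exact ConstrCover.Strata.mono (P := EtConstr.P ((EtCoh.pull (g i)).obj F))
    (Q := fun T' s => EtConstr.P F T' (s ≫ g i)) (EtConstr.P_comp' (g i) F) this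

end Groth.Agent.S0130
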