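import Groth.Statements.S0135
import Mathlib
import Groth.Agent.Lib.Helper43.ConstrColim
import Groth.Agent.Lib.Helper43.EtSurjDescent
import Groth.Agent.Lib.Helper43.EtCompact1
import Groth.Agent.Lib.Helper6.EtPullExact
import Groth.Agent.S0127

set_option autoImplicit false
universe u
open CategoryTheory CategoryTheory.Limits AlgebraicGeometry Opposite
open EtPBC

namespace Groth.Agent.S0135

open Groth.Agent.Lib.Helper43 Groth.Agent.Lib.Helper43.ConstrColim
  Groth.Agent.Lib.Helper43.EtConstrSerre Groth.Agent.Lib.Helper43.EtConstrStalk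
  Groth.Agent.Lib.Helper43.EtSurjDescent Groth.Agent.Lib.Helper43.JShriekGen

lemma isTorsion_of_killedBy {Y : Scheme.{u}} {G : EtCoh.Ab Y} {n : ℕ} (hn : 0 < n)
    (h : EtCoh.KilledBy n G) : EtCoh.IsTorsion G := by
  intro U s x
  refine ⟨U, 𝟙 U, ⟨x, rfl⟩, ?_⟩
  rw [isOfFinAddOrder_iff_nsmul_eq_zero]
  exact ⟨n, hn, h U _⟩

lemma exists_epi_constructible {X Y : Scheme.{u}} [CompactSpace X] [QuasiSeparatedSpace X]
    [CompactSpace Y] [QuasiSeparatedSpace Y] (f : X ⟶ Y) [Surjective f] [EtCoh.BCCont f]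
    (G : EtCoh.Ab Y) (hG : EtCoh.IsTorsion G)
    (hfG : EtPBC.IsConstructible ((EtCoh.pull f).obj G)) :
    ∃ (C : EtCoh.Ab Y) (π : C ⟶ G), EtPBC.IsConstructible C ∧ Epi π := by
  have hpres : PreservesColimitsOfShape (PO G) (EtCoh.pull f) :=
    (EtCoh.pullPushAdj f).leftAdjoint_preservesColimits.preservesColimitsOfShape
  have hcol := isColimitOfPreserves (EtCoh.pull f) (isColimitCoconeF G hG)
  have hc := EtCompact1.preservesColimitsOfShape_coyoneda X _ hfG (PO G)
  have hcol2 := isColimitOfPreserves (coyoneda.obj (op ((EtCoh.pull f).obj G))) hcol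
  obtain ⟨p, s₀, hs⟩ := Types.jointly_surjective_of_isColimit hcol2 (𝟙 _)
  have key : ∃ s : (EtCoh.pull f).obj G ⟶ (EtCoh.pull f).obj p.P.obj,
      s ≫ (EtCoh.pull f).map p.f = 𝟙 _ := ⟨s₀, hs⟩
  obtain ⟨s, hs'⟩ := key
  have : Epi ((EtCoh.pull f).map p.f) := epi_of_epi_fac hs'
  exact ⟨p.P.obj, p.f, p.P.constructible, epi_of_epi_pull f p.f⟩


/-- (2): for f : X -> Y a surjective morphism of quasi-compact quasi-separated schemes and F an abelian
sheaf on Y_et, F is constructible iff f^* F is. -/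
theorem result {X Y : Scheme.{u}} [CompactSpace X] [QuasiSeparatedSpace X]
    [CompactSpace Y] [QuasiSeparatedSpace Y] (f : X ⟶ Y) [Surjective f] [EtCoh.BCCont f]
    (F : EtCoh.Ab Y) :
    EtPBC.IsConstructible F ↔ EtPBC.IsConstructible ((EtCoh.pull f).obj F) := by
  refine ⟨fun h => Groth.Agent.S0127.result f F h, fun h => ?_⟩
  have hT := isTorsion_of_constructible_pull f F h
  obtain ⟨C, π, hC, hπ⟩ := exists_epi_constructible f F hT h
  obtain ⟨n, hn, hk⟩ := EtConstrTorsion.exists_killedBy C hC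
  have hKk : EtCoh.KilledBy n (kernel π) :=
    killedBy_iff.2 (nsmul_id_of_mono (kernel.ι π) (killedBy_iff.1 hk))
  have hKT : EtCoh.IsTorsion (kernel π) := isTorsion_of_killedBy hn hKk
  have := Groth.Agent.Lib.Helper6.EtPullExact.preservesFiniteLimits_pull f
  have hfK : EtPBC.IsConstructible ((EtCoh.pull f).obj (kernel π)) :=
    constructible_of_iso (PreservesKernel.iso (EtCoh.pull f) π).symm
      (constructible_kernel_cokernel ((EtCoh.pull f).map π)
        (Groth.Agent.S0127.result f C hC) h).1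
  obtain ⟨C', π', hC', hπ'⟩ := exists_epi_constructible f (kernel π) hKT hfK
  have hcok := (constructible_kernel_cokernel (π' ≫ kernel.ι π) hC' hC).2
  let hcolim := Abelian.epiIsCokernelOfKernel (KernelFork.ofι (kernel.ι π) (kernel.condition π))
    (kernelIsKernel π)
  let e : cokernel (kernel.ι π) ≅ F :=
    (cokernelIsCokernel (kernel.ι π)).coconePointUniqueUpToIso hcolim
  exact constructible_of_iso (cokernelEpiComp π' (kernel.ι π) ≪≫ e) hcok

end Groth.Agent.S0135
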