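import Groth.Statements.S0139
import Mathlib
import Groth.Agent.Lib.Helper43.EtCompact
import Groth.Agent.S3508

set_option autoImplicit false
universe u
open CategoryTheory CategoryTheory.Limits AlgebraicGeometry Opposite
open EtPBC

namespace Groth.Agent.S0139

open Groth.Agent.Lib.Helper43 Cardinal

attribute [local instance] Cardinal.fact_isRegular_aleph0

/-- a constructible abelian sheaf on a qcqs scheme is finitely presentable -/
theorem isFinitelyPresentable (X : Scheme.{u}) [CompactSpace X] [QuasiSeparatedSpace X]
    (F : EtCoh.Ab X) (hF : EtPBC.IsConstructible F) : IsFinitelyPresentable.{u} F := by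
  obtain ⟨a, b, U, V, n, m, hU, hV, φ, ⟨e⟩⟩ := (Groth.Agent.S3508.result X F).1 hF
  have hc : IsCardinalPresentable (cokernel φ) (ℵ₀ : Cardinal.{u}) := by
    apply EtCompact.fp_cokernel
    · apply EtCompact.fp_biproduct
      intro j
      have := (hV j).2
      exact EtCompact.fp_extZeroConst (V j) (m j)
    · apply EtCompact.fp_biproduct
      intro i
      have := (hU i).2
      exact EtCompact.fp_extZeroConst (U i) (n i)
  exact isCardinalPresentable_of_iso e.symm _


/-- Abelian case: for X quasi-compact and quasi-separated and F a constructible abelian sheaf, Hom(F, -)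
commutes with filtered colimits of abelian sheaves on X_et (F is a compact object); stated for
filtered index categories in the universe of X. -/
theorem result (X : Scheme.{u}) [CompactSpace X] [QuasiSeparatedSpace X]
    (F : EtCoh.Ab X) (hF : EtPBC.IsConstructible F) (J : Type u) [SmallCategory J] [IsFiltered J] :
    PreservesColimitsOfShape J (coyoneda.obj (op F)) := by
  have h := isFinitelyPresentable X F hF
  rw [isFinitelyPresentable_iff_preservesFilteredColimitsOfSize] at h
  exact h.preserves_filtered_colimits J

end Groth.Agent.S0139
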