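import Groth.Statements.S0142
import Mathlib
import Groth.Agent.Lib.Helper43.EtNoethACC

set_option autoImplicit false
universe u
open CategoryTheory CategoryTheory.Limits AlgebraicGeometry Opposite
open EtPBC

namespace Groth.Agent.S0142

open Groth.Agent.Lib.Helper43.EtNoethACC


/-- For X Noetherian and F a constructible abelian sheaf on X_et, every increasing sequence of
subsheaves F_1 ⊆ F_2 ⊆ ... ⊆ F is eventually constant. -/
theorem result (X : Scheme.{u}) [IsNoetherian X]
    (F : EtCoh.Ab X) (hF : EtPBC.IsConstructible F) (c : ℕ →o Subobject F) :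
    ∃ N, ∀ m, N ≤ m → c m = c N := by
  obtain ⟨N, hN⟩ := acc_iso F hF (fun k => (c k : EtCoh.Ab X)) (fun k => (c k).arrow)
    (fun k m hkm => ⟨Subobject.ofLE (c k) (c m) (c.mono hkm), Subobject.ofLE_arrow _⟩)
  refine ⟨N, fun m hm => le_antisymm ?_ (c.mono hm)⟩
  have := hN m hm (Subobject.ofLE (c N) (c m) (c.mono hm)) (Subobject.ofLE_arrow _)
  refine Subobject.le_of_comm (inv (Subobject.ofLE (c N) (c m) (c.mono hm))) ?_
  rw [IsIso.inv_comp_eq, Subobject.ofLE_arrow]

end Groth.Agent.S0142
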