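import Groth.Statements.S0140
import Mathlib
import Groth.Agent.Lib.Helper43.ConstrColim
import Groth.Agent.S0142

set_option autoImplicit false
universe u
open CategoryTheory CategoryTheory.Limits AlgebraicGeometry Opposite
open EtPBC

namespace Groth.Agent.S0140

open Groth.Agent.Lib.Helper43 Groth.Agent.Lib.Helper43.ConstrColim
  Groth.Agent.Lib.Helper43.EtConstrSerre Groth.Agent.Lib.Helper43.EtConstrStalk
  Groth.Agent.Lib.Helper43.JShriekGen

lemma isTorsion_of_killedBy {Y : Scheme.{u}} {G : EtCoh.Ab Y} {n : ℕ} (hn : 0 < n)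
    (h : EtCoh.KilledBy n G) : EtCoh.IsTorsion G := by
  intro U s x
  refine ⟨U, 𝟙 U, ⟨x, rfl⟩, ?_⟩
  rw [isOfFinAddOrder_iff_nsmul_eq_zero]
  exact ⟨n, hn, h U _⟩

/-- a torsion subsheaf of a constructible sheaf on a Noetherian scheme is constructible -/
theorem constructible_of_mono (X : Scheme.{u}) [IsNoetherian X]
    {F G : EtCoh.Ab X} (ι : G ⟶ F) [Mono ι] (hGT : EtCoh.IsTorsion G)
    (hF : EtPBC.IsConstructible F) : EtPBC.IsConstructible G := by
  have wf : WellFoundedGT (Subobject F) := wellFoundedGT_iff_monotone_chain_condition.2 (fun c => by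
    obtain ⟨N, hN⟩ := Groth.Agent.S0142.result X F hF c
    exact ⟨N, fun m hm => (hN m hm).symm⟩)
  let I : PO G → Subobject F := fun p => imageSubobject (p.f ≫ ι)
  have hImono : ∀ {p p' : PO G} (a : p ⟶ p'), I p ≤ I p' := by
    intro p p' a
    have h : p.f ≫ ι = a.g ≫ (p'.f ≫ ι) := by rw [← Category.assoc, a.w]
    change imageSubobject (p.f ≫ ι) ≤ _
    rw [h]
    exact imageSubobject_comp_le _ _
  obtain ⟨p₀⟩ := (IsFiltered.nonempty : Nonempty (PO G))
  obtain ⟨S, ⟨pS, rfl⟩, hmax⟩ := wf.wf.has_min (Set.range I) ⟨I p₀, p₀, rfl⟩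
  have hle : ∀ p, I p ≤ I pS := by
    intro p
    have h1 : I p ≤ I (IsFiltered.max p pS) := hImono (IsFiltered.leftToMax p pS)
    have h2 : I pS ≤ I (IsFiltered.max p pS) := hImono (IsFiltered.rightToMax p pS)
    have h3 : ¬ (I pS < I (IsFiltered.max p pS)) := hmax _ ⟨_, rfl⟩
    have h4 : I pS = I (IsFiltered.max p pS) := eq_of_le_of_not_lt h2 h3
    rw [h4]
    exact h1
  let fp : ∀ p : PO G, p.P.obj ⟶ (I pS : EtCoh.Ab X) := fun p =>
    factorThruImageSubobject (p.f ≫ ι) ≫ Subobject.ofLE (I p) (I pS) (hle p)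
  have hfp : ∀ p, fp p ≫ (I pS).arrow = p.f ≫ ι := by
    intro p
    change (factorThruImageSubobject (p.f ≫ ι) ≫ Subobject.ofLE (I p) (I pS) (hle p)) ≫ _ = _
    rw [Category.assoc, Subobject.ofLE_arrow]
    exact imageSubobject_arrow_comp _
  let cc : Cocone (D G) :=
    { pt := (I pS : EtCoh.Ab X)
      ι :=
        { app := fun p => fp p
          naturality := fun p p' a => by
            change a.g ≫ fp p' = fp p ≫ 𝟙 _
            rw [Category.comp_id, ← cancel_mono (I pS).arrow, Category.assoc, hfp, hfp,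
              ← Category.assoc, a.w] } }
  let φ : G ⟶ (I pS : EtCoh.Ab X) := (isColimitCoconeF G hGT).desc cc
  have hφ : ∀ p : PO G, p.f ≫ φ = fp p := fun p => (isColimitCoconeF G hGT).fac cc p
  have hφι : φ ≫ (I pS).arrow = ι := by
    apply (isColimitCoconeF G hGT).hom_ext
    intro p
    change p.f ≫ φ ≫ (I pS).arrow = p.f ≫ ι
    rw [← Category.assoc, hφ, hfp]
  have hmono : Mono φ := mono_of_mono_fac hφι
  have hepi : Epi φ := by
    have h1 : Epi (fp pS) := by
      change Epi (factorThruImageSubobject (pS.f ≫ ι) ≫ Subobject.ofLE (I pS) (I pS) (hle pS))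
      rw [Subobject.ofLE_refl]
      infer_instance
    rw [← hφ] at h1
    exact epi_of_epi pS.f φ
  have hiso : IsIso φ := isIso_of_mono_of_epi φ
  have hI : EtPBC.IsConstructible (Abelian.image (pS.f ≫ ι)) :=
    (constructible_kernel_cokernel (cokernel.π (pS.f ≫ ι)) hF
      (constructible_kernel_cokernel (pS.f ≫ ι) pS.P.constructible hF).2).1
  exact constructible_of_iso
    (Abelian.imageIsoImage (pS.f ≫ ι) ≪≫ (imageSubobjectIso (pS.f ≫ ι)).symm ≪≫ (asIso φ).symm) hI


/-- Part (3): with Λ = Z/n: on a Noetherian scheme X, a subsheaf of a constructible abelian sheaf killed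
by n > 0 (a constructible sheaf of Z/n-modules) is constructible; so such sheaves form a Serre
subcategory. (The source writes the proof for modules over a Noetherian ring and marks the plain
abelian case (2) as details-omitted, hence the n-torsion hypothesis.) -/
theorem result (X : Scheme.{u}) [IsNoetherian X]
    {F G : EtCoh.Ab X} (ι : G ⟶ F) [Mono ι] (n : ℕ) (hn : 0 < n) (hFn : EtCoh.KilledBy n F)
    (hF : EtPBC.IsConstructible F) :
    EtPBC.IsConstructible G := by
  have hGk : EtCoh.KilledBy n G := killedBy_iff.2 (nsmul_id_of_mono ι (killedBy_iff.1 hFn))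
  exact constructible_of_mono X ι (isTorsion_of_killedBy hn hGk) hF

end Groth.Agent.S0140
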