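import Groth.Statements.S0141
import Mathlib
import Groth.Agent.S0140

set_option autoImplicit false
universe u
open CategoryTheory CategoryTheory.Limits AlgebraicGeometry Opposite
open EtPBC

namespace Groth.Agent.S0141

open Groth.Agent.Lib.Helper43 Groth.Agent.Lib.Helper43.EtConstrSerre
  Groth.Agent.Lib.Helper43.EtConstrStalk


/-- Part (3): with Λ = Z/n, quotient half: on a Noetherian scheme a quotient of a constructible abelian
sheaf killed by n > 0 is constructible. -/
theorem result (X : Scheme.{u}) [IsNoetherian X]
    {F Q : EtCoh.Ab X} (π : F ⟶ Q) [Epi π] (n : ℕ) (hn : 0 < n) (hFn : EtCoh.KilledBy n F)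
    (hF : EtPBC.IsConstructible F) :
    EtPBC.IsConstructible Q := by
  have hK : EtPBC.IsConstructible (kernel π) :=
    Groth.Agent.S0140.result X (kernel.ι π) n hn hFn hF
  have hcok := (constructible_kernel_cokernel (kernel.ι π) hK hF).2
  let hcolim := Abelian.epiIsCokernelOfKernel (KernelFork.ofι (kernel.ι π) (kernel.condition π))
    (kernelIsKernel π)
  let e : cokernel (kernel.ι π) ≅ Q :=
    (cokernelIsCokernel (kernel.ι π)).coconePointUniqueUpToIso hcolim
  exact constructible_of_iso e hcok

end Groth.Agent.S0141
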