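import Groth.Statements.S0145
import Mathlib
import Groth.Agent.Lib.Helper43.ConstrColimSub
import Groth.Agent.Lib.Helper43.NoethConstr
import Groth.Agent.S0182

set_option autoImplicit false
universe u
open CategoryTheory CategoryTheory.Limits AlgebraicGeometry Opposite
open EtPBC

namespace Groth.Agent.S0145

open Groth.Agent.Lib.Helper43.ConstrColim Groth.Agent.Lib.Helper43.ConstrColimSub
  Groth.Agent.Lib.Helper43.EtConstrSerre Groth.Agent.Lib.Helper43.EtConstrStalk
  Groth.Agent.Lib.Helper43.EtSupp Groth.Agent.Lib.Helper43.EtConstrTorsion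
  Groth.Agent.Lib.Helper43.NoethConstr TopologicalSpace


/-- (1): X Noetherian, E a subset of X stable under specialization, F a torsion abelian sheaf on X_et
supported inside E. Then F is a filtered colimit of constructible abelian sheaves each supported
inside some closed subset contained in E. -/
theorem result (X : Scheme.{u}) [IsNoetherian X]
    (E : Set X) (hE : StableUnderSpecialization E)
    (F : EtCoh.Ab X) (hF : EtCoh.IsTorsion F) (hsupp : EtPBC.supp F ⊆ E) :
    ∃ (J : Type (u + 1)) (_ : SmallCategory J) (_ : IsFiltered J) (D : J ⥤ EtCoh.Ab X)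
      (c : Cocone D) (_ : IsColimit c), Nonempty (c.pt ≅ F) ∧
      ∀ j, EtPBC.IsConstructible (D.obj j) ∧
        ∃ Z : Set X, IsClosed Z ∧ Z ⊆ E ∧ EtPBC.supp (D.obj j) ⊆ Z := by
  let Pq : ObjectProperty (PO F) := fun q =>
    ∃ Z : Set X, IsClosed Z ∧ Z ⊆ E ∧ EtPBC.supp q.P.obj ⊆ Z
  have hcons : ∀ q : PO F, Topology.IsConstructible (EtPBC.supp q.P.obj) := fun q =>
    Groth.Agent.S0182.isConstructible_supp X q.P.obj q.P.constructible
  have claim : ∀ T : Closeds X, ∀ p : PO F, closure (EtPBC.supp p.P.obj) ⊆ (T : Set X) →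
      ∃ q : PO F, Pq q ∧ Nonempty (p ⟶ q) := by
    intro T
    induction T using WellFoundedLT.induction with
    | ind T ih =>
      intro p hpT
      by_cases hSE : EtPBC.supp p.P.obj ⊆ E
      · exact ⟨p, ⟨closure (EtPBC.supp p.P.obj), isClosed_closure,
          closure_subset_of_stableUnderSpecialization (hcons p) hE hSE, subset_closure⟩, ⟨𝟙 p⟩⟩
      · obtain ⟨t, htS, htE⟩ := Set.not_subset.1 hSE
        obtain ⟨η, hηT, hηt, hηmax⟩ := exists_maximal_point
          (isClosed_closure (s := EtPBC.supp p.P.obj)) (subset_closure htS)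
        have hηE : η ∉ E := fun h => htE (hE hηt h)
        have hηF : η ∉ EtPBC.supp F := fun h => hηE (hsupp h)
        obtain ⟨Ω, _, _, ξ, hξ⟩ := exists_geomPt η
        have hz : IsZero ((EtCoh.stalk ξ).obj F) := by
          by_contra hnz
          exact hηF ((mem_supp_iff F _).2 ⟨Ω, inferInstance, inferInstance, ξ, hξ, hnz⟩)
        obtain ⟨p', a, ha⟩ := exists_kill_stalk p ξ hz
        obtain ⟨q₁, b, _, ⟨e⟩⟩ := exists_image p p' a
        have hzq : IsZero ((EtCoh.stalk ξ).obj q₁.P.obj) :=
          IsZero.of_iso (isZero_stalk_image a.g ξ ha) ((EtCoh.stalk ξ).mapIso e)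
        have hnot : η ∉ EtPBC.supp q₁.P.obj := by
          have := not_mem_supp_of_isZero_stalk q₁.P.obj q₁.P.constructible ξ hzq
          rwa [hξ] at this
        have hsub : EtPBC.supp q₁.P.obj ⊆ EtPBC.supp p.P.obj := supp_subset_of_epi b.g
        have hcl : closure (EtPBC.supp q₁.P.obj) ⊆ closure (EtPBC.supp p.P.obj) :=
          closure_mono hsub
        have hηcl : η ∉ closure (EtPBC.supp q₁.P.obj) := by
          intro hmem
          obtain ⟨s, hs, hsη⟩ := exists_specializes_of_mem_closure (hcons q₁) hmem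
          have : s = η := hηmax s (subset_closure (hsub hs)) hsη
          exact hnot (this ▸ hs)
        let T' : Closeds X := ⟨closure (EtPBC.supp q₁.P.obj), isClosed_closure⟩
        have hlt : T' < T := by
          refine lt_of_le_of_ne (fun x hx => hpT (hcl hx)) ?_
          intro heq
          apply hηcl
          have : η ∈ (T : Set X) := hpT hηT
          rw [← heq] at this
          exact this
        obtain ⟨q, hq, ⟨c⟩⟩ := ih T' hlt q₁ (le_refl _)
        exact ⟨q, hq, ⟨b ≫ c⟩⟩
  have h : ∀ p : PO F, ∃ q : PO F, Pq q ∧ Nonempty (p ⟶ q) := fun p =>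
    claim ⟨closure (EtPBC.supp p.P.obj), isClosed_closure⟩ p (le_refl _)
  obtain ⟨J, i1, i2, D', c, hc, hpt, hD⟩ := exists_colimit_sub hF Pq h
  refine ⟨J, i1, i2, D', c, hc, hpt, fun j => ?_⟩
  obtain ⟨q, hq, hjq⟩ := hD j
  rw [hjq]
  exact ⟨q.P.constructible, hq⟩

end Groth.Agent.S0145
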