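import Groth.Statements.S0171
-- import your own Groth.Agent.* helpers here
import Groth.Agent.Lib.Helper4.EtSuppColim

set_option autoImplicit false
universe u
open CategoryTheory CategoryTheory.Limits AlgebraicGeometry Opposite
open EtPBC

namespace Groth.Agent.S0171

/-- K separably closed, X of finite type over K, F an abelian sheaf on X_et whose support consists of
closed points. Then H^q(X, F) = 0 for q > 0. (The source also shows F is globally generated; not
stated here.) -/
theorem result {K : Type u} [Field K] [IsSepClosed K] (X : Scheme.{u})
    (a : X ⟶ Spec (CommRingCat.of K)) [LocallyOfFiniteType a] [QuasiCompact a]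
    (F : EtCoh.Ab X) (hF : ∀ x ∈ EtPBC.supp F, IsClosed ({x} : Set X)) (q : ℕ) (hq : 0 < q) :
    Subsingleton (EtCoh.H X F q) := by
  have h1 : IsLocallyNoetherian X := LocallyOfFiniteType.isLocallyNoetherian a
  have h2 : CompactSpace X := QuasiCompact.compactSpace_of_compactSpace a
  refine Groth.Agent.Lib.Helper4.EtSuppColim.subsingleton_H_of_supp_closedPoints F ?_ hF q hq
  intro x hx
  have hci : IsClosedImmersion (X.fromSpecResidueField x) :=
    isClosed_singleton_iff_isClosedImmersion.1 hx
  have hfin : IsFinite (X.fromSpecResidueField x ≫ a) :=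
    isFinite_iff_locallyOfFiniteType_of_jacobsonSpace.2 inferInstance
  let φ : CommRingCat.of K ⟶ X.residueField x := Spec.preimage (X.fromSpecResidueField x ≫ a)
  have hφ : φ.hom.IsIntegral := by
    rw [← IsIntegralHom.SpecMap_iff, Spec.map_preimage]
    infer_instance
  let _ : Algebra K (X.residueField x) := φ.hom.toAlgebra
  have hint : Algebra.IsIntegral K (X.residueField x) := ⟨fun y => hφ y⟩
  have halg : Algebra.IsAlgebraic K (X.residueField x) := hint.isAlgebraic
  exact Algebra.IsAlgebraic.isSepClosed (F := K)

end Groth.Agent.S0171
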