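import Groth.Statements.S0173
import Mathlib
import Groth.Agent.Lib.Helper43.ConstrColimSub
import Groth.Agent.S0182

set_option autoImplicit false
universe u
open CategoryTheory CategoryTheory.Limits AlgebraicGeometry Opposite
open EtPBC

namespace Groth.Agent.S0173

open Groth.Agent.Lib.Helper43.ConstrColim Groth.Agent.Lib.Helper43.ConstrColimSub
  Groth.Agent.Lib.Helper43.EtConstrSerre Groth.Agent.Lib.Helper43.EtConstrStalk
  Groth.Agent.Lib.Helper43.EtSupp Groth.Agent.Lib.Helper43.EtConstrTorsion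


/-- (1), for X irreducible: X quasi-compact, quasi-separated and irreducible with generic point η, F a
torsion abelian sheaf on X_et whose stalk over η vanishes. Then F is a filtered colimit of
constructible abelian sheaves each supported in a closed subset not containing η. (The source allows
η to be the generic point of any irreducible component.) -/
theorem result (X : Scheme.{u}) [CompactSpace X] [QuasiSeparatedSpace X]
    [IrreducibleSpace X] (F : EtCoh.Ab X) (hF : EtCoh.IsTorsion F) (hη : genericPoint X ∉ EtPBC.supp F) :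
    ∃ (J : Type (u + 1)) (_ : SmallCategory J) (_ : IsFiltered J) (D : J ⥤ EtCoh.Ab X)
      (c : Cocone D) (_ : IsColimit c), Nonempty (c.pt ≅ F) ∧
      ∀ j, EtPBC.IsConstructible (D.obj j) ∧
        ∃ Z : Set X, IsClosed Z ∧ genericPoint X ∉ Z ∧ EtPBC.supp (D.obj j) ⊆ Z := by
  let Pq : ObjectProperty (PO F) := fun q =>
    ∃ Z : Set X, IsClosed Z ∧ genericPoint X ∉ Z ∧ EtPBC.supp q.P.obj ⊆ Z
  have h : ∀ p : PO F, ∃ q : PO F, Pq q ∧ Nonempty (p ⟶ q) := by
    intro p
    obtain ⟨Ω, _, _, ξ, hξ⟩ := exists_geomPt (genericPoint X)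
    have hz : IsZero ((EtCoh.stalk ξ).obj F) := by
      by_contra hnz
      exact hη ((mem_supp_iff F _).2 ⟨Ω, inferInstance, inferInstance, ξ, hξ, hnz⟩)
    obtain ⟨p', a, ha⟩ := exists_kill_stalk p ξ hz
    obtain ⟨q, b, _, ⟨e⟩⟩ := exists_image p p' a
    refine ⟨q, ?_, ⟨b⟩⟩
    have hzq : IsZero ((EtCoh.stalk ξ).obj q.P.obj) :=
      IsZero.of_iso (isZero_stalk_image a.g ξ ha) ((EtCoh.stalk ξ).mapIso e)
    have hnot : genericPoint X ∉ EtPBC.supp q.P.obj := by
      have := not_mem_supp_of_isZero_stalk q.P.obj q.P.constructible ξ hzq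
      rwa [hξ] at this
    have hs : Topology.IsConstructible (EtPBC.supp q.P.obj) :=
      Groth.Agent.S0182.isConstructible_supp X q.P.obj q.P.constructible
    have hn := (nhds_genericPoint_of_isConstructible hs).2 hnot
    refine ⟨closure (EtPBC.supp q.P.obj), isClosed_closure, ?_, subset_closure⟩
    intro hmem
    obtain ⟨z, hz1, hz2⟩ := mem_closure_iff_nhds.1 hmem _ hn
    exact hz1 hz2
  obtain ⟨J, i1, i2, D', c, hc, hpt, hD⟩ := exists_colimit_sub hF Pq h
  refine ⟨J, i1, i2, D', c, hc, hpt, fun j => ?_⟩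
  obtain ⟨q, hq, hjq⟩ := hD j
  rw [hjq]
  exact ⟨q.P.constructible, hq⟩

end Groth.Agent.S0173
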