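import Groth.Statements.S0175
import Mathlib
import Groth.Agent.Lib.Helper43.Recoll

set_option autoImplicit false
universe u
open CategoryTheory CategoryTheory.Limits AlgebraicGeometry Opposite
open EtPBC

namespace Groth.Agent.S0175

open Groth.Agent.Lib.Helper43 Groth.Agent.Lib.Helper43.EtStalk

lemma bij_of_iso {A B : AddCommGrpCat.{u + 1}} (f : A ⟶ B) (h : IsIso f) : Function.Bijective f :=
  ConcreteCategory.bijective_of_isIso f

section Helpers

variable {Z X U : Scheme.{u}} (i : Z ⟶ X) [IsClosedImmersion i]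
    (j : U ⟶ X) [IsOpenImmersion j] (hZU : Set.range j.base = (Set.range i.base)ᶜ)
    [EtCoh.BCCont i] [EtCoh.BCCont j]

include hZU in
omit [IsOpenImmersion j] in
/-- `j^{-1} i_* G = 0` -/
lemma isZero_pull_push (G : EtCoh.Ab Z) : IsZero ((EtCoh.pull j).obj ((EtCoh.push i).obj G)) := by
  apply isZero_of_stalks_ab
  intro Ω _ _ u
  have h1 : IsZero (((Scheme.pointSmallEtale (u ≫ j)).sheafFiber (A := AddCommGrpCat.{u + 1})).obj
      ((EtCoh.push i).obj G)) := by
    apply Groth.Agent.S0069.result i
    rw [Set.disjoint_left]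
    rintro _ ⟨q, rfl⟩ hq
    have h2 : (u ≫ j).base q ∈ Set.range j.base := ⟨u.base q, rfl⟩
    rw [hZU] at h2
    exact h2 hq
  have h3 : IsIso (PullStalk.pullStalkMap j ((EtCoh.push i).obj G) u) :=
    PullStalk.isIso_pullStalkMap j _ u
  exact h1.of_iso (@asIso _ _ _ _ _ h3).symm

include hZU in
omit [IsOpenImmersion j] in
/-- every map `i_* G ⟶ j_* H` vanishes -/
lemma hom_push_push_eq_zero (G : EtCoh.Ab Z) (H : EtCoh.Ab U)
    (φ : (EtCoh.push i).obj G ⟶ (EtCoh.push j).obj H) : φ = 0 := by
  apply ((EtCoh.pullPushAdj j).homEquiv _ _).symm.injective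
  exact (isZero_pull_push i j hZU G).eq_of_src _ _

omit [IsClosedImmersion i] [EtCoh.BCCont i] [IsOpenImmersion j] in
/-- the unit `I ⟶ j_* j^{-1} I` is injective on stalks at points of `U` -/
lemma stalk_unit_injective (I : EtCoh.Ab X) {Ω : Type u} [Field Ω] [IsSepClosed Ω]
    (u : Spec (CommRingCat.of Ω) ⟶ U) :
    Function.Injective ((Scheme.pointSmallEtale (u ≫ j)).presheafFiber.map
      ((EtCoh.pullPushAdj j).unit.app I).hom) := by
  have h1 := ClosedStalk.stalk_unit_pushStalkMap j I u
  have h3 : IsIso (PullStalk.pullStalkMap j I u) := PullStalk.isIso_pullStalkMap j _ u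
  intro a b hab
  have h4 := congrArg (ClosedStalk.pushStalkMap j ((EtCoh.pull j).obj I) u) hab
  have h5 : ∀ c, ClosedStalk.pushStalkMap j ((EtCoh.pull j).obj I) u
      ((Scheme.pointSmallEtale (u ≫ j)).presheafFiber.map
        ((EtCoh.pullPushAdj j).unit.app I).hom c) = PullStalk.pullStalkMap j I u c :=
    fun c => congrArg (fun t => t.hom c) h1
  rw [h5, h5] at h4
  exact (bij_of_iso _ h3).1 h4

include hZU in
/-- the unit `K ⟶ i_* i^{-1} K` is an isomorphism for the sheaf of sections supported on `Z` -/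
lemma isIso_unit_kernel (I : EtCoh.Ab X) :
    IsIso ((EtCoh.pullPushAdj i).unit.app (kernel ((EtCoh.pullPushAdj j).unit.app I))) := by
  let K := kernel ((EtCoh.pullPushAdj j).unit.app I)
  have key : ∀ (Ω : Type u) [Field Ω] [IsSepClosed Ω] (ξ : Spec (CommRingCat.of Ω) ⟶ X),
      IsIso (((Scheme.pointSmallEtale ξ).sheafFiber (A := AddCommGrpCat.{u + 1})).map
        ((EtCoh.pullPushAdj i).unit.app K)) := by
    intro Ω _ _ ξ
    rcases ShriekStalk.lifts_nonempty_or j ξ with ⟨⟨u, rfl⟩⟩ | hξ
    · -- both stalks vanish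
      have h1 : IsZero (((Scheme.pointSmallEtale (u ≫ j)).sheafFiber (A := AddCommGrpCat.{u + 1})).obj
          ((EtCoh.push i).obj ((EtCoh.pull i).obj K))) := by
        apply Groth.Agent.S0069.result i
        rw [Set.disjoint_left]
        rintro _ ⟨q, rfl⟩ hq
        have h2 : (u ≫ j).base q ∈ Set.range j.base := ⟨u.base q, rfl⟩
        rw [hZU] at h2
        exact h2 hq
      have h2 : IsZero (((Scheme.pointSmallEtale (u ≫ j)).sheafFiber (A := AddCommGrpCat.{u + 1})).obj K) := by
        let St := (Scheme.pointSmallEtale (u ≫ j)).sheafFiber (A := AddCommGrpCat.{u + 1})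
        have hι : Function.Injective (St.map (kernel.ι ((EtCoh.pullPushAdj j).unit.app I))) :=
          (mono_iff_stalks_ab _).1 inferInstance Ω (u ≫ j)
        have hη := stalk_unit_injective j I u
        have hsub : Subsingleton ↑(St.obj K) := by
          constructor
          intro a b
          apply hι
          apply hη
          have hz : St.map (kernel.ι ((EtCoh.pullPushAdj j).unit.app I)) ≫
              St.map ((EtCoh.pullPushAdj j).unit.app I) = 0 := by
            rw [← St.map_comp, kernel.condition, St.map_zero]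
          have hz' : ∀ c : ↑(St.obj K), (St.map ((EtCoh.pullPushAdj j).unit.app I))
              ((St.map (kernel.ι ((EtCoh.pullPushAdj j).unit.app I))) c) = 0 :=
            fun c => congrArg (fun t => t.hom c) hz
          exact (hz' a).trans (hz' b).symm
        exact @AddCommGrpCat.isZero_of_subsingleton _ hsub
      exact ⟨⟨0, h2.eq_of_src _ _, h1.eq_of_src _ _⟩⟩
    · have hmem : ξ.base default ∈ Set.range i.base := by
        have := hξ ⟨default, rfl⟩
        rw [hZU] at this
        simpa using this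
      obtain ⟨ζ, rfl⟩ := ClosedStalk.exists_lift_closed i ξ hmem
      exact ClosedStalk.isIso_stalk_unit i K ζ
  have hm : Mono ((EtCoh.pullPushAdj i).unit.app K) := mono_of_stalks_ab _ (fun Ω _ _ ξ =>
    (bij_of_iso _ (key Ω ξ)).1)
  have he : Epi ((EtCoh.pullPushAdj i).unit.app K) := epi_of_stalks_ab _ (fun Ω _ _ ξ =>
    (bij_of_iso _ (key Ω ξ)).2)
  exact isIso_of_mono_of_epi _

end Helpers


/-- Let i : Z → X be a closed immersion of schemes with open complement j : U → X, and I an injective
abelian sheaf on X_ét. Then the subsheaf H_Z(I) of sections supported on Z (the kernel of I → j_*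
j^* I), viewed on Z_ét via i^*, is an injective abelian sheaf on Z_ét. -/
theorem result {Z X U : Scheme.{u}} (i : Z ⟶ X) [IsClosedImmersion i]
    (j : U ⟶ X) [IsOpenImmersion j] (hZU : Set.range j = (Set.range i)ᶜ)
    [EtCoh.BCCont i] [EtCoh.BCCont j] (I : EtCoh.Ab X) [Injective I] :
    Injective ((EtCoh.pull i).obj (kernel ((EtCoh.pullPushAdj j).unit.app I))) := by
  have hZU' : Set.range j.base = (Set.range i.base)ᶜ := hZU
  let K := kernel ((EtCoh.pullPushAdj j).unit.app I)
  let ι : K ⟶ I := kernel.ι _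
  have hηK : IsIso ((EtCoh.pullPushAdj i).unit.app K) := isIso_unit_kernel i j hZU' I
  let ηK := (EtCoh.pullPushAdj i).unit.app K
  have hcounit : IsIso (EtCoh.pullPushAdj i).counit := ClosedStalk.isIso_counit_nat i
  let ff := (EtCoh.pullPushAdj i).fullyFaithfulROfIsIsoCounit
  constructor
  intro G G' a m hm
  -- transport to `X`
  let a' : (EtCoh.push i).obj G ⟶ I := (EtCoh.push i).map a ≫ inv ηK ≫ ι
  have hmono : Mono ((EtCoh.push i).map m) := inferInstance
  obtain ⟨b', hb'⟩ := Injective.factors a' ((EtCoh.push i).map m)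
  have hb'0 : b' ≫ (EtCoh.pullPushAdj j).unit.app I = 0 :=
    hom_push_push_eq_zero i j hZU' G' _ _
  let b'' : (EtCoh.push i).obj G' ⟶ K := kernel.lift _ b' hb'0
  have hb'' : b'' ≫ ι = b' := kernel.lift_ι _ _ _
  let b : G' ⟶ (EtCoh.pull i).obj K := ff.preimage (b'' ≫ ηK)
  have hb : (EtCoh.push i).map b = b'' ≫ ηK := ff.map_preimage _
  refine ⟨b, ?_⟩
  apply ff.map_injective
  rw [Functor.map_comp, hb]
  have h1 : ((EtCoh.push i).map m ≫ b'') ≫ ι = ((EtCoh.push i).map a ≫ inv ηK) ≫ ι := by
    rw [Category.assoc, hb'', hb', Category.assoc]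
  have h2 : (EtCoh.push i).map m ≫ b'' = (EtCoh.push i).map a ≫ inv ηK :=
    (cancel_mono ι).1 h1
  rw [← Category.assoc, h2, Category.assoc, IsIso.inv_hom_id, Category.comp_id]

end Groth.Agent.S0175
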