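import Groth.Statements.S0179
import Groth.Agent.Lib.Helper75.SpecTop2
import Mathlib.Order.Disjointed

set_option autoImplicit false
universe u
open EtPBC

namespace Groth.Agent.S0179

open Topology Set Groth.Agent.Lib.Helper75

variable {X : Type u} [TopologicalSpace X]

theorem surj [SpectralSpace X] :
    Function.Surjective
      (fun x : {x : X // IsClosed ({x} : Set X)} => _root_.ConnectedComponents.mk x.1) := by
  intro c
  obtain ⟨x, rfl⟩ := ConnectedComponents.surjective_coe c
  obtain ⟨z, hz1, hz2⟩ := (isClosed_closure (s := ({x} : Set X))).exists_closed_singleton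
    ⟨x, subset_closure rfl⟩
  refine ⟨⟨z, hz2⟩, ?_⟩
  simp only
  rw [ConnectedComponents.coe_eq_coe']
  have hpre : IsPreconnected (closure ({x} : Set X)) := (isPreconnected_singleton).closure
  exact hpre.subset_connectedComponent (subset_closure rfl) hz1

theorem inj_of_refine [SpectralSpace X]
    (H : ∀ (ι : Type u) (U : ι → Set X), (∀ i, IsOpen (U i)) → (⋃ i, U i) = Set.univ →
      ∃ (n : ℕ) (V : Fin n → Set X), (∀ k, IsClopen (V k)) ∧
        Pairwise (fun k l => Disjoint (V k) (V l)) ∧ (⋃ k, V k) = Set.univ ∧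
          ∀ k, ∃ i, V k ⊆ U i) :
    Function.Injective
      (fun x : {x : X // IsClosed ({x} : Set X)} => _root_.ConnectedComponents.mk x.1) := by
  rintro ⟨x, hx⟩ ⟨y, hy⟩ h
  simp only at h
  by_contra hne
  have hne' : x ≠ y := fun e => hne (Subtype.ext e)
  let U : ULift.{u} Bool → Set X := fun b => if b.down then ({x}ᶜ : Set X) else ({y}ᶜ : Set X)
  have hUo : ∀ i, IsOpen (U i) := by
    rintro ⟨b⟩
    cases b
    · exact hy.isOpen_compl
    · exact hx.isOpen_compl
  have hUc : (⋃ i, U i) = Set.univ := by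
    rw [eq_univ_iff_forall]
    intro z
    by_cases hz : z = x
    · refine mem_iUnion.mpr ⟨⟨false⟩, ?_⟩
      change z ∈ ({y}ᶜ : Set X)
      rw [hz]
      exact hne'
    · exact mem_iUnion.mpr ⟨⟨true⟩, hz⟩
  obtain ⟨n, V, hV, -, hVu, hVU⟩ := H _ U hUo hUc
  have hxV : x ∈ ⋃ k, V k := by rw [hVu]; trivial
  obtain ⟨k, hk⟩ := mem_iUnion.mp hxV
  have hyV : y ∈ V k :=
    (hV k).connectedComponent_subset hk (ConnectedComponents.coe_eq_coe'.mp h.symm)
  obtain ⟨⟨b⟩, hb⟩ := hVU k
  cases b
  · exact hb hyV rfl
  · exact hb hk rfl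

theorem refine_of_inj [SpectralSpace X]
    (hinj : Function.Injective
      (fun x : {x : X // IsClosed ({x} : Set X)} => _root_.ConnectedComponents.mk x.1))
    (ι : Type u) (U : ι → Set X) (hUo : ∀ i, IsOpen (U i)) (hUc : (⋃ i, U i) = Set.univ) :
    ∃ (n : ℕ) (V : Fin n → Set X), (∀ k, IsClopen (V k)) ∧
      Pairwise (fun k l => Disjoint (V k) (V l)) ∧ (⋃ k, V k) = Set.univ ∧
        ∀ k, ∃ i, V k ⊆ U i := by
  classical
  -- Step 1
  have step1 : ∀ x : X, ∃ s : Set X, IsClopen s ∧ x ∈ s ∧ ∃ i, s ⊆ U i := by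
    intro x
    obtain ⟨t, htT, htc⟩ := (isClosed_connectedComponent (x := x)).exists_closed_singleton
      ⟨x, mem_connectedComponent⟩
    have htU : t ∈ ⋃ i, U i := by rw [hUc]; trivial
    obtain ⟨i, hi⟩ := mem_iUnion.mp htU
    have hT : connectedComponent x ⊆ U i := by
      intro y hy
      obtain ⟨t', ht'1, ht'c⟩ := (isClosed_closure (s := ({y} : Set X))).exists_closed_singleton
        ⟨y, subset_closure rfl⟩
      have hpre : IsPreconnected (closure ({y} : Set X)) := (isPreconnected_singleton).closure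
      have h1 : t' ∈ connectedComponent y :=
        hpre.subset_connectedComponent (subset_closure rfl) ht'1
      have h2 : connectedComponent x = connectedComponent y := connectedComponent_eq hy
      have h3 : connectedComponent x = connectedComponent t := connectedComponent_eq htT
      have h4 : (⟨t', ht'c⟩ : {x : X // IsClosed ({x} : Set X)}) = ⟨t, htc⟩ := by
        apply hinj
        simp only
        rw [ConnectedComponents.coe_eq_coe', ← h3, h2]
        exact h1
      have h5 : t' = t := congrArg Subtype.val h4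
      have h6 : y ⤳ t := by
        rw [← h5]; exact specializes_iff_mem_closure.mpr ht'1
      exact h6.mem_open (hUo i) hi
    obtain ⟨s, hs, hxs, hsU⟩ := exists_isClopen_subset_of_connectedComponent_subset (hUo i) hT
    exact ⟨s, hs, hxs, i, hsU⟩
  choose s hs hxs idx hsU using step1
  obtain ⟨t, ht⟩ := isCompact_univ.elim_finite_subcover s (fun x => (hs x).2)
    (fun x _ => mem_iUnion.mpr ⟨x, hxs x⟩)
  let e : Fin t.card ≃ t := t.equivFin.symm
  let W : Fin t.card → Set X := fun k => s (e k).1
  have hWc : ∀ k, IsClopen (W k) := fun k => hs _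
  have hWu : (⋃ k, W k) = Set.univ := by
    rw [eq_univ_iff_forall]
    intro z
    obtain ⟨x, hx⟩ := mem_iUnion.mp (ht (mem_univ z))
    obtain ⟨hxt, hzx⟩ := mem_iUnion.mp hx
    refine mem_iUnion.mpr ⟨e.symm ⟨x, hxt⟩, ?_⟩
    simp only [W, Equiv.apply_symm_apply]
    exact hzx
  refine ⟨t.card, disjointed W, ?_, ?_, ?_, ?_⟩
  · intro k
    rw [disjointed_apply]
    refine (hWc k).diff ?_
    rw [Finset.sup_set_eq_biUnion]
    exact isClopen_biUnion_finset fun j _ => hWc j
  · exact disjoint_disjointed W
  · rw [iUnion_disjointed, hWu]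
  · intro k
    exact ⟨idx (e k).1, (disjointed_subset W k).trans (hsU _)⟩

end Groth.Agent.S0179

namespace Groth.Agent.S0179

/-- For a spectral space X with set of closed points X_0, the following are equivalent: (1) any open
cover of X admits a refinement by finitely many pairwise disjoint open-and-closed pieces; (2) the
map from X_0 to the space of connected components pi_0(X) is a bijection. -/
theorem result (X : Type u) [TopologicalSpace X] [SpectralSpace X] :
    (∀ (ι : Type u) (U : ι → Set X), (∀ i, IsOpen (U i)) → (⋃ i, U i) = Set.univ →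
      ∃ (n : ℕ) (V : Fin n → Set X), (∀ k, IsClopen (V k)) ∧
        Pairwise (fun k l => Disjoint (V k) (V l)) ∧ (⋃ k, V k) = Set.univ ∧ ∀ k, ∃ i, V k ⊆ U i) ↔
    Function.Bijective (fun x : {x : X // IsClosed ({x} : Set X)} => _root_.ConnectedComponents.mk x.1) := by
  constructor
  · intro H
    exact ⟨Groth.Agent.S0179.inj_of_refine H, Groth.Agent.S0179.surj⟩
  · intro hb ι U hUo hUc
    exact Groth.Agent.S0179.refine_of_inj hb.1 ι U hUo hUc

end Groth.Agent.S0179
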