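import Groth.Statements.S0181
import Mathlib
import Groth.Agent.S0139

set_option autoImplicit false
universe u
open CategoryTheory CategoryTheory.Limits AlgebraicGeometry Opposite
open EtPBC

namespace Groth.Agent.S0181

open Cardinal

attribute [local instance] Cardinal.fact_isRegular_aleph0


/-- (2): on a quasi-compact quasi-separated X, if F = colim F_j is a filtered colimit of constructible
abelian sheaves and F is itself constructible, then the ind-object (F_j) is essentially constant
with value F: there are i and s : F -> F_i splitting F_i -> F such that for every j the transition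
F_j -> F_k, for some k beyond i and j, equals F_j -> F -> F_i -> F_k. -/
theorem result (X : Scheme.{u}) [CompactSpace X] [QuasiSeparatedSpace X]
    {J : Type u} [SmallCategory J] [IsFiltered J] (D : J ⥤ EtCoh.Ab X)
    (c : Cocone D) (hc : IsColimit c)
    (hD : ∀ j, EtPBC.IsConstructible (D.obj j)) (hF : EtPBC.IsConstructible c.pt) :
    ∃ (i : J) (s : c.pt ⟶ D.obj i), s ≫ c.ι.app i = 𝟙 c.pt ∧
      ∀ j : J, ∃ (k : J) (a : i ⟶ k) (b : j ⟶ k), D.map b = c.ι.app j ≫ s ≫ D.map a := by
  have hpt : IsFinitelyPresentable.{u} c.pt := Groth.Agent.S0139.isFinitelyPresentable X c.pt hF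
  obtain ⟨i, s, hs⟩ := IsFinitelyPresentable.exists_hom_of_isColimit hc (𝟙 c.pt)
  refine ⟨i, s, hs, fun j => ?_⟩
  have hj : IsFinitelyPresentable.{u} (D.obj j) :=
    Groth.Agent.S0139.isFinitelyPresentable X (D.obj j) (hD j)
  have h : 𝟙 (D.obj j) ≫ c.ι.app j = (c.ι.app j ≫ s) ≫ c.ι.app i := by
    rw [Category.id_comp, Category.assoc, hs]
    exact (Category.comp_id _).symm
  obtain ⟨k, b, a, hk⟩ := IsFinitelyPresentable.exists_eq_of_isColimit hc
    (𝟙 (D.obj j)) (c.ι.app j ≫ s) h
  refine ⟨k, a, b, ?_⟩
  rw [Category.id_comp, Category.assoc] at hk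
  exact hk

end Groth.Agent.S0181
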