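import Groth.Statements.S0195
import Groth.Agent.Lib.Helper1.CSA.SplitTools
import Groth.Agent.Lib.Helper25.CyclicSplit

set_option autoImplicit false
universe u v w
open scoped TensorProduct
open Curves

namespace Groth.Agent.S0195

/-- A finite extension k' of k splits a finite central simple algebra A exactly when some algebra
similar to A contains k' with dim equal to [k':k]^2. Uses Mathlib's bundled CSA and Brauer
equivalence. -/
theorem result (k : Type u) [Field k] (A : CSA.{u, u} k)
    (k' : Type u) [Field k'] [Algebra k k'] [FiniteDimensional k k'] :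
    Curves.Splits k A k' ↔ ∃ (B : CSA.{u, u} k) (_ : k' →ₐ[k] B), IsBrauerEquivalent A B ∧
      Module.finrank k B = Module.finrank k k' ^ 2 := by
    classical
    constructor
    · rintro ⟨n, hn, ⟨φ⟩⟩
      have hA := Groth.Agent.Lib.Helper25.CyclicSplit.finrank_of_splits φ
      obtain ⟨hc, hs, hf, hdim⟩ := Groth.Agent.Lib.Helper25.CyclicSplit.comm_props hn
        (Groth.Agent.Lib.Helper25.CyclicSplit.repOfSplits φ) hA
      obtain ⟨ψ⟩ := Groth.Agent.Lib.Helper25.CyclicSplit.matrix_equiv hn
        (Groth.Agent.Lib.Helper25.CyclicSplit.repOfSplits φ) hA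
      refine ⟨⟨AlgCat.of k (Groth.Agent.Lib.Helper25.CyclicSplit.Comm
        (Groth.Agent.Lib.Helper25.CyclicSplit.repOfSplits φ))⟩,
        Groth.Agent.Lib.Helper25.CyclicSplit.ιComm _, ⟨n * Module.finrank k k', n ^ 2,
          mul_ne_zero hn Module.finrank_pos.ne', pow_ne_zero 2 hn, ⟨ψ⟩⟩, hdim⟩
    · rintro ⟨B, j, ⟨a, b, ha, hb, ⟨e⟩⟩, hB⟩
      exact Groth.Agent.Lib.Helper1.splits_of_matrix_algEquiv k A k' B a b ha hb e
        (Groth.Agent.Lib.Helper1.splits_of_algHom_of_finrank_eq_sq j hB)

end Groth.Agent.S0195
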