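import Groth.Statements.S0200
import Groth.Agent.S12216
import Groth.Agent.S11683
import Groth.Agent.Lib.Helper25.InvolutionBaseChange
import Groth.Agent.Lib.Helper1.CSA.TensorSimple

set_option autoImplicit false
universe u v w
open scoped TensorProduct
open Curves

namespace Groth.Agent.S0200

/-- A k-algebra is finite central simple exactly when its base change to the separable closure of k is a
matrix algebra of positive size. -/
theorem result (k : Type u) [Field k] (A : Type v) [Ring A] [Algebra k A] :
    (Algebra.IsCentral k A ∧ IsSimpleRing A ∧ FiniteDimensional k A) ↔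
      Curves.Splits k A (SeparableClosure k) := by
  constructor
  · rintro ⟨hC, hS, hF⟩
    have h2 : IsSimpleRing (SeparableClosure k ⊗[k] A) :=
      Groth.Agent.Lib.Helper1.isSimpleRing_tensor_of_isCentral_of_isSimpleRing
        (SeparableClosure k) A
    have h3 : Algebra.IsCentral (SeparableClosure k) (SeparableClosure k ⊗[k] A) :=
      Groth.Agent.Lib.Helper25.Involution.isCentral_baseChange k (SeparableClosure k) A
    obtain ⟨n, ⟨φ⟩⟩ := Groth.Agent.S11683.result (SeparableClosure k) (SeparableClosure k ⊗[k] A)
    refine ⟨n, ?_, ⟨φ⟩⟩
    rintro rfl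
    have : Subsingleton (Matrix (Fin 0) (Fin 0) (SeparableClosure k)) := inferInstance
    have : Subsingleton (SeparableClosure k ⊗[k] A) := φ.toEquiv.subsingleton
    exact not_subsingleton (SeparableClosure k ⊗[k] A) this
  · rintro ⟨n, hn, ⟨φ⟩⟩
    have : NeZero n := ⟨hn⟩
    have hS : IsSimpleRing (SeparableClosure k ⊗[k] A) :=
      IsSimpleRing.of_ringEquiv φ.symm.toRingEquiv inferInstance
    have hC : Algebra.IsCentral (SeparableClosure k) (SeparableClosure k ⊗[k] A) := by
      refine ⟨fun z hz => ?_⟩
      have hz' : φ z ∈ Subalgebra.center (SeparableClosure k)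
          (Matrix (Fin n) (Fin n) (SeparableClosure k)) := by
        rw [Subalgebra.mem_center_iff] at hz ⊢
        intro b
        have := congrArg φ (hz (φ.symm b))
        simpa using this
      obtain ⟨t, ht⟩ := (Algebra.IsCentral.mem_center_iff (SeparableClosure k)).mp hz'
      rw [Algebra.mem_bot]
      refine ⟨t, ?_⟩
      apply φ.injective
      rw [ht, AlgEquiv.commutes]
    refine ⟨Groth.Agent.S12216.isCentral_of_tensor (L := SeparableClosure k),
      Groth.Agent.S12216.isSimpleRing_of_tensor (K := k) (L := SeparableClosure k), ?_⟩
    have hfin : Module.Finite (SeparableClosure k) (SeparableClosure k ⊗[k] A) :=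
      Module.Finite.equiv φ.symm.toLinearEquiv
    rw [← Module.rank_lt_aleph0_iff] at hfin
    rw [Module.rank_baseChange] at hfin
    show Module.Finite k A
    rw [← Module.rank_lt_aleph0_iff]
    simpa using hfin

end Groth.Agent.S0200
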