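import Groth.Statements.S0469
import Groth.Agent.Lib.Helper80.GV.Spectral
import Groth.Agent.Lib.Helper1.ShCohTop

set_option autoImplicit false
universe u
open CategoryTheory
open CohTop

namespace Groth.Agent.S0469
set_option linter.style.haveILetI false


/-- If X is a spectral space of Krull dimension at most d, then H^p(X, F) = 0 for every abelian sheaf F
and every p > d. -/
theorem result {X : TopCat.{u}} [SpectralSpace X] (d : ℕ) (hd : topologicalKrullDim X ≤ d)
    (F : CohTop.Ab X) (p : ℕ) (hp : d < p) : Subsingleton (CohTop.H F p) := by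
  have hdim := Groth.Agent.Lib.Helper80.GV.SpLT.of_krullDim_le (X := X) d hd
  have h0 : ∀ ξ : CohTop.HU F p ⊤, ξ = 0 := fun ξ =>
    (Groth.Agent.Lib.Helper80.GV.cohData F).eq_zero_of_spLT d hdim p hp ξ
  have hs : Subsingleton (CohTop.HU F p ⊤) := ⟨fun a b => (h0 a).trans (h0 b).symm⟩
  exact (Groth.Agent.Lib.Helper1.HUTopEquivH (X := X) F p).symm.toEquiv.subsingleton_congr.mpr hs

end Groth.Agent.S0469
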