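import Groth.Statements.S0207
import Groth.Agent.Lib.Helper44.ASSeq
import Groth.Agent.S0110
import Groth.Agent.S0469

set_option autoImplicit false
universe u
open CategoryTheory CategoryTheory.Limits AlgebraicGeometry
open Curves

namespace Groth.Agent.S0207

/-- On a quasi-compact quasi-separated scheme of dimension d on which the prime p is zero, étale
cohomology with Z/p coefficients vanishes from degree d+2 on. -/
theorem result (p : ℕ) [Fact p.Prime] (S : Scheme.{u}) [CompactSpace S] [QuasiSeparatedSpace S]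
    (hp : (p : Γ(S, ⊤)) = 0) (d : ℕ) (hd : topologicalKrullDim S = d) (q : ℕ) (hq : 2 + d ≤ q) :
    Subsingleton (EtCoh.H S (EtCoh.const S (ZMod p)) q) := by
  obtain ⟨n, rfl⟩ : ∃ n, q = n + 2 := ⟨q - 2, by omega⟩
  haveI h1 : SpectralSpace S := SpectralSpace.mk
  haveI : SpectralSpace S.toTopCat := h1
  have hGa : ∀ m, d < m → Subsingleton (EtCoh.H S (EtCoh.Ga S) m) := by
    intro m hm
    obtain ⟨e⟩ := Groth.Agent.S0110.result S m
    haveI : Subsingleton (Coh.HH S (Coh.structureModule S) m) :=
      Groth.Agent.S0469.result (X := S.toTopCat) d hd.le _ m hm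
    exact e.toEquiv.subsingleton
  obtain ⟨e⟩ := Groth.Agent.Lib.Helper44.ASKernel.nonempty_K_iso_const p hp
  have h := Groth.Agent.Lib.Helper44.ASKernel.H_K_subsingleton p hp n (hGa (n + 1) (by omega))
    (hGa (n + 2) (by omega))
  exact (Groth.Agent.Lib.Helper33.BigSiteCoh.extCongrRightAdd _ e (n + 2)).symm.toEquiv.subsingleton


end Groth.Agent.S0207
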