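import Groth.Statements.S0218
import Mathlib

set_option autoImplicit false
universe u
open Curves

namespace Groth.Agent.S0218

open Polynomial

section
variable {k : Type u} [Field k] {A : Type u} [CommRing A] [Algebra k A]

/-- Step 0: from two subalgebras, every subalgebra is `⊥` or `⊤` and they differ. -/
theorem bot_or_top (h : Nat.card (Subalgebra k A) = 2) :
    (⊥ : Subalgebra k A) ≠ ⊤ ∧ ∀ S : Subalgebra k A, S = ⊥ ∨ S = ⊤ := by
  obtain ⟨x, y, hxy, huniv⟩ := Nat.card_eq_two_iff.1 h
  have mem : ∀ S : Subalgebra k A, S = x ∨ S = y := fun S => by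
    have : S ∈ ({x, y} : Set (Subalgebra k A)) := huniv ▸ Set.mem_univ S
    simpa using this
  have hne : (⊥ : Subalgebra k A) ≠ ⊤ := by
    intro hbt
    have hall : ∀ S : Subalgebra k A, S = ⊥ := fun S =>
      le_antisymm (hbt ▸ le_top) bot_le
    exact hxy ((hall x).trans (hall y).symm)
  refine ⟨hne, fun S => ?_⟩
  rcases mem S with hS | hS <;> rcases mem ⊥ with hb | hb <;> rcases mem ⊤ with ht | ht
  all_goals first
    | exact Or.inl (hS.trans hb.symm)
    | exact Or.inr (hS.trans ht.symm)
    | exact absurd (hb.trans ht.symm) hne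

/-- Step 2: every element is algebraic. -/
theorem isAlgebraic_of_two (hS : ∀ S : Subalgebra k A, S = ⊥ ∨ S = ⊤) (b : A) :
    IsAlgebraic k b := by
  by_cases hb2 : b ^ 2 ∈ (⊥ : Subalgebra k A)
  · obtain ⟨c, hc⟩ := Algebra.mem_bot.1 hb2
    refine ⟨X ^ 2 - C c, ?_, by simp [hc]⟩
    exact (monic_X_pow_sub_C c (by norm_num)).ne_zero
  · have htop : Algebra.adjoin k {b ^ 2} = ⊤ := by
      rcases hS (Algebra.adjoin k {b ^ 2}) with h | h
      · exact absurd (h ▸ Algebra.subset_adjoin (Set.mem_singleton _)) hb2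
      · exact h
    have hb : b ∈ Algebra.adjoin k {b ^ 2} := htop ▸ Algebra.mem_top
    rw [Algebra.adjoin_singleton_eq_range_aeval] at hb
    obtain ⟨p, hp⟩ := hb
    refine ⟨X - expand k 2 p, ?_, ?_⟩
    · intro h0
      have := congrArg (fun q => q.coeff 1) h0
      simp [coeff_expand] at this
    · have hp' : aeval (b ^ 2) p = b := hp
      rw [map_sub, aeval_X, expand_aeval, hp', sub_self]

/-- Steps 3-4: a non-scalar element `d` with `d * d = μ • d`. -/
theorem exists_special [IsAlgClosed k] (hne : (⊥ : Subalgebra k A) ≠ ⊤)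
    (hS : ∀ S : Subalgebra k A, S = ⊥ ∨ S = ⊤) :
    ∃ (d : A) (μ : k), d ∉ (⊥ : Subalgebra k A) ∧ d * d = μ • d := by
  obtain ⟨b, hb⟩ : ∃ b : A, b ∉ (⊥ : Subalgebra k A) := by
    by_contra hcon
    push Not at hcon
    exact hne (eq_top_iff.2 (fun x _ => hcon x))
  have : Nontrivial A := by
    by_contra hA
    rw [not_nontrivial_iff_subsingleton] at hA
    exact hb (Subsingleton.elim 0 b ▸ zero_mem _)
  have hint : IsIntegral k b := (isAlgebraic_of_two hS b).isIntegral
  have hfdeg : (minpoly k b).degree ≠ 0 := (minpoly.degree_pos hint).ne'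
  obtain ⟨r, hr⟩ := IsAlgClosed.exists_root (minpoly k b) hfdeg
  have hfac : (X - C r) * (minpoly k b /ₘ (X - C r)) = minpoly k b :=
    mul_divByMonic_eq_iff_isRoot.2 hr
  generalize hg : minpoly k b /ₘ (X - C r) = g at hfac
  have hg0 : g ≠ 0 := by
    rintro rfl
    rw [mul_zero] at hfac
    exact minpoly.ne_zero hint hfac.symm
  have hdeg : g.degree < (minpoly k b).degree := by
    rw [← hfac, degree_mul, degree_X_sub_C]
    rw [degree_eq_natDegree hg0]
    have : ((1 : ℕ) : WithBot ℕ) + (g.natDegree : WithBot ℕ) = ((1 + g.natDegree : ℕ) : WithBot ℕ) := by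
      push_cast; rfl
    rw [show (1 : WithBot ℕ) = ((1 : ℕ) : WithBot ℕ) from rfl, this]
    exact_mod_cast Nat.lt_one_add_iff.2 le_rfl
  have hd0 : aeval b g ≠ 0 := fun h =>
    not_le.2 hdeg (minpoly.degree_le_of_ne_zero k b hg0 h)
  have hbd : (b - algebraMap k A r) * aeval b g = 0 := by
    have := minpoly.aeval k b
    rw [← hfac, map_mul] at this
    simpa using this
  refine ⟨aeval b g, g.eval r, ?_, ?_⟩
  · intro hd
    obtain ⟨c, hc⟩ := Algebra.mem_bot.1 hd
    have hc0 : c ≠ 0 := by
      rintro rfl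
      rw [map_zero] at hc
      exact hd0 hc.symm
    rw [← hc] at hbd
    have h1 : (b - algebraMap k A r) * algebraMap k A c * algebraMap k A c⁻¹ = 0 := by
      rw [hbd, zero_mul]
    rw [mul_assoc, ← map_mul, mul_inv_cancel₀ hc0, map_one, mul_one, sub_eq_zero] at h1
    exact hb (h1 ▸ Subalgebra.algebraMap_mem _ r)
  · obtain ⟨s, hs⟩ := X_sub_C_dvd_sub_C_eval (a := r) (p := g)
    have h1 : aeval b g - algebraMap k A (g.eval r) = (b - algebraMap k A r) * aeval b s := by
      have := congrArg (aeval b) hs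
      simpa using this
    have h2 : aeval b g * (aeval b g - algebraMap k A (g.eval r)) = 0 := by
      rw [h1, ← mul_assoc, mul_comm (aeval b g), hbd, zero_mul]
    rw [mul_sub, sub_eq_zero] at h2
    rw [h2, Algebra.smul_def, mul_comm]

theorem dual_case (hS : ∀ S : Subalgebra k A, S = ⊥ ∨ S = ⊤) (d : A)
    (hd : d ∉ (⊥ : Subalgebra k A)) (hdd : d * d = 0) : Nonempty (A ≃ₐ[k] DualNumber k) := by
  have hnt : Nontrivial A := by
    by_contra hA
    rw [not_nontrivial_iff_subsingleton] at hA
    exact hd (Subsingleton.elim 0 d ▸ zero_mem _)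
  let φ : DualNumber k →ₐ[k] A :=
    DualNumber.lift ⟨(Algebra.ofId k A, d), hdd, fun a => Commute.all _ _⟩
  have hφε : φ DualNumber.eps = d := DualNumber.lift_apply_eps _
  have hsurj : Function.Surjective φ := by
    rw [← AlgHom.range_eq_top]
    rcases hS φ.range with h | h
    · exact absurd (h ▸ (⟨DualNumber.eps, hφε⟩ : d ∈ φ.range)) hd
    · exact h
  have hinj : Function.Injective φ := by
    rw [injective_iff_map_eq_zero]
    intro x hx
    have hx'' : algebraMap k A x.fst + algebraMap k A x.snd * d = φ x := rfl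
    have hx' : algebraMap k A x.fst + algebraMap k A x.snd * d = 0 := by
      rw [hx'', hx]
    have hsnd : x.snd = 0 := by
      by_contra h
      apply hd
      have h1 : algebraMap k A (x.snd)⁻¹ * (algebraMap k A x.fst + algebraMap k A x.snd * d) = 0 := by
        rw [hx', mul_zero]
      rw [mul_add, ← mul_assoc, ← map_mul, ← map_mul, inv_mul_cancel₀ h, map_one, one_mul] at h1
      have h2 : d = algebraMap k A (-((x.snd)⁻¹ * x.fst)) := by
        rw [map_neg]; exact eq_neg_of_add_eq_zero_right h1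
      rw [h2]
      exact Subalgebra.algebraMap_mem _ _
    have hfst : x.fst = 0 := by
      rw [hsnd, map_zero, zero_mul, add_zero] at hx'
      exact (map_eq_zero_iff _ (algebraMap k A).injective).1 hx'
    exact TrivSqZeroExt.ext hfst hsnd
  exact ⟨(AlgEquiv.ofBijective φ ⟨hinj, hsurj⟩).symm⟩

theorem prod_case (hS : ∀ S : Subalgebra k A, S = ⊥ ∨ S = ⊤) (e : A)
    (he : e ∉ (⊥ : Subalgebra k A)) (hee : e * e = e) : Nonempty (A ≃ₐ[k] (k × k)) := by
  let ψl : k × k →ₗ[k] A :=
    (LinearMap.fst k k k).smulRight e + (LinearMap.snd k k k).smulRight (1 - e)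
  have hψl : ∀ x : k × k, ψl x = algebraMap k A x.1 * e + algebraMap k A x.2 * (1 - e) := by
    intro x
    simp [ψl, Algebra.smul_def]
  let ψ : k × k →ₐ[k] A := AlgHom.ofLinearMap ψl (by rw [hψl]; simp) (by
    intro x y
    rw [hψl, hψl, hψl]
    simp only [Prod.fst_mul, Prod.snd_mul, map_mul]
    linear_combination (-(algebraMap k A x.1 - algebraMap k A x.2) *
      (algebraMap k A y.1 - algebraMap k A y.2)) * hee)
  have hψ : ∀ x : k × k, ψ x = algebraMap k A x.1 * e + algebraMap k A x.2 * (1 - e) := hψl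
  have hsurj : Function.Surjective ψ := by
    rw [← AlgHom.range_eq_top]
    rcases hS ψ.range with h | h
    · refine absurd (h ▸ (⟨(1, 0), ?_⟩ : e ∈ ψ.range)) he
      show ψ (1, 0) = e
      rw [hψ]; simp
    · exact h
  have hinj : Function.Injective ψ := by
    rw [injective_iff_map_eq_zero]
    intro x hx
    rw [hψ] at hx
    have h1 : algebraMap k A x.1 * e = 0 := by
      have := congrArg (· * e) hx
      simp only [zero_mul] at this
      linear_combination this + (algebraMap k A x.2 - algebraMap k A x.1) * hee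
    have hx1 : x.1 = 0 := by
      by_contra h
      apply he
      have h2 : algebraMap k A (x.1)⁻¹ * (algebraMap k A x.1 * e) = 0 := by rw [h1, mul_zero]
      rw [← mul_assoc, ← map_mul, inv_mul_cancel₀ h, map_one, one_mul] at h2
      rw [h2]; exact zero_mem _
    rw [hx1, map_zero, zero_mul, zero_add] at hx
    have hx2 : x.2 = 0 := by
      by_contra h
      apply he
      have h2 : algebraMap k A (x.2)⁻¹ * (algebraMap k A x.2 * (1 - e)) = 0 := by rw [hx, mul_zero]
      rw [← mul_assoc, ← map_mul, inv_mul_cancel₀ h, map_one, one_mul, sub_eq_zero] at h2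
      rw [← h2]; exact one_mem _
    exact Prod.ext hx1 hx2
  exact ⟨(AlgEquiv.ofBijective ψ ⟨hinj, hsurj⟩).symm⟩

end



/-- Over an algebraically closed field k, a commutative k-algebra with exactly two k-subalgebras is
isomorphic to k × k or to the dual numbers over k. -/
theorem result (k : Type u) [Field k] [IsAlgClosed k] (A : Type u) [CommRing A] [Algebra k A]
    (h : Nat.card (Subalgebra k A) = 2) :
    Nonempty (A ≃ₐ[k] (k × k)) ∨ Nonempty (A ≃ₐ[k] DualNumber k) := by
  obtain ⟨hne, hS⟩ := bot_or_top h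
  obtain ⟨d, μ, hd, hdd⟩ := exists_special hne hS
  by_cases hμ : μ = 0
  · right
    rw [hμ, zero_smul] at hdd
    exact dual_case hS d hd hdd
  · left
    refine prod_case hS (μ⁻¹ • d) ?_ ?_
    · intro he
      apply hd
      have : d = μ • (μ⁻¹ • d) := by rw [smul_smul, mul_inv_cancel₀ hμ, one_smul]
      rw [this]
      exact Subalgebra.smul_mem _ he μ
    · rw [smul_mul_smul_comm, hdd, smul_smul, mul_assoc, inv_mul_cancel₀ hμ, mul_one]

end Groth.Agent.S0218
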