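import Groth.Statements.S0223
import Groth.Agent.Lib.Helper38.FlatBCField
import Groth.Agent.Lib.Helper17.HHLinFunct
import Groth.Agent.Lib.Helper49.FreeMod
import Groth.Agent.Lib.Helper11.CounitEpi

set_option autoImplicit false
universe u
open CategoryTheory CategoryTheory.Limits AlgebraicGeometry
open Curves

namespace Groth.Agent.S0223

/-- For a proper one-dimensional scheme X over a field k with only constant global functions, base
change to a field extension k' keeps the global functions equal to the constants and keeps the genus
dim H^1(X, O_X). The base change is given as any pullback square. -/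
theorem result (k : Type u) [Field k] (X : Scheme.{u}) [X.Over (Spec (CommRingCat.of k))]
    [IsProper (X ↘ Spec (CommRingCat.of k))] (hdim : topologicalKrullDim X = 1)
    (h0 : Module.finrank k (Coh.HH X (Coh.structureModule X) 0) = 1)
    (k' : Type u) [Field k'] [Algebra k k'] (X' : Scheme.{u}) [X'.Over (Spec (CommRingCat.of k'))]
    (g : X' ⟶ X)
    (hpb : IsPullback g (X' ↘ Spec (CommRingCat.of k')) (X ↘ Spec (CommRingCat.of k))
      (Spec.map (CommRingCat.ofHom (algebraMap k k')))) :
    Module.finrank k' (Coh.HH X' (Coh.structureModule X') 0) = 1 ∧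
      Module.finrank k' (Coh.HH X' (Coh.structureModule X') 1) =
        Module.finrank k (Coh.HH X (Coh.structureModule X) 1) := by
  have : (Coh.structureModule X).IsQuasicoherent :=
    Groth.Agent.Lib.Helper45.isQuasicoherent_structureModule X
  have e := Groth.Agent.Lib.Helper11.CounitEpi.pullbackUnitIso g
  have hiso : ∀ i : ℕ, Module.finrank k' (Coh.HH X' (Coh.structureModule X') i) =
      Module.finrank k' (Coh.HH X' ((Scheme.Modules.pullback g).obj (Coh.structureModule X)) i) := by
    intro i
    refine (LinearEquiv.finrank_eq (LinearEquiv.ofLinear (Canon.HHlin k' e.hom i)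
      (Canon.HHlin k' e.inv i) ?_ ?_)).symm
    · rw [← Groth.Agent.Lib.Helper17.HHLinLES.HHlin_comp, e.inv_hom_id,
        Groth.Agent.Lib.Helper17.HHLinLES.HHlin_id]
    · rw [← Groth.Agent.Lib.Helper17.HHLinLES.HHlin_comp, e.hom_inv_id,
        Groth.Agent.Lib.Helper17.HHLinLES.HHlin_id]
  have hbc : ∀ i : ℕ,
      Module.finrank k' (Coh.HH X' ((Scheme.Modules.pullback g).obj (Coh.structureModule X)) i) =
        Module.finrank k (Coh.HH X (Coh.structureModule X) i) := fun i =>
    Groth.Agent.Lib.Helper38.FlatBCField.finrank_HH_eq g (X ↘ Spec (CommRingCat.of k))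
      (X' ↘ Spec (CommRingCat.of k')) hpb (Coh.structureModule X) i
  exact ⟨(hiso 0).trans ((hbc 0).trans h0), (hiso 1).trans (hbc 1)⟩

end Groth.Agent.S0223
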