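import Groth.Statements.S0226
import Groth.Agent.Lib.Helper98.RLRDimTwo

set_option autoImplicit false
universe u
open Curves

namespace Groth.Agent.S0226

/-- In a regular local ring of dimension two, an ideal inside the maximal ideal with reduced quotient is
zero, the maximal ideal, or principal. -/
theorem result (A : Type u) [CommRing A] [IsRegularLocalRing A] (hdim : ringKrullDim A = 2)
    (I : Ideal A) (hI : I ≤ IsLocalRing.maximalIdeal A) [IsReduced (A ⧸ I)] :
    I = ⊥ ∨ I = IsLocalRing.maximalIdeal A ∨ ∃ f ∈ IsLocalRing.maximalIdeal A, f ≠ 0 ∧ I = Ideal.span {f} := by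
  exact Groth.Agent.Lib.Helper98.radical_cases_of_dim_two hdim I hI
    ((Ideal.isRadical_iff_quotient_reduced I).2 inferInstance)

end Groth.Agent.S0226
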