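import Groth.Statements.S0235
import Groth.Agent.Lib.Helper45.InvBasis
import Groth.Agent.S2544

set_option autoImplicit false
universe u
open CategoryTheory CategoryTheory.Limits AlgebraicGeometry
open Curves

namespace Groth.Agent.S0235

/-- For a finite morphism π : X → Y and an invertible module L on X, every point y of Y has an open
neighbourhood V such that L is trivial on the preimage of V. -/
theorem result {X Y : Scheme.{u}} (π : X ⟶ Y) [IsFinite π]
    (L : X.Modules) (hL : PicF.IsInvertible L) (y : Y) :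
    ∃ V : Y.Opens, y ∈ V ∧ Nonempty (L.restrict (π ⁻¹ᵁ V).ι ≅ Coh.structureModule (↑(π ⁻¹ᵁ V))) := by
  classical
  have := Groth.Agent.Lib.Helper45.isQuasicoherent_of_isInvertible hL
  obtain ⟨_, ⟨V₀, hV₀ : IsAffineOpen V₀, rfl⟩, hyV₀, -⟩ :=
    Y.isBasis_affineOpens.exists_subset_of_mem_open (Set.mem_univ y) isOpen_univ
  have hU₀ : IsAffineOpen (π ⁻¹ᵁ V₀) := hV₀.preimage π
  have hfin : (π ⁻¹' {y}).Finite := Scheme.Hom.finite_preimage_singleton π y
  let T : Finset X := hfin.toFinset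
  have hmemT : ∀ x, x ∈ T ↔ π x = y := by
    intro x
    simp [T]
  have hT : ∀ x ∈ T, x ∈ π ⁻¹ᵁ V₀ := by
    intro x hx
    have h1 : π x = y := (hmemT x).mp hx
    change π x ∈ V₀
    rw [h1]
    exact hyV₀
  have hsp : ∀ x ∈ T, ∀ z ∈ T, z ⤳ x → z = x := by
    intro x hx z hz hzx
    have h1 : π x = y := (hmemT x).mp hx
    have h2 : π z = y := (hmemT z).mp hz
    exact (Groth.Agent.S2544.eq_of_specializes_of_map_eq π hzx (h1.trans h2.symm)).symm
  obtain ⟨W, hW, p, hTW, hb⟩ := Groth.Agent.Lib.Helper45.exists_isBasisOn_of_finset hU₀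
    (fun x _ => Groth.Agent.Lib.Helper45.exists_isBasisOn_of_isInvertible hL x) T hT hsp
  have hclosed : IsClosed (π '' ((W : Set X)ᶜ)) := π.isClosedMap _ W.isOpen.isClosed_compl
  have hy : y ∉ π '' ((W : Set X)ᶜ) := by
    rintro ⟨x, hxW, hxy⟩
    exact hxW (hTW x ((hmemT x).mpr hxy))
  let O : Y.Opens := ⟨(π '' ((W : Set X)ᶜ))ᶜ, hclosed.isOpen_compl⟩
  obtain ⟨f, hfO, hyf⟩ := hV₀.exists_basicOpen_le (V := O) ⟨y, hy⟩ hyV₀
  refine ⟨Y.basicOpen f, hyf, ?_⟩
  have haff : IsAffineOpen (π ⁻¹ᵁ Y.basicOpen f) := (hV₀.basicOpen f).preimage π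
  have hle : π ⁻¹ᵁ Y.basicOpen f ≤ W := by
    intro x hx
    by_contra hxW
    exact hfO hx ⟨x, hxW, rfl⟩
  exact (hb.mono hle).nonempty_iso haff

end Groth.Agent.S0235
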