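import Groth.Statements.S0283
import Groth.Agent.Lib.Helper69.UnivHomeo
import Groth.Agent.S0237

set_option autoImplicit false
universe u
open Pi1

namespace Groth.Agent.S0283

open AlgebraicGeometry CategoryTheory CategoryTheory.Limits Groth.Agent.Lib.Helper69 in
/-- Let f : X → Y be a morphism of schemes which is integral, universally injective and surjective (that
is, a universal homeomorphism). Then base change along f, from finite étale covers of Y to finite
étale covers of X, is a full and faithful functor. -/
theorem result {X Y : Scheme.{u}} (f : X ⟶ Y) [IsIntegralHom f] [UniversallyInjective f] [Surjective f] :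
    (FEt.restrict f).Full ∧ (FEt.restrict f).Faithful := by
  refine ⟨?_, Groth.Agent.S0237.result f f.surjective.denseRange⟩
  constructor
  intro A B ψ
  have hBfin : IsFinite B.hom := B.prop.1
  have hBet : Etale B.hom := B.prop.2
  have hqi : UniversallyInjective (pullback.fst A.hom f) :=
    MorphismProperty.of_isPullback (P := @UniversallyInjective) (IsPullback.of_hasPullback A.hom f).flip ‹_›
  obtain ⟨ψl, hψl⟩ : ∃ ψl : pullback A.hom f ⟶ pullback B.hom f, ψl = ψ.left := ⟨ψ.left, rfl⟩
  have hψw : ψl ≫ pullback.snd B.hom f = pullback.snd A.hom f := by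
    rw [hψl]; exact MorphismProperty.Over.w ψ
  obtain ⟨φ, hφ1, hφ2⟩ := exists_desc_of_universalHomeo (pullback.fst A.hom f) B.hom A.hom
    (ψl ≫ pullback.fst B.hom f) (by
      rw [Category.assoc, pullback.condition, ← Category.assoc, hψw, pullback.condition])
  refine ⟨MorphismProperty.Over.homMk φ hφ1, ?_⟩
  ext
  have hgoal : ((FEt.restrict f).map (MorphismProperty.Over.homMk φ hφ1 : A ⟶ B)).left = ψl := by
    apply pullback.hom_ext
    · refine (pullback.lift_fst _ _ _).trans ?_
      exact hφ2
    · refine (pullback.lift_snd _ _ _).trans ?_
      exact hψw.symm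
  exact hgoal.trans hψl

end Groth.Agent.S0283
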