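import Groth.Statements.S0238
import Groth.Agent.Lib.Helper2.FEtThickening
import Groth.Agent.S0283

set_option autoImplicit false
universe u
open Pi1

namespace Groth.Agent.S0238

open AlgebraicGeometry CategoryTheory CategoryTheory.Limits in
/-- For a thickening, i.e. a closed immersion which is surjective on points, pulling back finite etale
covers is an equivalence of categories. -/
theorem result {X X' : Scheme.{u}} (i : X ⟶ X') [IsClosedImmersion i] [Surjective i] :
    (FEt.restrict i).IsEquivalence := by
  have : IsIntegralHom i := inferInstance
  have : UniversallyInjective i := inferInstance
  obtain ⟨hfull, hfaith⟩ := Groth.Agent.S0283.result i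
  have := hfull
  have := hfaith
  have := Groth.Agent.Lib.Helper2.FEtGlue.essSurj_restrict_of_thickening i
  exact { }

end Groth.Agent.S0238
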