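import Groth.Statements.S0243
import Groth.Agent.Lib.Helper2.FEtRigid

set_option autoImplicit false
universe u
open Pi1

namespace Groth.Agent.S0243
open Groth.Agent.Lib.Helper2

open AlgebraicGeometry CategoryTheory CategoryTheory.Limits in
/-- If a closed subscheme meets every connected component of the ambient scheme, restricting finite
etale covers to it is a faithful functor. -/
theorem result {X Y : Scheme.{u}} (i : Y ⟶ X) [IsClosedImmersion i]
    (h : ∀ x : X, (connectedComponent x ∩ Set.range i.base).Nonempty) :
    (FEt.restrict i).Faithful := by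
  refine ⟨fun {Z₁ Z₂} a b hab => ?_⟩
  have h1 : IsFinite Z₁.hom := Z₁.prop.1
  have h2 : Etale Z₁.hom := Z₁.prop.2
  have h3 : IsFinite Z₂.hom := Z₂.prop.1
  have h4 : Etale Z₂.hom := Z₂.prop.2
  have hab' : pullback.fst Z₁.hom i ≫ a.left = pullback.fst Z₁.hom i ≫ b.left := by
    have := congrArg (fun m => m.left ≫ pullback.fst Z₂.hom i) hab
    simp only [FEt.restrict, MorphismProperty.Over.pullback_map_left] at this
    exact (pullback.lift_fst _ _ _).symm.trans (this.trans (pullback.lift_fst _ _ _))
  have key := over_hom_eq_of_eq_on_pullback i h (Z₁ := Z₁.toComma) (Z₂ := Z₂.toComma)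
    (Z₁.hom.isClosedMap) (Z₁.hom.isOpenMap) a.hom b.hom hab'
  ext1
  exact congrArg CommaMorphism.left key

end Groth.Agent.S0243
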