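import Groth.Statements.S0285
import Groth.Agent.Lib.Helper2.FibFunctor2
import Groth.Agent.Lib.Helper2.FEtColim

set_option autoImplicit false
universe u
open Pi1

namespace Groth.Agent.S0285

open AlgebraicGeometry CategoryTheory CategoryTheory.Limits in
/-- For any morphism of schemes, the base change functor on finite etale covers preserves finite limits
and finite colimits. -/
theorem result {X Y : Scheme.{u}} (f : X ⟶ Y) :
    PreservesFiniteLimits (FEt.restrict f) ∧ PreservesFiniteColimits (FEt.restrict f) := by
  exact ⟨inferInstance, Groth.Agent.Lib.Helper2.FibFunctor.restrict_preservesFiniteColimits f⟩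

end Groth.Agent.S0285
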