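import Groth.Statements.S0286
import Groth.Agent.Lib.Helper2.FrobFEt2
import Groth.Agent.S0283

set_option autoImplicit false
set_option linter.style.haveILetI false
universe u
open Pi1

namespace Groth.Agent.S0286

open AlgebraicGeometry CategoryTheory CategoryTheory.Limits in
/-- For a scheme X over a field k of characteristic p (p a prime), pulling back finite étale covers
along the projection X ×_{Spec k} Spec(k^perf) → X, where k^perf is the perfect closure of k, is an
equivalence of categories. -/
theorem result (k : Type u) [Field k] (p : ℕ) [Fact p.Prime] [CharP k p] {X : Scheme.{u}}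
    (f : X ⟶ Spec (CommRingCat.of k)) :
    (FEt.restrict (pullback.fst f
      (Spec.map (CommRingCat.ofHom (PerfectClosure.of k p))))).IsEquivalence := by
  letI : Algebra k (PerfectClosure k p) := (PerfectClosure.of k p).toAlgebra
  haveI : ExpChar k p := ExpChar.prime Fact.out
  haveI : IsPurelyInseparable k (PerfectClosure k p) := by
    rw [isPurelyInseparable_iff_pow_mem k p]
    intro x
    obtain ⟨⟨n, y⟩, rfl⟩ := PerfectClosure.mk_surjective k p x
    refine ⟨n, y, ?_⟩
    change PerfectClosure.of k p y = _
    rw [← PerfectClosure.iterate_frobenius_mk k p n y, iterate_frobenius]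
  have hL := Groth.Agent.Lib.Helper2.FrobFEt.liftsFEt_of_isPurelyInseparable p
    (K := PerfectClosure k p) f
  have hL' : Groth.Agent.Lib.Helper2.FEtGlue.LiftsFEt (pullback.fst f
      (Spec.map (CommRingCat.ofHom (PerfectClosure.of k p)))) := by
    refine Groth.Agent.Lib.Helper2.FEtGlue.liftsFEt_of_iso _ _
      (pullbackSymmetry _ _) (Iso.refl _) ?_ hL
    rw [Iso.refl_hom, Category.comp_id, pullbackSymmetry_hom_comp_snd]
  haveI : Algebra.IsAlgebraic k (PerfectClosure k p) := inferInstance
  have h1 : IsIntegralHom (pullback.fst f (Spec.map (CommRingCat.ofHom (PerfectClosure.of k p)))) :=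
    MorphismProperty.pullback_fst _ _
      (Groth.Agent.Lib.Helper2.FieldLimit.isIntegralHom_specMap_of_isAlgebraic
        (k := k) (K := PerfectClosure k p))
  have h2 : UniversallyInjective
      (pullback.fst f (Spec.map (CommRingCat.ofHom (PerfectClosure.of k p)))) :=
    MorphismProperty.pullback_fst _ _
      (Groth.Agent.Lib.Helper2.FieldLimit.universallyInjective_specMap_of_isPurelyInseparable
        (k := k) (K := PerfectClosure k p))
  have h3 : Surjective (pullback.fst f (Spec.map (CommRingCat.ofHom (PerfectClosure.of k p)))) :=
    MorphismProperty.pullback_fst _ _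
      (Groth.Agent.Lib.Helper2.FieldLimit.surjective_Spec_map_field _ _ _)
  obtain ⟨hfull, hfaith⟩ := Groth.Agent.S0283.result
    (pullback.fst f (Spec.map (CommRingCat.ofHom (PerfectClosure.of k p))))
  have := hfull
  have := hfaith
  have := Groth.Agent.Lib.Helper2.FEtGlue.essSurj_of_liftsFEt _ hL'
  exact { }

end Groth.Agent.S0286
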