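import Groth.Statements.S0310
import Groth.Agent.Lib.Helper2.InjHullLocal
import Mathlib.LinearAlgebra.Dimension.Free
import Mathlib.LinearAlgebra.FiniteDimensional.Defs

set_option autoImplicit false
universe u v
open Matlis

namespace Groth.Agent.S0310
open Groth.Agent.Lib.Helper2

/-- Over a local ring, a module killed elementwise by powers of the maximal ideal and whose socle has
finite dimension n over the residue field embeds into the n-fold sum of an injective hull of the
residue field. -/
theorem result (R : Type u) [CommRing R] [IsLocalRing R] (E : Type u) [AddCommGroup E] [Module R E] (f : IsLocalRing.ResidueField R →ₗ[R] E) (hf : InjHull.IsInjectiveHull f) (M : Type u) [AddCommGroup M] [Module R M] (hM : LocCoh.IsPowerTorsion (IsLocalRing.maximalIdeal R) M) (n : ℕ) [Module.Finite (R ⧸ IsLocalRing.maximalIdeal R) ↥(LocCoh.torsionBy (IsLocalRing.maximalIdeal R) M)] (hn : Module.finrank (R ⧸ IsLocalRing.maximalIdeal R) ↥(LocCoh.torsionBy (IsLocalRing.maximalIdeal R) M) = n) : ∃ g : M →ₗ[R] (Fin n → E), Function.Injective g := by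
  let : Field (R ⧸ IsLocalRing.maximalIdeal R) := Ideal.Quotient.field _
  let Soc := LocCoh.torsionBy (IsLocalRing.maximalIdeal R) M
  let b : Module.Basis (Fin n) (R ⧸ IsLocalRing.maximalIdeal R) Soc :=
    Module.finBasisOfFinrankEq _ _ hn
  let φ₀ : Soc →ₗ[R] (Fin n → E) :=
    LinearMap.pi fun i => f ∘ₗ ((b.coord i).restrictScalars R)
  have hφ₀ : Function.Injective φ₀ := by
    rw [injective_iff_map_eq_zero]
    intro x hx
    apply b.repr.injective
    ext i
    have : f (b.repr x i) = 0 := congrFun hx i
    rw [map_eq_zero_iff _ hf.injective] at this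
    rw [map_zero]
    exact this
  have := hf.isInjective
  obtain ⟨g, hg⟩ := Module.Injective.extension_property R (Fin n → E) Soc M Soc.subtype
    Soc.injective_subtype φ₀
  refine ⟨g, ?_⟩
  rw [injective_iff_map_eq_zero]
  intro x hx
  by_contra hx0
  obtain ⟨r, hr0, hr⟩ := exists_smul_mem_torsionBy_of_isPowerTorsion _ hM x hx0
  have h1 : g (r • x) = φ₀ ⟨r • x, hr⟩ := LinearMap.congr_fun hg ⟨r • x, hr⟩
  rw [map_smul, hx, smul_zero] at h1
  have := hφ₀ (h1.symm.trans (map_zero φ₀).symm)
  exact hr0 (congrArg Subtype.val this)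

end Groth.Agent.S0310
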