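import Groth.Statements.S0319
import Groth.Agent.Lib.Helper29.DepthRees

set_option autoImplicit false
universe u v
open CategoryTheory
open LocCoh

namespace Groth.Agent.S0319

/-- Part (1): =(2): for a finite module M over a Noetherian ring and an ideal I with IM ≠ M, the I-depth
of M is the least i with Ext^i(R/I, M) nonzero. (Close to Mathlib's Rees criterion; kept at low
weight to pin our depth to Mathlib's Ext.) -/
theorem result (R : Type u) [CommRing R] [IsNoetherianRing R] (I : Ideal R) (M : Type u) [AddCommGroup M] [Module R M] [Module.Finite R M] (hIM : I • (⊤ : Submodule R M) ≠ ⊤) (n : ℕ) : LocCoh.idealDepth I M = n ↔ ((∀ i : ℕ, i < n → Subsingleton (Abelian.Ext (ModuleCat.of R (R ⧸ I)) (ModuleCat.of R M) i)) ∧ Nontrivial (Abelian.Ext (ModuleCat.of R (R ⧸ I)) (ModuleCat.of R M) n)) := by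
  have key := Groth.Agent.Lib.Helper29.le_idealDepth_iff_ext I M hIM
  constructor
  · intro h
    refine ⟨(key n).mp h.ge, ?_⟩
    by_contra hcon
    rw [not_nontrivial_iff_subsingleton] at hcon
    have h1 : ((n + 1 : ℕ) : ℕ∞) ≤ LocCoh.idealDepth I M := by
      rw [key]
      intro i hi
      rcases Nat.lt_succ_iff_lt_or_eq.mp hi with hi | rfl
      · exact (key n).mp h.ge i hi
      · exact hcon
    rw [h] at h1
    have : n + 1 ≤ n := by exact_mod_cast h1
    omega
  · rintro ⟨h1, h2⟩
    apply le_antisymm
    · by_contra hcon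
      rw [not_le] at hcon
      have h3 : ((n + 1 : ℕ) : ℕ∞) ≤ LocCoh.idealDepth I M := by
        have := Order.add_one_le_of_lt hcon
        exact_mod_cast this
      have := (key (n + 1)).mp h3 n (Nat.lt_succ_self n)
      exact not_subsingleton _ this
    · exact (key n).mpr h1

end Groth.Agent.S0319
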