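import Groth.Statements.S0323
import Groth.Agent.Lib.Helper60.LocalCohTorsion
open Groth.Agent.Lib.Helper60

set_option autoImplicit false
universe u v
open LocCoh

namespace Groth.Agent.S0323

/-- Noetherian case, torsion part: let R be a Noetherian ring, I an ideal and N an R-module every
element of which is killed by a power of I. Then the local cohomology of N with support in I is N in
degree 0 (there is an R-linear isomorphism H⁰_I(N) ≅ N) and vanishes in positive degrees. (The
comparison between a module M and M modulo its I-power torsion is not stated; Noetherian rings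
only.) -/
theorem result (R : Type u) [CommRing R] [IsNoetherianRing R] (I : Ideal R) (N : Type u) [AddCommGroup N] [Module R N] (hN : LocCoh.IsPowerTorsion I N) : Nonempty (LocCoh.H I 0 N ≃ₗ[R] N) ∧ ∀ p : ℕ, 0 < p → Subsingleton (LocCoh.H I p N) := by
  have htop : DRing.torsionSub I N = ⊤ := by
    rw [eq_top_iff]
    intro x _
    exact hN x
  have e1 : LocCoh.H I 0 N ≃ₗ[R] DRing.torsionSub I N := lcH0Equiv I (ModuleCat.of R N)
  have e2 : DRing.torsionSub I N ≃ₗ[R] (⊤ : Submodule R N) := LinearEquiv.ofEq _ _ htop
  have e3 : (⊤ : Submodule R N) ≃ₗ[R] N := Submodule.topEquiv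
  exact ⟨⟨e1.trans (e2.trans e3)⟩, fun p hp =>
    lc_subsingleton_of_torsion I p hp (ModuleCat.of R N) hN⟩

end Groth.Agent.S0323
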