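import Groth.Statements.S0331
import Groth.Agent.Lib.Helper60.LocalCohAdditive
open Groth.Agent.Lib.Helper60

set_option autoImplicit false
universe u v
open LocCoh

namespace Groth.Agent.S0331

/-- Over a Noetherian ring, if H^i_I(R) is finitely generated for i ≤ n, then so is H^i_I(M) for i ≤ n
for every finite module M that becomes finite projective after inverting any single element of I. -/
theorem result (R : Type u) [CommRing R] [IsNoetherianRing R] (I : Ideal R) (n : ℕ) (hR : ∀ i : ℕ, i ≤ n → Module.Finite R (LocCoh.H I i R)) (M : Type u) [AddCommGroup M] [Module R M] [Module.Finite R M] (hM : ∀ f ∈ I, Module.Projective (Localization.Away f) (LocalizedModule (Submonoid.powers f) M)) (i : ℕ) (hi : i ≤ n) : Module.Finite R (LocCoh.H I i M) := by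
  -- `k` with `I^k` killing `H^j(R)`, `j ≤ n`
  have h1 : ∀ j : ℕ, j ≤ n → ∃ k : ℕ, ∀ a ∈ I ^ k, ∀ x : LocCoh.H I j R, a • x = 0 := by
    intro j hj
    have := hR j hj
    exact exists_pow_smul_eq_zero_of_finite I _ (lc_isPowerTorsion I j (ModuleCat.of R R))
  choose! k hk using h1
  have hK : ∀ j ≤ n, ∀ a ∈ I ^ ((Finset.range (n + 1)).sup k), ∀ x : LocCoh.H I j R,
      a • x = 0 := fun j hj a ha x =>
    hk j hj a (Ideal.pow_le_pow_right
      (Finset.le_sup (f := k) (Finset.mem_range.mpr (by omega))) ha) x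
  -- the ideal of elements killing all `H^j(M)`, `j ≤ n`
  have hA : ∀ a ∈ (⨅ j : Fin (n + 1), Module.annihilator R (LocCoh.H I j M) : Ideal R),
      ∀ j ≤ n, ∀ x : LocCoh.H I j M, a • x = 0 := by
    intro a ha j hj x
    have := (Submodule.mem_iInf _).mp ha ⟨j, by omega⟩
    exact Module.mem_annihilator.mp this x
  have hIA : I ≤ (⨅ j : Fin (n + 1), Module.annihilator R (LocCoh.H I j M) : Ideal R).radical := by
    intro f hf
    have := hM f hf
    obtain ⟨t, α, β, N, hβα⟩ := exists_factor_through_free_of_projective_away M f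
    refine ⟨(Finset.range (n + 1)).sup k + N, ?_⟩
    rw [Submodule.mem_iInf]
    intro j
    rw [Module.mem_annihilator]
    intro y
    rw [pow_add]
    exact lc_smul_eq_zero_of_factor I j t α β (f ^ N) hβα (f ^ ((Finset.range (n + 1)).sup k))
      (hK j (by omega) _ (Ideal.pow_mem_pow hf _)) y
  obtain ⟨m, hm⟩ := Ideal.exists_pow_le_of_le_radical_of_fg hIA (IsNoetherian.noetherian I)
  exact lc_finite_of_pow_smul_eq_zero I n M m (fun j hj a ha x => hA a (hm ha) j hj x) i hi

end Groth.Agent.S0331
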