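import Groth.Statements.S0333
import Groth.Agent.Lib.Helper60.LocalCohTop2
open Groth.Agent.Lib.Helper60

set_option autoImplicit false
universe u v
open LocCoh

namespace Groth.Agent.S0333

/-- Over a Noetherian ring of dimension d, if H^d_I(M) = 0 for one finite module M whose support
contains every minimal prime p with dim R/p = d, then H^i_I vanishes in degrees ≥ d on all modules. -/
theorem result (R : Type u) [CommRing R] [IsNoetherianRing R] (I : Ideal R) (d : ℕ) (hd : ringKrullDim R = d) (M : Type u) [AddCommGroup M] [Module R M] [Module.Finite R M] (hsupp : ∀ p ∈ minimalPrimes R, ringKrullDim (R ⧸ p) = d → ∀ hp : p.IsPrime, (⟨p, hp⟩ : PrimeSpectrum R) ∈ Module.support R M) (hvan : Subsingleton (LocCoh.H I d M)) (N : Type u) [AddCommGroup N] [Module R N] (i : ℕ) (hi : d ≤ i) : Subsingleton (LocCoh.H I i N) := by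
  rcases Nat.eq_or_lt_of_le hi with rfl | hlt
  · exact lc_top_subsingleton_of_support I hd M hsupp hvan N
  · apply lc_subsingleton_of_supportDim_lt I i N
    refine lt_of_le_of_lt ((Module.supportDim_le_ringKrullDim R _).trans hd.le) ?_
    exact_mod_cast hlt

end Groth.Agent.S0333
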