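import Groth.Statements.S0337
-- import your own Groth.Agent.* helpers here
import Mathlib
import Groth.Agent.Lib.Helper62.FrobeniusFree

set_option autoImplicit false
universe u v
open CategoryTheory
open LocCoh

namespace Groth.Agent.S0337

open ChangeOfRings

set_option backward.isDefEq.respectTransparency false in
theorem aux (p : ℕ) [Fact p.Prime] (R : Type u) [CommRing R] [IsLocalRing R] [IsNoetherianRing R] [CharP R p] (M : Type u) [AddCommGroup M] [Module R M] [Module.Finite R M] (e : (ModuleCat.extendScalars (frobenius R p)).obj (ModuleCat.of R M) ≅ ModuleCat.of R M) : Module.Free R M := by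
  let F := frobenius R p
  let X := ModuleCat.of R M
  let N := (ModuleCat.extendScalars F).obj X
  let η := ModuleCat.ExtendRestrictScalarsAdj.Unit.map F (X := X)
  let τ : M →+ N := η.hom.toAddMonoidHom
  have hτ1 : ∀ m : M, τ m = (1 : R) ⊗ₜ[R,F] m := fun m => rfl
  have hτ : ∀ (r : R) (m : M), τ (r • m) = r ^ p • τ m := by
    intro r m
    have h1 := η.hom.map_smul r m
    rw [ModuleCat.restrictScalars.smul_def] at h1
    exact h1
  have hspan : Submodule.span R (Set.range τ) = ⊤ := by
    let S : Submodule R N := Submodule.span R (Set.range τ)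
    let q : N ⟶ ModuleCat.of R (N ⧸ S) := ModuleCat.ofHom (X := N) (Y := N ⧸ S) S.mkQ
    have hq : q = 0 := by
      apply ModuleCat.ExtendScalars.hom_ext
      intro m
      show S.mkQ (τ m) = 0
      rw [Submodule.mkQ_apply, Submodule.Quotient.mk_eq_zero]
      exact Submodule.subset_span ⟨m, rfl⟩
    have h1 : S.mkQ = 0 := by
      have := congrArg ModuleCat.Hom.hom hq
      exact this
    have h2 : LinearMap.ker S.mkQ = ⊤ := by
      rw [h1]
      exact LinearMap.ker_zero
    rwa [Submodule.ker_mkQ] at h2
  have huniv : ∀ (P : Type u) [AddCommGroup P] [Module R P] (g : M →+ P),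
      (∀ (r : R) (m : M), g (r • m) = r ^ p • g m) → ∃ G : N →ₗ[R] P, ∀ m, G (τ m) = g m := by
    intro P _ _ g hg
    let Y := ModuleCat.of R P
    let g' : X ⟶ (ModuleCat.restrictScalars F).obj Y :=
      ModuleCat.ofHom (Y := (ModuleCat.restrictScalars F).obj Y)
        { toFun := fun m => g m
          map_add' := fun m m' => g.map_add m m'
          map_smul' := fun r m => by
            show g (r • m) = r • (show (ModuleCat.restrictScalars F).obj Y from g m)
            rw [ModuleCat.restrictScalars.smul_def]
            exact hg r m }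
    let Gc : N ⟶ Y := (ModuleCat.ExtendRestrictScalarsAdj.homEquiv F).symm g'
    refine ⟨Gc.hom, fun m => ?_⟩
    have h1 : ModuleCat.ExtendRestrictScalarsAdj.homEquiv F Gc = g' :=
      (ModuleCat.ExtendRestrictScalarsAdj.homEquiv F).apply_symm_apply g'
    have h2 := congrArg (fun k => k.hom m) h1
    exact h2
  exact Groth.Agent.Lib.Helper62.FrobeniusFree.free_of_semilinear_data p M N τ hτ hspan huniv
    e.toLinearEquiv


/-- Over a Noetherian local ring of prime characteristic p, a finite module isomorphic to its own base
change along Frobenius is free. -/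
theorem result (p : ℕ) [Fact p.Prime] (R : Type u) [CommRing R] [IsLocalRing R] [IsNoetherianRing R] [CharP R p] (M : Type u) [AddCommGroup M] [Module R M] [Module.Finite R M] (h : Nonempty ((ModuleCat.extendScalars (frobenius R p)).obj (ModuleCat.of R M) ≅ ModuleCat.of R M)) : Module.Free R M := by
  obtain ⟨e⟩ := h
  exact aux p R M e

end Groth.Agent.S0337
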