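import Groth.Statements.S0347
import Groth.Agent.Lib.Helper2.GrpSch

set_option autoImplicit false
universe u v
open CategoryTheory MonoidalCategory CartesianMonoidalCategory MonObj GrpObj AlgebraicGeometry
open GrpSch

namespace Groth.Agent.S0347

/-- The multiplication map of a group scheme over a field is an open map of topological spaces. -/
theorem result (K : Type u) [Field K] (G : Over (Spec (CommRingCat.of K))) [GrpObj G] : IsOpenMap (μ[G].left : (G ⊗ G).left ⟶ G.left) := by
  have h1 : μ[G].left = (Groth.Agent.Lib.Helper2.shearIso G).hom.left ≫ (snd G G).left := by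
    rw [← Over.comp_left, Groth.Agent.Lib.Helper2.shearIso_hom_snd]
  rw [h1]
  have h2 : (snd G G).left = Limits.pullback.snd G.hom G.hom := rfl
  have : UniversallyOpen G.hom := inferInstance
  have h3 : UniversallyOpen (Limits.pullback.snd G.hom G.hom) := inferInstance
  have h4 : IsIso (Groth.Agent.Lib.Helper2.shearIso G).hom.left := inferInstance
  have h5 : IsOpenMap ((Groth.Agent.Lib.Helper2.shearIso G).hom.left ≫ (snd G G).left) := by
    rw [h2]
    exact (Scheme.Hom.isOpenMap _)
  exact h5

end Groth.Agent.S0347
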