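import Groth.Statements.S0352
import Groth.Agent.Lib.Helper2.GrpSchPoints

set_option autoImplicit false
universe u v
open CategoryTheory MonoidalCategory CartesianMonoidalCategory MonObj GrpObj AlgebraicGeometry
open GrpSch

namespace Groth.Agent.S0352
open Groth.Agent.Lib.Helper2

/-- If the image of a homomorphism of group schemes over a field is open, it is also closed. -/
theorem result (K : Type u) [Field K] (H G : Over (Spec (CommRingCat.of K))) [GrpObj H] [GrpObj G] (ψ : H ⟶ G) [IsMonHom ψ] (h : IsOpen (Set.range ψ.left)) : IsClosed (Set.range ψ.left) := by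
  rw [← isOpen_compl_iff, isOpen_iff_forall_mem_open]
  intro v hv
  let Z : Over (Spec (CommRingCat.of K)) := Over.mk (G.left.fromSpecResidueField v ≫ G.hom)
  let j : Z ⟶ G := Over.homMk (G.left.fromSpecResidueField v) rfl
  have hj : ∀ z : Z.left, j.left z = v := fun z => Scheme.fromSpecResidueField_apply _ _
  have : UniversallyOpen Z.hom := inferInstance
  let b : Z ⊗ G ⟶ G := lift (fst Z G ≫ j) (snd Z G) ≫ μ[G]
  refine ⟨b.left '' ((snd Z G).left ⁻¹' (Set.range ψ.left)), ?_, ?_, ?_⟩
  · rintro _ ⟨w, hw, rfl⟩ hw'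
    have := translate_not_mem_range ψ j w hw hw'
    rw [hj] at this
    exact hv this
  · exact isOpenMap_translate j _ (h.preimage (snd Z G).left.continuous)
  · obtain ⟨z₀⟩ : Nonempty Z.left := (inferInstance : Nonempty (Spec (G.left.residueField v)))
    refine ⟨(lift (𝟙 Z) (toUnit Z ≫ η[G])).left z₀, ?_, ?_⟩
    · refine ⟨(toUnit Z ≫ η[H]).left z₀, ?_⟩
      rw [← Scheme.Hom.comp_apply, ← Over.comp_left, ← Scheme.Hom.comp_apply, ← Over.comp_left]
      simp [IsMonHom.one_hom]
    · rw [← Scheme.Hom.comp_apply, ← Over.comp_left]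
      have : lift (𝟙 Z) (toUnit Z ≫ η[G]) ≫ b = j := by
        simp [b, comp_lift_assoc]
      rw [this, hj]

end Groth.Agent.S0352
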