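import Groth.Statements.S0354
-- import your own Groth.Agent.* helpers here
import Groth.Agent.Lib.Helper55.GroupLocalDim
import Groth.Agent.S4442

set_option autoImplicit false
universe u v
open CategoryTheory MonoidalCategory CartesianMonoidalCategory MonObj GrpObj AlgebraicGeometry
open GrpSch

namespace Groth.Agent.S0354

open Groth.Agent.Lib.Helper55

/-- At a closed point of a scheme locally of finite type over a field, the dimension of the local
ring is the local dimension. -/
theorem ringKrullDim_stalk_eq_localDim {k : Type u} [Field k] {X : Scheme.{u}}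
    (f : X ⟶ Spec (CommRingCat.of k)) [LocallyOfFiniteType f] (x : X)
    (hx : IsClosed ({x} : Set X)) :
    ringKrullDim (X.presheaf.stalk x) = FlatMor.localDim ↥X x := by
  obtain ⟨U, hU, hxU, -⟩ := exists_isAffineOpen_mem_and_subset (x := x) (U := ⊤) trivial
  let φA : CommRingCat.of k ⟶ Γ(X, U) := Spec.preimage (hU.fromSpec ≫ f)
  let _ : Algebra k Γ(X, U) := φA.hom.toAlgebra
  have ha : hU.fromSpec ≫ f = Spec.map (CommRingCat.ofHom (algebraMap k Γ(X, U))) :=
    (Spec.map_preimage _).symm
  have hftA : Algebra.FiniteType k Γ(X, U) := by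
    have h1 : LocallyOfFiniteType (hU.fromSpec ≫ f) := inferInstance
    rw [ha, HasRingHomProperty.Spec_iff (P := @LocallyOfFiniteType)] at h1
    exact h1
  have h1 := localDim_eq_of_isOpenEmbedding hU.fromSpec hU.fromSpec.isOpenEmbedding
    (hU.primeIdealOf ⟨x, hxU⟩)
  rw [hU.fromSpec_primeIdealOf ⟨x, hxU⟩] at h1
  rw [← h1]
  have h3 := localDim_primeSpectrum_eq k Γ(X, U) (hU.primeIdealOf ⟨x, hxU⟩)
  refine Eq.trans ?_ h3.symm
  rw [Groth.Agent.S4442.ringKrullDim_stalk_eq_height X hU x hxU]
  have hmax : (hU.primeIdealOf ⟨x, hxU⟩).asIdeal.IsMaximal := by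
    rw [← PrimeSpectrum.isClosed_singleton_iff_isMaximal]
    have h2 : ({hU.primeIdealOf ⟨x, hxU⟩} : Set (PrimeSpectrum Γ(X, U))) =
        hU.fromSpec ⁻¹' {x} := by
      ext 𝔮
      simp only [Set.mem_singleton_iff]
      constructor
      · rintro rfl
        exact hU.fromSpec_primeIdealOf ⟨x, hxU⟩
      · intro h
        apply hU.fromSpec.isOpenEmbedding.injective
        rw [hU.fromSpec_primeIdealOf ⟨x, hxU⟩]
        exact h
    rw [h2]
    exact hx.preimage hU.fromSpec.continuous
  have hfield : IsField (Γ(X, U) ⧸ (hU.primeIdealOf ⟨x, hxU⟩).asIdeal) :=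
    (Ideal.Quotient.maximal_ideal_iff_isField_quotient _).mp hmax
  rw [ringKrullDim_eq_zero_of_isField hfield, zero_add]

/-- In a group scheme locally of finite type over a field, the local ring at every closed point has
Krull dimension equal to the dimension of the whole scheme. -/
theorem result (K : Type u) [Field K] (G : Over (Spec (CommRingCat.of K))) [GrpObj G] [LocallyOfFiniteType G.hom] (g : G.left) (hg : IsClosed ({g} : Set G.left)) : ringKrullDim (G.left.presheaf.stalk g) = topologicalKrullDim G.left := by
  rw [ringKrullDim_stalk_eq_localDim G.hom g hg]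
  exact localDim_eq_topologicalKrullDim_of_grpObj G g

end Groth.Agent.S0354
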