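import Groth.Statements.S0356
import Groth.Agent.S6032
import Groth.Agent.S6031
import Groth.Agent.S0463
import Groth.Agent.Lib.Helper93.KoszulLC

set_option autoImplicit false
universe u v
open CategoryTheory AlgebraicGeometry
open LocCoh

namespace Groth.Agent.S0356

/-- Let R be a Noetherian ring, I an ideal, M an R-module and U = Spec R ∖ V(I) the punctured open. For
every p ≥ 1, the cohomology group H^p(U, M̃|_U) of the restriction to U of the quasi-coherent sheaf
associated with M is isomorphic to the local cohomology H^(p+1)_I(M). (The published statement also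
gives a four-term exact sequence in low degrees, which is not stated here; here R is Noetherian.) -/
theorem result (R : Type u) [CommRing R] [IsNoetherianRing R] (I : Ideal R) (M : Type u) [AddCommGroup M] [Module R M] (p : ℕ) (hp : 1 ≤ p) : Nonempty (Coh.HH (↑(LocCoh.puncturedOpen R I)) ((AlgebraicGeometry.tilde (R := CommRingCat.of R) (ModuleCat.of R M)).restrict (LocCoh.puncturedOpen R I).ι) p ≃+ LocCoh.H I (p + 1) M) := by
  obtain ⟨n, rfl⟩ : ∃ n, p = n + 1 := ⟨p - 1, by omega⟩
  obtain ⟨s, hs⟩ := (isNoetherianRing_iff_ideal_fg R).mp inferInstance I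
  let fs : List R := s.toList
  have hI : Ideal.span {a | a ∈ fs} = I := by
    rw [← hs]
    congr 1
    ext a
    simp [fs]
  subst hI
  let Mt := AlgebraicGeometry.tilde (R := CommRingCat.of R) (ModuleCat.of R M)
  have hq : Coh.IsQCoh Mt := inferInstanceAs Mt.IsQuasicoherent
  let U := LocCoh.puncturedOpen R (Ideal.span {a | a ∈ fs})
  obtain ⟨e1⟩ := Groth.Agent.S0463.result (X := (Spec (CommRingCat.of R)).toTopCat)
    (Coh.toAb Mt) U (n + 1)
  have h2 := (Groth.Agent.S6031.result (Spec (CommRingCat.of R)) Mt hq U).2 (n + 1) (by omega)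
  let e2 := AddEquiv.ofBijective _ h2
  obtain ⟨e3⟩ := Groth.Agent.S6032.result R fs M (n + 1 + 1)
  obtain ⟨e4⟩ := Groth.Agent.Lib.Helper93.KoszulLC.nonempty_koszulHLim_linearEquiv_lc fs
    (n + 1 + 1) M
  exact ⟨e1.symm.trans (e2.trans (e3.symm.trans e4.toAddEquiv))⟩

end Groth.Agent.S0356
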