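import Groth.Statements.S0358
import Groth.Agent.Lib.Helper73.FibreRegular
import Groth.Agent.Lib.Helper29.DepthGrade
import Groth.Agent.Lib.Helper29.DepthFiniteAlg

set_option maxSynthPendingDepth 3

set_option autoImplicit false
universe u v
open LocCoh

namespace Groth.Agent.S0358

/-- For a flat local homomorphism R → S of Noetherian local rings whose closed fibre S/m_R S is
Cohen–Macaulay, and a proper ideal I of S, the I-depth of S is at least dim(S/m_R S) − dim(S/(m_R S
+ I)); stated additively. -/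
theorem result (R : Type u) [CommRing R] [IsLocalRing R] [IsNoetherianRing R] (S : Type u) [CommRing S] [IsLocalRing S] [IsNoetherianRing S] [Algebra R S] [IsLocalHom (algebraMap R S)] [Module.Flat R S] (hCM : LocCoh.IsCohenMacaulayLocalRing (S ⧸ (IsLocalRing.maximalIdeal R).map (algebraMap R S))) (I : Ideal S) (hI : I ≠ ⊤) : ringKrullDim (S ⧸ (IsLocalRing.maximalIdeal R).map (algebraMap R S)) ≤ ringKrullDim (S ⧸ ((IsLocalRing.maximalIdeal R).map (algebraMap R S) ⊔ I)) + ((LocCoh.idealDepth I S : ℕ∞) : WithBot ℕ∞) := by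
  classical
  obtain ⟨J, hJ⟩ : ∃ J : Ideal S, J = (IsLocalRing.maximalIdeal R).map (algebraMap R S) := ⟨_, rfl⟩
  have hJle : J ≤ IsLocalRing.maximalIdeal S := by
    rw [hJ]
    exact IsLocalRing.map_maximalIdeal_le (algebraMap R S)
  have hIle : I ≤ IsLocalRing.maximalIdeal S := IsLocalRing.le_maximalIdeal hI
  have key : ∀ (hCM' : LocCoh.IsCohenMacaulayLocalRing (S ⧸ J)),
      ringKrullDim (S ⧸ J) ≤ ringKrullDim (S ⧸ (J ⊔ I)) +
        ((LocCoh.idealDepth I S : ℕ∞) : WithBot ℕ∞) := by
    intro hCM'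
    haveI : IsLocalRing (S ⧸ J) := hCM'.toIsLocalRing
    haveI : IsNoetherianRing (S ⧸ J) := inferInstance
    have hCMmod : LocCoh.IsCohenMacaulayModule (S ⧸ J) (S ⧸ J) := hCM'.supportDim_eq_depth
    -- the image ideal is proper
    have hIbar : I.map (Ideal.Quotient.mk J) ≠ ⊤ := by
      intro htop
      have h1 := congrArg (Ideal.comap (Ideal.Quotient.mk J)) htop
      rw [Ideal.comap_map_of_surjective _ Ideal.Quotient.mk_surjective, Ideal.comap_top,
        ← RingHom.ker_eq_comap_bot, Ideal.mk_ker] at h1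
      have h2 : I ⊔ J ≤ IsLocalRing.maximalIdeal S := sup_le hIle hJle
      rw [h1] at h2
      exact (IsLocalRing.maximalIdeal.isMaximal S).ne_top (top_le_iff.mp h2)
    have h1 := Groth.Agent.Lib.Helper29.supportDim_eq_add_idealDepth_of_isCohenMacaulayModule
      (S ⧸ J) (I.map (Ideal.Quotient.mk J)) hIbar (S ⧸ J) hCMmod
    rw [Module.supportDim_self_eq_ringKrullDim] at h1
    have h2 : Module.supportDim (S ⧸ J) ((S ⧸ J) ⧸ (I.map (Ideal.Quotient.mk J) •
        (⊤ : Submodule (S ⧸ J) (S ⧸ J)))) = ringKrullDim (S ⧸ (J ⊔ I)) := by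
      have e1 : (I.map (Ideal.Quotient.mk J) • (⊤ : Submodule (S ⧸ J) (S ⧸ J))) =
          I.map (Ideal.Quotient.mk J) := by
        rw [smul_eq_mul, Ideal.mul_top]
      rw [e1]
      refine (Module.supportDim_quotient_eq_ringKrullDim _).trans ?_
      exact ringKrullDim_eq_of_ringEquiv (DoubleQuot.quotQuotEquivQuotSup J I)
    rw [h2] at h1
    rw [h1]
    -- compare the depths
    have h3 : LocCoh.idealDepth (I.map (Ideal.Quotient.mk J)) (S ⧸ J) =
        LocCoh.idealDepth I (S ⧸ J) :=
      (Groth.Agent.Lib.Helper29.idealDepth_map_eq (A := S) (B := S ⧸ J) I (S ⧸ J)).symm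
    have h4 : LocCoh.idealDepth I (S ⧸ J) ≤ LocCoh.idealDepth I S := by
      refine ENat.forall_natCast_le_iff_le.mp fun n hn => ?_
      rcases (Groth.Agent.Lib.Helper29.le_idealDepth_iff I (S ⧸ J) n).mp hn with htop | ⟨rs, hlen, hmem, hreg⟩
      · exfalso
        have hnt : Nontrivial (S ⧸ J) := inferInstance
        exact (Submodule.top_ne_ideal_smul_of_le_jacobson_annihilator
          (hIle.trans (IsLocalRing.maximalIdeal_le_jacobson _))) htop.symm
      · have e2 : (J • (⊤ : Submodule S S)) = J := by rw [smul_eq_mul, Ideal.mul_top]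
        have hreg' : RingTheory.Sequence.IsWeaklyRegular
            (S ⧸ ((IsLocalRing.maximalIdeal R).map (algebraMap R S)) • (⊤ : Submodule S S)) rs := by
          rw [← hJ]
          exact ((Submodule.quotEquivOfEq _ _ e2).isWeaklyRegular_congr rs).mpr hreg
        have hS := Groth.Agent.Lib.Helper73.FibreRegular.isWeaklyRegular_of_fibre (R := R) rs S hreg'
        rw [← hlen]
        exact Groth.Agent.Lib.Helper29.length_le_idealDepth I S rs hS hmem
    rw [h3]
    gcongr
    exact WithBot.coe_le_coe.mpr h4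
  subst hJ
  exact key hCM

end Groth.Agent.S0358
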