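import Groth.Statements.S0359
import Groth.Agent.Lib.Helper29.SkEmbedded

set_option autoImplicit false
universe u v
open LocCoh

namespace Groth.Agent.S0359

/-- For a finite module M over a Noetherian ring and a prime p with depth(M_p) = e finite, there is a
basic open neighbourhood of p in V(p) on which the depth of the localizations of M is at least e,
and it exceeds e at all but finitely many of those primes. -/
theorem result (R : Type u) [CommRing R] [IsNoetherianRing R] (M : Type u) [AddCommGroup M] [Module R M] [Module.Finite R M] (p : Ideal R) [p.IsPrime] (e : ℕ) (he : LocCoh.depth (Localization.AtPrime p) (LocalizedModule p.primeCompl M) = e) : ∃ f : R, f ∉ p ∧ (∀ (q : Ideal R) [q.IsPrime], p ≤ q → f ∉ q → (e : ℕ∞) ≤ LocCoh.depth (Localization.AtPrime q) (LocalizedModule q.primeCompl M)) ∧ {q : PrimeSpectrum R | p ≤ q.asIdeal ∧ f ∉ q.asIdeal ∧ LocCoh.depth (Localization.AtPrime q.asIdeal) (LocalizedModule q.asIdeal.primeCompl M) = e}.Finite := by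
  classical
  obtain ⟨g, hg, rs, hlen, hmem, hreg⟩ :=
    Groth.Agent.Lib.Helper29.exists_isWeaklyRegular_localizedModule_away R p e M he
  specialize hreg g dvd_rfl
  set N := LocalizedModule (Submonoid.powers g) M ⧸
    (Ideal.ofList (rs.map (algebraMap R (Localization.Away g))) •
      (⊤ : Submodule (Localization.Away g) (LocalizedModule (Submonoid.powers g) M))) with hN
  -- the basic computation at a prime `q ⊇ p` with `g ∉ q`
  have main : ∀ (q : Ideal R) [q.IsPrime], p ≤ q → g ∉ q →
      ∃ (Q : Ideal (Localization.Away g)) (_ : Q.IsPrime),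
        Q.comap (algebraMap R (Localization.Away g)) = q ∧
        LocCoh.depth (Localization.AtPrime Q) (LocalizedModule Q.primeCompl N) + (e : ℕ∞) =
          LocCoh.depth (Localization.AtPrime q) (LocalizedModule q.primeCompl M) := by
    intro q hqprime hpq hgq
    have hdisj : Disjoint (Submonoid.powers g : Set R) (q : Set R) := by
      rw [Set.disjoint_left]
      rintro x ⟨n, rfl⟩ hx
      exact hgq (hqprime.mem_of_pow_mem n hx)
    have hQprime : (q.map (algebraMap R (Localization.Away g))).IsPrime :=
      IsLocalization.isPrime_of_isPrime_disjoint (Submonoid.powers g) _ _ hqprime hdisj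
    have hQcomap : (q.map (algebraMap R (Localization.Away g))).comap
        (algebraMap R (Localization.Away g)) = q :=
      IsLocalization.comap_map_of_isPrime_disjoint (Submonoid.powers g) _ hqprime hdisj
    refine ⟨q.map (algebraMap R (Localization.Away g)), hQprime, hQcomap, ?_⟩
    have key : ∀ (p' : Ideal R) [p'.IsPrime], p' = q →
        LocCoh.depth (Localization.AtPrime p') (LocalizedModule p'.primeCompl M) =
          LocCoh.depth (Localization.AtPrime q) (LocalizedModule q.primeCompl M) := by
      intro p' _ h
      subst h
      rfl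
    obtain ⟨t1, -⟩ := Groth.Agent.Lib.Helper29.depth_and_supportDim_localizedModule_localizedModule
      (Submonoid.powers g) M (q.map (algebraMap R (Localization.Away g)))
    rw [key _ hQcomap] at t1
    have hmemQ : ∀ x ∈ rs.map (algebraMap R (Localization.Away g)),
        x ∈ q.map (algebraMap R (Localization.Away g)) := by
      intro x hx
      obtain ⟨y, hy, rfl⟩ := List.mem_map.mp hx
      exact Ideal.mem_map_of_mem _ (hpq (hmem y hy))
    obtain ⟨l1, -⟩ := Groth.Agent.Lib.Helper29.depth_and_supportDim_localizedModule_quotient_ofList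
      (Localization.Away g) (q.map (algebraMap R (Localization.Away g)))
      (rs.map (algebraMap R (Localization.Away g))) (LocalizedModule (Submonoid.powers g) M)
      hmemQ hreg
    rw [List.length_map, hlen, t1] at l1
    exact l1
  refine ⟨g, hg, ?_, ?_⟩
  · intro q _ hpq hgq
    obtain ⟨Q, hQ, -, hd⟩ := main q hpq hgq
    rw [← hd]
    exact le_add_self
  · have hfin : (associatedPrimes (Localization.Away g) N).Finite := associatedPrimes.finite _ _
    refine Set.Finite.subset ((hfin.image (Ideal.comap (algebraMap R (Localization.Away g)))).preimage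
      (f := PrimeSpectrum.asIdeal) (fun a _ b _ hab => PrimeSpectrum.ext hab)) ?_
    rintro q ⟨hpq, hgq, hd⟩
    obtain ⟨Q, hQ, hQc, hdQ⟩ := main q.asIdeal hpq hgq
    rw [hd] at hdQ
    have hd0 : LocCoh.depth (Localization.AtPrime Q) (LocalizedModule Q.primeCompl N) = 0 := by
      have h3 : LocCoh.depth (Localization.AtPrime Q) (LocalizedModule Q.primeCompl N) + (e : ℕ∞) =
          0 + (e : ℕ∞) := by rw [hdQ, zero_add]
      rw [add_comm, add_comm (0 : ℕ∞)] at h3
      exact ENat.add_right_injective_of_ne_top (ENat.natCast_ne_top e) h3
    exact ⟨Q, Groth.Agent.Lib.Helper29.mem_associatedPrimes_of_depth_localizedModule_eq_zero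
      (Localization.Away g) N Q hd0, hQc⟩

end Groth.Agent.S0359
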