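import Groth.Statements.S0369
import Groth.Agent.Lib.Helper60.SkDual5
open Groth.Agent.Lib.Helper60

set_option autoImplicit false
universe u v
open CategoryTheory
attribute [local instance] HasDerivedCategory.standard
open Dual

namespace Groth.Agent.S0369

/-- For a Noetherian local ring of dimension d with normalized dualizing complex ω, the module ω_A =
H^{−d}(ω) has support equal to the union of those irreducible components of Spec A whose dimension
is d, and satisfies Serre's condition (S_2). -/
theorem result (A : Type u) [CommRing A] [IsLocalRing A] [IsNoetherianRing A] (ω : Dual.D A) (hω : Dual.IsDualizing A ω) (hn : Dual.IsNormalized A ω) (d : ℕ) (hd : ringKrullDim A = d) : Module.support A (Dual.HD A ω (-(d : ℤ))) = {p : PrimeSpectrum A | ∃ q ∈ minimalPrimes A, q ≤ p.asIdeal ∧ ringKrullDim (A ⧸ q) = d} ∧ LocCoh.HasSk 2 A (Dual.HD A ω (-(d : ℤ))) := by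
  classical
  have hfinK : Module.Finite A (Dual.HD A ω (-(d : ℤ))) := hω.finite_cohomology _
  have eqv : ∀ j : ℤ, Nonempty ((Dual.inD A A ⟶ ω⟦j⟧) ≃ₗ[A] Dual.HD A ω j) := fun j =>
    Groth.Agent.Lib.Helper6.HomSingle.nonempty_homSingleEquiv ω j
  obtain ⟨e⟩ := eqv (-(d : ℤ))
  have hsuppeq : Module.support A (Dual.inD A A ⟶ ω⟦-(d : ℤ)⟧) =
      Module.support A (Dual.HD A ω (-(d : ℤ))) := e.support_eq
  have hdimA : Module.supportDim A A = d := by
    rw [Module.supportDim_self_eq_ringKrullDim, hd]
  -- vanishing below `-d`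
  have ht : ∀ i : ℤ, i < -(d : ℤ) → Subsingleton (Dual.HD A ω i) := by
    intro i hi
    obtain ⟨e'⟩ := eqv i
    have hlt : Module.supportDim A A < ((d + 1 : ℕ) : WithBot ℕ∞) := by
      rw [hdimA]
      exact_mod_cast Nat.lt_succ_self d
    have := Groth.Agent.Lib.Helper6.NormDual.vanishing_below_dim ω hω hn (d + 1) A hlt i
      (by push_cast; omega)
    exact e'.symm.toEquiv.subsingleton
  -- `dim A/p ≤ d`
  have hle_d : ∀ (p : PrimeSpectrum A) (δp : ℕ), ringKrullDim (A ⧸ p.asIdeal) = δp → δp ≤ d := by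
    intro p δp h
    have h1 := ringKrullDim_quotient_le p.asIdeal
    rw [h, hd] at h1
    exact_mod_cast h1
  -- the depth estimate
  have hdepth : ∀ (p : PrimeSpectrum A) (δp : ℕ), ringKrullDim (A ⧸ p.asIdeal) = δp →
      (∀ i : ℤ, Nontrivial (LocalizedModule p.asIdeal.primeCompl
        (Dual.inD A (A ⧸ p.asIdeal) ⟶ ω⟦i⟧)) ↔ i = -(δp : ℤ)) →
      Nontrivial (LocalizedModule p.asIdeal.primeCompl (Dual.HD A ω (-(d : ℤ)))) →
      ∀ r : ℕ, r ≤ 2 → r + δp ≤ d →
      (r : ℕ∞) ≤ LocCoh.depth (Localization.AtPrime p.asIdeal)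
        (LocalizedModule p.asIdeal.primeCompl (Dual.HD A ω (-(d : ℤ)))) := by
    intro p δp _ hdfun hnt r hr hrd
    exact SkDual.depth_HD_localization_ge ω hω p.asIdeal δp hdfun (-(d : ℤ)) ht hnt r hr
      (by omega)
  constructor
  · ext p
    simp only [Set.mem_ofPred_eq]
    constructor
    · intro hp
      have hann : Module.annihilator A (Dual.HD A ω (-(d : ℤ))) ≤ p.asIdeal := by
        rw [Module.support_eq_zeroLocus, PrimeSpectrum.mem_zeroLocus,
          SetLike.coe_subset_coe] at hp
        exact hp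
      obtain ⟨q, hqmin, hqle⟩ := Ideal.exists_minimalPrimes_le hann
      have hqprime : q.IsPrime := hqmin.1.1
      have hqsupp : (⟨q, hqprime⟩ : PrimeSpectrum A) ∈
          Module.support A (Dual.HD A ω (-(d : ℤ))) := by
        rw [Module.support_eq_zeroLocus, PrimeSpectrum.mem_zeroLocus, SetLike.coe_subset_coe]
        exact hqmin.1.2
      have hntq : Nontrivial (LocalizedModule q.primeCompl (Dual.HD A ω (-(d : ℤ)))) :=
        Module.mem_support_iff.1 hqsupp
      have h0 := Groth.Agent.Lib.Helper6.CMChar.depth_localization_eq_zero_of_minimal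
        (Dual.HD A ω (-(d : ℤ))) q hqmin
      obtain ⟨δq, hδq, hqfun⟩ := Groth.Agent.Lib.Helper6.CMChar.exists_dimFun_local ω hω hn
        ⟨q, hqprime⟩
      have hδqd : δq = d := by
        by_contra hne
        have hlt : δq < d := lt_of_le_of_ne (hle_d ⟨q, hqprime⟩ δq hδq) hne
        have h1 := hdepth ⟨q, hqprime⟩ δq hδq hqfun hntq 1 (by omega) (by omega)
        have h0' : LocCoh.depth (Localization.AtPrime q)
            (LocalizedModule q.primeCompl (Dual.HD A ω (-(d : ℤ)))) = 0 := h0
        have h1' : ((1 : ℕ) : ℕ∞) ≤ LocCoh.depth (Localization.AtPrime q)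
            (LocalizedModule q.primeCompl (Dual.HD A ω (-(d : ℤ)))) := h1
        rw [h0'] at h1'
        simp at h1'
      subst hδqd
      refine ⟨q, ?_, hqle, hδq⟩
      have hmin : IsMin (⟨q, hqprime⟩ : PrimeSpectrum A) := by
        intro q' hq'
        by_contra hcon
        have hlt : q' < (⟨q, hqprime⟩ : PrimeSpectrum A) := lt_of_le_not_ge hq' hcon
        have h1 := Groth.Agent.Lib.Helper29.ringKrullDim_quotient_add_one_le_of_lt A hlt
        have h2 := ringKrullDim_quotient_le q'.asIdeal
        have h3 : ringKrullDim (A ⧸ q) + 1 ≤ ringKrullDim A := h1.trans h2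
        rw [hδq, hd] at h3
        have h4 : δq + 1 ≤ δq := by exact_mod_cast h3
        omega
      exact PrimeSpectrum.isMin_iff.1 hmin
    · rintro ⟨q, hqmin, hqle, hqdim⟩
      have hqprime : q.IsPrime := hqmin.1.1
      obtain ⟨δq, hδq, hqfun⟩ := Groth.Agent.Lib.Helper6.CMChar.exists_dimFun_local ω hω hn
        ⟨q, hqprime⟩
      have hδqd : δq = d := by
        have : ((δq : ℕ) : WithBot ℕ∞) = (d : WithBot ℕ∞) := hδq.symm.trans hqdim
        exact_mod_cast this
      subst hδqd
      have hqmin' : q ∈ (Module.annihilator A A).minimalPrimes := by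
        have hann : Module.annihilator A A = ⊥ := Module.annihilator_eq_bot.2 inferInstance
        rw [hann]
        exact hqmin
      have hntq : Nontrivial (LocalizedModule q.primeCompl A) := by
        have hqs : (⟨q, hqprime⟩ : PrimeSpectrum A) ∈ Module.support A A := by
          rw [Module.support_eq_zeroLocus, PrimeSpectrum.mem_zeroLocus, SetLike.coe_subset_coe]
          exact hqmin'.1.2
        exact Module.mem_support_iff.1 hqs
      have h0 := Groth.Agent.Lib.Helper6.CMChar.depth_localization_eq_zero_of_minimal A q hqmin'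
      have h1 := SkDual.loc_ext_nontrivial_depth ω hω q δq hqfun A 0 (by rw [h0]; rfl)
      have h2 : (⟨q, hqprime⟩ : PrimeSpectrum A) ∈
          Module.support A (Dual.inD A A ⟶ ω⟦-(δq : ℤ) - ((0 : ℕ) : ℤ)⟧) :=
        Module.mem_support_iff.2 h1
      have h3 : p ∈ Module.support A (Dual.inD A A ⟶ ω⟦-(δq : ℤ) - ((0 : ℕ) : ℤ)⟧) :=
        Module.mem_support_mono (show (⟨q, hqprime⟩ : PrimeSpectrum A) ≤ p from hqle) h2
      have h4 : -(δq : ℤ) - ((0 : ℕ) : ℤ) = -(δq : ℤ) := by simp
      rw [h4, hsuppeq] at h3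
      exact h3
  · intro p hp
    have hNB : IsNoetherianRing (Localization.AtPrime p) :=
      IsLocalization.isNoetherianRing p.primeCompl (Localization.AtPrime p) inferInstance
    by_cases hnt : Nontrivial (LocalizedModule p.primeCompl (Dual.HD A ω (-(d : ℤ))))
    · obtain ⟨δp, hδp, hpfun⟩ := Groth.Agent.Lib.Helper6.CMChar.exists_dimFun_local ω hω hn
        ⟨p, hp⟩
      obtain ⟨m, hm⟩ := Groth.Agent.Lib.Helper29.exists_nat_supportDim_eq
        (Localization.AtPrime p) (LocalizedModule p.primeCompl (Dual.HD A ω (-(d : ℤ))))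
      have hpsupp : (⟨p, hp⟩ : PrimeSpectrum A) ∈ Module.support A (Dual.HD A ω (-(d : ℤ))) :=
        Module.mem_support_iff.2 hnt
      -- `dim K_p + dim A/p ≤ d`
      have h1 := Groth.Agent.Lib.Helper29.supportDim_localizedModule_add_supportDim_quotient_le A
        (Dual.HD A ω (-(d : ℤ))) p
      have h1' := Groth.Agent.Lib.Helper29.supportDim_quotient_smul_top_eq_ringKrullDim_quotient
        (Dual.HD A ω (-(d : ℤ))) ⟨p, hp⟩ hpsupp
      have h1'' : Module.supportDim A ((Dual.HD A ω (-(d : ℤ))) ⧸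
          (p • (⊤ : Submodule A (Dual.HD A ω (-(d : ℤ)))))) = δp := h1'.trans hδp
      rw [h1'', hm] at h1
      have h2 : Module.supportDim A (Dual.HD A ω (-(d : ℤ))) ≤ (d : WithBot ℕ∞) := by
        rw [← hd]
        exact Module.supportDim_le_ringKrullDim A _
      have h3 : ((m : ℕ) : WithBot ℕ∞) + ((δp : ℕ) : WithBot ℕ∞) ≤ (d : WithBot ℕ∞) := h1.trans h2
      have h4 : m + δp ≤ d := by exact_mod_cast h3
      have h5 := hdepth ⟨p, hp⟩ δp hδp hpfun hnt (min 2 m) (min_le_left _ _)
        (by have := min_le_right 2 m; omega)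
      rw [hm]
      have h6 : ((min 2 m : ℕ) : WithBot ℕ∞) ≤
          ((LocCoh.depth (Localization.AtPrime p)
            (LocalizedModule p.primeCompl (Dual.HD A ω (-(d : ℤ)))) : ℕ∞) : WithBot ℕ∞) := by
        exact_mod_cast h5
      refine le_trans (le_of_eq ?_) h6
      rcases le_total 2 m with h | h
      · rw [min_eq_left h, min_eq_left (by exact_mod_cast h)]
      · rw [min_eq_right h, min_eq_right (by exact_mod_cast h)]
    · rw [not_nontrivial_iff_subsingleton] at hnt
      rw [Module.supportDim_eq_bot_of_subsingleton, min_bot_right]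
      exact bot_le

end Groth.Agent.S0369
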