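import Groth.Statements.S0370
import Groth.Agent.Lib.Helper6.CMChar
import Groth.Agent.Lib.Helper6.HomSingle

set_option autoImplicit false
universe u v
open CategoryTheory
attribute [local instance] HasDerivedCategory.standard
open Dual

namespace Groth.Agent.S0370

theorem subsingleton_hom_single (A : Type u) [CommRing A] (W : Type u) [AddCommGroup W] [Module A W]
    (j : ℤ) (hj : j ≠ 0) :
    Subsingleton (Dual.inD A A ⟶ (Dual.inD A W)⟦j⟧) := by
  obtain ⟨e⟩ := Lib.Helper6.HomSingle.nonempty_homSingleEquiv (Dual.inD A W) j
  have hz : Limits.IsZero ((DerivedCategory.homologyFunctor (ModuleCat.{u} A) j).obj (Dual.inD A W)) := by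
    rcases lt_or_gt_of_ne hj with h | h
    · exact DerivedCategory.isZero_of_isGE (Dual.inD A W) 0 j h
    · exact DerivedCategory.isZero_of_isLE (Dual.inD A W) 0 j h
  have : Subsingleton (Dual.HD A (Dual.inD A W) j) := ModuleCat.subsingleton_of_isZero hz
  exact e.toEquiv.subsingleton

/-- A Noetherian ring admitting a finite module which, placed in degree 0, is a dualizing complex, is
Cohen–Macaulay. -/
theorem result (A : Type u) [CommRing A] [IsNoetherianRing A] (W : Type u) [AddCommGroup W] [Module A W] [Module.Finite A W] (h : Dual.IsDualizing A (Dual.inD A W)) : LocCoh.IsCohenMacaulayRing A := by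
  refine { isCohenMacaulayLocalRing_localization := fun p _ => ?_ }
  have hNB : IsNoetherianRing (Localization.AtPrime p) :=
    IsLocalization.isNoetherianRing p.primeCompl (Localization.AtPrime p) inferInstance
  let e : LocalizedModule p.primeCompl A ≃ₗ[Localization.AtPrime p] Localization.AtPrime p :=
    (LocalizedModule.equivTensorProduct p.primeCompl A).trans
      (TensorProduct.AlgebraTensorModule.rid A (Localization.AtPrime p) (Localization.AtPrime p))
  haveI : Nontrivial (LocalizedModule p.primeCompl A) := e.toEquiv.nontrivial
  have hCM : LocCoh.IsCohenMacaulayModule (Localization.AtPrime p)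
      (LocalizedModule p.primeCompl A) := by
    rw [Lib.Helper6.CMChar.isCohenMacaulayModule_localization_iff (Dual.inD A W) h p A]
    refine ⟨0, fun j' hj' => ?_⟩
    have := subsingleton_hom_single A W j' hj'
    exact Lib.Helper6.CMChar.subsingleton_localizedModule_of_subsingleton _ _
  refine { supportDim_eq_depth := ?_ }
  unfold LocCoh.IsCohenMacaulayModule at hCM
  rw [← Module.supportDim_eq_of_equiv e]
  rw [hCM]

end Groth.Agent.S0370
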