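import Groth.Statements.S0371
import Groth.Agent.S1722
import Groth.Agent.Lib.Helper6.DimFun2

set_option autoImplicit false
universe u v
open CategoryTheory
attribute [local instance] HasDerivedCategory.standard
open Dual

namespace Groth.Agent.S0371

/-- A Noetherian ring with a dualizing complex has finite Krull dimension. (Universal catenarity is not
stated.) -/
theorem result (A : Type u) [CommRing A] [IsNoetherianRing A] (ω : Dual.D A) (hω : Dual.IsDualizing A ω) : ringKrullDim A < ⊤ := by
  classical
  obtain ⟨δ, hδ1, hδ2⟩ := Groth.Agent.S1722.result A ω hω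
  obtain ⟨a, b, hab⟩ := hω.finite_injective_dimension
  have hb : ∀ p : PrimeSpectrum A, -b ≤ δ p ∧ δ p ≤ -a := by
    intro p
    have hnt := (hδ1 p (-δ p)).2 rfl
    by_contra hcon
    have hs : Subsingleton (Dual.inD A (A ⧸ p.asIdeal) ⟶ ω⟦-δ p⟧) :=
      hab (A ⧸ p.asIdeal) (-δ p) (by omega)
    have hs' : Subsingleton (LocalizedModule p.asIdeal.primeCompl
        (Dual.inD A (A ⧸ p.asIdeal) ⟶ ω⟦-δ p⟧)) := by
      rw [LocalizedModule.subsingleton_iff]
      intro m
      exact ⟨1, Submonoid.one_mem _, by rw [Subsingleton.elim m 0, smul_zero]⟩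
    exact not_subsingleton _ hs'
  exact Lib.Helper6.DimFun.ringKrullDim_lt_top_of_dimFun δ hδ2 (-b) (-a) hb

end Groth.Agent.S0371
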