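import Groth.Statements.S1716
import Groth.Agent.Lib.Helper6.CMChar
import Groth.Agent.Lib.Helper6.RestrLin
import Groth.Agent.Lib.Helper29.FiniteRestrict

set_option autoImplicit false
universe u
open CategoryTheory
attribute [local instance] HasDerivedCategory.standard
open Dual

namespace Groth.Agent.S1716

theorem finite_F (A : Type u) [CommRing A] [IsNoetherianRing A] (ω : Dual.D A)
    (hω : Dual.IsDualizing A ω) (M : Type u) [AddCommGroup M] [Module A M] [Module.Finite A M]
    (j : ℤ) : Module.Finite A (Dual.inD A M ⟶ ω⟦j⟧) := by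
  obtain ⟨a, b, hge, hle, hab⟩ := Lib.Helper6.HomBC.isDualizing_bounds hω
  refine Lib.Helper6.RestrLin.finite_hom_inD_of_boundedBelow M ω a (fun i hi => ?_)
    hω.finite_cohomology j
  exact ModuleCat.subsingleton_of_isZero (DerivedCategory.isZero_of_isGE ω a i hi)

theorem isClosed_support_F (A : Type u) [CommRing A] [IsNoetherianRing A] (ω : Dual.D A)
    (hω : Dual.IsDualizing A ω) (M : Type u) [AddCommGroup M] [Module A M] [Module.Finite A M]
    (j : ℤ) : IsClosed (Module.support A (Dual.inD A M ⟶ ω⟦j⟧)) := by
  haveI := finite_F A ω hω M j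
  rw [Module.support_eq_zeroLocus]
  exact PrimeSpectrum.isClosed_zeroLocus _

theorem set_eq (A : Type u) [CommRing A] [IsNoetherianRing A] (ω : Dual.D A)
    (hω : Dual.IsDualizing A ω) (M : Type u) [AddCommGroup M] [Module A M] [Module.Finite A M] :
    {p : PrimeSpectrum A | Subsingleton (LocalizedModule p.asIdeal.primeCompl M) ∨
      LocCoh.IsCohenMacaulayModule (Localization.AtPrime p.asIdeal)
        (LocalizedModule p.asIdeal.primeCompl M)} =
    {p : PrimeSpectrum A | ∃ j : ℤ, ∀ j' : ℤ, j' ≠ j →
      p ∉ Module.support A (Dual.inD A M ⟶ ω⟦j'⟧)} := by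
  ext p
  simp only [Set.mem_setOf_eq, Module.mem_support_iff, not_nontrivial_iff_subsingleton]
  rcases subsingleton_or_nontrivial (LocalizedModule p.asIdeal.primeCompl M) with hs | hnt
  · constructor
    · intro _
      refine ⟨0, fun j' _ => ?_⟩
      obtain ⟨e⟩ := Lib.Helper6.LocDual.nonempty_locHomEquiv_localizedModule ω hω p.asIdeal M j'
      have := Lib.Helper6.NormDual.subsingleton_hom_of_subsingleton
        (A := Localization.AtPrime p.asIdeal) (LocalizedModule p.asIdeal.primeCompl M)
        ((Lib.Helper6.LocDual.Gat p.asIdeal ω)⟦j'⟧)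
      exact e.subsingleton
    · intro _
      exact Or.inl hs
  · rw [Lib.Helper6.CMChar.isCohenMacaulayModule_localization_iff ω hω p.asIdeal M]
    constructor
    · rintro (h | h)
      · exact absurd h (not_subsingleton _)
      · exact h
    · intro h
      exact Or.inr h

/-- Let A be a Noetherian ring with a dualizing complex and M a finite A-module. The set U of primes p
at which M_p is zero or a Cohen–Macaulay module is open in Spec A, and the primes of the support of
M at which M_p is Cohen–Macaulay are dense in the support of M. (The zero module is counted as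
Cohen–Macaulay here.) -/
theorem result (A : Type u) [CommRing A] [IsNoetherianRing A] (hA : ∃ ω : Dual.D A, Dual.IsDualizing A ω) (M : Type u) [AddCommGroup M] [Module A M] [Module.Finite A M] : IsOpen {p : PrimeSpectrum A | Subsingleton (LocalizedModule p.asIdeal.primeCompl M) ∨ LocCoh.IsCohenMacaulayModule (Localization.AtPrime p.asIdeal) (LocalizedModule p.asIdeal.primeCompl M)} ∧ Module.support A M ⊆ closure ({p : PrimeSpectrum A | LocCoh.IsCohenMacaulayModule (Localization.AtPrime p.asIdeal) (LocalizedModule p.asIdeal.primeCompl M)} ∩ Module.support A M) := by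
  classical
  obtain ⟨ω, hω⟩ := hA
  obtain ⟨a, b, hab⟩ := hω.finite_injective_dimension
  constructor
  · rw [set_eq A ω hω M]
    have hU : {p : PrimeSpectrum A | ∃ j : ℤ, ∀ j' : ℤ, j' ≠ j →
        p ∉ Module.support A (Dual.inD A M ⟶ ω⟦j'⟧)} =
        ⋃ j : ℤ, ⋂ j' ∈ (Finset.Icc a b).filter (fun j' => j' ≠ j),
          (Module.support A (Dual.inD A M ⟶ ω⟦j'⟧))ᶜ := by
      ext p
      simp only [Set.mem_setOf_eq, Set.mem_iUnion, Set.mem_iInter, Finset.mem_filter,
        Finset.mem_Icc, Set.mem_compl_iff]
      constructor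
      · rintro ⟨j, hj⟩
        exact ⟨j, fun j' hj' => hj j' hj'.2⟩
      · rintro ⟨j, hj⟩
        refine ⟨j, fun j' hj' => ?_⟩
        by_cases hr : a ≤ j' ∧ j' ≤ b
        · exact hj j' ⟨hr, hj'⟩
        · have hs : Subsingleton (Dual.inD A M ⟶ ω⟦j'⟧) := hab M j' (by omega)
          rw [Module.mem_support_iff, not_nontrivial_iff_subsingleton]
          exact Lib.Helper6.CMChar.subsingleton_localizedModule_of_subsingleton _ _
    rw [hU]
    refine isOpen_iUnion (fun j => isOpen_biInter_finset (fun j' _ => ?_))
    exact (isClosed_support_F A ω hω M j').isOpen_compl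
  · intro p hp
    have hsupp : ∀ x : PrimeSpectrum A, x ∈ Module.support A M ↔
        Module.annihilator A M ≤ x.asIdeal := by
      intro x
      rw [Module.support_eq_zeroLocus, PrimeSpectrum.mem_zeroLocus, SetLike.coe_subset_coe]
    obtain ⟨q, hqmin, hqle⟩ := Ideal.exists_minimalPrimes_le ((hsupp p).1 hp)
    have hqprime : q.IsPrime := hqmin.1.1
    let Q : PrimeSpectrum A := ⟨q, hqprime⟩
    have hQ : Q ∈ Module.support A M := (hsupp Q).2 hqmin.1.2
    have hmin : IsMin (⟨Q, hQ⟩ : Module.support A M) := by
      intro x hx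
      have h1 : x.1.asIdeal ≤ q := hx
      have h2 : q ≤ x.1.asIdeal := hqmin.2 ⟨x.1.isPrime, (hsupp x.1).1 x.2⟩ h1
      exact h2
    have hdim : Module.supportDim (Localization.AtPrime q) (LocalizedModule q.primeCompl M) = 0 := by
      rw [Lib.Helper29.supportDim_localizedModule_eq_height A M q hQ, Order.height_eq_zero.2 hmin]
      rfl
    have hdepth := Lib.Helper6.CMChar.depth_localization_eq_zero_of_minimal M q hqmin
    have hCM : LocCoh.IsCohenMacaulayModule (Localization.AtPrime Q.asIdeal)
        (LocalizedModule Q.asIdeal.primeCompl M) := by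
      unfold LocCoh.IsCohenMacaulayModule
      rw [hdim, hdepth]
      rfl
    have hQS : Q ∈ {p : PrimeSpectrum A | LocCoh.IsCohenMacaulayModule
        (Localization.AtPrime p.asIdeal) (LocalizedModule p.asIdeal.primeCompl M)} ∩
        Module.support A M := ⟨hCM, hQ⟩
    have hspec : Q ⤳ p := (PrimeSpectrum.le_iff_specializes Q p).1 hqle
    exact closure_mono (Set.singleton_subset_iff.2 hQS) (specializes_iff_mem_closure.1 hspec)

end Groth.Agent.S1716
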