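import Groth.Statements.S0372
import Groth.Agent.S1716

set_option autoImplicit false
universe u v
open CategoryTheory
attribute [local instance] HasDerivedCategory.standard
open Dual

namespace Groth.Agent.S0372

/-- If a Noetherian ring has a dualizing complex then the set of primes at which the localization is
Cohen–Macaulay is open and dense in the prime spectrum. -/
theorem result (A : Type u) [CommRing A] [IsNoetherianRing A] (ω : Dual.D A) (hω : Dual.IsDualizing A ω) : IsOpen {p : PrimeSpectrum A | LocCoh.IsCohenMacaulayLocalRing (Localization.AtPrime p.asIdeal)} ∧ Dense {p : PrimeSpectrum A | LocCoh.IsCohenMacaulayLocalRing (Localization.AtPrime p.asIdeal)} := by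
  have hiff : ∀ p : PrimeSpectrum A,
      LocCoh.IsCohenMacaulayLocalRing (Localization.AtPrime p.asIdeal) ↔
        LocCoh.IsCohenMacaulayModule (Localization.AtPrime p.asIdeal)
          (LocalizedModule p.asIdeal.primeCompl A) := by
    intro p
    have hNB : IsNoetherianRing (Localization.AtPrime p.asIdeal) :=
      IsLocalization.isNoetherianRing p.asIdeal.primeCompl (Localization.AtPrime p.asIdeal)
        inferInstance
    constructor
    · intro h
      exact h.supportDim_eq_depth
    · intro h
      exact { supportDim_eq_depth := h }
  have hnt : ∀ p : PrimeSpectrum A, ¬ Subsingleton (LocalizedModule p.asIdeal.primeCompl A) := by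
    intro p hs
    have h1 : Nontrivial (Localization.AtPrime p.asIdeal) := inferInstance
    have h2 : Subsingleton (Localization.AtPrime p.asIdeal) := hs
    exact not_subsingleton _ h2
  obtain ⟨h1, h2⟩ := Groth.Agent.S1716.result A ⟨ω, hω⟩ A
  have hset1 : {p : PrimeSpectrum A | LocCoh.IsCohenMacaulayLocalRing
      (Localization.AtPrime p.asIdeal)} =
      {p : PrimeSpectrum A | Subsingleton (LocalizedModule p.asIdeal.primeCompl A) ∨
        LocCoh.IsCohenMacaulayModule (Localization.AtPrime p.asIdeal)
          (LocalizedModule p.asIdeal.primeCompl A)} := by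
    ext p
    simp only [Set.mem_setOf_eq]
    rw [hiff p]
    constructor
    · intro h
      exact Or.inr h
    · rintro (h | h)
      · exact absurd h (hnt p)
      · exact h
  refine ⟨by rw [hset1]; exact h1, ?_⟩
  have hsupp : Module.support A A = Set.univ := by
    rw [Module.support_eq_zeroLocus]
    have : Module.annihilator A A = ⊥ := by
      rw [eq_bot_iff]
      intro x hx
      have := Module.mem_annihilator.1 hx 1
      simpa using this
    rw [this]
    simp
  rw [hsupp, Set.inter_univ] at h2
  have hset2 : {p : PrimeSpectrum A | LocCoh.IsCohenMacaulayLocalRing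
      (Localization.AtPrime p.asIdeal)} =
      {p : PrimeSpectrum A | LocCoh.IsCohenMacaulayModule (Localization.AtPrime p.asIdeal)
          (LocalizedModule p.asIdeal.primeCompl A)} := by
    ext p
    simp only [Set.mem_setOf_eq]
    exact hiff p
  rw [hset2]
  intro x
  exact h2 (Set.mem_univ x)

end Groth.Agent.S0372
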