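import Groth.Statements.S0375
import Groth.Agent.S0364
import Groth.Agent.Lib.Helper6.FinLenDual
import Groth.Agent.Lib.Helper6.HomSingle
import Groth.Agent.Lib.Helper6.Bidual6
import Groth.Agent.Lib.Helper35.TwoTerm
import Groth.Agent.Lib.Helper35.IALib
import Groth.Agent.Lib.Helper26.InjHullChar
import Groth.Agent.Lib.Helper2.InjHull

set_option autoImplicit false
universe u v
open CategoryTheory
attribute [local instance] HasDerivedCategory.standard
open Dual

namespace Groth.Agent.S0375

/-- Over a Noetherian local ring of dimension 0, a normalized dualizing complex is isomorphic in D(A) to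
an injective hull of the residue field placed in degree 0. -/
theorem result (A : Type u) [CommRing A] [IsLocalRing A] [IsNoetherianRing A] (h0 : ringKrullDim A = 0) (ω : Dual.D A) (hω : Dual.IsDualizing A ω) (hn : Dual.IsNormalized A ω) (E : Type u) [AddCommGroup E] [Module A E] (f : IsLocalRing.ResidueField A →ₗ[A] E) (hf : InjHull.IsInjectiveHull f) : Nonempty (ω ≅ Dual.inD A E) := by
  classical
  have hK0 : Ring.KrullDimLE 0 A := by
    rw [Ring.krullDimLE_iff, h0]
    rfl
  have hArt : IsArtinianRing A :=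
    isArtinianRing_iff_isNoetherianRing_krullDimLE_zero.2 ⟨inferInstance, hK0⟩
  have hFL : ∀ (N : Type u) [AddCommGroup N] [Module A N] [Module.Finite A N],
      IsFiniteLength A N := fun N _ _ _ =>
    isFiniteLength_iff_isNoetherian_isArtinian.2 ⟨inferInstance, inferInstance⟩
  have hvan : ∀ (i : ℤ), i ≠ 0 → ∀ (N : Type u) [AddCommGroup N] [Module A N]
      [Module.Finite A N], Subsingleton (Dual.inD A N ⟶ ω⟦i⟧) := fun i hi N _ _ _ =>
    Lib.Helper6.FinLenDual.subsingleton_hom_of_isFiniteLength (ω⟦i⟧) (fun m hm => by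
      rw [IsLocalRing.eq_maximalIdeal hm]
      exact hn i hi) N (hFL N)
  have hH : ∀ i : ℤ, i ≠ 0 → Subsingleton (Dual.HD A ω i) := fun i hi => by
    obtain ⟨e⟩ := Lib.Helper6.HomSingle.nonempty_homSingleEquiv ω i
    have := hvan i hi A
    exact e.symm.toEquiv.subsingleton
  obtain ⟨hGE, hLE⟩ := Lib.Helper35.KL.isGE_and_isLE_of_subsingleton ω 0 0
    (fun i hi => hH i (by omega))
  obtain ⟨φ⟩ := Lib.Helper6.Bidual.nonempty_iso_single ω 0 (Dual.HD A ω 0)
    (LinearEquiv.refl A (Dual.HD A ω 0))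
  -- injectivity
  have hWinj : Module.Injective A (Dual.HD A ω 0) := by
    have hI : Injective (ModuleCat.of A (Dual.HD A ω 0)) :=
      Lib.Helper35.KL.injective_of_hom_quotient_vanishing (ModuleCat.of A (Dual.HD A ω 0))
        (fun J g => by
          have := hvan 1 one_ne_zero (A ⧸ J)
          have h1 : g ≫ (shiftFunctor (Dual.D A) (1 : ℤ)).map φ.inv = 0 := Subsingleton.elim _ _
          have h2 : g = (g ≫ (shiftFunctor (Dual.D A) (1 : ℤ)).map φ.inv) ≫
              (shiftFunctor (Dual.D A) (1 : ℤ)).map φ.hom := by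
            rw [Category.assoc, ← Functor.map_comp, φ.inv_hom_id, CategoryTheory.Functor.map_id,
              Category.comp_id]
          rw [h2, h1, Limits.zero_comp])
    exact Module.injective_module_of_injective_object A (ModuleCat.of A (Dual.HD A ω 0))
  -- power torsion
  have hpt : LocCoh.IsPowerTorsion (IsLocalRing.maximalIdeal A) (Dual.HD A ω 0) := by
    obtain ⟨n, hn'⟩ := IsArtinianRing.isNilpotent_jacobson_bot (R := A)
    rw [IsLocalRing.jacobson_eq_maximalIdeal ⊥ bot_ne_top] at hn'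
    intro w
    refine ⟨n, fun a ha => ?_⟩
    rw [hn'] at ha
    have : a = 0 := ha
    rw [this, zero_smul]
  -- simplicity of the socle
  obtain ⟨n, hn1, ⟨l4⟩⟩ := Groth.Agent.S0364.result A ω hω (IsLocalRing.maximalIdeal A)
  have hn0 : n = 0 := by
    by_contra hne
    have := hn n hne
    have hnt : Nontrivial (Dual.inD A (IsLocalRing.ResidueField A) ⟶ ω⟦n⟧) :=
      l4.toEquiv.nontrivial
    exact not_subsingleton _ this
  subst hn0
  have hsimple : IsSimpleModule A (IsLocalRing.ResidueField A →ₗ[A] (Dual.HD A ω 0)) := by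
    let l1 : (IsLocalRing.ResidueField A →ₗ[A] (Dual.HD A ω 0)) ≃ₗ[A]
        (ModuleCat.of A (IsLocalRing.ResidueField A) ⟶ ModuleCat.of A (Dual.HD A ω 0)) :=
      (ModuleCat.homLinearEquiv (S := A) (M := ModuleCat.of A (IsLocalRing.ResidueField A))
        (N := ModuleCat.of A (Dual.HD A ω 0))).symm
    let l2 : (ModuleCat.of A (IsLocalRing.ResidueField A) ⟶ ModuleCat.of A (Dual.HD A ω 0)) ≃ₗ[A]
        (Dual.inD A (IsLocalRing.ResidueField A) ⟶ Dual.inD A (Dual.HD A ω 0)) :=
      LinearEquiv.ofBijective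
        ((DerivedCategory.singleFunctor (ModuleCat.{u} A) 0).mapLinearMap A)
        ⟨fun _ _ h => (DerivedCategory.singleFunctor (ModuleCat.{u} A) 0).map_injective h,
          fun g => (DerivedCategory.singleFunctor (ModuleCat.{u} A) 0).map_surjective g⟩
    let l3 : (Dual.inD A (IsLocalRing.ResidueField A) ⟶ Dual.inD A (Dual.HD A ω 0)) ≃ₗ[A]
        (Dual.inD A (IsLocalRing.ResidueField A) ⟶ ω⟦(0 : ℤ)⟧) :=
      Linear.homCongr A (Iso.refl _) (φ.symm ≪≫ ((shiftFunctorZero (Dual.D A) ℤ).app ω).symm)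
    haveI : IsSimpleModule A (A ⧸ IsLocalRing.maximalIdeal A) :=
      isSimpleModule_iff_isCoatom.2 (Ideal.isMaximal_def.1 inferInstance)
    exact IsSimpleModule.congr (l1.trans (l2.trans (l3.trans l4)))
  obtain ⟨f', hf'⟩ := (Lib.Helper26.InjHullChar.main A (Dual.HD A ω 0)).2 ⟨hWinj, hpt, hsimple⟩
  obtain ⟨e, -⟩ := Lib.Helper2.IsInjectiveHull.exists_equiv hf' hf
  exact ⟨φ ≪≫ (DerivedCategory.singleFunctor (ModuleCat.{u} A) 0).mapIso e.toModuleIso⟩

end Groth.Agent.S0375
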