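import Groth.Statements.S0376
import Groth.Agent.Lib.Helper6.ExistsDual
import Groth.Agent.S0580
import Groth.Agent.S0342
import Groth.Agent.S11179
import Groth.Agent.Lib.Helper73.RegularPowerSeries

set_option autoImplicit false
universe u v
open CategoryTheory
attribute [local instance] HasDerivedCategory.standard
open Dual

namespace Groth.Agent.S0376

/-- A complete Noetherian local ring has a dualizing complex. -/
theorem result (A : Type u) [CommRing A] [IsLocalRing A] [IsNoetherianRing A] [IsAdicComplete (IsLocalRing.maximalIdeal A) A] : ∃ ω : Dual.D A, Dual.IsDualizing A ω := by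
  obtain ⟨Λ, _, n, f, hΛ, hf⟩ := Groth.Agent.S0580.result A (IsNoetherian.noetherian _)
  have hreg : IsRegularRing Λ := by
    rcases hΛ with hΛ | hΛ
    · let _ := hΛ.toField
      infer_instance
    · obtain ⟨_, _, _⟩ := hΛ
      infer_instance
  have hlocΛ : IsLocalRing Λ := by
    rcases hΛ with hΛ | hΛ
    · let _ := hΛ.toField
      infer_instance
    · obtain ⟨_, _, _⟩ := hΛ
      infer_instance
  have hS : IsRegularRing (MvPowerSeries (Fin n) Λ) :=
    Groth.Agent.Lib.Helper73.RegularRing.isRegularRing_mvPowerSeries Λ n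
  have hRLR : IsRegularLocalRing (MvPowerSeries (Fin n) Λ) :=
    IsRegularLocalRing.of_isRegularRing_of_isLocalRing _
  have hG : LocCoh.IsGorensteinLocalRing (MvPowerSeries (Fin n) Λ) := Groth.Agent.S0342.result _
  have hN : IsNoetherianRing (MvPowerSeries (Fin n) Λ) := inferInstance
  have hD := (Groth.Agent.S11179.result (MvPowerSeries (Fin n) Λ)).1 hG
  exact Lib.Helper6.ExistsDual.hasDual_of_finite f (RingHom.Finite.of_surjective _ hf) ⟨_, hD⟩

end Groth.Agent.S0376
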