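import Groth.Statements.S0382
import Groth.Agent.Lib.Helper26.AbVarPow

set_option autoImplicit false
universe u v
open CategoryTheory MonoidalCategory CartesianMonoidalCategory MonObj GrpObj AlgebraicGeometry
open GrpSch

namespace Groth.Agent.S0382

/-- On an abelian variety of positive dimension over a field K (a proper, geometrically integral group
scheme over K), multiplication by an integer d is étale exactly when d is nonzero in K.
Multiplication by d is written as the d-th power of the identity morphism in the group Hom(A, A),
whose multiplication is pointwise, induced by the group structure of A. -/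
theorem result (K : Type u) [Field K] (A : Over (Spec (CommRingCat.of K))) [GrpObj A] [IsProper A.hom] [GeometricallyIntegral A.hom] (hA : 0 < topologicalKrullDim A.left) (d : ℤ) : Etale ((𝟙 A ^ d).left) ↔ ((d : K) ≠ 0) := by
  haveI : IsCommMonObj A := AlgebraicGeometry.isCommMonObj_of_isProper_of_geometricallyIntegral A
  haveI : LocallyOfFiniteType A.hom := inferInstance
  haveI : GeometricallyReduced A.hom := inferInstance
  haveI : Smooth A.hom := Groth.Agent.Lib.Helper26.AbSchPow.smooth_of_geometricallyReduced_field A
  constructor
  · intro het hd0
    haveI : Subsingleton ↥(Spec (CommRingCat.of K)) :=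
      inferInstanceAs (Subsingleton (PrimeSpectrum K))
    haveI : IsIntegral A.left := GeometricallyIntegral.isIntegral_of_subsingleton A.hom
    haveI : IsSeparated A.hom := inferInstance
    have hsub := Groth.Agent.Lib.Helper26.AbVarPow.subsingleton_of_etale_zpow_of_eq_zero A d hd0 het
    have hle : topologicalKrullDim A.left ≤ 0 := topologicalKrullDim_zero_of_discreteTopology _
    exact absurd hA (not_lt.mpr hle)
  · intro hd
    refine Groth.Agent.Lib.Helper26.PowEtale.etale_zpow A d (fun s => ?_)
    have hinj : Function.Injective ((Scheme.ΓSpecIso (CommRingCat.of K)).inv ≫
        (Spec (CommRingCat.of K)).evaluation ⊤ s trivial).hom := RingHom.injective _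
    intro h0
    apply hd
    apply hinj
    rw [map_intCast, map_zero]
    exact h0

end Groth.Agent.S0382
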