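import Groth.Statements.S0397
import Mathlib.RingTheory.LocalRing.Module
import Mathlib.RingTheory.Nilpotent.Lemmas

set_option autoImplicit false
universe u
open FlatMor

namespace Groth.Agent.S0397


open IsLocalRing TensorProduct Module in
theorem eq_top_of_sup_smul_eq_top_of_isNilpotent {R M : Type*} [CommRing R] [AddCommGroup M]
    [Module R M] (I : Ideal R) (hI : IsNilpotent I) (N : Submodule R M)
    (h : N ⊔ I • (⊤ : Submodule R M) = ⊤) : N = ⊤ := by
  obtain ⟨n, hn⟩ := hI
  have key : ∀ k : ℕ, N ⊔ (I ^ k) • (⊤ : Submodule R M) = ⊤ := by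
    intro k
    induction k with
    | zero => simp
    | succ k ih =>
      rw [eq_top_iff]
      calc (⊤ : Submodule R M) = N ⊔ (I ^ k) • (⊤ : Submodule R M) := ih.symm
        _ = N ⊔ (I ^ k) • (N ⊔ I • (⊤ : Submodule R M)) := by rw [h]
        _ = N ⊔ ((I ^ k) • N ⊔ (I ^ k) • (I • (⊤ : Submodule R M))) := by rw [Submodule.smul_sup]
        _ ≤ N ⊔ (I ^ (k + 1)) • (⊤ : Submodule R M) := by
          rw [← Submodule.mul_smul, ← pow_succ]
          refine sup_le le_sup_left (sup_le ?_ le_sup_right)
          exact le_trans Submodule.smul_le_right le_sup_left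
  have := key n
  rwa [hn, Ideal.zero_eq_bot, Submodule.bot_smul, sup_bot_eq] at this

/-- Over a local ring whose maximal ideal is nilpotent, every flat module (not necessarily finitely
generated) is free. -/
theorem result {R M : Type u} [CommRing R] [IsLocalRing R] (hR : IsNilpotent (IsLocalRing.maximalIdeal R))
    [AddCommGroup M] [Module R M] [Module.Flat R M] : Module.Free R M := by
  classical
  let k := IsLocalRing.ResidueField R
  let w := Module.Free.chooseBasis k (TensorProduct R k M)
  obtain ⟨v, eq⟩ := (TensorProduct.mk_surjective R M k Ideal.Quotient.mk_surjective).comp_left w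
  have hvw : (⇑(TensorProduct.mk R k M 1) ∘ v) = w := eq
  have hli : LinearIndependent R v :=
    Module.IsLocalRing.linearIndependent_of_flat _ (hvw ▸ w.linearIndependent)
  refine Module.Free.of_basis (Module.Basis.mk hli ?_)
  rw [top_le_iff]
  apply eq_top_of_sup_smul_eq_top_of_isNilpotent _ hR
  have hker : LinearMap.ker (TensorProduct.mk R k M 1) =
      IsLocalRing.maximalIdeal R • (⊤ : Submodule R M) := LinearMap.ker_tensorProductMk M
  rw [← hker, ← Submodule.comap_map_eq, eq_top_iff]
  rintro x -
  rw [Submodule.mem_comap, Submodule.map_span, ← Set.range_comp]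
  rw [hvw]
  have h2 : (TensorProduct.mk R k M 1) x ∈ Submodule.span k (Set.range w) := by
    rw [w.span_eq]; trivial
  rw [← Submodule.restrictScalars_mem R,
    Submodule.restrictScalars_span R k Ideal.Quotient.mk_surjective] at h2
  exact h2

end Groth.Agent.S0397
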