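import Groth.Statements.S0398
import Groth.Agent.H76.SquareFlat
import Mathlib.RingTheory.Artinian.Module
import Mathlib.RingTheory.SimpleModule.InjectiveProjective
import Mathlib.RingTheory.Jacobson.Semiprimary

set_option autoImplicit false
universe u
open FlatMor

namespace Groth.Agent.S0398

open TensorProduct in
/-- For an injective ring map R → S with R Artinian and an R-module M, if S ⊗ M is flat over S then M is
flat over R. -/
theorem result {R S M : Type u} [CommRing R] [CommRing S] [IsArtinianRing R] [Algebra R S] (hinj : Function.Injective (algebraMap R S))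
    [AddCommGroup M] [Module R M] [Module.Flat S (S ⊗[R] M)] : Module.Flat R M := by
  haveI : IsSemisimpleRing (R ⧸ Ring.jacobson R) := IsSemiprimaryRing.isSemisimpleRing
  haveI : Module.Projective (R ⧸ Ring.jacobson R) ((R ⧸ Ring.jacobson R) ⊗[R] M) :=
    Module.projective_of_isSemisimpleRing _ _
  haveI : Module.Flat (R ⧸ Ring.jacobson R) ((R ⧸ Ring.jacobson R) ⊗[R] M) := inferInstance
  exact Groth.Agent.H76.SquareFlat.flat_of_injective_of_nilpotent (R' := S) (Ring.jacobson R) M hinj
    IsSemiprimaryRing.isNilpotent

end Groth.Agent.S0398
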