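import Groth.Statements.S0400
import Groth.Agent.H76.NilFlat
import Mathlib.RingTheory.Ideal.Maps

set_option autoImplicit false
universe u
open FlatMor

namespace Groth.Agent.S0400

open TensorProduct

variable {R S M : Type u} [CommRing R] [CommRing S] [Algebra R S] (I : Ideal R)
  [AddCommGroup M] [Module S M] [Module R M] [IsScalarTower R S M]

/-- The comparison map `I ⊗[R] M → IS ⊗[S] M`. -/
noncomputable def psi : I ⊗[R] M →+ (I.map (algebraMap R S) : Ideal S) ⊗[S] M :=
  TensorProduct.liftAddHom
    { toFun := fun i =>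
        { toFun := fun m =>
            (⟨algebraMap R S i, Ideal.mem_map_of_mem _ i.2⟩ : (I.map (algebraMap R S) : Ideal S))
              ⊗ₜ[S] m
          map_zero' := TensorProduct.tmul_zero _ _
          map_add' := TensorProduct.tmul_add _ }
      map_zero' := by
        ext m
        have : (⟨algebraMap R S ((0 : I) : R), Ideal.mem_map_of_mem _ (0 : I).2⟩ :
            (I.map (algebraMap R S) : Ideal S)) = 0 := Subtype.ext (by simp)
        show (⟨algebraMap R S ((0 : I) : R), _⟩ : (I.map (algebraMap R S) : Ideal S)) ⊗ₜ[S] m = 0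
        rw [this, TensorProduct.zero_tmul]
      map_add' := by
        intro x y
        ext m
        have : (⟨algebraMap R S ((x + y : I) : R), Ideal.mem_map_of_mem _ (x + y).2⟩ :
            (I.map (algebraMap R S) : Ideal S)) =
            ⟨algebraMap R S x, Ideal.mem_map_of_mem _ x.2⟩ +
              ⟨algebraMap R S y, Ideal.mem_map_of_mem _ y.2⟩ := Subtype.ext (by simp)
        show (⟨algebraMap R S ((x + y : I) : R), _⟩ : (I.map (algebraMap R S) : Ideal S)) ⊗ₜ[S] m
          = _
        rw [this, TensorProduct.add_tmul]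
        rfl }
    (by
      intro r i m
      have : (⟨algebraMap R S ((r • i : I) : R), Ideal.mem_map_of_mem _ (r • i).2⟩ :
          (I.map (algebraMap R S) : Ideal S)) =
          algebraMap R S r • ⟨algebraMap R S i, Ideal.mem_map_of_mem _ i.2⟩ :=
        Subtype.ext (by
          show algebraMap R S (r • (i : R)) = algebraMap R S r • algebraMap R S (i : R)
          rw [smul_eq_mul, map_mul, smul_eq_mul])
      show (⟨algebraMap R S ((r • i : I) : R), _⟩ : (I.map (algebraMap R S) : Ideal S)) ⊗ₜ[S] m =
        (⟨algebraMap R S i, _⟩ : (I.map (algebraMap R S) : Ideal S)) ⊗ₜ[S] (r • m)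
      rw [this, TensorProduct.smul_tmul, IsScalarTower.algebraMap_smul])

theorem psi_tmul (i : I) (m : M) :
    psi (S := S) I (i ⊗ₜ[R] m) =
      (⟨algebraMap R S i, Ideal.mem_map_of_mem _ i.2⟩ : (I.map (algebraMap R S) : Ideal S))
        ⊗ₜ[S] m := rfl

theorem psi_surjective : Function.Surjective (psi (S := S) (M := M) I) := by
  intro z
  induction z with
  | zero => exact ⟨0, map_zero _⟩
  | tmul j m =>
    obtain ⟨j, hj⟩ := j
    have key : ∀ j (hj : j ∈ (I.map (algebraMap R S) : Ideal S)), ∀ m : M,
        ∃ w : I ⊗[R] M, psi (S := S) I w =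
          (⟨j, hj⟩ : (I.map (algebraMap R S) : Ideal S)) ⊗ₜ[S] m := by
      intro j hj
      refine Submodule.span_induction (p := fun j hj => ∀ m : M,
        ∃ w : I ⊗[R] M, psi (S := S) I w =
          (⟨j, hj⟩ : (I.map (algebraMap R S) : Ideal S)) ⊗ₜ[S] m) ?_ ?_ ?_ ?_ hj
      · rintro _ ⟨i, hi, rfl⟩ m
        exact ⟨(⟨i, hi⟩ : I) ⊗ₜ[R] m, rfl⟩
      · intro m
        refine ⟨0, ?_⟩
        rw [map_zero]
        have : (⟨0, Submodule.zero_mem _⟩ : (I.map (algebraMap R S) : Ideal S)) = 0 := rfl
        rw [this, TensorProduct.zero_tmul]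
      · intro x y hx hy ihx ihy m
        obtain ⟨a, ha⟩ := ihx m
        obtain ⟨b, hb⟩ := ihy m
        refine ⟨a + b, ?_⟩
        rw [map_add, ha, hb, ← TensorProduct.add_tmul]
        rfl
      · intro s x hx ihx m
        obtain ⟨a, ha⟩ := ihx (s • m)
        refine ⟨a, ?_⟩
        rw [ha, ← TensorProduct.smul_tmul]
        rfl
    exact key j hj m
  | add a b ha hb =>
    obtain ⟨x, rfl⟩ := ha
    obtain ⟨y, rfl⟩ := hb
    exact ⟨x + y, map_add _ _ _⟩

theorem result {R S M : Type u} [CommRing R] [CommRing S] [Algebra R S] (I : Ideal R) (hI : IsNilpotent I)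
    [AddCommGroup M] [Module S M] [Module R M] [IsScalarTower R S M] [Module.Flat R M]
    (h : Module.Flat (S ⧸ I.map (algebraMap R S)) ((S ⧸ I.map (algebraMap R S)) ⊗[S] M)) : Module.Flat S M := by
  have hJ : IsNilpotent (I.map (algebraMap R S)) := by
    obtain ⟨n, hn⟩ := hI
    exact ⟨n, by rw [← Ideal.map_pow, hn, Ideal.zero_eq_bot, Ideal.map_bot]; rfl⟩
  apply Groth.Agent.H76.NilFlat.flat_of_nilpotent (I.map (algebraMap R S)) M _ hJ
  -- injectivity of `IS ⊗[S] M → S ⊗[S] M`
  have h1 : Function.Injective (LinearMap.rTensor M (Submodule.subtype I)) :=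
    Module.Flat.rTensor_preserves_injective_linearMap _ (Submodule.injective_subtype I)
  have hrel : ∀ w : I ⊗[R] M,
      TensorProduct.lid S M ((LinearMap.rTensor M (Submodule.subtype (I.map (algebraMap R S))))
        (psi (S := S) I w)) =
      TensorProduct.lid R M ((LinearMap.rTensor M (Submodule.subtype I)) w) := by
    intro w
    induction w with
    | zero => simp
    | tmul i m =>
      rw [psi_tmul]
      simp only [LinearMap.rTensor_tmul, Submodule.subtype_apply, TensorProduct.lid_tmul]
      rw [IsScalarTower.algebraMap_smul]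
    | add a b ha hb => simp only [map_add, ha, hb]
  rw [injective_iff_map_eq_zero]
  intro z hz
  obtain ⟨w, rfl⟩ := psi_surjective (S := S) (M := M) I z
  have h2 : (LinearMap.rTensor M (Submodule.subtype I)) w = 0 := by
    apply (TensorProduct.lid R M).injective
    rw [← hrel, hz, map_zero, map_zero]
  rw [(injective_iff_map_eq_zero _).mp h1 w h2, map_zero]

end Groth.Agent.S0400
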