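import Groth.Statements.S0408
import Groth.Agent.Lib.Helper7.EtaleNbhd

set_option autoImplicit false
universe u
open FlatMor

namespace Groth.Agent.S0408

open AlgebraicGeometry CategoryTheory Limits in
/-- Étale localization of a quasi-finite point (one-point case): for f separated and locally of finite
type and x isolated in its fibre, after base change along an étale morphism g with a point u over
f(x) having the same residue field, the base change splits off an open and closed piece V, finite
over the base, whose fibre over u is a single point v lying over x with the same residue field as x,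
and no other point over u lies over x. -/
theorem result {X S : Scheme.{u}} (f : X ⟶ S) [LocallyOfFiniteType f] [IsSeparated f] (x : X) (hx : f.QuasiFiniteAt x) :
    ∃ (U : Scheme.{u}) (g : U ⟶ S) (u : U), Etale g ∧ g u = f x ∧ Function.Surjective (g.residueFieldMap u) ∧
      ∃ (V : (pullback f g).Opens) (v : ↑(pullback f g)), IsClopen (V : Set ↑(pullback f g)) ∧
        IsFinite (V.ι ≫ pullback.snd f g) ∧ v ∈ V ∧ pullback.fst f g v = x ∧ pullback.snd f g v = u ∧
        Function.Surjective ((pullback.fst f g).residueFieldMap v) ∧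
        (∀ w : ↑(pullback f g), pullback.snd f g w = u → (w ∈ V ∨ pullback.fst f g w = x) → w = v) := by
  classical
  obtain ⟨U, g, u, hg, hgu, hiso, V, W, v, hVW, hVfin, hv₁, hv₂, hvuniq⟩ :=
    Groth.Agent.Lib.Helper7.EtaleNbhd.exists_etale_isCompl_of_quasiFiniteAt' f hx
  have hVW' : (V : Set ↥(pullback f g)) = (↑W)ᶜ :=
    (eq_compl_iff_isCompl.mpr (hVW.map TopologicalSpace.Opens.frameHom))
  have hVcl : IsClosed (V : Set ↥(pullback f g)) := by
    rw [hVW']; exact W.2.isClosed_compl
  refine ⟨U, g, u, hg, hgu, ?_, V, v.1, ⟨hVcl, V.2⟩, hVfin, v.2, hv₁, hv₂, ?_, ?_⟩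
  · exact (ConcreteCategory.bijective_of_isIso (g.residueFieldMap u)).2
  · obtain ⟨t, ht, htu⟩ := Groth.Agent.Lib.Helper7.EtaleNbhd.exists_section_of_isIso g u
    let r : Spec (X.residueField x) ⟶ U :=
      Spec.map (f.residueFieldMap x) ≫ Spec.map (S.residueFieldCongr hgu).hom ≫ t
    have hr : X.fromSpecResidueField x ≫ f = r ≫ g := by
      simp only [r, Category.assoc]
      rw [ht, Scheme.residueFieldCongr_fromSpecResidueField,
        Scheme.Hom.SpecMap_residueFieldMap_fromSpecResidueField]
    let s : Spec (X.residueField x) ⟶ pullback f g := pullback.lift (X.fromSpecResidueField x) r hr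
    have hs : s ≫ pullback.fst f g = X.fromSpecResidueField x := pullback.lift_fst _ _ _
    obtain ⟨h1, h2⟩ := Groth.Agent.Lib.Helper7.EtaleNbhd.isIso_residueFieldMap_of_section
      (pullback.fst f g) x s hs
    have hsv : s (IsLocalRing.closedPoint (X.residueField x)) = v.1 := by
      apply Groth.Agent.Lib.Helper7.EtaleNbhd.eq_of_fst_eq_of_snd_eq f g
      · rw [h1, hv₁]
      · rw [hv₂, ← Scheme.Hom.comp_apply]
        have : s ≫ pullback.snd f g = r := pullback.lift_snd _ _ _
        rw [this]
        simp only [r, Scheme.Hom.comp_apply]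
        exact htu _
      · rw [hv₂]; exact hiso
    rw [hsv] at h2
    exact (ConcreteCategory.bijective_of_isIso ((pullback.fst f g).residueFieldMap v.1)).2
  · rintro w hw (hwV | hwx)
    · exact congrArg Subtype.val (hvuniq ⟨w, hwV⟩ hw)
    · refine Groth.Agent.Lib.Helper7.EtaleNbhd.eq_of_fst_eq_of_snd_eq f g w v.1
        (hwx.trans hv₁.symm) (hw.trans hv₂.symm) ?_
      rw [hv₂]; exact hiso

end Groth.Agent.S0408
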