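import Groth.Statements.S0439
import Groth.Agent.Lib.Helper69.GenericFP

set_option autoImplicit false
universe u
open FlatMor

namespace Groth.Agent.S0439
open CategoryTheory AlgebraicGeometry Groth.Agent.Lib.Helper69 TopologicalSpace

theorem exists_mem_basicOpen_of_not_isNilpotent {X : Scheme.{u}} {W : X.Opens}
    (hW : IsAffineOpen W) (g : Γ(X, W)) (hg : ¬ IsNilpotent g) : ∃ x, x ∈ X.basicOpen g := by
  have h1 : PrimeSpectrum.basicOpen g ≠ ⊥ := fun h =>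
    hg ((PrimeSpectrum.basicOpen_eq_bot_iff g).mp h)
  obtain ⟨p, hp⟩ : ∃ p, p ∈ PrimeSpectrum.basicOpen g := by
    by_contra hne
    push Not at hne
    exact h1 (by ext p; simpa using hne p)
  refine ⟨hW.fromSpec p, ?_⟩
  have hp' : p ∈ hW.fromSpec ⁻¹ᵁ X.basicOpen g := by
    rw [hW.fromSpec_preimage_basicOpen g]; exact hp
  exact hp'

theorem primeIdealOf_mem_minimalPrimes_of_forall {Y : Scheme.{u}} (V : Y.Opens)
    (hV : IsAffineOpen V) (t : Y) (htV : t ∈ V) (ht : ∀ y : Y, y ⤳ t → y = t) :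
    (hV.primeIdealOf ⟨t, htV⟩).asIdeal ∈ minimalPrimes Γ(Y, V) := by
  refine ⟨⟨(hV.primeIdealOf ⟨t, htV⟩).2, bot_le⟩, ?_⟩
  rintro p' ⟨hp', -⟩ hle
  have h1 : (⟨p', hp'⟩ : PrimeSpectrum Γ(Y, V)) ⤳ hV.primeIdealOf ⟨t, htV⟩ :=
    (PrimeSpectrum.le_iff_specializes _ _).mp hle
  have h2 := h1.map hV.fromSpec.continuous
  rw [hV.fromSpec_primeIdealOf ⟨t, htV⟩] at h2
  have h3 : hV.fromSpec ⟨p', hp'⟩ = t := ht _ h2
  have h4 : (⟨p', hp'⟩ : PrimeSpectrum Γ(Y, V)) = hV.primeIdealOf ⟨t, htV⟩ := by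
    apply hV.fromSpec.isOpenEmbedding.injective
    rw [h3, hV.fromSpec_primeIdealOf ⟨t, htV⟩]
  exact (congrArg PrimeSpectrum.asIdeal h4).ge

theorem exists_notMem_mul_pow_eq_zero {R : Type*} [CommRing R] (p : Ideal R)
    (hp : p ∈ minimalPrimes R) (x : R) (hx : x ∈ p) : ∃ s ∉ p, ∃ n : ℕ, s * x ^ (n + 1) = 0 := by
  have : p.IsPrime := hp.1.1
  have : Ring.KrullDimLE 0 (Localization.AtPrime p) := .of_isLocalization _ hp _
  have h1 : algebraMap R (Localization.AtPrime p) x ∈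
      IsLocalRing.maximalIdeal (Localization.AtPrime p) := by
    rw [← Localization.AtPrime.map_eq_maximalIdeal]
    exact Ideal.mem_map_of_mem _ hx
  rw [← Ring.KrullDimLE.nilradical_eq_maximalIdeal, mem_nilradical] at h1
  obtain ⟨n, hn⟩ := h1
  have hn' : algebraMap R (Localization.AtPrime p) (x ^ (n + 1)) = 0 := by
    rw [map_pow, pow_succ, hn, zero_mul]
  obtain ⟨⟨s, hs⟩, hs'⟩ := (IsLocalization.map_eq_zero_iff p.primeCompl _ _).mp hn'
  exact ⟨s, hs, n, hs'⟩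

open AlgebraicGeometry CategoryTheory Limits in
/-- A quasi-finite morphism (locally of finite type, quasi-compact, with discrete fibres) maps closed
nowhere dense subsets to nowhere dense subsets. -/
theorem result {Y X : Scheme.{u}} (f : Y ⟶ X) [LocallyQuasiFinite f] [LocallyOfFiniteType f] [QuasiCompact f]
    (T : Set ↑Y) (hT : IsClosed T) (hT' : IsNowhereDense T) : IsNowhereDense (f '' T) := by
  classical
  by_contra hnd
  obtain ⟨x₀, hx₀⟩ : (interior (closure (f '' T))).Nonempty := Set.nonempty_iff_ne_empty.mpr hnd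
  obtain ⟨_, ⟨W, hW : IsAffineOpen W, rfl⟩, hx₀W, hWsub⟩ :=
    X.isBasis_affineOpens.exists_subset_of_mem_open hx₀ isOpen_interior
  -- finite affine cover of the preimage
  have hcomp : IsCompact ((f ⁻¹ᵁ W : Y.Opens) : Set Y) :=
    QuasiCompact.isCompact_preimage (f := f) _ W.2 hW.isCompact
  obtain ⟨S, hSfin, hSeq⟩ := isCompact_iff_finite_and_eq_biUnion_affineOpens.mp hcomp
  have hSle : ∀ U : Y.affineOpens, U ∈ S → U.1 ≤ f ⁻¹ᵁ W := by
    intro U hU
    rw [hSeq]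
    exact le_iSup₂ (f := fun (i : Y.affineOpens) (_ : i ∈ S) => (i : Y.Opens)) U hU
  -- the nonvanishing of 1
  have h1 : ¬ IsNilpotent (1 : Γ(X, W)) := by
    rintro ⟨n, hn⟩
    rw [one_pow] at hn
    exact (hW.primeIdealOf ⟨x₀, hx₀W⟩).2.ne_top
      ((Ideal.eq_top_iff_one _).mpr (hn ▸ Ideal.zero_mem _))
  have := hSfin.fintype
  obtain ⟨g, -, hgnil, hgood⟩ := exists_basicOpen_finset_of_isClosed_family f W hW
    (Finset.univ : Finset S) (fun k => k.1.1) (fun k => k.1.2) (fun k => hSle k.1 k.2)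
    (fun _ => T) (fun _ => hT) 1 h1
  obtain ⟨z, hz⟩ := exists_mem_basicOpen_of_not_isNilpotent hW g hgnil
  obtain ⟨ξ, hξgen, hξz⟩ := exists_generic_specializes z
  have hξg : ξ ∈ X.basicOpen g := hξz.mem_open (X.basicOpen g).2 hz
  have hξW : ξ ∈ W := X.basicOpen_le g hξg
  have hξcl : ξ ∈ closure (f '' T) := interior_subset (hWsub hξW)
  obtain ⟨t, htT, htξ⟩ := exists_specializes_of_mem_closure_image f T hT ξ hξcl
  have hftξ : f t = ξ := eq_of_specializes_generic _ _ hξgen htξ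
  -- `t` has no proper generization
  have htmin : ∀ y : Y, y ⤳ t → y = t := by
    intro y hy
    have h2 : f y ⤳ f t := hy.map f.continuous
    have h3 : f y = ξ := eq_of_specializes_generic _ _ hξgen (hftξ ▸ h2)
    exact (f.isDiscrete_preimage_singleton ξ).eq_of_specializes hy h3 hftξ
  -- `t` lies in some member of the cover
  have htW : t ∈ (f ⁻¹ᵁ W : Y.Opens) := by
    show f t ∈ W
    rw [hftξ]; exact hξW
  rw [hSeq] at htW
  obtain ⟨U, htW'⟩ := Opens.mem_iSup.mp htW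
  obtain ⟨hUS, htU⟩ := Opens.mem_iSup.mp htW'
  obtain ⟨F, hF1, hF2⟩ := hgood ⟨U, hUS⟩ (Finset.mem_univ _)
  have hpmin := primeIdealOf_mem_minimalPrimes_of_forall U.1 U.2 t htU htmin
  have hjt : ∀ j ∈ F, j ∈ (U.2.primeIdealOf ⟨t, htU⟩).asIdeal := by
    intro j hj
    by_contra hnot
    have : t ∈ Y.basicOpen j := (mem_basicOpen_iff_notMem_primeIdealOf U.2 t htU j).mpr hnot
    exact Set.disjoint_left.mp (hF1 j hj) this htT
  have hex : ∀ j : F, ∃ s ∉ (U.2.primeIdealOf ⟨t, htU⟩).asIdeal, ∃ n : ℕ,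
      s * j.1 ^ (n + 1) = 0 := fun j =>
    exists_notMem_mul_pow_eq_zero _ hpmin j.1 (hjt j.1 j.2)
  choose s hs n hsn using hex
  set σ : Γ(Y, U.1) := ∏ j, s j with hσdef
  have hσ : σ ∉ (U.2.primeIdealOf ⟨t, htU⟩).asIdeal := by
    intro hmem
    obtain ⟨j, -, hj⟩ :=
      (Ideal.IsPrime.prod_mem_iff (hp := (U.2.primeIdealOf ⟨t, htU⟩).2)).mp hmem
    exact hs j hj
  set N : Y.Opens := Y.basicOpen (σ * (f.appLE W U.1 (hSle U hUS)).hom g) with hNdef
  have hNeq : N = Y.basicOpen σ ⊓ (U.1 ⊓ f ⁻¹ᵁ X.basicOpen g) := by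
    rw [hNdef, Scheme.basicOpen_mul]
    congr 1
    exact Scheme.basicOpen_appLE f U.1 W (hSle U hUS) g
  have htN : t ∈ N := by
    rw [hNeq]
    refine ⟨(mem_basicOpen_iff_notMem_primeIdealOf U.2 t htU σ).mpr hσ, htU, ?_⟩
    show f t ∈ X.basicOpen g
    rw [hftξ]; exact hξg
  have hNT : (N : Set Y) ⊆ T := by
    intro y hy
    rw [hNeq] at hy
    obtain ⟨hyσ, hyU, hyg⟩ := hy
    refine hF2 y hyU hyg ?_
    intro j hj hyj
    have hys : y ∈ Y.basicOpen (s ⟨j, hj⟩) := by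
      have hσeq : σ = s ⟨j, hj⟩ * ∏ i ∈ Finset.univ.erase ⟨j, hj⟩, s i := by
        rw [hσdef, Finset.mul_prod_erase _ _ (Finset.mem_univ _)]
      have hyσ' : y ∈ Y.basicOpen σ := hyσ
      rw [hσeq, Scheme.basicOpen_mul] at hyσ'
      exact hyσ'.1
    have h4 : y ∈ Y.basicOpen (s ⟨j, hj⟩ * j ^ (n ⟨j, hj⟩ + 1)) := by
      rw [Scheme.basicOpen_mul, Scheme.basicOpen_pow _ _ (Nat.succ_pos _)]
      exact ⟨hys, hyj⟩
    rw [hsn ⟨j, hj⟩, Scheme.basicOpen_zero] at h4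
    exact h4
  have h5 : t ∈ interior (closure T) :=
    interior_mono subset_closure (mem_interior.mpr ⟨N, hNT, N.2, htN⟩)
  rw [hT'] at h5
  exact h5

end Groth.Agent.S0439
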