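import Groth.Statements.S0409
import Groth.Agent.Lib.Helper69.GenericFP
import Groth.Agent.Lib.Helper69.GenericFinite2
import Groth.Agent.S2080
import Groth.Agent.S0439

set_option autoImplicit false
universe u
open FlatMor

namespace Groth.Agent.S0409
open CategoryTheory AlgebraicGeometry Groth.Agent.Lib.Helper69 TopologicalSpace

/-- A union of affine opens with quasi-compact pairwise intersections is quasi-separated. -/
theorem isQuasiSeparated_iSup_of_isCompact_inter {Y : Scheme.{u}} {ι : Type*} (U : ι → Y.Opens)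
    (hU : ∀ i, IsAffineOpen (U i)) (hUU : ∀ i j, IsCompact ((U i : Set Y) ∩ U j)) :
    IsQuasiSeparated ((⨆ i, U i : Y.Opens) : Set Y) := by
  set Z : Y.Opens := ⨆ i, U i with hZ
  refine (isQuasiSeparated_iff_quasiSeparatedSpace (Z : Set Y) Z.2).mpr ?_
  show QuasiSeparatedSpace Z.toScheme
  refine Scheme.quasiSeparatedSpace_of_isOpenCover (fun i => Z.ι ⁻¹ᵁ U i) ?_ ?_ ?_
  · apply IsOpenCover.mk
    ext z
    simp only [Opens.coe_iSup, Set.mem_iUnion, SetLike.mem_coe, Opens.coe_top, Set.mem_univ,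
      iff_true]
    obtain ⟨i, hi⟩ := Opens.mem_iSup.mp z.2
    exact ⟨i, hi⟩
  · intro i
    exact (hU i).preimage_of_isOpenImmersion Z.ι
      (by rw [Scheme.Opens.opensRange_ι]; exact le_iSup U i)
  · intro i j
    rw [Z.ι.isOpenEmbedding.isCompact_iff]
    convert hUU i j using 1
    ext y
    constructor
    · rintro ⟨z, ⟨hz1, hz2⟩, rfl⟩
      exact ⟨hz1, hz2⟩
    · rintro ⟨hy1, hy2⟩
      exact ⟨⟨y, (le_iSup U i : U i ≤ Z) hy1⟩, ⟨hy1, hy2⟩, rfl⟩

theorem exists_isFinite_of_finite_fiber_of_isQuasiSeparated {X Y : Scheme.{u}} (f : X ⟶ Y)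
    [LocallyOfFiniteType f] [QuasiCompact f] (η : Y)
    (hη : closure {η} ∈ irreducibleComponents Y) (V₀ : Y.Opens) (hV₀ : IsAffineOpen V₀)
    (hηV₀ : η ∈ V₀) (hqs : IsQuasiSeparated ((f ⁻¹ᵁ V₀ : X.Opens) : Set X))
    (hfin : (f ⁻¹' {η}).Finite) :
    ∃ V : Y.Opens, IsAffineOpen V ∧ η ∈ V ∧ V ≤ V₀ ∧ IsFinite (f ∣_ V) := by
  have : Finite (f ⁻¹' {η}) := hfin.to_subtype
  have : Finite (f.fiber η) := (f.fiberHomeo η).finite_iff.mpr hfin
  have : DiscreteTopology (f.fiber η) := inferInstance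
  have hdisc : DiscreteTopology (f ⁻¹' {η}) := (f.fiberHomeo η).discreteTopology
  have hex : ∀ x : f ⁻¹' {η}, ∃ U : X.Opens, IsAffineOpen U ∧ x.1 ∈ U ∧ U ≤ f ⁻¹ᵁ V₀ ∧
      (U : Set X) ∩ f ⁻¹' {η} ⊆ {x.1} := by
    intro x
    obtain ⟨O, hO, hOx⟩ := isOpen_induced_iff.mp (isOpen_discrete ({x} : Set (f ⁻¹' {η})))
    have hxO : x.1 ∈ O := by
      have : x ∈ Subtype.val ⁻¹' O := hOx ▸ Set.mem_singleton x
      exact this
    have hxV₀ : x.1 ∈ (f ⁻¹ᵁ V₀ : X.Opens) := by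
      show f x.1 ∈ V₀
      rw [x.2]; exact hηV₀
    obtain ⟨_, ⟨U, hU : IsAffineOpen U, rfl⟩, hxU, hUsub⟩ :=
      X.isBasis_affineOpens.exists_subset_of_mem_open
        (⟨hxO, hxV₀⟩ : x.1 ∈ O ∩ (f ⁻¹ᵁ V₀ : X.Opens)) (hO.inter (f ⁻¹ᵁ V₀).2)
    refine ⟨U, hU, hxU, fun z hz => (hUsub hz).2, ?_⟩
    rintro z ⟨hzU, hzη⟩
    have : (⟨z, hzη⟩ : f ⁻¹' {η}) ∈ Subtype.val ⁻¹' O := (hUsub hzU).1
    rw [hOx] at this
    exact congrArg Subtype.val this
  choose U hU hxU hUle hUη using hex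
  have hsep : ∀ x y : f ⁻¹' {η}, x ≠ y → η ∉ closure (f '' ((U x : Set X) ∩ U y)) := by
    intro x y hxy hmem
    have hQ : IsCompact ((U x ⊓ U y : X.Opens) : Set X) :=
      hqs (U x) (U y) (hUle x) (U x).2 (hU x).isCompact (hUle y) (U y).2 (hU y).isCompact
    obtain ⟨z, hzQ, hz⟩ := Groth.Agent.S2080.exists_specializes_of_mem_closure_image_of_isCompact f
      (U x ⊓ U y) hQ V₀ hV₀ (inf_le_left.trans (hUle x)) η hηV₀ hmem
    have hzη : f z = η := eq_of_specializes_generic _ _ hη hz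
    have h1 : z = x.1 := hUη x ⟨hzQ.1, hzη⟩
    have h2 : z = y.1 := hUη y ⟨hzQ.2, hzη⟩
    exact hxy (Subtype.ext (h1.symm.trans h2))
  exact exists_isFinite_morphismRestrict_of_cover f η hη V₀ hV₀ hηV₀ U hU
    hUle (fun x => hfin.subset Set.inter_subset_right)
    (fun x hx => Set.mem_iUnion.mpr ⟨⟨x, hx⟩, hxU ⟨x, hx⟩⟩) hsep

/-- Every nonempty open of the target contains a nonempty open over which `f` is finite. -/
theorem exists_isFinite_morphismRestrict_le {Y X : Scheme.{u}} (f : Y ⟶ X) [LocallyQuasiFinite f]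
    [LocallyOfFiniteType f] [QuasiCompact f] (O : X.Opens) (x₀ : X) (hx₀ : x₀ ∈ O) :
    ∃ V : X.Opens, V ≤ O ∧ (V : Set X).Nonempty ∧ IsFinite (f ∣_ V) := by
  classical
  obtain ⟨_, ⟨W, hW : IsAffineOpen W, rfl⟩, hx₀W, hWsub⟩ :=
    X.isBasis_affineOpens.exists_subset_of_mem_open hx₀ O.2
  have hcomp : IsCompact ((f ⁻¹ᵁ W : Y.Opens) : Set Y) :=
    QuasiCompact.isCompact_preimage (f := f) _ W.2 hW.isCompact
  obtain ⟨S, hSfin, hSeq⟩ := isCompact_iff_finite_and_eq_biUnion_affineOpens.mp hcomp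
  have hSle : ∀ U : Y.affineOpens, U ∈ S → U.1 ≤ f ⁻¹ᵁ W := by
    intro U hU
    rw [hSeq]
    exact le_iSup₂ (f := fun (i : Y.affineOpens) (_ : i ∈ S) => (i : Y.Opens)) U hU
  have h1 : ¬ IsNilpotent (1 : Γ(X, W)) := by
    rintro ⟨n, hn⟩
    rw [one_pow] at hn
    exact (hW.primeIdealOf ⟨x₀, hx₀W⟩).2.ne_top
      ((Ideal.eq_top_iff_one _).mpr (hn ▸ Ideal.zero_mem _))
  have := hSfin.fintype
  obtain ⟨g, -, hgnil, hgood⟩ := exists_basicOpen_finset_of_isClosed_family f W hW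
    (Finset.univ : Finset (S × S)) (fun k => k.1.1.1) (fun k => k.1.1.2)
    (fun k => hSle k.1.1 k.1.2) (fun k => ((k.2.1.1 : Y.Opens) : Set Y)ᶜ)
    (fun k => k.2.1.1.2.isClosed_compl) 1 h1
  -- the affine opens covering the preimage of `D(g)`
  let U' : S → Y.Opens := fun k => Y.basicOpen ((f.appLE W k.1.1 (hSle k.1 k.2)).hom g)
  have hU'eq : ∀ k : S, U' k = k.1.1 ⊓ f ⁻¹ᵁ X.basicOpen g := fun k =>
    Scheme.basicOpen_appLE f k.1.1 W (hSle k.1 k.2) g
  have hU'aff : ∀ k, IsAffineOpen (U' k) := fun k => k.1.2.basicOpen _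
  have hsup : ⨆ k, U' k = f ⁻¹ᵁ X.basicOpen g := by
    apply le_antisymm
    · exact iSup_le fun k => (hU'eq k).le.trans inf_le_right
    · intro y hy
      have hyW : y ∈ (f ⁻¹ᵁ W : Y.Opens) := X.basicOpen_le g hy
      rw [hSeq] at hyW
      obtain ⟨U, hyW'⟩ := Opens.mem_iSup.mp hyW
      obtain ⟨hUS, hyU⟩ := Opens.mem_iSup.mp hyW'
      refine Opens.mem_iSup.mpr ⟨⟨U, hUS⟩, ?_⟩
      rw [hU'eq]
      exact ⟨hyU, hy⟩
  have hinter : ∀ k l : S, IsCompact ((U' k : Set Y) ∩ U' l) := by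
    intro k l
    obtain ⟨F, hF1, hF2⟩ := hgood (k, l) (Finset.mem_univ _)
    have heq : ((U' k : Set Y) ∩ U' l) =
        ⋃ j ∈ F, ((Y.basicOpen (j * (f.appLE W k.1.1 (hSle k.1 k.2)).hom g) : Y.Opens) : Set Y) := by
      ext y
      simp only [Set.mem_inter_iff, SetLike.mem_coe, Set.mem_iUnion, exists_prop]
      constructor
      · rintro ⟨hyk, hyl⟩
        rw [hU'eq] at hyk hyl
        by_contra hnot
        push Not at hnot
        have h3 : y ∈ ((l.1.1 : Y.Opens) : Set Y)ᶜ := hF2 y hyk.1 hyk.2 (fun j hj hyj => by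
          apply hnot j hj
          rw [Scheme.basicOpen_mul]
          exact ⟨hyj, (hU'eq k).ge hyk⟩)
        exact h3 hyl.1
      · rintro ⟨j, hj, hy⟩
        rw [Scheme.basicOpen_mul] at hy
        obtain ⟨hyj, hyk⟩ := hy
        refine ⟨hyk, ?_⟩
        rw [hU'eq]
        have hyk' := (hU'eq k).le hyk
        refine ⟨?_, hyk'.2⟩
        by_contra hnl
        exact Set.disjoint_left.mp (hF1 j hj) hyj hnl
    rw [heq]
    exact F.isCompact_biUnion fun j _ => (k.1.2.basicOpen _).isCompact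
  have hqs : IsQuasiSeparated ((f ⁻¹ᵁ X.basicOpen g : Y.Opens) : Set Y) := by
    rw [← hsup]
    exact isQuasiSeparated_iSup_of_isCompact_inter U' hU'aff hinter
  obtain ⟨z, hz⟩ := Groth.Agent.S0439.exists_mem_basicOpen_of_not_isNilpotent hW g hgnil
  obtain ⟨ξ, hξgen, hξz⟩ := exists_generic_specializes z
  have hξg : ξ ∈ X.basicOpen g := hξz.mem_open (X.basicOpen g).2 hz
  obtain ⟨V, -, hξV, hVle, hVfin⟩ := exists_isFinite_of_finite_fiber_of_isQuasiSeparated f ξ hξgen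
    (X.basicOpen g) (hW.basicOpen g) hξg hqs (f.finite_preimage_singleton ξ)
  exact ⟨V, fun y hy => hWsub (X.basicOpen_le g (hVle hy)), ⟨ξ, hξV⟩, hVfin⟩

set_option backward.isDefEq.respectTransparency.types false in
theorem main {Y X : Scheme.{u}} (f : Y ⟶ X) [LocallyQuasiFinite f] [LocallyOfFiniteType f]
    [QuasiCompact f] : ∃ U : X.Opens, Dense (U : Set ↑X) ∧ IsFinite (f ∣_ U) := by
  refine ⟨⨆ V : {V : X.Opens // IsFinite (f ∣_ V)}, V.1, ?_, ?_⟩
  · rw [dense_iff_inter_open]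
    rintro O hO ⟨x₀, hx₀⟩
    obtain ⟨V, hVO, ⟨v, hv⟩, hVfin⟩ := exists_isFinite_morphismRestrict_le f ⟨O, hO⟩ x₀ hx₀
    exact ⟨v, hVO hv, Opens.mem_iSup.mpr ⟨⟨V, hVfin⟩, hv⟩⟩
  · apply restrict_of_forall_exists (P := @IsFinite)
    intro y hy
    obtain ⟨V, hV⟩ := Opens.mem_iSup.mp hy
    exact ⟨V.1, hV, V.2⟩

open AlgebraicGeometry CategoryTheory Limits in
/-- A quasi-finite morphism (locally of finite type, quasi-compact, with finite fibres) is finite over a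
dense open subset of the target. -/
theorem result {Y X : Scheme.{u}} (f : Y ⟶ X) [LocallyQuasiFinite f] [LocallyOfFiniteType f] [QuasiCompact f] :
    ∃ U : X.Opens, Dense (U : Set ↑X) ∧ IsFinite (f ∣_ U) := by
  exact main f

end Groth.Agent.S0409
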