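import Groth.Statements.S0411
import Mathlib

set_option autoImplicit false
universe u
open FlatMor

namespace Groth.Agent.S0411

open AlgebraicGeometry CategoryTheory Limits

/-- Prime avoidance in a spectrum: a finite set of points of an open subset of `Spec R` is
contained in a basic open subset contained in that open subset. -/
theorem exists_basicOpen_of_finset {R : Type u} [CommRing R] (O : TopologicalSpace.Opens (PrimeSpectrum R))
    (T : Finset (PrimeSpectrum R)) (hT : ∀ t ∈ T, t ∈ O) :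
    ∃ f : R, (∀ t ∈ T, t ∈ PrimeSpectrum.basicOpen f) ∧ PrimeSpectrum.basicOpen f ≤ O := by
  classical
  rcases T.eq_empty_or_nonempty with rfl | ⟨t₀, ht₀⟩
  · refine ⟨0, by simp, ?_⟩
    rw [PrimeSpectrum.basicOpen_zero]
    exact bot_le
  obtain ⟨I, hI⟩ := (PrimeSpectrum.isClosed_iff_zeroLocus_ideal _).mp O.2.isClosed_compl
  have hnot : ¬ ((I : Set R) ⊆ ⋃ t ∈ (T : Set (PrimeSpectrum R)), (t.asIdeal : Set R)) := by
    intro hsub
    obtain ⟨t, ht, hIt⟩ := (Ideal.subset_union_prime (f := fun t : PrimeSpectrum R => t.asIdeal)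
      (s := T) t₀ t₀ (fun t _ _ _ => t.isPrime)).mp hsub
    have : t ∈ (O : Set (PrimeSpectrum R))ᶜ := by
      change t ∈ O.carrierᶜ
      rw [hI]; exact hIt
    exact this (hT t ht)
  obtain ⟨f, hfI, hf⟩ := Set.not_subset.mp hnot
  refine ⟨f, fun t ht => ?_, fun p hp => ?_⟩
  · intro hft
    exact hf (Set.mem_biUnion (Finset.mem_coe.mpr ht) hft)
  · by_contra hpO
    have : p ∈ O.carrierᶜ := hpO
    rw [hI] at this
    exact hp (this hfI)

/-- The same statement on an affine scheme. -/
theorem exists_basicOpen_of_finset_of_isAffine (N : Scheme.{u}) [IsAffine N] (O : N.Opens)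
    (T : Finset N) (hT : ∀ t ∈ T, t ∈ O) :
    ∃ f : Γ(N, ⊤), (∀ t ∈ T, t ∈ N.basicOpen f) ∧ N.basicOpen f ≤ O := by
  classical
  let e := N.isoSpec
  let O' : TopologicalSpace.Opens (PrimeSpectrum Γ(N, ⊤)) := e.inv ⁻¹ᵁ O
  let T' : Finset (PrimeSpectrum Γ(N, ⊤)) := T.image (fun t => e.hom t)
  have hT' : ∀ t ∈ T', t ∈ O' := by
    intro t ht
    obtain ⟨s, hs, rfl⟩ := Finset.mem_image.mp ht
    change e.inv (e.hom s) ∈ O
    rw [← Scheme.Hom.comp_apply, e.hom_inv_id]
    exact hT s hs
  obtain ⟨f, hf1, hf2⟩ := exists_basicOpen_of_finset O' T' hT'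
  have hbo : N.basicOpen f = e.hom ⁻¹ᵁ (PrimeSpectrum.basicOpen f) := by
    rw [← Scheme.toSpecΓ_preimage_basicOpen]
    rfl
  refine ⟨f, fun t ht => ?_, ?_⟩
  · rw [hbo]
    exact hf1 _ (Finset.mem_image_of_mem _ ht)
  · rw [hbo]
    intro x hx
    have h1 : e.hom x ∈ O' := hf2 hx
    have h2 : e.inv (e.hom x) ∈ O := h1
    rwa [← Scheme.Hom.comp_apply, e.hom_inv_id] at h2

/-- For a separated, locally quasi-finite morphism (locally of finite type with discrete fibres) to an
affine scheme, every finite set of points of the source lies in an affine open. -/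
theorem result {X Y : Scheme.{u}} (f : X ⟶ Y) [IsAffine Y] [IsSeparated f] [LocallyQuasiFinite f] [LocallyOfFiniteType f] (T : Finset ↑X) :
    ∃ U : X.Opens, IsAffineOpen U ∧ ∀ x ∈ T, x ∈ U := by
  classical
  -- a quasi-compact open `X'` containing `T`
  have hex : ∀ x : X, ∃ U : X.Opens, IsAffineOpen U ∧ x ∈ U := by
    intro x
    obtain ⟨_, ⟨U, hU : IsAffineOpen U, rfl⟩, hxU, -⟩ :=
      X.isBasis_affineOpens.exists_subset_of_mem_open (Set.mem_univ x) isOpen_univ
    exact ⟨U, hU, hxU⟩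
  choose W hW hxW using hex
  let X' : X.Opens := ⨆ x : T, W x.1
  have hTX' : ∀ x ∈ T, x ∈ X' := fun x hx =>
    TopologicalSpace.Opens.mem_iSup.mpr ⟨⟨x, hx⟩, hxW x⟩
  have hX'c : IsCompact (X' : Set X) := by
    have : (X' : Set X) = ⋃ x : T, (W x.1 : Set X) := by
      simp [X']
    rw [this]
    exact isCompact_iUnion fun x => (hW x.1).isCompact
  have hcX' : CompactSpace (X' : Scheme.{u}) := isCompact_iff_compactSpace.mp hX'c
  let g : (X' : Scheme.{u}) ⟶ Y := X'.ι ≫ f
  have hqc : QuasiCompact g := by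
    rw [HasAffineProperty.iff_of_isAffine (P := @QuasiCompact)]
    exact hcX'
  have hsep : IsSeparated g := inferInstance
  have hlqf : LocallyQuasiFinite g := inferInstance
  have hlft : LocallyOfFiniteType g := inferInstance
  -- Zariski's main theorem
  have hoi : IsOpenImmersion g.toNormalization := inferInstance
  have haff : IsAffine g.normalization := isAffine_of_isAffineHom g.fromNormalization
  let j := g.toNormalization
  let T' : Finset g.normalization :=
    T.attach.image (fun x => j ⟨x.1, hTX' x.1 x.2⟩)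
  obtain ⟨r, hr1, hr2⟩ := exists_basicOpen_of_finset_of_isAffine g.normalization j.opensRange T'
    (by
      intro t ht
      obtain ⟨x, -, rfl⟩ := Finset.mem_image.mp ht
      exact ⟨_, rfl⟩)
  have hV : IsAffineOpen (g.normalization.basicOpen r) :=
    (isAffineOpen_top g.normalization).basicOpen r
  have hU' : IsAffineOpen (j ⁻¹ᵁ g.normalization.basicOpen r) :=
    hV.preimage_of_isOpenImmersion j hr2
  refine ⟨X'.ι ''ᵁ (j ⁻¹ᵁ g.normalization.basicOpen r), hU'.image_of_isOpenImmersion X'.ι, ?_⟩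
  intro x hx
  refine ⟨⟨x, hTX' x hx⟩, ?_, rfl⟩
  exact hr1 _ (Finset.mem_image.mpr ⟨⟨x, hx⟩, Finset.mem_attach _ _, rfl⟩)

end Groth.Agent.S0411
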