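import Groth.Statements.S0418
import Groth.Agent.H72.UH0CND

set_option autoImplicit false
universe u
open FlatMor

namespace Groth.Agent.S0418

open AlgebraicGeometry in
/-- For a prime number p and a ring map A → B that becomes an isomorphism after inverting p, Spec B →
Spec A is a universal homeomorphism if and only if the kernel consists of nilpotents and every
element of B has some p-power multiple and p-power power in the image. -/
theorem result {A B : Type u} [CommRing A] [CommRing B] (φ : A →+* B) (p : ℕ) (hp : p.Prime)
    (h : Function.Bijective (Localization.awayMap φ (p : A))) :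
    FlatMor.IsUnivHomeo (Spec.map (CommRingCat.ofHom φ)) ↔
      (∀ a ∈ RingHom.ker φ, IsNilpotent a) ∧ ∀ b : B, ∃ n : ℕ, (p ^ n : B) * b ∈ φ.range ∧ b ^ (p ^ n) ∈ φ.range := by
  constructor
  · intro hUH
    exact Groth.Agent.H72.UH0CND.cond_of_isUnivHomeo φ p hp h hUH
  · rintro ⟨hker, hpow⟩
    exact Groth.Agent.H72.UH0CND.isUnivHomeo_of_cond φ p hp hker hpow

end Groth.Agent.S0418
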