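import Groth.Statements.S0421
import Mathlib
import Groth.Agent.Lib.Helper70.DVRConnC
import Groth.Agent.Lib.Helper70.DVRConnD

set_option autoImplicit false
universe u
open FlatMor

namespace Groth.Agent.S0421

open AlgebraicGeometry CategoryTheory Limits in
/-- For a flat morphism from a connected scheme to the spectrum of a discrete valuation ring with
reduced closed fibre, the generic fibre is connected. -/
theorem result {R : Type u} [CommRing R] [IsDomain R] [IsDiscreteValuationRing R] {X : Scheme.{u}}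
    (f : X ⟶ Spec (CommRingCat.of R)) [Flat f] [ConnectedSpace ↑X]
    (hred : IsReduced (f.fiber (IsLocalRing.closedPoint R))) :
    ConnectedSpace ↑(f.fiber (⟨⊥, Ideal.isPrime_bot⟩ : PrimeSpectrum R)) := by
  classical
  obtain ⟨ϖ, hϖ⟩ := IsDiscreteValuationRing.exists_irreducible R
  let t : Γ(X, ⊤) := Groth.Agent.Lib.Helper70.DVRConnC.pb f ⊤ ϖ
  have hgood : ∀ V : X.Opens, IsAffineOpen V →
      Groth.Agent.Lib.Helper70.DVRConnA.Good (Groth.Agent.Lib.Helper70.DVRConnD.res t V) := by
    intro V hV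
    have : Groth.Agent.Lib.Helper70.DVRConnD.res t V =
        Groth.Agent.Lib.Helper70.DVRConnC.pb f V ϖ :=
      Groth.Agent.Lib.Helper70.DVRConnC.pb_res f le_top ϖ
    rw [this]
    exact Groth.Agent.Lib.Helper70.DVRConnC.good_pb f hred hV hϖ
  have hW : f.base ⁻¹' {(⟨⊥, Ideal.isPrime_bot⟩ : PrimeSpectrum R)} = (X.basicOpen t : Set X) := by
    ext x
    rw [SetLike.mem_coe, Groth.Agent.Lib.Helper70.DVRConnC.mem_basicOpen_pb_iff]
    simp only [Set.mem_preimage, Set.mem_singleton_iff]
    constructor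
    · intro hx
      rw [hx]
      refine ⟨trivial, ?_⟩
      show ϖ ∉ (⊥ : Ideal R)
      rw [Ideal.mem_bot]
      exact hϖ.ne_zero
    · rintro ⟨-, hx⟩
      apply PrimeSpectrum.ext
      by_contra hne
      have hmax : (f.base x).asIdeal.IsMaximal :=
        Ring.DimensionLEOne.maximalOfPrime hne (f.base x).2
      have := IsLocalRing.eq_maximalIdeal hmax
      apply hx
      rw [this, hϖ.maximalIdeal_eq]
      exact Ideal.mem_span_singleton_self _
  have hconn : _root_.IsConnected (f.base ⁻¹' {(⟨⊥, Ideal.isPrime_bot⟩ : PrimeSpectrum R)}) := by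
    rw [hW]
    exact ⟨(Groth.Agent.Lib.Helper70.DVRConnD.dense_basicOpen t hgood).nonempty,
      Groth.Agent.Lib.Helper70.DVRConnD.isPreconnected_basicOpen t hgood⟩
  have hcs : ConnectedSpace ↥(f.base ⁻¹' {(⟨⊥, Ideal.isPrime_bot⟩ : PrimeSpectrum R)}) :=
    isConnected_iff_connectedSpace.mp hconn
  exact (f.fiberHomeo (⟨⊥, Ideal.isPrime_bot⟩ : PrimeSpectrum R)).symm.surjective.connectedSpace
    (f.fiberHomeo (⟨⊥, Ideal.isPrime_bot⟩ : PrimeSpectrum R)).symm.continuous

end Groth.Agent.S0421
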