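import Groth.Statements.S0431
import Groth.Agent.Lib.Helper58.PinchThick

set_option autoImplicit false
universe u
open FlatMor

namespace Groth.Agent.S0431

open AlgebraicGeometry CategoryTheory Limits in
/-- For a thickening X → X' (a surjective closed immersion) and an affine morphism X → Y, the pushout Y'
of X' and Y along X exists in schemes, Y → Y' is again a thickening and X is the fibre product of Y
and X' over Y' (the source's description of the structure sheaf of the pushout as a fibre product of
sheaves is not restated). -/
theorem result {X X' Y : Scheme.{u}} (t : X ⟶ X') [IsClosedImmersion t] (ht : Function.Surjective t) (f : X ⟶ Y) [IsAffineHom f] :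
    ∃ (Y' : Scheme.{u}) (f' : X' ⟶ Y') (b : Y ⟶ Y'), IsPushout t f f' b ∧ IsPullback t f f' b ∧
      IsClosedImmersion b ∧ Function.Surjective b := by
  haveI : Groth.Agent.Lib.Helper58.Pinch.Enough f t :=
    Groth.Agent.Lib.Helper58.Pinch.enough_of_surjective f t ht
  exact ⟨Groth.Agent.Lib.Helper58.Pinch.P f t, Groth.Agent.Lib.Helper58.Pinch.b f t,
    Groth.Agent.Lib.Helper58.Pinch.a f t,
    (Groth.Agent.Lib.Helper58.Pinch.isPushout f t).flip,
    (Groth.Agent.Lib.Helper58.Pinch.isPullback f t).flip,
    inferInstance, Groth.Agent.Lib.Helper58.Pinch.a_surjective f t ht⟩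

end Groth.Agent.S0431
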