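import Groth.Statements.S0433
import Mathlib
import Groth.Agent.Lib.Helper61.FibSq5

set_option autoImplicit false
universe u
open FlatMor

namespace Groth.Agent.S0433

open AlgebraicGeometry CategoryTheory Limits in
/-- The categorical pullback of rings is a fibre square in the elementwise sense. -/
theorem fibSq_pullback {A A' B : Type u} [CommRing A] [CommRing A'] [CommRing B] (p : A' →+* A)
    (hp : Function.Surjective p) (q : B →+* A) :
    Groth.Agent.Lib.Helper61.FibSq
      (pullback.fst (CommRingCat.ofHom q) (CommRingCat.ofHom p)).hom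
      (pullback.snd (CommRingCat.ofHom q) (CommRingCat.ofHom p)).hom q p := by
  let e := (limit.isLimit (cospan (CommRingCat.ofHom q) (CommRingCat.ofHom p))).conePointUniqueUpToIso
    (CommRingCat.pullbackConeIsLimit (CommRingCat.ofHom q) (CommRingCat.ofHom p))
  have he1 : e.hom ≫ (CommRingCat.pullbackCone (CommRingCat.ofHom q) (CommRingCat.ofHom p)).fst =
      pullback.fst (CommRingCat.ofHom q) (CommRingCat.ofHom p) :=
    IsLimit.conePointUniqueUpToIso_hom_comp _ _ WalkingCospan.left
  have he2 : e.hom ≫ (CommRingCat.pullbackCone (CommRingCat.ofHom q) (CommRingCat.ofHom p)).snd =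
      pullback.snd (CommRingCat.ofHom q) (CommRingCat.ofHom p) :=
    IsLimit.conePointUniqueUpToIso_hom_comp _ _ WalkingCospan.right
  have hf : ∀ c, (pullback.fst (CommRingCat.ofHom q) (CommRingCat.ofHom p)).hom c =
      (e.hom c).1.1 := fun c => congr($(he1).hom c).symm
  have hs : ∀ c, (pullback.snd (CommRingCat.ofHom q) (CommRingCat.ofHom p)).hom c =
      (e.hom c).1.2 := fun c => congr($(he2).hom c).symm
  refine ⟨fun c => ?_, hp, fun b a' hba => ?_, fun c c' h1 h2 => ?_⟩
  · exact congr($(pullback.condition (f := CommRingCat.ofHom q) (g := CommRingCat.ofHom p)).hom c)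
  · refine ⟨e.inv ⟨(b, a'), hba⟩, ?_, ?_⟩
    · rw [hf]
      have : e.hom (e.inv ⟨(b, a'), hba⟩) = ⟨(b, a'), hba⟩ := congr($(e.inv_hom_id).hom _)
      rw [this]
    · rw [hs]
      have : e.hom (e.inv ⟨(b, a'), hba⟩) = ⟨(b, a'), hba⟩ := congr($(e.inv_hom_id).hom _)
      rw [this]
  · rw [hf, hf] at h1
    rw [hs, hs] at h2
    have h3 : e.hom c = e.hom c' := Subtype.ext (Prod.ext h1 h2)
    have h4 := congr(e.inv $h3)
    have h5 : ∀ z, e.inv (e.hom z) = z := fun z => congr($(e.hom_inv_id).hom z)
    rwa [h5, h5] at h4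

open AlgebraicGeometry CategoryTheory Limits in
/-- For a surjective ring map A' → A and any ring map B → A, the spectra of A, A', B and of the fibre
product ring B ×_A A' form a pushout square of schemes. -/
theorem result {A A' B : Type u} [CommRing A] [CommRing A'] [CommRing B] (p : A' →+* A) (hp : Function.Surjective p) (q : B →+* A) :
    IsPushout (Spec.map (CommRingCat.ofHom p)) (Spec.map (CommRingCat.ofHom q))
      (Spec.map (pullback.snd (CommRingCat.ofHom q) (CommRingCat.ofHom p)))
      (Spec.map (pullback.fst (CommRingCat.ofHom q) (CommRingCat.ofHom p))) := by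
  have h := fibSq_pullback p hp q
  have hcomm : pullback.fst (CommRingCat.ofHom q) (CommRingCat.ofHom p) ≫ CommRingCat.ofHom q =
      pullback.snd (CommRingCat.ofHom q) (CommRingCat.ofHom p) ≫ CommRingCat.ofHom p :=
    pullback.condition
  refine IsPushout.of_isColimit' ⟨by rw [← Spec.map_comp, ← Spec.map_comp, hcomm]⟩ ?_
  refine PushoutCocone.IsColimit.mk _
    (fun t => (h.exists_desc t.inl t.inr t.condition).choose)
    (fun t => (h.exists_desc t.inl t.inr t.condition).choose_spec.1)
    (fun t => (h.exists_desc t.inl t.inr t.condition).choose_spec.2)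
    (fun t m h1 h2 => ?_)
  refine h.hom_ext _ _ ?_ ?_
  · exact h2.trans (h.exists_desc t.inl t.inr t.condition).choose_spec.2.symm
  · exact h1.trans (h.exists_desc t.inl t.inr t.condition).choose_spec.1.symm

end Groth.Agent.S0433
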