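import Groth.Statements.S0435
import Groth.Agent.Lib.Helper12.GeomRedProper

set_option autoImplicit false
universe u
open FlatMor

namespace Groth.Agent.S0435

open AlgebraicGeometry CategoryTheory Limits in
/-- For a flat proper morphism of finite presentation, the points of the target whose fibre is
geometrically reduced form an open subset. -/
theorem result {X Y : Scheme.{u}} (f : X ⟶ Y) [Flat f] [IsProper f] [LocallyOfFinitePresentation f] :
    IsOpen {y : ↑Y | GeometricallyReduced (f.fiberToSpecResidueField y)} := by
  exact Groth.Agent.Lib.Helper12.GeomRedProper.isOpen_setOf_geometricallyReduced_fibre f f.isClosedMap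

end Groth.Agent.S0435
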