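import Groth.Statements.S0442
import Groth.Agent.Lib.Helper13.AffSpaceQF
import Groth.Agent.Lib.Helper13.EquidimAffSpace
import Groth.Agent.Lib.Helper7.EtaleNbhd
import Groth.Agent.Lib.Helper22.BirationalBC

set_option autoImplicit false
universe u
open FlatMor

namespace Groth.Agent.S0442

open AlgebraicGeometry CategoryTheory Limits in
/-- Local structure of a morphism locally of finite type: let f : X → S be locally of finite type, x a
point of X, and n the local dimension at x of its fibre. Then there are an étale morphism g : X' → X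
with a point x' mapping to x such that the residue field map κ(x) → κ(x') is surjective (trivial
residue field extension), a morphism h : Y → S smooth of relative dimension n, and a finite morphism
π : X' → Y with f ∘ g = h ∘ π, such that x' is the only point of X' mapping to π(x'). The published
statement also makes the residue field of π(x') purely transcendental over that of the image of x in
S; that is not stated here. -/
theorem result {X S : Scheme.{u}} (f : X ⟶ S) [LocallyOfFiniteType f] (x : X) (n : ℕ) (hn : FlatMor.fibreDimAt f x = n) :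
    ∃ (X' Y : Scheme.{u}) (g : X' ⟶ X) (π : X' ⟶ Y) (h : Y ⟶ S) (x' : X'), g ≫ f = π ≫ h ∧ Etale g ∧ g x' = x ∧
      Function.Surjective (g.residueFieldMap x') ∧ IsFinite π ∧ SmoothOfRelativeDimension n h ∧
      ∀ z : ↑X', π z = π x' → z = x' := by
  classical
  obtain ⟨V, hV, hxV⟩ : ∃ V : S.Opens, IsAffineOpen V ∧ f x ∈ V := by
    obtain ⟨_, ⟨V, hV, rfl⟩, hxV, -⟩ := S.isBasis_affineOpens.exists_subset_of_mem_open
      (Set.mem_univ (f x)) isOpen_univ
    exact ⟨V, hV, hxV⟩
  obtain ⟨U₀, hU₀, hxU₀, g₀, π₀, hg₀, hπ₀, hqf, hlft⟩ :=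
    Groth.Agent.Lib.Helper13.AffSpaceNorm.exists_quasiFinite_toAffineSpace f x V hV hxV n hn
  haveI : IsAffine U₀.toScheme := hU₀
  haveI : IsAffine V.toScheme := hV
  haveI hsep : IsSeparated π₀ := by
    haveI : IsSeparated (π₀ ≫ (𝔸(ULift.{u} (Fin n); (V : Scheme.{u})) ↘ (V : Scheme.{u}))) := by
      rw [hπ₀]; infer_instance
    exact IsSeparated.of_comp π₀ (𝔸(ULift.{u} (Fin n); (V : Scheme.{u})) ↘ (V : Scheme.{u}))
  let x₀ : U₀.toScheme := ⟨x, hxU₀⟩
  have hq : π₀.QuasiFiniteAt x₀ := π₀.quasiFiniteAt x₀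
  obtain ⟨U, g, u, hg, hgu, hiso, V', W, v, hVW, hVfin, hv₁, hv₂, huniq⟩ :=
    Groth.Agent.Lib.Helper7.EtaleNbhd.exists_etale_isCompl_of_quasiFiniteAt' π₀ (x := x₀) hq
  haveI := hg
  haveI hsm : SmoothOfRelativeDimension n
      (𝔸(ULift.{u} (Fin n); (V : Scheme.{u})) ↘ (V : Scheme.{u})) :=
    Groth.Agent.Lib.Helper13.EquidimAffSpace.smoothOfRelativeDimension_affineSpace _ n (by simp) _
  refine ⟨V'.toScheme, U, V'.ι ≫ pullback.fst π₀ g ≫ U₀.ι, V'.ι ≫ pullback.snd π₀ g,
    g ≫ (𝔸(ULift.{u} (Fin n); (V : Scheme.{u})) ↘ (V : Scheme.{u})) ≫ V.ι, v, ?_, ?_, ?_, ?_,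
    hVfin, ?_, ?_⟩
  · simp only [Category.assoc]
    rw [← hg₀, ← hπ₀]
    simp only [Category.assoc]
    rw [pullback.condition_assoc]
  · infer_instance
  · rw [Scheme.Hom.comp_apply, Scheme.Hom.comp_apply]
    change U₀.ι (pullback.fst π₀ g v.1) = x
    rw [hv₁]
    rfl
  · have hres : Function.Bijective (g.residueFieldMap (pullback.snd π₀ g v.1)).hom := by
      rw [hv₂]
      exact (ConcreteCategory.isIso_iff_bijective _).mp hiso
    have hfst : Function.Bijective ((pullback.fst π₀ g).residueFieldMap v.1).hom :=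
      Groth.Agent.Lib.Helper22.Birational.bijective_residueFieldMap_of_isPullback
        (IsPullback.of_hasPullback π₀ g).flip v.1 hres
    haveI hfstiso : IsIso ((pullback.fst π₀ g).residueFieldMap (V'.ι v)) :=
      (ConcreteCategory.isIso_iff_bijective _).mpr hfst
    have hall : IsIso ((V'.ι ≫ pullback.fst π₀ g ≫ U₀.ι).residueFieldMap v) := by
      rw [Scheme.residueFieldMap_comp, Scheme.residueFieldMap_comp]
      have h3 : IsIso (Scheme.Hom.residueFieldMap U₀.ι ((pullback.fst π₀ g) (V'.ι v))) := by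
        infer_instance
      exact IsIso.comp_isIso' (IsIso.comp_isIso' h3 hfstiso) inferInstance
    exact ((ConcreteCategory.isIso_iff_bijective _).mp hall).2
  · have h1 : SmoothOfRelativeDimension (n + 0)
        ((𝔸(ULift.{u} (Fin n); (V : Scheme.{u})) ↘ (V : Scheme.{u})) ≫ V.ι) := inferInstance
    have h2 : SmoothOfRelativeDimension (0 + (n + 0))
        (g ≫ (𝔸(ULift.{u} (Fin n); (V : Scheme.{u})) ↘ (V : Scheme.{u})) ≫ V.ι) := inferInstance
    simpa using h2
  · intro z hz
    apply huniq
    rw [← hv₂]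
    exact hz
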