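import Groth.Statements.S0443
import Groth.Agent.Lib.Helper69.FiberCI2

set_option autoImplicit false
universe u
open FlatMor

namespace Groth.Agent.S0443
open Groth.Agent.Lib.Helper69 CategoryTheory CategoryTheory.Limits AlgebraicGeometry IsLocalRing

set_option backward.isDefEq.respectTransparency.types false in
/-- Affine case. -/
theorem finite_stalkMap_of_isAffine {X Y : Scheme.{u}} (g : X ⟶ Y) [IsAffine Y] [IsFinite g]
    (x₀ : X) (huniq : ∀ x, g.base x = g.base x₀ → x = x₀) :
    (g.stalkMap x₀).hom.Finite := by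
  have : IsAffine X := isAffine_of_isAffineHom g
  have hYa := isAffineOpen_top Y
  have hXa := isAffineOpen_top X
  let R : Type u := Γ(Y, ⊤)
  let S : Type u := Γ(X, ⊤)
  let φ : Γ(Y, ⊤) ⟶ Γ(X, ⊤) := g.appLE ⊤ ⊤ le_top
  have hφ : φ = g.appTop := by
    simp only [φ, Scheme.Hom.appLE, Scheme.Hom.appTop]
    change g.app ⊤ ≫ X.presheaf.map (𝟙 _) = _
    rw [X.presheaf.map_id, Category.comp_id]
  let _ : Algebra R S := φ.hom.toAlgebra
  have hfin : Module.Finite R S := by
    have := g.finite_appTop
    rw [← hφ] at this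
    exact RingHom.finite_algebraMap.mp this
  let p : PrimeSpectrum R := hYa.primeIdealOf ⟨g.base x₀, trivial⟩
  let q : PrimeSpectrum S := hXa.primeIdealOf ⟨x₀, trivial⟩
  have hcomap : q.comap φ.hom = p :=
    IsAffineOpen.comap_primeIdealOf_appLE ⊤ hYa ⊤ hXa le_top trivial
  have hlies : q.asIdeal.LiesOver p.asIdeal := ⟨congr($(hcomap).asIdeal).symm⟩
  have hq : p.asIdeal.primesOver S = {q.asIdeal} := by
    ext q'
    simp only [Set.mem_singleton_iff]
    constructor
    · rintro ⟨hq'prime, hq'over⟩
      let Q : PrimeSpectrum S := ⟨q', hq'prime⟩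
      let x' : X := hXa.fromSpec.base Q
      have hx'Q : hXa.primeIdealOf ⟨x', trivial⟩ = Q := by
        apply hXa.fromSpec.isOpenEmbedding.injective
        exact hXa.fromSpec_primeIdealOf ⟨x', trivial⟩
      have h1 := IsAffineOpen.comap_primeIdealOf_appLE (f := g) (x := x') ⊤ hYa ⊤ hXa le_top trivial
      rw [hx'Q] at h1
      have h2 : Q.comap φ.hom = p := PrimeSpectrum.ext hq'over.over.symm
      have h3 : hYa.primeIdealOf ⟨g.base x', trivial⟩ = hYa.primeIdealOf ⟨g.base x₀, trivial⟩ :=
        h1.symm.trans h2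
      have h4 : g.base x' = g.base x₀ := by
        have := congrArg hYa.fromSpec.base h3
        rwa [hYa.fromSpec_primeIdealOf, hYa.fromSpec_primeIdealOf] at this
      have h5 := huniq x' h4
      have h6 : Q = q := by
        rw [← hx'Q]
        congr 2
      exact congr($(h6).asIdeal)
    · rintro rfl
      exact ⟨q.2, hlies⟩
  have e := IsAffineOpen.arrowStalkMapIso g ⊤ hYa ⊤ hXa le_top (x := x₀) trivial
  rw [RingHom.finite_respectsIso.arrow_mk_iso_iff e]
  let _ := Localization.AtPrime.algebraOfLiesOver p.asIdeal q.asIdeal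
  have hfin2 := Localization.finite_of_primesOver_eq_singleton hq
  exact hfin2

set_option backward.isDefEq.respectTransparency.types false in
theorem isFinite_morphismRestrict {X Y : Scheme.{u}} (π : X ⟶ Y) [IsFinite π] (U : Y.Opens) :
    IsFinite (π ∣_ U) := inferInstance

open AlgebraicGeometry CategoryTheory Limits in
/-- For a finite morphism π : X → Y and a point x of X that is the only point of its fibre, the induced
homomorphism of local rings O_{Y,π(x)} → O_{X,x} is finite. (The published lemma has further parts,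
not stated here.) -/
theorem result {X Y : Scheme.{u}} (π : X ⟶ Y) [IsFinite π] (x : X) (hx : ∀ x' : ↑X, π x' = π x → x' = x) :
    (π.stalkMap x).hom.Finite := by
  obtain ⟨U, hUaff, hxU⟩ : ∃ U : Y.Opens, IsAffineOpen U ∧ π.base x ∈ U := by
    obtain ⟨_, ⟨U, hU, rfl⟩, hyU, -⟩ :=
      Y.isBasis_affineOpens.exists_subset_of_mem_open (Set.mem_univ (π.base x)) isOpen_univ
    exact ⟨U, hU, hyU⟩
  have : IsAffine U := hUaff
  have := isFinite_morphismRestrict π U
  let x' : (π ⁻¹ᵁ U).toScheme := ⟨x, hxU⟩
  have huniq : ∀ z : (π ⁻¹ᵁ U).toScheme, (π ∣_ U).base z = (π ∣_ U).base x' → z = x' := by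
    intro z hz
    apply Subtype.ext
    apply hx
    have := congrArg Subtype.val hz
    exact (morphismRestrict_base_coe π U z).symm.trans (this.trans (morphismRestrict_base_coe π U x'))
  have h := finite_stalkMap_of_isAffine (π ∣_ U) x' huniq
  rwa [RingHom.finite_respectsIso.arrow_mk_iso_iff (morphismRestrictStalkMap π U x')] at h

end Groth.Agent.S0443
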