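import Groth.Statements.S0445
import Groth.Agent.Lib.Helper69.UnivHomeo2

set_option autoImplicit false
universe u
open FlatMor

namespace Groth.Agent.S0445
open Groth.Agent.Lib.Helper69 CategoryTheory CategoryTheory.Limits AlgebraicGeometry

open AlgebraicGeometry CategoryTheory Limits in
/-- Two morphisms over S into an S-scheme unramified over S which agree at a point and induce the same
map on residue fields there agree on an open neighbourhood of that point. -/
theorem result {X Y S : Scheme.{u}} (p : Y ⟶ S) [FormallyUnramified p] [LocallyOfFiniteType p] (f g : X ⟶ Y) (hfg : f ≫ p = g ≫ p)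
    (x : X) (h1 : f x = g x) (h2 : f.residueFieldMap x = (Y.residueFieldCongr h1).hom ≫ g.residueFieldMap x) :
    ∃ U : X.Opens, x ∈ U ∧ U.ι ≫ f = U.ι ≫ g := by
  have hdiag : IsOpenImmersion (pullback.diagonal p) := inferInstance
  obtain ⟨E, j, hj, hjfg, huniv⟩ := exists_open_equalizer p f g hfg
  have hz : X.fromSpecResidueField x ≫ f = X.fromSpecResidueField x ≫ g := by
    rw [← Scheme.Hom.SpecMap_residueFieldMap_fromSpecResidueField,
      ← Scheme.Hom.SpecMap_residueFieldMap_fromSpecResidueField, h2, Spec.map_comp,
      Category.assoc, Scheme.residueFieldCongr_fromSpecResidueField]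
  obtain ⟨z', hz'⟩ := huniv _ _ hz
  refine ⟨j.opensRange, ?_, ?_⟩
  · obtain ⟨s⟩ : Nonempty (Spec (X.residueField x)) := inferInstance
    refine ⟨z' s, ?_⟩
    rw [← Scheme.Hom.comp_apply, hz', Scheme.fromSpecResidueField_apply]
  · rw [← cancel_epi (j.isoOpensRange).hom]
    simp only [Scheme.Hom.isoOpensRange_hom_ι_assoc, hjfg]

end Groth.Agent.S0445
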