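import Groth.Statements.S0450
-- import your own Groth.Agent.* helpers here
import Groth.Agent.Lib.Helper23.FlatFibreDim
import Groth.Agent.Lib.Helper13.Chevalley

set_option autoImplicit false
universe u
open FlatMor

namespace Groth.Agent.S0450

open AlgebraicGeometry CategoryTheory Limits in
/-- A flat proper morphism locally of finite presentation that is finite over a dense open subset of the
target is finite (the source alternatively allows the open to be retrocompact instead of assuming
finite presentation; only this alternative is stated). -/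
theorem result {X S : Scheme.{u}} (f : X ⟶ S) [Flat f] [IsProper f] [LocallyOfFinitePresentation f] (U : S.Opens)
    (hU : Dense (U : Set ↑S)) [IsFinite (f ∣_ U)] : IsFinite f := by
  have hqc : QuasiCompact f := inferInstance
  have hlft : LocallyOfFiniteType f := inferInstance
  -- quasi-finite at points over `U`
  have hU1 : ∀ x : X, f x ∈ U → f.QuasiFiniteAt x := by
    intro x hx
    let x' : ↥(f ⁻¹ᵁ U) := ⟨x, hx⟩
    have h1 : ((f ⁻¹ᵁ U).ι ≫ f).QuasiFiniteAt x' ↔ f.QuasiFiniteAt ((f ⁻¹ᵁ U).ι x') :=
      Scheme.Hom.quasiFiniteAt_comp_iff_of_isOpenImmersion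
    rw [← morphismRestrict_ι f U] at h1
    exact h1.mp (Scheme.Hom.quasiFiniteAt_comp_iff.mpr ((f ∣_ U).quasiFiniteAt x'))
  -- the locus of positive dimensional fibres is open
  have hE : IsOpen {s : S | (0 : WithBot ℕ∞) < topologicalKrullDim (f.fiber s)} :=
    Groth.Agent.Lib.Helper23.FlatFibreDim.isOpen_lt_fibre_dim f 0
  have hEeq := Groth.Agent.Lib.Helper23.FlatFibreDim.image_lt_fibreDimAt_eq f (0 : WithBot ℕ∞)
  -- it misses `U`
  have hEU : ∀ s ∈ {s : S | (0 : WithBot ℕ∞) < topologicalKrullDim (f.fiber s)}, s ∉ U := by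
    intro s hs hsU
    rw [← hEeq] at hs
    obtain ⟨x, hx, rfl⟩ := hs
    have h0 := (Groth.Agent.Lib.Helper13.Chevalley.quasiFiniteAt_iff_fibreDimAt_eq_zero f x).mp
      (hU1 x hsU)
    rw [Set.mem_ofPred_eq, h0] at hx
    exact lt_irrefl _ hx
  have hEempty : {s : S | (0 : WithBot ℕ∞) < topologicalKrullDim (f.fiber s)} = ∅ := by
    by_contra hne
    obtain ⟨s, hs, hsU⟩ := hU.inter_open_nonempty _ hE (Set.nonempty_iff_ne_empty.mpr hne)
    exact hEU s hs hsU
  -- hence `f` is quasi-finite everywhere
  have hqf : ∀ x : X, f.QuasiFiniteAt x := by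
    intro x
    rw [Groth.Agent.Lib.Helper13.Chevalley.quasiFiniteAt_iff_fibreDimAt_eq_zero]
    refine le_antisymm (not_lt.mp fun hlt => ?_)
      (Groth.Agent.Lib.Helper23.FlatFibreDim.fibreDimAt_nonneg f x)
    have : f x ∈ {s : S | (0 : WithBot ℕ∞) < topologicalKrullDim (f.fiber s)} := by
      rw [← hEeq]
      exact ⟨x, hlt, rfl⟩
    rw [hEempty] at this
    exact this
  have hlqf : LocallyQuasiFinite f := by
    rw [← Scheme.Hom.quasiFiniteLocus_eq_top_iff]
    exact top_le_iff.mp fun x _ => hqf x
  exact IsFinite.of_isProper_of_locallyQuasiFinite f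

end Groth.Agent.S0450
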