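import Groth.Statements.S0456
import Groth.Agent.S0454
import Groth.Agent.S0464
import Groth.Agent.Lib.Helper5.RDerShift

set_option autoImplicit false
universe u
open CategoryTheory
open CohTop

namespace Groth.Agent.S0456

open Opposite CategoryTheory.Limits TopologicalSpace Groth.Agent.Lib.Helper5

/-- the direct image of the quotient map `I ⟶ I/F` is an epimorphism when `F` is flasque -/
lemma epi_push_g {X Y : TopCat.{u}} (f : X ⟶ Y) {S : ShortComplex (CohTop.Ab X)}
    (hS : S.ShortExact) [TopCat.Sheaf.IsFlasque S.X₁] : Epi ((CohTop.push f).map S.g) := by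
  have h : ∀ V : (Opens Y)ᵒᵖ, Epi (S.g.hom.app (op ((Opens.map f).obj V.unop))) := fun V =>
    TopCat.Sheaf.IsFlasque.epi_of_shortExact (U := (Opens.map f).obj V.unop) hS
  let φ : ((CohTop.push f).obj S.X₂).obj ⟶ ((CohTop.push f).obj S.X₃).obj :=
    ((CohTop.push f).map S.g).hom
  have h' : ∀ V : (Opens Y)ᵒᵖ, Epi (φ.app V) := fun V => h V
  have : Epi φ := NatTrans.epi_of_epi_app φ
  exact Sheaf.Hom.epi_of_presheaf_epi _ _ ((CohTop.push f).map S.g)

/-- For a continuous map f and a flasque abelian sheaf F on the source, R^(q+1) f_* F = 0. -/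
theorem result {X Y : TopCat.{u}} (f : X ⟶ Y) (F : CohTop.Ab X)
    [TopCat.Sheaf.IsFlasque F] (q : ℕ) : IsZero ((CohTop.Rpush f (q + 1)).obj F) := by
  have : PreservesFiniteLimits (CohTop.push f) := by
    have : (CohTop.push f).IsRightAdjoint :=
      (TopCat.Sheaf.pullbackPushforwardAdjunction AddCommGrpCat.{u} f).isRightAdjoint
    infer_instance
  induction q generalizing F with
  | zero =>
    have hS := S0464.sesInj_shortExact F
    have : TopCat.Sheaf.IsFlasque (S0464.sesInj F).X₁ := ‹TopCat.Sheaf.IsFlasque F›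
    exact isZero_rightDerived_one_X₁ (CohTop.push f) hS (epi_push_g f hS)
  | succ n ih =>
    have hS := S0464.sesInj_shortExact F
    have h1 : TopCat.Sheaf.IsFlasque (S0464.sesInj F).X₁ := ‹TopCat.Sheaf.IsFlasque F›
    have h2 : TopCat.Sheaf.IsFlasque (S0464.sesInj F).X₂ := S0454.result _
    have h3 : TopCat.Sheaf.IsFlasque (S0464.sesInj F).X₃ :=
      TopCat.Sheaf.IsFlasque.of_shortExact_of_isFlasque₁₂ hS
    exact isZero_rightDerived_succ_succ_X₁ (CohTop.push f) hS n (ih _)

end Groth.Agent.S0456
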