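import Groth.Statements.S0471
-- import your own Groth.Agent.* helpers here
import Groth.Agent.Lib.Lead.FreeSheaf
import Mathlib.Topology.Separation.Profinite
import Mathlib.Topology.Sheaves.LocallySurjective
import Mathlib.Topology.Sheaves.SheafCondition.UniqueGluing
import Mathlib.Algebra.Homology.DerivedCategory.Ext.ExactSequences

set_option autoImplicit false
universe u
open CategoryTheory
open CohTop

namespace Groth.Agent.S0471

open TopologicalSpace Opposite CategoryTheory.Limits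

variable {X : TopCat.{u}}

/-- Gluing two sections over disjoint opens. -/
lemma glue_disjoint (G : CohTop.Ab X) (A B : Opens X) (hAB : A ⊓ B = ⊥)
    (a : G.obj.obj (op A)) (b : G.obj.obj (op B)) :
    ∃ t : G.obj.obj (op (A ⊔ B)), G.obj.map (homOfLE (le_sup_left : A ≤ A ⊔ B)).op t = a ∧
      G.obj.map (homOfLE (le_sup_right : B ≤ A ⊔ B)).op t = b := by
  let Uf : Bool → Opens X := fun c => Bool.rec B A c
  let iUV : ∀ c, Uf c ⟶ A ⊔ B := fun c => homOfLE (by
    cases c
    · exact le_sup_right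
    · exact le_sup_left)
  have hcover : A ⊔ B ≤ iSup Uf := sup_le (le_iSup Uf true) (le_iSup Uf false)
  have hBA : B ⊓ A = ⊥ := by rw [inf_comm]; exact hAB
  have hsub : ∀ (T : Opens X), T = ⊥ → Subsingleton (G.obj.obj (op T)) := by
    intro T hT
    subst hT
    exact AddCommGrpCat.subsingleton_of_isZero (TopCat.Sheaf.isTerminalOfEmpty G).isZero
  let sf : ∀ c, G.obj.obj (op (Uf c)) := fun c =>
    Bool.rec (motive := fun c => G.obj.obj (op (Uf c))) b a c
  have hcompat : TopCat.Presheaf.IsCompatible G.obj Uf sf := by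
    intro c d
    cases c <;> cases d
    · rfl
    · have := hsub (B ⊓ A) hBA
      exact Subsingleton.elim _ _
    · have := hsub (A ⊓ B) hAB
      exact Subsingleton.elim _ _
    · rfl
  obtain ⟨t, ht, -⟩ := TopCat.Sheaf.existsUnique_gluing' G Uf (A ⊔ B) iUV hcover sf hcompat
  exact ⟨t, ht true, ht false⟩

/-- `q` lifts along `g` over the open `A`. -/
def L {I Q : CohTop.Ab X} (g : I ⟶ Q) (q : Q.obj.obj (op ⊤)) (A : Opens X) : Prop :=
  ∃ t : I.obj.obj (op A), g.hom.app (op A) t = Q.obj.map (homOfLE (le_top : A ≤ ⊤)).op q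

lemma L_mono {I Q : CohTop.Ab X} (g : I ⟶ Q) (q : Q.obj.obj (op ⊤)) {A B : Opens X}
    (hA : L g q A) (hBA : B ≤ A) : L g q B := by
  obtain ⟨t, ht⟩ := hA
  refine ⟨I.obj.map (homOfLE hBA).op t, ?_⟩
  have h1 := NatTrans.naturality_apply g.hom (homOfLE hBA).op t
  rw [h1, ht, ← ConcreteCategory.comp_apply, ← Functor.map_comp]
  rfl

lemma L_sup_disjoint {I Q : CohTop.Ab X} (g : I ⟶ Q) (q : Q.obj.obj (op ⊤)) {A B : Opens X}
    (hAB : A ⊓ B = ⊥) (hA : L g q A) (hB : L g q B) : L g q (A ⊔ B) := by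
  obtain ⟨a, ha⟩ := hA
  obtain ⟨b, hb⟩ := hB
  obtain ⟨t, hta, htb⟩ := glue_disjoint I A B hAB a b
  refine ⟨t, ?_⟩
  refine TopCat.Sheaf.eq_of_locally_eq₂ Q (homOfLE (le_sup_left : A ≤ A ⊔ B))
    (homOfLE (le_sup_right : B ≤ A ⊔ B)) le_rfl _ _ ?_ ?_
  · have h1 := NatTrans.naturality_apply g.hom (homOfLE (le_sup_left : A ≤ A ⊔ B)).op t
    rw [← h1, hta, ha, ← ConcreteCategory.comp_apply, ← Functor.map_comp]
    rfl
  · have h1 := NatTrans.naturality_apply g.hom (homOfLE (le_sup_right : B ≤ A ⊔ B)).op t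
    rw [← h1, htb, hb, ← ConcreteCategory.comp_apply, ← Functor.map_comp]
    rfl

lemma L_sup_of_isClosed {I Q : CohTop.Ab X} (g : I ⟶ Q) (q : Q.obj.obj (op ⊤)) {A W : Opens X}
    (hAc : IsClosed (A : Set X)) (hA : L g q A) (hW : L g q W) : L g q (A ⊔ W) := by
  let W' : Opens X := ⟨(W : Set X) \ A, W.isOpen.sdiff hAc⟩
  have hW'W : W' ≤ W := fun x hx => hx.1
  have hdisj : A ⊓ W' = ⊥ := by
    ext x
    simp only [Opens.coe_inf, Opens.coe_bot, Set.mem_inter_iff, Set.mem_empty_iff_false,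
      iff_false, not_and]
    intro h1 h2
    exact h2.2 h1
  have hsup : A ⊔ W ≤ A ⊔ W' := by
    intro x hx
    by_cases hxA : x ∈ A
    · exact (le_sup_left : A ≤ A ⊔ W') hxA
    · rcases hx with hx | hx
      · exact absurd hx hxA
      · exact (le_sup_right : W' ≤ A ⊔ W') ⟨hx, hxA⟩
  exact L_mono g q (L_sup_disjoint g q hdisj hA (L_mono g q hW hW'W)) hsup

lemma L_bot {I Q : CohTop.Ab X} (g : I ⟶ Q) (q : Q.obj.obj (op ⊤)) : L g q ⊥ := by
  refine ⟨0, ?_⟩
  have : Subsingleton (Q.obj.obj (op (⊥ : Opens X))) :=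
    AddCommGrpCat.subsingleton_of_isZero (TopCat.Sheaf.isTerminalOfEmpty Q).isZero
  exact Subsingleton.elim _ _

/-- On a profinite space, an epimorphism of abelian sheaves is surjective on global sections. -/
theorem surjective_top_of_epi [CompactSpace X] [T2Space X] [TotallyDisconnectedSpace X]
    {I Q : CohTop.Ab X} (g : I ⟶ Q) [Epi g] : Function.Surjective (g.hom.app (op ⊤)) := by
  intro q
  have hls : TopCat.Presheaf.IsLocallySurjective g.hom :=
    (TopCat.Sheaf.isLocallySurjective_iff_epi (F := I) (G := Q) g).2 ‹Epi g›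
  rw [TopCat.Presheaf.isLocallySurjective_iff] at hls
  -- local lifts on clopen neighbourhoods
  have hloc : ∀ x : X, ∃ W : Opens X, x ∈ W ∧ IsClosed (W : Set X) ∧ L g q W := by
    intro x
    obtain ⟨V, hVU, ⟨s, hs⟩, hxV⟩ := hls ⊤ q x (Set.mem_univ x)
    obtain ⟨W, hWclopen, hxW, hWV⟩ := compact_exists_isClopen_in_isOpen V.isOpen hxV
    refine ⟨⟨W, hWclopen.2⟩, hxW, hWclopen.1, ?_⟩
    have hLV : L g q V := ⟨s, hs⟩
    exact L_mono g q hLV hWV
  choose W hxW hWc hWL using hloc
  -- finite unions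
  have hfin : ∀ t : Finset X, IsClosed ((⨆ x ∈ t, W x : Opens X) : Set X) ∧
      L g q (⨆ x ∈ t, W x) := by
    intro t
    classical
    induction t using Finset.induction_on with
    | empty =>
      simp only [Finset.notMem_empty, not_false_eq_true, iSup_neg, iSup_bot]
      exact ⟨by simp, L_bot g q⟩
    | insert a t _ ih =>
      rw [Finset.iSup_insert]
      obtain ⟨ihc, ihL⟩ := ih
      refine ⟨?_, ?_⟩
      · rw [Opens.coe_sup]
        exact (hWc a).union ihc
      · rw [sup_comm]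
        exact L_sup_of_isClosed g q ihc ihL (hWL a)
  obtain ⟨t, ht⟩ := isCompact_univ.elim_finite_subcover (fun x => (W x : Set X))
    (fun x => (W x).isOpen) (fun x _ => Set.mem_iUnion.2 ⟨x, hxW x⟩)
  have htop : (⊤ : Opens X) ≤ ⨆ x ∈ t, W x := by
    intro x _
    have := ht (Set.mem_univ x)
    simp only [Set.mem_iUnion] at this
    obtain ⟨y, hy, hxy⟩ := this
    exact (le_iSup₂ (f := fun x _ => W x) y hy) hxy
  obtain ⟨s, hs⟩ := L_mono g q (hfin t).2 htop
  refine ⟨s, ?_⟩
  rw [hs]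
  change (Q.obj.map (𝟙 _)) q = q
  rw [Q.obj.map_id]
  rfl


/-- The constant sheaf `ℤ` on `X`. -/
noncomputable abbrev constZ (X : TopCat.{u}) : CohTop.Ab X :=
  (constantSheaf (Opens.grothendieckTopology X) AddCommGrpCat.{u}).obj
    (AddCommGrpCat.of (ULift ℤ))

/-- Morphisms out of the constant sheaf `ℤ` are global sections. -/
noncomputable def γ (F : CohTop.Ab X) : (constZ X ⟶ F) ≃ F.obj.obj (op ⊤) :=
  ((constantSheafAdj (Opens.grothendieckTopology X) AddCommGrpCat.{u}
      (isTerminalTop (α := Opens X))).homEquiv (AddCommGrpCat.of (ULift ℤ)) F).trans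
    (AddCommGrpCat.uliftZMultiplesAddEquiv _).toEquiv

theorem γ_naturality {F G : CohTop.Ab X} (f : F ⟶ G) (g : constZ X ⟶ F) :
    γ G (g ≫ f) = f.hom.app (op ⊤) (γ F g) := by
  dsimp only [γ, Equiv.trans_apply]
  rw [Adjunction.homEquiv_naturality_right]
  rfl


/-- If X is profinite (compact, Hausdorff, totally disconnected), then H^(p+1)(X, F) = 0 for every
abelian sheaf F. -/
theorem result {X : TopCat.{u}} [CompactSpace X] [T2Space X] [TotallyDisconnectedSpace X]
    (F : CohTop.Ab X) (p : ℕ) : Subsingleton (CohTop.H F (p + 1)) := by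
  have h := Groth.Agent.Lib.Lead.ext_succ_eq_zero (constZ X) (fun _ => True) (fun F _ => by
    let S : ShortComplex (CohTop.Ab X) :=
      ShortComplex.mk (Injective.ι F) (cokernel.π (Injective.ι F)) (by simp)
    have hS : S.ShortExact := { exact := ShortComplex.exact_cokernel _ }
    have hepi : Epi S.g := hS.epi_g
    refine ⟨S, hS, rfl, inferInstanceAs (Injective (Injective.under F)), trivial, fun ψ => ?_⟩
    obtain ⟨t, ht⟩ := surjective_top_of_epi S.g (γ S.X₃ ψ)
    refine ⟨(γ S.X₂).symm t, (γ S.X₃).injective ?_⟩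
    rw [γ_naturality, Equiv.apply_symm_apply, ht]) p F trivial
  exact subsingleton_of_forall_eq 0 h

end Groth.Agent.S0471
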