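import Groth.Statements.S0478
-- import your own Groth.Agent.* helpers here
import Groth.Agent.Lib.Helper32.KInjRes
import Groth.Agent.Lib.Helper32.DProdGen

set_option autoImplicit false
universe v u
open CategoryTheory
open CohDer

namespace Groth.Agent.S0478



open CategoryTheory.Limits in
/-- For a Grothendieck abelian category A the derived category D(A) has all products indexed by small
types. The published statement also computes them as termwise products of K-injective
representatives, which is not asserted here. -/
theorem result {A : Type u} [Category.{v} A] [Abelian A] [IsGrothendieckAbelian.{v} A]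
    [HasDerivedCategory.{v} A] : HasProducts.{v} (DerivedCategory A) := by
  open Groth.Agent.Lib.Helper32 in
  intro J
  constructor
  intro F
  have h : ∀ j : J, ∃ I : CochainComplex A ℤ, I.IsKInjective ∧
      Nonempty (DerivedCategory.Q.obj I ≅ F.obj ⟨j⟩) := by
    intro j
    obtain ⟨I, f, hI, hf, -, -⟩ :=
      KInjRes.exists_kInjective_resolution (DerivedCategory.Q.objPreimage (F.obj ⟨j⟩))
    exact ⟨I, hI, ⟨(asIso (DerivedCategory.Q.map f)).symm ≪≫
      DerivedCategory.Q.objObjPreimageIso (F.obj ⟨j⟩)⟩⟩
  have h2 : HasLimit (Discrete.functor (F.obj ∘ Discrete.mk)) :=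
    DProdGen.hasProduct_of_kInjective_reps (fun j => F.obj ⟨j⟩) h
  exact hasLimit_of_iso (Discrete.natIsoFunctor (F := F)).symm

end Groth.Agent.S0478
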