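import Groth.Statements.S0479
-- import your own Groth.Agent.* helpers here
import Groth.Agent.S12232
import Groth.Agent.Lib.Helper32.BrownMod
import Groth.Agent.Lib.Helper32.KInjDerived
import Groth.Agent.Lib.Helper32.KInjRes

set_option autoImplicit false
universe v u
open CategoryTheory
open CohDer

namespace Groth.Agent.S0479

open CategoryTheory.Limits Opposite

section Transfer

universe v₁ v₂ u₁ u₂

variable {T : Type u₁} [Category.{v₁} T] {T' : Type u₂} [Category.{v₂} T']
  {LF : T ⥤ T'} {RG : T' ⥤ T} (adj : LF ⊣ RG) [IsIso adj.counit]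
  (H : T'ᵒᵖ ⥤ AddCommGrpCat.{v})

omit [IsIso adj.counit] in
lemma map_comp_apply' {X Y Z : T'} (f : X ⟶ Y) (g : Y ⟶ Z) (z : H.obj (op Z)) :
    H.map (f ≫ g).op z = H.map f.op (H.map g.op z) := by
  rw [op_comp, H.map_comp]; rfl

omit [IsIso adj.counit] in
lemma map_id_apply' {X : T'} (z : H.obj (op X)) : H.map (𝟙 X).op z = z := by
  rw [op_id, H.map_id]; rfl

include adj in
/-- If `H ∘ LF` is represented by `M` (for a reflective localization `LF ⊣ RG`), then `H` is
represented by `LF M`. -/
theorem transfer (M : T) (x : H.obj (op (LF.obj M)))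
    (hM : ∀ Y : T, Function.Bijective (fun f : Y ⟶ M => H.map (LF.map f).op x)) :
    ∀ Z : T', Function.Bijective (fun g : Z ⟶ LF.obj M => H.map g.op x) := by
  -- `LF η` is an isomorphism with inverse `ε`
  have htri : LF.map (adj.unit.app M) ≫ adj.counit.app (LF.obj M) = 𝟙 _ :=
    adj.left_triangle_components M
  haveI : IsIso (LF.map (adj.unit.app M)) := by
    haveI : IsIso (LF.map (adj.unit.app M) ≫ adj.counit.app (LF.obj M)) := by
      rw [htri]; infer_instance
    exact IsIso.of_isIso_comp_right _ (adj.counit.app (LF.obj M))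
  have hε : adj.counit.app (LF.obj M) = inv (LF.map (adj.unit.app M)) := by
    rw [← cancel_epi (LF.map (adj.unit.app M)), htri, IsIso.hom_inv_id]
  -- a retraction of `η`
  obtain ⟨r, hr⟩ := (hM (RG.obj (LF.obj M))).2 (H.map (adj.counit.app (LF.obj M)).op x)
  have hr' : H.map (LF.map r).op x = H.map (adj.counit.app (LF.obj M)).op x := hr
  have hηr : adj.unit.app M ≫ r = 𝟙 M := by
    apply (hM M).1
    change H.map (LF.map (adj.unit.app M ≫ r)).op x = H.map (LF.map (𝟙 M)).op x
    rw [LF.map_comp, map_comp_apply', hr', ← map_comp_apply', htri, LF.map_id]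
    rfl
  have hLFr : LF.map r = adj.counit.app (LF.obj M) := by
    have h0 : LF.map (adj.unit.app M) ≫ LF.map r = 𝟙 _ := by
      rw [← LF.map_comp, hηr]
      exact LF.map_id M
    rw [hε]
    exact IsIso.eq_inv_of_hom_inv_id h0
  intro Z
  constructor
  · intro g g' hgg
    have hgg' : H.map g.op x = H.map g'.op x := hgg
    have key : ∀ g₀ : Z ⟶ LF.obj M, LF.map (RG.map g₀ ≫ r) = adj.counit.app Z ≫ g₀ := by
      intro g₀
      rw [LF.map_comp, hLFr]
      exact adj.counit.naturality g₀
    have h1 : RG.map g ≫ r = RG.map g' ≫ r := by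
      apply (hM (RG.obj Z)).1
      change H.map (LF.map (RG.map g ≫ r)).op x = H.map (LF.map (RG.map g' ≫ r)).op x
      rw [key, key, map_comp_apply', map_comp_apply', hgg']
    have h2 := congrArg LF.map h1
    rw [key, key] at h2
    exact (cancel_epi (adj.counit.app Z)).1 h2
  · intro z
    obtain ⟨f, hf⟩ := (hM (RG.obj Z)).2 (H.map (adj.counit.app Z).op z)
    have hf' : H.map (LF.map f).op x = H.map (adj.counit.app Z).op z := hf
    refine ⟨inv (adj.counit.app Z) ≫ LF.map f, ?_⟩
    change H.map (inv (adj.counit.app Z) ≫ LF.map f).op x = z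
    rw [map_comp_apply', hf', ← map_comp_apply', IsIso.inv_hom_id, map_id_apply']

end Transfer

open CategoryTheory.Limits CategoryTheory.Pretriangulated.Opposite in
/-- For A Grothendieck abelian, every cohomological functor from D(A)^op to abelian groups that turns
coproducts into products is of the form Hom(-, X) for some object X of D(A). -/
theorem result {A : Type u} [Category.{v} A] [Abelian A]
    [IsGrothendieckAbelian.{v} A] [HasDerivedCategory.{v} A]
    (H : (DerivedCategory A)ᵒᵖ ⥤ AddCommGrpCat.{v}) [H.IsHomological]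
    [∀ (ι : Type v), PreservesLimitsOfShape (Discrete ι) H] :
    (H ⋙ forget AddCommGrpCat.{v}).IsRepresentable := by
  let U : A := separator A
  have hU : IsSeparator U := isSeparator_separator A
  letI : HasDerivedCategory.{v + 1} (ModuleCat.{v} (End U)ᵐᵒᵖ) := HasDerivedCategory.standard _
  haveI : (IsGrothendieckAbelian.tensorObj U).Additive :=
    (IsGrothendieckAbelian.tensorObjPreadditiveCoyonedaObjAdjunction U).left_adjoint_additive
  haveI : PreservesFiniteLimits (IsGrothendieckAbelian.tensorObj U) :=
    IsGrothendieckAbelian.GabrielPopescu.preservesFiniteLimits U hU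
  haveI : PreservesFiniteColimits (IsGrothendieckAbelian.tensorObj U) := inferInstance
  have hC : Groth.Agent.Lib.Helper32.KInjDerived.HasKInjRes A := by
    intro K
    obtain ⟨I, f, hI, hf, -, -⟩ := Groth.Agent.Lib.Helper32.KInjRes.exists_kInjective_resolution K
    exact ⟨I, f, hI, hf⟩
  haveI : ((preadditiveCoyonedaObj U).mapHomotopyCategory (ComplexShape.up ℤ) ⋙
      DerivedCategory.Qh).HasRightDerivedFunctor
      (HomotopyCategory.quasiIso A (ComplexShape.up ℤ)) := by
    have := Groth.Agent.Lib.Helper32.KInjDerived.hasPointwiseLeftKanExtension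
      (Groth.Agent.Lib.Helper32.KInjDerived.hasTerminalArrows_Qh hC)
      ((preadditiveCoyonedaObj U).mapHomotopyCategory (ComplexShape.up ℤ) ⋙ DerivedCategory.Qh)
    rw [Functor.hasRightDerivedFunctor_iff _ DerivedCategory.Qh]
    infer_instance
  obtain ⟨⟨adj⟩, hfull, hfaith, -⟩ := Groth.Agent.S12232.result U hU
  haveI := hfull
  haveI := hfaith
  haveI : IsIso adj.counit := inferInstance
  haveI : PreservesColimitsOfSize.{v, v}
      (IsGrothendieckAbelian.tensorObj U).mapDerivedCategory := adj.leftAdjoint_preservesColimits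
  haveI : ∀ J : Type v, PreservesLimitsOfShape (Discrete J)
      (IsGrothendieckAbelian.tensorObj U).mapDerivedCategory.op := fun J =>
    preservesLimitsOfShape_op (Discrete J) _
  obtain ⟨M, x, hM⟩ := Groth.Agent.Lib.Helper32.BrownMod.brown_mod
    ((IsGrothendieckAbelian.tensorObj U).mapDerivedCategory.op ⋙ H)
  have htr := transfer adj H M x hM
  exact ⟨⟨(IsGrothendieckAbelian.tensorObj U).mapDerivedCategory.obj M,
    ⟨{ homEquiv := fun {Z} => Equiv.ofBijective _ (htr Z)
       homEquiv_comp := fun f g => map_comp_apply' H f g x }⟩⟩⟩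

end Groth.Agent.S0479
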