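import Groth.Statements.S0480
-- import your own Groth.Agent.* helpers here
import Mathlib.Algebra.Homology.Double
import Mathlib.CategoryTheory.Adjunction.PartialAdjoint
import Mathlib.CategoryTheory.Adjunction.Limits

set_option autoImplicit false
universe v u
open CategoryTheory
open CohDer

namespace Groth.Agent.S0480

/-- Evaluation of cochain complexes in degree `j` is a right adjoint. -/
lemma eval_isRightAdjoint {A : Type u} [Category.{v} A] [Abelian A] (j : ℤ) :
    (HomologicalComplex.eval A (ComplexShape.up ℤ) j).IsRightAdjoint := by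
  apply Functor.isRightAdjoint_of_leftAdjointObjIsDefined_eq_top
  ext X
  simp only [Functor.leftAdjointObjIsDefined_iff, Pi.top_apply, Prop.top_eq_true, iff_true]
  infer_instance

open CategoryTheory.Limits in
/-- In an abelian category, if the product of a family of K-injective cochain complexes exists (it is
then the termwise product), it is again K-injective. -/
theorem result {A : Type u} [Category.{v} A] [Abelian A] {T : Type v} (I : T → CochainComplex A ℤ)
    [HasProduct I] (h : ∀ t, (I t).IsKInjective) : (∏ᶜ I).IsKInjective := by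
  refine ⟨fun {K} f hK => ?_⟩
  have hadj : ∀ j : ℤ, (HomologicalComplex.eval A (ComplexShape.up ℤ) j).IsRightAdjoint :=
    fun j => eval_isRightAdjoint j
  have hlim : ∀ j : ℤ, IsLimit ((HomologicalComplex.eval A (ComplexShape.up ℤ) j).mapCone
      (limit.cone (Discrete.functor I))) := fun j => by
    haveI := hadj j
    exact isLimitOfPreserves _ (limit.isLimit _)
  let H : ∀ t, Homotopy (f ≫ Pi.π I t) 0 := fun t => ((h t).nonempty_homotopy_zero _ hK).some
  let hom : ∀ i j, K.X i ⟶ (∏ᶜ I).X j := fun i j =>
    (hlim j).lift ⟨K.X i, Discrete.natTrans (fun ⟨t⟩ => (H t).hom i j)⟩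
  have fac : ∀ i j t, hom i j ≫ (Pi.π I t).f j = (H t).hom i j :=
    fun i j t => (hlim j).fac _ ⟨t⟩
  have hext : ∀ (j : ℤ) {X : A} (a b : X ⟶ (∏ᶜ I).X j),
      (∀ t, a ≫ (Pi.π I t).f j = b ≫ (Pi.π I t).f j) → a = b :=
    fun j X a b hab => (hlim j).hom_ext (fun ⟨t⟩ => hab t)
  refine ⟨{ hom := hom, zero := ?_, comm := ?_ }⟩
  · intro i j hij
    apply hext
    intro t
    rw [fac, zero_comp, (H t).zero i j hij]
  · intro i
    apply hext
    intro t
    rw [HomologicalComplex.zero_f, add_zero, Preadditive.add_comp, ← dNext_comp_right,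
      ← prevD_comp_right]
    simp only [fac]
    have := (H t).comm i
    simpa using this

end Groth.Agent.S0480
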