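import Groth.Statements.S0482
import Groth.Agent.Lib.Helper28.SiteShriek2

set_option autoImplicit false
universe u
open CategoryTheory
open CohSite

open Groth.Agent.Lib.Helper28

namespace Groth.Agent.S0482

/-- For a sheaf of abelian groups F on a small site and an object U, H^n(U, F) (Ext out of the free
abelian sheaf on U) is isomorphic to the cohomology of the restriction of F to the site of objects
over U (existence of a group isomorphism). -/
theorem result {C : Type u} [SmallCategory C] (J : GrothendieckTopology C)
    (F : Sheaf J AddCommGrpCat.{u}) (U : C) (n : ℕ) :
    Nonempty (CohSite.HU F n U ≃+ Sheaf.H.{u} (F.over U) n) := by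
  exact ⟨HUEquivHOver U J F n⟩

end Groth.Agent.S0482
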