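import Groth.Statements.S0490
import Groth.Agent.Lib.Helper83.MVSq
import Mathlib.CategoryTheory.Adjunction.Comma
-- import your own Groth.Agent.* helpers here

set_option autoImplicit false
universe v u
open CategoryTheory
open CohDer

namespace Groth.Agent.S0490

open CategoryTheory.Pretriangulated in
/-- Let A be a full triangulated subcategory of a pretriangulated category D (an object property
containing zero, stable under shifts and closed under extensions). The inclusion A → D is a left
adjoint (i.e. has a right adjoint) if and only if every object X of D fits in a distinguished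
triangle A → X → B → A[1] with A in the subcategory and B right orthogonal to it. (The source's
further conclusions about saturation are not asserted.) -/
theorem result {D : Type u} [Category.{v} D] [Preadditive D] [Limits.HasZeroObject D] [HasShift D ℤ]
    [∀ n : ℤ, (shiftFunctor D n).Additive] [Pretriangulated D]
    (P : ObjectProperty D) [P.IsTriangulated] :
    P.ι.IsLeftAdjoint ↔ ∀ X : D, ∃ (A B : D) (f : A ⟶ X) (g : X ⟶ B) (h : B ⟶ (shiftFunctor D (1 : ℤ)).obj A),
      Triangle.mk f g h ∈ distinguishedTriangles ∧ P A ∧ P.rightOrthogonal B := by
  constructor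
  · intro hL X
    let G := P.ι.rightAdjoint
    let adj : P.ι ⊣ G := Adjunction.ofIsLeftAdjoint P.ι
    obtain ⟨B, g, h, hT⟩ := Pretriangulated.distinguished_cocone_triangle (adj.counit.app X)
    refine ⟨(G.obj X).obj, B, adj.counit.app X, g, h, hT, (G.obj X).property, ?_⟩
    refine Groth.Agent.Lib.Helper83.MV.obj₃_rightOrthogonal P _ hT (fun W hW => ?_)
    change Function.Bijective (fun x : W ⟶ (G.obj X).obj => x ≫ adj.counit.app X)
    constructor
    · intro x y hxy
      dsimp only at hxy
      have h1 : (adj.homEquiv ⟨W, hW⟩ X).symm (ObjectProperty.homMk x) =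
          (adj.homEquiv ⟨W, hW⟩ X).symm (ObjectProperty.homMk y) := by
        rw [Adjunction.homEquiv_counit, Adjunction.homEquiv_counit]
        exact hxy
      have h2 := (adj.homEquiv ⟨W, hW⟩ X).symm.injective h1
      exact congrArg (fun m => m.hom) h2
    · intro z
      refine ⟨(adj.homEquiv ⟨W, hW⟩ X z).hom, ?_⟩
      have := (adj.homEquiv ⟨W, hW⟩ X).symm_apply_apply z
      rw [Adjunction.homEquiv_counit] at this
      exact this
  · intro hX
    have : ∀ X : D, Limits.HasTerminal (CostructuredArrow P.ι X) := by
      intro X
      obtain ⟨A, B, f, g, h, hT, hA, hB⟩ := hX X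
      have hbij : ∀ (W : D), P W → Function.Bijective (fun x : W ⟶ A => x ≫ f) :=
        fun W hW => Groth.Agent.Lib.Helper83.MV.comp_mor₁_bijective P _ hT hB W hW
      choose u hu using fun (Z : CostructuredArrow P.ι X) =>
        (hbij Z.left.obj Z.left.property).2 Z.hom
      dsimp only at hu
      let T : CostructuredArrow P.ι X :=
        CostructuredArrow.mk (Y := (⟨A, hA⟩ : P.FullSubcategory)) f
      refine (Limits.IsTerminal.ofUniqueHom (Y := T) (fun Z => ?_) (fun Z m => ?_)).hasTerminal
      · exact CostructuredArrow.homMk (ObjectProperty.homMk (u Z)) (hu Z)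
      · apply CostructuredArrow.hom_ext
        apply ObjectProperty.hom_ext
        apply (hbij Z.left.obj Z.left.property).1
        exact (CostructuredArrow.w m).trans (hu Z).symm
    exact isLeftAdjoint_of_costructuredArrowTerminals _
end Groth.Agent.S0490
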