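import Groth.Statements.S0905
import Mathlib.CategoryTheory.Adjunction.Whiskering
import Mathlib.CategoryTheory.Sites.EpiMono
import Mathlib.Algebra.Homology.DerivedCategory.Ext.EnoughProjectives
import Mathlib.Algebra.Homology.ShortComplex.ExactFunctor

set_option autoImplicit false
universe u
open CategoryTheory
open CohSite

namespace Groth.Agent.S0905

open Opposite CategoryTheory.Limits

variable {C : Type u} [SmallCategory C] (J : GrothendieckTopology C) (U : C)

/-- sections over a weakly contractible object are surjective along epimorphisms of abelian sheaves -/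
lemma surjective_app_of_epi (hU : CohSite.IsWeaklyContractible J U)
    {E X : Sheaf J AddCommGrpCat.{u}} (e : E ⟶ X) [Epi e] :
    Function.Surjective (e.hom.app (op U)) := by
  have h1 : Sheaf.IsLocallySurjective e := (Sheaf.isLocallySurjective_iff_epi' _ e).2 inferInstance
  have h2 : Epi ((sheafCompose J (forget AddCommGrpCat.{u})).map e) := inferInstance
  exact hU _ _ _ h2

/-- the adjunction between presheaves of sets and abelian sheaves -/
noncomputable def freeAdj :
    (Functor.whiskeringRight Cᵒᵖ _ _).obj AddCommGrpCat.free.{u} ⋙ presheafToSheaf J AddCommGrpCat.{u} ⊣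
      sheafToPresheaf J AddCommGrpCat.{u} ⋙ (Functor.whiskeringRight Cᵒᵖ _ _).obj (forget AddCommGrpCat.{u}) :=
  (Adjunction.whiskerRight Cᵒᵖ AddCommGrpCat.adj).comp (sheafificationAdjunction J AddCommGrpCat.{u})

lemma projective_freeSheaf (hU : CohSite.IsWeaklyContractible J U) :
    Projective ((presheafToSheaf J AddCommGrpCat.{u}).obj (yoneda.obj U ⋙ AddCommGrpCat.free.{u})) := by
  constructor
  intro E X f e _
  let x : X.obj.obj (op U) := yonedaEquiv ((freeAdj J).homEquiv (yoneda.obj U) X f)
  obtain ⟨y, hy⟩ := surjective_app_of_epi J U hU e x
  refine ⟨((freeAdj J).homEquiv (yoneda.obj U) E).symm (yonedaEquiv.symm y), ?_⟩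
  apply ((freeAdj J).homEquiv (yoneda.obj U) X).injective
  rw [Adjunction.homEquiv_naturality_right, Equiv.apply_symm_apply]
  apply yonedaEquiv.injective
  rw [yonedaEquiv_comp, Equiv.apply_symm_apply]
  exact hy

open Opposite CategoryTheory.Limits in
/-- Parts (1) and (2), for a weakly contractible object U of a site (one over which every epimorphism of
sheaves of sets is surjective on sections): (1) the functor F ↦ F(U) from abelian sheaves to abelian
groups preserves finite colimits (it is exact, finite limits being automatic), and (2) H^p(U, F) = 0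
for every abelian sheaf F and every p > 0. (Part (3) about torsors is not included.) -/
theorem result {C : Type u} [SmallCategory C] (J : GrothendieckTopology C)
    (U : C) (hU : CohSite.IsWeaklyContractible J U) :
    PreservesFiniteColimits (sheafToPresheaf J AddCommGrpCat.{u} ⋙ (evaluation Cᵒᵖ AddCommGrpCat.{u}).obj (op U)) ∧
    ∀ (F : Sheaf J AddCommGrpCat.{u}) (p : ℕ), Subsingleton (CohSite.HU F (p + 1) U) := by
  constructor
  · rw [Functor.preservesFiniteColimits_iff_forall_exact_map_and_epi]
    intro S hS
    refine ⟨((Functor.preservesFiniteLimits_iff_forall_exact_map_and_mono _).1 inferInstance S hS).1, ?_⟩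
    have := hS.epi_g
    rw [AddCommGrpCat.epi_iff_surjective]
    exact surjective_app_of_epi J U hU S.g
  · intro F p
    have h := projective_freeSheaf J U hU
    exact @Abelian.Ext.subsingleton_of_projective _ _ _ _ _ F h p

end Groth.Agent.S0905
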