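import Groth.Statements.S0492
import Mathlib
import Groth.Agent.S0905
-- import your own Groth.Agent.* helpers here

set_option autoImplicit false
universe u
open CategoryTheory
open CohSite

namespace Groth.Agent.S0492

open CategoryTheory.Limits Opposite in
lemma surj_of_epi {C : Type u} [SmallCategory C] (J : GrothendieckTopology C) (U : C)
    (hU : CohSite.IsWeaklyContractible J U) {F G : Sheaf J AddCommGrpCat.{u}} (φ : F ⟶ G) [Epi φ] :
    Function.Surjective (φ.hom.app (op U)) := by
  haveI := (Groth.Agent.S0905.result J U hU).1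
  have h : Epi ((sheafToPresheaf J AddCommGrpCat.{u} ⋙
      (evaluation Cᵒᵖ AddCommGrpCat.{u}).obj (op U)).map φ) := inferInstance
  exact (AddCommGrpCat.epi_iff_surjective _).1 h

open CategoryTheory.Limits Opposite in
/-- elements of the sections of a product of sheaves with prescribed components -/
lemma exists_section {C : Type u} [SmallCategory C] (J : GrothendieckTopology C) (U : C)
    {α : Type u} (F : Discrete α ⥤ Sheaf J AddCommGrpCat.{u})
    (x : ∀ a : α, ((F.obj ⟨a⟩).obj.obj (op U) : Type u)) :
    ∃ t : ((limit F).obj.obj (op U) : Type u),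
      ∀ a, (limit.π F ⟨a⟩).hom.app (op U) t = x a := by
  let E := sheafToPresheaf J AddCommGrpCat.{u} ⋙ (evaluation Cᵒᵖ AddCommGrpCat.{u}).obj (op U) ⋙
    forget AddCommGrpCat.{u}
  have hl : IsLimit (E.mapCone (limit.cone F)) := isLimitOfPreserves E (limit.isLimit F)
  let s : (F ⋙ E).sections := ⟨fun j => x j.as, by
    rintro ⟨a⟩ ⟨b⟩ ⟨⟨h⟩⟩
    cases h
    simp⟩
  refine ⟨(Types.isLimitEquivSections hl).symm s, fun a => ?_⟩
  exact Types.isLimitEquivSections_symm_apply hl s ⟨a⟩

open CategoryTheory.Limits Opposite in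
lemma section_ext {C : Type u} [SmallCategory C] (J : GrothendieckTopology C) (U : C)
    {α : Type u} (F : Discrete α ⥤ Sheaf J AddCommGrpCat.{u})
    (t t' : ((limit F).obj.obj (op U) : Type u))
    (h : ∀ a, (limit.π F ⟨a⟩).hom.app (op U) t = (limit.π F ⟨a⟩).hom.app (op U) t') : t = t' := by
  let E := sheafToPresheaf J AddCommGrpCat.{u} ⋙ (evaluation Cᵒᵖ AddCommGrpCat.{u}).obj (op U) ⋙
    forget AddCommGrpCat.{u}
  have hl : IsLimit (E.mapCone (limit.cone F)) := isLimitOfPreserves E (limit.isLimit F)
  apply (Types.isLimitEquivSections hl).injective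
  ext ⟨a⟩
  exact h a

open CategoryTheory.Limits in
/-- Part (4), for sheaves of abelian groups: let B be a set of weakly contractible objects of a small
site such that every object admits a covering family by members of B. Then products in the category
of abelian sheaves are exact (Grothendieck's AB4*). -/
theorem result {C : Type u} [SmallCategory C] (J : GrothendieckTopology C)
    (B : Set C) (hB : ∀ U ∈ B, CohSite.IsWeaklyContractible J U)
    (hcov : ∀ V : C, ∃ (ι : Type u) (U : ι → C) (f : ∀ i, U i ⟶ V), (∀ i, U i ∈ B) ∧ Sieve.ofArrows U f ∈ J V) :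
    AB4Star (Sheaf J AddCommGrpCat.{u}) := by

  refine ⟨fun α => ?_⟩
  haveI : (lim (J := Discrete α) (C := Sheaf J AddCommGrpCat.{u})).PreservesEpimorphisms := by
    refine ⟨fun {F G} φ hφ => ?_⟩
    have hφa : ∀ a, Epi (φ.app a) := (NatTrans.epi_iff_epi_app φ).1 hφ
    change Epi (limMap φ)
    haveI : Sheaf.IsLocallySurjective (limMap φ) := by
      refine ⟨fun {V} s => ?_⟩
      obtain ⟨ι, U, f, hUB, hcovV⟩ := hcov V
      refine J.superset_covering ?_ hcovV
      rintro W g ⟨Y, h, g', ⟨i⟩, rfl⟩
      apply Sieve.downward_closed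
      -- now show `f i` is in the image sieve
      have hs : ∀ a, ∃ y : ((F.obj ⟨a⟩).obj.obj (Opposite.op (U i)) : Type u),
          (φ.app ⟨a⟩).hom.app (Opposite.op (U i)) y =
            (limit.π G ⟨a⟩).hom.app (Opposite.op (U i)) ((limit G).obj.map (f i).op s) := by
        intro a
        haveI := hφa ⟨a⟩
        exact surj_of_epi J (U i) (hB _ (hUB i)) (φ.app ⟨a⟩) _
      choose y hy using hs
      obtain ⟨t, ht⟩ := exists_section J (U i) F y
      refine ⟨t, ?_⟩
      apply section_ext J (U i) G
      intro a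
      rw [← hy a, ← ht a]
      have := limMap_π φ ⟨a⟩
      exact congrArg (fun (ψ : limit F ⟶ G.obj ⟨a⟩) => ψ.hom.app (Opposite.op (U i)) t) this
    infer_instance
  exact hasExactLimitsOfShape_of_preservesEpi _ _
end Groth.Agent.S0492
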