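import Groth.Statements.S0494
import Groth.Agent.S0462
import Groth.Agent.Lib.Helper5.FourTerm

set_option autoImplicit false
universe u
open CohTop

namespace Groth.Agent.S0494

open CategoryTheory Opposite CategoryTheory.Limits TopologicalSpace Abelian Groth.Agent.Lib.Helper5
  Groth.Agent.Lib.Helper83 Groth.Agent.S0459 Groth.Agent.S0462

variable {X Y : TopCat.{u}} (f : X ⟶ Y)

/-- the acyclicity hypothesis on the higher direct images -/
def Hyp (F : Ab X) : Prop :=
  ∀ p q : ℕ, Subsingleton (Ext.{u} (cZ Y) ((CohTop.Rpush f q).obj F) (p + 1))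

/-- global sections of abelian sheaves on `Y` -/
noncomputable abbrev Γ (Y : TopCat.{u}) : Ab Y ⥤ AddCommGrpCat.{u} :=
  sheafToPresheaf _ _ ⋙ (evaluation _ _).obj (op ⊤)

/-- isomorphic sheaves have isomorphic groups of global sections -/
noncomputable def sectionsEquiv {G G' : Ab Y} (e : G ≅ G') :
    G.obj.obj (op ⊤) ≃+ G'.obj.obj (op ⊤) :=
  ((Γ Y).mapIso e).addCommGroupIsoToAddEquiv

section

variable (F : Ab X)

lemma push_exact_mono :
    ((S0464.sesInj F).map (CohTop.push f)).Exact ∧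
      Mono ((CohTop.push f).map (S0464.sesInj F).f) :=
  (Functor.preservesFiniteLimits_iff_forall_exact_map_and_mono (CohTop.push f)).1
    inferInstance _ (S0464.sesInj_shortExact F)

instance : Injective ((CohTop.push f).obj (S0464.sesInj F).X₂) :=
  S0904.result f (S0464.sesInj F).X₂

lemma hyp_sesInj_X₃ (hF : Hyp f F) : Hyp f (S0464.sesInj F).X₃ := by
  have hS := S0464.sesInj_shortExact F
  intro p q
  cases q with
  | zero =>
    obtain ⟨π, w, hex, hπ⟩ := exact_and_epi_toRightDerivedOne (CohTop.push f) hS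
    have hm := push_exact_mono f F
    have : Mono ((CohTop.push f).map (S0464.sesInj F).f) := hm.2
    have h0 := hF (p + 1) 0
    have : Subsingleton (Ext.{u} (cZ Y) ((CohTop.push f).obj (S0464.sesInj F).X₁) (p + 2)) :=
      subsingleton_ext_of_iso ((CohTop.push f).rightDerivedZeroIsoSelf.app F) (cZ Y) (p + 2)
    have : Subsingleton (Ext.{u} (cZ Y) ((CohTop.Rpush f 1).obj (S0464.sesInj F).X₁) (p + 1)) :=
      hF p 1
    have h1 : Subsingleton (Ext.{u} (cZ Y) ((CohTop.push f).obj (S0464.sesInj F).X₃) (p + 1)) :=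
      fourTerm_subsingleton_ext ((CohTop.push f).map (S0464.sesInj F).f)
        ((CohTop.push f).map (S0464.sesInj F).g) π
        (by rw [← Functor.map_comp, (S0464.sesInj F).zero, Functor.map_zero]) w hm.1 hex (cZ Y) p
    exact subsingleton_ext_of_iso
      ((CohTop.push f).rightDerivedZeroIsoSelf.app (S0464.sesInj F).X₃).symm (cZ Y) (p + 1)
  | succ q =>
    have := isIso_δ_of_injective (CohTop.push f) hS q
    have : Subsingleton (Ext.{u} (cZ Y)
        (((CohTop.push f).rightDerived (q + 2)).obj (S0464.sesInj F).X₁) (p + 1)) := hF p (q + 2)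
    exact subsingleton_ext_of_iso
      (asIso ((derivedLES (CohTop.push f)).δ _ hS (q + 1) (q + 2) rfl)).symm (cZ Y) (p + 1)

/-- degree `1` -/
lemma base1 (hF : Hyp f F) :
    Nonempty (Ext.{u} (cZ X) F 1 ≃+ ((CohTop.Rpush f 1).obj F).obj.obj (op ⊤)) := by
  have hS := S0464.sesInj_shortExact F
  obtain ⟨π, w, hex, hπ⟩ := exact_and_epi_toRightDerivedOne (CohTop.push f) hS
  have hm := push_exact_mono f F
  have : Mono ((CohTop.push f).map (S0464.sesInj F).f) := hm.2
  have w₁ : (CohTop.push f).map (S0464.sesInj F).f ≫ (CohTop.push f).map (S0464.sesInj F).g = 0 := by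
    rw [← Functor.map_comp, (S0464.sesInj F).zero, Functor.map_zero]
  have : Subsingleton (Ext.{u} (cZ Y) ((CohTop.push f).obj (S0464.sesInj F).X₁) 1) := by
    have := hF 0 0
    exact subsingleton_ext_of_iso ((CohTop.push f).rightDerivedZeroIsoSelf.app F) (cZ Y) 1
  have : Subsingleton (Ext.{u} (cZ Y) ((CohTop.push f).obj (S0464.sesInj F).X₁) 2) := by
    have := hF 1 0
    exact subsingleton_ext_of_iso ((CohTop.push f).rightDerivedZeroIsoSelf.app F) (cZ Y) 2
  let gW : (S0464.sesInj F).X₂.obj.obj (op ⊤) →+ (S0464.sesInj F).X₃.obj.obj (op ⊤) :=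
    ((S0464.sesInj F).g.hom.app (op ⊤)).hom
  let g₂ : (S0464.sesInj F).X₃.obj.obj (op ⊤) →+ ((CohTop.Rpush f 1).obj F).obj.obj (op ⊤) :=
    (π.hom.app (op ⊤)).hom
  have hg₂ : Function.Surjective g₂ := by
    intro d
    obtain ⟨φ, hφ⟩ := fourTerm_hom_surjective ((CohTop.push f).map (S0464.sesInj F).f)
      ((CohTop.push f).map (S0464.sesInj F).g) π w₁ w hm.1 hex (cZ Y) ((γAdd _).symm d)
    refine ⟨γAdd ((CohTop.push f).obj (S0464.sesInj F).X₃) φ, ?_⟩
    change π.hom.app (op ⊤) (γAdd ((CohTop.push f).obj (S0464.sesInj F).X₃) φ) = d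
    rw [← γAdd_naturality, hφ, AddEquiv.apply_symm_apply]
  have hk₂ : g₂.ker = gW.range := by
    ext c
    rw [AddMonoidHom.mem_ker, AddMonoidHom.mem_range]
    constructor
    · intro hc
      have hc' : π.hom.app (op ⊤) c = 0 := hc
      have h0 : (γAdd ((CohTop.push f).obj (S0464.sesInj F).X₃)).symm c ≫ π = 0 := by
        rw [← γAdd_symm_naturality, hc', map_zero]
      obtain ⟨b, hb⟩ := fourTerm_hom_exact ((CohTop.push f).map (S0464.sesInj F).f)
        ((CohTop.push f).map (S0464.sesInj F).g) π w₁ w hm.1 hex (cZ Y) _ h0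
      refine ⟨γAdd ((CohTop.push f).obj (S0464.sesInj F).X₂) b, ?_⟩
      have h1 := γAdd_naturality ((CohTop.push f).map (S0464.sesInj F).g) b
      rw [hb, AddEquiv.apply_symm_apply] at h1
      exact h1.symm
    · rintro ⟨t, rfl⟩
      have h1 := congrArg (fun φ => φ.hom.app (op ⊤)) w
      exact ConcreteCategory.congr_hom h1 t
  exact ⟨S0464.addEquivOfKerEq (bdry hS) g₂ (bdry_surjective hS) hg₂
    ((bdry_ker hS).trans hk₂.symm)⟩

end

/-- the comparison in all degrees -/
theorem main (q : ℕ) (F : Ab X) (hF : Hyp f F) :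
    Nonempty (Ext.{u} (cZ X) F q ≃+ ((CohTop.Rpush f q).obj F).obj.obj (op ⊤)) := by
  cases q with
  | zero =>
    exact ⟨(Ext.addEquiv₀.trans (γAdd F)).trans
      (sectionsEquiv ((CohTop.push f).rightDerivedZeroIsoSelf.app F).symm)⟩
  | succ q =>
    induction q generalizing F with
    | zero => exact base1 f F hF
    | succ n ih =>
      have hS := S0464.sesInj_shortExact F
      obtain ⟨e⟩ := ih _ (hyp_sesInj_X₃ f F hF)
      have hiso : IsIso ((derivedLES (CohTop.push f)).δ _ hS (n + 1) (n + 2) rfl) :=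
        isIso_δ_of_injective (CohTop.push f) hS n
      exact ⟨((extShiftAddEquiv hS (cZ X) n).symm.trans e).trans
        (sectionsEquiv (@asIso _ _ _ _ _ hiso))⟩

open Opposite in
/-- If H^p(Y, R^q f_* F) = 0 for all q and all p > 0, then H^q(X, F) ≅ Γ(Y, R^q f_* F) for every q
(existence of a group isomorphism). -/
theorem result {X Y : TopCat.{u}} (f : X ⟶ Y) (F : CohTop.Ab X)
    (h : ∀ p q : ℕ, Subsingleton (CohTop.H ((CohTop.Rpush f q).obj F) (p + 1))) (q : ℕ) :
    Nonempty (CohTop.H F q ≃+ ((CohTop.Rpush f q).obj F).obj.obj (op ⊤)) := by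
  exact main f q F h

end Groth.Agent.S0494
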