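import Groth.Statements.S0496
import Groth.Agent.Lib.Helper3.HenselRoot
import Groth.Agent.Lib.Helper3.Henselian2

set_option autoImplicit false
universe u
open Hensel

namespace Groth.Agent.S0496

open Groth.Agent.Lib.Helper3 Polynomial IsLocalRing

theorem aeval_mem_map_of_map_eq_zero {R : Type*} [CommRing R] [IsLocalRing R] {B : Type*}
    [CommRing B] [Algebra R B] (x : B) (p : R[X]) (hp : p.map (residue R) = 0) :
    aeval x p ∈ Ideal.map (algebraMap R B) (maximalIdeal R) := by
  rw [aeval_eq_sum_range]
  refine Ideal.sum_mem _ (fun i _ => ?_)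
  rw [Algebra.smul_def]
  refine Ideal.mul_mem_right _ _ (Ideal.mem_map_of_mem _ ?_)
  rw [← residue_eq_zero_iff, ← coeff_map, hp, coeff_zero]

/-- If every factorization of the reduction of a monic polynomial into two coprime factors over the
residue field lifts to a factorization over the local ring, then the local ring is henselian. -/
theorem result (R : Type u) [CommRing R] [IsLocalRing R]
    (h : ∀ f : Polynomial R, f.Monic →
      ∀ g₀ h₀ : Polynomial (IsLocalRing.ResidueField R), IsCoprime g₀ h₀ →
      Polynomial.map (IsLocalRing.residue R) f = g₀ * h₀ →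
      ∃ g h : Polynomial R, f = g * h ∧ Polynomial.map (IsLocalRing.residue R) g = g₀ ∧
        Polynomial.map (IsLocalRing.residue R) h = h₀) :
    HenselianLocalRing R := by
  refine ((HenselianLocalRing.TFAE R).out 1 0).mp ?_
  intro f hf ab₀ h₁ h₂
  obtain ⟨a₀, rfl⟩ := residue_surjective ab₀
  have hfin : Module.Finite R (AdjoinRoot f) := hf.finite_adjoinRoot
  have hfree : Module.Free R (AdjoinRoot f) := hf.free_adjoinRoot
  have hint : Algebra.IsIntegral R (AdjoinRoot f) := inferInstance
  have h₁' : f.eval a₀ ∈ maximalIdeal R := by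
    rw [← residue_eq_zero_iff, ← aeval_residue]; exact h₁
  have h₂' : IsUnit (f.derivative.eval a₀) := by
    rw [aeval_residue] at h₂
    have : f.derivative.eval a₀ ∉ maximalIdeal R := by
      rw [← residue_eq_zero_iff]; exact h₂
    rwa [mem_maximalIdeal, mem_nonunits_iff, not_not] at this
  -- factor the reduction
  set fb : (ResidueField R)[X] := f.map (residue R) with hfb
  have haeval : ∀ p : R[X], aeval (residue R a₀) p = (p.map (residue R)).eval (residue R a₀) := by
    intro p
    rw [aeval_def, eval_map, ResidueField.algebraMap_eq]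
  have hroot : fb.IsRoot (residue R a₀) := by
    rw [IsRoot, ← haeval]; exact h₁
  set h₀ : (ResidueField R)[X] := fb /ₘ (X - C (residue R a₀)) with hh₀
  have hfac : (X - C (residue R a₀)) * h₀ = fb := mul_divByMonic_eq_iff_isRoot.mpr hroot
  have hh₀a : h₀.eval (residue R a₀) ≠ 0 := by
    have h3 : (derivative fb).eval (residue R a₀) ≠ 0 := by
      rw [hfb, derivative_map, ← haeval]; exact h₂
    rw [← hfac] at h3
    simpa [derivative_mul] using h3
  have hcop : IsCoprime (X - C (residue R a₀)) h₀ := by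
    rw [(irreducible_X_sub_C (residue R a₀)).coprime_iff_not_dvd, dvd_iff_isRoot]
    exact hh₀a
  obtain ⟨g, hh, hfgh, hg, hhh⟩ := h f hf _ _ hcop hfac.symm
  -- work in `B = R[X]/(f)`
  set x := AdjoinRoot.root f with hx
  have hfx : aeval x f = 0 := by rw [AdjoinRoot.aeval_eq, AdjoinRoot.mk_self]
  have hgh0 : aeval x g * aeval x hh = 0 := by rw [← map_mul, ← hfgh, hfx]
  have hjac := map_maximalIdeal_le_jacobson_bot (R := R) (B := AdjoinRoot f)
  -- comaximality via Nakayama
  obtain ⟨u, v, huv⟩ := hcop
  obtain ⟨ul, hul⟩ := map_surjective (residue R) residue_surjective u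
  obtain ⟨vl, hvl⟩ := map_surjective (residue R) residue_surjective v
  have hw : (ul * g + vl * hh - 1).map (residue R) = 0 := by
    rw [Polynomial.map_sub, Polynomial.map_add, Polynomial.map_mul, Polynomial.map_mul,
      Polynomial.map_one, hul, hvl, hg, hhh, huv, sub_self]
  have hμ := aeval_mem_map_of_map_eq_zero x _ hw
  have hunit : IsUnit (aeval x ul * aeval x g + aeval x vl * aeval x hh) := by
    have h5 : aeval x ul * aeval x g + aeval x vl * aeval x hh =
        1 + aeval x (ul * g + vl * hh - 1) := by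
      simp only [map_sub, map_add, map_mul, map_one]; ring
    rw [h5]
    exact isUnit_add_of_mem_jacobson_bot isUnit_one (hjac hμ)
  obtain ⟨w, hw'⟩ := hunit
  -- `a * g(x) + b * h(x) = 1`
  set a := (↑w⁻¹ : AdjoinRoot f) * aeval x ul with ha
  set b := (↑w⁻¹ : AdjoinRoot f) * aeval x vl with hb
  have hab : a * aeval x g + b * aeval x hh = 1 := by
    rw [ha, hb]
    have : (↑w⁻¹ : AdjoinRoot f) * (w : AdjoinRoot f) = 1 := w.inv_mul
    rw [hw'] at this
    linear_combination this
  set e := b * aeval x hh with he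
  have hidem : IsIdempotentElem e := by
    show e * e = e
    have h6 : e = 1 - a * aeval x g := by rw [he]; linear_combination hab
    have h7 : e * (a * aeval x g) = 0 := by
      rw [he]; linear_combination (a * b) * hgh0
    calc e * e = e * (1 - a * aeval x g) := by rw [← h6]
      _ = e - e * (a * aeval x g) := by ring
      _ = e := by rw [h7, sub_zero]
  let ev : AdjoinRoot f →ₐ[R] ResidueField R :=
    AdjoinRoot.liftAlgHom f (Algebra.ofId R (ResidueField R)) (residue R a₀) (by
      rw [← h₁, aeval_def]; rfl)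
  have hev : ev x = residue R a₀ := AdjoinRoot.liftAlgHom_root _ _ _ _
  have hevp : ∀ p : R[X], ev (aeval x p) = (p.map (residue R)).eval (residue R a₀) := by
    intro p
    rw [← aeval_algHom_apply, hev, haeval]
  have hevg : ev (aeval x g) = 0 := by rw [hevp, hg]; simp
  have hee : ev e = 1 := by
    have h13 := congrArg ev hab
    rw [map_add, map_mul ev a, hevg, mul_zero, zero_add, map_one] at h13
    exact h13
  have hevsurj : Function.Surjective ev := by
    intro y
    obtain ⟨r, rfl⟩ := residue_surjective y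
    exact ⟨algebraMap R _ r, by rw [AlgHom.commutes]; rfl⟩
  have hmax : (RingHom.ker ev.toRingHom).IsMaximal :=
    RingHom.ker_isMaximal_of_surjective ev.toRingHom hevsurj
  have hloc : ∀ 𝔮 : Ideal (AdjoinRoot f), 𝔮.IsMaximal → e ∉ 𝔮 → 𝔮 = RingHom.ker ev.toRingHom := by
    intro 𝔮 h𝔮 he𝔮
    symm
    refine hmax.eq_of_le h𝔮.ne_top ?_
    have hm𝔮 : Ideal.map (algebraMap R (AdjoinRoot f)) (maximalIdeal R) ≤ 𝔮 := by
      refine hjac.trans ?_
      rw [Ideal.jacobson]
      exact sInf_le ⟨bot_le, h𝔮⟩
    -- `g(x) ∈ 𝔮`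
    have hg𝔮 : aeval x g ∈ 𝔮 := by
      have : aeval x g * aeval x hh ∈ 𝔮 := by rw [hgh0]; exact 𝔮.zero_mem
      rcases h𝔮.isPrime.mem_or_mem this with h8 | h8
      · exact h8
      · exact absurd (𝔮.mul_mem_left b h8) he𝔮
    -- `x - a₀ ∈ 𝔮`
    have hxa : x - algebraMap R _ a₀ ∈ 𝔮 := by
      have h9 : (g - (X - C a₀)).map (residue R) = 0 := by
        rw [Polynomial.map_sub, hg, Polynomial.map_sub, map_X, map_C, sub_self]
      have h10 := hm𝔮 (aeval_mem_map_of_map_eq_zero x _ h9)
      have h11 : x - algebraMap R _ a₀ = aeval x g - aeval x (g - (X - C a₀)) := by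
        simp only [map_sub, aeval_X, aeval_C]; ring
      rw [h11]
      exact 𝔮.sub_mem hg𝔮 h10
    intro y hy
    obtain ⟨p, rfl⟩ := AdjoinRoot.mk_surjective y
    rw [← AdjoinRoot.aeval_eq]
    have hy' : ev (aeval x p) = 0 := by
      rw [← AdjoinRoot.aeval_eq] at hy; exact hy
    rw [← aeval_algHom_apply, hev, aeval_residue, residue_eq_zero_iff] at hy'
    have hdvd : x - algebraMap R (AdjoinRoot f) a₀ ∣
        aeval x p - aeval (algebraMap R (AdjoinRoot f) a₀) p := by
      rw [aeval_def, aeval_def, ← eval_map, ← eval_map]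
      exact sub_dvd_eval_sub _ _ _
    obtain ⟨z, hz⟩ := hdvd
    have h12 : aeval x p = (x - algebraMap R _ a₀) * z + algebraMap R _ (p.eval a₀) := by
      rw [← hz, aeval_algebraMap_apply, coe_aeval_eq_eval]; ring
    rw [h12]
    exact 𝔮.add_mem (𝔮.mul_mem_right _ hxa) (hm𝔮 (Ideal.mem_map_of_mem _ hy'))
  exact exists_root_of_idempotent x AdjoinRoot.adjoinRoot_eq_top f hfx a₀ h₁' h₂' ev hev e hidem
    (by rw [hee]; exact one_ne_zero) hloc

end Groth.Agent.S0496
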