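import Groth.Statements.S0498
import Mathlib

set_option autoImplicit false
universe u
open Hensel

namespace Groth.Agent.S0498

open Polynomial IsLocalRing

/-- The auxiliary monic polynomial `Xⁿ + Σ_{i<n} c_{i+1} c₀ⁱ X^{n-1-i}`. -/
noncomputable def auxPoly {R : Type*} [CommRing R] (c : ℕ → R) (n : ℕ) : R[X] :=
  X ^ n + ∑ i ∈ Finset.range n, C (c (i + 1) * c 0 ^ i) * X ^ (n - 1 - i)

theorem auxPoly_monic {R : Type*} [CommRing R] (c : ℕ → R) (n : ℕ) : (auxPoly c n).Monic := by
  nontriviality R
  apply monic_X_pow_add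
  refine lt_of_le_of_lt (degree_sum_le _ _) ?_
  refine (Finset.sup_lt_iff (WithBot.bot_lt_coe n)).mpr ?_
  intro i hi
  rw [Finset.mem_range] at hi
  refine lt_of_le_of_lt (degree_C_mul_X_pow_le _ _) ?_
  have h3 : n - 1 - i < n := by omega
  exact Nat.cast_lt.mpr h3

theorem auxPoly_eval {R : Type*} [CommRing R] (c : ℕ → R) (n : ℕ) (u : R) :
    (auxPoly c n).eval u = u ^ n + ∑ i ∈ Finset.range n, c (i + 1) * c 0 ^ i * u ^ (n - 1 - i) := by
  simp [auxPoly, eval_finsetSum]

/-- Key identity: `uⁿ · Σ_{i ≤ n} cᵢ (c₀ v)ⁱ = c₀ · H(u)` when `u v = 1`. -/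
theorem key_identity {R : Type*} [CommRing R] (c : ℕ → R) (n : ℕ) (u v : R) (huv : u * v = 1) :
    u ^ n * ∑ i ∈ Finset.range (n + 1), c i * (c 0 * v) ^ i = c 0 * (auxPoly c n).eval u := by
  rw [auxPoly_eval, Finset.sum_range_succ']
  have hS : u ^ n * ∑ k ∈ Finset.range n, c (k + 1) * (c 0 * v) ^ (k + 1) =
      c 0 * ∑ i ∈ Finset.range n, c (i + 1) * c 0 ^ i * u ^ (n - 1 - i) := by
    rw [Finset.mul_sum, Finset.mul_sum]
    apply Finset.sum_congr rfl
    intro i hi
    rw [Finset.mem_range] at hi
    have h1 : u ^ n = u ^ (n - 1 - i) * u ^ (i + 1) := by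
      rw [← pow_add]; congr 1; omega
    have h2 : u ^ (i + 1) * v ^ (i + 1) = 1 := by rw [← mul_pow, huv, one_pow]
    rw [h1, mul_pow]
    linear_combination (c (i + 1) * c 0 ^ (i + 1) * u ^ (n - 1 - i)) * h2
  rw [mul_add, hS]
  ring

/-- Over a henselian local ring, a simple root in the residue field of the reduction of an arbitrary
polynomial (monic or not) lifts to a root in the ring. -/
theorem result (R : Type u) [CommRing R] [HenselianLocalRing R]
    (f : Polynomial R) (a₀ : IsLocalRing.ResidueField R)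
    (h₁ : Polynomial.eval₂ (IsLocalRing.residue R) a₀ f = 0)
    (h₂ : Polynomial.eval₂ (IsLocalRing.residue R) a₀ (Polynomial.derivative f) ≠ 0) :
    ∃ a : R, Polynomial.IsRoot f a ∧ IsLocalRing.residue R a = a₀ := by
  obtain ⟨a, rfl⟩ := residue_surjective a₀
  rw [eval₂_at_apply] at h₁ h₂
  set g := taylor a f with hg
  set n := g.natDegree with hn
  set c : ℕ → R := fun i => g.coeff i with hc
  have hc0 : c 0 = f.eval a := taylor_coeff_zero a f
  have hc1 : c 1 = f.derivative.eval a := taylor_coeff_one a f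
  have hc0m : residue R (c 0) = 0 := by rw [hc0]; exact h₁
  have hc1u : residue R (c 1) ≠ 0 := by rw [hc1]; exact h₂
  have hn1 : 1 ≤ n := by
    by_contra hlt
    apply hc1u
    have : c 1 = 0 := coeff_eq_zero_of_natDegree_lt (by omega)
    rw [this, map_zero]
  -- reduction of the auxiliary polynomial
  have hred : (auxPoly c n).map (residue R) = X ^ (n - 1) * (X + C (residue R (c 1))) := by
    rw [auxPoly, Polynomial.map_add, Polynomial.map_pow, map_X, Polynomial.map_sum]
    rw [Finset.sum_eq_single 0]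
    · simp only [zero_add, pow_zero, mul_one, Nat.sub_zero, Polynomial.map_mul, map_C,
        Polynomial.map_pow, map_X]
      have : (X : (ResidueField R)[X]) ^ n = X ^ (n - 1) * X := by
        rw [← pow_succ]; congr 1; omega
      rw [this]; ring
    · intro i _ hi
      rw [Polynomial.map_mul, map_C, map_mul, map_pow, hc0m, zero_pow hi, mul_zero, map_zero,
        zero_mul]
    · intro h0
      exfalso; apply h0; rw [Finset.mem_range]; omega
  have haeval : ∀ p : R[X], ∀ y : ResidueField R, aeval y p = (p.map (residue R)).eval y := by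
    intro p y
    rw [aeval_def, eval_map, ResidueField.algebraMap_eq]
  have hH := ((HenselianLocalRing.TFAE R).out 0 1).mp ‹HenselianLocalRing R›
  obtain ⟨u, hu, hu'⟩ := hH
    (auxPoly c n) (auxPoly_monic c n) (-(residue R (c 1))) (by
      rw [haeval, hred]; simp) (by
      rw [haeval, ← Polynomial.derivative_map, hred]
      simp only [derivative_mul, derivative_add, derivative_X, derivative_C, derivative_X_pow,
        eval_add, eval_mul, eval_pow, eval_X, eval_C, add_zero, mul_one]
      rw [neg_add_cancel, mul_zero, zero_add]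
      exact pow_ne_zero _ (neg_ne_zero.mpr hc1u))
  have huunit : IsUnit u := by
    have : residue R u ≠ 0 := by rw [hu']; exact neg_ne_zero.mpr hc1u
    rw [ne_eq, residue_eq_zero_iff, mem_maximalIdeal, mem_nonunits_iff, not_not] at this
    exact this
  obtain ⟨v, hv⟩ := huunit.exists_right_inv
  refine ⟨c 0 * v + a, ?_, ?_⟩
  · rw [IsRoot, ← taylor_eval, ← hg, eval_eq_sum_range]
    have hkey := key_identity c n u v hv
    rw [show (auxPoly c n).eval u = 0 from hu, mul_zero] at hkey
    exact ((huunit.pow n).mul_right_eq_zero).mp hkey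
  · rw [map_add, map_mul, hc0m, zero_mul, zero_add]

end Groth.Agent.S0498
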