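import Groth.Statements.S0502
import Mathlib

set_option autoImplicit false
universe u
open Hensel

namespace Groth.Agent.S0502

open Polynomial IsLocalRing in
/-- Core: given a monic `f` with a simple root `a₀` in the residue field, the hypothesis on étale
algebras yields a root of `f` lifting `a₀`. -/
theorem root_aux (R : Type u) [CommRing R] [IsLocalRing R]
    (h : ∀ (S : Type u) [CommRing S] [Algebra R S] [Algebra.Etale R S] (q : Ideal S) [q.IsPrime],
      q.LiesOver (IsLocalRing.maximalIdeal R) → Function.Surjective (algebraMap R q.ResidueField) →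
      Nonempty (S →ₐ[R] R))
    (f : R[X]) (hf : f.Monic) (a₀ : ResidueField R) (h₁ : aeval a₀ f = 0)
    (h₂ : aeval a₀ (derivative f) ≠ 0) : ∃ a : R, f.IsRoot a ∧ residue R a = a₀ := by
  set fb : (ResidueField R)[X] := f.map (residue R) with hfb
  have haeval : ∀ p : R[X], aeval a₀ p = (p.map (residue R)).eval a₀ := by
    intro p
    rw [aeval_def, eval_map, ResidueField.algebraMap_eq]
  have hroot : fb.IsRoot a₀ := by
    rw [IsRoot, ← haeval]; exact h₁
  set h₀ : (ResidueField R)[X] := fb /ₘ (X - C a₀) with hh₀
  have hfac : (X - C a₀) * h₀ = fb := mul_divByMonic_eq_iff_isRoot.mpr hroot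
  have hh₀a : h₀.eval a₀ ≠ 0 := by
    have h3 : (derivative fb).eval a₀ ≠ 0 := by
      rw [hfb, derivative_map, ← haeval]; exact h₂
    rw [← hfac] at h3
    simpa [derivative_mul] using h3
  obtain ⟨hl, hhl⟩ := map_surjective (residue R) residue_surjective h₀
  -- the standard étale algebra `(R[X]/f)[1/(f' * hl)]`
  let P : StandardEtalePair R := ⟨f, hf, derivative f * hl, ⟨hl, 0, 1, by ring⟩⟩
  have hmap : P.HasMap a₀ := by
    refine ⟨h₁, ?_⟩
    show IsUnit (aeval a₀ (derivative f * hl))
    rw [map_mul, isUnit_iff_ne_zero]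
    refine mul_ne_zero h₂ ?_
    rw [haeval, hhl]; exact hh₀a
  let φ : P.Ring →ₐ[R] ResidueField R := P.lift a₀ hmap
  have hφsurj : Function.Surjective φ := by
    intro x
    obtain ⟨r, rfl⟩ := residue_surjective x
    exact ⟨algebraMap R P.Ring r, by rw [AlgHom.commutes, ResidueField.algebraMap_eq]⟩
  let q : Ideal P.Ring := RingHom.ker φ.toRingHom
  have hqmax : q.IsMaximal := RingHom.ker_isMaximal_of_surjective φ.toRingHom hφsurj
  have hqprime : q.IsPrime := hqmax.isPrime
  have hlies : q.LiesOver (maximalIdeal R) := by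
    refine ⟨?_⟩
    ext r
    rw [Ideal.under, Ideal.mem_comap]
    show r ∈ maximalIdeal R ↔ φ (algebraMap R P.Ring r) = 0
    rw [AlgHom.commutes, ResidueField.algebraMap_eq, residue_eq_zero_iff]
  have hsurj : Function.Surjective (algebraMap R q.ResidueField) := by
    intro x
    obtain ⟨s, rfl⟩ := Ideal.algebraMap_residueField_surjective q x
    obtain ⟨r, hr⟩ := residue_surjective (φ s)
    refine ⟨r, ?_⟩
    rw [IsScalarTower.algebraMap_apply R P.Ring q.ResidueField, ← sub_eq_zero, ← map_sub,
      Ideal.algebraMap_residueField_eq_zero]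
    show φ (algebraMap R P.Ring r - s) = 0
    rw [map_sub, AlgHom.commutes, ResidueField.algebraMap_eq, hr, sub_self]
  obtain ⟨σ⟩ := h P.Ring q hlies hsurj
  have hσ : P.HasMap (σ P.X) := P.hasMap_X.map σ
  refine ⟨σ P.X, by simpa using hσ.1, ?_⟩
  -- residue of the root
  have hu : IsUnit (hl.eval (σ P.X)) := by
    have := hσ.2
    change IsUnit (aeval (σ P.X) (derivative f * hl)) at this
    rw [map_mul] at this
    simpa using isUnit_of_mul_isUnit_right this
  have e1 : ∀ p : R[X], residue R (p.eval (σ P.X)) = (p.map (residue R)).eval (residue R (σ P.X)) := by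
    intro p
    rw [eval_map, eval₂_at_apply]
  have h4 : fb.eval (residue R (σ P.X)) = 0 := by
    rw [hfb, ← e1]
    have : f.eval (σ P.X) = 0 := by simpa using hσ.1
    rw [this, map_zero]
  have h5 : h₀.eval (residue R (σ P.X)) ≠ 0 := by
    rw [← hhl, ← e1]
    exact (hu.map (residue R)).ne_zero
  rw [← hfac, eval_mul, eval_sub, eval_X, eval_C] at h4
  rcases mul_eq_zero.mp h4 with h6 | h6
  · exact sub_eq_zero.mp h6
  · exact absurd h6 h5

/-- A local ring `R` is henselian as soon as every étale `R`-algebra having a prime over the maximal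
ideal with trivial residue field extension admits an `R`-algebra retraction to `R`. -/
theorem result (R : Type u) [CommRing R] [IsLocalRing R]
    (h : ∀ (S : Type u) [CommRing S] [Algebra R S] [Algebra.Etale R S] (q : Ideal S) [q.IsPrime],
      q.LiesOver (IsLocalRing.maximalIdeal R) → Function.Surjective (algebraMap R q.ResidueField) →
      Nonempty (S →ₐ[R] R)) :
    HenselianLocalRing R := by
  refine ((HenselianLocalRing.TFAE R).out 1 0).mp ?_
  intro f hf a₀ h₁ h₂
  exact root_aux R h f hf a₀ h₁ h₂

end Groth.Agent.S0502
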