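import Groth.Statements.S0517
import Groth.Agent.Lib.Helper3.StrictHens

set_option autoImplicit false
universe u
open Hensel

namespace Groth.Agent.S0517

/-- Given strictly henselian local rings `R` and `S`, a local ring map `φ` between them, and a square
system of `n` polynomial equations in `n` unknowns over `R` whose quotient algebra is étale over
`R`, applying `φ` coordinatewise matches the solutions of the system in `Rⁿ` bijectively with the
solutions of the transported system in `Sⁿ`. -/
theorem result (R : Type u) [CommRing R]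
    [HenselianLocalRing R] [IsSepClosed (IsLocalRing.ResidueField R)] (S : Type u) [CommRing S]
    [HenselianLocalRing S] [IsSepClosed (IsLocalRing.ResidueField S)] (φ : R →+* S) [IsLocalHom φ] (n : ℕ)
    (P : Fin n → MvPolynomial (Fin n) R)
    [Algebra.Etale R (MvPolynomial (Fin n) R ⧸ Ideal.span (Set.range P))] :
    Set.BijOn (fun r : Fin n → R => φ ∘ r)
      {r : Fin n → R | ∀ i, MvPolynomial.eval r (P i) = 0}
      {s : Fin n → S | ∀ i, MvPolynomial.eval s (MvPolynomial.map φ (P i)) = 0} := by
  classical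
  open Groth.Agent.Lib.Helper3 IsLocalRing in
  let algRS : Algebra R S := φ.toAlgebra
  have hloc : IsLocalHom (algebraMap R S) := ‹IsLocalHom φ›
  set Jp : Ideal (MvPolynomial (Fin n) R) := Ideal.span (Set.range P) with hJp
  -- solutions give algebra maps
  have hsol : ∀ (T : Type u) [CommRing T] [Algebra R T] (t : Fin n → T),
      (∀ i, MvPolynomial.aeval t (P i) = 0) →
      ∃ σ : (MvPolynomial (Fin n) R ⧸ Jp) →ₐ[R] T,
        ∀ i, σ (Ideal.Quotient.mk Jp (MvPolynomial.X i)) = t i := by
    intro T _ _ t ht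
    have hle : Jp ≤ RingHom.ker (MvPolynomial.aeval t : MvPolynomial (Fin n) R →ₐ[R] T).toRingHom := by
      rw [hJp, Ideal.span_le]
      rintro _ ⟨i, rfl⟩
      exact ht i
    refine ⟨Ideal.Quotient.liftₐ Jp (MvPolynomial.aeval t) (fun a ha => hle ha), fun i => ?_⟩
    show MvPolynomial.aeval t (MvPolynomial.X i) = t i
    simp
  -- algebra maps give solutions
  have hsol' : ∀ (T : Type u) [CommRing T] [Algebra R T]
      (σ : (MvPolynomial (Fin n) R ⧸ Jp) →ₐ[R] T) (i : Fin n),
      MvPolynomial.aeval (fun j => σ (Ideal.Quotient.mk Jp (MvPolynomial.X j))) (P i) = 0 := by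
    intro T _ _ σ i
    have h1 : (MvPolynomial.aeval (fun j => σ (Ideal.Quotient.mk Jp (MvPolynomial.X j))) :
        MvPolynomial (Fin n) R →ₐ[R] T) = σ.comp (Ideal.Quotient.mkₐ R Jp) := by
      apply MvPolynomial.algHom_ext
      intro j
      simp
    rw [h1]
    show σ (Ideal.Quotient.mk Jp (P i)) = 0
    have hmem : P i ∈ Jp := Ideal.subset_span (Set.mem_range_self i)
    rw [Ideal.Quotient.eq_zero_iff_mem.mpr hmem, map_zero]
  -- uniqueness of maps into a local ring
  have huniq : ∀ (T : Type u) [CommRing T] [IsLocalRing T] [Algebra R T]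
      (σ₁ σ₂ : (MvPolynomial (Fin n) R ⧸ Jp) →ₐ[R] T),
      (∀ i, σ₁ (Ideal.Quotient.mk Jp (MvPolynomial.X i)) -
        σ₂ (Ideal.Quotient.mk Jp (MvPolynomial.X i)) ∈ maximalIdeal T) → σ₁ = σ₂ := by
    intro T _ _ _ σ₁ σ₂ h
    apply algHom_ext_of_comp_mk_eq (maximalIdeal T) (maximalIdeal_le_jacobson ⊥)
    apply Ideal.Quotient.algHom_ext
    apply MvPolynomial.algHom_ext
    intro i
    exact Ideal.Quotient.eq.mpr (h i)
  have hevalS : ∀ (s : Fin n → S) (i : Fin n),
      MvPolynomial.eval s (MvPolynomial.map φ (P i)) = MvPolynomial.aeval s (P i) := by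
    intro s i
    rw [MvPolynomial.eval_map, MvPolynomial.aeval_def]
    rfl
  have hevalR : ∀ (r : Fin n → R) (i : Fin n),
      MvPolynomial.eval r (P i) = MvPolynomial.aeval r (P i) := by
    intro r i
    exact (DFunLike.congr_fun (MvPolynomial.coe_aeval_eq_eval r) (P i)).symm
  refine ⟨?_, ?_, ?_⟩
  · -- MapsTo
    intro r hr i
    show MvPolynomial.eval (φ ∘ r) (MvPolynomial.map φ (P i)) = 0
    rw [MvPolynomial.eval_map, ← MvPolynomial.eval₂_comp, hr i, map_zero]
  · -- InjOn
    intro r hr r' hr' hrr'
    obtain ⟨σ, hσ⟩ := hsol R r (fun i => by rw [← hevalR]; exact hr i)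
    obtain ⟨σ', hσ'⟩ := hsol R r' (fun i => by rw [← hevalR]; exact hr' i)
    have : σ = σ' := by
      apply huniq R
      intro i
      rw [hσ, hσ']
      have h0 : φ (r i - r' i) = 0 := by
        rw [map_sub, sub_eq_zero]; exact congrFun hrr' i
      by_contra hnot
      rw [mem_maximalIdeal, mem_nonunits_iff, not_not] at hnot
      have := hnot.map φ
      rw [h0] at this
      exact not_isUnit_zero this
    funext i
    rw [← hσ, ← hσ', this]
  · -- SurjOn
    intro s hs
    obtain ⟨σs, hσs⟩ := hsol S s (fun i => by rw [← hevalS]; exact hs i)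
    let ψ : (MvPolynomial (Fin n) R ⧸ Jp) →ₐ[R] ResidueField S :=
      (IsScalarTower.toAlgHom R S (ResidueField S)).comp σs
    obtain ⟨σ, hσ⟩ := exists_algHom_of_etale_of_isSepClosed ψ
    refine ⟨fun i => σ (Ideal.Quotient.mk Jp (MvPolynomial.X i)), ?_, ?_⟩
    · intro i
      show MvPolynomial.eval _ (P i) = 0
      rw [hevalR]
      exact hsol' R σ i
    · have : (IsScalarTower.toAlgHom R R S).comp σ = σs := by
        apply huniq S
        intro i
        rw [← residue_eq_zero_iff, map_sub, sub_eq_zero]
        have h1 := hσ (Ideal.Quotient.mk Jp (MvPolynomial.X i))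
        rw [ResidueField.algebraMap_residue] at h1
        exact h1.symm
      funext i
      have := congr($this (Ideal.Quotient.mk Jp (MvPolynomial.X i)))
      rw [hσs] at this
      exact this

end Groth.Agent.S0517
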