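import Groth.Statements.S0523
import Groth.Agent.Lib.Helper3.EtaleSection2

set_option autoImplicit false
universe u
open Hensel

namespace Groth.Agent.S0523

/-- `A` is Henselian at `I` exactly when for every étale `A`-algebra `A'` every `A`-algebra map `A' →
A/I` lifts to an `A`-algebra map `A' → A`. -/
theorem result (A : Type u) [CommRing A] (I : Ideal A) :
    HenselianRing A I ↔ ∀ (A' : Type u) [CommRing A'] [Algebra A A'] [Algebra.Etale A A']
      (σ : A' →ₐ[A] A ⧸ I), ∃ τ : A' →ₐ[A] A, (Ideal.Quotient.mkₐ A I).comp τ = σ := by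
  open Polynomial in
  constructor
  · intro h A' _ _ _ σ
    exact Groth.Agent.Lib.Helper3.exists_algHom_lift_of_etale I A' σ
  · intro h
    refine ⟨?_, ?_⟩
    · intro y hy
      rw [Ideal.mem_jacobson_bot]
      intro a
      have hd : IsUnit ((Ideal.Quotient.mkₐ A I) (y * a + 1)) := by
        have : (Ideal.Quotient.mkₐ A I) (y * a + 1) = 1 := by
          change Ideal.Quotient.mk I (y * a + 1) = 1
          rw [map_add, map_mul, Ideal.Quotient.eq_zero_iff_mem.mpr hy, zero_mul, zero_add,
            map_one]
        rw [this]; exact isUnit_one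
      let σ : Localization.Away (y * a + 1) →ₐ[A] A ⧸ I :=
        IsLocalization.Away.liftAlgHom (y * a + 1) (f := Ideal.Quotient.mkₐ A I) hd
      obtain ⟨τ, -⟩ := h (Localization.Away (y * a + 1)) σ
      have := (IsLocalization.Away.algebraMap_isUnit (y * a + 1)
        (S := Localization.Away (y * a + 1))).map τ
      rwa [AlgHom.commutes] at this
    · intro f hf a₀ h₁ h₂
      let P : StandardEtalePair A := ⟨f, hf, derivative f, ⟨1, 0, 1, by simp⟩⟩
      have hmap : P.HasMap (Ideal.Quotient.mk I a₀) := by
        refine ⟨?_, ?_⟩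
        · change aeval (algebraMap A (A ⧸ I) a₀) f = 0
          rw [aeval_algebraMap_apply, coe_aeval_eq_eval]
          exact Ideal.Quotient.eq_zero_iff_mem.mpr h₁
        · change IsUnit (aeval (algebraMap A (A ⧸ I) a₀) (derivative f))
          rw [aeval_algebraMap_apply, coe_aeval_eq_eval]
          exact h₂
      obtain ⟨τ, hτ⟩ := h P.Ring (P.lift _ hmap)
      refine ⟨τ P.X, ?_, ?_⟩
      · have := (P.hasMap_X.map τ).1
        rw [IsRoot, ← coe_aeval_eq_eval]
        exact this
      · rw [← Ideal.Quotient.eq]
        have := congrArg (fun g => g P.X) hτ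
        simpa using this

end Groth.Agent.S0523
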