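import Groth.Statements.S0526
import Groth.Agent.Lib.Helper3.IdemBij

set_option autoImplicit false
universe u
open Hensel

namespace Groth.Agent.S0526

/-- If `A` is Henselian at `I` and `B` is an integral `A`-algebra, then `B` is Henselian at `IB`. -/
theorem result (A : Type u) [CommRing A] (I : Ideal A) [HenselianRing A I] (B : Type u) [CommRing B]
    [Algebra A B] [Algebra.IsIntegral A B] : HenselianRing B (Ideal.map (algebraMap A B) I) := by
  open Groth.Agent.Lib.Helper3 in
  apply henselianRing_of_bijOn_idempotents
  intro C _ _ hfin
  let algAC : Algebra A C := ((algebraMap B C).comp (algebraMap A B)).toAlgebra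
  have hst : IsScalarTower A B C := IsScalarTower.of_algebraMap_eq (fun _ => rfl)
  have hintBC : Algebra.IsIntegral B C := Algebra.IsIntegral.of_finite B C
  have hint : Algebra.IsIntegral A C := Algebra.IsIntegral.trans B
  refine bijOn_idempotents_of_henselianRing I _ ?_
  rw [Ideal.map_map]
  rfl

end Groth.Agent.S0526
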