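import Groth.Statements.S0529
import Groth.Agent.Lib.Helper3.HenselianMap

set_option autoImplicit false
universe u
open Hensel

namespace Groth.Agent.S0529

/-- A product of rings, with the product ideal, is Henselian exactly when every factor is Henselian at
its ideal. -/
theorem result (J : Type u) (A : J → Type u) [∀ j, CommRing (A j)]
    (I : ∀ j, Ideal (A j)) :
    HenselianRing (∀ j, A j) (⨅ j, Ideal.comap (Pi.evalRingHom A j) (I j)) ↔
      ∀ j, HenselianRing (A j) (I j) := by
  classical
  open Groth.Agent.Lib.Helper3 Polynomial in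
  set Jd : Ideal (∀ j, A j) := ⨅ j, Ideal.comap (Pi.evalRingHom A j) (I j) with hJd
  have hmemJ : ∀ x : ∀ j, A j, x ∈ Jd ↔ ∀ j, x j ∈ I j := by
    intro x
    rw [hJd, Ideal.mem_iInf]
    exact Iff.rfl
  constructor
  · intro h j
    have hsurj : Function.Surjective (Pi.evalRingHom A j) := Function.surjective_eval j
    have h1 := henselianRing_of_surjective (Pi.evalRingHom A j) hsurj Jd
    have h2 : Jd.map (Pi.evalRingHom A j) = I j := by
      apply le_antisymm
      · rw [Ideal.map_le_iff_le_comap]
        exact iInf_le _ j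
      · intro x hx
        have hmem : (Pi.single j x : ∀ j, A j) ∈ Jd := by
          rw [hmemJ]
          intro k
          by_cases hk : k = j
          · subst hk; simpa using hx
          · rw [Pi.single_eq_of_ne hk]; exact (I k).zero_mem
        have := Ideal.mem_map_of_mem (Pi.evalRingHom A j) hmem
        simpa using this
    rwa [h2] at h1
  · intro h
    have hjac : Jd ≤ Ideal.jacobson ⊥ := by
      intro x hx
      rw [Ideal.mem_jacobson_bot]
      intro y
      rw [Pi.isUnit_iff]
      intro j
      exact Ideal.mem_jacobson_bot.mp ((h j).jac ((hmemJ x).mp hx j)) (y j)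
    refine ⟨hjac, ?_⟩
    intro f hf a₀ h₁ h₂
    have hloc := isLocalHom_of_le_jacobson_bot Jd hjac
    have hu : IsUnit (f.derivative.eval a₀) := IsUnit.of_map (Ideal.Quotient.mk Jd) _ h₂
    have hev : ∀ (p : (∀ j, A j)[X]) (j : J),
        (p.map (Pi.evalRingHom A j)).eval (a₀ j) = (p.eval a₀) j := by
      intro p j
      rw [eval_map]
      exact (eval₂_at_apply (Pi.evalRingHom A j) a₀)
    have key : ∀ j, ∃ a : A j, (f.map (Pi.evalRingHom A j)).IsRoot a ∧ a - a₀ j ∈ I j := by
      intro j
      apply (h j).is_henselian _ (hf.map _) (a₀ j)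
      · rw [hev]; exact (hmemJ _).mp h₁ j
      · rw [derivative_map, hev]
        exact ((Pi.isUnit_iff.mp hu) j).map _
    choose a ha ha' using key
    refine ⟨a, ?_, (hmemJ _).mpr ha'⟩
    funext j
    have h3 : (f.map (Pi.evalRingHom A j)).eval (a j) = (f.eval a) j := by
      rw [eval_map]
      exact (eval₂_at_apply (Pi.evalRingHom A j) a)
    rw [← h3]
    exact ha j

end Groth.Agent.S0529
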