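import Groth.Statements.S0530
import Groth.Agent.Lib.Helper3.Henselian3

set_option autoImplicit false
universe u
open Hensel

namespace Groth.Agent.S0530

open Groth.Agent.Lib.Helper3 Polynomial

/-- In a domain `D` Henselian at `J`, an element `b` with `b² - b ∈ J` satisfies `b ∈ J` or
`b - 1 ∈ J`. -/
theorem mem_or_sub_one_mem {D : Type*} [CommRing D] [IsDomain D] (J : Ideal D)
    [hJ : HenselianRing D J] (b : D) (hb : b ^ 2 - b ∈ J) : b ∈ J ∨ b - 1 ∈ J := by
  have h1 : (X ^ 2 - X : D[X]).Monic := by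
    apply monic_X_pow_sub
    rw [degree_X]; norm_num
  have h2 : (X ^ 2 - X : D[X]).eval b ∈ J := by simpa using hb
  have h3 : IsUnit (Ideal.Quotient.mk J ((X ^ 2 - X : D[X]).derivative.eval b)) := by
    have h4 : (X ^ 2 - X : D[X]).derivative.eval b = 2 * b - 1 := by
      simp only [derivative_sub, derivative_X_pow, derivative_X, eval_sub, eval_mul, eval_C,
        eval_pow, eval_X, eval_one]
      norm_num
    rw [h4]
    have h5 : Ideal.Quotient.mk J (2 * b - 1) * Ideal.Quotient.mk J (2 * b - 1) = 1 := by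
      rw [← map_mul, ← map_one (Ideal.Quotient.mk J), Ideal.Quotient.eq]
      have : (2 * b - 1) * (2 * b - 1) - 1 = 4 * (b ^ 2 - b) := by ring
      rw [this]
      exact J.mul_mem_left _ hb
    exact IsUnit.of_mul_eq_one _ h5
  obtain ⟨a, ha, ha'⟩ := hJ.is_henselian _ h1 b h2 h3
  have h6 : a * (a - 1) = 0 := by
    have : (X ^ 2 - X : D[X]).eval a = 0 := ha
    simp at this
    linear_combination this
  rcases mul_eq_zero.mp h6 with h7 | h7
  · left
    rw [h7] at ha'
    simpa using J.neg_mem ha'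
  · right
    have h8 : a = 1 := sub_eq_zero.mp h7
    rw [h8] at ha'
    have : b - 1 = -(1 - b) := by ring
    rw [this]
    exact J.neg_mem ha'

/-- If `A` is Henselian at `I` and `p` is a prime ideal of `A`, then the spectrum of `A/(p + I)` is
connected. -/
theorem result (A : Type u) [CommRing A] (I : Ideal A) [HenselianRing A I]
    (p : Ideal A) [p.IsPrime] : ConnectedSpace (PrimeSpectrum (A ⧸ p ⊔ I)) := by
  have hjac : I ≤ Ideal.jacobson ⊥ := HenselianRing.jac
  have hne : p ⊔ I ≠ ⊤ := by
    intro htop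
    have h1 : (1 : A) ∈ p ⊔ I := htop ▸ Submodule.mem_top
    rw [Submodule.mem_sup] at h1
    obtain ⟨x, hx, i, hi, hxi⟩ := h1
    have h2 : IsUnit x := by
      have : x = 1 + (-i) := by rw [← hxi]; ring
      rw [this]
      exact isUnit_add_of_mem_jacobson_bot isUnit_one (hjac (I.neg_mem hi))
    exact (Ideal.IsPrime.ne_top ‹_›) (Ideal.eq_top_of_isUnit_mem _ hx h2)
  have hnontriv : Nontrivial (A ⧸ p ⊔ I) := Ideal.Quotient.nontrivial_iff.mpr hne
  have hH : HenselianRing (A ⧸ p) (Ideal.map (Ideal.Quotient.mk p) I) :=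
    henselianRing_quotient_map I p
  have hidem : ∀ e : A ⧸ p ⊔ I, IsIdempotentElem e → e = 0 ∨ e = 1 := by
    intro e he
    obtain ⟨b, rfl⟩ := Ideal.Quotient.mk_surjective e
    have hb : b ^ 2 - b ∈ p ⊔ I := by
      rw [← Ideal.Quotient.eq, map_pow, pow_two]; exact he
    have hb' : (Ideal.Quotient.mk p b) ^ 2 - Ideal.Quotient.mk p b ∈
        Ideal.map (Ideal.Quotient.mk p) I := by
      rw [← map_pow, ← map_sub]
      rw [Submodule.mem_sup] at hb
      obtain ⟨x, hx, i, hi, hxi⟩ := hb
      rw [← hxi, map_add, Ideal.Quotient.eq_zero_iff_mem.mpr hx, zero_add]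
      exact Ideal.mem_map_of_mem _ hi
    have key : ∀ c : A, Ideal.Quotient.mk p c ∈ Ideal.map (Ideal.Quotient.mk p) I →
        c ∈ p ⊔ I := by
      intro c hc
      rw [Ideal.mem_map_iff_of_surjective _ Ideal.Quotient.mk_surjective] at hc
      obtain ⟨i, hi, hic⟩ := hc
      rw [Ideal.Quotient.eq] at hic
      have : c = -(i - c) + i := by ring
      rw [this]
      exact Ideal.add_mem _ (Ideal.mem_sup_left (p.neg_mem hic)) (Ideal.mem_sup_right hi)
    rcases mem_or_sub_one_mem _ _ hb' with h1 | h1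
    · left
      exact Ideal.Quotient.eq_zero_iff_mem.mpr (key b h1)
    · right
      rw [← map_one (Ideal.Quotient.mk p), ← map_sub] at h1
      rw [← map_one (Ideal.Quotient.mk (p ⊔ I)), Ideal.Quotient.eq]
      exact key _ h1
  have hpre : PreconnectedSpace (PrimeSpectrum (A ⧸ p ⊔ I)) := by
    rw [preconnectedSpace_iff_clopen]
    intro s hs
    rw [PrimeSpectrum.isClopen_iff] at hs
    obtain ⟨e, he, rfl⟩ := hs
    rcases hidem e he with h | h
    · left; rw [h]; simp
    · right; rw [h]; simp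
  exact { toPreconnectedSpace := hpre, toNonempty := inferInstance }

end Groth.Agent.S0530
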