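import Groth.Statements.S0545
-- import your own Groth.Agent.* helpers here
import Groth.Agent.Lib.Helper35.DCAdic
import Groth.Agent.Lib.Helper35.DCPre
import Mathlib.RingTheory.AdicCompletion.Noetherian

set_option autoImplicit false
universe u
open CAlg

namespace Groth.Agent.S0545

open Groth.Agent.Lib.Helper35.DC

section

variable {A : Type u} [CommRing A] (I : Ideal A)

/-- membership in `I ^ k • ⊤` for the ring itself -/
lemma smodEq_iff {k : ℕ} {x y : A} :
    x ≡ y [SMOD (I ^ k • ⊤ : Submodule A A)] ↔ x - y ∈ I ^ k := by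
  rw [SModEq.sub_mem, smul_eq_mul, Ideal.mul_top]

/-- Step 1: surjectivity of `T_g` modulo `I`. -/
lemma step_one (J : Ideal A) [IsAdicComplete (Ideal.map (Ideal.Quotient.mk I) J) (A ⧸ I)]
    (g : A) (hg : g ∈ J) (c : ℕ → A) :
    ∃ e : ℕ → A, ∀ n, e n - g * e (n + 1) - c n ∈ I := by
  have hg' : Ideal.Quotient.mk I g ∈ Ideal.map (Ideal.Quotient.mk I) J :=
    Ideal.mem_map_of_mem _ hg
  obtain ⟨eb, heb⟩ := shiftT_surjective_of_isPrecomplete (Ideal.map (Ideal.Quotient.mk I) J)
    (A ⧸ I) (Ideal.Quotient.mk I g) hg' (fun n => Ideal.Quotient.mk I (c n))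
  choose e he using fun n => Ideal.Quotient.mk_surjective (eb n)
  refine ⟨e, fun n => ?_⟩
  rw [← Ideal.Quotient.eq_zero_iff_mem]
  have h1 := congrFun heb n
  rw [shiftT_apply, smul_eq_mul] at h1
  simp only [map_sub, map_mul, he]
  rw [h1, sub_self]

/-- Step 2: surjectivity of `T_g` on `I^k / I^(k+1)`. -/
lemma step_two [IsNoetherianRing A] (J : Ideal A)
    [IsAdicComplete (Ideal.map (Ideal.Quotient.mk I) J) (A ⧸ I)]
    (g : A) (hg : g ∈ J) (k : ℕ) (d : ℕ → A) (hd : ∀ n, d n ∈ I ^ k) :
    ∃ e : ℕ → A, (∀ n, e n ∈ I ^ k) ∧ ∀ n, e n - g * e (n + 1) - d n ∈ I ^ (k + 1) := by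
  obtain ⟨r, a, ha⟩ := Submodule.fg_iff_exists_fin_generating_family.1
    (IsNoetherian.noetherian (I ^ k))
  have hak : ∀ j, a j ∈ I ^ k := fun j => by
    rw [← ha]; exact Submodule.subset_span ⟨j, rfl⟩
  have hD : ∀ n, ∃ D : Fin r → A, ∑ j, D j • a j = d n := fun n => by
    have := hd n
    rw [← ha] at this
    exact (Submodule.mem_span_range_iff_exists_fun A).1 this
  choose D hD using hD
  choose E hE using fun j => step_one I J g hg (fun n => D n j)
  refine ⟨fun n => ∑ j, E j n * a j, fun n => ?_, fun n => ?_⟩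
  · exact Ideal.sum_mem _ fun j _ => Ideal.mul_mem_left _ _ (hak j)
  · have h1 : (∑ j, E j n * a j) - g * (∑ j, E j (n + 1) * a j) - d n =
        ∑ j, (E j n - g * E j (n + 1) - D n j) * a j := by
      rw [← hD n, Finset.mul_sum, ← Finset.sum_sub_distrib, ← Finset.sum_sub_distrib]
      refine Finset.sum_congr rfl fun j _ => ?_
      rw [smul_eq_mul]; ring
    rw [h1, pow_succ']
    exact Ideal.sum_mem _ fun j _ => Ideal.mul_mem_mul (hE j n) (hak j)

/-- Step 3: surjectivity of `T_g` on `A`. -/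
lemma shiftT_surjective [IsNoetherianRing A] [IsAdicComplete I A] (J : Ideal A)
    [IsAdicComplete (Ideal.map (Ideal.Quotient.mk I) J) (A ⧸ I)]
    (g : A) (hg : g ∈ J) : Function.Surjective (shiftT g A) := by
  intro c
  let P : ℕ → (ℕ → A) → Prop := fun k m => ∀ n, c n - (m n - g * m (n + 1)) ∈ I ^ k
  have h0 : P 0 0 := fun n => by simp
  have step : ∀ k (m : {m : ℕ → A // P k m}),
      ∃ m' : {m : ℕ → A // P (k + 1) m}, ∀ n, m'.1 n - m.1 n ∈ I ^ k := by
    rintro k ⟨m, hm⟩
    obtain ⟨e, he, he'⟩ := step_two I J g hg k _ hm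
    refine ⟨⟨fun n => m n + e n, fun n => ?_⟩, fun n => ?_⟩
    · have := he' n
      have h2 : c n - (m n + e n - g * (m (n + 1) + e (n + 1))) =
          -(e n - g * e (n + 1) - (c n - (m n - g * m (n + 1)))) := by ring
      rw [h2]
      exact neg_mem this
    · simpa using he n
  choose next hnext using step
  let seq : ∀ k, {m : ℕ → A // P k m} := fun k =>
    Nat.rec ⟨0, h0⟩ (fun k m => next k m) k
  have hseq : ∀ k n, (seq (k + 1)).1 n - (seq k).1 n ∈ I ^ k := fun k n => hnext k (seq k) n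
  have hcauchy : ∀ n {a b : ℕ}, a ≤ b → (seq b).1 n - (seq a).1 n ∈ I ^ a := by
    intro n a b hab
    induction b, hab using Nat.le_induction with
    | base => simp
    | succ b hab ih =>
      have h1 := Ideal.pow_le_pow_right hab (hseq b n)
      have h2 : (seq (b + 1)).1 n - (seq a).1 n =
          ((seq (b + 1)).1 n - (seq b).1 n) + ((seq b).1 n - (seq a).1 n) := by ring
      rw [h2]
      exact add_mem h1 ih
  have hlim : ∀ n, ∃ L : A, ∀ k, (seq k).1 n - L ∈ I ^ k := by
    intro n
    obtain ⟨L, hL⟩ := IsPrecomplete.prec' (I := I) (M := A) (fun k => (seq k).1 n)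
      (fun {a b} hab => by
        rw [smodEq_iff]
        have := hcauchy n hab
        rw [← neg_sub] at this
        exact (neg_mem_iff).1 this)
    exact ⟨L, fun k => (smodEq_iff I).1 (hL k)⟩
  choose L hL using hlim
  refine ⟨L, funext fun n => ?_⟩
  rw [shiftT_apply, smul_eq_mul]
  have hz : L n - g * L (n + 1) - c n = 0 := by
    apply IsHausdorff.haus' (I := I) (M := A)
    intro k
    rw [smodEq_iff, sub_zero]
    have h3 : L n - g * L (n + 1) - c n =
        -((seq k).1 n - L n) + g * ((seq k).1 (n + 1) - L (n + 1)) -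
          (c n - ((seq k).1 n - g * (seq k).1 (n + 1))) := by ring
    rw [h3]
    exact sub_mem (add_mem (neg_mem (hL n k)) (Ideal.mul_mem_left _ _ (hL (n + 1) k)))
      ((seq k).2 n)
  exact sub_eq_zero.1 hz

/-- `J` lies in the Jacobson radical. -/
lemma le_jacobson [IsAdicComplete I A] (J : Ideal A)
    [IsAdicComplete (Ideal.map (Ideal.Quotient.mk I) J) (A ⧸ I)] :
    J ≤ Ideal.jacobson ⊥ := by
  intro x hx
  rw [Ideal.mem_jacobson_bot]
  intro y
  have h1 : Ideal.Quotient.mk I x ∈ Ideal.jacobson (⊥ : Ideal (A ⧸ I)) :=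
    IsAdicComplete.le_jacobson_bot (Ideal.map (Ideal.Quotient.mk I) J)
      (Ideal.mem_map_of_mem _ hx)
  rw [Ideal.mem_jacobson_bot] at h1
  obtain ⟨u, hu⟩ := (h1 (Ideal.Quotient.mk I y)).exists_right_inv
  obtain ⟨v, rfl⟩ := Ideal.Quotient.mk_surjective u
  have h2 : (x * y + 1) * v - 1 ∈ I := by
    rw [← Ideal.Quotient.eq_zero_iff_mem]
    simp only [map_sub, map_mul, map_add, map_one]
    rw [hu, sub_self]
  have h3 : IsUnit ((x * y + 1) * v) :=
    Ideal.isUnit_of_sub_one_mem_jacobson_bot _ (IsAdicComplete.le_jacobson_bot I h2)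
  exact isUnit_of_mul_isUnit_left h3

end


/-- For a Noetherian ring `A` with two ideals `I` and `J`, completeness of `A` along `I` together with
completeness of the quotient `A/I` along the image of `J` forces completeness of `A` along `J`. -/
theorem result (A : Type u) [CommRing A] [IsNoetherianRing A]
    (I J : Ideal A) [IsAdicComplete I A]
    [IsAdicComplete (Ideal.map (Ideal.Quotient.mk I) J) (A ⧸ I)] : IsAdicComplete J A := by
  classical
  have hH : IsHausdorff J A := IsHausdorff.of_le_jacobson J A (le_jacobson I J)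
  obtain ⟨s, hs⟩ := (IsNoetherian.noetherian J : J.FG)
  have hP : IsPrecomplete (Ideal.span (s : Set A)) A :=
    isPrecomplete_span_of_shiftT_surjective (M := A) s (fun f hf =>
      shiftT_surjective I J f (by rw [← hs]; exact Submodule.subset_span hf))
  have hs' : Ideal.span (s : Set A) = J := hs
  rw [hs'] at hP
  exact { toIsHausdorff := hH, toIsPrecomplete := hP }

end Groth.Agent.S0545
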