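import Groth.Statements.S0546
import Mathlib.RingTheory.Finiteness.Ideal

set_option autoImplicit false
universe u
open CAlg

namespace Groth.Agent.S0546

/-- Elements of `(span (range g)) • N` are of the form `∑ g j • m j` with `m j ∈ N`. -/
theorem exists_sum_of_mem_span_smul {A : Type*} [CommRing A] {M : Type*} [AddCommGroup M]
    [Module A M] {s : ℕ} (g : Fin s → A) (N : Submodule A M) (x : M)
    (hx : x ∈ (Ideal.span (Set.range g)) • N) :
    ∃ m : Fin s → M, (∀ j, m j ∈ N) ∧ x = ∑ j, g j • m j := by
  refine Submodule.smul_induction_on hx ?_ ?_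
  · intro r hr n hn
    obtain ⟨c, rfl⟩ := Ideal.mem_span_range_iff_exists_fun.1 hr
    refine ⟨fun j => c j • n, fun j => N.smul_mem _ hn, ?_⟩
    rw [Finset.sum_smul]
    refine Finset.sum_congr rfl fun j _ => ?_
    rw [smul_smul, mul_comm]
  · rintro x y ⟨m1, h1, rfl⟩ ⟨m2, h2, rfl⟩
    exact ⟨m1 + m2, fun j => N.add_mem (h1 j) (h2 j), by
      simp [smul_add, Finset.sum_add_distrib]⟩

/-- If `I ≤ J` are ideals with `I` finitely generated and `M` is `J`-adically complete, then `M` is
`I`-adically complete. -/
theorem result (A : Type u) [CommRing A] (I J : Ideal A) (hIJ : I ≤ J)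
    (hI : I.FG) (M : Type u) [AddCommGroup M] [Module A M] [IsAdicComplete J M] :
    IsAdicComplete I M := by
  have hpow : ∀ n, (I ^ n • ⊤ : Submodule A M) ≤ J ^ n • ⊤ := fun n =>
    Submodule.smul_mono_left (Ideal.pow_right_mono hIJ n)
  have hH : IsHausdorff I M := ⟨fun x hx => IsHausdorff.haus' (I := J) x fun n => by
    have := hx n
    rw [SModEq.zero] at this ⊢
    exact hpow n this⟩
  have hP : IsPrecomplete I M := by
    refine ⟨fun f hf => ?_⟩
    obtain ⟨L, hL⟩ := IsPrecomplete.prec' (I := J) f (fun {m n} hmn => by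
      have := hf hmn
      rw [SModEq.sub_mem] at this ⊢
      exact hpow m this)
    refine ⟨L, fun n => ?_⟩
    obtain ⟨s, g, hg⟩ := Submodule.fg_iff_exists_fin_generating_family.1 (Ideal.FG.pow (n := n) hI)
    have hd : ∀ i, ∃ m : Fin s → M, (∀ j, m j ∈ (J ^ i • ⊤ : Submodule A M)) ∧
        f (n + i + 1) - f (n + i) = ∑ j, g j • m j := by
      intro i
      have h1 : f (n + i) ≡ f (n + i + 1) [SMOD (I ^ (n + i) • ⊤ : Submodule A M)] :=
        hf (Nat.le_succ _)
      have h2 : f (n + i + 1) - f (n + i) ∈ (I ^ (n + i) • ⊤ : Submodule A M) := by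
        rw [← SModEq.sub_mem]; exact h1.symm
      rw [pow_add, mul_smul, ← hg] at h2
      obtain ⟨m, hm, e⟩ := exists_sum_of_mem_span_smul g _ _ h2
      exact ⟨m, fun j => hpow i (hm j), e⟩
    choose m hm hfm using hd
    let T : Fin s → ℕ → M := fun j k => ∑ i ∈ Finset.range k, m i j
    have hT : ∀ j, ∀ {a b}, a ≤ b → T j a ≡ T j b [SMOD (J ^ a • ⊤ : Submodule A M)] := by
      intro j a b hab
      rw [SModEq.sub_mem]
      obtain ⟨c, rfl⟩ := Nat.exists_eq_add_of_le hab
      have : T j a - T j (a + c) = - ∑ i ∈ Finset.range c, m (a + i) j := by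
        simp only [T, Finset.sum_range_add]
        abel
      rw [this]
      refine Submodule.neg_mem _ (Submodule.sum_mem _ fun i _ => ?_)
      exact Submodule.smul_mono_left (Ideal.pow_le_pow_right (Nat.le_add_right a i)) (hm (a + i) j)
    choose Lj hLj using fun j => IsPrecomplete.prec' (I := J) (T j) (hT j)
    have htel : ∀ k, f (n + k) - f n = ∑ j, g j • T j k := by
      intro k
      induction k with
      | zero => simp [T]
      | succ k ih =>
        have e1 : f (n + (k + 1)) - f n = (f (n + k + 1) - f (n + k)) + (f (n + k) - f n) := by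
          rw [← add_assoc]; abel
        rw [e1, ih, hfm k]
        simp only [T, Finset.sum_range_succ, smul_add, Finset.sum_add_distrib]
        abel
    have key : L - f n = ∑ j, g j • Lj j := by
      rw [IsHausdorff.eq_iff_smodEq (I := J)]
      intro k
      rw [SModEq.sub_mem]
      have e : L - f n - ∑ j, g j • Lj j = (L - f (n + k)) + ∑ j, g j • (T j k - Lj j) := by
        have e2 : L - f (n + k) = (L - f n) - (f (n + k) - f n) := by abel
        rw [e2, htel k]
        simp only [smul_sub, Finset.sum_sub_distrib]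
        abel
      rw [e]
      refine Submodule.add_mem _ ?_ (Submodule.sum_mem _ fun j _ => Submodule.smul_mem _ _ ?_)
      · have h3 := hL (n + k)
        rw [SModEq.sub_mem] at h3
        have h4 : (J ^ (n + k) • ⊤ : Submodule A M) ≤ J ^ k • ⊤ :=
          Submodule.smul_mono_left (Ideal.pow_le_pow_right (Nat.le_add_left k n))
        have h5 := Submodule.neg_mem _ (h4 h3)
        rwa [neg_sub] at h5
      · have := hLj j k
        rwa [SModEq.sub_mem] at this
    rw [SModEq.sub_mem, ← neg_sub, key]
    refine Submodule.neg_mem _ (Submodule.sum_mem _ fun j _ => ?_)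
    refine Submodule.smul_mem_smul ?_ Submodule.mem_top
    rw [← hg]
    exact Submodule.subset_span ⟨j, rfl⟩
  exact { toIsHausdorff := hH, toIsPrecomplete := hP }

end Groth.Agent.S0546
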