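import Groth.Statements.S0548
import Groth.Agent.Lib.Helper29.AdicLocal

set_option autoImplicit false
universe u
open CAlg

namespace Groth.Agent.S0548

/-- A Noetherian local ring is regular exactly when its completion at the maximal ideal is a regular
local ring. -/
theorem result (A : Type u) [CommRing A] [IsLocalRing A]
    [IsNoetherianRing A] :
    IsRegularLocalRing A ↔ IsRegularLocalRing (AdicCompletion (IsLocalRing.maximalIdeal A) A) := by
  exact (Groth.Agent.Lib.Helper29.ringKrullDim_adicCompletion_eq_and_isRegularLocalRing_iff A
    (IsLocalRing.maximalIdeal A) (Ideal.IsPrime.ne_top inferInstance)).2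

end Groth.Agent.S0548
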