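import Groth.Statements.S0549
import Groth.Agent.Lib.Helper29.AdicLocal
import Groth.Agent.Lib.Helper85.RegularLocal

set_option autoImplicit false
universe u
open CAlg

namespace Groth.Agent.S0549

/-- A Noetherian local ring is a discrete valuation ring exactly when its completion at the maximal
ideal is a discrete valuation ring. -/
theorem result (A : Type u) [CommRing A] [IsLocalRing A]
    [IsNoetherianRing A] :
    (∃ _ : IsDomain A, IsDiscreteValuationRing A) ↔
      ∃ _ : IsDomain (AdicCompletion (IsLocalRing.maximalIdeal A) A),
        IsDiscreteValuationRing (AdicCompletion (IsLocalRing.maximalIdeal A) A) := by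
  have key : ∀ (R : Type u) [CommRing R] [IsLocalRing R] [IsNoetherianRing R],
      (∃ _ : IsDomain R, IsDiscreteValuationRing R) ↔ IsRegularLocalRing R ∧ ringKrullDim R = 1 := by
    intro R _ _ _
    constructor
    · rintro ⟨hd, hdvr⟩
      exact ⟨inferInstance, IsDiscreteValuationRing.ringKrullDim_eq_one R⟩
    · rintro ⟨hreg, hdim⟩
      have hd : IsDomain R := Groth.Agent.Lib.Helper85.isDomain_of_isRegularLocalRing R
      refine ⟨hd, ?_⟩
      have h := (IsRegularLocalRing.iff_finrank_cotangentSpace R).mp hreg
      rw [hdim] at h
      have h1 : Module.finrank (IsLocalRing.ResidueField R) (IsLocalRing.CotangentSpace R) = 1 := by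
        exact_mod_cast h
      exact IsLocalRing.finrank_CotangentSpace_eq_one_iff.mp h1
  have hN : IsNoetherianRing (AdicCompletion (IsLocalRing.maximalIdeal A) A) :=
    Groth.Agent.S0543.result A _
  obtain ⟨hdim, hreg⟩ :=
    Groth.Agent.Lib.Helper29.ringKrullDim_adicCompletion_eq_and_isRegularLocalRing_iff A
      (IsLocalRing.maximalIdeal A) (Ideal.IsPrime.ne_top inferInstance)
  rw [key A, key (AdicCompletion (IsLocalRing.maximalIdeal A) A), hdim, hreg]

end Groth.Agent.S0549
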