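import Groth.Statements.S0556
-- import your own Groth.Agent.* helpers here
import Groth.Agent.Lib.Helper85.KrullAkizuki

set_option autoImplicit false
universe u
open CAlg

namespace Groth.Agent.S0556

/-- Any domain `A` sandwiched between a one-dimensional Noetherian domain `R` and a field `L` of finite
degree over the fraction field of `R` is itself Noetherian. -/
theorem result (R : Type u) [CommRing R]
    [IsDomain R] [IsNoetherianRing R] (hdim : ringKrullDim R = 1) (K L : Type u) [Field K] [Field L]
    [Algebra R K] [IsFractionRing R K] [Algebra K L] [FiniteDimensional K L] [Algebra R L]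
    [IsScalarTower R K L] (A : Type u) [CommRing A] [Algebra R A] [Algebra A L]
    [IsScalarTower R A L] (hA : Function.Injective (algebraMap A L)) :
    IsNoetherianRing A := by
  classical
  have : Ring.KrullDimLE 1 R := Ring.krullDimLE_iff.mpr (by rw [hdim]; rfl)
  have hRL : Function.Injective (algebraMap R L) := by
    rw [IsScalarTower.algebraMap_eq R K L]
    exact (algebraMap K L).injective.comp (IsFractionRing.injective R K)
  have hsmul : ∀ (c : R) (x : A),
      algebraMap A L (c • x) = algebraMap R L c * algebraMap A L x := by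
    intro c x
    rw [Algebra.smul_def, map_mul, ← IsScalarTower.algebraMap_apply]
  have hcancel : ∀ c : R, c ≠ 0 → ∀ x : A, c • x = 0 → x = 0 := by
    intro c hc x hx
    apply hA
    have h := congrArg (algebraMap A L) hx
    rw [hsmul, map_zero, mul_eq_zero] at h
    rcases h with h | h
    · exact absurd (hRL (by rw [h, map_zero])) hc
    · rw [h, map_zero]
  have : IsDomain A := hA.isDomain (algebraMap A L)
  have : Algebra.IsAlgebraic R L :=
    (IsFractionRing.comap_isAlgebraic_iff (A := R) (K := K) (C := L)).mpr inferInstance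
  have halg : ∀ b : A, b ≠ 0 → ∃ a : R, a ≠ 0 ∧ b ∣ algebraMap R A a := by
    intro b hb
    have h1 : IsAlgebraic R (algebraMap A L b) := Algebra.IsAlgebraic.isAlgebraic _
    have h2 : IsAlgebraic R b := (isAlgebraic_algebraMap_iff hA).mp h1
    exact h2.exists_nonzero_dvd (mem_nonZeroDivisors_of_ne_zero hb)
  -- the `K`-span of `A` in `L` is spanned by finitely many elements of `A`
  have hVfg : (Submodule.span K (Set.range (algebraMap A L))).FG := IsNoetherian.noetherian _
  obtain ⟨s', hs'sub, hs'span⟩ := (Submodule.fg_span_iff_fg_span_finset_subset _).mp hVfg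
  set E : Submodule R A := Submodule.span R (algebraMap A L ⁻¹' (s' : Set L)) with hEdef
  have hEfg : E.FG :=
    Submodule.fg_span (Set.Finite.preimage hA.injOn s'.finite_toSet)
  -- the `K`-subspace of elements with a multiple in `E`
  let S : Submodule K L :=
    { carrier := {x | ∃ c : R, c ≠ 0 ∧ ∃ e ∈ E, algebraMap R L c * x = algebraMap A L e}
      zero_mem' := ⟨1, one_ne_zero, 0, E.zero_mem, by simp⟩
      add_mem' := by
        rintro x₁ x₂ ⟨c₁, hc₁, e₁, he₁, h₁⟩ ⟨c₂, hc₂, e₂, he₂, h₂⟩
        refine ⟨c₁ * c₂, mul_ne_zero hc₁ hc₂, c₂ • e₁ + c₁ • e₂,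
          E.add_mem (E.smul_mem _ he₁) (E.smul_mem _ he₂), ?_⟩
        rw [map_add, hsmul, hsmul, ← h₁, ← h₂, map_mul]
        ring
      smul_mem' := by
        rintro k x ⟨c, hc, e, he, h⟩
        obtain ⟨r, d, hd, rfl⟩ := IsFractionRing.div_surjective R k
        have hd0 : d ≠ 0 := nonZeroDivisors.ne_zero hd
        have hdK : algebraMap R K d ≠ 0 := by
          intro h0
          exact hd0 (IsFractionRing.injective R K (by rw [h0, map_zero]))
        refine ⟨c * d, mul_ne_zero hc hd0, r • e, E.smul_mem _ he, ?_⟩
        rw [hsmul, ← h, Algebra.smul_def, map_mul, IsScalarTower.algebraMap_apply R K L d,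
          IsScalarTower.algebraMap_apply R K L r, map_div₀]
        have hdL : algebraMap K L (algebraMap R K d) ≠ 0 := by
          intro h0
          exact hdK ((algebraMap K L).injective (by rw [h0, map_zero]))
        field_simp }
  have hS : Submodule.span K (Set.range (algebraMap A L)) ≤ S := by
    rw [hs'span, Submodule.span_le]
    intro x hx
    obtain ⟨y, rfl⟩ := hs'sub hx
    exact ⟨1, one_ne_zero, y, Submodule.subset_span hx, by simp⟩
  have hrank : ∀ t : A, ∃ c : R, c ≠ 0 ∧ c • t ∈ E := by
    intro t
    obtain ⟨c, hc, e, he, h⟩ := hS (Submodule.subset_span ⟨t, rfl⟩)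
    refine ⟨c, hc, ?_⟩
    have : c • t = e := hA (by rw [hsmul, h])
    rw [this]
    exact he
  exact Groth.Agent.Lib.Helper85.KrullAkizuki.isNoetherianRing hcancel E hEfg hrank halg

end Groth.Agent.S0556
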