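import Groth.Statements.S0572
import Groth.Agent.Lib.Helper29.NormalLocus

set_option autoImplicit false
universe u
open CAlg

namespace Groth.Agent.S0572

/-- Let `R` be a Noetherian domain such that `R_f` is integrally closed for some nonzero `f`. Then the
set of primes `p` with `R_p` integrally closed is open in `Spec R`. -/
theorem result (R : Type u) [CommRing R] [IsDomain R] [IsNoetherianRing R] (f : R)
    (hf : f ≠ 0) (hn : IsIntegrallyClosed (Localization.Away f)) :
    IsOpen {p : PrimeSpectrum R | IsIntegrallyClosed (Localization.AtPrime p.asIdeal)} := by
  have hdomf : IsDomain (Localization.Away f) :=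
    IsLocalization.isDomain_localization (powers_le_nonZeroDivisors_of_noZeroDivisors hf)
  have hset : {p : PrimeSpectrum R | IsIntegrallyClosed (Localization.AtPrime p.asIdeal)} =
      EGA4.norLocus R := by
    ext p
    constructor
    · intro hp
      have hle : p.asIdeal.primeCompl ≤ nonZeroDivisors R := by
        intro x hx
        apply mem_nonZeroDivisors_of_ne_zero
        rintro rfl
        exact hx p.asIdeal.zero_mem
      exact ⟨IsLocalization.isDomain_localization hle, hp⟩
    · intro hp
      exact hp.2
  rw [hset]
  apply Groth.Agent.Lib.Helper29.isOpen_norLocus_of_isDomain R f hf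
  intro q hq
  have hqr : q ∈ Set.range (PrimeSpectrum.comap (algebraMap R (Localization.Away f))) := by
    rw [PrimeSpectrum.localization_away_comap_range (Localization.Away f) f]
    exact hq
  obtain ⟨q', rfl⟩ := hqr
  exact (Groth.Agent.Lib.Helper29.mem_norLocus_away_iff R f q').mp
    (Groth.Agent.Lib.Helper29.isNormalRing_of_isIntegrallyClosed (Localization.Away f) q'.asIdeal)

end Groth.Agent.S0572
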