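import Groth.Statements.S0577
import Mathlib
import Groth.Agent.Lib.Helper48.NagataAnalyticallyUnramified

set_option autoImplicit false
universe u
open CAlg

namespace Groth.Agent.S0577

/-- Let `A` be a Noetherian local domain of prime characteristic `p` which is a Nagata ring. If `a ∈ A`
has a `p`-th root in the completion of `A`, then it has a `p`-th root in `A`. -/
theorem result (A : Type u) [CommRing A] [IsDomain A]
    [IsLocalRing A] (hA : CAlg.IsNagata A) (p : ℕ) [Fact p.Prime] [CharP A p] (a : A)
    (h : ∃ α : AdicCompletion (IsLocalRing.maximalIdeal A) A,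
      α ^ p = algebraMap A (AdicCompletion (IsLocalRing.maximalIdeal A) A) a) :
    ∃ b : A, b ^ p = a := by
  classical
  obtain ⟨α, hα⟩ := h
  haveI : IsNoetherianRing A := hA.1
  haveI : Module.FaithfullyFlat A (AdicCompletion (IsLocalRing.maximalIdeal A) A) :=
    Module.FaithfullyFlat.of_flat_of_isLocalHom
  have hp : p.Prime := Fact.out
  -- a `p`-th root `θ` of `a` in an algebraic closure of the fraction field
  obtain ⟨θ, hθ⟩ := IsAlgClosed.exists_pow_nat_eq
    (algebraMap A (AlgebraicClosure (FractionRing A)) a) hp.pos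
  have hinjL : Function.Injective (algebraMap A (AlgebraicClosure (FractionRing A))) := by
    rw [IsScalarTower.algebraMap_eq A (FractionRing A) (AlgebraicClosure (FractionRing A))]
    exact (algebraMap (FractionRing A) _).injective.comp (IsFractionRing.injective A _)
  have hθint : IsIntegral A θ := by
    refine ⟨Polynomial.X ^ p - Polynomial.C a, Polynomial.monic_X_pow_sub_C a hp.ne_zero, ?_⟩
    simp [hθ]
  obtain ⟨B, hB⟩ : ∃ B : Subalgebra A (AlgebraicClosure (FractionRing A)),
      B = Algebra.adjoin A {θ} := ⟨_, rfl⟩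
  haveI : Module.Finite A B := by
    rw [hB]
    exact Module.Finite.iff_fg.mpr hθint.fg_adjoin_singleton
  have hθB : θ ∈ B := by rw [hB]; exact Algebra.subset_adjoin (Set.mem_singleton θ)
  haveI hred : IsReduced (TensorProduct A B (AdicCompletion (IsLocalRing.maximalIdeal A) A)) :=
    Groth.Agent.Lib.Helper48.isReduced_tensor_adicCompletion_of_isNagata hA B
  have hθp : (⟨θ, hθB⟩ : B) ^ p = algebraMap A B a := Subtype.ext (by simpa using hθ)
  -- the key identity in `B ⊗ Â`
  have hkey : (⟨θ, hθB⟩ : B) ⊗ₜ[A] (1 : AdicCompletion (IsLocalRing.maximalIdeal A) A) =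
      (1 : B) ⊗ₜ[A] α := by
    rcases subsingleton_or_nontrivial
      (TensorProduct A B (AdicCompletion (IsLocalRing.maximalIdeal A) A)) with hs | hnt
    · exact Subsingleton.elim _ _
    have hp0 : ((p : ℕ) : TensorProduct A B (AdicCompletion (IsLocalRing.maximalIdeal A) A)) = 0 := by
      have h1 : ((p : ℕ) : A) = 0 := CharP.cast_eq_zero A p
      have h2 := congrArg (algebraMap A
        (TensorProduct A B (AdicCompletion (IsLocalRing.maximalIdeal A) A))) h1
      rw [map_natCast, map_zero] at h2
      exact h2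
    haveI : CharP (TensorProduct A B (AdicCompletion (IsLocalRing.maximalIdeal A) A)) p :=
      (CharP.charP_iff_prime_eq_zero hp).mpr hp0
    have hz : ((⟨θ, hθB⟩ : B) ⊗ₜ[A] (1 : AdicCompletion (IsLocalRing.maximalIdeal A) A) -
        (1 : B) ⊗ₜ[A] α) ^ p = 0 := by
      rw [sub_pow_char, Algebra.TensorProduct.tmul_pow, Algebra.TensorProduct.tmul_pow, one_pow,
        one_pow, hθp, hα, Algebra.algebraMap_eq_smul_one, Algebra.algebraMap_eq_smul_one (A := AdicCompletion _ _),
        TensorProduct.smul_tmul, sub_self]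
    exact sub_eq_zero.mp (IsNilpotent.eq_zero ⟨p, hz⟩)
  -- descent along the faithfully flat `A → Â`
  obtain ⟨N, hN⟩ : ∃ N : Submodule A B, N = LinearMap.range (Algebra.linearMap A B) := ⟨_, rfl⟩
  have h1 := congrArg (LinearMap.rTensor (AdicCompletion (IsLocalRing.maximalIdeal A) A) N.mkQ) hkey
  rw [LinearMap.rTensor_tmul, LinearMap.rTensor_tmul] at h1
  have hq1 : N.mkQ (1 : B) = 0 := by
    rw [Submodule.mkQ_apply, Submodule.Quotient.mk_eq_zero, hN]
    exact ⟨1, by simp⟩
  rw [hq1, TensorProduct.zero_tmul] at h1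
  have h2 := congrArg (TensorProduct.comm A (B ⧸ N) (AdicCompletion (IsLocalRing.maximalIdeal A) A)) h1
  rw [TensorProduct.comm_tmul, map_zero] at h2
  have h3 : N.mkQ (⟨θ, hθB⟩ : B) = 0 := by
    apply Module.FaithfullyFlat.tensorProduct_mk_injective (A := A)
      (B := AdicCompletion (IsLocalRing.maximalIdeal A) A) (B ⧸ N)
    rw [TensorProduct.mk_apply, map_zero]
    exact h2
  rw [Submodule.mkQ_apply, Submodule.Quotient.mk_eq_zero, hN] at h3
  obtain ⟨b, hb⟩ := h3
  refine ⟨b, hinjL ?_⟩
  rw [map_pow, ← hθ]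
  congr 1
  have := congrArg (fun x : B => (x : AlgebraicClosure (FractionRing A))) hb
  simpa using this

end Groth.Agent.S0577
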