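import Groth.Statements.S0595
import Groth.Agent.H34.PopFinal
import Groth.Agent.S6823
import Groth.Agent.S6824

set_option autoImplicit false
universe u
open CAlg

namespace Groth.Agent.S0595

/-- Popescu's Theorem, in factorization form: let R → Λ be a regular homomorphism of Noetherian rings.
Then every R-algebra homomorphism A → Λ from a finitely presented R-algebra A factors as A → B → Λ
through a smooth R-algebra B. -/
theorem result (R : Type u) [CommRing R] [IsNoetherianRing R] (Λ : Type u)
    [CommRing Λ] [IsNoetherianRing Λ] [Algebra R Λ] (hreg : CAlg.IsRegularHom R Λ) (A : Type u)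
    [CommRing A] [Algebra R A] [Algebra.FinitePresentation R A] (f : A →ₐ[R] Λ) :
    ∃ (B : Type u) (_ : CommRing B) (_ : Algebra R B), Algebra.Smooth R B ∧
      ∃ (g : A →ₐ[R] B) (h : B →ₐ[R] Λ), h.comp g = f := by
  refine Groth.Agent.H34.PopFinal.popescu ?_ ?_ R Λ hreg A f
  · intro k A Λ _ _ _ _ _ _ _ φ 𝔮 _ hmin _ _
    exact Groth.Agent.S6823.result φ 𝔮 hmin
  · intro k A Λ _ p _ _ _ _ _ _ _ _ hreg φ 𝔮 _ hmin
    exact Groth.Agent.S6824.result p hreg φ 𝔮 hmin

end Groth.Agent.S0595
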