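import Groth.Statements.S0610
import Groth.Agent.Lib.Helper67.CurveWeil
import Groth.Agent.Lib.Helper67.CurveAffine

set_option autoImplicit false
universe u
open AlgebraicGeometry CategoryTheory
open Zeta

namespace Groth.Agent.S0610

/-- Weil conjectures for curves, in elementary form (rationality of the zeta function with numerator of
degree 2g, the functional equation and the Riemann hypothesis, packaged as a point-count formula):
let k be a finite field with q elements and C a smooth, proper, geometrically irreducible curve over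
k of genus g, the genus being pinned down by #H¹(C, O_C) = q^g (equivalent to dim_k H¹(C, O_C) = g).
Then there are complex numbers α_1, …, α_{2g}, each an algebraic integer with |α_i|² = q, and a
permutation σ of the indices with α_{σ(i)} · α_i = q for all i, such that for every finite extension
k' of k the number of k'-points of C equals q^{[k':k]} + 1 − Σ_i α_i^{[k':k]}. -/
theorem result {k : Type u} [Field k] [Finite k] {C : Scheme.{u}}
    (f : C ⟶ Spec (CommRingCat.of k)) (hC : Curve.IsSmoothProperCurve k C f)
    [GeometricallyIrreducible f] (g : ℕ)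
    (hg : Nat.card (Coh.HH C (Coh.structureModule C) 1) = Nat.card k ^ g) :
    ∃ α : Fin (2 * g) → ℂ, (∀ i, IsIntegral ℤ (α i)) ∧ (∀ i, ‖α i‖ ^ 2 = Nat.card k) ∧
      (∃ σ : Equiv.Perm (Fin (2 * g)), ∀ i, α (σ i) * α i = Nat.card k) ∧
      ∀ (k' : Type u) [Field k'] [Algebra k k'] [Finite k'],
        (SgaExt.pointCount f k' : ℂ) =
          (Nat.card k : ℂ) ^ Module.finrank k k' + 1 - ∑ i, α i ^ Module.finrank k k' := by
  haveI : IsIntegral C := hC.2.2.1
  letI := Groth.Agent.Lib.Helper67.CurvePlaces.algK f
  have hK := Groth.Agent.Lib.Helper67.CurveCount.isFunctionField_of_curve hC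
  have hgen := Groth.Agent.Lib.Helper67.CurveWeil.genus_eq_of_isAffineOpen hC g hg
    (fun x hx => Groth.Agent.Lib.Helper67.CurveAffine.isAffineOpen_complOpen hC x hx)
  subst hgen
  obtain ⟨α, hint, hα, hpair⟩ := Groth.Agent.S11040.result k C.functionField hK
  have hnorm := fun i => Groth.Agent.Lib.Helper67.RHMain.norm_eq_sqrt hK α hα hpair i
  refine ⟨α, hint, fun i => ?_, ⟨Fin.revPerm, fun i => ?_⟩, fun k' _ _ _ => ?_⟩
  · rw [hnorm i, Real.sq_sqrt (Nat.cast_nonneg _)]
  · rw [Fin.revPerm_apply, mul_comm]
    exact hpair i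
  · have hpc := Groth.Agent.Lib.Helper67.CurveWeil.pointCount_eq_npts hC k'
    haveI : Module.Finite k k' := Module.Finite.of_finite
    have hn : 1 ≤ Module.finrank k k' := Module.finrank_pos
    obtain ⟨m, hm⟩ : ∃ m, Module.finrank k k' = m + 1 := ⟨Module.finrank k k' - 1, by omega⟩
    rw [hpc, hm, Groth.Agent.Lib.Helper67.FFNumer.npts_eq_of_numer ℂ hK α hα m]
    ring

end Groth.Agent.S0610
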