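import Groth.Statements.S0615
import Mathlib
import Groth.Agent.Lib.Helper90.ReesReg

set_option autoImplicit false
universe u
open RRAlg

namespace Groth.Agent.S0615.Aux

open Groth.Agent.Lib.Helper18 Groth.Agent.Lib.Helper90.ReesReg
open MvPolynomial


section blowup
variable {A : Type u} [CommRing A] {n : ℕ}

/-- homogenization in degree `d` with new variable `X 0` -/
noncomputable def homog (d : ℕ) (F : MvPolynomial (Fin n) A) : MvPolynomial (Fin (n + 1)) A :=
  ∑ α ∈ F.support, monomial (α.cons (d - α.degree)) (coeff α F)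

theorem degree_le_totalDegree {F : MvPolynomial (Fin n) A} {α : Fin n →₀ ℕ} (h : α ∈ F.support) :
    α.degree ≤ F.totalDegree := by
  have := le_totalDegree h
  rwa [Finsupp.degree_apply]

theorem homog_isHomogeneous (d : ℕ) (F : MvPolynomial (Fin n) A) (hd : F.totalDegree ≤ d) :
    (homog d F).IsHomogeneous d := by
  apply IsHomogeneous.sum
  intro α hα
  apply isHomogeneous_monomial
  rw [degree_cons]
  have := degree_le_totalDegree hα
  omega

/-- dehomogenization -/
noncomputable def dehom : MvPolynomial (Fin (n + 1)) A →ₐ[A] MvPolynomial (Fin n) A :=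
  aeval (Fin.cons 1 X : Fin (n + 1) → MvPolynomial (Fin n) A)

theorem dehom_monomial_cons (k : ℕ) (α : Fin n →₀ ℕ) (c : A) :
    dehom (monomial (α.cons k) c) = monomial α c := by
  rw [dehom, aeval_monomial, Finsupp.prod_fintype _ _ (fun i => pow_zero _), Fin.prod_univ_succ]
  simp only [Fin.cons_zero, Fin.cons_succ, Finsupp.cons_zero, Finsupp.cons_succ, one_pow, one_mul]
  rw [monomial_eq, Finsupp.prod_fintype _ _ (fun i => pow_zero _)]
  rfl

theorem dehom_homog (d : ℕ) (F : MvPolynomial (Fin n) A) : dehom (homog d F) = F := by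
  rw [homog, map_sum]
  simp_rw [dehom_monomial_cons]
  exact support_sum_monomial_coeff F

theorem dehom_mem (a : Fin (n + 1) → A) {q : MvPolynomial (Fin (n + 1)) A} (hq : q ∈ LL a) :
    dehom q ∈ Ideal.span (Set.range fun i : Fin n => C (a 0) * X i - C (a i.succ)) := by
  set Q := Ideal.span (Set.range fun i : Fin n =>
    (C (a 0) * X i - C (a i.succ) : MvPolynomial (Fin n) A)) with hQ
  have hgen : ∀ i : Fin n, (C (a 0) * X i - C (a i.succ) : MvPolynomial (Fin n) A) ∈ Q :=
    fun i => Ideal.subset_span ⟨i, rfl⟩
  have : Ideal.map (dehom : MvPolynomial (Fin (n + 1)) A →ₐ[A] MvPolynomial (Fin n) A) (LL a) ≤ Q := by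
    rw [LL, Ideal.map_span, Ideal.span_le]
    rintro _ ⟨_, ⟨i, j, rfl⟩, rfl⟩
    have hX0 : (dehom (X 0 : MvPolynomial (Fin (n + 1)) A) : MvPolynomial (Fin n) A) = 1 := by
      simp [dehom]
    have hXs : ∀ k : Fin n, (dehom (X k.succ : MvPolynomial (Fin (n + 1)) A)
        : MvPolynomial (Fin n) A) = X k := by
      intro k; simp [dehom]
    have hC : ∀ c : A, (dehom (C c : MvPolynomial (Fin (n + 1)) A) : MvPolynomial (Fin n) A) = C c := by
      intro c; simp [dehom]
    rw [SetLike.mem_coe, map_sub, map_mul, map_mul, hC, hC]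
    refine Fin.cases ?_ (fun k => ?_) i <;> refine Fin.cases ?_ (fun l => ?_) j
    · rw [hX0]; simp
    · rw [hX0, hXs]
      simpa using hgen l
    · rw [hX0, hXs]
      have := Q.neg_mem (hgen k)
      convert this using 1
      ring
    · rw [hXs, hXs]
      have h1 := Q.mul_mem_left (X k) (hgen l)
      have h2 := Q.mul_mem_left (X l) (hgen k)
      have := Q.sub_mem h1 h2
      convert this using 1
      ring
  exact this (Ideal.mem_map_of_mem _ hq)

end blowup

section blowup2
variable {A : Type u} [CommRing A] {n : ℕ}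

theorem main (a : Fin (n + 1) → A) (ha : RingTheory.Sequence.IsWeaklyRegular A (List.ofFn a)) :
    RingHom.ker (MvPolynomial.aeval (R := A) (S₁ := Localization.Away (a 0))
      (fun i : Fin n => IsLocalization.mk' (Localization.Away (a 0)) (a i.succ)
        (⟨a 0, Submonoid.mem_powers (a 0)⟩ : Submonoid.powers (a 0)))) =
      Ideal.span (Set.range fun i : Fin n =>
        MvPolynomial.C (a 0) * MvPolynomial.X i - MvPolynomial.C (a i.succ)) := by
  classical
  set L := Localization.Away (a 0) with hL
  set a0 : Submonoid.powers (a 0) := ⟨a 0, Submonoid.mem_powers (a 0)⟩ with ha0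
  set t : Fin n → L := fun i => IsLocalization.mk' L (a i.succ) a0 with ht
  have hspec : ∀ i, algebraMap A L (a 0) * t i = algebraMap A L (a i.succ) := by
    intro i
    exact IsLocalization.mk'_spec' L (a i.succ) a0
  have hreg : IsSMulRegular A (a 0) := by
    rw [List.ofFn_succ, RingTheory.Sequence.isWeaklyRegular_cons_iff] at ha
    exact ha.1
  have hP : PP a := PP_of_isWeaklyRegular (n + 1) a ha
  apply le_antisymm
  · intro F hF
    rw [RingHom.mem_ker] at hF
    set d := F.totalDegree with hd
    -- key identity
    have key : algebraMap A L (eval a (homog d F)) = algebraMap A L (a 0) ^ d * aeval t F := by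
      rw [homog, map_sum, map_sum]
      conv_rhs => rw [as_sum F, map_sum, Finset.mul_sum]
      refine Finset.sum_congr rfl fun α hα => ?_
      have hle : α.degree ≤ d := degree_le_totalDegree hα
      rw [eval_monomial, aeval_monomial, Finsupp.prod_fintype _ _ (fun i => pow_zero _),
        Fin.prod_univ_succ, Finsupp.prod_fintype _ _ (fun i => pow_zero _)]
      simp only [Finsupp.cons_zero, Finsupp.cons_succ, map_mul, map_pow, map_prod]
      have h1 : algebraMap A L (a 0) ^ d
          = algebraMap A L (a 0) ^ (d - α.degree) * ∏ i, algebraMap A L (a 0) ^ α i := by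
        rw [Finset.prod_pow_eq_pow_sum, ← Finsupp.degree_eq_sum, ← pow_add]
        congr 1
        omega
      rw [h1]
      have h2 : ∀ i, algebraMap A L (a i.succ) ^ α i = algebraMap A L (a 0) ^ α i * t i ^ α i := by
        intro i
        rw [← mul_pow, hspec]
      simp_rw [h2]
      rw [Finset.prod_mul_distrib]
      ring
    rw [hF, mul_zero] at key
    obtain ⟨⟨m, k, rfl⟩, hm⟩ := (IsLocalization.map_eq_zero_iff (Submonoid.powers (a 0)) L _).mp key
    have h0 : eval a (homog d F) = 0 := by
      have hk : IsSMulRegular A (a 0 ^ k) := hreg.pow k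
      apply hk
      simpa using hm
    have hmem := hP d (homog d F) (homog_isHomogeneous d F le_rfl) h0
    have := dehom_mem a hmem
    rwa [dehom_homog] at this
  · rw [Ideal.span_le]
    rintro _ ⟨i, rfl⟩
    rw [SetLike.mem_coe, RingHom.mem_ker, map_sub, map_mul, aeval_C, aeval_C, aeval_X]
    rw [hspec, sub_self]

end blowup2

end Groth.Agent.S0615.Aux

namespace Groth.Agent.S0615

/-- Let A be a commutative ring and a_0, a_1, …, a_n a weakly regular sequence in A (for each i, a_i is
a non-zero-divisor on A/(a_0, …, a_{i−1}); the sequence is indexed here by Fin (n+1)). Then the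
kernel of the A-algebra homomorphism A[T_1, …, T_n] → A[1/a_0] sending T_i to a_i/a_0 is the ideal
generated by the elements a_0 T_i − a_i for 1 ≤ i ≤ n (a presentation of the affine blow-up algebra
A[a_1/a_0, …, a_n/a_0]). -/
theorem result {A : Type u} [CommRing A] {n : ℕ}
    (a : Fin (n + 1) → A) (ha : RingTheory.Sequence.IsWeaklyRegular A (List.ofFn a)) :
    RingHom.ker (MvPolynomial.aeval (R := A) (S₁ := Localization.Away (a 0))
      (fun i : Fin n => IsLocalization.mk' (Localization.Away (a 0)) (a i.succ)
        (⟨a 0, Submonoid.mem_powers (a 0)⟩ : Submonoid.powers (a 0)))) =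
      Ideal.span (Set.range fun i : Fin n =>
        MvPolynomial.C (a 0) * MvPolynomial.X i - MvPolynomial.C (a i.succ)) := by
  exact Aux.main a ha

end Groth.Agent.S0615
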