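import Groth.Statements.S0619
import Groth.Agent.Lib.Helper67.CurveWeil

set_option autoImplicit false
universe u
open AlgebraicGeometry CategoryTheory
open Zeta

namespace Groth.Agent.S0619

/-- For a geometrically connected smooth proper curve of genus g over a finite field k with q elements
and a finite extension k' of degree n, |#C(k') − (qⁿ + 1)| ≤ 2g·q^(n/2). -/
theorem result {k : Type u} [Field k] [Finite k] {C : Scheme.{u}}
    (f : C ⟶ Spec (CommRingCat.of k)) (hC : Curve.IsSmoothProperCurve k C f)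
    [GeometricallyIrreducible f] (g : ℕ)
    (hg : Nat.card (Coh.HH C (Coh.structureModule C) 1) = Nat.card k ^ g)
    (k' : Type u) [Field k'] [Algebra k k'] [Finite k'] :
    |(SgaExt.pointCount f k' : ℝ) - ((Nat.card k : ℝ) ^ Module.finrank k k' + 1)| ≤
      2 * g * (Nat.card k : ℝ) ^ ((Module.finrank k k' : ℝ) / 2) := by
  haveI : IsIntegral C := hC.2.2.1
  letI := Groth.Agent.Lib.Helper67.CurvePlaces.algK f
  have hK := Groth.Agent.Lib.Helper67.CurveCount.isFunctionField_of_curve hC
  have hgle := Groth.Agent.Lib.Helper67.CurveWeil.genus_le hC g hg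
  have hpc := Groth.Agent.Lib.Helper67.CurveWeil.pointCount_eq_npts hC k'
  haveI : Module.Finite k k' := Module.Finite.of_finite
  have hn : 1 ≤ Module.finrank k k' := Module.finrank_pos
  have hb := Groth.Agent.Lib.Helper67.RHPrimeDeg.norm_npts_sub_le hK (Module.finrank k k') hn
  rw [← hpc] at hb
  have hq0 : (0 : ℝ) ≤ (Nat.card k : ℝ) := Nat.cast_nonneg _
  have h1 : |(SgaExt.pointCount f k' : ℝ) - ((Nat.card k : ℝ) ^ Module.finrank k k' + 1)| =
      ‖(SgaExt.pointCount f k' : ℂ) - ((Nat.card k : ℂ) ^ Module.finrank k k' + 1)‖ := by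
    rw [← Real.norm_eq_abs, ← Complex.norm_real]
    congr 1
    push_cast
    ring
  rw [h1]
  have h2 : Real.sqrt (Nat.card k : ℝ) ^ Module.finrank k k' =
      (Nat.card k : ℝ) ^ ((Module.finrank k k' : ℝ) / 2) := by
    rw [Real.sqrt_eq_rpow, ← Real.rpow_natCast, ← Real.rpow_mul hq0]
    congr 1
    ring
  rw [h2] at hb
  refine hb.trans ?_
  have h3 : (0 : ℝ) ≤ (Nat.card k : ℝ) ^ ((Module.finrank k k' : ℝ) / 2) :=
    Real.rpow_nonneg hq0 _
  have h4 : (FunFld.genus k C.functionField : ℝ) ≤ g := by exact_mod_cast hgle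
  nlinarith

end Groth.Agent.S0619
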