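import Groth.Statements.S0627
import Groth.Agent.Lib.Helper33.EtConstNormal

set_option autoImplicit false
open CategoryTheory CategoryTheory.Limits AlgebraicGeometry Opposite
universe u
open EtCore

namespace Groth.Agent.S0627

/-- Let X be an integral normal scheme (every local ring integrally closed), U a nonempty open subscheme
with inclusion j : U → X, and M an abelian group. Then the adjunction unit from the constant étale
sheaf with value M on X to j_* of its pullback to U is an isomorphism. -/
theorem result (X : Scheme.{u}) [IsIntegral X]
    (hN : ∀ x : X, IsIntegrallyClosed (X.presheaf.stalk x)) (U : X.Opens) (hU : (U : Set X).Nonempty)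
    (M : Type) [AddCommGroup M] :
    IsIso ((EtCoh.pullPushAdj U.ι).unit.app (EtCoh.const X M)) := by
  have hU' : (Set.range U.ι).Nonempty := by
    obtain ⟨x, hx⟩ := hU
    exact ⟨x, by rw [Scheme.Opens.range_ι]; exact hx⟩
  exact Groth.Agent.Lib.Helper33.EtConstNormal.isIso_unit_const_of_normal U.ι hU' hN
    (AddCommGrpCat.of (ULift.{u + 1} M))

end Groth.Agent.S0627
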