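import Groth.Statements.S0632
import Mathlib
import Groth.Agent.Lib.Helper43.EtLift

set_option autoImplicit false
open CategoryTheory CategoryTheory.Limits AlgebraicGeometry Opposite
universe u
open EtCore

namespace Groth.Agent.S0632

open Groth.Agent.Lib.Helper43


/-- Let X -> Y be a closed immersion and U_i -> X (i in ι) a jointly surjective family of etale
morphisms. Then one can find a jointly surjective family of etale Y-schemes V_j each of which either
has empty preimage over X or, after base change to X, maps into one of the U_i over X. -/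
theorem result {X Y : Scheme.{u}} (f : X ⟶ Y) [IsClosedImmersion f]
    {ι : Type u} (U : ι → X.Etale) (hU : EtCoh.Covers U) :
    ∃ (κ : Type u) (V : κ → Y.Etale), EtCoh.Covers V ∧
      ∀ j, IsEmpty ↥(pullback (V j).hom f) ∨
        ∃ (i : ι) (h : pullback (V j).hom f ⟶ (U i).left), h ≫ (U i).hom = pullback.snd (V j).hom f := by
  choose V h h1 h2 h3 using fun (p : Σ i, (U i).left) => EtLift.lift_at f (U p.1) p.2
  -- the open complement of the image of `f`
  let W : Y.Opens := ⟨(Set.range f.base)ᶜ, f.isClosedEmbedding.isClosed_range.isOpen_compl⟩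
  let V₀ : Y.Etale := Scheme.Etale.mk W.ι
  let V' : Option (Σ i, (U i).left) → Y.Etale := fun o => o.elim V₀ V
  refine ⟨Option (Σ i, (U i).left), V', ?_, ?_⟩
  · intro y
    by_cases hy : y ∈ Set.range f.base
    · obtain ⟨x', rfl⟩ := hy
      obtain ⟨i, u, hu⟩ := hU x'
      obtain ⟨p, hp⟩ := h3 ⟨i, u⟩
      refine ⟨some ⟨i, u⟩, (pullback.fst (V ⟨i, u⟩).hom f).base p, ?_⟩
      change ((pullback.fst (V ⟨i, u⟩).hom f) ≫ (V ⟨i, u⟩).hom).base p = _
      rw [pullback.condition, ← h1 ⟨i, u⟩]
      change f.base ((U i).hom.base ((h ⟨i, u⟩).base p)) = _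
      rw [hp, hu]
    · refine ⟨none, ⟨y, hy⟩, ?_⟩
      rfl
  · rintro (_ | ⟨i, u⟩)
    · left
      constructor
      intro p
      have h4 : (V₀.hom).base ((pullback.fst V₀.hom f).base p) = f.base ((pullback.snd V₀.hom f).base p) := by
        change ((pullback.fst V₀.hom f) ≫ V₀.hom).base p = _
        rw [pullback.condition]
        rfl
      have h5 : (V₀.hom).base ((pullback.fst V₀.hom f).base p) ∈ (W : Set Y) :=
        ((pullback.fst V₀.hom f).base p).2
      exact h5 ⟨_, h4.symm⟩
    · right
      exact ⟨i, h ⟨i, u⟩, h1 ⟨i, u⟩⟩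

end Groth.Agent.S0632
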