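import Groth.Statements.S6631
import Mathlib
import Groth.Agent.Lib.Helper43.EtOpenSub

set_option autoImplicit false
open CategoryTheory CategoryTheory.Limits AlgebraicGeometry Opposite
universe u
open EtDesc

namespace Groth.Agent.S6631

open Groth.Agent.Lib.Helper43

/-- the surjective covering morphism `X ×_Y V ⟶ U` given by condition (C) -/
lemma exists_cover {X Y : Scheme.{u}} (f : X ⟶ Y) (hC : BigSite.PropC f) (U : X.Etale) :
    ∃ (V' : Y.Etale) (h' : (EtCoh.bc f).obj V' ⟶ U), Function.Surjective h'.left.base := by
  let UL : Scheme.{u} := U.left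
  let uh : UL ⟶ X := U.hom
  obtain ⟨V, v, hv, h, hh, hs⟩ := hC UL uh
  let V' : Y.Etale := Scheme.Etale.mk v
  let σ : pullback v f ≅ pullback f v := pullbackSymmetry v f
  have hσ1 : σ.hom ≫ pullback.fst f v = pullback.snd v f := pullbackSymmetry_hom_comp_fst v f
  have hc : (σ.hom ≫ h) ≫ uh = pullback.snd v f := by
    rw [Category.assoc, hh, hσ1]
  let h' : (EtCoh.bc f).obj V' ⟶ U := MorphismProperty.Over.homMk (σ.hom ≫ h) hc
  refine ⟨V', h', ?_⟩
  intro u
  obtain ⟨p, hp⟩ := hs.surj u
  refine ⟨σ.inv.base p, ?_⟩
  change (σ.inv ≫ σ.hom ≫ h).base p = u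
  rw [Iso.inv_hom_id_assoc]
  exact hp

/-- the sieve generated by a surjective morphism is covering -/
lemma generate_mem {X : Scheme.{u}} {T U : X.Etale} (h' : T ⟶ U)
    (hs : Function.Surjective h'.left.base) :
    Sieve.generate (Presieve.singleton h') ∈ X.smallEtaleTopology U := by
  rw [EtOpenSub.mem_smallEtaleTopology_iff']
  intro u
  obtain ⟨p, hp⟩ := hs u
  exact ⟨T, h', p, Sieve.le_generate _ _ _ (Presieve.singleton.mk), hp⟩

/-- sectionwise injectivity of a monomorphism of sheaves of sets -/
lemma injective_of_mono {X : Scheme.{u}} {F F' : EtDesc.Sh X} (φ : F ⟶ F') [Mono φ] (U : X.Etale) :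
    Function.Injective (φ.hom.app (op U)) := by
  have h1 : Mono ((sheafToPresheaf _ _).map φ) := inferInstance
  have h2 : Mono (((sheafToPresheaf _ _).map φ).app (op U)) := inferInstance
  exact (mono_iff_injective _).1 h2


/-- Let f : X ⟶ Y be a morphism of schemes satisfying condition (C) (for every etale U ⟶ X there are an
etale V ⟶ Y and a surjective X-morphism X ×_Y V ⟶ U). Then the direct image of sheaves of sets on
the small etale sites along f reflects monomorphisms and epimorphisms. -/
theorem result {X Y : Scheme.{u}} (f : X ⟶ Y) (hC : BigSite.PropC f) :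
    (EtDesc.pushSh f).ReflectsMonomorphisms ∧ (EtDesc.pushSh f).ReflectsEpimorphisms := by
  constructor
  · constructor
    intro F F' φ hm
    apply Sheaf.mono_of_injective
    intro U
    induction U using Opposite.rec with | op U => ?_
    intro s₁ s₂ hs
    obtain ⟨V', h', hsurj⟩ := exists_cover f hC U
    have hinj : Function.Injective (φ.hom.app (op ((EtCoh.bc f).obj V'))) :=
      injective_of_mono ((EtDesc.pushSh f).map φ) V'
    have h1 : F.obj.map h'.op s₁ = F.obj.map h'.op s₂ := by
      apply hinj
      have n1 := congrArg (fun t => t s₁) (φ.hom.naturality h'.op)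
      have n2 := congrArg (fun t => t s₂) (φ.hom.naturality h'.op)
      exact n1.trans ((congrArg (F'.obj.map h'.op) hs).trans n2.symm)
    have hsh := (isSheaf_iff_isSheaf_of_type _ _).1 F.property
    refine (hsh _ (generate_mem h' hsurj)).isSeparatedFor.ext (fun T a ha => ?_)
    obtain ⟨T', k, g, hg, rfl⟩ := ha
    cases hg
    rw [op_comp, F.obj.map_comp]
    exact congrArg (F.obj.map k.op) h1
  · constructor
    intro F F' φ he
    have hls : Sheaf.IsLocallySurjective ((EtDesc.pushSh f).map φ) :=
      (Sheaf.isLocallySurjective_iff_epi _).2 he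
    suffices Sheaf.IsLocallySurjective φ from inferInstance
    constructor
    intro U s'
    obtain ⟨V', h', hsurj⟩ := exists_cover f hC U
    let s'' : F'.obj.obj (op ((EtCoh.bc f).obj V')) := F'.obj.map h'.op s'
    -- the image sieve of `s''` on `X ×_Y V'` is covering
    have h1 : Presheaf.imageSieve φ.hom s'' ∈ X.smallEtaleTopology ((EtCoh.bc f).obj V') := by
      have h0 : Presheaf.imageSieve ((EtDesc.pushSh f).map φ).hom s'' ∈ Y.smallEtaleTopology V' :=
        Presheaf.imageSieve_mem _ _ _
      refine X.smallEtaleTopology.superset_covering ?_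
        ((EtCoh.coverPreserving_bc f).cover_preserve h0)
      rintro T a ⟨V'', g, k, ⟨t, ht⟩, rfl⟩
      refine ⟨F.obj.map k.op t, ?_⟩
      have n1 := congrArg (fun w => w t) (φ.hom.naturality k.op)
      refine n1.trans ?_
      rw [op_comp, F'.obj.map_comp]
      exact congrArg (F'.obj.map k.op) ht
    refine X.smallEtaleTopology.transitive (generate_mem h' hsurj) _ ?_
    rintro T a ⟨T', k, g, hg, rfl⟩
    cases hg
    rw [Sieve.pullback_comp, Presheaf.pullback_imageSieve]
    exact X.smallEtaleTopology.pullback_stable k h1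

end Groth.Agent.S6631
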