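import Groth.Statements.S0634
import Mathlib
import Groth.Agent.S0671
import Groth.Agent.S6631
import Groth.Agent.Lib.Helper43.SuppPush
import Groth.Agent.Lib.Helper43.PullStalk

set_option autoImplicit false
open CategoryTheory CategoryTheory.Limits AlgebraicGeometry Opposite
universe u
open EtCore

namespace Groth.Agent.S0634

open Groth.Agent.Lib.Helper43 Groth.Agent.Lib.Helper43.ClopenExt

lemma bij_of_iso {A B : AddCommGrpCat.{u + 1}} (f : A ⟶ B) (h : IsIso f) : Function.Bijective f :=
  ConcreteCategory.bijective_of_isIso f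

/-- restriction along a surjective morphism is injective -/
lemma eq_zero_of_map_surjective {X : Scheme.{u}} (G : EtCoh.Ab X) {T' T : X.Etale} (k : T' ⟶ T)
    (hk : Function.Surjective k.left.base) (e : G.obj.obj (op T))
    (he : G.obj.map k.op e = 0) : e = 0 := by
  have hsh := (isSheaf_iff_isSheaf_of_type _ _).1
    ((Presheaf.isSheaf_iff_isSheaf_forget _ G.obj (forget AddCommGrpCat)).1 G.property)
  refine (hsh _ (S6631.generate_mem k hk)).isSeparatedFor.ext (fun T₁ a ha => ?_)
  obtain ⟨T₂, k', g, hg, rfl⟩ := ha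
  cases hg
  change G.obj.map (k' ≫ k).op e = G.obj.map (k' ≫ k).op 0
  rw [map_zero, op_comp, G.obj.map_comp]
  change G.obj.map k'.op (G.obj.map k.op e) = 0
  rw [he]
  exact map_zero _

/-- the zero locus of a global section: `f` maps into it iff the pulled back section vanishes -/
lemma key {S : Scheme.{u}} (F : EtCoh.Ab S) (d : EtCoh.sect F (EtCoh.top S))
    (T : Scheme.{u}) (f : T ⟶ S) :
    Set.range f.base ⊆ (EtShriek.sectSupp F (EtCoh.top S) d)ᶜ ↔
      ((EtCoh.pullPushAdj f).unit.app F).hom.app (op (EtCoh.top S)) d = 0 := by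
  constructor
  · intro hf
    let W : S.Opens := ⟨(EtShriek.sectSupp F (EtCoh.top S) d)ᶜ,
      (S0671.isClosed_sectSupp F (EtCoh.top S) d).isOpen_compl⟩
    let g : sub (𝟙 S) W ⟶ EtCoh.top S := subι (𝟙 S) W
    have h0 : F.obj.map g.op d = 0 :=
      SuppPush.map_eq_zero_of_range_subset_compl (𝟙 S) F d g (by
        rintro _ ⟨w, rfl⟩
        exact w.2)
    let η := (EtCoh.pullPushAdj f).unit.app F
    have hnat : η.hom.app (op (sub (𝟙 S) W)) (F.obj.map g.op d) =
        ((EtCoh.pull f).obj F).obj.map ((EtCoh.bc f).map g).op (η.hom.app (op (EtCoh.top S)) d) :=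
      congrArg (fun m => m d) (η.hom.naturality g.op)
    rw [h0, map_zero] at hnat
    refine eq_zero_of_map_surjective ((EtCoh.pull f).obj F) ((EtCoh.bc f).map g) ?_ _ hnat.symm
    -- surjectivity
    intro q
    let κ : pullback (W.ι ≫ 𝟙 S) f ⟶ pullback (𝟙 S) f := ((EtCoh.bc f).map g).left
    have κ_fst : κ ≫ pullback.fst (𝟙 S) f = pullback.fst (W.ι ≫ 𝟙 S) f ≫ W.ι :=
      S0100.bc_map_left_fst f g
    have κ_snd : κ ≫ pullback.snd (𝟙 S) f = pullback.snd (W.ι ≫ 𝟙 S) f :=
      S0100.bc_map_left_snd f g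
    let q' : ↥(pullback (𝟙 S) f) := q
    have hq : (pullback.fst (𝟙 S) f).base q' = f.base ((pullback.snd (𝟙 S) f).base q') := by
      change (pullback.fst (𝟙 S) f ≫ 𝟙 S).base q' = (pullback.snd (𝟙 S) f ≫ f).base q'
      rw [pullback.condition]
    have hmem : (pullback.fst (𝟙 S) f).base q' ∈ W := by
      rw [hq]; exact hf ⟨_, rfl⟩
    have hc : (W.ι ≫ 𝟙 S).base (⟨(pullback.fst (𝟙 S) f).base q', hmem⟩ : W) =
        f.base ((pullback.snd (𝟙 S) f).base q') := hq
    obtain ⟨w, hw1, hw2⟩ := Scheme.Pullback.exists_preimage_pullback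
      (f := W.ι ≫ 𝟙 S) (g := f) (⟨(pullback.fst (𝟙 S) f).base q', hmem⟩ : W)
      ((pullback.snd (𝟙 S) f).base q') hc
    refine ⟨w, ?_⟩
    have hinj : Function.Injective (pullback.snd (𝟙 S) f).base :=
      (pullback.snd (𝟙 S) f).homeomorph.injective
    apply hinj
    have : (pullback.snd (𝟙 S) f).base (κ.base w) = (pullback.snd (W.ι ≫ 𝟙 S) f).base w :=
      congrArg (fun m => m.base w) κ_snd
    exact this.trans hw2
  · intro h0
    rintro _ ⟨τ, rfl⟩ hmem
    let Ω : Type u := SeparableClosure (T.residueField τ)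
    let ξ : Spec (CommRingCat.of Ω) ⟶ T :=
      Spec.map (CommRingCat.ofHom (algebraMap (T.residueField τ) Ω)) ≫
        T.fromSpecResidueField τ
    have hξ : ∀ q, ξ.base q = τ := by
      intro q
      simp only [ξ, Scheme.Hom.comp_apply]
      exact Scheme.fromSpecResidueField_apply _ _
    let Φ := Scheme.pointSmallEtale (ξ ≫ f)
    let z : Φ.fiber.obj (EtCoh.top S) := Over.homMk (ξ ≫ f) (Category.comp_id _)
    have h1 := PullStalk.toFiber_pullStalkMap f F ξ (EtCoh.top S) z
    have h2 : (PullStalk.pullStalkMap f F ξ) (Φ.toPresheafFiber (EtCoh.top S) z F.obj d) = 0 := by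
      have := congrArg (fun m => m d) h1
      refine this.trans ?_
      change ((Scheme.pointSmallEtale ξ).toPresheafFiber ((EtCoh.bc f).obj (EtCoh.top S))
          (S0100.fiberEquiv f ξ (EtCoh.top S) z) ((EtCoh.pull f).obj F).obj)
        (((EtCoh.pullPushAdj f).unit.app F).hom.app (op (EtCoh.top S)) d) = 0
      rw [h0]
      exact map_zero _
    have h3 : Φ.toPresheafFiber (EtCoh.top S) z F.obj d = Φ.toPresheafFiber (EtCoh.top S) z F.obj 0 := by
      apply (bij_of_iso _ (PullStalk.isIso_pullStalkMap f F ξ)).1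
      rw [h2, map_zero, map_zero]
    obtain ⟨W', g, z', hz', hs⟩ := (Φ.toPresheafFiber_eq_iff' _ _ _ _).1 h3
    let zl' : Spec (CommRingCat.of Ω) ⟶ W'.left := z'.left
    refine hmem W' g ⟨zl'.base default, ?_⟩ (hs.trans (map_zero _))
    have h4 : zl' ≫ g.left = ξ ≫ f := congrArg (fun t => Over.Hom.left t) hz'
    have h5 : (zl' ≫ g.left).base default = f.base τ := by
      rw [h4]
      change f.base (ξ.base default) = _
      rw [hξ]
    exact h5


/-- For an abelian sheaf F on the small etale site of S and two global sections s, t there is an open W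
of S such that a morphism f : T -> S has image inside W if and only if the pullbacks of s and t
along f (images under the adjunction unit, as sections of the pullback sheaf over T) coincide. -/
theorem result {S : Scheme.{u}} (F : EtCoh.Ab S) (s t : EtCoh.sect F (EtCoh.top S)) :
    ∃ W : S.Opens, ∀ (T : Scheme.{u}) (f : T ⟶ S),
      Set.range f.base ⊆ (W : Set S) ↔
        ((EtCoh.pullPushAdj f).unit.app F).hom.app (op (EtCoh.top S)) s =
          ((EtCoh.pullPushAdj f).unit.app F).hom.app (op (EtCoh.top S)) t := by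
  refine ⟨⟨(EtShriek.sectSupp F (EtCoh.top S) (s - t))ᶜ,
    (S0671.isClosed_sectSupp F (EtCoh.top S) (s - t)).isOpen_compl⟩, fun T f => ?_⟩
  refine (key F (s - t) T f).trans ?_
  rw [map_sub, sub_eq_zero]

end Groth.Agent.S0634
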