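import Groth.Statements.S0643
-- import your own Groth.Agent.* helpers here

set_option autoImplicit false
universe u
open EtCore

namespace Groth.Agent.S0643

open Polynomial in
/-- Let A be a ring, assumed nonzero here (the published statement does not say so; over the zero ring
no polynomial has positive degree in Lean's sense), and a, b elements generating the unit ideal such
that some positive power of a is congruent to 1 modulo b. Then there is a monic polynomial P of
positive degree over A such that in B = A[y]/(P) the element a - b y is a unit. -/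
theorem result (A : Type u) [CommRing A] [Nontrivial A] (a b : A) (hab : IsCoprime a b)
    (hroot : ∃ n : ℕ, 0 < n ∧ a ^ n - 1 ∈ Ideal.span ({b} : Set A)) :
    ∃ P : A[X], P.Monic ∧ 0 < P.natDegree ∧
      IsUnit (algebraMap A (AdjoinRoot P) a - algebraMap A (AdjoinRoot P) b * AdjoinRoot.root P) := by
  classical
  obtain ⟨u, v, huv⟩ := hab
  obtain ⟨n, hn, hmem⟩ := hroot
  obtain ⟨c, hc⟩ := Ideal.mem_span_singleton'.mp hmem
  -- `hc : c * b = a ^ n - 1`
  set q : A[X] := C c * (C u * X + C v) ^ (n - 1) with hq
  have hqdeg : q.degree < (n : WithBot ℕ) := by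
    have h1 : (C u * X + C v : A[X]).natDegree ≤ 1 := by
      compute_degree
    have h2 : q.natDegree ≤ n - 1 := by
      calc q.natDegree ≤ (C c : A[X]).natDegree + ((C u * X + C v : A[X]) ^ (n - 1)).natDegree :=
            natDegree_mul_le
        _ ≤ 0 + (n - 1) * 1 := by
            gcongr
            · simp
            · exact (natDegree_pow_le).trans (Nat.mul_le_mul_left _ h1)
        _ = n - 1 := by simp
    calc q.degree ≤ (q.natDegree : WithBot ℕ) := degree_le_natDegree
      _ ≤ ((n - 1 : ℕ) : WithBot ℕ) := by exact_mod_cast h2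
      _ < (n : WithBot ℕ) := by exact_mod_cast Nat.sub_lt hn Nat.one_pos
  have hmonic : (X ^ n - q : A[X]).Monic := monic_X_pow_sub hqdeg
  have hnat : (X ^ n - q : A[X]).natDegree = n := by
    have : (X ^ n - q : A[X]).degree = (n : WithBot ℕ) := by
      rw [degree_sub_eq_left_of_degree_lt]
      · simp
      · simpa using hqdeg
    exact natDegree_eq_of_degree_eq_some this
  refine ⟨X ^ n - q, hmonic, by rw [hnat]; exact hn, ?_⟩
  set P : A[X] := X ^ n - q with hP
  set β : AdjoinRoot P := AdjoinRoot.root P with hβ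
  set φ := algebraMap A (AdjoinRoot P) with hφ
  -- the defining relation
  have hrel : β ^ n = φ c * (φ u * β + φ v) ^ (n - 1) := by
    have h0 : aeval β P = 0 := by
      rw [hβ, AdjoinRoot.aeval_eq, AdjoinRoot.mk_self]
    have : aeval β P = β ^ n - φ c * (φ u * β + φ v) ^ (n - 1) := by
      simp [hP, hq, hφ]
    rw [this] at h0
    exact sub_eq_zero.mp h0
  set t := φ a - φ b * β with ht
  have d1 : t ∣ φ a ^ n - (φ b * β) ^ n := sub_dvd_pow_sub_pow _ _ _
  have d2 : t ∣ (φ u * φ a + φ v * φ b) ^ (n - 1) - (φ u * (φ b * β) + φ v * φ b) ^ (n - 1) := by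
    refine dvd_trans ?_ (sub_dvd_pow_sub_pow _ _ _)
    exact ⟨φ u, by rw [ht]; ring⟩
  have huv' : φ u * φ a + φ v * φ b = 1 := by
    rw [← map_mul, ← map_mul, ← map_add, huv, map_one]
  have hc' : φ c * φ b = φ a ^ n - 1 := by
    rw [← map_mul, hc, map_sub, map_pow, map_one]
  have hbn : φ b ^ n = φ b * φ b ^ (n - 1) := by
    rw [← pow_succ', Nat.sub_add_cancel hn]
  have key : (1 : AdjoinRoot P) =
      (φ a ^ n - (φ b * β) ^ n) -
        φ c * φ b * ((φ u * φ a + φ v * φ b) ^ (n - 1) -
          (φ u * (φ b * β) + φ v * φ b) ^ (n - 1)) := by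
    have e1 : (φ u * (φ b * β) + φ v * φ b) ^ (n - 1) =
        φ b ^ (n - 1) * (φ u * β + φ v) ^ (n - 1) := by
      rw [← mul_pow]; congr 1; ring
    rw [e1, huv', one_pow, mul_pow, hrel, hbn]
    linear_combination hc'
  have : t ∣ 1 := by
    rw [key]
    exact dvd_sub d1 (Dvd.dvd.mul_left d2 _)
  exact isUnit_of_dvd_one this

end Groth.Agent.S0643
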