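import Groth.Statements.S0644
import Mathlib

set_option autoImplicit false
open CategoryTheory CategoryTheory.Limits AlgebraicGeometry Opposite
universe u
open EtCore

namespace Groth.Agent.S0644

set_option backward.isDefEq.respectTransparency.types false in
lemma mem_smallEtaleTopology_iff' {X : Scheme.{u}} (U : X.Etale) (R : Sieve U) :
    R ∈ X.smallEtaleTopology U ↔
      ∀ x : U.left, ∃ (V : X.Etale) (f : V ⟶ U) (y : V.left), R f ∧ f.left y = x := by
  have h0 : X.smallEtaleTopology = (X.smallPretopology (Q := @Etale) (P := @Etale)).toGrothendieck :=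
    Scheme.smallGrothendieckTopology_eq_toGrothendieck_smallPretopology _ le_rfl
  rw [h0]
  refine (Scheme.mem_toGrothendieck_smallPretopology (P := @Etale) (Q := @Etale) U R).trans ?_
  constructor
  · intro h x
    obtain ⟨V, f, y, h1, -, h3⟩ := h x
    exact ⟨V, f, y, h1, h3⟩
  · intro h x
    obtain ⟨V, f, y, h1, h3⟩ := h x
    refine ⟨V, f, y, h1, ?_, h3⟩
    infer_instance

lemma hom_left_eq {S : Scheme.{u}} {V U : S.Etale} (g : V ⟶ U) : g.left ≫ U.hom = V.hom :=
  MorphismProperty.Over.w g

/-- Hom into an open is subsingleton. -/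
lemma subsingleton_hom_open {S : Scheme.{u}} (W : S.Opens) (V : S.Etale) :
    Subsingleton (V ⟶ Scheme.Etale.mk W.ι) := by
  constructor
  intro a b
  apply MorphismProperty.Over.Hom.ext
  have ha := hom_left_eq a
  have hb := hom_left_eq b
  exact (cancel_mono W.ι).1 (ha.trans hb.symm)

lemma nonempty_hom_open_iff {S : Scheme.{u}} (W : S.Opens) (V : S.Etale) :
    Nonempty (V ⟶ Scheme.Etale.mk W.ι) ↔ Set.range V.hom ⊆ (W : Set S) := by
  constructor
  · rintro ⟨a⟩ x ⟨v, rfl⟩
    have ha := hom_left_eq a
    have : V.hom v = W.ι (a.left v) := by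
      rw [← ha]; rfl
    rw [this]
    exact (a.left v).2
  · intro h
    have h' : Set.range V.hom ⊆ Set.range W.ι := by
      rw [Scheme.Opens.range_ι]; exact h
    let l : V.left ⟶ W.toScheme := IsOpenImmersion.lift W.ι V.hom h'
    have hl : l ≫ W.ι = V.hom := IsOpenImmersion.lift_fac _ _ _
    exact ⟨MorphismProperty.Over.homMk (A := V) (B := Scheme.Etale.mk W.ι) l hl⟩

instance etale_hom {S : Scheme.{u}} (V : S.Etale) : Etale V.hom := V.prop

noncomputable def supp {S : Scheme.{u}} (F : (S.Etale)ᵒᵖ ⥤ Type u) : S.Opens :=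
  ⟨⋃ (V : S.Etale) (_ : Nonempty (F.obj (op V))), Set.range V.hom,
    isOpen_iUnion fun V => isOpen_iUnion fun _ => V.hom.isOpenMap.isOpen_range⟩

lemma mem_supp {S : Scheme.{u}} (F : (S.Etale)ᵒᵖ ⥤ Type u) (s : S) :
    s ∈ supp F ↔ ∃ (V : S.Etale), Nonempty (F.obj (op V)) ∧ s ∈ Set.range V.hom := by
  change s ∈ (⋃ (V : S.Etale) (_ : Nonempty (F.obj (op V))), Set.range V.hom) ↔ _
  simp only [Set.mem_iUnion, exists_prop]

lemma nonempty_iff_range_subset (S : Scheme.{u}) (F : Sheaf S.smallEtaleTopology (Type u))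
    (hF : ∀ U : S.Etale, Subsingleton (F.obj.obj (op U))) (V : S.Etale) :
    Nonempty (F.obj.obj (op V)) ↔ Set.range V.hom ⊆ (supp F.obj : Set S) := by
  constructor
  · intro h x hx
    exact (mem_supp F.obj x).2 ⟨V, h, hx⟩
  · intro h
    let R : Sieve V :=
      { arrows := fun W _ => Nonempty (F.obj.obj (op W))
        downward_closed := fun {W W'} g hs h => by
          obtain ⟨s⟩ := hs
          exact ⟨F.obj.map h.op s⟩ }
    have hR : R ∈ S.smallEtaleTopology V := by
      rw [mem_smallEtaleTopology_iff']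
      intro x
      obtain ⟨V', hne, v, hv⟩ := (mem_supp F.obj (V.hom x)).1 (h ⟨x, rfl⟩)
      obtain ⟨z, hz1, hz2⟩ := Scheme.Pullback.exists_preimage_pullback (f := V.hom) (g := V'.hom) x v hv.symm
      let W : S.Etale := Scheme.Etale.mk (pullback.fst V.hom V'.hom ≫ V.hom)
      let a : W ⟶ V := MorphismProperty.Over.homMk (pullback.fst V.hom V'.hom) rfl
      let b : W ⟶ V' := MorphismProperty.Over.homMk (pullback.snd V.hom V'.hom) pullback.condition.symm
      refine ⟨W, a, z, ?_, hz1⟩
      obtain ⟨s⟩ := hne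
      exact ⟨F.obj.map b.op s⟩
    have hsh := F.property.isSheafFor R hR
    let fam : Presieve.FamilyOfElements F.obj R.arrows := fun W g hg => hg.some
    have hfam : fam.Compatible := by
      intro Y₁ Y₂ Z g₁ g₂ f₁ f₂ h₁ h₂ _
      exact (hF Z).elim _ _
    exact ⟨hsh.amalgamate fam hfam⟩


/-- Let F be a sheaf of sets on the small etale site of S which is a subsheaf of the final sheaf, i.e.
every set of sections has at most one element. Then there is exactly one open W of S such that F is
isomorphic to the sheaf represented by W (viewed as a scheme etale over S). -/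
theorem result (S : Scheme.{u}) (F : Sheaf S.smallEtaleTopology (Type u))
    (hF : ∀ U : S.Etale, Subsingleton (F.obj.obj (op U))) :
    ∃! W : S.Opens, Nonempty (F.obj ≅ yoneda.obj (Scheme.Etale.mk W.ι)) := by
  have key : ∀ (W : S.Opens), Nonempty (F.obj ≅ yoneda.obj (Scheme.Etale.mk W.ι)) ↔
      ∀ V : S.Etale, Nonempty (F.obj.obj (op V)) ↔ Set.range V.hom ⊆ (W : Set S) := by
    intro W
    constructor
    · rintro ⟨e⟩ V
      rw [← nonempty_hom_open_iff]
      constructor
      · rintro ⟨x⟩
        exact ⟨(e.hom.app (op V)) x⟩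
      · rintro ⟨x⟩
        exact ⟨(e.inv.app (op V)) x⟩
    · intro h
      have h' : ∀ V : S.Etale, Nonempty (F.obj.obj (op V)) ↔
          Nonempty (V ⟶ Scheme.Etale.mk W.ι) := fun V => (h V).trans (nonempty_hom_open_iff W V).symm
      refine ⟨NatIso.ofComponents (fun V => Equiv.toIso ?_) ?_⟩
      · haveI := hF V.unop
        haveI := subsingleton_hom_open W V.unop
        exact
          { toFun := fun x => ((h' V.unop).1 ⟨x⟩).some
            invFun := fun x => ((h' V.unop).2 ⟨x⟩).some
            left_inv := fun x => Subsingleton.elim _ _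
            right_inv := fun x => Subsingleton.elim _ _ }
      · intro V V' g
        have := subsingleton_hom_open W V'.unop
        ext x
        exact Subsingleton.elim _ _
  refine ⟨supp F.obj, (key _).2 (nonempty_iff_range_subset S F hF), ?_⟩
  intro W hW
  have h1 := (key W).1 hW
  have h2 := nonempty_iff_range_subset S F hF
  ext s
  constructor
  · intro hs
    have h3 : Set.range (Scheme.Etale.mk W.ι).hom ⊆ (W : Set S) := by
      rintro _ ⟨w, rfl⟩
      exact w.2
    have h4 := (h2 _).1 ((h1 _).2 h3)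
    apply h4
    exact ⟨⟨s, hs⟩, rfl⟩
  · intro hs
    obtain ⟨V, hne, hv⟩ := (mem_supp F.obj s).1 hs
    exact (h1 V).1 hne hv

end Groth.Agent.S0644
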