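import Groth.Statements.S0650
import Mathlib
import Groth.Agent.Lib.Helper43.ExtZero
import Groth.Agent.Lib.Helper43.GraphClopen
import Groth.Agent.Lib.Helper43.CoprodMono
import Groth.Agent.Lib.Helper43.ShriekStalk
import Groth.Agent.Lib.Helper43.RestrStalk
import Groth.Agent.Lib.Helper43.ClosedStalk
import Groth.Agent.Lib.Helper43.SuppPush
import Groth.Agent.Lib.Helper43.EtStalk

set_option autoImplicit false
open CategoryTheory CategoryTheory.Limits AlgebraicGeometry Opposite
universe u
open EtCore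

namespace Groth.Agent.S0650

open Groth.Agent.Lib.Helper43 Groth.Agent.Lib.Helper43.ExtZero Groth.Agent.Lib.Helper43.GraphClopen

section Helpers

variable {U X : Scheme.{u}} (j : U ⟶ X) [AlgebraicGeometry.Etale j] [IsSeparated j]

/-- extension by zero along the graph -/
noncomputable def ext (F : EtCoh.Ab U) (V : U.Etale) (s : F.obj.obj (op V)) :
    F.obj.obj (op (P j V)) :=
  Classical.choose (exists_isExtZero F (δ j V) (isOpenImmersion_δ_left j V)
    (isClosed_range_δ j V) s)

lemma ext_spec (F : EtCoh.Ab U) (V : U.Etale) (s : F.obj.obj (op V)) :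
    IsExtZero F (δ j V) s (ext j F V s) :=
  Classical.choose_spec (exists_isExtZero F (δ j V) (isOpenImmersion_δ_left j V)
    (isClosed_range_δ j V) s)

lemma ext_eq (F : EtCoh.Ab U) (V : U.Etale) (s : F.obj.obj (op V)) (t : F.obj.obj (op (P j V)))
    (h : IsExtZero F (δ j V) s t) : ext j F V s = t :=
  IsExtZero.unique F (δ j V) (isOpenImmersion_δ_left j V) (isClosed_range_δ j V)
    (ext_spec j F V s) h

lemma ext_add (F : EtCoh.Ab U) (V : U.Etale) (s₁ s₂ : F.obj.obj (op V)) :
    ext j F V (s₁ + s₂) = ext j F V s₁ + ext j F V s₂ :=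
  ext_eq j F V _ _ ((ext_spec j F V s₁).add (ext_spec j F V s₂))

lemma ext_restrict (F : EtCoh.Ab U) {V' V : U.Etale} (a : V' ⟶ V) (s : F.obj.obj (op V)) :
    ext j F V' (F.obj.map a.op s) =
      F.obj.map ((EtCoh.bc j).map ((EtShriek.compEtale j).map a)).op (ext j F V s) :=
  ext_eq j F V' _ _ ((ext_spec j F V s).restrict a _ (δ_naturality j a) (preimage_range_δ j a))

lemma ext_map {F G : EtCoh.Ab U} (φ : F ⟶ G) (V : U.Etale) (s : F.obj.obj (op V)) :
    ext j G V (φ.hom.app (op V) s) = φ.hom.app (op (P j V)) (ext j F V s) :=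
  ext_eq j G V _ _ ((ext_spec j F V s).map φ)

variable [EtShriek.JCont j]

/-- the morphism `F ⟶ j^* j_* F` given by extension by zero -/
noncomputable def τ' (F : EtCoh.Ab U) :
    F ⟶ (EtShriek.restrAlong j).obj ((EtCoh.push j).obj F) :=
  ⟨{ app := fun V => AddCommGrpCat.ofHom (AddMonoidHom.mk' (ext j F V.unop) (ext_add j F V.unop))
     naturality := by
      intro V V' f
      induction V using Opposite.rec with | op V => ?_
      induction V' using Opposite.rec with | op V' => ?_
      obtain ⟨a, rfl⟩ : ∃ a : V' ⟶ V, f = a.op := ⟨f.unop, rfl⟩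
      ext s
      exact ext_restrict j F a s }⟩

lemma τ'_app (F : EtCoh.Ab U) (V : U.Etale) (s : F.obj.obj (op V)) :
    (τ' j F).hom.app (op V) s = ext j F V s := rfl

lemma τ'_naturality {F G : EtCoh.Ab U} (φ : F ⟶ G) :
    φ ≫ τ' j G = τ' j F ≫ (EtShriek.restrAlong j).map ((EtCoh.push j).map φ) := by
  ext V : 3
  induction V using Opposite.rec with | op V => ?_
  ext s
  exact ext_map j φ V s

/-- the comparison `j_! ⟶ j_*` -/
noncomputable def τ : EtShriek.extZero j ⟶ EtCoh.push j where
  app F := ((EtShriek.extZeroAdj j).homEquiv F ((EtCoh.push j).obj F)).symm (τ' j F)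
  naturality := by
    intro F G φ
    rw [← Adjunction.homEquiv_naturality_left_symm, ← Adjunction.homEquiv_naturality_right_symm,
      τ'_naturality]

lemma unit_τ (F : EtCoh.Ab U) :
    (EtShriek.extZeroAdj j).unit.app F ≫ (EtShriek.restrAlong j).map ((τ j).app F) = τ' j F := by
  have := ((EtShriek.extZeroAdj j).homEquiv F ((EtCoh.push j).obj F)).apply_symm_apply (τ' j F)
  rw [Adjunction.homEquiv_unit] at this
  exact this

/-- on sections: `η` followed by `τ` is extension by zero -/
lemma η_τ_app (F : EtCoh.Ab U) (V : U.Etale) :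
    (ShriekStalk.η j F).hom.app (op V) ≫
      ((τ j).app F).hom.app (op ((EtShriek.compEtale j).obj V)) = (τ' j F).hom.app (op V) := by
  have := congrArg (fun m => m.hom.app (op V)) (unit_τ j F)
  exact this


section Stalk

variable {Ω : Type u} [Field Ω] [IsSepClosed Ω] (ξ : Spec (CommRingCat.of Ω) ⟶ X)

open ShriekStalk

omit [IsSeparated j] [EtShriek.JCont j] in
lemma pt_aux (u' : Lifts j ξ) (W : X.Etale) (z : (Φ ξ).fiber.obj W) :
    (z.left : Spec (CommRingCat.of Ω) ⟶ W.left) ≫ W.hom = u'.1 ≫ j :=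
  (Over.w z).trans u'.2.symm

/-- the point of `W ×_X U` over `u'` determined by a point of `W` over `ξ` -/
noncomputable def pt (u' : Lifts j ξ) (W : X.Etale) (z : (Φ ξ).fiber.obj W) :
    (Ψ u').fiber.obj ((EtCoh.bc j).obj W) :=
  Over.homMk (pullback.lift (z.left : Spec (CommRingCat.of Ω) ⟶ W.left) u'.1 (pt_aux j ξ u' W z) :
      Spec (CommRingCat.of Ω) ⟶ pullback W.hom j) (pullback.lift_snd _ _ _)

/-- the projection of `(j_* F)_ξ` to the stalk of `F` at a lift of `ξ` -/
noncomputable def q (F : EtCoh.Ab U) (u' : Lifts j ξ) :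
    (Φ ξ).presheafFiber.obj ((EtCoh.push j).obj F).obj ⟶ (Ψ u').presheafFiber.obj F.obj := by
  obtain ⟨u₀, h⟩ := u'
  subst h
  exact ClosedStalk.pushStalkMap j F u₀

omit [IsSeparated j] [EtShriek.JCont j] in
lemma q_germ (F : EtCoh.Ab U) (u' : Lifts j ξ) (W : X.Etale) (z : (Φ ξ).fiber.obj W)
    (s : F.obj.obj (op ((EtCoh.bc j).obj W))) :
    q j ξ F u' ((Φ ξ).toPresheafFiber W z ((EtCoh.push j).obj F).obj s) =
      (Ψ u').toPresheafFiber ((EtCoh.bc j).obj W) (pt j ξ u' W z) F.obj s := by
  obtain ⟨u₀, h⟩ := u'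
  subst h
  exact ClosedStalk.toFiber_pushStalkMap_apply j F u₀ W z s


lemma q_T_fwd (F : EtCoh.Ab U) (u u' : Lifts j ξ) (V : U.Etale) (y : (Ψ u).fiber.obj V)
    (s : F.obj.obj (op V)) :
    q j ξ F u' ((Φ ξ).presheafFiber.map ((τ j).app F).hom
      (fwd j ξ F (Sigma.ι (fun u : Lifts j ξ => (Ψ u).presheafFiber.obj F.obj) u
        ((Ψ u).toPresheafFiber V y F.obj s)))) =
    (Ψ u').toPresheafFiber (P j V) (pt j ξ u' ((EtShriek.compEtale j).obj V) (tr u V y)) F.obj
      (ext j F V s) := by
  have h1 : fwd j ξ F (Sigma.ι (fun u : Lifts j ξ => (Ψ u).presheafFiber.obj F.obj) u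
        ((Ψ u).toPresheafFiber V y F.obj s)) =
      (Φ ξ).toPresheafFiber ((EtShriek.compEtale j).obj V) (tr u V y)
        ((EtShriek.extZero j).obj F).obj ((η j F).hom.app (op V) s) :=
    congrArg (fun t => t.hom s) (toFiber_ι_fwd F u V y)
  rw [h1]
  have h2 := (Φ ξ).toPresheafFiber_naturality_apply ((τ j).app F).hom
    ((EtShriek.compEtale j).obj V) (tr u V y) ((η j F).hom.app (op V) s)
  rw [h2]
  have h3 : ((τ j).app F).hom.app (op ((EtShriek.compEtale j).obj V))
      ((η j F).hom.app (op V) s) = ext j F V s :=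
    congrArg (fun t => t.hom s) (η_τ_app j F V)
  rw [h3]
  exact q_germ j ξ F u' _ _ _


omit [IsSeparated j] [EtShriek.JCont j] in
lemma pt_self (u : Lifts j ξ) (V : U.Etale) (y : (Ψ u).fiber.obj V) :
    pt j ξ u ((EtShriek.compEtale j).obj V) (tr u V y) = (Ψ u).fiber.map (δ j V) y := by
  apply Over.OverMorphism.ext
  let yl : Spec (CommRingCat.of Ω) ⟶ V.left := y.left
  have hyl : yl ≫ V.hom = u.1 := Over.w y
  let d : V.left ⟶ pullback (V.hom ≫ j) j := (δ j V).left
  have d_fst : d ≫ pullback.fst (V.hom ≫ j) j = 𝟙 V.left := δ_fst j V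
  have d_snd : d ≫ pullback.snd (V.hom ≫ j) j = V.hom := δ_snd j V
  change pullback.lift yl u.1 _ = yl ≫ d
  apply pullback.hom_ext
  · rw [pullback.lift_fst, Category.assoc, d_fst, Category.comp_id]
  · rw [pullback.lift_snd, Category.assoc, d_snd, hyl]

lemma retract_self (F : EtCoh.Ab U) (u : Lifts j ξ) (V : U.Etale) (y : (Ψ u).fiber.obj V)
    (s : F.obj.obj (op V)) :
    q j ξ F u ((Φ ξ).presheafFiber.map ((τ j).app F).hom
      (fwd j ξ F (Sigma.ι (fun u : Lifts j ξ => (Ψ u).presheafFiber.obj F.obj) u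
        ((Ψ u).toPresheafFiber V y F.obj s)))) =
    (Ψ u).toPresheafFiber V y F.obj s := by
  rw [q_T_fwd, pt_self, ← (Ψ u).toPresheafFiber_w_apply (δ j V) y F.obj]
  exact congrArg _ (ext_spec j F V s).1

lemma retract_ne (F : EtCoh.Ab U) (u u' : Lifts j ξ) (hne : u ≠ u') (V : U.Etale)
    (y : (Ψ u).fiber.obj V) (s : F.obj.obj (op V)) :
    q j ξ F u' ((Φ ξ).presheafFiber.map ((τ j).app F).hom
      (fwd j ξ F (Sigma.ι (fun u : Lifts j ξ => (Ψ u).presheafFiber.obj F.obj) u
        ((Ψ u).toPresheafFiber V y F.obj s)))) = 0 := by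
  rw [q_T_fwd]
  let yl : Spec (CommRingCat.of Ω) ⟶ V.left := y.left
  have hyl : yl ≫ V.hom = u.1 := Over.w y
  let z₀ := pt j ξ u' ((EtShriek.compEtale j).obj V) (tr u V y)
  let zl : Spec (CommRingCat.of Ω) ⟶ pullback (V.hom ≫ j) j := z₀.left
  have zl_fst : zl ≫ pullback.fst (V.hom ≫ j) j = yl := pullback.lift_fst _ _ _
  have zl_snd : zl ≫ pullback.snd (V.hom ≫ j) j = u'.1 := pullback.lift_snd _ _ _
  have hnot : zl.base (default : Spec (CommRingCat.of Ω)) ∉ Set.range (δ j V).left.base := by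
    intro hmem
    apply hne
    apply Subtype.ext
    have hmem' : zl.base (IsLocalRing.closedPoint Ω) ∈ Set.range (δ j V).left.base := by
      rw [Subsingleton.elim (IsLocalRing.closedPoint Ω) (default : Spec (CommRingCat.of Ω))]
      exact hmem
    have := snd_eq_of_mem_range_δ j V zl hmem'
    rw [zl_snd, zl_fst, hyl] at this
    exact this.symm
  let O : (pullback (V.hom ≫ j) j).Opens :=
    ⟨(Set.range (δ j V).left.base)ᶜ, (isClosed_range_δ j V).isOpen_compl⟩
  obtain ⟨y', hy'⟩ := SuppPush.exists_open_refinement (pullback.snd (V.hom ≫ j) j) u'.1 z₀ O hnot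
  have h0 : F.obj.map (ClopenExt.subι (pullback.snd (V.hom ≫ j) j) O).op (ext j F V s) = 0 := by
    refine (ext_spec j F V s).2 _ (ClopenExt.subι (pullback.snd (V.hom ≫ j) j) O) ?_
    have hr := ClopenExt.range_subι (pullback.snd (V.hom ≫ j) j) O
    rw [Set.disjoint_left]
    rintro p hp hp'
    have hp2 : p ∈ (O : Set ↥(pullback (V.hom ≫ j) j)) := hr.le hp
    exact hp2 hp'
  change (Ψ u').toPresheafFiber (P j V) z₀ F.obj (ext j F V s) = 0
  have h1 := (Ψ u').toPresheafFiber_w_apply
    (ClopenExt.subι (pullback.snd (V.hom ≫ j) j) O) y' F.obj (ext j F V s)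
  have h2 : (Ψ u').toPresheafFiber (P j V) z₀ F.obj (ext j F V s) =
      (Ψ u').toPresheafFiber (P j V) ((Ψ u').fiber.map
        (ClopenExt.subι (pullback.snd (V.hom ≫ j) j) O) y') F.obj (ext j F V s) :=
    congrArg (fun t => (Ψ u').toPresheafFiber (P j V) t F.obj (ext j F V s)) hy'.symm
  refine h2.trans (h1.symm.trans ?_)
  refine (congrArg _ h0).trans ?_
  exact map_zero _


lemma mono_f (F : EtCoh.Ab U) :
    Mono (fwd j ξ F ≫ (Φ ξ).presheafFiber.map ((τ j).app F).hom) := by
  classical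
  refine CoprodMono.mono_of_retractions.{u, u + 1} (fun u : Lifts j ξ => (Ψ u).presheafFiber.obj F.obj) _
    (q j ξ F) ?_ ?_
  · intro u
    refine (Ψ u).presheafFiber_hom_ext (fun V y => ?_)
    ext s
    exact (retract_self j ξ F u V y s).trans (by simp)
  · intro u u' hne
    refine (Ψ u).presheafFiber_hom_ext (fun V y => ?_)
    ext s
    exact (retract_ne j ξ F u u' hne V y s).trans (by simp)

lemma T_injective (F : EtCoh.Ab U) :
    Function.Injective ((Φ ξ).presheafFiber.map ((τ j).app F).hom) := by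
  have h1 : Mono (fwd j ξ F ≫ (Φ ξ).presheafFiber.map ((τ j).app F).hom) := mono_f j ξ F
  have h2 : (Φ ξ).presheafFiber.map ((τ j).app F).hom =
      bwd j ξ F ≫ (fwd j ξ F ≫ (Φ ξ).presheafFiber.map ((τ j).app F).hom) := by
    rw [← Category.assoc, bwd_fwd, Category.id_comp]
  have h3 : Mono (bwd j ξ F) := by
    have : IsIso (bwd j ξ F) := ⟨⟨fwd j ξ F, bwd_fwd F, fwd_bwd F⟩⟩
    infer_instance
  rw [h2]
  exact (AddCommGrpCat.mono_iff_injective _).1 (mono_comp _ _)

end Stalk

end Helpers


/-- For a separated étale morphism j : U → X there is a natural transformation from extension by zero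
j_! to direct image j_*, on abelian sheaves, whose component at every abelian sheaf on the small
étale site of U is a monomorphism. (Only the existence of such a natural injective comparison map is
stated; the published statement constructs a specific one.) (Continuity of the composition functor
of étale sites, which always holds, is carried as an instance hypothesis.) -/
theorem result {U X : Scheme.{u}} (j : U ⟶ X) [AlgebraicGeometry.Etale j]
    [IsSeparated j] [EtShriek.JCont j] :
    ∃ τ : EtShriek.extZero j ⟶ EtCoh.push j, ∀ F : EtCoh.Ab U, Mono (τ.app F) := by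
  refine ⟨τ j, fun F => ?_⟩
  apply EtStalk.mono_of_stalks_ab
  intro Ω _ _ ξ
  exact T_injective j ξ F

end Groth.Agent.S0650
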