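import Groth.Statements.S0653
import Mathlib
import Groth.Agent.S0649
import Groth.Agent.S0651
import Groth.Agent.S0652
import Groth.Agent.Lib.Helper43.SuppPush
import Groth.Agent.Lib.Helper43.RestrStalk

set_option autoImplicit false
open CategoryTheory CategoryTheory.Limits AlgebraicGeometry Opposite
universe u
open EtCore

namespace Groth.Agent.S0653

open Groth.Agent.Lib.Helper43


/-- Consider a cartesian square U = X x_Y V with f : X -> Y finite, j : V -> Y an open immersion, j' : U
-> X and g : U -> V the projections. Then for every abelian sheaf F on the small etale site of U,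
f_* j'_! F is isomorphic to j_! g_* F. (The source also asserts functoriality in F; only the
objectwise isomorphism is stated.) (Continuity of the composition functor of etale sites, which
always holds, is carried as an instance hypothesis.) -/
theorem result {U X V Y : Scheme.{u}} (f : X ⟶ Y) [IsFinite f] (j : V ⟶ Y)
    [IsOpenImmersion j] [AlgebraicGeometry.Etale j] [EtShriek.JCont j] (j' : U ⟶ X) [IsOpenImmersion j']
    [AlgebraicGeometry.Etale j'] [EtShriek.JCont j'] (g : U ⟶ V) (h : IsPullback j' g f j) (F : EtCoh.Ab U) :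
    Nonempty ((EtCoh.push f).obj ((EtShriek.extZero j').obj F) ≅ (EtShriek.extZero j).obj ((EtCoh.push g).obj F)) := by
  let H : EtCoh.Ab X := (EtShriek.extZero j').obj F
  have hc : (EtShriek.compEtale j ⋙ EtCoh.bc f).IsContinuous V.smallEtaleTopology
      X.smallEtaleTopology :=
    Functor.isContinuous_comp _ _ _ Y.smallEtaleTopology _
  let e₂ : EtShriek.restrAlong j' ⋙ EtCoh.push g ≅
      (EtShriek.compEtale j ⋙ EtCoh.bc f).sheafPushforwardContinuous AddCommGrpCat.{u + 1}
        V.smallEtaleTopology X.smallEtaleTopology :=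
    Functor.sheafPushforwardContinuousComp' (S0649.alpha j f j' g h) AddCommGrpCat.{u + 1}
      V.smallEtaleTopology U.smallEtaleTopology X.smallEtaleTopology
  let e₁ : EtCoh.push f ⋙ EtShriek.restrAlong j ≅
      (EtShriek.compEtale j ⋙ EtCoh.bc f).sheafPushforwardContinuous AddCommGrpCat.{u + 1}
        V.smallEtaleTopology X.smallEtaleTopology :=
    Iso.refl _
  let e : EtCoh.push f ⋙ EtShriek.restrAlong j ≅ EtShriek.restrAlong j' ⋙ EtCoh.push g :=
    e₁ ≪≫ e₂.symm
  have hu : IsIso ((EtShriek.extZeroAdj j').unit.app F) := (S0651.result j' F).2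
  let e3 : (EtShriek.restrAlong j').obj H ≅ F :=
    (@asIso _ _ _ _ ((EtShriek.extZeroAdj j').unit.app F) hu).symm
  have hres : Nonempty ((EtShriek.restrAlong j).obj ((EtCoh.push f).obj H) ≅ (EtCoh.push g).obj F) :=
    ⟨e.app H ≪≫ (EtCoh.push g).mapIso e3⟩
  refine S0652.result j ((EtCoh.push g).obj F) ((EtCoh.push f).obj H) hres ?_
  intro Ω _ _ ξ hξ
  refine SuppPush.isZero_stalk_push f ?_ H (Set.range j.base) ?_ ξ ?_
  · intro WL w _
    exact (pullback.fst w f).isClosedMap
  · rintro x ⟨Ω', _, _, ξ', hrange, hnz⟩
    by_contra hx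
    apply hnz
    have hemp : IsEmpty (ShriekStalk.Lifts j' ξ') := by
      constructor
      rintro ⟨u', hu'⟩
      apply hx
      have hx' : ξ'.base (default : Spec (CommRingCat.of Ω')) = x := by
        have : ξ'.base default ∈ Set.range ξ' := ⟨default, rfl⟩
        rw [hrange] at this
        exact this
      refine ⟨g.base (u'.base default), ?_⟩
      change (g ≫ j).base (u'.base default) = f.base x
      rw [← h.w, ← hx', ← hu']
      rfl
    exact ShriekStalk.isZero_shriekFiber_of_isEmpty F hemp
  · exact fun hmem => hξ ⟨default, rfl⟩ hmem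

end Groth.Agent.S0653
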