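import Groth.Statements.S0654
import Mathlib
import Groth.Agent.Lib.Helper43.Recoll

set_option autoImplicit false
open CategoryTheory CategoryTheory.Limits AlgebraicGeometry Opposite
universe u
open EtCore

namespace Groth.Agent.S0654

open Groth.Agent.Lib.Helper43 Groth.Agent.Lib.Helper43.EtStalk

lemma bij_of_iso {A B : AddCommGrpCat.{u + 1}} (f : A ⟶ B) (h : IsIso f) : Function.Bijective f :=
  ConcreteCategory.bijective_of_isIso f

section Helpers

variable {Z X : Scheme.{u}} (i : Z ⟶ X) [IsClosedImmersion i]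
    (U : X.Opens) (hU : (U : Set X) = (Set.range i.base)ᶜ) [AlgebraicGeometry.Etale U.ι]
    [EtShriek.JCont U.ι]

omit [IsClosedImmersion i] in
include hU in
/-- sections of `j^{-1} i_* G` vanish -/
lemma subsingleton_restr_push (G : EtCoh.Ab Z) (V : (↑U : Scheme.{u}).Etale) :
    Subsingleton (((EtShriek.restrAlong U.ι).obj ((EtCoh.push i).obj G)).obj.obj (op V)) := by
  apply Groth.Agent.S0069.subsingleton_of_isEmpty G
  constructor
  intro p
  let W : X.Etale := (EtShriek.compEtale U.ι).obj V
  let p' : ↥(pullback W.hom i) := p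
  have h1 : W.hom.base ((pullback.fst W.hom i).base p') = i.base ((pullback.snd W.hom i).base p') := by
    change ((pullback.fst W.hom i) ≫ W.hom).base p' = _
    rw [pullback.condition]
    rfl
  have h2 : W.hom.base ((pullback.fst W.hom i).base p') ∈ (U : Set X) := by
    change U.ι.base (V.hom.base ((pullback.fst W.hom i).base p')) ∈ (U : Set X)
    exact (V.hom.base ((pullback.fst W.hom i).base p')).2
  rw [hU] at h2
  exact h2 ⟨_, h1.symm⟩

end Helpers


/-- Let i : Z -> X be a closed immersion and j : U -> X the open immersion of the complement of its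
image. For every abelian sheaf F on the small etale site of X, the counit j_! (F|_U) -> F followed
by the unit F -> i_* i^{-1} F composes to zero and the resulting three-term sequence is short exact.
(Continuity of the composition functor of etale sites, which always holds, is carried as an instance
hypothesis.) -/
theorem result {Z X : Scheme.{u}} (i : Z ⟶ X) [IsClosedImmersion i]
    (U : X.Opens) (hU : (U : Set X) = (Set.range i.base)ᶜ) [AlgebraicGeometry.Etale U.ι] [EtShriek.JCont U.ι]
    (F : EtCoh.Ab X) :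
    ∃ w : (EtShriek.extZeroAdj U.ι).counit.app F ≫ (EtCoh.pullPushAdj i).unit.app F = 0,
      (ShortComplex.mk _ _ w).ShortExact := by
  have w : (EtShriek.extZeroAdj U.ι).counit.app F ≫ (EtCoh.pullPushAdj i).unit.app F = 0 := by
    apply ((EtShriek.extZeroAdj U.ι).homEquiv _ _).injective
    ext V : 3
    induction V using Opposite.rec with | op V => ?_
    apply AddCommGrpCat.hom_ext
    ext x
    have := subsingleton_restr_push i U hU ((EtCoh.pull i).obj F) V
    exact @Subsingleton.elim _ this _ _
  refine ⟨w, ?_⟩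
  have hrange : Set.range (U.ι).base = (Set.range i.base)ᶜ := by
    rw [← hU]; exact Scheme.Opens.range_ι U
  -- stalkwise dichotomy
  have key : ∀ (Ω : Type u) [Field Ω] [IsSepClosed Ω] (ξ : Spec (CommRingCat.of Ω) ⟶ X),
      (IsIso (((Scheme.pointSmallEtale ξ).sheafFiber (A := AddCommGrpCat.{u + 1})).map
          ((EtShriek.extZeroAdj U.ι).counit.app F)) ∧
        IsZero (((Scheme.pointSmallEtale ξ).sheafFiber (A := AddCommGrpCat.{u + 1})).obj
          ((EtCoh.push i).obj ((EtCoh.pull i).obj F)))) ∨
      (IsZero (((Scheme.pointSmallEtale ξ).sheafFiber (A := AddCommGrpCat.{u + 1})).obj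
          ((EtShriek.extZero U.ι).obj ((EtShriek.restrAlong U.ι).obj F))) ∧
        IsIso (((Scheme.pointSmallEtale ξ).sheafFiber (A := AddCommGrpCat.{u + 1})).map
          ((EtCoh.pullPushAdj i).unit.app F))) := by
    intro Ω _ _ ξ
    rcases ShriekStalk.lifts_nonempty_or U.ι ξ with ⟨⟨u⟩⟩ | hξ
    · left
      have : Unique (ShriekStalk.Lifts U.ι ξ) := @Unique.mk' _ ⟨u⟩ ShriekStalk.subsingleton_lifts
      refine ⟨ShriekStalk.isIso_stalk_counit_of_unique F, ?_⟩
      apply Groth.Agent.S0069.result i
      rw [Set.disjoint_left]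
      rintro _ ⟨q, rfl⟩ hq
      have h1 : ξ.base q ∈ Set.range (U.ι).base := by
        rw [← u.2]
        exact ⟨u.1.base q, rfl⟩
      rw [hrange] at h1
      exact h1 hq
    · right
      have hmem : ξ.base default ∈ Set.range i.base := by
        have := hξ ⟨default, rfl⟩
        rw [hrange] at this
        simpa using this
      obtain ⟨ζ, rfl⟩ := ClosedStalk.exists_lift_closed i ξ hmem
      refine ⟨ShriekStalk.isZero_shriekFiber_of_isEmpty _ ⟨fun u => ?_⟩,
        ClosedStalk.isIso_stalk_unit i F ζ⟩
      have h1 : (ζ ≫ i).base default ∈ Set.range (U.ι).base := by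
        rw [← u.2]
        exact ⟨u.1.base default, rfl⟩
      exact hξ ⟨default, rfl⟩ h1
  have hex : (ShortComplex.mk _ _ w).Exact := by
    rw [exact_iff_stalks_ab]
    intro Ω _ _ ξ
    rw [ShortComplex.ab_exact_iff]
    intro x₂ hx₂
    rcases key Ω ξ with ⟨h1, -⟩ | ⟨-, h2⟩
    · obtain ⟨x₁, hx₁⟩ := (bij_of_iso _ h1).2 x₂
      exact ⟨x₁, hx₁⟩
    · have hinj := (bij_of_iso _ h2).1
      have hx0 : x₂ = 0 := hinj (hx₂.trans (map_zero _).symm)
      exact ⟨0, (map_zero _).trans hx0.symm⟩
  have hm : Mono ((EtShriek.extZeroAdj U.ι).counit.app F) := mono_of_stalks_ab _ (fun Ω _ _ ξ => by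
    rcases key Ω ξ with ⟨h1, -⟩ | ⟨h2, -⟩
    · exact (bij_of_iso _ h1).1
    · intro a b _
      have := AddCommGrpCat.subsingleton_of_isZero h2
      exact @Subsingleton.elim _ this _ _)
  have he : Epi ((EtCoh.pullPushAdj i).unit.app F) := epi_of_stalks_ab _ (fun Ω _ _ ξ => by
    rcases key Ω ξ with ⟨-, h1⟩ | ⟨-, h2⟩
    · intro b
      have := AddCommGrpCat.subsingleton_of_isZero h1
      exact ⟨0, @Subsingleton.elim _ this _ _⟩
    · exact (bij_of_iso _ h2).2)
  exact { exact := hex, mono_f := hm, epi_g := he }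

end Groth.Agent.S0654
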