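import Groth.Statements.S0658
import Mathlib

set_option autoImplicit false
open CategoryTheory CategoryTheory.Limits AlgebraicGeometry Opposite
universe u
open EtCore

namespace Groth.Agent.S0658

section helpers

open CategoryTheory CategoryTheory.Limits AlgebraicGeometry TopologicalSpace

/-- Spec of a finite separable extension is étale over the base field. -/
lemma etale_SpecMap_of_isSeparable (k K : Type u) [Field k] [Field K] [Algebra k K]
    [FiniteDimensional k K] [Algebra.IsSeparable k K] :
    AlgebraicGeometry.Etale (Spec.map (CommRingCat.ofHom (algebraMap k K))) := by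
  rw [HasRingHomProperty.Spec_iff (P := @AlgebraicGeometry.Etale)]
  simp only [CommRingCat.hom_ofHom]
  rw [RingHom.etale_algebraMap]
  have : Algebra.FormallyEtale k K := Algebra.FormallyEtale.of_isSeparable k K
  have : Algebra.FinitePresentation k K :=
    Algebra.FinitePresentation.of_finiteType.mp inferInstance
  exact ⟨inferInstance, inferInstance⟩

lemma range_eq_singleton_of_field {K : Type u} [Field K] {U : Scheme.{u}}
    (j : Spec (CommRingCat.of K) ⟶ U) (w : Spec (CommRingCat.of K)) :
    Set.range j = {j w} := by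
  have : Subsingleton (Spec (CommRingCat.of K)) :=
    inferInstanceAs (Subsingleton (PrimeSpectrum K))
  ext y
  constructor
  · rintro ⟨z, rfl⟩
    rw [Subsingleton.elim z w]; rfl
  · rintro rfl; exact ⟨w, rfl⟩

set_option backward.isDefEq.respectTransparency false in
/-- Around each point of a scheme étale over a field there is an open immersion from the spectrum
of a finite separable extension whose image is exactly that point. -/
lemma exists_point_data (k : Type u) [Field k] (U : Scheme.{u})
    (φ : U ⟶ Spec (CommRingCat.of k)) [AlgebraicGeometry.Etale φ] (x : U) :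
    ∃ (K : Type u) (_ : Field K) (_ : Algebra k K) (_ : FiniteDimensional k K)
      (_ : Algebra.IsSeparable k K) (j : Spec (CommRingCat.of K) ⟶ U),
      IsOpenImmersion j ∧ Set.range j = {x} ∧
        j ≫ φ = Spec.map (CommRingCat.ofHom (algebraMap k K)) := by
  obtain ⟨W, hW, hxW, -⟩ := exists_isAffineOpen_mem_and_subset (X := U) (x := x) (U := ⊤) trivial
  have : IsAffine W.toScheme := hW
  -- the ring map
  let ψ : CommRingCat.of k ⟶ Γ(W.toScheme, ⊤) :=
    (Scheme.ΓSpecIso (CommRingCat.of k)).inv ≫ (W.ι ≫ φ).appTop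
  have hψ : W.toScheme.isoSpec.hom ≫ Spec.map ψ = W.ι ≫ φ := by
    have := Scheme.isoSpec_hom_naturality (W.ι ≫ φ)
    rw [Scheme.isoSpec_Spec_hom] at this
    simp only [ψ, Spec.map_comp]
    rw [← Category.assoc, this, Category.assoc, ← Spec.map_comp, Iso.inv_hom_id, Spec.map_id,
      Category.comp_id]
  have hψet : AlgebraicGeometry.Etale (Spec.map ψ) := by
    have h1 : AlgebraicGeometry.Etale (W.ι ≫ φ) := inferInstance
    rw [← hψ] at h1
    exact (MorphismProperty.cancel_left_of_respectsIso @AlgebraicGeometry.Etale _ _).mp h1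
  rw [HasRingHomProperty.Spec_iff (P := @AlgebraicGeometry.Etale)] at hψet
  letI : Algebra k Γ(W.toScheme, ⊤) := ψ.hom.toAlgebra
  have hAet : Algebra.Etale k Γ(W.toScheme, ⊤) := (RingHom.etale_algebraMap).mp hψet
  obtain ⟨I, hI, Ai, hAiF, hAiA, e, hfs⟩ :=
    (Algebra.Etale.iff_exists_algEquiv_prod k Γ(W.toScheme, ⊤)).mp hAet
  -- the iso of schemes
  let Θ : (∐ fun i => Spec (CommRingCat.of (Ai i))) ⟶ W.toScheme :=
    sigmaSpec (fun i => CommRingCat.of (Ai i)) ≫
      Spec.map (CommRingCat.ofHom (e : Γ(W.toScheme, ⊤) →+* (Π i, Ai i))) ≫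
      W.toScheme.isoSpec.inv
  have hΘiso : IsIso Θ := by
    have : IsIso (Spec.map (CommRingCat.ofHom (e : Γ(W.toScheme, ⊤) →+* (Π i, Ai i)))) := by
      have : IsIso (CommRingCat.ofHom (e : Γ(W.toScheme, ⊤) →+* (Π i, Ai i))) :=
        (e.toRingEquiv.toCommRingCatIso).isIso_hom
      infer_instance
    infer_instance
  have hsurj : Function.Surjective Θ := Θ.surjective
  obtain ⟨z, hz⟩ := hsurj ⟨x, hxW⟩
  obtain ⟨i, w, rfl⟩ := (sigmaOpenCover (fun i => Spec (CommRingCat.of (Ai i)))).exists_eq z
  let j : Spec (CommRingCat.of (Ai i)) ⟶ U :=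
    Sigma.ι (fun i => Spec (CommRingCat.of (Ai i))) i ≫ Θ ≫ W.ι
  refine ⟨Ai i, hAiF i, hAiA i, (hfs i).1, (hfs i).2, j, ?_, ?_, ?_⟩
  · infer_instance
  · rw [range_eq_singleton_of_field j w]
    congr 1
    change (W.ι) (Θ ((Sigma.ι (fun i => Spec (CommRingCat.of (Ai i))) i) w)) = x
    have : Θ ((Sigma.ι (fun i => Spec (CommRingCat.of (Ai i))) i) w) = ⟨x, hxW⟩ := hz
    rw [this]; rfl
  · simp only [j, Θ, Category.assoc]
    rw [← hψ, Iso.inv_hom_id_assoc, ι_sigmaSpec_assoc, ← Spec.map_comp, ← Spec.map_comp]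
    congr 1
    ext a
    change (e (algebraMap k _ a)) i = algebraMap k (Ai i) a
    rw [e.commutes]
    rfl

set_option backward.isDefEq.respectTransparency false in
lemma data_of_etale (k : Type u) [Field k] (U : Scheme.{u}) (φ : U ⟶ Spec (CommRingCat.of k))
    (hφ : AlgebraicGeometry.Etale φ) :
    ∃ (ι : Type u) (K : ι → Type u) (_ : ∀ i, Field (K i)) (_ : ∀ i, Algebra k (K i))
        (_ : ∀ i, FiniteDimensional k (K i)) (_ : ∀ i, Algebra.IsSeparable k (K i))
        (e : (∐ fun i => Spec (CommRingCat.of (K i))) ≅ U),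
        ∀ i, Sigma.ι (fun i => Spec (CommRingCat.of (K i))) i ≫ e.hom ≫ φ =
          Spec.map (CommRingCat.ofHom (algebraMap k (K i))) := by
  choose K hF hA hfin hsep j hj hrange hcomp using exists_point_data k U φ
  have hcov : ⨆ x, (j x).opensRange = ⊤ := by
    rw [eq_top_iff]
    intro x _
    simp only [TopologicalSpace.Opens.iSup_mk, TopologicalSpace.Opens.mem_mk, Set.mem_iUnion]
    refine ⟨x, ?_⟩
    change x ∈ Set.range (j x)
    rw [hrange x]; rfl
  have hdisj : Pairwise (Function.onFun Disjoint (fun x => (j x).opensRange)) := by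
    intro x y hxy
    rw [Function.onFun_apply, ← TopologicalSpace.Opens.coe_disjoint]
    change Disjoint (Set.range (j x)) (Set.range (j y))
    rw [hrange x, hrange y]
    simpa using hxy
  obtain ⟨hc⟩ := nonempty_isColimit_cofanMk_of j hcov hdisj
  let e : (∐ fun x => Spec (CommRingCat.of (K x))) ≅ U :=
    (colimit.isColimit _).coconePointUniqueUpToIso hc
  refine ⟨U, K, hF, hA, hfin, hsep, e, fun x => ?_⟩
  have : Sigma.ι (fun x => Spec (CommRingCat.of (K x))) x ≫ e.hom = j x :=
    (colimit.isColimit _).comp_coconePointUniqueUpToIso_hom hc ⟨x⟩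
  rw [reassoc_of% this, hcomp x]

set_option backward.isDefEq.respectTransparency false in
lemma etale_of_data (k : Type u) [Field k] (U : Scheme.{u}) (φ : U ⟶ Spec (CommRingCat.of k))
    (ι : Type u) (K : ι → Type u) [∀ i, Field (K i)] [∀ i, Algebra k (K i)]
    [∀ i, FiniteDimensional k (K i)] [∀ i, Algebra.IsSeparable k (K i)]
    (e : (∐ fun i => Spec (CommRingCat.of (K i))) ≅ U)
    (he : ∀ i, Sigma.ι (fun i => Spec (CommRingCat.of (K i))) i ≫ e.hom ≫ φ =
          Spec.map (CommRingCat.ofHom (algebraMap k (K i)))) :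
    AlgebraicGeometry.Etale φ := by
  have h1 : AlgebraicGeometry.Etale (e.hom ≫ φ) := by
    rw [IsZariskiLocalAtSource.iff_of_openCover (P := @AlgebraicGeometry.Etale)
      (sigmaOpenCover (fun i => Spec (CommRingCat.of (K i))))]
    intro i
    change AlgebraicGeometry.Etale (Sigma.ι (fun i => Spec (CommRingCat.of (K i))) i ≫ e.hom ≫ φ)
    rw [he i]
    exact etale_SpecMap_of_isSeparable k (K i)
  have : φ = e.inv ≫ e.hom ≫ φ := by simp
  rw [this]
  infer_instance

end helpers

/-- Let k be a field and φ : U → Spec k a morphism of schemes. Then φ is étale if and only if U is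
isomorphic over k to a disjoint union ∐ Spec K_i with each K_i a finite separable field extension of
k. -/
theorem result (k : Type u) [Field k] (U : Scheme.{u}) (φ : U ⟶ Spec (CommRingCat.of k)) :
    AlgebraicGeometry.Etale φ ↔
      ∃ (ι : Type u) (K : ι → Type u) (_ : ∀ i, Field (K i)) (_ : ∀ i, Algebra k (K i))
        (_ : ∀ i, FiniteDimensional k (K i)) (_ : ∀ i, Algebra.IsSeparable k (K i))
        (e : (∐ fun i => Spec (CommRingCat.of (K i))) ≅ U),
        ∀ i, Sigma.ι (fun i => Spec (CommRingCat.of (K i))) i ≫ e.hom ≫ φ =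
          Spec.map (CommRingCat.ofHom (algebraMap k (K i))) := by
  constructor
  · exact data_of_etale k U φ
  · rintro ⟨ι, K, hF, hA, hfin, hsep, e, he⟩
    exact etale_of_data k U φ ι K e he

end Groth.Agent.S0658
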