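import Groth.Statements.S0659
-- import your own Groth.Agent.* helpers here
import Groth.Agent.Lib.Helper4.EtMVData
import Groth.Agent.Lib.Helper4.EtMVBridge
import Groth.Agent.Lib.Helper4.DeltaMVExt
import Groth.Agent.S0101

set_option autoImplicit false
open CategoryTheory CategoryTheory.Limits AlgebraicGeometry Opposite
universe u
open EtCore

namespace Groth.Agent.S0659

/-- Let X = U ∪ V be a union of two open subschemes and F an abelian sheaf on the small etale site of X.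
Writing r_U, r_V for the pullback maps H^n(X, F) -> H^n(U, F|_U), H^n(V, F|_V) and d for the
difference of the two further pullbacks to H^n(U ∩ V, F|_{U ∩ V}), there are connecting
homomorphisms δ_n : H^n(U ∩ V) -> H^{n+1}(X) making the Mayer-Vietoris sequence exact: (r_U, r_V) is
injective in degree 0 and has kernel the image of δ in positive degrees, d has kernel the image of
(r_U, r_V), and δ has kernel the image of d. (Functoriality in F is not stated.) (Exactness of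
pullback of abelian sheaves, which always holds, is carried as an instance hypothesis.) -/
theorem result (X : Scheme.{u}) (U V : X.Opens) (hUV : U ⊔ V = ⊤) (F : EtCoh.Ab X)
    [PreservesFiniteLimits (EtCoh.pull U.ι)] [PreservesFiniteLimits (EtCoh.pull V.ι)]
    [PreservesFiniteLimits (EtCoh.pull (X.homOfLE (inf_le_left : U ⊓ V ≤ U)))]
    [PreservesFiniteLimits (EtCoh.pull (X.homOfLE (inf_le_right : U ⊓ V ≤ V)))] :
    ∃ δ : ∀ n : ℕ, EtCoh.H ↑(U ⊓ V) ((EtCoh.pull (U ⊓ V).ι).obj F) n →+ EtCoh.H X F (n + 1),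
      (AddMonoidHom.prod (EtCore.Hpull U.ι F 0) (EtCore.Hpull V.ι F 0)).ker = ⊥ ∧
      (∀ n : ℕ, (AddMonoidHom.prod (EtCore.Hpull U.ι F (n + 1)) (EtCore.Hpull V.ι F (n + 1))).ker = (δ n).range) ∧
      (∀ n : ℕ, (((EtCore.HpullVia (X.homOfLE (inf_le_left : U ⊓ V ≤ U)) U.ι (U ⊓ V).ι (X.homOfLE_ι inf_le_left) F n)).comp (AddMonoidHom.fst _ _) - ((EtCore.HpullVia (X.homOfLE (inf_le_right : U ⊓ V ≤ V)) V.ι (U ⊓ V).ι (X.homOfLE_ι inf_le_right) F n)).comp (AddMonoidHom.snd _ _)).ker =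
        (AddMonoidHom.prod (EtCore.Hpull U.ι F n) (EtCore.Hpull V.ι F n)).range) ∧
      (∀ n : ℕ, (δ n).ker = (((EtCore.HpullVia (X.homOfLE (inf_le_left : U ⊓ V ≤ U)) U.ι (U ⊓ V).ι (X.homOfLE_ι inf_le_left) F n)).comp (AddMonoidHom.fst _ _) - ((EtCore.HpullVia (X.homOfLE (inf_le_right : U ⊓ V ≤ V)) V.ι (U ⊓ V).ι (X.homOfLE_ι inf_le_right) F n)).comp (AddMonoidHom.snd _ _)).range) := by
  have : PreservesFiniteLimits (EtCoh.pull (U ⊓ V).ι) := Groth.Agent.S0101.result _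
  have := Groth.Agent.Lib.Helper4.EtRestr.pull_preservesInjectives (U ⊓ V).ι
  have := Groth.Agent.Lib.Helper4.EtRestr.pull_preservesInjectives U.ι
  have := Groth.Agent.Lib.Helper4.EtRestr.pull_preservesInjectives V.ι
  have hfac : (Groth.Agent.Lib.Helper4.EtMVSquare.sq U V).f₁₂ ≫
      (Groth.Agent.Lib.Helper4.EtMVSquare.sq U V).f₂₄ =
      Groth.Agent.Lib.Helper4.EtMVSquare.up (Groth.Agent.Lib.Helper4.EtMVSquare.toTop (U ⊓ V).ι) :=
    (Groth.Agent.Lib.Helper4.EtaleTransfer.top'IsTerminal X).hom_ext _ _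
  open Groth.Agent.Lib.Helper4.EtaleSmallSite Groth.Agent.Lib.Helper4.EtaleTransfer
    Groth.Agent.Lib.Helper5 Groth.Agent.Lib.Helper4.EtMVSquare Groth.Agent.Lib.Helper4.EtMVData
    Groth.Agent.Lib.Helper4.DeltaMVExt Groth.Agent.Lib.Helper4.EtMVBridge in
  exact mayerVietorisExt' (Φ X) (EtCoh.pull (U ⊓ V).ι) (EtCoh.pull U.ι) (EtCoh.pull V.ι)
    (EtCoh.pull (X.homOfLE (inf_le_left : U ⊓ V ≤ U)))
    (EtCoh.pull (X.homOfLE (inf_le_right : U ⊓ V ≤ V)))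
    ((EtCore.pullComp _ U.ι).symm ≪≫ EtCore.pullCongr (X.homOfLE_ι inf_le_left)).hom
    ((EtCore.pullComp _ V.ι).symm ≪≫ EtCore.pullCongr (X.homOfLE_ι inf_le_right)).hom
    (EtCore.pullConst (U ⊓ V).ι ℤ).inv (EtCore.pullConst U.ι ℤ).inv (EtCore.pullConst V.ι ℤ).inv
    (EtCore.pullConst (X.homOfLE (inf_le_left : U ⊓ V ≤ U)) ℤ).inv
    (EtCore.pullConst (X.homOfLE (inf_le_right : U ⊓ V ≤ V)) ℤ).inv
    (pullConst_comp _ _ _ _) (pullConst_comp _ _ _ _)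
    (SiteCoh.freeMap (J' X) (sq U V).f₁₂) (SiteCoh.freeMap (J' X) (sq U V).f₁₃)
    (SiteCoh.freeMap (J' X) (sq U V).f₂₄) (SiteCoh.freeMap (J' X) (sq U V).f₃₄)
    (mv_zero U V hUV) (mv_shortExact U V hUV)
    (ξ (U ⊓ V).ι) (ξ_nat (U ⊓ V).ι) (ξ U.ι) (ξ_nat U.ι) (ξ V.ι) (ξ_nat V.ι) (ξ₀ X) ξ₀_nat
    (fun F f => by rw [← freeMap_comp, hfac]; exact ξ_pullConst (U ⊓ V).ι F f)
    (ξ_pullConst U.ι) (ξ_pullConst V.ι) F
    (EtCore.Hpull U.ι F) (EtCore.Hpull V.ι F)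
    (EtCore.HpullVia (X.homOfLE (inf_le_left : U ⊓ V ≤ U)) U.ι (U ⊓ V).ι
      (X.homOfLE_ι inf_le_left) F)
    (EtCore.HpullVia (X.homOfLE (inf_le_right : U ⊓ V ≤ V)) V.ι (U ⊓ V).ι
      (X.homOfLE_ι inf_le_right) F)
    (hr U.ι F) (hr V.ι F) (hs _ _ _ _ F) (hs _ _ _ _ F)

end Groth.Agent.S0659
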