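import Groth.Statements.S0661
-- import your own Groth.Agent.* helpers here
import Groth.Agent.Lib.Helper4.GabberDeg
import Groth.Agent.Lib.Helper4.OpenBridge
import Groth.Agent.Lib.Helper36.WLSquareMisc

set_option autoImplicit false
open CategoryTheory CategoryTheory.Limits AlgebraicGeometry Opposite
universe u
open EtCore

namespace Groth.Agent.S0661

/-- Let R be a ring such that the localization at every prime is strictly henselian, and F an abelian
sheaf on the small etale site of X = Spec R. Suppose that for all global functions f, g on X the map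
from H^1 of the basic open D(f+g) (with coefficients in the restriction of F) to the product of H^1
of D(f(f+g)) and H^1 of D(g(f+g)) has zero kernel. Then H^q(X, F) vanishes for all q > 0. (Global
functions on Spec R are used in place of elements of R; the two rings are canonically isomorphic.)
(Exactness of pullback of abelian sheaves, which always holds, is carried as an instance
hypothesis.) -/
theorem result (R : Type u) [CommRing R]
    (hR : ∀ p : PrimeSpectrum R, EtCoh.IsStrictlyHenselianLocalRing (Localization.AtPrime p.asIdeal))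
    (F : EtCoh.Ab (Spec (CommRingCat.of R)))
    (hker : ∀ (f g : Γ((Spec (CommRingCat.of R)), ⊤))
      [PreservesFiniteLimits (EtCoh.pull ((Spec (CommRingCat.of R)).homOfLE (((Spec (CommRingCat.of R)).basicOpen_mul f (f + g)).trans_le inf_le_right)))]
      [PreservesFiniteLimits (EtCoh.pull ((Spec (CommRingCat.of R)).homOfLE (((Spec (CommRingCat.of R)).basicOpen_mul g (f + g)).trans_le inf_le_right)))]
      (ξ : EtCoh.H ↑((Spec (CommRingCat.of R)).basicOpen (f + g)) ((EtCoh.pull ((Spec (CommRingCat.of R)).basicOpen (f + g)).ι).obj F) 1),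
      EtCore.HpullVia ((Spec (CommRingCat.of R)).homOfLE (((Spec (CommRingCat.of R)).basicOpen_mul f (f + g)).trans_le inf_le_right)) ((Spec (CommRingCat.of R)).basicOpen (f + g)).ι ((Spec (CommRingCat.of R)).basicOpen (f * (f + g))).ι ((Spec (CommRingCat.of R)).homOfLE_ι (((Spec (CommRingCat.of R)).basicOpen_mul f (f + g)).trans_le inf_le_right)) F 1 ξ = 0 →
      EtCore.HpullVia ((Spec (CommRingCat.of R)).homOfLE (((Spec (CommRingCat.of R)).basicOpen_mul g (f + g)).trans_le inf_le_right)) ((Spec (CommRingCat.of R)).basicOpen (f + g)).ι ((Spec (CommRingCat.of R)).basicOpen (g * (f + g))).ι ((Spec (CommRingCat.of R)).homOfLE_ι (((Spec (CommRingCat.of R)).basicOpen_mul g (f + g)).trans_le inf_le_right)) F 1 ξ = 0 →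
      ξ = 0)
    (q : ℕ) (hq : 1 ≤ q) : Subsingleton (EtCoh.H (Spec (CommRingCat.of R)) F q) := by
  open Groth.Agent.Lib.Helper4.EtaleSmallSite Groth.Agent.Lib.Helper4.EtaleTransfer
    Groth.Agent.Lib.Helper4.OpenSite Groth.Agent.Lib.Helper4.OpenBridge
    Groth.Agent.Lib.Helper4.GabberInd Groth.Agent.Lib.Helper4.GabberDeg in
  -- the local rings are strictly henselian
  have hX : ∀ s : (Spec (CommRingCat.of R) : Scheme.{u}),
      EtCoh.IsStrictlyHenselianLocalRing ((Spec (CommRingCat.of R)).presheaf.stalk s) := by
    intro s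
    let _ : Algebra R ((Spec (CommRingCat.of R)).presheaf.stalk s) :=
      StructureSheaf.stalkAlgebra R s
    have : IsLocalization.AtPrime ((Spec (CommRingCat.of R)).presheaf.stalk s) s.asIdeal :=
      StructureSheaf.IsLocalization.to_stalk R s
    exact Groth.Agent.Lib.Helper36.WLSquare.isStrictlyHenselianLocalRing_of_ringEquiv (hR s)
      (IsLocalization.algEquiv s.asIdeal.primeCompl (Localization.AtPrime s.asIdeal)
        ((Spec (CommRingCat.of R)).presheaf.stalk s)).toRingEquiv
  -- hypothesis (K) in degree one
  have hK : HypK ((Φ (Spec (CommRingCat.of R))).functor.obj F) 1 := by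
    intro f g x h₁ h₂
    have i1 : PreservesFiniteLimits (EtCoh.pull ((Spec (CommRingCat.of R)).homOfLE (le₁ f g))) :=
      Groth.Agent.S0101.result _
    have i2 : PreservesFiniteLimits (EtCoh.pull ((Spec (CommRingCat.of R)).homOfLE (le₂ f g))) :=
      Groth.Agent.S0101.result _
    apply (eO ((Spec (CommRingCat.of R)).basicOpen (f + g)) F 1).injective
    rw [map_zero]
    apply hker f g (eO ((Spec (CommRingCat.of R)).basicOpen (f + g)) F 1 x)
    · have := eO_rs (le₁ f g) F 1 x
      rw [h₁, map_zero] at this
      exact this.symm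
    · have := eO_rs (le₂ f g) F 1 x
      rw [h₂, map_zero] at this
      exact this.symm
  obtain ⟨n, rfl⟩ : ∃ n, q = n + 1 := ⟨q - 1, by omega⟩
  have h1 := subsingleton_ext_basicOpen hX ((Φ (Spec (CommRingCat.of R))).functor.obj F) hK n
    (1 : Γ(Spec (CommRingCat.of R), ⊤))
  have h2 := subsingleton_of_eq ((Φ (Spec (CommRingCat.of R))).functor.obj F) (n + 1) 1 h1 ⊤
    ((Spec (CommRingCat.of R)).basicOpen_one).symm
  have h3 := subsingleton_ext_top' ((Φ (Spec (CommRingCat.of R))).functor.obj F) (n + 1) h2
  obtain ⟨e⟩ := nonempty_eqvTop F (n + 1)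
  exact e.symm.injective.subsingleton

end Groth.Agent.S0661
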