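import Groth.Statements.S0670
import Groth.Agent.Lib.Helper3.EtZarDense
import Groth.Agent.Lib.Helper5.ExtAdjunction

set_option autoImplicit false
open CategoryTheory CategoryTheory.Limits AlgebraicGeometry Opposite
universe u
open EtCore

namespace Groth.Agent.S0670

open Groth.Agent.Lib.Helper3 Groth.Agent.Lib.Helper5

instance resZar_additive (S : Scheme.{u}) [EtZar.ZarCont S] : (EtZar.resZar S).Additive where

set_option backward.isDefEq.respectTransparency.types false in
/-- The open `⊤`, as an étale `S`-scheme, is a terminal object of the small étale site. -/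
noncomputable def isTerminalZarTop (S : Scheme.{u}) :
    IsTerminal ((EtZar.zarToEt S).obj ⊤) := by
  have key : ∀ {A : Scheme.{u}} (g : A ⟶ S), (g ≫ (Scheme.topIso S).inv) ≫ (⊤ : S.Opens).ι = g := by
    intro A g
    rw [Category.assoc, Scheme.toIso_inv_ι, Category.comp_id]
  refine IsTerminal.ofUniqueHom
    (fun Y => MorphismProperty.Over.homMk (Y.hom ≫ (Scheme.topIso S).inv) (key Y.hom)) ?_
  intro Y m
  apply MorphismProperty.Over.Hom.ext
  let φ : Y.left ⟶ (⊤ : S.Opens).toScheme := m.left
  let g : Y.left ⟶ S := Y.hom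
  have h1 : φ ≫ (⊤ : S.Opens).ι = g := Over.w m.hom
  change φ = g ≫ (Scheme.topIso S).inv
  rw [← cancel_mono (⊤ : S.Opens).ι, h1, key g]

/-- `Ext` is invariant under isomorphisms in the first variable. -/
noncomputable def extCongrLeft {C : Type*} [Category C] [Abelian C] [HasExt.{u + 1} C]
    {X Y : C} (e : X ≅ Y) (Z : C) (n : ℕ) :
    Abelian.Ext.{u + 1} Y Z n ≃+ Abelian.Ext.{u + 1} X Z n where
  toFun x := (Abelian.Ext.mk₀ e.hom).comp x (zero_add n)
  invFun x := (Abelian.Ext.mk₀ e.inv).comp x (zero_add n)
  left_inv x := by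
    dsimp only
    rw [← Abelian.Ext.comp_assoc_of_second_deg_zero, Abelian.Ext.mk₀_comp_mk₀, e.inv_hom_id,
      Abelian.Ext.mk₀_id_comp]
  right_inv x := by
    dsimp only
    rw [← Abelian.Ext.comp_assoc_of_second_deg_zero, Abelian.Ext.mk₀_comp_mk₀, e.hom_inv_id,
      Abelian.Ext.mk₀_id_comp]
  map_add' x y := Abelian.Ext.comp_add _ _ _ _

/-- Suppose S is a scheme in which every local ring is strictly henselian. For any abelian sheaf F on
the small étale site of S and any degree i, the étale cohomology H^i(S, F) is isomorphic to the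
Zariski cohomology in degree i of the restriction of F to the site of opens of S. (Continuity of the
functor from opens of S to étale S-schemes is carried as an instance binder; only some isomorphism
is claimed to exist, whereas the published statement gives a canonical one.) -/
theorem result (S : Scheme.{u})
    (hS : ∀ s : S, EtCoh.IsStrictlyHenselianLocalRing (S.presheaf.stalk s)) [EtZar.ZarCont S]
    (F : EtCoh.Ab S) (i : ℕ) :
    Nonempty (EtCoh.H S F i ≃+ EtZar.H ((EtZar.resZar S).obj F) i) := by
  classical
  have hD := EtZarDense.isDenseSubsite S hS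
  have hEq : (EtZar.resZar S).IsEquivalence := inferInstance
  let R : EtCoh.Ab S ⥤ EtZar.Ab S := EtZar.resZar S
  let L : EtZar.Ab S ⥤ EtCoh.Ab S := R.inv
  let adj : L ⊣ R := R.asEquivalence.symm.toAdjunction
  have hRadd : R.Additive := resZar_additive S
  have hLadd : L.Additive := adj.left_adjoint_additive
  let Zz := (constantSheaf (Opens.grothendieckTopology S) AddCommGrpCat.{u+1}).obj
    (AddCommGrpCat.of (ULift ℤ))
  let Ze := (constantSheaf S.smallEtaleTopology AddCommGrpCat.{u+1}).obj
    (AddCommGrpCat.of (ULift ℤ))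
  -- the adjunction isomorphism on `Ext`
  let e1 : Abelian.Ext.{u+1} (L.obj Zz) F i ≃+ Abelian.Ext.{u+1} Zz (R.obj F) i :=
    extAdjAddEquiv.{u+1,u+1} adj Zz F i
  -- the constant sheaves correspond
  let adjZ := constantSheafAdj (Opens.grothendieckTopology S) AddCommGrpCat.{u+1}
    (isTerminalTop (α := S.Opens))
  let adjE := constantSheafAdj S.smallEtaleTopology AddCommGrpCat.{u+1} (isTerminalZarTop S)
  let adj1 : constantSheaf (Opens.grothendieckTopology S) AddCommGrpCat.{u+1} ⋙ L ⊣
      (sheafSections S.smallEtaleTopology AddCommGrpCat.{u+1}).obj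
        (op ((EtZar.zarToEt S).obj ⊤)) := adjZ.comp adj
  let iso : L.obj Zz ≅ Ze := (adj1.leftAdjointUniq adjE).app (AddCommGrpCat.of (ULift ℤ))
  exact ⟨(extCongrLeft iso F i).trans e1⟩

end Groth.Agent.S0670
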