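import Groth.Statements.S0676
import Groth.Agent.Lib.Helper36.EtaleRetract
import Groth.Agent.Lib.Helper3.EtaleQuotLift

set_option autoImplicit false
open CategoryTheory CategoryTheory.Limits AlgebraicGeometry Opposite Topology
universe u
open ProEtW

namespace Groth.Agent.S0676

/-- If every faithfully flat etale A-algebra has an A-algebra retraction, then the same holds for the
quotient ring A/I for every ideal I. -/
theorem result (A : Type u) [CommRing A]
    (h : ProEtW.HasEtaleRetractions A) (I : Ideal A) :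
    ProEtW.HasEtaleRetractions (A ⧸ I) := by
  intro Cb _ _ hff het
  obtain ⟨B, _, _, hB, ψ, hψs, hψk, hψc⟩ :=
    Groth.Agent.Lib.Helper3.exists_etale_lift_of_quotient I Cb
  have hI : PrimeSpectrum.zeroLocus (I : Set A) ⊆
      Set.range (PrimeSpectrum.comap (algebraMap A B)) := by
    intro p hp
    have h1 : p ∈ Set.range (PrimeSpectrum.comap (Ideal.Quotient.mk I)) := by
      rw [range_comap_of_surjective _ _ Ideal.Quotient.mk_surjective, Ideal.mk_ker]
      exact hp
    obtain ⟨p', rfl⟩ := h1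
    obtain ⟨q', rfl⟩ := PrimeSpectrum.comap_surjective_of_faithfullyFlat (A := A ⧸ I) (B := Cb) p'
    refine ⟨PrimeSpectrum.comap ψ q', ?_⟩
    rw [← PrimeSpectrum.comap_comp_apply, ← PrimeSpectrum.comap_comp_apply]
    congr 1
    ext x
    exact hψc x
  obtain ⟨τ⟩ := Groth.Agent.Lib.Helper36.EtRetr.exists_algHom_of_zeroLocus_subset h B I hI (A ⧸ I)
    (by
      have : I.map (algebraMap A (A ⧸ I)) = ⊥ := by
        rw [Ideal.Quotient.algebraMap_eq, Ideal.map_quotient_self]
      rw [this]
      exact bot_le)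
  have hker : RingHom.ker ψ ≤ RingHom.ker τ.toRingHom := by
    rw [hψk, Ideal.map_le_iff_le_comap]
    intro x hx
    rw [Ideal.mem_comap, RingHom.mem_ker]
    change τ (algebraMap A B x) = 0
    rw [τ.commutes, Ideal.Quotient.algebraMap_eq]
    exact Ideal.Quotient.eq_zero_iff_mem.mpr hx
  let τ' : Cb →+* A ⧸ I := ψ.liftOfSurjective hψs ⟨τ.toRingHom, hker⟩
  have hτ' : ∀ b, τ' (ψ b) = τ b := fun b =>
    RingHom.liftOfRightInverse_comp_apply _ _ _ ⟨τ.toRingHom, hker⟩ b
  refine ⟨{ τ' with commutes' := fun r => ?_ }⟩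
  obtain ⟨x, rfl⟩ := Ideal.Quotient.mk_surjective r
  change τ' (algebraMap (A ⧸ I) Cb (Ideal.Quotient.mk I x)) = _
  rw [← hψc, hτ', τ.commutes]
  rfl

end Groth.Agent.S0676
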