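import Groth.Statements.S0702
import Groth.Agent.Lib.Helper4.ProfiniteSpec

set_option autoImplicit false
open CategoryTheory CategoryTheory.Limits AlgebraicGeometry Opposite Topology
universe u
open ProEtW

namespace Groth.Agent.S0702

/-- Let Spec A be profinite and A -> B induce algebraic extensions of residue fields at all primes. Then
Spec B is profinite. -/
theorem result (A B : Type u) [CommRing A] [CommRing B]
    [Algebra A B] [T2Space (PrimeSpectrum A)] [TotallyDisconnectedSpace (PrimeSpectrum A)]
    (h : ProEtW.AlgebraicResidueExtensions A B) :
    ProEtW.IsProfinite (PrimeSpectrum B) := by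
  have hB : ∀ q q' : PrimeSpectrum B, q ≤ q' → q = q' := by
    intro q q' hqq'
    have hmax : q.asIdeal.IsMaximal := by
      have halg := h q.asIdeal
      have hp : (q.asIdeal.comap (algebraMap A B)).IsMaximal :=
        (PrimeSpectrum.isClosed_singleton_iff_isMaximal
          (PrimeSpectrum.comap (algebraMap A B) q)).1 isClosed_singleton
      rw [Ideal.Quotient.maximal_ideal_iff_isField_quotient]
      have hfield : IsField (A ⧸ q.asIdeal.comap (algebraMap A B)) :=
        (Ideal.Quotient.maximal_ideal_iff_isField_quotient _).1 hp
      letI := hfield.toField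
      have : Algebra.IsIntegral (A ⧸ q.asIdeal.comap (algebraMap A B)) (B ⧸ q.asIdeal) :=
        Algebra.IsAlgebraic.isIntegral
      exact isField_of_isIntegral_of_isField' hfield
    ext1
    exact hmax.eq_of_le q'.2.ne_top hqq'
  have := Groth.Agent.Lib.Helper4.totallySeparatedSpace_of_incomparable B hB
  exact ⟨inferInstance, inferInstance, inferInstance⟩

end Groth.Agent.S0702
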