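import Groth.Statements.S0706

set_option autoImplicit false
universe u
open ProEtW

namespace Groth.Agent.S0706

/-- Let f be an element and I an ideal of A, and Z the intersection of D(f) and V(I) in Spec A. There is
a multiplicative subset S of A for which the image of Spec(S^{-1}A) in Spec A consists precisely of
the points having a specialization in Z. -/
theorem result (A : Type u) [CommRing A] (f : A) (I : Ideal A) :
    ∃ S : Submonoid A,
      Set.range (PrimeSpectrum.comap (algebraMap A (Localization S))) =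
        {x | ∃ z : PrimeSpectrum A,
          z ∈ (PrimeSpectrum.basicOpen f : Set (PrimeSpectrum A)) ∩ PrimeSpectrum.zeroLocus I ∧ x ⤳ z} := by
  classical
  let S : Submonoid A :=
    { carrier := {s | ∀ z : PrimeSpectrum A,
        z ∈ (PrimeSpectrum.basicOpen f : Set (PrimeSpectrum A)) ∩ PrimeSpectrum.zeroLocus I →
          s ∉ z.asIdeal}
      one_mem' := fun z _ h => z.2.ne_top ((Ideal.eq_top_iff_one _).2 h)
      mul_mem' := fun {a b} ha hb z hz h => by
        rcases z.2.mem_or_mem h with h | h
        · exact ha z hz h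
        · exact hb z hz h }
  refine ⟨S, ?_⟩
  rw [PrimeSpectrum.localization_comap_range (Localization S) S]
  ext p
  simp only [Set.mem_ofPred_eq]
  constructor
  · intro hp
    by_cases hdis : Disjoint ((p.asIdeal ⊔ I : Ideal A) : Set A) (Submonoid.powers f)
    · obtain ⟨q, hq, hle, hqd⟩ := Ideal.exists_le_prime_disjoint _ _ hdis
      refine ⟨⟨q, hq⟩, ⟨?_, ?_⟩, ?_⟩
      · simp only [SetLike.mem_coe, PrimeSpectrum.mem_basicOpen]
        intro hf
        exact Set.disjoint_left.1 hqd hf (Submonoid.mem_powers f)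
      · rw [PrimeSpectrum.mem_zeroLocus]
        exact fun x hx => hle (Ideal.mem_sup_right hx)
      · rw [← PrimeSpectrum.le_iff_specializes, ← PrimeSpectrum.asIdeal_le_asIdeal]
        exact fun x hx => hle (Ideal.mem_sup_left hx)
    · exfalso
      rw [Set.not_disjoint_iff] at hdis
      obtain ⟨y, hy, ⟨n, rfl⟩⟩ := hdis
      obtain ⟨x, hx, i, hi, hxi⟩ := Submodule.mem_sup.1 hy
      refine (Set.disjoint_left.1 hp : ∀ ⦃a : A⦄, a ∈ (S : Set A) → a ∉ (p.asIdeal : Set A)) (a := x) ?_ hx
      intro z hz hxz
      have hIz : i ∈ z.asIdeal := (PrimeSpectrum.mem_zeroLocus _ _).1 hz.2 hi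
      have : f ^ n ∈ z.asIdeal := by
        have := z.asIdeal.add_mem hxz hIz
        rwa [hxi] at this
      exact hz.1 (z.2.mem_of_pow_mem n this)
  · rintro ⟨z, hz, hpz⟩
    rw [← PrimeSpectrum.le_iff_specializes, ← PrimeSpectrum.asIdeal_le_asIdeal] at hpz
    rw [Set.disjoint_left]
    intro s hs hsp
    exact hs z hz (hpz hsp)

end Groth.Agent.S0706
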