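import Groth.Statements.S0707
import Groth.Agent.Lib.Helper36.WContrRetract
import Groth.Agent.Lib.Helper36.WeaklyEtaleLocal

set_option autoImplicit false
open CategoryTheory CategoryTheory.Limits AlgebraicGeometry Opposite Topology
universe u
open ProEtW

namespace Groth.Agent.S0707

set_option linter.style.haveILetI false

/-- Let A be w-contractible, E a finite set of elements of A with zero set Z in Spec A, and B a
localization of A at a multiplicative subset S such that the image of Spec B → Spec A is precisely
the set of points of Spec A specializing to some point of Z. Then B is w-contractible. -/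
theorem result (A B : Type u) [CommRing A] [CommRing B]
    [Algebra A B] (S : Submonoid A) [IsLocalization S B] (E : Finset A)
    (hB : Set.range (PrimeSpectrum.comap (algebraMap A B)) =
      {x | ∃ z : PrimeSpectrum A, z ∈ PrimeSpectrum.zeroLocus (R := A) E ∧ x ⤳ z})
    (hA : EtPBC.IsWContractible A) : EtPBC.IsWContractible B := by
  intro C _ _ hff hwe
  letI algAC : Algebra A C := ((algebraMap B C).comp (algebraMap A B)).toAlgebra
  haveI : IsScalarTower A B C := IsScalarTower.of_algebraMap_eq' rfl
  haveI : Algebra.WeaklyEtale A B :=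
    Groth.Agent.Lib.Helper36.WE.weaklyEtale_of_isLocalization S B
  haveI : Algebra.WeaklyEtale A C := Algebra.WeaklyEtale.trans A B C
  have hE : PrimeSpectrum.zeroLocus (E : Set A) ⊆
      Set.range (PrimeSpectrum.comap (algebraMap A C)) := by
    intro p hp
    have hpB : p ∈ Set.range (PrimeSpectrum.comap (algebraMap A B)) := by
      rw [hB]
      exact ⟨p, hp, specializes_rfl⟩
    obtain ⟨P, rfl⟩ := hpB
    obtain ⟨Q, rfl⟩ := PrimeSpectrum.comap_surjective_of_faithfullyFlat (A := B) (B := C) P
    refine ⟨Q, ?_⟩
    rw [← PrimeSpectrum.comap_comp_apply]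
    rfl
  have hJ : (Ideal.span (E : Set A)).map (algebraMap A B) ≤ Ideal.jacobson ⊥ := by
    refine le_sInf ?_
    rintro M ⟨-, hM⟩
    have hMp : M.IsPrime := hM.isPrime
    let Mp : PrimeSpectrum B := ⟨M, hMp⟩
    have hmem : PrimeSpectrum.comap (algebraMap A B) Mp ∈
        Set.range (PrimeSpectrum.comap (algebraMap A B)) := ⟨Mp, rfl⟩
    rw [hB] at hmem
    obtain ⟨z, hz, hspec⟩ := hmem
    have hzB : z ∈ Set.range (PrimeSpectrum.comap (algebraMap A B)) := by
      rw [hB]
      exact ⟨z, hz, specializes_rfl⟩
    obtain ⟨M', rfl⟩ := hzB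
    have hle : (PrimeSpectrum.comap (algebraMap A B) Mp).asIdeal ≤
        (PrimeSpectrum.comap (algebraMap A B) M').asIdeal :=
      (PrimeSpectrum.le_iff_specializes _ _).mpr hspec
    have hMM' : M ≤ M'.asIdeal := by
      rw [← IsLocalization.map_under S B M, ← IsLocalization.map_under S B M'.asIdeal]
      exact Ideal.map_mono hle
    have hEq : M = M'.asIdeal := hM.eq_of_le M'.isPrime.ne_top hMM'
    rw [Ideal.map_le_iff_le_comap, Ideal.span_le]
    intro x hx
    have := hz hx
    rw [hEq]
    exact this
  obtain ⟨ψ⟩ := Groth.Agent.Lib.Helper36.EtRetr.exists_algHom_of_zeroLocus_subset_we hA C E hE B hJ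
  have hid : ψ.toRingHom.comp (algebraMap B C) = RingHom.id B := by
    apply IsLocalization.ringHom_ext S
    ext a
    change ψ (algebraMap A C a) = algebraMap A B a
    exact ψ.commutes a
  exact ⟨{ ψ.toRingHom with commutes' := fun b => congrArg (fun f => f b) hid }⟩

end Groth.Agent.S0707
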