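import Groth.Statements.S0708
import Groth.Agent.Lib.Helper36.EtaleRetract
import Groth.Agent.Lib.Helper36.LocColim

set_option autoImplicit false
open CategoryTheory CategoryTheory.Limits AlgebraicGeometry Opposite Topology
universe u
open ProEtW

namespace Groth.Agent.S0708

open Groth.Agent.Lib.Helper36.LocColim Groth.Agent.Lib.Helper36.EtRetr
set_option linter.style.haveILetI false

/-- Let A be a ring all of whose faithfully flat etale algebras have retractions, I an ideal with zero
set Z, and B a localization of A at a multiplicative subset such that the image of Spec B → Spec A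
is precisely the set of points of Spec A specializing to some point of Z. Then every faithfully flat
etale B-algebra has a retraction. -/
theorem result (A B : Type u) [CommRing A] [CommRing B]
    [Algebra A B] (S : Submonoid A) [IsLocalization S B] (I : Ideal A)
    (hB : Set.range (PrimeSpectrum.comap (algebraMap A B)) =
      {x | ∃ z : PrimeSpectrum A, z ∈ PrimeSpectrum.zeroLocus (R := A) I ∧ x ⤳ z})
    (hA : ProEtW.HasEtaleRetractions A) : ProEtW.HasEtaleRetractions B := by
  intro C _ _ hff het
  obtain ⟨s, T', f', g, hpo, hf'⟩ := exists_etale_descent S B C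
  letI algsT : Algebra (Localization.Away s.val) T' := f'.hom.toAlgebra
  letI algAT : Algebra A T' := (f'.hom.comp (algebraMap A (Localization.Away s.val))).toAlgebra
  haveI : IsScalarTower A (Localization.Away s.val) T' := IsScalarTower.of_algebraMap_eq' rfl
  haveI : Algebra.Etale (Localization.Away s.val) T' := hf'
  haveI : Algebra.Etale A (Localization.Away s.val) := inferInstance
  haveI : Algebra.Etale A T' := Algebra.Etale.comp A (Localization.Away s.val) T'
  -- compatibility of the square with the `A`-algebra structures
  have hsq : g.hom.comp (algebraMap A T') = (algebraMap B C).comp (algebraMap A B) := by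
    have h1 := congrArg (fun f => f.hom) hpo.w
    change (algebraMap B C).comp (toLoc S B s).toRingHom = g.hom.comp f'.hom at h1
    change g.hom.comp (f'.hom.comp (algebraMap A (Localization.Away s.val))) = _
    rw [← RingHom.comp_assoc, ← h1, RingHom.comp_assoc]
    congr 1
    ext a
    exact (toLoc S B s).commutes a
  have hI : PrimeSpectrum.zeroLocus (I : Set A) ⊆
      Set.range (PrimeSpectrum.comap (algebraMap A T')) := by
    intro p hp
    have hpB : p ∈ Set.range (PrimeSpectrum.comap (algebraMap A B)) := by
      rw [hB]
      exact ⟨p, hp, specializes_rfl⟩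
    obtain ⟨P, rfl⟩ := hpB
    obtain ⟨Q, rfl⟩ := PrimeSpectrum.comap_surjective_of_faithfullyFlat (A := B) (B := C) P
    refine ⟨PrimeSpectrum.comap g.hom Q, ?_⟩
    rw [← PrimeSpectrum.comap_comp_apply, ← PrimeSpectrum.comap_comp_apply, hsq]
  have hJ : I.map (algebraMap A B) ≤ Ideal.jacobson ⊥ := by
    refine le_sInf ?_
    rintro M ⟨-, hM⟩
    have hMp : M.IsPrime := hM.isPrime
    let Mp : PrimeSpectrum B := ⟨M, hMp⟩
    have hmem : PrimeSpectrum.comap (algebraMap A B) Mp ∈
        Set.range (PrimeSpectrum.comap (algebraMap A B)) := ⟨Mp, rfl⟩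
    rw [hB] at hmem
    obtain ⟨z, hz, hspec⟩ := hmem
    have hzB : z ∈ Set.range (PrimeSpectrum.comap (algebraMap A B)) := by
      rw [hB]
      exact ⟨z, hz, specializes_rfl⟩
    obtain ⟨M', rfl⟩ := hzB
    have hle : (PrimeSpectrum.comap (algebraMap A B) Mp).asIdeal ≤
        (PrimeSpectrum.comap (algebraMap A B) M').asIdeal :=
      (PrimeSpectrum.le_iff_specializes _ _).mpr hspec
    have hMM' : M ≤ M'.asIdeal := by
      rw [← IsLocalization.map_under S B M, ← IsLocalization.map_under S B M'.asIdeal]
      exact Ideal.map_mono hle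
    have hEq : M = M'.asIdeal := hM.eq_of_le M'.isPrime.ne_top hMM'
    rw [Ideal.map_le_iff_le_comap]
    intro x hx
    have := hz hx
    rw [hEq]
    exact this
  obtain ⟨ψ⟩ := exists_algHom_of_zeroLocus_subset hA T' I hI B hJ
  have hcomp : ψ.toRingHom.comp f'.hom = (toLoc S B s).toRingHom := by
    apply IsLocalization.ringHom_ext (Submonoid.powers s.val)
    ext a
    change ψ (algebraMap A T' a) = toLoc S B s (algebraMap A _ a)
    rw [ψ.commutes, (toLoc S B s).commutes]
  let r : CommRingCat.of C ⟶ CommRingCat.of B :=
    hpo.desc (𝟙 _) (CommRingCat.ofHom ψ.toRingHom) (by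
      rw [Category.comp_id]
      ext x
      exact (congrArg (fun f => f x) hcomp).symm)
  have hr : CommRingCat.ofHom (algebraMap B C) ≫ r = 𝟙 _ := hpo.inl_desc _ _ _
  refine ⟨{ r.hom with commutes' := fun b => ?_ }⟩
  exact congrArg (fun f => f.hom b) hr

end Groth.Agent.S0708
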