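import Groth.Statements.S0721
import Groth.Agent.Lib.Helper36.ProEtPush

set_option autoImplicit false
open CategoryTheory CategoryTheory.Limits AlgebraicGeometry Opposite
universe u
open ProEtS

namespace Groth.Agent.S0721

/-- For f : Z -> X finite and locally of finite presentation, f_{proet,*} on abelian sheaves is exact
(preserves finite limits and colimits; continuity of base change assumed as a binder). -/
theorem result {Z X : Scheme.{u}} (f : Z ⟶ X) [IsFinite f]
    [LocallyOfFinitePresentation f] [ProEtS.PCont f] :
    PreservesFiniteLimits (ProEtS.pushP f) ∧ PreservesFiniteColimits (ProEtS.pushP f) := by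
  haveI hlim : PreservesFiniteLimits (ProEtS.pushP f) :=
    haveI := (ProEtS.pullPushAdjP f).rightAdjoint_preservesLimits
    ⟨fun _ _ _ => inferInstance⟩
  refine ⟨hlim, ?_⟩
  rw [Functor.preservesFiniteColimits_iff_forall_exact_map_and_epi]
  intro S hS
  refine ⟨((Functor.preservesFiniteLimits_iff_forall_exact_map_and_mono _).mp hlim S hS).1, ?_⟩
  haveI := hS.epi_g
  exact Groth.Agent.Lib.Helper36.ProEtPush.epi_pushP_map f S.g

end Groth.Agent.S0721
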