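import Groth.Statements.S0729

set_option autoImplicit false
open CategoryTheory CategoryTheory.Limits AlgebraicGeometry Opposite
universe u
open ProEtS

namespace Groth.Agent.S0729

set_option backward.isDefEq.respectTransparency.types false in
theorem epsPreservesFiniteLimits (X : Scheme.{u}) : PreservesFiniteLimits (eps X) := by
  have h1 : PreservesFiniteLimits (eps X ⋙ Scheme.ProEt.forget X) :=
    inferInstanceAs <| PreservesFiniteLimits (MorphismProperty.Over.forget EtCoh.etaleMP.{u} ⊤ X)
  exact preservesFiniteLimits_of_reflects_of_preserves (eps X) (Scheme.ProEt.forget X)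

set_option backward.isDefEq.respectTransparency.types false in
theorem coverPreserving_eps (X : Scheme.{u}) :
    CoverPreserving X.smallEtaleTopology (Scheme.ProEt.topology X) (eps X) := by
  constructor
  intro U S hS
  obtain ⟨𝒰, h𝒰, h, hle⟩ := (Scheme.mem_smallGrothendieckTopology U S).1 hS
  have hmem : Presieve.ofArrows (fun i ↦ (eps X).obj ((𝒰.X i).asOverProp X (h i)))
      (fun i ↦ (eps X).map ((𝒰.f i).asOverProp X)) ∈ Scheme.ProEt.precoverage X ((eps X).obj U) := by
    change Presieve.map _ _ ∈ Scheme.proetalePrecoverage _
    erw [Presieve.map_ofArrows]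
    exact Scheme.etalePrecoverage_le_proetalePrecoverage _ 𝒰.mem₀
  refine (Scheme.ProEt.topology X).superset_covering ?_
    (Precoverage.generate_mem_toGrothendieck hmem)
  rw [Sieve.generate_le_iff]
  rintro - - ⟨i⟩
  exact Sieve.image_mem_functorPushforward _ _ (hle _ _ ⟨i⟩)

/-- Every étale covering of a scheme X is a pro-étale covering, in the form used to define the
comparison morphism of sites ε : X_proét → X_ét: the inclusion functor from the small étale site of
X to the small pro-étale site of X is continuous. -/
theorem result (X : Scheme.{u}) : ProEtS.EpsCont X := by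
  have := epsPreservesFiniteLimits X
  have : RepresentablyFlat (eps X) := flat_of_preservesFiniteLimits _
  exact Functor.isContinuous_of_coverPreserving (compatiblePreservingOfFlat _ _)
    (coverPreserving_eps X)

end Groth.Agent.S0729
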