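import Groth.Statements.S0733
import Mathlib.Algebra.Category.Ring.Under.Basic
import Mathlib.RingTheory.Etale.Basic
-- import your own Groth.Agent.* helpers here

set_option autoImplicit false
open CategoryTheory CategoryTheory.Limits AlgebraicGeometry Opposite Topology
universe u
open scoped TensorProduct
open ProEtW

namespace Groth.Agent.S0733

/-- The algebra structure on an object of `Under (CommRingCat.of A)`. -/
@[reducible] def underAlg {A : Type u} [CommRing A] (X : Under (CommRingCat.of A)) :
    Algebra A X.right := X.hom.hom.toAlgebra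

attribute [local instance] underAlg

open CommRingCat in
/-- Base change of a filtered colimit of étale algebras (in `Under`). -/
theorem key (A A' : Type u) [CommRing A] [CommRing A'] [Algebra A A']
    (J : Type u) [SmallCategory J] [IsFiltered J] (D : J ⥤ Under (CommRingCat.of A))
    (c : Cocone D) (hc : IsColimit c)
    (hD : ∀ j, letI := (D.obj j).hom.hom.toAlgebra; Algebra.Etale A (D.obj j).right) :
    EtPBC.IsIndEtale A' (A' ⊗[A] c.pt.right) := by
  letI : Algebra (CommRingCat.of A) (CommRingCat.of A') := inferInstanceAs (Algebra A A')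
  haveI : PreservesColimitsOfSize.{u, u}
      (Under.pushout (CommRingCat.ofHom (algebraMap (CommRingCat.of A) (CommRingCat.of A')))) :=
    (Under.mapPushoutAdj _).leftAdjoint_preservesColimits
  haveI : PreservesColimitsOfSize.{u, u}
      (CommRingCat.tensorProd (CommRingCat.of A) (CommRingCat.of A')) :=
    preservesColimits_of_natIso (CommRingCat.tensorProdIsoPushout _ _).symm
  refine ⟨J, inferInstance, inferInstance,
    D ⋙ CommRingCat.tensorProd (CommRingCat.of A) (CommRingCat.of A'),
    (CommRingCat.tensorProd (CommRingCat.of A) (CommRingCat.of A')).mapCocone c,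
    isColimitOfPreserves _ hc, ?_, ⟨Iso.refl _⟩⟩
  intro j
  have hj : Algebra.Etale A (D.obj j).right := hD j
  have h : (algebraMap A' (A' ⊗[A] (D.obj j).right)).toAlgebra =
      (inferInstance : Algebra A' (A' ⊗[A] (D.obj j).right)) :=
    Algebra.algebra_ext _ _ (fun _ => rfl)
  show @Algebra.Etale A' (A' ⊗[A] (D.obj j).right) _ _
    (algebraMap A' (A' ⊗[A] (D.obj j).right)).toAlgebra
  rw [h]
  infer_instance

/-- Ind-étaleness is invariant under isomorphism of algebras. -/
theorem isIndEtale_of_algEquiv (R T T' : Type u) [CommRing R] [CommRing T] [CommRing T']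
    [Algebra R T] [Algebra R T'] (ε : T ≃ₐ[R] T') (h : EtPBC.IsIndEtale R T) :
    EtPBC.IsIndEtale R T' := by
  obtain ⟨J, i1, i2, D, c, hc, hD, ⟨e⟩⟩ := h
  refine ⟨J, i1, i2, D, c, hc, hD, ⟨e ≪≫ ?_⟩⟩
  refine Under.isoMk (ε.toRingEquiv.toCommRingCatIso) ?_
  ext r
  exact ε.commutes r

/-- If A -> B is ind-etale (a filtered colimit of etale A-algebras) and A -> A' is any ring map, then A'
-> A' (x)_A B is ind-etale. -/
theorem result (A B A' : Type u) [CommRing A] [CommRing B] [CommRing A']
    [Algebra A B] [Algebra A A'] (h : EtPBC.IsIndEtale A B) :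
    EtPBC.IsIndEtale A' (A' ⊗[A] B) := by
  obtain ⟨J, i1, i2, D, c, hc, hD, ⟨e⟩⟩ := h
  have h1 := key A A' J D c hc hD
  -- the A-algebra isomorphism `c.pt.right ≃ B`
  let ε : c.pt.right ≃ₐ[A] B :=
    { ((Under.forget _).mapIso e).commRingCatIsoToRingEquiv with
      commutes' := fun r => ConcreteCategory.congr_hom (Under.w e.hom) r }
  exact isIndEtale_of_algEquiv A' _ _ (Algebra.TensorProduct.congr AlgEquiv.refl ε) h1

end Groth.Agent.S0733
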