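import Groth.Statements.S0739
import Groth.Agent.Lib.Helper36.WeaklyEtaleStalk
import Groth.Agent.Lib.Helper36.WeaklyEtaleResidue

set_option autoImplicit false
set_option linter.style.haveILetI false
open CategoryTheory CategoryTheory.Limits AlgebraicGeometry Opposite
universe u
open ProEtS

namespace Groth.Agent.S0739


instance i1 (X : Scheme.{u}) : (Scheme.ProEt.precoverage X).IsStableUnderComposition := by
  unfold Scheme.ProEt.precoverage; infer_instance
instance i2 (X : Scheme.{u}) : (Scheme.ProEt.precoverage X).HasIsos := by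
  unfold Scheme.ProEt.precoverage; infer_instance
instance i3 (X : Scheme.{u}) : (Scheme.ProEt.precoverage X).IsStableUnderBaseChange := by
  unfold Scheme.ProEt.precoverage; infer_instance

/-- Lifting a geometric point along a weakly étale morphism through a chosen point. -/
theorem exists_lift_of_weaklyEtale {V U : Scheme.{u}} (g : V ⟶ U) [WeaklyEtale g] (v : V)
    {k : Type u} [Field k] [IsSepClosed k] (φ : U.residueField (g v) ⟶ CommRingCat.of k) :
    ∃ ψ : V.residueField v ⟶ CommRingCat.of k, g.residueFieldMap v ≫ ψ = φ := by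
  letI : Algebra (U.presheaf.stalk (g v)) (V.presheaf.stalk v) := (g.stalkMap v).hom.toAlgebra
  haveI : IsLocalHom (algebraMap (U.presheaf.stalk (g v)) (V.presheaf.stalk v)) :=
    inferInstanceAs (IsLocalHom (g.stalkMap v).hom)
  haveI : Algebra.WeaklyEtale (U.presheaf.stalk (g v)) (V.presheaf.stalk v) :=
    Groth.Agent.Lib.Helper36.WE.weaklyEtale_stalkMap g v
  have hsep : Algebra.IsSeparable (IsLocalRing.ResidueField (U.presheaf.stalk (g v)))
      (IsLocalRing.ResidueField (V.presheaf.stalk v)) :=
    Groth.Agent.Lib.Helper36.WE.isSeparable_residueField_of_weaklyEtale _ _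
  letI : Algebra (IsLocalRing.ResidueField (U.presheaf.stalk (g v))) k := φ.hom.toAlgebra
  let ψ₀ : IsLocalRing.ResidueField (V.presheaf.stalk v) →ₐ[IsLocalRing.ResidueField
      (U.presheaf.stalk (g v))] k := IsSepClosed.lift
  refine ⟨CommRingCat.ofHom ψ₀.toRingHom, ?_⟩
  ext x
  exact ψ₀.commutes x


/-- Let U be an object of X_proet, R a covering sieve on U, and xi : Spec k -> U a geometric point (k
separably closed). Then there is a morphism V -> U in R and a geometric point of V with the same
field mapping to xi. -/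
theorem result {X : Scheme.{u}} (U : X.ProEt) (R : Sieve U)
    (hR : R ∈ Scheme.ProEt.topology X U) {k : Type u} [Field k] [IsSepClosed k]
    (ξ : Spec (CommRingCat.of k) ⟶ U.left) :
    ∃ (V : X.ProEt) (g : V ⟶ U) (ξ' : Spec (CommRingCat.of k) ⟶ V.left), R g ∧ ξ' ≫ g.left = ξ := by
  obtain ⟨P₀, hP₀, hle⟩ :=
    (Precoverage.mem_toGrothendieck_iff_of_isStableUnderComposition).mp hR
  have hP₀' : P₀.map (Scheme.ProEt.forget X ⋙ Over.forget X) ∈
      Scheme.proetalePrecoverage U.left := hP₀
  have hjs := hP₀'.2.1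
  have hwe := hP₀'.2.2
  obtain ⟨Y, g', hg', v, hv⟩ := hjs (ξ (IsLocalRing.closedPoint k))
  obtain ⟨hg''⟩ := hg'
  obtain ⟨hg⟩ := hg''
  rename_i V g
  have hgw : WeaklyEtale g.left := hwe (Presieve.map_map hg)
  have hv' : g.left v = ξ (IsLocalRing.closedPoint k) := hv
  let φ₀ : U.left.residueField (ξ (IsLocalRing.closedPoint k)) ⟶ CommRingCat.of k :=
    Scheme.descResidueField (Scheme.stalkClosedPointTo ξ)
  have hξ : Spec.map φ₀ ≫ U.left.fromSpecResidueField (ξ (IsLocalRing.closedPoint k)) = ξ :=
    Scheme.descResidueField_stalkClosedPointTo_fromSpecResidueField k U.left ξ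
  let φ : U.left.residueField (g.left v) ⟶ CommRingCat.of k :=
    (U.left.residueFieldCongr hv').hom ≫ φ₀
  have hφ : Spec.map φ ≫ U.left.fromSpecResidueField (g.left v) = ξ := by
    rw [Spec.map_comp, Category.assoc, Scheme.residueFieldCongr_fromSpecResidueField, hξ]
  obtain ⟨ψ, hψ⟩ := exists_lift_of_weaklyEtale g.left v φ
  refine ⟨V, g, Spec.map ψ ≫ V.left.fromSpecResidueField v, hle _ _ hg, ?_⟩
  rw [Category.assoc, ← Scheme.Hom.SpecMap_residueFieldMap_fromSpecResidueField,
    ← Category.assoc, ← Spec.map_comp, hψ, hφ]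

end Groth.Agent.S0739
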