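import Groth.Statements.S0754
import Groth.Agent.S12237
import Groth.Agent.S0736
import Groth.Agent.Lib.Helper36.WeaklyEtaleSch

set_option autoImplicit false
open CategoryTheory CategoryTheory.Limits AlgebraicGeometry Opposite
universe u
open ProEtS

namespace Groth.Agent.S0754


/-- `Spec O_{X,x} ⟶ X` is flat. -/
theorem flat_fromSpecStalk (X : Scheme.{u}) (x : ↥X) : Flat (X.fromSpecStalk x) := by
  let U : X.Opens := (X.affineCover.f (X.affineCover.idx x)).opensRange
  have hU : IsAffineOpen U := isAffineOpen_opensRange _
  have hxU : x ∈ U := X.affineCover.covers x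
  rw [← hU.fromSpecStalk_eq_fromSpecStalk hxU]
  have h1 : Flat (Spec.map (X.presheaf.germ U x hxU)) := by
    rw [HasRingHomProperty.Spec_iff (P := @Flat)]
    let : Algebra Γ(X, U) (X.presheaf.stalk x) := (X.presheaf.germ U x hxU).hom.toAlgebra
    have := hU.isLocalization_stalk ⟨x, hxU⟩
    show Module.Flat Γ(X, U) (X.presheaf.stalk x)
    exact IsLocalization.flat _ (hU.primeIdealOf ⟨x, hxU⟩).asIdeal.primeCompl
  show Flat (Spec.map (X.presheaf.germ U x hxU) ≫ hU.fromSpec)
  infer_instance

theorem weaklyEtale_fromSpecStalk (X : Scheme.{u}) (x : ↥X) : WeaklyEtale (X.fromSpecStalk x) := by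
  have := flat_fromSpecStalk X x
  exact {}


/-- For a point x of a scheme X and a strict henselization R of the local ring of X at x, the canonical
morphism Spec R -> X is weakly etale, so that Spec R is an object of the small pro-etale site of X. -/
theorem result (X : Scheme.{u}) (x : ↥X) (R : Type u) [CommRing R]
    [IsLocalRing R] [Algebra (X.presheaf.stalk x) R] [IsLocalHom (algebraMap (X.presheaf.stalk x) R)]
    [Hensel.IsStrictHenselization (X.presheaf.stalk x) R] :
    WeaklyEtale (Hens2.specOf X x R) := by
  have h1 : EtPBC.IsIndEtale (X.presheaf.stalk x) R := Groth.Agent.S12237.result _ R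
  have h2 : Algebra.WeaklyEtale (X.presheaf.stalk x) R := Groth.Agent.S0736.result _ R h1
  have h3 : WeaklyEtale (Spec.map (CommRingCat.ofHom (algebraMap (X.presheaf.stalk x) R))) := by
    rw [Groth.Agent.Lib.Helper36.WE.weaklyEtale_SpecMap_iff]
    convert h2
    exact Algebra.algebra_ext _ _ (fun _ => rfl)
  have h4 := weaklyEtale_fromSpecStalk X x
  show WeaklyEtale (Spec.map (CommRingCat.ofHom (algebraMap (X.presheaf.stalk x) R)) ≫
    X.fromSpecStalk x)
  infer_instance

end Groth.Agent.S0754
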