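import Groth.Statements.S0781
import Mathlib

set_option autoImplicit false
open CategoryTheory CategoryTheory.Limits AlgebraicGeometry Opposite
universe u
open Desc

namespace Groth.Agent.S0781

/-- two `S`-morphisms into an unramified `S`-scheme which agree after precomposition with a surjective
morphism are equal. -/
theorem eq_of_surjective_comp_eq {S W U U' : Scheme.{u}} (q : U' ⟶ S) [FormallyUnramified q]
    [LocallyOfFiniteType q] (π : W ⟶ U) [Surjective π] (f g : U ⟶ U') (hfg : f ≫ q = g ≫ q)
    (h : π ≫ f = π ≫ g) : f = g := by
  let fg : U ⟶ pullback q q := pullback.lift f g hfg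
  let E := pullback (pullback.diagonal q) fg
  let ι : E ⟶ U := pullback.snd (pullback.diagonal q) fg
  have hι : IsOpenImmersion ι := inferInstance
  have hcond : pullback.fst (pullback.diagonal q) fg ≫ pullback.diagonal q = ι ≫ fg := pullback.condition
  have h1 : ι ≫ f = pullback.fst (pullback.diagonal q) fg := by
    have := congrArg (fun m => m ≫ pullback.fst q q) hcond
    simp only [Category.assoc, pullback.diagonal_fst, Category.comp_id, fg, pullback.lift_fst] at this
    exact this.symm
  have h2 : ι ≫ g = pullback.fst (pullback.diagonal q) fg := by
    have := congrArg (fun m => m ≫ pullback.snd q q) hcond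
    simp only [Category.assoc, pullback.diagonal_snd, Category.comp_id, fg, pullback.lift_snd] at this
    exact this.symm
  -- π factors through E
  have hπ : (π ≫ f) ≫ pullback.diagonal q = π ≫ fg := by
    apply pullback.hom_ext
    · simp only [Category.assoc, pullback.diagonal_fst, Category.comp_id, fg, pullback.lift_fst]
    · simp only [Category.assoc, pullback.diagonal_snd, Category.comp_id, fg, pullback.lift_snd, h]
  let l : W ⟶ E := pullback.lift (π ≫ f) π hπ
  have hl : l ≫ ι = π := pullback.lift_snd _ _ _
  have hsurj : Surjective ι := by
    constructor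
    intro x
    obtain ⟨w, hw⟩ := (inferInstance : Surjective π).surj x
    refine ⟨l w, ?_⟩
    rw [← Scheme.Hom.comp_apply, hl, hw]
  have hiso : IsIso ι := (isIso_iff_isOpenImmersion_and_surjective ι).2 ⟨hι, hsurj⟩
  exact (cancel_epi ι).1 (h1.trans h2.symm)


/-- If p : X → S is a surjective morphism of schemes, then for schemes U₁, U₂ étale over S, two
S-morphisms U₁ → U₂ whose base changes to X agree, as morphisms of canonical descent data relative
to p, are equal; that is, the canonical-descent-datum functor is faithful on schemes étale over S.
(Descent data are taken in functor-of-points form, equivalent by the Yoneda lemma to an isomorphism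
over X ×_S X satisfying the cocycle condition.) -/
theorem result {X S : Scheme.{u}} (p : X ⟶ S) [Surjective p] (U₁ U₂ : Over S)
    [Etale U₁.hom] [Etale U₂.hom] : Function.Injective ((Desc.toDD p).map : (U₁ ⟶ U₂) → _) := by
  intro g g' hgg
  have h1 : ((Desc.toDD p).map g).hom.left = ((Desc.toDD p).map g').hom.left := by rw [hgg]
  have h2 : pullback.map p U₁.hom p U₂.hom (𝟙 X) g.left (𝟙 S) (by simp) (by simp) =
      pullback.map p U₁.hom p U₂.hom (𝟙 X) g'.left (𝟙 S) (by simp) (by simp) := h1
  have h3 := congrArg (fun m => m ≫ pullback.snd p U₂.hom) h2
  simp only [pullback.map, pullback.lift_snd] at h3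
  have hs : Surjective (pullback.snd p U₁.hom) := inferInstance
  apply Over.OverMorphism.ext
  exact eq_of_surjective_comp_eq U₂.hom (pullback.snd p U₁.hom) g.left g'.left
    ((Over.w g).trans (Over.w g').symm) h3

end Groth.Agent.S0781
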