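import Groth.Statements.S0788
import Groth.Agent.Lib.Helper88.ProperOver2
-- import your own Groth.Agent.* helpers here

set_option autoImplicit false
universe u
open Coherent

namespace Groth.Agent.S0788

open CategoryTheory AlgebraicGeometry in
/-- Let X and Y be schemes locally of finite type over S, with Y separated over S, and f : X → Y a
morphism over S. If Z ⊆ X is closed and proper over S (reduced induced structure), its image f(Z) is
again closed in Y and proper over S. -/
theorem result {X Y S : Scheme.{u}} (p : X ⟶ S) (q : Y ⟶ S)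
    [LocallyOfFiniteType p] [LocallyOfFiniteType q] [IsSeparated q] (f : X ⟶ Y) (w : f ≫ q = p)
    (Z : Set X) (hZ : ClSub.IsProperOver p Z) : ClSub.IsProperOver q (⇑f '' Z) := by
  obtain ⟨hZc, hp⟩ := hZ
  set i₀ := (Scheme.IdealSheafData.vanishingIdeal ⟨Z, hZc⟩).subschemeι with hi₀
  have hrange₀ : Set.range ⇑i₀ = Z := by
    rw [hi₀, Scheme.IdealSheafData.range_subschemeι]
    exact Scheme.IdealSheafData.coe_support_vanishingIdeal _
  have hr : Set.range ⇑(i₀ ≫ f) = ⇑f '' Z := by
    rw [Scheme.Hom.comp_base, TopCat.coe_comp, Set.range_comp, hrange₀]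
  have hcomp : (i₀ ≫ f) ≫ q = i₀ ≫ p := by rw [Category.assoc, w]
  have hprop : IsProper ((i₀ ≫ f) ≫ q) := by rw [hcomp]; exact hp
  have hpf : IsProper (i₀ ≫ f) := IsProper.of_comp (i₀ ≫ f) q
  rw [← hr]
  exact Groth.Agent.Lib.Helper88.isProperOver_range (i₀ ≫ p) q (i₀ ≫ f) hcomp

end Groth.Agent.S0788
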