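import Groth.Statements.S0790
import Groth.Agent.Lib.Helper88.ProperOver
import Mathlib.AlgebraicGeometry.PullbackCarrier
-- import your own Groth.Agent.* helpers here

set_option autoImplicit false
universe u
open Coherent

namespace Groth.Agent.S0790

open CategoryTheory AlgebraicGeometry in
/-- Let X and Y be schemes locally of finite type over S and f : X → Y a proper morphism over S. If Z ⊆
Y is closed and proper over S, its preimage in X is again closed and proper over S. -/
theorem result {X Y S : Scheme.{u}} (p : X ⟶ S) (q : Y ⟶ S)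
    [LocallyOfFiniteType p] [LocallyOfFiniteType q] (f : X ⟶ Y) [IsProper f] (w : f ≫ q = p)
    (Z : Set Y) (hZ : ClSub.IsProperOver q Z) : ClSub.IsProperOver p (⇑f ⁻¹' Z) := by
  obtain ⟨hZc, hp⟩ := hZ
  set i₀ := (Scheme.IdealSheafData.vanishingIdeal ⟨Z, hZc⟩).subschemeι with hi₀
  have hrange₀ : Set.range ⇑i₀ = Z := by
    rw [hi₀, Scheme.IdealSheafData.range_subschemeι]
    exact Scheme.IdealSheafData.coe_support_vanishingIdeal _
  have hr : Set.range ⇑(Limits.pullback.fst f i₀) = ⇑f ⁻¹' Z := by
    rw [Scheme.Pullback.range_fst, hrange₀]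
  have hprop : IsProper (Limits.pullback.fst f i₀ ≫ p) := by
    rw [← w, ← Category.assoc, Limits.pullback.condition, Category.assoc]
    infer_instance
  exact (Groth.Agent.Lib.Helper88.isProperOver_iff_of_isClosedImmersion p
    (Limits.pullback.fst f i₀) _ hr).mpr hprop

end Groth.Agent.S0790
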