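import Groth.Statements.S0791
import Groth.Agent.Lib.Helper88.ProperOver3

set_option autoImplicit false
universe u
open Coherent

namespace Groth.Agent.S0791

open CategoryTheory AlgebraicGeometry in
/-- Let f : X → S be locally of finite type. A finite union of closed subsets of X that are proper over
S is again proper over S. -/
theorem result {X S : Scheme.{u}} (f : X ⟶ S) [LocallyOfFiniteType f]
    (ι : Type) [Finite ι] (Z : ι → Set X) (hZ : ∀ i, ClSub.IsProperOver f (Z i)) :
    ClSub.IsProperOver f (Set.iUnion Z) := by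
  have hclosed : IsClosed (Set.iUnion Z) :=
    isClosed_iUnion_of_finite fun i => (hZ i).1
  refine ⟨hclosed, ?_⟩
  set I := Scheme.IdealSheafData.vanishingIdeal ⟨Set.iUnion Z, hclosed⟩ with hI
  have hle : ∀ i, I ≤ Scheme.IdealSheafData.vanishingIdeal ⟨Z i, (hZ i).1⟩ := fun i =>
    Scheme.IdealSheafData.vanishingIdeal_antimono (Set.subset_iUnion Z i)
  have hfac : ∀ i, Scheme.IdealSheafData.inclusion (hle i) ≫ I.subschemeι =
      (Scheme.IdealSheafData.vanishingIdeal ⟨Z i, (hZ i).1⟩).subschemeι := fun i =>
    Scheme.IdealSheafData.inclusion_subschemeι (hle i)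
  have hci : ∀ i, IsClosedImmersion (Scheme.IdealSheafData.inclusion (hle i)) := by
    intro i
    have : IsClosedImmersion (Scheme.IdealSheafData.inclusion (hle i) ≫ I.subschemeι) := by
      rw [hfac i]; infer_instance
    exact IsClosedImmersion.of_comp (Scheme.IdealSheafData.inclusion (hle i)) I.subschemeι
  refine Groth.Agent.Lib.Helper88.isProper_of_comp_jointly_surjective
    (fun i => (Scheme.IdealSheafData.vanishingIdeal ⟨Z i, (hZ i).1⟩).subscheme)
    (fun i => Scheme.IdealSheafData.inclusion (hle i)) (I.subschemeι ≫ f) ?_ ?_ ?_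
  · intro v
    have hv : I.subschemeι v ∈ Set.iUnion Z := by
      have h1 : I.subschemeι v ∈ Set.range I.subschemeι := ⟨v, rfl⟩
      have hs : (I.support : Set X) = Set.iUnion Z :=
        Scheme.IdealSheafData.coe_support_vanishingIdeal _
      rw [I.range_subschemeι, hs] at h1
      exact h1
    obtain ⟨i, hi⟩ := Set.mem_iUnion.mp hv
    refine ⟨i, ?_⟩
    have h2 : I.subschemeι v ∈
        Set.range (Scheme.IdealSheafData.vanishingIdeal ⟨Z i, (hZ i).1⟩).subschemeι := by
      rw [Scheme.IdealSheafData.range_subschemeι,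
        Scheme.IdealSheafData.coe_support_vanishingIdeal]
      exact hi
    obtain ⟨z, hz⟩ := h2
    refine ⟨z, ?_⟩
    apply I.subschemeι.isClosedEmbedding.injective
    rw [← hz, ← Scheme.Hom.comp_apply, hfac i]
  · intro i
    have := hci i
    infer_instance
  · intro i
    have h3 := (hZ i).2
    rw [← hfac i, Category.assoc] at h3
    exact h3

end Groth.Agent.S0791
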