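import Mathlib
import Groth.Statements.S0794
import Groth.Agent.Lib.Helper49.SupportPullback
import Groth.Agent.Lib.Helper49.ProperSupport

set_option autoImplicit false
universe u
open Coherent

namespace Groth.Agent.S0794

open CategoryTheory AlgebraicGeometry in
/-- Consider a cartesian square with X' = X ×_S S', projections g' : X' → X and f' : X' → S', where f :
X → S is locally of finite type. If F is a quasi-coherent O_X-module of finite type whose support is
proper over S, then the support of the pullback (g')^* F is proper over S'. -/
theorem result {X S X' S' : Scheme.{u}} (f : X ⟶ S) [LocallyOfFiniteType f]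
    (g : S' ⟶ S) (g' : X' ⟶ X) (f' : X' ⟶ S') (sq : IsPullback g' f' f g)
    (F : X.Modules) (hq : Coh.IsQCoh F) (hft : CohB1.IsFT F)
    (hF : ClSub.IsProperOver f (CohB1.support F)) :
    ClSub.IsProperOver f' (CohB1.support ((Scheme.Modules.pullback g').obj F)) := by
  have hq' : F.IsQuasicoherent := hq
  obtain ⟨hcl, hprop⟩ := hF
  have hsupp : CohB1.support ((Scheme.Modules.pullback g').obj F) = g' ⁻¹' CohB1.support F :=
    Groth.Agent.Lib.Helper49.SupportPullback.support_pullback g' F hft
  have hcl' : IsClosed (CohB1.support ((Scheme.Modules.pullback g').obj F)) := by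
    rw [hsupp]
    exact hcl.preimage g'.continuous
  refine ⟨hcl', ?_⟩
  set J := Scheme.IdealSheafData.vanishingIdeal ⟨CohB1.support F, hcl⟩ with hJdef
  set J' := Scheme.IdealSheafData.vanishingIdeal
    ⟨CohB1.support ((Scheme.Modules.pullback g').obj F), hcl'⟩ with hJ'def
  let I' := J.comap g'
  have hI'supp : (I'.support : Set X') = g' ⁻¹' CohB1.support F := by
    rw [Scheme.IdealSheafData.support_comap]
    change g' ⁻¹' (J.support : Set X) = _
    rw [Scheme.IdealSheafData.coe_support_vanishingIdeal]
    rfl
  have hle : I' ≤ J' := by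
    rw [← Scheme.IdealSheafData.le_support_iff_le_vanishingIdeal]
    intro x hx
    change x ∈ (I'.support : Set X')
    rw [hI'supp, ← hsupp]
    exact hx
  -- the pasted pullback square
  have hpaste : IsPullback (Limits.pullback.snd g' J.subschemeι)
      (Limits.pullback.fst g' J.subschemeι ≫ f') (J.subschemeι ≫ f) g :=
    (IsPullback.of_hasPullback g' J.subschemeι).flip.paste_vert sq
  have h1 : IsProper (Limits.pullback.fst g' J.subschemeι ≫ f') :=
    MorphismProperty.of_isPullback (P := @IsProper) hpaste hprop
  have h2 : I'.subschemeι ≫ f' =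
      (J.comapIso g').hom ≫ Limits.pullback.fst g' J.subschemeι ≫ f' := by
    rw [← Category.assoc, Scheme.IdealSheafData.comapIso_hom_fst]
  have h3 : IsProper (I'.subschemeι ≫ f') := by
    rw [h2]
    infer_instance
  have h4 : J'.subschemeι ≫ f' =
      Scheme.IdealSheafData.inclusion hle ≫ I'.subschemeι ≫ f' := by
    rw [← Category.assoc, Scheme.IdealSheafData.inclusion_subschemeι]
  rw [h4]
  infer_instance

end Groth.Agent.S0794
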