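import Mathlib
import Groth.Statements.S0796
import Groth.Agent.Lib.Helper49.ProperSupport2
import Groth.Agent.Lib.Helper49.AnnIdealSheaf
import Groth.Agent.Lib.Helper49.StalkExact
import Groth.Agent.Lib.Helper49.StalkNbhd

set_option autoImplicit false
universe u
open Coherent

namespace Groth.Agent.S0796

open CategoryTheory AlgebraicGeometry in
/-- Part (2), through the usual criterion for Serre subcategories. Let S be locally Noetherian and f : X
→ S locally of finite type. For a short exact sequence 0 → F₁ → F₂ → F₃ → 0 of coherent O_X-modules,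
the support of F₂ is proper over S if and only if the supports of F₁ and F₃ are. -/
theorem result {X S : Scheme.{u}} (f : X ⟶ S) [LocallyOfFiniteType f]
    [IsLocallyNoetherian S] (E : ShortComplex X.Modules) (hE : E.ShortExact)
    (h₁ : Coh.IsCoh E.X₁) (h₂ : Coh.IsCoh E.X₂) (h₃ : Coh.IsCoh E.X₃) :
    ClSub.IsProperOver f (CohB1.support E.X₂) ↔
      ClSub.IsProperOver f (CohB1.support E.X₁) ∧ ClSub.IsProperOver f (CohB1.support E.X₃) := by
  have hcl : ∀ (F : X.Modules), Coh.IsCoh F → IsClosed (CohB1.support F) := by
    intro F hF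
    have hq : F.IsQuasicoherent := hF.1
    have h := Groth.Agent.Lib.Helper49.AnnIdealSheaf.coe_support_annIdealSheaf F hF.2
    have h' : CohB1.support F =
        ((Groth.Agent.Lib.Helper49.AnnIdealSheaf.annIdealSheaf F hF.2).support : Set X) := h.symm
    rw [h']
    exact (Groth.Agent.Lib.Helper49.AnnIdealSheaf.annIdealSheaf F hF.2).support.isClosed
  have hmono : Mono E.f := hE.mono_f
  have hepi : Epi E.g := hE.epi_g
  have hunion : CohB1.support E.X₂ = CohB1.support E.X₁ ∪ CohB1.support E.X₃ := by
    ext x
    have hinj := Groth.Agent.Lib.Helper49.stalkMap_injective_of_mono E.f x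
    have hsurj := Groth.Agent.Lib.Helper49.stalkMap_surjective_of_epi E.g x
    have hex := Groth.Agent.Lib.Helper49.stalkMap_exact_of_shortExact E hE x
    change ¬ Subsingleton (E.X₂.presheaf.stalk x) ↔
      ¬ Subsingleton (E.X₁.presheaf.stalk x) ∨ ¬ Subsingleton (E.X₃.presheaf.stalk x)
    rw [← not_and_or, not_iff_not]
    constructor
    · intro h
      exact ⟨hinj.subsingleton, hsurj.subsingleton⟩
    · rintro ⟨h1, h3⟩
      refine ⟨fun a b => ?_⟩
      have key : ∀ t : E.X₂.presheaf.stalk x, t = 0 := by
        intro t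
        obtain ⟨s, rfl⟩ := (hex t).mp (Subsingleton.elim _ _)
        rw [Subsingleton.elim s 0, map_zero]
      rw [key a, key b]
  constructor
  · intro h
    exact ⟨Groth.Agent.Lib.Helper49.ProperSupport.isProperOver_of_subset f h (hcl _ h₁)
        (hunion ▸ Set.subset_union_left),
      Groth.Agent.Lib.Helper49.ProperSupport.isProperOver_of_subset f h (hcl _ h₃)
        (hunion ▸ Set.subset_union_right)⟩
  · rintro ⟨h1, h3⟩
    rw [hunion]
    exact Groth.Agent.Lib.Helper49.ProperSupport.isProperOver_union f h1 h3

end Groth.Agent.S0796
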