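import Groth.Statements.S0882
-- import your own Groth.Agent.* helpers here
import Groth.Agent.Lib.Helper4.RpushDelta
import Groth.Agent.Lib.Helper4.SheafifyLocalColimit

set_option autoImplicit false
universe u
open CategoryTheory
open CohSite

namespace Groth.Agent.S0882

open Opposite CategoryTheory.Limits in
/-- Let u : D -> C be a continuous functor underlying a morphism of sites f : C -> D, (F_i) a diagram of
abelian sheaves on C indexed by a small category and p >= 0. Let B be the class of objects V of D
such that colim_i H^p(u(V), F_i) -> H^p(u(V), colim F_i) is an isomorphism. If every object of D has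
a covering by members of B, then colim_i R^p f_* F_i -> R^p f_* (colim F_i) is an isomorphism (both
phrased as preservation of the colimit). -/
theorem result {C D : Type u} [SmallCategory C]
    [SmallCategory D] (J : GrothendieckTopology C) (K : GrothendieckTopology D) (u : D ⥤ C)
    [u.IsContinuous K J]
    {ι : Type u} [SmallCategory ι] (F : ι ⥤ Sheaf J AddCommGrpCat.{u})
    (p : ℕ)
    (h : ∀ V : D, ∃ (κ : Type u) (Y : κ → D) (g : ∀ k, Y k ⟶ V), Sieve.ofArrows Y g ∈ K V ∧
      ∀ k, PreservesColimit F ((Sheaf.cohomologyPresheafFunctor J p).flip.obj (op (u.obj (Y k))))) :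
    PreservesColimit F (CohSite.Rpush J K u p) := by
  obtain ⟨Φ⟩ := Groth.Agent.Lib.Helper4.RpushDelta.nonempty_Rpush_iso J K u p
  have hT : PreservesColimit F
      ((Groth.Agent.Lib.Helper4.DeltaFamily.extFamily.{u}
        (Groth.Agent.Lib.Helper4.RpushDelta.Zfun J) p ⋙
          (Functor.whiskeringLeft Dᵒᵖ Cᵒᵖ AddCommGrpCat.{u}).obj u.op) ⋙
        presheafToSheaf K AddCommGrpCat.{u}) :=
    Groth.Agent.Lib.Helper4.SheafifyLocalColimit.preservesColimit_comp_sheafify_of_locally K F _
      (fun V => by
        obtain ⟨κ, Y, g, hg, hY⟩ := h V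
        refine ⟨κ, Y, g, hg, fun k => ?_⟩
        have hk := hY k
        rw [← Groth.Agent.Lib.Helper4.RpushDelta.extFamily_eq J p] at hk
        exact preservesColimit_of_natIso F
          (Groth.Agent.Lib.Helper4.RpushDelta.flipObjIso _ u (Y k)).symm)
  have h2 : PreservesColimit F
      (Groth.Agent.Lib.Helper4.DeltaFamily.extFamily.{u}
        (Groth.Agent.Lib.Helper4.RpushDelta.Zfun J) p ⋙ Groth.Agent.S0487.E K u) :=
    preservesColimit_of_natIso F (Functor.associator _ _ _)
  exact preservesColimit_of_natIso F Φ.symm

end Groth.Agent.S0882
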