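import Groth.Statements.S0800
-- import your own Groth.Agent.* helpers here
import Groth.Agent.S0855
import Mathlib.AlgebraicGeometry.Properties
import Groth.Agent.Lib.Helper4.ColimCohQS

set_option autoImplicit false
universe u
open Coherent

namespace Groth.Agent.S0800

open CategoryTheory CategoryTheory.Limits AlgebraicGeometry in
/-- Let f : X → S be quasi-compact and quasi-separated. Then for every p the higher direct image functor
R^p f_* on abelian sheaves (on the underlying spaces) preserves filtered colimits. -/
theorem result {X S : Scheme.{u}} (f : X ⟶ S) [QuasiCompact f]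
    [QuasiSeparated f] (p : ℕ) (J : Type u) [SmallCategory J] [IsFiltered J] :
    PreservesColimitsOfShape J (Coh.RpushAb f p) := by
  constructor
  intro F
  refine Groth.Agent.S0855.result f.base F p ?_
  rw [TopologicalSpace.Opens.isBasis_iff_nbhd]
  intro U x hx
  obtain ⟨V, hV, hxV, hVU⟩ := (TopologicalSpace.Opens.isBasis_iff_nbhd.mp S.isBasis_affineOpens) hx
  refine ⟨V, ?_, hxV, hVU⟩
  have hV' : IsAffineOpen V := hV
  haveI : PrespectralSpace X.toTopCat := inferInstanceAs (PrespectralSpace X)
  exact Groth.Agent.Lib.Helper4.ColimCohQS.preservesColimit_cohomology_of_isQuasiSeparated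
    (X := X.toTopCat) (f ⁻¹ᵁ V) (f.isQuasiSeparated_preimage hV'.isQuasiSeparated) (f ⁻¹ᵁ V)
    (f.isCompact_preimage hV'.isCompact) le_rfl p J F

end Groth.Agent.S0800
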