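import Groth.Statements.S0818
import Groth.Agent.Lib.Helper45.Dev.DevNoeth
import Groth.Agent.Lib.Helper67.DevGlobal

set_option autoImplicit false
set_option linter.style.haveILetI false
universe u
open Coherent

namespace Groth.Agent.S0818

open CategoryTheory AlgebraicGeometry in
/-- Let X be a nonempty Noetherian scheme and P an isomorphism-invariant property of O_X-modules such
that (1) in every short exact sequence of coherent O_X-modules, if two of the three terms satisfy P
then so does the third, and (2) for every integral scheme Z and closed immersion i : Z → X, with ξ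
the generic point of Z, there is a coherent O_X-module G satisfying P whose support is exactly i(Z)
and whose stalk at i(ξ) is isomorphic, as a module over the local ring O_{X,i(ξ)}, to the residue
field of that local ring. Then every coherent O_X-module satisfies P. (The published statement
leaves the nonemptiness of X implicit; it is needed to handle the zero module and is assumed
explicitly here.) -/
theorem result (X : Scheme.{u}) [IsNoetherian X] [Nonempty X]
    (P : X.Modules → Prop) (hP : ∀ M N : X.Modules, Nonempty (M ≅ N) → P M → P N)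
    (h₁ : ∀ S : ShortComplex X.Modules, S.ShortExact → Coh.IsCoh S.X₁ → Coh.IsCoh S.X₂ → Coh.IsCoh S.X₃ →
      (P S.X₁ → P S.X₂ → P S.X₃) ∧ (P S.X₁ → P S.X₃ → P S.X₂) ∧ (P S.X₂ → P S.X₃ → P S.X₁))
    (h₂ : ∀ (Z : Scheme.{u}) (i : Z ⟶ X) [IsClosedImmersion i] [IsIntegral Z],
      ∃ G : X.Modules, Coh.IsCoh G ∧ CohB1.support G = Set.range ⇑i ∧
        Nonempty (↑(G.presheaf.stalk (i (genericPoint Z))) ≃ₗ[X.presheaf.stalk (i (genericPoint Z))]
          IsLocalRing.ResidueField (X.presheaf.stalk (i (genericPoint Z)))) ∧ P G)
    (M : X.Modules) (hM : Coh.IsCoh M) : P M := by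
  classical
  open Groth.Agent.Lib.Helper45.DevCore Groth.Agent.Lib.Helper45.NowhereDense
    Groth.Agent.Lib.Helper45.CoprimarySheaf Groth.Agent.Lib.Helper45.GraphTrick
    Groth.Agent.Lib.Helper67.Devissage CategoryTheory.Limits in
  -- the module attached to the closure of a point
  have hgen : ∀ x : X, ∃ G : X.Modules, Coh.IsCoh G ∧ CohB1.support G ⊆ closure {x} ∧ P G ∧
      IsSimpleModule (X.presheaf.stalk x) ↑(G.presheaf.stalk x) := by
    intro x
    obtain ⟨G, hG, hGsupp, ⟨e⟩, hPG⟩ := h₂ (IZ x).subscheme (IZ x).subschemeι
    refine ⟨G, hG, ?_, hPG, ?_⟩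
    · rw [hGsupp, range_subschemeι_IZ]
    · have hsimple : IsSimpleModule (X.presheaf.stalk ((IZ x).subschemeι (genericPoint _)))
          ↑(G.presheaf.stalk ((IZ x).subschemeι (genericPoint (IZ x).subscheme))) :=
        isSimpleModule_iff_quot_maximal.mpr
          ⟨IsLocalRing.maximalIdeal _, inferInstance, ⟨e⟩⟩
      have hpt : (IZ x).subschemeι (genericPoint (IZ x).subscheme) = x := by
        have h1 : IsGenericPoint ((IZ x).subschemeι (genericPoint (IZ x).subscheme))
            (closure {x}) := by
          have h2 := (IZ x).subschemeι.isClosedEmbedding.closure_image_eq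
            ({genericPoint (IZ x).subscheme} : Set (IZ x).subscheme)
          rw [Set.image_singleton, (genericPoint_spec (IZ x).subscheme).def, Set.image_univ,
            range_subschemeι_IZ] at h2
          exact h2
        have h3 : IsGenericPoint x (closure {x}) := rfl
        exact h1.eq h3
      have aux : ∀ y : X, y = x → IsSimpleModule (X.presheaf.stalk y) ↑(G.presheaf.stalk y) →
          IsSimpleModule (X.presheaf.stalk x) ↑(G.presheaf.stalk x) := by
        intro y hy hs
        subst hy
        exact hs
      exact aux _ hpt hsimple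
  -- `P` holds for zero modules
  have hzero : ∀ N : X.Modules, IsZero N → P N := by
    intro N hN
    obtain ⟨x₀⟩ := ‹Nonempty X›
    obtain ⟨G, hG, -, hPG, -⟩ := hgen x₀
    have hz : IsZero (cokernel (𝟙 G)) := isZero_cokernel_of_epi (𝟙 G)
    have hc : Coh.IsCoh (cokernel (𝟙 G)) := isCoh_cokernel _ hG.1 hG
    have := (h₁ _ (shortExact_cokernel (𝟙 G)) hG hG hc).1 hPG hPG
    exact hP _ _ ⟨hz.iso hN⟩ this
  refine Groth.Agent.Lib.Helper45.DevNoeth.devissage P hP hzero Set.univ isClosed_univ ?_ ?_ M hM
    (Set.subset_univ _)
  · intro S hS h1 h2 h3 _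
    exact h₁ S hS h1 h2 h3
  · intro x _
    exact hgen x

end Groth.Agent.S0818
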