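import Groth.Statements.S0819
import Groth.Agent.Lib.Helper45.Dev.DevNoeth
import Groth.Agent.Lib.Helper45.Dev.IdealSupport
import Groth.Agent.Lib.Helper67.DevMain

set_option autoImplicit false
set_option linter.style.haveILetI false
universe u
open Coherent

namespace Groth.Agent.S0819

open CategoryTheory AlgebraicGeometry in
/-- Let X be a Noetherian scheme, Z₀ ⊆ X an irreducible closed subset with generic point ξ, and P an
isomorphism-invariant property of O_X-modules such that: (1) in every short exact sequence of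
coherent modules supported in Z₀, P for two of the terms implies P for the third; (2) P holds for
i_* I whenever i : Z → X is an integral closed subscheme with i(Z) a proper subset of Z₀ and I ⊆ O_Z
is a quasi-coherent ideal sheaf; (3) there is a coherent G with support exactly Z₀, stalk at ξ
isomorphic to the residue field over the local ring, and P(G). Then P holds for every coherent
module whose support is contained in Z₀. -/
theorem result (X : Scheme.{u}) [IsNoetherian X]
    (Z₀ : Set X) (hZ₀ : IsClosed Z₀) (hirr : IsIrreducible Z₀) (ξ : X) (hξ : ξ ∈ Z₀ ∧ closure {ξ} = Z₀)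
    (P : X.Modules → Prop) (hP : ∀ M N : X.Modules, Nonempty (M ≅ N) → P M → P N)
    (h₁ : ∀ S : ShortComplex X.Modules, S.ShortExact → Coh.IsCoh S.X₁ → Coh.IsCoh S.X₂ → Coh.IsCoh S.X₃ →
      CohB1.support S.X₂ ⊆ Z₀ →
      (P S.X₁ → P S.X₂ → P S.X₃) ∧ (P S.X₁ → P S.X₃ → P S.X₂) ∧ (P S.X₂ → P S.X₃ → P S.X₁))
    (h₂ : ∀ (Z : Scheme.{u}) (i : Z ⟶ X), IsClosedImmersion i → IsIntegral Z →
      Set.range ⇑i ⊆ Z₀ → Set.range ⇑i ≠ Z₀ →
      ∀ (I : Z.Modules) (ι : I ⟶ Coh.structureModule Z), Mono ι → Coh.IsQCoh I →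
        P ((Coh.push i).obj I))
    (h₃ : ∃ G : X.Modules, Coh.IsCoh G ∧ CohB1.support G = Z₀ ∧
      Nonempty (↑(G.presheaf.stalk ξ) ≃ₗ[X.presheaf.stalk ξ] IsLocalRing.ResidueField (X.presheaf.stalk ξ)) ∧ P G)
    (M : X.Modules) (hM : Coh.IsCoh M) (hsupp : CohB1.support M ⊆ Z₀) : P M := by
  classical
  open Groth.Agent.Lib.Helper45.DevCore Groth.Agent.Lib.Helper45.NowhereDense
    Groth.Agent.Lib.Helper45.CoprimarySheaf Groth.Agent.Lib.Helper45.GraphTrick CategoryTheory.Limits in
  obtain ⟨G, hG, hGsupp, ⟨e⟩, hPG⟩ := h₃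
  obtain ⟨hξZ, hcl⟩ := hξ
  subst hcl
  -- `P` holds for zero modules
  have hzero : ∀ N : X.Modules, IsZero N → P N := by
    intro N hN
    have hz : IsZero (cokernel (𝟙 G)) := isZero_cokernel_of_epi (𝟙 G)
    have hc : Coh.IsCoh (cokernel (𝟙 G)) := isCoh_cokernel _ hG.1 hG
    have := (h₁ _ (shortExact_cokernel (𝟙 G)) hG hG hc hGsupp.le).1 hPG hPG
    exact hP _ _ ⟨hz.iso hN⟩ this
  -- the stalk of `G` at `ξ` is simple
  have hsimple : IsSimpleModule (X.presheaf.stalk ξ) ↑(G.presheaf.stalk ξ) :=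
    isSimpleModule_iff_quot_maximal.mpr
      ⟨IsLocalRing.maximalIdeal (X.presheaf.stalk ξ), inferInstance, ⟨e⟩⟩
  refine devissage_core P hP ξ h₁ ?_ G hG hGsupp.le hPG hsimple M hM hsupp
  -- modules with zero stalk at `ξ`
  intro M' hM' hM'supp hsub
  obtain ⟨m, F, φ, h0, ⟨ε⟩, hcoh, hstep⟩ := Groth.Agent.Lib.Helper67.Devissage.hasFilt M' hM'
  have hsuppF : ∀ k j : ℕ, j + k = m → CohB1.support (F j) ⊆ CohB1.support M' := by
    intro k
    induction k with
    | zero =>
      intro j hj
      rw [Nat.add_zero] at hj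
      subst hj
      exact support_subset_of_mono ε.hom
    | succ k ih =>
      intro j hj
      have hjm : j < m := by omega
      haveI := (hstep j hjm).1
      exact (support_subset_of_mono (φ j)).trans (ih (j + 1) (by omega))
  have hξM' : ξ ∉ CohB1.support M' := fun h => h hsub
  have key : ∀ j, j ≤ m → P (F j) := by
    intro j
    induction j with
    | zero => exact fun _ => hzero _ h0
    | succ j ih =>
      intro hj
      have hjm : j < m := hj
      obtain ⟨hmono, Z, i, hi, hZ, I, ι, hι, hqI, hI, ⟨κ⟩⟩ := hstep j hjm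
      haveI := hmono
      have hc1 := hcoh j hjm.le
      have hc2 := hcoh (j + 1) hj
      have hc3 : Coh.IsCoh (cokernel (φ j)) := isCoh_cokernel _ hc1.1 hc2
      have hs2 : CohB1.support (F (j + 1)) ⊆ CohB1.support M' :=
        hsuppF (m - (j + 1)) (j + 1) (by omega)
      haveI : I.IsQuasicoherent := hqI
      have hrange : Set.range ⇑i ⊆ CohB1.support M' := by
        refine (Groth.Agent.Lib.Helper45.IdealSupport.range_subset_support_push i I ι hI).trans ?_
        refine (support_subset_of_mono κ.inv).trans ?_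
        exact (support_subset_of_epi (cokernel.π (φ j))).trans hs2
      have hPpush : P ((Coh.push i).obj I) := by
        refine h₂ Z i hi hZ (hrange.trans hM'supp) ?_ I ι hι hqI
        intro heq
        exact hξM' (hrange (heq ▸ hξZ))
      exact (h₁ _ (shortExact_cokernel (φ j)) hc1 hc2 hc3 (hs2.trans hM'supp)).2.1 (ih hjm.le)
        (hP _ _ ⟨κ.symm⟩ hPpush)
  exact hP _ _ ⟨ε⟩ (key m le_rfl)

end Groth.Agent.S0819
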