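import Mathlib
import Groth.Statements.S0820
import Groth.Agent.Lib.Helper49.PushStructure
import Groth.Agent.Lib.Helper49.PushforwardFinite
import Groth.Agent.Lib.Helper49.StalkNbhd2
import Groth.Agent.Lib.Helper45.RegularSections

set_option autoImplicit false
universe u
open Coherent

namespace Groth.Agent.S0820

open CategoryTheory AlgebraicGeometry in
/-- Let f : Y → X be finite and surjective with X locally Noetherian, and let i : Z → X be a closed
immersion from an integral scheme, ξ the image of the generic point of Z. Then some coherent
O_Y-module F has f_* F supported exactly on i(Z), with the stalk of f_* F at ξ killed by every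
element of 𝔪_{X,ξ}, the maximal ideal of O_{X,ξ}. -/
theorem result {Y X : Scheme.{u}} (f : Y ⟶ X) [IsFinite f]
    [Surjective f] [IsLocallyNoetherian X] (Z : Scheme.{u}) (i : Z ⟶ X) [IsClosedImmersion i] [IsIntegral Z] :
    ∃ F : Y.Modules, Coh.IsCoh F ∧ CohB1.support ((Coh.push f).obj F) = Set.range ⇑i ∧
      ∀ a ∈ IsLocalRing.maximalIdeal (X.presheaf.stalk (i (genericPoint Z))),
        ∀ m : ↑(((Coh.push f).obj F).presheaf.stalk (i (genericPoint Z))), a • m = 0 := by
  let W : Scheme.{u} := Limits.pullback f i
  let j : W ⟶ Y := Limits.pullback.fst f i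
  let f' : W ⟶ Z := Limits.pullback.snd f i
  have hsq : j ≫ f = f' ≫ i := Limits.pullback.condition
  have hj : IsClosedImmersion j := inferInstance
  have hf' : Surjective f' := inferInstance
  have hqO : (Coh.structureModule W).IsQuasicoherent :=
    Groth.Agent.Lib.Helper45.isQuasicoherent_structureModule W
  have hqF : ((Scheme.Modules.pushforward j).obj (Coh.structureModule W)).IsQuasicoherent :=
    Groth.Agent.Lib.Helper49.isQuasicoherent_pushforward _ j
  have hftF : SheafOfModules.IsFiniteType (R := Y.ringCatSheaf)
      ((Scheme.Modules.pushforward j).obj (Coh.structureModule W)) :=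
    Groth.Agent.Lib.Helper49.isFiniteType_pushforward_of_isFinite j _
      (Groth.Agent.Lib.Helper49.isFiniteType_unit W)
  have hrange : Set.range (j ≫ f) = Set.range i := by
    rw [hsq, Scheme.Hom.comp_base, TopCat.coe_comp, Set.range_comp, f'.surjective.range_eq,
      Set.image_univ]
  refine ⟨(Scheme.Modules.pushforward j).obj (Coh.structureModule W), ⟨hqF, hftF⟩, ?_, ?_⟩
  · ext x
    constructor
    · intro hx
      by_contra hxi
      apply hx
      refine Groth.Agent.Lib.Helper49.PushStructure.subsingleton_stalk_push_push j f _ x ?_
      rw [hrange, i.isClosedEmbedding.isClosed_range.closure_eq]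
      exact hxi
    · intro hx
      rw [← hrange] at hx
      obtain ⟨w, rfl⟩ := hx
      exact Groth.Agent.Lib.Helper49.PushStructure.not_subsingleton_stalk_push_push_unit j f w
  · intro a ha m
    exact Groth.Agent.Lib.Helper49.PushStructure.smul_stalk_push_push_eq_zero j f i f' hsq _ a ha m

end Groth.Agent.S0820
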