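import Groth.Statements.S0825
import Groth.Agent.Lib.Helper60.DTExact
import Groth.Agent.Lib.Helper60.ExtFG
open Groth.Agent.Lib.Helper60

set_option autoImplicit false
universe u
open scoped BigOperators
open LocCoh

namespace Groth.Agent.S0825

/-- Let A be a Noetherian ring and I the ideal generated by f_1, …, f_r, with cohomological dimension
exactly 1. Then there are c ≥ 1 and A-linear maps φ_j : I^c → A such that x = Σ_j f_j φ_j(x) for
every x ∈ I^c. -/
theorem result (A : Type u) [CommRing A] [IsNoetherianRing A] (r : ℕ) (f : Fin r → A)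
    (h₁ : LocCoh.CdLE A (Ideal.span (Set.range f)) 1) (h₀ : ¬ LocCoh.CdLE A (Ideal.span (Set.range f)) 0) :
    ∃ (c : ℕ) (φ : Fin r → (↥(Ideal.span (Set.range f) ^ (c + 1)) →ₗ[A] A)),
      ∀ x : ↥(Ideal.span (Set.range f) ^ (c + 1)), (x : A) = ∑ j, f j * φ j x := by
  classical
  set I : Ideal A := Ideal.span (Set.range f) with hI
  -- the surjection `A^r → I`
  have hmem : ∀ v : Fin r → A, Fintype.linearCombination A f v ∈ I := by
    intro v
    rw [Fintype.linearCombination_apply]
    exact Submodule.sum_mem _ (fun j _ => Submodule.smul_mem _ _ (Ideal.subset_span ⟨j, rfl⟩))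
  let g : (Fin r → A) →ₗ[A] I := (Fintype.linearCombination A f).codRestrict I hmem
  have hg : Function.Surjective g := by
    rintro ⟨x, hx⟩
    obtain ⟨v, hv⟩ := (Ideal.mem_span_range_iff_exists_fun (R := A)).mp hx
    refine ⟨v, Subtype.ext ?_⟩
    show Fintype.linearCombination A f v = x
    rw [Fintype.linearCombination_apply, ← hv]
    rfl
  have hS := sesOfSurjective_shortExact g hg
  have hsub : Subsingleton ((localCohomology I 2).obj (sesOfSurjective g).X₁) :=
    h₁ (LinearMap.ker g) 2 (by omega)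
  have hsurj : Function.Surjective ((idealTransform I).map (ModuleCat.ofHom g)).hom :=
    dtMap_surjective_of_subsingleton I hS
  let ι₁ : ↥(I ^ 1) →ₗ[A] I := Submodule.inclusion (pow_one I).le
  obtain ⟨y, hy⟩ := hsurj (dtMk I (ModuleCat.of A I) 1 ι₁)
  obtain ⟨c, ψ, rfl⟩ := dtMk_surj I (ModuleCat.of A (Fin r → A)) y
  rw [dtMap_dtMk, dtMk_eq_iff] at hy
  obtain ⟨k, hck, h1k, hk⟩ := hy
  obtain ⟨c', rfl⟩ : ∃ c', k = c' + 1 := ⟨k - 1, by omega⟩
  refine ⟨c', fun j => (LinearMap.proj j : (Fin r → A) →ₗ[A] A) ∘ₗ (dtRes I hck ψ), ?_⟩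
  intro x
  have h1 := congrArg (fun φ => ((φ x : I) : A)) hk
  simp only [dtRes_apply, LinearMap.coe_comp, Function.comp_apply] at h1
  have h2 : ((ι₁ ⟨x.1, Ideal.pow_le_pow_right h1k x.2⟩ : I) : A) = x.1 := rfl
  rw [h2] at h1
  rw [← h1]
  show (Fintype.linearCombination A f (ψ ⟨x.1, _⟩) : A) = _
  rw [Fintype.linearCombination_apply]
  apply Finset.sum_congr rfl
  intro j _
  rw [smul_eq_mul, mul_comm]
  rfl

end Groth.Agent.S0825
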