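import Groth.Statements.S0826
import Groth.Agent.Lib.Helper83.ExtLimitCone
import Groth.Agent.Lib.Helper83.SmallDerived
import Groth.Agent.Lib.Helper83.TopPush
import Groth.Agent.Lib.Helper1.AffineVanishing
import Groth.Agent.Lib.Helper42.QCohAffineSections
-- import your own Groth.Agent.* helpers here

set_option autoImplicit false
universe u
open Formal2

namespace Groth.Agent.S0826

open CategoryTheory CategoryTheory.Limits AlgebraicGeometry in
/-- Part (2), for the ideal sheaf generated by an ideal I of a base ring A. Let X be a scheme over Spec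
A and (G_n) an inverse system of quasi-coherent O_X-modules with G_n killed by I^(n+1) and G_n =
G_{n+1}/I^(n+1)G_{n+1} (indices shifted by one). Then the limit O_X-module lim G_n has vanishing
cohomology in positive degrees over every affine open of X. -/
theorem result (A : Type u) [CommRing A] (I : Ideal A) (X : Scheme.{u})
    [X.Over (Spec (CommRingCat.of A))] (G : ℕᵒᵖ ⥤ X.Modules) (hG : Formal2.IsQCohFormal I G)
    (U : X.Opens) (hU : IsAffineOpen U) (p : ℕ) (hp : 0 < p) :
    Subsingleton (Coh.HHon X (limit G) U p) := by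
  letI := Groth.Agent.Lib.Helper83.SmallDerived.hasDerivedCategory
    (Sheaf (Opens.grothendieckTopology X) AddCommGrpCat.{u})
  obtain ⟨hq, -, hcok⟩ := hG
  have hpres0 : PreservesLimitsOfShape ℕᵒᵖ
      (SheafOfModules.toSheaf.{u} X.ringCatSheaf ⋙ sheafToPresheaf _ _) :=
    comp_preservesLimitsOfShape (SheafOfModules.forget.{u} X.ringCatSheaf)
      (PresheafOfModules.toPresheaf X.ringCatSheaf.obj)
  have hpres : PreservesLimitsOfShape ℕᵒᵖ (SheafOfModules.toSheaf.{u} X.ringCatSheaf) :=
    preservesLimitsOfShape_of_reflects_of_preserves _ (sheafToPresheaf _ _)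
  let c := (SheafOfModules.toSheaf.{u} X.ringCatSheaf).mapCone (limit.cone G)
  have hc : IsLimit c := isLimitOfPreserves _ (limit.isLimit G)
  obtain ⟨q, rfl⟩ : ∃ q, p = q + 1 := ⟨p - 1, by omega⟩
  have hepi : ∀ n : ℕ, Epi (G.map (homOfLE (Nat.le_succ n)).op) := by
    intro n
    obtain ⟨h, hiso⟩ := hcok n
    rw [← cokernel.π_desc _ _ h]
    exact @epi_comp _ _ _ _ _ (cokernel.π _) coequalizer.π_epi (cokernel.desc _ _ h)
      (IsIso.epi_of_iso _)
  have hsub := Groth.Agent.Lib.Helper83.ExtLimit.subsingleton_HU_cone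
    (G ⋙ SheafOfModules.toSheaf.{u} X.ringCatSheaf) c hc X.affineOpens
    (Groth.Agent.Lib.Helper83.TopPush.cover_of_isBasis (Y := X.toTopCat) X.isBasis_affineOpens)
    (fun V hV p n => by
      haveI : (G.obj (Opposite.op n)).IsQuasicoherent := hq n
      exact Groth.Agent.Lib.Helper1.subsingleton_HU_of_isAffineOpen (G.obj (Opposite.op n)) V hV p)
    (fun V hV n => by
      haveI : (G.obj (Opposite.op n)).IsQuasicoherent := hq n
      haveI : (G.obj (Opposite.op (n + 1))).IsQuasicoherent := hq (n + 1)
      haveI := hepi n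
      exact Groth.Agent.Lib.Helper42.app_surjective_of_epi
        (G.map (homOfLE (Nat.le_succ n)).op) hV)
    U hU q
  obtain ⟨e⟩ := Groth.Agent.S0463.result (X := X.toTopCat) (Coh.toAb (limit G)) U (q + 1)
  exact @Equiv.subsingleton _ _ e.symm.toEquiv hsub
end Groth.Agent.S0826
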