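import Groth.Statements.S0827
import Groth.Agent.Lib.Helper83.QCohTower
-- import your own Groth.Agent.* helpers here

set_option autoImplicit false
universe u
open Formal2

namespace Groth.Agent.S0827

open CategoryTheory CategoryTheory.Limits AlgebraicGeometry Opposite in
/-- Part (3), for the ideal sheaf generated by an ideal I of a base ring A. Let X be a scheme over Spec
A and (G_n) an inverse system of quasi-coherent O_X-modules with G_n killed by I^(n+1) and G_n =
G_{n+1}/I^(n+1)G_{n+1}. Then for every p there is a short exact sequence 0 → R^1 lim_n H^p(X, G_n) →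
H^(p+1)(X, lim G_n) → lim_n H^(p+1)(X, G_n) → 0 of abelian groups, the second map being induced by
the projections lim G_n → G_n (the degree-0 statement is not restated). -/
theorem result (A : Type u) [CommRing A] (I : Ideal A) (X : Scheme.{u})
    [X.Over (Spec (CommRingCat.of A))] (G : ℕᵒᵖ ⥤ X.Modules) (hG : Formal2.IsQCohFormal I G) (p : ℕ) :
    ∃ (α : Formal2.limOne (fun n => Coh.HH X (G.obj (op n)) p) (Formal2.HHsysMap G p) →+
        Coh.HH X (limit G) (p + 1))
      (β : Coh.HH X (limit G) (p + 1) →+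
        Formal2.limZero (fun n => Coh.HH X (G.obj (op n)) (p + 1)) (Formal2.HHsysMap G (p + 1))),
      Function.Injective α ∧ Function.Surjective β ∧ α.range = β.ker ∧
      ∀ (x : Coh.HH X (limit G) (p + 1)) (n : ℕ),
        (β x : ∀ n, Coh.HH X (G.obj (op n)) (p + 1)) n =
          Sheaf.H.map ((SheafOfModules.toSheaf _).map (limit.π G (op n))) (p + 1) x := by
  obtain ⟨hq, -, hcok⟩ := hG
  have hepi : ∀ n : ℕ, Epi (G.map (homOfLE (Nat.le_succ n)).op) := by
    intro n
    obtain ⟨h, hiso⟩ := hcok n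
    rw [← cokernel.π_desc _ _ h]
    exact @epi_comp _ _ _ _ _ (cokernel.π _) coequalizer.π_epi (cokernel.desc _ _ h)
      (IsIso.epi_of_iso _)
  obtain ⟨hlift, ⟨e⟩⟩ := Groth.Agent.Lib.Helper83.QCohTower.ext_limit_qcoh G hq hepi
    ((constantSheaf (Opens.grothendieckTopology X) AddCommGrpCat.{u}).obj
      (AddCommGrpCat.of (ULift ℤ))) (p + 1) p rfl
  let P : Coh.HH X (limit G) (p + 1) →+ ∀ n : ℕ, Coh.HH X (G.obj (op n)) (p + 1) :=
    AddMonoidHom.pi (fun n : ℕ =>
      Sheaf.H.map ((SheafOfModules.toSheaf _).map (limit.π G (op n))) (p + 1))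
  let e' : P.ker ≃+ Formal2.limOne (fun n => Coh.HH X (G.obj (op n)) p) (Formal2.HHsysMap G p) := e
  have h2 : ∀ (x : Coh.HH X (limit G) (p + 1)) (n : ℕ),
      Sheaf.H.map ((SheafOfModules.toSheaf _).map (G.map (homOfLE (Nat.le_succ n)).op)) (p + 1)
        (Sheaf.H.map ((SheafOfModules.toSheaf _).map (limit.π G (op (n + 1)))) (p + 1) x) =
      Sheaf.H.map ((SheafOfModules.toSheaf _).map (limit.π G (op n))) (p + 1) x := by
    intro x n
    have hw : (SheafOfModules.toSheaf X.ringCatSheaf).map (limit.π G (op (n + 1))) ≫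
        (SheafOfModules.toSheaf X.ringCatSheaf).map (G.map (homOfLE (Nat.le_succ n)).op) =
        (SheafOfModules.toSheaf X.ringCatSheaf).map (limit.π G (op n)) := by
      rw [← Functor.map_comp]
      congr 1
      exact limit.w G _
    rw [← Sheaf.H.map_comp_apply, hw]
  have hmem : ∀ x, P x ∈ Formal2.limZero (fun n => Coh.HH X (G.obj (op n)) (p + 1))
      (Formal2.HHsysMap G (p + 1)) := by
    intro x
    rw [AddMonoidHom.mem_ker]
    funext n
    exact sub_eq_zero.2 (h2 x n).symm
  refine ⟨P.ker.subtype.comp e'.symm.toAddMonoidHom, P.codRestrict _ hmem, ?_, ?_, ?_, ?_⟩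
  · exact (Subtype.val_injective).comp e'.symm.injective
  · intro y
    have hy : ∀ n, Formal2.HHsysMap G (p + 1) n ((y : ∀ n, Coh.HH X (G.obj (op n)) (p + 1)) (n + 1)) =
        (y : ∀ n, Coh.HH X (G.obj (op n)) (p + 1)) n := by
      intro n
      have h1 := congrFun (AddMonoidHom.mem_ker.1 y.2) n
      exact (sub_eq_zero.1 h1).symm
    obtain ⟨η, hη⟩ := hlift (fun n => (y : ∀ n, Coh.HH X (G.obj (op n)) (p + 1)) n) hy
    refine ⟨η, Subtype.ext (funext fun n => ?_)⟩
    exact hη n
  · ext x
    constructor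
    · rintro ⟨z, rfl⟩
      rw [AddMonoidHom.mem_ker]
      apply Subtype.ext
      exact AddMonoidHom.mem_ker.1 (e'.symm z).2
    · intro hx
      rw [AddMonoidHom.mem_ker] at hx
      have hx' : x ∈ P.ker := by
        rw [AddMonoidHom.mem_ker]
        exact congrArg Subtype.val hx
      exact ⟨e' ⟨x, hx'⟩, by
        change ((e'.symm (e' ⟨x, hx'⟩) : P.ker) : Coh.HH X (limit G) (p + 1)) = x
        rw [AddEquiv.symm_apply_apply]⟩
  · intro x n
    rfl
end Groth.Agent.S0827
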