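import Groth.Statements.S0828
import Groth.Agent.Lib.Helper80.FreeLocus
import Groth.Agent.Lib.Helper80.SuppDimStalk
import Groth.Agent.Lib.Helper73.MCM
import Groth.Agent.Lib.Helper73.RegularNormal
import Groth.Agent.Lib.Helper93.DepthHom
import Groth.Agent.Lib.Helper12.QuasiFlat
import Groth.Agent.Lib.Helper49.FinitePresentation

set_option autoImplicit false
universe u
open Coherent

namespace Groth.Agent.S0828
open CategoryTheory CategoryTheory.Limits AlgebraicGeometry TopologicalSpace
open Groth.Agent.Lib.Helper49 Groth.Agent.Lib.Helper45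

attribute [local instance] Groth.Agent.Lib.Helper45.stalkModuleSections in
/-- If `F|_W ≅ O_W^n` with `n > 0`, the stalks of `F` at points of `W` are nontrivial; if `n = 0`
they are trivial. -/
theorem stalk_of_iso_restrict_freeMod {X : Scheme.{u}} (F : X.Modules) [F.IsQuasicoherent]
    (W : X.Opens) (n : ℕ) (e : F.restrict W.ι ≅ FlatMod.freeMod (↑W) n) (x : X) (hx : x ∈ W) :
    (0 < n → Nontrivial ↑(F.presheaf.stalk x)) ∧ (n = 0 → Subsingleton ↑(F.presheaf.stalk x)) := by
  obtain ⟨_, ⟨V, hV : IsAffineOpen V, rfl⟩, hxV, hVW⟩ :=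
    X.isBasis_affineOpens.exists_subset_of_mem_open hx W.2
  let e' := sectionsEquivOfIsoFree F n (isoFreeOfLE hVW F n e)
  obtain ⟨xV, rfl⟩ : ∃ xV : V, (xV : X) = x := ⟨⟨x, hxV⟩, rfl⟩
  have hloc := Groth.Agent.Lib.Helper45.isLocalizedModule_germₗ hV F xV
  have := hV.isLocalization_stalk xV
  constructor
  · intro hn
    let v : Γ(F, V) := e'.symm (Pi.single ⟨0, hn⟩ 1)
    refine ⟨⟨Groth.Agent.Lib.Helper45.germₗ F xV v, 0, fun h0 => ?_⟩⟩
    obtain ⟨s, hs⟩ := (IsLocalizedModule.eq_zero_iff (hV.primeIdealOf xV).asIdeal.primeCompl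
      (Groth.Agent.Lib.Helper45.germₗ F xV)).mp h0
    have hs' : (s : Γ(X, V)) • v = 0 := hs
    have h1 : e' ((s : Γ(X, V)) • v) = 0 := by rw [hs', map_zero]
    rw [map_smul, LinearEquiv.apply_symm_apply] at h1
    have h2 := congrFun h1 ⟨0, hn⟩
    simp only [Pi.smul_apply, Pi.single_eq_same, smul_eq_mul, mul_one, Pi.zero_apply] at h2
    exact s.2 (by rw [h2]; exact Ideal.zero_mem _)
  · intro hn
    subst hn
    have hsub : Subsingleton Γ(F, V) := e'.toEquiv.subsingleton
    refine ⟨fun a b => ?_⟩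
    obtain ⟨⟨m, s⟩, hm⟩ := IsLocalizedModule.surj (hV.primeIdealOf xV).asIdeal.primeCompl
      (Groth.Agent.Lib.Helper45.germₗ F xV) a
    obtain ⟨⟨m', s'⟩, hm'⟩ := IsLocalizedModule.surj (hV.primeIdealOf xV).asIdeal.primeCompl
      (Groth.Agent.Lib.Helper45.germₗ F xV) b
    have hu := IsLocalizedModule.map_units (Groth.Agent.Lib.Helper45.germₗ F xV) s
    have hu' := IsLocalizedModule.map_units (Groth.Agent.Lib.Helper45.germₗ F xV) s'
    have ha : a = 0 := by
      have : (s : Γ(X, V)) • a = 0 := by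
        have hm2 : (s : Γ(X, V)) • a = Groth.Agent.Lib.Helper45.germₗ F xV m := hm
        rw [hm2, Subsingleton.elim m 0, map_zero]
      exact (Module.End.isUnit_iff _).mp hu |>.injective (by simpa using this)
    have hb : b = 0 := by
      have : (s' : Γ(X, V)) • b = 0 := by
        have hm2 : (s' : Γ(X, V)) • b = Groth.Agent.Lib.Helper45.germₗ F xV m' := hm'
        rw [hm2, Subsingleton.elim m' 0, map_zero]
      exact (Module.End.isUnit_iff _).mp hu' |>.injective (by simpa using this)
    rw [ha, hb]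



open CategoryTheory AlgebraicGeometry in
/-- Let X be a regular scheme (locally Noetherian with regular local rings) and F a coherent O_X-module.
Then F has support all of X and Cohen–Macaulay stalks if and only if F is finite locally free of
positive rank near every point. -/
theorem result (X : Scheme.{u}) [IsLocallyNoetherian X]
    (hreg : ∀ x : X, IsRegularLocalRing (X.presheaf.stalk x)) (F : X.Modules) (hF : Coh.IsCoh F) :
    (CohB1.support F = Set.univ ∧
        ∀ x : X, LocCoh.IsCohenMacaulayModule (X.presheaf.stalk x) ↑(F.presheaf.stalk x)) ↔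
      ∀ x : X, ∃ (U : X.Opens) (n : ℕ), x ∈ U ∧ 0 < n ∧
        Nonempty (F.restrict U.ι ≅ FlatMod.freeMod (↑U) n) := by
  have hfp : SheafOfModules.IsFinitePresentation (R := X.ringCatSheaf) F := by
    have : F.IsQuasicoherent := hF.1
    exact Groth.Agent.Lib.Helper49.isFinitePresentation_of_isFiniteType_of_noetherian F hF.2
  have hq : F.IsQuasicoherent := hF.1
  have hfin : ∀ x : X, Module.Finite (X.presheaf.stalk x) (F.presheaf.stalk x) := fun x =>
    Groth.Agent.Lib.Helper12.QuasiFlat.finite_stalk_of_isCoh F hF x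
  constructor
  · rintro ⟨hsupp, hCM⟩ x
    have hnt : ∀ y : X, Nontrivial ↑(F.presheaf.stalk y) := by
      intro y
      have hy : y ∈ CohB1.support F := by rw [hsupp]; trivial
      exact not_subsingleton_iff_nontrivial.mp hy
    haveI := hreg x
    haveI := hfin x
    have hfree : Module.Free (X.presheaf.stalk x) ↑(F.presheaf.stalk x) := by
      apply Groth.Agent.Lib.Helper73.MCM.free_of_le_depth
      have h1 := Groth.Agent.Lib.Helper80.supportDim_stalk_eq_ringKrullDim F hF hnt x
      have h2 : Module.supportDim (X.presheaf.stalk x) ↑(F.presheaf.stalk x) =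
          ((LocCoh.depth (X.presheaf.stalk x) ↑(F.presheaf.stalk x) : ℕ∞) : WithBot ℕ∞) := hCM x
      have hs : ((IsLocalRing.maximalIdeal (X.presheaf.stalk x)).spanFinrank : WithBot ℕ∞) =
          ringKrullDim (X.presheaf.stalk x) := IsRegularLocalRing.spanFinrank_maximalIdeal
      rw [h1, ← hs] at h2
      have h3 : (((IsLocalRing.maximalIdeal (X.presheaf.stalk x)).spanFinrank : ℕ∞) : WithBot ℕ∞) =
          ((LocCoh.depth (X.presheaf.stalk x) ↑(F.presheaf.stalk x) : ℕ∞) : WithBot ℕ∞) := h2
      exact le_of_eq (WithBot.coe_injective h3)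
    obtain ⟨U, n, hxU, ⟨e⟩⟩ :=
      Groth.Agent.Lib.Helper49.exists_iso_restrict_freeMod_of_stalk_free F hfp x hfree
    refine ⟨U, n, hxU, ?_, ⟨e⟩⟩
    by_contra hn
    have hn0 : n = 0 := by omega
    have hsub := (stalk_of_iso_restrict_freeMod F U n e x hxU).2 hn0
    have := hnt x
    exact false_of_nontrivial_of_subsingleton ↑(F.presheaf.stalk x)
  · intro h
    have hnt : ∀ y : X, Nontrivial ↑(F.presheaf.stalk y) := by
      intro y
      obtain ⟨U, n, hyU, hn, ⟨e⟩⟩ := h y
      exact (stalk_of_iso_restrict_freeMod F U n e y hyU).1 hn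
    refine ⟨?_, fun x => ?_⟩
    · rw [Set.eq_univ_iff_forall]
      intro y
      exact not_subsingleton_iff_nontrivial.mpr (hnt y)
    · obtain ⟨U, n, hxU, hn, ⟨e⟩⟩ := h x
      haveI := hreg x
      haveI := hfin x
      haveI := hnt x
      have hfree : Module.Free (X.presheaf.stalk x) ↑(F.presheaf.stalk x) :=
        Groth.Agent.Lib.Helper80.FreeLocus.free_stalk_of_iso_restrict_freeMod F U n e x hxU
      unfold LocCoh.IsCohenMacaulayModule
      have h1 := Groth.Agent.Lib.Helper80.supportDim_stalk_eq_ringKrullDim F hF hnt x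
      refine le_antisymm ?_ (Groth.Agent.Lib.Helper29.depth_le_supportDim _ _)
      rw [h1, ← Groth.Agent.Lib.Helper73.RegularNormal.depth_self_of_isRegularLocalRing]
      refine WithBot.coe_le_coe.mpr ?_
      have e2 : (F.presheaf.stalk x) ≃ₗ[X.presheaf.stalk x]
          (Fin (Module.finrank (X.presheaf.stalk x) (F.presheaf.stalk x)) → X.presheaf.stalk x) :=
        (Module.finBasis _ _).equivFun
      unfold LocCoh.depth
      rw [Groth.Agent.Lib.Helper29.idealDepth_congr _ e2]
      exact Groth.Agent.Lib.Helper93.Depth.idealDepth_le_pi_fin _ _ _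

end Groth.Agent.S0828
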