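import Groth.Statements.S0856
import Groth.Agent.Lib.Helper83.ModCech
-- import your own Groth.Agent.* helpers here

set_option autoImplicit false
universe u
open CategoryTheory
open CohSite

namespace Groth.Agent.S0856

open Opposite in
/-- Let (C, O) be a ringed site, a : U' -> U a monomorphism of C and I an injective sheaf of O-modules.
Then the restriction map I(U) -> I(U') is surjective. -/
theorem result {C : Type u} [SmallCategory C]
    {J : GrothendieckTopology C} (O : Sheaf J RingCat.{u}) (I : SheafOfModules.{u} O) [Injective I]
    {U U' : C} (a : U' ⟶ U) [Mono a] : Function.Surjective (I.val.map a.op) := by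
  intro s
  have : Mono (yoneda.map a) := inferInstance
  let g' := (Groth.Agent.Lib.Helper83.ModCech.secEquiv O I U').symm s
  let g := Injective.factorThru g' ((Groth.Agent.Lib.Helper83.ModCech.L O).map (yoneda.map a))
  refine ⟨Groth.Agent.Lib.Helper83.ModCech.secEquiv O I U g, ?_⟩
  rw [← Groth.Agent.Lib.Helper83.ModCech.secEquiv_naturality, Injective.comp_factorThru]
  exact Equiv.apply_symm_apply _ _
end Groth.Agent.S0856
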