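import Groth.Statements.S0857
-- import your own Groth.Agent.* helpers here
import Mathlib.Algebra.Homology.DerivedCategory.Ext.ExactSequences
import Groth.Agent.Lib.Helper4.FreeSheafSite

set_option autoImplicit false
universe u
open CategoryTheory
open CohSite

namespace Groth.Agent.S0857

universe w v u' t

open CategoryTheory.Limits CategoryTheory.Abelian in
/-- In an abelian category with enough injectives, a class in `Ext¹(Z, ∏ F_i)` all of whose
components in `Ext¹(Z, F_i)` vanish is zero. -/
theorem ext_one_pi_eq_zero {C : Type u'} [Category.{v} C] [Abelian C] [HasExt.{w} C]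
    [EnoughInjectives C] {I : Type t} (F : I → C) [HasProduct F]
    [HasProduct (fun i => Injective.under (F i))]
    (Z : C) (x : Ext.{w} Z (∏ᶜ F) 1)
    (hx : ∀ i, x.comp (Ext.mk₀ (Pi.π F i)) (add_zero 1) = 0) : x = 0 := by
  let E : I → C := fun i => Injective.under (F i)
  let ι : ∀ i, F i ⟶ E i := fun i => Injective.ι (F i)
  let m : ∏ᶜ F ⟶ ∏ᶜ E := Limits.Pi.map ι
  have hmπ : ∀ i, m ≫ Pi.π E i = Pi.π F i ≫ ι i := fun i => Limits.Pi.map_π ι i
  let S : ShortComplex C := ShortComplex.mk m (cokernel.π m) (by simp)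
  have hS : S.ShortExact := { exact := ShortComplex.exact_cokernel _ }
  let Si : I → ShortComplex C := fun i =>
    ShortComplex.mk (ι i) (cokernel.π (ι i)) (by simp)
  have hSi : ∀ i, (Si i).ShortExact := fun i => { exact := ShortComplex.exact_cokernel _ }
  -- the morphisms of short complexes `S ⟶ Si i`
  let τ₃ : ∀ i, cokernel m ⟶ cokernel (ι i) := fun i =>
    cokernel.map m (ι i) (Pi.π F i) (Pi.π E i) (hmπ i)
  let φ : ∀ i, S ⟶ Si i := fun i =>
    { τ₁ := Pi.π F i
      τ₂ := Pi.π E i
      τ₃ := τ₃ i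
      comm₁₂ := (hmπ i).symm
      comm₂₃ := by simp [S, Si, τ₃] }
  -- the family `τ₃` is jointly monic
  have hjoint : ∀ {W : C} (d : W ⟶ cokernel m), (∀ i, d ≫ τ₃ i = 0) → d = 0 := by
    intro W d hd
    have hepi : Epi (pullback.fst d (cokernel.π m)) := inferInstance
    rw [← cancel_epi (pullback.fst d (cokernel.π m)), comp_zero]
    let p₂ := pullback.snd d (cokernel.π m)
    have hp : ∀ i, (p₂ ≫ Pi.π E i) ≫ cokernel.π (ι i) = 0 := by
      intro i
      have h1 : Pi.π E i ≫ cokernel.π (ι i) = cokernel.π m ≫ τ₃ i := by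
        simp [τ₃]
      rw [Category.assoc, h1, ← Category.assoc, ← pullback.condition, Category.assoc, hd i,
        comp_zero]
    let c : pullback d (cokernel.π m) ⟶ ∏ᶜ F :=
      Pi.lift (fun i => Abelian.monoLift (ι i) (p₂ ≫ Pi.π E i) (hp i))
    have hc : c ≫ m = p₂ := by
      apply Pi.hom_ext
      intro i
      rw [Category.assoc, hmπ i, ← Category.assoc, Pi.lift_π, Abelian.monoLift_comp]
    rw [pullback.condition]
    change p₂ ≫ cokernel.π m = 0
    rw [← hc, Category.assoc, cokernel.condition, comp_zero]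
  -- write `x` as a connecting class
  obtain ⟨y, rfl⟩ := Ext.covariant_sequence_exact₁ Z hS x (Ext.eq_zero_of_injective _) (zero_add 1)
  obtain ⟨ψ, rfl⟩ := (Ext.mk₀_bijective _ _).surjective y
  -- componentwise lifts
  have hlift : ∀ i, ∃ ψ' : Z ⟶ E i, ψ' ≫ cokernel.π (ι i) = ψ ≫ τ₃ i := by
    intro i
    have h1 : (Ext.mk₀ (ψ ≫ τ₃ i)).comp (hSi i).extClass (zero_add 1) = 0 := by
      have hnat := ShortComplex.ShortExact.extClass_naturality hS (hSi i) (φ i)
      have := hx i
      rw [Ext.comp_assoc_of_third_deg_zero, hnat, ← Ext.comp_assoc_of_second_deg_zero,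
        Ext.mk₀_comp_mk₀] at this
      exact this
    obtain ⟨z, hz⟩ := Ext.covariant_sequence_exact₃ Z (hSi i) (Ext.mk₀ (ψ ≫ τ₃ i)) (zero_add 1) h1
    obtain ⟨ψ', rfl⟩ := (Ext.mk₀_bijective _ _).surjective z
    refine ⟨ψ', (Ext.mk₀_bijective _ _).injective ?_⟩
    rw [← Ext.mk₀_comp_mk₀]
    exact hz
  choose ψ' hψ' using hlift
  have hfac : Pi.lift ψ' ≫ cokernel.π m = ψ := by
    rw [← sub_eq_zero]
    apply hjoint
    intro i
    have h1 : Pi.π E i ≫ cokernel.π (ι i) = cokernel.π m ≫ τ₃ i := by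
      simp [τ₃]
    rw [Preadditive.sub_comp, Category.assoc, ← h1, ← Category.assoc, Pi.lift_π, hψ' i, sub_self]
  have hfac' : ψ = Pi.lift ψ' ≫ S.g := hfac.symm
  rw [hfac', ← Ext.mk₀_comp_mk₀, Ext.comp_assoc_of_second_deg_zero, hS.comp_extClass,
    Ext.comp_zero]

open Opposite CategoryTheory.Limits in
/-- For a family of abelian sheaves F_i on a site and an object U, the map H^1(U, ∏ F_i) -> ∏ H^1(U,
F_i) induced by the projections is injective. (The degree-zero part of the published statement, that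
sections of a product are the product of sections, is not restated.) -/
theorem result {C : Type u} [SmallCategory C] {J : GrothendieckTopology C}
    {I : Type u} (F : I → Sheaf J AddCommGrpCat.{u}) (U : C) :
    Function.Injective (fun (x : CohSite.HU (∏ᶜ F) 1 U) (i : I) =>
      (((Sheaf.cohomologyPresheafFunctor J 1).map (Pi.π F i)).app (op U)).hom x) := by
  have key : ∀ (x y : Abelian.Ext (Groth.Agent.Lib.Helper4.ZU J U) (∏ᶜ F) 1),
      (∀ i, x.comp (Abelian.Ext.mk₀ (Pi.π F i)) (add_zero 1) =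
        y.comp (Abelian.Ext.mk₀ (Pi.π F i)) (add_zero 1)) → x = y := by
    intro x y h
    have h0 : x - y = 0 := by
      apply ext_one_pi_eq_zero F _ (x - y)
      intro i
      rw [sub_eq_add_neg, Abelian.Ext.add_comp, Abelian.Ext.neg_comp, ← sub_eq_add_neg,
        sub_eq_zero]
      exact h i
    exact sub_eq_zero.1 h0
  intro x y hxy
  exact key x y (fun i => congrFun hxy i)

end Groth.Agent.S0857
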