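import Groth.Statements.S0860
import Groth.Agent.S0861
import Groth.Agent.Lib.Helper5.CechPost

set_option autoImplicit false
universe u
open CategoryTheory
open CohSite

namespace Groth.Agent.S0860

open CategoryTheory.Limits in
/-- Let u : C -> D be a functor between sites with fibre products which sends coverings to coverings,
commutes with fibre products, and is continuous and cocontinuous, and let I be an injective abelian
sheaf on D. Then the sheaf V ↦ I(u(V)) on C (which is the pullback of I along the morphism of topoi
attached to u) has H^p(U, -) = 0 for all p > 0 and all objects U of C. -/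
theorem result {C D : Type u} [SmallCategory C]
    [SmallCategory D] [HasPullbacks C] [HasPullbacks D]
    (J : GrothendieckTopology C) (K : GrothendieckTopology D) (u : C ⥤ D)
    (hu : CoverPreserving J K u) [PreservesLimitsOfShape WalkingCospan u]
    [u.IsContinuous J K] [u.IsCocontinuous J K]
    (I : Sheaf K AddCommGrpCat.{u}) [Injective I] (U : C) (p : ℕ) :
    Subsingleton (CohSite.HU ((CohSite.push K J u).obj I) (p + 1) U) := by
  open Groth.Agent.Lib.Helper5 Groth.Agent.Lib.Lead in
  refine S0861.result J Set.univ
    (fun U ι Y => Sieve.ofArrows (fun i => (Y i).left) (fun i => (Y i).hom) ∈ J U)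
    (fun U ι Y h => ⟨Set.mem_univ _, h, fun _ _ => Set.mem_univ _⟩) ?_
    ((CohSite.push K J u).obj I) ?_ U (Set.mem_univ _) p
  · intro V _ T hT
    refine ⟨(Σ W : C, {f : W ⟶ V // T.arrows f}), fun i => Over.mk i.2.1, ?_, fun i => i.2.2⟩
    refine J.superset_covering ?_ hT
    intro W f hf
    exact ⟨W, 𝟙 W, f, Presieve.ofArrows.mk (⟨W, f, hf⟩ : Σ W : C, {f : W ⟶ V // T.arrows f}),
      Category.id_comp f⟩
  · intro V ι Y _ q
    exact isZero_cechH_comp_of_isZero u Y I.obj q (isZero_sCechH_of_injective (postFam u Y) K I q)

end Groth.Agent.S0860
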