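import Groth.Statements.S0866
-- import your own Groth.Agent.* helpers here
import Mathlib.Topology.Sheaves.Skyscraper
import Mathlib.Topology.Sheaves.SheafCondition.UniqueGluing

set_option autoImplicit false
universe u
open CategoryTheory
open CohTop

namespace Groth.Agent.S0866

open TopologicalSpace Opposite CategoryTheory.Limits TopCat
open scoped AlgebraicGeometry

open Classical in
lemma sky_push {X Y : TopCat.{u}} (g : Y ⟶ X) (y : Y) (A : AddCommGrpCat.{u}) :
    g _* (skyscraperPresheaf y A) = skyscraperPresheaf (g y) A := rfl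

open Classical in
/-- The sheaf version -/
noncomputable def skyIso {X Y : TopCat.{u}} (g : Y ⟶ X) (y : Y) (A : AddCommGrpCat.{u}) :
    (CohTop.push g).obj (skyscraperSheaf y A) ≅ skyscraperSheaf (g y) A :=
  (sheafToPresheaf _ _).preimageIso (eqToIso (sky_push g y A))

open Classical in
theorem unit_mono_of_surjective {X Y : TopCat.{u}} (g : Y ⟶ X) (hg : Function.Surjective g)
    (F : CohTop.Ab X) :
    Mono ((TopCat.Sheaf.pullbackPushforwardAdjunction AddCommGrpCat.{u} g).unit.app F) := by
  let adj : CohTop.pull g ⊣ CohTop.push g :=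
    TopCat.Sheaf.pullbackPushforwardAdjunction AddCommGrpCat.{u} g
  let η : F ⟶ (CohTop.push g).obj ((CohTop.pull g).obj F) := adj.unit.app F
  change Mono η
  refine (Sheaf.Hom.mono_iff_presheaf_mono _ _ η).2 ?_
  have : ∀ U, Mono (η.hom.app U) := by
    intro U
    rw [AddCommGrpCat.mono_iff_injective, injective_iff_map_eq_zero]
    intro s hs
    refine TopCat.Presheaf.section_ext F (unop U) s 0 ?_
    intro x hx
    obtain ⟨y, rfl⟩ := hg x
    let A : AddCommGrpCat.{u} := TopCat.Presheaf.stalk F.obj (g y)
    let α : F ⟶ skyscraperSheaf (g y) A := ⟨StalkSkyscraperPresheafAdjunctionAuxs.toSkyscraperPresheaf (g y) (𝟙 A)⟩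
    let β : F ⟶ (CohTop.push g).obj (skyscraperSheaf y A) := α ≫ (skyIso g y A).inv
    have hβ : β = η ≫ (CohTop.push g).map ((adj.homEquiv _ _).symm β) := by
      rw [← Adjunction.homEquiv_unit, Equiv.apply_symm_apply]
    have h1 : β.hom.app U s = 0 := by
      rw [hβ]
      change ((CohTop.push g).map ((adj.homEquiv _ _).symm β)).hom.app U (η.hom.app U s) = 0
      rw [hs, map_zero]
    have h2 : α.hom.app U s = 0 := by
      have hα : α = β ≫ (skyIso g y A).hom := by
        rw [Category.assoc, Iso.inv_hom_id, Category.comp_id]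
      rw [hα]
      change (skyIso g y A).hom.hom.app U (β.hom.app U s) = 0
      rw [h1, map_zero]
    have h3 : α.hom.app U = TopCat.Presheaf.germ F.obj (unop U) (g y) hx ≫ 𝟙 A ≫
        eqToHom (if_pos hx).symm := by
      change (StalkSkyscraperPresheafAdjunctionAuxs.toSkyscraperPresheaf (g y) (𝟙 A)).app U = _
      rw [StalkSkyscraperPresheafAdjunctionAuxs.toSkyscraperPresheaf_app, dif_pos hx]
      rfl
    rw [h3, Category.id_comp] at h2
    have h4 : Function.Injective (ConcreteCategory.hom
        (eqToHom (if_pos hx).symm : A ⟶ (skyscraperPresheaf (g y) A).obj U)) :=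
      (AddCommGrpCat.mono_iff_injective _).1 inferInstance
    rw [map_zero]
    apply h4
    rw [map_zero]
    exact h2
  exact NatTrans.mono_of_mono_app _


theorem flasque_of_discrete {D : TopCat.{u}} [DiscreteTopology D] (G : CohTop.Ab D) :
    TopCat.Sheaf.IsFlasque G := by
  constructor
  intro U V i
  rw [AddCommGrpCat.epi_iff_surjective]
  intro s
  -- the complement
  let W : Opens D := ⟨((unop U : Opens D) : Set D) \ (unop V : Opens D), isOpen_discrete _⟩
  let Uf : Bool → Opens D := fun b => Bool.rec W (unop V) b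
  have hVU : unop V ≤ unop U := leOfHom i.unop
  have hWU : W ≤ unop U := fun x hx => hx.1
  let iUV : ∀ b, Uf b ⟶ unop U := fun b => homOfLE (by
    cases b
    · exact hWU
    · exact hVU)
  have hcover : unop U ≤ iSup Uf := by
    intro x hx
    by_cases hxV : x ∈ unop V
    · exact (le_iSup Uf true) hxV
    · exact (le_iSup Uf false) ⟨hx, hxV⟩
  have hbot : unop V ⊓ W = ⊥ := by
    ext x
    simp only [Opens.coe_inf, Opens.coe_bot, Set.mem_inter_iff, Set.mem_empty_iff_false,
      iff_false, not_and]
    intro h1 h2
    exact h2.2 h1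
  have hbot' : W ⊓ unop V = ⊥ := by rw [inf_comm]; exact hbot
  have hsub : ∀ (T : Opens D), T = ⊥ → Subsingleton (G.obj.obj (op T)) := by
    intro T hT
    subst hT
    exact AddCommGrpCat.subsingleton_of_isZero (TopCat.Sheaf.isTerminalOfEmpty G).isZero
  let sf : ∀ b, G.obj.obj (op (Uf b)) := fun b =>
    Bool.rec (motive := fun b => G.obj.obj (op (Uf b))) (0 : G.obj.obj (op W)) s b
  have hcompat : TopCat.Presheaf.IsCompatible G.obj Uf sf := by
    intro a b
    cases a <;> cases b
    · rfl
    · haveI := hsub (W ⊓ unop V) hbot'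
      exact Subsingleton.elim _ _
    · haveI := hsub (unop V ⊓ W) hbot
      exact Subsingleton.elim _ _
    · rfl
  obtain ⟨t, ht, -⟩ := TopCat.Sheaf.existsUnique_gluing' G Uf (unop U) iUV hcover sf hcompat
  exact ⟨t, ht true⟩



/-- The first step of the Godement resolution, for abelian sheaves: let f : X_disc -> X be the identity
map from X with the discrete topology. For an abelian sheaf F on X, the adjunction unit F -> f_*
f^{-1} F is a monomorphism and f_* f^{-1} F is a flasque sheaf. (The source builds the whole
functorial flasque resolution by iterating f_* f^{-1} and proves it is a stalkwise homotopy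
equivalence; only this first step is asserted here.) -/
theorem result {X : TopCat.{u}} (F : CohTop.Ab X) :
    Mono ((TopCat.Sheaf.pullbackPushforwardAdjunction AddCommGrpCat.{u}
      (TopCat.adj₁.counit.app X)).unit.app F) ∧
    TopCat.Sheaf.IsFlasque ((CohTop.push (TopCat.adj₁.counit.app X)).obj
      ((CohTop.pull (TopCat.adj₁.counit.app X)).obj F)) := by
  have hsurj : Function.Surjective (TopCat.adj₁.counit.app X) := fun x => ⟨x, rfl⟩
  refine ⟨unit_mono_of_surjective _ hsurj F, ?_⟩
  haveI : DiscreteTopology ((forget TopCat ⋙ TopCat.discrete).obj X) := ⟨rfl⟩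
  haveI : TopCat.Sheaf.IsFlasque ((CohTop.pull (TopCat.adj₁.counit.app X)).obj F) :=
    flasque_of_discrete (D := (forget TopCat ⋙ TopCat.discrete).obj X) _
  exact TopCat.Sheaf.IsFlasque.pushforward_isFlasque _ (TopCat.adj₁.counit.app X)

end Groth.Agent.S0866
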