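import Groth.Statements.S0871
import Groth.Agent.S0463
import Groth.Agent.Lib.Helper5.AdjDerived
import Groth.Agent.Lib.Helper5.ExtByZero
import Groth.Agent.Lib.Helper5.SiteCoh

set_option autoImplicit false
universe u
open CategoryTheory
open CohTop

namespace Groth.Agent.S0871

open TopologicalSpace CategoryTheory.Limits Opposite Groth.Agent.Lib.Helper5

/-- precomposition with an isomorphism, as an additive equivalence -/
def homAddEquivOfIsoLeft {C : Type*} [Category C] [Preadditive C] {X Y : C} (e : X ≅ Y) (Z : C) :
    (Y ⟶ Z) ≃+ (X ⟶ Z) where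
  toFun f := e.hom ≫ f
  invFun g := e.inv ≫ g
  left_inv f := by simp
  right_inv g := by simp
  map_add' f g := Preadditive.comp_add _ _ _ _ _ _

/-- postcomposition with an isomorphism, as an additive equivalence -/
def homAddEquivOfIsoRight {C : Type*} [Category C] [Preadditive C] {Y Z : C} (e : Y ≅ Z) (X : C) :
    (X ⟶ Y) ≃+ (X ⟶ Z) where
  toFun f := f ≫ e.hom
  invFun g := g ≫ e.inv
  left_inv f := by simp
  right_inv g := by simp
  map_add' f g := Preadditive.add_comp _ _ _ _ _ _

variable {X : TopCat.{u}} (U : Opens X)

/-- morphisms from the extension by zero of the free sheaf on `⊤` are sections over `U` -/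
noncomputable def α (F : Ab X) :
    ((extByZero U).obj (CohCx.freeSheaf (Opens.grothendieckTopology (TopCat.of U)) ⊤) ⟶ F) ≃
      F.obj.obj (op ((jU U).obj ⊤)) :=
  ((extByZeroAdj U).homEquiv _ F).trans
    (SiteCoh.β ⊤ ((U.sheafRestrict (C := AddCommGrpCat.{u})).obj F))

lemma α_naturality {F G : Ab X} (f : F ⟶ G)
    (g : (extByZero U).obj (CohCx.freeSheaf (Opens.grothendieckTopology (TopCat.of U)) ⊤) ⟶ F) :
    α U G (g ≫ f) = f.hom.app (op ((jU U).obj ⊤)) (α U F g) := by
  dsimp only [α, Equiv.trans_apply]
  rw [Adjunction.homEquiv_naturality_right]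
  exact SiteCoh.β_naturality ⊤ ((U.sheafRestrict (C := AddCommGrpCat.{u})).map f) _

/-- the extension by zero of the free sheaf on `⊤ : Opens U` is the free sheaf on `U` -/
noncomputable def isoFree (V : Opens X) (h : (jU U).obj ⊤ = V) :
    (extByZero U).obj (CohCx.freeSheaf (Opens.grothendieckTopology (TopCat.of U)) ⊤) ≅
      CohCx.freeSheaf (Opens.grothendieckTopology X) V := by
  subst h
  exact S0463.isoOfCorepresent (T := fun F : Ab X => F.obj.obj (op ((jU U).obj ⊤)))
    (fun f x => f.hom.app _ x) (α U) (S0463.β _) (α_naturality U) (S0463.β_naturality _)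

open TopologicalSpace CategoryTheory.Limits in
/-- For an object K of the derived category of abelian sheaves on X and an open U, H^p(U, K) is
isomorphic to H^p(U, K|_U), where K|_U is the image of K under the functor on derived categories
induced by the (exact) restriction to U. Exactness of restriction is assumed through instance
arguments (true, but not recorded by Mathlib in this generality). -/
theorem result {X : TopCat.{u}} (U : Opens X)
    [HasDerivedCategory.{u} (CohTop.Ab X)] [HasDerivedCategory.{u} (CohTop.Ab (TopCat.of U))]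
    [PreservesFiniteLimits (CohTop.restrFunctor U)] [PreservesFiniteColimits (CohTop.restrFunctor U)]
    (K : DerivedCategory (CohTop.Ab X)) (p : ℤ) :
    Nonempty (CohCx.HDU K p U ≃+ CohCx.HDU ((CohTop.restrFunctor U).mapDerivedCategory.obj K) p ⊤) := by
  have hU : (jU U).obj ⊤ = U := Opens.isOpenEmbedding_obj_top U
  let e1 : (extByZero U).mapDerivedCategory.obj
      ((DerivedCategory.singleFunctor (CohTop.Ab (TopCat.of U)) 0).obj
        (CohCx.freeSheaf (Opens.grothendieckTopology (TopCat.of U)) ⊤)) ≅
      (DerivedCategory.singleFunctor (CohTop.Ab X) 0).obj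
        (CohCx.freeSheaf (Opens.grothendieckTopology X) U) :=
    ((extByZero U).mapDerivedCategorySingleFunctor 0).app _ ≪≫
      (DerivedCategory.singleFunctor (CohTop.Ab X) 0).mapIso (isoFree U U hU)
  exact ⟨((homAddEquivOfIsoLeft e1 _).trans
    (mapDerivedCategoryHomAddEquiv (L := extByZero U) (R := CohTop.restrFunctor U)
      (extByZeroAdj U) _ _)).trans
    (homAddEquivOfIsoRight (((CohTop.restrFunctor U).mapDerivedCategory.commShiftIso p).app K) _)⟩

end Groth.Agent.S0871
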