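import Groth.Statements.S0872
import Groth.Agent.Lib.Helper83.ExtCoprod
import Groth.Agent.Lib.Helper83.SingleLift
import Groth.Agent.Lib.Helper83.ExtAcycFin
import Groth.Agent.Lib.Helper32.KInjRes
-- import your own Groth.Agent.* helpers here

set_option autoImplicit false
universe u
open CategoryTheory
open CohSite

namespace Groth.Agent.S0872

open Opposite CategoryTheory.Limits in
/-- Abelian sheaves, O = Z: let U be an object of a site such that for some d, H^p(U, F) = 0 for all p >
d and all abelian sheaves F, and each functor F ↦ H^p(U, F) preserves direct sums. Then the free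
abelian sheaf Z[h_U]^# (that is, j_! Z_U), viewed in degree zero, is a compact object of the derived
category of abelian sheaves (maps out of it commute with direct sums; the existence of direct sums
in the derived category is assumed). -/
theorem result {C : Type u} [SmallCategory C] (J : GrothendieckTopology C) (U : C)
    [HasDerivedCategory.{u} (Sheaf J AddCommGrpCat.{u})]
    [HasCoproducts.{u} (DerivedCategory (Sheaf J AddCommGrpCat.{u}))]
    (d : ℕ) (h1 : ∀ (F : Sheaf J AddCommGrpCat.{u}) (p : ℕ), d < p → Subsingleton (CohSite.HU F p U))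
    (h2 : ∀ (p : ℕ) (ι : Type u), PreservesColimitsOfShape (Discrete ι)
      ((Sheaf.cohomologyPresheafFunctor J p).flip.obj (op U))) :
    CohDer.IsCompactObject ((DerivedCategory.singleFunctor (Sheaf J AddCommGrpCat.{u}) 0).obj
      (CohCx.freeSheaf J U)) := by
  intro I M
  classical
  have hfb : HasFiniteBiproducts (Sheaf J AddCommGrpCat.{u}) :=
    HasFiniteBiproducts.of_hasFiniteProducts
  have hex : HasExactColimitsOfShape (Discrete I) (Sheaf J AddCommGrpCat.{u}) :=
    hasExactColimitsOfShape_discrete_of_hasExactColimitsOfShape_finset_discrete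
      (Sheaf J AddCommGrpCat.{u}) I
  -- models by K-injective complexes of injectives
  have hmod : ∀ i, ∃ (L : CochainComplex (Sheaf J AddCommGrpCat.{u}) ℤ),
      (∀ n, Injective (L.X n)) ∧ Nonempty (DerivedCategory.Q.obj L ≅ M i) := by
    intro i
    obtain ⟨L, f, hL, hf, _, hinj⟩ :=
      Groth.Agent.Lib.Helper32.KInjRes.exists_kInjective_resolution
        (DerivedCategory.Q.objPreimage (M i))
    have := hf
    exact ⟨L, hinj, ⟨(asIso (DerivedCategory.Q.map f)).symm ≪≫
      DerivedCategory.Q.objObjPreimageIso (M i)⟩⟩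
  choose L hLinj hLe using hmod
  let e : ∀ i, DerivedCategory.Q.obj (L i) ≅ M i := fun i => (hLe i).some
  -- the hypotheses on `U`
  have hpres : ∀ p : ℕ, PreservesColimitsOfShape (Discrete I)
      (Abelian.extFunctorObj (CohCx.freeSheaf J U) p) := fun p => h2 p I
  have hn : ∀ (m : ℕ), d + 1 ≤ m → ∀ (X : Sheaf J AddCommGrpCat.{u})
      (x : Abelian.Ext (CohCx.freeSheaf J U) X m), x = 0 := by
    intro m hm X x
    have := h1 X m (by omega)
    exact Subsingleton.elim (α := CohSite.HU X m U) x 0
  have hS : Groth.Agent.Lib.Helper83.CoprodDecomp.DecompObj I (CohCx.freeSheaf J U) :=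
    Groth.Agent.Lib.Helper83.ExtCoprod.decompObj_of_preserves _ (hpres 0)
  have hEA : ∀ k, Groth.Agent.Lib.Helper83.ExtAcyc.EA (CohCx.freeSheaf J U)
      ((Groth.Agent.Lib.Helper32.DCoprod.sigmaCx L).X k) := fun k =>
    Groth.Agent.Lib.Helper83.ExtCoprod.EA_sigma _ (fun p _ => hpres p) _
      (fun i => Groth.Agent.Lib.Helper83.ExtAcyc.EA_of_injective _ _)
  have hlift : ∀ φ : (DerivedCategory.singleFunctor (Sheaf J AddCommGrpCat.{u}) 0).obj
      (CohCx.freeSheaf J U) ⟶
      DerivedCategory.Q.obj (Groth.Agent.Lib.Helper32.DCoprod.sigmaCx L),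
      ∃ f, Groth.Agent.Lib.Helper83.SingleHom.qm f = φ := by
    intro φ
    obtain ⟨J', j, hJ', hj, _, hinj⟩ :=
      Groth.Agent.Lib.Helper32.KInjRes.exists_kInjective_resolution
        (Groth.Agent.Lib.Helper32.DCoprod.sigmaCx L)
    exact Groth.Agent.Lib.Helper83.SingleLift.exists_qm_eq_of_quasiIso_map _ j
      (Groth.Agent.Lib.Helper83.ExtAcycFin.quasiIso_map _ (d + 1) hn j hEA
        (fun k => Groth.Agent.Lib.Helper83.ExtAcyc.EA_of_injective _ _)) φ
  have h0 := Groth.Agent.Lib.Helper83.CoprodDecomp.finSum_cofanQ_single hS L hlift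
  have h1' := Groth.Agent.Lib.Helper74.ModQc.FinSum.of_iso e
    (Groth.Agent.Lib.Helper32.DCoprod.cofanQ L) h0
  have h2' := Groth.Agent.Lib.Helper74.ModQc.FinSum.of_isColimit
    (Groth.Agent.Lib.Helper74.ModQc.isColimitCofanOfIso e
      (Groth.Agent.Lib.Helper32.DCoprod.cofanQ L)
      (Groth.Agent.Lib.Helper32.DCoprod.isColimitCofanQ L))
    (coproductIsCoproduct M) h1'
  exact Groth.Agent.Lib.Helper74.ModQc.homSumToHomCoprod_bijective_of_finSum _ M h2'
end Groth.Agent.S0872
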