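import Groth.Statements.S0876
import Mathlib.Algebra.Homology.DerivedCategory.SingleTriangle
import Mathlib.Algebra.Homology.ShortComplex.Ab
import Mathlib.Algebra.Homology.ExactSequence

set_option autoImplicit false
universe w v u
open CategoryTheory CategoryTheory.Limits Opposite
open CohSite
namespace Groth.Agent.S0876

/-- elementwise criterion for exactness of a 2-term composable sequence of abelian groups -/
lemma exact_mk₂_of {A B C : Type w} [AddCommGroup A] [AddCommGroup B] [AddCommGroup C]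
    (f : A →+ B) (g : B →+ C)
    (h0 : ∀ a, g (f a) = 0) (h : ∀ b, g b = 0 → ∃ a, f a = b) :
    (ComposableArrows.mk₂ (AddCommGrpCat.ofHom f) (AddCommGrpCat.ofHom g)).Exact := by
  refine ComposableArrows.exact₂_mk _ ?_ ?_
  · ext a
    exact h0 a
  · rw [ShortComplex.ab_exact_iff]
    intro b hb
    exact h b hb

section General

open Pretriangulated

variable {D : Type u} [Category.{v} D] [Preadditive D] [HasZeroObject D] [HasShift D ℤ]
  [∀ n : ℤ, (shiftFunctor D n).Additive] [Pretriangulated D]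

lemma yoneda_exact₁' (T : Triangle D) (hT : T ∈ distTriang D) {X : D} (f : T.obj₁ ⟶ X)
    (hf : T.mor₃ ≫ f⟦(1 : ℤ)⟧' = 0) : ∃ g : T.obj₂ ⟶ X, f = T.mor₁ ≫ g := by
  obtain ⟨g', hg'⟩ := Triangle.yoneda_exact₃ T.rotate (rot_of_distTriang _ hT) (f⟦(1 : ℤ)⟧') hf
  obtain ⟨g, rfl⟩ := (shiftFunctor D (1 : ℤ)).map_surjective (X := T.obj₂) (Y := X) g'
  have hg'' : f⟦(1 : ℤ)⟧' = (-(T.mor₁⟦(1 : ℤ)⟧')) ≫ g⟦(1 : ℤ)⟧' := hg'
  refine ⟨-g, (shiftFunctor D (1 : ℤ)).map_injective ?_⟩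
  rw [hg'', Functor.map_comp, Functor.map_neg, Preadditive.comp_neg, Preadditive.neg_comp]

/-- The connecting map `Hom(T.obj₁, K⟦n⟧) → Hom(T.obj₃, K⟦n+1⟧)`. -/
noncomputable def delta (T : Triangle D) (K : D) (n : ℤ) :
    (T.obj₁ ⟶ K⟦n⟧) →+ (T.obj₃ ⟶ K⟦n + 1⟧) :=
  (Preadditive.leftComp _ T.mor₃).comp
    ((Preadditive.rightComp _ ((shiftFunctorAdd' D n 1 (n + 1) rfl).inv.app K)).comp
      (shiftFunctor D (1 : ℤ)).mapAddHom)

omit [HasZeroObject D] [Pretriangulated D] in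
lemma delta_apply (T : Triangle D) (K : D) (n : ℤ) (x : T.obj₁ ⟶ K⟦n⟧) :
    delta T K n x = T.mor₃ ≫ x⟦(1 : ℤ)⟧' ≫ (shiftFunctorAdd' D n 1 (n + 1) rfl).inv.app K := rfl

theorem mv_general (T : Triangle D) (hT : T ∈ distTriang D) {P Q : D}
    (i₁ : P ⟶ T.obj₂) (i₂ : Q ⟶ T.obj₂) (p₁ : T.obj₂ ⟶ P) (p₂ : T.obj₂ ⟶ Q)
    (h11 : i₁ ≫ p₁ = 𝟙 _) (h22 : i₂ ≫ p₂ = 𝟙 _)
    (hsum : p₁ ≫ i₁ + p₂ ≫ i₂ = 𝟙 _)
    {a₁ : T.obj₁ ⟶ P} {a₂ : T.obj₁ ⟶ Q} {b₁ : P ⟶ T.obj₃} {b₂ : Q ⟶ T.obj₃}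
    (ha₁ : T.mor₁ ≫ p₁ = a₁) (ha₂ : T.mor₁ ≫ p₂ = -a₂)
    (hb₁ : i₁ ≫ T.mor₂ = b₁) (hb₂ : i₂ ≫ T.mor₂ = b₂)
    (K : D) :
    ∃ δ : ∀ n : ℤ, (T.obj₁ ⟶ K⟦n⟧) →+ (T.obj₃ ⟶ K⟦n + 1⟧),
      ∀ n : ℤ,
        (ComposableArrows.mk₂
          (AddCommGrpCat.ofHom ((Preadditive.leftComp (K⟦n⟧) b₁).prod (Preadditive.leftComp (K⟦n⟧) b₂)))
          (AddCommGrpCat.ofHom ((Preadditive.leftComp (K⟦n⟧) a₁).coprod
            (-(Preadditive.leftComp (K⟦n⟧) a₂))))).Exact ∧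
        (ComposableArrows.mk₂
          (AddCommGrpCat.ofHom ((Preadditive.leftComp (K⟦n⟧) a₁).coprod
            (-(Preadditive.leftComp (K⟦n⟧) a₂))))
          (AddCommGrpCat.ofHom (δ n))).Exact ∧
        (ComposableArrows.mk₂ (AddCommGrpCat.ofHom (δ n))
          (AddCommGrpCat.ofHom ((Preadditive.leftComp (K⟦n + 1⟧) b₁).prod
            (Preadditive.leftComp (K⟦n + 1⟧) b₂)))).Exact := by
  -- key identities
  have hβ : ∀ (n : ℤ) (a : P ⟶ K⟦n⟧) (b : Q ⟶ K⟦n⟧),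
      a₁ ≫ a - a₂ ≫ b = T.mor₁ ≫ (p₁ ≫ a + p₂ ≫ b) := by
    intro n a b
    rw [Preadditive.comp_add, ← Category.assoc, ← Category.assoc, ha₁, ha₂]
    simp [sub_eq_add_neg]
  have hi₁p₂ : i₁ ≫ p₂ = 0 := by
    have := congrArg (fun f => i₁ ≫ f ≫ p₂) hsum
    simp only [Preadditive.add_comp, Preadditive.comp_add, Category.assoc, Category.id_comp] at this
    rw [h22, reassoc_of% h11] at this
    simpa using this
  have hi₂p₁ : i₂ ≫ p₁ = 0 := by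
    have := congrArg (fun f => i₂ ≫ f ≫ p₁) hsum
    simp only [Preadditive.add_comp, Preadditive.comp_add, Category.assoc, Category.id_comp] at this
    rw [h11, reassoc_of% h22] at this
    simpa using this
  have hsum' : ∀ {Z : D} (ψ : T.obj₂ ⟶ Z), p₁ ≫ i₁ ≫ ψ + p₂ ≫ i₂ ≫ ψ = ψ := by
    intro Z ψ
    rw [← Category.assoc p₁, ← Category.assoc p₂, ← Preadditive.add_comp, hsum, Category.id_comp]
  refine ⟨fun n => delta T K n, fun n => ⟨?_, ?_, ?_⟩⟩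
  · apply exact_mk₂_of
    · intro φ
      change a₁ ≫ (b₁ ≫ φ) + -(a₂ ≫ (b₂ ≫ φ)) = 0
      rw [← sub_eq_add_neg, hβ, ← hb₁, ← hb₂]
      simp only [Category.assoc]
      rw [hsum', comp_distTriang_mor_zero₁₂_assoc _ hT, zero_comp]
    · rintro ⟨a, b⟩ hab
      change a₁ ≫ a + -(a₂ ≫ b) = 0 at hab
      rw [← sub_eq_add_neg, hβ] at hab
      obtain ⟨φ, hφ⟩ := Triangle.yoneda_exact₂ T hT _ hab
      refine ⟨φ, ?_⟩
      change (b₁ ≫ φ, b₂ ≫ φ) = (a, b)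
      rw [← hb₁, ← hb₂, Category.assoc, Category.assoc, ← hφ]
      simp [reassoc_of% h11, reassoc_of% h22, reassoc_of% hi₁p₂, reassoc_of% hi₂p₁]
  · apply exact_mk₂_of
    · rintro ⟨a, b⟩
      change delta T K n (a₁ ≫ a + -(a₂ ≫ b)) = 0
      rw [← sub_eq_add_neg, hβ, delta_apply, Functor.map_comp, Category.assoc,
        comp_distTriang_mor_zero₃₁_assoc _ hT, zero_comp]
    · intro x hx
      rw [delta_apply] at hx
      have hx' : T.mor₃ ≫ x⟦(1 : ℤ)⟧' = 0 := by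
        have := congrArg (fun f => f ≫ (shiftFunctorAdd' D n 1 (n + 1) rfl).hom.app K) hx
        simpa using this
      obtain ⟨g, hg⟩ := yoneda_exact₁' T hT x hx'
      refine ⟨(i₁ ≫ g, i₂ ≫ g), ?_⟩
      change a₁ ≫ (i₁ ≫ g) + -(a₂ ≫ (i₂ ≫ g)) = x
      rw [← sub_eq_add_neg, hβ, hg, hsum']
  · apply exact_mk₂_of
    · intro x
      change (b₁ ≫ delta T K n x, b₂ ≫ delta T K n x) = 0
      rw [delta_apply, ← hb₁, ← hb₂]
      simp only [Category.assoc]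
      rw [comp_distTriang_mor_zero₂₃_assoc _ hT]
      simp
    · intro y hy
      change (b₁ ≫ y, b₂ ≫ y) = 0 at hy
      have hy1 : b₁ ≫ y = 0 := congrArg Prod.fst hy
      have hy2 : b₂ ≫ y = 0 := congrArg Prod.snd hy
      have hy' : T.mor₂ ≫ y = 0 := by
        rw [← hsum' (T.mor₂ ≫ y), reassoc_of% hb₁, reassoc_of% hb₂, hy1, hy2]
        simp
      obtain ⟨g, hg⟩ := Triangle.yoneda_exact₃ T hT y hy'
      obtain ⟨x, hx⟩ := (shiftFunctor D (1 : ℤ)).map_surjective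
        (g ≫ (shiftFunctorAdd' D n 1 (n + 1) rfl).hom.app K)
      refine ⟨x, ?_⟩
      rw [delta_apply, hx, hg]
      simp

end General

open CategoryTheory.Limits in
/-- As a long exact sequence of cohomology groups rather than a triangle of complexes: let S be a
Mayer-Vietoris square of a site, with corners X₁ (playing the role of the intersection), X₂, X₃ and
X₄ (the union). For every object K of the derived category of abelian sheaves there are connecting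
homomorphisms H^n(X₁, K) -> H^{n+1}(X₄, K) which together with the restriction maps (sum into
H^n(X₂, K) ⊕ H^n(X₃, K), difference out of it) form a long exact sequence ... -> H^n(X₄, K) ->
H^n(X₂, K) ⊕ H^n(X₃, K) -> H^n(X₁, K) -> H^{n+1}(X₄, K) -> .... Here H^n(U, K) is the group of maps
from the free abelian sheaf on U to K[n]. -/
theorem result {C : Type u} [SmallCategory C] {J : GrothendieckTopology C}
    [HasWeakSheafify J (Type u)] [HasDerivedCategory.{u} (Sheaf J AddCommGrpCat.{u})]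
    (S : J.MayerVietorisSquare) (K : DerivedCategory (Sheaf J AddCommGrpCat.{u})) :
    ∃ δ : ∀ n : ℤ, CohCx.HDU K n S.X₁ →+ CohCx.HDU K (n + 1) S.X₄,
      ∀ n : ℤ,
        (ComposableArrows.mk₂
          (AddCommGrpCat.ofHom ((CohCx.HDUres K n S.f₂₄).prod (CohCx.HDUres K n S.f₃₄)))
          (AddCommGrpCat.ofHom ((CohCx.HDUres K n S.f₁₂).coprod (-(CohCx.HDUres K n S.f₁₃))))).Exact ∧
        (ComposableArrows.mk₂
          (AddCommGrpCat.ofHom ((CohCx.HDUres K n S.f₁₂).coprod (-(CohCx.HDUres K n S.f₁₃))))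
          (AddCommGrpCat.ofHom (δ n))).Exact ∧
        (ComposableArrows.mk₂ (AddCommGrpCat.ofHom (δ n))
          (AddCommGrpCat.ofHom ((CohCx.HDUres K (n + 1) S.f₂₄).prod (CohCx.HDUres K (n + 1) S.f₃₄)))).Exact := by
  have hS := S.shortComplex_shortExact
  let F := DerivedCategory.singleFunctor (Sheaf J AddCommGrpCat.{u}) 0
  let A₁ := CohCx.freeSheaf J S.X₁
  let A₂ := CohCx.freeSheaf J S.X₂
  let A₃ := CohCx.freeSheaf J S.X₃
  let A₄ := CohCx.freeSheaf J S.X₄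
  let i₁ : A₂ ⟶ A₂ ⊞ A₃ := biprod.inl
  let i₂ : A₃ ⟶ A₂ ⊞ A₃ := biprod.inr
  let p₁ : A₂ ⊞ A₃ ⟶ A₂ := biprod.fst
  let p₂ : A₂ ⊞ A₃ ⟶ A₃ := biprod.snd
  let f₁₂ : A₁ ⟶ A₂ := CohCx.freeSheafMap J S.f₁₂
  let f₁₃ : A₁ ⟶ A₃ := CohCx.freeSheafMap J S.f₁₃
  let f₂₄ : A₂ ⟶ A₄ := CohCx.freeSheafMap J S.f₂₄
  let f₃₄ : A₃ ⟶ A₄ := CohCx.freeSheafMap J S.f₃₄
  let f : A₁ ⟶ A₂ ⊞ A₃ := biprod.lift f₁₂ (-f₁₃)
  let g : A₂ ⊞ A₃ ⟶ A₄ := biprod.desc f₂₄ f₃₄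
  have h11 : F.map i₁ ≫ F.map p₁ = 𝟙 (F.obj A₂) := by
    rw [← F.map_comp, biprod.inl_fst, F.map_id]
  have h22 : F.map i₂ ≫ F.map p₂ = 𝟙 (F.obj A₃) := by
    rw [← F.map_comp, biprod.inr_snd, F.map_id]
  have hsum : F.map p₁ ≫ F.map i₁ + F.map p₂ ≫ F.map i₂ = 𝟙 (F.obj (A₂ ⊞ A₃)) := by
    rw [← F.map_comp, ← F.map_comp, ← F.map_add, biprod.total, F.map_id]
  have ha₁ : F.map f ≫ F.map p₁ = F.map f₁₂ := by
    rw [← F.map_comp, biprod.lift_fst]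
  have ha₂ : F.map f ≫ F.map p₂ = -F.map f₁₃ := by
    rw [← F.map_comp, biprod.lift_snd, F.map_neg]
  have hb₁ : F.map i₁ ≫ F.map g = F.map f₂₄ := by
    rw [← F.map_comp, biprod.inl_desc]
  have hb₂ : F.map i₂ ≫ F.map g = F.map f₃₄ := by
    rw [← F.map_comp, biprod.inr_desc]
  exact mv_general hS.singleTriangle hS.singleTriangle_distinguished
    (F.map i₁) (F.map i₂) (F.map p₁) (F.map p₂) h11 h22 hsum ha₁ ha₂ hb₁ hb₂ K

end Groth.Agent.S0876
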