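import Groth.Statements.S0883
import Groth.Agent.Lib.Helper83.TopPush
-- import your own Groth.Agent.* helpers here

set_option autoImplicit false
universe u
open CategoryTheory
open CohTop

namespace Groth.Agent.S0883

open TopologicalSpace in
/-- Part (1) (abelian sheaves; the assertion about Rf_* K is not included): given a continuous map f : X
-> Y, a basis B of opens of Y and an object K of the derived category of abelian sheaves on X such
that H^i(f^{-1}V, K) = 0 for all i < 0 and V in B. Then H^i(f^{-1}V, K) = 0 for i < 0 and every open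
V of Y, and the presheaf V ↦ H^0(f^{-1}V, K) is a sheaf on Y. -/
theorem result {X Y : TopCat.{u}} (f : X ⟶ Y)
    [HasDerivedCategory.{u} (CohTop.Ab X)] (B : Set (Opens Y)) (hB : Opens.IsBasis B)
    (K : DerivedCategory (CohTop.Ab X))
    (h : ∀ V ∈ B, ∀ i : ℤ, i < 0 → Subsingleton (CohCx.HDU K i ((Opens.map f).obj V))) :
    (∀ (V : Opens Y) (i : ℤ), i < 0 → Subsingleton (CohCx.HDU K i ((Opens.map f).obj V))) ∧
    Presheaf.IsSheaf (Opens.grothendieckTopology Y) ((Opens.map f).op ⋙ CohCx.HDUPresheaf K 0) := by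
  let _ : HasDerivedCategory.{u + 1} (CohTop.Ab Y) := HasDerivedCategory.standard _
  have hGE := Groth.Agent.Lib.Helper83.TopPush.isGE_Rf f hB K h
  refine ⟨?_, ?_⟩
  · intro V i hi
    have h1 : Subsingleton ((DerivedCategory.singleFunctor (CohTop.Ab Y) 0).obj
        (Groth.Agent.Lib.Helper5.SiteCoh.freeSheaf (Opens.grothendieckTopology Y) V) ⟶
        (Groth.Agent.Lib.Helper83.TopPush.Rf f).obj
          ((shiftFunctor (DerivedCategory (CohTop.Ab X)) i).obj K)) := by
      refine ⟨fun a b => ?_⟩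
      let e := Groth.Agent.Lib.Helper83.DerivedPush.shiftIso
        (Groth.Agent.Lib.Helper83.TopPush.adj₀ f) (Groth.Agent.Lib.Helper83.TopPush.hasKInjRes X) K i
      have ha : a ≫ e.hom = 0 := Groth.Agent.Lib.Helper83.H0Bij.eq_zero_of_isGE _ _ i hi _
      have hb : b ≫ e.hom = 0 := Groth.Agent.Lib.Helper83.H0Bij.eq_zero_of_isGE _ _ i hi _
      rw [← cancel_mono e.hom, ha, hb]
    exact (Groth.Agent.Lib.Helper83.TopPush.δ f V
      ((shiftFunctor (DerivedCategory (CohTop.Ab X)) i).obj K)).subsingleton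
  · let K₀ := (shiftFunctor (DerivedCategory (CohTop.Ab X)) (0 : ℤ)).obj K
    let M₀ := (Groth.Agent.Lib.Helper83.TopPush.Rf f).obj K₀
    have e0 : (Groth.Agent.Lib.Helper83.TopPush.Rf f).obj K ≅ M₀ :=
      (shiftFunctorZero _ ℤ).symm.app ((Groth.Agent.Lib.Helper83.TopPush.Rf f).obj K) ≪≫
        (Groth.Agent.Lib.Helper83.DerivedPush.shiftIso (Groth.Agent.Lib.Helper83.TopPush.adj₀ f)
          (Groth.Agent.Lib.Helper83.TopPush.hasKInjRes X) K 0).symm
    have hM₀ : M₀.IsGE 0 := DerivedCategory.TStructure.t.isGE_of_iso e0 0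
    let F : CohTop.Ab Y := (DerivedCategory.homologyFunctor (CohTop.Ab Y) 0).obj M₀
    let eqv : ∀ V : Opens Y, CohCx.HDU K 0 ((Opens.map f).obj V) ≃ F.obj.obj (Opposite.op V) := fun V =>
      (Groth.Agent.Lib.Helper83.TopPush.δ f V K₀).trans
        ((Equiv.ofBijective _ (Groth.Agent.Lib.Helper83.H0Bij.h0_bijective M₀
          (Groth.Agent.Lib.Helper5.SiteCoh.freeSheaf (Opens.grothendieckTopology Y) V))).trans
          (Groth.Agent.Lib.Helper5.SiteCoh.β V F))
    have hnat : ∀ {V V' : Opens Y} (k : V' ⟶ V) (φ : CohCx.HDU K 0 ((Opens.map f).obj V)),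
        eqv V' ((DerivedCategory.singleFunctor (CohTop.Ab X) 0).map
          (Groth.Agent.Lib.Helper5.SiteCoh.freeMap (Opens.grothendieckTopology X) ((Opens.map f).map k)) ≫ φ) =
        F.obj.map k.op (eqv V φ) := by
      intro V V' k φ
      change Groth.Agent.Lib.Helper5.SiteCoh.β V' F (Groth.Agent.Lib.Helper83.SingleHom.h0
        (Groth.Agent.Lib.Helper83.TopPush.δ f V' K₀ _)) = F.obj.map k.op
          (Groth.Agent.Lib.Helper5.SiteCoh.β V F (Groth.Agent.Lib.Helper83.SingleHom.h0
            (Groth.Agent.Lib.Helper83.TopPush.δ f V K₀ φ)))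
      rw [Groth.Agent.Lib.Helper83.TopPush.δ_naturality, Groth.Agent.Lib.Helper83.SingleHom.h0_precomp,
        Groth.Agent.Lib.Helper5.SiteCoh.β_freeMap]
    rw [Presheaf.isSheaf_iff_isSheaf_forget _ _ (forget AddCommGrpCat.{u})]
    let e : ((Opens.map f).op ⋙ CohCx.HDUPresheaf K 0) ⋙ forget AddCommGrpCat.{u} ≅
        F.obj ⋙ forget AddCommGrpCat.{u} :=
      NatIso.ofComponents (fun V => (eqv V.unop).toIso) (by
        intro V V' k
        ext φ
        exact hnat k.unop φ)
    rw [Presheaf.isSheaf_of_iso_iff e, ← Presheaf.isSheaf_iff_isSheaf_forget]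
    exact F.property
end Groth.Agent.S0883
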