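import Groth.Statements.S0937
import Groth.Agent.Lib.Helper5.AcyclicPush
import Groth.Agent.Lib.Helper5.SiteBdry

set_option autoImplicit false
universe u
open CategoryTheory
open CohSite

namespace Groth.Agent.S0937

open Opposite CategoryTheory.Limits Abelian Groth.Agent.Lib.Helper5 Groth.Agent.Lib.Helper5.SiteCoh

variable {C D : Type u} [SmallCategory C] [SmallCategory D]
  (J : GrothendieckTopology C) (K : GrothendieckTopology D) (u : C ⥤ D)
  [u.IsContinuous J K] [u.IsCocontinuous J K]

instance : PreservesColimitsOfSize.{u, u} (CohSite.push K J u) :=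
  (Functor.sheafAdjunctionCocontinuous u AddCommGrpCat.{u} J K).leftAdjoint_preservesColimits

instance : PreservesLimitsOfSize.{u, u} (CohSite.push K J u) :=
  (Functor.sheafPullbackConstruction.sheafAdjunctionContinuous u AddCommGrpCat.{u} J
    K).rightAdjoint_preservesLimits

variable [HasPullbacks C] [PreservesLimitsOfShape WalkingCospan u]

omit [HasPullbacks C] [PreservesLimitsOfShape WalkingCospan u] in
/-- the image under `g⁻¹` of the short exact sequence `0 ⟶ F ⟶ I ⟶ Q ⟶ 0` -/
lemma shortExact_push_sesInj (F : Ab K) : ((sesInj F).map (CohSite.push K J u)).ShortExact :=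
  (sesInj_shortExact F).map_of_exact (CohSite.push K J u)

instance (F : Ab K) (U : C) (n : ℕ) :
    Subsingleton (Ext.{u} (freeSheaf J U) ((sesInj F).map (CohSite.push K J u)).X₂ (n + 1)) :=
  subsingleton_HU_push_injective J K u (sesInj F).X₂ U n

/-- the comparison in all degrees -/
theorem main (U : C) (p : ℕ) (F : Ab K) :
    Nonempty (Ext.{u} (freeSheaf J U) ((CohSite.push K J u).obj F) p ≃+
      Ext.{u} (freeSheaf K (u.obj U)) F p) := by
  cases p with
  | zero =>
    exact ⟨(Ext.addEquiv₀.trans (βAdd U ((CohSite.push K J u).obj F))).trans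
      ((βAdd (u.obj U) F).symm.trans Ext.addEquiv₀.symm)⟩
  | succ p =>
    induction p generalizing F with
    | zero =>
      have hS := sesInj_shortExact F
      have hS' := shortExact_push_sesInj J K u F
      have : Subsingleton (Ext.{u} (freeSheaf J U)
          ((sesInj F).map (CohSite.push K J u)).X₂ 1) := inferInstance
      have : Subsingleton (Ext.{u} (freeSheaf K (u.obj U)) (sesInj F).X₂ 1) :=
        subsingleton_of_forall_eq 0 fun x => Ext.eq_zero_of_injective x
      exact ⟨addEquivOfKerEq (bdryV hS' U) (bdryV hS (u.obj U)) (bdryV_surjective hS' U)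
        (bdryV_surjective hS (u.obj U)) ((bdryV_ker hS' U).trans (bdryV_ker hS (u.obj U)).symm)⟩
    | succ n ih =>
      have hS := sesInj_shortExact F
      have hS' := shortExact_push_sesInj J K u F
      obtain ⟨e⟩ := ih (sesInj F).X₃
      exact ⟨((extShiftAddEquivOfSubsingleton hS' (freeSheaf J U) n).symm.trans e).trans
        (extShiftAddEquiv hS (freeSheaf K (u.obj U)) n)⟩

/-- Part (1), for a single abelian sheaf: let u : C -> D be a functor between sites which is continuous
(preserving coverings and commuting with fibre products, which exist in C) and cocontinuous, F an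
abelian sheaf on D and U an object of C. Then H^p(U, g^{-1}F) ≅ H^p(u(U), F) for all p, where
g^{-1}F is the sheaf V ↦ F(u(V)). -/
theorem result {C D : Type u} [SmallCategory C] [SmallCategory D]
    [Limits.HasPullbacks C] (J : GrothendieckTopology C) (K : GrothendieckTopology D) (u : C ⥤ D)
    [u.IsContinuous J K] (hu : CoverPreserving J K u) [Limits.PreservesLimitsOfShape Limits.WalkingCospan u]
    [u.IsCocontinuous J K]
    (F : Sheaf K AddCommGrpCat.{u}) (U : C) (p : ℕ) :
    Nonempty (CohSite.HU ((CohSite.push K J u).obj F) p U ≃+ CohSite.HU F p (u.obj U)) := by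
  exact main J K u U p F

end Groth.Agent.S0937
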