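import Groth.Statements.S0886
import Groth.Agent.S0937
import Groth.Agent.S0463

set_option autoImplicit false
universe u
open CategoryTheory
open CohSite

namespace Groth.Agent.S0886

open Opposite CategoryTheory.Limits Abelian Groth.Agent.Lib.Helper5 Groth.Agent.Lib.Helper5.SiteCoh

section

variable {C : Type u} [SmallCategory C] (J : GrothendieckTopology C) {T : C} (hT : IsTerminal T)

/-- the constant sheaf `ℤ` -/
noncomputable abbrev cZ : Ab J :=
  (constantSheaf J AddCommGrpCat.{u}).obj (AddCommGrpCat.of (ULift ℤ))

/-- morphisms from the constant sheaf `ℤ` are sections over the terminal object -/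
noncomputable def γ (G : Ab J) : (cZ J ⟶ G) ≃ G.obj.obj (op T) :=
  ((constantSheafAdj J AddCommGrpCat.{u} hT).homEquiv (AddCommGrpCat.of (ULift ℤ)) G).trans
    (AddCommGrpCat.uliftZMultiplesAddEquiv _).toEquiv

lemma γ_naturality {F G : Ab J} (φ : F ⟶ G) (g : cZ J ⟶ F) :
    γ J hT G (g ≫ φ) = φ.hom.app (op T) (γ J hT F g) := by
  dsimp only [γ, Equiv.trans_apply]
  rw [Adjunction.homEquiv_naturality_right]
  rfl

/-- the constant sheaf `ℤ` is the free sheaf on the terminal object -/
noncomputable def constIsoFree : cZ J ≅ freeSheaf J T :=
  S0463.isoOfCorepresent (T := fun G : Ab J => G.obj.obj (op T))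
    (fun φ x => φ.hom.app _ x) (γ J hT) (β T) (γ_naturality J hT) (β_naturality T)

end

open CategoryTheory.Limits in
/-- Let u : C → D be a functor between sites which is cocontinuous, continuous (it sends coverings to
coverings and commutes with fibre products, which exist in C), fully faithful, and sends a final
object of C to a final object of D. For an abelian sheaf F on D let g^{-1}F be the sheaf U ↦ F(u(U))
on C. Then H^p(C, g^{-1}F) ≅ H^p(D, F) for all p. This is the comparison of global cohomology; the
comparison object by object holds under weaker hypotheses and is a separate statement. -/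
theorem result {C D : Type u} [SmallCategory C] [SmallCategory D]
    (J : GrothendieckTopology C) (K : GrothendieckTopology D) (u : C ⥤ D)
    [u.IsCocontinuous J K] [u.IsContinuous J K] (hu : CoverPreserving J K u) [u.Full] [u.Faithful]
    [HasPullbacks C] [PreservesLimitsOfShape WalkingCospan u]
    [HasTerminal C] [PreservesLimit (Functor.empty.{0} C) u]
    (F : Sheaf K AddCommGrpCat.{u}) (p : ℕ) :
    Nonempty (Sheaf.H ((CohSite.push K J u).obj F) p ≃+ Sheaf.H F p) := by
  have hT : IsTerminal (⊤_ C) := terminalIsTerminal
  have hT' : IsTerminal (u.obj (⊤_ C)) := hT.isTerminalObj u _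
  obtain ⟨e⟩ := S0937.main J K u (⊤_ C) p F
  exact ⟨((S0463.extIsoLeft (constIsoFree J hT) ((CohSite.push K J u).obj F) p).trans e).trans
    (S0463.extIsoLeft (constIsoFree K hT') F p).symm⟩

end Groth.Agent.S0886
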