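import Groth.Statements.S0892
import Mathlib
import Groth.Agent.Lib.Helper30.LocFreeHomology
import Groth.Agent.Lib.Helper30.PerfRestrict

set_option autoImplicit false
universe u
open CategoryTheory
attribute [local instance] HasDerivedCategory.standard
open DCoh

namespace Groth.Agent.S0892

open Groth.Agent.Lib.Helper30.LocFreeHomology Groth.Agent.Lib.Helper30.PerfRestrict
  Groth.Agent.Lib.Helper30.StrictPerfHomology Groth.Agent.Lib.Helper49 Groth.Agent.Lib.Helper6

open AlgebraicGeometry in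
/-- near a point where all cohomology sheaves of a perfect object have free stalks, they are all
finite locally free -/
theorem exists_open_isFinLocFree {X : Scheme.{u}} (E : DCoh.D X) (hE : DCoh.IsPerfect E) (x : X)
    (hfree : ∀ i : ℤ, Module.Free (X.presheaf.stalk x) ((DCoh.HD E i).presheaf.stalk x)) :
    ∃ W : X.Opens, x ∈ W ∧ ∀ i : ℤ, FlatMod.IsFinLocFree ((DCoh.HD E i).restrict W.ι) := by
  rw [isPerfect_iff] at hE
  obtain ⟨V, hxV, P, hP, ⟨f⟩⟩ := hE x
  have eH : ∀ i : ℤ, P.homology i ≅ (DCoh.HD E i).restrict V.ι := fun i =>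
    ((DerivedCategory.homologyFunctorFactors _ i).app P).symm ≪≫
      (DerivedCategory.homologyFunctor _ i).mapIso f.symm ≪≫
      (ExactDC.homologyIso (Scheme.Modules.restrictFunctor V.ι) i).app E
  have hfreeP : ∀ i : ℤ, Module.Free ((V : Scheme.{u}).presheaf.stalk (⟨x, hxV⟩ : V))
      ↑((P.homology i).presheaf.stalk (⟨x, hxV⟩ : V)) := fun i => by
    have h1 : Module.Free ((V : Scheme.{u}).presheaf.stalk (⟨x, hxV⟩ : V))
        ↑(((DCoh.HD E i).restrict V.ι).presheaf.stalk (⟨x, hxV⟩ : V)) :=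
      (free_stalk_restrict_iff V.ι (DCoh.HD E i) ⟨x, hxV⟩).mpr (hfree i)
    exact Module.Free.of_equiv (stalkEquivOfIso (eH i).symm ⟨x, hxV⟩)
  obtain ⟨W', hxW', hW'⟩ := exists_open_isFinLocFree_homology P hP (⟨x, hxV⟩ : V) hfreeP
  refine ⟨(W'.ι ≫ V.ι).opensRange, ⟨⟨⟨x, hxV⟩, hxW'⟩, rfl⟩, fun i => ?_⟩
  have h2 : FlatMod.IsFinLocFree (((DCoh.HD E i).restrict V.ι).restrict W'.ι) :=
    Groth.Agent.Lib.Helper14.isFinLocFree_of_iso
      ((Scheme.Modules.restrictFunctor W'.ι).mapIso (eH i)) (hW' i)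
  have h3 : FlatMod.IsFinLocFree ((DCoh.HD E i).restrict (W'.ι ≫ V.ι)) :=
    Groth.Agent.Lib.Helper14.isFinLocFree_of_iso
      ((Scheme.Modules.restrictFunctorComp W'.ι V.ι).app (DCoh.HD E i)).symm h2
  exact isFinLocFree_restrict_of_fac (W'.ι ≫ V.ι).isoOpensRange.inv (W'.ι ≫ V.ι)
    (W'.ι ≫ V.ι).opensRange.ι (by simp) _ h3

open AlgebraicGeometry in
/-- stalks of a module which is finite locally free on `W` are finite free at the points of `W` -/
theorem free_finite_stalk_of_restrict {X : Scheme.{u}} (M : X.Modules) (W : X.Opens)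
    (h : FlatMod.IsFinLocFree (M.restrict W.ι)) (y : X) (hy : y ∈ W) :
    Module.Free (X.presheaf.stalk y) (M.presheaf.stalk y) ∧
      Module.Finite (X.presheaf.stalk y) (M.presheaf.stalk y) := by
  have h1 := free_stalk_of_isFinLocFree (M.restrict W.ι) h (⟨y, hy⟩ : W)
  have h2 := finitePresentation_stalk_of_isFinitePresentation (M.restrict W.ι)
    (isFinitePresentation_of_isFinLocFree _ h) (⟨y, hy⟩ : W)
  have h3 : Module.Finite ((W : Scheme.{u}).presheaf.stalk (⟨y, hy⟩ : W))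
      ↑((M.restrict W.ι).presheaf.stalk (⟨y, hy⟩ : W)) := inferInstance
  exact ⟨(free_stalk_restrict_iff W.ι M ⟨y, hy⟩).mp h1, (finite_stalk_restrict_iff W.ι M ⟨y, hy⟩).mp h3⟩

open AlgebraicGeometry in
/-- Let X be a scheme and E a perfect object of D(O_X). Then the set U of points x such that for every i
the stalk H^i(E)_x is a finite free O_{X,x}-module is open, all cohomology sheaves H^i(E) are finite
locally free over U, and every open W over which all H^i(E) are finite locally free is contained in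
U. (Stated for schemes; the published statement is for ringed spaces all of whose stalks of the
structure sheaf are local rings.) -/
theorem result {X : Scheme.{u}} (E : DCoh.D X) (hE : DCoh.IsPerfect E) :
    ∃ U : X.Opens,
      (U : Set X) = {x : X | ∀ i : ℤ, Module.Free (X.presheaf.stalk x) ((DCoh.HD E i).presheaf.stalk x) ∧
        Module.Finite (X.presheaf.stalk x) ((DCoh.HD E i).presheaf.stalk x)} ∧
      (∀ i : ℤ, FlatMod.IsFinLocFree ((DCoh.HD E i).restrict U.ι)) ∧
      ∀ W : X.Opens, (∀ i : ℤ, FlatMod.IsFinLocFree ((DCoh.HD E i).restrict W.ι)) → W ≤ U := by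
  let S : Set X := {x : X | ∀ i : ℤ, Module.Free (X.presheaf.stalk x) ((DCoh.HD E i).presheaf.stalk x) ∧
        Module.Finite (X.presheaf.stalk x) ((DCoh.HD E i).presheaf.stalk x)}
  have hN : ∀ W : X.Opens, (∀ i : ℤ, FlatMod.IsFinLocFree ((DCoh.HD E i).restrict W.ι)) →
      (W : Set X) ⊆ S := fun W hW y hy i =>
    free_finite_stalk_of_restrict (DCoh.HD E i) W (hW i) y hy
  have hM : ∀ x ∈ S, ∃ W : X.Opens, x ∈ W ∧
      ∀ i : ℤ, FlatMod.IsFinLocFree ((DCoh.HD E i).restrict W.ι) := fun x hx =>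
    exists_open_isFinLocFree E hE x (fun i => (hx i).1)
  have hopen : IsOpen S := by
    rw [isOpen_iff_forall_mem_open]
    intro x hx
    obtain ⟨W, hxW, hW⟩ := hM x hx
    exact ⟨W, hN W hW, W.2, hxW⟩
  refine ⟨⟨S, hopen⟩, rfl, fun i => ?_, fun W hW => hN W hW⟩
  let U : X.Opens := ⟨S, hopen⟩
  apply isFinLocFree_of_forall_restrict
  intro y
  obtain ⟨W, hyW, hW⟩ := hM y.1 y.2
  let V' : (U : Scheme.{u}).Opens := U.ι ⁻¹ᵁ W
  have hyV' : y ∈ V' := hyW
  have hrange : Set.range (V'.ι ≫ U.ι) ⊆ Set.range W.ι := by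
    rintro _ ⟨z, rfl⟩
    rw [Scheme.Opens.range_ι]
    exact z.2
  let g : (V' : Scheme.{u}) ⟶ (W : Scheme.{u}) := IsOpenImmersion.lift W.ι (V'.ι ≫ U.ι) hrange
  have hg : g ≫ W.ι = V'.ι ≫ U.ι := IsOpenImmersion.lift_fac _ _ _
  have : IsOpenImmersion g := IsOpenImmersion.of_comp g W.ι
  refine ⟨V', hyV', ?_⟩
  have h1 := isFinLocFree_restrict_of_fac g W.ι (V'.ι ≫ U.ι) hg (DCoh.HD E i) (hW i)
  exact Groth.Agent.Lib.Helper14.isFinLocFree_of_iso
    ((Scheme.Modules.restrictFunctorComp V'.ι U.ι).app (DCoh.HD E i)) h1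

end Groth.Agent.S0892
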