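import Groth.Statements.S0894


set_option autoImplicit false
universe u
open CategoryTheory
open Hyper

namespace Groth.Agent.S0894

open Opposite in
/-- For a hypercovering K of an object X of a site with fibre products (a simplicial semi-representable
object over X; coskeleta are assumed to exist): (1) for each n the family K_n is a covering of X,
and (2) every face map d_i : K_{n+1} -> K_n is a covering morphism of semi-representable objects. -/
theorem result {C : Type u} [SmallCategory C] [Limits.HasPullbacks C]
    (J : GrothendieckTopology C) (X : C) (K : SimplicialObject (Limits.FormalCoproduct.{u} (Over X)))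
    [∀ (n : ℕ) (F : (SimplexCategory.Truncated n)ᵒᵖ ⥤ Limits.FormalCoproduct.{u} (Over X)),
      (SimplexCategory.Truncated.inclusion n).op.HasRightKanExtension F]
    (hK : Hyper.IsHypercovering J X K) :
    (∀ n : ℕ, Sieve.ofArrows (fun i => ((K.obj (op (SimplexCategory.mk n))).obj i).left)
      (fun i => ((K.obj (op (SimplexCategory.mk n))).obj i).hom) ∈ J X) ∧
    ∀ (n : ℕ) (i : Fin (n + 2)), Hyper.IsSRCovering (J.over X) (K.δ i) := by
  constructor
  · intro n
    induction n with
    | zero => exact hK.1
    | succ n ih =>
      refine J.superset_covering ?_ ih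
      rw [Sieve.ofArrows, Sieve.generate_le_iff]
      rintro Y f ⟨i⟩
      let s := K.σ (0 : Fin (n + 1))
      refine ⟨_, (s.φ i).left, ((K.obj (op (SimplexCategory.mk (n + 1)))).obj (s.f i)).hom,
        Presieve.ofArrows.mk (s.f i), Over.w (s.φ i)⟩
  · intro n i
    -- every face map is a split epimorphism
    have key : ∀ {A B : Limits.FormalCoproduct.{u} (Over X)} (f : A ⟶ B) (s : B ⟶ A),
        s ≫ f = 𝟙 B → Hyper.IsSRCovering (J.over X) f := by
      intro A B f s hs j
      obtain ⟨h1, h2⟩ := (Limits.FormalCoproduct.hom_ext_iff _ _).1 hs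
      have hj : f.f (s.f j) = j := congrFun h1 j
      have h3 := h2 j
      have : Sieve.ofArrows (fun i : {i : A.I // f.f i = j} => A.obj i.1)
          (fun i => f.φ i.1 ≫ eqToHom (congrArg B.obj i.2)) = ⊤ := by
        rw [← Sieve.id_mem_iff_eq_top]
        refine ⟨_, s.φ j, _, Presieve.ofArrows.mk (⟨s.f j, hj⟩ : {i : A.I // f.f i = j}), ?_⟩
        have h4 : s.φ j ≫ f.φ (s.f j) ≫ eqToHom (congrArg B.obj hj) = 𝟙 _ := by
          simpa using h3
        exact h4
      rw [this]
      exact (J.over X).top_mem _
    induction i using Fin.cases with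
    | zero =>
      refine key _ (K.σ (0 : Fin (n + 1))) ?_
      have := SimplicialObject.δ_comp_σ_self (X := K) (i := (0 : Fin (n + 1)))
      simpa using this
    | succ j =>
      exact key _ (K.σ j) (SimplicialObject.δ_comp_σ_succ (X := K) (i := j))

end Groth.Agent.S0894
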