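import Groth.Statements.S0898

set_option autoImplicit false
universe u
open CategoryTheory
open Hyper

namespace Groth.Agent.S0898

open CategoryTheory.Limits

variable {C : Type u} [SmallCategory C] (J : GrothendieckTopology C)

/-- The sieve on `L.obj j` generated by the components of `f : K ⟶ L` lying over `j`. -/
def srSieve {K L : FormalCoproduct.{u} C} (f : K ⟶ L) (j : L.I) : Sieve (L.obj j) where
  arrows Y h := ∃ (i : K.I) (e : f.f i = j) (u : Y ⟶ K.obj i),
    h = u ≫ f.φ i ≫ eqToHom (congrArg L.obj e)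
  downward_closed := by
    rintro Y Z h ⟨i, e, u, rfl⟩ v
    exact ⟨i, e, v ≫ u, by simp⟩

lemma srSieve_eq {K L : FormalCoproduct.{u} C} (f : K ⟶ L) (j : L.I) :
    Sieve.ofArrows (fun i : {i : K.I // f.f i = j} => K.obj i.1)
      (fun i => f.φ i.1 ≫ eqToHom (congrArg L.obj i.2)) = srSieve f j := by
  ext Y h
  rw [Sieve.mem_ofArrows_iff]
  constructor
  · rintro ⟨⟨i, e⟩, u, rfl⟩
    exact ⟨i, e, u, rfl⟩
  · rintro ⟨i, e, u, rfl⟩
    exact ⟨⟨i, e⟩, u, rfl⟩

lemma isSRCovering_iff {K L : FormalCoproduct.{u} C} (f : K ⟶ L) :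
    Hyper.IsSRCovering J f ↔ ∀ j : L.I, srSieve f j ∈ J (L.obj j) := by
  unfold Hyper.IsSRCovering
  simp only [srSieve_eq]

lemma isSRCovering_comp {K L M : FormalCoproduct.{u} C} (f : K ⟶ L) (g : L ⟶ M)
    (hf : Hyper.IsSRCovering J f) (hg : Hyper.IsSRCovering J g) :
    Hyper.IsSRCovering J (f ≫ g) := by
  rw [isSRCovering_iff] at hf hg ⊢
  intro m
  refine J.transitive (hg m) _ ?_
  rintro Y h ⟨l, rfl, u, rfl⟩
  refine J.superset_covering ?_ (J.pullback_stable u (hf l))
  rintro W v ⟨i, rfl, u', hu'⟩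
  refine ⟨i, rfl, u', ?_⟩
  simp only [eqToHom_refl, Category.comp_id] at hu' ⊢
  rw [← Category.assoc, hu']
  simp

lemma isSRCovering_of_iso {K' K : FormalCoproduct.{u} C} (e : K' ≅ K) :
    Hyper.IsSRCovering J e.hom := by
  rw [isSRCovering_iff]
  intro j
  have h := (FormalCoproduct.hom_ext_iff' _ _).1 e.inv_hom_id j
  obtain ⟨h₁, h₂⟩ := h
  have : (srSieve e.hom j).arrows (𝟙 _) := by
    refine ⟨e.inv.f j, h₁, e.inv.φ j, ?_⟩
    exact (h₂.symm.trans (by simp)).symm.symm
  rw [(Sieve.id_mem_iff_eq_top).1 this]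
  exact J.top_mem _

lemma isSRCovering_pullbackCone_fst [HasPullbacks C] {K L L' : FormalCoproduct.{u} C}
    (f : K ⟶ L) (g : L' ⟶ L) (hf : Hyper.IsSRCovering J f) :
    Hyper.IsSRCovering J
      (FormalCoproduct.pullbackCone g f (fun _ => pullback.cone _ _)).fst := by
  rw [isSRCovering_iff] at hf ⊢
  intro j'
  refine J.superset_covering ?_ (J.pullback_stable (g.φ j') (hf (g.f j')))
  rintro Y v ⟨i, e, u, hu⟩
  let idx : Function.Pullback g.f f.f := ⟨(j', i), e.symm⟩
  have hcond : v ≫ (g.φ j' ≫ eqToHom (by rw [e])) = u ≫ f.φ i := by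
    rw [← Category.assoc, hu]
    simp
  refine ⟨idx, rfl, pullback.lift v u hcond, ?_⟩
  simp [idx]
  exact (pullback.lift_fst v u hcond).symm

/-- Parts (1) and (2), about covering morphisms between semi-representable objects (formal coproducts)
of a site: (1) the composite of two covering morphisms is a covering, and (2) for a site with fibre
products, the base change of a covering K -> L along any L' -> L (which exists) is a covering L' x_L
K -> L'. -/
theorem result {C : Type u} [SmallCategory C] (J : GrothendieckTopology C) :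
    (∀ {K L M : FormalCoproduct.{u} C} (f : K ⟶ L) (g : L ⟶ M),
      Hyper.IsSRCovering J f → Hyper.IsSRCovering J g → Hyper.IsSRCovering J (f ≫ g)) ∧
    (∀ [HasPullbacks C] {K L L' : FormalCoproduct.{u} C} (f : K ⟶ L) (g : L' ⟶ L),
      Hyper.IsSRCovering J f → HasPullback g f ∧ ∀ [HasPullback g f], Hyper.IsSRCovering J (pullback.fst g f)) := by
  refine ⟨fun f g hf hg => isSRCovering_comp J f g hf hg, ?_⟩
  intro _ K L L' f g hf
  refine ⟨inferInstance, ?_⟩
  intro _
  let P := FormalCoproduct.pullbackCone g f (fun _ => pullback.cone _ _)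
  have hP : IsLimit P := FormalCoproduct.isLimitPullbackCone g f _ (fun _ => pullback.isLimit _ _)
  let e : pullback g f ≅ P.pt := (pullback.isLimit g f).conePointUniqueUpToIso hP
  have he : pullback.fst g f = e.hom ≫ P.fst := by
    have := (pullback.isLimit g f).conePointUniqueUpToIso_hom_comp hP WalkingCospan.left
    exact this.symm
  rw [he]
  exact isSRCovering_comp J _ _ (isSRCovering_of_iso J e) (isSRCovering_pullbackCone_fst J f g hf)

end Groth.Agent.S0898
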