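import Groth.Statements.S0902
import Groth.Agent.Lib.Helper80.GV.Core
import Groth.Agent.Lib.Helper80.GV.Closure

set_option autoImplicit false
universe u
open CategoryTheory
open CohTop

namespace Groth.Agent.S0902
set_option linter.style.haveILetI false


open TopologicalSpace in
/-- Let X be a quasi-compact space whose quasi-compact opens form a basis stable under pairwise
intersections, and d ≥ 0. If H^p(X, j_!Z_U) = 0 for all p > d and every quasi-compact open U (j_!Z_U
the extension by zero of the constant sheaf Z, i.e. the free abelian sheaf on U), then H^p(X, F) = 0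
for all p > d and every abelian sheaf F. -/
theorem result {X : TopCat.{u}} [CompactSpace X]
    [PrespectralSpace X] [QuasiSeparatedSpace X] (d : ℕ)
    (h : ∀ (U : Opens X), IsCompact (U : Set X) → ∀ p : ℕ, d < p →
      Subsingleton (CohTop.H (CohCx.freeSheaf (Opens.grothendieckTopology X) U) p))
    (F : CohTop.Ab X) (p : ℕ) (hp : d < p) : Subsingleton (CohTop.H F p) := by
  have hP : Groth.Agent.Lib.Helper80.GV.DevClass
      (fun F : CohTop.Ab X => Groth.Agent.Lib.Helper80.GV.Van (d + 1) F) :=
    { iso := fun e hA => Groth.Agent.Lib.Helper80.GV.Van.of_iso e hA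
      ext := fun hS h₁ h₃ => Groth.Agent.Lib.Helper80.GV.Van.ext hS h₁ h₃
      coker := fun hS h₁ h₂ => Groth.Agent.Lib.Helper80.GV.Van.coker hS h₁ h₂
      colim := fun D c hc hD => Groth.Agent.Lib.Helper80.GV.Van.colimit D c hc hD }
  have key := Groth.Agent.Lib.Helper80.GV.sheaf_devissage hP
    (fun Z hZ => Groth.Agent.Lib.Helper80.GV.Van.of_isZero hZ)
    (fun U hU q hq => h U hU q hq) F
  exact key p hp

end Groth.Agent.S0902
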