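import Groth.Statements.S3053
import Groth.Agent.Lib.Helper74.Deligne.Tower

set_option autoImplicit false
open CategoryTheory CategoryTheory.Limits Opposite
universe u
open ToposFin

namespace Groth.Agent.S3053

/-- Let C be a small category with finite limits and J a Grothendieck topology on C such that every
covering sieve of every object contains finitely many arrows which already generate a covering
sieve. Then the site (C, J) has enough points: there is a small conservative family of points of its
topos of sheaves. The published statement is for locally coherent topoi and reduces to this case. -/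
theorem result (C : Type u) [SmallCategory C] [HasFiniteLimits C]
    (J : GrothendieckTopology C)
    (hJ : ∀ (U : C) (S : Sieve U), S ∈ J U →
      ∃ (n : ℕ) (V : Fin n → C) (g : ∀ k, V k ⟶ U), (∀ k, S (g k)) ∧ Sieve.ofArrows V g ∈ J U) :
    GrothendieckTopology.HasEnoughPoints.{u} J := by
  classical
  have hJ' : Groth.Agent.Lib.Helper74.Deligne.Finitary J := hJ
  let pt : ∀ (X₀ : C) (S₀ : Sieve X₀), S₀ ∉ J X₀ → GrothendieckTopology.Point.{u} J :=
    fun X₀ S₀ h₀ =>
      { fiber := Groth.Agent.Lib.Helper74.Deligne.Phi hJ' h₀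
        isCofiltered := Functor.isCofiltered_elements _
        initiallySmall := initiallySmall_of_essentiallySmall _
        jointly_surjective := fun R hR x =>
          Groth.Agent.Lib.Helper74.Deligne.Phi_jointly_surjective hJ' h₀ R hR x }
  let P : ObjectProperty (GrothendieckTopology.Point.{u} J) :=
    fun Φ => ∃ (X₀ : C) (S₀ : Sieve X₀) (h₀ : S₀ ∉ J X₀), Φ = pt X₀ S₀ h₀
  refine ⟨⟨P, ?_, ?_⟩⟩
  · let ι : Type u := Σ (X₀ : C), {S₀ : Sieve X₀ // S₀ ∉ J X₀}
    let φ : ι → Subtype P := fun a => ⟨pt a.1 a.2.1 a.2.2, ⟨a.1, a.2.1, a.2.2, rfl⟩⟩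
    have hφ : Function.Surjective φ := by
      rintro ⟨Φ, X₀, S₀, h₀, rfl⟩
      exact ⟨⟨X₀, S₀, h₀⟩, rfl⟩
    exact small_of_surjective hφ
  · refine ObjectProperty.IsConservativeFamilyOfPoints.mk' (fun X S hS => ?_)
    by_contra h₀
    obtain ⟨Y, g, hg, y, hy⟩ := hS ⟨pt X S h₀, ⟨X, S, h₀, rfl⟩⟩
      (Groth.Agent.Lib.Helper74.Deligne.basePt hJ' h₀)
    exact Groth.Agent.Lib.Helper74.Deligne.basePt_not_hit hJ' h₀ g hg y hy

end Groth.Agent.S3053
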