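import Groth.Statements.S0912
import Groth.Agent.Lib.Helper28.TorAmpFlat

set_option autoImplicit false
universe u
open CategoryTheory
attribute [local instance] HasDerivedCategory.standard
open DCoh



namespace Groth.Agent.S0912

open AlgebraicGeometry in
/-- For E in D(O_X) and integers a ≤ b, E has tor-amplitude in [a, b] (all H^i(E ⊗^L F), F an
O_X-module, vanish for i outside [a, b]; derived tensor products under their existence binder) if
and only if E is represented by a complex of flat O_X-modules which is zero outside [a, b]. The
existence of the derived tensor product – ⊗^L G for every O_X-module G is assumed (hypothesis hL). -/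
theorem result {X : Scheme.{u}} (E : DCoh.D X) (a b : ℤ) (hab : a ≤ b)
    (hL : ∀ G : X.Modules, DCoh.HasLTensorMod G) :
    DCoh.HasTorAmplitudeIn a b E ↔ DCoh.HasFlatAmplitudeIn a b E := by
  constructor
  · intro h
    exact Groth.Agent.Lib.Helper28.TorAmpFlat.hasFlatAmplitudeIn_of_hasTorAmplitudeIn hL E a b hab h
  · intro h
    exact Groth.Agent.Lib.Helper28.TorAmp.hasTorAmplitudeIn_of_hasFlatAmplitudeIn E a b h

end Groth.Agent.S0912
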