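import Groth.Statements.S0917
-- import your own Groth.Agent.* helpers here
import Groth.Agent.Lib.Helper32.DCoprod
import Groth.Agent.Lib.Helper32.RDPlus

set_option autoImplicit false
universe v u
open CategoryTheory
open CohDer

namespace Groth.Agent.S0917

section
open CategoryTheory.Limits CochainComplex HomComplex Groth.Agent.Lib.Helper32.DCoprod
open Pretriangulated

variable {A : Type u} [Category.{v} A] [Abelian A]

/-- `inr φ` is a quasi-isomorphism iff the source of `φ` is acyclic. -/
lemma quasiIso_inr_iff_acyclic {K L : CochainComplex A ℤ} (g : K ⟶ L) :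
    QuasiIso (mappingCone.inr g) ↔ K.Acyclic := by
  have h := (HomotopyCategory.subcategoryAcyclic A).trW_iff_of_distinguished' _
    (HomotopyCategory.mappingCone_triangleh_distinguished g)
  rw [← HomotopyCategory.quasiIso_eq_trW_subcategoryAcyclic] at h
  have h' : HomotopyCategory.quasiIso A (ComplexShape.up ℤ)
      ((HomotopyCategory.quotient A (ComplexShape.up ℤ)).map (mappingCone.inr g)) ↔
      HomotopyCategory.subcategoryAcyclic A
        ((HomotopyCategory.quotient A (ComplexShape.up ℤ)).obj K) := h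
  rw [HomotopyCategory.quotient_map_mem_quasiIso_iff,
    HomotopyCategory.quotient_obj_mem_subcategoryAcyclic_iff_acyclic] at h'
  exact h'

lemma acyclic_sigmaCx {J : Type v} [HasColimitsOfShape (Discrete J) A]
    [HasExactColimitsOfShape (Discrete J) A] (X : J → CochainComplex A ℤ)
    (hX : ∀ j, (X j).Acyclic) : (sigmaCx X).Acyclic := by
  have : ∀ j, QuasiIso (0 : X j ⟶ X j) := fun j => by
    rw [quasiIso_iff]
    intro i
    exact (quasiIsoAt_iff_exactAt _ i (hX j i)).2 (hX j i)
  have h := quasiIso_sigmaMap (fun j => (0 : X j ⟶ X j))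
  have h0 : sigmaMap (fun j => (0 : X j ⟶ X j)) = 0 := by
    apply sigma_hom_ext
    intro j
    simp
  rw [h0, quasiIso_iff] at h
  intro i
  have hi := h i
  rw [quasiIsoAt_iff_isIso_homologyMap, HomologicalComplex.homologyMap_zero] at hi
  rw [HomologicalComplex.exactAt_iff_isZero_homology, IsZero.iff_id_eq_zero]
  rw [← cancel_mono (0 : (sigmaCx X).homology i ⟶ (sigmaCx X).homology i)]
  simp

variable [IsGrothendieckAbelian.{v} A] {ι : Type v} (K : ι → CochainComplex A ℤ)

/-- the index type -/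
abbrev Idx (M : CochainComplex A ℤ) : Type v := Σ i : ι, (K i ⟶ M)

noncomputable def Scx (M : CochainComplex A ℤ) : CochainComplex A ℤ :=
  sigmaCx (fun p : Idx K M => K p.1)

noncomputable def Sdesc (M : CochainComplex A ℤ) : Scx K M ⟶ M :=
  sigmaDesc (fun p => p.2)

noncomputable def Sι {M : CochainComplex A ℤ} (i : ι) (w : K i ⟶ M) : K i ⟶ Scx K M :=
  sigmaι (fun p : Idx K M => K p.1) ⟨i, w⟩

@[reassoc (attr := simp)]
lemma Sι_Sdesc {M : CochainComplex A ℤ} (i : ι) (w : K i ⟶ M) :
    Sι K i w ≫ Sdesc K M = w :=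
  ι_sigmaDesc (X := fun p : Idx K M => K p.1) (fun p => p.2) ⟨i, w⟩

lemma S_hom_ext {M W : CochainComplex A ℤ} (a b : Scx K M ⟶ W)
    (h : ∀ i (w : K i ⟶ M), Sι K i w ≫ a = Sι K i w ≫ b) : a = b := by
  apply sigma_hom_ext
  rintro ⟨i, w⟩
  exact h i w

noncomputable def Smap {M M' : CochainComplex A ℤ} (f : M ⟶ M') : Scx K M ⟶ Scx K M' :=
  sigmaDesc (fun p => Sι K p.1 (p.2 ≫ f))

@[reassoc (attr := simp)]
lemma Sι_Smap {M M' : CochainComplex A ℤ} (f : M ⟶ M') (i : ι) (w : K i ⟶ M) :
    Sι K i w ≫ Smap K f = Sι K i (w ≫ f) :=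
  ι_sigmaDesc (X := fun p : Idx K M => K p.1) (fun p => Sι K p.1 (p.2 ≫ f)) ⟨i, w⟩

@[reassoc]
lemma Smap_Sdesc {M M' : CochainComplex A ℤ} (f : M ⟶ M') :
    Sdesc K M ≫ f = Smap K f ≫ Sdesc K M' := by
  apply S_hom_ext
  intro i w
  simp

@[simp]
lemma Smap_id (M : CochainComplex A ℤ) : Smap K (𝟙 M) = 𝟙 _ := by
  apply S_hom_ext
  intro i w
  simp

@[simp]
lemma Smap_comp {M M' M'' : CochainComplex A ℤ} (f : M ⟶ M') (g : M' ⟶ M'') :
    Smap K (f ≫ g) = Smap K f ≫ Smap K g := by
  apply S_hom_ext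
  intro i w
  simp

noncomputable def Nfun : CochainComplex A ℤ ⥤ CochainComplex A ℤ where
  obj M := mappingCone (Sdesc K M)
  map {M M'} f := mappingCone.map (Sdesc K M) (Sdesc K M') (Smap K f) f (Smap_Sdesc K f)
  map_id M := by
    ext n
    simp [mappingCone.ext_from_iff _ (n + 1) n rfl, mappingCone.map]
  map_comp {M M' M''} f g := by
    ext n
    simp [mappingCone.ext_from_iff _ (n + 1) n rfl, mappingCone.map]

noncomputable def jnat : 𝟭 (CochainComplex A ℤ) ⟶ Nfun K where
  app M := mappingCone.inr (Sdesc K M)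
  naturality M M' f := by
    simp [Nfun, mappingCone.map]

end

/-- In a Grothendieck abelian category A, given a small family (K_i) of acyclic cochain complexes, there
are an endofunctor N of the category of cochain complexes and a natural transformation j from the
identity to N such that for every complex M: each component of j_M is a monomorphism, j_M is a
quasi-isomorphism, and for every i and every morphism w : K_i -> M the composite w ≫ j_M is
homotopic to zero. -/
theorem result {A : Type u} [Category.{v} A] [Abelian A]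
    [IsGrothendieckAbelian.{v} A] {ι : Type v} (K : ι → CochainComplex A ℤ)
    (hK : ∀ i (n : ℤ), Limits.IsZero ((K i).homology n)) :
    ∃ (N : CochainComplex A ℤ ⥤ CochainComplex A ℤ) (j : 𝟭 _ ⟶ N),
      ∀ M : CochainComplex A ℤ, (∀ n : ℤ, Mono ((j.app M).f n)) ∧ QuasiIso (j.app M) ∧
        ∀ (i : ι) (w : K i ⟶ M), Nonempty (Homotopy (w ≫ j.app M) 0) := by
  refine ⟨Nfun K, jnat K, fun M => ⟨fun n => ?_, ?_, fun i w => ?_⟩⟩
  · exact (SplitMono.mk _ (CochainComplex.mappingCone.inr_f_snd_v (Sdesc K M) n)).mono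
  · refine (quasiIso_inr_iff_acyclic (Sdesc K M)).2 ?_
    apply acyclic_sigmaCx
    rintro ⟨i, w⟩ n
    rw [HomologicalComplex.exactAt_iff_isZero_homology]
    exact hK i n
  · have h := (HomologicalComplex.homotopyCofiber.inrCompHomotopy (Sdesc K M)
      (fun j => ⟨j - 1, by simp⟩)).compLeft (Sι K i w)
    refine ⟨(Homotopy.ofEq ?_).trans (h.trans (Homotopy.ofEq Limits.comp_zero))⟩
    change w ≫ CochainComplex.mappingCone.inr (Sdesc K M) = _
    rw [← Category.assoc, Sι_Sdesc]
    rfl

end Groth.Agent.S0917
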