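import Groth.Statements.S0918
-- import your own Groth.Agent.* helpers here
import Groth.Agent.Lib.Helper32.CoconeSES
import Mathlib.CategoryTheory.Abelian.GrothendieckCategory.EnoughInjectives

set_option autoImplicit false
universe v u
open CategoryTheory
open CohDer

namespace Groth.Agent.S0918

section
open CategoryTheory.Limits CategoryTheory.MorphismProperty Groth.Agent.Lib.Helper32.CoconeSES
open ZeroObject
variable {A : Type u} [Category.{v} A] [Abelian A] [IsGrothendieckAbelian.{v} A]

/-- `X ↦ (X ⟶ 0)` -/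
noncomputable def toZeroArrow : A ⥤ Arrow A where
  obj X := Arrow.mk (0 : X ⟶ 0)
  map f := Arrow.homMk f (𝟙 0) (by simp)

/-- functorial injective embedding -/
noncomputable def E : A ⥤ A :=
  toZeroArrow ⋙ (functorialFactorizationData (monomorphisms A) (monomorphisms A).rlp).Z

noncomputable def ι : 𝟭 A ⟶ E (A := A) where
  app X := (functorialFactorizationData (monomorphisms A) (monomorphisms A).rlp).i.app
    (Arrow.mk (0 : X ⟶ 0))
  naturality _ _ f := (functorialFactorizationData (monomorphisms A)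
    (monomorphisms A).rlp).i.naturality (toZeroArrow.map f)

instance (X : A) : Mono ((ι (A := A)).app X) :=
  (inferInstance : Mono (IsGrothendieckAbelian.monoMapFactorizationDataRlp (0 : X ⟶ 0)).i)

instance (X : A) : Injective ((E (A := A)).obj X) :=
  (inferInstance : Injective (IsGrothendieckAbelian.monoMapFactorizationDataRlp (0 : X ⟶ 0)).Z)

/-- A complex containing `M`, with injective terms, functorial in `M`. -/
noncomputable def Ccx (M : CochainComplex A ℤ) : CochainComplex A ℤ :=
  CochainComplex.of (fun n => (E (A := A)).obj (M.X n) ⊞ (E (A := A)).obj (M.X (n + 1)))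
    (fun _ => biprod.snd ≫ biprod.inl) (fun n => by simp)

noncomputable def Cmap {M M' : CochainComplex A ℤ} (f : M ⟶ M') : Ccx M ⟶ Ccx M' :=
  CochainComplex.ofHom (fun n => biprod.map ((E (A := A)).map (f.f n))
    ((E (A := A)).map (f.f (n + 1)))) (fun n => by simp [Ccx])

noncomputable def Cfun : CochainComplex A ℤ ⥤ CochainComplex A ℤ where
  obj := Ccx
  map := Cmap
  map_id M := by
    ext n
    apply biprod.hom_ext <;> simp [Cmap, Ccx]
  map_comp f g := by
    ext n
    apply biprod.hom_ext <;> simp [Cmap, Ccx]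

noncomputable def cc (M : CochainComplex A ℤ) : M ⟶ Ccx M :=
  CochainComplex.ofHom (fun n => biprod.lift ((ι (A := A)).app (M.X n))
    (M.d n (n + 1) ≫ (ι (A := A)).app (M.X (n + 1)))) (fun n => by
      simp [Ccx]
      ext <;> simp)

lemma cc_naturality {M M' : CochainComplex A ℤ} (f : M ⟶ M') :
    cc M ≫ Cmap f = f ≫ cc M' := by
  ext n
  have h : ∀ k, (ι (A := A)).app (M.X k) ≫ (E (A := A)).map (f.f k) =
      f.f k ≫ (ι (A := A)).app (M'.X k) := fun k => ((ι (A := A)).naturality (f.f k)).symm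
  apply biprod.hom_ext
  · simp [cc, Cmap, Ccx, h]
  · simp [cc, Cmap, Ccx, h]

instance (M : CochainComplex A ℤ) (n : ℤ) : Mono ((cc M).f n) :=
  mono_of_mono_fac (g := (cc M).f n) (f := biprod.fst) (h := (ι (A := A)).app (M.X n))
    (by simp [cc])

instance (M : CochainComplex A ℤ) (n : ℤ) : Injective ((Ccx M).X n) :=
  (inferInstance : Injective ((E (A := A)).obj (M.X n) ⊞ (E (A := A)).obj (M.X (n + 1))))

noncomputable def Qcx (M : CochainComplex A ℤ) : CochainComplex A ℤ := cokernel (cc M)

noncomputable def πQ (M : CochainComplex A ℤ) : Ccx M ⟶ Qcx M := cokernel.π (cc M)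

lemma cc_πQ (M : CochainComplex A ℤ) : cc M ≫ πQ M = 0 := cokernel.condition _

instance (M : CochainComplex A ℤ) : Epi (πQ M) :=
  inferInstanceAs (Epi (cokernel.π (cc M)))

noncomputable def Qmap {M M' : CochainComplex A ℤ} (f : M ⟶ M') : Qcx M ⟶ Qcx M' :=
  cokernel.map (cc M) (cc M') f (Cmap f) (cc_naturality f)

@[reassoc]
lemma π_Qmap {M M' : CochainComplex A ℤ} (f : M ⟶ M') :
    πQ M ≫ Qmap f = Cmap f ≫ πQ M' :=
  cokernel.π_desc _ _ _

lemma Cmap_id (M : CochainComplex A ℤ) : Cmap (𝟙 M) = 𝟙 _ := (Cfun (A := A)).map_id M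

lemma Cmap_comp {M M' M'' : CochainComplex A ℤ} (f : M ⟶ M') (g : M' ⟶ M'') :
    Cmap (f ≫ g) = Cmap f ≫ Cmap g := (Cfun (A := A)).map_comp f g

lemma Qmap_id (M : CochainComplex A ℤ) : Qmap (𝟙 M) = 𝟙 _ := by
  rw [← cancel_epi (πQ M), π_Qmap, Cmap_id, Category.id_comp, Category.comp_id]

lemma Qmap_comp {M M' M'' : CochainComplex A ℤ} (f : M ⟶ M') (g : M' ⟶ M'') :
    Qmap (f ≫ g) = Qmap f ≫ Qmap g := by
  rw [← cancel_epi (πQ M), π_Qmap, Cmap_comp, π_Qmap_assoc, π_Qmap, Category.assoc]

lemma shortExact_cc (M : CochainComplex A ℤ) :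
    (ShortComplex.mk (cc M) (πQ M) (cc_πQ M)).ShortExact := by
  have : Mono (cc M) := HomologicalComplex.mono_of_mono_f _ inferInstance
  exact ShortComplex.ShortExact.mk' (ShortComplex.exact_of_g_is_cokernel _
    (cokernelIsCokernel (cc M))) this (inferInstanceAs (Epi (πQ M)))

noncomputable def Nfun : CochainComplex A ℤ ⥤ CochainComplex A ℤ where
  obj M := CochainComplex.mappingCocone (πQ M)
  map {M M'} f := coconeMap (πQ M) (πQ M') (Cmap f) (Qmap f) (π_Qmap f)
  map_id M := by
    ext n
    apply to_ext _ (n + -1) rfl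
    · simp [Cmap_id]
    · simp [Qmap_id]
  map_comp {M M' M''} f g := by
    ext n
    apply to_ext _ (n + -1) rfl
    · simp [Cmap_comp]
    · simp [Qmap_comp]

noncomputable def jnat : 𝟭 (CochainComplex A ℤ) ⟶ Nfun where
  app M := liftSES (cc M) (πQ M) (cc_πQ M)
  naturality M M' f := (liftSES_coconeMap (πQ M) (πQ M') (Cmap f) (Qmap f) (π_Qmap f)
    (cc M) (cc M') (cc_πQ M) (cc_πQ M') f (cc_naturality f)).symm

end

/-- Let A be a Grothendieck abelian category. There are an endofunctor N of the category of cochain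
complexes and a natural transformation j from the identity to N such that for every complex M: j_M
is a termwise monomorphism and a quasi-isomorphism, and for every n the map M^n -> N(M)^n factors
through a monomorphism I -> N(M)^n from an injective object I. -/
theorem result {A : Type u} [Category.{v} A] [Abelian A]
    [IsGrothendieckAbelian.{v} A] :
    ∃ (N : CochainComplex A ℤ ⥤ CochainComplex A ℤ) (j : 𝟭 _ ⟶ N),
      ∀ M : CochainComplex A ℤ, (∀ n : ℤ, Mono ((j.app M).f n)) ∧ QuasiIso (j.app M) ∧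
        ∀ n : ℤ, ∃ (I : A) (_ : Injective I) (a : M.X n ⟶ I) (b : I ⟶ (N.obj M).X n),
          Mono b ∧ a ≫ b = (j.app M).f n := by
  refine ⟨Nfun, jnat, fun M => ⟨fun n => ?_, ?_, fun n => ?_⟩⟩
  · exact Groth.Agent.Lib.Helper32.CoconeSES.mono_liftSES_f (cc M) (πQ M) (cc_πQ M) n
  · exact Groth.Agent.Lib.Helper32.CoconeSES.quasiIso_liftSES _ _ _ (shortExact_cc M)
  · exact ⟨(Ccx M).X n, inferInstance, (cc M).f n,
      (CochainComplex.mappingCocone.inl (πQ M)).v n n (add_zero n),
      Groth.Agent.Lib.Helper32.CoconeSES.mono_inl_v (πQ M) n,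
      (Groth.Agent.Lib.Helper32.CoconeSES.liftSES_f_eq (cc M) (πQ M) (cc_πQ M) n).symm⟩

end Groth.Agent.S0918
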