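import Groth.Statements.S0919
import Mathlib.CategoryTheory.Adjunction.AdjointFunctorTheorems
import Mathlib.CategoryTheory.Abelian.Subobject
import Mathlib.CategoryTheory.Limits.Yoneda
-- import your own Groth.Agent.* helpers here

set_option autoImplicit false
universe v u
open CategoryTheory
open CohDer

namespace Groth.Agent.S0919

open CategoryTheory.Limits Opposite in
/-- A functor to types with a left adjoint is representable (by the value of the adjoint at a
point). -/
theorem isRepresentable_of_isRightAdjoint {A : Type u} [Category.{v} A] (F : Aᵒᵖ ⥤ Type v)
    [F.IsRightAdjoint] : F.IsRepresentable := by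
  let L := F.leftAdjoint
  let adj : L ⊣ F := Adjunction.ofIsRightAdjoint F
  let Y : A := (L.obj PUnit.{v + 1}).unop
  refine Functor.RepresentableBy.isRepresentable (Y := Y) ?_
  exact
    { homEquiv := fun {X} =>
        (opEquiv (op Y) (op X)).symm.trans
          ((adj.homEquiv PUnit.{v + 1} (op X)).trans
            (TypeCat.homEquiv.trans (Equiv.funUnique PUnit.{v + 1} (F.obj (op X)))))
      homEquiv_comp := by
        intro X X' f g
        have := adj.homEquiv_naturality_right (X := PUnit.{v + 1}) (g.op) (f.op)
        simp only [Equiv.trans_apply, Equiv.funUnique_apply]
        have h2 : (opEquiv (op Y) (op X)).symm (f ≫ g) =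
            (opEquiv (op Y) (op X')).symm g ≫ f.op := rfl
        rw [h2]
        exact ConcreteCategory.congr_hom this _ }

open CategoryTheory.Limits in
/-- Let A be a Grothendieck abelian category and F a contravariant functor from A to sets (a functor on
the opposite category). Then F is representable if and only if F turns all small colimits of A into
limits, i.e. preserves small limits as a functor on the opposite category. -/
theorem result {A : Type u} [Category.{v} A] [Abelian A]
    [IsGrothendieckAbelian.{v} A] (F : Aᵒᵖ ⥤ Type v) :
    F.IsRepresentable ↔ PreservesLimitsOfSize.{v, v} F := by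
  constructor
  · intro hF
    obtain ⟨Y, ⟨e⟩⟩ := hF.has_representation
    exact preservesLimits_of_natIso e.toIso
  · intro hF
    have : HasLimits Aᵒᵖ := inferInstance
    have : WellPowered.{v} Aᵒᵖ := inferInstance
    obtain ⟨G, hG⟩ : ∃ G : A, IsSeparator G := HasSeparator.hasSeparator
    have hcosep : ObjectProperty.IsCoseparating (ObjectProperty.singleton (Opposite.op G)) :=
      (isCoseparator_op_iff G).2 hG
    have : F.IsRightAdjoint :=
      isRightAdjoint_of_preservesLimits_of_isCoseparating hcosep F
    exact isRepresentable_of_isRightAdjoint F

end Groth.Agent.S0919
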