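import Groth.Statements.S0920
import Groth.Agent.Lib.Helper28.LpullCompute
import Groth.Agent.Lib.Helper28.TorAmp

set_option autoImplicit false
universe u
open CategoryTheory
attribute [local instance] HasDerivedCategory.standard
open DCoh



namespace Groth.Agent.S0920

open AlgebraicGeometry in
/-- For f : X -> Y and E in D(O_Y) represented by a complex of flat modules vanishing outside [a, b],
the derived pullback Lf^* E (under its existence binder) has tor-amplitude in [a, b]. -/
theorem result {X Y : Scheme.{u}} (f : X ⟶ Y) [DCoh.HasLpull f] (E : DCoh.D Y) (a b : ℤ)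
    (hE : DCoh.HasFlatAmplitudeIn a b E) : DCoh.HasTorAmplitudeIn a b ((DCoh.Lpull f).obj E) := by
  obtain ⟨F, hv, hfl, ⟨e⟩⟩ := hE
  have hF : Groth.Agent.Lib.Helper28.LpullCompute.PF F :=
    ⟨Groth.Agent.S0953.result F b
      (Groth.Agent.Lib.Helper28.TorAmp.isStrictlyLE_of_vanishesOutside F a b hv) hfl, hfl⟩
  let e' : (DCoh.Lpull f).obj E ≅
      DCoh.toD X (((Scheme.Modules.pullback f).mapHomologicalComplex (ComplexShape.up ℤ)).obj F) :=
    (DCoh.Lpull f).mapIso e.symm ≪≫ Groth.Agent.Lib.Helper28.LpullCompute.lpullIso f F hF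
  apply Groth.Agent.Lib.Helper28.TorAmp.hasTorAmplitudeIn_of_hasFlatAmplitudeIn
  refine ⟨_, ?_, ?_, ⟨e'.symm⟩⟩
  · intro i hi
    exact Functor.map_isZero (Scheme.Modules.pullback f) (hv i hi)
  · intro i
    exact Groth.Agent.Lib.Helper28.PullbackFlat.isFlat_pullback f (F.X i) (hfl i)

end Groth.Agent.S0920
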