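import Groth.Statements.S0923
import Mathlib
import Groth.Agent.Lib.Helper30.PerfRestrict
import Groth.Agent.Lib.Helper49.FinLocFreeRetract

set_option autoImplicit false
universe u
open CategoryTheory
attribute [local instance] HasDerivedCategory.standard
open DCoh

namespace Groth.Agent.S0923

open AlgebraicGeometry CategoryTheory.Limits
open Groth.Agent.Lib.Helper30.PerfRestrict Groth.Agent.Lib.Helper49

/-- `L ∈ D(O_U)` is iso to a bounded complex of finite free modules. -/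
def FreeObj {U : Scheme.{u}} (L : DCoh.D U) : Prop :=
  ∃ (P : CochainComplex U.Modules ℤ) (a b : ℤ), DCoh.VanishesOutside P a b ∧
    (∀ i : ℤ, ∃ n : ℕ, Nonempty (P.X i ≅ FlatMod.freeMod U n)) ∧
    Nonempty (L ≅ DerivedCategory.Q.obj P)

lemma FreeObj.of_iso {U : Scheme.{u}} {L L' : DCoh.D U} (e : L ≅ L') (h : FreeObj L) :
    FreeObj L' := by
  obtain ⟨P, a, b, h1, h2, ⟨f⟩⟩ := h
  exact ⟨P, a, b, h1, h2, ⟨e.symm ≪≫ f⟩⟩

lemma FreeObj.restrict {U U' : Scheme.{u}} (k : U' ⟶ U) [IsOpenImmersion k] {L : DCoh.D U}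
    (h : FreeObj L) : FreeObj ((rD k).obj L) := by
  obtain ⟨P, a, b, h1, h2, ⟨f⟩⟩ := h
  refine ⟨(rC k).obj P, a, b, fun i hi => (Scheme.Modules.restrictFunctor k).map_isZero (h1 i hi),
    fun i => ?_, ⟨(rD k).mapIso f ≪≫ (rDQ k).app P⟩⟩
  obtain ⟨n, ⟨e⟩⟩ := h2 i
  exact ⟨n, ⟨(Scheme.Modules.restrictFunctor k).mapIso e ≪≫ restrictFreeIso n k⟩⟩

lemma FreeObj.of_fac {X U U' : Scheme.{u}} (k : U' ⟶ U) (j : U ⟶ X) (j' : U' ⟶ X)
    [IsOpenImmersion k] [IsOpenImmersion j] [IsOpenImmersion j'] (h : k ≫ j = j') {K : DCoh.D X}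
    (hK : FreeObj ((rD j).obj K)) : FreeObj ((rD j').obj K) :=
  (hK.restrict k).of_iso (rDFac k j j' h K).symm

lemma FreeObj.perfObj {U : Scheme.{u}} {L : DCoh.D U} (h : FreeObj L) : PerfObj L := by
  obtain ⟨P, a, b, h1, h2, ⟨f⟩⟩ := h
  refine ⟨P, ⟨⟨a, b, h1⟩, fun i => ?_⟩, ⟨f⟩⟩
  obtain ⟨n, ⟨e⟩⟩ := h2 i
  exact Groth.Agent.Lib.Helper14.isFinLocFree_of_iso e.symm (isFinLocFree_freeMod U n)

/-- finitely many terms of a complex of finite locally free modules are simultaneously free near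
a point -/
lemma exists_free_nbhd {U : Scheme.{u}} (E : CochainComplex U.Modules ℤ)
    (hfl : ∀ i, FlatMod.IsFinLocFree (E.X i)) (x : U) (a : ℤ) (n : ℕ) :
    ∃ W : U.Opens, x ∈ W ∧ ∀ i : ℤ, a ≤ i → i < a + n →
      ∃ m : ℕ, Nonempty ((E.X i).restrict W.ι ≅ FlatMod.freeMod (W : Scheme.{u}) m) := by
  induction n with
  | zero => exact ⟨⊤, trivial, fun i h1 h2 => by simp at h2; omega⟩
  | succ n ih =>
    obtain ⟨W, hxW, hW⟩ := ih
    obtain ⟨W', m, hxW', ⟨e⟩⟩ := hfl (a + n) x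
    refine ⟨W ⊓ W', ⟨hxW, hxW'⟩, fun i h1 h2 => ?_⟩
    by_cases hi : i < a + n
    · obtain ⟨m', ⟨e'⟩⟩ := hW i h1 hi
      exact ⟨m', ⟨isoFreeOfLE inf_le_left _ m' e'⟩⟩
    · obtain rfl : i = a + n := by push_cast at h2; omega
      exact ⟨m, ⟨isoFreeOfLE inf_le_right _ m e⟩⟩

lemma PerfObj.exists_freeObj {U : Scheme.{u}} {L : DCoh.D U} (h : PerfObj L) (x : U) :
    ∃ W : U.Opens, x ∈ W ∧ FreeObj ((rD W.ι).obj L) := by
  obtain ⟨E, ⟨⟨a, b, hab⟩, hfl⟩, ⟨f⟩⟩ := h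
  obtain ⟨W, hxW, hW⟩ := exists_free_nbhd E hfl x a (b - a + 1).toNat
  refine ⟨W, hxW, (rC W.ι).obj E, a, b,
    fun i hi => (Scheme.Modules.restrictFunctor W.ι).map_isZero (hab i hi), fun i => ?_,
    ⟨(rD W.ι).mapIso f ≪≫ (rDQ W.ι).app E⟩⟩
  by_cases hi : a ≤ i ∧ i ≤ b
  · have h1 : b - a + 1 ≤ ((b - a + 1).toNat : ℤ) := Int.self_le_toNat _
    exact hW i hi.1 (by omega)
  · have hz : IsZero (E.X i) := hab i (by omega)
    refine ⟨0, ⟨(((Scheme.Modules.restrictFunctor W.ι).map_isZero hz).iso ?_)⟩⟩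
    exact (IsZero.iff_id_eq_zero _).mpr (Sigma.hom_ext _ _ (fun b => b.elim0))

open AlgebraicGeometry CategoryTheory.Limits in
/-- On a scheme X, an object E of D(𝒪_X) is perfect if and only if every point has an open neighbourhood
V such that the restriction to V of any complex representing E is isomorphic in D(𝒪_V) to a bounded
complex each of whose terms is isomorphic to a finite free 𝒪_V-module. (The published statement is
for ringed spaces whose stalks are local rings and lists further equivalent conditions; here X is a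
scheme and only this equivalence is stated.) -/
theorem result {X : Scheme.{u}} (E : DCoh.D X) :
    DCoh.IsPerfect E ↔ ∀ x : X, ∃ V : X.Opens, x ∈ V ∧
      ∀ F : CochainComplex X.Modules ℤ, Nonempty (DCoh.toD X F ≅ E) →
        ∃ (P : CochainComplex (V : Scheme.{u}).Modules ℤ) (a b : ℤ), DCoh.VanishesOutside P a b ∧
          (∀ i : ℤ, ∃ n : ℕ, Nonempty (P.X i ≅ FlatMod.freeMod (V : Scheme.{u}) n)) ∧
          Nonempty (DerivedCategory.Q.obj ((DCoh.restrictCx V).obj F) ≅ DerivedCategory.Q.obj P) := by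
  constructor
  · intro h x
    rw [isPerfect_iff] at h
    obtain ⟨V₀, hxV₀, hV₀⟩ := h x
    obtain ⟨W, hxW, hW⟩ := PerfObj.exists_freeObj hV₀ (⟨x, hxV₀⟩ : V₀)
    let j : (W : Scheme.{u}) ⟶ X := W.ι ≫ V₀.ι
    have hj : FreeObj ((rD j).obj E) := hW.of_iso ((rDComp W.ι V₀.ι).app E).symm
    have hj' : FreeObj ((rD j.opensRange.ι).obj E) :=
      hj.of_fac j.isoOpensRange.inv j j.opensRange.ι (by simp)
    refine ⟨j.opensRange, ⟨⟨⟨x, hxV₀⟩, hxW⟩, rfl⟩, fun F ⟨e⟩ => ?_⟩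
    obtain ⟨P, a, b, h1, h2, ⟨f⟩⟩ := hj'
    exact ⟨P, a, b, h1, h2, ⟨((rDQ j.opensRange.ι).app F).symm ≪≫
      (rD j.opensRange.ι).mapIso e ≪≫ f⟩⟩
  · intro h
    rw [isPerfect_iff]
    intro x
    obtain ⟨V, hxV, hV⟩ := h x
    refine ⟨V, hxV, ?_⟩
    let F := DerivedCategory.Q.objPreimage E
    let e : DerivedCategory.Q.obj F ≅ E := DerivedCategory.Q.objObjPreimageIso E
    obtain ⟨P, a, b, h1, h2, ⟨f⟩⟩ := hV F ⟨e⟩
    exact FreeObj.perfObj ⟨P, a, b, h1, h2, ⟨(rD V.ι).mapIso e.symm ≪≫ (rDQ V.ι).app F ≪≫ f⟩⟩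

end Groth.Agent.S0923
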