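import Groth.Statements.S0926
import Groth.Agent.Lib.Helper28.ConstSheaf
import Mathlib.CategoryTheory.Abelian.Basic
import Mathlib.CategoryTheory.Subobject.Limits
import Mathlib.GroupTheory.Archimedean

set_option autoImplicit false
universe u
open CategoryTheory
open CohTop
namespace Groth.Agent.S0926

open TopologicalSpace CategoryTheory.Limits Opposite Groth.Agent.Lib.Helper28.ShCoh

/-- images are compared by composing with the cokernel projection -/
lemma imageSubobject_le_of_comp_cokernel {𝒜 : Type*} [Category 𝒜] [Abelian 𝒜] {P Q C : 𝒜}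
    (f : P ⟶ C) (g : Q ⟶ C) (hz : f ≫ cokernel.π g = 0) :
    imageSubobject f ≤ imageSubobject g := by
  let k : P ⟶ Abelian.image g := kernel.lift _ f hz
  refine imageSubobject_le f (k ≫ (Abelian.imageIsoImage g).hom ≫ (imageSubobjectIso g).inv) ?_
  rw [Category.assoc, Category.assoc, imageSubobject_arrow',
    Abelian.imageIsoImage_hom_comp_image_ι]
  exact kernel.lift_ι _ _ _

section

variable {X : TopCat.{u}}

/-- sections over an empty open are all equal -/
lemma subsingleton_of_eq_bot (H : CohTop.Ab X) {U : Opens X} (hU : U = ⊥) :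
    Subsingleton (H.obj.obj (op U)) := by
  have hT : IsTerminal (H.obj.obj (op U)) := TopCat.Sheaf.isTerminalOfEqEmpty H hU
  constructor
  intro a b
  have h1 : (𝟙 (H.obj.obj (op U))) = 0 := hT.hom_ext _ _
  have ha : a = (𝟙 (H.obj.obj (op U)) : _ ⟶ _) a := rfl
  have hb : b = (𝟙 (H.obj.obj (op U)) : _ ⟶ _) b := rfl
  rw [ha, hb, h1]
  rfl

/-- comparison of images of morphisms of sheaves, checked on sections -/
lemma imageSubobject_le_of_sections {P Q C : CohTop.Ab X} (f : P ⟶ C) (g : Q ⟶ C)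
    (h : ∀ (W : Opens X) (s : P.obj.obj (op W)), ∃ t : Q.obj.obj (op W),
      g.hom.app (op W) t = f.hom.app (op W) s) :
    imageSubobject f ≤ imageSubobject g := by
  apply imageSubobject_le_of_comp_cokernel
  ext W s
  obtain ⟨t, ht⟩ := h W.unop s
  have h0 : g ≫ cokernel.π g = 0 := cokernel.condition g
  have h1 : (g ≫ cokernel.π g).hom.app W t = 0 := by rw [h0]; rfl
  change (cokernel.π g).hom.app W (f.hom.app W s) = 0
  rw [← ht]
  exact h1

variable [IrreducibleSpace X] (A : Type u) [AddCommGroup A]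

/-- on an irreducible space every section of a constant sheaf is constant -/
lemma exists_const (V : Opens X) (s : (CohTop.const X A).obj.obj (op V)) :
    ∃ a : A, (constUnit X A).app (op V) a = s := by
  have hsurj := Presheaf.imageSieve_mem (Opens.grothendieckTopology X) (constUnit X A) s
  choose W f hW hxW using fun x : V => hsurj x.1 x.2
  choose a ha using hW
  have hconst : ∀ x y : V, a x = a y := by
    intro x y
    obtain ⟨z, hzx, hzy⟩ := nonempty_preirreducible_inter (W x).isOpen (W y).isOpen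
      ⟨x.1, hxW x⟩ ⟨y.1, hxW y⟩
    let W' : Opens X := W x ⊓ W y
    have e : (constUnit X A).app (op W') (a x) = (constUnit X A).app (op W') (a y) := by
      rw [← constUnit_res A (homOfLE inf_le_left : W' ⟶ W x) (a x),
        ← constUnit_res A (homOfLE inf_le_right : W' ⟶ W y) (a y), ha x, ha y]
      rw [← ConcreteCategory.comp_apply, ← ConcreteCategory.comp_apply,
        ← Functor.map_comp, ← Functor.map_comp]
      rfl
    have hinj := Presheaf.equalizerSieve_mem (Opens.grothendieckTopology X) (constUnit X A)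
      (X := op W') (a x) (a y) e
    obtain ⟨W'', g, hg, -⟩ := hinj z ⟨hzx, hzy⟩
    exact hg
  obtain ⟨a₀, ha₀⟩ : ∃ a₀ : A, ∀ x : V, a x = a₀ := by
    rcases isEmpty_or_nonempty ↥V with hV | ⟨⟨x₀⟩⟩
    · exact ⟨0, fun x => (hV.false x).elim⟩
    · exact ⟨a x₀, fun x => hconst x x₀⟩
  refine ⟨a₀, ?_⟩
  refine TopCat.Sheaf.eq_of_locally_eq' (CohTop.const X A) W V f ?_ _ _ (fun x => ?_)
  · intro z hz
    exact Opens.mem_iSup.mpr ⟨⟨z, hz⟩, hxW ⟨z, hz⟩⟩
  · rw [← ha x, ha₀ x, constUnit_res A (f x) a₀]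

/-- on a nonempty open of an irreducible space, `A → A_X(V)` is injective -/
lemma const_injective (V : Opens X) (hV : V ≠ ⊥) (a b : A)
    (h : (constUnit X A).app (op V) a = (constUnit X A).app (op V) b) : a = b := by
  have hinj := Presheaf.equalizerSieve_mem (Opens.grothendieckTopology X) (constUnit X A)
    (X := op V) a b h
  obtain ⟨x, hx⟩ := (Opens.ne_bot_iff_nonempty V).1 hV
  obtain ⟨W'', g, hg, -⟩ := hinj x hx
  exact hg

end

section

variable {X : TopCat.{u}} {H : CohTop.Ab X} (ι : H ⟶ CohTop.const X (ULift.{u} ℤ))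

/-- the constant section with value `n` -/
noncomputable def cst (V : Opens X) : ℤ →+ (CohTop.const X (ULift.{u} ℤ)).obj.obj (op V) :=
  ((constUnit X (ULift.{u} ℤ)).app (op V)).hom.comp AddEquiv.ulift.symm.toAddMonoidHom

lemma cst_apply (V : Opens X) (n : ℤ) :
    cst V n = (constUnit X (ULift.{u} ℤ)).app (op V) ⟨n⟩ := rfl

lemma cst_res {V V' : Opens X} (g : V' ⟶ V) (n : ℤ) :
    (CohTop.const X (ULift.{u} ℤ)).obj.map g.op (cst V n) = cst V' n :=
  constUnit_res (ULift.{u} ℤ) g ⟨n⟩

/-- the integers whose constant section over `V` lies in the image of `ι` -/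
noncomputable def T (V : Opens X) : AddSubgroup ℤ :=
  AddSubgroup.comap (cst V) (AddMonoidHom.range (ι.hom.app (op V)).hom)

lemma mem_T (V : Opens X) (n : ℤ) :
    n ∈ T ι V ↔ ∃ s : H.obj.obj (op V), ι.hom.app (op V) s = cst V n := Iff.rfl

lemma T_mono {V V' : Opens X} (h : V' ≤ V) : T ι V ≤ T ι V' := by
  intro n hn
  obtain ⟨s, hs⟩ := (mem_T ι V n).1 hn
  refine (mem_T ι V' n).2 ⟨H.obj.map (homOfLE h).op s, ?_⟩
  rw [← cst_res (homOfLE h) n, ← hs]
  exact NatTrans.naturality_apply ι.hom (homOfLE h).op s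

variable [IrreducibleSpace X]

/-- the subgroups `T V` stabilise on a nonempty open -/
lemma exists_stable : ∃ (U : Opens X) (d : ℤ), U ≠ ⊥ ∧
    ∀ V : Opens X, V ≤ U → V ≠ ⊥ → ∀ n : ℤ, n ∈ T ι V ↔ ∃ m : ℤ, n = m * d := by
  let ι' := {V : Opens X // V ≠ ⊥}
  have htop : (⊤ : Opens X) ≠ ⊥ := by
    rw [Opens.ne_bot_iff_nonempty]
    exact ⟨Classical.arbitrary X, trivial⟩
  haveI : Nonempty ι' := ⟨⟨⊤, htop⟩⟩
  let K : ι' → AddSubgroup ℤ := fun V => T ι V.1
  have hdir : Directed (· ≤ ·) K := by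
    intro V V'
    have hne : V.1 ⊓ V'.1 ≠ ⊥ := by
      rw [Opens.ne_bot_iff_nonempty]
      obtain ⟨x, hx⟩ := (Opens.ne_bot_iff_nonempty V.1).1 V.2
      obtain ⟨y, hy⟩ := (Opens.ne_bot_iff_nonempty V'.1).1 V'.2
      obtain ⟨z, hz1, hz2⟩ := nonempty_preirreducible_inter V.1.isOpen V'.1.isOpen ⟨x, hx⟩ ⟨y, hy⟩
      exact ⟨z, hz1, hz2⟩
    exact ⟨⟨V.1 ⊓ V'.1, hne⟩, T_mono ι inf_le_left, T_mono ι inf_le_right⟩
  obtain ⟨d, hd⟩ := Int.subgroup_cyclic (⨆ V, K V)
  have hdmem : d ∈ ⨆ V, K V := by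
    rw [hd]; exact AddSubgroup.subset_closure rfl
  obtain ⟨U, hU⟩ := (AddSubgroup.mem_iSup_of_directed hdir).1 hdmem
  refine ⟨U.1, d, U.2, fun V hVU hV n => ?_⟩
  constructor
  · intro hn
    have h1 : n ∈ ⨆ V, K V := AddSubgroup.mem_iSup_of_mem (⟨V, hV⟩ : ι') hn
    rw [hd, AddSubgroup.mem_closure_singleton] at h1
    obtain ⟨m, hm⟩ := h1
    exact ⟨m, by rw [← hm, smul_eq_mul]⟩
  · rintro ⟨m, rfl⟩
    have h2 : d ∈ T ι V := T_mono ι hVU hU
    have := (T ι V).zsmul_mem h2 m
    rwa [smul_eq_mul] at this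

end

open TopologicalSpace CategoryTheory.Limits in
/-- Let X be an irreducible topological space and H an abelian subsheaf of the constant sheaf Z (given
by a monomorphism ι). Then there are a nonempty open U and an integer d such that over U the
subsheaf H coincides with the image of multiplication by d on the constant sheaf: the images of ι|_U
and of (d · id)|_U agree as subobjects of the constant sheaf on U. -/
theorem result {X : TopCat.{u}} [IrreducibleSpace X]
    (H : CohTop.Ab X) (ι : H ⟶ CohTop.const X (ULift.{u} ℤ)) [Mono ι] :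
    ∃ (U : Opens X) (d : ℤ), U ≠ ⊥ ∧
      imageSubobject ((CohTop.restrFunctor U).map ι) =
        imageSubobject ((CohTop.restrFunctor U).map (d • 𝟙 (CohTop.const X (ULift.{u} ℤ)))) := by
  obtain ⟨U, d, hU, hT⟩ := exists_stable ι
  refine ⟨U, d, hU, le_antisymm ?_ ?_⟩
  · apply imageSubobject_le_of_sections
    intro W s
    let V : Opens X := U.isOpenEmbedding.isOpenMap.functor.obj W
    have hVU : V ≤ U := by
      rintro x ⟨y, -, rfl⟩
      exact y.2
    change ∃ t : (CohTop.const X (ULift.{u} ℤ)).obj.obj (op V),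
      (d • 𝟙 (CohTop.const X (ULift.{u} ℤ)) : _ ⟶ _).hom.app (op V) t = ι.hom.app (op V) s
    by_cases hV : V = ⊥
    · haveI := subsingleton_of_eq_bot (CohTop.const X (ULift.{u} ℤ)) hV
      exact ⟨0, Subsingleton.elim _ _⟩
    · obtain ⟨a, ha⟩ := exists_const (ULift.{u} ℤ) V (ι.hom.app (op V) s)
      have hmem : a.down ∈ T ι V := (mem_T ι V a.down).2 ⟨s, ha.symm⟩
      obtain ⟨m, hm⟩ := (hT V hVU hV a.down).1 hmem
      refine ⟨cst V m, ?_⟩
      change d • cst V m = ι.hom.app (op V) s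
      rw [← ha, ← map_zsmul, smul_eq_mul, mul_comm, ← hm]
      rfl
  · apply imageSubobject_le_of_sections
    intro W t
    let V : Opens X := U.isOpenEmbedding.isOpenMap.functor.obj W
    have hVU : V ≤ U := by
      rintro x ⟨y, -, rfl⟩
      exact y.2
    change ∃ s : H.obj.obj (op V), ι.hom.app (op V) s =
      (d • 𝟙 (CohTop.const X (ULift.{u} ℤ)) : _ ⟶ _).hom.app (op V) t
    by_cases hV : V = ⊥
    · haveI := subsingleton_of_eq_bot (CohTop.const X (ULift.{u} ℤ)) hV
      exact ⟨0, Subsingleton.elim _ _⟩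
    · obtain ⟨b, hb⟩ := exists_const (ULift.{u} ℤ) V t
      have hmem : b.down * d ∈ T ι V := (hT V hVU hV _).2 ⟨b.down, rfl⟩
      obtain ⟨s, hs⟩ := (mem_T ι V _).1 hmem
      refine ⟨s, ?_⟩
      rw [hs]
      change cst V (b.down * d) = d • t
      rw [← hb, mul_comm, ← smul_eq_mul, map_zsmul]
      rfl

end Groth.Agent.S0926
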