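import Groth.Statements.S0928
import Mathlib.CategoryTheory.Abelian.GrothendieckCategory.EnoughInjectives
import Mathlib.CategoryTheory.Abelian.GrothendieckAxioms.FunctorCategory
import Mathlib.CategoryTheory.Generator.Presheaf
import Mathlib.Algebra.Category.Grp.AB
universe w v' u' u
open CategoryTheory
open CohDer
namespace Groth.Agent.S0928

open Limits ZeroObject in
/-- Functorial injective embeddings in any Grothendieck abelian category, from Mathlib's functorial
factorization (mono, rlp of monos) applied to the maps `X ⟶ 0`. -/
theorem exists_functorial_injective_embedding (A : Type u') [Category.{v'} A] [Abelian A]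
    [IsGrothendieckAbelian.{w} A] :
    ∃ (J : A ⥤ A) (j : 𝟭 _ ⟶ J), ∀ F : A, Injective (J.obj F) ∧ Mono (j.app F) := by
  let data := MorphismProperty.functorialFactorizationData
    (MorphismProperty.monomorphisms A) (MorphismProperty.monomorphisms A).rlp
  let toZero : A ⥤ Arrow A :=
    { obj := fun X => Arrow.mk (0 : X ⟶ (0 : A))
      map := fun {X Y} f => Arrow.homMk f (𝟙 _) (by simp)
      map_id := fun X => by ext <;> simp
      map_comp := fun f g => by ext <;> simp }
  refine ⟨toZero ⋙ data.Z,
    { app := fun X => data.i.app (toZero.obj X)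
      naturality := fun X Y f => data.i.naturality (toZero.map f) }, fun F => ⟨?_, ?_⟩⟩
  · have h := data.hp (toZero.obj F)
    rw [injective_iff_rlp_monomorphisms_zero]
    have e : data.p.app (toZero.obj F) = (0 : data.Z.obj (toZero.obj F) ⟶ (0 : A)) :=
      (isZero_zero A).eq_of_tgt _ _
    rw [e] at h
    exact h
  · exact data.hi (toZero.obj F)

instance isGrothendieckAbelian_presheaf {C : Type u} [SmallCategory C] :
    IsGrothendieckAbelian.{u} (Cᵒᵖ ⥤ AddCommGrpCat.{u}) where
  ab5OfSize := ⟨fun J _ _ => inferInstance⟩

/-- On a small category C the category of presheaves of abelian groups has functorial injective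
embeddings: there are an endofunctor J of the presheaf category and a natural transformation from
the identity to J with each component a monomorphism into an injective presheaf. -/
theorem result {C : Type u} [SmallCategory C] :
    ∃ (J : (Cᵒᵖ ⥤ AddCommGrpCat.{u}) ⥤ (Cᵒᵖ ⥤ AddCommGrpCat.{u})) (j : 𝟭 _ ⟶ J),
      ∀ F : Cᵒᵖ ⥤ AddCommGrpCat.{u}, Injective (J.obj F) ∧ Mono (j.app F) := by
  exact exists_functorial_injective_embedding.{u} (Cᵒᵖ ⥤ AddCommGrpCat.{u})
end Groth.Agent.S0928
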