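import Groth.Statements.S0929
import Groth.Agent.S0928
import Mathlib.Algebra.Category.ModuleCat.Presheaf.Generator
import Mathlib.Algebra.Category.ModuleCat.Presheaf.Abelian
import Mathlib.Algebra.Category.ModuleCat.Presheaf.Colimits
import Mathlib.Algebra.Category.ModuleCat.Presheaf.Limits
import Mathlib.CategoryTheory.Functor.ReflectsIso.Balanced
universe u
open CategoryTheory
open CohDer
namespace Groth.Agent.S0929

open Limits

section
variable {C : Type u} [SmallCategory C] (O : Cᵒᵖ ⥤ RingCat.{u})

instance hasSeparator_presheafOfModules : HasSeparator (PresheafOfModules.{u} O) :=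
  ⟨⟨_, (PresheafOfModules.freeYoneda.isSeparating O).isSeparator_coproduct⟩⟩

instance reflectsIsomorphisms_toPresheaf :
    (PresheafOfModules.toPresheaf.{u} O).ReflectsIsomorphisms :=
  inferInstance

instance hasExactColimitsOfShape_presheafOfModules (J : Type u) [SmallCategory J] [IsFiltered J] :
    HasExactColimitsOfShape J (PresheafOfModules.{u} O) :=
  have : ReflectsFiniteLimits (PresheafOfModules.toPresheaf.{u} O) :=
    ⟨fun _ _ _ => reflectsLimitsOfShape_of_reflectsIsomorphisms⟩
  HasExactColimitsOfShape.domain_of_functor J (PresheafOfModules.toPresheaf.{u} O)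

instance isGrothendieckAbelian_presheafOfModules :
    IsGrothendieckAbelian.{u} (PresheafOfModules.{u} O) where
  ab5OfSize := ⟨fun J _ _ => inferInstance⟩

end

/-- For a presheaf of rings O on a small category C, the category of presheaves of O-modules has
functorial injective embeddings (an endofunctor J with a natural transformation from the identity
whose components are monomorphisms into injective objects). -/
theorem result {C : Type u} [SmallCategory C]
    (O : Cᵒᵖ ⥤ RingCat.{u}) :
    ∃ (J : PresheafOfModules.{u} O ⥤ PresheafOfModules.{u} O) (j : 𝟭 _ ⟶ J),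
      ∀ F : PresheafOfModules.{u} O, Injective (J.obj F) ∧ Mono (j.app F) := by
  exact Groth.Agent.S0928.exists_functorial_injective_embedding.{u} (PresheafOfModules.{u} O)
end Groth.Agent.S0929
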