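import Groth.Statements.S0930
import Groth.Agent.Lib.Helper6.DerivedComp
import Groth.Agent.S0904

set_option autoImplicit false
universe u
open CategoryTheory
attribute [local instance] HasDerivedCategory.standard
open CohTop

namespace Groth.Agent.S0930

/-- For continuous maps f : X -> Y and g : Y -> Z, the composite of the right derived functors Rf_* :
D^+(X) -> D^+(Y) and Rg_* : D^+(Y) -> D^+(Z) is isomorphic to R(g ∘ f)_* (existence of an
isomorphism of functors between bounded below derived categories). -/
theorem result {X Y Z : TopCat.{u}} (f : X ⟶ Y) (g : Y ⟶ Z) :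
    Nonempty ((CohTop.push f).rightDerivedFunctorPlus ⋙ (CohTop.push g).rightDerivedFunctorPlus ≅
      (CohTop.push (f ≫ g)).rightDerivedFunctorPlus) := by
  have hf : Limits.PreservesFiniteLimits (CohTop.push f) := by
    have : Limits.PreservesLimitsOfSize.{0, 0} (CohTop.push f) :=
      (TopCat.Sheaf.pullbackPushforwardAdjunction AddCommGrpCat.{u} f).rightAdjoint_preservesLimits
    exact Limits.PreservesLimitsOfSize.preservesFiniteLimits _
  have hg : Limits.PreservesFiniteLimits (CohTop.push g) := by
    have : Limits.PreservesLimitsOfSize.{0, 0} (CohTop.push g) :=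
      (TopCat.Sheaf.pullbackPushforwardAdjunction AddCommGrpCat.{u} g).rightAdjoint_preservesLimits
    exact Limits.PreservesLimitsOfSize.preservesFiniteLimits _
  exact Lib.Helper6.DerivedComp.nonempty_comp_iso (CohTop.push f) (CohTop.push g)
    (fun I hI => Groth.Agent.S0904.result f I) (Iso.refl _)

end Groth.Agent.S0930
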