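import Groth.Statements.S0935
import Groth.Agent.Lib.Helper5.LpullRpushAdj
import Groth.Agent.Lib.Helper32.TriRF
import Groth.Agent.S0959

set_option autoImplicit false
universe u
open CategoryTheory
attribute [local instance] HasDerivedCategory.standard
open DCoh

namespace Groth.Agent.S0935

open CategoryTheory.Limits CategoryTheory.Pretriangulated

section General

variable {T T' : Type*} [Category T] [Category T'] [Preadditive T] [Preadditive T']
  [HasZeroObject T] [HasZeroObject T'] [HasShift T ℤ] [HasShift T' ℤ]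
  [∀ n : ℤ, (shiftFunctor T n).Additive] [∀ n : ℤ, (shiftFunctor T' n).Additive]
  [Pretriangulated T] [Pretriangulated T']

/-- A functor sending distinguished triangles to distinguished triangles (up to the choice of
the third map), additive and preserving the relevant countable product, preserves derived
limits. -/
theorem isRlim_map (G : T ⥤ T') [G.Additive]
    (hG : ∀ (Δ : Triangle T), Δ ∈ distTriang T →
      ∃ h : G.obj Δ.obj₃ ⟶ (G.obj Δ.obj₁)⟦(1 : ℤ)⟧,
        Triangle.mk (G.map Δ.mor₁) (G.map Δ.mor₂) h ∈ distTriang T')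
    (K : ℕ → T) (t : ∀ n, K (n + 1) ⟶ K n) [HasProduct K] [HasProduct fun n => G.obj (K n)]
    [PreservesLimit (Discrete.functor K) G]
    (L : T) (hL : DCoh.IsRlim K t L) :
    DCoh.IsRlim (fun n => G.obj (K n)) (fun n => G.map (t n)) (G.obj L) := by
  obtain ⟨a, c, hd⟩ := hL
  obtain ⟨h, hh⟩ : ∃ h : G.obj (∏ᶜ K) ⟶ (G.obj L)⟦(1 : ℤ)⟧,
      Triangle.mk (G.map a) (G.map (Pi.lift fun n => Pi.π K n - Pi.π K (n + 1) ≫ t n)) h ∈
        distTriang T' := hG _ hd
  let e : G.obj (∏ᶜ K) ≅ ∏ᶜ fun n => G.obj (K n) := PreservesProduct.iso G K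
  have he : ∀ n, e.hom ≫ Pi.π (fun n => G.obj (K n)) n = G.map (Pi.π K n) := by
    intro n
    simp [e, PreservesProduct.iso_hom]
  refine ⟨G.map a ≫ e.hom, e.inv ≫ h, ?_⟩
  refine isomorphic_distinguished _ hh _ (Iso.symm ?_)
  refine Triangle.isoMk _ _ (Iso.refl _) e e ?_ ?_ ?_
  · exact (Category.id_comp _).symm
  · change G.map (Pi.lift fun n => Pi.π K n - Pi.π K (n + 1) ≫ t n) ≫ e.hom =
      e.hom ≫ Pi.lift fun n => Pi.π (fun n => G.obj (K n)) n -
        Pi.π (fun n => G.obj (K n)) (n + 1) ≫ G.map (t n)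
    apply Pi.hom_ext
    intro n
    rw [Category.assoc, he, ← G.map_comp, Pi.lift_π, Category.assoc, Pi.lift_π,
      Preadditive.comp_sub, he, reassoc_of% (he (n + 1)), G.map_sub, G.map_comp]
  · have h1 : e.hom ≫ e.inv ≫ h = h := Iso.hom_inv_id_assoc e h
    have h2 : h ≫ (𝟙 (G.obj L))⟦(1 : ℤ)⟧' = h := by
      rw [CategoryTheory.Functor.map_id]; exact Category.comp_id h
    exact h2.trans h1.symm

end General

open AlgebraicGeometry in
instance additive_Rpush {X Y : Scheme.{u}} (f : X ⟶ Y) [DCoh.HasRpush f] :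
    (DCoh.Rpush f).Additive := by
  have : DCoh.HasLpull f := Groth.Agent.S0959.result f
  have : (DCoh.Rpush f).IsRightAdjoint := (Groth.Agent.Lib.Helper5.LpullRpushAdj.adj f).isRightAdjoint
  have : PreservesLimitsOfShape (Discrete WalkingPair) (DCoh.Rpush f) :=
    ((Groth.Agent.Lib.Helper5.LpullRpushAdj.adj f).rightAdjoint_preservesLimits).preservesLimitsOfShape
  have : PreservesBinaryBiproducts (DCoh.Rpush f) :=
    preservesBinaryBiproducts_of_preservesBinaryProducts _
  exact Functor.additive_of_preservesBinaryBiproducts _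

end Groth.Agent.S0935

namespace Groth.Agent.S0935

open AlgebraicGeometry CategoryTheory.Limits in
/-- Let f : X → Y be a morphism of schemes and (K_n)_{n ≥ 0} an inverse system in D(O_X) with derived
limit L. Then Rf_*L is a derived limit of the system (Rf_*K_n). Here Rf_* is the total right derived
functor of f_* under its existence binder, and the two countable products ∏ K_n and ∏ Rf_*K_n are
assumed to exist. (The published statement is for morphisms of ringed spaces; stated here for
schemes.) -/
theorem result {X Y : Scheme.{u}} (f : X ⟶ Y) [DCoh.HasRpush f]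
    (K : ℕ → DCoh.D X) (t : ∀ n, K (n + 1) ⟶ K n) [HasProduct K] [HasProduct fun n => (DCoh.Rpush f).obj (K n)]
    (L : DCoh.D X) (hL : DCoh.IsRlim K t L) :
    DCoh.IsRlim (fun n => (DCoh.Rpush f).obj (K n)) (fun n => (DCoh.Rpush f).map (t n)) ((DCoh.Rpush f).obj L) := by
  have : DCoh.HasLpull f := Groth.Agent.S0959.result f
  have : PreservesLimit (Discrete.functor K) (DCoh.Rpush f) :=
    ((Groth.Agent.Lib.Helper5.LpullRpushAdj.adj f).rightAdjoint_preservesLimits).preservesLimitsOfShape.preservesLimit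
  exact Groth.Agent.S0935.isRlim_map (DCoh.Rpush f)
    (fun Δ hΔ => Groth.Agent.Lib.Helper32.TriRF.exists_distinguished
      (Scheme.Modules.pushforward f) (DCoh.Rpush f) (Groth.Agent.Lib.Helper5.LpullRpushAdj.β f)
      (Groth.Agent.Lib.Helper32.OpenKInj.hasKInjRes X) Δ hΔ) K t L hL

end Groth.Agent.S0935
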