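import Groth.Statements.S0936
import Groth.Agent.Lib.Helper83.ExtCoprod
import Groth.Agent.Lib.Helper83.SingleLift
-- import your own Groth.Agent.* helpers here

set_option autoImplicit false
universe u
open CategoryTheory
open CohSite

namespace Groth.Agent.S0936

open Opposite CategoryTheory.Limits in
/-- Abelian sheaves, O = Z: let U be an object of a site such that each functor F ↦ H^p(U, F) on abelian
sheaves preserves direct sums. Then for every family (M_i) of objects of the derived category of
abelian sheaves which is uniformly bounded below and whose direct sum exists, the canonical map ⊕_i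
Hom(Z[h_U]^#, M_i) -> Hom(Z[h_U]^#, ⊕_i M_i) is bijective. -/
theorem result {C : Type u} [SmallCategory C] (J : GrothendieckTopology C)
    (U : C) [HasDerivedCategory.{u} (Sheaf J AddCommGrpCat.{u})]
    (h : ∀ (p : ℕ) (ι : Type u), PreservesColimitsOfShape (Discrete ι)
      ((Sheaf.cohomologyPresheafFunctor J p).flip.obj (op U)))
    {I : Type u} (M : I → DerivedCategory (Sheaf J AddCommGrpCat.{u})) [HasCoproduct M] (a : ℤ)
    (hM : ∀ i, (M i).IsGE a) :
    Function.Bijective (CohDer.homSumToHomCoprod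
      ((DerivedCategory.singleFunctor (Sheaf J AddCommGrpCat.{u}) 0).obj (CohCx.freeSheaf J U)) M) := by
  classical
  have hfb : HasFiniteBiproducts (Sheaf J AddCommGrpCat.{u}) :=
    HasFiniteBiproducts.of_hasFiniteProducts
  have hex : HasExactColimitsOfShape (Discrete I) (Sheaf J AddCommGrpCat.{u}) :=
    hasExactColimitsOfShape_discrete_of_hasExactColimitsOfShape_finset_discrete
      (Sheaf J AddCommGrpCat.{u}) I
  -- models by bounded below complexes of injectives
  have hmod : ∀ i, ∃ (L : CochainComplex (Sheaf J AddCommGrpCat.{u}) ℤ), L.IsStrictlyGE a ∧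
      (∀ n, Injective (L.X n)) ∧ Nonempty (DerivedCategory.Q.obj L ≅ M i) := by
    intro i
    have := hM i
    obtain ⟨L₀, hL₀, ⟨e⟩⟩ := (M i).exists_iso_Q_obj_of_isGE a
    obtain ⟨L, j, h1, h2, h3⟩ :=
      CochainComplex.Plus.modelCategoryQuillen.exists_quasiIso_injective L₀ a
    exact ⟨L, h3, h2, ⟨(e ≪≫ asIso (DerivedCategory.Q.map j)).symm⟩⟩
  choose L hLa hLinj hLe using hmod
  let e : ∀ i, DerivedCategory.Q.obj (L i) ≅ M i := fun i => (hLe i).some
  -- the hypotheses on `U`
  have hpres : ∀ p : ℕ, PreservesColimitsOfShape (Discrete I)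
      (Abelian.extFunctorObj (CohCx.freeSheaf J U) p) := fun p => h p I
  have hS : Groth.Agent.Lib.Helper83.CoprodDecomp.DecompObj I (CohCx.freeSheaf J U) :=
    Groth.Agent.Lib.Helper83.ExtCoprod.decompObj_of_preserves _ (hpres 0)
  have hEA : ∀ k, Groth.Agent.Lib.Helper83.ExtAcyc.EA (CohCx.freeSheaf J U)
      ((Groth.Agent.Lib.Helper32.DCoprod.sigmaCx L).X k) := fun k =>
    Groth.Agent.Lib.Helper83.ExtCoprod.EA_sigma _ (fun p _ => hpres p) _
      (fun i => Groth.Agent.Lib.Helper83.ExtAcyc.EA_of_injective _ _)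
  have hGE : (Groth.Agent.Lib.Helper32.DCoprod.sigmaCx L).IsStrictlyGE a := by
    rw [CochainComplex.isStrictlyGE_iff]
    intro k hk
    rw [IsZero.iff_id_eq_zero]
    apply Limits.Sigma.hom_ext
    intro i
    exact ((L i).isZero_of_isStrictlyGE a k hk).eq_of_src _ _
  have h0 := Groth.Agent.Lib.Helper83.CoprodDecomp.finSum_cofanQ_single hS L
    (fun φ => Groth.Agent.Lib.Helper83.SingleLift.exists_qm_eq_of_EA _ _ a hEA φ)
  have h1 := Groth.Agent.Lib.Helper74.ModQc.FinSum.of_iso e
    (Groth.Agent.Lib.Helper32.DCoprod.cofanQ L) h0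
  have h2 := Groth.Agent.Lib.Helper74.ModQc.FinSum.of_isColimit
    (Groth.Agent.Lib.Helper74.ModQc.isColimitCofanOfIso e
      (Groth.Agent.Lib.Helper32.DCoprod.cofanQ L)
      (Groth.Agent.Lib.Helper32.DCoprod.isColimitCofanQ L))
    (coproductIsCoproduct M) h1
  exact Groth.Agent.Lib.Helper74.ModQc.homSumToHomCoprod_bijective_of_finSum _ M h2
end Groth.Agent.S0936
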