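import Groth.Statements.S0938
import Groth.Agent.Lib.Helper45.SummandFree
import Groth.Agent.Lib.Helper49.FreeMod

set_option autoImplicit false
set_option linter.style.haveILetI false
universe u
open CategoryTheory
open Coh Opposite
open Groth.Agent.Lib.Helper45

namespace Groth.Agent.S0938

open AlgebraicGeometry CategoryTheory.Limits in
/-- For a scheme X with R = Γ(X, O_X), the full subcategory of O_X-modules which are retracts of a
finite free O_X-module is equivalent to the full subcategory of R-modules which are finite and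
projective (existence of an equivalence of categories). The published statement is for ringed
spaces; stated here for schemes. -/
theorem result {X : Scheme.{u}} :
    Nonempty ((ObjectProperty.FullSubcategory fun M : X.Modules =>
        ∃ (n : ℕ) (i : M ⟶ FlatMod.freeMod X n) (r : FlatMod.freeMod X n ⟶ M), i ≫ r = 𝟙 M) ≌
      (ObjectProperty.FullSubcategory fun N : ModuleCat.{u} (Γ(X, ⊤)) =>
        Module.Finite (Γ(X, ⊤)) N ∧ Module.Projective (Γ(X, ⊤)) N)) := by
  classical
  let P : ObjectProperty X.Modules := fun M : X.Modules =>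
    ∃ (n : ℕ) (i : M ⟶ FlatMod.freeMod X n) (r : FlatMod.freeMod X n ⟶ M), i ≫ r = 𝟙 M
  let Q : ObjectProperty (ModuleCat.{u} (Γ(X, ⊤))) := fun N : ModuleCat.{u} (Γ(X, ⊤)) =>
    Module.Finite (Γ(X, ⊤)) N ∧ Module.Projective (Γ(X, ⊤)) N
  have hT : Limits.IsTerminal (⊤ : X.Opens) := Limits.isTerminalTop
  -- summand of `freeMod` ⇒ summand of Mathlib's free module
  have hsum : ∀ M : X.Modules, P M → ∃ (n : ℕ) (i : M ⟶ SummandFree.F X.ringCatSheaf n)
      (p : SummandFree.F X.ringCatSheaf n ⟶ M), i ≫ p = 𝟙 M := by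
    rintro M ⟨n, i, r, h⟩
    refine ⟨n, i ≫ (Groth.Agent.Lib.Helper49.freeModIsoFree X n).hom,
      (Groth.Agent.Lib.Helper49.freeModIsoFree X n).inv ≫ r, ?_⟩
    exact (Category.assoc _ _ _).trans ((congrArg (fun t => i ≫ t)
      (Iso.hom_inv_id_assoc (Groth.Agent.Lib.Helper49.freeModIsoFree X n) r)).trans h)
  let G : X.Modules ⥤ ModuleCat.{u} (Γ(X, ⊤)) :=
    SheafOfModules.forget X.ringCatSheaf ⋙ PresheafOfModules.evaluation X.ringCatSheaf.obj (op ⊤)
  have hG : ∀ M : P.FullSubcategory, Q ((P.ι ⋙ G).obj M) := by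
    intro M
    obtain ⟨n, i, p, h⟩ := hsum M.obj M.property
    exact SummandFree.finite_projective_of_summand (R := X.ringCatSheaf) (T := (⊤ : X.Opens)) i p h
  let Φ : P.FullSubcategory ⥤ Q.FullSubcategory := Q.lift (P.ι ⋙ G) hG
  have hbij : ∀ M M' : P.FullSubcategory,
      Function.Bijective (fun φ : M ⟶ M' => (P.ι ⋙ G).map φ) := by
    intro M M'
    obtain ⟨n, i, p, h⟩ := hsum M.obj M.property
    have hb := SummandFree.appT_bijective_of_summand (R := X.ringCatSheaf) hT i p h M'.obj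
    constructor
    · intro φ ψ hφψ
      apply P.ι.map_injective
      apply hb.1
      exact congrArg ModuleCat.Hom.hom hφψ
    · intro g
      obtain ⟨φ, hφ⟩ := hb.2 g.hom
      exact ⟨P.fullyFaithfulι.preimage φ, ModuleCat.hom_ext (by
        rw [← hφ]
        simp only [Functor.comp_map, ObjectProperty.ι_map]
        rfl)⟩
  haveI : (P.ι ⋙ G).Faithful := ⟨fun {M M'} φ ψ h => (hbij M M').1 h⟩
  haveI : (P.ι ⋙ G).Full := ⟨fun {M M'} g => (hbij M M').2 g⟩
  haveI : Φ.EssSurj := by
    refine ⟨fun N => ?_⟩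
    letI : Module ↑(X.ringCatSheaf.obj.obj (op (⊤ : X.Opens))) ↑N.obj :=
      inferInstanceAs (Module (Γ(X, ⊤)) N.obj)
    haveI : Module.Finite ↑(X.ringCatSheaf.obj.obj (op (⊤ : X.Opens))) ↑N.obj := N.property.1
    haveI : Module.Projective ↑(X.ringCatSheaf.obj.obj (op (⊤ : X.Opens))) ↑N.obj := N.property.2
    obtain ⟨n, E, i, p, h, ⟨e⟩⟩ :=
      SummandFree.exists_summand_of_finite_projective (R := X.ringCatSheaf) hT N.obj
    have hE : P E := ⟨n, i ≫ (Groth.Agent.Lib.Helper49.freeModIsoFree X n).inv,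
      (Groth.Agent.Lib.Helper49.freeModIsoFree X n).hom ≫ p,
      (Category.assoc _ _ _).trans ((congrArg (fun t => i ≫ t)
        (Iso.inv_hom_id_assoc (Groth.Agent.Lib.Helper49.freeModIsoFree X n) p)).trans h)⟩
    exact ⟨⟨E, hE⟩, ⟨Q.fullyFaithfulι.preimageIso e.toModuleIso⟩⟩
  haveI : Φ.IsEquivalence := {}
  exact ⟨Φ.asEquivalence⟩

end Groth.Agent.S0938
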