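import Groth.Statements.S0941
import Groth.Agent.Lib.Lead.CechSite3
import Groth.Agent.Lib.Helper5.CechSiteZero
import Groth.Agent.Lib.Helper5.SiteCoh
import Groth.Agent.Lib.Helper5.ExtShift

set_option autoImplicit false
universe u
open CategoryTheory
open CohSite

namespace Groth.Agent.S0941

open Opposite CategoryTheory.Limits Abelian Groth.Agent.Lib.Helper5 Groth.Agent.Lib.Helper5.SiteCoh
  Groth.Agent.Lib.Lead

/-- two surjections with the same kernel have isomorphic targets -/
noncomputable def addEquivOfKerEq {B C₁ C₂ : Type*} [AddCommGroup B] [AddCommGroup C₁]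
    [AddCommGroup C₂] (g₁ : B →+ C₁) (g₂ : B →+ C₂) (h₁ : Function.Surjective g₁)
    (h₂ : Function.Surjective g₂) (hk : g₁.ker = g₂.ker) : C₁ ≃+ C₂ :=
  (QuotientAddGroup.quotientKerEquivOfSurjective g₁ h₁).symm.trans
    ((QuotientAddGroup.quotientAddEquivOfEq hk).trans
      (QuotientAddGroup.quotientKerEquivOfSurjective g₂ h₂))

variable {C : Type u} [SmallCategory C] [HasPullbacks C] {J : GrothendieckTopology C}
  {U : C} {ι : Type u} (Y : ι → Over U)

/-- the acyclicity hypothesis on all finite fibre products -/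
def Acyc (F : Ab J) : Prop :=
  ∀ (n : ℕ) (x : Fin (n + 1) → ι) (q : ℕ),
    Subsingleton (Ext.{u} (freeSheaf J (gObj Y x).left) F (q + 1))

lemma acyc_sesInj_X₃ (F : Ab J) (hF : Acyc Y F) : Acyc Y (sesInj F).X₃ := by
  intro n x q
  have : Subsingleton (Ext.{u} (freeSheaf J (gObj Y x).left) (sesInj F).X₁ (q + 2)) :=
    hF n x (q + 1)
  exact subsingleton_ext_of_shift (sesInj_shortExact F) _ q

omit [HasPullbacks C] in
/-- sections over `V` of a short exact sequence with `H¹(V, S.X₁) = 0` form a short exact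
sequence -/
lemma shortExact_sections {S : ShortComplex (Ab J)} (hS : S.ShortExact) (V : C)
    [Subsingleton (Ext.{u} (freeSheaf J V) S.X₁ 1)] :
    ((S.map (sheafToPresheaf _ _)).map
      ((evaluation Cᵒᵖ AddCommGrpCat.{u}).obj (op V))).ShortExact := by
  have h := (Functor.preservesFiniteLimits_iff_forall_exact_map_and_mono
    (sheafToPresheaf J AddCommGrpCat.{u} ⋙
      (evaluation Cᵒᵖ AddCommGrpCat.{u}).obj (op V))).1 inferInstance S hS
  have hepi : Epi (S.g.hom.app (op V)) := by
    rw [AddCommGrpCat.epi_iff_surjective]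
    intro s
    obtain ⟨φ, hφ⟩ := exists_lift_of_subsingleton_ext_one hS (freeSheaf J V) ((βAdd V S.X₃).symm s)
    refine ⟨βAdd V S.X₂ φ, ?_⟩
    rw [← βAdd_naturality, hφ, AddEquiv.apply_symm_apply]
  exact ShortComplex.ShortExact.mk' h.1 h.2 hepi

/-- the functor from sheaves on `C` to presheaves on `Over U` -/
noncomputable abbrev toOverPsh (J : GrothendieckTopology C) (U : C) :
    Ab J ⥤ ((Over U)ᵒᵖ ⥤ AddCommGrpCat.{u}) :=
  sheafToPresheaf J AddCommGrpCat.{u} ⋙ (Functor.whiskeringLeft _ _ _).obj (Over.forget U).op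

/-- the short exact sequence of Čech complexes attached to `0 ⟶ F ⟶ I ⟶ Q ⟶ 0` -/
lemma cech_shortExact_sesInj (F : Ab J) (hF : Acyc Y F) :
    (((sesInj F).map (toOverPsh J U)).map (cechComplexFunctor Y)).ShortExact := by
  apply gCech_shortExact
  intro n x
  have : Subsingleton (Ext.{u} (freeSheaf J (gObj Y x).left) (sesInj F).X₁ 1) := hF n x 0
  exact shortExact_sections (sesInj_shortExact F) (gObj Y x).left

variable (hY : Sieve.ofArrows (fun i => (Y i).left) (fun i => (Y i).hom) ∈ J U)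

include hY in
/-- degree `0` -/
lemma base0 (F : Ab J) :
    Nonempty (CohCx.cechH F.obj Y 0 ≃+ Ext.{u} (freeSheaf J U) F 0) := by
  have := isIso_sCechEta Y F hY
  exact ⟨((asIso (sCechEta Y F.obj)).addCommGroupIsoToAddEquiv.symm.trans
    (βAdd U F).symm).trans Ext.addEquiv₀.symm⟩

/-- the inductive step -/
lemma step (n : ℕ)
    (ih : ∀ F : Ab J, Acyc Y F →
      Nonempty (CohCx.cechH F.obj Y (n + 1) ≃+ Ext.{u} (freeSheaf J U) F (n + 1)))
    (F : Ab J) (hF : Acyc Y F) :
    Nonempty (CohCx.cechH F.obj Y (n + 2) ≃+ Ext.{u} (freeSheaf J U) F (n + 2)) := by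
  have hT := cech_shortExact_sesInj Y F hF
  obtain ⟨e⟩ := ih _ (acyc_sesInj_X₃ Y F hF)
  have e' := hT.δIso (n + 1) (n + 2) rfl
    (isZero_sCechH_of_injective Y J (sesInj F).X₂ n)
    (isZero_sCechH_of_injective Y J (sesInj F).X₂ (n + 1))
  exact ⟨(e'.symm.addCommGroupIsoToAddEquiv.trans e).trans
    (extShiftAddEquiv (sesInj_shortExact F) (freeSheaf J U) n)⟩

include hY in
/-- degree `1` -/
lemma base1 (F : Ab J) (hF : Acyc Y F) :
    Nonempty (CohCx.cechH F.obj Y 1 ≃+ Ext.{u} (freeSheaf J U) F 1) := by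
  have hS := sesInj_shortExact F
  have hT := cech_shortExact_sesInj Y F hF
  have := isIso_sCechEta Y (sesInj F).X₂ hY
  have := isIso_sCechEta Y (sesInj F).X₃ hY
  let gW : (sesInj F).X₂.obj.obj (op U) →+ (sesInj F).X₃.obj.obj (op U) :=
    ((sesInj F).g.hom.app (op U)).hom
  have hnat : ∀ t : (sesInj F).X₂.obj.obj (op U),
      (HomologicalComplex.homologyMap
        ((cechComplexFunctor Y).map (sPUMap (U := U) (sesInj F).g.hom)) 0)
        (sCechEta Y (sesInj F).X₂.obj t) = sCechEta Y (sesInj F).X₃.obj (gW t) := fun t => by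
    have := ConcreteCategory.congr_hom (sCechEta_naturality Y (sesInj F).g.hom) t
    rwa [ConcreteCategory.comp_apply, ConcreteCategory.comp_apply] at this
  -- Čech side
  let g₁ : (sesInj F).X₃.obj.obj (op U) →+ CohCx.cechH F.obj Y 1 :=
    (sCechEta Y (sesInj F).X₃.obj ≫ hT.δ 0 1 rfl).hom
  have hg₁ : Function.Surjective g₁ := by
    have h1 : Epi (hT.δ 0 1 rfl) :=
      hT.epi_δ 0 1 rfl (isZero_sCechH_of_injective Y J (sesInj F).X₂ 0)
    have h2 : Epi (sCechEta Y (sesInj F).X₃.obj ≫ hT.δ 0 1 rfl) :=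
      epi_comp' (IsIso.epi_of_iso (sCechEta Y (sesInj F).X₃.obj)) h1
    exact (AddCommGrpCat.epi_iff_surjective _).1 h2
  have hk₁ : g₁.ker = gW.range := by
    ext s
    rw [AddMonoidHom.mem_ker, AddMonoidHom.mem_range]
    constructor
    · intro hs
      obtain ⟨y, hy⟩ := (ShortComplex.ab_exact_iff _).1 (hT.homology_exact₃ 0 1 rfl)
        (sCechEta Y (sesInj F).X₃.obj s) hs
      obtain ⟨t, rfl⟩ := (ConcreteCategory.bijective_of_isIso (sCechEta Y (sesInj F).X₂.obj)).2 y
      refine ⟨t, ?_⟩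
      apply (ConcreteCategory.bijective_of_isIso (sCechEta Y (sesInj F).X₃.obj)).1
      rw [← hy]
      exact (hnat t).symm
    · rintro ⟨t, rfl⟩
      change (hT.δ 0 1 rfl) (sCechEta Y (sesInj F).X₃.obj (gW t)) = 0
      rw [← hnat t]
      have := ConcreteCategory.congr_hom (hT.comp_δ 0 1 rfl) (sCechEta Y (sesInj F).X₂.obj t)
      rwa [ConcreteCategory.comp_apply] at this
  -- derived side
  let g₂ : (sesInj F).X₃.obj.obj (op U) →+ Ext.{u} (freeSheaf J U) F 1 :=
    (extBoundary₀ hS (freeSheaf J U)).comp (βAdd U (sesInj F).X₃).symm.toAddMonoidHom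
  have hg₂ : Function.Surjective g₂ :=
    (extBoundary₀_surjective hS (freeSheaf J U)).comp (βAdd U (sesInj F).X₃).symm.surjective
  have hk₂ : g₂.ker = gW.range := by
    ext s
    rw [AddMonoidHom.mem_ker, AddMonoidHom.mem_range]
    change extBoundary₀ hS (freeSheaf J U) ((βAdd U (sesInj F).X₃).symm s) = 0 ↔ _
    rw [extBoundary₀_eq_zero_iff]
    constructor
    · rintro ⟨φ, hφ⟩
      refine ⟨βAdd U (sesInj F).X₂ φ, ?_⟩
      change (sesInj F).g.hom.app (op U) (βAdd U (sesInj F).X₂ φ) = s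
      rw [← βAdd_naturality, hφ, AddEquiv.apply_symm_apply]
    · rintro ⟨t, rfl⟩
      exact ⟨(βAdd U (sesInj F).X₂).symm t, (βAdd_symm_naturality _ _ _).symm⟩
  exact ⟨addEquivOfKerEq g₁ g₂ hg₁ hg₂ (hk₁.trans hk₂.symm)⟩

include hY in
/-- the comparison in all degrees -/
theorem main (p : ℕ) (F : Ab J) (hF : Acyc Y F) :
    Nonempty (CohCx.cechH F.obj Y p ≃+ Ext.{u} (freeSheaf J U) F p) := by
  cases p with
  | zero => exact base0 Y hY F
  | succ p =>
    induction p generalizing F with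
    | zero => exact base1 Y hY F hF
    | succ n ih => exact step Y n (fun G hG => ih G hG) F hF

open CategoryTheory.Limits in
/-- Let C be a site with fibre products, {Y_i -> U} a covering family and F an abelian sheaf with
H^q(Y_{i_0} x_U ... x_U Y_{i_p}, F) = 0 for all q > 0 and all finite tuples of indices. Then for
every p the p-th Cech cohomology group of F with respect to the covering is isomorphic to H^p(U, F). -/
theorem result {C : Type u} [SmallCategory C] [HasPullbacks C]
    (J : GrothendieckTopology C) (F : Sheaf J AddCommGrpCat.{u}) {U : C} {ι : Type u} (Y : ι → Over U)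
    (hY : Sieve.ofArrows (fun i => (Y i).left) (fun i => (Y i).hom) ∈ J U)
    (h : ∀ (p : ℕ) (a : Fin (p + 1) → ι) (q : ℕ),
      Subsingleton (CohSite.HU F (q + 1) (∏ᶜ fun k => Y (a k)).left))
    (p : ℕ) : Nonempty (CohCx.cechH F.obj Y p ≃+ CohSite.HU F p U) := by
  apply main Y hY p F
  intro n x q
  exact h n x q

end Groth.Agent.S0941
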