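import Groth.Statements.S0950
import Groth.Prelude.Def_KFlatSite
import Groth.Agent.Lib.Helper28.SiteKFlatSymm
import Groth.Agent.S9060

set_option autoImplicit false
universe u
open CategoryTheory
attribute [local instance] HasDerivedCategory.standard
open DCoh



namespace Groth.Agent.S0950

open AlgebraicGeometry in
/-- Let α : P -> Q be a quasi-isomorphism between K-flat complexes of O_X-modules. Then for every
complex F the induced map F ⊗ P -> F ⊗ Q is a quasi-isomorphism. -/
theorem result {X : Scheme.{u}} {P Q : CochainComplex X.Modules ℤ} (α : P ⟶ Q)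
    [QuasiIso α] (hP : DCoh.IsKFlat P) (hQ : DCoh.IsKFlat Q) (F : CochainComplex X.Modules ℤ) :
    QuasiIso ((DCoh.tensorCx.obj F).map α) := by
  have conv : ∀ K : CochainComplex (ModSite.Mod X.sheaf) ℤ, ModSite.IsKFlat K →
      Groth.Agent.Lib.Helper28.BiK.KFlatR (ModSite.tensorBi X.sheaf) K := fun K hK L hL => by
    rw [Groth.Agent.Lib.Helper28.BiK.acyclic_iff]
    exact hK L ((Groth.Agent.Lib.Helper28.BiK.acyclic_iff L).1 hL)
  let P' : CochainComplex (ModSite.Mod X.sheaf) ℤ := P
  let Q' : CochainComplex (ModSite.Mod X.sheaf) ℤ := Q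
  let α' : P' ⟶ Q' := α
  have hα : QuasiIso α' := ‹QuasiIso α›
  obtain ⟨F', r, hF', -, hr, -⟩ := Groth.Agent.S9060.result X.sheaf F
  have := Groth.Agent.Lib.Helper28.SiteKFlatSymm.quasiIso_tensor_left_of_resolution X.sheaf
    (conv P' hP) (conv Q' hQ) α' F F' r (conv F' hF')
  exact this

end Groth.Agent.S0950
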