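import Groth.Statements.S9061
import Groth.Agent.Lib.Helper28.FactorRes
import Groth.Agent.S9060
import Groth.Agent.S9057
import Groth.Agent.Lib.Helper30.FlatTwoOfThree

set_option autoImplicit false
universe u
open CategoryTheory CategoryTheory.Limits Opposite
attribute [local instance] HasDerivedCategory.standard
open ModSite



namespace Groth.Agent.S9061

/-- On a ringed site (C, O), let a : K → L be a map of complexes of O-modules with K K-flat. Then there
exist a K-flat complex N and maps b : K → N, c : N → L such that c is a quasi-isomorphism and a is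
homotopic to c ∘ b. If the terms of K are flat, then N may moreover be chosen with flat terms. -/
theorem result
    {C : Type u} [SmallCategory C] {J : GrothendieckTopology C} (O : Sheaf J CommRingCat.{u})
    {K L : CochainComplex (ModSite.Mod O) ℤ} (a : K ⟶ L) (hK : ModSite.IsKFlat K) :
    ∃ (N : CochainComplex (ModSite.Mod O) ℤ) (b : K ⟶ N) (c : N ⟶ L), ModSite.IsKFlat N ∧ QuasiIso c ∧
      Nonempty (Homotopy a (b ≫ c)) ∧
      ((∀ n : ℤ, ModSite.IsFlat (K.X n)) → ∀ n : ℤ, ModSite.IsFlat (N.X n)) := by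
  obtain ⟨N, M, b, v, c, w, ⟨hMk, hMf⟩, hS, hc, hbc⟩ :=
    Groth.Agent.Lib.Helper28.FactorRes.exists_factorization
      (fun M : CochainComplex (ModSite.Mod O) ℤ => ModSite.IsKFlat M ∧ ∀ n : ℤ, ModSite.IsFlat (M.X n))
      (fun G => by
        obtain ⟨K, q, h1, h2, h3, h4⟩ := Groth.Agent.S9060.result O G
        exact ⟨K, q, ⟨h1, h2⟩, h3, h4⟩) a
  refine ⟨N, b, c, ?_, hc, ⟨Homotopy.ofEq hbc.symm⟩, ?_⟩
  · exact (Groth.Agent.S9057.result O (ShortComplex.mk b v w) hS hMf).2.1 hK hMk
  · intro hKf n
    have hS' := (HomologicalComplex.shortExact_iff_degreewise_shortExact _).1 hS n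
    exact Groth.Agent.Lib.Helper30.FlatSES.isFlat_X₂ O _ hS' (hKf n) (hMf n)

end Groth.Agent.S9061
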