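import Groth.Statements.S0961
import Groth.Agent.Lib.Helper5.ProjZigzag
import Groth.Agent.Lib.Helper5.LTensorCxCompute
import Groth.Agent.S0952

set_option autoImplicit false
universe u
open CategoryTheory
attribute [local instance] HasDerivedCategory.standard
open DCoh

namespace Groth.Agent.S0961

open AlgebraicGeometry CategoryTheory.Limits

open Groth.Agent.Lib.Helper5.PullTensorIso Groth.Agent.Lib.Helper5.ProjFormula
  Groth.Agent.Lib.Helper5.LTensorCxCompute Groth.Agent.Lib.Helper5.ProjLoc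
  Groth.Agent.Lib.Helper5.ProjZigzag Groth.Agent.Lib.Helper32.OpenKInj

theorem main {X Y : Scheme.{u}} (f : X ⟶ Y) [DCoh.HasRpush f]
    (P : CochainComplex Y.Modules ℤ) (hP : DCoh.IsKFlat P)
    (hperf : DCoh.IsPerfect (DerivedCategory.Q.obj P))
    [DCoh.HasLTensorCx P] [DCoh.HasLTensorCx ((pullCx f).obj P)] (E : DCoh.D X) :
    Nonempty ((DCoh.LTensorCx P).obj ((DCoh.Rpush f).obj E) ≅
      (DCoh.Rpush f).obj ((DCoh.LTensorCx ((pullCx f).obj P)).obj E)) := by
  obtain ⟨I, hI, ⟨e₀⟩⟩ := Groth.Agent.Lib.Helper32.TriRF.exists_kInj_rep (hasKInjRes X) E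
  have hfP : DCoh.IsKFlat ((pullCx f).obj P) := Groth.Agent.S0952.result f P hP
  have h1 : IsIso (cMap f I P) := isIso_cMap f I P hP hperf
  have h2 : IsIso (βR f I) :=
    Groth.Agent.Lib.Helper32.TriRF.isIso_β (Scheme.Modules.pushforward f) (DCoh.Rpush f) (αR f)
      (hasKInjRes X) I
  exact ⟨(DCoh.LTensorCx P).mapIso ((DCoh.Rpush f).mapIso e₀.symm ≪≫ (asIso (βR f I)).symm) ≪≫
    ltensorCxIso' P hP ((pushCx f).obj I) ≪≫
    asIso (cMap f I P) ≪≫
    (DCoh.Rpush f).mapIso ((ltensorCxIso' ((pullCx f).obj P) hfP I).symm ≪≫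
      (DCoh.LTensorCx ((pullCx f).obj P)).mapIso e₀)⟩

end Groth.Agent.S0961


namespace Groth.Agent.S0961

open AlgebraicGeometry in
/-- Schemes; K given by a K-flat complex P representing a perfect object, so that Lf^*K is f^*P: for f :
X -> Y, E in D(O_X) and such a P there is an isomorphism Rf_* E ⊗^L P ≅ Rf_*(E ⊗^L f^* P). The
derived functors are taken under their existence binders. -/
theorem result {X Y : Scheme.{u}} (f : X ⟶ Y) [DCoh.HasRpush f] (P : CochainComplex Y.Modules ℤ)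
    (hP : DCoh.IsKFlat P) (hperf : DCoh.IsPerfect (DerivedCategory.Q.obj P))
    [DCoh.HasLTensorCx P] [DCoh.HasLTensorCx (((Scheme.Modules.pullback f).mapHomologicalComplex (ComplexShape.up ℤ)).obj P)] (E : DCoh.D X) :
    Nonempty ((DCoh.LTensorCx P).obj ((DCoh.Rpush f).obj E) ≅
      (DCoh.Rpush f).obj ((DCoh.LTensorCx (((Scheme.Modules.pullback f).mapHomologicalComplex (ComplexShape.up ℤ)).obj P)).obj E)) := by
  exact Groth.Agent.S0961.main f P hP hperf E

end Groth.Agent.S0961
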