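import Groth.Statements.S0963
import Groth.Agent.Lib.Helper28.TorAmp
import Groth.Agent.Lib.Helper28.LTensorTriangle

set_option autoImplicit false
universe u
open CategoryTheory
attribute [local instance] HasDerivedCategory.standard
open DCoh



namespace Groth.Agent.S0963

open AlgebraicGeometry CategoryTheory.Pretriangulated in
/-- Schemes; hypotheses in the flat-representative form of tor-amplitude, conclusions in the
derived-tensor form: for a distinguished triangle K -> L -> M -> K[1] in D(O_X) and integers a, b: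
(1) tor-amplitude of K in [a+1, b+1] and of L in [a, b] give tor-amplitude of M in [a, b]; (2)
tor-amplitude of K and of M in [a, b] give the same for L; (3) tor-amplitude of L in [a+1, b+1] and
of M in [a, b] give tor-amplitude of K in [a+1, b+1]. -/
theorem result {X : Scheme.{u}} (T : Triangle (DCoh.D X)) (hT : T ∈ distinguishedTriangles)
    (a b : ℤ) :
    (DCoh.HasFlatAmplitudeIn (a + 1) (b + 1) T.obj₁ → DCoh.HasFlatAmplitudeIn a b T.obj₂ →
      DCoh.HasTorAmplitudeIn a b T.obj₃) ∧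
    (DCoh.HasFlatAmplitudeIn a b T.obj₁ → DCoh.HasFlatAmplitudeIn a b T.obj₃ → DCoh.HasTorAmplitudeIn a b T.obj₂) ∧
    (DCoh.HasFlatAmplitudeIn (a + 1) (b + 1) T.obj₂ → DCoh.HasFlatAmplitudeIn a b T.obj₃ →
      DCoh.HasTorAmplitudeIn (a + 1) (b + 1) T.obj₁) := by
  refine ⟨fun h₁ h₂ => ?_, fun h₁ h₃ => ?_, fun h₂ h₃ => ?_⟩
  · have t₁ := Groth.Agent.Lib.Helper28.TorAmp.hasTorAmplitudeIn_of_hasFlatAmplitudeIn _ _ _ h₁
    have t₂ := Groth.Agent.Lib.Helper28.TorAmp.hasTorAmplitudeIn_of_hasFlatAmplitudeIn _ _ _ h₂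
    intro F _ i hi
    exact Groth.Agent.Lib.Helper28.LTensorTriangle.isZero_HD_ltensor_obj₃ T hT F i (i + 1) rfl
      (t₂ F i hi) (t₁ F (i + 1) (by lia))
  · have t₁ := Groth.Agent.Lib.Helper28.TorAmp.hasTorAmplitudeIn_of_hasFlatAmplitudeIn _ _ _ h₁
    have t₃ := Groth.Agent.Lib.Helper28.TorAmp.hasTorAmplitudeIn_of_hasFlatAmplitudeIn _ _ _
      (Groth.Agent.Lib.Helper28.LTensorTriangle.hasFlatAmplitudeIn_shift_neg_one _ _ _ h₃)
    intro F _ i hi
    exact Groth.Agent.Lib.Helper28.LTensorTriangle.isZero_HD_ltensor_obj₃ T.invRotate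
      (inv_rot_of_distTriang _ hT) F i (i + 1) rfl (t₁ F i hi) (t₃ F (i + 1) (by lia))
  · have t₃ := Groth.Agent.Lib.Helper28.TorAmp.hasTorAmplitudeIn_of_hasFlatAmplitudeIn _ _ _
      (Groth.Agent.Lib.Helper28.LTensorTriangle.hasFlatAmplitudeIn_shift_neg_one _ _ _ h₃)
    have t₂ := Groth.Agent.Lib.Helper28.TorAmp.hasTorAmplitudeIn_of_hasFlatAmplitudeIn _ _ _
      (Groth.Agent.Lib.Helper28.LTensorTriangle.hasFlatAmplitudeIn_shift_neg_one _ _ _ h₂)
    intro F _ i hi
    exact Groth.Agent.Lib.Helper28.LTensorTriangle.isZero_HD_ltensor_obj₃ T.invRotate.invRotate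
      (inv_rot_of_distTriang _ (inv_rot_of_distTriang _ hT)) F i (i + 1) rfl
      (t₃ F i hi) (t₂ F (i + 1) (by lia))

end Groth.Agent.S0963
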