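import Groth.Statements.S12510
import Groth.Agent.Lib.Helper5.TotAssocNat
import Groth.Agent.Lib.Helper5.LTensorCxCompute

set_option autoImplicit false
universe u
open CategoryTheory
attribute [local instance] HasDerivedCategory.standard
open DCoh

namespace Groth.Agent.S12510

open CategoryTheory.Limits HomologicalComplex

open AlgebraicGeometry Groth.Agent.Lib.Helper5.TotAssocNat Groth.Agent.Lib.Helper5.LTensorCompute
  Groth.Agent.Lib.Helper5.LTensorCxCompute
  Groth.Agent.Lib.Helper28 Groth.Agent.Lib.Helper30.ModTensorAdj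

variable {X : Scheme.{u}} (K L : CochainComplex X.Modules ℤ)

/-- the associator for total tensor complexes on a scheme. -/
noncomputable def totAssocS (N K L : CochainComplex X.Modules ℤ) :
    (DCoh.tensorCx.obj ((DCoh.tensorCx.obj N).obj K)).obj L ≅
      (DCoh.tensorCx.obj N).obj ((DCoh.tensorCx.obj K).obj L) :=
  @totAssoc _ _ _ X.sheaf N K L

/-- the associator as a natural transformation in the first variable. -/
noncomputable def assocNat :
    (DCoh.tensorCx (X := X)).flip.obj K ⋙ (DCoh.tensorCx (X := X)).flip.obj L ⟶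
      (DCoh.tensorCx (X := X)).flip.obj ((DCoh.tensorCx.obj K).obj L) where
  app N := (totAssocS N K L).hom
  naturality N N' f := @totAssoc_hom_naturality₁ _ _ _ X.sheaf N N' f K L

/-- the counit of `- ⊗^L E`. -/
noncomputable abbrev ε (E : CochainComplex X.Modules ℤ) [DCoh.HasLTensorCx E] :
    DerivedCategory.Q ⋙ DCoh.LTensorCx E ⟶ DCoh.tensorCxQ E :=
  (DCoh.tensorCxQ E).totalLeftDerivedCounit DerivedCategory.Q
    (HomologicalComplex.quasiIso X.Modules (ComplexShape.up ℤ))

/-- the comparison datum `Q ⋙ (- ⊗^L K) ⊗^L L ⟶ Q(- ⊗ (K ⊗ L))`. -/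
noncomputable def β [DCoh.HasLTensorCx K] [DCoh.HasLTensorCx L] :
    DerivedCategory.Q ⋙ (DCoh.LTensorCx K ⋙ DCoh.LTensorCx L) ⟶
      DCoh.tensorCxQ ((DCoh.tensorCx.obj K).obj L) :=
  (Functor.associator _ _ _).inv ≫ Functor.whiskerRight (ε K) (DCoh.LTensorCx L) ≫
    (Functor.associator _ _ _).hom ≫
    Functor.whiskerLeft ((DCoh.tensorCx (X := X)).flip.obj K) (ε L) ≫
    (Functor.associator _ _ _).inv ≫ Functor.whiskerRight (assocNat K L) DerivedCategory.Q

lemma β_app [DCoh.HasLTensorCx K] [DCoh.HasLTensorCx L] (N : CochainComplex X.Modules ℤ) :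
    (β K L).app N = (DCoh.LTensorCx L).map ((ε K).app N) ≫
      (ε L).app ((DCoh.tensorCx.obj N).obj K) ≫ DerivedCategory.Q.map (totAssocS N K L).hom := by
  simp [β, assocNat]

/-- the comparison `(- ⊗^L K) ⊗^L L ⟶ - ⊗^L (K ⊗ L)`. -/
noncomputable def φ [DCoh.HasLTensorCx K] [DCoh.HasLTensorCx L]
    [DCoh.HasLTensorCx ((DCoh.tensorCx.obj K).obj L)] :
    DCoh.LTensorCx K ⋙ DCoh.LTensorCx L ⟶ DCoh.LTensorCx ((DCoh.tensorCx.obj K).obj L) :=
  (DCoh.LTensorCx ((DCoh.tensorCx.obj K).obj L)).leftDerivedLift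
    (ε ((DCoh.tensorCx.obj K).obj L))
    (HomologicalComplex.quasiIso X.Modules (ComplexShape.up ℤ)) _ (β K L)

lemma φ_fac [DCoh.HasLTensorCx K] [DCoh.HasLTensorCx L]
    [DCoh.HasLTensorCx ((DCoh.tensorCx.obj K).obj L)] (N : CochainComplex X.Modules ℤ) :
    (φ K L).app (DerivedCategory.Q.obj N) ≫ (ε ((DCoh.tensorCx.obj K).obj L)).app N =
      (β K L).app N :=
  Functor.leftDerived_fac_app _ _ _ _ _ _

lemma isIso_φ_app_of_isKFlat [DCoh.HasLTensorCx K] [DCoh.HasLTensorCx L]
    [DCoh.HasLTensorCx ((DCoh.tensorCx.obj K).obj L)] (hL : DCoh.IsKFlat L)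
    (P : CochainComplex X.Modules ℤ) (hP : DCoh.IsKFlat P) :
    IsIso ((φ K L).app (DerivedCategory.Q.obj P)) := by
  have h1 : IsIso ((ε ((DCoh.tensorCx.obj K).obj L)).app P) := isIso_counitCx _ P hP
  have h2 : IsIso ((ε K).app P) := isIso_counitCx _ P hP
  have h3 : IsIso (ε L) := isIso_counitCx_of_isKFlat L hL
  have h4 : IsIso ((β K L).app P) := by
    rw [β_app]
    infer_instance
  have h5 := φ_fac K L P
  rw [← h5] at h4
  exact IsIso.of_isIso_comp_right _ ((ε ((DCoh.tensorCx.obj K).obj L)).app P)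

theorem isIso_φ [DCoh.HasLTensorCx K] [DCoh.HasLTensorCx L]
    [DCoh.HasLTensorCx ((DCoh.tensorCx.obj K).obj L)] (hL : DCoh.IsKFlat L) :
    IsIso (φ K L) := by
  refine @NatIso.isIso_of_isIso_app _ _ _ _ _ _ _ (fun M => ?_)
  obtain ⟨N, ⟨e⟩⟩ : ∃ N : CochainComplex X.Modules ℤ, Nonempty (DerivedCategory.Q.obj N ≅ M) :=
    ⟨_, ⟨DerivedCategory.Q.objObjPreimageIso M⟩⟩
  obtain ⟨P, q, hP, -, hq, -⟩ := Groth.Agent.S9060.result X.sheaf N
  have : IsIso (DerivedCategory.Q.map q) := by
    rw [DerivedCategory.isIso_Q_map_iff_quasiIso]; exact hq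
  have e' : DerivedCategory.Q.obj P ≅ M := asIso (DerivedCategory.Q.map q) ≪≫ e
  have := isIso_φ_app_of_isKFlat K L hL P hP
  exact (NatTrans.isIso_app_iff_of_iso (φ K L) e').1 this

end Groth.Agent.S12510

namespace Groth.Agent.S12510

open AlgebraicGeometry in
/-- For schemes and with the complex L K-flat. Let X be a scheme and K, L cochain complexes of
O_X-modules with L K-flat, so that K ⊗^L L is the total tensor complex K ⊗ L; take the derived
tensor functors − ⊗^L K, − ⊗^L L, − ⊗^L (K ⊗ L) and their right adjoints RHom under their existence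
binders. Then the functors RHom(K ⊗ L, −) and RHom(K, RHom(L, −)) from D(O_X) to itself are
isomorphic. (The published statement is a natural isomorphism of triangulated functors in all three
variables on a ringed space; this row asserts the existence of an isomorphism of functors in the
last variable, which refines the objectwise statement.) -/
theorem result {X : Scheme.{u}} (K L : CochainComplex X.Modules ℤ) (hL : DCoh.IsKFlat L)
    [DCoh.HasLTensorCx K] [DCoh.HasRSheafHom K] [DCoh.HasLTensorCx L] [DCoh.HasRSheafHom L]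
    [DCoh.HasLTensorCx ((DCoh.tensorCx.obj K).obj L)] [DCoh.HasRSheafHom ((DCoh.tensorCx.obj K).obj L)] :
    Nonempty (DCoh.RSheafHom ((DCoh.tensorCx.obj K).obj L) ≅ DCoh.RSheafHom L ⋙ DCoh.RSheafHom K) := by
  have := Groth.Agent.S12510.isIso_φ K L hL
  exact ⟨CategoryTheory.conjugateIsoEquiv (DCoh.RSheafHomAdj ((DCoh.tensorCx.obj K).obj L))
    ((DCoh.RSheafHomAdj K).comp (DCoh.RSheafHomAdj L)) (CategoryTheory.asIso (Groth.Agent.S12510.φ K L))⟩

end Groth.Agent.S12510
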