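import Groth.Statements.S0966
import Groth.Agent.Lib.Helper5.ProjFormula
import Groth.Agent.Lib.Helper5.LTensorCxCompute
import Groth.Agent.S0952

set_option autoImplicit false
universe u
open CategoryTheory
attribute [local instance] HasDerivedCategory.standard
open DCoh

namespace Groth.Agent.S0966

open AlgebraicGeometry CategoryTheory.Limits

open Groth.Agent.Lib.Helper5.PullTensorIso Groth.Agent.Lib.Helper5.ProjFormula
  Groth.Agent.Lib.Helper5.LTensorCxCompute

variable {X Y : Scheme.{u}} (f : X ⟶ Y)

instance preservesFiniteColimits_pushforward [IsClosedImmersion f] :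
    PreservesFiniteColimits (Scheme.Modules.pushforward f) := by
  have h := Groth.Agent.Helper19.ClosedColim.preservesColimits_pushforward_of_isClosedImmersion f
  have : PreservesColimitsOfSize.{0, 0} (Scheme.Modules.pushforward f) :=
    preservesColimitsOfSize_shrink.{0, u, 0, u} _
  exact PreservesColimitsOfSize.preservesFiniteColimits _

instance preservesFiniteLimits_pushforward : PreservesFiniteLimits (Scheme.Modules.pushforward f) := by
  have : (Scheme.Modules.pushforward f).IsRightAdjoint :=
    (Scheme.Modules.pullbackPushforwardAdjunction f).isRightAdjoint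
  infer_instance

lemma isInvertedBy_pushKh [IsClosedImmersion f] :
    (HomotopyCategory.quasiIso X.Modules (ComplexShape.up ℤ)).IsInvertedBy (DCoh.pushKh f) := by
  intro Z₀ Z₁ s hs
  obtain ⟨K₀, rfl⟩ := HomotopyCategory.quotient_obj_surjective Z₀
  obtain ⟨K₁, rfl⟩ := HomotopyCategory.quotient_obj_surjective Z₁
  obtain ⟨s', rfl⟩ := (HomotopyCategory.quotient X.Modules (ComplexShape.up ℤ)).map_surjective s
  rw [HomotopyCategory.quotient_map_mem_quasiIso_iff] at hs
  have hs' : QuasiIso s' := hs
  show IsIso (DerivedCategory.Q.map ((pushCx f).map s'))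
  infer_instance

theorem isIso_unit_Rpush [IsClosedImmersion f] [DCoh.HasRpush f] :
    IsIso ((DCoh.pushKh f).totalRightDerivedUnit DerivedCategory.Qh
      (HomotopyCategory.quasiIso X.Modules (ComplexShape.up ℤ))) :=
  Functor.isIso_of_isRightDerivedFunctor_of_inverts (DCoh.Rpush f) _ (isInvertedBy_pushKh f)

/-- `Rf_*` is computed termwise for a closed immersion. -/
noncomputable def rpushIso [IsClosedImmersion f] [DCoh.HasRpush f] (E : CochainComplex X.Modules ℤ) :
    (DCoh.Rpush f).obj (DCoh.toD X E) ≅ DCoh.toD Y ((pushCx f).obj E) :=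
  haveI := isIso_unit_Rpush f
  ((asIso ((DCoh.pushKh f).totalRightDerivedUnit DerivedCategory.Qh
    (HomotopyCategory.quasiIso X.Modules (ComplexShape.up ℤ)))).app
      ((HomotopyCategory.quotient X.Modules (ComplexShape.up ℤ)).obj E)).symm

theorem main [IsClosedImmersion f] [DCoh.HasRpush f]
    (P : CochainComplex Y.Modules ℤ) (hP : DCoh.IsKFlat P)
    (hfP : DCoh.IsKFlat ((pullCx f).obj P))
    [DCoh.HasLTensorCx P] [DCoh.HasLTensorCx ((pullCx f).obj P)] (E : DCoh.D X) :
    Nonempty ((DCoh.LTensorCx P).obj ((DCoh.Rpush f).obj E) ≅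
      (DCoh.Rpush f).obj ((DCoh.LTensorCx ((pullCx f).obj P)).obj E)) := by
  let E' := DerivedCategory.Q.objPreimage E
  let e₀ : DCoh.toD X E' ≅ E := DerivedCategory.Q.objObjPreimageIso E
  exact ⟨(DCoh.LTensorCx P).mapIso ((DCoh.Rpush f).mapIso e₀.symm ≪≫ rpushIso f E') ≪≫
    ltensorCxIso' P hP ((pushCx f).obj E') ≪≫
    DerivedCategory.Q.mapIso (projTotIso f E' P).symm ≪≫
    (rpushIso f ((DCoh.tensorCx.obj E').obj ((pullCx f).obj P))).symm ≪≫
    (DCoh.Rpush f).mapIso ((ltensorCxIso' ((pullCx f).obj P) hfP E').symm ≪≫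
      (DCoh.LTensorCx ((pullCx f).obj P)).mapIso e₀)⟩

end Groth.Agent.S0966


namespace Groth.Agent.S0966

open AlgebraicGeometry in
/-- Schemes, f a closed immersion; K given by a K-flat complex P so that Lf^*K is f^*P: for E in D(O_X)
there is an isomorphism Rf_* E ⊗^L P ≅ Rf_*(E ⊗^L f^* P), with no perfectness assumption on P. The
derived functors are taken under their existence binders. -/
theorem result {X Y : Scheme.{u}} (f : X ⟶ Y) [IsClosedImmersion f] [DCoh.HasRpush f]
    (P : CochainComplex Y.Modules ℤ) (hP : DCoh.IsKFlat P)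
    [DCoh.HasLTensorCx P] [DCoh.HasLTensorCx (((Scheme.Modules.pullback f).mapHomologicalComplex (ComplexShape.up ℤ)).obj P)] (E : DCoh.D X) :
    Nonempty ((DCoh.LTensorCx P).obj ((DCoh.Rpush f).obj E) ≅
      (DCoh.Rpush f).obj ((DCoh.LTensorCx (((Scheme.Modules.pullback f).mapHomologicalComplex (ComplexShape.up ℤ)).obj P)).obj E)) := by
  exact Groth.Agent.S0966.main f P hP (Groth.Agent.S0952.result f P hP) E

end Groth.Agent.S0966
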