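import Groth.Statements.S0968
import Groth.Agent.Lib.Helper28.TorAmp
import Groth.Agent.Lib.Helper28.FlatCoker
import Groth.Agent.Lib.Helper28.StalkFlatConv
import Groth.Agent.Lib.Helper5.StalkFlat

set_option autoImplicit false
universe u
open CategoryTheory
attribute [local instance] HasDerivedCategory.standard
open DCoh



namespace Groth.Agent.S0968

open AlgebraicGeometry CategoryTheory.Limits in
/-- For a bounded above complex E of flat O_X-modules whose image in D(O_X) has tor-amplitude in [a, b]
(derived-tensor form; the existence of – ⊗^L G for every O_X-module G is assumed, hypothesis hL),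
the cokernel of the differential E^{a-1} -> E^a is a flat O_X-module. -/
theorem result {X : Scheme.{u}} (E : CochainComplex X.Modules ℤ) (n : ℤ) (hn : E.IsStrictlyLE n)
    (hflat : ∀ i : ℤ, FlatMod.IsFlat (E.X i)) (hL : ∀ G : X.Modules, DCoh.HasLTensorMod G) (a b : ℤ)
    (hE : DCoh.HasTorAmplitudeIn a b (DCoh.toD X E)) :
    FlatMod.IsFlat (cokernel (E.d (a - 1) a)) := by
  have hKF := Groth.Agent.Lib.Helper28.TorAmp.kf_of_flat_bddAbove E n hn hflat
  have hflS : ∀ i, ModSite.IsFlat (O := X.sheaf) (E.X i) := fun i =>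
    Groth.Agent.Lib.Helper5.StalkFlat.isFlat_of_stalks X.sheaf (E.X i) (fun x => hflat i x)
  have key : ModSite.IsFlat (O := X.sheaf) (cokernel (E.d (a - 1) a)) := by
    refine Groth.Agent.Lib.Helper28.FlatCoker.isFlat_cokernel_of_exact X.sheaf
      (E.d (a - 2) (a - 1)) (E.d (a - 1) a) (E.d_comp_d _ _ _) (hflS a) (fun G => ?_)
    haveI := hL G
    have h1 := hE G (a - 1) (Or.inl (by lia))
    rw [Groth.Agent.Lib.Helper28.LTensorCompute.isZero_HD_ltensor_iff G E hKF (a - 1)] at h1
    rw [HomologicalComplex.exactAt_iff' _ (a - 2) (a - 1) a (by simp; lia) (by simp)] at h1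
    exact h1
  intro x
  exact Groth.Agent.Lib.Helper28.StalkFlatConv.flat_stalk_of_isFlat X.sheaf _ key x

end Groth.Agent.S0968
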