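import Groth.Statements.S0972
import Groth.Agent.Lib.Helper74.DimRes.Replace
import Groth.Agent.Lib.Helper74.DimRes.SeqColim

set_option autoImplicit false
universe v u
open CategoryTheory CategoryTheory.Limits
open CohDer

namespace Groth.Agent.S0972.Aux

open Groth.Agent.Lib.Helper74.DimRes

variable {A : Type u} [Category.{v} A] [Abelian A]

/-- a choice, for every object, of an embedding into an object with `d = 0`, which is an
isomorphism when the object already has `d = 0` -/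
structure Emb (d : A → ℕ∞) where
  /-- the target -/
  E : A → A
  /-- the embedding -/
  ι : ∀ X, X ⟶ E X
  mono : ∀ X, Mono (ι X)
  zero : ∀ X, d (E X) = 0
  iso : ∀ X, d X = 0 → IsIso (ι X)

omit [Abelian A] in
lemma exists_emb (d : A → ℕ∞)
    (h1 : ∀ X : A, ∃ (Y : A) (ι : X ⟶ Y), Mono ι ∧ d Y = 0) : Nonempty (Emb d) := by
  have hemb : ∀ X : A, ∃ (Y : A) (ι : X ⟶ Y), Mono ι ∧ d Y = 0 ∧ (d X = 0 → IsIso ι) := by
    intro X
    by_cases h : d X = 0
    · exact ⟨X, 𝟙 X, inferInstance, h, fun _ => inferInstance⟩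
    · obtain ⟨Y, ι, hι, hY⟩ := h1 X
      exact ⟨Y, ι, hι, hY, fun h' => absurd h' h⟩
  choose E ι hm hz hi using hemb
  exact ⟨⟨E, ι, hm, hz, hi⟩⟩

variable {d : A → ℕ∞} (e : Emb d)

instance (X : A) : Mono (e.ι X) := e.mono X

/-- one replacement step -/
noncomputable def Emb.R (K : CochainComplex A ℤ) : CochainComplex A ℤ :=
  repl K (M := fun m => e.E (K.X m)) (fun m => e.ι (K.X m))

/-- the canonical quasi-isomorphism `K ⟶ R K` -/
noncomputable def Emb.r (K : CochainComplex A ℤ) : K ⟶ e.R K :=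
  replInl K (M := fun m => e.E (K.X m)) (fun m => e.ι (K.X m))

instance quasiIso_r (K : CochainComplex A ℤ) : QuasiIso (e.r K) :=
  quasiIso_replInl K (M := fun m => e.E (K.X m)) (fun m => e.ι (K.X m))

lemma isIso_r_f (K : CochainComplex A ℤ) (m : ℤ) (h0 : d (K.X m) = 0)
    (h1 : d (K.X (m - 1)) = 0) : IsIso ((e.r K).f m) := by
  have : IsIso (e.ι (K.X m)) := e.iso _ h0
  have : IsIso (e.ι (K.X (m - 1))) := e.iso _ h1
  exact isIso_replInl_f K (M := fun m => e.E (K.X m)) (fun m => e.ι (K.X m)) m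

lemma bound1 (h2 : ∀ X Y : A, d (X ⊞ Y) ≤ max (d X) (d Y))
    (h3 : ∀ S : ShortComplex A, S.ShortExact → d S.X₃ ≤ max (d S.X₁ - 1) (d S.X₂))
    (K : CochainComplex A ℤ) (m : ℤ) : d ((e.R K).X m) ≤ d (K.X (m - 1)) - 1 := by
  have hS := repl_shortExact_f K (M := fun m => e.E (K.X m)) (fun m => e.ι (K.X m)) m
  have h := h3 _ hS
  dsimp at h
  have h20 : d (e.E (K.X m) ⊞ e.E (K.X (m - 1))) ≤ 0 := by
    refine (h2 _ _).trans ?_
    rw [e.zero, e.zero, max_self]
  exact h.trans (max_le le_rfl (h20.trans zero_le))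

/-- the sequence of iterated replacements -/
noncomputable def Emb.seq (K : CochainComplex A ℤ) : ℕ → CochainComplex A ℤ
  | 0 => K
  | (s + 1) => e.R (Emb.seq K s)

/-- the transition maps -/
noncomputable def Emb.seqMap (K : CochainComplex A ℤ) (s : ℕ) : e.seq K s ⟶ e.seq K (s + 1) :=
  e.r (e.seq K s)

instance quasiIso_seqMap (K : CochainComplex A ℤ) (s : ℕ) : QuasiIso (e.seqMap K s) :=
  quasiIso_r e (e.seq K s)

lemma seq_bound (h2 : ∀ X Y : A, d (X ⊞ Y) ≤ max (d X) (d Y))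
    (h3 : ∀ S : ShortComplex A, S.ShortExact → d S.X₃ ≤ max (d S.X₁ - 1) (d S.X₂))
    (K : CochainComplex A ℤ) (s : ℕ) :
    ∀ m : ℤ, d ((e.seq K s).X m) ≤ d (K.X (m - (s : ℤ))) - (s : ℕ∞) := by
  induction s with
  | zero =>
    intro m
    simp [Emb.seq]
  | succ s ih =>
    intro m
    have hb := bound1 e h2 h3 (e.seq K s) m
    have hi := ih (m - 1)
    have e1 : m - 1 - (s : ℤ) = m - ((s + 1 : ℕ) : ℤ) := by push_cast; omega
    have e2 : (s : ℕ∞) + 1 = ((s + 1 : ℕ) : ℕ∞) := by push_cast; rfl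
    calc d ((e.seq K (s + 1)).X m) ≤ d ((e.seq K s).X (m - 1)) - 1 := hb
      _ ≤ (d (K.X (m - 1 - (s : ℤ))) - (s : ℕ∞)) - 1 := tsub_le_tsub_right hi 1
      _ = d (K.X (m - ((s + 1 : ℕ) : ℤ))) - ((s + 1 : ℕ) : ℕ∞) := by
          rw [tsub_tsub, e1, e2]

lemma seq_zero (h2 : ∀ X Y : A, d (X ⊞ Y) ≤ max (d X) (d Y))
    (h3 : ∀ S : ShortComplex A, S.ShortExact → d S.X₃ ≤ max (d S.X₁ - 1) (d S.X₂))
    (K : CochainComplex A ℤ)
    (hK : ∀ m : ℤ, ∃ N : ℤ, ∀ n : ℤ, n ≤ N → ∃ k : ℕ, d (K.X n) = k ∧ n + k ≤ m) (m : ℤ) :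
    ∃ s₀ : ℕ, ∀ s : ℕ, s₀ ≤ s → d ((e.seq K s).X m) = 0 := by
  obtain ⟨N, hN⟩ := hK m
  refine ⟨(m - N).toNat, fun s hs => ?_⟩
  have hn : m - (s : ℤ) ≤ N := by
    have := Int.self_le_toNat (m - N)
    omega
  obtain ⟨k, hk, hk'⟩ := hN _ hn
  have hks : k ≤ s := by omega
  have hb := seq_bound e h2 h3 K s m
  rw [hk] at hb
  have h0 : (k : ℕ∞) - (s : ℕ∞) = 0 := tsub_eq_zero_of_le (by exact_mod_cast hks)
  rw [h0] at hb
  exact le_antisymm hb zero_le

end Groth.Agent.S0972.Aux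

namespace Groth.Agent.S0972

/-- Let d assign to each object of an abelian category a value in ℕ∞, invariant under isomorphism, such
that every object embeds into an object with d = 0, d of a binary biproduct is at most the maximum
of the d of the summands, and in a short exact sequence 0 → X₁ → X₂ → X₃ → 0 one has d(X₃) ≤
max(d(X₁) - 1, d(X₂)). If K is a cochain complex with all d(Kⁿ) finite (the source allows the value
∞; we state the finite case) and n + d(Kⁿ) tending to -∞ as n → -∞, then K maps quasi-isomorphically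
to a complex L all of whose terms have d = 0. -/
theorem result {A : Type u} [Category.{v} A] [Abelian A] (d : A → ℕ∞) (hiso : ∀ ⦃X Y : A⦄, Nonempty (X ≅ Y) → d X = d Y)
    (h1 : ∀ X : A, ∃ (Y : A) (ι : X ⟶ Y), Mono ι ∧ d Y = 0)
    (h2 : ∀ X Y : A, d (X ⊞ Y) ≤ max (d X) (d Y))
    (h3 : ∀ S : ShortComplex A, S.ShortExact → d S.X₃ ≤ max (d S.X₁ - 1) (d S.X₂))
    (K : CochainComplex A ℤ) (hfin : ∀ n : ℤ, d (K.X n) ≠ ⊤)
    (hK : ∀ m : ℤ, ∃ N : ℤ, ∀ n : ℤ, n ≤ N → ∃ k : ℕ, d (K.X n) = k ∧ n + k ≤ m) :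
    ∃ (L : CochainComplex A ℤ) (f : K ⟶ L), QuasiIso f ∧ ∀ n, d (L.X n) = 0 := by
  classical
  obtain ⟨e⟩ := Aux.exists_emb d h1
  have hz := Aux.seq_zero e h2 h3 K hK
  choose s₀ hs₀ using hz
  let F : ℕ ⥤ CochainComplex A ℤ := Functor.ofSequence (e.seqMap K)
  have hconst : ∀ m : ℤ, (F ⋙ HomologicalComplex.eval A (ComplexShape.up ℤ)
      m).IsEventuallyConstantFrom (max (s₀ m) (s₀ (m - 1))) := by
    intro m j φ
    refine Groth.Agent.Lib.Helper74.DimRes.ofSequence_map_mem' (e.seqMap K)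
      ((MorphismProperty.isomorphisms A).inverseImage
        (HomologicalComplex.eval A (ComplexShape.up ℤ) m))
      (max (s₀ m) (s₀ (m - 1))) (fun n hn => ?_) le_rfl φ
    exact Aux.isIso_r_f e (e.seq K n) m (hs₀ m n (le_trans (le_max_left _ _) hn))
      (hs₀ (m - 1) n (le_trans (le_max_right _ _) hn))
  have hcol : ∀ m : ℤ, HasColimit (F ⋙ HomologicalComplex.eval A (ComplexShape.up ℤ) m) :=
    fun m => (hconst m).hasColimit
  refine ⟨colimit F, colimit.ι F 0, ?_, ?_⟩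
  · rw [quasiIso_iff]
    intro q
    let j : ℕ := max (max (s₀ (q - 1)) (s₀ (q - 1 - 1)))
      (max (max (s₀ q) (s₀ (q - 1))) (max (s₀ (q + 1)) (s₀ (q + 1 - 1))))
    have hj0 : max (s₀ (q - 1)) (s₀ (q - 1 - 1)) ≤ j := le_max_left _ _
    have hj1 : max (s₀ q) (s₀ (q - 1)) ≤ j := le_trans (le_max_left _ _) (le_max_right _ _)
    have hj2 : max (s₀ (q + 1)) (s₀ (q + 1 - 1)) ≤ j :=
      le_trans (le_max_right _ _) (le_max_right _ _)
    have h1 : QuasiIsoAt (colimit.ι F j) q :=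
      Groth.Agent.Lib.Helper74.DimRes.quasiIsoAt_ι_of_isColimit_of_isEventuallyConstantFrom F
        (colimit.isColimit F) (q - 1) q (q + 1) (by simp) (by simp) j
        ((hconst (q - 1)).postcomp (homOfLE hj0)) ((hconst q).postcomp (homOfLE hj1))
        ((hconst (q + 1)).postcomp (homOfLE hj2))
    have h2 : QuasiIso (F.map (homOfLE (Nat.zero_le j))) :=
      Groth.Agent.Lib.Helper74.DimRes.ofSequence_map_mem (e.seqMap K)
        (HomologicalComplex.quasiIso A (ComplexShape.up ℤ)) 0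
        (fun n _ => (inferInstance : QuasiIso (e.seqMap K n))) j (Nat.zero_le j)
    have h3 : colimit.ι F 0 = F.map (homOfLE (Nat.zero_le j)) ≫ colimit.ι F j :=
      (colimit.w F _).symm
    rw [h3]
    have h2' : QuasiIsoAt (F.map (homOfLE (Nat.zero_le j))) q := h2.quasiIsoAt q
    exact quasiIsoAt_comp (hφ := h2') (hφ' := h1) _ _ q
  · intro m
    have hi : IsIso ((colimit.ι F (max (s₀ m) (s₀ (m - 1)))).f m) :=
      Groth.Agent.Lib.Helper74.DimRes.isIso_ι_f_of_isColimit_of_isEventuallyConstantFrom F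
        (colimit.isColimit F) m _ (hconst m)
    have h := hiso ⟨asIso ((colimit.ι F (max (s₀ m) (s₀ (m - 1)))).f m)⟩
    rw [← h]
    exact hs₀ m _ (le_max_left _ _)

end Groth.Agent.S0972
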