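import Groth.Statements.S0976
import Mathlib.CategoryTheory.Triangulated.Orthogonal
import Mathlib.CategoryTheory.Triangulated.Subcategory

set_option autoImplicit false
universe v u
open CategoryTheory CategoryTheory.Limits CategoryTheory.Pretriangulated
namespace Groth.Agent.S0976

section
variable {D : Type u} [Category.{v} D] [Preadditive D] [Limits.HasZeroObject D] [HasShift D ℤ]
    [∀ n : ℤ, (shiftFunctor D n).Additive] [Pretriangulated D]
    (P : ObjectProperty D) [P.IsTriangulated]

open ObjectProperty

/-- an extension of an object of `P` by an object of `P^⊥` splits, hence is also an extension the other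
way around -/
lemma swap_le : extensionProduct P.rightOrthogonal P ≤ extensionProduct P P.rightOrthogonal := by
  intro X ⟨Y, Z, f, g, h, hT, hY, hZ⟩
  have h0 : h = 0 := (P.rightOrthogonal.le_shift (1 : ℤ) _ hY) h hZ
  obtain ⟨e, -, -⟩ := exists_iso_binaryBiproduct_of_distTriang _ hT h0
  have hmem : extensionProduct P P.rightOrthogonal (Z ⊞ Y) :=
    ⟨Z, Y, biprod.inl, biprod.snd, 0, binaryBiproductTriangle_distinguished Z Y, hZ, hY⟩
  exact (extensionProduct P P.rightOrthogonal).prop_of_iso
    ((biprod.braiding Z Y) ≪≫ e.symm) hmem

variable [IsTriangulated D]

lemma ext_le : extensionProduct (extensionProduct P P.rightOrthogonal)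
    (extensionProduct P P.rightOrthogonal) ≤ extensionProduct P P.rightOrthogonal := by
  have hPP : extensionProduct P P ≤ P.isoClosure :=
    extensionProduct_le_of_isTriangulatedClosed₂' le_rfl le_rfl
  have hQQ : extensionProduct P.rightOrthogonal P.rightOrthogonal ≤ P.rightOrthogonal.isoClosure :=
    extensionProduct_le_of_isTriangulatedClosed₂' le_rfl le_rfl
  calc extensionProduct (extensionProduct P P.rightOrthogonal) (extensionProduct P P.rightOrthogonal)
      = extensionProduct P (extensionProduct (extensionProduct P.rightOrthogonal P) P.rightOrthogonal) := by
        rw [extensionProduct_assoc, extensionProduct_assoc]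
    _ ≤ extensionProduct P (extensionProduct (extensionProduct P P.rightOrthogonal) P.rightOrthogonal) :=
        monotone_extensionProduct_right _ (monotone_extensionProduct_left _ (swap_le P))
    _ = extensionProduct P (extensionProduct P
          (extensionProduct P.rightOrthogonal P.rightOrthogonal)) := by
        rw [extensionProduct_assoc]
    _ ≤ extensionProduct P (extensionProduct P P.rightOrthogonal.isoClosure) :=
        monotone_extensionProduct_right _ (monotone_extensionProduct_right _ hQQ)
    _ = extensionProduct P (extensionProduct P P.rightOrthogonal) := by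
        rw [extensionProduct_isoClosure_right]
    _ = extensionProduct (extensionProduct P P) P.rightOrthogonal := by
        rw [extensionProduct_assoc]
    _ ≤ extensionProduct P.isoClosure P.rightOrthogonal :=
        monotone_extensionProduct_left _ hPP
    _ = extensionProduct P P.rightOrthogonal := extensionProduct_isoClosure_left _ _

end

open CategoryTheory.Pretriangulated in
/-- Let P be a triangulated subcategory of a triangulated category D (an object property containing
zero, stable under shifts, closed under extensions). Consider the class of objects X sitting in a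
distinguished triangle A → X → B → A[1] with P A and B right orthogonal to P. This class is again
stable under shifts and closed under extensions, i.e. satisfies two-out-of-three in distinguished
triangles. -/
theorem result {D : Type u} [Category.{v} D] [Preadditive D] [Limits.HasZeroObject D] [HasShift D ℤ]
    [∀ n : ℤ, (shiftFunctor D n).Additive] [Pretriangulated D] [IsTriangulated D]
    (P : ObjectProperty D) [P.IsTriangulated] :
    ObjectProperty.IsTriangulated (fun X : D => ∃ (A B : D) (f : A ⟶ X) (g : X ⟶ B) (h : B ⟶ (shiftFunctor D (1 : ℤ)).obj A),
      Triangle.mk f g h ∈ distinguishedTriangles ∧ P A ∧ P.rightOrthogonal B) := by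
  change (ObjectProperty.extensionProduct P P.rightOrthogonal).IsTriangulated
  have : (ObjectProperty.extensionProduct P P.rightOrthogonal).ContainsZero := by
    obtain ⟨Z, hZ, hPZ⟩ := P.exists_prop_of_containsZero
    exact ⟨⟨Z, hZ, ObjectProperty.le_extensionProduct_left _ _ hPZ⟩⟩
  have : (ObjectProperty.extensionProduct P P.rightOrthogonal).IsTriangulatedClosed₂ :=
    .mk' (fun T hT h₁ h₃ => ext_le P _ ⟨T.obj₁, T.obj₃, T.mor₁, T.mor₂, T.mor₃, hT, h₁, h₃⟩)
  exact {}

end Groth.Agent.S0976
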