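import Groth.Statements.S0978
import Groth.Agent.Lib.Helper83.Envelope
-- import your own Groth.Agent.* helpers here

set_option autoImplicit false
universe v u
open CategoryTheory
open CohDer

namespace Groth.Agent.S0978

open CategoryTheory.Limits in
/-- Let D be a triangulated category with all small direct sums and E a compact object. Then E generates
D (an object admitting only zero maps from all shifts of E is zero) if and only if D is compactly
generated and every compact object lies in the triangulated envelope of E (objects reachable from E
by shifts, finite sums, direct summands and extensions). -/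
theorem result {D : Type u} [Category.{v} D] [Preadditive D] [Limits.HasZeroObject D] [HasShift D ℤ]
    [∀ n : ℤ, (shiftFunctor D n).Additive] [Pretriangulated D] [IsTriangulated D] [HasCoproducts.{v} D]
    [HasColimitsOfShape (Discrete ℕ) D]
    (E : D) (hE : CohDer.IsCompactObject E) :
    CohDer.Generates (fun _ : Unit => E) ↔
      (CohDer.IsCompactlyGenerated D ∧ ∀ X : D, CohDer.IsCompactObject X → ObjectProperty.triangEnvelope (fun Y : D => Y = E) X) := by
  constructor
  · intro hg
    have hc' : ∀ _ : PUnit.{v + 1}, CohDer.IsCompactObject E := fun _ => hE
    have hg' : CohDer.Generates (fun _ : PUnit.{v + 1} => E) := by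
      intro K hK
      exact hg K (fun _ n f => hK PUnit.unit n f)
    refine ⟨⟨PUnit.{v + 1}, fun _ => E, hc', hg'⟩, fun X hX => ?_⟩
    obtain ⟨s, hs⟩ := Groth.Agent.Lib.Helper83.Env.compact_mem_env_of_generates
      (E := fun _ : PUnit.{v + 1} => E) hc' hg' X hX
    refine ObjectProperty.monotone_triangEnvelope ?_ _ hs
    rintro Y ⟨_, _, rfl⟩
    rfl
  · rintro ⟨hD, henv⟩ K hK
    exact Groth.Agent.Lib.Helper83.Env.isZero_of_env_eq_compacts (fun Y : D => Y = E) hD henv K
      (fun Y hY n f => by subst hY; exact hK () n f)
end Groth.Agent.S0978
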