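import Groth.Statements.S0982
import Mathlib.Algebra.Homology.DerivedCategory.TStructure
import Mathlib.Algebra.Homology.DerivedCategory.ShortExact
import Mathlib.Algebra.Homology.Embedding.CochainComplex

set_option autoImplicit false
universe w v u
open CategoryTheory CategoryTheory.Limits
namespace Groth.Agent.S0982

section
variable {A : Type u} [Category.{v} A] [Abelian A]

/-- A chain map from a complex concentrated in degrees `≤ m` to a complex concentrated in degrees `≥ m`
which is zero on `H^m` is zero. -/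
lemma eq_zero_of_homologyMap_eq_zero {T Y : CochainComplex A ℤ} (m : ℤ)
    [T.IsStrictlyLE m] [Y.IsStrictlyGE m] (u : T ⟶ Y)
    (hu : HomologicalComplex.homologyMap u m = 0) : u = 0 := by
  ext i
  by_cases hi : i = m
  · subst hi
    have h1 : IsIso (T.iCycles i) :=
      T.isIso_iCycles (i := i) (j := i + 1) (by simp)
        ((T.isZero_of_isStrictlyLE i (i + 1) (by lia)).eq_of_tgt _ _)
    have h2 : IsIso (Y.pOpcycles i) :=
      Y.isIso_pOpcycles (i := i - 1) (j := i) (by simp)
        ((Y.isZero_of_isStrictlyGE i (i - 1) (by lia)).eq_of_src _ _)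
    rw [← cancel_epi (T.iCycles i), ← cancel_mono (Y.pOpcycles i)]
    simp only [HomologicalComplex.zero_f, zero_comp, comp_zero, Category.assoc]
    rw [← HomologicalComplex.p_opcyclesMap, ← HomologicalComplex.homology_π_ι_assoc,
      ← HomologicalComplex.homologyι_naturality, reassoc_of% hu, zero_comp, comp_zero]
  · rcases lt_or_gt_of_ne hi with h | h
    · exact (Y.isZero_of_isStrictlyGE m i h).eq_of_tgt _ _
    · exact (T.isZero_of_isStrictlyLE m i h).eq_of_src _ _

variable [HasDerivedCategory.{w} A]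

open DerivedCategory Pretriangulated in
/-- If `T` lives in degrees `≤ m` and `g : T ⟶ X` is zero on `H^m`, then `g` factors in the derived
category through `τ_{≤ m - 1} X`. -/
lemma exists_factor_truncLE {T X : CochainComplex A ℤ} (m' m : ℤ) (hm : m' + 1 = m)
    [T.IsStrictlyLE m] (g : T ⟶ X) (hg : HomologicalComplex.homologyMap g m = 0) :
    ∃ ψ : Q.obj T ⟶ Q.obj (X.truncLE m'), ψ ≫ Q.map (X.ιTruncLE m') = Q.map g := by
  have hu : g ≫ X.πTruncGE m = 0 := by
    apply eq_zero_of_homologyMap_eq_zero m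
    rw [HomologicalComplex.homologyMap_comp, hg, zero_comp]
  have hS := X.shortComplexTruncLE_shortExact m'
  have hT := triangleOfSES_distinguished hS
  let p : X ⟶ (X.shortComplexTruncLE m').X₃ := (X.shortComplexTruncLE m').g
  let q : (X.shortComplexTruncLE m').X₃ ⟶ X.truncGE m := X.shortComplexTruncLEX₃ToTruncGE m' m hm
  have hpq : p ≫ q = X.πTruncGE m := X.g_shortComplexTruncLEX₃ToTruncGE m' m hm
  have hzero : Q.map g ≫ Q.map p = 0 := by
    rw [← cancel_mono (Q.map q), Category.assoc, ← Q.map_comp, hpq, ← Q.map_comp, hu,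
      Q.map_zero, zero_comp]
  obtain ⟨ψ, hψ⟩ := Triangle.coyoneda_exact₂ _ hT (Q.map g) hzero
  exact ⟨ψ, hψ.symm⟩

end

/-- Let K : ℕ ⥤ CochainComplex A ℤ be a sequence of cochain maps K₀ → K₁ → K₂ → … in an abelian category
with Hⁱ(K₀) = 0 for i > 0 and such that for every j < n the map H⁻ʲ(Kⱼ) → H⁻ʲ(Kⱼ₊₁) is zero. Then in
the derived category the composite K₀ → Kₙ factors through the canonical truncation τ_{≤ -n}Kₙ → Kₙ. -/
theorem result {A : Type u} [Category.{v} A] [Abelian A] [HasDerivedCategory.{w} A]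
    (K : ℕ ⥤ CochainComplex A ℤ) (n : ℕ)
    (h0 : ∀ i : ℤ, 0 < i → IsZero ((K.obj 0).homology i))
    (hz : ∀ j : ℕ, j < n → HomologicalComplex.homologyMap (K.map (homOfLE (Nat.le_succ j))) (-(j : ℤ)) = 0) :
    ∃ φ : DerivedCategory.Q.obj (K.obj 0) ⟶ DerivedCategory.Q.obj ((K.obj n).truncLE (-(n : ℤ))),
      φ ≫ DerivedCategory.Q.map ((K.obj n).ιTruncLE (-(n : ℤ))) = DerivedCategory.Q.map (K.map (homOfLE (Nat.zero_le n))) := by
  induction n with
  | zero =>
    have hle : (K.obj 0).IsLE (-((0 : ℕ) : ℤ)) := by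
      rw [CochainComplex.isLE_iff]
      intro i hi
      rw [HomologicalComplex.exactAt_iff_isZero_homology]
      exact h0 i (by simpa using hi)
    have : QuasiIso ((K.obj 0).ιTruncLE (-((0 : ℕ) : ℤ))) := by
      rw [CochainComplex.quasiIso_ιTruncLE_iff]
      exact hle
    have : IsIso (DerivedCategory.Q.map ((K.obj 0).ιTruncLE (-((0 : ℕ) : ℤ)))) := by
      rw [DerivedCategory.isIso_Q_map_iff_quasiIso]
      infer_instance
    exact ⟨DerivedCategory.Q.map (K.map (homOfLE (Nat.zero_le 0))) ≫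
      inv (DerivedCategory.Q.map ((K.obj 0).ιTruncLE (-((0 : ℕ) : ℤ)))), by simp⟩
  | succ n ih =>
    obtain ⟨φ, hφ⟩ := ih (fun j hj => hz j (by lia))
    let g : (K.obj n).truncLE (-(n : ℤ)) ⟶ K.obj (n + 1) :=
      (K.obj n).ιTruncLE (-(n : ℤ)) ≫ K.map (homOfLE (Nat.le_succ n))
    have hg : HomologicalComplex.homologyMap g (-(n : ℤ)) = 0 := by
      rw [HomologicalComplex.homologyMap_comp, hz n (by lia), comp_zero]
    obtain ⟨ψ, hψ⟩ := exists_factor_truncLE (-((n + 1 : ℕ) : ℤ)) (-(n : ℤ))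
      (by push_cast; lia) g hg
    refine ⟨φ ≫ ψ, ?_⟩
    rw [Category.assoc, hψ, Functor.map_comp, reassoc_of% hφ, ← Functor.map_comp, ← K.map_comp]
    rfl

end Groth.Agent.S0982
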