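import Groth.Statements.S0983
import Mathlib
-- import your own Groth.Agent.* helpers here

set_option autoImplicit false
universe v u
open CategoryTheory
open CohDer

namespace Groth.Agent.S0983

open CategoryTheory.Pretriangulated in
/-- In a triangulated category, a commutative square f ≫ v = u ≫ f' (with f : X ⟶ Y, f' : X' ⟶ Y', u : X
⟶ X', v : Y ⟶ Y') extends to a diagram with three distinguished rows (X, Y, Z), (X', Y', Z'), (X'',
Y'', Z'') and three distinguished columns (X, X', X''), (Y, Y', Y''), (Z, Z', Z''), in which all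
squares commute except the one formed by the third morphisms of the last row and last column, which
anticommutes; the fourth row and column are the shifts of the first ones. -/
theorem result {D : Type u} [Category.{v} D] [Preadditive D] [Limits.HasZeroObject D] [HasShift D ℤ]
    [∀ n : ℤ, (shiftFunctor D n).Additive] [Pretriangulated D] [IsTriangulated D]
    {X Y X' Y' : D} (f : X ⟶ Y) (f' : X' ⟶ Y') (u : X ⟶ X') (v : Y ⟶ Y') (comm : f ≫ v = u ≫ f') :
    ∃ (Z Z' X'' Y'' Z'' : D) (g : Y ⟶ Z) (h : Z ⟶ (shiftFunctor D (1 : ℤ)).obj X)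
      (g' : Y' ⟶ Z') (h' : Z' ⟶ (shiftFunctor D (1 : ℤ)).obj X')
      (f'' : X'' ⟶ Y'') (g'' : Y'' ⟶ Z'') (h'' : Z'' ⟶ (shiftFunctor D (1 : ℤ)).obj X'')
      (u' : X' ⟶ X'') (u'' : X'' ⟶ (shiftFunctor D (1 : ℤ)).obj X)
      (v' : Y' ⟶ Y'') (v'' : Y'' ⟶ (shiftFunctor D (1 : ℤ)).obj Y)
      (w : Z ⟶ Z') (w' : Z' ⟶ Z'') (w'' : Z'' ⟶ (shiftFunctor D (1 : ℤ)).obj Z),
      Triangle.mk f g h ∈ distinguishedTriangles ∧ Triangle.mk f' g' h' ∈ distinguishedTriangles ∧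
      Triangle.mk f'' g'' h'' ∈ distinguishedTriangles ∧
      Triangle.mk u u' u'' ∈ distinguishedTriangles ∧ Triangle.mk v v' v'' ∈ distinguishedTriangles ∧
      Triangle.mk w w' w'' ∈ distinguishedTriangles ∧
      g ≫ w = v ≫ g' ∧ h ≫ (shiftFunctor D (1 : ℤ)).map u = w ≫ h' ∧
      f' ≫ v' = u' ≫ f'' ∧ g' ≫ w' = v' ≫ g'' ∧ h' ≫ (shiftFunctor D (1 : ℤ)).map u' = w' ≫ h'' ∧
      f'' ≫ v'' = u'' ≫ (shiftFunctor D (1 : ℤ)).map f ∧ g'' ≫ w'' = v'' ≫ (shiftFunctor D (1 : ℤ)).map g ∧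
      h'' ≫ (shiftFunctor D (1 : ℤ)).map u'' = -(w'' ≫ (shiftFunctor D (1 : ℤ)).map h) := by
  obtain ⟨Z, g, h, hT⟩ := distinguished_cocone_triangle f
  obtain ⟨Z', g', h', hT'⟩ := distinguished_cocone_triangle f'
  obtain ⟨X'', u', u'', hTu⟩ := distinguished_cocone_triangle u
  obtain ⟨Y'', v', v'', hTv⟩ := distinguished_cocone_triangle v
  obtain ⟨A, p, q, hTa⟩ := distinguished_cocone_triangle (f ≫ v)
  have hTa' : Triangle.mk (u ≫ f') p q ∈ distinguishedTriangles := by rw [← comm]; exact hTa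
  let o1 := Triangulated.someOctahedron (rfl : f ≫ v = f ≫ v) hT hTv hTa
  let o2 := Triangulated.someOctahedron (rfl : u ≫ f' = u ≫ f') hTu hT' hTa'
  obtain ⟨Z'', g'', h'', hT''⟩ := distinguished_cocone_triangle (o2.m₁ ≫ o1.m₃)
  have hrot : Triangle.mk o1.m₃ (v'' ≫ (shiftFunctor D (1 : ℤ)).map g)
      (-(shiftFunctor D (1 : ℤ)).map o1.m₁) ∈ distinguishedTriangles :=
    rot_of_distTriang _ o1.mem
  let o3 := Triangulated.someOctahedron (rfl : o2.m₁ ≫ o1.m₃ = o2.m₁ ≫ o1.m₃) o2.mem hrot hT''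
  have hw : Triangle.mk (o1.m₁ ≫ o2.m₃) o3.m₁ o3.m₃ ∈ distinguishedTriangles := by
    rw [rotate_distinguished_triangle]
    refine isomorphic_distinguished _ o3.mem _ (Triangle.isoMk _ _ (Iso.refl _) (Iso.refl _) (Iso.refl _)
      (by exact (Category.comp_id _).trans (Category.id_comp _).symm)
      (by exact (Category.comp_id _).trans (Category.id_comp _).symm)
      (by
        change (-(shiftFunctor D (1 : ℤ)).map (o1.m₁ ≫ o2.m₃)) ≫ (shiftFunctor D (1 : ℤ)).map (𝟙 _) =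
          𝟙 _ ≫ ((-(shiftFunctor D (1 : ℤ)).map o1.m₁) ≫ (shiftFunctor D (1 : ℤ)).map o2.m₃)
        rw [CategoryTheory.Functor.map_id, Category.comp_id, Category.id_comp,
          CategoryTheory.Functor.map_comp, Preadditive.neg_comp]))
  refine ⟨Z, Z', X'', Y'', Z'', g, h, g', h', o2.m₁ ≫ o1.m₃, g'', h'', u', u'', v', v'',
    o1.m₁ ≫ o2.m₃, o3.m₁, o3.m₃, hT, hT', hT'', hTu, hTv, hw, ?_, ?_, ?_, ?_, ?_, ?_, ?_, ?_⟩
  · -- g ≫ w = v ≫ g'
    rw [← Category.assoc, o1.comm₁, Category.assoc, o2.comm₃]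
  · -- h ≫ u[1] = w ≫ h'
    rw [Category.assoc, ← o2.comm₄, ← Category.assoc, o1.comm₂]
  · -- f' ≫ v' = u' ≫ f''
    rw [← Category.assoc, o2.comm₁, Category.assoc, o1.comm₃]
  · -- g' ≫ w' = v' ≫ g''
    have := o3.comm₁
    have e5 : (p ≫ o2.m₃) ≫ o3.m₁ = (p ≫ o1.m₃) ≫ g'' := by
      rw [Category.assoc, Category.assoc, this]
    rwa [o2.comm₃, o1.comm₃] at e5
  · -- h' ≫ u'[1] = w' ≫ h''
    have := o3.comm₂
    exact this.symm
  · -- f'' ≫ v'' = u'' ≫ f[1]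
    rw [Category.assoc, ← o1.comm₄, ← Category.assoc, o2.comm₂]
  · -- g'' ≫ w'' = v'' ≫ g[1]
    have := o3.comm₃
    exact this
  · -- h'' ≫ u''[1] = -(w'' ≫ h[1])
    have := o3.comm₄
    have e1 : (shiftFunctor D (1 : ℤ)).map u'' =
        (shiftFunctor D (1 : ℤ)).map o2.m₁ ≫ (shiftFunctor D (1 : ℤ)).map q := by
      rw [← CategoryTheory.Functor.map_comp]
      exact congrArg _ o2.comm₂.symm
    have e2 : (shiftFunctor D (1 : ℤ)).map h =
        (shiftFunctor D (1 : ℤ)).map o1.m₁ ≫ (shiftFunctor D (1 : ℤ)).map q := by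
      rw [← CategoryTheory.Functor.map_comp]
      exact congrArg _ o1.comm₂.symm
    rw [e1, e2, ← Category.assoc, this]
    simp

end Groth.Agent.S0983
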