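import Groth.Statements.S0990
-- import your own Groth.Agent.* helpers here
import Mathlib

set_option autoImplicit false
universe w w' v v' u u'
open CategoryTheory CategoryTheory.Limits
open CohDer

namespace Groth.Agent.S0990

section

lemma exists_int_sequence {T : ℤ → Type*} (R : ∀ i j : ℤ, T i → T j → Prop)
    (t0 : T 0)
    (hr : ∀ (i j : ℤ) (_ : i + 1 = j) (s : T i), ∃ s' : T j, R i j s s')
    (hl : ∀ (i j : ℤ) (_ : i + 1 = j) (s' : T j), ∃ s : T i, R i j s s') :
    ∃ σ : ∀ i, T i, ∀ (i j : ℤ), i + 1 = j → R i j (σ i) (σ j) := by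
  let σp : ∀ n : ℕ, T (Int.ofNat n) := fun n =>
    Nat.rec (motive := fun n => T (Int.ofNat n)) t0
      (fun n s => (hr (Int.ofNat n) (Int.ofNat (n+1)) rfl s).choose) n
  let σn : ∀ n : ℕ, T (Int.negSucc n) := fun n =>
    Nat.rec (motive := fun n => T (Int.negSucc n)) ((hl (Int.negSucc 0) 0 rfl t0).choose)
      (fun n s => (hl (Int.negSucc (n+1)) (Int.negSucc n) rfl s).choose) n
  let σ : ∀ i, T i := fun i => match i with
    | Int.ofNat n => σp n
    | Int.negSucc n => σn n
  refine ⟨σ, ?_⟩
  rintro i j rfl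
  cases i with
  | ofNat n => exact (hr (Int.ofNat n) (Int.ofNat (n+1)) rfl (σp n)).choose_spec
  | negSucc n =>
    cases n with
    | zero => exact (hl (Int.negSucc 0) 0 rfl t0).choose_spec
    | succ n => exact (hl (Int.negSucc (n+1)) (Int.negSucc n) rfl (σn n)).choose_spec

end


section

variable {A : Type u} [Category.{v} A] [Abelian A]
    (P : ObjectProperty A) [P.IsSerreClass]
    {Q : Type u'} [Category.{v'} Q] [Abelian Q]
    (L : A ⥤ Q) [L.IsLocalization P.isoModSerre] [L.Additive] [PreservesFiniteLimits L]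
    [PreservesFiniteColimits L]

/-- an object of `A` with an identification of its image with `M` -/
structure Lift (M : Q) where
  X : A
  e : L.obj X ≅ M

include P in
lemma exists_lift_right {M N : Q} (s : Lift L M) (φ : M ⟶ N) :
    ∃ (s' : Lift L N) (f : s.X ⟶ s'.X), L.map f ≫ s'.e.hom = s.e.hom ≫ φ := by
  haveI := Localization.essSurj L P.isoModSerre
  let eY := L.objObjPreimageIso N
  obtain ⟨fr, hfr⟩ := Localization.exists_leftFraction L P.isoModSerre
    (s.e.hom ≫ φ ≫ eY.inv)
  refine ⟨⟨fr.Y', (Localization.isoOfHom L P.isoModSerre fr.s fr.hs).symm ≪≫ eY⟩, fr.f, ?_⟩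
  have h := fr.map_comp_map_s L (Localization.inverts L P.isoModSerre)
  rw [← hfr] at h
  dsimp
  rw [← h]
  simp

include P in
lemma exists_lift_left {M N : Q} (s' : Lift L N) (φ : M ⟶ N) :
    ∃ (s : Lift L M) (f : s.X ⟶ s'.X), L.map f ≫ s'.e.hom = s.e.hom ≫ φ := by
  haveI := Localization.essSurj L P.isoModSerre
  let eX := L.objObjPreimageIso M
  obtain ⟨fr, hfr⟩ := Localization.exists_rightFraction L P.isoModSerre
    (eX.hom ≫ φ ≫ s'.e.inv)
  refine ⟨⟨fr.X', Localization.isoOfHom L P.isoModSerre fr.s fr.hs ≪≫ eX⟩, fr.f, ?_⟩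
  have h := fr.map_s_comp_map L (Localization.inverts L P.isoModSerre)
  rw [← hfr] at h
  dsimp
  rw [← h]
  simp

end


section

variable {A : Type u} [Category.{v} A] [Abelian A]
    (P : ObjectProperty A) [P.IsSerreClass]
    {Q : Type u'} [Category.{v'} Q] [Abelian Q]
    (L : A ⥤ Q) [L.IsLocalization P.isoModSerre] [L.Additive] [PreservesFiniteLimits L]
    [PreservesFiniteColimits L]

include P in
lemma exists_complex_lift (K : CochainComplex Q ℤ) :
    ∃ K' : CochainComplex A ℤ,
      Nonempty ((L.mapHomologicalComplex (ComplexShape.up ℤ)).obj K' ≅ K) := by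
  haveI := Localization.essSurj L P.isoModSerre
  obtain ⟨σ, hσ⟩ := exists_int_sequence (T := fun i => Lift L (K.X i))
    (fun i j s s' => ∃ f : s.X ⟶ s'.X, L.map f ≫ s'.e.hom = s.e.hom ≫ K.d i j)
    ⟨L.objPreimage (K.X 0), L.objObjPreimageIso (K.X 0)⟩
    (fun i j _ s => exists_lift_right P L s (K.d i j))
    (fun i j _ s' => exists_lift_left P L s' (K.d i j))
  classical
  let dd : ∀ i j : ℤ, (σ i).X ⟶ (σ j).X := fun i j =>
    if h : i + 1 = j then (hσ i j h).choose else 0
  have dd_spec : ∀ i j, L.map (dd i j) ≫ (σ j).e.hom = (σ i).e.hom ≫ K.d i j := by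
    intro i j
    by_cases h : i + 1 = j
    · simp only [dd, dif_pos h]
      exact (hσ i j h).choose_spec
    · simp only [dd, dif_neg h]
      rw [K.shape i j h]
      simp
  have dd_zero : ∀ i j, ¬ i + 1 = j → dd i j = 0 := fun i j h => by simp only [dd, dif_neg h]
  have Ldd : ∀ i j k, L.map (dd i j ≫ dd j k) = 0 := by
    intro i j k
    rw [← cancel_mono (σ k).e.hom, L.map_comp, Category.assoc, dd_spec j k,
      reassoc_of% (dd_spec i j), K.d_comp_d]
    simp
  let q : ∀ i : ℤ, (σ i).X ⟶ cokernel (dd (i-2) (i-1) ≫ dd (i-1) i) := fun i => cokernel.π _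
  have q_zero : ∀ a b c, a + 1 = b → b + 1 = c → dd a b ≫ dd b c ≫ q c = 0 := by
    intro a b c h1 h2
    obtain rfl : a = c - 2 := by omega
    obtain rfl : b = c - 1 := by omega
    rw [← Category.assoc]
    exact cokernel.condition _
  have hq : ∀ i j, (dd (i-2) (i-1) ≫ dd (i-1) i) ≫ dd i j ≫ q j = 0 := by
    intro i j
    by_cases h : i + 1 = j
    · rw [Category.assoc, q_zero (i-1) i j (by omega) h, comp_zero]
    · rw [dd_zero i j h]
      simp
  let d'' : ∀ i j, cokernel (dd (i-2) (i-1) ≫ dd (i-1) i) ⟶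
      cokernel (dd (j-2) (j-1) ≫ dd (j-1) j) :=
    fun i j => cokernel.desc _ (dd i j ≫ q j) (hq i j)
  have q_d'' : ∀ i j, q i ≫ d'' i j = dd i j ≫ q j := fun i j => cokernel.π_desc _ _ _
  let K' : CochainComplex A ℤ :=
    { X := fun i => cokernel (dd (i-2) (i-1) ≫ dd (i-1) i)
      d := d''
      shape := fun i j h => by
        rw [← cancel_epi (q i), q_d'', dd_zero i j h]
        simp
      d_comp_d' := fun i j k h1 h2 => by
        rw [← cancel_epi (q i), reassoc_of% (q_d'' i j), q_d'' j k, q_zero i j k h1 h2,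
          comp_zero] }
  have hqW : ∀ i, IsIso (L.map (q i)) := by
    intro i
    apply Localization.inverts L P.isoModSerre
    rw [P.isoModSerre_iff_of_epi, ObjectProperty.monoModSerre_iff]
    exact (ObjectProperty.SerreClassLocalization.map_eq_zero_iff L P _).1 (Ldd _ _ _)
  refine ⟨K', ⟨HomologicalComplex.Hom.isoOfComponents
    (fun i => (asIso (L.map (q i))).symm ≪≫ (σ i).e) ?_⟩⟩
  intro i j _
  change (inv (L.map (q i)) ≫ (σ i).e.hom) ≫ K.d i j =
    L.map (d'' i j) ≫ inv (L.map (q j)) ≫ (σ j).e.hom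
  rw [← cancel_epi (L.map (q i)), ← L.map_comp_assoc, q_d'', L.map_comp_assoc,
    IsIso.hom_inv_id_assoc, dd_spec, Category.assoc, IsIso.hom_inv_id_assoc]

end

/-- Let P be a Serre class in an abelian category A and let L : A ⥤ Q be a model of the quotient A/P,
i.e. an exact functor to an abelian category which is a localization at the morphisms whose kernel
and cokernel satisfy P. Then the induced functor on derived categories D(A) ⥤ D(Q) is essentially
surjective. -/
theorem result {A : Type u} [Category.{v} A] [Abelian A] [HasDerivedCategory.{w} A]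
    (P : ObjectProperty A) [P.IsSerreClass]
    {Q : Type u'} [Category.{v'} Q] [Abelian Q] [HasDerivedCategory.{w'} Q]
    (L : A ⥤ Q) [L.IsLocalization P.isoModSerre] [L.Additive] [PreservesFiniteLimits L] [PreservesFiniteColimits L] :
    L.mapDerivedCategory.EssSurj := by
  refine ⟨fun Y => ?_⟩
  obtain ⟨K', ⟨e⟩⟩ := exists_complex_lift P L (DerivedCategory.Q.objPreimage Y)
  exact ⟨DerivedCategory.Q.obj K', ⟨L.mapDerivedCategoryFactors.app K' ≪≫
    DerivedCategory.Q.mapIso e ≪≫ DerivedCategory.Q.objObjPreimageIso Y⟩⟩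

end Groth.Agent.S0990
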