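import Groth.Statements.S0991
-- import your own Groth.Agent.* helpers here
import Mathlib
import Groth.Agent.Lib.Helper32.ExactAdj
import Groth.Agent.Lib.Helper32.RDPlus

set_option autoImplicit false
universe w w' v v' u u'
open CategoryTheory CategoryTheory.Limits
open CohDer

namespace Groth.Agent.S0991

open Groth.Agent.Lib.Helper32

section

lemma exists_arrow_iso_of_full_essSurj {C D : Type*} [Category C] [Category D] (F : C ⥤ D)
    [F.Full] [F.EssSurj] (g : Arrow D) :
    ∃ (X Y : C) (f : X ⟶ Y), Nonempty (Arrow.mk (F.map f) ≅ g) := by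
  refine ⟨F.objPreimage g.left, F.objPreimage g.right,
    F.preimage ((F.objObjPreimageIso g.left).hom ≫ g.hom ≫ (F.objObjPreimageIso g.right).inv), ⟨?_⟩⟩
  refine Arrow.isoMk (F.objObjPreimageIso g.left) (F.objObjPreimageIso g.right) ?_
  simp

variable {A : Type u} [Category.{v} A] [Abelian A] [HasDerivedCategory.{w} A]

lemma exists_arrow_iso {X Y : DerivedCategory A} (φ : X ⟶ Y) :
    ∃ (K L : CochainComplex A ℤ) (f : K ⟶ L),
      Nonempty (Arrow.mk (DerivedCategory.Q.map f) ≅ Arrow.mk φ) := by
  let g := DerivedCategory.Qh.mapArrow.objPreimage (Arrow.mk φ)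
  let e := DerivedCategory.Qh.mapArrow.objObjPreimageIso (Arrow.mk φ)
  obtain ⟨K, L, f, ⟨e'⟩⟩ := exists_arrow_iso_of_full_essSurj
    (HomotopyCategory.quotient A (ComplexShape.up ℤ)) g
  exact ⟨K, L, f, ⟨DerivedCategory.Qh.mapArrow.mapIso e' ≪≫ e⟩⟩

variable
    (P : ObjectProperty A) [P.IsSerreClass]
    {Q : Type u'} [Category.{v'} Q] [Abelian Q] [HasDerivedCategory.{w'} Q]
    (vv : A ⥤ Q) [vv.IsLocalization P.isoModSerre] [vv.Additive] [PreservesFiniteLimits vv]
    [PreservesFiniteColimits vv]

/-- the class of morphisms of complexes becoming quasi-isomorphisms in the quotient -/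
def W₃ : MorphismProperty (CochainComplex A ℤ) :=
  (HomologicalComplex.quasiIso Q (ComplexShape.up ℤ)).inverseImage
    (vv.mapHomologicalComplex (ComplexShape.up ℤ))

lemma isZero_homology_map_iff (K : CochainComplex A ℤ) (n : ℤ) :
    IsZero (((vv.mapHomologicalComplex (ComplexShape.up ℤ)).obj K).homology n) ↔
      P (K.homology n) := by
  rw [← ObjectProperty.SerreClassLocalization.isZero_obj_iff vv P]
  exact Iso.isZero_iff ((K.sc n).mapHomologyIso vv)

lemma W₃_iff {K L : CochainComplex A ℤ} (f : K ⟶ L) :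
    W₃ vv f ↔ ∀ n : ℤ, P ((CochainComplex.mappingCone f).homology n) := by
  change QuasiIso _ ↔ _
  rw [ConeAcyclic.quasiIso_map_iff_acyclic_map_mappingCone]
  refine forall_congr' (fun n => ?_)
  rw [HomologicalComplex.exactAt_iff_isZero_homology]
  exact isZero_homology_map_iff P vv _ n

/-- the objects of `D(A)` with cohomology in `P` -/
def SS : ObjectProperty (DerivedCategory A) :=
  fun X : DerivedCategory A => ∀ n : ℤ, P ((DerivedCategory.homologyFunctor A n).obj X)

instance : (SS P).IsClosedUnderIsomorphisms :=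
  ⟨fun e h n => P.prop_of_iso ((DerivedCategory.homologyFunctor A n).mapIso e) (h n)⟩

lemma trW_Q_map_iff {K L : CochainComplex A ℤ} (f : K ⟶ L) :
    (SS P).trW (DerivedCategory.Q.map f) ↔ W₃ vv f := by
  have hT : DerivedCategory.Q.mapTriangle.obj (CochainComplex.mappingCone.triangle f) ∈
      distTriang _ := by
    rw [DerivedCategory.mem_distTriang_iff]
    exact ⟨_, _, f, ⟨Iso.refl _⟩⟩
  rw [W₃_iff P vv]
  refine ((SS P).trW_iff_of_distinguished _ hT).trans ?_
  refine forall_congr' (fun n => ?_)
  exact P.prop_iff_of_iso ((DerivedCategory.homologyFunctorFactors A n).app _)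

lemma trW_eq_map : (SS P).trW = (W₃ vv).map DerivedCategory.Q := by
  ext X Y φ
  constructor
  · intro h
    obtain ⟨K, L, f, ⟨e⟩⟩ := exists_arrow_iso φ
    exact ⟨K, L, f, (trW_Q_map_iff P vv f).1 (((SS P).trW.arrow_mk_iso_iff e).2 h), ⟨e⟩⟩
  · rintro ⟨K, L, f, hf, ⟨e⟩⟩
    exact ((SS P).trW.arrow_mk_iso_iff e).1 ((trW_Q_map_iff P vv f).2 hf)

end


section

variable {A : Type u} [Category.{v} A] [Abelian A] [HasDerivedCategory.{w} A]
    (P : ObjectProperty A) [P.IsSerreClass]
    {Q : Type u'} [Category.{v'} Q] [Abelian Q] [HasDerivedCategory.{w'} Q]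
    (vv : A ⥤ Q) [vv.IsLocalization P.isoModSerre] [vv.Additive] [PreservesFiniteLimits vv]
    [PreservesFiniteColimits vv] (uu : Q ⥤ A) (adj : uu ⊣ vv) [IsIso adj.unit]

include adj in
lemma isLocalization_comp :
    (vv.mapHomologicalComplex (ComplexShape.up ℤ) ⋙ DerivedCategory.Q).IsLocalization
      (W₃ vv) := by
  haveI : uu.Additive := adj.left_adjoint_additive
  let adjC := ExactAdj.adjC adj (ComplexShape.up ℤ)
  haveI : IsIso adjC.unit := by
    refine @NatIso.isIso_of_isIso_app _ _ _ _ _ _ _ (fun K => ?_)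
    refine @HomologicalComplex.Hom.isIso_of_components _ _ _ _ _ _ _ _ (fun i => ?_)
    change IsIso (adj.unit.app (K.X i))
    infer_instance
  haveI : (uu.mapHomologicalComplex (ComplexShape.up ℤ)).Full :=
    adjC.fullyFaithfulLOfIsIsoUnit.full
  haveI : (uu.mapHomologicalComplex (ComplexShape.up ℤ)).Faithful :=
    adjC.fullyFaithfulLOfIsIsoUnit.faithful
  haveI := adjC.isLocalization'
  refine Functor.IsLocalization.comp _ _
    ((MorphismProperty.isomorphisms _).inverseImage
      (vv.mapHomologicalComplex (ComplexShape.up ℤ)))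
    (HomologicalComplex.quasiIso Q (ComplexShape.up ℤ)) (W₃ vv) ?_ ?_ ?_
  · intro K L f hf
    change IsIso (DerivedCategory.Q.map _)
    rw [DerivedCategory.isIso_Q_map_iff_quasiIso]
    exact hf
  · intro K L f hf
    change QuasiIso _
    haveI : IsIso ((vv.mapHomologicalComplex (ComplexShape.up ℤ)).map f) := hf
    infer_instance
  · intro K L g hg
    have e : Arrow.mk g ≅ Arrow.mk ((vv.mapHomologicalComplex (ComplexShape.up ℤ)).map
        ((uu.mapHomologicalComplex (ComplexShape.up ℤ)).map g)) :=
      Arrow.isoMk (asIso (adjC.unit.app K)) (asIso (adjC.unit.app L))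
        (adjC.unit.naturality g).symm
    refine ⟨_, _, (uu.mapHomologicalComplex _).map g, ?_, ⟨e.symm⟩⟩
    change QuasiIso _
    haveI : QuasiIso g := hg
    exact (quasiIso_iff_of_arrow_mk_iso _ _ e).1 inferInstance

end

/-- Let P be a Serre class in an abelian category A and v : A ⥤ Q an exact localization at the morphisms
with kernel and cokernel in P (a model of A/P). Suppose v has a left adjoint u whose unit 𝟭 ⟶ u ⋙ v
is an isomorphism. Then the induced functor D(A) ⥤ D(Q) is a localization at the class of morphisms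
whose cone has all cohomology objects in P; that is, D(Q) is the Verdier quotient D(A)/D_P(A). -/
theorem result {A : Type u} [Category.{v} A] [Abelian A] [HasDerivedCategory.{w} A]
    (P : ObjectProperty A) [P.IsSerreClass]
    {Q : Type u'} [Category.{v'} Q] [Abelian Q] [HasDerivedCategory.{w'} Q]
    (v : A ⥤ Q) [v.IsLocalization P.isoModSerre] [v.Additive] [PreservesFiniteLimits v] [PreservesFiniteColimits v]
    (u : Q ⥤ A) (adj : u ⊣ v) [IsIso adj.unit] :
    v.mapDerivedCategory.IsLocalization
      (ObjectProperty.trW (fun X : DerivedCategory A => ∀ n : ℤ, P ((DerivedCategory.homologyFunctor A n).obj X))) := by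
  haveI := isLocalization_comp (vv := v) (uu := u) adj
  haveI : (DerivedCategory.Q ⋙ v.mapDerivedCategory).IsLocalization (W₃ v) :=
    Functor.IsLocalization.of_iso (W₃ v) v.mapDerivedCategoryFactors.symm
  refine Functor.IsLocalization.of_comp DerivedCategory.Q v.mapDerivedCategory
    (HomologicalComplex.quasiIso A (ComplexShape.up ℤ)) _ (W₃ v) ?_ (trW_eq_map P v)
  intro K L f hf
  change QuasiIso _
  haveI : QuasiIso f := hf
  infer_instance

end Groth.Agent.S0991
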