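import Groth.Statements.S0992
import Mathlib

set_option autoImplicit false
universe w
open CategoryTheory CategoryTheory.Limits Opposite
open CohDer

namespace Groth.Agent.S0992.Aux

open CategoryTheory CategoryTheory.Limits Opposite


section
variable {I : Type w} [LinearOrder I]
    (K : Iᵒᵖ ⥤ CochainComplex AddCommGrpCat.{w} ℤ)

abbrev Xo (β : I) (n : ℤ) : Type w := (K.obj (op β)).X n

def res {γ β : I} (h : γ ≤ β) (n : ℤ) : Xo K β n →+ Xo K γ n := ((K.map (homOfLE h).op).f n).hom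

def dd (β : I) (i j : ℤ) : Xo K β i →+ Xo K β j := ((K.obj (op β)).d i j).hom

theorem res_refl (β : I) (n : ℤ) (x : Xo K β n) : res K (le_refl β) n x = x := by
  have : (homOfLE (le_refl β)).op = 𝟙 (op β) := rfl
  simp [res]

theorem res_res {γ' γ β : I} (h1 : γ' ≤ γ) (h2 : γ ≤ β) (n : ℤ) (x : Xo K β n) :
    res K h1 n (res K h2 n x) = res K (h1.trans h2) n x := by
  have : (homOfLE (h1.trans h2)).op = (homOfLE h2).op ≫ (homOfLE h1).op := rfl
  simp [res, this]

theorem res_dd {γ β : I} (h : γ ≤ β) (i j : ℤ) (x : Xo K β i) :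
    dd K γ i j (res K h i x) = res K h j (dd K β i j x) := by
  have := (K.map (homOfLE h).op).comm i j
  have h2 := ConcreteCategory.congr_hom this x
  rw [ConcreteCategory.comp_apply, ConcreteCategory.comp_apply] at h2
  exact h2

theorem dd_dd (β : I) (i j k : ℤ) (x : Xo K β i) : dd K β j k (dd K β i j x) = 0 := by
  have := (K.obj (op β)).d_comp_d i j k
  have h2 := ConcreteCategory.congr_hom this x
  rw [ConcreteCategory.comp_apply] at h2
  exact h2

/-- extension property at `β` in degrees `(m, n)` -/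
def PP (β : I) (m n : ℤ) : Prop :=
  ∀ (z : ∀ γ, Xo K γ n), (∀ γ, γ ≤ β → dd K γ n (n + 1) (z γ) = 0) →
    (∀ γ, γ ≤ β → ∀ γ' (h : γ' ≤ γ), res K h n (z γ) = z γ') →
    ∀ (y : ∀ γ, Xo K γ m), (∀ γ, γ < β → dd K γ m n (y γ) = z γ) →
      (∀ γ, γ < β → ∀ γ' (h : γ' ≤ γ), res K h m (y γ) = y γ') →
      ∃ yβ : Xo K β m, dd K β m n yβ = z β ∧ ∀ γ (h : γ < β), res K h.le m yβ = y γ

variable [WellFoundedLT I]

/-- Step A: recursive construction of a solution on a down-closed set. -/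
theorem construct (m n : ℤ) (S : Set I) (hS : ∀ β ∈ S, ∀ γ, γ ≤ β → γ ∈ S)
    (hP : ∀ β ∈ S, PP K β m n) (z : ∀ β, Xo K β n)
    (hz : ∀ β ∈ S, dd K β n (n + 1) (z β) = 0)
    (hzc : ∀ β ∈ S, ∀ γ (h : γ ≤ β), res K h n (z β) = z γ) :
    ∃ y : ∀ β, Xo K β m, (∀ β ∈ S, dd K β m n (y β) = z β) ∧
      (∀ β ∈ S, ∀ γ (h : γ ≤ β), res K h m (y β) = y γ) := by
  classical
  let G : ∀ β : I, (∀ γ : I, γ < β → Xo K γ m) → Xo K β m := fun β prev =>
    if h : ∃ yβ : Xo K β m, dd K β m n yβ = z β ∧ ∀ γ (h : γ < β), res K h.le m yβ = prev γ h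
    then Classical.choose h else 0
  let y : ∀ β, Xo K β m := (wellFounded_lt (α := I)).fix G
  have hy : ∀ β, y β = G β (fun γ _ => y γ) := fun β => WellFounded.fix_eq _ G β
  have key : ∀ β, β ∈ S → (dd K β m n (y β) = z β ∧ ∀ γ (h : γ < β), res K h.le m (y β) = y γ) := by
    intro β
    induction β using (wellFounded_lt (α := I)).induction with
    | _ β ih =>
      intro hβ
      have hex : ∃ yβ : Xo K β m, dd K β m n yβ = z β ∧
          ∀ γ (h : γ < β), res K h.le m yβ = y γ := by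
        refine hP β hβ z (fun γ hγ => hz γ (hS β hβ γ hγ))
          (fun γ hγ γ' h => hzc γ (hS β hβ γ hγ) γ' h) y
          (fun γ hγ => (ih γ hγ (hS β hβ γ hγ.le)).1) ?_
        intro γ hγ γ' h
        rcases h.lt_or_eq with hlt | rfl
        · exact (ih γ hγ (hS β hβ γ hγ.le)).2 γ' hlt
        · exact res_refl K _ _ _
      have hyβ : y β = Classical.choose hex := by
        rw [hy β]
        simp only [G]
        rw [dif_pos hex]
      rw [hyβ]
      exact Classical.choose_spec hex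
  refine ⟨y, fun β hβ => (key β hβ).1, fun β hβ γ h => ?_⟩
  rcases h.lt_or_eq with hlt | rfl
  · exact (key β hβ).2 γ hlt
  · exact res_refl K _ _ _

variable
    (hac : ∀ (β : I) (i j k : ℤ), i + 1 = j → j + 1 = k → ∀ x : Xo K β j, dd K β j k x = 0 →
      ∃ y : Xo K β i, dd K β i j y = x)
    (hsurj : ∀ (β : I) (n : ℤ) (x : ∀ γ : I, Xo K γ n),
      (∀ γ, γ < β → ∀ γ' (h : γ' ≤ γ), res K h n (x γ) = x γ') →
      ∃ y : Xo K β n, ∀ γ (h : γ < β), res K h.le n y = x γ)

include hac hsurj in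
/-- Step B: extension property from acyclicity of the limit over the initial segment. -/
theorem stepB (β : I) (l m n : ℤ) (hlm : l + 1 = m) (hmn : m + 1 = n)
    (hQ : ∀ (w : ∀ γ, Xo K γ m), (∀ γ, γ < β → dd K γ m (m + 1) (w γ) = 0) →
      (∀ γ, γ < β → ∀ γ' (h : γ' ≤ γ), res K h m (w γ) = w γ') →
      ∃ t : ∀ γ, Xo K γ l, (∀ γ, γ < β → dd K γ l m (t γ) = w γ) ∧
        (∀ γ, γ < β → ∀ γ' (h : γ' ≤ γ), res K h l (t γ) = t γ')) :
    PP K β m n := by
  classical
  intro z hz hzc y hy hyc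
  subst hmn
  obtain ⟨y', hy'⟩ := hsurj β m y hyc
  set u : Xo K β (m + 1) := z β - dd K β m (m + 1) y' with hu
  have hu0 : dd K β (m + 1) (m + 1 + 1) u = 0 := by
    rw [hu, map_sub, hz β le_rfl, dd_dd, sub_zero]
  have hures : ∀ γ (h : γ < β), res K h.le (m + 1) u = 0 := by
    intro γ h
    rw [hu, map_sub, hzc β le_rfl γ h.le, ← res_dd, hy' γ h, hy γ h, sub_self]
  obtain ⟨v₀, hv₀⟩ := hac β m (m + 1) (m + 1 + 1) rfl rfl u hu0
  let w : ∀ γ, Xo K γ m := fun γ => if h : γ ≤ β then res K h m v₀ else 0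
  have hw : ∀ γ (h : γ ≤ β), w γ = res K h m v₀ := fun γ h => dif_pos h
  obtain ⟨t, ht, htc⟩ := hQ w
    (fun γ hγ => by rw [hw γ hγ.le, res_dd, hv₀, hures γ hγ])
    (fun γ hγ γ' h => by rw [hw γ hγ.le, hw γ' (h.trans hγ.le), res_res])
  obtain ⟨t', ht'⟩ := hsurj β l t htc
  set v : Xo K β m := v₀ - dd K β l m t' with hv
  have hvd : dd K β m (m + 1) v = u := by rw [hv, map_sub, hv₀, dd_dd, sub_zero]
  have hvres : ∀ γ (h : γ < β), res K h.le m v = 0 := by
    intro γ h
    rw [hv, map_sub, ← res_dd, ht' γ h, ht γ h, hw γ h.le, sub_self]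
  refine ⟨y' + v, ?_, fun γ h => ?_⟩
  · rw [map_add, hvd, hu]; abel
  · rw [map_add, hy' γ h, hvres γ h, add_zero]

include hac hsurj in
/-- Step C: the extension property holds everywhere. -/
theorem stepC (β : I) : ∀ (m n : ℤ), m + 1 = n → PP K β m n := by
  induction β using (wellFounded_lt (α := I)).induction with
  | _ β ih =>
    intro m n hmn
    refine stepB K hac hsurj β (m - 1) m n (by ring) hmn ?_
    intro w hw hwc
    have hmm : m + 1 = n := hmn
    have := construct K (m - 1) m (Set.Iio β) (fun γ hγ γ' h => lt_of_le_of_lt h hγ)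
      (fun γ hγ => ih γ hγ (m - 1) m (by ring)) w (fun γ hγ => hw γ hγ)
      (fun γ hγ γ' h => hwc γ hγ γ' h)
    obtain ⟨t, ht, htc⟩ := this
    exact ⟨t, fun γ hγ => ht γ hγ, fun γ hγ γ' h => htc γ hγ γ' h⟩

include hac hsurj in
/-- Step D: global solutions. -/
theorem stepD (m n : ℤ) (hmn : m + 1 = n) (z : ∀ β, Xo K β n)
    (hz : ∀ β, dd K β n (n + 1) (z β) = 0)
    (hzc : ∀ β, ∀ γ (h : γ ≤ β), res K h n (z β) = z γ) :
    ∃ y : ∀ β, Xo K β m, (∀ β, dd K β m n (y β) = z β) ∧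
      (∀ β, ∀ γ (h : γ ≤ β), res K h m (y β) = y γ) := by
  obtain ⟨y, hy, hyc⟩ := construct K m n Set.univ (fun _ _ _ _ => trivial)
    (fun β _ => stepC K hac hsurj β m n hmn) z (fun β _ => hz β) (fun β _ γ h => hzc β γ h)
  exact ⟨y, fun β => hy β trivial, fun β γ h => hyc β trivial γ h⟩


/-- the limit cone in degree n -/
noncomputable def coneN (n : ℤ) : Cone (K ⋙ HomologicalComplex.eval _ _ n) :=
  (HomologicalComplex.eval _ _ n).mapCone (limit.cone K)

noncomputable def coneNIsLimit (n : ℤ) : IsLimit (coneN K n) :=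
  isLimitOfPreserves (HomologicalComplex.eval _ _ n) (limit.isLimit K)

theorem lim_ext (n : ℤ) (x y : (limit K).X n)
    (h : ∀ β : I, ((limit.π K (op β)).f n).hom x = ((limit.π K (op β)).f n).hom y) : x = y := by
  apply Concrete.isLimit_ext (K ⋙ HomologicalComplex.eval _ _ n) (coneNIsLimit K n)
  intro j
  exact h j.unop

theorem lim_exists (n : ℤ) (x : ∀ β : I, (K.obj (op β)).X n)
    (hx : ∀ (γ β : I) (h : γ ≤ β), ((K.map (homOfLE h).op).f n).hom (x β) = x γ) :
    ∃ y : (limit K).X n, ∀ β : I, ((limit.π K (op β)).f n).hom y = x β := by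
  let s : ((K ⋙ HomologicalComplex.eval _ _ n) ⋙ forget AddCommGrpCat).sections :=
    ⟨fun j => x j.unop, by
      intro j j' f
      have hle : j'.unop ≤ j.unop := leOfHom f.unop
      have := hx j'.unop j.unop hle
      rw [show f = (homOfLE hle).op from Subsingleton.elim _ _]
      exact this⟩
  let e := Types.isLimitEquivSections (isLimitOfPreserves (forget AddCommGrpCat) (coneNIsLimit K n))
  refine ⟨e.symm s, fun β => ?_⟩
  exact Types.isLimitEquivSections_symm_apply
    (isLimitOfPreserves (forget AddCommGrpCat) (coneNIsLimit K n)) s (op β)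


theorem exactAt_elem (C : CochainComplex AddCommGrpCat.{w} ℤ) (i j k : ℤ) (hij : i + 1 = j)
    (hjk : j + 1 = k) :
    C.ExactAt j ↔ ∀ x : C.X j, (C.d j k).hom x = 0 → ∃ y : C.X i, (C.d i j).hom y = x := by
  rw [C.exactAt_iff' i j k (by simp; omega) (by simp; omega), ShortComplex.ab_exact_iff]
  rfl

theorem main
    (hac : ∀ (β : I) (n : ℤ), (K.obj (op β)).ExactAt n)
    (hsurj : ∀ (β : I) (n : ℤ) (x : ∀ γ : {γ : I // γ < β}, (K.obj (op γ.1)).X n),
      (∀ (γ γ' : {γ : I // γ < β}) (h : γ.1 ≤ γ'.1), ((K.map (homOfLE h).op).f n).hom (x γ') = x γ) →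
      ∃ y : (K.obj (op β)).X n, ∀ γ : {γ : I // γ < β}, ((K.map (homOfLE γ.2.le).op).f n).hom y = x γ)
    (n : ℤ) : (limit K).ExactAt n := by
  have hac' : ∀ (β : I) (i j k : ℤ), i + 1 = j → j + 1 = k → ∀ x : Xo K β j, dd K β j k x = 0 →
      ∃ y : Xo K β i, dd K β i j y = x := by
    intro β i j k hij hjk
    exact (exactAt_elem (K.obj (op β)) i j k hij hjk).mp (hac β j)
  have hsurj' : ∀ (β : I) (n : ℤ) (x : ∀ γ : I, Xo K γ n),
      (∀ γ, γ < β → ∀ γ' (h : γ' ≤ γ), res K h n (x γ) = x γ') →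
      ∃ y : Xo K β n, ∀ γ (h : γ < β), res K h.le n y = x γ := by
    intro β n x hx
    obtain ⟨y, hy⟩ := hsurj β n (fun γ => x γ.1) (fun γ γ' h => hx γ'.1 γ'.2 γ.1 h)
    exact ⟨y, fun γ h => hy ⟨γ, h⟩⟩
  rw [exactAt_elem (limit K) (n - 1) n (n + 1) (by ring) rfl]
  intro x hx
  -- components
  let z : ∀ β, Xo K β n := fun β => ((limit.π K (op β)).f n).hom x
  have hz : ∀ β, dd K β n (n + 1) (z β) = 0 := by
    intro β
    have h1 := (limit.π K (op β)).comm n (n + 1)
    have h2 := ConcreteCategory.congr_hom h1 x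
    rw [ConcreteCategory.comp_apply, ConcreteCategory.comp_apply] at h2
    have h3 : ((limit K).d n (n + 1)).hom x = 0 := hx
    show ((K.obj (op β)).d n (n + 1)).hom (((limit.π K (op β)).f n).hom x) = 0
    rw [show ((K.obj (op β)).d n (n + 1)).hom (((limit.π K (op β)).f n).hom x) =
      ((limit.π K (op β)).f (n + 1)).hom (((limit K).d n (n + 1)).hom x) from h2, h3, map_zero]
  have hzc : ∀ β, ∀ γ (h : γ ≤ β), res K h n (z β) = z γ := by
    intro β γ h
    have h1 := limit.w K (homOfLE h).op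
    have h2 := congrArg (fun f => (HomologicalComplex.Hom.f f n)) h1
    simp only [HomologicalComplex.comp_f] at h2
    have h3 := ConcreteCategory.congr_hom h2 x
    rw [ConcreteCategory.comp_apply] at h3
    exact h3
  obtain ⟨y, hy, hyc⟩ := stepD K hac' hsurj' (n - 1) n (by ring) z hz hzc
  obtain ⟨yy, hyy⟩ := lim_exists K (n - 1) y (fun γ β h => hyc β γ h)
  refine ⟨yy, ?_⟩
  apply lim_ext K n
  intro β
  have h1 := (limit.π K (op β)).comm (n - 1) n
  have h2 := ConcreteCategory.congr_hom h1 yy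
  rw [ConcreteCategory.comp_apply, ConcreteCategory.comp_apply] at h2
  rw [show ((limit.π K (op β)).f n).hom (((limit K).d (n - 1) n).hom yy) =
    ((K.obj (op β)).d (n - 1) n).hom (((limit.π K (op β)).f (n - 1)).hom yy) from h2.symm, hyy β]
  exact hy β

end

end Groth.Agent.S0992.Aux

namespace Groth.Agent.S0992

/-- Let I be a well-ordered type and K : Iᵒᵖ ⥤ CochainComplex Ab an inverse system of acyclic complexes
of abelian groups such that for every β and every degree n, each family of elements of the Kⁿ_γ (γ <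
β) compatible under the transition maps lifts to an element of Kⁿ_β (i.e. Kⁿ_β → lim_{γ<β} Kⁿ_γ is
surjective). Then the limit complex lim K is acyclic. -/
theorem result {I : Type w} [LinearOrder I] [WellFoundedLT I]
    (K : Iᵒᵖ ⥤ CochainComplex AddCommGrpCat.{w} ℤ)
    (hac : ∀ (β : I) (n : ℤ), (K.obj (op β)).ExactAt n)
    (hsurj : ∀ (β : I) (n : ℤ) (x : ∀ γ : {γ : I // γ < β}, (K.obj (op γ.1)).X n),
      (∀ (γ γ' : {γ : I // γ < β}) (h : γ.1 ≤ γ'.1), ((K.map (homOfLE h).op).f n).hom (x γ') = x γ) →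
      ∃ y : (K.obj (op β)).X n, ∀ γ : {γ : I // γ < β}, ((K.map (homOfLE γ.2.le).op).f n).hom y = x γ)
    (n : ℤ) : (limit K).ExactAt n := by
  exact Aux.main K hac hsurj n

end Groth.Agent.S0992
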