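import Groth.Statements.S10000
import Groth.Agent.H52.LargeField
import Groth.Agent.H52.GeomPoints
import Groth.Agent.H52.GaloisQuot3
import Groth.Agent.H52.FTPoints
import Groth.Agent.H52.LocPCalc5
import Groth.Agent.H53.EtaleResidue

set_option autoImplicit false
universe u
open CategoryTheory CategoryTheory.Limits AlgebraicGeometry
open AlgSp Groth.Agent.H52
set_option backward.isDefEq.respectTransparency false

namespace Groth.Agent.S10000

/-- For a morphism X ⟶ Y of algebraic spaces and an algebraically closed field k over S that is large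
compared with X, X(k) surjects onto |X| ×_{|Y|} Y(k): every pair of a point x of |X| and a k-valued
point of Y with the same image in |Y| comes from a k-valued point of X. (The published statement
measures largeness by a cardinal attached to X that bounds the residue fields of an etale atlas;
this row asks directly that every residue field of one surjective etale chart U of X have
cardinality smaller than that of k, which is how the bound enters the argument.) -/
theorem result {S : Scheme.{u}} {X Y : AlgSp.Space S} (f : X ⟶ Y)
    {U : Over S} (a : (AlgSp.yon S).obj U ⟶ X.obj) (ha : AlgSp.RepWith @Etale a) (has : AlgSp.RepWith @Surjective a)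
    (ybar : AlgSp.FieldPt Y.obj) (hy : ybar.IsGeometric)
    (hk : ∀ u : ↥U.left, Cardinal.mk ↥(U.left.residueField u) < Cardinal.mk ybar.K)
    (x : AlgSp.Points X.obj) (hx : AlgSp.Points.map f.hom x = AlgSp.Points.mk ybar) :
    ∃ xbar : (AlgSp.yon S).obj ybar.pt ⟶ X.obj, xbar ≫ f.hom = ybar.toHom ∧
      AlgSp.Points.ofPt xbar (IsLocalRing.closedPoint ybar.K) = x := by
  haveI : IsAlgClosed ybar.K := hy
  obtain ⟨V, pY, hpYe, hpYs⟩ := Y.property.atlas
  -- lift the geometric point to the chart
  obtain ⟨vb, hvb⟩ := exists_lift_of_isSurjectiveMor_of_locP_lft (IsAlgSpace.yon_obj V) Y.property pY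
    (locP_lft_of_etale pY hpYe) (surjective_points_of_repWith_surjective pY hpYs) ybar.K ybar.str
    ybar.toHom
  obtain ⟨vbar, rfl⟩ := (yon S).map_surjective vb
  -- the fibre product chart
  have hrep := hpYe.rep
  let pU : hrep.pullback (a ≫ f.hom) ⟶ U := hrep.snd (a ≫ f.hom)
  let hW : hrep.pullback (a ≫ f.hom) ⟶ V := hrep.fst' (a ≫ f.hom)
  have sq : IsPullback ((yon S).map hW) ((yon S).map pU) pY (a ≫ f.hom) := hrep.isPullback' _
  have hpUe : Etale pU.left := hpYe.property_snd (a ≫ f.hom)
  -- a point of U over x
  obtain ⟨pu, hpu⟩ := surjective_points_of_repWith_surjective a has x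
  obtain ⟨u, rfl⟩ := (Points.schemeEquiv U).surjective pu
  -- the point of V
  let v : ↥V.left := vbar.left (IsLocalRing.closedPoint ybar.K)
  have hv : Points.map pY (Points.ofScheme V v) = Points.mk ybar := by
    rw [← Points.ofPt_eq_map_ofScheme, ← ofPt_yon_map_comp, hvb]
    exact Points.ofPt_toHom ybar _
  have hu : Points.map (a ≫ f.hom) (Points.ofScheme U u) = Points.mk ybar := by
    rw [Points.map_comp]
    exact (congrArg (Points.map f.hom) hpu).trans hx
  obtain ⟨pw, hpw1, hpw2⟩ := exists_point_of_isPullback sq (Points.ofScheme V v)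
    (Points.ofScheme U u) (hv.trans hu.symm)
  obtain ⟨w, rfl⟩ := (Points.schemeEquiv _).surjective pw
  have hwv : hW.left w = v := by
    apply (Points.schemeEquiv V).injective
    exact (points_map_ofScheme hW w).symm.trans hpw1
  have hwu : pU.left w = u := by
    apply (Points.schemeEquiv U).injective
    exact (points_map_ofScheme pU w).symm.trans hpw2
  -- cardinality of the residue field at w
  have hcard : Cardinal.mk ↥((hrep.pullback (a ≫ f.hom)).left.residueField w) <
      Cardinal.mk ybar.K := by
    letI : Algebra (U.left.residueField (pU.left w))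
        ((hrep.pullback (a ≫ f.hom)).left.residueField w) :=
      (pU.left.residueFieldMap w).hom.toAlgebra
    have hfin : Module.Finite (U.left.residueField (pU.left w))
        ((hrep.pullback (a ≫ f.hom)).left.residueField w) :=
      Groth.Agent.H53.finite_residueField_of_unramified pU.left w
    have h1 := Algebra.IsAlgebraic.cardinalMk_le_max (U.left.residueField (pU.left w))
        ((hrep.pullback (a ≫ f.hom)).left.residueField w)
    have h2 : Cardinal.aleph0 ≤ Cardinal.mk ybar.K := Cardinal.aleph0_le_mk _
    rcases lt_or_ge (Cardinal.mk ↥(U.left.residueField (pU.left w))) Cardinal.aleph0 with h3 | h3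
    · have : Finite ↥(U.left.residueField (pU.left w)) := Cardinal.lt_aleph0_iff_finite.mp h3
      have : Finite ↥((hrep.pullback (a ≫ f.hom)).left.residueField w) :=
        Module.finite_of_finite (U.left.residueField (pU.left w))
      exact lt_of_lt_of_le (Cardinal.lt_aleph0_iff_finite.mpr this) h2
    · rw [max_eq_left h3] at h1
      exact lt_of_le_of_lt h1 (hk _)
  -- the embedding of the residue field
  obtain ⟨τ, hτ⟩ := GaloisQuot.exists_factor_fromSpecResidueField (hW.left w) ybar.K vbar.left
    hwv.symm
  obtain ⟨φ, hφ⟩ := LargeField.exists_ringHom_of_card_lt (hW.left.residueFieldMap w).hom τ.hom hcard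
  let wbar : Spec (CommRingCat.of ybar.K) ⟶ (hrep.pullback (a ≫ f.hom)).left :=
    Spec.map (CommRingCat.ofHom φ) ≫ (hrep.pullback (a ≫ f.hom)).left.fromSpecResidueField w
  have hwbar : wbar ≫ hW.left = vbar.left := by
    rw [hτ, Category.assoc, ← Scheme.Hom.SpecMap_residueFieldMap_fromSpecResidueField,
      ← Category.assoc, ← Spec.map_comp]
    congr 2
    ext1
    exact hφ
  have hwbarS : wbar ≫ (hrep.pullback (a ≫ f.hom)).hom = ybar.str := by
    rw [← Over.w hW, ← Category.assoc, hwbar]
    exact Over.w vbar
  let wbar' : Over.mk ybar.str ⟶ hrep.pullback (a ≫ f.hom) := Over.homMk wbar hwbarS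
  have hwbar' : wbar' ≫ hW = vbar := by
    ext1
    exact hwbar
  refine ⟨(yon S).map (wbar' ≫ pU) ≫ a, ?_, ?_⟩
  · rw [Category.assoc, Functor.map_comp, Category.assoc, ← sq.w, ← Category.assoc,
      ← Functor.map_comp, hwbar', hvb]
  · rw [ofPt_yon_map_comp, ← hpu, Points.ofPt_eq_map_ofScheme]
    congr 2
    change pU.left (wbar (IsLocalRing.closedPoint ybar.K)) = u
    rw [← hwu]
    congr 1
    change ((hrep.pullback (a ≫ f.hom)).left.fromSpecResidueField w)
      ((Spec.map (CommRingCat.ofHom φ)) (IsLocalRing.closedPoint ybar.K)) = w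
    exact Scheme.fromSpecResidueField_apply _ _


end Groth.Agent.S10000
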