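import Groth.Statements.S10009
import Groth.Agent.H52.LimChart2
import Groth.Agent.H52.UCAssembly
import Groth.Agent.H52.LocPCalc2
import Groth.Agent.H52.Descent
import Groth.Agent.H52.DescInst
import Groth.Agent.H52.DiagSp
import Groth.Agent.H53.IntegralComp
import Groth.Agent.H53.ZarGlueAff
import Groth.Agent.Lib.Helper13.LimClosed

set_option autoImplicit false
universe u
open CategoryTheory CategoryTheory.Limits AlgebraicGeometry
open AlgSp

namespace Groth.Agent.S10009

/-- Let `B` be an algebraic space over the scheme `S` and `X` the limit, in fppf sheaves, of a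
cofiltered system `(X_i)` of quasi-compact algebraic spaces over `B` whose transition maps are
affine; let `y : Y ⟶ X` be a closed immersion from an algebraic space `Y` whose structure map to `B`
is locally of finite type. Then, for all `i` mapping to some `i₀`, the composite `Y ⟶ X ⟶ X_i` is a
closed immersion. -/
theorem result (S : Scheme.{u}) {I : Type u} [SmallCategory I] [IsCofiltered I]
    (B : AlgSp.Space S) (D : I ⥤ AlgSp.Sp S) (hD : ∀ i, AlgSp.IsAlgSpace (D.obj i))
    (t : D ⟶ (Functor.const I).obj B.obj)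
    (hDa : ∀ (i j : I) (φ : i ⟶ j), AlgSp.IsAffineMor (D.map φ))
    (c : Cone D) (hc : IsLimit c)
    (hqc : ∀ i, AlgSp.IsQuasiCompactSp (D.obj i))
    (Y : AlgSp.Space S) (y : Y.obj ⟶ c.pt) (hy : AlgSp.RepWith @IsClosedImmersion y) (i₁ : I)
    (hYB : AlgSp.LocP @LocallyOfFiniteType (y ≫ c.π.app i₁ ≫ t.app i₁)) :
    ∃ i₀ : I, ∀ (i : I) (_ : i ⟶ i₀), AlgSp.RepWith @IsClosedImmersion (y ≫ c.π.app i) := by
  classical
  have hcpt : AlgSp.IsAlgSpace c.pt := Groth.Agent.H52.LimChart.isAlgSpace_pt D c hc hD hDa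
  have hπaff : ∀ i, AlgSp.IsAffineMor (c.π.app i) :=
    fun i => Groth.Agent.H52.LimChart.isAffineMor_π_app D c hc i hDa
  obtain ⟨V₀, ξ, hV₀, hξe, hξs⟩ := Groth.Agent.H52.UC.exists_affine_etale_chart' (hqc i₁)
  haveI : IsAffine V₀.left := hV₀
  obtain ⟨cs⟩ := Groth.Agent.H52.LimChart.nonempty_chartSystem D c hc i₁ ξ
    (fun j => hDa _ _ j.hom)
  have hyrep := hy.rep
  have sqY := hyrep.isPullback cs.b
  have hcl : IsClosedImmersion (hyrep.snd cs.b).left := hy.property_snd cs.b
  -- the chart of `Y ⟶ X_{i₁}`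
  have big := sqY.paste_vert cs.sqlim
  rw [← Functor.map_comp] at big
  have hue : AlgSp.RepWith @Etale (hyrep.fst cs.b) := MorphismProperty.of_isPullback big.flip hξe
  have hlft₁ : AlgSp.LocP @LocallyOfFiniteType (y ≫ c.π.app i₁) := by
    refine Groth.Agent.H52.isEtLocal_lft.locP_of_comp (fun A B C f g hfg => ?_)
      B.property (y ≫ c.π.app i₁) (t.app i₁) (by rw [Category.assoc]; exact hYB)
    have : LocallyOfFiniteType (f ≫ g) := hfg
    exact locallyOfFiniteType_of_comp f g
  have hlft : LocallyOfFiniteType ((hyrep.snd cs.b).left ≫ cs.q.left) :=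
    hlft₁ (hyrep.fst cs.b) ξ (hyrep.snd cs.b ≫ cs.q) hue hξe big.w
  -- scheme-level statement
  haveI : ∀ {j k : Over i₁} (φ : j ⟶ k), IsAffineHom ((cs.E ⋙ Over.forget S).map φ) :=
    fun φ => cs.affE φ
  haveI : ∀ j, CompactSpace ↥((cs.E ⋙ Over.forget S).obj j) := fun j => by
    have := cs.affp j
    have h : IsAffine (cs.E.obj j).left := isAffine_of_isAffineHom (cs.p j).left
    exact (inferInstance : CompactSpace ↥(cs.E.obj j).left)
  obtain ⟨h', hh'⟩ : ∃ h' : (hyrep.pullback cs.b).left ⟶ ((Over.forget S).mapCone cs.cE).pt,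
      h' = (hyrep.snd cs.b).left := ⟨_, rfl⟩
  haveI : IsClosedImmersion h' := by rw [hh']; exact hcl
  haveI : LocallyOfFiniteType (h' ≫ cs.q.left) := by rw [hh']; exact hlft
  obtain ⟨j, hj⟩ := Groth.Agent.Lib.Helper13.LimClosed.exists_isClosedImmersion_comp_π
    (cs.E ⋙ Over.forget S) (fun j => (cs.p j).left)
    (fun {j k} φ => by
      change (cs.E.map φ).left ≫ (cs.p k).left = (cs.p j).left
      rw [← Over.comp_left, cs.hp])
    ((Over.forget S).mapCone cs.cE) cs.hcE' cs.q.left
    (fun j => by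
      change (cs.cE.π.app j).left ≫ (cs.p j).left = cs.q.left
      rw [← Over.comp_left, cs.hq])
    h'
  have hj' : IsClosedImmersion (hyrep.snd cs.b ≫ cs.cE.π.app j).left := by
    rw [hh'] at hj
    exact hj
  -- closed immersion at the stage `j`
  have hrepj : AlgSp.Representable (y ≫ c.π.app j.left) :=
    (AlgSp.Representable (S := S)).comp_mem _ _ hyrep
      (Groth.Agent.H53.ZarGlue.representable_of_isAffineMor (hπaff j.left))
  have bigj := sqY.paste_vert (cs.sqj j).flip
  rw [← Functor.map_comp] at bigj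
  have haje : AlgSp.RepWith @Etale (cs.a j) := MorphismProperty.of_isPullback (cs.sq j).flip hξe
  have hajs : AlgSp.RepWith @Surjective (cs.a j) :=
    MorphismProperty.of_isPullback (cs.sq j).flip hξs
  haveI := Groth.Agent.H52.descendsAlong_isClosedImmersion_fppf.{u}
  have hclj : AlgSp.RepWith @IsClosedImmersion (y ≫ c.π.app j.left) :=
    Groth.Agent.H52.repWith_of_etale_surjective_base_change @IsClosedImmersion bigj hrepj haje hajs
      ((AlgSp.repWith_yon_map_iff _ _).2 hj')
  refine ⟨j.left, fun i φ => ?_⟩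
  have hsep : AlgSp.IsSeparatedMor (D.map φ) :=
    Groth.Agent.H53.isSeparatedMor_of_isAffineMor (hD i) (D.map φ) (hDa _ _ φ)
  haveI : (AlgSp.RepWith (S := S) @IsClosedImmersion).IsMultiplicative :=
    AlgSp.repWith_isMultiplicative _
  refine Groth.Agent.H52.of_comp_of_diagonal (AlgSp.RepWith (S := S) @IsClosedImmersion)
    (y ≫ c.π.app i) (D.map φ) ?_ hsep
  rw [Category.assoc, c.w]
  exact hclj


end Groth.Agent.S10009
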