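import Groth.Statements.S10019
import Groth.Agent.H52.LimRep2
import Groth.Agent.Lib.Helper54.MonoUnram
import Groth.Agent.S10022

set_option autoImplicit false
universe u
open CategoryTheory CategoryTheory.Limits AlgebraicGeometry
open AlgSp

namespace Groth.Agent.S10019

/-- Let `S` be a quasi-separated scheme and `B` the limit, in fppf sheaves over `S`, of a cofiltered
system `(B_i)` of algebraic spaces over `S` whose transition maps are affine; fix an index `i₀` such
that `B_{i₀}` is quasi-compact and quasi-separated over `S`, and a morphism `f₀ : X₀ ⟶ Y₀` of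
algebraic spaces over `B_{i₀}` whose source and target are quasi-compact and quasi-separated over
`S`. Write `f_i` (for `i` mapping to `i₀`) and `f` for the base changes of `f₀` to `B_i` and to `B`,
given by pullback squares. If `f` is a closed immersion and `f₀` locally of finite type, then for
some `i` mapping to `i₀` every such base change `f_i` is a closed immersion. (The published
statement allows any base scheme and uses absolute quasi-separatedness; this row assumes the base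
quasi-separated, over which quasi-separatedness relative to the base is the absolute notion.) -/
theorem result (S : Scheme.{u}) [QuasiSeparatedSpace S] {I : Type u} [SmallCategory I] [IsCofiltered I]
    (D : I ⥤ AlgSp.Sp S) (hD : ∀ i, AlgSp.IsAlgSpace (D.obj i))
    (hDa : ∀ (i j : I) (φ : i ⟶ j), AlgSp.IsAffineMor (D.map φ))
    (c : Cone D) (hc : IsLimit c) (i₀ : I)
    (hBqc : AlgSp.IsQuasiCompactSp (D.obj i₀)) (hBqs : AlgSp.IsQuasiSeparatedSp (D.obj i₀))
    (X₀ Y₀ : AlgSp.Space S) (f₀ : X₀.obj ⟶ Y₀.obj) (b₀ : Y₀.obj ⟶ D.obj i₀)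
    (hXqc : AlgSp.IsQuasiCompactSp X₀.obj) (hXqs : AlgSp.IsQuasiSeparatedSp X₀.obj)
    (hYqc : AlgSp.IsQuasiCompactSp Y₀.obj) (hYqs : AlgSp.IsQuasiSeparatedSp Y₀.obj)
    (X Y : AlgSp.Sp S) (f : X ⟶ Y) (pY : Y ⟶ Y₀.obj) (qY : Y ⟶ c.pt)
    (hY : IsPullback pY qY b₀ (c.π.app i₀)) (pX : X ⟶ X₀.obj) (hX : IsPullback pX f f₀ pY)
    (hf : AlgSp.RepWith @IsClosedImmersion f) (hf₀ : AlgSp.LocP @LocallyOfFiniteType f₀) :
    ∃ (i : I) (φ : i ⟶ i₀), ∀ (Xi Yi : AlgSp.Sp S) (fi : Xi ⟶ Yi) (pYi : Yi ⟶ Y₀.obj) (qYi : Yi ⟶ D.obj i)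
      (_ : IsPullback pYi qYi b₀ (D.map φ)) (pXi : Xi ⟶ X₀.obj) (_ : IsPullback pXi fi f₀ pYi),
      AlgSp.RepWith @IsClosedImmersion fi := by
  have hX₀ := X₀.property
  have hY₀ := Y₀.property
  haveI : Mono f := Groth.Agent.H52.mono_of_repWith f _ (fun _ _ g hg => by
    have : IsClosedImmersion g := hg
    infer_instance) hf
  obtain ⟨i₁, φ₁, h₁⟩ := Groth.Agent.S10022.result S D hD hDa c hc i₀ hBqc hBqs X₀ Y₀ f₀ b₀
    hXqc hXqs hYqc hYqs X Y f pY qY hY pX hX hf₀
  have h₁' : Groth.Agent.H52.LimStage.AtStage D f₀ b₀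
      (AlgSp.RepWith @LocallyOfFiniteType ⊓ AlgSp.RepWith @QuasiSeparated) φ₁ := by
    intro Xi Yi fi pYi qYi hYi pXi hXi
    have hYialg : AlgSp.IsAlgSpace Yi :=
      Groth.Agent.H52.isAlgSpace_of_isPullback hYi hY₀ (hD i₀) (hD i₁)
    have hXialg : AlgSp.IsAlgSpace Xi :=
      Groth.Agent.H52.isAlgSpace_of_isPullback hXi hX₀ hY₀ hYialg
    haveI : Mono fi := h₁ Xi Yi fi pYi qYi hYi pXi hXi
    have hlft : AlgSp.LocP @LocallyOfFiniteType fi :=
      Groth.Agent.H52.isEtLocal_lft.locP_of_isPullback hX₀ hY₀ hYialg hXi hf₀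
    obtain ⟨hrep, -, -⟩ := Groth.Agent.Lib.Helper54.representable_of_mono_lft hXialg hYialg fi hlft
    refine ⟨Groth.Agent.H52.isEtLocal_lft.repWith_of_locP hYialg fi hrep hlft,
      Groth.Agent.H53.repWith_of_le (fun A B φ hφ => ?_)
        (Groth.Agent.H52.repWith_mono_of_mono fi hrep)⟩
    have : Mono φ := hφ
    infer_instance
  haveI := Groth.Agent.H52.descendsAlong_isClosedImmersion_fppf.{u}
  exact Groth.Agent.H52.LimStage.rep_descend_of_stage
    Groth.Agent.H52.LimRep.schDescendsAbs_isClosedImmersion D hD hDa c hc i₀ hX₀ hY₀ f₀ b₀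
    hXqc hXqs hYqc hYqs f pY qY hY pX hX hf φ₁ h₁'


end Groth.Agent.S10019
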