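import Groth.Statements.S10059
import Groth.Agent.S10009
import Groth.Agent.S10019
import Groth.Agent.H52.LimPull
import Groth.Agent.H52.GraphProp
import Groth.Agent.H52.LimRep2
import Groth.Agent.H52.DiagSp2
import Groth.Agent.H52.LocPCalc4

set_option autoImplicit false
universe u
open CategoryTheory CategoryTheory.Limits AlgebraicGeometry
open AlgSp

namespace Groth.Agent.S10059

/-- Let `S` be a quasi-separated scheme, `Y` an algebraic space over `S` which is quasi-separated over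
`S`, and `X` the limit, in fppf sheaves, of a cofiltered system `(X_i)` of algebraic spaces over
`Y`, each quasi-compact and quasi-separated over `S`, whose transition maps are affine. If `X ⟶ Y`
is separated, then `X_i ⟶ Y` is separated for all `i` mapping to some `i₀`. (The published statement
allows any base scheme and uses absolute quasi-separatedness; this row assumes the base
quasi-separated, over which quasi-separatedness relative to the base is the absolute notion.) -/
theorem result (S : Scheme.{u}) [QuasiSeparatedSpace S] {I : Type u} [SmallCategory I] [IsCofiltered I]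
    (Y : AlgSp.Space S) (D : I ⥤ AlgSp.Sp S) (hD : ∀ i, AlgSp.IsAlgSpace (D.obj i))
    (t : D ⟶ (Functor.const I).obj Y.obj)
    (hDa : ∀ (i j : I) (φ : i ⟶ j), AlgSp.IsAffineMor (D.map φ))
    (c : Cone D) (hc : IsLimit c) (g : c.pt ⟶ Y.obj) (hg : ∀ i, c.π.app i ≫ t.app i = g)
    (hqc : ∀ i, AlgSp.IsQuasiCompactSp (D.obj i)) (hqs : ∀ i, AlgSp.IsQuasiSeparatedSp (D.obj i))
    (hYqs : AlgSp.IsQuasiSeparatedSp Y.obj) (hX : AlgSp.IsSeparatedMor g) :
    ∃ i₀ : I, ∀ (i : I) (_ : i ⟶ i₀), AlgSp.IsSeparatedMor (t.app i) := by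
  classical
  have hXalg : AlgSp.IsAlgSpace c.pt := Groth.Agent.H52.LimChart.isAlgSpace_pt D c hc hD hDa
  have hπaff : ∀ i, AlgSp.IsAffineMor (c.π.app i) :=
    fun i => Groth.Agent.H52.LimChart.isAffineMor_π_app D c hc i hDa
  have htqc : ∀ i, AlgSp.IsQuasiCompactMor (t.app i) := fun i =>
    Groth.Agent.H52.isQuasiCompactMor_of_isQuasiSeparatedSp (hD i) Y.property _ (hqc i) hYqs
  have hnat : ∀ {i j : I} (φ : i ⟶ j), D.map φ ≫ t.app j = t.app i := by
    intro i j φ
    have := t.naturality φ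
    simp only [Functor.const_obj_obj, Functor.const_obj_map, Category.comp_id] at this
    exact this
  -- the kernel pair of `t_k` is qcqs
  have hKalg : ∀ k, AlgSp.IsAlgSpace (pullback (t.app k) (t.app k)) := fun k =>
    Groth.Agent.H52.isAlgSpace_of_isPullback (IsPullback.of_hasPullback _ _) (hD k) Y.property (hD k)
  have hKqc : ∀ k, AlgSp.IsQuasiCompactSp (pullback (t.app k) (t.app k)) := fun k =>
    Groth.Agent.H52.isQuasiCompactSp_of_isQuasiCompactMor (hD k) _
      (Groth.Agent.H52.isQuasiCompactMor_of_isPullback (IsPullback.of_hasPullback _ _) (htqc k))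
      (hqc k)
  have hKqs : ∀ k, AlgSp.IsQuasiSeparatedSp (pullback (t.app k) (t.app k)) := fun k =>
    Groth.Agent.H52.repWith_diag_of_isPullback @QuasiCompact (IsPullback.of_hasPullback _ _)
      (hqs k) (hqs k)
  -- Step 1: the graph of some projection is a closed immersion
  obtain ⟨k, hk⟩ : ∃ k : I, Groth.Agent.H52.GraphHas @IsClosedImmersion (c.π.app k) (t.app k) := by
    let i₁ : I := (IsCofiltered.nonempty (C := I)).some
    have hXqcqs := Groth.Agent.H52.LimStage.qcqs_of_isAffineMor hXalg (hD i₁) _ (hπaff i₁) (hqc i₁) (hqs i₁)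
    let W : AlgSp.Sp S := pullback (t.app i₁) g
    let ξ : W ⟶ D.obj i₁ := pullback.fst (t.app i₁) g
    let w₂ : W ⟶ c.pt := pullback.snd (t.app i₁) g
    have sqW : IsPullback ξ w₂ (t.app i₁) g := IsPullback.of_hasPullback _ _
    have hWalg : AlgSp.IsAlgSpace W :=
      Groth.Agent.H52.isAlgSpace_of_isPullback sqW (hD i₁) Y.property hXalg
    have hWqc : AlgSp.IsQuasiCompactSp W :=
      Groth.Agent.H52.isQuasiCompactSp_of_isQuasiCompactMor hXalg _
        (Groth.Agent.H52.isQuasiCompactMor_of_isPullback sqW (htqc i₁)) hXqcqs.1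
    have hWqs : AlgSp.IsQuasiSeparatedSp W :=
      Groth.Agent.H52.repWith_diag_of_isPullback @QuasiCompact sqW (hqs i₁) hXqcqs.2
    let G := Groth.Agent.H52.LimPull.G D i₁ ξ
    let cG := Groth.Agent.H52.LimPull.GCone D c i₁ ξ
    have hcG : IsLimit cG := Groth.Agent.H52.LimPull.GConeIsLimit D c hc i₁ ξ
    have hGalg : ∀ j, AlgSp.IsAlgSpace (G.obj j) :=
      Groth.Agent.H52.LimPull.isAlgSpace_G_obj D i₁ ξ hD hWalg
    have hGqc : ∀ j, AlgSp.IsQuasiCompactSp (G.obj j) := fun j =>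
      (Groth.Agent.H52.LimStage.qcqs_of_isAffineMor (hGalg j) hWalg _
        (Groth.Agent.H52.LimPull.isAffineMor_gSnd D i₁ ξ hDa j) hWqc hWqs).1
    let B' : AlgSp.Space S := ⟨c.pt, hXalg⟩
    let t' : G ⟶ (Functor.const (Over i₁)).obj B'.obj :=
      { app := fun j => Groth.Agent.H52.LimPull.gSnd D i₁ ξ j ≫ w₂
        naturality := fun j j' φ => by
          change G.map φ ≫ Groth.Agent.H52.LimPull.gSnd D i₁ ξ j' ≫ w₂ =
            (Groth.Agent.H52.LimPull.gSnd D i₁ ξ j ≫ w₂) ≫ 𝟙 _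
          rw [Category.comp_id, ← Category.assoc, Groth.Agent.H52.LimPull.G_map_snd] }
    -- the diagonal map into the limit
    have hcW : c.π.app i₁ ≫ t.app i₁ = 𝟙 c.pt ≫ g := (hg i₁).trans (Category.id_comp g).symm
    let lW : c.pt ⟶ W := pullback.lift (c.π.app i₁) (𝟙 c.pt) hcW
    have hlW1 : lW ≫ ξ = c.π.app i₁ := pullback.lift_fst _ _ _
    have hlW2 : lW ≫ w₂ = 𝟙 c.pt := pullback.lift_snd _ _ _
    have hcy : 𝟙 c.pt ≫ c.π.app i₁ = lW ≫ ξ := (Category.id_comp _).trans hlW1.symm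
    let y : c.pt ⟶ cG.pt := pullback.lift (𝟙 c.pt) lW hcy
    have hy1 : y ≫ Groth.Agent.H52.LimPull.cFst D c i₁ ξ = 𝟙 _ := pullback.lift_fst _ _ _
    have hy2 : y ≫ Groth.Agent.H52.LimPull.cSnd D c i₁ ξ ≫ w₂ = 𝟙 _ := by
      have h1 : y ≫ Groth.Agent.H52.LimPull.cSnd D c i₁ ξ = lW := pullback.lift_snd _ _ _
      rw [← Category.assoc, h1]
      exact hlW2
    have sqlim : IsPullback (Groth.Agent.H52.LimPull.cFst D c i₁ ξ)
        (Groth.Agent.H52.LimPull.cSnd D c i₁ ξ ≫ w₂) g g := by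
      have h := ((Groth.Agent.H52.LimPull.c_isPullback D c i₁ ξ).flip.paste_horiz sqW.flip).flip
      rw [hg] at h
      exact h
    have hy : AlgSp.RepWith @IsClosedImmersion y :=
      Groth.Agent.H52.repWith_of_isPullback_diag @IsClosedImmersion sqlim y hy1 hy2 hX
    let j₁ : Over i₁ := Over.mk (𝟙 i₁)
    have hYB : AlgSp.LocP @LocallyOfFiniteType (y ≫ cG.π.app j₁ ≫ t'.app j₁) := by
      have h1 : y ≫ cG.π.app j₁ ≫ t'.app j₁ = 𝟙 _ := by
        change y ≫ cG.π.app j₁ ≫ Groth.Agent.H52.LimPull.gSnd D i₁ ξ j₁ ≫ w₂ = 𝟙 _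
        rw [← Category.assoc (cG.π.app j₁), Groth.Agent.H52.LimPull.GCone_π_snd]
        exact hy2
      rw [h1]
      exact Groth.Agent.H52.isEtLocal_lft.locP_of_repWith' _
        (Groth.Agent.H52.repWith_of_isIso _ _)
    obtain ⟨k₀, hk₀⟩ := Groth.Agent.S10009.result S B' G hGalg t'
      (fun j j' φ => Groth.Agent.H52.LimPull.isAffineMor_G_map D i₁ ξ hDa φ) cG hcG hGqc
      ⟨c.pt, hXalg⟩ y hy j₁ hYB
    refine ⟨k₀.left, ?_⟩
    have hγ := hk₀ k₀ (𝟙 _)
    have sqk : IsPullback (Groth.Agent.H52.LimPull.gFst D i₁ ξ k₀)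
        (Groth.Agent.H52.LimPull.gSnd D i₁ ξ k₀ ≫ w₂) (t.app k₀.left)
        (c.π.app k₀.left ≫ t.app k₀.left) := by
      have h := ((Groth.Agent.H52.LimPull.g_isPullback D i₁ ξ k₀).flip.paste_horiz sqW.flip).flip
      rw [hnat] at h
      rw [hg]
      exact h
    refine Groth.Agent.H52.graphHas_of_one @IsClosedImmersion _ _ sqk (y ≫ cG.π.app k₀) ?_ ?_ hγ
    · rw [Category.assoc, Groth.Agent.H52.LimPull.GCone_π_fst, ← Category.assoc, hy1]
      exact Category.id_comp _
    · rw [Category.assoc, ← Category.assoc (cG.π.app k₀), Groth.Agent.H52.LimPull.GCone_π_snd]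
      exact hy2
  -- Step 2: descend to a finite stage
  obtain ⟨f, sqf, hf⟩ := Groth.Agent.H52.stage_of_graphHas @IsClosedImmersion _ _ hk
  have hf₀ : AlgSp.LocP @LocallyOfFiniteType (pullback.diagonal (t.app k)) :=
    Groth.Agent.H52.isEtLocal_lft.locP_of_repWith' _
      (Groth.Agent.H52.diagonal_properties (hD k) (t.app k)).2.1
  obtain ⟨i', φ, hi'⟩ := Groth.Agent.S10019.result S D hD hDa c hc k (hqc k) (hqs k)
    ⟨D.obj k, hD k⟩ ⟨pullback (t.app k) (t.app k), hKalg k⟩ (pullback.diagonal (t.app k))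
    (pullback.snd (t.app k) (t.app k)) (hqc k) (hqs k) (hKqc k) (hKqs k)
    c.pt (pullback (pullback.snd (t.app k) (t.app k)) (c.π.app k)) f
    (pullback.fst _ _) (pullback.snd _ _) (IsPullback.of_hasPullback _ _) (c.π.app k) sqf hf hf₀
  have hgraph : Groth.Agent.H52.GraphHas @IsClosedImmersion (D.map φ) (t.app k) :=
    Groth.Agent.H52.graphHas_of_stage @IsClosedImmersion _ _
      (fun Xi Yi fi pYi qYi sqY pXi sqX => hi' Xi Yi fi pYi qYi sqY pXi sqX)
  have hsep' : AlgSp.IsSeparatedMor (t.app i') := by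
    have := Groth.Agent.H52.isSeparatedMor_of_graphHas (hD i') (hD k) Y.property (D.map φ) (t.app k)
      hgraph (hDa _ _ φ)
    rwa [hnat] at this
  refine ⟨i', fun i ψ => ?_⟩
  have h1 : AlgSp.IsSeparatedMor (D.map ψ) :=
    Groth.Agent.H53.isSeparatedMor_of_isAffineMor (hD i) _ (hDa _ _ ψ)
  have h2 : AlgSp.IsSeparatedMor (D.map ψ ≫ t.app i') :=
    Groth.Agent.H52.repWith_diagonal_comp @IsClosedImmersion (D.map ψ) (t.app i') h1 hsep'
  rw [hnat] at h2
  exact h2

end Groth.Agent.S10059
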