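import Groth.Statements.S10005
import Groth.Agent.S10059
import Groth.Agent.H52.QS
import Groth.Agent.H52.Basic

set_option autoImplicit false
universe u
open CategoryTheory CategoryTheory.Limits AlgebraicGeometry
open AlgSp

namespace Groth.Agent.S10005

/-- Let `S` be a quasi-separated scheme and `X` the limit, in fppf sheaves over `S`, of a cofiltered
system `(X_i)` of quasi-compact algebraic spaces over `S`, each quasi-separated over `S`, whose
transition maps are affine. If `X` is separated over `S`, then `X_i` is separated over `S` for some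
`i`. (The published statement uses absolute separatedness and quasi-separatedness and puts no
condition on `S`; this row assumes `S` quasi-separated and takes both notions over `S`, which gives
the same quasi-separatedness and, when `S` is separated, the same separatedness.) -/
theorem result (S : Scheme.{u}) [QuasiSeparatedSpace S] {I : Type u} [SmallCategory I] [IsCofiltered I]
    (D : I ⥤ AlgSp.Sp S) (hD : ∀ i, AlgSp.IsAlgSpace (D.obj i))
    (hDa : ∀ (i j : I) (φ : i ⟶ j), AlgSp.IsAffineMor (D.map φ))
    (hqc : ∀ i, AlgSp.IsQuasiCompactSp (D.obj i)) (hqs : ∀ i, AlgSp.IsQuasiSeparatedSp (D.obj i))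
    (c : Cone D) (hc : IsLimit c)
    (hX : AlgSp.IsSeparatedSp c.pt) : ∃ i, AlgSp.IsSeparatedSp (D.obj i) := by
  classical
  let Y : AlgSp.Space S := ⟨(AlgSp.yon S).obj (Over.mk (𝟙 S)), AlgSp.IsAlgSpace.yon_obj _⟩
  let t : D ⟶ (Functor.const I).obj Y.obj :=
    { app := fun i => (Groth.Agent.H52.yonBaseIsTerminal S).from (D.obj i)
      naturality := fun i j φ => (Groth.Agent.H52.yonBaseIsTerminal S).hom_ext _ _ }
  have hYqs : AlgSp.IsQuasiSeparatedSp Y.obj := by
    change AlgSp.RepWith @QuasiCompact (Limits.diag Y.obj)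
    rw [Groth.Agent.H52.repWith_diag_iff_diagonal_from]
    haveI : Mono ((Groth.Agent.H52.yonBaseIsTerminal S).from Y.obj) := ⟨fun a b _ => (Groth.Agent.H52.yonBaseIsTerminal S).hom_ext a b⟩
    haveI : IsIso (pullback.diagonal ((Groth.Agent.H52.yonBaseIsTerminal S).from Y.obj)) :=
      (pullback.isIso_diagonal_iff _).mpr inferInstance
    have h := Groth.Agent.H52.repWith_of_isIso @QuasiCompact (pullback.diagonal ((Groth.Agent.H52.yonBaseIsTerminal S).from Y.obj))
    exact h
  have hX' : AlgSp.IsSeparatedMor ((Groth.Agent.H52.yonBaseIsTerminal S).from c.pt) :=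
    (Groth.Agent.H52.repWith_diag_iff_diagonal_from @IsClosedImmersion c.pt).mp hX
  obtain ⟨i₀, hi₀⟩ := Groth.Agent.S10059.result S Y D hD t hDa c hc ((Groth.Agent.H52.yonBaseIsTerminal S).from c.pt)
    (fun i => (Groth.Agent.H52.yonBaseIsTerminal S).hom_ext _ _) hqc hqs hYqs hX'
  refine ⟨i₀, ?_⟩
  have h := hi₀ i₀ (𝟙 _)
  exact (Groth.Agent.H52.repWith_diag_iff_diagonal_from @IsClosedImmersion (D.obj i₀)).mpr h

end Groth.Agent.S10005
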