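import Groth.Statements.S10008
import Groth.Agent.H52.LimChart
import Groth.Agent.H52.UCAssembly
import Groth.Agent.H52.Points

set_option autoImplicit false
universe u
open CategoryTheory CategoryTheory.Limits AlgebraicGeometry
open AlgSp

namespace Groth.Agent.S10008

/-- Let `X` be the limit, in fppf sheaves over `S`, of a cofiltered system `(X_i)` of algebraic spaces
over `S` whose transition maps are affine. If every `X_i` is quasi-compact and has at least one
point, then `X` has a point. -/
theorem result (S : Scheme.{u}) {I : Type u} [SmallCategory I] [IsCofiltered I]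
    (D : I ⥤ AlgSp.Sp S) (hD : ∀ i, AlgSp.IsAlgSpace (D.obj i))
    (hDa : ∀ (i j : I) (φ : i ⟶ j), AlgSp.IsAffineMor (D.map φ))
    (c : Cone D) (hc : IsLimit c)
    (hqc : ∀ i, AlgSp.IsQuasiCompactSp (D.obj i)) (hne : ∀ i, Nonempty (AlgSp.Points (D.obj i))) :
    Nonempty (AlgSp.Points c.pt) := by
  let i₀ : I := (IsCofiltered.nonempty (C := I)).some
  obtain ⟨U₀, a₀, hU₀aff, hae, has⟩ := Groth.Agent.H52.UC.exists_affine_etale_chart' (hqc i₀)
  obtain ⟨cs⟩ := Groth.Agent.H52.LimChart.nonempty_chartSystem D c hc i₀ a₀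
    (fun j => hDa _ _ j.hom)
  haveI : ∀ {j k : Over i₀} (φ : j ⟶ k), IsAffineHom ((cs.E ⋙ Over.forget S).map φ) :=
    fun φ => cs.affE φ
  haveI : ∀ j, Nonempty ↥((cs.E ⋙ Over.forget S).obj j) := by
    intro j
    have h1 : AlgSp.RepWith @Surjective (cs.a j) := MorphismProperty.of_isPullback (cs.sq j).flip has
    obtain ⟨x⟩ := hne j.left
    obtain ⟨y, -⟩ := Groth.Agent.H52.surjective_points_of_repWith_surjective (cs.a j) h1 x
    exact ⟨AlgSp.Points.toScheme _ y⟩
  haveI : ∀ j, CompactSpace ↥((cs.E ⋙ Over.forget S).obj j) := by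
    intro j
    have := cs.affp j
    have : IsAffine U₀.left := hU₀aff
    have : IsAffine (cs.E.obj j).left := isAffine_of_isAffineHom (cs.p j).left
    exact inferInstanceAs (CompactSpace ↥(cs.E.obj j).left)
  obtain ⟨x⟩ := Scheme.nonempty_of_isLimit (cs.E ⋙ Over.forget S)
    ((Over.forget S).mapCone cs.cE) cs.hcE'
  exact ⟨AlgSp.Points.ofPt cs.b x⟩


end Groth.Agent.S10008
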