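import Groth.Statements.S1001
-- import your own Groth.Agent.* helpers here
import Groth.Agent.Lib.Helper32.RpushCoh
import Groth.Agent.Lib.Helper32.WayOut2
import Groth.Agent.H57.RpushBound
import Groth.Agent.S0792

set_option autoImplicit false
universe u
open CategoryTheory CategoryTheory.Limits AlgebraicGeometry
attribute [local instance] HasDerivedCategory.standard
open Perf

namespace Groth.Agent.S1001

open Pretriangulated DerivedCategory
open Groth.Agent.Lib.Helper32.KInjDerived Groth.Agent.Lib.Helper32.RDerCrit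
  Groth.Agent.Lib.Helper32.TriRF Groth.Agent.Lib.Helper32.OpenSupp Groth.Agent.Lib.Helper32.OpenKInj
  Groth.Agent.Lib.Helper32.RpushCoh Groth.Agent.Lib.Helper32.RpushQCohPlus
  Groth.Agent.Lib.Helper32.MVTriangle

/-- uniform vanishing of `R^p f_* M` for `M` coherent with proper support over a Noetherian base -/
theorem exists_bound_Rpush {X S : Scheme.{u}} [IsNoetherian S] (f : X ⟶ S) [LocallyOfFiniteType f]
    [HasInjectiveResolutions X.Modules]
    (M : X.Modules) (hM : Coh.IsCoh M) (hs : ClSub.IsProperOver f (CohB1.support M)) :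
    ∃ N : ℕ, ∀ p : ℕ, N ≤ p → IsZero ((Coh.Rpush f p).obj M) := by
  obtain ⟨Z, i, hi, hprop, G, hGq, hGft, ⟨e⟩⟩ :=
    (Groth.Agent.S0792.result f M hM.1 hM.2).1 hs
  haveI := hi
  haveI := hprop
  haveI : HasInjectiveResolutions Z.Modules := inferInstance
  obtain ⟨N, hN⟩ := Groth.Agent.H57.RpushBound.exists_bound (i ≫ f)
  refine ⟨N.toNat, fun p hp => ?_⟩
  obtain ⟨e'⟩ := Groth.Agent.S0795.nonempty_Rpush_push_iso i f G hGq p
  obtain ⟨e2⟩ := nonempty_homology_single_iso (Scheme.Modules.pushforward (i ≫ f))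
    (DCoh.Rpush (i ≫ f))
    ((DCoh.pushKh (i ≫ f)).totalRightDerivedUnit DerivedCategory.Qh
      (HomotopyCategory.quasiIso Z.Modules (ComplexShape.up ℤ))) (hasKInjRes Z) G 0 p p (by simp)
  have hq : DCoh.IsQCohD ((singleFunctor Z.Modules 0).obj G) := by
    intro j
    by_cases hj : j = 0
    · subst hj
      exact Groth.Agent.Lib.Helper49.isQuasicoherent_of_iso
        ((singleFunctorCompHomologyFunctorIso Z.Modules 0).app G).symm hGq
    · refine Groth.Agent.Lib.Helper1.isQuasicoherent_of_isZero _ ?_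
      rcases lt_or_gt_of_ne hj with h | h
      · exact DerivedCategory.isZero_of_isGE _ 0 j h
      · exact DerivedCategory.isZero_of_isLE _ 0 j h
  have h0 := hN ((singleFunctor Z.Modules 0).obj G) hq inferInstance p (by omega)
  exact IsZero.of_iso h0 ((Coh.Rpush f p).mapIso e.symm ≪≫ e' ≪≫ e2.symm)

/-- Let S be a Noetherian scheme, f : X ⟶ S locally of finite type, and E ∈ D(O_X) bounded with coherent
cohomology sheaves Hⁱ(E) whose supports are proper over S. Assuming Rf_* exists on the unbounded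
derived category, Rf_*E is bounded with coherent cohomology sheaves. -/
theorem result {X S : Scheme.{u}} [IsNoetherian S] (f : X ⟶ S) [LocallyOfFiniteType f]
    [DCoh.HasRpush f] (E : DCoh.D X) (a b : ℤ) [E.IsGE a] [E.IsLE b] (hE : DCoh.IsCohD E)
    (hsupp : ∀ i : ℤ, ClSub.IsProperOver f (CohB1.support (DCoh.HD E i))) :
    DCoh.IsCohD ((DCoh.Rpush f).obj E) ∧ ((DCoh.Rpush f).obj E).IsGE a ∧ ∃ b' : ℤ, ((DCoh.Rpush f).obj E).IsLE b' := by
  haveI : HasInjectiveResolutions X.Modules := inferInstance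
  have hA := hasKInjRes X
  let RF := DCoh.Rpush f
  let α := (DCoh.pushKh f).totalRightDerivedUnit DerivedCategory.Qh
    (HomotopyCategory.quasiIso X.Modules (ComplexShape.up ℤ))
  refine ⟨isCohD_Rpush_of_isGE f E a inferInstance hE hsupp, isGE_Rpush f E a inferInstance, ?_⟩
  let Pp : DerivedCategory X.Modules → Prop := fun Z => ∃ b' : ℤ, (RF.obj Z).IsLE b'
  have hiso : ∀ {Y Z : DerivedCategory X.Modules}, (Y ≅ Z) → Pp Y → Pp Z := by
    rintro Y Z e ⟨b', hb'⟩
    exact ⟨b', @TStructure.t.isLE_of_iso _ _ _ _ _ _ _ _ _ (RF.mapIso e) b' hb'⟩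
  have hzero : ∀ Z : DerivedCategory X.Modules, IsZero Z → Pp Z := by
    intro Z hZ
    refine ⟨0, ?_⟩
    rw [DerivedCategory.isLE_iff]
    intro i _
    exact Functor.map_isZero _ (isZero_rd_obj hA (Scheme.Modules.pushforward f) Z hZ)
  have hext : ∀ Δ : Triangle (DerivedCategory X.Modules), Δ ∈ distTriang _ →
      Pp Δ.obj₁ → Pp Δ.obj₃ → Pp Δ.obj₂ := by
    rintro Δ hΔ ⟨b1, h1⟩ ⟨b3, h3⟩
    obtain ⟨δ, hT⟩ := exists_distinguished (Scheme.Modules.pushforward f) RF α hA Δ hΔ
    refine ⟨max b1 b3, ?_⟩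
    have h1' : (RF.obj Δ.obj₁).IsLE (max b1 b3) :=
      haveI := h1; TStructure.t.isLE_of_le (RF.obj Δ.obj₁) b1 _ (le_max_left _ _)
    have h3' : (RF.obj Δ.obj₃).IsLE (max b1 b3) :=
      haveI := h3; TStructure.t.isLE_of_le (RF.obj Δ.obj₃) b3 _ (le_max_right _ _)
    exact TStructure.t.isLE₂ _ hT (max b1 b3) h1' h3'
  have hLE' : E.IsLE (a + ((b - a + 1).toNat : ℤ) - 1) :=
    TStructure.t.isLE_of_le E b _ (by omega)
  refine Groth.Agent.Lib.Helper32.WayOut2.prop_of_bounded Pp hiso hzero hext (b - a + 1).toNat a E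
    inferInstance hLE' ?_
  rintro q M ⟨e⟩
  refine hiso ((singleFunctor X.Modules q).mapIso e.symm) ?_
  obtain ⟨N, hN⟩ := exists_bound_Rpush f (DCoh.HD E q) (hE q) (hsupp q)
  refine ⟨q + N, ?_⟩
  rw [DerivedCategory.isLE_iff]
  intro i hi
  obtain ⟨p, hp⟩ : ∃ p : ℕ, (p : ℤ) = i - q := ⟨(i - q).toNat, by omega⟩
  obtain ⟨e2⟩ := nonempty_homology_single_iso (Scheme.Modules.pushforward f) RF α hA
    (DCoh.HD E q) q i p hp
  exact IsZero.of_iso (hN p (by omega)) e2

end Groth.Agent.S1001
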