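import Groth.Statements.S10010
import Groth.Agent.S10009
import Groth.Agent.H52.LimPull
import Groth.Agent.H52.LimOpen
import Groth.Agent.H52.ImmOpen
import Groth.Agent.H52.QC2
import Groth.Agent.H52.LocNoeth

set_option autoImplicit false
universe u
open CategoryTheory CategoryTheory.Limits AlgebraicGeometry
open AlgSp

namespace Groth.Agent.S10010

/-- Let `S` be a quasi-separated scheme, `B` an algebraic space over `S`, and `X` the limit, in fppf
sheaves, of a cofiltered system `(X_i)` of algebraic spaces over `B`, each quasi-separated over `S`,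
whose transition maps are affine; let `y : Y ⟶ X` be an immersion from a quasi-compact algebraic
space `Y` whose structure map to `B` is locally of finite type. Then, for all `i` mapping to some
`i₀`, the composite `Y ⟶ X ⟶ X_i` is an immersion. (The published statement allows any base scheme
and uses absolute quasi-separatedness; this row assumes the base quasi-separated, over which
quasi-separatedness relative to the base is the absolute notion.) -/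
theorem result (S : Scheme.{u}) [QuasiSeparatedSpace S] {I : Type u} [SmallCategory I] [IsCofiltered I]
    (B : AlgSp.Space S) (D : I ⥤ AlgSp.Sp S) (hD : ∀ i, AlgSp.IsAlgSpace (D.obj i))
    (t : D ⟶ (Functor.const I).obj B.obj)
    (hDa : ∀ (i j : I) (φ : i ⟶ j), AlgSp.IsAffineMor (D.map φ))
    (c : Cone D) (hc : IsLimit c)
    (hqs : ∀ i, AlgSp.IsQuasiSeparatedSp (D.obj i))
    (Y : AlgSp.Space S) (hYqc : AlgSp.IsQuasiCompactSp Y.obj) (y : Y.obj ⟶ c.pt) (hy : AlgSp.RepWith @IsImmersion y) (i₁ : I)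
    (hYB : AlgSp.LocP @LocallyOfFiniteType (y ≫ c.π.app i₁ ≫ t.app i₁)) :
    ∃ i₀ : I, ∀ (i : I) (_ : i ⟶ i₀), AlgSp.RepWith @IsImmersion (y ≫ c.π.app i) := by
  classical
  have hXalg : AlgSp.IsAlgSpace c.pt := Groth.Agent.H52.LimChart.isAlgSpace_pt D c hc hD hDa
  have hnat : ∀ {i j : I} (φ : i ⟶ j), D.map φ ≫ t.app j = t.app i := by
    intro i j φ
    have := t.naturality φ
    simp only [Functor.const_obj_obj, Functor.const_obj_map, Category.comp_id] at this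
    exact this
  -- Step 1: a quasi-compact open of `X_{i₁}` containing the image of `Y`
  have hK₁ : IsCompact (Set.range (AlgSp.Points.map (y ≫ c.π.app i₁))) :=
    Groth.Agent.H52.isCompact_range_points_map _ hYqc
  obtain ⟨O₁, hO₁, hKO₁, -, hO₁qc⟩ := Groth.Agent.H52.ImmOpen.exists_qc_open_between (hD i₁) _
    Set.univ hK₁ isOpen_univ (Set.subset_univ _)
  obtain ⟨ξ₁, hξ₁def⟩ : ∃ ξ₁ : Groth.Agent.Lib.Helper54.openSub (D.obj i₁) O₁ ⟶ D.obj i₁,
      ξ₁ = Groth.Agent.Lib.Helper54.openSubι (D.obj i₁) O₁ := ⟨_, rfl⟩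
  have hξ₁ : AlgSp.RepWith @IsOpenImmersion ξ₁ := by
    rw [hξ₁def]; exact Groth.Agent.Lib.Helper54.repWith_isOpenImmersion_openSubι _ O₁ hO₁
  have hX₁alg : AlgSp.IsAlgSpace (Groth.Agent.Lib.Helper54.openSub (D.obj i₁) O₁) :=
    Groth.Agent.Lib.Helper54.isAlgSpace_openSub (hD i₁) O₁ hO₁
  have hrange₁ : Set.range (AlgSp.Points.map ξ₁) = O₁ := by
    rw [hξ₁def]; exact Groth.Agent.Lib.Helper54.range_points_map_openSubι _ _
  obtain ⟨l₁, hl₁⟩ := Groth.Agent.H53.exists_factor_of_range_subset ξ₁ hξ₁ (y ≫ c.π.app i₁)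
    (by rw [hrange₁]; exact hKO₁)
  -- first-level system
  obtain ⟨D', hD'def⟩ : ∃ D' : Over i₁ ⥤ AlgSp.Sp S, D' = Groth.Agent.H52.LimPull.G D i₁ ξ₁ :=
    ⟨_, rfl⟩
  let c' := Groth.Agent.H52.LimPull.GCone D c i₁ ξ₁
  have hc' : IsLimit c' := Groth.Agent.H52.LimPull.GConeIsLimit D c hc i₁ ξ₁
  have hD'alg : ∀ k, AlgSp.IsAlgSpace ((Groth.Agent.H52.LimPull.G D i₁ ξ₁).obj k) :=
    Groth.Agent.H52.LimPull.isAlgSpace_G_obj D i₁ ξ₁ hD hX₁alg
  have hD'a : ∀ (j k : Over i₁) (φ : j ⟶ k),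
      AlgSp.IsAffineMor ((Groth.Agent.H52.LimPull.G D i₁ ξ₁).map φ) :=
    fun j k φ => Groth.Agent.H52.LimPull.isAffineMor_G_map D i₁ ξ₁ hDa φ
  have hD'qc : ∀ k, AlgSp.IsQuasiCompactSp ((Groth.Agent.H52.LimPull.G D i₁ ξ₁).obj k) := fun k =>
    Groth.Agent.H52.ImmOpen.isQuasiCompactSp_of_isAffineMor hX₁alg _
      (Groth.Agent.H52.LimPull.isAffineMor_gSnd D i₁ ξ₁ hDa k) hO₁qc
  have hc'alg : AlgSp.IsAlgSpace c'.pt :=
    Groth.Agent.H52.isAlgSpace_of_isPullback (Groth.Agent.H52.LimPull.c_isPullback D c i₁ ξ₁)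
      hXalg (hD i₁) hX₁alg
  have hgFst' : ∀ k, AlgSp.RepWith @IsOpenImmersion (Groth.Agent.H52.LimPull.gFst D i₁ ξ₁ k) :=
    fun k => MorphismProperty.of_isPullback (Groth.Agent.H52.LimPull.g_isPullback D i₁ ξ₁ k).flip hξ₁
  have hcFst' : AlgSp.RepWith @IsOpenImmersion (Groth.Agent.H52.LimPull.cFst D c i₁ ξ₁) :=
    MorphismProperty.of_isPullback (Groth.Agent.H52.LimPull.c_isPullback D c i₁ ξ₁).flip hξ₁
  haveI : Mono (Groth.Agent.H52.LimPull.cFst D c i₁ ξ₁) :=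
    Groth.Agent.Lib.Helper54.mono_of_isOpenImmersion _ hcFst'
  obtain ⟨y₁, hy₁⟩ : ∃ y₁ : Y.obj ⟶ c'.pt, y₁ ≫ Groth.Agent.H52.LimPull.cFst D c i₁ ξ₁ = y :=
    ⟨pullback.lift y l₁ hl₁.symm, pullback.lift_fst _ _ _⟩
  have hy₁imm : AlgSp.RepWith @IsImmersion y₁ :=
    Groth.Agent.H52.ImmOpen.repWith_of_comp_mono @IsImmersion y _ y₁ hy₁ hy
  -- Step 2: a quasi-compact open `U` of `X'` in which `Y` is closed
  have hA : IsCompact (Set.range (AlgSp.Points.map y₁)) :=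
    Groth.Agent.H52.isCompact_range_points_map _ hYqc
  have hcob := Groth.Agent.H52.ImmOpen.isOpen_coborder_range hc'alg y₁ hy₁imm
  obtain ⟨O₂, hO₂, hAO₂, hO₂c, hO₂qc⟩ := Groth.Agent.H52.ImmOpen.exists_qc_open_between hc'alg _ _
    hA hcob subset_coborder
  have hO₂cpt : IsCompact O₂ := by
    have := Groth.Agent.H52.isCompact_range_points_map
      (Groth.Agent.Lib.Helper54.openSubι c'.pt O₂) hO₂qc
    rwa [Groth.Agent.Lib.Helper54.range_points_map_openSubι] at this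
  -- Step 3: descend `U`
  obtain ⟨k, O₃, hO₃, hO₃qc, hpre⟩ := Groth.Agent.H52.LimOpen.exists_open_stage
    (Groth.Agent.H52.LimPull.G D i₁ ξ₁) hD'alg hD'a hD'qc c' hc' O₂ hO₂ hO₂cpt
  obtain ⟨ξ₂, hξ₂def⟩ : ∃ ξ₂ : Groth.Agent.Lib.Helper54.openSub
      ((Groth.Agent.H52.LimPull.G D i₁ ξ₁).obj k) O₃ ⟶ (Groth.Agent.H52.LimPull.G D i₁ ξ₁).obj k,
      ξ₂ = Groth.Agent.Lib.Helper54.openSubι _ O₃ := ⟨_, rfl⟩
  have hξ₂ : AlgSp.RepWith @IsOpenImmersion ξ₂ := by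
    rw [hξ₂def]; exact Groth.Agent.Lib.Helper54.repWith_isOpenImmersion_openSubι _ O₃ hO₃
  have hU₃alg : AlgSp.IsAlgSpace (Groth.Agent.Lib.Helper54.openSub
      ((Groth.Agent.H52.LimPull.G D i₁ ξ₁).obj k) O₃) :=
    Groth.Agent.Lib.Helper54.isAlgSpace_openSub (hD'alg k) O₃ hO₃
  have hrange₂ : Set.range (AlgSp.Points.map ξ₂) = O₃ := by
    rw [hξ₂def]; exact Groth.Agent.Lib.Helper54.range_points_map_openSubι _ _
  -- second-level system
  let c'' := Groth.Agent.H52.LimPull.GCone (Groth.Agent.H52.LimPull.G D i₁ ξ₁) c' k ξ₂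
  have hc'' : IsLimit c'' :=
    Groth.Agent.H52.LimPull.GConeIsLimit (Groth.Agent.H52.LimPull.G D i₁ ξ₁) c' hc' k ξ₂
  have hD''alg : ∀ m, AlgSp.IsAlgSpace
      ((Groth.Agent.H52.LimPull.G (Groth.Agent.H52.LimPull.G D i₁ ξ₁) k ξ₂).obj m) :=
    Groth.Agent.H52.LimPull.isAlgSpace_G_obj _ k ξ₂ hD'alg hU₃alg
  have hD''a : ∀ (m m' : Over k) (φ : m ⟶ m'), AlgSp.IsAffineMor
      ((Groth.Agent.H52.LimPull.G (Groth.Agent.H52.LimPull.G D i₁ ξ₁) k ξ₂).map φ) :=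
    fun m m' φ => Groth.Agent.H52.LimPull.isAffineMor_G_map _ k ξ₂ hD'a φ
  have hD''qc : ∀ m, AlgSp.IsQuasiCompactSp
      ((Groth.Agent.H52.LimPull.G (Groth.Agent.H52.LimPull.G D i₁ ξ₁) k ξ₂).obj m) := fun m =>
    Groth.Agent.H52.ImmOpen.isQuasiCompactSp_of_isAffineMor hU₃alg _
      (Groth.Agent.H52.LimPull.isAffineMor_gSnd _ k ξ₂ hD'a m) hO₃qc
  have hgFst'' : ∀ m, AlgSp.RepWith @IsOpenImmersion
      (Groth.Agent.H52.LimPull.gFst (Groth.Agent.H52.LimPull.G D i₁ ξ₁) k ξ₂ m) :=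
    fun m => MorphismProperty.of_isPullback
      (Groth.Agent.H52.LimPull.g_isPullback (Groth.Agent.H52.LimPull.G D i₁ ξ₁) k ξ₂ m).flip hξ₂
  have hcFst'' : AlgSp.RepWith @IsOpenImmersion
      (Groth.Agent.H52.LimPull.cFst (Groth.Agent.H52.LimPull.G D i₁ ξ₁) c' k ξ₂) :=
    MorphismProperty.of_isPullback
      (Groth.Agent.H52.LimPull.c_isPullback (Groth.Agent.H52.LimPull.G D i₁ ξ₁) c' k ξ₂).flip hξ₂
  have hrange'' : Set.range (AlgSp.Points.map
      (Groth.Agent.H52.LimPull.cFst (Groth.Agent.H52.LimPull.G D i₁ ξ₁) c' k ξ₂)) = O₂ := by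
    have h := Groth.Agent.H52.preimage_image_eq_of_isPullback
      (Groth.Agent.H52.LimPull.c_isPullback (Groth.Agent.H52.LimPull.G D i₁ ξ₁) c' k ξ₂).flip
      Set.univ
    rw [Set.image_univ, Set.preimage_univ, Set.image_univ, hrange₂, hpre] at h
    exact h.symm
  obtain ⟨y₂, hy₂⟩ := Groth.Agent.H53.exists_factor_of_range_subset
    (Groth.Agent.H52.LimPull.cFst (Groth.Agent.H52.LimPull.G D i₁ ξ₁) c' k ξ₂) hcFst'' y₁
    (by rw [hrange'']; exact hAO₂)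
  have hy₂ci : AlgSp.RepWith @IsClosedImmersion y₂ :=
    Groth.Agent.H52.ImmOpen.repWith_isClosedImmersion_of_factor y₁ hy₁imm _ hcFst''
      (by rw [hrange'']; exact hO₂c) y₂ hy₂
  -- compatibility of the projections
  have hE1 : ∀ m : Over k, (y₂ ≫ c''.π.app m) ≫
      Groth.Agent.H52.LimPull.gFst (Groth.Agent.H52.LimPull.G D i₁ ξ₁) k ξ₂ m ≫
        Groth.Agent.H52.LimPull.gFst D i₁ ξ₁ m.left = y ≫ c.π.app m.left.left := by
    intro m
    have e1 := Groth.Agent.H52.LimPull.GCone_π_fst (Groth.Agent.H52.LimPull.G D i₁ ξ₁) c' k ξ₂ m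
    have e2 := Groth.Agent.H52.LimPull.GCone_π_fst D c i₁ ξ₁ m.left
    calc (y₂ ≫ c''.π.app m) ≫
          Groth.Agent.H52.LimPull.gFst (Groth.Agent.H52.LimPull.G D i₁ ξ₁) k ξ₂ m ≫
            Groth.Agent.H52.LimPull.gFst D i₁ ξ₁ m.left
        = y₂ ≫ (c''.π.app m ≫
          Groth.Agent.H52.LimPull.gFst (Groth.Agent.H52.LimPull.G D i₁ ξ₁) k ξ₂ m) ≫
            Groth.Agent.H52.LimPull.gFst D i₁ ξ₁ m.left := by
          simp only [Category.assoc]
      _ = y₂ ≫ (Groth.Agent.H52.LimPull.cFst (Groth.Agent.H52.LimPull.G D i₁ ξ₁) c' k ξ₂ ≫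
            c'.π.app m.left) ≫ Groth.Agent.H52.LimPull.gFst D i₁ ξ₁ m.left := by rw [e1]
      _ = (y₂ ≫ Groth.Agent.H52.LimPull.cFst (Groth.Agent.H52.LimPull.G D i₁ ξ₁) c' k ξ₂) ≫
            (c'.π.app m.left ≫ Groth.Agent.H52.LimPull.gFst D i₁ ξ₁ m.left) := by
          simp only [Category.assoc]
      _ = y₁ ≫ (Groth.Agent.H52.LimPull.cFst D c i₁ ξ₁ ≫ c.π.app m.left.left) := by rw [hy₂, e2]
      _ = y ≫ c.π.app m.left.left := by rw [← Category.assoc, hy₁]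
  -- Step 4: S10009
  let t'' : Groth.Agent.H52.LimPull.G (Groth.Agent.H52.LimPull.G D i₁ ξ₁) k ξ₂ ⟶
      (Functor.const (Over k)).obj B.obj :=
    { app := fun m => Groth.Agent.H52.LimPull.gFst (Groth.Agent.H52.LimPull.G D i₁ ξ₁) k ξ₂ m ≫
        Groth.Agent.H52.LimPull.gFst D i₁ ξ₁ m.left ≫ t.app m.left.left
      naturality := fun m m' φ => by
        change (Groth.Agent.H52.LimPull.G (Groth.Agent.H52.LimPull.G D i₁ ξ₁) k ξ₂).map φ ≫
          Groth.Agent.H52.LimPull.gFst (Groth.Agent.H52.LimPull.G D i₁ ξ₁) k ξ₂ m' ≫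
          Groth.Agent.H52.LimPull.gFst D i₁ ξ₁ m'.left ≫ t.app m'.left.left =
          (Groth.Agent.H52.LimPull.gFst (Groth.Agent.H52.LimPull.G D i₁ ξ₁) k ξ₂ m ≫
          Groth.Agent.H52.LimPull.gFst D i₁ ξ₁ m.left ≫ t.app m.left.left) ≫ 𝟙 _
        rw [Category.comp_id, ← Category.assoc, Groth.Agent.H52.LimPull.G_map_fst, Category.assoc,
          ← Category.assoc ((Groth.Agent.H52.LimPull.G D i₁ ξ₁).map φ.left),
          Groth.Agent.H52.LimPull.G_map_fst, Category.assoc, hnat] }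
  let j₁ : Over k := Over.mk (𝟙 k)
  have hYB'' : AlgSp.LocP @LocallyOfFiniteType (y₂ ≫ c''.π.app j₁ ≫ t''.app j₁) := by
    have h1 : y₂ ≫ c''.π.app j₁ ≫ t''.app j₁ = y ≫ c.π.app i₁ ≫ t.app i₁ := by
      have e := hE1 j₁
      calc y₂ ≫ c''.π.app j₁ ≫ t''.app j₁
          = ((y₂ ≫ c''.π.app j₁) ≫
            Groth.Agent.H52.LimPull.gFst (Groth.Agent.H52.LimPull.G D i₁ ξ₁) k ξ₂ j₁ ≫
              Groth.Agent.H52.LimPull.gFst D i₁ ξ₁ j₁.left) ≫ t.app j₁.left.left := by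
            simp only [t'', Category.assoc]
        _ = (y ≫ c.π.app k.left) ≫ t.app k.left := by rw [e]; rfl
        _ = y ≫ c.π.app i₁ ≫ t.app i₁ := by
            rw [Category.assoc, ← hnat k.hom, ← Category.assoc (c.π.app k.left), c.w]
    rw [h1]; exact hYB
  obtain ⟨m₀, hm₀⟩ := Groth.Agent.S10009.result S B
    (Groth.Agent.H52.LimPull.G (Groth.Agent.H52.LimPull.G D i₁ ξ₁) k ξ₂) hD''alg t'' hD''a c'' hc''
    hD''qc Y y₂ hy₂ci j₁ hYB''
  -- Step 5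
  refine ⟨m₀.left.left, fun i φ => ?_⟩
  let k' : Over i₁ := Over.mk (φ ≫ m₀.left.hom)
  let ψ : k' ⟶ m₀.left := Over.homMk φ rfl
  let m : Over k := Over.mk (ψ ≫ m₀.hom)
  let χ : m ⟶ m₀ := Over.homMk ψ rfl
  have h1 := hm₀ m χ
  have h2 := hE1 m
  have hle1 : ∀ ⦃A B : Scheme.{u}⦄ (f : A ⟶ B), IsClosedImmersion f → IsImmersion f :=
    fun _ _ f hf => by have := hf; infer_instance
  have hle2 : ∀ ⦃A B : Scheme.{u}⦄ (f : A ⟶ B), IsOpenImmersion f → IsImmersion f :=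
    fun _ _ f hf => by have := hf; infer_instance
  have h3 : AlgSp.RepWith @IsImmersion ((y₂ ≫ c''.π.app m) ≫
      Groth.Agent.H52.LimPull.gFst (Groth.Agent.H52.LimPull.G D i₁ ξ₁) k ξ₂ m ≫
        Groth.Agent.H52.LimPull.gFst D i₁ ξ₁ m.left) :=
    (AlgSp.RepWith (S := S) @IsImmersion).comp_mem _ _ (Groth.Agent.H53.repWith_of_le hle1 h1)
      ((AlgSp.RepWith (S := S) @IsImmersion).comp_mem _ _
        (Groth.Agent.H53.repWith_of_le hle2 (hgFst'' m))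
        (Groth.Agent.H53.repWith_of_le hle2 (hgFst' m.left)))
  rw [h2] at h3
  exact h3

end Groth.Agent.S10010
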