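import Groth.Statements.S10012
import Groth.Agent.S10011
import Groth.Agent.H52.KernelPairSys
import Groth.Agent.H52.LocNoeth
import Groth.Agent.H52.QC5
import Groth.Agent.H52.LocPCalc4
import Groth.Agent.H53.IntegralComp
import Groth.Agent.H53.Proper
import Mathlib.CategoryTheory.Filtered.Final

set_option autoImplicit false
universe u
open CategoryTheory CategoryTheory.Limits AlgebraicGeometry
open AlgSp

namespace Groth.Agent.S10012

/-- Let `S` be a quasi-separated scheme, `B` an algebraic space over `S`, and `X` the limit, in fppf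
sheaves, of a cofiltered system `(X_i)` of algebraic spaces over `B`, each quasi-separated over `S`,
whose transition maps are affine; let `y : Y ⟶ X` be a monomorphism from a quasi-compact algebraic
space `Y` whose structure map to `B` is locally of finite type. Then, for all `i` mapping to some
`i₀`, the composite `Y ⟶ X ⟶ X_i` is a monomorphism. (The published statement allows any base scheme
and uses absolute quasi-separatedness; this row assumes the base quasi-separated, over which
quasi-separatedness relative to the base is the absolute notion.) -/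
theorem result (S : Scheme.{u}) [QuasiSeparatedSpace S] {I : Type u} [SmallCategory I] [IsCofiltered I]
    (B : AlgSp.Space S) (D : I ⥤ AlgSp.Sp S) (hD : ∀ i, AlgSp.IsAlgSpace (D.obj i))
    (t : D ⟶ (Functor.const I).obj B.obj)
    (hDa : ∀ (i j : I) (φ : i ⟶ j), AlgSp.IsAffineMor (D.map φ))
    (c : Cone D) (hc : IsLimit c)
    (hqs : ∀ i, AlgSp.IsQuasiSeparatedSp (D.obj i))
    (Y : AlgSp.Space S) (hYqc : AlgSp.IsQuasiCompactSp Y.obj) (y : Y.obj ⟶ c.pt) [Mono y] (i₁ : I)
    (hYB : AlgSp.LocP @LocallyOfFiniteType (y ≫ c.π.app i₁ ≫ t.app i₁)) :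
    ∃ i₀ : I, ∀ (i : I) (_ : i ⟶ i₀), Mono (y ≫ c.π.app i) := by
  classical
  let D' : Over i₁ ⥤ AlgSp.Sp S := Over.forget i₁ ⋙ D
  let y' : ∀ k : Over i₁, Y.obj ⟶ D'.obj k := fun k => y ≫ c.π.app k.left
  have hy' : ∀ {k k' : Over i₁} (φ : k ⟶ k'), y' k ≫ D'.map φ = y' k' := by
    intro k k' φ
    change (y ≫ c.π.app k.left) ≫ D.map φ.left = y ≫ c.π.app k'.left
    rw [Category.assoc, c.w]
  let Z : Over i₁ ⥤ AlgSp.Sp S := Groth.Agent.H52.KernelPairSys.kpFunctor D' y' @hy'
  have hZ : ∀ k, AlgSp.IsAlgSpace (Z.obj k) := fun k =>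
    Groth.Agent.H52.isAlgSpace_of_isPullback
      (Groth.Agent.H52.KernelPairSys.kp_isPullback D' y' @hy' k) Y.property (hD k.left) Y.property
  have hjm : ∀ {T : AlgSp.Sp S} (a b : T ⟶ Y.obj), (∀ k, a ≫ y' k = b ≫ y' k) → a = b := by
    intro T a b h
    rw [← cancel_mono y]
    apply hc.hom_ext
    intro i
    have h1 := h (Over.mk (IsCofiltered.minToRight i i₁))
    have h2 : (a ≫ y) ≫ c.π.app (IsCofiltered.min i i₁) =
        (b ≫ y) ≫ c.π.app (IsCofiltered.min i i₁) := by
      rw [Category.assoc, Category.assoc]; exact h1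
    rw [← c.w (IsCofiltered.minToLeft i i₁), ← Category.assoc, ← Category.assoc, h2]
  have hlim : IsLimit (Groth.Agent.H52.KernelPairSys.kpCone D' y' @hy') :=
    Groth.Agent.H52.KernelPairSys.kpConeIsLimit D' y' @hy' Over.mkIdTerminal hjm
  have hZc : ∀ (k k' : Over i₁) (φ : k ⟶ k'), AlgSp.RepWith @IsClosedImmersion (Z.map φ) := by
    intro k k' φ
    have hsep : AlgSp.IsSeparatedMor (D'.map φ) :=
      Groth.Agent.H53.isSeparatedMor_of_isAffineMor (hD k.left) _ (hDa _ _ φ.left)
    exact MorphismProperty.of_isPullback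
      (Groth.Agent.H52.KernelPairSys.kp_map_isPullback D' y' @hy' φ).flip hsep
  have hZqc : ∀ k, AlgSp.IsQuasiCompactSp (Z.obj k) := by
    intro k
    have h1 : AlgSp.IsQuasiCompactMor (y' k) :=
      Groth.Agent.H52.isQuasiCompactMor_of_isQuasiSeparatedSp Y.property (hD k.left) _ hYqc
        (hqs k.left)
    have h2 : AlgSp.IsQuasiCompactMor (Groth.Agent.H52.KernelPairSys.kpSnd D' y' @hy' k) :=
      Groth.Agent.H52.isQuasiCompactMor_of_isPullback
        (Groth.Agent.H52.KernelPairSys.kp_isPullback D' y' @hy' k) h1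
    exact Groth.Agent.H52.isQuasiCompactSp_of_isQuasiCompactMor Y.property _ h2 hYqc
  let j₁ : Over i₁ := Over.mk (𝟙 i₁)
  let B' : AlgSp.Space S := ⟨Z.obj j₁, hZ j₁⟩
  let t' : Z ⟶ (Functor.const (Over i₁)).obj B'.obj :=
    { app := fun k => Z.map (Over.mkIdTerminal.from k)
      naturality := fun k k' φ => by
        change Z.map φ ≫ Z.map (Over.mkIdTerminal.from k') =
          Z.map (Over.mkIdTerminal.from k) ≫ 𝟙 _
        rw [Category.comp_id, ← Z.map_comp]
        congr 1
        exact Over.mkIdTerminal.hom_ext _ _ }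
  have hft : ∀ k, AlgSp.LocP @LocallyOfFiniteType (t'.app k) := fun k =>
    Groth.Agent.H52.isEtLocal_lft.locP_of_repWith' _
      (Groth.Agent.H53.repWith_of_le (fun _ _ f hf => by
        have : IsClosedImmersion f := hf
        infer_instance) (hZc _ _ (Over.mkIdTerminal.from k)))
  have hlft : AlgSp.LocP @LocallyOfFiniteType (y' j₁) := by
    refine Groth.Agent.H52.isEtLocal_lft.locP_of_comp
      (fun A B C f g hfg => by
        have : LocallyOfFiniteType (f ≫ g) := hfg
        exact locallyOfFiniteType_of_comp f g) B.property (y' j₁) (t.app i₁) ?_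
    have : y' j₁ ≫ t.app i₁ = y ≫ c.π.app i₁ ≫ t.app i₁ := Category.assoc _ _ _
    rw [this]; exact hYB
  have hX : AlgSp.LocP @LocallyOfFinitePresentation
      ((Groth.Agent.H52.KernelPairSys.kpCone D' y' @hy').π.app j₁ ≫ t'.app j₁) := by
    have h : (Groth.Agent.H52.KernelPairSys.kpCone D' y' @hy').π.app j₁ ≫ t'.app j₁ =
        pullback.diagonal (y' j₁) := by
      change Groth.Agent.H52.KernelPairSys.kpDiag D' y' @hy' j₁ ≫
        Z.map (Over.mkIdTerminal.from j₁) = _
      rw [show Over.mkIdTerminal.from j₁ = 𝟙 j₁ from Over.mkIdTerminal.hom_ext _ _, Z.map_id,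
        Category.comp_id]
      rfl
    rw [h]
    exact Groth.Agent.H52.locP_lfp_diagonal Y.property (hD i₁) (y' j₁) hlft
  obtain ⟨k₀, hk₀⟩ := Groth.Agent.S10011.result S B' Z hZ t' hZc
    (Groth.Agent.H52.KernelPairSys.kpCone D' y' @hy') hlim hZqc hft j₁ hX
  refine ⟨k₀.left, fun i φ => ?_⟩
  have h := hk₀ (Over.mk (φ ≫ k₀.hom)) (Over.homMk φ rfl)
  have h' : IsIso (pullback.diagonal (y' (Over.mk (φ ≫ k₀.hom)))) := h
  exact (pullback.isIso_diagonal_iff _).mp h'

end Groth.Agent.S10012
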