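import Groth.Statements.S10060
import Groth.Agent.H52.LimPull
import Groth.Agent.H52.LimRep2
import Groth.Agent.H52.DiagSp2
import Groth.Agent.H52.AffLim4
import Groth.Agent.H53.ChartDescent
import Groth.Agent.S10533

set_option autoImplicit false
universe u
open CategoryTheory CategoryTheory.Limits AlgebraicGeometry
open AlgSp

namespace Groth.Agent.S10060

/-- Let `S` be a quasi-separated scheme, `Y` an algebraic space over `S` which is quasi-compact and
quasi-separated over `S`, and `X` the limit, in fppf sheaves, of a cofiltered system `(X_i)` of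
algebraic spaces over `Y`, each quasi-compact and quasi-separated over `S`, whose transition maps
are affine. If `X ⟶ Y` is affine, then `X_i ⟶ Y` is affine for all `i` mapping to some `i₀`. (The
published statement allows any base scheme and uses absolute quasi-separatedness; this row assumes
the base quasi-separated, over which quasi-separatedness relative to the base is the absolute
notion.) -/
theorem result (S : Scheme.{u}) [QuasiSeparatedSpace S] {I : Type u} [SmallCategory I] [IsCofiltered I]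
    (Y : AlgSp.Space S) (D : I ⥤ AlgSp.Sp S) (hD : ∀ i, AlgSp.IsAlgSpace (D.obj i))
    (t : D ⟶ (Functor.const I).obj Y.obj)
    (hDa : ∀ (i j : I) (φ : i ⟶ j), AlgSp.IsAffineMor (D.map φ))
    (c : Cone D) (hc : IsLimit c) (g : c.pt ⟶ Y.obj) (hg : ∀ i, c.π.app i ≫ t.app i = g)
    (hqc : ∀ i, AlgSp.IsQuasiCompactSp (D.obj i)) (hqs : ∀ i, AlgSp.IsQuasiSeparatedSp (D.obj i))
    (hYqc : AlgSp.IsQuasiCompactSp Y.obj) (hYqs : AlgSp.IsQuasiSeparatedSp Y.obj) (hX : AlgSp.IsAffineMor g) :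
    ∃ i₀ : I, ∀ (i : I) (_ : i ⟶ i₀), AlgSp.IsAffineMor (t.app i) := by
  classical
  have htqc : ∀ i, AlgSp.IsQuasiCompactMor (t.app i) := fun i =>
    Groth.Agent.H52.isQuasiCompactMor_of_isQuasiSeparatedSp (hD i) Y.property _ (hqc i) hYqs
  have hnat : ∀ {i j : I} (φ : i ⟶ j), D.map φ ≫ t.app j = t.app i := by
    intro i j φ
    have := t.naturality φ
    simp only [Functor.const_obj_obj, Functor.const_obj_map, Category.comp_id] at this
    exact this
  obtain ⟨V₀, ξV, hV₀, hξe, hξs⟩ := Groth.Agent.H52.UC.exists_affine_etale_chart' hYqc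
  have : IsAffine V₀.left := hV₀
  let i₁ : I := (IsCofiltered.nonempty (C := I)).some
  let W : AlgSp.Sp S := pullback (t.app i₁) ξV
  let ξ : W ⟶ D.obj i₁ := pullback.fst (t.app i₁) ξV
  let w₂ : W ⟶ (yon S).obj V₀ := pullback.snd (t.app i₁) ξV
  have sqW : IsPullback ξ w₂ (t.app i₁) ξV := IsPullback.of_hasPullback _ _
  have hWalg : AlgSp.IsAlgSpace W :=
    Groth.Agent.H52.isAlgSpace_of_isPullback sqW (hD i₁) Y.property (IsAlgSpace.yon_obj V₀)
  have hWqc : AlgSp.IsQuasiCompactSp W :=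
    Groth.Agent.H52.isQuasiCompactSp_of_isQuasiCompactMor (IsAlgSpace.yon_obj V₀) _
      (Groth.Agent.H52.isQuasiCompactMor_of_isPullback sqW (htqc i₁))
      (Groth.Agent.H52.isQuasiCompactSp_yon _)
  have hWqs : AlgSp.IsQuasiSeparatedSp W :=
    Groth.Agent.H52.repWith_diag_of_isPullback @QuasiCompact sqW (hqs i₁)
      (Groth.Agent.H53.FieldQuot.isQuasiSeparatedSp_yon_of_isAffine _)
  let G := Groth.Agent.H52.LimPull.G D i₁ ξ
  let cG := Groth.Agent.H52.LimPull.GCone D c i₁ ξ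
  have hcG : IsLimit cG := Groth.Agent.H52.LimPull.GConeIsLimit D c hc i₁ ξ
  have hGalg : ∀ j, AlgSp.IsAlgSpace (G.obj j) :=
    Groth.Agent.H52.LimPull.isAlgSpace_G_obj D i₁ ξ hD hWalg
  have hGqcqs : ∀ j, AlgSp.IsQuasiCompactSp (G.obj j) ∧ AlgSp.IsQuasiSeparatedSp (G.obj j) :=
    fun j => Groth.Agent.H52.LimStage.qcqs_of_isAffineMor (hGalg j) hWalg _
      (Groth.Agent.H52.LimPull.isAffineMor_gSnd D i₁ ξ hDa j) hWqc hWqs
  have hGa : ∀ (j j' : Over i₁) (φ : j ⟶ j'), AlgSp.IsAffineMor (G.map φ) :=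
    fun j j' φ => Groth.Agent.H52.LimPull.isAffineMor_G_map D i₁ ξ hDa φ
  have sqlim : IsPullback (Groth.Agent.H52.LimPull.cFst D c i₁ ξ)
      (Groth.Agent.H52.LimPull.cSnd D c i₁ ξ ≫ w₂) g ξV := by
    have h := ((Groth.Agent.H52.LimPull.c_isPullback D c i₁ ξ).flip.paste_horiz sqW.flip).flip
    rw [hg] at h
    exact h
  obtain ⟨W', iW, fstW, sqW', hW'⟩ := hX hV₀ ξV
  let e : (yon S).obj W' ≅ cG.pt := sqW'.isoIsPullback _ _ sqlim
  obtain ⟨j, T', hT', ⟨e'⟩⟩ := Groth.Agent.H52.AffLim.exists_affine_stage G hGalg hGa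
    (fun j => (hGqcqs j).1) (fun j => (hGqcqs j).2) cG hcG W' hW' e
  refine ⟨j.left, fun i ψ => ?_⟩
  let j' : Over i₁ := Over.mk (ψ ≫ j.hom)
  let φ : j' ⟶ j := Over.homMk ψ rfl
  have hGφ : AlgSp.IsAffineMor (G.map φ ≫ e'.inv) :=
    Groth.Agent.H52.isAffineMor_comp _ _ (hGa _ _ φ) (Groth.Agent.H52.AffLim.isAffineMor_of_isIso _)
  obtain ⟨T'', hT'', ⟨e''⟩⟩ := Groth.Agent.H52.AffLim.exists_iso_yon_of_isAffineMor hT' _ hGφ
  have sqk : IsPullback (Groth.Agent.H52.LimPull.gFst D i₁ ξ j')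
      (Groth.Agent.H52.LimPull.gSnd D i₁ ξ j' ≫ w₂) (t.app i) ξV := by
    have h := ((Groth.Agent.H52.LimPull.g_isPullback D i₁ ξ j').flip.paste_horiz sqW.flip).flip
    rw [hnat] at h
    exact h
  have hsnd : AlgSp.IsAffineMor (Groth.Agent.H52.LimPull.gSnd D i₁ ξ j' ≫ w₂) := by
    obtain ⟨ε', hε'⟩ := (yon S).map_surjective
      (e''.hom ≫ Groth.Agent.H52.LimPull.gSnd D i₁ ξ j' ≫ w₂)
    have e1 : Groth.Agent.H52.LimPull.gSnd D i₁ ξ j' ≫ w₂ = e''.inv ≫ (yon S).map ε' := by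
      rw [hε', Iso.inv_hom_id_assoc]
    rw [e1]
    exact Groth.Agent.H52.isAffineMor_comp _ _ (Groth.Agent.H52.AffLim.isAffineMor_of_isIso _)
      (Groth.Agent.H52.AffLim.isAffineMor_yon_map_of_isAffine hT'' hV₀ ε')
  exact Groth.Agent.H53.ChartDescent.of_chart_of_isLocalOnBase_fpqc (Groth.Agent.S10533.result S)
    (hD i) Y.property (t.app i) ξV hξe hξs _ _ sqk hsnd

end Groth.Agent.S10060
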