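import Groth.Statements.S10017
import Groth.Agent.S10060
import Groth.Agent.H53.IntegralComp

set_option autoImplicit false
universe u
open CategoryTheory CategoryTheory.Limits AlgebraicGeometry
open AlgSp

namespace Groth.Agent.S10017

/-- Let `S` be a quasi-separated scheme and `B` the limit, in fppf sheaves over `S`, of a cofiltered
system `(B_i)` of algebraic spaces over `S` whose transition maps are affine; fix an index `i₀` such
that `B_{i₀}` is quasi-compact and quasi-separated over `S`, and a morphism `f₀ : X₀ ⟶ Y₀` of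
algebraic spaces over `B_{i₀}` whose source and target are quasi-compact and quasi-separated over
`S`. Write `f_i` (for `i` mapping to `i₀`) and `f` for the base changes of `f₀` to `B_i` and to `B`,
given by pullback squares. If `f` is affine (no finiteness condition on `f₀`), then for some `i`
mapping to `i₀` every such base change `f_i` is affine. (The published statement allows any base
scheme and uses absolute quasi-separatedness; this row assumes the base quasi-separated, over which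
quasi-separatedness relative to the base is the absolute notion.) -/
theorem result (S : Scheme.{u}) [QuasiSeparatedSpace S] {I : Type u} [SmallCategory I] [IsCofiltered I]
    (D : I ⥤ AlgSp.Sp S) (hD : ∀ i, AlgSp.IsAlgSpace (D.obj i))
    (hDa : ∀ (i j : I) (φ : i ⟶ j), AlgSp.IsAffineMor (D.map φ))
    (c : Cone D) (hc : IsLimit c) (i₀ : I)
    (hBqc : AlgSp.IsQuasiCompactSp (D.obj i₀)) (hBqs : AlgSp.IsQuasiSeparatedSp (D.obj i₀))
    (X₀ Y₀ : AlgSp.Space S) (f₀ : X₀.obj ⟶ Y₀.obj) (b₀ : Y₀.obj ⟶ D.obj i₀)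
    (hXqc : AlgSp.IsQuasiCompactSp X₀.obj) (hXqs : AlgSp.IsQuasiSeparatedSp X₀.obj)
    (hYqc : AlgSp.IsQuasiCompactSp Y₀.obj) (hYqs : AlgSp.IsQuasiSeparatedSp Y₀.obj)
    (X Y : AlgSp.Sp S) (f : X ⟶ Y) (pY : Y ⟶ Y₀.obj) (qY : Y ⟶ c.pt)
    (hY : IsPullback pY qY b₀ (c.π.app i₀)) (pX : X ⟶ X₀.obj) (hX : IsPullback pX f f₀ pY)
    (hf : AlgSp.IsAffineMor f) :
    ∃ (i : I) (φ : i ⟶ i₀), ∀ (Xi Yi : AlgSp.Sp S) (fi : Xi ⟶ Yi) (pYi : Yi ⟶ Y₀.obj) (qYi : Yi ⟶ D.obj i)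
      (_ : IsPullback pYi qYi b₀ (D.map φ)) (pXi : Xi ⟶ X₀.obj) (_ : IsPullback pXi fi f₀ pYi),
      AlgSp.IsAffineMor fi := by
  classical
  have hπaff : AlgSp.IsAffineMor (c.π.app i₀) :=
    Groth.Agent.H52.LimChart.isAffineMor_π_app D c hc i₀ hDa
  let ξX : X₀.obj ⟶ D.obj i₀ := f₀ ≫ b₀
  let G := Groth.Agent.H52.LimPull.G D i₀ ξX
  let cG := Groth.Agent.H52.LimPull.GCone D c i₀ ξX
  have hcG : IsLimit cG := Groth.Agent.H52.LimPull.GConeIsLimit D c hc i₀ ξX
  have hGalg : ∀ j, AlgSp.IsAlgSpace (G.obj j) :=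
    Groth.Agent.H52.LimPull.isAlgSpace_G_obj D i₀ ξX hD X₀.property
  have hGqcqs : ∀ j, AlgSp.IsQuasiCompactSp (G.obj j) ∧ AlgSp.IsQuasiSeparatedSp (G.obj j) :=
    fun j => Groth.Agent.H52.LimStage.qcqs_of_isAffineMor (hGalg j) X₀.property _
      (Groth.Agent.H52.LimPull.isAffineMor_gSnd D i₀ ξX hDa j) hXqc hXqs
  have hGa : ∀ (j j' : Over i₀) (φ : j ⟶ j'), AlgSp.IsAffineMor (G.map φ) :=
    fun j j' φ => Groth.Agent.H52.LimPull.isAffineMor_G_map D i₀ ξX hDa φ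
  let t : G ⟶ (Functor.const (Over i₀)).obj Y₀.obj :=
    { app := fun j => Groth.Agent.H52.LimPull.gSnd D i₀ ξX j ≫ f₀
      naturality := fun j j' φ => by
        change G.map φ ≫ Groth.Agent.H52.LimPull.gSnd D i₀ ξX j' ≫ f₀ =
          (Groth.Agent.H52.LimPull.gSnd D i₀ ξX j ≫ f₀) ≫ 𝟙 _
        rw [Category.comp_id, ← Category.assoc, Groth.Agent.H52.LimPull.G_map_snd] }
  let g' : cG.pt ⟶ Y₀.obj := Groth.Agent.H52.LimPull.cSnd D c i₀ ξX ≫ f₀
  have hg' : ∀ j, cG.π.app j ≫ t.app j = g' := by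
    intro j
    change cG.π.app j ≫ Groth.Agent.H52.LimPull.gSnd D i₀ ξX j ≫ f₀ = _
    rw [← Category.assoc, Groth.Agent.H52.LimPull.GCone_π_snd]
  -- the limit is `X`
  have sqbig : IsPullback pX (f ≫ qY) ξX (c.π.app i₀) := hX.paste_vert hY
  let e : X ≅ cG.pt :=
    sqbig.isoIsPullback _ _ (Groth.Agent.H52.LimPull.c_isPullback D c i₀ ξX).flip
  have he : e.hom ≫ Groth.Agent.H52.LimPull.cSnd D c i₀ ξX = pX :=
    IsPullback.isoIsPullback_hom_fst _ _ sqbig _
  have hpYaff : AlgSp.IsAffineMor pY := Groth.Agent.H52.isAffineMor_of_isPullback hY.flip hπaff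
  have hg'aff : AlgSp.IsAffineMor g' := by
    have e1 : g' = e.inv ≫ f ≫ pY := by
      rw [← hX.w, ← he, Category.assoc, Iso.inv_hom_id_assoc]
    rw [e1]
    exact Groth.Agent.H52.isAffineMor_comp _ _ (Groth.Agent.H52.AffLim.isAffineMor_of_isIso _)
      (Groth.Agent.H52.isAffineMor_comp _ _ hf hpYaff)
  obtain ⟨j₀, hj₀⟩ := Groth.Agent.S10060.result S Y₀ G hGalg t hGa cG hcG g' hg'
    (fun j => (hGqcqs j).1) (fun j => (hGqcqs j).2) hYqc hYqs hg'aff
  refine ⟨j₀.left, j₀.hom, fun Xi Yi fi pYi qYi sqYi pXi sqXi => ?_⟩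
  have hYialg : AlgSp.IsAlgSpace Yi :=
    Groth.Agent.H52.isAlgSpace_of_isPullback sqYi Y₀.property (hD i₀) (hD _)
  have sqbigi : IsPullback pXi (fi ≫ qYi) ξX (D.map j₀.hom) := sqXi.paste_vert sqYi
  let ei : Xi ≅ G.obj j₀ :=
    sqbigi.isoIsPullback _ _ (Groth.Agent.H52.LimPull.g_isPullback D i₀ ξX j₀).flip
  have hei : ei.hom ≫ Groth.Agent.H52.LimPull.gSnd D i₀ ξX j₀ = pXi :=
    IsPullback.isoIsPullback_hom_fst _ _ sqbigi _
  have hpYiaff : AlgSp.IsAffineMor pYi :=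
    Groth.Agent.H52.isAffineMor_of_isPullback sqYi.flip (hDa _ _ j₀.hom)
  have hcomp : AlgSp.IsAffineMor (fi ≫ pYi) := by
    have e1 : fi ≫ pYi = ei.hom ≫ t.app j₀ := by
      change _ = ei.hom ≫ Groth.Agent.H52.LimPull.gSnd D i₀ ξX j₀ ≫ f₀
      rw [← Category.assoc, hei, sqXi.w]
    rw [e1]
    exact Groth.Agent.H52.isAffineMor_comp _ _ (Groth.Agent.H52.AffLim.isAffineMor_of_isIso _)
      (hj₀ j₀ (𝟙 _))
  exact Groth.Agent.H52.isAffineMor_of_comp fi pYi hcomp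
    (Groth.Agent.H52.isAffineMor_of_repWith_isClosedImmersion _
      (Groth.Agent.H53.isSeparatedMor_of_isAffineMor hYialg pYi hpYiaff))

end Groth.Agent.S10017
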