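import Groth.Statements.S10026
import Mathlib
import Groth.Prelude.Def_AlgSpRep

set_option autoImplicit false
universe u
open CategoryTheory CategoryTheory.Limits AlgebraicGeometry
open AlgSp

namespace Groth.Agent.S10026.Aux

open CategoryTheory CategoryTheory.Limits AlgebraicGeometry Opposite

namespace RLP

variable {S : Scheme.{u}} {F G H : AlgSp.PSp S}

/-- elementwise naturality -/
lemma nat_apply {F G : AlgSp.PSp S} (a : F ⟶ G) {X Y : (Over S)ᵒᵖ} (g : X ⟶ Y) (x : F.obj X) :
    a.app Y (F.map g x) = G.map g (a.app X x) :=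
  NatTrans.naturality_apply a g x

/-- an element of the fibre of `a` over `z` gives an element of the fibre of `a ≫ b` over `b z`. -/
def toComp (a : F ⟶ G) (b : G ⟶ H) (T : Over S) (z : G.obj (op T)) (T' : (Over T.left)ᵒᵖ)
    (x : (AlgSp.fiberFun a T z).obj T') :
    (AlgSp.fiberFun (a ≫ b) T (b.app (op T) z)).obj T' :=
  ⟨x.1, by
    change b.app _ (a.app _ x.1) = _
    rw [x.2, nat_apply]⟩

/-- the image under `a` of an element of the fibre of `a ≫ b` lies in the fibre of `b`. -/
def pushFib (a : F ⟶ G) (b : G ⟶ H) (T : Over S) (y : H.obj (op T)) (T' : (Over T.left)ᵒᵖ)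
    (x : (AlgSp.fiberFun (a ≫ b) T y).obj T') : (AlgSp.fiberFun b T y).obj T' :=
  ⟨a.app _ x.1, x.2⟩

/-- the restriction of `z` lies in the fibre of `b` over `b z`. -/
def baseFib (b : G ⟶ H) (T : Over S) (z : G.obj (op T)) (T' : (Over T.left)ᵒᵖ) :
    (AlgSp.fiberFun b T (b.app (op T) z)).obj T' :=
  ⟨G.map (AlgSp.overHom T T'.unop).op z, by rw [nat_apply]⟩

lemma pushFib_map (a : F ⟶ G) (b : G ⟶ H) (T : Over S) (y : H.obj (op T))
    {T' T'' : (Over T.left)ᵒᵖ} (g : T' ⟶ T'') (x : (AlgSp.fiberFun (a ≫ b) T y).obj T') :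
    (AlgSp.fiberFun b T y).map g (pushFib a b T y T' x) =
      pushFib a b T y T'' ((AlgSp.fiberFun (a ≫ b) T y).map g x) := by
  apply Subtype.ext
  change G.map _ (a.app _ x.1) = a.app _ (F.map _ x.1)
  rw [nat_apply]

lemma baseFib_map (b : G ⟶ H) (T : Over S) (z : G.obj (op T))
    {T' T'' : (Over T.left)ᵒᵖ} (g : T' ⟶ T'') :
    (AlgSp.fiberFun b T (b.app (op T) z)).map g (baseFib b T z T') = baseFib b T z T'' := by
  apply Subtype.ext
  change G.map _ (G.map _ z) = G.map _ z
  rw [← Functor.map_comp_apply, ← op_comp, AlgSp.map_comp_overHom]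

theorem of_comp (a : F ⟶ G) (b : G ⟶ H)
    (hab : AlgSp.IsRelLimitPreserving (a ≫ b)) (hb : AlgSp.IsRelLimitPreserving b) :
    AlgSp.IsRelLimitPreserving a := by
  intro T z I _ _ D c hc hD hT
  obtain ⟨hΦ⟩ := hab T (b.app (op T) z) D c hc hD hT
  obtain ⟨hΨ⟩ := hb T (b.app (op T) z) D c hc hD hT
  set y := b.app (op T) z with hy
  refine ⟨Types.FilteredColimit.isColimitOf' _ _ ?_ ?_⟩
  · -- surjectivity
    intro x
    obtain ⟨j, xj, hxj⟩ := Types.jointly_surjective_of_isColimit hΦ (toComp a b T z _ x)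
    -- two elements of the fibre of `b`
    have hEq : ((AlgSp.fiberFun b T y).mapCocone c.op).ι.app j (pushFib a b T y _ xj) =
        ((AlgSp.fiberFun b T y).mapCocone c.op).ι.app j (baseFib b T z _) := by
      change (AlgSp.fiberFun b T y).map (c.π.app j.unop).op (pushFib a b T y _ xj) =
        (AlgSp.fiberFun b T y).map (c.π.app j.unop).op (baseFib b T z _)
      rw [pushFib_map, baseFib_map]
      apply Subtype.ext
      have h1 : ((AlgSp.fiberFun (a ≫ b) T y).map (c.π.app j.unop).op xj) = toComp a b T z _ x :=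
        hxj
      change a.app _ ((AlgSp.fiberFun (a ≫ b) T y).map (c.π.app j.unop).op xj).1 = _
      rw [h1]
      exact x.2
    obtain ⟨k, f, hk⟩ := (Types.FilteredColimit.isColimit_eq_iff' hΨ _ _).1 hEq
    refine ⟨k, ⟨((AlgSp.fiberFun (a ≫ b) T y).map (D.map f.unop).op xj).1, ?_⟩, ?_⟩
    · have := congrArg Subtype.val hk
      change (AlgSp.fiberFun b T y).map (D.map f.unop).op (pushFib a b T y _ xj) =
        (AlgSp.fiberFun b T y).map (D.map f.unop).op (baseFib b T z _) at hk
      rw [pushFib_map, baseFib_map] at hk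
      exact congrArg Subtype.val hk
    · apply Subtype.ext
      have h1 := congrArg Subtype.val hxj
      change F.map _ xj.1 = x.1 at h1
      change x.1 = F.map _ (F.map _ xj.1)
      rw [← h1, ← Functor.map_comp_apply, ← op_comp, ← Functor.map_comp]
      have hw : c.π.app j.unop = c.π.app k.unop ≫ D.map f.unop := (c.w f.unop).symm
      change F.map ((Over.map T.hom).map (c.π.app j.unop)).op xj.1 =
        F.map ((Over.map T.hom).map (c.π.app k.unop ≫ D.map f.unop)).op xj.1
      rw [hw]
  · -- injectivity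
    intro j x x' h
    have h' : ((AlgSp.fiberFun (a ≫ b) T y).mapCocone c.op).ι.app j (toComp a b T z _ x) =
        ((AlgSp.fiberFun (a ≫ b) T y).mapCocone c.op).ι.app j (toComp a b T z _ x') := by
      apply Subtype.ext
      have h2 := congrArg Subtype.val h
      exact h2
    obtain ⟨k, f, hk⟩ := (Types.FilteredColimit.isColimit_eq_iff' hΦ _ _).1 h'
    refine ⟨k, f, ?_⟩
    apply Subtype.ext
    have h2 := congrArg Subtype.val hk
    exact h2

end RLP

end Groth.Agent.S10026.Aux

namespace Groth.Agent.S10026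

/-- Let `a : F ⟶ G`, `b : G ⟶ H` be transformations of presheaves of sets on schemes over `S`. If `a ≫
b` and `b` are relatively limit preserving, then so is `a`. -/
theorem result (S : Scheme.{u}) {F G H : AlgSp.PSp S} (a : F ⟶ G) (b : G ⟶ H)
    (hab : AlgSp.IsRelLimitPreserving (a ≫ b)) (hb : AlgSp.IsRelLimitPreserving b) :
    AlgSp.IsRelLimitPreserving a := by
  exact Aux.RLP.of_comp a b hab hb

end Groth.Agent.S10026
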