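import Groth.Statements.S10027
import Mathlib
import Groth.Prelude.Def_AlgSpRep

set_option autoImplicit false
universe u
open CategoryTheory CategoryTheory.Limits AlgebraicGeometry
open AlgSp

namespace Groth.Agent.S10027.Aux

open CategoryTheory CategoryTheory.Limits AlgebraicGeometry Opposite

namespace RLP

variable {S : Scheme.{u}}

/-- elementwise naturality -/
lemma nat_apply {F G : AlgSp.PSp S} (a : F ⟶ G) {X Y : (Over S)ᵒᵖ} (g : X ⟶ Y) (x : F.obj X) :
    a.app Y (F.map g x) = G.map g (a.app X x) :=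
  NatTrans.naturality_apply a g x

variable {E F G H P : AlgSp.PSp S}

/-- push an element of the fibre of `a ≫ c` to the fibre of `c`. -/
def pushFib (a : F ⟶ G) (c : G ⟶ E) (T : Over S) (y : E.obj (op T)) (T' : (Over T.left)ᵒᵖ)
    (x : (AlgSp.fiberFun (a ≫ c) T y).obj T') : (AlgSp.fiberFun c T y).obj T' :=
  ⟨a.app _ x.1, x.2⟩

lemma pushFib_map (a : F ⟶ G) (c : G ⟶ E) (T : Over S) (y : E.obj (op T))
    {T' T'' : (Over T.left)ᵒᵖ} (g : T' ⟶ T'') (x : (AlgSp.fiberFun (a ≫ c) T y).obj T') :
    (AlgSp.fiberFun c T y).map g (pushFib a c T y T' x) =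
      pushFib a c T y T'' ((AlgSp.fiberFun (a ≫ c) T y).map g x) := by
  apply Subtype.ext
  change G.map _ (a.app _ x.1) = a.app _ (F.map _ x.1)
  rw [nat_apply]

section
variable (a : F ⟶ G) (b : H ⟶ G) (c : G ⟶ E) (fst : P ⟶ F) (snd : P ⟶ H)
  (hP : IsPullback fst snd a b)

include hP

lemma isPullback_app (X : (Over S)ᵒᵖ) :
    IsPullback (fst.app X) (snd.app X) (a.app X) (b.app X) :=
  hP.map ((evaluation (Over S)ᵒᵖ (Type (u + 1))).obj X)

lemma w_apply (X : (Over S)ᵒᵖ) (p : P.obj X) :
    a.app X (fst.app X p) = b.app X (snd.app X p) :=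
  congrArg (fun (t : P ⟶ G) => t.app X p) hP.w

omit hP in
/-- first projection on fibres -/
def toF (T : Over S) (y : E.obj (op T)) (T' : (Over T.left)ᵒᵖ)
    (p : (AlgSp.fiberFun (fst ≫ a ≫ c) T y).obj T') : (AlgSp.fiberFun (a ≫ c) T y).obj T' :=
  ⟨fst.app _ p.1, p.2⟩

/-- second projection on fibres -/
def toH (T : Over S) (y : E.obj (op T)) (T' : (Over T.left)ᵒᵖ)
    (p : (AlgSp.fiberFun (fst ≫ a ≫ c) T y).obj T') : (AlgSp.fiberFun (b ≫ c) T y).obj T' :=
  ⟨snd.app _ p.1, by
    have h1 : c.app _ (a.app _ (fst.app _ p.1)) = _ := p.2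
    rw [w_apply a b fst snd hP] at h1
    exact h1⟩

omit hP in
lemma toF_map (T : Over S) (y : E.obj (op T)) {T' T'' : (Over T.left)ᵒᵖ} (g : T' ⟶ T'')
    (p : (AlgSp.fiberFun (fst ≫ a ≫ c) T y).obj T') :
    (AlgSp.fiberFun (a ≫ c) T y).map g (toF a c fst T y T' p) =
      toF a c fst T y T'' ((AlgSp.fiberFun (fst ≫ a ≫ c) T y).map g p) := by
  apply Subtype.ext
  change F.map _ (fst.app _ p.1) = fst.app _ (P.map _ p.1)
  rw [nat_apply]

lemma toH_map (T : Over S) (y : E.obj (op T)) {T' T'' : (Over T.left)ᵒᵖ} (g : T' ⟶ T'')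
    (p : (AlgSp.fiberFun (fst ≫ a ≫ c) T y).obj T') :
    (AlgSp.fiberFun (b ≫ c) T y).map g (toH a b c fst snd hP T y T' p) =
      toH a b c fst snd hP T y T'' ((AlgSp.fiberFun (fst ≫ a ≫ c) T y).map g p) := by
  apply Subtype.ext
  change H.map _ (snd.app _ p.1) = snd.app _ (P.map _ p.1)
  rw [nat_apply]

theorem pullback_to_base
    (hc : AlgSp.IsRelLimitPreserving c) (hac : AlgSp.IsRelLimitPreserving (a ≫ c))
    (hbc : AlgSp.IsRelLimitPreserving (b ≫ c)) :
    AlgSp.IsRelLimitPreserving (fst ≫ a ≫ c) := by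
  intro T y I _ _ D cc hcc hD hT
  obtain ⟨hF⟩ := hac T y D cc hcc hD hT
  obtain ⟨hH⟩ := hbc T y D cc hcc hD hT
  obtain ⟨hG⟩ := hc T y D cc hcc hD hT
  refine ⟨Types.FilteredColimit.isColimitOf' _ _ ?_ ?_⟩
  · -- surjectivity
    intro p
    obtain ⟨j1, x1, hx1⟩ := Types.jointly_surjective_of_isColimit hF (toF a c fst T y _ p)
    obtain ⟨j2, w2, hw2⟩ := Types.jointly_surjective_of_isColimit hH
      (toH a b c fst snd hP T y _ p)
    -- common index
    let j := IsFiltered.max j1 j2
    let x := (D.op ⋙ AlgSp.fiberFun (a ≫ c) T y).map (IsFiltered.leftToMax j1 j2) x1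
    let w := (D.op ⋙ AlgSp.fiberFun (b ≫ c) T y).map (IsFiltered.rightToMax j1 j2) w2
    have hx : ((AlgSp.fiberFun (a ≫ c) T y).mapCocone cc.op).ι.app j x = toF a c fst T y _ p := by
      rw [← hx1]
      exact ConcreteCategory.congr_hom (((AlgSp.fiberFun (a ≫ c) T y).mapCocone cc.op).w
        (IsFiltered.leftToMax j1 j2)) x1
    have hw : ((AlgSp.fiberFun (b ≫ c) T y).mapCocone cc.op).ι.app j w =
        toH a b c fst snd hP T y _ p := by
      rw [← hw2]
      exact ConcreteCategory.congr_hom (((AlgSp.fiberFun (b ≫ c) T y).mapCocone cc.op).w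
        (IsFiltered.rightToMax j1 j2)) w2
    -- the two images in the fibre of `c` agree in the limit
    have hEq : ((AlgSp.fiberFun c T y).mapCocone cc.op).ι.app j (pushFib a c T y _ x) =
        ((AlgSp.fiberFun c T y).mapCocone cc.op).ι.app j (pushFib b c T y _ w) := by
      change (AlgSp.fiberFun c T y).map (cc.π.app j.unop).op (pushFib a c T y _ x) =
        (AlgSp.fiberFun c T y).map (cc.π.app j.unop).op (pushFib b c T y _ w)
      rw [pushFib_map, pushFib_map]
      have hx' : (AlgSp.fiberFun (a ≫ c) T y).map (cc.π.app j.unop).op x =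
        toF a c fst T y _ p := hx
      have hw' : (AlgSp.fiberFun (b ≫ c) T y).map (cc.π.app j.unop).op w =
        toH a b c fst snd hP T y _ p := hw
      rw [hx', hw']
      apply Subtype.ext
      exact w_apply a b fst snd hP _ p.1
    obtain ⟨k, f, hk⟩ := (Types.FilteredColimit.isColimit_eq_iff' hG _ _).1 hEq
    change (AlgSp.fiberFun c T y).map (D.map f.unop).op (pushFib a c T y _ x) =
      (AlgSp.fiberFun c T y).map (D.map f.unop).op (pushFib b c T y _ w) at hk
    rw [pushFib_map, pushFib_map] at hk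
    have hk' := congrArg Subtype.val hk
    change a.app _ ((AlgSp.fiberFun (a ≫ c) T y).map (D.map f.unop).op x).1 =
      b.app _ ((AlgSp.fiberFun (b ≫ c) T y).map (D.map f.unop).op w).1 at hk'
    obtain ⟨pk, hpk1, hpk2⟩ := Types.exists_of_isPullback (isPullback_app a b fst snd hP _) _ _ hk'
    have hpk : (fst ≫ a ≫ c).app _ pk = E.map (AlgSp.overHom T (D.op.obj k).unop).op y := by
      change c.app _ (a.app _ (fst.app _ pk)) = _
      rw [hpk1]
      exact ((AlgSp.fiberFun (a ≫ c) T y).map (D.map f.unop).op x).2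
    refine ⟨k, ⟨pk, hpk⟩, ?_⟩
    apply Subtype.ext
    apply Types.ext_of_isPullback (isPullback_app a b fst snd hP _)
    · -- first components
      change fst.app _ p.1 = fst.app _ (P.map _ pk)
      rw [nat_apply, hpk1]
      have h1 := congrArg Subtype.val hx
      change F.map _ x.1 = fst.app _ p.1 at h1
      rw [← h1]
      change _ = F.map _ (F.map _ x.1)
      rw [← Functor.map_comp_apply, ← op_comp, ← Functor.map_comp]
      have hcw : cc.π.app j.unop = cc.π.app k.unop ≫ D.map f.unop := (cc.w f.unop).symm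
      change F.map ((Over.map T.hom).map (cc.π.app j.unop)).op x.1 =
        F.map ((Over.map T.hom).map (cc.π.app k.unop ≫ D.map f.unop)).op x.1
      rw [hcw]
    · change snd.app _ p.1 = snd.app _ (P.map _ pk)
      rw [nat_apply, hpk2]
      have h1 := congrArg Subtype.val hw
      change H.map _ w.1 = snd.app _ p.1 at h1
      rw [← h1]
      change _ = H.map _ (H.map _ w.1)
      rw [← Functor.map_comp_apply, ← op_comp, ← Functor.map_comp]
      have hcw : cc.π.app j.unop = cc.π.app k.unop ≫ D.map f.unop := (cc.w f.unop).symm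
      change H.map ((Over.map T.hom).map (cc.π.app j.unop)).op w.1 =
        H.map ((Over.map T.hom).map (cc.π.app k.unop ≫ D.map f.unop)).op w.1
      rw [hcw]
  · -- injectivity
    intro j p p' h
    have h1 : ((AlgSp.fiberFun (a ≫ c) T y).mapCocone cc.op).ι.app j (toF a c fst T y _ p) =
        ((AlgSp.fiberFun (a ≫ c) T y).mapCocone cc.op).ι.app j (toF a c fst T y _ p') := by
      change (AlgSp.fiberFun (a ≫ c) T y).map (cc.π.app j.unop).op (toF a c fst T y _ p) =
        (AlgSp.fiberFun (a ≫ c) T y).map (cc.π.app j.unop).op (toF a c fst T y _ p')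
      rw [toF_map, toF_map]
      congr 1
    have h2 : ((AlgSp.fiberFun (b ≫ c) T y).mapCocone cc.op).ι.app j
          (toH a b c fst snd hP T y _ p) =
        ((AlgSp.fiberFun (b ≫ c) T y).mapCocone cc.op).ι.app j
          (toH a b c fst snd hP T y _ p') := by
      change (AlgSp.fiberFun (b ≫ c) T y).map (cc.π.app j.unop).op
          (toH a b c fst snd hP T y _ p) =
        (AlgSp.fiberFun (b ≫ c) T y).map (cc.π.app j.unop).op (toH a b c fst snd hP T y _ p')
      rw [toH_map, toH_map]
      congr 1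
    obtain ⟨k1, f1, hk1⟩ := (Types.FilteredColimit.isColimit_eq_iff' hF _ _).1 h1
    obtain ⟨k2, f2, hk2⟩ := (Types.FilteredColimit.isColimit_eq_iff' hH _ _).1 h2
    obtain ⟨k, g, g', hgg⟩ := IsFiltered.span f1 f2
    refine ⟨k, f1 ≫ g, ?_⟩
    apply Subtype.ext
    apply Types.ext_of_isPullback (isPullback_app a b fst snd hP _)
    · have e1 := congrArg (fun t => ((D.op ⋙ AlgSp.fiberFun (a ≫ c) T y).map g t).1) hk1
      simp only [← Functor.map_comp_apply] at e1
      change F.map _ (fst.app _ p.1) = F.map _ (fst.app _ p'.1) at e1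
      change fst.app _ (P.map _ p.1) = fst.app _ (P.map _ p'.1)
      rw [nat_apply, nat_apply]
      exact e1
    · have e1 := congrArg (fun t => ((D.op ⋙ AlgSp.fiberFun (b ≫ c) T y).map g' t).1) hk2
      simp only [← Functor.map_comp_apply] at e1
      rw [← hgg] at e1
      change H.map _ (snd.app _ p.1) = H.map _ (snd.app _ p'.1) at e1
      change snd.app _ (P.map _ p.1) = snd.app _ (P.map _ p'.1)
      rw [nat_apply, nat_apply]
      exact e1

end

end RLP

end Groth.Agent.S10027.Aux

namespace Groth.Agent.S10027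

/-- Let `a : F ⟶ G`, `b : H ⟶ G`, `c : G ⟶ E` be transformations of presheaves of sets on schemes over
`S` and `P` a fibre product `F ×_G H`. If `c`, `a ≫ c` and `b ≫ c` are relatively limit preserving,
then so is `P ⟶ E`. -/
theorem result (S : Scheme.{u}) {E F G H P : AlgSp.PSp S}
    (a : F ⟶ G) (b : H ⟶ G) (c : G ⟶ E) (fst : P ⟶ F) (snd : P ⟶ H) (hP : IsPullback fst snd a b)
    (hc : AlgSp.IsRelLimitPreserving c) (hac : AlgSp.IsRelLimitPreserving (a ≫ c))
    (hbc : AlgSp.IsRelLimitPreserving (b ≫ c)) :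
    AlgSp.IsRelLimitPreserving (fst ≫ a ≫ c) := by
  exact Aux.RLP.pullback_to_base a b c fst snd hP hc hac hbc

end Groth.Agent.S10027
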