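import Groth.Statements.S10045
import Groth.Agent.Lib.Helper54.ThickLocal

set_option autoImplicit false
universe u
open CategoryTheory CategoryTheory.Limits AlgebraicGeometry
open AlgSp

namespace Groth.Agent.S10045

/-- Let `X` be an algebraic space over `S` and `X_red ⟶ X` its reduction (the reduced closed subspace
with the same points). If `X_red` is a scheme, then `X` is a scheme. -/
theorem result (S : Scheme.{u}) (X Z : AlgSp.Space S) (i : Z ⟶ X)
    (hi : AlgSp.IsRedInduced Set.univ i.hom) (hZ : Z.obj.obj.IsRepresentable) : X.obj.obj.IsRepresentable := by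
  obtain ⟨hci, hr, -⟩ := hi
  have hs : RepWith @Surjective i.hom :=
    Groth.Agent.H52.repWith_surjective_of_surjective_points i.hom hci.rep (Set.range_eq_univ.mp hr)
  have hth : IsThickMor i.hom :=
    ⟨hci.rep, fun U V g fst snd sq => ⟨hci.property g fst snd sq, hs.property g fst snd sq⟩⟩
  obtain ⟨⟨T, ⟨r⟩⟩⟩ := hZ
  have hri : (RepWith (S := S) thick).RespectsIso :=
    MorphismProperty.IsStableUnderBaseChange.respectsIso
  have hc : IsThickMor ((isoOfRepresentableBy r).hom ≫ i.hom) :=
    MorphismProperty.RespectsIso.precomp (RepWith (S := S) thick) _ _ hth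
  obtain ⟨T', ⟨e'⟩⟩ := Groth.Agent.Lib.Helper54.exists_iso_yon_of_isThickMor X.property _ hc
  exact (representableByOfIso e').isRepresentable

end Groth.Agent.S10045
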