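import Groth.Statements.S10054
import Groth.Agent.H52.DVRClosed
import Groth.Agent.H52.ZarAff

set_option autoImplicit false
universe u
open CategoryTheory CategoryTheory.Limits AlgebraicGeometry
open AlgSp

namespace Groth.Agent.S10054

/-- Let `f : X ⟶ Y` be a morphism of finite type of algebraic spaces over `S` with `Y` locally
Noetherian, and `y ∈ |Y|` a point lying in the closure of `f`'s image on points. Then one can find a
discrete valuation ring `A` with fraction field `K` and a commutative square `Spec K ⟶ X`, `Spec A ⟶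
Y` (over `f` and `Spec K ⟶ Spec A`) sending the closed point of `Spec A` to `y`. (The refinement
that the `K`-point may be taken at a codimension-0 point with `K` a residue field of an etale chart
is not included.) -/
theorem result (S : Scheme.{u}) {X Y : AlgSp.Space S} (f : X ⟶ Y)
    (hft : AlgSp.IsFiniteTypeMor f.hom) (hY : AlgSp.IsLocNoethSp Y.obj) (y : AlgSp.Points Y.obj)
    (hy : y ∈ closure (Set.range (AlgSp.Points.map f.hom))) :
    ∃ (A : Type u) (_ : CommRing A) (_ : IsDomain A) (_ : IsDiscreteValuationRing A)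
      (a : Spec (CommRingCat.of A) ⟶ S)
      (α : (AlgSp.yon S).obj (Over.mk a) ⟶ Y.obj)
      (κ : (AlgSp.yon S).obj (Over.mk (Spec.map (CommRingCat.ofHom (algebraMap A (FractionRing A))) ≫ a)) ⟶ X.obj),
      κ ≫ f.hom = (AlgSp.yon S).map (Over.homMk (Spec.map (CommRingCat.ofHom (algebraMap A (FractionRing A))))) ≫ α ∧
      AlgSp.Points.map α (AlgSp.Points.schemeEquiv (Over.mk a) (IsLocalRing.closedPoint A)) = y := by
  obtain ⟨V, b, hbe, hbs, hV⟩ := hY
  have hVN : IsLocallyNoetherian V.left := hV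
  obtain ⟨v₀, rfl⟩ := Groth.Agent.H53.surjective_ofPt_of_surjective b hbs y
  obtain ⟨V₁', hV₁'aff, hv₀, -⟩ := (TopologicalSpace.Opens.isBasis_iff_nbhd.mp
    V.left.isBasis_affineOpens) (show v₀ ∈ (⊤ : V.left.Opens) from trivial)
  have hcpt : CompactSpace ↥(Groth.Agent.H52.overOpen V V₁').left :=
    (isCompact_iff_compactSpace.mp hV₁'aff.isCompact)
  have hN₁ : IsLocallyNoetherian (Groth.Agent.H52.overOpen V V₁').left :=
    inferInstanceAs (IsLocallyNoetherian (V₁' : Scheme))
  have hEt : (RepWith (S := S) @Etale).IsMultiplicative := repWith_isMultiplicative _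
  have hb₁e : RepWith @Etale ((yon S).map (Groth.Agent.H52.overOpenι V V₁') ≫ b) :=
    (RepWith (S := S) @Etale).comp_mem _ _ (Groth.Agent.H52.repWith_etale_overOpenι V V₁') hbe
  have sq := IsPullback.of_hasPullback f.hom ((yon S).map (Groth.Agent.H52.overOpenι V V₁') ≫ b)
  have hP : IsAlgSpace (pullback f.hom ((yon S).map (Groth.Agent.H52.overOpenι V V₁') ≫ b)) :=
    Groth.Agent.H52.isAlgSpace_of_isPullback sq X.property Y.property (IsAlgSpace.yon_obj _)
  have hqcP : IsQuasiCompactSp (pullback f.hom ((yon S).map (Groth.Agent.H52.overOpenι V V₁') ≫ b)) :=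
    hft.2 (IsAlgSpace.yon_obj _) (Groth.Agent.H52.isQuasiCompactSp_yon _) _ _ _ sq
  have hlft : LocP @LocallyOfFiniteType
      (pullback.snd f.hom ((yon S).map (Groth.Agent.H52.overOpenι V V₁') ≫ b)) :=
    Groth.Agent.H52.isEtLocal_lft.locP_of_isPullback X.property Y.property (IsAlgSpace.yon_obj _)
      sq hft.1
  -- closure transfer
  have hopen : IsOpenMap (Points.map ((yon S).map (Groth.Agent.H52.overOpenι V V₁') ≫ b)) :=
    Groth.Agent.H52.isOpenMap_points_of_etale _ hb₁e
  have hpt : Points.map ((yon S).map (Groth.Agent.H52.overOpenι V V₁') ≫ b)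
      (Points.ofScheme (Groth.Agent.H52.overOpen V V₁') ⟨v₀, hv₀⟩) = Points.ofPt b v₀ := by
    rw [← Points.ofPt_eq_map_ofScheme, Groth.Agent.H52.ofPt_overOpenι_comp]
    rfl
  have hw : Points.ofScheme (Groth.Agent.H52.overOpen V V₁') ⟨v₀, hv₀⟩ ∈
      closure (Points.map (pullback.snd f.hom ((yon S).map (Groth.Agent.H52.overOpenι V V₁') ≫ b))
        '' Set.univ) := by
    have h1 := Groth.Agent.H52.preimage_image_eq_of_isPullback sq Set.univ
    rw [Set.preimage_univ] at h1
    rw [← h1, Set.image_univ, ← hopen.preimage_closure_eq_closure_preimage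
      (Points.continuous_map _), Set.mem_preimage, hpt]
    exact hy
  obtain ⟨A, iA, iD, iV, a, t, κ', hκ', ht, -⟩ :=
    Groth.Agent.H52.exists_dvr_of_mem_closure_image
      (pullback.snd f.hom ((yon S).map (Groth.Agent.H52.overOpenι V V₁') ≫ b)) hqcP hlft
      Set.univ isClosed_univ ⟨v₀, hv₀⟩ hw
  refine ⟨A, iA, iD, iV, a, (yon S).map t ≫ (yon S).map (Groth.Agent.H52.overOpenι V V₁') ≫ b,
    κ' ≫ pullback.fst f.hom ((yon S).map (Groth.Agent.H52.overOpenι V V₁') ≫ b), ?_, ?_⟩
  · rw [Category.assoc, sq.w, ← Category.assoc, hκ', Functor.map_comp, Category.assoc]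
  · change Points.map _ (Points.ofScheme (Over.mk a) (IsLocalRing.closedPoint A)) = _
    rw [← Points.ofPt_eq_map_ofScheme, Groth.Agent.H53.FibrePts.ofPt_yon_map_comp, ht,
      Groth.Agent.H52.ofPt_overOpenι_comp]
    rfl

end Groth.Agent.S10054
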