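import Groth.Statements.S10055
import Groth.Agent.H52.Basic
import Groth.Agent.Lib.Helper51.SpPullbackPts
import Mathlib

set_option autoImplicit false
universe u
open CategoryTheory CategoryTheory.Limits AlgebraicGeometry
open AlgSp

namespace Groth.Agent.S10055

/-- Let `(X_i) ⟶ (Y_i)` be a morphism of cofiltered systems of algebraic spaces over `S`, both with
affine transition morphisms, with every `X_i ⟶ Y_i` a closed immersion. Then the induced morphism of
limits (in fppf sheaves) `lim X_i ⟶ lim Y_i` is a closed immersion. -/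
theorem result (S : Scheme.{u}) {I : Type u} [SmallCategory I] [IsCofiltered I]
    (DX DY : I ⥤ AlgSp.Sp S) (hDX : ∀ i, AlgSp.IsAlgSpace (DX.obj i)) (hDY : ∀ i, AlgSp.IsAlgSpace (DY.obj i))
    (hXa : ∀ (i j : I) (φ : i ⟶ j), AlgSp.IsAffineMor (DX.map φ)) (hYa : ∀ (i j : I) (φ : i ⟶ j), AlgSp.IsAffineMor (DY.map φ))
    (τ : DX ⟶ DY) (hτ : ∀ i, AlgSp.RepWith @IsClosedImmersion (τ.app i))
    (cX : Cone DX) (hcX : IsLimit cX) (cY : Cone DY) (hcY : IsLimit cY)
    (g : cX.pt ⟶ cY.pt) (hg : ∀ i, g ≫ cY.π.app i = cX.π.app i ≫ τ.app i) :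
    AlgSp.RepWith @IsClosedImmersion g := by
  have hmono : ∀ i, Mono (τ.app i) := fun i =>
    Groth.Agent.H52.mono_of_repWith (τ.app i) @IsClosedImmersion
      (fun X Y f hf => by have : IsClosedImmersion f := hf; infer_instance) (hτ i)
  apply MorphismProperty.relative.of_exists
  intro T ξ
  -- the closed subschemes `Z_i` of `T`
  have hrep : ∀ i, Representable (τ.app i) := fun i => (hτ i).rep
  let Z : I → Over S := fun i => (hrep i).pullback (ξ ≫ cY.π.app i)
  let ι : ∀ i, Z i ⟶ T := fun i => (hrep i).snd (ξ ≫ cY.π.app i)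
  let fst : ∀ i, (yon S).obj (Z i) ⟶ DX.obj i := fun i => (hrep i).fst (ξ ≫ cY.π.app i)
  have sq : ∀ i, IsPullback (fst i) ((yon S).map (ι i)) (τ.app i) (ξ ≫ cY.π.app i) :=
    fun i => (hrep i).isPullback _
  have hci : ∀ i, IsClosedImmersion (ι i).left := fun i => (hτ i).property_snd _
  -- the intersection
  let 𝓘 : T.left.IdealSheafData := ⨆ i, (ι i).left.ker
  let Zinf : Over S := Over.mk (𝓘.subschemeι ≫ T.hom)
  let ιinf : Zinf ⟶ T := Over.homMk 𝓘.subschemeι rfl
  have hle : ∀ i, (ι i).left.ker ≤ (𝓘.subschemeι).ker := fun i => by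
    rw [Scheme.IdealSheafData.ker_subschemeι]
    exact le_iSup (fun i => (ι i).left.ker) i
  let lft : ∀ i, Zinf ⟶ Z i := fun i =>
    Over.homMk (IsClosedImmersion.lift (ι i).left 𝓘.subschemeι (hle i)) (by
      rw [← Over.w (ι i), ← Category.assoc, IsClosedImmersion.lift_fac]
      rfl)
  have hlft : ∀ i, lft i ≫ ι i = ιinf := fun i => by
    apply Over.OverMorphism.ext
    exact IsClosedImmersion.lift_fac _ _ _
  -- the point of `X` over `Z_∞`
  let x : ∀ i, (yon S).obj Zinf ⟶ DX.obj i := fun i => (yon S).map (lft i) ≫ fst i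
  have hxτ : ∀ i, x i ≫ τ.app i = (yon S).map ιinf ≫ ξ ≫ cY.π.app i := fun i => by
    simp only [x]
    rw [Category.assoc, (sq i).w, ← Category.assoc, ← Functor.map_comp, hlft]
  have hxnat : ∀ {i j : I} (φ : i ⟶ j), x i ≫ DX.map φ = x j := by
    intro i j φ
    rw [← cancel_mono (τ.app j), Category.assoc, τ.naturality, ← Category.assoc, hxτ, hxτ,
      Category.assoc, Category.assoc, cY.w]
  let cZ : Cone DX :=
    { pt := (yon S).obj Zinf
      π := { app := x
             naturality := fun i j φ => by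
              rw [hxnat φ]
              exact Category.id_comp _ } }
  let xinf : (yon S).obj Zinf ⟶ cX.pt := hcX.lift cZ
  have hxinf : ∀ i, xinf ≫ cX.π.app i = x i := fun i => hcX.fac cZ i
  have hw : xinf ≫ g = (yon S).map ιinf ≫ ξ := by
    apply hcY.hom_ext
    intro i
    rw [Category.assoc, hg, ← Category.assoc, hxinf, hxτ, Category.assoc]
  have hciinf : IsClosedImmersion ιinf.left := inferInstanceAs (IsClosedImmersion 𝓘.subschemeι)
  have hmonoinf : Mono ((yon S).map ιinf) := by
    have : Mono ιinf.left := inferInstance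
    have : Mono ιinf := Groth.Agent.H52.mono_over_of_mono_left _
    exact Groth.Agent.H52.mono_yon_map _
  refine ⟨Zinf, xinf, ιinf, ?_, hciinf⟩
  refine Groth.Agent.Lib.Helper51.isPullback_of_forall_yon _ _ _ _ hw ?_
  intro T' b c hbc
  obtain ⟨c, rfl⟩ := (yon S).map_surjective c
  -- lifts to the `Z_i`
  have hd : ∀ i, ∃ d : T' ⟶ Z i, d ≫ ι i = c ∧ (yon S).map d ≫ fst i = b ≫ cX.π.app i := by
    intro i
    have h1 : (b ≫ cX.π.app i) ≫ τ.app i = (yon S).map c ≫ ξ ≫ cY.π.app i := by
      rw [Category.assoc, ← hg, ← Category.assoc, hbc, Category.assoc]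
    obtain ⟨d, hd⟩ := (yon S).map_surjective ((sq i).lift _ _ h1)
    refine ⟨d, (yon S).map_injective ?_, ?_⟩
    · rw [Functor.map_comp, hd, (sq i).lift_snd]
    · rw [hd, (sq i).lift_fst]
  choose d hd1 hd2 using hd
  have hker : (𝓘.subschemeι).ker ≤ c.left.ker := by
    rw [Scheme.IdealSheafData.ker_subschemeι]
    refine iSup_le fun i => ?_
    have : c.left = (d i).left ≫ (ι i).left := by rw [← Over.comp_left, hd1]
    rw [this]
    exact Scheme.Hom.le_ker_comp _ _
  let e : T' ⟶ Zinf := Over.homMk (IsClosedImmersion.lift 𝓘.subschemeι c.left hker) (by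
    change _ ≫ 𝓘.subschemeι ≫ T.hom = T'.hom
    rw [← Category.assoc, IsClosedImmersion.lift_fac]
    exact Over.w c)
  have he : e ≫ ιinf = c := by
    apply Over.OverMorphism.ext
    exact IsClosedImmersion.lift_fac _ _ _
  refine ⟨(yon S).map e, ⟨?_, ?_⟩, ?_⟩
  · apply hcX.hom_ext
    intro i
    rw [Category.assoc, hxinf, ← hd2]
    simp only [x]
    rw [← Category.assoc, ← Functor.map_comp]
    congr 2
    have : Mono (ι i).left := inferInstance
    have : Mono (ι i) := Groth.Agent.H52.mono_over_of_mono_left _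
    rw [← cancel_mono (ι i), Category.assoc, hlft, he, hd1]
  · rw [← Functor.map_comp, he]
  · rintro a' ⟨-, ha'⟩
    rw [← cancel_mono ((yon S).map ιinf), ha', ← Functor.map_comp, he]


end Groth.Agent.S10055
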