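import Groth.Statements.S10056
import Groth.Agent.H52.LimChart
import Groth.Agent.H52.LimSch
import Groth.Agent.Lib.Helper54.GeomReducedBC2

set_option autoImplicit false
universe u
open CategoryTheory CategoryTheory.Limits AlgebraicGeometry
open AlgSp

namespace Groth.Agent.S10056

/-- Let `X` be the limit, in fppf sheaves over `S`, of a cofiltered system `(X_i)` of algebraic spaces
over `S` whose transition maps are affine. If each `X_i` is reduced, then `X` is reduced. (The
published statement does not restate that the transition morphisms are affine; the limit it refers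
to is formed under that assumption, which this row states.) -/
theorem result (S : Scheme.{u}) {I : Type u} [SmallCategory I] [IsCofiltered I]
    (D : I ⥤ AlgSp.Sp S) (hD : ∀ i, AlgSp.IsAlgSpace (D.obj i))
    (hDa : ∀ (i j : I) (φ : i ⟶ j), AlgSp.IsAffineMor (D.map φ))
    (c : Cone D) (hc : IsLimit c)
    (hred : ∀ i, AlgSp.IsReducedSp (D.obj i)) : AlgSp.IsReducedSp c.pt := by
  let i₀ : I := (IsCofiltered.nonempty (C := I)).some
  obtain ⟨U₀, a₀, hae, has⟩ := (hD i₀).atlas
  obtain ⟨cs⟩ := Groth.Agent.H52.LimChart.nonempty_chartSystem D c hc i₀ a₀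
    (fun j => hDa _ _ j.hom)
  refine ⟨cs.cE.pt, cs.b, MorphismProperty.of_isPullback cs.sqlim.flip hae,
    MorphismProperty.of_isPullback cs.sqlim.flip has, ?_⟩
  haveI : ∀ {j k : Over i₀} (φ : j ⟶ k), IsAffineHom ((cs.E ⋙ Over.forget S).map φ) :=
    fun φ => cs.affE φ
  haveI : ∀ j, AlgebraicGeometry.IsReduced ((cs.E ⋙ Over.forget S).obj j) := fun j =>
    Groth.Agent.Lib.Helper54.isReduced_chart_of_etaleLocally (hred j.left) (cs.a j)
      (MorphismProperty.of_isPullback (cs.sq j).flip hae)
  exact Groth.Agent.H52.LimSch.isReduced_of_isLimit (cs.E ⋙ Over.forget S)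
    ((Over.forget S).mapCone cs.cE) cs.hcE'


end Groth.Agent.S10056
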