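import Groth.Statements.S10058
import Groth.Agent.H52.LimChart2
import Groth.Agent.H52.FieldPoints
import Groth.Agent.H52.Points

set_option autoImplicit false
universe u
open CategoryTheory CategoryTheory.Limits AlgebraicGeometry
open AlgSp

namespace Groth.Agent.S10058

/-- Let `X` be the limit, in fppf sheaves over `S`, of a cofiltered system `(X_i)` of decent algebraic
spaces over `S` with affine transition morphisms. Then `|X| = lim |X_i|` as topological spaces: the
topology of `|X|` is the one induced by the projections `|X| → |X_i|`. -/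
theorem result (S : Scheme.{u}) {I : Type u} [SmallCategory I] [IsCofiltered I]
    (D : I ⥤ AlgSp.Sp S) (hD : ∀ i, AlgSp.IsAlgSpace (D.obj i))
    (hDa : ∀ (i j : I) (φ : i ⟶ j), AlgSp.IsAffineMor (D.map φ))
    (c : Cone D) (hc : IsLimit c)
    (hdec : ∀ i, AlgSp.IsDecent (D.obj i)) :
    AlgSp.Points.topologicalSpace c.pt =
      ⨅ i, TopologicalSpace.induced (AlgSp.Points.map (c.π.app i)) (AlgSp.Points.topologicalSpace (D.obj i)) := by
  apply le_antisymm
  · refine le_iInf fun i => ?_
    exact continuous_iff_le_induced.1 (Points.continuous_map (c.π.app i))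
  · intro W hW
    -- `W` is open in `|X|`
    let i₀ : I := (IsCofiltered.nonempty (C := I)).some
    obtain ⟨U₀, a₀, hae, has⟩ := (hD i₀).atlas
    obtain ⟨cs⟩ := Groth.Agent.H52.LimChart.nonempty_chartSystem D c hc i₀ a₀
      (fun j => hDa _ _ j.hom)
    have hbe : RepWith @Etale cs.b := MorphismProperty.of_isPullback cs.sqlim.flip hae
    have hbs : RepWith @Surjective cs.b := MorphismProperty.of_isPullback cs.sqlim.flip has
    haveI : ∀ {j k : Over i₀} (φ : j ⟶ k), IsAffineHom ((cs.E ⋙ Over.forget S).map φ) :=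
      fun φ => cs.affE φ
    have hW' : IsOpen (Points.ofPt cs.b ⁻¹' W) := hW.preimage (Points.continuous_ofPt cs.b)
    let τ : TopologicalSpace (Points c.pt) :=
      ⨅ i, TopologicalSpace.induced (AlgSp.Points.map (c.π.app i))
        (AlgSp.Points.topologicalSpace (D.obj i))
    change @IsOpen _ τ W
    refine (@isOpen_iff_forall_mem_open _ τ W).2 ?_
    intro x hx
    -- a point of the chart over `x`
    obtain ⟨pu, hpu⟩ := Groth.Agent.H52.surjective_points_of_repWith_surjective cs.b hbs x
    obtain ⟨u, rfl⟩ := (Points.schemeEquiv cs.cE.pt).surjective pu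
    have hu : Points.ofPt cs.b u = x := (Points.ofPt_eq_map_ofScheme _ _).trans hpu
    have huW : u ∈ Points.ofPt cs.b ⁻¹' W := by
      change Points.ofPt cs.b u ∈ W
      rw [hu]; exact hx
    -- a basic open neighbourhood of `u`
    obtain ⟨_, ⟨_, ⟨j, V, hV, rfl⟩, rfl⟩, huV, hVW⟩ :=
      (isBasis_preimage_isAffineOpen (cs.E ⋙ Over.forget S) ((Over.forget S).mapCone cs.cE)
        cs.hcE').exists_subset_of_mem_open huW hW'
    have haje : RepWith @Etale (cs.a j) := MorphismProperty.of_isPullback (cs.sq j).flip hae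
    let V' : Set (Points (D.obj j.left)) := Points.ofPt (cs.a j) '' (SetLike.coe V : Set ↥(cs.E.obj j).left)
    have hV'open : IsOpen V' := Groth.Agent.H52.isOpenMap_ofPt_of_etale (cs.a j) haje _ V.2
    refine ⟨Points.map (c.π.app j.left) ⁻¹' V', ?_, ?_, ?_⟩
    · rintro x' ⟨v, hv, hvx'⟩
      obtain ⟨pu', h1, h2⟩ := Groth.Agent.H52.exists_point_of_isPullback (cs.sqj j)
        (Points.ofScheme _ v) x' (by rw [← Points.ofPt_eq_map_ofScheme]; exact hvx')
      obtain ⟨u', rfl⟩ := (Points.schemeEquiv cs.cE.pt).surjective pu'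
      have hu'V : (cs.cE.π.app j).left u' = v := by
        apply (Points.schemeEquiv _).injective
        exact (Groth.Agent.H52.points_map_ofScheme _ u').symm.trans h1
      have h3 : Points.ofPt cs.b u' = x' := (Points.ofPt_eq_map_ofScheme _ _).trans h2
      have h4 : u' ∈ Points.ofPt cs.b ⁻¹' W := hVW (by
        change (cs.cE.π.app j).left u' ∈ V
        rw [hu'V]; exact hv)
      rw [← h3]; exact h4
    · exact (iInf_le (fun i => TopologicalSpace.induced (AlgSp.Points.map (c.π.app i))
        (AlgSp.Points.topologicalSpace (D.obj i))) j.left) _ (isOpen_induced hV'open)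
    · refine ⟨(cs.cE.π.app j).left u, huV, ?_⟩
      rw [← hu, Points.map_ofPt, ← cs.hb j, Groth.Agent.H52.ofPt_yon_map_comp]


end Groth.Agent.S10058
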