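import Groth.Statements.S1006
import Mathlib
import Groth.Agent.Lib.Helper30.PerfNoeth

set_option autoImplicit false
universe u
open CategoryTheory CategoryTheory.Limits AlgebraicGeometry
attribute [local instance] HasDerivedCategory.standard
open Perf

namespace Groth.Agent.S1006

open Groth.Agent.Lib.Helper30.PerfRestrict Groth.Agent.Lib.Helper30.PerfNoeth
open Groth.Agent.Lib.Helper6 Groth.Agent.Lib.Helper16

/-- the cohomology sheaf of `E` restricted to `V`, in terms of a strictly perfect model -/
noncomputable def hdIso {X : Scheme.{u}} {V : X.Opens} {E : DCoh.D X}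
    {P : CochainComplex (V : Scheme.{u}).Modules ℤ}
    (f : (rD V.ι).obj E ≅ DerivedCategory.Q.obj P) (i : ℤ) :
    (DCoh.HD E i).restrict V.ι ≅ P.homology i :=
  ((ExactDC.homologyIso (Scheme.Modules.restrictFunctor V.ι) i).app E).symm ≪≫
    (DerivedCategory.homologyFunctor _ i).mapIso f ≪≫
    (DerivedCategory.homologyFunctorFactors _ i).app P

/-- On a Noetherian scheme X every perfect object of D(O_X) has coherent cohomology sheaves and is
bounded. -/
theorem result (X : Scheme.{u}) [IsNoetherian X] (E : DCoh.D X) (hE : DCoh.IsPerfect E) :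
    DCoh.IsCohD E ∧ ∃ a b : ℤ, E.IsGE a ∧ E.IsLE b := by
  rw [isPerfect_iff] at hE
  choose V hxV P hP f using hE
  have f' := fun x => (f x).some
  constructor
  · intro i
    apply isCoh_of_forall_restrict
    intro x
    exact ⟨V x, hxV x, CohThick.isCoh_of_iso (hdIso (f' x) i).symm (isCoh_homology (P x) (hP x) i)⟩
  · -- boundedness via quasi-compactness
    obtain ⟨t, ht⟩ := isCompact_univ.elim_finite_subcover (fun x : X => ((V x : X.Opens) : Set X))
      (fun x => (V x).2) (fun x _ => Set.mem_iUnion.mpr ⟨x, hxV x⟩)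
    choose a b hab using fun x => (hP x).1
    obtain ⟨b₀, hb₀⟩ := Finset.exists_le (t.image b)
    obtain ⟨a₀', ha₀'⟩ := Finset.exists_le (t.image (fun x => - a x))
    let a₀ : ℤ := - a₀'
    have hzero : ∀ i : ℤ, (i < a₀ ∨ b₀ < i) → IsZero (DCoh.HD E i) := by
      intro i hi
      apply isZero_of_forall_restrict
      intro y
      obtain ⟨x, hx, hy⟩ : ∃ x ∈ t, y ∈ V x := by
        have := ht (Set.mem_univ y)
        simpa using this
      refine ⟨V x, hy, IsZero.of_iso ?_ (hdIso (f' x) i)⟩
      apply ShortComplex.isZero_homology_of_isZero_X₂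
      apply hab x i
      have h1 : - a x ≤ a₀' := ha₀' _ (Finset.mem_image_of_mem (fun x => - a x) hx)
      have h2 : b x ≤ b₀ := hb₀ _ (Finset.mem_image_of_mem b hx)
      have h3 : a₀ = - a₀' := rfl
      rcases hi with hi | hi
      · left; omega
      · right; omega
    refine ⟨a₀, b₀, ?_, ?_⟩
    · rw [DerivedCategory.isGE_iff]
      intro i hi
      exact hzero i (Or.inl hi)
    · rw [DerivedCategory.isLE_iff]
      intro i hi
      exact hzero i (Or.inr hi)

end Groth.Agent.S1006
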