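import Groth.Statements.S10062
import Groth.Agent.H52.LimMonoStage
import Groth.Agent.H52.LimChart2
import Groth.Agent.H52.UCAssembly
import Groth.Agent.H52.Descent
import Groth.Agent.H52.DescInst
import Groth.Agent.H52.QC
import Groth.Agent.Lib.Helper54.MonoUnram
import Groth.Agent.Lib.Helper13.LimStruct
import Mathlib.AlgebraicGeometry.AffineTransitionLimit

set_option autoImplicit false
universe u
open CategoryTheory CategoryTheory.Limits AlgebraicGeometry
open AlgSp

namespace Groth.Agent.S10062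

/-- Let `S` be a quasi-separated scheme, `Y` an algebraic space over `S` which is quasi-compact and
quasi-separated over `S`, and `X` the limit, in fppf sheaves, of a cofiltered system `(X_i)` of
algebraic spaces over `Y`, each quasi-compact and quasi-separated over `S`, whose transition maps
are closed immersions. Suppose every `X_i ⟶ Y` is locally of finite type and the limit map `X ⟶ Y`
is a closed immersion. In that case some index `i₀` has the property that, for every `i` mapping to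
`i₀`, the map `X_i ⟶ Y` is itself a closed immersion. (The published statement allows any base
scheme and uses absolute quasi-separatedness; this row assumes the base quasi-separated, over which
quasi-separatedness relative to the base is the absolute notion.) -/
theorem result (S : Scheme.{u}) [QuasiSeparatedSpace S] {I : Type u} [SmallCategory I] [IsCofiltered I]
    (Y : AlgSp.Space S) (D : I ⥤ AlgSp.Sp S) (hD : ∀ i, AlgSp.IsAlgSpace (D.obj i))
    (t : D ⟶ (Functor.const I).obj Y.obj)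
    (hDc : ∀ (i j : I) (φ : i ⟶ j), AlgSp.RepWith @IsClosedImmersion (D.map φ))
    (c : Cone D) (hc : IsLimit c) (g : c.pt ⟶ Y.obj) (hg : ∀ i, c.π.app i ≫ t.app i = g)
    (hqc : ∀ i, AlgSp.IsQuasiCompactSp (D.obj i)) (hqs : ∀ i, AlgSp.IsQuasiSeparatedSp (D.obj i))
    (hYqc : AlgSp.IsQuasiCompactSp Y.obj) (hYqs : AlgSp.IsQuasiSeparatedSp Y.obj)
    (hft : ∀ i, AlgSp.LocP @LocallyOfFiniteType (t.app i)) (hX : AlgSp.RepWith @IsClosedImmersion g) :
    ∃ i₀ : I, ∀ (i : I) (_ : i ⟶ i₀), AlgSp.RepWith @IsClosedImmersion (t.app i) := by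
  classical
  have hDa : ∀ (i j : I) (φ : i ⟶ j), AlgSp.IsAffineMor (D.map φ) := fun i j φ =>
    Groth.Agent.H52.isAffineMor_of_repWith_isClosedImmersion _ (hDc i j φ)
  have hnat : ∀ {i j : I} (φ : i ⟶ j), D.map φ ≫ t.app j = t.app i := by
    intro i j φ
    have := t.naturality φ
    simp only [Functor.const_obj_obj, Functor.const_obj_map, Category.comp_id] at this
    exact this
  have htqc : ∀ i, AlgSp.IsQuasiCompactMor (t.app i) := fun i =>
    Groth.Agent.H52.isQuasiCompactMor_of_isQuasiSeparatedSp (hD i) Y.property _ (hqc i) hYqs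
  haveI : Mono g := Groth.Agent.H52.mono_of_repWith _ @IsClosedImmersion
    (fun _ _ f hf => by have : IsClosedImmersion f := hf; infer_instance) hX
  obtain ⟨i₂, hi₂⟩ := Groth.Agent.H52.LimMonoStage.exists_mono_stage Y D hD t hDc c hc g hg hqc hqs
    hYqs hft
  haveI : Mono (t.app i₂) := hi₂ i₂ (𝟙 _)
  obtain ⟨hrep, -, -⟩ := Groth.Agent.Lib.Helper54.representable_of_mono_lft (hD i₂) Y.property
    (t.app i₂) (hft i₂)
  obtain ⟨V, a, hV, hae, has⟩ := Groth.Agent.H52.UC.exists_affine_etale_chart' hYqc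
  haveI : IsAffine V.left := hV
  have sqξ := hrep.isPullback a
  obtain ⟨ξ, hξdef⟩ : ∃ ξ : (AlgSp.yon S).obj (hrep.pullback a) ⟶ D.obj i₂, ξ = hrep.fst a := ⟨_, rfl⟩
  obtain ⟨v, hvdef⟩ : ∃ v : hrep.pullback a ⟶ V, v = hrep.snd a := ⟨_, rfl⟩
  rw [← hξdef, ← hvdef] at sqξ
  have hξe : AlgSp.RepWith @Etale ξ := MorphismProperty.of_isPullback sqξ.flip hae
  obtain ⟨cs⟩ := Groth.Agent.H52.LimChart.nonempty_chartSystem D c hc i₂ ξ
    (fun j => hDa _ _ j.hom)
  have sqE : ∀ j : Over i₂, IsPullback (cs.a j) ((AlgSp.yon S).map (cs.p j ≫ v)) (t.app j.left) a := by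
    intro j
    have h := (cs.sq j).paste_vert sqξ
    rw [hnat, ← Functor.map_comp] at h
    exact h
  have sqlimE : IsPullback cs.b ((AlgSp.yon S).map (cs.q ≫ v)) g a := by
    have h := cs.sqlim.paste_vert sqξ
    rw [hg, ← Functor.map_comp] at h
    exact h
  let Es : Over i₂ ⥤ Scheme.{u} := cs.E ⋙ Over.forget S
  let cs' : Cone Es := (Over.forget S).mapCone cs.cE
  have hcs' : IsLimit cs' := cs.hcE'
  let τ : ∀ j, Es.obj j ⟶ V.left := fun j => (cs.p j ≫ v).left
  have hτ : ∀ {j k : Over i₂} (φ : j ⟶ k), Es.map φ ≫ τ k = τ j := by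
    intro j k φ
    change (cs.E.map φ).left ≫ (cs.p k ≫ v).left = (cs.p j ≫ v).left
    rw [← Over.comp_left, ← Category.assoc, cs.hp]
  have hpcl : ∀ j, IsClosedImmersion (cs.p j).left :=
    fun j => (hDc _ _ j.hom).property ξ (cs.a j) (cs.p j) (cs.sq j)
  haveI hEcl : ∀ {j k : Over i₂} (φ : j ⟶ k), IsClosedImmersion (Es.map φ) := by
    intro j k φ
    have h1 : (cs.E.map φ).left ≫ (cs.p k).left = (cs.p j).left := by
      rw [← Over.comp_left, cs.hp]
    have := hpcl k
    have : IsClosedImmersion ((cs.E.map φ).left ≫ (cs.p k).left) := by rw [h1]; exact hpcl j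
    exact IsClosedImmersion.of_comp (cs.E.map φ).left (cs.p k).left
  haveI hEaff : ∀ {j k : Over i₂} (φ : j ⟶ k), IsAffineHom (Es.map φ) := fun φ => inferInstance
  have hae_j : ∀ j, AlgSp.RepWith @Etale (cs.a j) :=
    fun j => MorphismProperty.of_isPullback (cs.sq j).flip hξe
  haveI hτlft : ∀ j, LocallyOfFiniteType (τ j) :=
    fun j => hft j.left (cs.a j) a (cs.p j ≫ v) (hae_j j) hae (sqE j).w
  have hlimcl : IsClosedImmersion (cs.q ≫ v).left := hX.property a cs.b (cs.q ≫ v) sqlimE
  haveI : IsAffine cs'.pt := by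
    obtain ⟨qv, hqv⟩ : ∃ qv : cs'.pt ⟶ V.left, qv = (cs.q ≫ v).left := ⟨_, rfl⟩
    haveI : IsClosedImmersion qv := by rw [hqv]; exact hlimcl
    exact isAffine_of_isAffineHom qv
  haveI : ∀ j, CompactSpace ↥(Es.obj j) := fun j =>
    Groth.Agent.H52.compactSpace_of_isQuasiCompactSp_yon (cs.E.obj j)
      (htqc j.left (AlgSp.IsAlgSpace.yon_obj V) (Groth.Agent.H52.isQuasiCompactSp_yon V) a (cs.a j)
        ((AlgSp.yon S).map (cs.p j ≫ v)) (sqE j))
  haveI : ∀ j, QuasiSeparatedSpace ↥(Es.obj j) := fun j => by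
    haveI : Mono (t.app j.left) := hi₂ j.left j.hom
    have h1 : Mono ((AlgSp.yon S).map (cs.p j ≫ v)) := (sqE j).mono_snd_of_mono
    have h2 : Mono (cs.p j ≫ v) := (AlgSp.yon S).mono_of_mono_map h1
    haveI : Mono (τ j) := (inferInstance : Mono (cs.p j ≫ v).left)
    exact quasiSeparatedSpace_of_quasiSeparated (τ j)
  obtain ⟨j₁, hj₁⟩ := Scheme.exists_isAffine_of_isLimit Es cs' hcs'
  haveI : IsAffine (Es.obj j₁) := hj₁
  haveI : IsAffineHom (τ j₁) := inferInstance
  haveI : IsClosedImmersion (cs'.π.app j₁ ≫ τ j₁) := by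
    have : cs'.π.app j₁ ≫ τ j₁ = (cs.q ≫ v).left := by
      change (cs.cE.π.app j₁).left ≫ (cs.p j₁ ≫ v).left = _
      rw [← Over.comp_left, ← Category.assoc, cs.hq]
    rw [this]; exact hlimcl
  obtain ⟨j, hj⟩ := Groth.Agent.Lib.Helper13.LimStruct.exists_isClosedImmersion Es τ
    (fun φ => hτ φ) cs' hcs' j₁
  haveI : Mono (t.app j.left) := hi₂ j.left j.hom
  obtain ⟨hrepj, -, -⟩ := Groth.Agent.Lib.Helper54.representable_of_mono_lft (hD j.left) Y.property
    (t.app j.left) (hft j.left)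
  haveI := Groth.Agent.H52.descendsAlong_isClosedImmersion_fppf
  have hclj : AlgSp.RepWith @IsClosedImmersion (t.app j.left) :=
    Groth.Agent.H52.repWith_of_etale_surjective_base_change @IsClosedImmersion (sqE j) hrepj hae has
      ((AlgSp.repWith_yon_map_iff @IsClosedImmersion (cs.p j ≫ v)).mpr hj)
  refine ⟨j.left, fun i ψ => ?_⟩
  have h := (AlgSp.RepWith (S := S) @IsClosedImmersion).comp_mem _ _ (hDc _ _ ψ) hclj
  rw [hnat] at h
  exact h

end Groth.Agent.S10062
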