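import Groth.Statements.S10065
import Groth.Agent.S13897
import Groth.Agent.H52.DVRExt2
import Groth.Agent.H52.DVRDescent
import Groth.Agent.H53.QSDecentMor

set_option autoImplicit false
universe u
open CategoryTheory CategoryTheory.Limits AlgebraicGeometry
open AlgSp

namespace Groth.Agent.S10065

/-- Let `f : X ⟶ Y` be quasi-separated and of finite type with `Y` locally Noetherian. Then `f` is
proper if and only if every valuative test square for `f` whose valuation ring is a discrete
valuation ring admits exactly one dotted arrow (a lift `Spec A ⟶ X`, with no extension of `A`). (The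
published statement also lists as equivalent conditions the valuative criterion and the same
unique-lift condition over arbitrary valuation rings, and a refinement to squares hitting a
codimension-0 point; this row states only the discrete valuation ring form.) -/
theorem result (S : Scheme.{u}) {X Y : AlgSp.Space S} (f : X ⟶ Y)
    (hqs : AlgSp.IsQuasiSeparatedMor f.hom) (hft : AlgSp.IsFiniteTypeMor f.hom) (hY : AlgSp.IsLocNoethSp Y.obj) :
    AlgSp.IsProperMor f.hom ↔ ∀ sq : AlgSp.ValSq f.hom, IsDiscreteValuationRing sq.A → sq.HasLift ∧ sq.HasUniq := by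
  constructor
  · rintro ⟨hsep, -, huc⟩ sq hA
    refine ⟨?_, Groth.Agent.H53.uniqVC_of_isSeparatedMor f.hom hsep sq⟩
    have hdec : IsDecentMor f.hom := Groth.Agent.H53.FieldQuot.isDecentMor_of_isQuasiSeparatedMor f hqs
    obtain ⟨e, hA', ⟨hfin, hsep'⟩, hl⟩ := (Groth.Agent.S13897.result S f hft hY).2 hdec huc sq hA
    haveI : IsDiscreteValuationRing sq.A := hA
    obtain ⟨hflat, hfp⟩ := Groth.Agent.H52.flat_finitePresentation_of_dominates (A := sq.A)
      (K := sq.K) (A' := e.A') (K' := e.K') e.φ e.ψ e.comm e.isLocalHom hfin hsep'
    have hψfp : e.ψ.FinitePresentation := by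
      rw [← RingHom.FinitePresentation.of_finiteType]
      letI := e.ψ.toAlgebra
      have : Module.Finite sq.K e.K' := hfin
      change Algebra.FiniteType sq.K e.K'
      infer_instance
    exact Groth.Agent.H52.hasLift_of_domExt_fppf f.hom hsep sq e hflat hfp hψfp hl
  · intro hv
    refine ⟨?_, hft, ?_⟩
    · exact Groth.Agent.H52.isSeparatedMor_of_uniqDVR X.property Y.property f.hom hqs hft.1 hY
        (fun sq hA => (hv sq hA).2)
    · exact Groth.Agent.H52.isUnivClosedMor_of_existDVR f hft hY
        (fun sq hA => Groth.Agent.H52.hasLiftExt_of_hasLift sq (hv sq hA).1)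

end Groth.Agent.S10065
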