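import Groth.Statements.S1007
import Groth.Agent.Lib.Helper74.ModTrunc.ModTower
import Groth.Agent.Lib.Helper1.AffineVanishing
import Groth.Agent.Lib.Helper83.TopPush

set_option autoImplicit false
universe u
open CategoryTheory CategoryTheory.Limits AlgebraicGeometry
attribute [local instance] HasDerivedCategory.standard
open Perf

namespace Groth.Agent.S1007

/-- Let X be a scheme and E an object of D(O_X) with quasi-coherent cohomology sheaves. Then the
canonical map from E to the derived limit of its truncations τ_{≥ -n}E is an isomorphism; concretely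
(granted the countable product of the truncations exists in D(O_X), which holds): the map E ⟶ ∏
τ_{≥-n}E with components the truncation morphisms, followed by 'identity minus transition', extends
to a distinguished triangle E ⟶ ∏ τ_{≥-n}E ⟶ ∏ τ_{≥-n}E ⟶ E[1]. -/
theorem result (X : Scheme.{u}) (E : DCoh.D X) (hE : DCoh.IsQCohD E)
    [HasProduct (fun n : ℕ => ((DerivedCategory.TStructure.t : CategoryTheory.Triangulated.TStructure (DCoh.D X)).truncGE (-(n : ℤ))).obj E)] :
    ∃ c : (∏ᶜ fun n : ℕ => ((DerivedCategory.TStructure.t : CategoryTheory.Triangulated.TStructure (DCoh.D X)).truncGE (-(n : ℤ))).obj E) ⟶ E⟦(1 : ℤ)⟧,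
      CategoryTheory.Pretriangulated.Triangle.mk
        (Pi.lift fun n : ℕ => ((DerivedCategory.TStructure.t : CategoryTheory.Triangulated.TStructure (DCoh.D X)).truncGEπ (-(n : ℤ))).app E)
        (Pi.lift fun n : ℕ => Pi.π (fun n : ℕ => ((DerivedCategory.TStructure.t : CategoryTheory.Triangulated.TStructure (DCoh.D X)).truncGE (-(n : ℤ))).obj E) n -
          Pi.π (fun n : ℕ => ((DerivedCategory.TStructure.t : CategoryTheory.Triangulated.TStructure (DCoh.D X)).truncGE (-(n : ℤ))).obj E) (n + 1) ≫
            ((DerivedCategory.TStructure.t : CategoryTheory.Triangulated.TStructure (DCoh.D X)).natTransTruncGEOfLE (-((n + 1 : ℕ) : ℤ)) (-(n : ℤ)) (Int.neg_le_neg (Int.ofNat_le.mpr (Nat.le_succ n)))).app E)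
        c ∈ CategoryTheory.Pretriangulated.distinguishedTriangles := by
  have inst : HasProduct (CohCx.truncTower (A := ModSite.Mod X.sheaf) E) := by assumption
  have h := @Groth.Agent.Lib.Helper74.ModTrunc.isRlimVia_truncTower_modSite _ _ _ X.sheaf
    (HasDerivedCategory.standard _) E inst (X.affineOpens : Set X.Opens)
    (Groth.Agent.Lib.Helper83.TopPush.cover_of_isBasis (Y := X.toTopCat) X.isBasis_affineOpens) ?_
  · exact h
  · intro V hV m
    refine ⟨(-m).toNat, by omega, ?_⟩
    intro T hT
    refine ⟨{W : X.Opens // W ∈ X.affineOpens ∧ ∃ h : W ≤ V, T.arrows (homOfLE h)},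
      fun W => W.1, fun W => homOfLE W.2.2.choose, fun W => W.2.2.choose_spec, ?_, ?_⟩
    · intro x hx
      obtain ⟨U', g, hg, hxU'⟩ := hT x hx
      obtain ⟨W, hW, hxW, hle⟩ := TopologicalSpace.Opens.isBasis_iff_nbhd.1 X.isBasis_affineOpens hxU'
      have hWV : W ≤ V := le_trans hle (leOfHom g)
      have hTW : T.arrows (homOfLE hWV) := by
        have := T.downward_closed hg (homOfLE hle)
        exact this
      exact ⟨W, homOfLE hWV, ⟨W, 𝟙 _, homOfLE hWV,
        ⟨(⟨W, hW, hWV, hTW⟩ : {W : X.Opens // W ∈ X.affineOpens ∧ ∃ h : W ≤ V, T.arrows (homOfLE h)})⟩,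
        Category.id_comp _⟩, hxW⟩
    · intro W n hn k hk
      obtain ⟨q, rfl⟩ : ∃ q, k = q + 1 := ⟨k - 1, by omega⟩
      haveI : (DCoh.HD E (m - ((q + 1 : ℕ) : ℤ))).IsQuasicoherent := hE _
      exact Groth.Agent.Lib.Helper1.subsingleton_HU_of_isAffineOpen
        (DCoh.HD E (m - ((q + 1 : ℕ) : ℤ))) W.1 W.2.1 q

end Groth.Agent.S1007
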