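import Groth.Statements.S10070
import Groth.Agent.H52.DVRRefined
import Groth.Agent.H52.DVRSep

set_option autoImplicit false
universe u
open CategoryTheory CategoryTheory.Limits AlgebraicGeometry
open AlgSp

namespace Groth.Agent.S10070

/-- Let `h : U ⟶ X`, `f : X ⟶ Y` be morphisms of algebraic spaces over `S` with `Y` locally Noetherian,
`f` locally of finite type and quasi-separated, `h` of finite type and `|h|` with dense image. If
every valuative test square for `h ≫ f` over a discrete valuation ring admits at most one dotted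
arrow `Spec A ⟶ X` (compatible with `Spec K ⟶ U ⟶ X` and with `Spec A ⟶ Y`), then `f` is separated. -/
theorem result (S : Scheme.{u}) {U X Y : AlgSp.Space S} (h : U ⟶ X) (f : X ⟶ Y) (hY : AlgSp.IsLocNoethSp Y.obj)
    (hflt : AlgSp.LocP @LocallyOfFiniteType f.hom) (hfqs : AlgSp.IsQuasiSeparatedMor f.hom) (hh : AlgSp.IsFiniteTypeMor h.hom) (hdense : Dense (Set.range (AlgSp.Points.map h.hom)))
    (hval : ∀ sq : AlgSp.ValSq (h.hom ≫ f.hom), IsDiscreteValuationRing sq.A →
      ∀ l l' : (AlgSp.yon S).obj sq.ptA ⟶ X.obj, (AlgSp.yon S).map sq.j ≫ l = sq.top ≫ h.hom ∧ l ≫ f.hom = sq.bot → (AlgSp.yon S).map sq.j ≫ l' = sq.top ≫ h.hom ∧ l' ≫ f.hom = sq.bot → l = l') :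
    AlgSp.IsSeparatedMor f.hom := by
  have hX := X.property
  have hY' := Y.property
  obtain ⟨hrep, hlftΔ, hmono, -, -⟩ := Groth.Agent.H52.diagonal_properties hX f.hom
  have sqP : IsPullback (pullback.fst f.hom f.hom) (pullback.snd f.hom f.hom) f.hom f.hom :=
    IsPullback.of_hasPullback f.hom f.hom
  have hP : IsAlgSpace (pullback f.hom f.hom) :=
    Groth.Agent.H52.isAlgSpace_of_isPullback sqP hX hY' hX
  have hXN : IsLocNoethSp X.obj := Groth.Agent.H52.isLocNoethSp_of_locP_lft hX f.hom hY hflt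
  have hfst : LocP @LocallyOfFiniteType (pullback.fst f.hom f.hom) :=
    Groth.Agent.H52.isEtLocal_lft.locP_of_isPullback hX hY' hX sqP.flip hflt
  have hPN : IsLocNoethSp (pullback f.hom f.hom) :=
    Groth.Agent.H52.isLocNoethSp_of_locP_lft hP (pullback.fst f.hom f.hom) hXN hfst
  obtain ⟨T₀, d, hde, hds, hT₀⟩ := hPN
  have sqΔ := hrep.isPullback d
  have hwXe : RepWith @Etale (hrep.fst d) := MorphismProperty.of_isPullback sqΔ.flip hde
  have key : RepWith @IsClosedImmersion ((yon S).map (hrep.snd d)) := by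
    rw [repWith_yon_map_iff]
    have hT₀N : IsLocallyNoetherian T₀.left := hT₀
    have h1 : Mono (hrep.snd d).left := hmono.property d _ _ sqΔ
    have h2 : LocallyOfFiniteType (hrep.snd d).left := hlftΔ.property d _ _ sqΔ
    have h3 : QuasiCompact (hrep.snd d).left := hfqs.property d _ _ sqΔ
    rw [IsZariskiLocalAtTarget.iff_of_iSup_eq_top (P := @IsClosedImmersion)
      (fun T₁ : T₀.left.affineOpens => T₁.1) (AlgebraicGeometry.iSup_affineOpens_eq_top _)]
    intro T₁
    have hpbR := isPullback_morphismRestrict (hrep.snd d).left T₁.1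
    have hwΔ₁ : ((hrep.snd d).left ∣_ T₁.1) ≫ (Groth.Agent.H52.overOpen T₀ T₁.1).hom =
        (Groth.Agent.H52.overOpen (hrep.pullback d) ((hrep.snd d).left ⁻¹ᵁ T₁.1)).hom := by
      change ((hrep.snd d).left ∣_ T₁.1) ≫ T₁.1.ι ≫ T₀.hom =
        ((hrep.snd d).left ⁻¹ᵁ T₁.1).ι ≫ (hrep.pullback d).hom
      rw [← Category.assoc, morphismRestrict_ι, Category.assoc, Over.w (hrep.snd d)]
    have hΔ₁j : (Over.homMk ((hrep.snd d).left ∣_ T₁.1) hwΔ₁ :
        Groth.Agent.H52.overOpen (hrep.pullback d) ((hrep.snd d).left ⁻¹ᵁ T₁.1) ⟶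
          Groth.Agent.H52.overOpen T₀ T₁.1) ≫ Groth.Agent.H52.overOpenι T₀ T₁.1 =
        Groth.Agent.H52.overOpenι (hrep.pullback d) ((hrep.snd d).left ⁻¹ᵁ T₁.1) ≫ hrep.snd d := by
      apply Over.OverMorphism.ext
      exact morphismRestrict_ι _ _
    have hN₁ : IsLocallyNoetherian (Groth.Agent.H52.overOpen T₀ T₁.1).left :=
      inferInstanceAs (IsLocallyNoetherian (T₁.1 : Scheme))
    have hcW : CompactSpace
        ↥(Groth.Agent.H52.overOpen (hrep.pullback d) ((hrep.snd d).left ⁻¹ᵁ T₁.1)).left :=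
      isCompact_iff_compactSpace.mp
        (QuasiCompact.isCompact_preimage (f := (hrep.snd d).left) _ T₁.1.isOpen T₁.2.isCompact)
    have hm₁ : Mono ((hrep.snd d).left ∣_ T₁.1) :=
      MorphismProperty.of_isPullback (P := MorphismProperty.monomorphisms Scheme.{u}) hpbR.flip h1
    have hl₁ : LocallyOfFiniteType ((hrep.snd d).left ∣_ T₁.1) :=
      MorphismProperty.of_isPullback (P := @LocallyOfFiniteType) hpbR.flip h2
    have hq₁ : QuasiCompact ((hrep.snd d).left ∣_ T₁.1) :=
      MorphismProperty.of_isPullback (P := @QuasiCompact) hpbR.flip h3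
    have hEt : (RepWith (S := S) @Etale).IsMultiplicative := repWith_isMultiplicative _
    have hee : RepWith @Etale ((yon S).map (Groth.Agent.H52.overOpenι (hrep.pullback d)
        ((hrep.snd d).left ⁻¹ᵁ T₁.1)) ≫ hrep.fst d) :=
      (RepWith (S := S) @Etale).comp_mem _ _ (Groth.Agent.H52.repWith_etale_overOpenι _ _) hwXe
    change IsClosedImmersion (Over.homMk ((hrep.snd d).left ∣_ T₁.1) hwΔ₁ :
      Groth.Agent.H52.overOpen (hrep.pullback d) ((hrep.snd d).left ⁻¹ᵁ T₁.1) ⟶
        Groth.Agent.H52.overOpen T₀ T₁.1).left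
    refine @Groth.Agent.H52.isClosedImmersion_of_refined_dvr S U.obj X.obj U.property hX h.hom hh
      hdense (Groth.Agent.H52.overOpen (hrep.pullback d) ((hrep.snd d).left ⁻¹ᵁ T₁.1))
      (Groth.Agent.H52.overOpen T₀ T₁.1) (Over.homMk ((hrep.snd d).left ∣_ T₁.1) hwΔ₁)
      hN₁ hcW hm₁ hl₁ hq₁ _ hee ?_
    intro A _ _ hA K _ _ _ a yO t wK hw1 hw2
    -- the two lifts to `X`
    have hjb : (yon S).map (Over.homMk (Spec.map (CommRingCat.ofHom (algebraMap A K))) rfl :
        Over.mk (Spec.map (CommRingCat.ofHom (algebraMap A K)) ≫ a) ⟶ Over.mk a) ≫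
          (yon S).map (yO ≫ Groth.Agent.H52.overOpenι T₀ T₁.1) ≫ d =
        (t ≫ h.hom) ≫ pullback.diagonal f.hom := by
      have e1 : (Over.homMk (Spec.map (CommRingCat.ofHom (algebraMap A K))) rfl :
          Over.mk (Spec.map (CommRingCat.ofHom (algebraMap A K)) ≫ a) ⟶ Over.mk a) ≫
            yO ≫ Groth.Agent.H52.overOpenι T₀ T₁.1 =
          (wK ≫ Groth.Agent.H52.overOpenι (hrep.pullback d) ((hrep.snd d).left ⁻¹ᵁ T₁.1)) ≫
            hrep.snd d := by
        rw [← Category.assoc, ← hw2, Category.assoc, hΔ₁j, Category.assoc]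
      rw [← Category.assoc, ← Functor.map_comp, e1, Functor.map_comp, Category.assoc, ← sqΔ.w,
        ← Category.assoc, Functor.map_comp, Category.assoc ((yon S).map wK), hw1]
    have h11 : (yon S).map (Over.homMk (Spec.map (CommRingCat.ofHom (algebraMap A K))) rfl :
        Over.mk (Spec.map (CommRingCat.ofHom (algebraMap A K)) ≫ a) ⟶ Over.mk a) ≫
          ((yon S).map (yO ≫ Groth.Agent.H52.overOpenι T₀ T₁.1) ≫ d) ≫
            pullback.fst f.hom f.hom = t ≫ h.hom := by
      rw [Category.assoc, ← Category.assoc, ← Category.assoc, Category.assoc ((yon S).map _),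
        hjb, Category.assoc, pullback.diagonal_fst, Category.comp_id]
    have h21 : (yon S).map (Over.homMk (Spec.map (CommRingCat.ofHom (algebraMap A K))) rfl :
        Over.mk (Spec.map (CommRingCat.ofHom (algebraMap A K)) ≫ a) ⟶ Over.mk a) ≫
          ((yon S).map (yO ≫ Groth.Agent.H52.overOpenι T₀ T₁.1) ≫ d) ≫
            pullback.snd f.hom f.hom = t ≫ h.hom := by
      rw [Category.assoc, ← Category.assoc, ← Category.assoc, Category.assoc ((yon S).map _),
        hjb, Category.assoc, pullback.diagonal_snd, Category.comp_id]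
    let sq : ValSq (h.hom ≫ f.hom) :=
      { A := A, K := K, str := a, top := t
        bot := (((yon S).map (yO ≫ Groth.Agent.H52.overOpenι T₀ T₁.1) ≫ d) ≫
          pullback.fst f.hom f.hom) ≫ f.hom
        comm := by
          rw [← Category.assoc, ← Category.assoc, h11] }
    have heq := hval sq hA
      (((yon S).map (yO ≫ Groth.Agent.H52.overOpenι T₀ T₁.1) ≫ d) ≫ pullback.fst f.hom f.hom)
      (((yon S).map (yO ≫ Groth.Agent.H52.overOpenι T₀ T₁.1) ≫ d) ≫ pullback.snd f.hom f.hom)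
      ⟨h11, rfl⟩ ⟨h21, by
        change _ = (((yon S).map (yO ≫ Groth.Agent.H52.overOpenι T₀ T₁.1) ≫ d) ≫
          pullback.fst f.hom f.hom) ≫ f.hom
        simp only [Category.assoc]
        rw [pullback.condition]⟩
    have hbΔ : (((yon S).map (yO ≫ Groth.Agent.H52.overOpenι T₀ T₁.1) ≫ d) ≫
        pullback.fst f.hom f.hom) ≫ pullback.diagonal f.hom =
        (yon S).map (yO ≫ Groth.Agent.H52.overOpenι T₀ T₁.1) ≫ d := by
      apply pullback.hom_ext
      · rw [Category.assoc, pullback.diagonal_fst, Category.comp_id]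
      · rw [Category.assoc, pullback.diagonal_snd, Category.comp_id, heq]
    obtain ⟨m₀, hm₀⟩ := (yon S).map_surjective (sqΔ.lift _ _ hbΔ)
    have hm₀Δ : m₀ ≫ hrep.snd d = yO ≫ Groth.Agent.H52.overOpenι T₀ T₁.1 := by
      apply (yon S).map_injective
      rw [Functor.map_comp, hm₀, sqΔ.lift_snd]
    have hw' : yO.left ≫ T₁.1.ι = m₀.left ≫ (hrep.snd d).left :=
      (congrArg (fun m => m.left) hm₀Δ).symm
    refine ⟨Over.homMk (hpbR.lift yO.left m₀.left hw') ?_, ?_⟩
    · change hpbR.lift yO.left m₀.left hw' ≫ ((hrep.snd d).left ⁻¹ᵁ T₁.1).ι ≫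
        (hrep.pullback d).hom = a
      rw [← Category.assoc, hpbR.lift_snd]
      exact Over.w m₀
    · apply Over.OverMorphism.ext
      exact hpbR.lift_fst _ _ _
  exact Groth.Agent.S9932.result @IsClosedImmersion (Or.inl rfl) (X := X)
    (Y := ⟨pullback f.hom f.hom, hP⟩) (ObjectProperty.homMk (pullback.diagonal f.hom)) T₀ d hde hds
    (hrep.fst d) ((yon S).map (hrep.snd d)) sqΔ key

end Groth.Agent.S10070
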