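import Groth.Statements.S10077
import Groth.Agent.H52.LfpLim7
import Groth.Agent.S10024
import Groth.Agent.H53.QSDecentMor
import Groth.Agent.H52.AffineMor
import Groth.Agent.H52.QC

set_option autoImplicit false
universe u
open CategoryTheory CategoryTheory.Limits AlgebraicGeometry
open AlgSp

namespace Groth.Agent.S10077

/-- A morphism `f : X ⟶ Y` of algebraic spaces over `S` is locally of finite presentation if and only if
for every directed limit `T = lim T_i` of algebraic spaces over `S`, each quasi-compact and
quasi-separated over `S`, with affine transition maps, the square formed by `colim Mor(T_i, X) →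
Mor(T, X)`, `colim Mor(T_i, Y) → Mor(T, Y)` and composition with `f` is cartesian in sets. (The
published statement allows any base scheme and uses absolute quasi-separatedness; this row assumes
the base quasi-separated, over which quasi-separatedness relative to the base is the absolute
notion.) -/
theorem result (S : Scheme.{u}) [QuasiSeparatedSpace S]
    {X Y : AlgSp.Space S} (f : X ⟶ Y) :
    AlgSp.LocP @LocallyOfFinitePresentation f.hom ↔
      ∀ ⦃I : Type u⦄ [SmallCategory I] [IsCofiltered I] (D : I ⥤ AlgSp.Sp S),
        (∀ i, AlgSp.IsAlgSpace (D.obj i)) → (∀ (i j : I) (φ : i ⟶ j), AlgSp.IsAffineMor (D.map φ)) →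
        (∀ i, AlgSp.IsQuasiCompactSp (D.obj i)) → (∀ i, AlgSp.IsQuasiSeparatedSp (D.obj i)) →
        ∀ (c : Cone D) (_ : IsLimit c),
          IsPullback (colimMap (Functor.whiskerLeft D.op (yoneda.map f.hom)))
            (colimit.desc (D.op ⋙ yoneda.obj X.obj) ((yoneda.obj X.obj).mapCocone c.op))
            (colimit.desc (D.op ⋙ yoneda.obj Y.obj) ((yoneda.obj Y.obj).mapCocone c.op))
            ((yoneda.map f.hom).app (Opposite.op c.pt)) := by
  constructor
  · intro hf I _ _ D hD hDa hqc hqs c hc
    exact (Groth.Agent.H52.LfpLim.isPullback_iff_hInj_hSurj f.hom D c).2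
      (Groth.Agent.H52.LfpLim.hInj_hSurj_of_lfp X.property Y.property f.hom hf D hD hDa hqc hqs
        c hc)
  · intro h
    refine (Groth.Agent.S10024.result S f).2
      (Groth.Agent.H52.LfpLim.isRelLimitPreserving_of_hInj_hSurj f.hom ?_)
    intro K _ _ E cE hcE hE hpt
    rw [← Groth.Agent.H52.LfpLim.isPullback_iff_hInj_hSurj]
    have : IsConnected K := IsCofiltered.isConnected _
    have hcE₀ : IsLimit cE := isLimitOfReflects (Over.forget S) hcE
    refine h (E ⋙ yon S) (fun i => IsAlgSpace.yon_obj _) (fun i j φ => ?_) (fun i => ?_)
      (fun i => ?_) ((yon S).mapCone cE) (isLimitOfPreserves (yon S) hcE₀)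
    · have := hE i
      have := hE j
      have haff : IsAffineHom (E.map φ).left := inferInstance
      exact Groth.Agent.H52.isAffineMor_of_repWith_isAffineHom _
        ((repWith_yon_map_iff _ _).2 haff)
    · have := hE i
      exact Groth.Agent.H52.isQuasiCompactSp_yon (E.obj i)
    · have := hE i
      exact Groth.Agent.H53.FieldQuot.isQuasiSeparatedSp_yon_of_isAffine (E.obj i)

end Groth.Agent.S10077
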