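import Groth.Statements.S10093
-- import your own Groth.Agent.* helpers here
import Groth.Agent.Lib.Helper51.RepBySp2

set_option autoImplicit false
universe u
open CategoryTheory CategoryTheory.Limits AlgebraicGeometry
open AlgSp

namespace Groth.Agent.S10093

/-- The composition of two maps of presheaves of sets on schemes over `S` which are representable by
algebraic spaces is representable by algebraic spaces. -/
theorem result (S : Scheme.{u}) (F G H : AlgSp.PSp S) (a : F ⟶ G) (b : G ⟶ H)
    (ha : AlgSp.RepBySp a) (hb : AlgSp.RepBySp b) : AlgSp.RepBySp (a ≫ b) := by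
  intro U ξ F' fst snd sq
  obtain ⟨hs, hA⟩ := hb ξ (pullback.fst b ξ) (pullback.snd b ξ) (IsPullback.of_hasPullback b ξ)
  have hw : (fst ≫ a) ≫ b = snd ≫ ξ := by
    rw [Category.assoc]
    exact sq.w
  have hbig : IsPullback fst (pullback.lift (fst ≫ a) snd hw ≫ pullback.snd b ξ) (a ≫ b) ξ := by
    rw [pullback.lift_snd]
    exact sq
  have hl : IsPullback fst (pullback.lift (fst ≫ a) snd hw) a (pullback.fst b ξ) :=
    IsPullback.of_bot hbig (pullback.lift_fst _ _ hw).symm (IsPullback.of_hasPullback b ξ)
  exact Groth.Agent.Lib.Helper51.isAlgSpaceP_of_isPullback_of_repBySp a ha ⟨pullback b ξ, hs⟩ hA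
    (pullback.fst b ξ) F' _ fst hl.flip

end Groth.Agent.S10093
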