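import Groth.Statements.S10096
import Groth.Agent.H52.Epi
import Groth.Agent.H52.Points

set_option autoImplicit false
universe u
open CategoryTheory CategoryTheory.Limits AlgebraicGeometry
open AlgSp

namespace Groth.Agent.S10096

/-- Let `a : F ⟶ G` be a map of fppf sheaves of sets over `S` that is flat, surjective, locally of
finite presentation and representable by algebraic spaces (every base change `h_U ×_G F ⟶ h_U` to a
scheme is such a morphism of algebraic spaces). Then `a` is surjective as a map of sheaves (an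
epimorphism of fppf sheaves). -/
theorem result (S : Scheme.{u}) (F G : AlgSp.Sp S) (a : F ⟶ G)
    (ha : AlgSp.RepBySpWith (AlgSp.IsSurjectiveMor ⊓ AlgSp.LocP @Flat ⊓ AlgSp.LocP @LocallyOfFinitePresentation) a.hom) :
    Epi a := by
  rw [AlgSp.repBySpWith_hom_iff] at ha
  constructor
  intro H a' b' hab
  apply Groth.Agent.H52.sp_hom_ext
  intro U x
  -- the base change of `a` to `h_U`
  obtain ⟨hF', ⟨⟨hsurj, hflat⟩, hlfp⟩⟩ :=
    ha x (pullback.fst a x) (pullback.snd a x) (IsPullback.of_hasPullback a x)
  obtain ⟨W, c, hce, hcs⟩ := hF'.atlas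
  obtain ⟨ψ, hψ⟩ := (AlgSp.yon S).map_surjective (c ≫ pullback.snd a x)
  have comm : c ≫ pullback.snd a x = (AlgSp.yon S).map ψ ≫ 𝟙 _ := by rw [hψ, Category.comp_id]
  have hid : AlgSp.RepWith @Etale (𝟙 ((AlgSp.yon S).obj U)) := AlgSp.repWith_id @Etale U
  have h1 : Flat ψ.left := hflat c (𝟙 _) ψ hce hid comm
  have h3 : LocallyOfFinitePresentation ψ.left := hlfp c (𝟙 _) ψ hce hid comm
  have h2 : Surjective ψ.left := by
    have hs : Function.Surjective (AlgSp.Points.map ((AlgSp.yon S).map ψ)) := by
      rw [hψ]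
      intro y
      obtain ⟨z, hz⟩ := hsurj y
      obtain ⟨w, hw⟩ := Groth.Agent.H52.surjective_points_of_repWith_surjective c hcs z
      exact ⟨w, by rw [AlgSp.Points.map_comp, hw, hz]⟩
    exact (AlgSp.repWith_yon_map_iff _ _).1
      (Groth.Agent.H52.repWith_surjective_of_surjective_points _
        (AlgSp.representable_yon_map ψ) hs)
  have := Groth.Agent.H52.epi_yon_map_of_fppf ψ
  rw [← cancel_epi ((AlgSp.yon S).map ψ), hψ]
  simp only [Category.assoc]
  rw [← pullback.condition_assoc, ← pullback.condition_assoc, hab]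

end Groth.Agent.S10096
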