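import Groth.Statements.S10113
import Mathlib.CategoryTheory.Sites.RegularEpi

set_option autoImplicit false
universe u
open CategoryTheory CategoryTheory.Limits AlgebraicGeometry
open AlgSp

namespace Groth.Agent.S10113

/-- Let `s, t : R ⟶ U` be a pre-relation of algebraic spaces, `M` an algebraic space and `U ⟶ M` a
morphism which coequalizes `s, t`, is a surjection of sheaves, and for which `(t, s) : R ⟶ U ×_M U`
is a surjection of sheaves. Then the induced map `U/R ⟶ M` is an isomorphism: `M` represents the
quotient sheaf. -/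
theorem result (S : Scheme.{u}) (R U M : AlgSp.Sp S)
    (hR : AlgSp.IsAlgSpace R) (hU : AlgSp.IsAlgSpace U) (hM : AlgSp.IsAlgSpace M) (s t : R ⟶ U)
    (q : U ⟶ M) (w : s ≫ q = t ≫ q) [Epi q] [Epi (pullback.lift t s w.symm : R ⟶ pullback q q)] :
    IsIso (AlgSp.quotSpDesc q w) := by
  have : IsRegularEpi q := IsRegularEpiCategory.regularEpiOfEpi q
  have hk : IsKernelPair q (pullback.fst q q) (pullback.snd q q) := IsPullback.of_hasPullback q q
  have hcoeq := hk.toCoequalizer'
  set e : R ⟶ pullback q q := pullback.lift t s w.symm with he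
  have e1 : e ≫ pullback.fst q q = t := pullback.lift_fst _ _ _
  have e2 : e ≫ pullback.snd q q = s := pullback.lift_snd _ _ _
  -- `q` is a coequalizer of `s` and `t`
  have hq : IsColimit (Cofork.ofπ q w) := by
    refine Cofork.IsColimit.mk _ (fun c => hcoeq.desc (Cofork.ofπ c.π ?_)) ?_ ?_
    · rw [← cancel_epi e, ← Category.assoc, ← Category.assoc, e1, e2]
      exact c.condition.symm
    · intro c
      exact Cofork.IsColimit.π_desc hcoeq
    · intro c m hm
      refine Cofork.IsColimit.hom_ext hcoeq ?_
      rw [Cofork.IsColimit.π_desc hcoeq]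
      exact hm
  have : AlgSp.quotSpDesc q w =
      ((AlgSp.quotSpIsCoequalizer s t).coconePointUniqueUpToIso hq).hom := by
    apply coequalizer.hom_ext
    rw [AlgSp.quotSpDesc, coequalizer.π_desc]
    exact ((AlgSp.quotSpIsCoequalizer s t).comp_coconePointUniqueUpToIso_hom hq
      WalkingParallelPair.one).symm
  rw [this]
  infer_instance

end Groth.Agent.S10113
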