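import Groth.Statements.S10116
-- import your own Groth.Agent.* helpers here
import Groth.Agent.Lib.Helper51.GrpObjDiag
import Groth.Agent.H52.DiagSp2
import Groth.Agent.H52.QC
import Groth.Agent.H52.Basic

set_option autoImplicit false
universe u
open CategoryTheory CategoryTheory.Limits AlgebraicGeometry MonoidalCategory MonObj
open AlgSp

namespace Groth.Agent.S10116

/-- Let `G` be a group algebraic space over an algebraic space `B` with unit `e : B ⟶ G`. Then `G ⟶ B`
is separated if and only if `e` is a closed immersion, quasi-separated if and only if `e` is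
quasi-compact, and if `G ⟶ B` is locally separated then `e` is an immersion. (The published
statement makes the last part an equivalence as well; this row states only that a locally separated
`G ⟶ B` has `e` an immersion.) -/
theorem result (S : Scheme.{u}) (B : AlgSp.Sp S) (hB : AlgSp.IsAlgSpace B)
    (G : Over B) [GrpObj G] (hG : AlgSp.IsAlgSpace G.left) :
    (AlgSp.IsSeparatedMor G.hom ↔ AlgSp.RepWith @IsClosedImmersion (η[G]).left) ∧
      (AlgSp.IsQuasiSeparatedMor G.hom ↔ AlgSp.IsQuasiCompactMor (η[G]).left) ∧
      (AlgSp.IsLocallySeparatedMor G.hom → AlgSp.RepWith @IsImmersion (η[G]).left) := by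
  have sq1 : IsPullback G.hom (pullback.diagonal G.hom) (η[G]).left
      ((CartesianMonoidalCategory.fst G G)⁻¹ * CartesianMonoidalCategory.snd G G).left :=
    (Groth.Agent.Lib.Helper51.isPullback_diagonal_unit_left G).flip
  have sq2 := (Groth.Agent.Lib.Helper51.isPullback_unit_diagonal_left G).flip
  have hrepΔ : AlgSp.Representable (pullback.diagonal G.hom) :=
    (Groth.Agent.H52.diagonal_properties hG G.hom).1
  have hrepe : AlgSp.Representable (η[G]).left := MorphismProperty.of_isPullback sq2 hrepΔ
  refine ⟨⟨fun h => MorphismProperty.of_isPullback sq2 h,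
    fun h => (MorphismProperty.of_isPullback sq1 h :
      AlgSp.RepWith @IsClosedImmersion (pullback.diagonal G.hom))⟩, ⟨fun h => ?_, fun h => ?_⟩,
    fun h => MorphismProperty.of_isPullback sq2 h⟩
  · have h' : AlgSp.RepWith @QuasiCompact (η[G]).left := MorphismProperty.of_isPullback sq2 h
    exact Groth.Agent.H52.isQuasiCompactMor_of_repWith_quasiCompact _ h'
  · have h' : AlgSp.RepWith @QuasiCompact (η[G]).left :=
      Groth.Agent.H52.repWith_quasiCompact_of_isQuasiCompactMor _ hrepe h
    exact (MorphismProperty.of_isPullback sq1 h' :
      AlgSp.RepWith @QuasiCompact (pullback.diagonal G.hom))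

end Groth.Agent.S10116
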