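import Groth.Statements.S10122
-- import your own Groth.Agent.* helpers here
import Groth.Agent.Lib.Helper51.GroupoidSpStab
import Groth.Agent.H52.DiagSp2
import Groth.Agent.H52.Diag
import Groth.Agent.H52.QC
import Groth.Agent.H52.Basic
import Groth.Agent.H52.FibreProd

set_option autoImplicit false
universe u
open CategoryTheory CategoryTheory.Limits AlgebraicGeometry
open AlgSp AlgSp.GroupoidSp

namespace Groth.Agent.S10122

/-- Let `(U, R, s, t, c)` be a groupoid in algebraic spaces over `B` with stabilizer `G ⟶ U` and unit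
section `e : U ⟶ G`. Then (1) `j : R ⟶ U ×_B U` is separated iff `G ⟶ U` is separated iff `e` is a
closed immersion; (3) `j` is quasi-separated iff `G ⟶ U` is quasi-separated iff `e` is
quasi-compact; (2) if `j` or `G ⟶ U` is locally separated then `e` is an immersion. The unit section
is written as any morphism `U ⟶ G` lifting the identity `e : U ⟶ R` of the groupoid. (The published
part (2) is a three-way equivalence; this row states only that `j` locally separated, or `G ⟶ U`
locally separated, implies that `e` is an immersion.) -/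
theorem result (S : Scheme.{u}) (B : AlgSp.Sp S) (hB : AlgSp.IsAlgSpace B)
    (G : AlgSp.GroupoidSp B) (hU : AlgSp.IsAlgSpace G.U) (hR : AlgSp.IsAlgSpace G.R)
    (eG : G.U ⟶ G.stabilizer) (heG : eG ≫ G.stabilizerι = G.e) :
    ((AlgSp.IsSeparatedMor G.j ↔ AlgSp.IsSeparatedMor G.stabilizerToU) ∧
        (AlgSp.IsSeparatedMor G.j ↔ AlgSp.RepWith @IsClosedImmersion eG)) ∧
      ((AlgSp.IsQuasiSeparatedMor G.j ↔ AlgSp.IsQuasiSeparatedMor G.stabilizerToU) ∧
        (AlgSp.IsQuasiSeparatedMor G.j ↔ AlgSp.IsQuasiCompactMor eG)) ∧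
      ((AlgSp.IsLocallySeparatedMor G.j → AlgSp.RepWith @IsImmersion eG) ∧
        (AlgSp.IsLocallySeparatedMor G.stabilizerToU → AlgSp.RepWith @IsImmersion eG)) := by
  open Groth.Agent.Lib.Helper51 Groth.Agent.H52 in
  have hUtoU : eG ≫ G.stabilizerToU = 𝟙 _ := eG_toU G eG heG
  have hk : 𝟙 G.stabilizer ≫ G.stabilizerToU = (G.stabilizerToU ≫ eG) ≫ G.stabilizerToU := by
    rw [Category.id_comp, Category.assoc, hUtoU, Category.comp_id]
  have sqA : IsPullback G.stabilizerι (pullback.diagonal G.stabilizerToU) (pullback.diagonal G.j) _ :=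
    isPullback_diagonal_of_isPullback (IsPullback.of_hasPullback G.j G.diag)
  have sqB := (isPullback_section_diagonal G.stabilizerToU eG hUtoU hk).flip
  have sqC := (isPullback_diagonal_j_unit G eG heG).flip
  have hUU : AlgSp.IsAlgSpace (pullback G.pU G.pU) :=
    isAlgSpace_of_isPullback (IsPullback.of_hasPullback G.pU G.pU) hU hB hU
  have hStab : AlgSp.IsAlgSpace G.stabilizer :=
    isAlgSpace_of_isPullback (IsPullback.of_hasPullback G.j G.diag) hR hUU hU
  have hrepΔ : AlgSp.Representable (pullback.diagonal G.stabilizerToU) :=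
    (diagonal_properties hStab G.stabilizerToU).1
  have hrepe : AlgSp.Representable eG := MorphismProperty.of_isPullback sqB hrepΔ
  have key : ∀ (P : MorphismProperty Scheme.{u}) [P.IsStableUnderBaseChange],
      (AlgSp.RepWith P (pullback.diagonal G.j) → AlgSp.RepWith P (pullback.diagonal G.stabilizerToU)) ∧
      (AlgSp.RepWith P (pullback.diagonal G.stabilizerToU) → AlgSp.RepWith P eG) ∧
      (AlgSp.RepWith P eG → AlgSp.RepWith P (pullback.diagonal G.j)) := by
    intro P _
    exact ⟨fun h => MorphismProperty.of_isPullback sqA h,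
      fun h => MorphismProperty.of_isPullback sqB h,
      fun h => MorphismProperty.of_isPullback sqC h⟩
  obtain ⟨c1, c2, c3⟩ := key @IsClosedImmersion
  obtain ⟨q1, q2, q3⟩ := key @QuasiCompact
  obtain ⟨i1, i2, -⟩ := key @IsImmersion
  refine ⟨⟨⟨c1, fun h => c3 (c2 h)⟩, ⟨fun h => c2 (c1 h), c3⟩⟩,
    ⟨⟨q1, fun h => q3 (q2 h)⟩, ⟨fun h => ?_, fun h => ?_⟩⟩,
    ⟨fun h => i2 (i1 h), i2⟩⟩
  · exact isQuasiCompactMor_of_repWith_quasiCompact _ (q2 (q1 h))
  · exact q3 (repWith_quasiCompact_of_isQuasiCompactMor _ hrepe h)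

end Groth.Agent.S10122
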