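import Groth.Statements.S10123
-- import your own Groth.Agent.* helpers here
import Groth.Agent.Lib.Helper51.GroupoidSpRestrict
import Groth.Agent.H52.LocPCalc4
import Groth.Agent.H52.LocPInst
import Groth.Agent.H52.FibreProd

set_option autoImplicit false
universe u
open CategoryTheory CategoryTheory.Limits AlgebraicGeometry
open AlgSp AlgSp.GroupoidSp

namespace Groth.Agent.S10123

/-- Let `(U', R', s', t', c')` be the restriction of a groupoid in algebraic spaces `(U, R, s, t, c)`
over `B` along `g : U' ⟶ U`. If `s, t, g` are locally of finite type (resp. locally of finite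
presentation, resp. flat) then so are `s', t'`. -/
theorem result (S : Scheme.{u}) (B : AlgSp.Sp S) (hB : AlgSp.IsAlgSpace B)
    (G G' : AlgSp.GroupoidSp B) (hU : AlgSp.IsAlgSpace G.U) (hR : AlgSp.IsAlgSpace G.R)
    (hU' : AlgSp.IsAlgSpace G'.U) (hR' : AlgSp.IsAlgSpace G'.R) (φ : AlgSp.GroupoidSp.Hom G' G)
    (hφ : φ.IsRestriction) :
    (AlgSp.LocP @LocallyOfFiniteType G.s → AlgSp.LocP @LocallyOfFiniteType G.t →
        AlgSp.LocP @LocallyOfFiniteType φ.fU →
        AlgSp.LocP @LocallyOfFiniteType G'.s ∧ AlgSp.LocP @LocallyOfFiniteType G'.t) ∧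
      (AlgSp.LocP @LocallyOfFinitePresentation G.s → AlgSp.LocP @LocallyOfFinitePresentation G.t →
        AlgSp.LocP @LocallyOfFinitePresentation φ.fU →
        AlgSp.LocP @LocallyOfFinitePresentation G'.s ∧ AlgSp.LocP @LocallyOfFinitePresentation G'.t) ∧
      (AlgSp.LocP @Flat G.s → AlgSp.LocP @Flat G.t → AlgSp.LocP @Flat φ.fU →
        AlgSp.LocP @Flat G'.s ∧ AlgSp.LocP @Flat G'.t) := by
  have key : ∀ (P : MorphismProperty Scheme.{u}) (_ : Groth.Agent.H52.IsEtLocal P)
      [P.IsStableUnderComposition], AlgSp.LocP P G.s → AlgSp.LocP P G.t → AlgSp.LocP P φ.fU →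
      AlgSp.LocP P G'.s ∧ AlgSp.LocP P G'.t := by
    intro P hP _ hs ht hg
    have hWs : AlgSp.IsAlgSpace (pullback G.s φ.fU) :=
      Groth.Agent.H52.isAlgSpace_of_isPullback (IsPullback.of_hasPullback G.s φ.fU) hR hU hU'
    have hWt : AlgSp.IsAlgSpace (pullback G.t φ.fU) :=
      Groth.Agent.H52.isAlgSpace_of_isPullback (IsPullback.of_hasPullback G.t φ.fU) hR hU hU'
    constructor
    · have h1 : AlgSp.LocP P (pullback.lift φ.fR G'.s φ.comm_s) :=
        hP.locP_of_isPullback hU' hU hWs
          (Groth.Agent.Lib.Helper51.isPullback_restriction_t φ hφ) hg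
      have h2 : AlgSp.LocP P (pullback.snd G.s φ.fU) :=
        hP.locP_of_isPullback hR hU hU' (IsPullback.of_hasPullback G.s φ.fU) hs
      have := hP.locP_comp hR' hWs hU' _ _ h1 h2
      rwa [pullback.lift_snd] at this
    · have h1 : AlgSp.LocP P (pullback.lift φ.fR G'.t φ.comm_t) :=
        hP.locP_of_isPullback hU' hU hWt
          (Groth.Agent.Lib.Helper51.isPullback_restriction_s φ hφ) hg
      have h2 : AlgSp.LocP P (pullback.snd G.t φ.fU) :=
        hP.locP_of_isPullback hR hU hU' (IsPullback.of_hasPullback G.t φ.fU) ht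
      have := hP.locP_comp hR' hWt hU' _ _ h1 h2
      rwa [pullback.lift_snd] at this
  exact ⟨key _ Groth.Agent.H52.isEtLocal_lft, key _ Groth.Agent.H52.isEtLocal_lfp,
    key _ Groth.Agent.H52.isEtLocal_flat⟩

end Groth.Agent.S10123
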