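import Groth.Statements.S10125
-- import your own Groth.Agent.* helpers here
import Groth.Agent.Lib.Helper51.OverField
import Groth.Agent.Lib.Helper51.GrpObjShear

set_option autoImplicit false
universe u
open CategoryTheory CategoryTheory.Limits AlgebraicGeometry MonoidalCategory MonObj
open AlgSp

namespace Groth.Agent.S10125

/-- For a group algebraic space `G` over a field `k`, the multiplication `m` of `G`, a morphism `G ×_k G
⟶ G`, is both flat and universally open. (The published situation allows any base scheme `S` with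
`k` a field over `S`; this row takes `S = Spec k`.) -/
theorem result (k : Type u) [Field k]
    (G : Over ((AlgSp.yon (Spec (CommRingCat.of k))).obj (Over.mk (𝟙 _)))) [GrpObj G]
    (hG : AlgSp.IsAlgSpace G.left) :
    AlgSp.LocP @Flat (μ[G]).left ∧ AlgSp.IsUnivOpenMor (μ[G]).left := by
  have hB : AlgSp.IsAlgSpace ((AlgSp.yon (Spec (CommRingCat.of k))).obj (Over.mk (𝟙 _))) :=
    AlgSp.IsAlgSpace.yon_obj _
  have sq : IsPullback (CartesianMonoidalCategory.snd G G).left (μ[G]).left G.hom G.hom :=
    (Groth.Agent.Lib.Helper51.isPullback_mul_left G).flip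
  have hflat : AlgSp.LocP @Flat G.hom :=
    Groth.Agent.Lib.Helper51.locP_flat_of_target_field hG k (𝟙 _) (Iso.refl _) G.hom
  have hopen : AlgSp.IsUnivOpenMor G.hom :=
    Groth.Agent.Lib.Helper51.isUnivOpenMor_of_target_field hG k (𝟙 _) (Iso.refl _) G.hom
  exact ⟨Groth.Agent.H52.isEtLocal_flat.locP_of_isPullback hG hB hG sq hflat,
    Groth.Agent.Lib.Helper51.isUnivOpenMor_of_isPullback sq hopen⟩

end Groth.Agent.S10125
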