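import Groth.Statements.S10127
import Groth.Agent.Lib.Helper54.GrpFieldSep

set_option autoImplicit false
universe u
open CategoryTheory CategoryTheory.Limits AlgebraicGeometry MonoidalCategory MonObj
open AlgSp

namespace Groth.Agent.S10127

/-- A group algebraic space over a field `k` which is a decent algebraic space is separated. (The
published situation allows any base scheme `S` with `k` a field over `S`; this row takes `S = Spec
k`.) -/
theorem result (k : Type u) [Field k]
    (G : Over ((AlgSp.yon (Spec (CommRingCat.of k))).obj (Over.mk (𝟙 _)))) [GrpObj G]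
    (hG : AlgSp.IsAlgSpace G.left) (hd : AlgSp.IsDecent G.left) : AlgSp.IsSeparatedSp G.left := by
  have hB : AlgSp.IsAlgSpace ((AlgSp.yon (Spec (CommRingCat.of k))).obj (Over.mk (𝟙 _))) :=
    AlgSp.IsAlgSpace.yon_obj _
  have h := (Groth.Agent.S10116.result _ _ hB G hG).1
  have hsplit : (η[G]).left ≫ G.hom = 𝟙 _ := Over.w η[G]
  have : Mono (η[G]).left := (SplitMono.mk G.hom hsplit).mono
  have he : AlgSp.RepWith @IsClosedImmersion (η[G]).left :=
    Groth.Agent.Lib.Helper54.repWith_isClosedImmersion_of_section_field hG hd (η[G]).left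
  have hsep : AlgSp.IsSeparatedMor G.hom := h.2 he
  have hh : (Groth.Agent.H52.yonBaseIsTerminal _).from G.left = G.hom :=
    (Groth.Agent.H52.yonBaseIsTerminal _).hom_ext _ _
  refine (Groth.Agent.H52.repWith_diag_iff_diagonal_from @IsClosedImmersion G.left).2 ?_
  have key : ∀ f : G.left ⟶ (AlgSp.yon (Spec (CommRingCat.of k))).obj (Over.mk (𝟙 _)), f = G.hom →
      AlgSp.RepWith @IsClosedImmersion (pullback.diagonal f) := by
    rintro f rfl
    exact hsep
  exact key _ hh

end Groth.Agent.S10127
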