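import Groth.Statements.S10130
-- import your own Groth.Agent.* helpers here
import Groth.Agent.Lib.Helper51.QuotSpGpd
import Groth.Agent.H52.PreEqv
import Groth.Agent.H53.OpenSub

set_option autoImplicit false
universe u
open CategoryTheory CategoryTheory.Limits AlgebraicGeometry
open AlgSp AlgSp.GroupoidSp

namespace Groth.Agent.S10130

/-- Let `(U, R, s, t, c)` be a groupoid in algebraic spaces over `B` with `s, t` open. For every open
subspace `W ⊂ U`, the open subspace `s(t⁻¹(W))` of `U` is `R`-invariant. -/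
theorem result (S : Scheme.{u}) (B : AlgSp.Sp S) (hB : AlgSp.IsAlgSpace B)
    (G : AlgSp.GroupoidSp B) (hU : AlgSp.IsAlgSpace G.U) (hR : AlgSp.IsAlgSpace G.R)
    (hs : AlgSp.IsOpenMor G.s) (ht : AlgSp.IsOpenMor G.t)
    (W W' : AlgSp.Sp S) (w : W ⟶ G.U) (w' : W' ⟶ G.U)
    (hw : AlgSp.RepWith @IsOpenImmersion w) (hw' : AlgSp.RepWith @IsOpenImmersion w')
    (himg : Set.range (AlgSp.Points.map w') =
      AlgSp.Points.map G.s '' (AlgSp.Points.map G.t ⁻¹' Set.range (AlgSp.Points.map w))) :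
    G.IsInvariant w' := by
  have hpre := Groth.Agent.Lib.Helper51.isPreEqvRelSp_of_groupoidSp G
  have heq := Groth.Agent.H52.points_equivalence_of_isPreEqvRelSp G.s G.t hpre
  -- the image `Ω` of `W'` is saturated
  have hsat : ∀ x y : AlgSp.Points G.U,
      (∃ ρ : AlgSp.Points G.R, AlgSp.Points.map G.t ρ = x ∧ AlgSp.Points.map G.s ρ = y) →
      x ∈ Set.range (AlgSp.Points.map w') → y ∈ Set.range (AlgSp.Points.map w') := by
    intro x y hxy hx
    rw [himg] at hx ⊢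
    obtain ⟨ρ0, hρ0, rfl⟩ := hx
    obtain ⟨ρ1, h1, h2⟩ := heq.trans ⟨ρ0, rfl, rfl⟩ hxy
    exact ⟨ρ1, by rw [Set.mem_preimage, h1]; exact hρ0, h2⟩
  intro T r
  constructor
  · rintro ⟨a, ha⟩
    refine Groth.Agent.H53.exists_factor_of_range_subset w' hw' (r ≫ G.s) ?_
    rintro _ ⟨p, rfl⟩
    rw [AlgSp.Points.map_comp]
    refine hsat _ _ ⟨AlgSp.Points.map r p, rfl, rfl⟩ ?_
    rw [← AlgSp.Points.map_comp, ← ha, AlgSp.Points.map_comp]
    exact ⟨_, rfl⟩
  · rintro ⟨a, ha⟩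
    refine Groth.Agent.H53.exists_factor_of_range_subset w' hw' (r ≫ G.t) ?_
    rintro _ ⟨p, rfl⟩
    rw [AlgSp.Points.map_comp]
    refine hsat _ _ (heq.symm ⟨AlgSp.Points.map r p, rfl, rfl⟩) ?_
    rw [← AlgSp.Points.map_comp, ← ha, AlgSp.Points.map_comp]
    exact ⟨_, rfl⟩

end Groth.Agent.S10130
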