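import Groth.Statements.S10131
-- import your own Groth.Agent.* helpers here
import Groth.Agent.S10130
import Groth.Agent.S10174
import Groth.Agent.H52.Compact
import Groth.Agent.H52.UnivInj
import Groth.Agent.Lib.Helper54.OpenSubspace
import Groth.Agent.H52.Basic

set_option autoImplicit false
universe u
open CategoryTheory CategoryTheory.Limits AlgebraicGeometry
open AlgSp AlgSp.GroupoidSp

namespace Groth.Agent.S10131

/-- Let `(U, R, s, t, c)` be a groupoid in algebraic spaces over `B` with `s, t` open and quasi-compact.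
Then `U` has an open covering by `R`-invariant quasi-compact open subspaces. -/
theorem result (S : Scheme.{u}) (B : AlgSp.Sp S) (hB : AlgSp.IsAlgSpace B)
    (G : AlgSp.GroupoidSp B) (hU : AlgSp.IsAlgSpace G.U) (hR : AlgSp.IsAlgSpace G.R)
    (hs : AlgSp.IsOpenMor G.s ∧ AlgSp.IsQuasiCompactMor G.s) (ht : AlgSp.IsOpenMor G.t ∧ AlgSp.IsQuasiCompactMor G.t)
    (x : AlgSp.Points G.U) :
    ∃ (W : AlgSp.Sp S) (w : W ⟶ G.U), AlgSp.RepWith @IsOpenImmersion w ∧ G.IsInvariant w ∧
      AlgSp.IsQuasiCompactSp W ∧ x ∈ Set.range (AlgSp.Points.map w) := by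
  open Groth.Agent.H52 Groth.Agent.Lib.Helper54 in
  -- a quasi-compact open neighbourhood `W₀` of `x`
  obtain ⟨V, a, hae, has⟩ := hU.atlas
  have hopen : IsOpenMap (AlgSp.Points.map a) := isOpenMap_points_of_etale a hae
  obtain ⟨y, rfl⟩ := surjective_points_of_repWith_surjective a has x
  obtain ⟨v, rfl⟩ := (AlgSp.Points.schemeEquiv V).surjective y
  obtain ⟨O, hOaff, hvO, -⟩ := exists_isAffineOpen_mem_and_subset (x := v) (U := ⊤) trivial
  set W₀ : Set (AlgSp.Points G.U) :=
    AlgSp.Points.map a '' (AlgSp.Points.ofScheme V '' (O : Set ↥V.left)) with hW₀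
  have hW₀o : IsOpen W₀ := hopen _ ((AlgSp.Points.schemeHomeo V).isOpenMap _ O.isOpen)
  have hW₀c : IsCompact W₀ :=
    (hOaff.isCompact.image (AlgSp.Points.schemeHomeo V).continuous).image
      (AlgSp.Points.continuous_map a)
  have hxW₀ : AlgSp.Points.map a (AlgSp.Points.schemeEquiv V v) ∈ W₀ := ⟨_, ⟨v, hvO, rfl⟩, rfl⟩
  -- its saturation
  set W : Set (AlgSp.Points G.U) := AlgSp.Points.map G.s '' (AlgSp.Points.map G.t ⁻¹' W₀) with hW
  have hWo : IsOpen W := hs.1 _ (hW₀o.preimage (AlgSp.Points.continuous_map G.t))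
  have hWc : IsCompact W :=
    (isCompact_preimage_of_isQuasiCompactMor hU G.t ht.2 W₀ hW₀o hW₀c).image
      (AlgSp.Points.continuous_map G.s)
  have hxW : AlgSp.Points.map a (AlgSp.Points.schemeEquiv V v) ∈ W := by
    refine ⟨AlgSp.Points.map G.e (AlgSp.Points.map a (AlgSp.Points.schemeEquiv V v)), ?_, ?_⟩
    · rw [Set.mem_preimage, ← AlgSp.Points.map_comp, G.e_t, AlgSp.Points.map_id]
      exact hxW₀
    · rw [← AlgSp.Points.map_comp, G.e_s, AlgSp.Points.map_id]
  obtain ⟨X₀, j₀, -, hj₀, hr₀⟩ := exists_openSubspace hU W₀ hW₀o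
  obtain ⟨X₁, j₁, hX₁, hj₁, hr₁⟩ := exists_openSubspace hU W hWo
  refine ⟨X₁, j₁, hj₁, ?_, ?_, ?_⟩
  · exact Groth.Agent.S10130.result S B hB G hU hR hs.1 ht.1 X₀ X₁ j₀ j₁ hj₀ hj₁
      (by rw [hr₀, hr₁])
  · have hmono : Mono j₁ := mono_of_repWith j₁ @IsOpenImmersion (fun _ _ g hg => by
      have : IsOpenImmersion g := hg
      infer_instance) hj₁
    have hinj : Function.Injective (AlgSp.Points.map j₁) := by
      apply KInj.injective_points
      intro K _ str p q hpq
      exact (cancel_mono j₁).1 hpq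
    have hopen₁ : IsOpenMap (AlgSp.Points.map j₁) :=
      isOpenMap_points_of_repWith j₁ @IsOpenImmersion (fun _ _ φ hφ => by
        have : IsOpenImmersion φ := hφ
        exact φ.isOpenEmbedding.isOpenMap) hj₁
    have hemb : Topology.IsOpenEmbedding (AlgSp.Points.map j₁) :=
      Topology.IsOpenEmbedding.of_continuous_injective_isOpenMap
        (AlgSp.Points.continuous_map j₁) hinj hopen₁
    have hcomp : CompactSpace (AlgSp.Points X₁) := by
      rw [← isCompact_univ_iff, hemb.isEmbedding.isCompact_iff, Set.image_univ, hr₁]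
      exact hWc
    exact (Groth.Agent.S10174.result ⟨X₁, hX₁⟩).2 hcomp
  · rw [hr₁]
    exact hxW

end Groth.Agent.S10131
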