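import Groth.Statements.S10132
-- import your own Groth.Agent.* helpers here
import Groth.Agent.Lib.Helper51.UnivOpenComp
import Groth.Agent.Lib.Helper51.GroupoidSpRestrict

set_option autoImplicit false
universe u
open CategoryTheory CategoryTheory.Limits AlgebraicGeometry
open AlgSp AlgSp.GroupoidSp

namespace Groth.Agent.S10132

/-- Let `(U, R, s, t, c)` be a groupoid in algebraic spaces over `B` whose object space is `U = Spec k`,
let `k ⊂ k'` be a field extension and `(U', R', s', t', c')` the restriction along `Spec k' ⟶ Spec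
k`. Then `s, t, s', t'`, `Spec k' ⟶ Spec k` and `R' ⟶ R` are surjective, flat and universally open,
and `R' ⟶ R` is moreover affine. (The published statement lists every arrow of the restriction
diagram; this row omits the six arrows through `R ×_{s,U} U'` and `U' ×_{U,t} R`, each a base change
of `s`, `t` or `Spec k' ⟶ Spec k`.) -/
theorem result (S : Scheme.{u}) (B : AlgSp.Sp S) (hB : AlgSp.IsAlgSpace B)
    (G G' : AlgSp.GroupoidSp B) (hR : AlgSp.IsAlgSpace G.R) (hR' : AlgSp.IsAlgSpace G'.R)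
    (k k' : Type u) [Field k] [Field k'] [Algebra k k'] (σ : Spec (CommRingCat.of k) ⟶ S)
    (eU : G.U ≅ ((AlgSp.yon S).obj (Over.mk σ)))
    (eU' : G'.U ≅ ((AlgSp.yon S).obj (Over.mk (Spec.map (CommRingCat.ofHom (algebraMap k k')) ≫ σ))))
    (φ : AlgSp.GroupoidSp.Hom G' G) (hφ : φ.IsRestriction)
    (hfU : φ.fU = eU'.hom ≫ (AlgSp.yon S).map (Over.homMk (Spec.map (CommRingCat.ofHom (algebraMap k k'))) rfl :
      Over.mk (Spec.map (CommRingCat.ofHom (algebraMap k k')) ≫ σ) ⟶ Over.mk σ) ≫ eU.inv) :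
    (∀ f ∈ [G.s, G.t], AlgSp.IsSurjectiveMor f ∧ AlgSp.LocP @Flat f ∧ AlgSp.IsUnivOpenMor f) ∧
      (∀ f ∈ [G'.s, G'.t], AlgSp.IsSurjectiveMor f ∧ AlgSp.LocP @Flat f ∧ AlgSp.IsUnivOpenMor f) ∧
      (AlgSp.IsSurjectiveMor φ.fU ∧ AlgSp.LocP @Flat φ.fU ∧ AlgSp.IsUnivOpenMor φ.fU) ∧
      (AlgSp.IsSurjectiveMor φ.fR ∧ AlgSp.LocP @Flat φ.fR ∧ AlgSp.IsUnivOpenMor φ.fR ∧ AlgSp.IsAffineMor φ.fR) := by
  open Groth.Agent.Lib.Helper51 Groth.Agent.H52 in
  have hU : AlgSp.IsAlgSpace G.U := (AlgSp.IsAlgSpace.yon_obj (Over.mk σ)).of_iso eU.symm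
  have hU' : AlgSp.IsAlgSpace G'.U := (AlgSp.IsAlgSpace.yon_obj _).of_iso eU'.symm
  -- the map `Spec k' ⟶ Spec k`
  have hgs : Surjective (Spec.map (CommRingCat.ofHom (algebraMap k k'))) :=
    surjective_spec_map_field k k'
  have hrepS : AlgSp.RepWith @Surjective φ.fU := by
    rw [hfU]
    refine (AlgSp.RepWith (S := S) @Surjective).comp_mem _ _ (repWith_of_isIso _ _)
      ((AlgSp.RepWith (S := S) @Surjective).comp_mem _ _ ?_ (repWith_of_isIso _ _))
    rw [AlgSp.repWith_yon_map_iff]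
    exact hgs
  have hrepA : AlgSp.RepWith @IsAffineHom φ.fU := by
    rw [hfU]
    refine (AlgSp.RepWith (S := S) @IsAffineHom).comp_mem _ _ (repWith_of_isIso _ _)
      ((AlgSp.RepWith (S := S) @IsAffineHom).comp_mem _ _ ?_ (repWith_of_isIso _ _))
    rw [AlgSp.repWith_yon_map_iff]
    change IsAffineHom (Spec.map (CommRingCat.ofHom (algebraMap k k')))
    infer_instance
  have hgS : AlgSp.IsSurjectiveMor φ.fU := surjective_points_of_repWith_surjective _ hrepS
  have hgF : AlgSp.LocP @Flat φ.fU := locP_flat_of_target_field hU' k σ eU φ.fU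
  have hgO : AlgSp.IsUnivOpenMor φ.fU := isUnivOpenMor_of_target_field hU' k σ eU φ.fU
  have hgA : AlgSp.IsAffineMor φ.fU := isAffineMor_of_repWith_isAffineHom _ hrepA
  refine ⟨?_, ?_, ⟨hgS, hgF, hgO⟩, ?_⟩
  · intro f hf
    simp only [List.mem_cons, List.not_mem_nil, or_false] at hf
    rcases hf with rfl | rfl
    · exact ⟨isSurjectiveMor_of_section _ G.e G.e_s, locP_flat_of_target_field hR k σ eU _,
        isUnivOpenMor_of_target_field hR k σ eU _⟩
    · exact ⟨isSurjectiveMor_of_section _ G.e G.e_t, locP_flat_of_target_field hR k σ eU _,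
        isUnivOpenMor_of_target_field hR k σ eU _⟩
  · intro f hf
    simp only [List.mem_cons, List.not_mem_nil, or_false] at hf
    rcases hf with rfl | rfl
    · exact ⟨isSurjectiveMor_of_section _ G'.e G'.e_s, locP_flat_of_target_field hR' k' _ eU' _,
        isUnivOpenMor_of_target_field hR' k' _ eU' _⟩
    · exact ⟨isSurjectiveMor_of_section _ G'.e G'.e_t, locP_flat_of_target_field hR' k' _ eU' _,
        isUnivOpenMor_of_target_field hR' k' _ eU' _⟩
  · -- `R' ⟶ R` is a composite of two base changes of `U' ⟶ U`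
    have sq1 := isPullback_restriction_t φ hφ
    have sq2 : IsPullback (pullback.snd G.s φ.fU) (pullback.fst G.s φ.fU) φ.fU G.s :=
      (IsPullback.of_hasPullback G.s φ.fU).flip
    have hW : AlgSp.IsAlgSpace (pullback G.s φ.fU) :=
      isAlgSpace_of_isPullback (IsPullback.of_hasPullback G.s φ.fU) hR hU hU'
    have hfR : pullback.lift φ.fR G'.s φ.comm_s ≫ pullback.fst G.s φ.fU = φ.fR :=
      pullback.lift_fst _ _ _
    rw [← hfR]
    refine ⟨?_, ?_, ?_, ?_⟩
    · exact isSurjectiveMor_comp _ _ (surjective_points_of_isPullback sq1 hgS)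
        (surjective_points_of_isPullback sq2 hgS)
    · exact isEtLocal_flat.locP_comp hR' hW hR _ _
        (isEtLocal_flat.locP_of_isPullback hU' hU hW sq1 hgF)
        (isEtLocal_flat.locP_of_isPullback hU' hU hR sq2 hgF)
    · exact isUnivOpenMor_comp hW hR _ _ (isUnivOpenMor_of_isPullback sq1 hgO)
        (isUnivOpenMor_of_isPullback sq2 hgO)
    · exact isAffineMor_comp _ _ (isAffineMor_of_isPullback sq1 hgA)
        (isAffineMor_of_isPullback sq2 hgA)

end Groth.Agent.S10132
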