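import Groth.Statements.S10141
-- import your own Groth.Agent.* helpers here
import Groth.Agent.Lib.Helper51.QuotOpenImm3

set_option autoImplicit false
universe u
open CategoryTheory CategoryTheory.Limits AlgebraicGeometry
open AlgSp

namespace Groth.Agent.S10141

/-- Let `(U, R, s, t, c)` be a groupoid scheme over `S` and `g : U' ⟶ U` a morphism such that the
composite `h : U' ×_{g, U, t} R ⟶ R ⟶ U` of the projection with `s` has open image `W ⊂ U` and `h :
U' ×_{g, U, t} R ⟶ W` is a surjection of fppf sheaves. Then for the restriction `R' = R|_{U'}` the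
map of fppf quotient sheaves `U'/R' ⟶ U/R` is representable and an open immersion. -/
theorem result (S : Scheme.{u}) (G : Grpd.GroupoidScheme S)
    (U' : Scheme.{u}) (g : U' ⟶ G.U) (W : G.U.Opens)
    (hW : (W : Set ↥G.U) = Set.range ⇑(pullback.snd g G.t ≫ G.s))
    (hlift : pullback g G.t ⟶ ↑W) (hh : hlift ≫ W.ι = pullback.snd g G.t ≫ G.s)
    (hsurj : Sheaf.IsLocallySurjective ((AlgSp.yon S).map
      (Over.homMk hlift ((Category.assoc _ _ _).symm.trans (congrArg (· ≫ G.pU) hh)) :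
        Over.mk ((pullback.snd g G.t ≫ G.s) ≫ G.pU) ⟶ Over.mk (W.ι ≫ G.pU))))
    (R' : Over S) (s' t' : R' ⟶ Over.mk (g ≫ G.pU)) (r : R' ⟶ Over.mk G.pR)
    (hsq : IsPullback (prod.lift t' s') r
      (prod.map (Over.homMk g rfl : Over.mk (g ≫ G.pU) ⟶ Over.mk G.pU) (Over.homMk g rfl : Over.mk (g ≫ G.pU) ⟶ Over.mk G.pU))
      (prod.lift (Over.homMk G.t G.t_over : Over.mk G.pR ⟶ Over.mk G.pU) (Over.homMk G.s G.s_over : Over.mk G.pR ⟶ Over.mk G.pU)))
    (ψ : QuotSh.quot Scheme.fppfPrecoverage s' t' ⟶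
      QuotSh.quot Scheme.fppfPrecoverage (Over.homMk G.s G.s_over : Over.mk G.pR ⟶ Over.mk G.pU) (Over.homMk G.t G.t_over : Over.mk G.pR ⟶ Over.mk G.pU))
    (hψ : QuotSh.quotπ Scheme.fppfPrecoverage s' t' ≫ ψ =
      QuotSh.repMap Scheme.fppfPrecoverage (Over.homMk g rfl : Over.mk (g ≫ G.pU) ⟶ Over.mk G.pU) ≫ QuotSh.quotπ Scheme.fppfPrecoverage _ _) :
    AlgSp.RepWith @IsOpenImmersion ψ := by
  have heq := Groth.Agent.Lib.Helper51.isPreEqvRel_of_groupoidScheme G
  have hrel := Groth.Agent.Lib.Helper51.qπ_rel_of_isPreEqvRel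
    (Groth.Agent.Lib.Helper51.gsO G) (Groth.Agent.Lib.Helper51.gtO G) heq
  have hψ' := Groth.Agent.Lib.Helper51.qπ_map (Groth.Agent.Lib.Helper51.gsO G)
    (Groth.Agent.Lib.Helper51.gtO G) s' t' (Over.homMk g rfl) ψ hψ
  have hmono : Mono ψ := by
    refine Groth.Agent.Lib.Helper51.mono_of_restrict (R := Over.mk G.pR) (U := Over.mk G.pU) (R' := R')
      (U' := Over.mk (g ≫ G.pU))
      (Groth.Agent.Lib.Helper51.gsO G) (Groth.Agent.Lib.Helper51.gtO G) (Over.homMk g rfl) s' t' r ?_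
      (Groth.Agent.Lib.Helper51.qπ _ _) (Groth.Agent.Lib.Helper51.qπ s' t') ψ hψ'
      (Groth.Agent.Lib.Helper51.qπ_condition s' t') hrel
    convert hsq
  have hw1 : pullback.fst g G.t ≫ g ≫ G.pU = (pullback.snd g G.t ≫ G.s) ≫ G.pU := by
    rw [← Category.assoc, pullback.condition, Category.assoc, Category.assoc, G.t_over, G.s_over]
  have hw2 : pullback.snd g G.t ≫ G.pR = (pullback.snd g G.t ≫ G.s) ≫ G.pU := by
    rw [Category.assoc, G.s_over]
  let pr1 : Over.mk ((pullback.snd g G.t ≫ G.s) ≫ G.pU) ⟶ Over.mk (g ≫ G.pU) :=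
    Over.homMk (pullback.fst g G.t) hw1
  let pr2 : Over.mk ((pullback.snd g G.t ≫ G.s) ≫ G.pU) ⟶ Over.mk G.pR :=
    Over.homMk (pullback.snd g G.t) hw2
  have hQ : IsPullback pr1 pr2 (Over.homMk g rfl : Over.mk (g ≫ G.pU) ⟶ Over.mk G.pU)
      (Groth.Agent.Lib.Helper51.gtO G) :=
    IsPullback.of_map (Over.forget S) (by ext1; exact pullback.condition)
      (IsPullback.of_hasPullback g G.t)
  have hepi : Epi ((AlgSp.yon S).map
      (Over.homMk hlift ((Category.assoc _ _ _).symm.trans (congrArg (· ≫ G.pU) hh)) :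
        Over.mk ((pullback.snd g G.t ≫ G.s) ≫ G.pU) ⟶ Over.mk (W.ι ≫ G.pU))) :=
    (Sheaf.isLocallySurjective_iff_epi _).1 hsurj
  refine Groth.Agent.Lib.Helper51.repWith_isOpenImmersion_of_restrict
    (R := Over.mk G.pR) (U := Over.mk G.pU) (U' := Over.mk (g ≫ G.pU))
    (Q := Over.mk ((pullback.snd g G.t ≫ G.s) ≫ G.pU))
    (Groth.Agent.Lib.Helper51.gsO G) (Groth.Agent.Lib.Helper51.gtO G) (Over.homMk g rfl)
    (Groth.Agent.Lib.Helper51.qπ _ _) (Groth.Agent.Lib.Helper51.qπ s' t') ψ hψ'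
    (Groth.Agent.Lib.Helper51.qπ_condition _ _) hrel pr1 pr2 hQ W hW
    (Over.homMk hlift ((Category.assoc _ _ _).symm.trans (congrArg (· ≫ G.pU) hh)))
    (by ext1; exact hh)

end Groth.Agent.S10141
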