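import Groth.Statements.S10148
import Groth.Agent.H53.LinTopUnits
import Mathlib.Topology.Algebra.Polynomial

set_option autoImplicit false
universe u v w
open LinTop

namespace Groth.Agent.S10148

open Groth.Agent.H53 Polynomial Filter Topology in
/-- Let A be a weakly admissible topological ring (linearly topologized, Hausdorff and complete, having
a weak ideal of definition) and let I be a weak ideal of definition of A, that is, an open ideal
consisting of topologically nilpotent elements. Then (A, I) is a henselian pair. -/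
theorem result
    (A : Type u) [CommRing A] [UniformSpace A] [IsUniformAddGroup A] [IsTopologicalRing A]
    (hA : LinTop.IsWeaklyAdmissible A) (I : Ideal A) (hI : LinTop.IsWeakIdealOfDefinition A I) :
    HenselianRing A I := by
  obtain ⟨⟨hlin, -⟩, hT2, hC⟩ := hA
  have hna : NonarchimedeanRing A := nonarchimedeanRing_of_isLinearTopology
  have hjac : I ≤ Ideal.jacobson ⊥ := le_jacobson_bot_of_forall_isTopologicallyNilpotent I hI.2
  refine ⟨hjac, ?_⟩
  intro f _ a₀ h₁ h₂
  classical
  let f' := derivative f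
  let e : A := f.eval a₀
  let P : Ideal A := Ideal.span {e}
  have hPI : P ≤ I := by
    rw [Ideal.span_le]
    intro x hx
    rw [Set.mem_singleton_iff.mp hx]
    exact h₁
  have he : IsTopologicallyNilpotent e := hI.2 e h₁
  let c : ℕ → A := fun n => Nat.recOn n a₀ fun _ b => b - f.eval b * Ring.inverse (f'.eval b)
  have hc : ∀ n, c (n + 1) = c n - f.eval (c n) * Ring.inverse (f'.eval (c n)) := by
    intro n
    simp only [c]
  have hc_mod : ∀ n, c n ≡ a₀ [SMOD I] := by
    intro n
    induction n with
    | zero => rfl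
    | succ n ih => ?_
    rw [hc, sub_eq_add_neg, ← add_zero a₀]
    refine ih.add ?_
    rw [SModEq.zero, Ideal.neg_mem_iff]
    refine I.mul_mem_right _ ?_
    rw [← SModEq.zero] at h₁ ⊢
    exact (ih.eval f).trans h₁
  have hf'c : ∀ n, IsUnit (f'.eval (c n)) := by
    intro n
    have := isLocalHom_of_le_jacobson_bot I hjac
    apply IsUnit.of_map (Ideal.Quotient.mk I)
    convert! h₂ using 1
    exact SModEq.def.mp ((hc_mod n).eval _)
  have hfcP : ∀ n, f.eval (c n) ∈ P ^ (n + 1) := by
    intro n
    induction n with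
    | zero =>
      simp only [zero_add, pow_one]
      exact Ideal.subset_span (Set.mem_singleton e)
    | succ n ih => ?_
    rw [← taylor_eval_sub (c n), hc, sub_eq_add_neg, sub_eq_add_neg,
      add_neg_cancel_comm]
    rw [eval_eq_sum, sum_over_range' _ _ _ (lt_add_of_pos_right _ zero_lt_two), ←
      Finset.sum_range_add_sum_Ico _ (Nat.le_add_left _ _)]
    swap
    · intro i
      rw [zero_mul]
    refine Ideal.add_mem _ ?_ ?_
    · rw [← one_add_one_eq_two, Finset.sum_range_succ, Finset.range_one, Finset.sum_singleton,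
        taylor_coeff_zero, taylor_coeff_one, pow_zero, pow_one, mul_one, mul_neg,
        mul_left_comm, Ring.mul_inverse_cancel _ (hf'c n), mul_one, add_neg_cancel]
      exact Ideal.zero_mem _
    · refine Submodule.sum_mem _ ?_
      simp only [Finset.mem_Ico]
      rintro i ⟨h2i, _⟩
      have aux : n + 2 ≤ i * (n + 1) := by trans 2 * (n + 1) <;> nlinarith only [h2i]
      refine Ideal.mul_mem_left _ _ (Ideal.pow_le_pow_right aux ?_)
      rw [pow_mul']
      exact Ideal.pow_mem_pow ((Ideal.neg_mem_iff _).2 <| Ideal.mul_mem_right _ _ ih) _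
  -- elements of `P ^ (n+1)` tend to zero
  have hPzero : ∀ U ∈ 𝓝 (0 : A), ∃ N, ∀ n, N ≤ n → ((P ^ (n + 1) : Ideal A) : Set A) ⊆ U := by
    intro U hU
    obtain ⟨K, hK, hKU⟩ := (IsLinearTopology.hasBasis_open_ideal (R := A)).mem_iff.mp hU
    obtain ⟨N, hN⟩ := he.exists_pow_mem_of_mem_nhds (hK.mem_nhds K.zero_mem)
    refine ⟨N, fun n hn => subset_trans ?_ hKU⟩
    have h1 : P ^ (n + 1) ≤ K := by
      rw [Ideal.span_singleton_pow, Ideal.span_le]
      intro x hx
      rw [Set.mem_singleton_iff.mp hx]
      have hle : N ≤ n + 1 := le_trans hn (Nat.le_succ n)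
      have h2 : e ^ (n + 1) = e ^ (n + 1 - N) * e ^ N := by
        rw [← pow_add, Nat.sub_add_cancel hle]
      rw [h2]
      exact K.mul_mem_left _ hN
    exact h1
  have hfc0 : Tendsto (fun n => f.eval (c n)) atTop (𝓝 0) := by
    rw [tendsto_def]
    intro U hU
    obtain ⟨N, hN⟩ := hPzero U hU
    rw [mem_atTop_sets]
    exact ⟨N, fun n hn => hN n hn (hfcP n)⟩
  have hdiff : Tendsto (fun n => c (n + 1) - c n) atTop (𝓝 0) := by
    rw [tendsto_def]
    intro U hU
    obtain ⟨N, hN⟩ := hPzero U hU
    rw [mem_atTop_sets]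
    refine ⟨N, fun n hn => hN n hn ?_⟩
    show c (n + 1) - c n ∈ P ^ (n + 1)
    rw [hc, sub_sub_cancel_left]
    exact (Ideal.neg_mem_iff _).mpr (Ideal.mul_mem_right _ _ (hfcP n))
  have hcauchy : CauchySeq c := NonarchimedeanAddGroup.cauchySeq_of_tendsto_sub_nhds_zero hdiff
  obtain ⟨a, ha⟩ := cauchySeq_tendsto_of_complete hcauchy
  refine ⟨a, ?_, ?_⟩
  · show f.eval a = 0
    have h3 : Tendsto (fun n => f.eval (c n)) atTop (𝓝 (f.eval a)) :=
      (f.continuous.tendsto a).comp ha
    exact tendsto_nhds_unique h3 hfc0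
  · have hclosed : IsClosed (I : Set A) := ideal_isClosed_of_isOpen I hI.1
    have h4 : Tendsto (fun n => c n - a₀) atTop (𝓝 (a - a₀)) := ha.sub tendsto_const_nhds
    refine hclosed.mem_of_tendsto h4 (Eventually.of_forall fun n => ?_)
    exact (SModEq.sub_mem).mp (hc_mod n)

end Groth.Agent.S10148
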