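import Groth.Statements.S10150
import Groth.Agent.H53.LinTopBasic

set_option autoImplicit false
universe u v w
open LinTop

namespace Groth.Agent.S10150

open Groth.Agent.H53 in
/-- Let φ : A → B be a continuous ring homomorphism between weakly pre-admissible linearly topologized
rings. Then φ is taut if and only if, for each weak ideal of definition I of A, the closure of the
ideal generated by φ(I) is again a weak ideal of definition, now of B, and every neighbourhood of 0
in B contains one of these closures. (The published statement takes A and B weakly admissible, that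
is, moreover Hausdorff and complete; completeness plays no role and this row omits it.) -/
theorem result
    (A : Type u) [CommRing A] [TopologicalSpace A] [IsTopologicalRing A] [IsLinearTopology A A]
    (B : Type v) [CommRing B] [TopologicalSpace B] [IsTopologicalRing B] [IsLinearTopology B B]
    (hA : LinTop.IsWeaklyPreadmissible A) (hB : LinTop.IsWeaklyPreadmissible B)
    (φ : A →+* B) (hφ : Continuous φ) :
    LinTop.IsTaut φ ↔
      ((∀ I : Ideal A, LinTop.IsWeakIdealOfDefinition A I →
          LinTop.IsWeakIdealOfDefinition B (I.map φ).closure) ∧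
        ∀ U ∈ nhds (0 : B), ∃ I : Ideal A, LinTop.IsWeakIdealOfDefinition A I ∧
          ((I.map φ).closure : Set B) ⊆ U) := by
  obtain ⟨-, I0, hI0o, hI0n⟩ := hA
  have hinf : ∀ I' : Ideal A, IsOpen (I' : Set A) → LinTop.IsWeakIdealOfDefinition A (I' ⊓ I0) :=
    fun I' hI' => ⟨hI'.inter hI0o, fun f hf => hI0n f hf.2⟩
  constructor
  · rintro ⟨-, h2, h3⟩
    refine ⟨fun I hI => ⟨h2 I hI.1, fun g hg => ?_⟩, fun U hU => ?_⟩
    · have := closure_map_le_topologicalNilradical φ hφ I hI.2 hg
      rwa [IsTopologicallyNilpotent.mem_topologicalNilradical_iff] at this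
    · obtain ⟨I', hI'o, hI'U⟩ := h3 U hU
      refine ⟨I' ⊓ I0, hinf I' hI'o, subset_trans ?_ hI'U⟩
      exact ideal_closure_mono (Ideal.map_mono inf_le_left)
  · rintro ⟨h1, h2⟩
    refine ⟨hφ, fun I' hI' => ?_, fun U hU => ?_⟩
    · have h3 := (h1 _ (hinf I' hI')).1
      have h4 : ((I' ⊓ I0).map φ).closure ≤ (I'.map φ).closure :=
        ideal_closure_mono (Ideal.map_mono inf_le_left)
      exact ideal_isOpen_mono h4 h3
    · obtain ⟨I, hI, hIU⟩ := h2 U hU
      exact ⟨I, hI.1, hIU⟩

end Groth.Agent.S10150
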