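import Groth.Statements.S10151
import Groth.Agent.H53.LinTopBasic

set_option autoImplicit false
universe u v w
open LinTop

namespace Groth.Agent.S10151

open Groth.Agent.H53 in
/-- Given linearly topologized rings A, B, C and continuous ring maps ψ : B → C and φ : A → B, tautness
of the composite A → C implies that ψ is taut. -/
theorem result
    (A : Type u) [CommRing A] [TopologicalSpace A] [IsTopologicalRing A] [IsLinearTopology A A]
    (B : Type v) [CommRing B] [TopologicalSpace B] [IsTopologicalRing B] [IsLinearTopology B B]
    (C : Type w) [CommRing C] [TopologicalSpace C] [IsTopologicalRing C] [IsLinearTopology C C]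
    (φ : A →+* B) (ψ : B →+* C) (hφ : Continuous φ) (hψ : Continuous ψ)
    (h : LinTop.IsTaut (ψ.comp φ)) : LinTop.IsTaut ψ := by
  obtain ⟨-, h2, -⟩ := h
  refine ⟨hψ, ?_, ?_⟩
  · intro J hJ
    have hI := isOpen_comap φ hφ J hJ
    have h3 := h2 _ hI
    have hle : ((J.comap φ).map (ψ.comp φ)).closure ≤ (J.map ψ).closure := by
      apply ideal_closure_mono
      rw [← Ideal.map_map]
      exact Ideal.map_mono Ideal.map_comap_le
    exact ideal_isOpen_mono hle h3
  · intro U hU
    obtain ⟨K, hK, hKU⟩ := (IsLinearTopology.hasBasis_open_ideal (R := C)).mem_iff.mp hU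
    refine ⟨K.comap ψ, isOpen_comap ψ hψ K hK, ?_⟩
    have : ((K.comap ψ).map ψ).closure ≤ K := by
      have h1 : ((K.comap ψ).map ψ).closure ≤ K.closure :=
        ideal_closure_mono Ideal.map_comap_le
      rwa [ideal_closure_eq_of_isOpen K hK] at h1
    exact subset_trans this hKU

end Groth.Agent.S10151
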