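import Groth.Statements.S10154
import Groth.Agent.H53.LinTopBasic

set_option autoImplicit false
universe u v w
open LinTop

namespace Groth.Agent.S10154

open Groth.Agent.H53 in
/-- Let φ : A → B be a taut homomorphism of linearly topologized rings. If A is pre-admissible, then B
is pre-admissible. -/
theorem result
    (A : Type u) [CommRing A] [TopologicalSpace A] [IsTopologicalRing A] [IsLinearTopology A A]
    (B : Type v) [CommRing B] [TopologicalSpace B] [IsTopologicalRing B] [IsLinearTopology B B]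
    (φ : A →+* B) (hφ : LinTop.IsTaut φ) (hA : LinTop.IsPreadmissible A) :
    LinTop.IsPreadmissible B := by
  obtain ⟨-, I, hIo, hIn⟩ := hA
  obtain ⟨hc, h2, h3⟩ := hφ
  refine ⟨inferInstance, (I.map φ).closure, h2 I hIo, fun U hU => ?_⟩
  obtain ⟨K, hK, hKU⟩ := (IsLinearTopology.hasBasis_open_ideal (R := B)).mem_iff.mp hU
  obtain ⟨I', hI'o, hI'K⟩ := h3 K (hK.mem_nhds K.zero_mem)
  obtain ⟨n, hn0, hn⟩ := hIn I' (hI'o.mem_nhds I'.zero_mem)
  refine ⟨n, hn0, subset_trans ?_ hKU⟩
  have h4 : (I.map φ).closure ^ n ≤ ((I.map φ) ^ n).closure := closure_pow_le _ _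
  have h5 : ((I.map φ) ^ n).closure ≤ (I'.map φ).closure := by
    apply ideal_closure_mono
    rw [← Ideal.map_pow]
    exact Ideal.map_mono hn
  exact fun x hx => hI'K (h5 (h4 hx))

end Groth.Agent.S10154
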