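import Groth.Statements.S10155
import Groth.Agent.H53.LinTopDense

set_option autoImplicit false
universe u v w
open LinTop

namespace Groth.Agent.S10155

open Groth.Agent.H53 UniformSpace in
/-- Let φ : A → B be a taut homomorphism of linearly topologized rings with dense image. Assume A is
Hausdorff and complete with a countable fundamental system of open ideals and B is Hausdorff. Then φ
is surjective and open, so that B is the quotient of A by the closed ideal ker φ with the quotient
topology, and B is complete. -/
theorem result
    (A : Type u) [CommRing A] [UniformSpace A] [IsUniformAddGroup A] [IsTopologicalRing A]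
    [IsLinearTopology A A] [T2Space A] [CompleteSpace A] (hA : (nhds (0 : A)).IsCountablyGenerated)
    (B : Type v) [CommRing B] [UniformSpace B] [IsUniformAddGroup B] [IsTopologicalRing B]
    [IsLinearTopology B B] [T2Space B]
    (φ : A →+* B) (hφ : LinTop.IsTaut φ) (hd : DenseRange φ) :
    Function.Surjective φ ∧ IsOpenQuotientMap φ ∧ CompleteSpace B := by
  have hsurj := surjective_of_isTaut_of_denseRange hA φ hφ hd
  refine ⟨hsurj, ⟨hsurj, hφ.1, isOpenMap_of_isTaut_of_denseRange hA φ hφ hd⟩, ?_⟩
  -- completeness of `B`: the composite `A → B → B^` is taut with dense image, hence surjective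
  let ι : B →+* Completion B := Completion.coeRingHom
  have hι : LinTop.IsTaut ι := isTaut_coeRingHom
  have hcomp : LinTop.IsTaut (ι.comp φ) := isTaut_comp hφ hι
  have hdcomp : DenseRange (ι.comp φ) := by
    have : DenseRange ((fun b : B => (b : Completion B)) ∘ φ) :=
      Completion.denseRange_coe.comp hd (Completion.continuous_coe B)
    exact this
  have hsurj2 := surjective_of_isTaut_of_denseRange hA (ι.comp φ) hcomp hdcomp
  have hιsurj : Function.Surjective (fun b : B => (b : Completion B)) := by
    intro y
    obtain ⟨a, ha⟩ := hsurj2 y
    exact ⟨φ a, ha⟩
  exact ((Completion.isUniformInducing_coe B).completeSpace_congr hιsurj).mpr inferInstance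

end Groth.Agent.S10155
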