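import Groth.Statements.S10156
import Groth.Agent.H53.LinTopBasic

set_option autoImplicit false
universe u v w
open LinTop

namespace Groth.Agent.S10156

open Groth.Agent.H53 in
/-- Given pre-adic rings A, B, C and continuous ring maps ψ : B → C and φ : A → B, adicness of the
composite A → C implies that ψ is adic. -/
theorem result
    (A : Type u) [CommRing A] [TopologicalSpace A] [IsTopologicalRing A] (hA : LinTop.IsPreadic A)
    (B : Type v) [CommRing B] [TopologicalSpace B] [IsTopologicalRing B] (hB : LinTop.IsPreadic B)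
    (C : Type w) [CommRing C] [TopologicalSpace C] [IsTopologicalRing C] (hC : LinTop.IsPreadic C)
    (φ : A →+* B) (ψ : B →+* C) (hφ : Continuous φ) (hψ : Continuous ψ)
    (h : LinTop.IsAdicHom (ψ.comp φ)) : LinTop.IsAdicHom ψ := by
  obtain ⟨I, ⟨hIo, hIn⟩, hadic⟩ := h
  obtain ⟨J0, hJ0⟩ := hB
  have hadic' := isAdic_iff.mp hadic
  have hJ0' := isAdic_iff.mp hJ0
  have hJ0o : IsOpen (J0 : Set B) := by simpa using hJ0'.1 1
  -- `(I.map φ)^n ≤ J0`
  obtain ⟨n, -, hn⟩ := hIn (J0.comap φ)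
    ((isOpen_comap φ hφ J0 hJ0o).mem_nhds (J0.comap φ).zero_mem)
  have hn' : (I.map φ) ^ n ≤ J0 := by
    rw [← Ideal.map_pow, Ideal.map_le_iff_le_comap]
    exact hn
  -- `J0^k ≤ ψ⁻¹(I C)`
  have hICo : IsOpen ((I.map (ψ.comp φ) : Ideal C) : Set C) := by simpa using hadic'.1 1
  obtain ⟨k, hk⟩ := hJ0'.2 ((I.map (ψ.comp φ)).comap ψ)
    ((isOpen_comap ψ hψ _ hICo).mem_nhds (Ideal.zero_mem _))
  have hk' : (J0 ^ (k + 1)).map ψ ≤ I.map (ψ.comp φ) := by
    rw [Ideal.map_le_iff_le_comap]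
    exact (Ideal.pow_le_pow_right (Nat.le_succ k)).trans hk
  refine ⟨J0 ^ (k + 1) ⊔ I.map φ, ⟨?_, fun U hU => ?_⟩, ?_⟩
  · exact ideal_isOpen_mono le_sup_left (hJ0'.1 (k + 1))
  · obtain ⟨M, hM⟩ := hJ0'.2 U hU
    refine ⟨(M + 1) + n * (M + 1), by omega, subset_trans ?_ hM⟩
    have h1 : (J0 ^ (k + 1) ⊔ I.map φ) ^ ((M + 1) + n * (M + 1)) ≤
        (J0 ^ (k + 1)) ^ (M + 1) ⊔ (I.map φ) ^ (n * (M + 1)) :=
      Ideal.sup_pow_add_le_pow_sup_pow
    have h2 : (J0 ^ (k + 1)) ^ (M + 1) ≤ J0 ^ M := by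
      rw [← pow_mul]
      apply Ideal.pow_le_pow_right
      nlinarith
    have h3 : (I.map φ) ^ (n * (M + 1)) ≤ J0 ^ M := by
      rw [pow_mul]
      exact (Ideal.pow_right_mono hn' (M + 1)).trans (Ideal.pow_le_pow_right (Nat.le_succ M))
    exact h1.trans (sup_le h2 h3)
  · have : (J0 ^ (k + 1) ⊔ I.map φ).map ψ = I.map (ψ.comp φ) := by
      rw [Ideal.map_sup, Ideal.map_map]
      exact sup_eq_right.mpr hk'
    rw [this]
    exact hadic

end Groth.Agent.S10156
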