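import Groth.Statements.S10157
import Groth.Agent.H53.LinTopBasic

set_option autoImplicit false
universe u v w
open LinTop

namespace Groth.Agent.S10157

open Groth.Agent.H53 in
/-- A continuous adic homomorphism φ : A → B between pre-adic topological rings is taut. -/
theorem result
    (A : Type u) [CommRing A] [TopologicalSpace A] [IsTopologicalRing A] (hA : LinTop.IsPreadic A)
    (B : Type v) [CommRing B] [TopologicalSpace B] [IsTopologicalRing B] (hB : LinTop.IsPreadic B)
    (φ : A →+* B) (hφ : Continuous φ) (h : LinTop.IsAdicHom φ) : LinTop.IsTaut φ := by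
  obtain ⟨I, ⟨hIo, hIn⟩, hadic⟩ := h
  rw [isAdic_iff] at hadic
  refine ⟨hφ, fun I' hI' => ?_, fun U hU => ?_⟩
  · obtain ⟨n, -, hn⟩ := hIn I' (hI'.mem_nhds I'.zero_mem)
    have h1 : (I.map φ) ^ n ≤ (I'.map φ).closure := by
      rw [← Ideal.map_pow]
      exact (Ideal.map_mono hn).trans (ideal_le_closure _)
    exact ideal_isOpen_mono h1 (hadic.1 n)
  · obtain ⟨n, hn⟩ := hadic.2 U hU
    refine ⟨I ^ n, isOpen_pow_of_isPreadic hA I hIo n, subset_trans ?_ hn⟩
    rw [Ideal.map_pow, ← Ideal.coe_closure, ideal_closure_eq_of_isOpen _ (hadic.1 n)]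

end Groth.Agent.S10157
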