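import Groth.Statements.S10165
import Groth.Agent.H53.LinTopBasic

set_option autoImplicit false
universe u v w
open LinTop

namespace Groth.Agent.S10165

open Groth.Agent.H53 in
/-- Let φ : A → B be a taut homomorphism of linearly topologized rings. If A is weakly pre-adic, then B
is weakly pre-adic. -/
theorem result
    (A : Type u) [CommRing A] [TopologicalSpace A] [IsTopologicalRing A] [IsLinearTopology A A]
    (B : Type v) [CommRing B] [TopologicalSpace B] [IsTopologicalRing B] [IsLinearTopology B B]
    (φ : A →+* B) (hφ : LinTop.IsTaut φ) (hA : LinTop.IsWeaklyPreadic A) :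
    LinTop.IsWeaklyPreadic B := by
  obtain ⟨-, I, hIo, hIn⟩ := hA
  obtain ⟨hc, h2, h3⟩ := hφ
  have key : ∀ n : ℕ, (((I.map φ) ^ n : Ideal B).closure) = (((I ^ n).closure.map φ).closure) := by
    intro n
    rw [closure_map_closure φ hc, Ideal.map_pow]
  refine ⟨inferInstance, I.map φ, fun n => ?_, fun U hU => ?_⟩
  · have := h2 (I ^ n).closure (hIo n)
    rw [← Ideal.coe_closure, ← key n] at this
    exact this
  · obtain ⟨I', hI'o, hI'U⟩ := h3 U hU
    obtain ⟨n, hn⟩ := hIn I' (hI'o.mem_nhds I'.zero_mem)
    refine ⟨n, subset_trans ?_ hI'U⟩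
    have h5 : ((I.map φ) ^ n).closure ≤ (I'.map φ).closure := by
      rw [key n]
      apply ideal_closure_mono
      exact Ideal.map_mono hn
    exact h5

end Groth.Agent.S10165
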