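import Groth.Statements.S10159
import Groth.Agent.H53.LinTopAdic
import Groth.Agent.S10165

set_option autoImplicit false
universe u v w
open LinTop

namespace Groth.Agent.S10159

open Groth.Agent.H53 in
/-- For a ring A carrying a linear topology, the following four conditions are equivalent: (1) A is
weakly pre-adic; (2) there exist a pre-adic topological ring A' and a taut continuous ring
homomorphism A' → A (A' is taken in the universe of A, which suffices since A with an adic topology
serves); (3) A has an ideal of definition, and for at least one ideal of definition I every closure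
cl(I^n) with n ≥ 1 is open; (4) A has an ideal of definition, and for each of its ideals of
definition I every closure cl(I^n) with n ≥ 1 is open. -/
theorem result
    (A : Type u) [CommRing A] [TopologicalSpace A] [IsTopologicalRing A] [IsLinearTopology A A] :
    List.TFAE [LinTop.IsWeaklyPreadic A,
      ∃ (A' : Type u) (_ : CommRing A') (_ : TopologicalSpace A') (_ : IsTopologicalRing A')
        (φ : A' →+* A), LinTop.IsPreadic A' ∧ LinTop.IsTaut φ,
      LinTop.IsPreadmissible A ∧ ∃ I : Ideal A, LinTop.IsIdealOfDefinition A I ∧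
        ∀ n : ℕ, 0 < n → IsOpen (closure ((I ^ n : Ideal A) : Set A)),
      LinTop.IsPreadmissible A ∧ ∀ I : Ideal A, LinTop.IsIdealOfDefinition A I →
        ∀ n : ℕ, 0 < n → IsOpen (closure ((I ^ n : Ideal A) : Set A))] := by
  tfae_have 1 → 2 := by
    rintro ⟨-, I, hI⟩
    have hW : IsWPWitness I := hI
    refine ⟨A, inferInstance, I.adicTopology, I.nonarchimedean.toIsTopologicalRing,
      RingHom.id A, ⟨I, rfl⟩, ?_⟩
    refine @isTaut_of_isAdic_of_isWPWitness A _ I.adicTopology
      I.nonarchimedean.toIsTopologicalRing A _ _ _ (RingHom.id A) I rfl ?_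
    rw [Ideal.map_id]
    exact hW
  tfae_have 2 → 1 := by
    rintro ⟨A', _, _, _, φ, ⟨J, hJ⟩, hφ⟩
    have : IsLinearTopology A' A' := isLinearTopology_of_isAdic hJ
    exact Groth.Agent.S10165.result A' A φ hφ ⟨inferInstance, J, isWPWitness_of_isAdic hJ⟩
  tfae_have 1 → 4 := by
    rintro ⟨hlin, I, hI⟩
    have hW : IsWPWitness I := hI
    exact ⟨⟨hlin, I.closure, hW.isIdealOfDefinition_closure⟩,
      fun J hJ n _ => hW.isOpen_closure_pow J hJ n⟩
  tfae_have 4 → 3 := by
    rintro ⟨hP, h⟩
    obtain ⟨I, hI⟩ := hP.2
    exact ⟨hP, I, hI, h I hI⟩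
  tfae_have 3 → 1 := by
    rintro ⟨-, I, hI, ho⟩
    exact ⟨inferInstance, I, isWPWitness_of_isIdealOfDefinition hI ho⟩
  tfae_finish

end Groth.Agent.S10159
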