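import Groth.Statements.S10164
import Groth.Agent.H53.LinTopFG

set_option autoImplicit false
universe u v w
open LinTop

namespace Groth.Agent.S10164

open Groth.Agent.H53 in
/-- Let A be weakly adic and I an ideal of definition of A with I/I₂ finitely generated, where I₂
denotes the closure of I^2 (here: I maps onto a finitely generated ideal of A/I₂). Then A is adic,
and some finitely generated ideal of A is an ideal of definition. -/
theorem result
    (A : Type u) [CommRing A] [UniformSpace A] [IsUniformAddGroup A] [IsTopologicalRing A] (hA : LinTop.IsWeaklyAdic A)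
    (I : Ideal A) (hI : LinTop.IsIdealOfDefinition A I)
    (hfg : (I.map (Ideal.Quotient.mk ((I ^ 2).closure))).FG) :
    LinTop.IsAdicRing A ∧ ∃ J : Ideal A, LinTop.IsIdealOfDefinition A J ∧ J.FG := by
  obtain ⟨⟨hlin, I0, hI0⟩, hT2, hC⟩ := hA
  have hW0 : IsWPWitness I0 := hI0
  have hW : IsWPWitness I :=
    isWPWitness_of_isIdealOfDefinition hI (fun n _ => hW0.isOpen_closure_pow I hI n)
  obtain ⟨J, hJfg, hJI, hIJ⟩ := exists_fg_le_sup_of_fg_map_mk I ((I ^ 2).closure) hfg
  have hWJ : IsWPWitness J := hW.of_le_sup hJI hIJ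
  have hadic : IsAdic J := isAdic_of_fg_of_isWPWitness J hJfg hWJ
  exact ⟨⟨⟨J, hadic⟩, hT2, hC⟩, J, isIdealOfDefinition_of_isAdic hadic, hJfg⟩

end Groth.Agent.S10164
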