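import Groth.Statements.S10166
import Groth.Agent.H53.LinTopBasic

set_option autoImplicit false
universe u v w
open LinTop

namespace Groth.Agent.S10166

open Groth.Agent.H53 in
/-- Let φ : A → B be a taut homomorphism of linearly topologized rings such that for every open ideal I
of A, with J the closure of φ(I)B, the induced map A/I → B/J is faithfully flat. If B has a
countable fundamental system of open ideals, then so does A. -/
theorem result
    (A : Type u) [CommRing A] [TopologicalSpace A] [IsTopologicalRing A] [IsLinearTopology A A]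
    (B : Type v) [CommRing B] [TopologicalSpace B] [IsTopologicalRing B] [IsLinearTopology B B]
    (φ : A →+* B) (hφ : LinTop.IsTautFFlat φ) (hB : (nhds (0 : B)).IsCountablyGenerated) :
    (nhds (0 : A)).IsCountablyGenerated := by
  obtain ⟨x, hx⟩ := (nhds (0 : B)).exists_antitone_basis
  have hx' : ∀ n, ∃ I : Ideal A, IsOpen (I : Set A) ∧
      closure (((I.map φ : Ideal B)) : Set B) ⊆ x n := fun n => hφ.1.2.2 (x n) (hx.mem n)
  choose I hIo hIx using hx'
  have hbasis : (nhds (0 : A)).HasBasis (fun _ : ℕ => True) (fun n => ((I n : Ideal A) : Set A)) := by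
    constructor
    intro U
    constructor
    · intro hU
      obtain ⟨K, hK, hKU⟩ := (IsLinearTopology.hasBasis_open_ideal (R := A)).mem_iff.mp hU
      have hJ := hφ.1.2.1 K hK
      obtain ⟨n, -, hn⟩ := hx.1.mem_iff.mp (hJ.mem_nhds (subset_closure (K.map φ).zero_mem))
      refine ⟨n, trivial, subset_trans ?_ hKU⟩
      intro a ha
      have h1 : φ a ∈ (K.map φ).closure :=
        hn (hIx n (subset_closure (Ideal.mem_map_of_mem φ ha)))
      have h2 : a ∈ (K.map φ).closure.comap φ := h1
      rwa [comap_closure_map_eq_of_isTautFFlat hφ K hK] at h2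
    · rintro ⟨n, -, hn⟩
      exact Filter.mem_of_superset ((hIo n).mem_nhds (I n).zero_mem) hn
  exact hbasis.isCountablyGenerated

end Groth.Agent.S10166
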