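import Groth.Statements.S10167
import Groth.Agent.H53.LinTopBasic

set_option autoImplicit false
universe u v w
open LinTop

namespace Groth.Agent.S10167

open Groth.Agent.H53 in
/-- Let φ : A → B be a taut homomorphism of linearly topologized rings such that for every open ideal I
of A the induced ring map A/I → B/J, where J denotes the closure of φ(I)B, is faithfully flat. If B
has a weak ideal of definition (B is weakly pre-admissible), then so does A. -/
theorem result
    (A : Type u) [CommRing A] [TopologicalSpace A] [IsTopologicalRing A] [IsLinearTopology A A]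
    (B : Type v) [CommRing B] [TopologicalSpace B] [IsTopologicalRing B] [IsLinearTopology B B]
    (φ : A →+* B) (hφ : LinTop.IsTautFFlat φ) (hB : LinTop.IsWeaklyPreadmissible B) :
    LinTop.IsWeaklyPreadmissible A := by
  obtain ⟨-, J, hJo, hJn⟩ := hB
  refine ⟨inferInstance, J.comap φ, isOpen_comap φ hφ.1.1 J hJo, fun f hf => ?_⟩
  rw [isTopologicallyNilpotent_iff_forall_radical]
  intro K hK
  have hL := hφ.1.2.1 K hK
  obtain ⟨n, hn⟩ := (hJn (φ f) hf).exists_pow_mem_of_mem_nhds
    (hL.mem_nhds (subset_closure (K.map φ).zero_mem))
  refine ⟨n, ?_⟩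
  have h2 : f ^ n ∈ (K.map φ).closure.comap φ := by
    rw [Ideal.mem_comap, map_pow]
    exact hn
  rwa [comap_closure_map_eq_of_isTautFFlat hφ K hK] at h2

end Groth.Agent.S10167
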