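import Groth.Statements.S10170
import Groth.Agent.H53.LinTopDescent
import Groth.Agent.H53.LinTopUnits
import Groth.Agent.H53.LinTopFG

set_option autoImplicit false
universe u v w
open LinTop

namespace Groth.Agent.S10170

open Groth.Agent.H53 in
/-- Let φ : A → B be a taut homomorphism of linearly topologized rings such that for every open ideal I
of A the induced ring map A/I → B/J, where J denotes the closure of φ(I)B, is faithfully flat.
Suppose A is Hausdorff and complete, and B is adic with some finitely generated ideal of definition.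
Then A is adic, and some finitely generated ideal of A is an ideal of definition. -/
theorem result
    (A : Type u) [CommRing A] [UniformSpace A] [IsUniformAddGroup A] [IsTopologicalRing A] [IsLinearTopology A A] [T2Space A] [CompleteSpace A]
    (B : Type v) [CommRing B] [UniformSpace B] [IsUniformAddGroup B] [IsTopologicalRing B] (hB : LinTop.IsAdicRing B)
    (hJ : ∃ J : Ideal B, LinTop.IsIdealOfDefinition B J ∧ J.FG)
    (φ : A →+* B) (hφ : LinTop.IsTautFFlat φ) :
    LinTop.IsAdicRing A ∧ ∃ I : Ideal A, LinTop.IsIdealOfDefinition A I ∧ I.FG := by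
  obtain ⟨hBpre, hBT2, hBC⟩ := hB
  obtain ⟨J', hJ'⟩ := id hBpre
  have hlinB : IsLinearTopology B B := isLinearTopology_of_isAdic hJ'
  obtain ⟨J0, hJ0, hJ0fg⟩ := hJ
  -- `B` is weakly preadic with witness `J0`
  have hW0 : IsWPWitness J0 := isWPWitness_of_isPreadic_of_isIdealOfDefinition hBpre hJ0
  have hJ0open : ∀ n, IsOpen ((J0 ^ n : Ideal B) : Set B) := isOpen_pow_of_isPreadic hBpre J0 hJ0.1
  -- hence `A` is weakly preadic, and has an ideal of definition `I`
  obtain ⟨-, I1, hI1⟩ := isWeaklyPreadic_of_isTautFFlat hφ ⟨hlinB, J0, hW0⟩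
  have hWI1 : IsWPWitness I1 := hI1
  have hI : LinTop.IsIdealOfDefinition A I1.closure := hWI1.isIdealOfDefinition_closure
  set I := I1.closure with hIdef
  -- `J = closure (I B)` is open, so contains `J0 ^ N`
  have hJopen := hφ.1.2.1 I hI.1
  obtain ⟨N, hNpos, hN⟩ := hJ0.2 _ (hJopen.mem_nhds (subset_closure (Ideal.zero_mem _)))
  -- `closure (I B) ≤ I B ⊔ J0^N * J0^N`
  have hcl : (I.map φ).closure ≤ I.map φ ⊔ J0 ^ N * J0 ^ N := by
    have hopen : IsOpen ((I.map φ ⊔ J0 ^ N * J0 ^ N : Ideal B) : Set B) := by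
      rw [← pow_add]
      exact ideal_isOpen_mono le_sup_right (hJ0open _)
    have := ideal_closure_mono (le_sup_left : I.map φ ≤ I.map φ ⊔ J0 ^ N * J0 ^ N)
    rwa [ideal_closure_eq_of_isOpen _ hopen] at this
  have hK : J0 ^ N ≤ I.map φ ⊔ J0 ^ N * J0 ^ N := fun x hx => hcl (hN hx)
  obtain ⟨I', hI'fg, hI'I, hKI'⟩ := exists_fg_le_map_sup φ I (J0 ^ N) (J0 ^ N * J0 ^ N)
    (hJ0fg.pow) hK
  -- Nakayama
  have hnil : ∀ x ∈ J0 ^ N, IsTopologicallyNilpotent x := by
    intro x hx
    have hx0 : x ∈ J0 := Ideal.pow_le_self (Nat.pos_iff_ne_zero.mp hNpos) hx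
    intro U hU
    obtain ⟨n, -, hn⟩ := hJ0.2 U hU
    rw [Filter.mem_map, Filter.mem_atTop_sets]
    refine ⟨n, fun m hm => hn ?_⟩
    exact Ideal.pow_le_pow_right hm (Ideal.pow_mem_pow hx0 m)
  have hjac : J0 ^ N ≤ Ideal.jacobson ⊥ :=
    le_jacobson_bot_of_forall_isTopologicallyNilpotent _ hnil
  have hle : J0 ^ N ≤ I'.map φ :=
    Submodule.le_of_le_smul_of_le_jacobson_bot (hJ0fg.pow) hjac hKI'
  -- `I'` is a witness of weak preadicness of `A`
  have hWI' : IsWPWitness I' := by
    refine ⟨fun n => ?_, fun U hU => ?_⟩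
    · apply isOpen_closure_of_isOpen_closure_map hφ (I' ^ n)
      have h1 : J0 ^ (N * n) ≤ ((I' ^ n).map φ).closure := by
        rw [pow_mul, Ideal.map_pow]
        exact (Ideal.pow_right_mono hle n).trans (ideal_le_closure _)
      exact ideal_isOpen_mono h1 (hJ0open _)
    · obtain ⟨L, hL, hLU⟩ := (IsLinearTopology.hasBasis_open_ideal (R := A)).mem_iff.mp hU
      obtain ⟨n, -, hn⟩ := hI.2 L (hL.mem_nhds L.zero_mem)
      refine ⟨n, subset_trans ?_ hLU⟩
      have h1 : (I' ^ n).closure ≤ L.closure :=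
        ideal_closure_mono ((Ideal.pow_right_mono hI'I n).trans hn)
      rwa [ideal_closure_eq_of_isOpen L hL] at h1
  have hadic : IsAdic I' := isAdic_of_fg_of_isWPWitness I' hI'fg hWI'
  exact ⟨⟨⟨I', hadic⟩, inferInstance, inferInstance⟩, I', isIdealOfDefinition_of_isAdic hadic, hI'fg⟩

end Groth.Agent.S10170
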