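import Groth.Statements.S10171
import Groth.Agent.H53.ComplQuotMod

set_option autoImplicit false
universe u v w
open LinTop

namespace Groth.Agent.S10171

open Groth.Agent.H53 in
/-- Let M be a linearly topologized module over a ring R and N a submodule. Write M^ for the separated
completion of M and (M/N)^ for that of M/N (quotient topology, additive uniform structure). Then the
kernel of the induced map M^ → (M/N)^ is the closure of the image of N in M^; that closure is the
completion of N, so this is the exactness of 0 → N^ → M^ → (M/N)^ at M^. -/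
theorem result
    {R : Type u} [Ring R] {M : Type v} [AddCommGroup M] [Module R M] [UniformSpace M]
    [IsUniformAddGroup M] [IsLinearTopology R M] (N : Submodule R M) :
    (@UniformSpace.Completion.map M _ (M ⧸ N.toAddSubgroup)
        (IsTopologicalAddGroup.rightUniformSpace (M ⧸ N.toAddSubgroup))
        (QuotientAddGroup.mk' N.toAddSubgroup)) ⁻¹' {0} =
      closure (Set.range (fun n : N => ((n : M) : UniformSpace.Completion M))) := by
  letI : UniformSpace (M ⧸ N.toAddSubgroup) :=
    IsTopologicalAddGroup.rightUniformSpace (M ⧸ N.toAddSubgroup)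
  haveI : IsUniformAddGroup (M ⧸ N.toAddSubgroup) := isUniformAddGroup_of_addCommGroup
  haveI : NonarchimedeanAddGroup M := nonarchimedeanAddGroup_of_isLinearTopology R
  have hc : Continuous (QuotientAddGroup.mk' N.toAddSubgroup) := continuous_quot_mk
  have ho : IsOpenMap (QuotientAddGroup.mk' N.toAddSubgroup) := QuotientAddGroup.isOpenMap_coe
  have key := ker_completion_eq (QuotientAddGroup.mk' N.toAddSubgroup) hc ho
  have h1 : ((AddMonoidHom.completion (QuotientAddGroup.mk' N.toAddSubgroup) hc).ker :
      Set (UniformSpace.Completion M)) =
      (UniformSpace.Completion.map (QuotientAddGroup.mk' N.toAddSubgroup)) ⁻¹' {0} := by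
    ext x
    simp only [SetLike.mem_coe, AddMonoidHom.mem_ker, Set.mem_preimage, Set.mem_singleton_iff]
    rfl
  have h2 : (fun g : M => (g : UniformSpace.Completion M)) ''
      ((QuotientAddGroup.mk' N.toAddSubgroup).ker : Set M) =
      Set.range (fun n : N => ((n : M) : UniformSpace.Completion M)) := by
    rw [QuotientAddGroup.ker_mk']
    ext x
    constructor
    · rintro ⟨m, hm, rfl⟩
      exact ⟨⟨m, hm⟩, rfl⟩
    · rintro ⟨n, rfl⟩
      exact ⟨n.1, n.2, rfl⟩
  rw [← h1, key, h2]

end Groth.Agent.S10171
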