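import Groth.Statements.S10173
import Groth.Agent.H53.ComplAdicMod

set_option autoImplicit false
universe u v w
open LinTop

namespace Groth.Agent.S10173

open Groth.Agent.H53 UniformSpace Topology in
/-- Let R be a commutative ring, I a finitely generated ideal and M a topological R-module (additive
uniform structure, each scalar acting uniformly continuously) having an open submodule M' whose
topology is the I-adic one, i.e. the I^n M' are open in M and form a fundamental system of
neighbourhoods of 0. Then the separated completion M^ has an open submodule whose topology is I-adic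
in the same sense, and for every n ≥ 1 the map M → M^/I^n M^ is surjective with kernel I^n M,
identifying M^/I^n M^ with M/I^n M. -/
theorem result
    {R : Type u} [CommRing R] (I : Ideal R) (hI : I.FG)
    {M : Type v} [AddCommGroup M] [Module R M] [UniformSpace M] [IsUniformAddGroup M]
    [UniformContinuousConstSMul R M]
    (M' : Submodule R M) (hopen : ∀ n : ℕ, IsOpen ((I ^ n • M' : Submodule R M) : Set M))
    (hbasis : ∀ U ∈ nhds (0 : M), ∃ n : ℕ, ((I ^ n • M' : Submodule R M) : Set M) ⊆ U) :
    (∃ M'' : Submodule R (UniformSpace.Completion M),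
        (∀ n : ℕ, IsOpen ((I ^ n • M'' : Submodule R (UniformSpace.Completion M)) :
          Set (UniformSpace.Completion M))) ∧
        ∀ U ∈ nhds (0 : UniformSpace.Completion M), ∃ n : ℕ,
          ((I ^ n • M'' : Submodule R (UniformSpace.Completion M)) :
            Set (UniformSpace.Completion M)) ⊆ U) ∧
      ∀ n : ℕ, 0 < n →
        Function.Surjective ((QuotientAddGroup.mk' (I ^ n • ⊤ : Submodule R (UniformSpace.Completion M)).toAddSubgroup).comp
          (UniformSpace.Completion.toCompl : M →+ UniformSpace.Completion M)) ∧
        ((QuotientAddGroup.mk' (I ^ n • ⊤ : Submodule R (UniformSpace.Completion M)).toAddSubgroup).comp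
          (UniformSpace.Completion.toCompl : M →+ UniformSpace.Completion M)).ker = (I ^ n • ⊤ : Submodule R M).toAddSubgroup := by
  have h : IsAdicOpenSub I M' := ⟨hopen, hbasis⟩
  have heq := h.smul_cloSubmodule_eq hI
  -- approximation of elements of the completion modulo an open submodule
  have happ : ∀ (n : ℕ) (x : Completion M), ∃ m : M,
      x - (m : Completion M) ∈ cloSubmodule (I ^ n • M') := by
    intro n x
    have h1 : (fun y => x - y) ⁻¹' (cloSubmodule (I ^ n • M') : Set (Completion M)) ∈ 𝓝 x := by
      have hcont : Continuous (fun y : Completion M => x - y) := continuous_const.sub continuous_id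
      apply hcont.continuousAt
      simp only [sub_self]
      exact (h.isOpen_cloSubmodule n).mem_nhds (Submodule.zero_mem _)
    obtain ⟨_, hg1, ⟨m, rfl⟩⟩ := mem_closure_iff_nhds.mp (Completion.denseRange_coe x) _ h1
    exact ⟨m, hg1⟩
  refine ⟨⟨cloSubmodule M', fun n => ?_, fun U hU => ?_⟩, fun n _ => ⟨?_, ?_⟩⟩
  · rw [heq n]
    exact h.isOpen_cloSubmodule n
  · obtain ⟨n, hn⟩ := h.exists_cloSubmodule_subset U hU
    exact ⟨n, by rw [heq n]; exact hn⟩
  · -- surjectivity
    intro q
    obtain ⟨x, rfl⟩ := QuotientAddGroup.mk'_surjective _ q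
    obtain ⟨m, hm⟩ := happ n x
    refine ⟨m, ?_⟩
    rw [AddMonoidHom.comp_apply, QuotientAddGroup.mk'_apply, QuotientAddGroup.mk'_apply,
      eq_comm, QuotientAddGroup.eq_iff_sub_mem]
    have h2 : cloSubmodule (I ^ n • M') ≤ I ^ n • (⊤ : Submodule R (Completion M)) := by
      rw [← heq n]
      exact Submodule.smul_mono le_rfl le_top
    exact h2 hm
  · -- kernel
    ext m
    rw [AddMonoidHom.mem_ker, AddMonoidHom.comp_apply, QuotientAddGroup.mk'_apply,
      QuotientAddGroup.eq_zero_iff]
    show (m : Completion M) ∈ I ^ n • (⊤ : Submodule R (Completion M)) ↔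
      m ∈ I ^ n • (⊤ : Submodule R M)
    constructor
    · intro hm
      -- the submodule `T`
      have hT : ∀ x ∈ I ^ n • (⊤ : Submodule R (Completion M)),
          ∃ y ∈ I ^ n • (⊤ : Submodule R M), x - (y : Completion M) ∈ cloSubmodule (I ^ n • M') := by
        intro x hx
        refine Submodule.smul_induction_on hx ?_ ?_
        · intro r hr x _
          obtain ⟨m', hm'⟩ := happ 0 x
          rw [pow_zero, Ideal.one_eq_top, Submodule.top_smul] at hm'
          refine ⟨r • m', Submodule.smul_mem_smul hr trivial, ?_⟩
          rw [Completion.coe_smul, ← smul_sub, ← heq n]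
          exact Submodule.smul_mem_smul hr hm'
        · rintro x y ⟨a, ha, hxa⟩ ⟨b, hb, hyb⟩
          refine ⟨a + b, Submodule.add_mem _ ha hb, ?_⟩
          have : x + y - ((a + b : M) : Completion M) =
              (x - (a : Completion M)) + (y - (b : Completion M)) := by
            rw [Completion.coe_add]; abel
          rw [this]
          exact Submodule.add_mem _ hxa hyb
      obtain ⟨y, hy, hmy⟩ := hT _ hm
      rw [← Completion.coe_sub, mem_cloSubmodule_iff,
        coe_mem_cloSub_iff (U := (I ^ n • M').toAddSubgroup) (h.1 n)] at hmy
      have h3 : m - y ∈ I ^ n • (⊤ : Submodule R M) :=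
        (Submodule.smul_mono le_rfl le_top : I ^ n • M' ≤ I ^ n • ⊤) hmy
      have := Submodule.add_mem _ h3 hy
      rwa [sub_add_cancel] at this
    · intro hm
      refine Submodule.smul_induction_on hm ?_ ?_
      · intro r hr x _
        rw [Completion.coe_smul]
        exact Submodule.smul_mem_smul hr trivial
      · intro x y hx hy
        rw [Completion.coe_add]
        exact Submodule.add_mem _ hx hy

end Groth.Agent.S10173
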