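import Groth.Statements.S10179
import Groth.Agent.H52.Top2

set_option autoImplicit false
universe u
open CategoryTheory CategoryTheory.Limits AlgebraicGeometry Topology TopologicalSpace
open AlgSp AlgSp.Points

namespace Groth.Agent.S10179

/-- For an algebraic space X over a scheme S, every point x of |X| has a fundamental system of
quasi-compact open neighbourhoods: every open subset of |X| containing x contains a quasi-compact
open subset containing x. In particular |X| is locally quasi-compact. -/
theorem result {S : Scheme.{u}} (X : AlgSp.Space S) (x : AlgSp.Points X.obj)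
    (W : Set (AlgSp.Points X.obj)) (hW : IsOpen W) (hx : x ∈ W) :
    ∃ V : Set (AlgSp.Points X.obj), IsOpen V ∧ IsCompact V ∧ x ∈ V ∧ V ⊆ W := by
  open Groth.Agent.H52 in
  obtain ⟨U, p, hpe, hps⟩ := X.property.atlas
  have hopen : IsOpenMap (AlgSp.Points.map p) := isOpenMap_points_of_etale p hpe
  obtain ⟨x', rfl⟩ := surjective_points_of_repWith_surjective p hps x
  obtain ⟨u, rfl⟩ := (AlgSp.Points.schemeEquiv U).surjective x'
  let f : ↥U.left → AlgSp.Points X.obj := AlgSp.Points.map p ∘ AlgSp.Points.ofScheme U
  have hfc : Continuous f :=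
    (AlgSp.Points.continuous_map p).comp (AlgSp.Points.schemeHomeo U).continuous
  have hfo : IsOpenMap f := hopen.comp (AlgSp.Points.schemeHomeo U).isOpenMap
  let W' : U.left.Opens := ⟨f ⁻¹' W, hW.preimage hfc⟩
  have hu : u ∈ W' := hx
  obtain ⟨O, hO, hmem, hOW⟩ := exists_isAffineOpen_mem_and_subset (x := u) (U := W') hu
  refine ⟨f '' (O : Set ↥U.left), hfo _ O.isOpen, hO.isCompact.image hfc, ⟨u, hmem, rfl⟩, ?_⟩
  rintro _ ⟨v, hv, rfl⟩
  exact hOW hv

end Groth.Agent.S10179
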