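import Groth.Statements.S10180
import Groth.Agent.H53.SpBasic

set_option autoImplicit false
universe u
open CategoryTheory CategoryTheory.Limits AlgebraicGeometry Topology TopologicalSpace
open AlgSp

namespace Groth.Agent.S10180

/-- An algebraic space X over a scheme S is quasi-compact if and only if there exist an affine scheme U
over S and a representable etale, representable surjective map h_U ⟶ X. -/
theorem result {S : Scheme.{u}} (X : AlgSp.Space S) :
    AlgSp.IsQuasiCompactSp X.obj ↔
      ∃ (U : Over S) (p : (AlgSp.yon S).obj U ⟶ X.obj),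
        IsAffine U.left ∧ AlgSp.RepWith @Etale p ∧ AlgSp.RepWith @Surjective p := by
  constructor
  · rintro ⟨U, p, hpe, hps, hU⟩
    have : CompactSpace ↥U.left := hU
    obtain ⟨U', π, haff, hπe, hπs⟩ := Groth.Agent.H53.exists_affine_etale_surjective U.left
    let W : Over S := Over.mk (π ≫ U.hom)
    let φ : W ⟶ U := Over.homMk π rfl
    refine ⟨W, (AlgSp.yon S).map φ ≫ p, haff, ?_, ?_⟩
    · exact (AlgSp.RepWith (S := S) @Etale).comp_mem _ _
        ((AlgSp.repWith_yon_map_iff _ φ).2 hπe) hpe
    · exact (AlgSp.RepWith (S := S) @Surjective).comp_mem _ _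
        ((AlgSp.repWith_yon_map_iff _ φ).2 hπs) hps
  · rintro ⟨U, p, haff, hpe, hps⟩
    exact ⟨U, p, hpe, hps, inferInstance⟩

end Groth.Agent.S10180
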