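import Groth.Statements.S10181
import Groth.Agent.H53.SpBasic

set_option autoImplicit false
universe u
open CategoryTheory CategoryTheory.Limits AlgebraicGeometry Topology TopologicalSpace
open AlgSp

namespace Groth.Agent.S10181

/-- Let X be an algebraic space over a scheme S and a : h_U ⟶ X a representable etale map from a scheme
U over S whose underlying scheme is separated. Then a is (representable and) separated, and the
scheme R = U ×_X U representing the fibre product h_U ×_X h_U is separated. -/
theorem result {S : Scheme.{u}} (X : AlgSp.Space S) {U : Over S}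
    (a : (AlgSp.yon S).obj U ⟶ X.obj) (ha : AlgSp.RepWith @Etale a) [U.left.IsSeparated] :
    AlgSp.RepWith @IsSeparated a ∧
      ∀ (R : Over S) (s t : R ⟶ U), IsPullback ((AlgSp.yon S).map t) ((AlgSp.yon S).map s) a a →
        R.left.IsSeparated := by
  refine ⟨⟨ha.rep, fun T V g fst snd sq => ?_⟩, fun R s t sq => ?_⟩
  · obtain ⟨fst', rfl⟩ := (AlgSp.yon S).map_surjective fst
    exact Groth.Agent.H53.isSeparated_snd_of_isPullback sq
  · have h1 : IsSeparated s.left := Groth.Agent.H53.isSeparated_snd_of_isPullback sq
    refine ⟨?_⟩
    have h2 : terminal.from R.left = s.left ≫ terminal.from U.left := (terminal.comp_from _).symm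
    rw [h2]
    infer_instance

end Groth.Agent.S10181
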