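import Groth.Statements.S10183
import Groth.Agent.H52.LqfDisc2

set_option autoImplicit false
universe u
open CategoryTheory CategoryTheory.Limits AlgebraicGeometry Topology TopologicalSpace
open AlgSp

namespace Groth.Agent.S10183

/-- Let X be an algebraic space over a scheme S, a : h_U ⟶ X a representable etale map from a scheme U
over S, and R a scheme over S with h_R = h_U ×_X h_U whose two projections s, t : R ⟶ U are
quasi-compact (for instance if a is quasi-compact). Then the maps |U| → |X| and |R| → |X| have
finite fibres. -/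
theorem result {S : Scheme.{u}} (X : AlgSp.Space S) {R U : Over S}
    (a : (AlgSp.yon S).obj U ⟶ X.obj) (ha : AlgSp.RepWith @Etale a) (s t : R ⟶ U)
    (hR : IsPullback ((AlgSp.yon S).map t) ((AlgSp.yon S).map s) a a)
    [QuasiCompact s.left] [QuasiCompact t.left] (x : AlgSp.Points X.obj) :
    (AlgSp.Points.ofPt a ⁻¹' {x}).Finite ∧
      (AlgSp.Points.ofPt ((AlgSp.yon S).map t ≫ a) ⁻¹' {x}).Finite := by
  have hse : Etale s.left := ha.2 a _ s hR
  have hte : Etale t.left := ha.2 a _ t hR.flip
  have hslqf : LocallyQuasiFinite s.left :=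
    Groth.Agent.H53.locallyQuasiFinite_of_formallyUnramified s.left
  have htlqf : LocallyQuasiFinite t.left :=
    Groth.Agent.H53.locallyQuasiFinite_of_formallyUnramified t.left
  have h1 : (AlgSp.Points.ofPt a ⁻¹' {x}).Finite := by
    by_cases hne : (AlgSp.Points.ofPt a ⁻¹' {x}).Nonempty
    · obtain ⟨u0, hu0⟩ := hne
      refine ((s.left.finite_preimage_singleton u0).image t.left).subset ?_
      intro u hu
      obtain ⟨pr, hp1, hp2⟩ := Groth.Agent.H52.exists_point_of_isPullback hR
        (AlgSp.Points.ofScheme U u) (AlgSp.Points.ofScheme U u0) (by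
          rw [← AlgSp.Points.ofPt_eq_map_ofScheme, ← AlgSp.Points.ofPt_eq_map_ofScheme]
          exact hu.trans hu0.symm)
      obtain ⟨r, rfl⟩ := (AlgSp.Points.schemeEquiv R).surjective pr
      refine ⟨r, ?_, ?_⟩
      · apply (AlgSp.Points.schemeEquiv U).injective
        exact (Groth.Agent.H52.points_map_ofScheme s r).symm.trans hp2
      · apply (AlgSp.Points.schemeEquiv U).injective
        exact (Groth.Agent.H52.points_map_ofScheme t r).symm.trans hp1
    · rw [Set.not_nonempty_iff_eq_empty] at hne
      rw [hne]
      exact Set.finite_empty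
  refine ⟨h1, ?_⟩
  have : AlgSp.Points.ofPt ((AlgSp.yon S).map t ≫ a) ⁻¹' {x} =
      t.left ⁻¹' (AlgSp.Points.ofPt a ⁻¹' {x}) := by
    ext r
    simp only [Set.mem_preimage, Set.mem_singleton_iff, Groth.Agent.H52.ofPt_yon_map_comp]
  rw [this]
  exact h1.preimage' fun u _ => t.left.finite_preimage_singleton u

end Groth.Agent.S10183
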