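import Groth.Statements.S10188
import Groth.Agent.H53.SpTop

set_option autoImplicit false
universe u
open CategoryTheory CategoryTheory.Limits AlgebraicGeometry Topology TopologicalSpace
open AlgSp

namespace Groth.Agent.S10188

/-- Let P be a property of schemes that is local in the etale topology (for every scheme V and every
etale covering family of V, V has P if and only if all members have P), and let X be an algebraic
space over a scheme S. Then X has P etale locally (some surjective etale chart from a scheme with P)
if and only if every scheme admitting a representable etale map to X has P. -/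
theorem result {S : Scheme.{u}} (P : Scheme.{u} → Prop)
    (hP : ∀ (V : Scheme.{u}) (𝒰 : Scheme.Cover.{u} (Scheme.precoverage @Etale) V), P V ↔ ∀ i, P (𝒰.X i))
    (X : AlgSp.Space S) :
    AlgSp.EtaleLocally P X.obj ↔
      ∀ (U : Over S) (a : (AlgSp.yon S).obj U ⟶ X.obj), AlgSp.RepWith @Etale a → P U.left := by
  constructor
  · rintro ⟨W, p, hpe, hps, hPW⟩ U a ha
    have hr : AlgSp.Representable p := hpe.rep
    have sq := hr.isPullback a
    obtain ⟨fst', hfst'⟩ := (AlgSp.yon S).map_surjective (hr.fst a)
    rw [← hfst'] at sq
    have h1 : Etale (hr.snd a).left := hpe.property a _ _ sq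
    have h2 : Surjective (hr.snd a).left := hps.property a _ _ sq
    have h3 : Etale fst'.left := ha.property p _ _ sq.flip
    -- P W → P T
    let 𝒰 : Scheme.Cover.{u} (Scheme.precoverage @Etale) W.left :=
      Scheme.Cover.mkOfCovers (Option PUnit.{u + 1})
        (fun i => match i with | none => W.left | some _ => (hr.pullback a).left)
        (fun i => match i with | none => 𝟙 _ | some _ => fst'.left)
        (fun x => ⟨none, x, rfl⟩)
        (fun i => match i with | none => (inferInstance : Etale (𝟙 W.left)) | some _ => h3)
    have hPT : P (hr.pullback a).left := ((hP W.left 𝒰).1 hPW) (some PUnit.unit)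
    let 𝒱 : Scheme.Cover.{u} (Scheme.precoverage @Etale) U.left :=
      Scheme.Cover.mkOfCovers PUnit.{u + 1}
        (fun _ => (hr.pullback a).left)
        (fun _ => (hr.snd a).left)
        (fun x => ⟨PUnit.unit, (hr.snd a).left.surjective x⟩)
        (fun _ => h1)
    exact (hP U.left 𝒱).2 (fun _ => hPT)
  · intro h
    obtain ⟨U, p, hpe, hps⟩ := X.property.atlas
    exact ⟨U, p, hpe, hps, h U p hpe⟩

end Groth.Agent.S10188
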