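import Groth.Statements.S10210
import Groth.Agent.H53.EtaleMor

set_option autoImplicit false
universe u
open CategoryTheory CategoryTheory.Limits AlgebraicGeometry Topology TopologicalSpace
open AlgSp

namespace Groth.Agent.S10210

/-- Let X, Y, Z be algebraic spaces over a scheme S, g : X ⟶ Z and h : Y ⟶ Z etale morphisms and f : X ⟶
Y a morphism with f ≫ h = g. Then f is etale. -/
theorem result {S : Scheme.{u}} {X Y Z : AlgSp.Space S} (f : X ⟶ Y) (h : Y ⟶ Z) (g : X ⟶ Z)
    (w : f ≫ h = g) (hg : AlgSp.IsEtaleMor g.hom) (hh : AlgSp.IsEtaleMor h.hom) :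
    AlgSp.IsEtaleMor f.hom := by
  obtain ⟨U, a, hae, has⟩ := X.property.atlas
  refine H53.isEtaleMor_of_chart (fun T t => Y.property.representable_from_yon t) f.hom a hae has ?_
  refine H53.repWith_etale_of_comp_isEtaleMor Y.property (a ≫ f.hom) h.hom hh ?_
  have : f.hom ≫ h.hom = g.hom := by rw [← w]; rfl
  rw [Category.assoc, this]
  exact hg a hae

end Groth.Agent.S10210
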