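import Groth.Statements.S10211
import Groth.Agent.H52.Top2

set_option autoImplicit false
universe u
open CategoryTheory CategoryTheory.Limits AlgebraicGeometry Topology TopologicalSpace
open AlgSp

namespace Groth.Agent.S10211

/-- If f : X ⟶ Y is an etale morphism of algebraic spaces over a scheme S, then the induced map of
topological spaces |X| → |Y| is open. -/
theorem result {S : Scheme.{u}} {X Y : AlgSp.Space S} (f : X ⟶ Y)
    (hf : AlgSp.IsEtaleMor f.hom) :
    IsOpenMap (AlgSp.Points.map f.hom) := by
  obtain ⟨U, a, hae, has⟩ := X.property.atlas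
  have h1 : IsOpenMap (AlgSp.Points.map (a ≫ f.hom)) :=
    H52.isOpenMap_points_of_etale _ (hf a hae)
  have hsurj : Function.Surjective (AlgSp.Points.map a) :=
    H52.surjective_points_of_repWith_surjective a has
  intro O hO
  have : AlgSp.Points.map f.hom '' O =
      AlgSp.Points.map (a ≫ f.hom) '' (AlgSp.Points.map a ⁻¹' O) := by
    ext z
    constructor
    · rintro ⟨x, hx, rfl⟩
      obtain ⟨w, rfl⟩ := hsurj x
      exact ⟨w, hx, AlgSp.Points.map_comp _ _ _⟩
    · rintro ⟨w, hw, rfl⟩
      exact ⟨_, hw, (AlgSp.Points.map_comp _ _ _).symm⟩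
  rw [this]
  exact h1 _ (hO.preimage (AlgSp.Points.continuous_map _))

end Groth.Agent.S10211
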