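import Groth.Statements.S10212
import Groth.Agent.H53.SourceLocal
import Groth.Agent.H53.SpTop

set_option autoImplicit false
universe u
open CategoryTheory CategoryTheory.Limits AlgebraicGeometry Topology TopologicalSpace
open AlgSp

namespace Groth.Agent.S10212

/-- Let X be an algebraic space over a scheme S, χ : U ⟶ U' a surjective etale morphism of schemes over
S and φ' : h_{U'} ⟶ X a map such that the composite h_χ ≫ φ' : h_U ⟶ X is (representable and) etale.
Then φ' is etale. -/
theorem result {S : Scheme.{u}} (X : AlgSp.Space S) {U U' : Over S}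
    (χ : U ⟶ U') [Etale χ.left] [Surjective χ.left] (φ' : (AlgSp.yon S).obj U' ⟶ X.obj)
    (h : AlgSp.RepWith @Etale ((AlgSp.yon S).map χ ≫ φ')) :
    AlgSp.RepWith @Etale φ' := by
  refine ⟨X.property.representable_from_yon φ', fun T V g fst snd sq => ?_⟩
  have hχ : AlgSp.Representable ((AlgSp.yon S).map χ) := AlgSp.representable_yon_map χ
  have hχe : AlgSp.RepWith @Etale ((AlgSp.yon S).map χ) :=
    (AlgSp.repWith_yon_map_iff _ _).2 inferInstance
  have hχs : AlgSp.RepWith @Surjective ((AlgSp.yon S).map χ) :=
    (AlgSp.repWith_yon_map_iff _ _).2 inferInstance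
  have sq' := hχ.isPullback fst
  have h1 : Etale (hχ.snd fst).left := hχe.property fst _ _ sq'
  have h2 : Surjective (hχ.snd fst).left := hχs.property fst _ _ sq'
  have big := sq'.paste_vert sq
  rw [← Functor.map_comp] at big
  have h3 : Etale (hχ.snd fst ≫ snd).left := h.property g _ _ big
  rw [Over.comp_left] at h3
  exact H53.etale_of_comp_etale_surjective (hχ.snd fst).left snd.left h3

end Groth.Agent.S10212
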