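import Groth.Statements.S10213
import Groth.Agent.H53.SpBasic

set_option autoImplicit false
universe u
open CategoryTheory CategoryTheory.Limits AlgebraicGeometry Topology TopologicalSpace
open AlgSp

namespace Groth.Agent.S10213

/-- For an algebraic space X over a scheme S there is a surjective etale map h_U ⟶ X where U is a
disjoint union of affine schemes, each of which maps into an affine open of S. -/
theorem result {S : Scheme.{u}} (X : AlgSp.Space S) :
    ∃ (ι : Type u) (V : ι → Scheme.{u}) (_ : ∀ i, IsAffine (V i)) (q : (∐ V) ⟶ S)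
      (p : (AlgSp.yon S).obj (Over.mk q) ⟶ X.obj),
      AlgSp.RepWith @Etale p ∧ AlgSp.RepWith @Surjective p ∧
        ∀ i, ∃ W : S.Opens, IsAffineOpen W ∧ ∀ v : ↥(V i), (Sigma.ι V i ≫ q) v ∈ W := by
  obtain ⟨U, a, hae, has⟩ := X.property.atlas
  have key : ∀ u : ↥U.left, ∃ (W : S.Opens) (O : U.left.Opens), IsAffineOpen W ∧ IsAffineOpen O ∧
      u ∈ O ∧ O ≤ U.hom ⁻¹ᵁ W := by
    intro u
    obtain ⟨W, hW, huW⟩ : ∃ W : S.Opens, IsAffineOpen W ∧ U.hom u ∈ W := by
      obtain ⟨_, ⟨W, hW, rfl⟩, hu, -⟩ := S.isBasis_affineOpens.exists_subset_of_mem_open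
        (Set.mem_univ (U.hom u)) isOpen_univ
      exact ⟨W, hW, hu⟩
    obtain ⟨_, ⟨O, hO, rfl⟩, huO, hOW⟩ := U.left.isBasis_affineOpens.exists_subset_of_mem_open
      (show u ∈ ((U.hom ⁻¹ᵁ W : U.left.Opens) : Set _) from huW) (U.hom ⁻¹ᵁ W).isOpen
    exact ⟨W, O, hW, hO, huO, hOW⟩
  choose W O hW hO huO hOW using key
  have hπe : Etale (Sigma.desc (fun u : ↥U.left => (O u).ι)) :=
    IsZariskiLocalAtSource.sigmaDesc (fun i => inferInstance)
  have hπs : Surjective (Sigma.desc (fun u : ↥U.left => (O u).ι)) := by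
    constructor
    intro x
    refine ⟨Sigma.ι (fun u : ↥U.left => ((O u : U.left.Opens) : Scheme.{u})) x ⟨x, huO x⟩, ?_⟩
    rw [← Scheme.Hom.comp_apply, Sigma.ι_desc]
    rfl
  refine ⟨↥U.left, fun u => ((O u : U.left.Opens) : Scheme.{u}), fun u => hO u,
    Sigma.desc (fun u : ↥U.left => (O u).ι) ≫ U.hom,
    (AlgSp.yon S).map (Over.homMk (Sigma.desc (fun u : ↥U.left => (O u).ι)) rfl :
      Over.mk (Sigma.desc (fun u : ↥U.left => (O u).ι) ≫ U.hom) ⟶ U) ≫ a, ?_, ?_, ?_⟩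
  · exact (AlgSp.RepWith (S := S) @Etale).comp_mem _ _ ((AlgSp.repWith_yon_map_iff _ _).2 hπe) hae
  · exact (AlgSp.RepWith (S := S) @Surjective).comp_mem _ _
      ((AlgSp.repWith_yon_map_iff _ _).2 hπs) has
  · intro u
    refine ⟨W u, hW u, fun v => ?_⟩
    have : Sigma.ι (fun u : ↥U.left => ((O u : U.left.Opens) : Scheme.{u})) u ≫
        Sigma.desc (fun u : ↥U.left => (O u).ι) ≫ U.hom = (O u).ι ≫ U.hom := by
      rw [← Category.assoc, Sigma.ι_desc]
    rw [this]
    exact hOW u v.2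

end Groth.Agent.S10213
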