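import Groth.Statements.S10224
import Groth.Agent.Lib.Helper3.OEtStalkSH4

set_option autoImplicit false
universe u
open CategoryTheory CategoryTheory.Limits AlgebraicGeometry Topology TopologicalSpace
open AlgSp

namespace Groth.Agent.S10224

/-- Let X be an algebraic space over a scheme S, x̄ a geometric point of X lying over x ∈ |X|, and d ∈
{0, 1, 2, …, ∞}. Then the local ring of X at x has dimension d (that is, for some etale chart h_U ⟶
X and some point u of U over x the local ring of U at u has dimension d) if and only if the etale
local ring of X at x̄ has dimension d. In particular the latter does not depend on the geometric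
point over x. -/
theorem result {S : Scheme.{u}} (X : AlgSp.Space S) (p : AlgSp.FieldPt X.obj)
    (hp : p.IsGeometric) (d : ℕ∞) :
    AlgSp.HasAt (fun U u => ringKrullDim ↥(U.presheaf.stalk u) = (d : WithBot ℕ∞)) X.obj (AlgSp.Points.mk p) ↔
      ringKrullDim ↥(AlgSp.OEtStalk p) = (d : WithBot ℕ∞) := by
  open Groth.Agent.Lib.Helper3.OEtStalkSH Groth.Agent.H53 in
  constructor
  · rintro ⟨U, a, u, ha, hu, hd⟩
    rw [ringKrullDim_OEtStalk X.property p hp a ha u hu]
    exact hd
  · intro hd
    obtain ⟨N⟩ := nonempty_etNbhd X.property p hp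
    refine ⟨N.1.obj.left, N.1.obj.hom, etNbhdPt p N, N.1.property, ofPt_etNbhdPt p N, ?_⟩
    change ringKrullDim ↥(N.1.obj.left.left.presheaf.stalk (etNbhdPt p N)) = _
    rw [← ringKrullDim_OEtStalk X.property p hp N.1.obj.hom N.1.property (etNbhdPt p N)
      (ofPt_etNbhdPt p N)]
    exact hd

end Groth.Agent.S10224
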