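import Groth.Statements.S10227
import Groth.Agent.Lib.Helper3.OEtStalkSH5

set_option autoImplicit false
universe u
open CategoryTheory CategoryTheory.Limits AlgebraicGeometry Topology TopologicalSpace
open AlgSp

namespace Groth.Agent.S10227

/-- (1) ⇔ (4) ⇔ (5): let X be an algebraic space over a scheme S and x ∈ |X|. The following are
equivalent: for every scheme U, every etale h_U ⟶ X and every point u of U over x, the local ring of
U at u has a unique minimal prime; for every such (U, u), the local ring of U at u is geometrically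
unibranch; for every geometric point x̄ over x, the etale local ring of X at x̄ has a unique minimal
prime. -/
theorem result {S : Scheme.{u}} (X : AlgSp.Space S) (x : AlgSp.Points X.obj) :
    ((∀ (U : Over S) (a : (AlgSp.yon S).obj U ⟶ X.obj) (u : ↥U.left),
        AlgSp.RepWith @Etale a → AlgSp.Points.ofPt a u = x → CAlgX.HasUniqueMinimalPrime ↥(U.left.presheaf.stalk u)) ↔
      (∀ (U : Over S) (a : (AlgSp.yon S).obj U ⟶ X.obj) (u : ↥U.left),
        AlgSp.RepWith @Etale a → AlgSp.Points.ofPt a u = x → CAlg2.IsGeomUnibranch ↥(U.left.presheaf.stalk u))) ∧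
    ((∀ (U : Over S) (a : (AlgSp.yon S).obj U ⟶ X.obj) (u : ↥U.left),
        AlgSp.RepWith @Etale a → AlgSp.Points.ofPt a u = x → CAlgX.HasUniqueMinimalPrime ↥(U.left.presheaf.stalk u)) ↔
      ∀ p : AlgSp.FieldPt X.obj, p.IsGeometric → AlgSp.Points.mk p = x →
        CAlgX.HasUniqueMinimalPrime ↥(AlgSp.OEtStalk p)) := by
  open Groth.Agent.Lib.Helper3.OEtStalkSH Groth.Agent.H53 Groth.Agent.Lib.Helper3.AlgSpBranches in
  refine ⟨⟨?_, ?_⟩, ⟨?_, ?_⟩⟩
  · intro H U a u ha hu
    have h1 := (forall_chart_hasUniqueMinimalPrime_iff X.property x a ha u hu).mp H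
    exact (Groth.Agent.S9236.result _).mp h1
  · intro H U a u ha hu
    have h1 : Brnch.numGeomBranchesAt U.left u = 1 := (Groth.Agent.S9236.result _).mpr (H U a u ha hu)
    rw [hasUniqueMinimalPrime_iff_encard]
    apply le_antisymm
    · rw [← h1]
      exact encard_minimalPrimes_le_numGeomBranchesAt _ u
    · rw [← encard_components_eq]
      exact Groth.Agent.Lib.Helper3.BrnchScheme.one_le_encard_components U.left u
  · intro H p hp hpx
    obtain ⟨U, a, u, ha, hu⟩ := exists_chart_of_geometric X.property p hp
    have h1 := (forall_chart_hasUniqueMinimalPrime_iff X.property x a ha u (hu.trans hpx)).mp H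
    rw [hasUniqueMinimalPrime_iff_encard, encard_minimalPrimes_OEtStalk X.property p hp a ha u hu]
    exact h1
  · intro H U a u ha hu
    obtain ⟨p, hp, hp1⟩ := exists_geometric_of_chart a ha u
    have h1 := H p hp (hp1.trans hu)
    rw [hasUniqueMinimalPrime_iff_encard,
      encard_minimalPrimes_OEtStalk X.property p hp a ha u hp1.symm] at h1
    exact (forall_chart_hasUniqueMinimalPrime_iff X.property x a ha u hu).mpr h1 U a u ha hu

end Groth.Agent.S10227
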