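import Groth.Statements.S10228
-- import your own Groth.Agent.* helpers here
import Groth.Agent.Lib.Helper51.AlgSpCoprodAtlas

set_option autoImplicit false
universe u
open CategoryTheory CategoryTheory.Limits AlgebraicGeometry Topology TopologicalSpace
open AlgSp

namespace Groth.Agent.S10228

/-- An algebraic space that is the coproduct of finitely many quasi-compact algebraic spaces is
quasi-compact: if X_i (i in a finite type) are quasi-compact algebraic spaces over a scheme S and
the underlying sheaf of the algebraic space X is a coproduct of the underlying sheaves of the X_i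
(given by a colimit cofan of fppf sheaves whose cone point is the sheaf of X), then X is
quasi-compact. -/
theorem result {S : Scheme.{u}} {ι : Type u} [Finite ι] (Xi : ι → AlgSp.Space S)
    (X : AlgSp.Space S) (c : Cofan fun i => (Xi i).obj) (hc : IsColimit c) (hX : c.pt = X.obj)
    (hqc : ∀ i, AlgSp.IsQuasiCompactSp (Xi i).obj) :
    AlgSp.IsQuasiCompactSp X.obj := by
  obtain ⟨Xo, Xp⟩ := X
  change c.pt = Xo at hX
  subst hX
  change ∃ (U : Over S) (p : (AlgSp.yon S).obj U ⟶ c.pt), AlgSp.RepWith @Etale p ∧
    AlgSp.RepWith @Surjective p ∧ CompactSpace ↥U.left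
  choose U p hpe hps hU using hqc
  obtain ⟨h1, h2⟩ := Groth.Agent.Lib.Helper51.repWith_etale_surjective_coprodChart
    (fun i => (Xi i).obj) c hc U p hpe hps
  refine ⟨_, Groth.Agent.Lib.Helper51.coprodChart (fun i => (Xi i).obj) c hc U p, h1, h2, ?_⟩
  change CompactSpace ↥(∐ fun i => (U i).left)
  have : Finite (sigmaOpenCover fun i => (U i).left).I₀ := inferInstanceAs (Finite ι)
  have : ∀ i, CompactSpace ↥((sigmaOpenCover fun i => (U i).left).X i) := fun i => hU i
  exact Scheme.OpenCover.compactSpace (sigmaOpenCover fun i => (U i).left)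

end Groth.Agent.S10228
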