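import Groth.Statements.S10231
import Groth.Agent.Lib.Helper3.OEtStalkSH5

set_option autoImplicit false
universe u
open CategoryTheory CategoryTheory.Limits AlgebraicGeometry Topology TopologicalSpace
open AlgSp

namespace Groth.Agent.S10231

/-- Let X be a locally Noetherian algebraic space over a scheme S. Then X is regular (etale locally a
regular scheme: some surjective etale chart from a locally Noetherian scheme all of whose local
rings are regular) if and only if every etale local ring of X at a geometric point is a regular
local ring. -/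
theorem result {S : Scheme.{u}} (X : AlgSp.Space S) (hX : AlgSp.IsLocNoethSp X.obj) :
    AlgSp.EtaleLocally (fun U => IsLocallyNoetherian U ∧ ∀ u : ↥U, IsRegularLocalRing ↥(U.presheaf.stalk u)) X.obj ↔
      ∀ p : AlgSp.FieldPt X.obj, p.IsGeometric → IsRegularLocalRing ↥(AlgSp.OEtStalk p) := by
  open Groth.Agent.Lib.Helper3.OEtStalkSH Groth.Agent.H53 in
  constructor
  · rintro ⟨U, a, ha1, ha2, -, hreg⟩ p hp
    obtain ⟨u, hu⟩ := exists_ofPt_eq_of_surjective a ha2 (Points.mk p)
    exact (isRegularLocalRing_OEtStalk_iff X.property p hp a ha1 u hu).mpr (hreg u)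
  · intro H
    obtain ⟨U, a, ha1, ha2, hN⟩ := hX
    refine ⟨U, a, ha1, ha2, hN, fun u => ?_⟩
    obtain ⟨p, hp, hp1⟩ := exists_geometric_of_chart a ha1 u
    exact (isRegularLocalRing_OEtStalk_iff X.property p hp a ha1 u hp1.symm).mp (H p hp)

end Groth.Agent.S10231
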