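import Groth.Statements.S10232
import Groth.Agent.Lib.Helper3.OEtStalkSH5

set_option autoImplicit false
universe u
open CategoryTheory CategoryTheory.Limits AlgebraicGeometry Topology TopologicalSpace
open AlgSp

namespace Groth.Agent.S10232

/-- Let X be an algebraic space over a scheme S and x ∈ |X|. Then X is regular at x (for some etale
chart h_U ⟶ X and some point u of U over x, the local ring of U at u is regular) if and only if the
etale local ring of X at x̄ is regular for every geometric point x̄ lying over x, if and only if it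
is regular for some geometric point x̄ lying over x. -/
theorem result {S : Scheme.{u}} (X : AlgSp.Space S) (x : AlgSp.Points X.obj) :
    (AlgSp.HasAt (fun U u => IsRegularLocalRing ↥(U.presheaf.stalk u)) X.obj x ↔
      ∀ p : AlgSp.FieldPt X.obj, p.IsGeometric → AlgSp.Points.mk p = x → IsRegularLocalRing ↥(AlgSp.OEtStalk p)) ∧
    (AlgSp.HasAt (fun U u => IsRegularLocalRing ↥(U.presheaf.stalk u)) X.obj x ↔
      ∃ p : AlgSp.FieldPt X.obj, p.IsGeometric ∧ AlgSp.Points.mk p = x ∧ IsRegularLocalRing ↥(AlgSp.OEtStalk p)) := by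
  open Groth.Agent.Lib.Helper3.OEtStalkSH Groth.Agent.H53 in
  refine ⟨⟨?_, ?_⟩, ⟨?_, ?_⟩⟩
  · rintro ⟨U, a, u, ha, hu, hreg⟩ p hp hpx
    exact (isRegularLocalRing_OEtStalk_iff X.property p hp a ha u (hu.trans hpx.symm)).mpr hreg
  · intro H
    obtain ⟨U, a, u, ha, hu⟩ := exists_chart X.property x
    obtain ⟨p, hp, hp1⟩ := exists_geometric_of_chart a ha u
    exact ⟨U, a, u, ha, hu,
      (isRegularLocalRing_OEtStalk_iff X.property p hp a ha u hp1.symm).mp
        (H p hp (hp1.trans hu))⟩
  · rintro ⟨U, a, u, ha, hu, hreg⟩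
    obtain ⟨p, hp, hp1⟩ := exists_geometric_of_chart a ha u
    exact ⟨p, hp, hp1.trans hu,
      (isRegularLocalRing_OEtStalk_iff X.property p hp a ha u hp1.symm).mpr hreg⟩
  · rintro ⟨p, hp, hpx, hreg⟩
    obtain ⟨U, a, u, ha, hu⟩ := exists_chart_of_geometric X.property p hp
    exact ⟨U, a, u, ha, hu.trans hpx,
      (isRegularLocalRing_OEtStalk_iff X.property p hp a ha u hu).mp hreg⟩

end Groth.Agent.S10232
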