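import Groth.Statements.S10235
import Groth.Agent.S1881
import Groth.Agent.Lib.Helper37.GrpdGlue
import Groth.Agent.Lib.Helper26.QuotRep

set_option autoImplicit false
set_option linter.style.haveILetI false
universe u
open CategoryTheory CategoryTheory.Limits AlgebraicGeometry Topology TopologicalSpace
open AlgSp

namespace Groth.Agent.S10235

/-- Let (U, R, s, t, c) be a groupoid scheme over a scheme S whose source and target maps s, t : R ⟶ U
are finite locally free and whose map j = (t, s) is an equivalence relation, and suppose that in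
each nonempty closed subset of U one can find a point u such that some affine open of U contains the
whole equivalence class t(s⁻¹{u}) of u. Then there are a scheme M over S and a finite locally free
morphism U ⟶ M over S such that the square with the two maps t, s : R ⟶ U over U ⟶ M is cartesian (R
= U ×_M U) and U ⟶ M exhibits h_M as the quotient of h_U by the pair h_R ⇉ h_U in the category of
fppf sheaves. -/
theorem result {S : Scheme.{u}} (G : Grpd.GroupoidScheme S)
    (hs : Mor2.IsFinLocFree G.s) (ht : Mor2.IsFinLocFree G.t)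
    (heq : AlgSp.IsEqvRel (Over.homMk G.s G.s_over : Over.mk G.pR ⟶ Over.mk G.pU) (Over.homMk G.t G.t_over : Over.mk G.pR ⟶ Over.mk G.pU))
    (h3 : ∀ Z : Set ↥G.U, IsClosed Z → Z.Nonempty →
      ∃ u ∈ Z, ∃ W : G.U.Opens, IsAffineOpen W ∧ ∀ r : ↥G.R, G.s r = u → G.t r ∈ W) :
    ∃ (M : Over S) (m : Over.mk G.pU ⟶ M), Mor2.IsFinLocFree m.left ∧ IsPullback G.t G.s m.left m.left ∧
      QuotSh.IsQuotient Scheme.fppfPrecoverage (Over.homMk G.s G.s_over : Over.mk G.pR ⟶ Over.mk G.pU) (Over.homMk G.t G.t_over : Over.mk G.pR ⟶ Over.mk G.pU) m := by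
  open Groth.Agent.Lib.Helper37 in
  obtain ⟨hsfin, hsflat, hslfp⟩ := hs
  obtain ⟨htfin, htflat, htlfp⟩ := ht
  haveI := hsfin
  haveI := hsflat
  haveI := hslfp
  haveI := htfin
  haveI := htflat
  haveI := htlfp
  haveI : Mono G.j := by
    refine ⟨fun {T} a b hab => ?_⟩
    have h1 : a ≫ G.t = b ≫ G.t := by
      have := congrArg (· ≫ pullback.fst _ _) hab
      simpa only [Category.assoc, Grpd.GroupoidScheme.j, pullback.lift_fst] using this
    have h2 : a ≫ G.s = b ≫ G.s := by
      have := congrArg (· ≫ pullback.snd _ _) hab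
      simpa only [Category.assoc, Grpd.GroupoidScheme.j, pullback.lift_snd] using this
    have hb : b ≫ G.pR = a ≫ G.pR := by
      rw [← G.s_over, ← Category.assoc, ← h2, Category.assoc]
    let a' : Over.mk (a ≫ G.pR) ⟶ Over.mk G.pR := Over.homMk a rfl
    let b' : Over.mk (a ≫ G.pR) ⟶ Over.mk G.pR := Over.homMk b hb
    have := heq.injective (Over.mk (a ≫ G.pR)) a' b' (by ext; exact h1) (by ext; exact h2)
    exact congrArg (fun f => f.left) this
  -- every point has an invariant affine neighbourhood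
  have hcov : ∀ u : G.U, ∃ W : G.U.Opens, IsAffineOpen W ∧ u ∈ W ∧ G.s ⁻¹ᵁ W = G.t ⁻¹ᵁ W := by
    by_contra hne
    push Not at hne
    let O : G.U.Opens := ⨆ W : {W : G.U.Opens // IsAffineOpen W ∧ G.s ⁻¹ᵁ W = G.t ⁻¹ᵁ W}, W.1
    have hZne : ((O : Set G.U)ᶜ).Nonempty := by
      obtain ⟨u, hu⟩ := hne
      refine ⟨u, fun huO => ?_⟩
      obtain ⟨W, huW⟩ := TopologicalSpace.Opens.mem_iSup.mp huO
      exact hu W.1 W.2.1 huW W.2.2
    obtain ⟨u, huZ, V, hV, huV⟩ := h3 _ O.2.isClosed_compl hZne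
    obtain ⟨W, hWa, huW, hW⟩ := Groth.Agent.S1881.result S G u V hV huV
    exact huZ (TopologicalSpace.Opens.mem_iSup.mpr ⟨⟨W, hWa, hW⟩, huW⟩)
  obtain ⟨Y, q, hqfin, hqflat, hqlfp, hqsurj, hpb⟩ := exists_global_quotient G hcov
  have hpU : G.t ≫ G.pU = G.s ≫ G.pU := by rw [G.t_over, G.s_over]
  let pY : Y ⟶ S := fppfDesc q hpb G.pU hpU
  have hfac : q ≫ pY = G.pU := fppfDesc_fac q hpb G.pU hpU
  refine ⟨Over.mk pY, Over.homMk q hfac, ⟨hqfin, hqflat, hqlfp⟩, hpb, ?_⟩
  refine Groth.Agent.Lib.Helper26.QuotRep.isQuotient_of_isKernelPair _ _ _ _ ?_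
    q.singleton_mem_fppfPrecoverage
  refine IsPullback.of_map (Over.forget S) (by ext; exact hpb.w.symm) ?_
  exact hpb.flip

end Groth.Agent.S10235
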