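import Groth.Statements.S10239
import Groth.Agent.Lib.Helper3.OEtStalkSH5

set_option autoImplicit false
universe u
open CategoryTheory CategoryTheory.Limits AlgebraicGeometry Topology TopologicalSpace
open AlgSp

namespace Groth.Agent.S10239

/-- (1) ⇔ (4) ⇔ (5): let X be an algebraic space over a scheme S, x ∈ |X| and n ≥ 1 an integer. The
following are equivalent: (1) for every scheme U, etale h_U ⟶ X and u ∈ U over x the local ring of U
at u has at most n minimal primes, and for some such (U, u) exactly n; (4) for every such (U, u) the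
number of geometric branches of U at u is n; (5) for every geometric point x̄ over x the etale local
ring of X at x̄ has exactly n minimal primes. -/
theorem result {S : Scheme.{u}} (X : AlgSp.Space S) (x : AlgSp.Points X.obj)
    (n : ℕ) (hn : 1 ≤ n) :
    (((∀ (U : Over S) (a : (AlgSp.yon S).obj U ⟶ X.obj) (u : ↥U.left),
        AlgSp.RepWith @Etale a → AlgSp.Points.ofPt a u = x → (minimalPrimes ↥(U.left.presheaf.stalk u)).encard ≤ n) ∧
        AlgSp.HasAt (fun U u => (minimalPrimes ↥(U.presheaf.stalk u)).encard = n) X.obj x) ↔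
      (∀ (U : Over S) (a : (AlgSp.yon S).obj U ⟶ X.obj) (u : ↥U.left),
        AlgSp.RepWith @Etale a → AlgSp.Points.ofPt a u = x → Brnch.numGeomBranchesAt U.left u = n)) ∧
    ((∀ (U : Over S) (a : (AlgSp.yon S).obj U ⟶ X.obj) (u : ↥U.left),
        AlgSp.RepWith @Etale a → AlgSp.Points.ofPt a u = x → Brnch.numGeomBranchesAt U.left u = n) ↔
      ∀ p : AlgSp.FieldPt X.obj, p.IsGeometric → AlgSp.Points.mk p = x →
        (minimalPrimes ↥(AlgSp.OEtStalk p)).encard = n) := by
  open Groth.Agent.Lib.Helper3.OEtStalkSH Groth.Agent.H53 Groth.Agent.Lib.Helper3.AlgSpBranches in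
  refine ⟨⟨?_, ?_⟩, ⟨?_, ?_⟩⟩
  · rintro ⟨H1, U₀, a₀, u₀, ha₀, hu₀, hn₀⟩ U a u ha hu
    apply le_antisymm
    · exact numGeomBranchesAt_le_of_forall_chart X.property x n H1 a ha u hu
    · rw [numGeomBranchesAt_chart_eq X.property a a₀ ha ha₀ u u₀ (hu.trans hu₀.symm), ← hn₀]
      exact encard_minimalPrimes_le_numGeomBranchesAt _ u₀
  · intro H
    refine ⟨?_, ?_⟩
    · intro U a u ha hu
      rw [← H U a u ha hu]
      exact encard_minimalPrimes_le_numGeomBranchesAt _ u
    · obtain ⟨U, a, u, ha, hu⟩ := exists_chart X.property x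
      exact exists_chart_encard_eq X.property x n a ha u hu (H U a u ha hu)
  · intro H p hp hpx
    obtain ⟨U, a, u, ha, hu⟩ := exists_chart_of_geometric X.property p hp
    rw [encard_minimalPrimes_OEtStalk X.property p hp a ha u hu]
    exact H U a u ha (hu.trans hpx)
  · intro H U a u ha hu
    obtain ⟨p, hp, hp1⟩ := exists_geometric_of_chart a ha u
    rw [← encard_minimalPrimes_OEtStalk X.property p hp a ha u hp1.symm]
    exact H p hp (hp1.trans hu)

end Groth.Agent.S10239
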