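import Groth.Statements.S10240
import Groth.Agent.Lib.Helper21.TildeEtExt

set_option autoImplicit false
universe u
open CategoryTheory CategoryTheory.Limits AlgebraicGeometry Topology TopologicalSpace
open AlgSp

namespace Groth.Agent.S10240

/-- Let X be an algebraic space over a scheme S. Colimits of quasi-coherent O_X-modules are
quasi-coherent; kernels and cokernels of maps between quasi-coherent O_X-modules are quasi-coherent;
and in a short exact sequence of O_X-modules, if two out of three are quasi-coherent then so is the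
third. -/
theorem result {S : Scheme.{u}} (X : AlgSp.Space S) :
    (∀ (J : Type u) [SmallCategory J] (D : J ⥤ AlgSp.ModEt X.obj) [HasColimit D],
        (∀ j, (D.obj j).IsQuasicoherent) → (colimit D).IsQuasicoherent) ∧
    (∀ (F G : AlgSp.ModEt X.obj) (φ : F ⟶ G), F.IsQuasicoherent → G.IsQuasicoherent →
        (kernel φ).IsQuasicoherent ∧ (cokernel φ).IsQuasicoherent) ∧
    (∀ C : ShortComplex (AlgSp.ModEt X.obj), C.ShortExact →
        (C.X₁.IsQuasicoherent → C.X₂.IsQuasicoherent → C.X₃.IsQuasicoherent) ∧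
        (C.X₁.IsQuasicoherent → C.X₃.IsQuasicoherent → C.X₂.IsQuasicoherent) ∧
        (C.X₂.IsQuasicoherent → C.X₃.IsQuasicoherent → C.X₁.IsQuasicoherent)) := by
  refine ⟨?_, ?_, ?_⟩
  · intro J _ D _ hD
    have h : ∀ j, Groth.Agent.Lib.Helper21.Tilde.IsBCEt (D.obj j) := fun j => by
      have := hD j
      exact Groth.Agent.Lib.Helper21.Tilde.isBCEt_of_isQuasicoherent _
    exact (Groth.Agent.Lib.Helper21.Tilde.IsBCEt.of_isColimit D (colimit.cocone D) (colimit.isColimit D) h).isQuasicoherent
  · intro F G φ hF hG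
    have hF' := Groth.Agent.Lib.Helper21.Tilde.isBCEt_of_isQuasicoherent F
    have hG' := Groth.Agent.Lib.Helper21.Tilde.isBCEt_of_isQuasicoherent G
    exact ⟨(Groth.Agent.Lib.Helper21.Tilde.IsBCEt.kernel φ hF' hG').isQuasicoherent,
      (Groth.Agent.Lib.Helper21.Tilde.IsBCEt.cokernel φ hF' hG').isQuasicoherent⟩
  · intro C hC
    refine ⟨?_, ?_, ?_⟩
    · intro h₁ h₂
      have h₁' := Groth.Agent.Lib.Helper21.Tilde.isBCEt_of_isQuasicoherent C.X₁
      have h₂' := Groth.Agent.Lib.Helper21.Tilde.isBCEt_of_isQuasicoherent C.X₂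
      refine (Groth.Agent.Lib.Helper21.Tilde.IsBCEt.of_isColimit (parallelPair C.f 0) (CokernelCofork.ofπ C.g C.zero)
        hC.gIsCokernel ?_).isQuasicoherent
      rintro (_ | _)
      · exact h₁'
      · exact h₂'
    · intro h₁ h₃
      have h₁' := Groth.Agent.Lib.Helper21.Tilde.isBCEt_of_isQuasicoherent C.X₁
      have h₃' := Groth.Agent.Lib.Helper21.Tilde.isBCEt_of_isQuasicoherent C.X₃
      exact (Groth.Agent.Lib.Helper21.Tilde.IsBCEt.of_shortExact C hC h₁' h₃').isQuasicoherent
    · intro h₂ h₃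
      have h₂' := Groth.Agent.Lib.Helper21.Tilde.isBCEt_of_isQuasicoherent C.X₂
      have h₃' := Groth.Agent.Lib.Helper21.Tilde.isBCEt_of_isQuasicoherent C.X₃
      exact (Groth.Agent.Lib.Helper21.Tilde.IsBCEt.of_isKernel C.f C.g C.zero hC.fIsKernel h₂' h₃').isQuasicoherent

end Groth.Agent.S10240
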