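import Groth.Statements.S10245
import Groth.Agent.Lib.Helper37.ActionQuot
import Groth.Agent.Lib.Helper26.QuotRep

set_option linter.style.haveILetI false

set_option autoImplicit false
universe u
open CategoryTheory CategoryTheory.Limits MonoidalCategory CartesianMonoidalCategory MonObj AlgebraicGeometry Topology TopologicalSpace
open AlgSp
open Groth.Agent.Lib.Helper37.Act

namespace Groth.Agent.S10245

/-- Let G ⟶ S be a finite locally free group scheme over a scheme S acting on a scheme X over S by a : G
×_S X ⟶ X, freely on T-valued points for every S-scheme T. Assume one of the following: the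
structure morphism X ⟶ S is affine; X admits an open immersion into some affine scheme; G ⟶ S is
radicial (universally injective). Then the fppf quotient sheaf X/G is a scheme M: there is q : X ⟶ M
over S exhibiting h_M as the quotient of h_X by the projection and the action G ×_S X ⇉ X in fppf
sheaves; moreover the square formed by the action, the projection and q is cartesian (G ×_S X ≅ X
×_M X) and X ⟶ M has sections fppf locally on M, so that X ⟶ X/G is an fppf G-torsor. (The published
statement also allows X ⟶ S quasi-affine, projective or quasi-projective, or X an open subscheme of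
Proj of a graded ring; those cases are not covered by this row.) -/
theorem result {S : Scheme.{u}} (G X : Over S) [GrpObj G]
    (a : AlgGrp.Action G X) (hG : Mor2.IsFinLocFree G.hom)
    (hfree : ∀ (T : Over S) (g : T ⟶ G) (x : T ⟶ X), lift g x ≫ a.act = x → g = toUnit T ≫ η[G])
    (h3 : IsAffineHom X.hom ∨ (∃ (R : CommRingCat.{u}) (i : X.left ⟶ Spec R), IsOpenImmersion i) ∨
      UniversallyInjective G.hom) :
    ∃ (M : Over S) (q : X ⟶ M), QuotSh.IsQuotient Scheme.fppfPrecoverage (snd G X) a.act q ∧
      IsPullback a.act.left (snd G X).left q.left q.left ∧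
      NonAbH1.IsLocallyTrivialFor Scheme.fppfPrecoverage (Over.mk q.left) := by
  obtain ⟨hfin, hflat, hlfp⟩ := hG
  haveI := hfin
  haveI := hflat
  haveI := hlfp
  have horb : ∀ x : (actGrpd a).U, ∃ V : (actGrpd a).U.Opens, IsAffineOpen V ∧
      ∀ r : (actGrpd a).R, (actGrpd a).s r = x → (actGrpd a).t r ∈ V := by
    rcases h3 with h | ⟨R, i, hi⟩ | h
    · haveI := h
      exact horb_of_isAffineHom a
    · haveI := hi
      exact horb_of_isOpenImmersion a i
    · haveI := h
      exact horb_of_universallyInjective a
  obtain ⟨Y, p, pY, hfac, hpfin, hpflat, hplfp, hpsurj, hpb⟩ := exists_quotient_of_free a hfree horb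
  haveI := hpflat
  haveI := hplfp
  haveI := hpsurj
  refine ⟨Over.mk pY, Over.homMk p hfac, ?_, hpb, ?_⟩
  · refine Groth.Agent.Lib.Helper26.QuotRep.isQuotient_of_isKernelPair _ _ _ _ ?_
      p.singleton_mem_fppfPrecoverage
    refine IsPullback.of_map (Over.forget S) (by ext; exact hpb.w.symm) ?_
    exact hpb.flip
  · refine ⟨Presieve.singleton p, p.singleton_mem_fppfPrecoverage, ?_⟩
    rintro S' f ⟨⟩
    exact ⟨𝟙 _, Category.id_comp _⟩

end Groth.Agent.S10245
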