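import Groth.Statements.S10250
import Groth.Agent.H52.Dim
import Groth.Agent.H52.Points
open Groth.Agent.H52

set_option autoImplicit false
universe u
open CategoryTheory CategoryTheory.Limits AlgebraicGeometry Topology TopologicalSpace
open AlgSp

namespace Groth.Agent.S10250

/-- Let f : X ⟶ Y be an etale and surjective morphism of algebraic spaces over a scheme S. Then X and Y
have the same dimension (the dimension of an algebraic space being the supremum of the Krull
dimensions of the schemes etale over it). -/
theorem result {S : Scheme.{u}} {X Y : AlgSp.Space S} (f : X ⟶ Y)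
    (hf : AlgSp.IsEtaleMor f.hom) (hs : AlgSp.IsSurjectiveMor f.hom) :
    AlgSp.dim X.obj = AlgSp.dim Y.obj := by
  apply le_antisymm
  · unfold AlgSp.dim
    refine iSup_le fun U => iSup_le fun a => iSup_le fun ha => ?_
    exact le_iSup_of_le U (le_iSup_of_le (a ≫ f.hom) (le_iSup_of_le (hf a ha) le_rfl))
  · unfold AlgSp.dim
    refine iSup_le fun V => iSup_le fun b => iSup_le fun hb => ?_
    obtain ⟨U, p, hpe, hps⟩ := X.property.atlas
    have hae : AlgSp.RepWith @Etale (p ≫ f.hom) := hf p hpe
    have hrep := hae.rep
    have sq := hrep.isPullback b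
    have h1 : Etale (hrep.snd b).left := hae.property_snd b
    have hsurj : Function.Surjective (AlgSp.Points.map (p ≫ f.hom)) := by
      intro y
      obtain ⟨x, rfl⟩ := hs y
      obtain ⟨u, rfl⟩ := surjective_points_of_repWith_surjective p hps x
      exact ⟨u, AlgSp.Points.map_comp _ _ _⟩
    have h2 : Surjective (hrep.snd b).left :=
      (repWith_surjective_of_surjective_points (p ≫ f.hom) hrep hsurj).property_snd b
    have h3 : AlgSp.RepWith @Etale (hrep.fst b) := MorphismProperty.of_isPullback sq.flip hb
    have h4 : AlgSp.RepWith @Etale (hrep.fst b ≫ p) :=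
      (AlgSp.RepWith (S := S) @Etale).comp_mem _ _ h3 hpe
    refine (topologicalKrullDim_le_of_flat_surjective (hrep.snd b).left h2.surj).trans ?_
    exact le_iSup_of_le (hrep.pullback b)
      (le_iSup_of_le (hrep.fst b ≫ p) (le_iSup_of_le h4 le_rfl))

end Groth.Agent.S10250
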