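import Groth.Statements.S10263
import Groth.Agent.H53.EtaleMor

set_option autoImplicit false
universe u
open CategoryTheory CategoryTheory.Limits AlgebraicGeometry
open AlgSp

namespace Groth.Agent.S10263

/-- If the composite X -> Y -> Z is unramified then X -> Y is unramified. -/
theorem result {S : Scheme.{u}} {X Y Z : AlgSp.Space S} (f : X ⟶ Y) (g : Y ⟶ Z)
    (h : AlgSp.LocP (@LocallyOfFiniteType ⊓ @FormallyUnramified) (f ≫ g).hom) :
    AlgSp.LocP (@LocallyOfFiniteType ⊓ @FormallyUnramified) f.hom := by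
  intro U V a b k ha hb w
  obtain ⟨W, c, hce, hcs⟩ := Z.property.atlas
  have hcr : AlgSp.Representable c := hce.rep
  -- `V' = W ×_Z V`
  have sqV' := hcr.isPullback (b ≫ g.hom)
  obtain ⟨kW, hkW⟩ := (AlgSp.yon S).map_surjective (hcr.fst (b ≫ g.hom))
  rw [← hkW] at sqV'
  have hqe : Etale (hcr.snd (b ≫ g.hom)).left := hce.property _ _ _ sqV'
  have hqs : Surjective (hcr.snd (b ≫ g.hom)).left := hcs.property _ _ _ sqV'
  -- `U' = V' ×_V U`
  have hq : AlgSp.Representable ((AlgSp.yon S).map (hcr.snd (b ≫ g.hom))) :=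
    AlgSp.representable_yon_map _
  have sqU' := hq.isPullback ((AlgSp.yon S).map k)
  obtain ⟨k', hk'⟩ := (AlgSp.yon S).map_surjective (hq.fst ((AlgSp.yon S).map k))
  rw [← hk'] at sqU'
  have hpe : Etale (hq.snd ((AlgSp.yon S).map k)).left :=
    ((AlgSp.repWith_yon_map_iff @Etale (hcr.snd (b ≫ g.hom))).2 hqe).property _ _ _ sqU'
  have hps : Surjective (hq.snd ((AlgSp.yon S).map k)).left :=
    ((AlgSp.repWith_yon_map_iff @Surjective (hcr.snd (b ≫ g.hom))).2 hqs).property _ _ _ sqU'
  -- apply the hypothesis to the chart diagram `U' ⟶ W`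
  have key := h ((AlgSp.yon S).map (hq.snd ((AlgSp.yon S).map k)) ≫ a) c (k' ≫ kW)
    ((AlgSp.RepWith (S := S) @Etale).comp_mem _ _ ((AlgSp.repWith_yon_map_iff _ _).2 hpe) ha) hce
    (by
      have e1 : (f ≫ g).hom = f.hom ≫ g.hom := rfl
      rw [e1, Category.assoc, ← Category.assoc a, w, Category.assoc, ← Category.assoc,
        ← sqU'.w, Category.assoc, ← sqV'.w, Functor.map_comp, Category.assoc])
  rw [Over.comp_left] at key
  have hk'1 : LocallyOfFiniteType k'.left := by
    have := key.1
    exact locallyOfFiniteType_of_comp k'.left kW.left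
  have hk'2 : FormallyUnramified k'.left := by
    have := key.2
    exact FormallyUnramified.of_comp k'.left kW.left
  have hw : hq.snd ((AlgSp.yon S).map k) ≫ k = k' ≫ hcr.snd (b ≫ g.hom) := by
    apply (AlgSp.yon S).map_injective
    rw [Functor.map_comp, Functor.map_comp]
    exact sqU'.w.symm
  have h3 : (hq.snd ((AlgSp.yon S).map k)).left ≫ k.left = k'.left ≫ (hcr.snd (b ≫ g.hom)).left := by
    rw [← Over.comp_left, hw, Over.comp_left]
  refine ⟨H53.locallyOfFiniteType_of_comp_etale_surjective (hq.snd ((AlgSp.yon S).map k)).left _ ?_,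
    H53.formallyUnramified_of_comp_etale_surjective (hq.snd ((AlgSp.yon S).map k)).left _ ?_⟩
  · rw [h3]; infer_instance
  · rw [h3]
    have h4 : FormallyUnramified (hcr.snd (b ≫ g.hom)).left := inferInstance
    exact MorphismProperty.comp_mem _ _ _ hk'2 h4

end Groth.Agent.S10263
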