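import Groth.Statements.S10264
import Groth.Agent.H53.EtaleMor

set_option autoImplicit false
universe u
open CategoryTheory CategoryTheory.Limits AlgebraicGeometry
open AlgSp

namespace Groth.Agent.S10264

/-- An immersion of algebraic spaces is unramified. -/
theorem result {S : Scheme.{u}} {X Y : AlgSp.Space S} (i : X ⟶ Y)
    (hi : AlgSp.RepWith @IsImmersion i.hom) :
    AlgSp.LocP (@LocallyOfFiniteType ⊓ @FormallyUnramified) i.hom := by
  intro U V a b h ha hb w
  have hr : AlgSp.Representable i.hom := hi.rep
  have sq := hr.isPullback b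
  have himm : IsImmersion (hr.snd b).left := hi.property b _ _ sq
  have hfst : AlgSp.RepWith @Etale (hr.fst b) := MorphismProperty.of_isPullback sq.flip hb
  obtain ⟨m, hm⟩ := (AlgSp.yon S).map_surjective (sq.lift a ((AlgSp.yon S).map h) w)
  have hm1 : (AlgSp.yon S).map m ≫ hr.fst b = a := by rw [hm, sq.lift_fst]
  have hm2 : m ≫ hr.snd b = h := by
    apply (AlgSp.yon S).map_injective
    rw [Functor.map_comp, hm, sq.lift_snd]
  have hme : Etale m.left := H53.etale_of_repWith_etale_triangle a (hr.fst b) ha hfst m hm1
  rw [← hm2, Over.comp_left]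
  have h1 : IsOpenImmersion (pullback.diagonal (hr.snd b).left) := inferInstance
  have h2 : FormallyUnramified (hr.snd b).left := inferInstance
  have h3 : FormallyUnramified m.left := inferInstance
  have h4 : FormallyUnramified (m.left ≫ (hr.snd b).left) :=
    MorphismProperty.comp_mem _ _ _ h3 h2
  exact ⟨inferInstance, h4⟩

end Groth.Agent.S10264
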