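import Groth.Statements.S10265
import Groth.Agent.H53.EtaleMor

set_option autoImplicit false
universe u
open CategoryTheory CategoryTheory.Limits AlgebraicGeometry
open AlgSp

namespace Groth.Agent.S10265

/-- Whenever a morphism of algebraic spaces is etale, it is, etale locally on both source and target,
smooth, flat, unramified, locally quasi-finite, locally of finite type and locally of finite
presentation. -/
theorem result {S : Scheme.{u}} {X Y : AlgSp.Space S} (f : X ⟶ Y) (hf : AlgSp.IsEtaleMor f.hom) :
    AlgSp.LocP (@LocallyQuasiFinite ⊓ @LocallyOfFiniteType) f.hom ∧ AlgSp.LocP @Smooth f.hom ∧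
    AlgSp.LocP @Flat f.hom ∧ AlgSp.LocP @LocallyOfFinitePresentation f.hom ∧
    AlgSp.LocP @LocallyOfFiniteType f.hom ∧ AlgSp.LocP (@LocallyOfFiniteType ⊓ @FormallyUnramified) f.hom := by
  have key : ∀ ⦃U V : Over S⦄ (a : (AlgSp.yon S).obj U ⟶ X.obj) (b : (AlgSp.yon S).obj V ⟶ Y.obj)
      (h : U ⟶ V), AlgSp.RepWith @Etale a → AlgSp.RepWith @Etale b →
      a ≫ f.hom = (AlgSp.yon S).map h ≫ b → Etale h.left := fun U V a b h ha hb w =>
    H53.etale_of_repWith_etale_triangle (a ≫ f.hom) b (hf a ha) hb h w.symm
  refine ⟨fun U V a b h ha hb w => ?_, fun U V a b h ha hb w => ?_, fun U V a b h ha hb w => ?_,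
    fun U V a b h ha hb w => ?_, fun U V a b h ha hb w => ?_, fun U V a b h ha hb w => ?_⟩ <;>
  have : Etale h.left := key a b h ha hb w
  · exact ⟨H53.locallyQuasiFinite_of_etale h.left, inferInstance⟩
  · exact (inferInstance : Smooth h.left)
  · exact (inferInstance : Flat h.left)
  · exact (inferInstance : LocallyOfFinitePresentation h.left)
  · exact (inferInstance : LocallyOfFiniteType h.left)
  · exact ⟨inferInstance, inferInstance⟩

end Groth.Agent.S10265
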