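import Groth.Statements.S10266
import Groth.Agent.H53.EtaleMor

set_option autoImplicit false
universe u
open CategoryTheory CategoryTheory.Limits AlgebraicGeometry
open AlgSp

namespace Groth.Agent.S10266

/-- A morphism of algebraic spaces that is locally of finite presentation, flat and unramified is etale. -/
theorem result {S : Scheme.{u}} {X Y : AlgSp.Space S} (f : X ⟶ Y)
    (h1 : AlgSp.LocP @LocallyOfFinitePresentation f.hom) (h2 : AlgSp.LocP @Flat f.hom)
    (h3 : AlgSp.LocP (@LocallyOfFiniteType ⊓ @FormallyUnramified) f.hom) :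
    AlgSp.IsEtaleMor f.hom := by
  obtain ⟨U, a, hae, has⟩ := X.property.atlas
  obtain ⟨V, b, hbe, hbs⟩ := Y.property.atlas
  have hbr : AlgSp.Representable b := hbe.rep
  have sq := hbr.isPullback (a ≫ f.hom)
  obtain ⟨h, hh⟩ := (AlgSp.yon S).map_surjective (hbr.fst (a ≫ f.hom))
  rw [← hh] at sq
  have hpe : Etale (hbr.snd (a ≫ f.hom)).left := hbe.property _ _ _ sq
  have hps : Surjective (hbr.snd (a ≫ f.hom)).left := hbs.property _ _ _ sq
  have ha'e : AlgSp.RepWith @Etale ((AlgSp.yon S).map (hbr.snd (a ≫ f.hom)) ≫ a) :=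
    (AlgSp.RepWith (S := S) @Etale).comp_mem _ _ ((AlgSp.repWith_yon_map_iff _ _).2 hpe) hae
  have ha's : AlgSp.RepWith @Surjective ((AlgSp.yon S).map (hbr.snd (a ≫ f.hom)) ≫ a) :=
    (AlgSp.RepWith (S := S) @Surjective).comp_mem _ _ ((AlgSp.repWith_yon_map_iff _ _).2 hps) has
  have w : ((AlgSp.yon S).map (hbr.snd (a ≫ f.hom)) ≫ a) ≫ f.hom = (AlgSp.yon S).map h ≫ b := by
    rw [Category.assoc, sq.w]
  have e1 : LocallyOfFinitePresentation h.left := h1 _ b h ha'e hbe w
  have e2 : Flat h.left := h2 _ b h ha'e hbe w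
  have e3 : FormallyUnramified h.left := (h3 _ b h ha'e hbe w).2
  have : Etale h.left := Etale.of_formallyUnramified_of_flat h.left
  refine H53.isEtaleMor_of_chart (fun T t => Y.property.representable_from_yon t) f.hom _
    ha'e ha's ?_
  rw [w]
  exact (AlgSp.RepWith (S := S) @Etale).comp_mem _ _
    ((AlgSp.repWith_yon_map_iff _ _).2 inferInstance) hbe

end Groth.Agent.S10266
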