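import Groth.Statements.S10272
import Groth.Agent.H53.FiniteComp

set_option autoImplicit false
universe u
open CategoryTheory CategoryTheory.Limits AlgebraicGeometry
open AlgSp

namespace Groth.Agent.S10272

/-- If g is separated and the composite of f and g is finite (resp. integral) then f is finite (resp.
integral). -/
theorem result {S : Scheme.{u}} {X Y Z : AlgSp.Space S} (f : X ⟶ Y) (g : Y ⟶ Z)
    (hg : AlgSp.IsSeparatedMor g.hom) :
    (AlgSp.IsFiniteMor (f ≫ g).hom → AlgSp.IsFiniteMor f.hom) ∧
    (AlgSp.IsIntegralMor (f ≫ g).hom → AlgSp.IsIntegralMor f.hom) := by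
  constructor
  · intro hfin Z' hZ' y
    obtain ⟨W, i, fstW, sq, hW, hi⟩ := hfin hZ' (y ≫ g.hom)
    obtain ⟨W', c, fst', sq', hc⟩ :=
      H53.exists_closedImmersion_of_comp_separated f.hom g.hom hg y i fstW sq
    have : IsAffine W.left := hW
    refine ⟨W', c ≫ i, fst', sq', isAffine_of_isAffineHom c.left, ?_⟩
    rw [Over.comp_left]
    infer_instance
  · intro hint Z' hZ' y
    obtain ⟨W, i, fstW, sq, hW, hi⟩ := hint hZ' (y ≫ g.hom)
    obtain ⟨W', c, fst', sq', hc⟩ :=
      H53.exists_closedImmersion_of_comp_separated f.hom g.hom hg y i fstW sq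
    have : IsAffine W.left := hW
    refine ⟨W', c ≫ i, fst', sq', isAffine_of_isAffineHom c.left, ?_⟩
    rw [Over.comp_left]
    infer_instance

end Groth.Agent.S10272
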