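import Groth.Statements.S10308
import Groth.Agent.Lib.Helper13.Chevalley
import Groth.Agent.H52.LqfLocus

set_option autoImplicit false
universe u
open CategoryTheory CategoryTheory.Limits AlgebraicGeometry
open AlgSp

namespace Groth.Agent.S10308

/-- For f locally of finite type, the locus of points where the relative dimension of f is at most n is
open. -/
theorem result {S : Scheme.{u}} {X Y : AlgSp.Space S} (f : X ⟶ Y)
    (hf : AlgSp.LocP @LocallyOfFiniteType f.hom) (n : ℕ) :
    IsOpen {x : AlgSp.Points X.obj |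
      AlgSp.HasAtMor (fun _ _ h u => FlatMor.fibreDimAt h u ≤ (n : WithBot ℕ∞)) f.hom x} := by
  rw [isOpen_iff_forall_mem_open]
  rintro x ⟨U, V, a, b, h, u, ha, hb, comm, hu, hq⟩
  have hlft : LocallyOfFiniteType h.left := hf a b h ha hb comm
  refine ⟨AlgSp.Points.map a '' (AlgSp.Points.schemeEquiv U ''
    {w : ↥U.left | FlatMor.fibreDimAt h.left w ≤ (n : WithBot ℕ∞)}), ?_, ?_, ?_⟩
  · rintro _ ⟨_, ⟨w, hw, rfl⟩, rfl⟩
    exact ⟨U, V, a, b, h, w, ha, hb, comm, (AlgSp.Points.ofPt_eq_map_ofScheme a w), hw⟩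
  · exact Groth.Agent.H52.isOpenMap_points_of_etale a ha _ ((AlgSp.Points.schemeHomeo U).isOpenMap _
      (Groth.Agent.Lib.Helper13.Chevalley.isOpen_fibreDimAt_le h.left n))
  · exact ⟨_, ⟨u, hq, rfl⟩, by rw [← hu]; exact (AlgSp.Points.ofPt_eq_map_ofScheme a u).symm⟩

end Groth.Agent.S10308
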