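import Groth.Statements.S10309
import Groth.Agent.Lib.Helper13.ChevalleyRetro
import Groth.Agent.H52.LqfLocus

set_option autoImplicit false
universe u
open CategoryTheory CategoryTheory.Limits AlgebraicGeometry
open AlgSp

namespace Groth.Agent.S10309

/-- For f locally of finite presentation, the locus where the relative dimension is at most n is
retrocompact in |X|. -/
theorem result {S : Scheme.{u}} {X Y : AlgSp.Space S} (f : X ⟶ Y)
    (hf : AlgSp.LocP @LocallyOfFinitePresentation f.hom) (n : ℕ) (V : Set (AlgSp.Points X.obj))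
    (hV : IsOpen V) (hVc : IsCompact V) :
    IsCompact (V ∩ {x : AlgSp.Points X.obj |
      AlgSp.HasAtMor (fun _ _ h u => FlatMor.fibreDimAt h u ≤ (n : WithBot ℕ∞)) f.hom x}) := by
  classical
  have hX := X.property
  have hY := Y.property
  have hex : ∀ x : V, ∃ (U W : Over S) (a : (AlgSp.yon S).obj U ⟶ X.obj)
      (b : (AlgSp.yon S).obj W ⟶ Y.obj) (h : U ⟶ W) (U₁ : U.left.Opens) (W₁ : W.left.Opens),
      AlgSp.RepWith @Etale a ∧ AlgSp.RepWith @Etale b ∧ a ≫ f.hom = (AlgSp.yon S).map h ≫ b ∧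
      IsAffineOpen U₁ ∧ IsAffineOpen W₁ ∧ U₁ ≤ h.left ⁻¹ᵁ W₁ ∧
      (x : AlgSp.Points X.obj) ∈ AlgSp.Points.ofPt a '' (U₁ : Set U.left) ∧
      AlgSp.Points.ofPt a '' (U₁ : Set U.left) ⊆ V := by
    intro x
    obtain ⟨U, W, a, b, h, u, ha, hb, comm, hu⟩ :=
      Groth.Agent.H52.exists_diagram_through_point hX hY f.hom x.1
    have hopen : IsOpen (AlgSp.Points.ofPt a ⁻¹' V) :=
      hV.preimage (AlgSp.Points.continuous_ofPt a)
    obtain ⟨W₁, hW₁, hhuW₁, -⟩ :=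
      exists_isAffineOpen_mem_and_subset (x := h.left u) (U := ⊤) trivial
    obtain ⟨U₁, hU₁, huU₁, hU₁le⟩ := exists_isAffineOpen_mem_and_subset (x := u)
      (U := (⟨_, hopen⟩ : U.left.Opens) ⊓ h.left ⁻¹ᵁ W₁)
      ⟨by show AlgSp.Points.ofPt a u ∈ V; rw [hu]; exact x.2, hhuW₁⟩
    refine ⟨U, W, a, b, h, U₁, W₁, ha, hb, comm, hU₁, hW₁, hU₁le.trans inf_le_right,
      ⟨u, huU₁, hu⟩, ?_⟩
    rintro _ ⟨w, hw, rfl⟩
    exact (hU₁le hw).1
  choose U W a b h U₁ W₁ ha hb comm hU₁ hW₁ hle hxU hUV using hex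
  have hopen : ∀ x : V, IsOpen (AlgSp.Points.ofPt (a x) '' (U₁ x : Set (U x).left)) := fun x => by
    have himg : AlgSp.Points.ofPt (a x) '' (U₁ x : Set (U x).left) =
        AlgSp.Points.map (a x) '' (AlgSp.Points.schemeEquiv (U x) '' (U₁ x : Set (U x).left)) := by
      rw [Set.image_image]
      exact Set.image_congr fun w _ => AlgSp.Points.ofPt_eq_map_ofScheme (a x) w
    rw [himg]
    exact Groth.Agent.H52.isOpenMap_points_of_etale (a x) (ha x) _
      ((AlgSp.Points.schemeHomeo (U x)).isOpenMap _ (U₁ x).2)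
  obtain ⟨t, ht⟩ := hVc.elim_finite_subcover
    (fun x : V => AlgSp.Points.ofPt (a x) '' (U₁ x : Set (U x).left)) hopen
    (fun y hy => Set.mem_iUnion.mpr ⟨⟨y, hy⟩, hxU ⟨y, hy⟩⟩)
  have hEK : V ∩ {x : AlgSp.Points X.obj |
      AlgSp.HasAtMor (fun _ _ h u => FlatMor.fibreDimAt h u ≤ (n : WithBot ℕ∞)) f.hom x} =
      ⋃ x ∈ t, AlgSp.Points.ofPt (a x) ''
        ({w : (U x).left | FlatMor.fibreDimAt (h x).left w ≤ (n : WithBot ℕ∞)} ∩ U₁ x) := by
    ext y
    simp only [Set.mem_inter_iff, Set.mem_setOf_eq, Set.mem_iUnion, exists_prop]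
    constructor
    · rintro ⟨hyV, hyE⟩
      obtain ⟨x, hx⟩ := Set.mem_iUnion.mp (ht hyV)
      obtain ⟨hxt, hx'⟩ := Set.mem_iUnion.mp hx
      obtain ⟨w, hw, rfl⟩ := hx'
      refine ⟨x, hxt, w, ⟨?_, hw⟩, rfl⟩
      obtain ⟨U', V', a', b', h', u', ha', hb', comm', hu', hq⟩ := hyE
      have key := Groth.Agent.H52.isEtaleSquareInvariant_fibreDimAt.eq_of_two_charts f.hom
        (a x) (b x) (h x) (ha x) (hb x) (comm x) a' b' h' ha' hb' comm' w u' hu'.symm
      show FlatMor.fibreDimAt (h x).left w ≤ (n : WithBot ℕ∞)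
      rw [key]
      exact hq
    · rintro ⟨x, -, w, ⟨hwE, hwU⟩, rfl⟩
      exact ⟨hUV x ⟨w, hwU, rfl⟩, U x, W x, a x, b x, h x, w, ha x, hb x, comm x, rfl, hwE⟩
  rw [hEK]
  refine t.finite_toSet.isCompact_biUnion fun x _ => ?_
  haveI : LocallyOfFinitePresentation (h x).left := hf (a x) (b x) (h x) (ha x) (hb x) (comm x)
  exact (Groth.Agent.Lib.Helper13.Chevalley.isCompact_fibreDimAt_le_inter_of_isAffineOpen
    (h x).left n (hU₁ x) (hW₁ x) (hle x)).image (AlgSp.Points.continuous_ofPt (a x))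

end Groth.Agent.S10309
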