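import Mathlib
import Groth.Statements.S1031
-- import your own Groth.Agent.* helpers here

set_option autoImplicit false
universe v u
open CategoryTheory
open CohDer

namespace Groth.Agent.S1031

section Helpers
open CategoryTheory.Limits CategoryTheory.ObjectProperty Pretriangulated

namespace W3

variable {C : Type u} [Category.{v} C] [HasZeroObject C] [HasShift C ℤ] [Preadditive C]
  [∀ (n : ℤ), (shiftFunctor C n).Additive] [Pretriangulated C]

/-- a presentation as a limit over a discrete category gives an isomorphism with the product -/
noncomputable def presIso {J : Type} [Finite J] {X : C} (p : LimitPresentation (Discrete J) X) :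
    X ≅ ∏ᶜ (fun j : J => p.diag.obj ⟨j⟩) :=
  IsLimit.conePointUniqueUpToIso p.isLimit
    ((IsLimit.postcomposeInvEquiv (Discrete.natIsoFunctor (F := p.diag))
      (limit.cone (Discrete.functor fun j : J => p.diag.obj ⟨j⟩))).symm
      (limit.isLimit (Discrete.functor fun j : J => p.diag.obj ⟨j⟩)))

theorem extensionProduct_closed (P Q : ObjectProperty C) (J : Type) [Finite J]
    [P.IsClosedUnderLimitsOfShape (Discrete J)] [Q.IsClosedUnderLimitsOfShape (Discrete J)] :
    (extensionProduct P Q).IsClosedUnderLimitsOfShape (Discrete J) where
  limitsOfShape_le := by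
    rintro X ⟨p⟩
    have h := fun j : J => p.prop_diag_obj ⟨j⟩
    choose Y Z f g k hT hP hQ using h
    let T : J → Triangle C := fun j => Triangle.mk (f j) (g j) (k j)
    have hdist := productTriangle_distinguished T hT
    refine (extensionProduct P Q).prop_of_iso (presIso p.toLimitPresentation).symm
      ⟨_, _, _, _, _, hdist, ?_, ?_⟩
    · exact P.prop_pi _ hP
    · exact Q.prop_pi _ hQ


theorem retractClosure_closed (P : ObjectProperty C) (J : Type) [Finite J]
    [P.IsClosedUnderLimitsOfShape (Discrete J)] :
    (P.retractClosure).IsClosedUnderLimitsOfShape (Discrete J) where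
  limitsOfShape_le := by
    rintro X ⟨p⟩
    have h := fun j : J => p.prop_diag_obj ⟨j⟩
    choose Y hY hr using h
    let r : ∀ j, Retract (p.diag.obj ⟨j⟩) (Y j) := fun j => (hr j).some
    let e := presIso p.toLimitPresentation
    refine ⟨∏ᶜ Y, P.prop_pi _ hY, ⟨⟨e.hom ≫ Limits.Pi.map (fun j => (r j).i),
      Limits.Pi.map (fun j => (r j).r) ≫ e.inv, ?_⟩⟩⟩
    rw [Category.assoc, ← Category.assoc (Limits.Pi.map _), Limits.Pi.map_comp_map]
    have : (fun j => (r j).i ≫ (r j).r) = fun j => 𝟙 (p.diag.obj ⟨j⟩) := by
      funext j
      exact (r j).retract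
    rw [this, Limits.Pi.map_id, Category.id_comp, Iso.hom_inv_id]

theorem extensionProductIter_closed (P : ObjectProperty C) (J : Type) [Finite J]
    [P.IsClosedUnderLimitsOfShape (Discrete J)] (n : ℕ) :
    (P.extensionProductIter n).IsClosedUnderLimitsOfShape (Discrete J) := by
  induction n with
  | zero => rwa [extensionProductIter_zero]
  | succ n ih =>
    rw [extensionProductIter_succ]
    exact extensionProduct_closed _ _ J


theorem triangEnvelopeIter_closed (Q : ObjectProperty C) (m : ℕ) :
    (Q.triangEnvelopeIter m).IsClosedUnderLimitsOfShape (Discrete WalkingPair) := by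
  have h1 : ((Q.shiftClosure ℤ).binaryProductsClosure.retractClosure).IsClosedUnderLimitsOfShape
      (Discrete WalkingPair) := retractClosure_closed _ WalkingPair
  have h2 := extensionProductIter_closed
    ((Q.shiftClosure ℤ).binaryProductsClosure.retractClosure) WalkingPair m
  exact retractClosure_closed _ WalkingPair

/-- the bound on the number of extensions -/
def bound (m : ℕ) : ℕ → ℕ
  | 0 => m
  | n + 1 => (m + 1) + bound m n

theorem triangEnvelopeIter_le [IsTriangulated C] (P Q : ObjectProperty C) (m : ℕ)
    (h : P ≤ Q.triangEnvelopeIter m) (n : ℕ) :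
    P.triangEnvelopeIter n ≤ Q.triangEnvelopeIter (bound m n) := by
  have h0 : (P.shiftClosure ℤ).binaryProductsClosure.retractClosure ≤ Q.triangEnvelopeIter m := by
    rw [retractClosure_le_iff]
    have := triangEnvelopeIter_closed Q m
    apply limitsClosure_le
    rw [shiftClosure_le_iff]
    exact h
  induction n with
  | zero =>
    rw [triangEnvelopeIter_zero]
    exact h0
  | succ n ih =>
    rw [triangEnvelopeIter_succ]
    change _ ≤ Q.triangEnvelopeIter ((m + 1) + bound m n)
    rw [triangEnvelopeIter_add Q (n := m + 1) (n' := m) rfl]
    apply monotone_retractClosure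
    exact (monotone_extensionProduct_left _ h0).trans (monotone_extensionProduct_right _ ih)

end W3


end Helpers


/-- Let D be a triangulated category admitting a strong generator G (every object is reached from G by
shifts, finite sums, summands and a uniformly bounded number of extensions). Then every classical
generator E of D (every object reached from E with some finite number of extensions) is itself a
strong generator. -/
theorem result {D : Type u} [Category.{v} D] [Preadditive D] [Limits.HasZeroObject D] [HasShift D ℤ]
    [∀ n : ℤ, (shiftFunctor D n).Additive] [Pretriangulated D] [IsTriangulated D]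
    (G E : D) (hG : ObjectProperty.IsStrongTriangulatedGenerator (fun X : D => X = G))
    (hE : ObjectProperty.IsClassicalTriangulatedGenerator (fun X : D => X = E)) :
    ObjectProperty.IsStrongTriangulatedGenerator (fun X : D => X = E) := by
  obtain ⟨n, hn⟩ := hG
  have hEG : ObjectProperty.triangEnvelope (fun X : D => X = E) G := by
    rw [ObjectProperty.isClassicalTriangulatedGenerator_iff] at hE
    rw [hE]
    trivial
  rw [ObjectProperty.prop_triangEnvelope_iff] at hEG
  obtain ⟨m, hm⟩ := hEG
  have hle : (fun X : D => X = G) ≤ ObjectProperty.triangEnvelopeIter (fun X : D => X = E) m := by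
    intro X hX
    have hX' : X = G := hX
    rw [hX']
    exact hm
  refine ⟨W3.bound m n, ?_⟩
  rw [eq_top_iff, ← hn]
  exact W3.triangEnvelopeIter_le _ _ m hle n

end Groth.Agent.S1031
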