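import Groth.Statements.S10310
import Groth.Agent.H52.TwoCharts
import Groth.Agent.H52.LqfFibreDim

set_option autoImplicit false
universe u
open CategoryTheory CategoryTheory.Limits AlgebraicGeometry
open AlgSp

namespace Groth.Agent.S10310

/-- A morphism locally of finite type is locally quasi-finite if and only if it has relative dimension 0
at every point. -/
theorem result {S : Scheme.{u}} {X Y : AlgSp.Space S} (f : X ⟶ Y)
    (hf : AlgSp.LocP @LocallyOfFiniteType f.hom) :
    AlgSp.LocP (@LocallyQuasiFinite ⊓ @LocallyOfFiniteType) f.hom ↔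
      ∀ x : AlgSp.Points X.obj, AlgSp.HasAtMor (fun _ _ h u => FlatMor.fibreDimAt h u = 0) f.hom x := by
  have hX : IsAlgSpace X.obj := X.property
  have hY : IsAlgSpace Y.obj := Y.property
  constructor
  · intro H x
    obtain ⟨U, V, a, b, h, u, hae, hbe, comm, hu⟩ :=
      Groth.Agent.H52.exists_diagram_through_point hX hY f.hom x
    obtain ⟨h1, h2⟩ := H a b h hae hbe comm
    haveI : LocallyQuasiFinite h.left := h1
    haveI : LocallyOfFiniteType h.left := h2
    exact ⟨U, V, a, b, h, u, hae, hbe, comm, hu,
      Groth.Agent.H52.fibreDimAt_eq_zero_of_locallyQuasiFinite h.left u⟩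
  · intro H U V a b h hae hbe comm
    haveI hlft : LocallyOfFiniteType h.left := hf a b h hae hbe comm
    refine ⟨Groth.Agent.H52.locallyQuasiFinite_of_fibreDimAt_eq_zero h.left fun u => ?_, hlft⟩
    exact (Groth.Agent.H52.isEtaleSquareInvariant_fibreDimAt.hasAtMor_iff_forall hX hY f.hom
      (Points.ofPt a u) (0 : WithBot ℕ∞)).1 (H _) a b h u hae hbe comm rfl

end Groth.Agent.S10310
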