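import Groth.Statements.S10311
import Groth.Agent.H52.BaseChangeCharts
import Groth.Agent.Lib.Helper55.FiberBaseChange

set_option autoImplicit false
universe u
open CategoryTheory CategoryTheory.Limits AlgebraicGeometry
open AlgSp

namespace Groth.Agent.S10311

/-- The relative dimension at a point of a morphism locally of finite type is preserved by base change. -/
theorem result {S : Scheme.{u}} {X Y Y' X' : AlgSp.Space S} (f : X ⟶ Y) (g : Y' ⟶ Y)
    (g' : X' ⟶ X) (f' : X' ⟶ Y') (sq : IsPullback g'.hom f'.hom f.hom g.hom)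
    (hf : AlgSp.LocP @LocallyOfFiniteType f.hom) (x' : AlgSp.Points X'.obj) (d : WithBot ℕ∞)
    (hd : AlgSp.HasAtMor (fun _ _ h u => FlatMor.fibreDimAt h u = d) f.hom (AlgSp.Points.map g'.hom x')) :
    AlgSp.HasAtMor (fun _ _ h u => FlatMor.fibreDimAt h u = d) f'.hom x' := by
  have hX : IsAlgSpace X.obj := X.property
  have hY : IsAlgSpace Y.obj := Y.property
  have hY' : IsAlgSpace Y'.obj := Y'.property
  obtain ⟨U, V, U', V', a, b, a', b', h, h', α, β, u', hae, hbe, ha'e, hb'e, comm, comm', hα, hβ,
    sqS, hu'⟩ := Groth.Agent.H52.exists_baseChange_charts hX hY hY' sq x'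
  haveI : LocallyOfFiniteType h.left := hf a b h hae hbe comm
  have hpt : Points.ofPt a (α.left u') = Points.map g'.hom x' := by
    rw [← hu', Points.map_ofPt, hα, Groth.Agent.H52.ofPt_yon_map_comp]
  have e1 : FlatMor.fibreDimAt h.left (α.left u') = d :=
    (Groth.Agent.H52.isEtaleSquareInvariant_fibreDimAt.hasAtMor_iff_forall hX hY f.hom _ d).1 hd
      a b h (α.left u') hae hbe comm hpt
  have e2 := Groth.Agent.Lib.Helper55.fibreDimAt_eq_of_isPullback h.left β.left α.left h'.left
    sqS u'
  refine ⟨U', V', a', b', h', u', ha'e, hb'e, comm', hu', ?_⟩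
  change FlatMor.fibreDimAt h'.left u' = d
  rw [e2, e1]

end Groth.Agent.S10311
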