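import Groth.Statements.S10312
import Groth.Agent.H52.UnramLocus

set_option autoImplicit false
universe u
open CategoryTheory CategoryTheory.Limits AlgebraicGeometry
open AlgSp

namespace Groth.Agent.S10312

/-- For X -> Y over Z with X -> Z locally of finite type, the locus where X -> Y is unramified is an
open subset of |X| whose formation commutes with base change along any Z' -> Z. -/
theorem result {S : Scheme.{u}} {X Y Z Z' Y' X' : AlgSp.Space S} (f : X ⟶ Y)
    (p : X ⟶ Z) (q : Y ⟶ Z) (comm : f ≫ q = p) (hp : AlgSp.LocP @LocallyOfFiniteType p.hom) (g : Z' ⟶ Z)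
    (a : Y' ⟶ Y) (q' : Y' ⟶ Z') (sq1 : IsPullback a.hom q'.hom q.hom g.hom)
    (b : X' ⟶ X) (f' : X' ⟶ Y') (sq2 : IsPullback b.hom f'.hom f.hom a.hom) :
    IsOpen {x : AlgSp.Points X.obj | AlgSp.HasAtMor (fun U _ h u => ∃ W : U.Opens, u ∈ W ∧ LocallyOfFiniteType (W.ι ≫ h) ∧ FormallyUnramified (W.ι ≫ h)) f.hom x} ∧
    {x' : AlgSp.Points X'.obj | AlgSp.HasAtMor (fun U _ h u => ∃ W : U.Opens, u ∈ W ∧ LocallyOfFiniteType (W.ι ≫ h) ∧ FormallyUnramified (W.ι ≫ h)) f'.hom x'} =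
      AlgSp.Points.map b.hom ⁻¹' {x : AlgSp.Points X.obj | AlgSp.HasAtMor (fun U _ h u => ∃ W : U.Opens, u ∈ W ∧ LocallyOfFiniteType (W.ι ≫ h) ∧ FormallyUnramified (W.ι ≫ h)) f.hom x} := by
  have hcongr : ∀ {F G : AlgSp.Sp S} (φ : F ⟶ G) (z : AlgSp.Points F),
      AlgSp.HasAtMor (fun U _ h u => ∃ W : U.Opens, u ∈ W ∧ LocallyOfFiniteType (W.ι ≫ h) ∧
        FormallyUnramified (W.ι ≫ h)) φ z ↔
      AlgSp.HasAtMor (fun U _ h u => ∃ W : U.Opens, u ∈ W ∧
        (@LocallyOfFiniteType ⊓ @FormallyUnramified) (W.ι ≫ h)) φ z :=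
    fun φ z => Groth.Agent.H52.hasAtMor_congr (fun _ _ _ _ => Iff.rfl) φ z
  have hlft : AlgSp.LocP @LocallyOfFiniteType f.hom :=
    Groth.Agent.H52.isEtLocal_lft.locP_of_comp
      (fun _ _ _ φ ψ hφψ => by
        have : LocallyOfFiniteType (φ ≫ ψ) := hφψ
        exact locallyOfFiniteType_of_comp φ ψ)
      Z.property f.hom q.hom (by
        have : f.hom ≫ q.hom = p.hom := congrArg (fun m => m.hom) comm
        rw [this]; exact hp)
  refine ⟨?_, ?_⟩
  · have := Groth.Agent.H52.isOpen_setOf_hasAtMor_nhd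
      (@LocallyOfFiniteType ⊓ @FormallyUnramified) f.hom
    convert this using 2
    ext x
    exact hcongr f.hom x
  · ext x'
    rw [Set.mem_setOf_eq, Set.mem_preimage, Set.mem_setOf_eq, hcongr, hcongr]
    exact Groth.Agent.H52.hasAtMor_unramified_baseChange_iff X.property Y.property Y'.property
      X'.property sq2 hlft x'

end Groth.Agent.S10312
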