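import Groth.Statements.S10313
import Groth.Agent.H52.LqfLocus
import Groth.Agent.H52.UnramLocus
import Groth.Agent.H52.LocPCalc4
import Groth.Agent.Lib.Helper54.OpenSubspace
import Groth.Agent.Lib.Helper54.LocalST
import Groth.Agent.Lib.Helper54.SourceLocal2
import Groth.Agent.H53.Proper

set_option autoImplicit false
universe u
open CategoryTheory CategoryTheory.Limits AlgebraicGeometry
open AlgSp

namespace Groth.Agent.S10313

/-- For f locally of finite type there is an open subspace of X on which f is locally quasi-finite,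
outside of which the relative dimension is at least 1, and whose formation commutes with base
change. -/
theorem result {S : Scheme.{u}} {X Y : AlgSp.Space S} (f : X ⟶ Y)
    (hf : AlgSp.LocP @LocallyOfFiniteType f.hom) :
    ∃ (X' : AlgSp.Space S) (j : X' ⟶ X), AlgSp.RepWith @IsOpenImmersion j.hom ∧
      AlgSp.LocP (@LocallyQuasiFinite ⊓ @LocallyOfFiniteType) (j ≫ f).hom ∧
      (∀ x : AlgSp.Points X.obj, x ∉ Set.range (AlgSp.Points.map j.hom) →
        AlgSp.HasAtMor (fun _ _ h u => 1 ≤ FlatMor.fibreDimAt h u) f.hom x) ∧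
      ∀ (Y'' X'' : AlgSp.Space S) (g : Y'' ⟶ Y) (b : X'' ⟶ X) (f'' : X'' ⟶ Y''),
        IsPullback b.hom f''.hom f.hom g.hom → ∀ x'' : AlgSp.Points X''.obj,
          AlgSp.Points.map b.hom x'' ∈ Set.range (AlgSp.Points.map j.hom) ↔ AlgSp.HasAtMor (fun U _ h u => ∃ W : U.Opens, u ∈ W ∧ LocallyQuasiFinite (W.ι ≫ h) ∧ LocallyOfFiniteType (W.ι ≫ h)) f''.hom x'' := by
  have hX := X.property
  have hY := Y.property
  have hΩ : IsOpen (Groth.Agent.H52.lqfLocus f.hom) := Groth.Agent.H52.isOpen_lqfLocus f.hom hf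
  have hι := Groth.Agent.Lib.Helper54.repWith_isOpenImmersion_openSubι X.obj
    (Groth.Agent.H52.lqfLocus f.hom) hΩ
  have hrange := Groth.Agent.Lib.Helper54.range_points_map_openSubι X.obj
    (Groth.Agent.H52.lqfLocus f.hom)
  have hιe : AlgSp.IsEtaleMor (Groth.Agent.Lib.Helper54.openSubι X.obj (Groth.Agent.H52.lqfLocus f.hom)) :=
    Groth.Agent.Lib.Helper54.isEtaleMor_of_repWith_isOpenImmersion hι
  have hιet : AlgSp.RepWith @Etale
      (Groth.Agent.Lib.Helper54.openSubι X.obj (Groth.Agent.H52.lqfLocus f.hom)) :=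
    Groth.Agent.H53.repWith_of_le (fun _ _ φ hφ => by
      have : IsOpenImmersion φ := hφ; infer_instance) hι
  refine ⟨⟨Groth.Agent.Lib.Helper54.openSub X.obj (Groth.Agent.H52.lqfLocus f.hom),
    Groth.Agent.Lib.Helper54.isAlgSpace_openSub hX _ hΩ⟩,
    ObjectProperty.homMk (Groth.Agent.Lib.Helper54.openSubι X.obj (Groth.Agent.H52.lqfLocus f.hom)),
    hι, ?_, ?_, ?_⟩
  · intro U V a b h ha hb comm
    have hlft : LocallyOfFiniteType h.left :=
      (Groth.Agent.Lib.Helper54.locP_precomp_isEtaleMor hιe hf) a b h ha hb comm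
    refine ⟨?_, hlft⟩
    refine Groth.Agent.H52.locallyQuasiFinite_of_fibreDimAt_eq_zero h.left fun u => ?_
    have hmem : AlgSp.Points.ofPt (a ≫ Groth.Agent.Lib.Helper54.openSubι X.obj
        (Groth.Agent.H52.lqfLocus f.hom)) u ∈ Groth.Agent.H52.lqfLocus f.hom :=
      hrange.subset ⟨AlgSp.Points.ofPt a u, rfl⟩
    exact (Groth.Agent.H52.mem_lqfLocus_iff_forall hX hY f.hom _).1 hmem
      (a ≫ Groth.Agent.Lib.Helper54.openSubι X.obj (Groth.Agent.H52.lqfLocus f.hom)) b h u
      ((AlgSp.RepWith (S := S) @Etale).comp_mem _ _ ha hιet) hb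
      (by rw [Category.assoc]; exact comm) rfl
  · intro x hx
    have hx' : x ∉ Groth.Agent.H52.lqfLocus f.hom := fun hmem => hx (hrange.symm.subset hmem)
    obtain ⟨U, V, a, b, h, u, ha, hb, comm, hu⟩ :=
      Groth.Agent.H52.exists_diagram_through_point hX hY f.hom x
    exact ⟨U, V, a, b, h, u, ha, hb, comm, hu,
      Groth.Agent.H52.one_le_of_ne_zero_of_nonneg (Groth.Agent.H52.fibreDimAt_nonneg _ _)
        (fun h0 => hx' ⟨U, V, a, b, h, u, ha, hb, comm, hu, h0⟩)⟩
  · intro Y'' X'' g b f'' sq x''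
    have hf'' : AlgSp.LocP @LocallyOfFiniteType f''.hom :=
      Groth.Agent.H52.isEtLocal_lft.locP_of_isPullback hX hY Y''.property sq hf
    change AlgSp.Points.map b.hom x'' ∈ Set.range (AlgSp.Points.map
      (Groth.Agent.Lib.Helper54.openSubι X.obj (Groth.Agent.H52.lqfLocus f.hom))) ↔ _
    rw [hrange, ← Groth.Agent.H52.mem_lqfLocus_baseChange_iff hX hY Y''.property X''.property sq hf x'',
      Groth.Agent.H52.mem_lqfLocus_iff_hasAtMor_nhd X''.property Y''.property f''.hom hf'' x'']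
    exact Groth.Agent.H52.hasAtMor_congr (fun _ _ _ _ => Iff.rfl) f''.hom x''

end Groth.Agent.S10313
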