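import Groth.Statements.S10314
import Groth.Agent.H52.TwoCharts
import Groth.Agent.H52.DimLocal2
import Groth.Agent.H53.NoSpecNoeth
import Groth.Agent.Lib.Helper55.FiberBaseChange
import Groth.Agent.S9359

set_option autoImplicit false
universe u
open CategoryTheory CategoryTheory.Limits AlgebraicGeometry
open AlgSp

namespace Groth.Agent.S10314

/-- For a flat morphism locally of finite type of relative dimension d between locally Noetherian
algebraic spaces, the dimension of X at a point equals the dimension of Y at the image point plus d. -/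
theorem result {S : Scheme.{u}} {X Y : AlgSp.Space S} (f : X ⟶ Y)
    (hX : AlgSp.IsLocNoethSp X.obj) (hY : AlgSp.IsLocNoethSp Y.obj) (hf : AlgSp.LocP @Flat f.hom)
    (hf' : AlgSp.LocP @LocallyOfFiniteType f.hom) (d : ℕ)
    (hd : ∀ x : AlgSp.Points X.obj, AlgSp.HasAtMor (fun _ _ h u => FlatMor.fibreDimAt h u = (d : WithBot ℕ∞)) f.hom x)
    (x : AlgSp.Points X.obj) (dX dY : WithBot ℕ∞) (hx : AlgSp.HasAt (fun U u => FlatMor.localDim ↥U u = dX) X.obj x)
    (hy : AlgSp.HasAt (fun U u => FlatMor.localDim ↥U u = dY) Y.obj (AlgSp.Points.map f.hom x)) :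
    dX = dY + (d : WithBot ℕ∞) := by
  have hXs : IsAlgSpace X.obj := X.property
  have hYs : IsAlgSpace Y.obj := Y.property
  obtain ⟨U, V, a, b, h, u, hae, hbe, comm, hu⟩ :=
    Groth.Agent.H52.exists_diagram_through_point hXs hYs f.hom x
  haveI hUN : IsLocallyNoetherian U.left :=
    Groth.Agent.H53.isLocallyNoetherian_of_etale_chart hX a hae
  haveI hVN : IsLocallyNoetherian V.left :=
    Groth.Agent.H53.isLocallyNoetherian_of_etale_chart hY b hbe
  haveI : Flat h.left := hf a b h hae hbe comm
  haveI : LocallyOfFiniteType h.left := hf' a b h hae hbe comm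
  have hrel : Cyc.HasRelDim h.left d :=
    (Groth.Agent.Lib.Helper55.hasRelDim_iff_fibreDimAt h.left d).2 fun u₀ =>
      (Groth.Agent.H52.isEtaleSquareInvariant_fibreDimAt.hasAtMor_iff_forall hXs hYs f.hom
        (Points.ofPt a u₀) (d : WithBot ℕ∞)).1 (hd _) a b h u₀ hae hbe comm rfl
  have key := Groth.Agent.S9359.result h.left d hrel u
  have hQ : ∀ (t : WithBot ℕ∞) ⦃W U : Scheme.{u}⦄ (g : W ⟶ U) [Etale g] (w : W),
      FlatMor.localDim ↥W w = t ↔ FlatMor.localDim ↥U (g w) = t := by
    intro t W U g _ w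
    rw [Groth.Agent.H52.localDim_eq_of_etale g w]
  have eX : FlatMor.localDim ↥U.left u = dX :=
    (Groth.Agent.H52.hasAt_iff_forall_chart (hQ dX) hXs x).1 hx U a u hae hu
  have hv : Points.ofPt b (h.left u) = Points.map f.hom x := by
    rw [← hu, Points.map_ofPt, comm, Groth.Agent.H52.ofPt_yon_map_comp]
  have eY : FlatMor.localDim ↥V.left (h.left u) = dY :=
    (Groth.Agent.H52.hasAt_iff_forall_chart (hQ dY) hYs _).1 hy V b (h.left u) hbe hv
  rw [eX] at key
  rw [key]
  congr 1

end Groth.Agent.S10314
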