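import Groth.Statements.S10316
import Groth.Agent.H52.TwoCharts
import Groth.Agent.H52.LqfFibreDim

set_option autoImplicit false
universe u
open CategoryTheory CategoryTheory.Limits AlgebraicGeometry
open AlgSp

namespace Groth.Agent.S10316

/-- For X -> Y locally quasi-finite and Y -> Z locally of finite type, the transcendence degree of x
over Z equals that of its image y over Z. -/
theorem result {S : Scheme.{u}} {X Y Z : AlgSp.Space S} (f : X ⟶ Y) (g : Y ⟶ Z)
    (hf : AlgSp.LocP (@LocallyQuasiFinite ⊓ @LocallyOfFiniteType) f.hom) (hg : AlgSp.LocP @LocallyOfFiniteType g.hom)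
    (x : AlgSp.Points X.obj) (r : Cardinal.{u}) :
    AlgSp.HasAtMor (fun _ _ h u => Dual3.resTrdeg h u = r) (f ≫ g).hom x ↔
      AlgSp.HasAtMor (fun _ _ h u => Dual3.resTrdeg h u = r) g.hom (AlgSp.Points.map f.hom x) := by
  have hX : IsAlgSpace X.obj := X.property
  have hY : IsAlgSpace Y.obj := Y.property
  have hZ : IsAlgSpace Z.obj := Z.property
  obtain ⟨W, c, w, hce, hcw⟩ :=
    Groth.Agent.H52.exists_chart_through_point hZ (Points.map g.hom (Points.map f.hom x))
  obtain ⟨V, b0, k₂, v, hbe, hbk, hbv, hkv⟩ :=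
    Groth.Agent.H52.exists_chart_over_through_point hY hZ g.hom c hce (Points.map f.hom x) w hcw
  obtain ⟨U, a0, k₁, u, hae, hak, hau, hku⟩ :=
    Groth.Agent.H52.exists_chart_over_through_point hX hY f.hom b0 hbe x v hbv
  subst hku
  obtain ⟨h1, h2⟩ := hf a0 b0 k₁ hae hbe hak
  haveI : LocallyQuasiFinite k₁.left := h1
  haveI : LocallyOfFiniteType k₁.left := h2
  have e0 : Dual3.resTrdeg k₁.left u = 0 :=
    Groth.Agent.H52.resTrdeg_eq_zero_of_locallyQuasiFinite k₁.left u
  have key : Dual3.resTrdeg k₂.left (k₁.left u) + Dual3.resTrdeg k₁.left u =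
      Dual3.resTrdeg (k₁.left ≫ k₂.left) u :=
    Groth.Agent.Lib.Helper55.trdeg_residueField_comp k₁.left k₂.left u
  rw [e0, add_zero] at key
  have comm : a0 ≫ (f ≫ g).hom = (yon S).map (k₁ ≫ k₂) ≫ c := by
    change a0 ≫ f.hom ≫ g.hom = _
    rw [← Category.assoc, hak, Category.assoc, hbk, Functor.map_comp, Category.assoc]
  constructor
  · intro H
    have e1 : Dual3.resTrdeg (k₁ ≫ k₂).left u = r :=
      (Groth.Agent.H52.isEtaleSquareInvariant_resTrdeg.hasAtMor_iff_forall hX hZ (f ≫ g).hom x r).1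
        H a0 c (k₁ ≫ k₂) u hae hce comm hau
    refine ⟨V, W, b0, c, k₂, k₁.left u, hbe, hce, hbk, hbv, ?_⟩
    change Dual3.resTrdeg k₂.left (k₁.left u) = r
    rw [key]
    exact e1
  · intro H
    have e1 : Dual3.resTrdeg k₂.left (k₁.left u) = r :=
      (Groth.Agent.H52.isEtaleSquareInvariant_resTrdeg.hasAtMor_iff_forall hY hZ g.hom
        (Points.map f.hom x) r).1 H b0 c k₂ (k₁.left u) hbe hce hbk hbv
    refine ⟨U, W, a0, c, k₁ ≫ k₂, u, hae, hce, comm, hau, ?_⟩
    change Dual3.resTrdeg (k₁.left ≫ k₂.left) u = r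
    rw [← key]
    exact e1

end Groth.Agent.S10316
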