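import Groth.Statements.S10318
import Groth.Agent.H52.JacobsonTrdeg
import Groth.Agent.H52.LocPCalc5

set_option autoImplicit false
universe u
open CategoryTheory CategoryTheory.Limits AlgebraicGeometry
open AlgSp

namespace Groth.Agent.S10318

/-- Over a Jacobson algebraic space, a finite type point of a space locally of finite type over it has
transcendence degree 0 over its image. -/
theorem result {S : Scheme.{u}} {X Y : AlgSp.Space S} (f : X ⟶ Y)
    (hf : AlgSp.LocP @LocallyOfFiniteType f.hom) (hY : AlgSp.EtaleLocally (fun U => JacobsonSpace ↥U) Y.obj)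
    (x : AlgSp.Points X.obj) (hx : AlgSp.HasAt (fun U u => IsClosed ({u} : Set ↥U)) X.obj x) :
    AlgSp.HasAtMor (fun _ _ h u => Dual3.resTrdeg h u = 0) f.hom x := by
  obtain ⟨V, b, hbe, hbs, hJ⟩ := hY
  obtain ⟨U₁, a₁, u₁, ha₁, hu₁, hcl⟩ := hx
  have hrep := hbe.rep
  have sq := hrep.isPullback (a₁ ≫ f.hom)
  have h1 : Etale (hrep.snd (a₁ ≫ f.hom)).left := hbe.property_snd (a₁ ≫ f.hom)
  have h2 : Surjective (hrep.snd (a₁ ≫ f.hom)).left := hbs.property_snd (a₁ ≫ f.hom)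
  obtain ⟨h, hh⟩ := (AlgSp.yon S).map_surjective (hrep.fst (a₁ ≫ f.hom))
  have h3 : AlgSp.RepWith @Etale ((AlgSp.yon S).map (hrep.snd (a₁ ≫ f.hom)) ≫ a₁) :=
    (AlgSp.RepWith (S := S) @Etale).comp_mem _ _ ((AlgSp.repWith_yon_map_iff _ _).2 h1) ha₁
  have comm : ((AlgSp.yon S).map (hrep.snd (a₁ ≫ f.hom)) ≫ a₁) ≫ f.hom =
      (AlgSp.yon S).map h ≫ b := by
    rw [Category.assoc, hh]; exact sq.w.symm
  haveI : LocallyOfFiniteType h.left := hf _ b h h3 hbe comm
  obtain ⟨w, hw⟩ := h2.surj u₁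
  have hcl' : IsClosed ({u₁} : Set ↥U₁.left) := hcl
  have hwcl : IsClosed ({w} : Set ↥(hrep.pullback (a₁ ≫ f.hom)).left) :=
    Groth.Agent.H52.isClosed_singleton_of_etale (hrep.snd (a₁ ≫ f.hom)).left w
      (by rw [hw]; exact hcl')
  haveI : JacobsonSpace ↥V.left := hJ
  refine ⟨_, V, _, b, h, w, h3, hbe, comm, ?_,
    Groth.Agent.H52.resTrdeg_eq_zero_of_isClosed_of_jacobsonSpace h.left w hwcl⟩
  rw [Groth.Agent.H52.ofPt_yon_map_comp, hw, hu₁]

end Groth.Agent.S10318
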