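import Groth.Statements.S10319
import Groth.Agent.H52.TwoCharts
import Groth.Agent.Lib.Helper55.FiberCompDim

set_option autoImplicit false
universe u
open CategoryTheory CategoryTheory.Limits AlgebraicGeometry
open AlgSp

namespace Groth.Agent.S10319

/-- Transcendence degrees at a point add up along a composition of morphisms locally of finite type. -/
theorem result {S : Scheme.{u}} {X Y Z : AlgSp.Space S} (f : X ⟶ Y) (g : Y ⟶ Z)
    (hf : AlgSp.LocP @LocallyOfFiniteType f.hom) (hg : AlgSp.LocP @LocallyOfFiniteType g.hom)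
    (x : AlgSp.Points X.obj) (r₁ r₂ : Cardinal.{u})
    (h1 : AlgSp.HasAtMor (fun _ _ h u => Dual3.resTrdeg h u = r₁) f.hom x)
    (h2 : AlgSp.HasAtMor (fun _ _ h u => Dual3.resTrdeg h u = r₂) g.hom (AlgSp.Points.map f.hom x)) :
    AlgSp.HasAtMor (fun _ _ h u => Dual3.resTrdeg h u = r₁ + r₂) (f ≫ g).hom x := by
  have hX : IsAlgSpace X.obj := X.property
  have hY : IsAlgSpace Y.obj := Y.property
  have hZ : IsAlgSpace Z.obj := Z.property
  obtain ⟨W, c, w, hce, hcw⟩ :=
    Groth.Agent.H52.exists_chart_through_point hZ (Points.map g.hom (Points.map f.hom x))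
  obtain ⟨V, b0, k₂, v, hbe, hbk, hbv, hkv⟩ :=
    Groth.Agent.H52.exists_chart_over_through_point hY hZ g.hom c hce (Points.map f.hom x) w hcw
  obtain ⟨U, a0, k₁, u, hae, hak, hau, hku⟩ :=
    Groth.Agent.H52.exists_chart_over_through_point hX hY f.hom b0 hbe x v hbv
  subst hku
  have e1 : Dual3.resTrdeg k₁.left u = r₁ :=
    (Groth.Agent.H52.isEtaleSquareInvariant_resTrdeg.hasAtMor_iff_forall hX hY f.hom x r₁).1 h1
      a0 b0 k₁ u hae hbe hak hau
  have e2 : Dual3.resTrdeg k₂.left (k₁.left u) = r₂ :=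
    (Groth.Agent.H52.isEtaleSquareInvariant_resTrdeg.hasAtMor_iff_forall hY hZ g.hom
      (Points.map f.hom x) r₂).1 h2 b0 c k₂ (k₁.left u) hbe hce hbk hbv
  have key : Dual3.resTrdeg k₂.left (k₁.left u) + Dual3.resTrdeg k₁.left u =
      Dual3.resTrdeg (k₁.left ≫ k₂.left) u :=
    Groth.Agent.Lib.Helper55.trdeg_residueField_comp k₁.left k₂.left u
  have comm : a0 ≫ (f ≫ g).hom = (yon S).map (k₁ ≫ k₂) ≫ c := by
    change a0 ≫ f.hom ≫ g.hom = _
    rw [← Category.assoc, hak, Category.assoc, hbk, Functor.map_comp, Category.assoc]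
  rw [e1, e2, add_comm] at key
  exact ⟨U, W, a0, c, k₁ ≫ k₂, u, hae, hce, comm, hau, key.symm⟩

end Groth.Agent.S10319
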