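import Groth.Statements.S1032
import Mathlib.Algebra.Homology.DerivedCategory.KInjective
import Mathlib.CategoryTheory.Functor.Derived.PointwiseRightDerived
universe w v v' u u'
open CategoryTheory CategoryTheory.Limits
open CohDer
namespace Groth.Agent.S1032

section
variable {A : Type u} [Category.{v} A] [Abelian A] [HasDerivedCategory.{w} A]

/-- For a K-injective complex `I`, `(I, 𝟙)` is terminal in the costructured arrows over `Qh.obj I`. -/
noncomputable def isTerminalMkId (I : CochainComplex A ℤ) [I.IsKInjective] :
    IsTerminal (CostructuredArrow.mk (S := (DerivedCategory.Qh (C := A)))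
      (𝟙 (DerivedCategory.Qh.obj ((HomotopyCategory.quotient A (ComplexShape.up ℤ)).obj I)))) := by
  refine IsTerminal.ofUniqueHom (fun X => ?_) (fun X m => ?_)
  · exact CostructuredArrow.homMk
      ((CochainComplex.IsKInjective.Qh_map_bijective X.left I).surjective X.hom).choose
      (by
        have := ((CochainComplex.IsKInjective.Qh_map_bijective X.left I).surjective X.hom).choose_spec
        simpa using this)
  · ext
    apply (CochainComplex.IsKInjective.Qh_map_bijective X.left I).injective
    have h1 := ((CochainComplex.IsKInjective.Qh_map_bijective X.left I).surjective X.hom).choose_spec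
    have h2 := CostructuredArrow.w m
    simp only [CostructuredArrow.homMk_left]
    rw [h1]
    simpa using h2

end

/-- Let A be an abelian category in which every cochain complex admits a quasi-isomorphism to a
K-injective complex, and let F be an exact functor from the homotopy category K(A) to a
pretriangulated category. Then F has a right derived functor RF with respect to quasi-isomorphisms
(defined on D(A)), and the canonical map F(I) ⟶ RF(I) is an isomorphism for every K-injective
complex I. -/
theorem result {A : Type u} [Category.{v} A] [Abelian A] [HasDerivedCategory.{w} A]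
    (hKinj : ∀ K : CochainComplex A ℤ, ∃ (I : CochainComplex A ℤ) (f : K ⟶ I), I.IsKInjective ∧ QuasiIso f)
    {D' : Type u'} [Category.{v'} D'] [Preadditive D'] [Limits.HasZeroObject D'] [HasShift D' ℤ]
    [∀ n : ℤ, (shiftFunctor D' n).Additive] [Pretriangulated D']
    [IsTriangulated D']
    (F : HomotopyCategory A (ComplexShape.up ℤ) ⥤ D') [F.CommShift ℤ] [F.IsTriangulated] :
    F.HasRightDerivedFunctor (HomotopyCategory.quasiIso A (ComplexShape.up ℤ)) ∧
    ∀ [F.HasRightDerivedFunctor (HomotopyCategory.quasiIso A (ComplexShape.up ℤ))] (I : CochainComplex A ℤ), I.IsKInjective →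
      IsIso ((F.totalRightDerivedUnit DerivedCategory.Qh (HomotopyCategory.quasiIso A (ComplexShape.up ℤ))).app
        ((HomotopyCategory.quotient A (ComplexShape.up ℤ)).obj I)) := by
  have hI : ∀ (I : CochainComplex A ℤ), I.IsKInjective →
      F.HasPointwiseRightDerivedFunctorAt (HomotopyCategory.quasiIso A (ComplexShape.up ℤ))
        ((HomotopyCategory.quotient A (ComplexShape.up ℤ)).obj I) := by
    intro I hI
    rw [Functor.hasPointwiseRightDerivedFunctorAt_iff F DerivedCategory.Qh]
    exact ⟨_, colimitOfDiagramTerminal (isTerminalMkId I) _⟩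
  have hpt : F.HasPointwiseRightDerivedFunctor (HomotopyCategory.quasiIso A (ComplexShape.up ℤ)) := by
    intro X
    obtain ⟨K, rfl⟩ := HomotopyCategory.quotient_obj_surjective X
    obtain ⟨I, f, hI', hf⟩ := hKinj K
    rw [Functor.hasPointwiseRightDerivedFunctorAt_iff_of_mem F _
      ((HomotopyCategory.quotient A (ComplexShape.up ℤ)).map f)
      (by rwa [HomotopyCategory.quotient_map_mem_quasiIso_iff])]
    exact hI I hI'
  refine ⟨inferInstance, ?_⟩
  intro _ I hI'
  have hc := Functor.isPointwiseLeftKanExtensionOfHasPointwiseRightDerivedFunctor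
    (F.totalRightDerived DerivedCategory.Qh (HomotopyCategory.quasiIso A (ComplexShape.up ℤ)))
    (F.totalRightDerivedUnit DerivedCategory.Qh (HomotopyCategory.quasiIso A (ComplexShape.up ℤ)))
    (HomotopyCategory.quasiIso A (ComplexShape.up ℤ))
    (DerivedCategory.Qh.obj ((HomotopyCategory.quotient A (ComplexShape.up ℤ)).obj I))
  have := IsColimit.isIso_ι_app_of_isTerminal hc _ (isTerminalMkId I)
  simp at this
  exact this
end Groth.Agent.S1032
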