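import Groth.Statements.S10320
import Groth.Agent.H52.TwoCharts
import Groth.Agent.Lib.Helper55.FiberCompDim

set_option autoImplicit false
universe u
open CategoryTheory CategoryTheory.Limits AlgebraicGeometry
open AlgSp

namespace Groth.Agent.S10320

/-- For f locally of finite type, the relative dimension of f at x equals the dimension of the local
ring of the fibre at x plus the transcendence degree of x over its image. -/
theorem result {S : Scheme.{u}} {X Y : AlgSp.Space S} (f : X ⟶ Y)
    (hf : AlgSp.LocP @LocallyOfFiniteType f.hom) (x : AlgSp.Points X.obj) (d e : WithBot ℕ∞) (r : Cardinal.{u})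
    (hd : AlgSp.HasAtMor (fun _ _ h u => FlatMor.fibreDimAt h u = d) f.hom x)
    (he : AlgSp.HasAtMor (fun _ _ h u => ringKrullDim ↥((h.fiber (h u)).presheaf.stalk (h.asFiber u)) = e) f.hom x)
    (hr : AlgSp.HasAtMor (fun _ _ h u => Dual3.resTrdeg h u = r) f.hom x) :
    d = e + ((Cardinal.toENat r : ℕ∞) : WithBot ℕ∞) := by
  have hX : IsAlgSpace X.obj := X.property
  have hY : IsAlgSpace Y.obj := Y.property
  obtain ⟨U, V, a, b, h, u, hae, hbe, comm, hu, hQ⟩ := he
  haveI hlft : LocallyOfFiniteType h.left := hf a b h hae hbe comm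
  have e1 : FlatMor.fibreDimAt h.left u = d :=
    (Groth.Agent.H52.isEtaleSquareInvariant_fibreDimAt.hasAtMor_iff_forall hX hY f.hom x d).1 hd
      a b h u hae hbe comm hu
  have e2 : Dual3.resTrdeg h.left u = r :=
    (Groth.Agent.H52.isEtaleSquareInvariant_resTrdeg.hasAtMor_iff_forall hX hY f.hom x r).1 hr
      a b h u hae hbe comm hu
  obtain ⟨n, hn1, hn2⟩ := Groth.Agent.Lib.Helper55.fibreDimAt_eq_stalk_add_trdeg h.left u
  obtain ⟨eq⟩ := Groth.Agent.Lib.Helper55.nonempty_stalk_fiber_equiv h.left (h.left u)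
    (h.left.asFiber u) u (h.left.fiberι_asFiber u)
  have hQ' : ringKrullDim ↥((h.left.fiber (h.left u)).presheaf.stalk (h.left.asFiber u)) = e := hQ
  have hr' : r = (n : Cardinal.{u}) := by
    rw [← e2]
    exact hn1
  rw [← e1, hn2, ringKrullDim_eq_of_ringEquiv eq, hQ', hr', Cardinal.toENat_nat]
  rfl

end Groth.Agent.S10320
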