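import Groth.Statements.S10321
import Groth.Agent.Lib.Helper54.QAffEtaleImage
import Groth.Agent.H53.OpenSub2
set_option backward.isDefEq.respectTransparency false

set_option autoImplicit false
universe u
open CategoryTheory CategoryTheory.Limits AlgebraicGeometry
open AlgSp

namespace Groth.Agent.S10321

/-- Let X be separated and locally quasi-finite over an affine scheme T, let T' -> T be etale with T'
affine, and let V' be an open subspace of T' ×_T X that is quasi-affine over T'. Then V' maps onto a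
quasi-compact open subspace of X that is itself a scheme. -/
theorem result {S : Scheme.{u}} {T T' : Over S} [IsAffine T.left]
    [IsAffine T'.left] (e : T' ⟶ T) [Etale e.left] {X P V' : AlgSp.Space S} (f : X ⟶ (AlgSp.ofScheme S).obj T)
    (hsep : AlgSp.IsSeparatedMor f.hom) (hqf : AlgSp.LocP (@LocallyQuasiFinite ⊓ @LocallyOfFiniteType) f.hom)
    (p1 : P ⟶ (AlgSp.ofScheme S).obj T') (p2 : P ⟶ X)
    (sq : IsPullback p2.hom p1.hom f.hom ((AlgSp.yon S).map e)) (j : V' ⟶ P)
    (hj : AlgSp.RepWith @IsOpenImmersion j.hom) (hqa : AlgSp.IsQuasiAffineMor (j ≫ p1).hom) :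
    ∃ (W : Over S) (i : (AlgSp.yon S).obj W ⟶ X.obj), AlgSp.RepWith @IsOpenImmersion i ∧ CompactSpace ↥W.left ∧
      Set.range (AlgSp.Points.map i) = Set.range (AlgSp.Points.map (j ≫ p2).hom) := by
  have hT : IsAffine T.left := inferInstance
  have hT' : IsAffine T'.left := inferInstance
  have he : Etale e.left := inferInstance
  obtain ⟨W₀, i₀, fst, sq₀, hW₀⟩ := hqa hT' (𝟙 _)
  have hiso : IsIso fst := sq₀.isIso_fst_of_isIso
  have hj' : AlgSp.RepWith @IsOpenImmersion (fst ≫ j.hom) :=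
    MorphismProperty.RespectsIso.precomp _ _ _ hj
  have hoe : ∀ ⦃A B : Scheme.{u}⦄ (φ : A ⟶ B), IsOpenImmersion φ → Etale φ :=
    fun _ _ φ hφ => by have := hφ; infer_instance
  have hE : (AlgSp.RepWith (S := S) @Etale).IsMultiplicative := AlgSp.repWith_isMultiplicative _
  have hp2e : AlgSp.RepWith @Etale p2.hom :=
    MorphismProperty.of_isPullback sq.flip ((AlgSp.repWith_yon_map_iff _ _).2 he)
  have hbe : AlgSp.RepWith @Etale ((fst ≫ j.hom) ≫ p2.hom) :=
    (AlgSp.RepWith (S := S) @Etale).comp_mem _ _ (Groth.Agent.H53.repWith_of_le hoe hj') hp2e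
  have hrep := Groth.Agent.Lib.Helper54.isRepresentable_image_of_quasiAffine_over_etale hT hT' e he
    X.property f.hom hsep hqf p1.hom p2.hom sq hW₀ (fst ≫ j.hom) hj'
  obtain ⟨⟨Y, ⟨r⟩⟩⟩ := hrep
  have hW₀c : CompactSpace ↥W₀.left := inferInstance
  have hqc : AlgSp.IsQuasiCompactSp (Sheaf.image ((fst ≫ j.hom) ≫ p2.hom)) :=
    ⟨W₀, _, Groth.Agent.H52.repWith_etale_toImage _ hbe,
      Groth.Agent.H52.repWith_surjective_toImage _ hbe, hW₀c⟩
  refine ⟨Y, (AlgSp.isoOfRepresentableBy r).hom ≫ Sheaf.imageι ((fst ≫ j.hom) ≫ p2.hom),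
    MorphismProperty.RespectsIso.precomp _ _ _
      (Groth.Agent.H52.repWith_isOpenImmersion_imageι _ hbe),
    Groth.Agent.H52.compactSpace_of_isQuasiCompactSp_yon _
      (Groth.Agent.Lib.Helper54.isQuasiCompactSp_of_iso (AlgSp.isoOfRepresentableBy r).symm hqc), ?_⟩
  have h1 : Set.range (AlgSp.Points.map
      ((AlgSp.isoOfRepresentableBy r).hom ≫ Sheaf.imageι ((fst ≫ j.hom) ≫ p2.hom))) =
      Set.range (AlgSp.Points.map (Sheaf.imageι ((fst ≫ j.hom) ≫ p2.hom))) := by
    ext x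
    constructor
    · rintro ⟨y, rfl⟩
      exact ⟨_, (AlgSp.Points.map_comp _ _ y).symm⟩
    · rintro ⟨y, rfl⟩
      refine ⟨AlgSp.Points.map (AlgSp.isoOfRepresentableBy r).inv y, ?_⟩
      rw [← AlgSp.Points.map_comp, Iso.inv_hom_id_assoc]
  have h2 : Set.range (AlgSp.Points.map ((fst ≫ j.hom) ≫ p2.hom)) =
      Set.range (AlgSp.Points.map (j ≫ p2).hom) := by
    ext x
    constructor
    · rintro ⟨y, rfl⟩
      refine ⟨AlgSp.Points.map fst y, ?_⟩
      rw [← AlgSp.Points.map_comp]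
      rfl
    · rintro ⟨y, rfl⟩
      refine ⟨AlgSp.Points.map (inv fst) y, ?_⟩
      rw [← AlgSp.Points.map_comp, Category.assoc, IsIso.inv_hom_id_assoc]
      rfl
  rw [h1, Groth.Agent.H52.range_points_map_imageι _ hbe,
    ← Groth.Agent.H53.range_points_map_eq_range_ofPt, h2]

end Groth.Agent.S10321
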