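import Groth.Statements.S10323
import Groth.Agent.H52.TwoCharts
import Groth.Agent.H52.DimLocal2
import Groth.Agent.H53.NoSpecNoeth
import Groth.Agent.Lib.Helper55.FiberCompDim
import Groth.Agent.S9687

set_option autoImplicit false
universe u
open CategoryTheory CategoryTheory.Limits AlgebraicGeometry
open AlgSp

namespace Groth.Agent.S10323

/-- For Y locally Noetherian and f locally of finite type, the dimension of the local ring of X at x is
at most the dimension of the local ring of Y at the image point plus E minus the transcendence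
degree of x over its image, where E bounds the transcendence degrees of the codimension-0 points
specializing to x. -/
theorem result {S : Scheme.{u}} {X Y : AlgSp.Space S} (f : X ⟶ Y)
    (hY : AlgSp.IsLocNoethSp Y.obj) (hf : AlgSp.LocP @LocallyOfFiniteType f.hom) (x : AlgSp.Points X.obj)
    (E : Cardinal.{u})
    (hE : ∀ ξ : AlgSp.Points X.obj, ξ ⤳ x → AlgSp.HasAt (fun U u => ringKrullDim ↥(U.presheaf.stalk u) = 0) X.obj ξ →
      ∀ s : Cardinal.{u}, AlgSp.HasAtMor (fun _ _ h u => Dual3.resTrdeg h u = s) f.hom ξ → s ≤ E)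
    (a b : WithBot ℕ∞) (r : Cardinal.{u})
    (ha : AlgSp.HasAt (fun U u => ringKrullDim ↥(U.presheaf.stalk u) = a) X.obj x)
    (hb : AlgSp.HasAt (fun U u => ringKrullDim ↥(U.presheaf.stalk u) = b) Y.obj (AlgSp.Points.map f.hom x))
    (hr : AlgSp.HasAtMor (fun _ _ h u => Dual3.resTrdeg h u = r) f.hom x) :
    a + ((Cardinal.toENat r : ℕ∞) : WithBot ℕ∞) ≤ b + ((Cardinal.toENat E : ℕ∞) : WithBot ℕ∞) := by
  have hXs : IsAlgSpace X.obj := X.property
  have hYs : IsAlgSpace Y.obj := Y.property
  obtain ⟨U, V, a0, b0, h, u, hae, hbe, comm, hu⟩ :=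
    Groth.Agent.H52.exists_diagram_through_point hXs hYs f.hom x
  haveI hVN : IsLocallyNoetherian V.left :=
    Groth.Agent.H53.isLocallyNoetherian_of_etale_chart hY b0 hbe
  haveI : LocallyOfFiniteType h.left := hf a0 b0 h hae hbe comm
  have hQ : ∀ (t : WithBot ℕ∞) ⦃W U : Scheme.{u}⦄ (g : W ⟶ U) [Etale g] (w : W),
      ringKrullDim ↥(W.presheaf.stalk w) = t ↔ ringKrullDim ↥(U.presheaf.stalk (g w)) = t := by
    intro t W U g _ w
    rw [Groth.Agent.H52.ringKrullDim_stalk_eq_of_etale g w]
  have ea : ringKrullDim ↥(U.left.presheaf.stalk u) = a :=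
    (Groth.Agent.H52.hasAt_iff_forall_chart (hQ a) hXs x).1 ha U a0 u hae hu
  have hv : Points.ofPt b0 (h.left u) = Points.map f.hom x := by
    rw [← hu, Points.map_ofPt, comm, Groth.Agent.H52.ofPt_yon_map_comp]
  have eb : ringKrullDim ↥(V.left.presheaf.stalk (h.left u)) = b :=
    (Groth.Agent.H52.hasAt_iff_forall_chart (hQ b) hYs _).1 hb V b0 (h.left u) hbe hv
  have er : Dual3.resTrdeg h.left u = r :=
    (Groth.Agent.H52.isEtaleSquareInvariant_resTrdeg.hasAtMor_iff_forall hXs hYs f.hom x r).1 hr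
      a0 b0 h u hae hbe comm hu
  obtain ⟨n, hn1, -⟩ := Groth.Agent.Lib.Helper55.fibreDimAt_eq_stalk_add_trdeg h.left u
  have hrn : r = (n : Cardinal.{u}) := by
    rw [← er]; exact hn1
  by_cases hE' : E < Cardinal.aleph0
  · obtain ⟨E', rfl⟩ := Cardinal.lt_aleph0.1 hE'
    have key := Groth.Agent.S9687.result h.left u n E' hn1 (fun ξ hξ hξu => ?_)
    · rw [ea, eb] at key
      rw [hrn, Cardinal.toENat_nat, Cardinal.toENat_nat]
      exact key
    · have hspec : Points.ofPt a0 ξ ⤳ x := by
        rw [← hu]; exact hξu.map (Points.continuous_ofPt a0)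
      have hmax : IsMax ξ := by
        intro η hη
        have h1 : closure ({ξ} : Set ↥U.left) ⊆ closure {η} :=
          (specializes_iff_closure_subset.1 hη)
        have h2 : closure ({η} : Set ↥U.left) = closure {ξ} :=
          (hξ.2 isIrreducible_singleton.closure h1).antisymm h1 |>.symm |> fun e => e.symm ▸ rfl
        exact specializes_iff_closure_subset.2 h2.le
      have hcodim : HasAt (fun U u => ringKrullDim ↥(U.presheaf.stalk u) = 0) X.obj
          (Points.ofPt a0 ξ) := by
        refine ⟨U, a0, ξ, hae, rfl, ?_⟩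
        change ringKrullDim ↥(U.left.presheaf.stalk ξ) = 0
        rw [ringKrullDim_stalk_eq_coheight]
        exact_mod_cast (Order.coheight_eq_zero.2 hmax)
      exact hE (Points.ofPt a0 ξ) hspec hcodim (Dual3.resTrdeg h.left ξ)
        ⟨U, V, a0, b0, h, ξ, hae, hbe, comm, rfl, rfl⟩
  · have htop : Cardinal.toENat E = ⊤ := Cardinal.toENat_eq_top.2 (not_lt.1 hE')
    rw [htop]
    have hb0 : (0 : WithBot ℕ∞) ≤ b := by
      rw [← eb]; exact ringKrullDim_nonneg_of_nontrivial
    induction b using WithBot.recBotCoe with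
    | bot => simp at hb0
    | coe b =>
      have : ((b : ℕ∞) : WithBot ℕ∞) + ((⊤ : ℕ∞) : WithBot ℕ∞) = ((⊤ : ℕ∞) : WithBot ℕ∞) := by
        rw [← WithBot.coe_add, add_top]
      rw [this]
      exact le_top

end Groth.Agent.S10323
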