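import Groth.Statements.S9686
-- import your own Groth.Agent.* helpers here
import Groth.Agent.Lib.Helper55.DimFormulaScheme
import Groth.Agent.Lib.Helper55.DimStalk

set_option autoImplicit false
universe u
open CategoryTheory CategoryTheory.Limits AlgebraicGeometry
open Mor

namespace Groth.Agent.S9686

/-- Let Y be locally Noetherian and f : X ⟶ Y locally of finite type. If E bounds the transcendence
degree of κ(ξ) over κ(f ξ) for every generic point ξ of an irreducible component of X, then dim X ≤
dim Y + E. (The published bound is the supremum of these transcendence degrees; the statement with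
any upper bound E is equivalent.) -/
theorem result {X Y : Scheme.{u}} [IsLocallyNoetherian Y]
    (f : X ⟶ Y) [LocallyOfFiniteType f] (E : ℕ)
    (hE : ∀ ξ : X, closure {ξ} ∈ irreducibleComponents ↥X →
      letI := (f.residueFieldMap ξ).hom.toAlgebra
      Algebra.trdeg (Y.residueField (f.base ξ)) (X.residueField ξ) ≤ E) :
    topologicalKrullDim ↥X ≤ topologicalKrullDim ↥Y + E := by
  rw [Groth.Agent.Lib.Helper55.topologicalKrullDim_eq_iSup_ringKrullDim_stalk X]
  refine iSup_le fun x => ?_
  obtain ⟨n, hn⟩ := Groth.Agent.Lib.Helper55.exists_trdeg_residueField_eq_natCast f x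
  have h := Groth.Agent.Lib.Helper55.ringKrullDim_stalk_add_trdeg_le f x n E hn
    (fun ξ hξ _ => hE ξ hξ)
  have h0 : (0 : WithBot ℕ∞) ≤ (n : WithBot ℕ∞) := by exact_mod_cast Nat.zero_le n
  calc ringKrullDim (X.presheaf.stalk x) ≤ ringKrullDim (X.presheaf.stalk x) + n :=
        le_add_of_nonneg_right h0
    _ ≤ ringKrullDim (Y.presheaf.stalk (f x)) + E := h
    _ ≤ topologicalKrullDim ↥Y + E :=
        add_le_add_left (Groth.Agent.Lib.Helper55.ringKrullDim_stalk_le_topologicalKrullDim Y _) _

end Groth.Agent.S9686
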