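import Groth.Statements.S10324
import Groth.Agent.H52.TwoCharts
import Groth.Agent.H52.Dim
import Groth.Agent.H53.NoSpecNoeth
import Groth.Agent.S9686

set_option autoImplicit false
universe u
open CategoryTheory CategoryTheory.Limits AlgebraicGeometry
open AlgSp

namespace Groth.Agent.S10324

/-- For Y locally Noetherian and f : X -> Y locally of finite type, dim X ≤ dim Y + E where E bounds the
transcendence degrees over Y of the codimension-0 points of X. -/
theorem result {S : Scheme.{u}} {X Y : AlgSp.Space S} (f : X ⟶ Y)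
    (hY : AlgSp.IsLocNoethSp Y.obj) (hf : AlgSp.LocP @LocallyOfFiniteType f.hom) (E : Cardinal.{u})
    (hE : ∀ ξ : AlgSp.Points X.obj, AlgSp.HasAt (fun U u => ringKrullDim ↥(U.presheaf.stalk u) = 0) X.obj ξ → ∀ s : Cardinal.{u}, AlgSp.HasAtMor (fun _ _ h u => Dual3.resTrdeg h u = s) f.hom ξ → s ≤ E) :
    AlgSp.dim X.obj ≤ AlgSp.dim Y.obj + ((Cardinal.toENat E : ℕ∞) : WithBot ℕ∞) := by
  unfold AlgSp.dim
  refine iSup_le fun U => iSup_le fun a => iSup_le fun ha => ?_
  obtain ⟨V, b, hbe, hbs⟩ := Y.property.atlas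
  have hrep := hbe.rep
  have sq := hrep.isPullback (a ≫ f.hom)
  have h1 : Etale (hrep.snd (a ≫ f.hom)).left := hbe.property_snd (a ≫ f.hom)
  have h2 : Surjective (hrep.snd (a ≫ f.hom)).left := hbs.property_snd (a ≫ f.hom)
  obtain ⟨h, hh⟩ := (AlgSp.yon S).map_surjective (hrep.fst (a ≫ f.hom))
  have h3 : AlgSp.RepWith @Etale ((AlgSp.yon S).map (hrep.snd (a ≫ f.hom)) ≫ a) :=
    (AlgSp.RepWith (S := S) @Etale).comp_mem _ _ ((AlgSp.repWith_yon_map_iff _ _).2 h1) ha
  have comm : ((AlgSp.yon S).map (hrep.snd (a ≫ f.hom)) ≫ a) ≫ f.hom = (AlgSp.yon S).map h ≫ b := by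
    rw [Category.assoc, hh]; exact sq.w.symm
  haveI : LocallyOfFiniteType h.left := hf _ b h h3 hbe comm
  haveI hVN : IsLocallyNoetherian V.left :=
    Groth.Agent.H53.isLocallyNoetherian_of_etale_chart hY b hbe
  refine (Groth.Agent.H52.topologicalKrullDim_le_of_flat_surjective (hrep.snd (a ≫ f.hom)).left
    h2.surj).trans ?_
  have hVY : topologicalKrullDim ↥V.left ≤ ⨆ (U : Over S) (a : (AlgSp.yon S).obj U ⟶ Y.obj)
      (_ : AlgSp.RepWith @Etale a), topologicalKrullDim ↥U.left :=
    le_iSup_of_le V (le_iSup_of_le b (le_iSup_of_le hbe le_rfl))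
  refine le_trans ?_ (add_le_add_left hVY _)
  have hgen : ∀ ξ : ↥(hrep.pullback (a ≫ f.hom)).left,
      closure {ξ} ∈ irreducibleComponents ↥(hrep.pullback (a ≫ f.hom)).left →
      Dual3.resTrdeg h.left ξ ≤ E := by
    intro ξ hξ
    have hmax : IsMax ξ := by
      intro η hη
      have h1 : closure ({ξ} : Set ↥(hrep.pullback (a ≫ f.hom)).left) ⊆ closure {η} :=
        (specializes_iff_closure_subset.1 hη)
      have h2 : closure ({η} : Set ↥(hrep.pullback (a ≫ f.hom)).left) ⊆ closure {ξ} :=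
        hξ.2 isIrreducible_singleton.closure h1
      exact specializes_iff_closure_subset.2 h2
    have hcodim : AlgSp.HasAt (fun U u => ringKrullDim ↥(U.presheaf.stalk u) = 0) X.obj
        (AlgSp.Points.ofPt ((AlgSp.yon S).map (hrep.snd (a ≫ f.hom)) ≫ a) ξ) := by
      refine ⟨_, _, ξ, h3, rfl, ?_⟩
      change ringKrullDim ↥((hrep.pullback (a ≫ f.hom)).left.presheaf.stalk ξ) = 0
      rw [ringKrullDim_stalk_eq_coheight]
      exact_mod_cast (Order.coheight_eq_zero.2 hmax)
    exact hE _ hcodim (Dual3.resTrdeg h.left ξ) ⟨_, V, _, b, h, ξ, h3, hbe, comm, rfl, rfl⟩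
  by_cases hE' : E < Cardinal.aleph0
  · obtain ⟨E', rfl⟩ := Cardinal.lt_aleph0.1 hE'
    rw [Cardinal.toENat_nat]
    exact Groth.Agent.S9686.result h.left E' hgen
  · have htop : Cardinal.toENat E = ⊤ := Cardinal.toENat_eq_top.2 (not_lt.1 hE')
    rw [htop]
    by_cases hemp : IsEmpty ↥(hrep.pullback (a ≫ f.hom)).left
    · haveI : IsEmpty (TopologicalSpace.IrreducibleCloseds ↥(hrep.pullback (a ≫ f.hom)).left) :=
        ⟨fun Z => by obtain ⟨x, -⟩ := Z.isIrreducible.nonempty; exact hemp.false x⟩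
      rw [topologicalKrullDim, Order.krullDim_eq_bot]
      exact bot_le
    · rw [not_isEmpty_iff] at hemp
      obtain ⟨w⟩ := hemp
      haveI : Nonempty ↥V.left := ⟨h.left w⟩
      have hV0 : (0 : WithBot ℕ∞) ≤ topologicalKrullDim ↥V.left := by
        rw [topologicalKrullDim]
        haveI : Nonempty (TopologicalSpace.IrreducibleCloseds ↥V.left) :=
          ⟨⟨closure {h.left w}, isIrreducible_singleton.closure, isClosed_closure⟩⟩
        exact Order.krullDim_nonneg
      generalize topologicalKrullDim ↥V.left = t at hV0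
      induction t using WithBot.recBotCoe with
      | bot => simp at hV0
      | coe t =>
        have : ((t : ℕ∞) : WithBot ℕ∞) + ((⊤ : ℕ∞) : WithBot ℕ∞) = ((⊤ : ℕ∞) : WithBot ℕ∞) := by
          rw [← WithBot.coe_add, add_top]
        rw [this]
        exact le_top

end Groth.Agent.S10324
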