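import Groth.Statements.S10325
-- import your own Groth.Agent.* helpers here
import Groth.Agent.Lib.Helper51.FiniteCofan

set_option autoImplicit false
universe u
open CategoryTheory CategoryTheory.Limits AlgebraicGeometry
open AlgSp

namespace Groth.Agent.S10325

/-- A finite disjoint union of algebraic spaces finite over Y is finite over Y. -/
theorem result {S : Scheme.{u}} {n : ℕ} (X : Fin n → AlgSp.Space S) (Y : AlgSp.Space S)
    (g : ∀ i, X i ⟶ Y) (hg : ∀ i, AlgSp.IsFiniteMor (g i).hom) (c : Cofan fun i => (X i).obj) (hc : IsColimit c)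
    (d : c.pt ⟶ Y.obj) (hd : ∀ i, c.inj i ≫ d = (g i).hom) : AlgSp.IsFiniteMor d := by
  have hc' := Cofan.isColimitEquivOfEquiv (Equiv.ulift.{u} (α := Fin n)) c hc
  refine Groth.Agent.Lib.Helper51.isFiniteMor_of_cofan (ι := ULift.{u} (Fin n))
    (fun i ↦ (X i.down).obj) _ hc' d (fun i ↦ ?_)
  have h := hd i.down
  change c.inj i.down ≫ d = _ at h
  change AlgSp.IsFiniteMor (c.inj i.down ≫ d)
  rw [h]
  exact hg i.down

end Groth.Agent.S10325
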