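import Groth.Statements.S10326
import Groth.Agent.Lib.Helper54.Noetherian

set_option autoImplicit false
universe u
open CategoryTheory CategoryTheory.Limits AlgebraicGeometry
open AlgSp

namespace Groth.Agent.S10326

/-- Every scheme etale over a locally Noetherian algebraic space has quasi-compact opens with finitely
many irreducible components. -/
theorem result {S : Scheme.{u}} (X : AlgSp.Space S)
    (hX : AlgSp.IsLocNoethSp X.obj) (U : Over S) (a : (AlgSp.yon S).obj U ⟶ X.obj) (ha : AlgSp.RepWith @Etale a)
    (W : U.left.Opens) (hW : IsCompact (W : Set ↥U.left)) : (irreducibleComponents ↥W).Finite := by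
  obtain ⟨W₀, p, hpe, hps, hN⟩ := hX
  have hr : AlgSp.Representable p := hpe.rep
  have sq := hr.isPullback a
  obtain ⟨fst', hfst'⟩ := (AlgSp.yon S).map_surjective (hr.fst a)
  rw [← hfst'] at sq
  have h1 : Etale (hr.snd a).left := hpe.property a _ _ sq
  have h2 : Surjective (hr.snd a).left := hps.property a _ _ sq
  have h3 : Etale fst'.left := ha.property p _ _ sq.flip
  have : IsLocallyNoetherian W₀.left := hN
  have hT : IsLocallyNoetherian (hr.pullback a).left :=
    LocallyOfFiniteType.isLocallyNoetherian fst'.left
  have hU : IsLocallyNoetherian U.left :=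
    Groth.Agent.Lib.Helper54.isLocallyNoetherian_of_fppf (hr.snd a).left
  have hc : CompactSpace ↥W := isCompact_iff_compactSpace.mp hW
  have hWl : IsLocallyNoetherian (W : Scheme.{u}) := inferInstance
  have hc' : CompactSpace ↥(W : Scheme.{u}) := hc
  have hWn : AlgebraicGeometry.IsNoetherian (W : Scheme.{u}) := AlgebraicGeometry.IsNoetherian.mk
  have : TopologicalSpace.NoetherianSpace ↥W := AlgebraicGeometry.IsNoetherian.noetherianSpace (X := (W : Scheme.{u}))
  exact TopologicalSpace.NoetherianSpace.finite_irreducibleComponents

end Groth.Agent.S10326
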