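import Groth.Statements.S10328
import Groth.Agent.H52.TwoCharts
import Groth.Agent.Lib.Helper55.FiberCompDim

set_option autoImplicit false
universe u
open CategoryTheory CategoryTheory.Limits AlgebraicGeometry
open AlgSp

namespace Groth.Agent.S10328

/-- The relative dimension of a composite at a point is at most the sum of the relative dimensions, with
equality when the first morphism is flat at the point. (The published part (2) allows more generally
flatness of a fibre of X -> Y over a field point of Z; only the case f flat at x is stated.) -/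
theorem result {S : Scheme.{u}} {X Y Z : AlgSp.Space S} (f : X ⟶ Y) (g : Y ⟶ Z)
    (hf : AlgSp.LocP @LocallyOfFiniteType f.hom) (hg : AlgSp.LocP @LocallyOfFiniteType g.hom)
    (x : AlgSp.Points X.obj) (a b : WithBot ℕ∞)
    (ha : AlgSp.HasAtMor (fun _ _ h u => FlatMor.fibreDimAt h u = a) f.hom x)
    (hb : AlgSp.HasAtMor (fun _ _ h u => FlatMor.fibreDimAt h u = b) g.hom (AlgSp.Points.map f.hom x)) :
    AlgSp.HasAtMor (fun _ _ h u => FlatMor.fibreDimAt h u ≤ a + b) (f ≫ g).hom x ∧
    (AlgSp.IsFlatAtMor f.hom x → AlgSp.HasAtMor (fun _ _ h u => FlatMor.fibreDimAt h u = a + b) (f ≫ g).hom x) := by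
  have hX : IsAlgSpace X.obj := X.property
  have hY : IsAlgSpace Y.obj := Y.property
  have hZ : IsAlgSpace Z.obj := Z.property
  obtain ⟨W, c, w, hce, hcw⟩ :=
    Groth.Agent.H52.exists_chart_through_point hZ (Points.map g.hom (Points.map f.hom x))
  obtain ⟨V, b0, k₂, v, hbe, hbk, hbv, hkv⟩ :=
    Groth.Agent.H52.exists_chart_over_through_point hY hZ g.hom c hce (Points.map f.hom x) w hcw
  obtain ⟨U, a0, k₁, u, hae, hak, hau, hku⟩ :=
    Groth.Agent.H52.exists_chart_over_through_point hX hY f.hom b0 hbe x v hbv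
  subst hku
  haveI hlft1 : LocallyOfFiniteType k₁.left := hf a0 b0 k₁ hae hbe hak
  haveI hlft2 : LocallyOfFiniteType k₂.left := hg b0 c k₂ hbe hce hbk
  have e1 : FlatMor.fibreDimAt k₁.left u = a :=
    (Groth.Agent.H52.isEtaleSquareInvariant_fibreDimAt.hasAtMor_iff_forall hX hY f.hom x a).1 ha
      a0 b0 k₁ u hae hbe hak hau
  have e2 : FlatMor.fibreDimAt k₂.left (k₁.left u) = b :=
    (Groth.Agent.H52.isEtaleSquareInvariant_fibreDimAt.hasAtMor_iff_forall hY hZ g.hom
      (Points.map f.hom x) b).1 hb b0 c k₂ (k₁.left u) hbe hce hbk hbv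
  have key := Groth.Agent.Lib.Helper55.fibreDimAt_comp_le k₁.left k₂.left u
  have comm : a0 ≫ (f ≫ g).hom = (yon S).map (k₁ ≫ k₂) ≫ c := by
    change a0 ≫ f.hom ≫ g.hom = _
    rw [← Category.assoc, hak, Category.assoc, hbk, Functor.map_comp, Category.assoc]
  rw [e1, e2] at key
  refine ⟨⟨U, W, a0, c, k₁ ≫ k₂, u, hae, hce, comm, hau, key.1⟩, fun hfl =>
    ⟨U, W, a0, c, k₁ ≫ k₂, u, hae, hce, comm, hau, key.2 (hfl a0 b0 k₁ u hae hbe hak hau)⟩⟩

end Groth.Agent.S10328
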