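import Groth.Statements.S1033
import Mathlib.Algebra.Homology.DerivedCategory.Fractions
import Mathlib.Algebra.Homology.DerivedCategory.Ext.ExactSequences
-- import your own Groth.Agent.* helpers here

set_option autoImplicit false
universe w v u
open CategoryTheory CategoryTheory.Abelian
open CohDer

namespace Groth.Agent.S1033

open CategoryTheory.Limits


/-- For a quasi-isomorphism `s : K ⟶ (single X)` with `K` strictly `≤ 0`, the degree zero
component of `s` is an epimorphism. -/
theorem epi_f_zero_of_quasiIso {A : Type u} [Category.{v} A] [Abelian A] (X : A)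
    (K : CochainComplex A ℤ) [K.IsStrictlyLE 0]
    (s : K ⟶ (CochainComplex.singleFunctor A 0).obj X) [hs : QuasiIso s] : Epi (s.f 0) := by
  have h0 : QuasiIsoAt s 0 := inferInstance
  rw [quasiIsoAt_iff] at h0
  have hd : K.d 0 ((ComplexShape.up ℤ).next 0) = 0 :=
    (K.isZero_of_isStrictlyLE 0 _ (by simp)).eq_of_tgt _ _
  have := (ShortComplex.quasiIso_iff_of_zeros'
    ((HomologicalComplex.shortComplexFunctor A (ComplexShape.up ℤ) 0).map s) hd rfl rfl).1 h0
  exact this.2

open DerivedCategory in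
/-- Effaceability of positive-degree morphisms in the derived category: a morphism
`X[0] ⟶ L` where `L` has no term in degree `0`... -/
theorem exists_epi_comp_eq_zero {A : Type u} [Category.{v} A] [Abelian A]
    [HasDerivedCategory.{w} A] (X : A) (L : CochainComplex A ℤ) (hL : IsZero (L.X 0))
    (f : Q.obj ((CochainComplex.singleFunctor A 0).obj X) ⟶ Q.obj L) :
    ∃ (X' : A) (p : X' ⟶ X), Epi p ∧
      Q.map ((CochainComplex.singleFunctor A 0).map p) ≫ f = 0 := by
  obtain ⟨K, hK, s, hs, g, rfl⟩ := right_fac_of_isStrictlyLE f 0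
  rw [isIso_Q_map_iff_quasiIso] at hs
  have hd : ∀ (k : ℤ), (ComplexShape.up ℤ).Rel 0 k → 𝟙 (K.X 0) ≫ K.d 0 k = 0 := by
    intro k hk
    exact (K.isZero_of_isStrictlyLE 0 k (by simp at hk; omega)).eq_of_tgt _ _
  let ι : (CochainComplex.singleFunctor A 0).obj (K.X 0) ⟶ K :=
    HomologicalComplex.mkHomFromSingle (𝟙 (K.X 0)) hd
  let p : K.X 0 ⟶ X := s.f 0 ≫ (HomologicalComplex.singleObjXSelf (ComplexShape.up ℤ) 0 X).hom
  have hp : Epi p := by
    have := epi_f_zero_of_quasiIso X K s
    exact epi_comp _ _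
  have hιs : ι ≫ s = (CochainComplex.singleFunctor A 0).map p := by
    apply HomologicalComplex.from_single_hom_ext
    rw [HomologicalComplex.comp_f, HomologicalComplex.mkHomFromSingle_f]
    erw [HomologicalComplex.single_map_f_self]
    rw [Category.comp_id]
    congr 1
    show s.f 0 = (s.f 0 ≫ (HomologicalComplex.singleObjXSelf (ComplexShape.up ℤ) 0 X).hom) ≫
      (HomologicalComplex.singleObjXSelf (ComplexShape.up ℤ) 0 X).inv
    rw [Category.assoc]
    erw [(HomologicalComplex.singleObjXSelf (ComplexShape.up ℤ) 0 X).hom_inv_id]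
    exact (Category.comp_id (s.f 0)).symm
  have hιg : ι ≫ g = 0 := by
    apply HomologicalComplex.from_single_hom_ext
    exact hL.eq_of_tgt _ _
  refine ⟨K.X 0, p, hp, ?_⟩
  rw [← hιs, Functor.map_comp, Category.assoc, IsIso.hom_inv_id_assoc, ← Functor.map_comp, hιg,
    Functor.map_zero]

open DerivedCategory in
/-- Effaceability of `Ext`: every class of positive degree is killed by pulling back along some
epimorphism. -/
theorem ext_effaceable {A : Type u} [Category.{v} A] [Abelian A] [HasExt.{w} A]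
    {X Y : A} {n : ℕ} (x : Ext X Y (n + 1)) :
    ∃ (X' : A) (p : X' ⟶ X), Epi p ∧ (Ext.mk₀ p).comp x (zero_add _) = 0 := by
  let _ := HasDerivedCategory.standard A
  let SX := (CochainComplex.singleFunctor A 0).obj X
  let SY := (CochainComplex.singleFunctor A 0).obj Y
  let xh : Q.obj SX ⟶ (Q.obj SY)⟦((n + 1 : ℕ) : ℤ)⟧ := x.hom
  let f : Q.obj SX ⟶ Q.obj (SY⟦((n + 1 : ℕ) : ℤ)⟧) :=
    xh ≫ (Q.commShiftIso ((n + 1 : ℕ) : ℤ)).inv.app SY
  have hL : IsZero ((SY⟦((n + 1 : ℕ) : ℤ)⟧).X 0) := by
    show IsZero (((HomologicalComplex.single A (ComplexShape.up ℤ) 0).obj Y).X (0 + ((n + 1 : ℕ) : ℤ)))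
    apply HomologicalComplex.isZero_single_obj_X
    omega
  obtain ⟨X', p, hp, h⟩ := exists_epi_comp_eq_zero X _ hL f
  refine ⟨X', p, hp, ?_⟩
  apply Ext.ext
  rw [Ext.comp_hom, Ext.mk₀_hom, ShiftedHom.mk₀_comp, Ext.zero_hom]
  have h' : Q.map ((CochainComplex.singleFunctor A 0).map p) ≫ xh = 0 := by
    have : (Q.map ((CochainComplex.singleFunctor A 0).map p) ≫ xh) ≫
        (Q.commShiftIso ((n + 1 : ℕ) : ℤ)).inv.app SY =
        0 ≫ (Q.commShiftIso ((n + 1 : ℕ) : ℤ)).inv.app SY := by
      rw [Category.assoc, zero_comp]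
      exact h
    exact (cancel_mono _).mp this
  exact h'


/-- Let A be an abelian category (with Ext groups in some universe) and p ≥ 0. If Extᵖ(B, C) = 0 for all
objects B, C, then Extⁱ(B, C) = 0 for all i ≥ p and all B, C. -/
theorem result {A : Type u} [Category.{v} A] [Abelian A] [HasExt.{w} A] (p : ℕ)
    (h : ∀ (B C : A) (x : Ext B C p), x = 0) (i : ℕ) (hi : p ≤ i) (B C : A) (x : Ext B C i) : x = 0 := by
  obtain ⟨k, rfl⟩ := Nat.exists_eq_add_of_le hi
  induction k generalizing B C with
  | zero => exact h B C x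
  | succ k ih =>
    obtain ⟨X', π, hπ, hx⟩ := ext_effaceable (n := p + k) x
    let S : ShortComplex A := ShortComplex.mk (kernel.ι π) π (kernel.condition π)
    have hS : S.ShortExact :=
      { exact := ShortComplex.exact_kernel π
        mono_f := inferInstanceAs (Mono (kernel.ι π))
        epi_g := hπ }
    obtain ⟨x₁, hx₁⟩ := Ext.contravariant_sequence_exact₃ hS C x hx (n₀ := p + k) (by omega)
    rw [← hx₁, ih _ _ (Nat.le_add_right p k) x₁, Ext.comp_zero]

end Groth.Agent.S1033
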