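import Groth.Statements.S10337
import Groth.Agent.Lib.Helper54.DecentSchematic

set_option autoImplicit false
universe u
open CategoryTheory CategoryTheory.Limits AlgebraicGeometry Topology TopologicalSpace
open AlgSp

namespace Groth.Agent.S10337

/-- For a scheme S, a decent algebraic space X over S contains a dense open subspace that is a scheme:
there is an open subspace X' ⟶ X whose underlying sheaf is representable by a scheme and whose set
of points is dense in |X|. -/
theorem result {S : Scheme.{u}} (X : AlgSp.Space S)
    (hX : AlgSp.IsDecent X.obj) :
    ∃ (X' : AlgSp.Space S) (j : X' ⟶ X), AlgSp.RepWith @IsOpenImmersion j.hom ∧ X'.obj.obj.IsRepresentable ∧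
      Dense (Set.range (AlgSp.Points.map j.hom)) := by
  open Groth.Agent.Lib.Helper54 Groth.Agent.H53.ZarGlue in
  have hV := isOpen_schematicLocus X.obj
  obtain ⟨Y, ⟨e⟩⟩ := exists_iso_yon_openSub_schematicLocus X.property
  refine ⟨⟨openSub X.obj (schematicLocus X.obj), isAlgSpace_openSub X.property _ hV⟩,
    ObjectProperty.homMk (openSubι X.obj _), repWith_isOpenImmersion_openSubι X.obj _ hV,
    (representableByOfIso e).isRepresentable, ?_⟩
  change Dense (Set.range (Points.map (openSubι X.obj (schematicLocus X.obj))))
  rw [range_points_map_openSubι]
  exact dense_schematicLocus_of_isDecent X.property hX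

end Groth.Agent.S10337
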