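import Groth.Statements.S10347
import Groth.Agent.H52.Dim
import Groth.Agent.H52.Points
open Groth.Agent.H52

set_option autoImplicit false
universe u
open CategoryTheory CategoryTheory.Limits AlgebraicGeometry Topology TopologicalSpace
open AlgSp

namespace Groth.Agent.S10347

/-- For a locally quasi-finite morphism f : X ⟶ Y of algebraic spaces over a scheme S (locally
quasi-finite and locally of finite type, etale locally on source and target), dim X ≤ dim Y. -/
theorem result {S : Scheme.{u}} {X Y : AlgSp.Space S} (f : X ⟶ Y)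
    (hf : AlgSp.LocP (@LocallyQuasiFinite ⊓ @LocallyOfFiniteType) f.hom) :
    AlgSp.dim X.obj ≤ AlgSp.dim Y.obj := by
  unfold AlgSp.dim
  refine iSup_le fun U => iSup_le fun a => iSup_le fun ha => ?_
  obtain ⟨V, b, hbe, hbs⟩ := Y.property.atlas
  have hrep := hbe.rep
  have sq := hrep.isPullback (a ≫ f.hom)
  have h1 : Etale (hrep.snd (a ≫ f.hom)).left := hbe.property_snd (a ≫ f.hom)
  have h2 : Surjective (hrep.snd (a ≫ f.hom)).left := hbs.property_snd (a ≫ f.hom)
  obtain ⟨h, hh⟩ := (AlgSp.yon S).map_surjective (hrep.fst (a ≫ f.hom))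
  have h3 : AlgSp.RepWith @Etale ((AlgSp.yon S).map (hrep.snd (a ≫ f.hom)) ≫ a) :=
    (AlgSp.RepWith (S := S) @Etale).comp_mem _ _ ((AlgSp.repWith_yon_map_iff _ _).2 h1) ha
  have hP := hf ((AlgSp.yon S).map (hrep.snd (a ≫ f.hom)) ≫ a) b h h3 hbe (by
    rw [Category.assoc, hh]; exact sq.w.symm)
  have : LocallyQuasiFinite h.left := hP.1
  refine (topologicalKrullDim_le_of_flat_surjective (hrep.snd (a ≫ f.hom)).left h2.surj).trans ?_
  refine (topologicalKrullDim_le_of_locallyQuasiFinite h.left).trans ?_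
  exact le_iSup_of_le V (le_iSup_of_le b (le_iSup_of_le hbe le_rfl))

end Groth.Agent.S10347
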