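import Groth.Statements.S10348
import Groth.Agent.H52.DimLocal2
open Groth.Agent.H52

set_option autoImplicit false
universe u
open CategoryTheory CategoryTheory.Limits AlgebraicGeometry Topology TopologicalSpace
open AlgSp

namespace Groth.Agent.S10348

/-- Let S be a scheme, X and Y algebraic spaces over S, and f : X ⟶ Y a morphism which is locally
quasi-finite; let x ∈ |X| have image y ∈ |Y|. Then the local ring of X at x has dimension at most
that of the local ring of Y at the point y (both dimensions read on etale charts through the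
points). -/
theorem result {S : Scheme.{u}} {X Y : AlgSp.Space S} (f : X ⟶ Y)
    (hf : AlgSp.LocP (@LocallyQuasiFinite ⊓ @LocallyOfFiniteType) f.hom) (x : AlgSp.Points X.obj)
    (d e : WithBot ℕ∞)
    (hx : AlgSp.HasAt (fun U u => ringKrullDim ↥(U.presheaf.stalk u) = d) X.obj x)
    (hy : AlgSp.HasAt (fun V v => ringKrullDim ↥(V.presheaf.stalk v) = e) Y.obj (AlgSp.Points.map f.hom x)) :
    d ≤ e := by
  obtain ⟨U, a, u, ha, rfl, hd⟩ := hx
  obtain ⟨V, b, v, hb, hv, he⟩ := hy
  have hrep := hb.rep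
  have sq := hrep.isPullback (a ≫ f.hom)
  obtain ⟨h, hh⟩ := (AlgSp.yon S).map_surjective (hrep.fst (a ≫ f.hom))
  have h1 : Etale (hrep.snd (a ≫ f.hom)).left := hb.property_snd (a ≫ f.hom)
  have h3 : AlgSp.RepWith @Etale ((AlgSp.yon S).map (hrep.snd (a ≫ f.hom)) ≫ a) :=
    (AlgSp.RepWith (S := S) @Etale).comp_mem _ _ ((AlgSp.repWith_yon_map_iff _ _).2 h1) ha
  have hP := hf ((AlgSp.yon S).map (hrep.snd (a ≫ f.hom)) ≫ a) b h h3 hb (by
    rw [Category.assoc, hh]; exact sq.w.symm)
  have : LocallyQuasiFinite h.left := hP.1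
  have hv' : AlgSp.Points.map b (AlgSp.Points.ofScheme V v) =
      AlgSp.Points.map (a ≫ f.hom) (AlgSp.Points.ofScheme U u) := by
    rw [← AlgSp.Points.ofPt_eq_map_ofScheme, ← AlgSp.Points.ofPt_eq_map_ofScheme, hv,
      AlgSp.Points.map_ofPt]
  obtain ⟨p, hp1, hp2⟩ := exists_point_of_isPullback sq (AlgSp.Points.ofScheme V v)
    (AlgSp.Points.ofScheme U u) hv'
  obtain ⟨w, rfl⟩ := (AlgSp.Points.schemeEquiv _).surjective p
  have hwv : h.left w = v := by
    apply (AlgSp.Points.schemeEquiv V).injective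
    rw [← hh] at hp1
    exact (points_map_ofScheme h w).symm.trans hp1
  have hwu : (hrep.snd (a ≫ f.hom)).left w = u := by
    apply (AlgSp.Points.schemeEquiv U).injective
    exact (points_map_ofScheme (hrep.snd (a ≫ f.hom)) w).symm.trans hp2
  rw [← hd, ← he, ← hwu, ← hwv, ← ringKrullDim_stalk_eq_of_etale (hrep.snd (a ≫ f.hom)).left w,
    ringKrullDim_stalk_eq_coheight, ringKrullDim_stalk_eq_coheight]
  exact WithBot.coe_le_coe.mpr (Order.coheight_le_coheight_apply_of_strictMono _
    (strictMono_of_isDiscrete_fibres h.left fun y => h.left.isDiscrete_preimage_singleton y) w)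

end Groth.Agent.S10348
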