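import Groth.Statements.S10365
import Groth.Agent.Lib.Helper54.Transfer
import Groth.Agent.Lib.Helper54.FlatPoint

set_option autoImplicit false
universe u
open CategoryTheory CategoryTheory.Limits AlgebraicGeometry Topology TopologicalSpace
open AlgSp

namespace Groth.Agent.S10365

/-- Let Z be an algebraic space over a scheme S admitting a surjective flat morphism Spec k ⟶ Z from the
spectrum of a field. Then every morphism Spec k' ⟶ Z from the spectrum of a field is surjective and
flat. -/
theorem result {S : Scheme.{u}} (Z : AlgSp.Space S)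
    (k : Type u) [Field k] (str : Spec (CommRingCat.of k) ⟶ S) (p : (AlgSp.yon S).obj (Over.mk str) ⟶ Z.obj)
    (hpf : AlgSp.LocP @Flat p) (hps : AlgSp.IsSurjectiveMor p)
    (k' : Type u) [Field k'] (str' : Spec (CommRingCat.of k') ⟶ S) (q : (AlgSp.yon S).obj (Over.mk str') ⟶ Z.obj) :
    AlgSp.LocP @Flat q ∧ AlgSp.IsSurjectiveMor q := by
  constructor
  · intro U V a b h ha hb comm
    have hid : AlgSp.RepWith @Etale (𝟙 ((AlgSp.yon S).obj (Over.mk str))) := AlgSp.repWith_id _ _
    obtain ⟨E, α, π, hα, sq, hrep⟩ := Groth.Agent.Lib.Helper54.exists_chart_square p (𝟙 _) hid b hb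
    have hflat : Flat π.left := Groth.Agent.Lib.Helper54.locP_of_chart_square hpf hb sq hrep
    have hsurj : Surjective π.left :=
      ⟨Groth.Agent.Lib.Helper54.surjective_of_chart_square sq
        (fun x => ⟨x, by rw [AlgSp.Points.map_id]⟩) hps⟩
    have hα' : Etale (α.left : E.left ⟶ Spec (CommRingCat.of k)) := hα
    exact Groth.Agent.Lib.Helper54.flat_of_flat_surjective_from_etale_over_field
      (α.left : E.left ⟶ Spec (CommRingCat.of k)) π.left h.left
  · intro z
    have hsub : Subsingleton (AlgSp.Points Z.obj) := by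
      constructor
      intro z z'
      obtain ⟨y, rfl⟩ := hps z
      obtain ⟨y', rfl⟩ := hps z'
      have : Subsingleton (AlgSp.Points ((AlgSp.yon S).obj (Over.mk str))) :=
        Groth.Agent.H52.subsingleton_points_spec_field str
      rw [Subsingleton.elim y y']
    exact ⟨AlgSp.Points.ofScheme (Over.mk str') (IsLocalRing.closedPoint k'), Subsingleton.elim _ _⟩

end Groth.Agent.S10365
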