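import Groth.Statements.S10366
import Groth.Agent.Lib.Helper54.LocPChart
import Groth.Agent.Lib.Helper54.GenericPt
import Groth.Agent.Lib.Helper54.Reduced

set_option autoImplicit false
universe u
open CategoryTheory CategoryTheory.Limits AlgebraicGeometry Topology TopologicalSpace
open AlgSp

namespace Groth.Agent.S10366

/-- (1) ⇔ (2): an algebraic space Z over a scheme S is reduced with |Z| a single point if and only if
there is a surjective flat morphism Spec k ⟶ Z from the spectrum of a field. -/
theorem result {S : Scheme.{u}} (Z : AlgSp.Space S) :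
    (AlgSp.EtaleLocally (fun U => IsReduced U) Z.obj ∧ Nonempty (AlgSp.Points Z.obj) ∧ Subsingleton (AlgSp.Points Z.obj)) ↔
      ∃ (k : Type u) (_ : Field k) (str : Spec (CommRingCat.of k) ⟶ S) (p : (AlgSp.yon S).obj (Over.mk str) ⟶ Z.obj),
        AlgSp.LocP @Flat p ∧ AlgSp.IsSurjectiveMor p := by
  constructor
  · rintro ⟨⟨W, q, hqe, hqs, hW⟩, ⟨z₀⟩, hsub⟩
    have hW' : IsReduced W.left := hW
    obtain ⟨w', hw'⟩ := Groth.Agent.H52.surjective_points_of_repWith_surjective q hqs z₀
    obtain ⟨w₀, -⟩ := Groth.Agent.Lib.Helper54.exists_ofScheme_eq W w'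
    obtain ⟨η, -, hη⟩ := Groth.Agent.Lib.Helper54.exists_isField_stalk W.left w₀
    let P : AlgSp.FieldPt Z.obj := AlgSp.FieldPt.ofPt q η
    refine ⟨P.K, P.field, P.str, P.toHom, ?_, ?_⟩
    · rw [Groth.Agent.Lib.Helper54.toHom_ofPt']
      refine Groth.Agent.Lib.Helper54.locP_yon_map_comp @Flat (fun A B φ hφ => ?_) _ ?_ q hqe
      · have : Etale φ := hφ
        infer_instance
      · exact Groth.Agent.Lib.Helper54.flat_fromSpecResidueField_of_isField W.left η hη
    · intro z
      exact ⟨AlgSp.Points.ofScheme P.pt (IsLocalRing.closedPoint P.K), Subsingleton.elim _ _⟩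
  · rintro ⟨k, _, str, p, hpf, hps⟩
    refine ⟨?_, ?_, ?_⟩
    · obtain ⟨W, q, hqe, hqs⟩ := Z.property.atlas
      have hid : AlgSp.RepWith @Etale (𝟙 ((AlgSp.yon S).obj (Over.mk str))) := AlgSp.repWith_id _ _
      obtain ⟨V, a, h, ha, sq, hrep⟩ := Groth.Agent.Lib.Helper54.exists_chart_square p (𝟙 _) hid q hqe
      refine ⟨W, q, hqe, hqs, ?_⟩
      have hflat : Flat h.left := Groth.Agent.Lib.Helper54.locP_of_chart_square hpf hqe sq hrep
      have hsurj : Surjective h.left :=
        ⟨Groth.Agent.Lib.Helper54.surjective_of_chart_square sq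
          (fun x => ⟨x, by rw [AlgSp.Points.map_id]⟩) hps⟩
      have : IsReduced (Over.mk str).left := by
        change IsReduced (Spec (CommRingCat.of k))
        infer_instance
      have : IsReduced V.left := Groth.Agent.Lib.Helper54.isReduced_of_etale_scheme a.left
      exact Groth.Agent.Lib.Helper54.isReduced_of_flat_of_surjective h.left
    · exact ⟨AlgSp.Points.map p (AlgSp.Points.ofScheme (Over.mk str) (IsLocalRing.closedPoint k))⟩
    · constructor
      intro z z'
      obtain ⟨y, rfl⟩ := hps z
      obtain ⟨y', rfl⟩ := hps z'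
      have : Subsingleton (AlgSp.Points ((AlgSp.yon S).obj (Over.mk str))) :=
        Groth.Agent.H52.subsingleton_points_spec_field str
      rw [Subsingleton.elim y y']

end Groth.Agent.S10366
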