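import Groth.Statements.S10356
import Groth.Agent.Lib.Helper54.PointIso
import Groth.Agent.S10365
import Groth.Agent.S10366

set_option autoImplicit false
universe u
open CategoryTheory CategoryTheory.Limits AlgebraicGeometry Topology TopologicalSpace
open AlgSp

namespace Groth.Agent.S10356

/-- A reduced decent algebraic space X over a scheme S whose space of points is a single point is
isomorphic to h_{Spec k} for a field k over S. -/
theorem result {S : Scheme.{u}} (X : AlgSp.Space S)
    (hX : AlgSp.IsDecent X.obj) (hr : AlgSp.EtaleLocally (fun U => IsReduced U) X.obj)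
    [Nonempty (AlgSp.Points X.obj)] [Subsingleton (AlgSp.Points X.obj)] :
    ∃ (k : Type u) (_ : Field k) (str : Spec (CommRingCat.of k) ⟶ S),
      Nonempty ((AlgSp.yon S).obj (Over.mk str) ≅ X.obj) := by
  obtain ⟨x⟩ := ‹Nonempty (AlgSp.Points X.obj)›
  obtain ⟨P, -, hm, hq⟩ := hX x
  obtain ⟨K, _, strK, q, hqf, hqs⟩ := (Groth.Agent.S10366.result X).1 ⟨hr, ⟨x⟩, inferInstance⟩
  obtain ⟨hfl, hs⟩ := Groth.Agent.S10365.result X K strK q hqf hqs P.K P.str P.toHom
  have hiso : IsIso P.toHom :=
    Groth.Agent.Lib.Helper54.isIso_of_mono_qc_flat_surjective X.property P.toHom hq hfl hs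
  exact ⟨P.K, P.field, P.str, ⟨asIso P.toHom⟩⟩

end Groth.Agent.S10356
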