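import Groth.Statements.S1035
-- import your own Groth.Agent.* helpers here
import Groth.Agent.Lib.Helper32.LerayUnb
import Groth.Agent.Lib.Helper30.SigmaGE
import Groth.Agent.Lib.Helper30.AffinePush.SpecSections
import Groth.Agent.H57.RpushBound
import Groth.Agent.S6508
import Groth.Agent.Lib.Helper5.ShriekStalk
import Groth.Agent.Lib.Helper32.RGammaTri
import Groth.Agent.Lib.Helper32.WayOut2

set_option autoImplicit false
universe u
open CategoryTheory CategoryTheory.Limits AlgebraicGeometry
attribute [local instance] HasDerivedCategory.standard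
open Perf

namespace Groth.Agent.S1035

open Pretriangulated DerivedCategory Scheme.Modules
open Groth.Agent.Lib.Helper32.KInjDerived Groth.Agent.Lib.Helper32.RDerCrit
  Groth.Agent.Lib.Helper32.OpenKInj Groth.Agent.Lib.Helper32.TriRF
  Groth.Agent.Lib.Helper32.LerayUnb Groth.Agent.Lib.Helper30.SigmaGE
  Groth.Agent.H57.RpushBound Groth.Agent.Lib.Helper32.RGammaTri Groth.Agent.Lib.Helper49

/-- a morphism of modules which is locally an isomorphism is an isomorphism -/
theorem isIso_of_isIso_restrict_cover {S : Scheme.{u}} {A B : S.Modules} (φ : A ⟶ B)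
    (h : ∀ x : S, ∃ V : S.Opens, x ∈ V ∧ IsIso ((restrictFunctor V.ι).map φ)) : IsIso φ := by
  apply isIso_of_stalkMap_bijective
  intro x
  obtain ⟨V, hx, hV⟩ := h x
  obtain ⟨y, rfl⟩ : ∃ y : V, V.ι y = x := ⟨⟨x, hx⟩, rfl⟩
  have h1 : IsIso (stalkMap ((restrictFunctor V.ι).map φ) y) := by
    unfold stalkMap
    have : IsIso ((restrictFunctor V.ι).map φ).mapPresheaf :=
      inferInstanceAs (IsIso ((Scheme.Modules.toPresheaf _).map ((restrictFunctor V.ι).map φ)))
    exact Functor.map_isIso _ _
  have h2 := stalkMap_restrict V.ι φ y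
  have h3 : stalkMap φ (V.ι y) = (restrictStalkIso V.ι A y).inv ≫
      stalkMap ((restrictFunctor V.ι).map φ) y ≫ (restrictStalkIso V.ι B y).hom := by
    rw [h2, Iso.inv_hom_id_assoc]
  have h4 : IsIso (stalkMap φ (V.ι y)) := by
    rw [h3]
    infer_instance
  exact (ConcreteCategory.isIso_iff_bijective _).1 h4

/-- the vanishing bound in arbitrary degree -/
theorem isZero_HD_Rpush_of_bound {Y T : Scheme.{u}} (g : Y ⟶ T) (N : ℤ) (hN : Bound g N)
    (E : DCoh.D Y) (hE : DCoh.IsQCohD E) (n : ℤ) (hLE : E.IsLE n) (m : ℤ) (hm : N + n ≤ m) :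
    IsZero (DCoh.HD ((DCoh.Rpush g).obj E) m) := by
  have hA := hasKInjRes Y
  obtain ⟨e⟩ := nonempty_obj_shift_iso (pushforward g) (DCoh.Rpush g)
    ((DCoh.pushKh g).totalRightDerivedUnit DerivedCategory.Qh
      (HomotopyCategory.quasiIso Y.Modules (ComplexShape.up ℤ))) hA E n
  have h1 : DCoh.IsQCohD (E⟦n⟧) := fun i =>
    Groth.Agent.Lib.Helper49.isQuasicoherent_of_iso
      (((homologyFunctor Y.Modules 0).shiftIso n i (n + i) rfl).app E).symm (hE (n + i))
  have h2 : (E⟦n⟧).IsLE 0 := by
    haveI := hLE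
    exact TStructure.t.isLE_shift E n n 0 (by omega)
  have h3 := hN (E⟦n⟧) h1 h2 (m - n) (by omega)
  exact IsZero.of_iso h3
    ((((homologyFunctor T.Modules 0).shiftIso n (m - n) m (by omega)).app _).symm ≪≫
      (homologyFunctor T.Modules (m - n)).mapIso e.symm)


/-- local vanishing of `H^m(Rf_* E)` over an affine open of the base -/
theorem isZero_restrict_HD_Rpush {X S : Scheme.{u}} (f : X ⟶ S) [DCoh.HasRpush f] (V : S.Opens)
    (N : ℤ) (hN : Bound (f ∣_ V) N)
    (E : DCoh.D X) (hE : DCoh.IsQCohD E) (n : ℤ) (hLE : E.IsLE n) (m : ℤ) (hm : N + n ≤ m) :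
    IsZero ((restrictFunctor V.ι).obj (DCoh.HD ((DCoh.Rpush f).obj E) m)) := by
  obtain ⟨e⟩ := Groth.Agent.S6508.result f V
  obtain ⟨e'⟩ := Groth.Agent.Lib.Helper32.WayOut2.nonempty_homologyIso_mapDerivedCategory
    (restrictFunctor V.ι) ((DCoh.Rpush f).obj E) m
  have h1 := isZero_HD_Rpush_of_bound (f ∣_ V) N hN ((DCoh.restrictD (f ⁻¹ᵁ V).ι).obj E)
    (isQCohD_restrictD _ E hE) n (isLE_restrictD _ E n hLE) m hm
  exact IsZero.of_iso h1 (e'.symm ≪≫ (homologyFunctor _ m).mapIso (e.app E))

/-- Let f : X ⟶ S be quasi-compact and quasi-separated and F a cochain complex whose terms are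
quasi-coherent O_X-modules that are right acyclic for f_* (the higher direct images Rⁱf_*Fⁿ vanish
for i > 0; computed with injective resolutions, whose existence is assumed as an instance). Assuming
Rf_* exists on the unbounded derived category, the canonical map f_*F ⟶ Rf_*F in D(O_S) is an
isomorphism. -/
theorem result {X S : Scheme.{u}} (f : X ⟶ S) [QuasiCompact f] [QuasiSeparated f]
    [HasInjectiveResolutions X.Modules] [DCoh.HasRpush f]
    (F : CochainComplex X.Modules ℤ) (hq : ∀ n : ℤ, Coh.IsQCoh (F.X n))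
    (hac : ∀ (n : ℤ) (i : ℕ), 0 < i → IsZero ((Coh.Rpush f i).obj (F.X n))) :
    IsIso (((DCoh.pushKh f).totalRightDerivedUnit DerivedCategory.Qh (HomotopyCategory.quasiIso X.Modules (ComplexShape.up ℤ))).app
      ((HomotopyCategory.quotient X.Modules (ComplexShape.up ℤ)).obj F)) := by
  have hA := hasKInjRes X
  let G := Scheme.Modules.pushforward f
  let RF := DCoh.Rpush f
  let α := (DCoh.pushKh f).totalRightDerivedUnit DerivedCategory.Qh
    (HomotopyCategory.quasiIso X.Modules (ComplexShape.up ℤ))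
  suffices h : IsIso (β G RF α F) by
    dsimp only [β] at h
    have h1 := @IsIso.of_isIso_comp_left _ _ _ _ _ _ _ inferInstance h
    have h2 := @IsIso.of_isIso_comp_left _ _ _ _ _ _ _ inferInstance h1
    exact @IsIso.of_isIso_comp_right _ _ _ _ _ _ (RF.map ((quotientCompQhIso X.Modules).hom.app F))
      inferInstance h2
  rw [DerivedCategory.isIso_iff]
  intro j
  apply isIso_of_isIso_restrict_cover
  intro x
  obtain ⟨V, hV, hxV, -⟩ := exists_isAffineOpen_mem_and_subset (x := x) (U := ⊤) trivial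
  refine ⟨V, hxV, ?_⟩
  haveI : IsAffine (V : Scheme.{u}) := hV
  obtain ⟨N, hN⟩ := exists_bound_of_affine_base (f ∣_ V)
  let res := restrictFunctor V.ι
  obtain ⟨a, ha1, ha2⟩ : ∃ a : ℤ, a ≤ j - 1 ∧ N + a ≤ j := ⟨j - max N 1, by omega, by omega⟩
  have hS := sc_shortExact F a
  have hT := triangleOfSES_distinguished hS
  obtain ⟨δ, hT'⟩ := exists_distinguished G RF α hA (triangleOfSES hS) hT
  -- the quotient complex
  have hq'' : DCoh.IsQCohD (Q.obj (sigmaLT F a)) := by
    apply Groth.Agent.Lib.Helper30.AffinePush.isQCohD_Q_of_termwise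
    intro i
    by_cases hi : i < a
    · haveI := isIso_πLT_f F a i hi
      exact Groth.Agent.Lib.Helper49.isQuasicoherent_of_iso (asIso ((πLT F a).f i)) (hq i)
    · exact Groth.Agent.Lib.Helper1.isQuasicoherent_of_isZero _ (isZero_sigmaLT_X F a i (by omega))
  have hle'' : (Q.obj (sigmaLT F a)).IsLE (a - 1) := by
    haveI : CochainComplex.IsStrictlyLE (sigmaLT F a) (a - 1) := inferInstance
    infer_instance
  have hz1 : IsZero (res.obj (DCoh.HD (RF.obj (Q.obj (sigmaLT F a))) (j - 1))) :=
    isZero_restrict_HD_Rpush f V N hN _ hq'' (a - 1) hle'' (j - 1) (by omega)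
  have hz2 : IsZero (res.obj (DCoh.HD (RF.obj (Q.obj (sigmaLT F a))) j)) :=
    isZero_restrict_HD_Rpush f V N hN _ hq'' (a - 1) hle'' j (by omega)
  -- the map `Rf_* σ_{≥a} F ⟶ Rf_* F` is an isomorphism on `H^j` over `V`
  have ex1 := (HomologySequence.exact₁ _ hT' (j - 1) j (by omega)).map res
  have ex2 := (HomologySequence.exact₂ _ hT' j).map res
  have hmono : Mono (res.map ((homologyFunctor S.Modules j).map (RF.map (Q.map (ιGE F a))))) :=
    ex1.mono_g (hz1.eq_of_src _ _)
  have hepi : Epi (res.map ((homologyFunctor S.Modules j).map (RF.map (Q.map (ιGE F a))))) :=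
    ex2.epi_f (hz2.eq_of_tgt _ _)
  have hiso3 : IsIso (res.map ((homologyFunctor S.Modules j).map (RF.map (Q.map (ιGE F a))))) :=
    isIso_of_mono_of_epi _
  -- Leray for the subcomplex
  haveI : CochainComplex.IsStrictlyGE (sigmaGE F a) a := by
    rw [CochainComplex.isStrictlyGE_iff]
    intro i hi
    exact isZero_sigmaGE_X F a i hi
  have hβ' : IsIso (β G RF α (sigmaGE F a)) := by
    apply isIso_β_of_acyclic G RF α hA (sigmaGE F a) a
    intro m i hi
    by_cases hm : a ≤ m
    · haveI := isIso_ιGE_f F a m hm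
      exact IsZero.of_iso (hac m i hi) ((G.rightDerived i).mapIso (asIso ((ιGE F a).f m)))
    · exact Functor.map_isZero _ (isZero_sigmaGE_X F a m (by omega))
  -- `f_* σ_{≥a} F ⟶ f_* F` is an isomorphism on `H^j`
  have hiso1 : IsIso ((homologyFunctor S.Modules j).map
      (Q.map ((G.mapHomologicalComplex (ComplexShape.up ℤ)).map (ιGE F a)))) := by
    have h := isIso_homologyMap_of_isIso_f
      ((G.mapHomologicalComplex (ComplexShape.up ℤ)).map (ιGE F a)) j
      (by haveI := isIso_ιGE_f F a (j - 1) (by omega)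
          exact inferInstanceAs (IsIso (G.map ((ιGE F a).f (j - 1)))))
      (by haveI := isIso_ιGE_f F a j (by omega)
          exact inferInstanceAs (IsIso (G.map ((ιGE F a).f j))))
      (by haveI := isIso_ιGE_f F a (j + 1) (by omega)
          exact inferInstanceAs (IsIso (G.map ((ιGE F a).f (j + 1)))))
    exact (NatIso.isIso_map_iff (homologyFunctorFactors S.Modules j) _).2 h
  have nat := β_naturality G RF α (ιGE F a)
  have nat' := congrArg (fun φ => res.map ((homologyFunctor S.Modules j).map φ)) nat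
  simp only [Functor.map_comp] at nat'
  have h5 : IsIso (res.map ((homologyFunctor S.Modules j).map
      (Q.map ((G.mapHomologicalComplex (ComplexShape.up ℤ)).map (ιGE F a)))) ≫
      res.map ((homologyFunctor S.Modules j).map (β G RF α F))) := by
    rw [nat']
    infer_instance
  exact IsIso.of_isIso_comp_left (res.map ((homologyFunctor S.Modules j).map
      (Q.map ((G.mapHomologicalComplex (ComplexShape.up ℤ)).map (ιGE F a))))) _

end Groth.Agent.S1035
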