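import Groth.Statements.S10367
import Groth.Agent.Lib.Helper54.LocPChart
import Groth.Agent.Lib.Helper54.GenericPt
import Groth.Agent.Lib.Helper54.ZeroDim

set_option autoImplicit false
universe u
open CategoryTheory CategoryTheory.Limits AlgebraicGeometry Topology TopologicalSpace
open AlgSp

namespace Groth.Agent.S10367

/-- (2) ⇒ (3): if an algebraic space Z over a scheme S admits a surjective flat morphism Spec k ⟶ Z with
k a field, then it also admits such a morphism which is moreover locally of finite type. -/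
theorem result {S : Scheme.{u}} (Z : AlgSp.Space S)
    (k : Type u) [Field k] (str : Spec (CommRingCat.of k) ⟶ S) (p : (AlgSp.yon S).obj (Over.mk str) ⟶ Z.obj)
    (hpf : AlgSp.LocP @Flat p) (hps : AlgSp.IsSurjectiveMor p) :
    ∃ (k' : Type u) (_ : Field k') (str' : Spec (CommRingCat.of k') ⟶ S) (q : (AlgSp.yon S).obj (Over.mk str') ⟶ Z.obj),
      AlgSp.LocP @LocallyOfFiniteType q ∧ AlgSp.LocP @Flat q ∧ AlgSp.IsSurjectiveMor q := by
  obtain ⟨W, b, hbe, hbs⟩ := Z.property.atlas
  have hid : AlgSp.RepWith @Etale (𝟙 ((AlgSp.yon S).obj (Over.mk str))) := AlgSp.repWith_id _ _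
  obtain ⟨E, α, π, hα, sq, hrep⟩ := Groth.Agent.Lib.Helper54.exists_chart_square p (𝟙 _) hid b hbe
  have hflat : Flat π.left := Groth.Agent.Lib.Helper54.locP_of_chart_square hpf hbe sq hrep
  have hsurj : Surjective π.left :=
    ⟨Groth.Agent.Lib.Helper54.surjective_of_chart_square sq
      (fun x => ⟨x, by rw [AlgSp.Points.map_id]⟩) hps⟩
  have hα' : Etale (α.left : E.left ⟶ Spec (CommRingCat.of k)) := hα
  have hfld : ∀ w : ↥W.left, IsField (W.left.presheaf.stalk w) := fun w =>
    Groth.Agent.Lib.Helper54.isField_stalk_of_flat_surjective_of_etale_over_field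
      (α.left : E.left ⟶ Spec (CommRingCat.of k)) π.left w
  let z₀ : AlgSp.Points Z.obj :=
    AlgSp.Points.map p (AlgSp.Points.ofScheme (Over.mk str) (IsLocalRing.closedPoint k))
  obtain ⟨w', -⟩ := Groth.Agent.H52.surjective_points_of_repWith_surjective b hbs z₀
  obtain ⟨w₀, -⟩ := Groth.Agent.Lib.Helper54.exists_ofScheme_eq W w'
  have hcl : IsClosed ({w₀} : Set ↥W.left) :=
    Groth.Agent.Lib.Helper54.isClosed_singleton_of_forall_isField_stalk W.left hfld w₀
  have hci : IsClosedImmersion (W.left.fromSpecResidueField w₀) :=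
    isClosed_singleton_iff_isClosedImmersion.1 hcl
  have hsub : Subsingleton (AlgSp.Points Z.obj) := by
    constructor
    intro z z'
    obtain ⟨y, rfl⟩ := hps z
    obtain ⟨y', rfl⟩ := hps z'
    have : Subsingleton (AlgSp.Points ((AlgSp.yon S).obj (Over.mk str))) :=
      Groth.Agent.H52.subsingleton_points_spec_field str
    rw [Subsingleton.elim y y']
  let P : AlgSp.FieldPt Z.obj := AlgSp.FieldPt.ofPt b w₀
  refine ⟨P.K, P.field, P.str, P.toHom, ?_, ?_, ?_⟩
  · rw [Groth.Agent.Lib.Helper54.toHom_ofPt']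
    refine Groth.Agent.Lib.Helper54.locP_yon_map_comp @LocallyOfFiniteType (fun A B φ hφ => ?_) _ ?_ b hbe
    · have : Etale φ := hφ
      infer_instance
    · change LocallyOfFiniteType (W.left.fromSpecResidueField w₀)
      infer_instance
  · rw [Groth.Agent.Lib.Helper54.toHom_ofPt']
    refine Groth.Agent.Lib.Helper54.locP_yon_map_comp @Flat (fun A B φ hφ => ?_) _ ?_ b hbe
    · have : Etale φ := hφ
      infer_instance
    · exact Groth.Agent.Lib.Helper54.flat_fromSpecResidueField_of_isField W.left w₀ (hfld w₀)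
  · intro z
    exact ⟨AlgSp.Points.ofScheme P.pt (IsLocalRing.closedPoint P.K), Subsingleton.elim _ _⟩

end Groth.Agent.S10367
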