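import Groth.Statements.S10368
import Groth.Agent.Lib.Helper54.LocPChart
import Groth.Agent.Lib.Helper54.GenericPt
import Groth.Agent.Lib.Helper54.ZeroDim
import Groth.Agent.Lib.Helper54.Noetherian
import Groth.Agent.S10366

set_option autoImplicit false
universe u
open CategoryTheory CategoryTheory.Limits AlgebraicGeometry Topology TopologicalSpace
open AlgSp

namespace Groth.Agent.S10368

/-- An algebraic space Z over a scheme S is reduced, locally Noetherian and has |Z| a single point if
and only if there is a locally finitely presented, flat, surjective morphism Spec k ⟶ Z from the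
spectrum of a field. -/
theorem result {S : Scheme.{u}} (Z : AlgSp.Space S) :
    (AlgSp.EtaleLocally (fun U => IsReduced U) Z.obj ∧ AlgSp.IsLocNoethSp Z.obj ∧ Nonempty (AlgSp.Points Z.obj) ∧ Subsingleton (AlgSp.Points Z.obj)) ↔
      ∃ (k : Type u) (_ : Field k) (str : Spec (CommRingCat.of k) ⟶ S) (p : (AlgSp.yon S).obj (Over.mk str) ⟶ Z.obj),
        AlgSp.LocP @LocallyOfFinitePresentation p ∧ AlgSp.LocP @Flat p ∧ AlgSp.IsSurjectiveMor p := by
  constructor
  · rintro ⟨hred, ⟨W, b, hbe, hbs, hW⟩, hne, hsub⟩
    have hW' : IsLocallyNoetherian W.left := hW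
    obtain ⟨k, _, str, p, hpf, hps⟩ := (Groth.Agent.S10366.result Z).1 ⟨hred, hne, hsub⟩
    have hid : AlgSp.RepWith @Etale (𝟙 ((AlgSp.yon S).obj (Over.mk str))) := AlgSp.repWith_id _ _
    obtain ⟨E, α, π, hα, sq, hrep⟩ := Groth.Agent.Lib.Helper54.exists_chart_square p (𝟙 _) hid b hbe
    have hflat : Flat π.left := Groth.Agent.Lib.Helper54.locP_of_chart_square hpf hbe sq hrep
    have hsurj : Surjective π.left :=
      ⟨Groth.Agent.Lib.Helper54.surjective_of_chart_square sq
        (fun x => ⟨x, by rw [AlgSp.Points.map_id]⟩) hps⟩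
    have hα' : Etale (α.left : E.left ⟶ Spec (CommRingCat.of k)) := hα
    have hfld : ∀ w : ↥W.left, IsField (W.left.presheaf.stalk w) := fun w =>
      Groth.Agent.Lib.Helper54.isField_stalk_of_flat_surjective_of_etale_over_field
        (α.left : E.left ⟶ Spec (CommRingCat.of k)) π.left w
    obtain ⟨z₀⟩ := hne
    obtain ⟨w', -⟩ := Groth.Agent.H52.surjective_points_of_repWith_surjective b hbs z₀
    obtain ⟨w₀, -⟩ := Groth.Agent.Lib.Helper54.exists_ofScheme_eq W w'
    have hcl : IsClosed ({w₀} : Set ↥W.left) :=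
      Groth.Agent.Lib.Helper54.isClosed_singleton_of_forall_isField_stalk W.left hfld w₀
    have hci : IsClosedImmersion (W.left.fromSpecResidueField w₀) :=
      isClosed_singleton_iff_isClosedImmersion.1 hcl
    let P : AlgSp.FieldPt Z.obj := AlgSp.FieldPt.ofPt b w₀
    refine ⟨P.K, P.field, P.str, P.toHom, ?_, ?_, ?_⟩
    · rw [Groth.Agent.Lib.Helper54.toHom_ofPt']
      have : MorphismProperty.IsMultiplicative @LocallyOfFinitePresentation :=
        { id_mem := fun X => inferInstanceAs (LocallyOfFinitePresentation (𝟙 X)) }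
      refine Groth.Agent.Lib.Helper54.locP_yon_map_comp @LocallyOfFinitePresentation
        (fun A B φ hφ => ?_) _ ?_ b hbe
      · have : Etale φ := hφ
        infer_instance
      · change LocallyOfFinitePresentation (W.left.fromSpecResidueField w₀)
        rw [LocallyOfFinitePresentation.iff_locallyOfFiniteType]
        infer_instance
    · rw [Groth.Agent.Lib.Helper54.toHom_ofPt']
      refine Groth.Agent.Lib.Helper54.locP_yon_map_comp @Flat (fun A B φ hφ => ?_) _ ?_ b hbe
      · have : Etale φ := hφ
        infer_instance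
      · exact Groth.Agent.Lib.Helper54.flat_fromSpecResidueField_of_isField W.left w₀ (hfld w₀)
    · intro z
      exact ⟨AlgSp.Points.ofScheme P.pt (IsLocalRing.closedPoint P.K), Subsingleton.elim _ _⟩
  · rintro ⟨k, _, str, p, hpp, hpf, hps⟩
    obtain ⟨hred, hne, hsub⟩ := (Groth.Agent.S10366.result Z).2 ⟨k, _, str, p, hpf, hps⟩
    refine ⟨hred, ?_, hne, hsub⟩
    obtain ⟨W, q, hqe, hqs⟩ := Z.property.atlas
    have hid : AlgSp.RepWith @Etale (𝟙 ((AlgSp.yon S).obj (Over.mk str))) := AlgSp.repWith_id _ _
    obtain ⟨V, a, h, ha, sq, hrep⟩ := Groth.Agent.Lib.Helper54.exists_chart_square p (𝟙 _) hid q hqe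
    refine ⟨W, q, hqe, hqs, ?_⟩
    have hflat : Flat h.left := Groth.Agent.Lib.Helper54.locP_of_chart_square hpf hqe sq hrep
    have hlfp : LocallyOfFinitePresentation h.left :=
      Groth.Agent.Lib.Helper54.locP_of_chart_square hpp hqe sq hrep
    have hsurj : Surjective h.left :=
      ⟨Groth.Agent.Lib.Helper54.surjective_of_chart_square sq
        (fun x => ⟨x, by rw [AlgSp.Points.map_id]⟩) hps⟩
    have : IsLocallyNoetherian (Over.mk str).left := by
      change IsLocallyNoetherian (Spec (CommRingCat.of k))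
      infer_instance
    have : IsLocallyNoetherian V.left := LocallyOfFiniteType.isLocallyNoetherian a.left
    exact Groth.Agent.Lib.Helper54.isLocallyNoetherian_of_fppf h.left

end Groth.Agent.S10368
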