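import Groth.Statements.S10369
import Groth.Agent.Lib.Helper54.MonoField
import Groth.Agent.H52.FibreProd

set_option autoImplicit false
universe u
open CategoryTheory CategoryTheory.Limits AlgebraicGeometry Topology TopologicalSpace
open AlgSp

namespace Groth.Agent.S10369

/-- Let S be a scheme, Z' and Z algebraic spaces over S, and Z' ⟶ Z a monomorphism, and suppose there is
a locally finitely presented, flat, surjective morphism Spec k ⟶ Z from the spectrum of a field.
Then Z' is empty or Z' ⟶ Z is an isomorphism. -/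
theorem result {S : Scheme.{u}} {Z' Z : AlgSp.Space S} (f : Z' ⟶ Z)
    [Mono f.hom]
    (hZ : ∃ (k : Type u) (_ : Field k) (str : Spec (CommRingCat.of k) ⟶ S) (p : (AlgSp.yon S).obj (Over.mk str) ⟶ Z.obj),
        AlgSp.LocP @LocallyOfFinitePresentation p ∧ AlgSp.LocP @Flat p ∧ AlgSp.IsSurjectiveMor p) :
    IsEmpty (AlgSp.Points Z'.obj) ∨ IsIso f := by
  obtain ⟨k, _, str, p, hpp, hpf, hps⟩ := hZ
  by_cases hemp : IsEmpty (AlgSp.Points Z'.obj)
  · exact Or.inl hemp
  right
  rw [not_isEmpty_iff] at hemp
  obtain ⟨z'⟩ := hemp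
  -- the space of points of `Z` is a singleton
  have hsub : Subsingleton (AlgSp.Points Z.obj) := by
    constructor
    intro z z'
    obtain ⟨y, rfl⟩ := hps z
    obtain ⟨y', rfl⟩ := hps z'
    have : Subsingleton (AlgSp.Points ((AlgSp.yon S).obj (Over.mk str))) :=
      Groth.Agent.H52.subsingleton_points_spec_field str
    rw [Subsingleton.elim y y']
  -- `p` is an epimorphism of sheaves
  have hpepi : Epi p := by
    obtain ⟨W, b, hbe, hbs⟩ := Z.property.atlas
    have hid : AlgSp.RepWith @Etale (𝟙 ((AlgSp.yon S).obj (Over.mk str))) := AlgSp.repWith_id _ _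
    obtain ⟨E, α, π, hα, sq, hrep⟩ := Groth.Agent.Lib.Helper54.exists_chart_square p (𝟙 _) hid b hbe
    have hflat : Flat π.left := Groth.Agent.Lib.Helper54.locP_of_chart_square hpf hbe sq hrep
    have hlfp : LocallyOfFinitePresentation π.left :=
      Groth.Agent.Lib.Helper54.locP_of_chart_square hpp hbe sq hrep
    have hsurj : Surjective π.left :=
      ⟨Groth.Agent.Lib.Helper54.surjective_of_chart_square sq
        (fun x => ⟨x, by rw [AlgSp.Points.map_id]⟩) hps⟩
    have h1 : Epi ((AlgSp.yon S).map π) := Groth.Agent.H52.epi_yon_map_of_fppf π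
    have h2 : Epi b := Groth.Agent.H52.epi_of_repWith_etale_surjective b hbe hbs
    have h3 : Epi ((AlgSp.yon S).map α ≫ p) := by
      have hw := sq.w
      rw [Category.id_comp] at hw
      rw [hw]
      exact epi_comp _ _
    exact epi_of_epi ((AlgSp.yon S).map α) p
  -- the fibre product `T = Spec k ×_Z Z'`
  have sq : IsPullback (pullback.fst p f.hom) (pullback.snd p f.hom) p f.hom := IsPullback.of_hasPullback _ _
  have hT : AlgSp.IsAlgSpace (pullback p f.hom) :=
    Groth.Agent.H52.isAlgSpace_of_isPullback sq (AlgSp.IsAlgSpace.yon_obj _) Z.property Z'.property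
  have hmono : Mono (pullback.fst p f.hom) := inferInstance
  obtain ⟨t, -, -⟩ := Groth.Agent.Lib.Helper54.exists_point_of_isPullback sq
    (AlgSp.Points.ofScheme (Over.mk str) (IsLocalRing.closedPoint k)) z' (Subsingleton.elim _ _)
  have hiso : IsIso (pullback.fst p f.hom) :=
    Groth.Agent.Lib.Helper54.isIso_of_mono_to_field_of_isAlgSpace hT t _
  have hfac : (inv (pullback.fst p f.hom) ≫ pullback.snd p f.hom) ≫ f.hom = p := by
    rw [Category.assoc, ← pullback.condition, IsIso.inv_hom_id_assoc]
  have hfepi : Epi f.hom := by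
    have : Epi ((inv (pullback.fst p f.hom) ≫ pullback.snd p f.hom) ≫ f.hom) := by
      rw [hfac]; exact hpepi
    exact epi_of_epi (inv (pullback.fst p f.hom) ≫ pullback.snd p f.hom) f.hom
  have hfiso : IsIso f.hom := isIso_of_mono_of_epi f.hom
  have : IsIso ((ObjectProperty.ι (AlgSp.IsAlgSpace (S := S))).map f) := hfiso
  exact isIso_of_fully_faithful (ObjectProperty.ι (AlgSp.IsAlgSpace (S := S))) f

end Groth.Agent.S10369
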