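import Groth.Statements.S10372
import Groth.Agent.Lib.Helper54.ZeroDim
import Groth.Agent.Lib.Helper54.Transfer
import Groth.Agent.S10366
import Mathlib.RingTheory.RegularLocalRing.Defs

set_option autoImplicit false
universe u
open CategoryTheory CategoryTheory.Limits AlgebraicGeometry Topology TopologicalSpace
open AlgSp

namespace Groth.Agent.S10372

/-- A reduced, locally Noetherian algebraic space Z over a scheme S whose space of points is a single
point is regular (etale locally a regular scheme). -/
theorem result {S : Scheme.{u}} (Z : AlgSp.Space S)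
    (hr : AlgSp.EtaleLocally (fun U => IsReduced U) Z.obj) (hN : AlgSp.IsLocNoethSp Z.obj)
    [Nonempty (AlgSp.Points Z.obj)] [Subsingleton (AlgSp.Points Z.obj)] :
    AlgSp.EtaleLocally (fun U => IsLocallyNoetherian U ∧ ∀ u : ↥U, IsRegularLocalRing ↥(U.presheaf.stalk u)) Z.obj := by
  obtain ⟨W, b, hbe, hbs, hW⟩ := hN
  have hW' : IsLocallyNoetherian W.left := hW
  obtain ⟨k, _, str, p, hpf, hps⟩ := (Groth.Agent.S10366.result Z).1 ⟨hr, inferInstance, inferInstance⟩
  have hid : AlgSp.RepWith @Etale (𝟙 ((AlgSp.yon S).obj (Over.mk str))) := AlgSp.repWith_id _ _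
  obtain ⟨E, α, π, hα, sq, hrep⟩ := Groth.Agent.Lib.Helper54.exists_chart_square p (𝟙 _) hid b hbe
  have hflat : Flat π.left := Groth.Agent.Lib.Helper54.locP_of_chart_square hpf hbe sq hrep
  have hsurj : Surjective π.left :=
    ⟨Groth.Agent.Lib.Helper54.surjective_of_chart_square sq
      (fun x => ⟨x, by rw [AlgSp.Points.map_id]⟩) hps⟩
  have hα' : Etale (α.left : E.left ⟶ Spec (CommRingCat.of k)) := hα
  have hfld : ∀ w : ↥W.left, IsField (W.left.presheaf.stalk w) := fun w =>
    Groth.Agent.Lib.Helper54.isField_stalk_of_flat_surjective_of_etale_over_field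
      (α.left : E.left ⟶ Spec (CommRingCat.of k)) π.left w
  refine ⟨W, b, hbe, hbs, hW', fun w => ?_⟩
  letI := (hfld w).toField
  infer_instance

end Groth.Agent.S10372
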