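import Groth.Statements.S10385
import Groth.Agent.Lib.Helper54.MonoDescend
set_option backward.isDefEq.respectTransparency false

set_option autoImplicit false
universe u
open CategoryTheory CategoryTheory.Limits AlgebraicGeometry Topology TopologicalSpace
open AlgSp

namespace Groth.Agent.S10385

/-- Let S be a scheme, X and Y algebraic spaces over S, and f : X ⟶ Y a quasi-compact, etale and
surjective morphism. If each point of X can be represented by a monomorphism whose source is the
spectrum of a field, then so can each point of Y. -/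
theorem result {S : Scheme.{u}} {X Y : AlgSp.Space S} (f : X ⟶ Y)
    (hq : AlgSp.IsQuasiCompactMor f.hom) (he : AlgSp.IsEtaleMor f.hom) (hs : AlgSp.IsSurjectiveMor f.hom)
    (hX : ∀ x : AlgSp.Points X.obj, ∃ p : AlgSp.FieldPt X.obj, AlgSp.Points.mk p = x ∧ Mono p.toHom)
    (y : AlgSp.Points Y.obj) : ∃ q : AlgSp.FieldPt Y.obj, AlgSp.Points.mk q = y ∧ Mono q.toHom := by
  obtain ⟨x, rfl⟩ := hs y
  obtain ⟨p, rfl, hmono⟩ := hX x
  rw [Groth.Agent.H53.FieldQuot.exists_mono_iff_exists_etale_qc_kernelPair]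
  refine ⟨p.map f.hom, by rw [Points.map_mk], ?_⟩
  intro P fst snd sq
  rw [FieldPt.toHom_map] at sq
  have hr : Representable (p.toHom ≫ f.hom) := Y.property.representable_from_yon _
  have sqW : IsPullback ((yon S).map (hr.fst' (p.toHom ≫ f.hom))) ((yon S).map (hr.snd (p.toHom ≫ f.hom)))
      (p.toHom ≫ f.hom) (p.toHom ≫ f.hom) := hr.isPullback' _
  obtain ⟨W, w₁, w₂, sqW⟩ : ∃ (W : Over S) (w₁ w₂ : W ⟶ (p.map f.hom).pt),
      IsPullback ((yon S).map w₁) ((yon S).map w₂) (p.toHom ≫ f.hom) (p.toHom ≫ f.hom) :=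
    ⟨_, _, _, sqW⟩
  obtain ⟨h1, h2⟩ := Groth.Agent.Lib.Helper54.kernelPair_etale_compact_of_qc_etale X.property Y.property
    f.hom hq he p hmono w₂ w₁ sqW.flip
  have hqc : QuasiCompact w₁.left := by
    have : CompactSpace ↥W.left := h2
    have h : ∀ (g : W.left ⟶ Spec (CommRingCat.of p.K)), QuasiCompact g := fun g => inferInstance
    exact h w₁.left
  let e : P ≅ (yon S).obj W := sq.isoIsPullback _ _ sqW
  have hfst : fst = e.hom ≫ (yon S).map w₁ := (sq.isoIsPullback_hom_fst _ _ sqW).symm
  have hE : (RepWith (S := S) @Etale).IsMultiplicative := repWith_isMultiplicative _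
  have hQ : (RepWith (S := S) @QuasiCompact).IsMultiplicative := repWith_isMultiplicative _
  rw [hfst]
  exact ⟨MorphismProperty.comp_mem _ _ _ (Groth.Agent.H52.repWith_of_isIso _ _)
      ((repWith_yon_map_iff _ _).2 h1),
    MorphismProperty.comp_mem _ _ _ (Groth.Agent.H52.repWith_of_isIso _ _)
      ((repWith_yon_map_iff _ _).2 hqc)⟩

end Groth.Agent.S10385
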