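import Groth.Statements.S10395
import Groth.Agent.Lib.Helper54.DecentTop
import Groth.Agent.H53.FibrePts4

set_option autoImplicit false
universe u
open CategoryTheory CategoryTheory.Limits AlgebraicGeometry Topology TopologicalSpace
open AlgSp

namespace Groth.Agent.S10395

/-- (1) ⇔ (2) ⇔ (3): let S be a scheme, X a decent algebraic space over S, and (Y, y) ⟶ (X, x) an etale
morphism of pointed algebraic spaces. Then the point y is a generic point of some irreducible
component of |Y| if and only if the point x is a generic point of some irreducible component of |X|. -/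
theorem result {S : Scheme.{u}} {X Y : AlgSp.Space S}
    (hX : AlgSp.IsDecent X.obj) (f : Y ⟶ X) (hf : AlgSp.IsEtaleMor f.hom) (y : AlgSp.Points Y.obj) :
    (∃ T ∈ irreducibleComponents (AlgSp.Points Y.obj), IsGenericPoint y T) ↔
      (∃ T ∈ irreducibleComponents (AlgSp.Points X.obj), IsGenericPoint (AlgSp.Points.map f.hom y) T) := by
  open Groth.Agent.Lib.Helper54 in
  have hY : IsDecent Y.obj :=
    Groth.Agent.H53.FibrePts.isDecent_of_isEtaleMor Y.property X.property f.hom hf hX
  obtain ⟨V, b, v, hb, rfl⟩ := exists_chart_through Y.property y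
  have hbf : RepWith @Etale (b ≫ f.hom) := hf b hb
  have h1 := ringKrullDim_stalk_eq_zero_iff_of_isDecent Y.property hY b hb v
  have h2 := ringKrullDim_stalk_eq_zero_iff_of_isDecent X.property hX (b ≫ f.hom) hbf v
  have h3 : Points.map f.hom (Points.ofPt b v) = Points.ofPt (b ≫ f.hom) v := Points.map_ofPt b f.hom v
  constructor
  · rintro ⟨T, hT, hg⟩
    refine ⟨_, ?_, isGenericPoint_closure⟩
    rw [h3]
    exact h2.1 (h1.2 (hg.def ▸ hT))
  · rintro ⟨T, hT, hg⟩
    refine ⟨_, h1.1 (h2.2 ?_), isGenericPoint_closure⟩
    rw [← h3, hg.def]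
    exact hT

end Groth.Agent.S10395
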