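import Groth.Statements.S10398
import Groth.Agent.Lib.Helper54.GenericFiniteSp
import Groth.Agent.H52.OpenSub

set_option autoImplicit false
universe u
open CategoryTheory CategoryTheory.Limits AlgebraicGeometry Topology TopologicalSpace
open AlgSp

namespace Groth.Agent.S10398

/-- (2) ⇒ (3): let S be a scheme, X and Y algebraic spaces over S, and f : X ⟶ Y a quasi-separated
morphism of finite type, and let y ∈ |Y| be a codimension 0 point of Y. Suppose that at every point
of |X| lying over y the morphism f is quasi-finite. Then there is an open subspace Y' ⊆ Y containing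
y for which the morphism Y' ×_Y X ⟶ Y' is finite. -/
theorem result {S : Scheme.{u}} {X Y : AlgSp.Space S} (f : X ⟶ Y)
    (hqs : AlgSp.IsQuasiSeparatedMor f.hom) (hft : AlgSp.IsFiniteTypeMor f.hom) (y : AlgSp.Points Y.obj)
    (hy : AlgSp.HasAt (fun U u => ringKrullDim ↥(U.presheaf.stalk u) = 0) Y.obj y)
    (hqf : ∀ x : AlgSp.Points X.obj, AlgSp.Points.map f.hom x = y → AlgSp.HasAtMor (fun U _ h u => ∃ W : U.Opens, u ∈ W ∧ LocallyQuasiFinite (W.ι ≫ h) ∧ LocallyOfFiniteType (W.ι ≫ h)) f.hom x) :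
    ∃ (Y' X' : AlgSp.Space S) (j : Y' ⟶ Y) (fst : X' ⟶ Y') (snd : X' ⟶ X), AlgSp.RepWith @IsOpenImmersion j.hom ∧
      y ∈ Set.range (AlgSp.Points.map j.hom) ∧ IsPullback fst.hom snd.hom j.hom f.hom ∧
      AlgSp.IsFiniteMor fst.hom := by
  obtain ⟨V, b, hVaff, hbe, ⟨v, hv⟩, H⟩ :=
    Groth.Agent.Lib.Helper54.exists_chart_isFiniteMor_of_quasiFiniteAt X.property Y.property f.hom hqs hft y hy hqf
  have hY' : IsAlgSpace (Sheaf.image b) := Groth.Agent.H52.isAlgSpace_image Y.property b hbe
  have hj : RepWith @IsOpenImmersion (Sheaf.imageι b) := Groth.Agent.H52.repWith_isOpenImmersion_imageι b hbe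
  have hpe : RepWith @Etale (Sheaf.toImage b) := Groth.Agent.H52.repWith_etale_toImage b hbe
  have hps : RepWith @Surjective (Sheaf.toImage b) := Groth.Agent.H52.repWith_surjective_toImage b hbe
  have hpj : Sheaf.toImage b ≫ Sheaf.imageι b = b := Sheaf.toImage_ι b
  have sqX := IsPullback.of_hasPullback f.hom (Sheaf.imageι b)
  have hX' : IsAlgSpace (pullback f.hom (Sheaf.imageι b)) :=
    Groth.Agent.H52.isAlgSpace_of_isPullback sqX X.property Y.property hY'
  refine ⟨⟨Sheaf.image b, hY'⟩, ⟨pullback f.hom (Sheaf.imageι b), hX'⟩, ObjectProperty.homMk (Sheaf.imageι b),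
    ObjectProperty.homMk (pullback.snd f.hom (Sheaf.imageι b)),
    ObjectProperty.homMk (pullback.fst f.hom (Sheaf.imageι b)), hj, ?_, sqX.flip, ?_⟩
  · rw [show (ObjectProperty.homMk (Sheaf.imageι b) : (⟨Sheaf.image b, hY'⟩ : AlgSp.Space S) ⟶ Y).hom =
      Sheaf.imageι b from rfl, Groth.Agent.H52.range_points_map_imageι b hbe]
    exact ⟨v, hv⟩
  · change IsFiniteMor (pullback.snd f.hom (Sheaf.imageι b))
    have sqW := IsPullback.of_hasPullback (pullback.snd f.hom (Sheaf.imageι b)) (Sheaf.toImage b)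
    refine Groth.Agent.H53.ChartDescent.of_chart_of_isLocalOnBase_fpqc (Groth.Agent.S10540.result S) hX' hY'
      (pullback.snd f.hom (Sheaf.imageι b)) (Sheaf.toImage b) hpe hps _ _ sqW ?_
    refine H _ (pullback.fst _ _ ≫ pullback.fst f.hom (Sheaf.imageι b)) _ ?_
    have := sqW.paste_horiz sqX
    rwa [hpj] at this

end Groth.Agent.S10398
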