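import Groth.Statements.S10401
import Groth.Agent.Lib.Helper54.Transfer
import Mathlib.AlgebraicGeometry.Morphisms.FiniteType

set_option autoImplicit false
universe u
open CategoryTheory CategoryTheory.Limits AlgebraicGeometry Topology TopologicalSpace
open AlgSp

namespace Groth.Agent.S10401

/-- If Y is a Jacobson algebraic space and X is an algebraic space that is locally of finite type over
Y, then X is Jacobson. -/
theorem result {S : Scheme.{u}} {X Y : AlgSp.Space S} (hX : AlgSp.EtaleLocally (fun U => JacobsonSpace ↥U) X.obj)
    (f : Y ⟶ X) (hf : AlgSp.LocP @LocallyOfFiniteType f.hom) : AlgSp.EtaleLocally (fun U => JacobsonSpace ↥U) Y.obj := by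
  refine Groth.Agent.Lib.Helper54.etaleLocally_of_locP (P := @LocallyOfFiniteType)
    (Q := fun U => JacobsonSpace ↥U) (Q' := fun U => JacobsonSpace ↥U) ?_ Y.property f.hom hf hX
  intro V W h hh hW
  exact @LocallyOfFiniteType.jacobsonSpace _ _ h hh hW

end Groth.Agent.S10401
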