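import Groth.Statements.S10403
import Groth.Agent.Lib.Helper54.DecentPts2

set_option autoImplicit false
universe u
open CategoryTheory CategoryTheory.Limits AlgebraicGeometry Topology TopologicalSpace
open AlgSp

namespace Groth.Agent.S10403

/-- For a decent Jacobson algebraic space X over a scheme S, the finite type points of |X| are exactly
the closed points. -/
theorem result {S : Scheme.{u}} (X : AlgSp.Space S) (hd : AlgSp.IsDecent X.obj)
    (hX : AlgSp.EtaleLocally (fun U => JacobsonSpace ↥U) X.obj) (x : AlgSp.Points X.obj) :
    AlgSp.HasAt (fun U u => IsClosed ({u} : Set ↥U)) X.obj x ↔ IsClosed ({x} : Set (AlgSp.Points X.obj)) := by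
  constructor
  · intro hx
    obtain ⟨p, hp, -, hq⟩ := hd x
    exact Groth.Agent.Lib.Helper54.isClosed_singleton_of_hasAt_isClosed hX x p hp hq hx
  · intro hx
    exact Groth.Agent.Lib.Helper54.hasAt_isClosed_of_isClosed_singleton hX x hx

end Groth.Agent.S10403
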