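import Groth.Statements.S10405
import Groth.Agent.Lib.Helper54.PuncturedGen
import Groth.Agent.Lib.Helper54.DecentPts2

set_option autoImplicit false
universe u
open CategoryTheory CategoryTheory.Limits AlgebraicGeometry Topology TopologicalSpace
open AlgSp

namespace Groth.Agent.S10405

/-- Let S be a scheme, X an algebraic space over S which is decent and locally Noetherian, and x ∈ |X|.
Then the set W of proper generizations of x (points x' ≠ x with x' ⤳ x), with the topology induced
from |X|, is a topological space which is Noetherian, spectral, sober and Jacobson. -/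
theorem result {S : Scheme.{u}} (X : AlgSp.Space S)
    (hd : AlgSp.IsDecent X.obj) (hN : AlgSp.IsLocNoethSp X.obj) (x : AlgSp.Points X.obj) :
    NoetherianSpace {x' : AlgSp.Points X.obj // x' ⤳ x ∧ x' ≠ x} ∧
      SpectralSpace {x' : AlgSp.Points X.obj // x' ⤳ x ∧ x' ≠ x} ∧
      QuasiSober {x' : AlgSp.Points X.obj // x' ⤳ x ∧ x' ≠ x} ∧
      JacobsonSpace {x' : AlgSp.Points X.obj // x' ⤳ x ∧ x' ≠ x} := by
  obtain ⟨U₀, a₀, ha₀e, ha₀s, hU⟩ := hN
  have : IsLocallyNoetherian U₀.left := hU
  obtain ⟨u', hu'⟩ := Groth.Agent.H52.surjective_points_of_repWith_surjective a₀ ha₀s x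
  obtain ⟨u, rfl⟩ := Groth.Agent.Lib.Helper54.exists_ofScheme_eq U₀ u'
  rw [← Points.ofPt_eq_map_ofScheme] at hu'
  subst hu'
  exact Groth.Agent.Lib.Helper54.punctured_generizations_of_isDecent X.property hd a₀ ha₀e u

end Groth.Agent.S10405
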