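import Groth.Statements.S10411
import Groth.Agent.Lib.Helper54.FinQuotLocus
import Groth.Agent.H52.QC

set_option autoImplicit false
universe u
open CategoryTheory CategoryTheory.Limits AlgebraicGeometry Topology TopologicalSpace
open AlgSp

namespace Groth.Agent.S10411

/-- Let S be a scheme, X and Y algebraic spaces over S, X ⟶ Y a surjective finite locally free morphism,
and y ∈ |Y|. Then y lies in the schematic locus of Y (some open subspace of Y containing y is a
scheme) if and only if there is an affine open subscheme U ⊆ X containing the preimage of y. -/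
theorem result {S : Scheme.{u}} {X Y : AlgSp.Space S} (f : X ⟶ Y)
    (hf : AlgSp.IsFinLocFreeMor f.hom) (hs : AlgSp.RepWith @Surjective f.hom) (y : AlgSp.Points Y.obj) :
    (∃ (Y' : AlgSp.Space S) (j : Y' ⟶ Y), AlgSp.RepWith @IsOpenImmersion j.hom ∧ Y'.obj.obj.IsRepresentable ∧
        y ∈ Set.range (AlgSp.Points.map j.hom)) ↔
      ∃ (U : Over S) (a : (AlgSp.yon S).obj U ⟶ X.obj), IsAffine U.left ∧ AlgSp.RepWith @IsOpenImmersion a ∧
        AlgSp.Points.map f.hom ⁻¹' {y} ⊆ Set.range (AlgSp.Points.ofPt a) := by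
  open Groth.Agent.Lib.Helper54 in
  constructor
  · rintro ⟨Y', j, hj, hrep, y', rfl⟩
    have hM : (RepWith (S := S) @IsOpenImmersion).IsMultiplicative := repWith_isMultiplicative _
    obtain ⟨⟨V, ⟨r⟩⟩⟩ := (hrep : Y'.obj.obj.IsRepresentable)
    obtain ⟨e, -⟩ : ∃ e : (yon S).obj V ≅ Y'.obj, e = isoOfRepresentableBy r := ⟨_, rfl⟩
    obtain ⟨ξ, rfl⟩ : ∃ ξ, Points.map e.hom ξ = y' :=
      ⟨Points.map e.inv y', by rw [← Points.map_comp, e.inv_hom_id, Points.map_id]⟩
    obtain ⟨v, rfl⟩ := (Points.schemeEquiv V).surjective ξ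
    obtain ⟨V₀, hV₀, hvV₀, -⟩ := exists_isAffineOpen_mem_and_subset (x := v) (U := ⊤) trivial
    have hyon : RepWith @IsOpenImmersion ((yon S).map (Groth.Agent.H52.overOpenι V V₀)) :=
      (repWith_yon_map_iff _ _).2 (inferInstance : IsOpenImmersion V₀.ι)
    have he : RepWith @IsOpenImmersion e.hom := MorphismProperty.of_isIso _ e.hom
    obtain ⟨g, hg⟩ : ∃ g : (yon S).obj (Groth.Agent.H52.overOpen V V₀) ⟶ Y.obj,
      g = (yon S).map (Groth.Agent.H52.overOpenι V V₀) ≫ e.hom ≫ j.hom := ⟨_, rfl⟩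
    have hgoi : RepWith @IsOpenImmersion g := by
      rw [hg]
      exact (RepWith (S := S) @IsOpenImmersion).comp_mem _ _ hyon
        ((RepWith (S := S) @IsOpenImmersion).comp_mem _ _ he hj)
    have hr := hf.rep
    have sq := hr.isPullback g
    have hfin : IsFinite (hr.snd g).left := (hf.property_snd g).1
    have hT₀ : IsAffine (Groth.Agent.H52.overOpen V V₀).left := hV₀
    refine ⟨hr.pullback g, hr.fst g, isAffine_of_isAffineHom (hr.snd g).left,
      MorphismProperty.of_isPullback sq.flip hgoi, ?_⟩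
    intro x hx
    have hx' : Points.map f.hom x = Points.map j.hom (Points.map e.hom (Points.schemeEquiv V v)) := hx
    let v₀ : ↥(Groth.Agent.H52.overOpen V V₀).left := ⟨v, hvV₀⟩
    have hv₀ : Points.map g (Points.ofScheme _ v₀) = Points.map f.hom x := by
      rw [hx', hg, Points.map_comp, Points.map_comp, Groth.Agent.H52.points_map_ofScheme]
      rfl
    obtain ⟨p, hp1, -⟩ := Groth.Agent.H52.exists_point_of_isPullback sq x (Points.ofScheme _ v₀) hv₀.symm
    obtain ⟨w, rfl⟩ := (Points.schemeEquiv _).surjective p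
    exact ⟨w, (Points.ofPt_eq_map_ofScheme _ w).trans hp1⟩
  · rintro ⟨U, a, hUaff, ha, hfib⟩
    obtain ⟨hV, hrep⟩ := representable_openSub_of_finLocFree f.hom hf hs a ha (finAff_of_isAffine U.left)
    refine ⟨⟨openSub Y.obj _, isAlgSpace_openSub Y.property _ hV⟩, ObjectProperty.homMk (openSubι Y.obj _),
      repWith_isOpenImmersion_openSubι Y.obj _ hV, hrep, ?_⟩
    change y ∈ Set.range (Points.map (openSubι Y.obj _))
    rw [range_points_map_openSubι]
    rintro ⟨x, hx, hxy⟩
    exact hx (hfib hxy)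

end Groth.Agent.S10411
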