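import Groth.Statements.S10414
import Groth.Agent.Lib.Helper54.ResidualSpace

set_option autoImplicit false
universe u
open CategoryTheory CategoryTheory.Limits AlgebraicGeometry Topology TopologicalSpace
open AlgSp

namespace Groth.Agent.S10414

/-- Let S be a scheme, X an algebraic space over S, x ∈ |X|, and Z_x ⟶ X the residual space of x (a
monomorphism with image {x} from a space which admits a locally finitely presented, flat, surjective
morphism whose source is the spectrum of a field). Then Z_x is isomorphic to Spec k' for some field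
k' if and only if the point x is represented by some monomorphism Spec k ⟶ X. (The decent case, in
which the right side holds at every point, is not part of this row.) -/
theorem result {S : Scheme.{u}} (X : AlgSp.Space S) (x : AlgSp.Points X.obj)
    {Z : AlgSp.Space S} (i : Z ⟶ X) [Mono i.hom] (hi : Set.range (AlgSp.Points.map i.hom) = {x})
    (hZ : ∃ (k : Type u) (_ : Field k) (str : Spec (CommRingCat.of k) ⟶ S) (p : (AlgSp.yon S).obj (Over.mk str) ⟶ Z.obj),
        AlgSp.LocP @LocallyOfFinitePresentation p ∧ AlgSp.LocP @Flat p ∧ AlgSp.IsSurjectiveMor p) :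
    (∃ (k : Type u) (_ : Field k) (str : Spec (CommRingCat.of k) ⟶ S), Nonempty (Z.obj ≅ (AlgSp.yon S).obj (Over.mk str))) ↔
      ∃ p : AlgSp.FieldPt X.obj, AlgSp.Points.mk p = x ∧ Mono p.toHom := by
  obtain ⟨k, _, str, p, hpp, hpf, hps⟩ := hZ
  constructor
  · rintro ⟨k', _, str', ⟨e⟩⟩
    let P : AlgSp.FieldPt X.obj := Groth.Agent.Lib.Helper54.fieldPtOfHom k' str' (e.inv ≫ i.hom)
    have hP : P.toHom = e.inv ≫ i.hom := Groth.Agent.Lib.Helper54.fieldPtOfHom_toHom _ _ _
    refine ⟨P, ?_, ?_⟩
    · have h1 : AlgSp.Points.mk P = AlgSp.Points.ofPt P.toHom (IsLocalRing.closedPoint k') :=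
        (AlgSp.Points.ofPt_toHom P _).symm
      have h2 : AlgSp.Points.mk P ∈ Set.range (AlgSp.Points.map i.hom) := by
        rw [h1, hP]
        exact ⟨AlgSp.Points.ofPt e.inv (IsLocalRing.closedPoint k'), rfl⟩
      rw [hi] at h2
      exact h2
    · rw [hP]
      infer_instance
  · rintro ⟨P, hPx, hPm⟩
    have sq : IsPullback (pullback.fst i.hom P.toHom) (pullback.snd i.hom P.toHom) i.hom P.toHom :=
      IsPullback.of_hasPullback _ _
    have hT : AlgSp.IsAlgSpace (pullback i.hom P.toHom) :=
      Groth.Agent.H52.isAlgSpace_of_isPullback sq Z.property X.property (AlgSp.IsAlgSpace.yon_obj _)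
    have hx : x ∈ Set.range (AlgSp.Points.map i.hom) := by rw [hi]; rfl
    obtain ⟨z, hz⟩ := hx
    have hq : AlgSp.Points.map P.toHom (AlgSp.Points.ofScheme P.pt (IsLocalRing.closedPoint P.K)) = x := by
      rw [← hPx]
      exact AlgSp.Points.ofPt_toHom P _
    obtain ⟨t, -, -⟩ := Groth.Agent.Lib.Helper54.exists_point_of_isPullback sq z _ (hz.trans hq.symm)
    have h1 : Mono (pullback.fst i.hom P.toHom) := inferInstance
    have h2 : Mono (pullback.snd i.hom P.toHom) := inferInstance
    have hiso1 : IsIso (pullback.fst i.hom P.toHom) :=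
      Groth.Agent.Lib.Helper54.isIso_of_mono_of_fppf_fieldPt hT Z.property _ p hpp hpf hps t
    have hiso2 : IsIso (pullback.snd i.hom P.toHom) :=
      Groth.Agent.Lib.Helper54.isIso_of_mono_to_field_of_isAlgSpace hT t _
    exact ⟨P.K, P.field, P.str, ⟨(asIso (pullback.fst i.hom P.toHom)).symm ≪≫
      asIso (pullback.snd i.hom P.toHom)⟩⟩

end Groth.Agent.S10414
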