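import Groth.Statements.S10416
import Groth.Agent.H53.ResidualClosed

set_option autoImplicit false
universe u
open CategoryTheory CategoryTheory.Limits AlgebraicGeometry Topology TopologicalSpace
open AlgSp

namespace Groth.Agent.S10416

/-- Let S be a scheme, X a locally Noetherian algebraic space over S, x ∈ |X|, and i : Z_x ⟶ X the
residual space at x. Then x is closed in |X| if and only if i is a closed immersion. -/
theorem result {S : Scheme.{u}} {X Z : AlgSp.Space S}
    (hX : AlgSp.IsLocNoethSp X.obj) (x : AlgSp.Points X.obj) (i : Z ⟶ X) [Mono i.hom]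
    (hi : Set.range (AlgSp.Points.map i.hom) = {x}) (hZ : ∃ (k : Type u) (_ : Field k) (str : Spec (CommRingCat.of k) ⟶ S) (p : (AlgSp.yon S).obj (Over.mk str) ⟶ Z.obj),
        AlgSp.LocP @LocallyOfFinitePresentation p ∧ AlgSp.LocP @Flat p ∧ AlgSp.IsSurjectiveMor p) :
    IsClosed ({x} : Set (AlgSp.Points X.obj)) ↔ AlgSp.RepWith @IsClosedImmersion i.hom := by
  obtain ⟨k, hk, str, p, hpp, hpf, hps⟩ := hZ
  constructor
  · intro hx
    exact Groth.Agent.H53.ResidualClosed.repWith_isClosedImmersion_of_isClosed X.property Z.property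
      hX x hx i.hom hi
      (Groth.Agent.H53.ResidualClosed.etaleLocally_isReduced_of_flat_fieldPt Z.property p hpf hps)
  · intro h
    have := Groth.Agent.H53.ResidualClosed.isClosed_range_of_repWith_isClosedImmersion X.property
      i.hom h
    rwa [hi] at this

end Groth.Agent.S10416
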