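import Groth.Statements.S10418
import Groth.Agent.Lib.Helper54.FiltrAssembly
import Groth.Agent.Lib.Helper54.AffineDescent

set_option autoImplicit false
universe u
open CategoryTheory CategoryTheory.Limits AlgebraicGeometry Topology TopologicalSpace
open AlgSp

namespace Groth.Agent.S10418

/-- Let S be a scheme and X an algebraic space over S which is quasi-compact. There are open subspaces X
= U_1 ⊇ U_2 ⊇ U_3 ⊇ ⋯ such that (1) with T_p = U_p ∖ U_{p+1} (reduced induced subspace structure)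
there is a separated scheme V_p with a surjective etale f_p : V_p ⟶ U_p for which the map f_p⁻¹(T_p)
⟶ T_p is an isomorphism, and (2) every x ∈ |X| admitting a representative given by a quasi-compact
morphism from the spectrum of a field lies in T_p for some p. -/
theorem result {S : Scheme.{u}} (X : AlgSp.Space S)
    (hX : AlgSp.IsQuasiCompactSp X.obj) :
    ∃ (Uo : ℕ → AlgSp.Space S) (j : ∀ p, Uo p ⟶ X) (k : ∀ p, Uo (p + 1) ⟶ Uo p)
      (T : ℕ → AlgSp.Space S) (i : ∀ p, T p ⟶ Uo p),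
      (∀ p, AlgSp.RepWith @IsOpenImmersion (j p).hom) ∧ (∀ p, k p ≫ j p = j (p + 1)) ∧ IsIso (j 1) ∧
      (∀ p, AlgSp.IsRedInduced (Set.range (AlgSp.Points.map (k p).hom))ᶜ (i p).hom) ∧
      (∀ p, 1 ≤ p → ∃ (V : Over S) (f : (AlgSp.yon S).obj V ⟶ (Uo p).obj), V.left.IsSeparated ∧
        AlgSp.RepWith @Etale f ∧ AlgSp.RepWith @Surjective f ∧
        ∀ (P : AlgSp.Sp S) (fst : P ⟶ (T p).obj) (snd : P ⟶ (AlgSp.yon S).obj V),
          IsPullback fst snd (i p).hom f → IsIso fst) ∧
      (∀ x : AlgSp.Points X.obj, (∃ q : AlgSp.FieldPt X.obj, AlgSp.Points.mk q = x ∧ AlgSp.RepWith @QuasiCompact q.toHom) →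
        ∃ p, 1 ≤ p ∧ x ∈ Set.range (AlgSp.Points.map ((i p) ≫ (j p)).hom)) := by
  open Groth.Agent.Lib.Helper54 in
  classical
  obtain ⟨U, a, hUa, hae, has⟩ := Groth.Agent.Lib.Helper54.exists_affine_etale_chart hX
  have hUs : U.left.IsSeparated := inferInstance
  obtain ⟨Uo, j, k, T, i, h1, h2, h3, h4, h5, -, h7⟩ :=
    exists_filtration X (strat hae hUs) (isOpen_strat hae hUs) (strat_succ_subset hae hUs)
      (strat_zero hae hUs has) (fun _ => True) (fun n => by
        obtain ⟨V, f, hsep, hfe, hr, -, hu⟩ := exists_quot_strat X.property hae hUa n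
        exact ⟨V, f, hsep, trivial, hfe, hr, hu⟩)
  refine ⟨Uo, j, k, T, i, h1, h2, h3, h4, ?_, ?_⟩
  · intro p hp
    obtain ⟨V, f, hs, -, hfe, hfs, hiso⟩ := h5 p hp
    exact ⟨V, f, hs, hfe, hfs, hiso⟩
  · intro x hx
    have hex : ∃ N, x ∉ strat hae hUs N := exists_notMem_strat hae hUa x hx
    have hN₀ : x ∉ strat hae hUs (Nat.find hex) := Nat.find_spec hex
    have hpos : Nat.find hex ≠ 0 := by
      intro h0
      rw [h0, strat_zero hae hUs has] at hN₀
      exact hN₀ trivial
    have hmin : x ∈ strat hae hUs (Nat.find hex - 1) := by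
      by_contra h
      exact Nat.find_min hex (by omega : Nat.find hex - 1 < Nat.find hex) h
    refine ⟨Nat.find hex, by omega, ?_⟩
    rw [h7 (Nat.find hex)]
    exact ⟨hmin, hN₀⟩

end Groth.Agent.S10418
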