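import Groth.Statements.S10422
import Mathlib.LinearAlgebra.Matrix.Rank
import Mathlib.LinearAlgebra.TensorProduct.Finiteness
import Mathlib.RingTheory.TensorProduct.Nontrivial
import Mathlib.RingTheory.Nilpotent.Lemmas
import Mathlib.RingTheory.Ideal.Quotient.Basic
-- import your own Groth.Agent.* helpers here

set_option autoImplicit false
universe u
open Topology TopologicalSpace TensorProduct
open AlgSp

namespace Groth.Agent.S10422

/-- A common field extension of finitely many of the fields `K j`, all over `k`. -/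
theorem exists_common_field (k : Type u) [Field k] (K : ℕ → Type u) [∀ n, Field (K n)]
    [∀ n, Algebra k (K n)] (N : ℕ) :
    ∃ (Ω : Type u) (_ : Field Ω) (_ : Algebra k Ω), ∀ j < N, Nonempty (K j →ₐ[k] Ω) := by
  induction N with
  | zero => exact ⟨k, inferInstance, inferInstance, fun j hj => absurd hj (Nat.not_lt_zero j)⟩
  | succ N ih =>
    obtain ⟨Ω, _, _, hΩ⟩ := ih
    have : Nontrivial (Ω ⊗[k] K N) :=
      Algebra.TensorProduct.nontrivial_of_algebraMap_injective_of_isDomain k Ω (K N)
        (algebraMap k Ω).injective (algebraMap k (K N)).injective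
    obtain ⟨m, hm⟩ := Ideal.exists_maximal (Ω ⊗[k] K N)
    let _ : Field ((Ω ⊗[k] K N) ⧸ m) := Ideal.Quotient.field m
    refine ⟨(Ω ⊗[k] K N) ⧸ m, inferInstance, inferInstance, fun j hj => ?_⟩
    rcases Nat.lt_succ_iff_lt_or_eq.mp hj with h | h
    · obtain ⟨g⟩ := hΩ j h
      exact ⟨((Ideal.Quotient.mkₐ k m).comp
        (Algebra.TensorProduct.includeLeft (R := k) (S := k) (A := Ω) (B := K N))).comp g⟩
    · subst h
      exact ⟨(Ideal.Quotient.mkₐ k m).comp
        (Algebra.TensorProduct.includeRight (R := k) (A := Ω) (B := K j))⟩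


/-- The ring map `A ⊗ A → K n ⊗[k] K m` of the statement. -/
noncomputable abbrev Phi (A : Type u) [CommRing A] (k : Type u) [Field k] (K : ℕ → Type u)
    [∀ n, Field (K n)] [∀ n, Algebra A (K n)] [∀ n, Algebra k (K n)] (n m : ℕ) :
    A ⊗[ℤ] A →+* K n ⊗[k] K m :=
  (Algebra.TensorProduct.lift
    ((Algebra.TensorProduct.includeLeft (R := k) (S := ℤ) (A := K n) (B := K m)).toRingHom.toIntAlgHom.comp
      (Algebra.ofId A (K n)).toRingHom.toIntAlgHom)
    ((Algebra.TensorProduct.includeRight (R := k) (A := K n) (B := K m)).toRingHom.toIntAlgHom.comp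
      (Algebra.ofId A (K m)).toRingHom.toIntAlgHom)
    (fun _ _ => Commute.all _ _)).toRingHom

theorem Phi_tmul (A : Type u) [CommRing A] (k : Type u) [Field k] (K : ℕ → Type u)
    [∀ n, Field (K n)] [∀ n, Algebra A (K n)] [∀ n, Algebra k (K n)] (n m : ℕ) (a b : A) :
    Phi A k K n m (a ⊗ₜ b) = algebraMap A (K n) a ⊗ₜ[k] algebraMap A (K m) b := by
  simp [Phi, Algebra.TensorProduct.tmul_mul_tmul]

/-- Key algebraic lemma: an element of `A ⊗ A` mapping to `1` under multiplication cannot be
nilpotent in all `K n ⊗[k] K m`, `n ≠ m`. -/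
theorem exists_not_isNilpotent (A : Type u) [CommRing A] (k : Type u) [Field k] (K : ℕ → Type u)
    [∀ n, Field (K n)] [∀ n, Algebra A (K n)] [∀ n, Algebra k (K n)]
    (t : A ⊗[ℤ] A) (ht : Algebra.TensorProduct.lmul' (S := A) ℤ t = 1) :
    ∃ n m : ℕ, n ≠ m ∧ ¬ IsNilpotent (Phi A k K n m t) := by
  classical
  by_contra hcon
  push Not at hcon
  obtain ⟨s, rfl⟩ := TensorProduct.exists_finset t
  obtain ⟨Ω, _, _, hΩ⟩ := exists_common_field k K (s.card + 1)
  let g : ∀ j : Fin (s.card + 1), K j →ₐ[k] Ω := fun j => (hΩ j.1 j.2).some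
  -- the two rectangular matrices
  let P : Matrix (Fin (s.card + 1)) s Ω := fun j i => g j (algebraMap A (K j) i.1.1)
  let Q : Matrix s (Fin (s.card + 1)) Ω := fun i l => g l (algebraMap A (K l) i.1.2)
  have hPQ : P * Q = 1 := by
    ext j l
    rw [Matrix.mul_apply]
    by_cases hjl : j = l
    · subst hjl
      rw [Matrix.one_apply_eq]
      have h1 : (∑ i : s, P j i * Q i j) =
          g j (algebraMap A (K j) (Algebra.TensorProduct.lmul' (S := A) ℤ
            (∑ x ∈ s, x.1 ⊗ₜ[ℤ] x.2))) := by
        rw [map_sum, map_sum, map_sum, ← Finset.sum_coe_sort s]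
        refine Finset.sum_congr rfl fun i _ => ?_
        simp [P, Q]
      rw [h1, ht, map_one, map_one]
    · rw [Matrix.one_apply_ne hjl]
      have hne : (j : ℕ) ≠ (l : ℕ) := fun h => hjl (Fin.ext h)
      have hnil := hcon j l hne
      have h2 : (∑ i : s, P j i * Q i l) =
          Algebra.TensorProduct.productMap (g j) (g l) (Phi A k K j l (∑ x ∈ s, x.1 ⊗ₜ[ℤ] x.2)) := by
        rw [map_sum, map_sum, ← Finset.sum_coe_sort s]
        refine Finset.sum_congr rfl fun i _ => ?_
        rw [Phi_tmul, Algebra.TensorProduct.productMap_apply_tmul]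
      rw [h2]
      exact (hnil.map (Algebra.TensorProduct.productMap (g j) (g l))).eq_zero
  have hr1 : (P * Q).rank ≤ s.card := by
    refine (Matrix.rank_mul_le_left P Q).trans ?_
    refine (Matrix.rank_le_card_width P).trans ?_
    simp
  rw [hPQ, Matrix.rank_one] at hr1
  simp at hr1

/-- Let A be a ring, k a field, (p_n) a sequence of primes of A which are pairwise distinct, and k →
κ(p_n) field embeddings. Then the closure in Spec(A ⊗ A) of the image of ∐_{n ≠ m} Spec(κ(p_n) ⊗_k
κ(p_m)) meets the diagonal. Here κ(p_n) is any A-algebra K_n which is a field whose structure map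
has kernel p_n and whose elements are quotients of images of elements of A. -/
theorem result (A : Type u) [CommRing A] (k : Type u) [Field k]
    (p : ℕ → PrimeSpectrum A) (hp : Function.Injective p) (K : ℕ → Type u) [∀ n, Field (K n)]
    [∀ n, Algebra A (K n)] [∀ n, Algebra k (K n)]
    (hker : ∀ n, RingHom.ker (algebraMap A (K n)) = (p n).asIdeal)
    (hfrac : ∀ n (x : K n), ∃ a b : A, algebraMap A (K n) b ≠ 0 ∧ x * algebraMap A (K n) b = algebraMap A (K n) a) :
    (closure (⋃ (n : ℕ) (m : ℕ) (_ : n ≠ m),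
        Set.range (PrimeSpectrum.comap
          (Algebra.TensorProduct.lift
            ((Algebra.TensorProduct.includeLeft (R := k) (S := ℤ) (A := K n) (B := K m)).toRingHom.toIntAlgHom.comp
              (Algebra.ofId A (K n)).toRingHom.toIntAlgHom)
            ((Algebra.TensorProduct.includeRight (R := k) (A := K n) (B := K m)).toRingHom.toIntAlgHom.comp
              (Algebra.ofId A (K m)).toRingHom.toIntAlgHom)
            (fun _ _ => Commute.all _ _)).toRingHom)) ∩
      Set.range (PrimeSpectrum.comap (Algebra.TensorProduct.lmul' (S := A) ℤ).toRingHom)).Nonempty := by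
  classical
  -- notation
  set U : Set (PrimeSpectrum (A ⊗[ℤ] A)) := ⋃ (n : ℕ) (m : ℕ) (_ : n ≠ m),
        Set.range (PrimeSpectrum.comap (Phi A k K n m)) with hU
  have hsurj : Function.Surjective (Algebra.TensorProduct.lmul' (S := A) ℤ).toRingHom := by
    intro a
    exact ⟨a ⊗ₜ 1, by simp⟩
  change (closure U ∩ _).Nonempty
  rw [← PrimeSpectrum.zeroLocus_vanishingIdeal_eq_closure,
    range_comap_of_surjective _ _ hsurj, ← PrimeSpectrum.zeroLocus_sup,
    Set.nonempty_iff_ne_empty, Ne, PrimeSpectrum.zeroLocus_empty_iff_eq_top]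
  intro htop
  have h1 : (1 : A ⊗[ℤ] A) ∈ PrimeSpectrum.vanishingIdeal U ⊔
      RingHom.ker (Algebra.TensorProduct.lmul' (S := A) ℤ).toRingHom := by
    rw [htop]; exact Submodule.mem_top
  obtain ⟨t, ht, j, hj, htj⟩ := Submodule.mem_sup.mp h1
  have hj' : Algebra.TensorProduct.lmul' (S := A) ℤ j = 0 := hj
  have ht1 : Algebra.TensorProduct.lmul' (S := A) ℤ t = 1 := by
    have := congrArg (Algebra.TensorProduct.lmul' (S := A) ℤ) htj
    rw [map_add, hj', add_zero, map_one] at this
    exact this
  obtain ⟨n, m, hnm, hnil⟩ := exists_not_isNilpotent A k K t ht1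
  rw [nilpotent_iff_mem_prime] at hnil
  push Not at hnil
  obtain ⟨P, hP, hPt⟩ := hnil
  apply hPt
  have hmem : PrimeSpectrum.comap (Phi A k K n m) ⟨P, hP⟩ ∈ U := by
    rw [hU]
    simp only [Set.mem_iUnion]
    exact ⟨n, m, hnm, ⟨P, hP⟩, rfl⟩
  have := (PrimeSpectrum.mem_vanishingIdeal U t).mp ht _ hmem
  exact this


end Groth.Agent.S10422
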