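import Groth.Statements.S10427
import Groth.Agent.Lib.Helper54.UnivBdd

set_option autoImplicit false
universe u
open CategoryTheory CategoryTheory.Limits AlgebraicGeometry Topology TopologicalSpace
open AlgSp

namespace Groth.Agent.S10427

/-- Let X be an algebraic space over a scheme S and U ⟶ V ⟶ X with U, V schemes, U ⟶ V surjective and
flat. If U ⟶ X has universally bounded fibres, then so does V ⟶ X. -/
theorem result {S : Scheme.{u}} (X : AlgSp.Space S) {U V : Over S} (f : U ⟶ V)
    [Surjective f.left] [Flat f.left] (h : (AlgSp.yon S).obj V ⟶ X.obj) (hg : W4dec.HasUnivBddFibres ((AlgSp.yon S).map f ≫ h)) :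
    W4dec.HasUnivBddFibres h := by
  obtain ⟨n, hn⟩ := hg
  refine ⟨n, ?_⟩
  intro q T c snd sq
  have hrep := AlgSp.representable_yon_map (S := S) f
  have sq' := hrep.isPullback snd
  have big : IsPullback ((AlgSp.yon S).map (hrep.snd snd ≫ c)) (hrep.fst snd) q.toHom
      ((AlgSp.yon S).map f ≫ h) := by
    rw [Functor.map_comp]
    exact (sq'.paste_vert sq.flip).flip
  obtain ⟨hfin, hrank⟩ := hn q _ (hrep.snd snd ≫ c) (hrep.fst snd) big
  have hs : Surjective (hrep.snd snd).left :=
    ((AlgSp.repWith_yon_map_iff @Surjective f).mpr inferInstance).property snd _ _ sq'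
  have hf : Flat (hrep.snd snd).left :=
    ((AlgSp.repWith_yon_map_iff @Flat f).mpr inferInstance).property snd _ _ sq'
  have hfin' : IsFinite ((hrep.snd snd).left ≫ c.left) := hfin
  exact Groth.Agent.Lib.Helper54.isFinite_of_flat_surjective_comp (K := q.K) (hrep.snd snd).left c.left n hrank

end Groth.Agent.S10427
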