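import Groth.Statements.S10428
import Groth.Agent.Lib.Helper54.Points
import Groth.Agent.Lib.Helper54.FiniteFibre

set_option autoImplicit false
universe u
open CategoryTheory CategoryTheory.Limits AlgebraicGeometry Topology TopologicalSpace
open AlgSp

namespace Groth.Agent.S10428

/-- Let X be an algebraic space over a scheme S and φ : U ⟶ X a morphism from a scheme with universally
bounded fibres. Then for some integer n, every fibre of |U| → |X| contains at most n elements. -/
theorem result {S : Scheme.{u}} (X : AlgSp.Space S) {U : Over S}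
    (φ : (AlgSp.yon S).obj U ⟶ X.obj) (hφ : W4dec.HasUnivBddFibres φ) :
    ∃ n : ℕ, ∀ x : AlgSp.Points X.obj, (AlgSp.Points.ofPt φ ⁻¹' {x}).encard ≤ n := by
  obtain ⟨n, hn⟩ := hφ
  refine ⟨n, fun x => ?_⟩
  obtain ⟨q, rfl⟩ := AlgSp.Points.mk_surjective x
  have hrep : AlgSp.Representable φ := X.property.representable_from_yon φ
  have sq := hrep.isPullback q.toHom
  obtain ⟨fst', hfst'⟩ := (AlgSp.yon S).map_surjective (hrep.fst q.toHom)
  rw [← hfst'] at sq
  obtain ⟨hfin, hrank⟩ := hn q _ (hrep.snd q.toHom) _ sq.flip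
  obtain ⟨hF, hcard⟩ := Groth.Agent.Lib.Helper54.card_le_of_isFinite_of_finrank_le (K := q.K)
    (hrep.snd q.toHom).left n hrank
  have s0 : ↥(Spec (CommRingCat.of q.K)) := IsLocalRing.closedPoint q.K
  have hsub : AlgSp.Points.ofPt φ ⁻¹' {AlgSp.Points.mk q} ⊆ Set.range fst'.left := by
    intro u hu
    have hu' : AlgSp.Points.map q.toHom (AlgSp.Points.ofScheme q.pt s0) = AlgSp.Points.ofPt φ u := by
      rw [← AlgSp.Points.ofPt_eq_map_ofScheme, AlgSp.Points.ofPt_toHom]; exact hu.symm
    obtain ⟨v, -, hv⟩ := Groth.Agent.Lib.Helper54.exists_pt_of_isPullback_yon sq.flip _ u hu'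
    exact ⟨v, hv⟩
  calc (AlgSp.Points.ofPt φ ⁻¹' {AlgSp.Points.mk q}).encard
      ≤ (Set.range fst'.left).encard := Set.encard_le_encard hsub
    _ ≤ ENat.card ↥(hrep.pullback q.toHom).left := by
        rw [← Set.image_univ]
        exact (Set.encard_image_le _ _).trans (by rw [Set.encard_univ])
    _ = (Nat.card ↥(hrep.pullback q.toHom).left : ℕ∞) := by
        rw [ENat.card_eq_coe_natCard]
    _ ≤ n := by exact_mod_cast hcard

end Groth.Agent.S10428
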