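import Groth.Statements.S10444
import Groth.Agent.H52.FibreConds2

set_option autoImplicit false
universe u
open CategoryTheory CategoryTheory.Limits AlgebraicGeometry Topology TopologicalSpace
open AlgSp

namespace Groth.Agent.S10444

/-- Take f : X ⟶ Y locally of finite type between algebraic spaces over a scheme S, a field-valued point
Spec k ⟶ Y whose class y ∈ |Y| lies in the image of |f|, the fibre product X_k = Spec k ×_Y X, and
the fibre F = |f|⁻¹(y) ⊆ |X| with the induced topology. Numbering the conditions (1) F finite, (2) F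
discrete, (3) dim F = 0, (4) |X_k| finite, (5) |X_k| discrete, (6) dim |X_k| = 0, (7) dim X_k = 0,
(8) f quasi-finite at all points over y: (5) ⇔ (7) ⇔ (8); (5) ⇒ (6), with the converse when X_k is
decent; (4) ⇒ (5) when X_k is decent; (4) ⇒ (1); (2) ⇒ (3); if Y is decent then (2) ⇔ (5); if X and
Y are decent then (3) ⇒ (2) and (1) ⇒ (2). (The published statement asserts (5) ⇔ (6) for every f
and (2) ⇔ (3) whenever Y is decent, and does not exclude an empty fibre; for the quotient of the
affine line over a field of characteristic zero by an infinite cyclic group of translations, mapping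
to the point, the space of points is infinite and indiscrete, so (3) and (6) hold while (2) and (5)
fail, and for y outside the image (5) holds while (6) and (7) fail; hence the decency hypotheses on
those two converses and the hypothesis that y is in the image. Finiteness of |X_k| for an arbitrary
field k in the class of y is not derived here from (1).) -/
theorem result {S : Scheme.{u}} {X Y : AlgSp.Space S} (f : X ⟶ Y)
    (hf : AlgSp.LocP @LocallyOfFiniteType f.hom) (r : AlgSp.FieldPt Y.obj)
    (hy : AlgSp.Points.mk r ∈ Set.range (AlgSp.Points.map f.hom)) (Xk : AlgSp.Space S) (fst : Xk ⟶ X)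
    (snd : Xk.obj ⟶ (AlgSp.yon S).obj r.pt) (hsq : IsPullback fst.hom snd f.hom r.toHom) :
    (DiscreteTopology (AlgSp.Points Xk.obj) ↔ AlgSp.dim Xk.obj = 0) ∧
    (AlgSp.dim Xk.obj = 0 ↔
      ∀ x : AlgSp.Points X.obj, AlgSp.Points.map f.hom x = AlgSp.Points.mk r → AlgSp.HasAtMor (fun U _ h u => ∃ W : U.Opens, u ∈ W ∧ LocallyQuasiFinite (W.ι ≫ h) ∧ LocallyOfFiniteType (W.ι ≫ h)) f.hom x) ∧
    (DiscreteTopology (AlgSp.Points Xk.obj) → topologicalKrullDim (AlgSp.Points Xk.obj) = 0) ∧
    (AlgSp.IsDecent Xk.obj → topologicalKrullDim (AlgSp.Points Xk.obj) = 0 →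
      DiscreteTopology (AlgSp.Points Xk.obj)) ∧
    (AlgSp.IsDecent Xk.obj → Finite (AlgSp.Points Xk.obj) → DiscreteTopology (AlgSp.Points Xk.obj)) ∧
    (Finite (AlgSp.Points Xk.obj) → (AlgSp.Points.map f.hom ⁻¹' {AlgSp.Points.mk r}).Finite) ∧
    (DiscreteTopology ↥(AlgSp.Points.map f.hom ⁻¹' {AlgSp.Points.mk r}) → topologicalKrullDim ↥(AlgSp.Points.map f.hom ⁻¹' {AlgSp.Points.mk r}) = 0) ∧
    (AlgSp.IsDecent Y.obj → (DiscreteTopology ↥(AlgSp.Points.map f.hom ⁻¹' {AlgSp.Points.mk r}) ↔ DiscreteTopology (AlgSp.Points Xk.obj))) ∧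
    (AlgSp.IsDecent Y.obj → AlgSp.IsDecent X.obj →
      (topologicalKrullDim ↥(AlgSp.Points.map f.hom ⁻¹' {AlgSp.Points.mk r}) = 0 → DiscreteTopology ↥(AlgSp.Points.map f.hom ⁻¹' {AlgSp.Points.mk r})) ∧
        ((AlgSp.Points.map f.hom ⁻¹' {AlgSp.Points.mk r}).Finite → DiscreteTopology ↥(AlgSp.Points.map f.hom ⁻¹' {AlgSp.Points.mk r}))) := by
  have hX := X.property
  have hY := Y.property
  have hXk := Xk.property
  have hsnd := Groth.Agent.H52.locP_lft_snd_fibre hX hY hf r hsq
  have hrange := Groth.Agent.H52.range_points_map_fst_fibre f.hom r hsq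
  obtain ⟨x0, hx0⟩ := hy
  have hx0' : x0 ∈ Set.range (AlgSp.Points.map fst.hom) := by rw [hrange]; exact hx0
  obtain ⟨w0, hw0⟩ := hx0'
  have hne : Nonempty (AlgSp.Points Xk.obj) := ⟨w0⟩
  have hneF : Nonempty ↥(AlgSp.Points.map f.hom ⁻¹' {AlgSp.Points.mk r}) := ⟨⟨x0, hx0⟩⟩
  have h1 := Groth.Agent.H52.discreteTopology_points_iff_dim_eq_zero hXk snd hsnd
  have h2 := Groth.Agent.H52.discreteTopology_fibre_iff_forall_lqfAt hX hY hXk f.hom hf r hsq
  refine ⟨h1, h1.symm.trans h2, ?_, ?_, ?_, ?_, ?_, ?_, ?_⟩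
  · intro hdisc
    exact Groth.Agent.H52.topologicalKrullDim_eq_zero_of_discreteTopology _
  · intro hd hdim
    have : T0Space (AlgSp.Points Xk.obj) := Groth.Agent.S10338.result Xk hd
    exact Groth.Agent.H52.discreteTopology_points_of_topologicalKrullDim_le_zero hXk snd hsnd
      hdim.le
  · intro hd hfin
    exact Groth.Agent.H52.discreteTopology_points_of_finite_of_isDecent hXk hd snd hsnd
  · intro hfin
    rw [← hrange]
    exact Set.finite_range _
  · intro hdisc
    exact Groth.Agent.H52.topologicalKrullDim_eq_zero_of_discreteTopology _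
  · intro hYd
    obtain ⟨r', hr', hm, hq⟩ := hYd (AlgSp.Points.mk r)
    exact (Groth.Agent.H52.discreteTopology_topFibre_iff_forall_lqfAt hX hY f.hom hf r' hm hq _
      hr').trans h2.symm
  · intro hYd hXd
    obtain ⟨r', hr', hm, hq⟩ := hYd (AlgSp.Points.mk r)
    have : T0Space (AlgSp.Points X.obj) := Groth.Agent.S10338.result X hXd
    exact ⟨fun hdim => Groth.Agent.H52.discreteTopology_topFibre_of_topologicalKrullDim_le_zero
        hX hY f.hom hf r' hm hq _ hr' hdim.le,
      fun hfin => Groth.Agent.H52.discreteTopology_topFibre_of_finite hX hY hXd f.hom hf r' hm hq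
        _ hr' hfin⟩

end Groth.Agent.S10444
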