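import Groth.Statements.S10446
import Groth.Agent.Lib.Helper54.GenericFiniteSp4
import Groth.Agent.S10398

set_option autoImplicit false
universe u
open CategoryTheory CategoryTheory.Limits AlgebraicGeometry Topology TopologicalSpace
open AlgSp

namespace Groth.Agent.S10446

/-- (1) ⇔ (3): let S be a scheme with quasi-separated underlying space, f : X ⟶ Y a quasi-separated
morphism of algebraic spaces over S that is locally of finite type, with Y quasi-separated over S,
and y ∈ |Y| a point of codimension 0. Then |f|⁻¹(y) is finite if and only if f restricts to a finite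
morphism X' ⟶ Y' between an open subspace X' of X containing the whole fibre |f|⁻¹(y) and an open
subspace Y' of Y through y. (The published statement assumes Y quasi-separated in the absolute
sense; this row assumes S has quasi-separated underlying space and Y quasi-separated over S. Its
condition on the finiteness of |Spec k ×_Y X| is not part of this row.) -/
theorem result {S : Scheme.{u}} [QuasiSeparatedSpace ↥S] {X Y : AlgSp.Space S}
    (f : X ⟶ Y) (hqs : AlgSp.IsQuasiSeparatedMor f.hom) (hft : AlgSp.LocP @LocallyOfFiniteType f.hom)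
    (hY : AlgSp.IsQuasiSeparatedSp Y.obj) (y : AlgSp.Points Y.obj)
    (hy : AlgSp.HasAt (fun U u => ringKrullDim ↥(U.presheaf.stalk u) = 0) Y.obj y) :
    (AlgSp.Points.map f.hom ⁻¹' {y}).Finite ↔
      ∃ (X' Y' : AlgSp.Space S) (i : X' ⟶ X) (j : Y' ⟶ Y) (f' : X' ⟶ Y'), AlgSp.RepWith @IsOpenImmersion i.hom ∧
        AlgSp.RepWith @IsOpenImmersion j.hom ∧ f' ≫ j = i ≫ f ∧ y ∈ Set.range (AlgSp.Points.map j.hom) ∧
          AlgSp.Points.map f.hom ⁻¹' {y} ⊆ Set.range (AlgSp.Points.map i.hom) ∧ AlgSp.IsFiniteMor f'.hom := by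
  have hM : (RepWith (S := S) @IsOpenImmersion).IsMultiplicative := repWith_isMultiplicative _
  have : (RepWith (S := S) @IsOpenImmersion).IsStableUnderBaseChange := repWith_isStableUnderBaseChange _
  constructor
  · intro hfib
    have hXqs : IsQuasiSeparatedSp X.obj :=
      Groth.Agent.H52.isQuasiSeparatedSp_of_isQuasiSeparatedMor f.hom hqs hY
    obtain ⟨U₁, a₁, ha₁e, hU₁c, hΦU₁⟩ :=
      Groth.Agent.Lib.Helper54.exists_compact_chart_of_finite X.property _ hfib
    have hX₁ : IsAlgSpace (Sheaf.image a₁) := Groth.Agent.H52.isAlgSpace_image X.property a₁ ha₁e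
    have hj₁ : RepWith @IsOpenImmersion (Sheaf.imageι a₁) :=
      Groth.Agent.H52.repWith_isOpenImmersion_imageι a₁ ha₁e
    have hj₁m : Mono (Sheaf.imageι a₁) := Groth.Agent.Lib.Helper54.mono_of_isOpenImmersion _ hj₁
    have hX₁qc : IsQuasiCompactSp (Sheaf.image a₁) :=
      ⟨U₁, Sheaf.toImage a₁, Groth.Agent.H52.repWith_etale_toImage a₁ ha₁e,
        Groth.Agent.H52.repWith_surjective_toImage a₁ ha₁e, hU₁c⟩
    have hrange₁ : Set.range (Points.map (Sheaf.imageι a₁)) = Set.range (Points.ofPt a₁) :=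
      Groth.Agent.H52.range_points_map_imageι a₁ ha₁e
    have hX₁qs : IsQuasiSeparatedSp (Sheaf.image a₁) :=
      Groth.Agent.H52.isQuasiSeparatedSp_of_isQuasiSeparatedMor (Sheaf.imageι a₁)
        (Groth.Agent.H52.isQuasiSeparatedMor_of_mono _) hXqs
    have hX₁d : IsDecent (Sheaf.image a₁) :=
      Groth.Agent.H53.FieldQuot.isDecent_of_isQuasiSeparatedSp hX₁ hX₁qs
    have hqs₁ : IsQuasiSeparatedMor (Sheaf.imageι a₁ ≫ f.hom) :=
      Groth.Agent.H52.repWith_diagonal_comp @QuasiCompact _ _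
        (Groth.Agent.H52.isQuasiSeparatedMor_of_mono _) hqs
    have hlft₁ : LocP @LocallyOfFiniteType (Sheaf.imageι a₁ ≫ f.hom) :=
      Groth.Agent.H53.locP_comp Groth.Agent.H53.locPCalc_locallyOfFiniteType hX₁ X.property Y.property _ _
        (Groth.Agent.H52.locP_of_repWith _ @LocallyOfFiniteType
          (fun _ _ φ hφ => by have : Etale φ := hφ; infer_instance)
          (Groth.Agent.H53.repWith_of_le (fun _ _ φ hφ => by
            have : IsOpenImmersion φ := hφ
            change LocallyOfFiniteType φ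
            infer_instance) hj₁)) hft
    have hqc₁ : IsQuasiCompactMor (Sheaf.imageι a₁ ≫ f.hom) :=
      Groth.Agent.H52.isQuasiCompactMor_of_isQuasiSeparatedSp hX₁ Y.property _ hX₁qc hY
    have hfib₁ : (Points.map (Sheaf.imageι a₁ ≫ f.hom) ⁻¹' {y}).Finite := by
      refine (hfib.preimage
        (Groth.Agent.Lib.Helper54.injective_points_of_isOpenImmersion _ hj₁).injOn).subset ?_
      intro x₁ hx₁
      change Points.map f.hom (Points.map (Sheaf.imageι a₁) x₁) = y
      rw [← Points.map_comp]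
      exact hx₁
    have hqf₁ : ∀ x₁ : Points (Sheaf.image a₁), Points.map (Sheaf.imageι a₁ ≫ f.hom) x₁ = y →
        HasAtMor (fun U _ h u => ∃ W : U.Opens, u ∈ W ∧ LocallyQuasiFinite (W.ι ≫ h) ∧
          LocallyOfFiniteType (W.ι ≫ h)) (Sheaf.imageι a₁ ≫ f.hom) x₁ :=
      fun x₁ hx₁ => Groth.Agent.Lib.Helper54.hasAtMor_qf_of_finite_fibre hX₁ hX₁d Y.property _ hlft₁ y
        hfib₁ x₁ hx₁
    obtain ⟨Y', X', j, fst, snd, hj, hyj, sq, hfin⟩ :=
      Groth.Agent.S10398.result (X := ⟨Sheaf.image a₁, hX₁⟩) (Y := Y)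
        (ObjectProperty.homMk (Sheaf.imageι a₁ ≫ f.hom)) hqs₁ ⟨hlft₁, hqc₁⟩ y hy hqf₁
    have sq' : IsPullback fst.hom snd.hom j.hom (Sheaf.imageι a₁ ≫ f.hom) := sq
    have hsnd : RepWith @IsOpenImmersion snd.hom := MorphismProperty.of_isPullback sq' hj
    refine ⟨X', Y', snd ≫ (ObjectProperty.homMk (Sheaf.imageι a₁) : (⟨Sheaf.image a₁, hX₁⟩ : AlgSp.Space S) ⟶ X),
      j, fst, (RepWith @IsOpenImmersion).comp_mem _ _ hsnd hj₁, hj, ?_, hyj, ?_, hfin⟩
    · apply ObjectProperty.hom_ext
      change fst.hom ≫ j.hom = (snd.hom ≫ Sheaf.imageι a₁) ≫ f.hom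
      rw [Category.assoc]
      exact sq'.w
    · intro x hx
      obtain ⟨x₁, rfl⟩ : x ∈ Set.range (Points.map (Sheaf.imageι a₁)) := hrange₁ ▸ hΦU₁ hx
      obtain ⟨y', hy'⟩ := hyj
      have hx' : Points.map f.hom (Points.map (Sheaf.imageι a₁) x₁) = y := hx
      obtain ⟨p, -, hp⟩ := Groth.Agent.H52.exists_point_of_isPullback sq' y' x₁ (by
        rw [hy', Points.map_comp, hx'])
      refine ⟨p, ?_⟩
      change Points.map (snd.hom ≫ Sheaf.imageι a₁) p = _
      rw [Points.map_comp, hp]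
  · rintro ⟨X', Y', i, j, f', hi, hj, hcomm, ⟨y', hy'⟩, hsub, hfin⟩
    have hfin' := Groth.Agent.Lib.Helper54.finite_fibre_points_of_isFiniteMor Y'.property f'.hom hfin y'
    refine (hfin'.image (Points.map i.hom)).subset ?_
    intro x hx
    obtain ⟨x', rfl⟩ := hsub hx
    refine ⟨x', ?_, rfl⟩
    apply Groth.Agent.Lib.Helper54.injective_points_of_isOpenImmersion j.hom hj
    have hc : f'.hom ≫ j.hom = i.hom ≫ f.hom := congrArg (fun φ => φ.hom) hcomm
    have hx' : Points.map f.hom (Points.map i.hom x') = y := hx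
    rw [hy', ← Points.map_comp, hc, Points.map_comp, hx']

end Groth.Agent.S10446
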