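import Groth.Statements.S9683
import Mathlib
import Groth.Agent.Lib.Helper22.DimDiscreteFibres
import Groth.Agent.S4716

set_option autoImplicit false
universe u
open CategoryTheory CategoryTheory.Limits AlgebraicGeometry
open Mor

namespace Groth.Agent.S9683

/-- Incomparability for integral morphisms: there are no nontrivial specializations inside a
fibre. -/
theorem eq_of_specializes_of_isIntegralHom {X Y : Scheme.{u}} (f : X ⟶ Y) [IsIntegralHom f]
    (x x' : X) (hs : x ⤳ x') (hf : f x = f x') : x = x' := by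
  obtain ⟨_, ⟨V, hV, rfl⟩, hyV, -⟩ :=
    Y.isBasis_affineOpens.exists_subset_of_mem_open (Set.mem_univ (f x')) isOpen_univ
  have hU : IsAffineOpen (f ⁻¹ᵁ V) := hV.preimage f
  have hx'U : x' ∈ f ⁻¹ᵁ V := hyV
  have hxU : x ∈ f ⁻¹ᵁ V := hs.mem_open (f ⁻¹ᵁ V).isOpen hx'U
  have hint : (f.app V).hom.IsIntegral := IsIntegralHom.isIntegral_app f V hV
  let _ : Algebra Γ(Y, V) Γ(X, f ⁻¹ᵁ V) := (f.app V).hom.toAlgebra
  have : Algebra.IsIntegral Γ(Y, V) Γ(X, f ⁻¹ᵁ V) := ⟨hint⟩
  set q := hU.primeIdealOf ⟨x, hxU⟩ with hq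
  set q' := hU.primeIdealOf ⟨x', hx'U⟩ with hq'
  have hle : q ≤ q' := by
    rw [PrimeSpectrum.le_iff_specializes]
    have h1 : (⟨x, hxU⟩ : ↥(f ⁻¹ᵁ V)) ⤳ ⟨x', hx'U⟩ := (subtype_specializes_iff _ _).mpr hs
    exact h1.map hU.isoSpec.hom.continuous
  have hcomap : q.asIdeal.comap (f.app V).hom = q'.asIdeal.comap (f.app V).hom := by
    have h1 := IsAffineOpen.comap_primeIdealOf_appLE (f := f) V hV (f ⁻¹ᵁ V) hU le_rfl hxU
    have h2 := IsAffineOpen.comap_primeIdealOf_appLE (f := f) V hV (f ⁻¹ᵁ V) hU le_rfl hx'U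
    have h3 : hV.primeIdealOf ⟨f x, hxU⟩ = hV.primeIdealOf ⟨f x', hx'U⟩ := by
      congr 1
      exact Subtype.ext hf
    have h4 := congrArg PrimeSpectrum.asIdeal (h1.trans (h3.trans h2.symm))
    rw [Scheme.Hom.appLE, ] at h4
    simpa using h4
  have heq : q = q' := by
    by_contra hne
    have hlt : q.asIdeal < q'.asIdeal := lt_of_le_of_ne hle (fun h => hne (PrimeSpectrum.ext h))
    have := Ideal.IsIntegral.comap_lt_comap (R := Γ(Y, V)) hlt
    change q.asIdeal.comap (f.app V).hom < q'.asIdeal.comap (f.app V).hom at this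
    rw [hcomap] at this
    exact lt_irrefl _ this
  have h5 := congrArg hU.fromSpec heq
  rw [hq, hq', hU.fromSpec_primeIdealOf, hU.fromSpec_primeIdealOf] at h5
  exact h5

/-- For any integral morphism of schemes f : X ⟶ Y, the dimension of X is at most that of Y, and if f is
surjective then dim X = dim Y (dimensions of the underlying topological spaces). -/
theorem result {X Y : Scheme.{u}} (f : X ⟶ Y) [IsIntegralHom f] :
    topologicalKrullDim ↥X ≤ topologicalKrullDim ↥Y ∧
      (Surjective f → topologicalKrullDim ↥X = topologicalKrullDim ↥Y) := by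
  have h1 : topologicalKrullDim ↥X ≤ topologicalKrullDim ↥Y :=
    Groth.Agent.Lib.Helper22.topologicalKrullDim_le_of_forall_eq_of_specializes f f.continuous
      (eq_of_specializes_of_isIntegralHom f)
  refine ⟨h1, fun hs => le_antisymm h1 ?_⟩
  rw [Groth.Agent.Lib.Helper22.topologicalKrullDim_eq_krullDim_specialization,
    Groth.Agent.Lib.Helper22.topologicalKrullDim_eq_krullDim_specialization]
  have hg : SpecializingMap f := f.isClosedMap.specializingMap
  let := specializationOrder ↥X
  let := specializationOrder ↥Y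
  refine Groth.Agent.S4716.krullDim_le_of_lifting f (fun a b hab => ?_)
    f.continuous.specialization_monotone hs.surj
  obtain ⟨a', ha', hfa'⟩ := hg hab
  exact ⟨a', ha', hfa'⟩

end Groth.Agent.S9683
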