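import Groth.Statements.S10448
import Groth.Agent.H52.DimSp
import Groth.Agent.S9683
open Groth.Agent.H52

set_option autoImplicit false
universe u
open CategoryTheory CategoryTheory.Limits AlgebraicGeometry Topology TopologicalSpace
open AlgSp

namespace Groth.Agent.S10448

/-- For an integral morphism f : X ⟶ Y of algebraic spaces over a scheme S, the dimension of X is at
most the dimension of Y. -/
theorem result {S : Scheme.{u}} {X Y : AlgSp.Space S} (f : X ⟶ Y)
    (hf : AlgSp.IsIntegralMor f.hom) : AlgSp.dim X.obj ≤ AlgSp.dim Y.obj := by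
  obtain ⟨ι, Z, c, hZ, hc, hcov⟩ := exists_affine_etale_cover Y.property
  choose W i fst sq hW hi using fun j => hf (hZ j) (c j)
  have hfst : ∀ j, AlgSp.RepWith @Etale (fst j) := fun j =>
    MorphismProperty.of_isPullback (sq j).flip (hc j)
  refine dim_le_of_etale_cover W fst hfst (fun x => ?_) _ (fun j => ?_)
  · obtain ⟨j, z, hz⟩ := hcov (AlgSp.Points.map f.hom x)
    obtain ⟨p, hp, -⟩ := exists_point_of_isPullback (sq j) x z hz.symm
    exact ⟨j, p, hp⟩
  · have := hi j
    exact ((Groth.Agent.S9683.result (i j).left).1).trans (topologicalKrullDim_le_dim (c j) (hc j))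

end Groth.Agent.S10448
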