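import Groth.Statements.S10449
import Groth.Agent.H52.DimSp
import Groth.Agent.S9683
open Groth.Agent.H52

set_option autoImplicit false
universe u
open CategoryTheory CategoryTheory.Limits AlgebraicGeometry Topology TopologicalSpace
open AlgSp

namespace Groth.Agent.S10449

/-- For an integral surjective morphism f : X ⟶ Y of algebraic spaces over a scheme S, the dimension of
Y is at most the dimension of X (together with the inequality dim X ≤ dim Y, which holds for every
integral morphism, the two dimensions are equal). -/
theorem result {S : Scheme.{u}} {X Y : AlgSp.Space S} (f : X ⟶ Y)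
    (hf : AlgSp.IsIntegralMor f.hom) (hs : AlgSp.IsSurjectiveMor f.hom) :
    AlgSp.dim Y.obj ≤ AlgSp.dim X.obj := by
  unfold AlgSp.dim
  refine iSup_le fun V => iSup_le fun b => iSup_le fun hb => ?_
  refine (topologicalKrullDim_le_iSup_affineOpens V.left).trans (iSup_le fun O => ?_)
  have hbO : AlgSp.RepWith @Etale ((AlgSp.yon S).map (overOpenι V O.1) ≫ b) :=
    (AlgSp.RepWith (S := S) @Etale).comp_mem _ _ (repWith_etale_overOpenι V O.1) hb
  obtain ⟨W, i, fst, sq, -, hi⟩ := hf (Z := overOpen V O.1) O.2
    ((AlgSp.yon S).map (overOpenι V O.1) ≫ b)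
  have hfst : AlgSp.RepWith @Etale fst := MorphismProperty.of_isPullback sq.flip hbO
  have hsurj : Surjective i.left := ⟨surjective_left_of_isPullback_of_surjective_points sq hs⟩
  have h1 := (Groth.Agent.S9683.result i.left).2 hsurj
  change topologicalKrullDim ↥(overOpen V O.1).left ≤ _
  rw [← h1]
  exact topologicalKrullDim_le_dim fst hfst

end Groth.Agent.S10449
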