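import Groth.Statements.S10452
import Groth.Agent.Lib.Helper54.QSepSchematic
import Groth.Agent.S10343

set_option autoImplicit false
universe u
open CategoryTheory CategoryTheory.Limits AlgebraicGeometry Topology TopologicalSpace
open AlgSp

namespace Groth.Agent.S10452

/-- (2) ⇔ (3): let X be a quasi-separated algebraic space over a quasi-separated scheme S and x a point
of X. Then the local ring of X at x is zero-dimensional exactly when x is the generic point of an
irreducible component of |X|. (The published statement allows any base scheme S and takes X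
quasi-separated in the absolute sense; this row asks S to be quasi-separated and X quasi-separated
over S, which together imply absolute quasi-separatedness.) -/
theorem result {S : Scheme.{u}} [QuasiSeparatedSpace S]
    (X : AlgSp.Space S) (hqs : AlgSp.IsQuasiSeparatedSp X.obj) (x : AlgSp.Points X.obj) :
    AlgSp.HasAt (fun U u => ringKrullDim ↥(U.presheaf.stalk u) = 0) X.obj x ↔
      ∃ Z ∈ irreducibleComponents (AlgSp.Points X.obj), IsGenericPoint x Z := by
  open Groth.Agent.Lib.Helper54 in
  have hM : (RepWith (S := S) @IsOpenImmersion).IsMultiplicative := repWith_isMultiplicative _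
  have hdec : IsDecent X.obj := Groth.Agent.H53.FieldQuot.isDecent_of_isQuasiSeparatedSp X.property hqs
  obtain ⟨hsober, hT0⟩ := Groth.Agent.H53.SoberSp.quasiSober_t0_of_zariski_locally_qs X
    ⟨PUnit.{u+1}, fun _ => X, fun _ => 𝟙 X, ⟨fun _ => (RepWith (S := S) @IsOpenImmersion).id_mem _,
      fun x => ⟨PUnit.unit, x, by
        change Points.map (𝟙 X.obj) x = x
        rw [Points.map_id]⟩⟩, fun _ => hqs⟩
  constructor
  · rintro ⟨U, a, u, hae, hau, hdim⟩
    refine ⟨closure {x}, ⟨isIrreducible_singleton.closure, fun t ht hle => ?_⟩, isGenericPoint_closure⟩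
    obtain ⟨ξ, hξ⟩ := QuasiSober.sober ht.closure isClosed_closure
    have hxξ : ξ ⤳ x := by
      rw [specializes_iff_mem_closure, hξ.def]
      exact subset_closure (hle (subset_closure rfl))
    obtain ⟨u', hu'u, hu'ξ⟩ := Groth.Agent.S10343.result X x ξ hxξ (hdec ξ) a hae u hau
    have hmax : IsMax u := by
      have h0 : Order.coheight u = 0 := by
        have := hdim
        rw [ringKrullDim_stalk_eq_coheight] at this
        exact_mod_cast this
      exact Order.coheight_eq_zero.1 h0
    have huu' : u ⤳ u' := hmax (show u ≤ u' from hu'u)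
    have heq : u' = u := (hu'u.antisymm huu').eq
    have hξx : ξ = x := by rw [← hu'ξ, heq, hau]
    intro y hy
    have : y ∈ closure ({ξ} : Set (Points X.obj)) := by
      rw [hξ.def]
      exact subset_closure hy
    rwa [hξx] at this
  · rintro ⟨Z, hZ, hxZ⟩
    obtain ⟨U, p, hpe, hps⟩ := X.property.atlas
    obtain ⟨ζ, hζ⟩ := Groth.Agent.H52.surjective_points_of_repWith_surjective p hps x
    obtain ⟨u₀, rfl⟩ := (Points.schemeEquiv U).surjective ζ
    obtain ⟨η, hη, hdim⟩ := exists_dim_zero_generization U.left u₀
    have hspec : Points.ofPt p η ⤳ x := by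
      have := hη.map (Points.continuous_ofPt p)
      rwa [Points.ofPt_eq_map_ofScheme p u₀, show Points.map p (Points.ofScheme U u₀) = x from hζ] at this
    have hsub : Z ⊆ closure ({Points.ofPt p η} : Set (Points X.obj)) := by
      rw [← hxZ.def]
      exact (isClosed_closure.closure_subset_iff).2
        (Set.singleton_subset_iff.2 (specializes_iff_mem_closure.1 hspec))
    have hle := hZ.2 isIrreducible_singleton.closure hsub
    have hmem : Points.ofPt p η ∈ closure ({x} : Set (Points X.obj)) := by
      rw [hxZ.def]
      exact hle (subset_closure rfl)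
    have hx2 : x ⤳ Points.ofPt p η := specializes_iff_mem_closure.2 hmem
    have heq : Points.ofPt p η = x := (hspec.antisymm hx2).eq
    exact ⟨U, p, η, hpe, heq, hdim⟩

end Groth.Agent.S10452
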