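import Groth.Statements.S10458
import Groth.Agent.S10650
import Groth.Agent.S10339
import Groth.Agent.S10381
import Groth.Agent.S10496
import Groth.Agent.S10277
import Groth.Agent.S10276
import Groth.Agent.S10174
import Groth.Agent.H53.Decent2
import Groth.Agent.H52.QC
import Groth.Agent.H52.FibreConds
import Groth.Agent.H53.QSDecentMor
import Groth.Agent.H53.Proper
import Groth.Agent.H53.ProperImage
import Groth.Agent.H52.FibreProd

set_option autoImplicit false
universe u
open CategoryTheory CategoryTheory.Limits AlgebraicGeometry Topology TopologicalSpace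
open AlgSp

namespace Groth.Agent.S10458

/-- Suppose f : X ⟶ Y is a morphism of algebraic spaces over a scheme S that is proper and surjective,
with Y integral. Then there is an integral closed subspace X' of X such that the restriction X' ⟶ Y
is an alteration: proper and dominant with X' integral, and finite over some nonempty open subspace
of Y. -/
theorem result {S : Scheme.{u}} {X Y : AlgSp.Space S} (f : X ⟶ Y)
    (hf : AlgSp.IsProperMor f.hom) (hs : AlgSp.IsSurjectiveMor f.hom) (hY : AlgSp.IsIntegralSp Y.obj) :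
    ∃ (X' : AlgSp.Space S) (i : X' ⟶ X), AlgSp.RepWith @IsClosedImmersion i.hom ∧ AlgSp.IsIntegralSp X'.obj ∧
      AlgSp.IsProperMor (i ≫ f).hom ∧ AlgSp.IsDominantMor (i ≫ f).hom ∧
      ∃ (V : AlgSp.Space S) (j : V ⟶ Y), AlgSp.RepWith @IsOpenImmersion j.hom ∧ Nonempty (AlgSp.Points V.obj) ∧
        ∀ (P : AlgSp.Space S) (fst : P ⟶ V) (snd : P ⟶ X'), IsPullback fst.hom snd.hom j.hom (i ≫ f).hom →
          AlgSp.IsFiniteMor fst.hom := by
  obtain ⟨-, hYd, hYirr⟩ := hY
  have hXa : AlgSp.IsAlgSpace X.obj := X.property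
  have hYa : AlgSp.IsAlgSpace Y.obj := Y.property
  haveI := hYirr
  haveI : QuasiSober (AlgSp.Points Y.obj) := Groth.Agent.S10339.result Y hYd
  -- the generic point of `Y`
  have hηcl : closure ({genericPoint (AlgSp.Points Y.obj)} : Set (AlgSp.Points Y.obj)) =
      Set.univ := genericPoint_closure _
  generalize genericPoint (AlgSp.Points Y.obj) = η at hηcl
  obtain ⟨r', hr', hm, hqc⟩ := hYd η
  have hlft : AlgSp.LocP @LocallyOfFiniteType f.hom := hf.2.1.1
  -- the generic fibre
  have sq := IsPullback.of_hasPullback f.hom r'.toHom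
  have hXη : AlgSp.IsAlgSpace (pullback f.hom r'.toHom) :=
    Groth.Agent.H52.isAlgSpace_of_isPullback sq hXa hYa (AlgSp.IsAlgSpace.yon_obj _)
  have hqs : AlgSp.IsQuasiSeparatedMor f.hom :=
    Groth.Agent.H53.repWith_of_le (fun _ _ φ hφ => by
      haveI : IsClosedImmersion φ := hφ
      infer_instance) hf.1
  have hdm : AlgSp.IsDecentMor f.hom :=
    Groth.Agent.H53.FieldQuot.isDecentMor_of_isQuasiSeparatedMor f hqs
  have hdec : AlgSp.IsDecent (pullback f.hom r'.toHom) := hdm r'.toHom _ _ sq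
  have hXd : AlgSp.IsDecent X.obj := Groth.Agent.S10381.result f hdm hYd
  haveI : T0Space (AlgSp.Points (pullback f.hom r'.toHom)) :=
    Groth.Agent.H53.t0Space_points_of_isDecent hXη hdec
  haveI : CompactSpace ↥r'.pt.left :=
    (inferInstance : CompactSpace ↥(Spec (CommRingCat.of r'.K)))
  haveI : CompactSpace (AlgSp.Points (pullback f.hom r'.toHom)) :=
    (Groth.Agent.S10174.result ⟨pullback f.hom r'.toHom, hXη⟩).1
      (hf.2.1.2 (AlgSp.IsAlgSpace.yon_obj _) (Groth.Agent.H52.isQuasiCompactSp_yon r'.pt)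
        r'.toHom _ _ sq)
  let e := Groth.Agent.H52.fibreHomeo hXa hYa f.hom r' hm hqc sq
  -- a closed point of the generic fibre
  obtain ⟨x₀, hx₀⟩ := hs η
  have hx₀' : x₀ ∈ AlgSp.Points.map f.hom ⁻¹' {AlgSp.Points.mk r'} := by
    rw [hr']; exact hx₀
  obtain ⟨w, -, hwcl⟩ := IsClosed.exists_closed_singleton
    (isClosed_univ (X := AlgSp.Points (pullback f.hom r'.toHom))) ⟨e.symm ⟨x₀, hx₀'⟩, trivial⟩
  have hxmem : (e w : AlgSp.Points X.obj) ∈
      AlgSp.Points.map f.hom ⁻¹' {AlgSp.Points.mk r'} := (e w).2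
  have hxcl : IsClosed ({e w} : Set ↥(AlgSp.Points.map f.hom ⁻¹' {AlgSp.Points.mk r'})) := by
    have := e.isClosedMap _ hwcl
    rwa [Set.image_singleton] at this
  -- the closure of this point, with its integral structure
  obtain ⟨Z, i, hi, hZint, hrange⟩ := Groth.Agent.S10496.result X hXd
    (closure {(e w : AlgSp.Points X.obj)}) isClosed_closure isIrreducible_singleton.closure
  have hiinj : Function.Injective (AlgSp.Points.map i.hom) :=
    Groth.Agent.H53.ProperImage.injective_points_of_repWith_isClosedImmersion i.hom hi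
  have hprop : AlgSp.IsProperMor (i ≫ f).hom :=
    Groth.Agent.S10276.result i f (Groth.Agent.S10277.result i hi) hf
  have hpe : ∀ z, AlgSp.Points.map (i ≫ f).hom z =
      AlgSp.Points.map f.hom (AlgSp.Points.map i.hom z) := fun z => AlgSp.Points.map_comp _ _ z
  obtain ⟨z₀, hz₀⟩ : (e w : AlgSp.Points X.obj) ∈ Set.range (AlgSp.Points.map i.hom) := by
    rw [hrange]; exact subset_closure rfl
  have hz₀η : AlgSp.Points.map (i ≫ f).hom z₀ = η := by
    rw [hpe, hz₀, ← hr']; exact hxmem
  -- the only point of `Z` over the generic point is `z₀`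
  have huniq : ∀ z, AlgSp.Points.map (i ≫ f).hom z = η → z = z₀ := by
    intro z hz
    apply hiinj
    rw [hz₀]
    have hzmem : AlgSp.Points.map i.hom z ∈
        AlgSp.Points.map f.hom ⁻¹' {AlgSp.Points.mk r'} := by
      rw [hr']; rw [hpe] at hz; exact hz
    have hzT : AlgSp.Points.map i.hom z ∈ closure {(e w : AlgSp.Points X.obj)} := by
      rw [← hrange]; exact ⟨z, rfl⟩
    have hcl : (⟨AlgSp.Points.map i.hom z, hzmem⟩ :
        ↥(AlgSp.Points.map f.hom ⁻¹' {AlgSp.Points.mk r'})) ∈ closure {e w} := by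
      rw [closure_subtype, Set.image_singleton]
      exact hzT
    rw [hxcl.closure_eq] at hcl
    exact congrArg Subtype.val hcl
  refine ⟨Z, i, hi, hZint, hprop, ?_, ?_⟩
  · -- dominant
    have hd : Dense ({η} : Set (AlgSp.Points Y.obj)) := dense_iff_closure_eq.2 hηcl
    exact hd.mono (Set.singleton_subset_iff.2 ⟨z₀, hz₀η⟩)
  · -- finite over an open neighbourhood of the generic point
    have hq : ∀ z : AlgSp.Points Z.obj, AlgSp.Points.map (i ≫ f).hom z = η →
        AlgSp.HasAtMor (fun U _ h u => ∃ W : U.Opens, u ∈ W ∧ LocallyQuasiFinite (W.ι ≫ h) ∧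
          LocallyOfFiniteType (W.ι ≫ h)) (i ≫ f).hom z := by
      intro z hz
      have hzmem : z ∈ AlgSp.Points.map (i ≫ f).hom ⁻¹' {η} := hz
      haveI : Subsingleton ↥(AlgSp.Points.map (i ≫ f).hom ⁻¹' {η}) :=
        ⟨fun a b => Subtype.ext ((huniq a.1 a.2).trans (huniq b.1 b.2).symm)⟩
      refine (Groth.Agent.H52.isClosed_and_topFibre_iff_lqfAt Z.property hYa (i ≫ f).hom
        hprop.2.1.1 r' hm hqc η hr' z hzmem).1 ⟨?_, fun x' _ => Subsingleton.elim _ _⟩
      have : ({⟨z, hzmem⟩} : Set ↥(AlgSp.Points.map (i ≫ f).hom ⁻¹' {η})) = Set.univ :=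
        Set.eq_univ_of_forall fun a => Subsingleton.elim _ _
      rw [this]
      exact isClosed_univ
    obtain ⟨V, j, hj, hηV, hfinV⟩ := Groth.Agent.S10650.result (i ≫ f) η hprop hq
    obtain ⟨v, -⟩ := hηV
    exact ⟨V, j, hj, ⟨v⟩, fun P fst snd hsq => hfinV P snd fst hsq.flip⟩

end Groth.Agent.S10458
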