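import Groth.Statements.S10459
import Groth.Agent.S10324
import Groth.Agent.S10343
import Groth.Agent.H53.Decent2
import Groth.Agent.H53.Codim

set_option autoImplicit false
universe u
open CategoryTheory CategoryTheory.Limits AlgebraicGeometry Topology TopologicalSpace
open AlgSp

namespace Groth.Agent.S10459

/-- Let f : X ⟶ Y be a dominant morphism locally of finite type between integral algebraic spaces over a
scheme S, with Y locally Noetherian, and let r be the transcendence degree of the generic point of X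
over its image (the generic point of Y). Then dim X ≤ dim Y + r. -/
theorem result {S : Scheme.{u}} {X Y : AlgSp.Space S} (f : X ⟶ Y)
    (hY : AlgSp.IsLocNoethSp Y.obj) (hXi : AlgSp.IsIntegralSp X.obj) (hYi : AlgSp.IsIntegralSp Y.obj)
    (hd : AlgSp.IsDominantMor f.hom) (hft : AlgSp.LocP @LocallyOfFiniteType f.hom)
    (x : AlgSp.Points X.obj) (hx : IsGenericPoint x (Set.univ : Set (AlgSp.Points X.obj))) (r : ℕ)
    (hr : AlgSp.HasAtMor (fun _ _ h u => Dual3.resTrdeg h u = (r : Cardinal.{u})) f.hom x) :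
    AlgSp.dim X.obj ≤ AlgSp.dim Y.obj + ((r : ℕ∞) : WithBot ℕ∞) := by
  have hX := X.property
  have hXd := hXi.2.1
  haveI := Groth.Agent.H53.t0Space_points_of_isDecent hX hXd
  have key := Groth.Agent.S10324.result f hY hft (r : Cardinal.{u}) ?_
  · simpa using key
  intro ξ hξ s hs
  -- a codimension zero point of an integral space is the generic point
  have hξx : ξ = x := by
    obtain ⟨U, a, u, hae, rfl, hdim⟩ := hξ
    have hs' : x ⤳ AlgSp.Points.ofPt a u := by
      rw [specializes_iff_mem_closure, hx.def]; trivial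
    obtain ⟨u', hu'u, hu'x⟩ := Groth.Agent.S10343.result ⟨X.obj, hX⟩ (AlgSp.Points.ofPt a u) x hs' (hXd x) a hae u rfl
    have : u' = u := (Groth.Agent.H53.stalk_dim_zero_iff U.left u).1 hdim u' hu'u
    rw [← hu'x, this]
  subst hξx
  obtain ⟨U₁, V₁, a₁, b₁, h₁, u₁, ha₁, hb₁, comm₁, hu₁, hQ₁⟩ := hr
  obtain ⟨U₂, V₂, a₂, b₂, h₂, u₂, ha₂, hb₂, comm₂, hu₂, hQ₂⟩ := hs
  have heq := Groth.Agent.H52.isEtaleSquareInvariant_resTrdeg.eq_of_two_charts f.hom a₁ b₁ h₁ ha₁ hb₁ comm₁
    a₂ b₂ h₂ ha₂ hb₂ comm₂ u₁ u₂ (hu₁.trans hu₂.symm)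
  rw [← hQ₂, ← heq, hQ₁]

end Groth.Agent.S10459
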