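import Groth.Statements.S1046
-- import your own Groth.Agent.* helpers here
import Groth.Agent.Lib.Helper32.RDPlusModel
import Groth.Agent.Lib.Helper32.RGammaTri
import Groth.Agent.Lib.Helper32.QCohTri
import Groth.Agent.Lib.Helper32.RpushQCohPlus
import Groth.Agent.Lib.Helper32.AffineDetect

set_option autoImplicit false
universe u
open CategoryTheory CategoryTheory.Limits AlgebraicGeometry
attribute [local instance] HasDerivedCategory.standard
open Perf

namespace Groth.Agent.S1046

open Pretriangulated DerivedCategory Scheme.Modules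
open Groth.Agent.Lib.Helper32.KInjDerived Groth.Agent.Lib.Helper32.RDerCrit
  Groth.Agent.Lib.Helper32.OpenKInj Groth.Agent.Lib.Helper32.MVTriangle
  Groth.Agent.Lib.Helper32.MVOpens Groth.Agent.Lib.Helper32.OpenSupp
  Groth.Agent.Lib.Helper32.RGammaZ Groth.Agent.Lib.Helper32.RGammaTri
  Groth.Agent.Lib.Helper32.QCohTri Groth.Agent.Lib.Helper32.AffineDetect

/-- `D_QCoh` two-out-of-three: first vertex. -/
theorem isQCohD_obj₁ {X : Scheme.{u}} (T : Triangle (DCoh.D X)) (hT : T ∈ distTriang _)
    (h₂ : DCoh.IsQCohD T.obj₂) (h₃ : DCoh.IsQCohD T.obj₃) : DCoh.IsQCohD T.obj₁ := by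
  intro i
  exact isQCoh_of_five_term _ _ _ _ _ _ _
    (HomologySequence.exact₃ T hT (i - 1) i (by omega))
    (HomologySequence.exact₁ T hT (i - 1) i (by omega)) (HomologySequence.exact₂ T hT i)
    (h₂ (i - 1)) (h₃ (i - 1)) (h₂ i) (h₃ i)

/-- Let U ⊆ X be an open subscheme with quasi-compact inclusion and T = X ∖ U. Assuming O_X-modules have
enough injectives (true, not recorded), for every bounded below E ∈ D(O_X) with quasi-coherent
cohomology sheaves, the derived sections with support RΓ_T(E) (right derived functor of F ↦ ker(F →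
j_*(F|_U))) has quasi-coherent cohomology sheaves, all supported on T. -/
theorem result (X : Scheme.{u}) (U : X.Opens) [QuasiCompact U.ι] [EnoughInjectives X.Modules]
    (E : DerivedCategory.Plus X.Modules) (hE : DCoh.IsQCohD E.obj) :
    DCoh.IsQCohD ((DCoh.RgammaZPlus U.ι).obj E).obj ∧
    ∀ i : ℤ, CohB1.support (DCoh.HD ((DCoh.RgammaZPlus U.ι).obj E).obj i) ⊆ (U : Set X)ᶜ := by
  obtain ⟨I, n, hn, hinj, ⟨e0⟩, ⟨e1⟩⟩ :=
    Groth.Agent.Lib.Helper32.RDPlusModel.exists_model (DCoh.gammaZ U.ι) E
  haveI := hn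
  haveI := hinj
  have hI : I.IsKInjective := CochainComplex.isKInjective_of_injective I n
  have hqI : DCoh.IsQCohD (Q.obj I) := isQCohD_of_iso e0 hE
  have hS := gammaSC_shortExact U I hinj
  have hT := DerivedCategory.triangleOfSES_distinguished hS
  haveI : DCoh.HasRpush U.ι :=
    Groth.Agent.Lib.Helper32.OpenSupp.hasRightDerivedFunctor (hasKInjRes (U : Scheme.{u})) _
  obtain ⟨e3⟩ := nonempty_ident U (pushforward U.ι) (T U) (Iso.refl _) I hI (Q.obj I) (Iso.refl _)
  -- restriction is bounded below and quasi-coherent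
  have hr : DCoh.IsQCohD ((DCoh.restrictD U.ι).obj (Q.obj I)) := isQCohD_restrictD U.ι _ hqI
  have hge : ((DCoh.restrictD U.ι).obj (Q.obj I)).IsGE n := by
    have e4 := (restrictFunctor U.ι).mapDerivedCategoryFactors.app I
    haveI : CochainComplex.IsStrictlyGE
        (((restrictFunctor U.ι).mapHomologicalComplex (ComplexShape.up ℤ)).obj I) n :=
      inferInstance
    have h5 : (Q.obj (((restrictFunctor U.ι).mapHomologicalComplex (ComplexShape.up ℤ)).obj I)).IsGE n :=
      inferInstance
    exact @DerivedCategory.TStructure.t.isGE_of_iso _ _ _ _ _ _ _ _ _ e4.symm n h5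
  have h3 : DCoh.IsQCohD (DerivedCategory.triangleOfSES hS).obj₃ :=
    isQCohD_of_iso e3.symm
      (Groth.Agent.Lib.Helper32.RpushQCohPlus.isQCohD_Rpush_of_isGE U.ι _ n hge hr)
  have h1 : DCoh.IsQCohD (DerivedCategory.triangleOfSES hS).obj₁ :=
    isQCohD_obj₁ _ hT hqI h3
  constructor
  · exact isQCohD_of_iso e1.symm h1
  · -- support
    have h0 : IsZero (((restrictFunctor U.ι).mapHomologicalComplex (ComplexShape.up ℤ)).obj
        (((DCoh.gammaZ U.ι).mapHomologicalComplex (ComplexShape.up ℤ)).obj I)) := by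
      rw [IsZero.iff_id_eq_zero]
      apply HomologicalComplex.hom_ext
      intro k
      exact (isZero_res_gammaZ U U le_rfl (I.X k)).eq_of_src _ _
    let e2 := (restrictFunctor U.ι).mapDerivedCategoryFactors.app
      (((DCoh.gammaZ U.ι).mapHomologicalComplex (ComplexShape.up ℤ)).obj I)
    have hz : IsZero ((DCoh.restrictD U.ι).obj ((DCoh.RgammaZPlus U.ι).obj E).obj) :=
      IsZero.of_iso (Functor.map_isZero DerivedCategory.Q h0)
        ((DCoh.restrictD U.ι).mapIso e1 ≪≫ e2)
    have hs := isSuppD_of_isZero_restrictD U.ι _ hz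
    intro i
    have := hs i
    rwa [Scheme.Opens.range_ι] at this

end Groth.Agent.S1046
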