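import Groth.Statements.S10465
-- import your own Groth.Agent.* helpers here
import Groth.Agent.H52.DiagSp
import Groth.Agent.H52.Points

set_option autoImplicit false
universe u
open CategoryTheory CategoryTheory.Limits AlgebraicGeometry Topology TopologicalSpace
open AlgSp

namespace Groth.Agent.S10465

/-- For a field extension k'/k and an algebraic space X over k, geometric connectedness of X over k is
equivalent to geometric connectedness of its base change X_{k'} over k' (the base changes of X_{k'}
to extensions K of k' being the base changes X_K of X, geometric connectedness of X_{k'} over k'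
reads: |X_K| is connected for every field K over k'). -/
theorem result (k : Type u) [Field k] (X : AlgSp.Space (Spec (CommRingCat.of k))) (k' : Type u) [Field k'] [Algebra k k'] :
    (∀ (K : Type u) [Field K] [Algebra k K], ConnectedSpace (AlgSp.Points (X.obj ⨯ (AlgSp.yon (Spec (CommRingCat.of k))).obj (Over.mk (Spec.map (CommRingCat.ofHom (algebraMap k K))))))) ↔
      ∀ (K : Type u) [Field K] [Algebra k K] [Algebra k' K] [IsScalarTower k k' K],
        ConnectedSpace (AlgSp.Points (X.obj ⨯ (AlgSp.yon (Spec (CommRingCat.of k))).obj (Over.mk (Spec.map (CommRingCat.ofHom (algebraMap k K)))))) := by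
  constructor
  · intro h K _ _ _ _
    exact h K
  · intro h K _ _
    obtain ⟨Ω, _, i₁, i₂, hi⟩ :=
      AlgSp.FieldPt.exists_amalgamation (algebraMap k K) (algebraMap k k')
    let _ : Algebra k' Ω := i₂.toAlgebra
    let _ : Algebra k Ω := (i₂.comp (algebraMap k k')).toAlgebra
    have : IsScalarTower k k' Ω := IsScalarTower.of_algebraMap_eq (fun x => rfl)
    have hΩ := h Ω
    let φ : Over.mk (Spec.map (CommRingCat.ofHom (algebraMap k Ω))) ⟶
        Over.mk (Spec.map (CommRingCat.ofHom (algebraMap k K))) :=
      Over.homMk (Spec.map (CommRingCat.ofHom i₁)) (by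
        change Spec.map _ ≫ Spec.map _ = Spec.map _
        rw [← Spec.map_comp, ← CommRingCat.ofHom_comp, hi])
    have sq := Groth.Agent.H52.isPullback_prod_snd_with_id
      ((AlgSp.yon (Spec (CommRingCat.of k))).map φ) X.obj
    refine Function.Surjective.connectedSpace
      (f := AlgSp.Points.map (prod.map (𝟙 X.obj) ((AlgSp.yon (Spec (CommRingCat.of k))).map φ)))
      ?_ (AlgSp.Points.continuous_map _)
    intro z
    have hsub : Subsingleton (AlgSp.Points ((AlgSp.yon (Spec (CommRingCat.of k))).obj
        (Over.mk (Spec.map (CommRingCat.ofHom (algebraMap k K)))))) := by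
      have : Subsingleton ↥(Over.mk (Spec.map (CommRingCat.ofHom (algebraMap k K)))).left :=
        inferInstanceAs (Subsingleton (PrimeSpectrum K))
      exact (AlgSp.Points.schemeEquiv _).symm.injective.subsingleton
    obtain ⟨w, -, hw⟩ := Groth.Agent.H52.exists_point_of_isPullback sq
      (AlgSp.Points.ofScheme (Over.mk (Spec.map (CommRingCat.ofHom (algebraMap k Ω))))
        (IsLocalRing.closedPoint Ω)) z (Subsingleton.elim _ _)
    exact ⟨w, hw⟩

end Groth.Agent.S10465
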