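import Groth.Statements.S10468
import Groth.Agent.Lib.Helper78.GeomConn4

set_option autoImplicit false
universe u
open CategoryTheory CategoryTheory.Limits AlgebraicGeometry Topology TopologicalSpace
open AlgSp

namespace Groth.Agent.S10468

/-- Let k be a field with separable algebraic closure k̄ and X an algebraic space over k. Then X is
geometrically connected if and only if X_{k̄} is connected. -/
theorem result (k : Type u) [Field k] (X : AlgSp.Space (Spec (CommRingCat.of k)))
    (kbar : Type u) [Field kbar] [Algebra k kbar] [IsSepClosure k kbar] :
    (∀ (K : Type u) [Field K] [Algebra k K], ConnectedSpace (AlgSp.Points (X.obj ⨯ (AlgSp.yon (Spec (CommRingCat.of k))).obj (Over.mk (Spec.map (CommRingCat.ofHom (algebraMap k K))))))) ↔ ConnectedSpace (AlgSp.Points (X.obj ⨯ (AlgSp.yon (Spec (CommRingCat.of k))).obj (Over.mk (Spec.map (CommRingCat.ofHom (algebraMap k kbar)))))) := by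
  constructor
  · intro H
    exact H kbar
  · intro hc K _ _
    haveI : IsSepClosed kbar := IsSepClosure.sep_closed k
    haveI : Algebra.IsSeparable k kbar := IsSepClosure.separable
    let φ : kbar →ₐ[k] AlgebraicClosure K := IsSepClosed.lift
    haveI hL := Groth.Agent.Lib.Helper78.connectedSpace_bc_of_isSepClosed k X.property kbar
      (AlgebraicClosure K) φ hc
    exact (Groth.Agent.Lib.Helper78.surjective_points_prod_map_field k K (AlgebraicClosure K)
      (Groth.Agent.Lib.Helper78.overOfAlgHom k
        (IsScalarTower.toAlgHom k K (AlgebraicClosure K)))).connectedSpace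
      (AlgSp.Points.continuous_map _)

end Groth.Agent.S10468
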