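import Groth.Statements.S10469
import Groth.Agent.Lib.Helper78.GalSp3
import Groth.Agent.S10468

set_option autoImplicit false
universe u
open CategoryTheory CategoryTheory.Limits AlgebraicGeometry Topology TopologicalSpace
open AlgSp

namespace Groth.Agent.S10469

open Groth.Agent.Lib.Helper78 Groth.Agent.Lib.Helper78.GalSp in
/-- If `X_{k'}` is connected for every finite separable `k'/k`, then `X_K` is connected for every
Galois extension `K/k`. -/
theorem connectedSpace_galois_of_finite_separable (k : Type u) [Field k]
    (X : AlgSp.Sp (Spec (CommRingCat.of k))) (hX : AlgSp.IsAlgSpace X)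
    (H : ∀ (k' : Type u) [Field k'] [Algebra k k'], Module.Finite k k' → Algebra.IsSeparable k k' →
      ConnectedSpace (AlgSp.Points (X ⨯ (AlgSp.yon (Spec (CommRingCat.of k))).obj
        (Over.mk (Spec.map (CommRingCat.ofHom (algebraMap k k')))))))
    (K : Type u) [Field K] [Algebra k K] [IsGalois k K] :
    ConnectedSpace (AlgSp.Points (X ⨯ (AlgSp.yon (Spec (CommRingCat.of k))).obj
      (Over.mk (Spec.map (CommRingCat.ofHom (algebraMap k K)))))) := by
  have hk : ConnectedSpace (AlgSp.Points (X ⨯ (AlgSp.yon (Spec (CommRingCat.of k))).obj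
      (Over.mk (Spec.map (CommRingCat.ofHom (algebraMap k k)))))) := H k inferInstance inferInstance
  have hne : Nonempty (AlgSp.Points (X ⨯ (AlgSp.yon (Spec (CommRingCat.of k))).obj
      (Over.mk (Spec.map (CommRingCat.ofHom (algebraMap k K)))))) := by
    obtain ⟨x⟩ := hk.toNonempty
    obtain ⟨y, -⟩ := surjective_points_prod_map_field (X := X) k k K (towerOver k k K) x
    exact ⟨y⟩
  have hpre : PreconnectedSpace (AlgSp.Points (X ⨯ (AlgSp.yon (Spec (CommRingCat.of k))).obj
      (Over.mk (Spec.map (CommRingCat.ofHom (algebraMap k K)))))) := by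
    rw [preconnectedSpace_iff_clopen]
    intro A hA
    by_cases hAe : A = ∅
    · exact Or.inl hAe
    right
    obtain ⟨p₀, hp₀⟩ := Set.nonempty_iff_ne_empty.mpr hAe
    obtain ⟨E, U, hE, hU, hpU, hUA, hst⟩ :=
      base_exists_isClopen_stable k K X hX A hA p₀ hp₀
    haveI := hE
    have hsat := intermediate_preimage_image_eq k K E X hX U hst
    have hq := isQuotientMap_towerMap k (↥E) K X hX
    have hcl : IsClopen (AlgSp.Points.map (towerMap k (↥E) K X) '' U) := by
      constructor
      · rw [← hq.isClosed_preimage, hsat]; exact hU.1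
      · rw [← hq.isOpen_preimage, hsat]; exact hU.2
    haveI : Algebra.IsSeparable k K := IsGalois.to_isSeparable
    haveI : ConnectedSpace (AlgSp.Points (X ⨯ (AlgSp.yon (Spec (CommRingCat.of k))).obj
        (Over.mk (Spec.map (CommRingCat.ofHom (algebraMap k (↥E))))))) :=
      H (↥E) inferInstance inferInstance
    rcases isClopen_iff.mp hcl with h0 | h1
    · exfalso
      have hmem : AlgSp.Points.map (towerMap k (↥E) K X) p₀ ∈
          AlgSp.Points.map (towerMap k (↥E) K X) '' U := ⟨p₀, hpU, rfl⟩
      rw [h0] at hmem
      exact hmem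
    · have hUu : U = Set.univ := by rw [← hsat, h1, Set.preimage_univ]
      apply Set.eq_univ_of_univ_subset
      rw [← hUu]
      exact hUA
  exact { toPreconnectedSpace := hpre, toNonempty := hne }

/-- Let k be a field and X an algebraic space over k. Then X is geometrically connected if and only if
X_{k'} is connected for every finite separable field extension k' of k. -/
theorem result (k : Type u) [Field k] (X : AlgSp.Space (Spec (CommRingCat.of k))) :
    (∀ (K : Type u) [Field K] [Algebra k K], ConnectedSpace (AlgSp.Points (X.obj ⨯ (AlgSp.yon (Spec (CommRingCat.of k))).obj (Over.mk (Spec.map (CommRingCat.ofHom (algebraMap k K))))))) ↔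
      ∀ (k' : Type u) [Field k'] [Algebra k k'], Module.Finite k k' → Algebra.IsSeparable k k' →
        ConnectedSpace (AlgSp.Points (X.obj ⨯ (AlgSp.yon (Spec (CommRingCat.of k))).obj (Over.mk (Spec.map (CommRingCat.ofHom (algebraMap k k')))))) := by
  constructor
  · intro H k' _ _ _ _
    exact H k'
  · intro H
    exact (Groth.Agent.S10468.result k X (SeparableClosure k)).mpr
      (connectedSpace_galois_of_finite_separable k X.obj X.property H (SeparableClosure k))

end Groth.Agent.S10469
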