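import Groth.Statements.S1047
import Groth.Agent.Lib.Helper35.NCResolB
import Groth.Agent.Lib.Helper6.ExactDC
import Groth.Agent.Lib.Helper6.MPC4
import Groth.Agent.S7017

set_option autoImplicit false
universe u
open CategoryTheory CategoryTheory.Limits
attribute [local instance] HasDerivedCategory.standard
open Perf

namespace Groth.Agent.S1047

open Groth.Agent.Lib.Helper35.NCResol Groth.Agent.Lib.Helper6 DerivedCategory Pretriangulated

section

variable (A : Type u) [CommRing A] (R : Type u) [Ring R] [Algebra A R]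

/-- restriction of scalars to `A`. -/
noncomputable abbrev Φ : ModuleCat.{u} R ⥤ ModuleCat.{u} A :=
  ModuleCat.restrictScalars.{u} (algebraMap A R)

/-- finite free `R`-modules. -/
def FinFree (M : ModuleCat.{u} R) : Prop := Module.Finite R M ∧ Module.Free R M

lemma classHyp_finFree : ClassHyp (FinFree R) where
  proj M h := by
    have := h.2
    exact Module.Projective.of_free
  zero M h := by
    have := ModuleCat.subsingleton_of_isZero h
    exact ⟨inferInstance, inferInstance⟩
  iso e h := by
    have := h.1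
    have := h.2
    exact ⟨Module.Finite.equiv e.toLinearEquiv, Module.Free.of_equiv e.toLinearEquiv⟩
  prod M N hM hN := by
    have := hM.1
    have := hM.2
    have := hN.1
    have := hN.2
    exact ⟨inferInstanceAs (Module.Finite R (M × N)), inferInstanceAs (Module.Free R (M × N))⟩

/-- the restriction of `Fin n → R` is the `A`-module `Fin n → R`. -/
noncomputable def piRestrEquiv (n : ℕ) :
    ((Φ A R).obj (ModuleCat.of R (Fin n → R))) ≃ₗ[A] (Fin n → R) where
  toFun := fun x => x
  invFun := fun x => x
  map_add' := fun _ _ => rfl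
  map_smul' := fun a x => by
    funext i
    change ((algebraMap A R a) • (show Fin n → R from x)) i = (a • (show Fin n → R from x)) i
    rw [Pi.smul_apply, Pi.smul_apply, Algebra.smul_def, smul_eq_mul]
  left_inv := fun _ => rfl
  right_inv := fun _ => rfl

variable [Module.Finite A R] [Module.Free A R]

lemma finFree_restr (N : ModuleCat.{u} R) (h : FinFree R N) :
    Module.Finite A ((Φ A R).obj N) ∧ Module.Free A ((Φ A R).obj N) := by
  have := h.1
  have := h.2
  obtain ⟨n, ⟨e⟩⟩ : ∃ n : ℕ, Nonempty (N ≃ₗ[R] (Fin n → R)) := by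
    let b := Module.Free.chooseBasis R N
    haveI : Fintype (Module.Free.ChooseBasisIndex R N) := Module.Free.ChooseBasisIndex.fintype R N
    let n := Fintype.card (Module.Free.ChooseBasisIndex R N)
    let e1 := b.equivFun
    let e2 : (Module.Free.ChooseBasisIndex R N → R) ≃ₗ[R] (Fin n → R) :=
      LinearEquiv.funCongrLeft R R (Fintype.equivFin (Module.Free.ChooseBasisIndex R N)).symm
    exact ⟨n, ⟨e1.trans e2⟩⟩
  let e' : (Φ A R).obj N ≃ₗ[A] (Fin n → R) :=
    ((Φ A R).mapIso (e.toModuleIso : N ≅ ModuleCat.of R (Fin n → R))).toLinearEquiv.trans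
      (piRestrEquiv A R n)
  exact ⟨Module.Finite.equiv e'.symm, Module.Free.of_equiv e'.symm⟩

omit [Module.Finite A R] [Module.Free A R] in
lemma finite_of_finite_restr (N : ModuleCat.{u} R) (h : Module.Finite A ((Φ A R).obj N)) :
    Module.Finite R N := by
  classical
  obtain ⟨s, hs⟩ := h.fg_top
  refine ⟨⟨s.image (fun x => (show N from x)), ?_⟩⟩
  rw [eq_top_iff]
  intro x _
  have hx : (show (Φ A R).obj N from x) ∈ Submodule.span A (s : Set ((Φ A R).obj N)) := by
    rw [hs]; trivial
  have key : ∀ y : (Φ A R).obj N, y ∈ Submodule.span A (s : Set ((Φ A R).obj N)) →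
      (show N from y) ∈
        Submodule.span R ((s.image (fun x => (show N from x)) : Finset N) : Set N) := by
    intro y hy
    induction hy using Submodule.span_induction with
    | mem y hy =>
      apply Submodule.subset_span
      simp only [Finset.coe_image, Set.mem_image, Finset.mem_coe]
      exact ⟨y, hy, rfl⟩
    | zero => exact Submodule.zero_mem _
    | add y z _ _ hy hz => exact Submodule.add_mem _ hy hz
    | smul a y _ hy => exact Submodule.smul_mem _ (algebraMap A R a) hy
  exact key _ hx

variable [PreservesFiniteLimits (Φ A R)] [PreservesFiniteColimits (Φ A R)]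

/-- the restriction functor on derived categories. -/
noncomputable abbrev ρ : DerivedCategory (ModuleCat.{u} R) ⥤ DerivedCategory (ModuleCat.{u} A) :=
  (Φ A R).mapDerivedCategory

lemma isPC'_restr_of_bounded_finFree (E : CochainComplex (ModuleCat.{u} R) ℤ) (b : ℤ)
    (hv : ∀ i : ℤ, b < i → IsZero (E.X i)) (hE : ∀ i, FinFree R (E.X i)) :
    DRing.IsPseudoCoherent' A ((ρ A R).obj (Q.obj E)) := by
  refine ⟨((Φ A R).mapHomologicalComplex (ComplexShape.up ℤ)).obj E, b, ?_, ?_,
    ⟨((Φ A R).mapDerivedCategoryFactors.app E).symm⟩⟩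
  · intro i hi
    exact (Φ A R).map_isZero (hv i hi)
  · intro i
    exact finFree_restr A R (E.X i) (hE i)

omit [Module.Finite A R] [Module.Free A R] in
lemma isLE_of_isLE_restr (M : DerivedCategory (ModuleCat.{u} R)) (b : ℤ)
    [((ρ A R).obj M).IsLE b] : M.IsLE b := by
  rw [DerivedCategory.isLE_iff]
  intro i hi
  have h1 : IsZero ((homologyFunctor (ModuleCat.{u} A) i).obj ((ρ A R).obj M)) :=
    DerivedCategory.isZero_of_isLE _ b i hi
  have h2 : IsZero ((Φ A R).obj ((homologyFunctor (ModuleCat.{u} R) i).obj M)) :=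
    h1.of_iso ((ExactDC.homologyIso (Φ A R) i).app M).symm
  have h3 := ModuleCat.subsingleton_of_isZero h2
  haveI : Subsingleton ((homologyFunctor (ModuleCat.{u} R) i).obj M) := h3
  exact ModuleCat.isZero_of_subsingleton _

lemma coverHyp (K₀ : CochainComplex (ModuleCat.{u} R) ℤ)
    (hK : DRing.IsPseudoCoherent' A ((ρ A R).obj (Q.obj K₀))) : CoverHyp (FinFree R) K₀ := by
  intro E a' b' hv hE a C p q hT t hC
  have h1 : DRing.IsPseudoCoherent' A ((ρ A R).obj (Q.obj E)) :=
    isPC'_restr_of_bounded_finFree A R E b' (fun i hi => hv i (Or.inr hi)) hE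
  have hT' := (ρ A R).map_distinguished _ hT
  have h3 : DRing.IsPseudoCoherent' A ((ρ A R).obj C) :=
    (Groth.Agent.S7017.result A _ hT').1 h1 hK
  haveI : ((ρ A R).obj C).IsLE t := ExactDC.isLE_obj C t
  haveI h4 : Module.Finite A
      (((Φ A R).mapDerivedCategory ⋙ homologyFunctor (ModuleCat.{u} A) t).obj C) :=
    MPC.finite_top ((ρ A R).obj C) t (MPC.isPC_of_isPC' h3 t)
  have h5 : Module.Finite A ((Φ A R).obj ((homologyFunctor (ModuleCat.{u} R) t).obj C)) :=
    Module.Finite.equiv ((ExactDC.homologyIso (Φ A R) t).app C).toLinearEquiv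
  have h6 : Module.Finite R ((homologyFunctor (ModuleCat.{u} R) t).obj C) :=
    finite_of_finite_restr A R _ h5
  obtain ⟨n, f, hf⟩ := Module.Finite.exists_fin' R ((homologyFunctor (ModuleCat.{u} R) t).obj C)
  exact ⟨ModuleCat.of R (Fin n → R), ⟨inferInstanceAs (Module.Finite R (Fin n → R)),
    inferInstanceAs (Module.Free R (Fin n → R))⟩, ModuleCat.ofHom f,
    (ModuleCat.epi_iff_surjective _).2 hf⟩

end


/-- Let A be a commutative ring and R an A-algebra, not necessarily commutative, whose underlying
A-module is finite free. Restriction of scalars being exact (carried as instance hypotheses), if an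
object M of D(R) becomes pseudo-coherent in D(A) after restriction of scalars (isomorphic to a
bounded above complex of finite free A-modules), then M is represented by a bounded above complex of
finite free R-modules. (The source phrases this for right modules; we use left modules, which is the
same statement for the opposite algebra.) -/
theorem result (A : Type u) [CommRing A] (R : Type u) [Ring R] [Algebra A R]
    [Module.Finite A R] [Module.Free A R]
    [PreservesFiniteLimits (ModuleCat.restrictScalars.{u} (algebraMap A R))] [PreservesFiniteColimits (ModuleCat.restrictScalars.{u} (algebraMap A R))]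
    (M : DerivedCategory (ModuleCat.{u} R))
    (hM : DRing.IsPseudoCoherent' A (((ModuleCat.restrictScalars.{u} (algebraMap A R)).mapDerivedCategory).obj M)) :
    ∃ (F : CochainComplex (ModuleCat.{u} R) ℤ) (b : ℤ), (∀ i : ℤ, b < i → IsZero (F.X i)) ∧
      (∀ i : ℤ, Module.Finite R (F.X i) ∧ Module.Free R (F.X i)) ∧ Nonempty (DerivedCategory.Q.obj F ≅ M) := by
  obtain ⟨E₀, b, hb, hE₀, ⟨e₀⟩⟩ := hM
  haveI hLEA : ((ρ A R).obj M).IsLE b := by
    have : E₀.IsStrictlyLE b := by
      rw [CochainComplex.isStrictlyLE_iff]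
      exact hb
    have : (Q.obj E₀).IsLE b := inferInstance
    exact TStructure.t.isLE_of_iso e₀ b
  haveI hLE : M.IsLE b := isLE_of_isLE_restr A R M b
  let K₀ := Q.objPreimage M
  let e : Q.obj K₀ ≅ M := Q.objObjPreimageIso M
  haveI : (Q.obj K₀).IsLE b := TStructure.t.isLE_of_iso e.symm b
  have hK : DRing.IsPseudoCoherent' A ((ρ A R).obj (Q.obj K₀)) :=
    ⟨E₀, b, hb, hE₀, ⟨e₀ ≪≫ (ρ A R).mapIso e.symm⟩⟩
  obtain ⟨E, a, hv, hE, ha⟩ := exists_resolution_cx (b := b) (classHyp_finFree R)
    (coverHyp A R K₀ hK)
  exact ⟨E, b, hv, hE, ⟨asIso (Q.map a) ≪≫ e⟩⟩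

end Groth.Agent.S1047
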