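import Groth.Statements.S10472
import Groth.Agent.Lib.Helper78.GalSp3

set_option autoImplicit false
universe u
open CategoryTheory CategoryTheory.Limits AlgebraicGeometry Topology TopologicalSpace
open AlgSp

namespace Groth.Agent.S10472

/-- Let k be a field, K/k a (possibly infinite) Galois extension, X an algebraic space over k and V a
quasi-compact open of |X_K|. Then there are a finite subextension k' of K/k and a quasi-compact open
V' of |X_{k'}| with V the inverse image of V' in |X_K|. -/
theorem result (k : Type u) [Field k] (X : AlgSp.Space (Spec (CommRingCat.of k))) (K : Type u) [Field K] [Algebra k K]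
    [IsGalois k K] (V : Set (AlgSp.Points (X.obj ⨯ (AlgSp.yon (Spec (CommRingCat.of k))).obj (Over.mk (Spec.map (CommRingCat.ofHom (algebraMap k K))))))) (hV : IsOpen V) (hVc : IsCompact V) :
    ∃ (k' : IntermediateField k K) (_ : FiniteDimensional k k')
      (g : (Over.mk (Spec.map (CommRingCat.ofHom (algebraMap k K))) : Over (Spec (CommRingCat.of k))) ⟶ Over.mk (Spec.map (CommRingCat.ofHom (algebraMap k k')))),
      g.left = Spec.map (CommRingCat.ofHom (algebraMap k' K)) ∧
      ∃ V' : Set (AlgSp.Points (X.obj ⨯ (AlgSp.yon (Spec (CommRingCat.of k))).obj (Over.mk (Spec.map (CommRingCat.ofHom (algebraMap k k')))))), IsOpen V' ∧ IsCompact V' ∧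
        AlgSp.Points.map (Limits.prod.map (𝟙 X.obj) ((AlgSp.yon (Spec (CommRingCat.of k))).map g)) ⁻¹' V' = V := by
  obtain ⟨E, hE, h⟩ := Groth.Agent.Lib.Helper78.GalSp.base_exists_fixing k K X.obj X.property
    V hV hVc
  refine ⟨E, hE, Groth.Agent.Lib.Helper78.GalSp.towerOver k (↥E) K, rfl,
    AlgSp.Points.map (Groth.Agent.Lib.Helper78.GalSp.towerMap k (↥E) K X.obj) '' V, ?_, ?_, ?_⟩
  · exact Groth.Agent.Lib.Helper78.GalSp.isOpenMap_towerMap k (↥E) K X.obj X.property V hV
  · exact hVc.image (AlgSp.Points.continuous_map _)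
  · exact Groth.Agent.Lib.Helper78.GalSp.intermediate_preimage_image_eq k K E X.obj X.property V
      (fun γ hγ => (h γ hγ).le)

end Groth.Agent.S10472
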