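import Groth.Statements.S10481
import Groth.Agent.Lib.Helper54.GeomReducedSp

set_option autoImplicit false
universe u
open CategoryTheory CategoryTheory.Limits AlgebraicGeometry Topology TopologicalSpace
open AlgSp

namespace Groth.Agent.S10481

/-- Let k be a field, f : X ⟶ Y a morphism of algebraic spaces over k and x a point of X at which f is
etale. Then X is geometrically reduced at x if and only if Y is geometrically reduced at the image
of x. -/
theorem result (k : Type u) [Field k] {X Y : AlgSp.Space (Spec (CommRingCat.of k))} (f : X ⟶ Y)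
    (x : AlgSp.Points X.obj)
    (he : AlgSp.HasAtMor (fun U _ h u => ∃ W : U.Opens, u ∈ W ∧ Etale (W.ι ≫ h)) f.hom x) :
    (∃ (U : Over (Spec (CommRingCat.of k))) (a : (AlgSp.yon (Spec (CommRingCat.of k))).obj U ⟶ X.obj) (u : ↥U.left),
      AlgSp.RepWith @Etale a ∧ AlgSp.Points.ofPt a u = x ∧ FBase.IsGeomReducedAt U.hom u) ↔ (∃ (U : Over (Spec (CommRingCat.of k))) (a : (AlgSp.yon (Spec (CommRingCat.of k))).obj U ⟶ Y.obj) (u : ↥U.left),
      AlgSp.RepWith @Etale a ∧ AlgSp.Points.ofPt a u = (AlgSp.Points.map f.hom x) ∧ FBase.IsGeomReducedAt U.hom u) := by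
  obtain ⟨U, V, a, b, h, u, ha, hb, comm, hu, W₀, huW, het⟩ := he
  have hfx : AlgSp.Points.ofPt b (h.left u) = AlgSp.Points.map f.hom x := by
    rw [← hu, AlgSp.Points.map_ofPt, comm, Groth.Agent.Lib.Helper54.ofPt_yon_map_comp]
  have key : FBase.IsGeomReducedAt U.hom u ↔ FBase.IsGeomReducedAt V.hom (h.left u) := by
    have h1 := Groth.Agent.Lib.Helper54.isGeomReducedAt_iff_of_etale W₀.ι U.hom ⟨u, huW⟩
    have h2 := Groth.Agent.Lib.Helper54.isGeomReducedAt_iff_of_etale (W₀.ι ≫ h.left) V.hom ⟨u, huW⟩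
    rw [Category.assoc, Over.w h] at h2
    exact h1.symm.trans h2
  constructor
  · rintro ⟨U', a', u', ha', hu', hred⟩
    refine ⟨V, b, h.left u, hb, hfx, key.mp ?_⟩
    exact Groth.Agent.Lib.Helper54.isGeomReducedAt_transfer a' ha' a ha u' u (hu'.trans hu.symm) hred
  · rintro ⟨V', b', v', hb', hv', hred⟩
    refine ⟨U, a, u, ha, hu, key.mpr ?_⟩
    exact Groth.Agent.Lib.Helper54.isGeomReducedAt_transfer b' hb' b hb v' (h.left u) (hv'.trans hfx.symm) hred

end Groth.Agent.S10481
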