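import Groth.Statements.S1550
import Mathlib
import Groth.Agent.Lib.Helper24.SeparablePoints
import Groth.Agent.Lib.Helper55.ResidueFieldTrdeg

set_option autoImplicit false
universe u
open CategoryTheory CategoryTheory.Limits AlgebraicGeometry
attribute [local instance] Curv2.resAlgebra
open Variety

namespace Groth.Agent.S1550

/-- Every prime of the ring of sections of an affine open comes from a point of that open. -/
theorem exists_mem_primeIdealOf_eq {X : Scheme.{u}} {W : X.Opens} (hW : IsAffineOpen W)
    (q : PrimeSpectrum Γ(X, W)) :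
    ∃ (x : X) (hx : x ∈ W), hW.primeIdealOf ⟨x, hx⟩ = q ∧ hW.fromSpec q = x := by
  have hx : hW.fromSpec q ∈ W := by
    have : hW.fromSpec q ∈ Set.range hW.fromSpec := ⟨q, rfl⟩
    rwa [hW.range_fromSpec] at this
  refine ⟨hW.fromSpec q, hx, ?_, rfl⟩
  apply hW.fromSpec.isOpenEmbedding.injective
  exact hW.fromSpec_primeIdealOf ⟨hW.fromSpec q, hx⟩

/-- If X is smooth over a field k, then the set of closed points of X whose residue field is finite
separable over k is dense in X. -/
theorem result (k : Type u) [Field k] (X : Scheme.{u}) [X.Over (Spec (CommRingCat.of k))] [Smooth (X ↘ (Spec (CommRingCat.of k)))] :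
    Dense {x : X | IsClosed ({x} : Set X) ∧ FiniteDimensional k (X.residueField x) ∧ Algebra.IsSeparable k (X.residueField x)} := by
  open Groth.Agent.Lib.Helper55 Groth.Agent.Lib.Helper24 in
  have hlft : LocallyOfFiniteType (X ↘ Spec (CommRingCat.of k)) := inferInstance
  have hJ : JacobsonSpace X := LocallyOfFiniteType.jacobsonSpace (X ↘ Spec (CommRingCat.of k))
  rw [dense_iff_inter_open]
  intro U hU hUne
  obtain ⟨x0, hx0⟩ := hUne
  obtain ⟨W, hW, hx0W, hWU⟩ :=
    exists_isAffineOpen_mem_and_subset (X := X) (x := x0) (U := ⟨U, hU⟩) hx0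
  let _ : Algebra k Γ(X, W) := (sectionsMap k X W).toAlgebra
  have hsm : Algebra.Smooth k Γ(X, W) := by
    rw [← RingHom.smooth_algebraMap]
    change (sectionsMap k X W).Smooth
    have h1 : ((X ↘ Spec (CommRingCat.of k)).appLE ⊤ W le_top).hom.Smooth :=
      Smooth.smooth_appLE (X ↘ Spec (CommRingCat.of k)) (isAffineOpen_top _) hW le_top
    have h2 : ((Scheme.ΓSpecIso (CommRingCat.of k)).inv.hom).Smooth :=
      RingHom.Smooth.of_bijective
        (ConcreteCategory.bijective_of_isIso (Scheme.ΓSpecIso (CommRingCat.of k)).inv)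
    exact h2.comp h1
  have hnt : Nontrivial Γ(X, W) := by
    have : Nonempty W := ⟨⟨x0, hx0W⟩⟩
    infer_instance
  obtain ⟨q, hq1, hq2⟩ := exists_prime_finite_separable_of_smooth k Γ(X, W)
  obtain ⟨x, hxW, hxq, hfq⟩ := exists_mem_primeIdealOf_eq hW q
  -- the evaluation map to the residue field
  let ev : Γ(X, W) →ₐ[k] X.residueField x :=
    { evalResidue X W x hxW with
      commutes' := fun r => congr($(evalResidue_comp_sectionsMap k X W x hxW) r) }
  have hker : RingHom.ker ev = q.asIdeal := by
    rw [← hxq]
    exact ker_evalResidue X W hW x hxW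
  have hle : q.asIdeal ≤ RingHom.ker ev := hker.ge
  have hunits : q.asIdeal.primeCompl ≤ (IsUnit.submonoid (X.residueField x)).comap ev := by
    intro a ha
    change IsUnit (ev a)
    rw [isUnit_iff_ne_zero]
    intro h0
    apply ha
    rw [← hker]
    exact h0
  let ψ : q.asIdeal.ResidueField →ₐ[k] X.residueField x :=
    Ideal.ResidueField.liftₐ q.asIdeal ev hle hunits
  have hψsurj : Function.Surjective ψ := by
    intro z
    obtain ⟨a, s, hs, hz⟩ := evalResidue_fraction X W hW x hxW z
    refine ⟨algebraMap _ _ a / algebraMap _ _ s, ?_⟩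
    rw [map_div₀, Ideal.ResidueField.liftₐ_algebraMap, Ideal.ResidueField.liftₐ_algebraMap]
    change evalResidue X W x hxW a / evalResidue X W x hxW s = z
    rw [← hz]
    field_simp
  let e : q.asIdeal.ResidueField ≃ₐ[k] X.residueField x :=
    AlgEquiv.ofBijective ψ ⟨ψ.injective, hψsurj⟩
  have hfin : FiniteDimensional k (X.residueField x) :=
    Module.Finite.of_surjective e.toLinearMap e.surjective
  have hsep : Algebra.IsSeparable k (X.residueField x) :=
    Algebra.IsSeparable.of_algHom k q.asIdeal.ResidueField e.symm.toAlgHom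
  -- `x` is a closed point
  have hqmax : q.asIdeal.IsMaximal := by
    have hfin' : Module.Finite k (Γ(X, W) ⧸ q.asIdeal) := by
      have hinj : Function.Injective
          (IsScalarTower.toAlgHom k (Γ(X, W) ⧸ q.asIdeal) q.asIdeal.ResidueField) :=
        FaithfulSMul.algebraMap_injective _ _
      exact Module.Finite.of_injective
        (IsScalarTower.toAlgHom k (Γ(X, W) ⧸ q.asIdeal) q.asIdeal.ResidueField).toLinearMap hinj
    have hint : Algebra.IsIntegral k (Γ(X, W) ⧸ q.asIdeal) := inferInstance
    have hfield : IsField (Γ(X, W) ⧸ q.asIdeal) :=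
      isField_of_isIntegral_of_isField' (Field.toIsField k)
    exact Ideal.Quotient.maximal_of_isField _ hfield
  have hxcl : IsClosed ({x} : Set X) := by
    apply isClosed_singleton_of_isLocallyClosed_singleton
    have h1 : IsClosed ({q} : Set (PrimeSpectrum Γ(X, W))) :=
      (PrimeSpectrum.isClosed_singleton_iff_isMaximal q).mpr hqmax
    have h2 : ({x} : Set X) = hW.fromSpec '' ({q} : Set (Spec Γ(X, W))) := by
      ext y
      constructor
      · intro hy
        exact ⟨q, rfl, hfq.trans (Set.mem_singleton_iff.mp hy).symm⟩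
      · rintro ⟨q', hq', rfl⟩
        have hq'' : q' = q := hq'
        rw [hq'']
        exact hfq
    rw [h2]
    exact IsLocallyClosed.image (IsClosed.isLocallyClosed h1)
      hW.fromSpec.isOpenEmbedding.isInducing
      hW.fromSpec.isOpenEmbedding.isOpen_range.isLocallyClosed
  exact ⟨x, hWU hxW, hxcl, hfin, hsep⟩

end Groth.Agent.S1550
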