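import Groth.Statements.S10490
import Groth.Agent.S1550
import Groth.Agent.Lib.Helper50.FiberBC
import Groth.Agent.H52.QC5
import Groth.Agent.H52.DimLocal2

set_option autoImplicit false
universe u
open CategoryTheory CategoryTheory.Limits AlgebraicGeometry Topology TopologicalSpace
open AlgSp

namespace Groth.Agent.S10490

/-- Let k be a field and X an algebraic space smooth over k. Then the points of X which are images of
morphisms Spec k' ⟶ X over k with k' a finite separable extension of k form a dense subset of |X|. -/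
theorem result (k : Type u) [Field k] (X : AlgSp.Space (Spec (CommRingCat.of k))) (p : X.obj ⟶ (AlgSp.yon (Spec (CommRingCat.of k))).obj (Over.mk (𝟙 _))) (hp : AlgSp.LocP @Smooth p) :
    Dense {x : AlgSp.Points X.obj | ∃ (k' : Type u) (_ : Field k') (_ : Algebra k k'),
      Module.Finite k k' ∧ Algebra.IsSeparable k k' ∧
        ∃ v : X.obj.obj.obj (Opposite.op (Over.mk (Spec.map (CommRingCat.ofHom (algebraMap k k'))))),
          AlgSp.Points.mk ⟨k', Spec.map (CommRingCat.ofHom (algebraMap k k')), v⟩ = x} := by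
  have hX : IsAlgSpace X.obj := X.property
  obtain ⟨U, a, hae, has⟩ := hX.atlas
  let h₀ : U ⟶ Over.mk (𝟙 (Spec (CommRingCat.of k))) := Over.homMk U.hom (by simp)
  have hsm : Smooth U.hom :=
    hp a (𝟙 _) h₀ hae (repWith_id _ _) ((Groth.Agent.H52.yonBaseIsTerminal _).hom_ext _ _)
  letI : U.left.Over (Spec (CommRingCat.of k)) := ⟨U.hom⟩
  have hsm' : Smooth (U.left ↘ Spec (CommRingCat.of k)) := hsm
  have hd := Groth.Agent.S1550.result k U.left
  have hsurj : Function.Surjective (Points.ofPt a) := by
    intro x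
    obtain ⟨q, rfl⟩ := Groth.Agent.H52.surjective_points_of_repWith_surjective a has x
    obtain ⟨u, rfl⟩ := (Points.schemeEquiv U).surjective q
    exact ⟨u, Points.ofPt_eq_map_ofScheme a u⟩
  have hdense := hsurj.denseRange.dense_image (Points.continuous_ofPt a) hd
  refine hdense.mono ?_
  rintro _ ⟨u, ⟨-, hfin, hsep⟩, rfl⟩
  have key : ∀ (q : FieldPt X.obj) (str' : Spec (CommRingCat.of q.K) ⟶ Spec (CommRingCat.of k))
      (_ : q.str = str'), ∃ v : X.obj.obj.obj (Opposite.op (Over.mk str')),
        Points.mk (⟨q.K, str', v⟩ : FieldPt X.obj) = Points.mk q := by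
    intro q str' hstr
    subst hstr
    exact ⟨q.val, rfl⟩
  obtain ⟨v, hv⟩ := key (FieldPt.ofPt a u)
    (Spec.map (CommRingCat.ofHom (Curv2.resMap k U.left u)))
    (Groth.Agent.Lib.Helper50.specMap_resMap_eq k u).symm
  exact ⟨↥(U.left.residueField u), inferInstance, Curv2.resAlgebra k U.left u, hfin, hsep, v, hv⟩

end Groth.Agent.S10490
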