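import Groth.Statements.S10491
import Groth.Agent.Lib.Helper54.IrredNoeth
import Groth.Agent.Lib.Helper54.GeomReducedSp
import Groth.Agent.H53.SpTop

set_option autoImplicit false
universe u
open CategoryTheory CategoryTheory.Limits AlgebraicGeometry Topology TopologicalSpace
open AlgSp

namespace Groth.Agent.S10491

/-- Let X be an algebraic space over a scheme S which is locally Noetherian, and T ⊂ |X| a closed
subset. Then every point of |X| has a neighbourhood meeting only finitely many irreducible
components of T. -/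
theorem result {S : Scheme.{u}} (X : AlgSp.Space S)
    (hX : AlgSp.IsLocNoethSp X.obj) (T : Set (AlgSp.Points X.obj)) (hT : IsClosed T) :
    LocallyFinite (fun Z : ↥(irreducibleComponents ↥T) => ((↑) : ↥T → AlgSp.Points X.obj) '' (Z : Set ↥T)) := by
  refine Groth.Agent.Lib.Helper54.locallyFinite_irreducibleComponents_of_cover (fun x => ?_) T
  obtain ⟨U, p, hpe, hps, hU⟩ := hX
  obtain ⟨u', rfl⟩ := Groth.Agent.H52.surjective_points_of_repWith_surjective p hps x
  obtain ⟨u, rfl⟩ := Groth.Agent.Lib.Helper54.exists_ofScheme_eq U u'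
  rw [← AlgSp.Points.ofPt_eq_map_ofScheme]
  obtain ⟨_, ⟨U₀, hU₀ : IsAffineOpen U₀, rfl⟩, huU₀, -⟩ :=
    U.left.isBasis_affineOpens.exists_subset_of_mem_open (Set.mem_univ u) isOpen_univ
  have : IsLocallyNoetherian U.left := hU
  have : IsNoetherianRing Γ(U.left, U₀) := IsLocallyNoetherian.component_noetherian ⟨U₀, hU₀⟩
  have hN : TopologicalSpace.NoetherianSpace ↥U₀ := noetherianSpace_of_isAffineOpen U₀ hU₀
  refine ⟨↥U₀, inferInstance, hN, fun a => AlgSp.Points.ofPt p a.1,
    (AlgSp.Points.continuous_ofPt p).comp continuous_subtype_val,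
    (Groth.Agent.H53.isOpenMap_ofPt_of_etale p hpe).comp U₀.2.isOpenMap_subtype_val, ⟨⟨u, huU₀⟩, rfl⟩⟩

end Groth.Agent.S10491
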