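import Groth.Statements.S10498
import Groth.Agent.Lib.Helper9.Hens.BaseChangeReduced

set_option autoImplicit false
universe u
open TensorProduct
open Hensel

namespace Groth.Agent.S10498

/-- (1) ⇔ (2): let k be a field, A a local k-algebra and R a strict henselization of A. Then A is
geometrically reduced over k (K ⊗_k A reduced for every field extension K of k) if and only if R is
geometrically reduced over k. -/
theorem result (k : Type u) [Field k]
    (A : Type u) [CommRing A] [IsLocalRing A] [Algebra k A]
    (R : Type u) [CommRing R] [IsLocalRing R] [Algebra A R] [IsLocalHom (algebraMap A R)]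
    [Hensel.IsStrictHenselization A R] [Algebra k R] [IsScalarTower k A R] :
    (∀ (K : Type u) [Field K] [Algebra k K], IsReduced (TensorProduct k K A)) ↔
      ∀ (K : Type u) [Field K] [Algebra k K], IsReduced (TensorProduct k K R) := by
  open Groth.Agent.Lib.Helper9.HensK in
  constructor
  · intro hA K _ _
    -- `A ⊗[k] K` is a flat reduced `A`-algebra
    haveI : IsReduced (K ⊗[k] A) := hA K
    haveI : IsReduced (A ⊗[k] K) :=
      isReduced_of_injective (Algebra.TensorProduct.comm k A K).toRingEquiv
        (Algebra.TensorProduct.comm k A K).injective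
    haveI : IsReduced ((A ⊗[k] K) ⊗[A] StrictHenselization A) :=
      PtColim.isReduced_tensor (A ⊗[k] K)
    let e : R ≃ₐ[A] StrictHenselization A := algEquivStrictHenselization A R
    -- chain of ring isomorphisms
    let e1 : K ⊗[k] R ≃ₐ[k] R ⊗[k] K := Algebra.TensorProduct.comm k K R
    let e2 : R ⊗[A] (A ⊗[k] K) ≃ₐ[A] R ⊗[k] K := Algebra.TensorProduct.cancelBaseChange k A A R K
    let e3 : R ⊗[A] (A ⊗[k] K) ≃ₐ[A] (A ⊗[k] K) ⊗[A] R := Algebra.TensorProduct.comm A R (A ⊗[k] K)
    let e4 : (A ⊗[k] K) ⊗[A] R ≃ₐ[A] (A ⊗[k] K) ⊗[A] StrictHenselization A :=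
      Algebra.TensorProduct.congr AlgEquiv.refl e
    let E : K ⊗[k] R ≃+* (A ⊗[k] K) ⊗[A] StrictHenselization A :=
      e1.toRingEquiv.trans (e2.symm.toRingEquiv.trans (e3.toRingEquiv.trans e4.toRingEquiv))
    exact isReduced_of_injective E E.injective
  · intro hR K _ _
    haveI : IsReduced (K ⊗[k] R) := hR K
    haveI : Module.FaithfullyFlat A R := faithfullyFlat_of_isStrictHenselization A R
    have hinj : Function.Injective (algebraMap A R) := FaithfulSMul.algebraMap_injective A R
    let ψ : K ⊗[k] A →ₐ[k] K ⊗[k] R :=
      Algebra.TensorProduct.map (AlgHom.id k K) (IsScalarTower.toAlgHom k A R)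
    have hψ : Function.Injective ψ := by
      have h1 : Function.Injective ((IsScalarTower.toAlgHom k A R).toLinearMap.lTensor K) :=
        Module.Flat.lTensor_preserves_injective_linearMap _ hinj
      have h2 : ∀ z, ψ z = (IsScalarTower.toAlgHom k A R).toLinearMap.lTensor K z := by
        intro z
        induction z using TensorProduct.induction_on with
        | zero => rw [map_zero, map_zero]
        | tmul a x => rfl
        | add z₁ z₂ h₁ h₂ => rw [map_add, map_add, h₁, h₂]
      intro x y hxy
      apply h1
      rw [← h2, ← h2, hxy]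
    exact isReduced_of_injective ψ hψ

end Groth.Agent.S10498
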