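import Groth.Statements.S10500
import Groth.Agent.Lib.Helper21.IntegralQF
import Groth.Agent.S10650
import Groth.Agent.H52.TwoCharts

set_option autoImplicit false
universe u
open CategoryTheory CategoryTheory.Limits AlgebraicGeometry Topology TopologicalSpace
open AlgSp

namespace Groth.Agent.S10500

/-- Let X and Y be integral algebraic spaces over a scheme S with generic points x and y, and f : X ⟶ Y
a morphism which is proper and dominant. Then f is an alteration (finite over some nonempty open
subspace of Y) if and only if x is the only point of X mapping to y. -/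
theorem result {S : Scheme.{u}} {X Y : AlgSp.Space S}
    (hXi : AlgSp.IsIntegralSp X.obj) (hYi : AlgSp.IsIntegralSp Y.obj) (f : X ⟶ Y) (hp : AlgSp.IsProperMor f.hom)
    (hd : AlgSp.IsDominantMor f.hom)
    (x : AlgSp.Points X.obj) (hx : IsGenericPoint x (Set.univ : Set (AlgSp.Points X.obj)))
    (y : AlgSp.Points Y.obj) (hy : IsGenericPoint y (Set.univ : Set (AlgSp.Points Y.obj))) :
    (∃ (V : AlgSp.Space S) (j : V ⟶ Y), AlgSp.RepWith @IsOpenImmersion j.hom ∧ Nonempty (AlgSp.Points V.obj) ∧
      ∀ (P : AlgSp.Space S) (fst : P ⟶ V) (snd : P ⟶ X), IsPullback fst.hom snd.hom j.hom f.hom →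
        AlgSp.IsFiniteMor fst.hom) ↔ (∀ x' : AlgSp.Points X.obj, AlgSp.Points.map f.hom x' = y → x' = x) := by
  have hft : AlgSp.LocP @LocallyOfFiniteType f.hom := hp.2.1.1
  have hiff := Groth.Agent.Lib.Helper21.IntegralQF.qf_generic_iff X.property hXi.2.1 Y.property hYi.2.1 f.hom hft hd x hx y hy
  constructor
  · rintro ⟨V, j, hj, ⟨v0⟩, Hfin⟩
    rw [← hiff]
    -- the generic point lies in the open subspace
    have hopen : IsOpenMap (AlgSp.Points.map j.hom) :=
      Groth.Agent.H52.isOpenMap_points_of_repWith j.hom @IsOpenImmersion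
        (fun _ _ φ hφ => by have : IsOpenImmersion φ := hφ; exact φ.isOpenEmbedding.isOpenMap) hj
    have hyr : y ∈ Set.range (AlgSp.Points.map j.hom) := by
      rw [hy.mem_open_set_iff hopen.isOpen_range]
      exact ⟨AlgSp.Points.map j.hom v0, trivial, v0, rfl⟩
    obtain ⟨v, hv⟩ := hyr
    have hfx := Groth.Agent.Lib.Helper21.IntegralQF.map_generic_eq Y.property hYi.2.1 f.hom hd x hx y hy
    -- the fibre product
    have sq : IsPullback (pullback.fst j.hom f.hom) (pullback.snd j.hom f.hom) j.hom f.hom :=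
      IsPullback.of_hasPullback _ _
    have hP : AlgSp.IsAlgSpace (pullback j.hom f.hom) :=
      Groth.Agent.H52.isAlgSpace_of_isPullback sq V.property Y.property X.property
    have hfin : AlgSp.IsFiniteMor (pullback.fst j.hom f.hom) :=
      Hfin ⟨pullback j.hom f.hom, hP⟩ (ObjectProperty.homMk (pullback.fst j.hom f.hom))
        (ObjectProperty.homMk (pullback.snd j.hom f.hom)) sq
    have hloc := Groth.Agent.Lib.Helper54.locP_lqf_of_isFiniteMor _ hfin
    obtain ⟨p, hp1, hp2⟩ := Groth.Agent.H52.exists_point_of_isPullback sq v x (by rw [hv, hfx])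
    obtain ⟨U, W, a, b, h, u, ha, hb, comm, hu⟩ :=
      Groth.Agent.H52.exists_diagram_through_point hP V.property (pullback.fst j.hom f.hom) p
    obtain ⟨h1, h2⟩ := hloc a b h ha hb comm
    have hje : AlgSp.RepWith @Etale j.hom := Groth.Agent.H53.repWith_of_le
      (fun _ _ φ hφ => by have : IsOpenImmersion φ := hφ; infer_instance) hj
    have hsnde : AlgSp.RepWith @Etale (pullback.snd j.hom f.hom) :=
      MorphismProperty.of_isPullback sq hje
    have hE : (AlgSp.RepWith (S := S) @Etale).IsMultiplicative := AlgSp.repWith_isMultiplicative _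
    have ha' : AlgSp.RepWith @Etale (a ≫ pullback.snd j.hom f.hom) :=
      (AlgSp.RepWith (S := S) @Etale).comp_mem _ _ ha hsnde
    have hb' : AlgSp.RepWith @Etale (b ≫ j.hom) :=
      (AlgSp.RepWith (S := S) @Etale).comp_mem _ _ hb hje
    have comm' : (a ≫ pullback.snd j.hom f.hom) ≫ f.hom = (AlgSp.yon S).map h ≫ b ≫ j.hom := by
      rw [Category.assoc, ← sq.w, ← Category.assoc, comm, Category.assoc]
    have h1' : LocallyQuasiFinite h.left := h1
    have h2' : LocallyOfFiniteType h.left := h2
    refine ⟨U, W, a ≫ pullback.snd j.hom f.hom, b ≫ j.hom, h, u, ha', hb', comm', ?_, ⊤, trivial,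
      inferInstance, inferInstance⟩
    rw [← hp2, ← hu]
    rfl
  · intro H
    have hq : ∀ x' : AlgSp.Points X.obj, AlgSp.Points.map f.hom x' = y →
        AlgSp.HasAtMor (fun U _ h u => ∃ W : U.Opens, u ∈ W ∧ LocallyQuasiFinite (W.ι ≫ h) ∧ LocallyOfFiniteType (W.ι ≫ h)) f.hom x' := by
      intro x' hx'
      rw [H x' hx']
      exact hiff.2 H
    obtain ⟨V, j, hj, ⟨v, hv⟩, Hfin⟩ := Groth.Agent.S10650.result f y hp hq
    exact ⟨V, j, hj, ⟨v⟩, fun P fst snd sq => Hfin P snd fst sq.flip⟩

end Groth.Agent.S10500
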