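import Groth.Statements.S10501
import Groth.Agent.Lib.Helper78.GeomConn2

set_option autoImplicit false
universe u
open CategoryTheory CategoryTheory.Limits AlgebraicGeometry Topology TopologicalSpace
open AlgSp

namespace Groth.Agent.S10501

/-- Over a separably closed field k, an algebraic space X is geometrically connected if and only if it
is connected. -/
theorem result (k : Type u) [Field k] [IsSepClosed k]
    (X : AlgSp.Space (Spec (CommRingCat.of k))) :
    (∀ (K : Type u) [Field K] [Algebra k K], ConnectedSpace (AlgSp.Points (X.obj ⨯ (AlgSp.yon (Spec (CommRingCat.of k))).obj (Over.mk (Spec.map (CommRingCat.ofHom (algebraMap k K))))))) ↔ ConnectedSpace (AlgSp.Points X.obj) := by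
  constructor
  · intro H
    haveI := H k
    have hsurj : Function.Surjective (AlgSp.Points.map (Limits.prod.fst :
        (X.obj ⨯ (AlgSp.yon (Spec (CommRingCat.of k))).obj
          (Over.mk (Spec.map (CommRingCat.ofHom (algebraMap k k))))) ⟶ X.obj)) :=
      fun x => Groth.Agent.Lib.Helper54.exists_point_bc_over X k x
    exact hsurj.connectedSpace (AlgSp.Points.continuous_map _)
  · intro hc K _ _
    exact Groth.Agent.Lib.Helper78.connectedSpace_of_bijective_connectedComponentsMap
      (AlgSp.Points.continuous_map _)
      (Groth.Agent.Lib.Helper78.bijective_connectedComponentsMap_prod_fst_of_isSepClosed k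
        X.property K)

end Groth.Agent.S10501
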