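import Groth.Statements.S10507
import Groth.Agent.Lib.Helper54.FpqcCover

set_option autoImplicit false
universe u
open CategoryTheory CategoryTheory.Limits AlgebraicGeometry
open AlgSp

namespace Groth.Agent.S10507

/-- If `{X_i ⟶ X}` is an fpqc covering of the algebraic space `X` by algebraic spaces and each `X_i` has
an fpqc covering `{X_ij ⟶ X_i}` by algebraic spaces, then the composites `X_ij ⟶ X_i ⟶ X`, indexed
by the pairs `(i, j)`, form an fpqc covering of `X`. -/
theorem result {S : Scheme.{u}} (X : AlgSp.Space S) {ι : Type u}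
    (Xi : ι → AlgSp.Space S) (g : ∀ i, Xi i ⟶ X) (κ : ι → Type u) (Xij : ∀ i, κ i → AlgSp.Space S)
    (gij : ∀ i j, Xij i j ⟶ Xi i)
    (h : AlgSp.IsFpqcCover (fun i => (Xi i).obj) (fun i => (g i).hom))
    (hij : ∀ i, AlgSp.IsFpqcCover (fun j => (Xij i j).obj) (fun j => (gij i j).hom)) :
    AlgSp.IsFpqcCover (fun r : Σ i, κ i => (Xij r.1 r.2).obj) (fun r => (gij r.1 r.2 ≫ g r.1).hom) := by
  refine ⟨fun r => ?_, fun Z hZ t => ?_⟩
  · obtain ⟨V, q, hqe, hqs⟩ := (Xi r.1).property.atlas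
    exact Groth.Agent.Lib.Helper54.locP_comp Groth.Agent.Lib.Helper54.etLocal_flat
      (gij r.1 r.2).hom (g r.1).hom q hqe hqs ((hij r.1).1 r.2) (h.1 r.1)
  · obtain ⟨m, W, c, haff, hflat, hsurj, hlift⟩ := h.2 Z hZ t
    choose i l hl using hlift
    have key := fun j => (hij (i j)).2 (W j) (haff j) (l j)
    choose m' W' c' haff' hflat' hsurj' hlift' using key
    refine Groth.Agent.Lib.Helper54.exists_fin_refinement_of_finite _ t
      (κ := Σ j : Fin m, Fin (m' j)) (fun x => W' x.1 x.2) (fun x => c' x.1 x.2 ≫ c x.1)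
      (fun x => haff' x.1 x.2) (fun x => ?_) (fun z => ?_) (fun x => ?_)
    · have : Flat (c' x.1 x.2).left := hflat' x.1 x.2
      have : Flat (c x.1).left := hflat x.1
      change Flat ((c' x.1 x.2).left ≫ (c x.1).left)
      infer_instance
    · obtain ⟨j, w, hw⟩ := hsurj z
      obtain ⟨k, w', hw'⟩ := hsurj' j w
      refine ⟨⟨j, k⟩, w', ?_⟩
      change ((c' j k).left ≫ (c j).left) w' = z
      rw [Scheme.Hom.comp_apply, hw', hw]
    · obtain ⟨j', l', hl'⟩ := hlift' x.1 x.2
      refine ⟨⟨i x.1, j'⟩, l', ?_⟩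
      change l' ≫ (gij (i x.1) j').hom ≫ (g (i x.1)).hom = _
      rw [← Category.assoc, hl', Category.assoc, hl, Functor.map_comp, Category.assoc]

end Groth.Agent.S10507
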