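import Groth.Statements.S10508
import Groth.Agent.Lib.Helper54.FpqcCover

set_option autoImplicit false
universe u
open CategoryTheory CategoryTheory.Limits AlgebraicGeometry
open AlgSp

namespace Groth.Agent.S10508

/-- Let `X` be an algebraic space over `S`, `{X_i ⟶ X}` a family of morphisms of algebraic spaces and
`h_U ⟶ X` a representable etale, representable surjective map from a scheme `U` over `S`, with
pullback squares of sheaves exhibiting algebraic spaces `U_i` as `U ×_X X_i`. Then `{X_i ⟶ X}` is an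
fpqc covering of `X` if and only if `{U_i ⟶ h_U}` is an fpqc covering of `h_U`. -/
theorem result {S : Scheme.{u}} (X : AlgSp.Space S) {ι : Type u}
    (Xi : ι → AlgSp.Space S) (g : ∀ i, Xi i ⟶ X) {U : Over S} (p : (AlgSp.yon S).obj U ⟶ X.obj)
    (hp : AlgSp.RepWith @Etale p) (hps : AlgSp.RepWith @Surjective p)
    (Ui : ι → AlgSp.Space S) (q : ∀ i, (Ui i).obj ⟶ (AlgSp.yon S).obj U) (p' : ∀ i, Ui i ⟶ Xi i)
    (sq : ∀ i, IsPullback (q i) (p' i).hom p (g i).hom) :
    AlgSp.IsFpqcCover (fun i => (Xi i).obj) (fun i => (g i).hom) ↔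
      AlgSp.IsFpqcCover (fun i => (Ui i).obj) q := by
  have hflat_et : ∀ ⦃A B : Scheme.{u}⦄ (φ : A ⟶ B), Etale φ → Flat φ := fun _ _ φ hφ => by
    have : Etale φ := hφ
    infer_instance
  constructor
  · intro h
    refine ⟨fun i => Groth.Agent.Lib.Helper54.locP_of_isPullback_of_isAlgSpace
      Groth.Agent.Lib.Helper54.etLocal_flat (Xi i).property X.property (sq i).flip (h.1 i),
      fun Z hZ t => ?_⟩
    obtain ⟨m, W, c, haff, hflat, hsurj, hlift⟩ := h.2 Z hZ (t ≫ p)
    refine ⟨m, W, c, haff, hflat, hsurj, fun j => ?_⟩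
    obtain ⟨i, l, hl⟩ := hlift j
    exact ⟨i, (sq i).lift ((AlgSp.yon S).map (c j) ≫ t) l (by rw [Category.assoc, hl]),
      (sq i).lift_fst _ _ _⟩
  · intro h
    have : (AlgSp.RepWith (S := S) @Etale).IsMultiplicative := AlgSp.repWith_isMultiplicative _
    have : (AlgSp.RepWith (S := S) @Surjective).IsMultiplicative := AlgSp.repWith_isMultiplicative _
    refine ⟨fun i => ?_, fun Z hZ t => ?_⟩
    · have hp'e : AlgSp.RepWith @Etale (p' i).hom := MorphismProperty.of_isPullback (sq i) hp
      have hp's : AlgSp.RepWith @Surjective (p' i).hom := MorphismProperty.of_isPullback (sq i) hps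
      obtain ⟨A, a, hae, has⟩ := (Ui i).property.atlas
      have hpflat : AlgSp.LocP @Flat p :=
        Groth.Agent.H52.locP_of_repWith p @Flat hflat_et
          (MorphismProperty.relative_monotone (fun _ _ φ hφ => hflat_et _ hφ) _ hp)
      have h1 : AlgSp.LocP @Flat (q i ≫ p) :=
        Groth.Agent.Lib.Helper54.locP_comp Groth.Agent.Lib.Helper54.etLocal_flat (q i) p (𝟙 _)
          (AlgSp.repWith_id _ U) (AlgSp.repWith_id _ U) (h.1 i) hpflat
      rw [(sq i).w] at h1
      have h2 := Groth.Agent.Lib.Helper54.locP_precomp_chart h1 a hae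
      rw [← Category.assoc] at h2
      exact Groth.Agent.Lib.Helper54.locP_of_precomp_atlas Groth.Agent.Lib.Helper54.etLocal_flat
        (g i).hom (a ≫ (p' i).hom) ((AlgSp.RepWith @Etale).comp_mem _ _ hae hp'e)
        ((AlgSp.RepWith @Surjective).comp_mem _ _ has hp's) p hp hps h2
    · have sqZ := hp.rep.isPullback t
      have hsnd_e : Etale (hp.rep.snd t).left := hp.property_snd t
      have hsnd_s : Surjective (hp.rep.snd t).left := hps.property _ _ _ sqZ
      have : IsAffine Z.left := hZ
      refine Groth.Agent.Lib.Helper54.fpqcRefines_of_open_cover _ Z t (κ := Unit)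
        (fun _ => hp.rep.pullback t) (fun _ => hp.rep.snd t) (fun _ => inferInstance)
        (fun _ => (hp.rep.snd t).left.isOpenMap) (fun z => ⟨(), hsnd_s.surj z⟩) (fun _ A => ?_)
      have hA : IsAffine (Groth.Agent.H52.overOpen (hp.rep.pullback t) A.1).left := A.2
      have key := h.2 _ hA ((AlgSp.yon S).map (Groth.Agent.H52.overOpenι (hp.rep.pullback t) A.1) ≫
        hp.rep.fst t)
      have := Groth.Agent.Lib.Helper54.fpqcRefines_map (fun i => (g i).hom) q p (fun i => (p' i).hom)
        (fun i => (sq i).w) key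
      rw [Category.assoc, sqZ.w, ← Category.assoc, ← Functor.map_comp] at this
      exact this

end Groth.Agent.S10508
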