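import Groth.Statements.S10509
import Groth.Agent.H52.SmoothSection
import Groth.Agent.H52.TwoCharts

set_option autoImplicit false
universe u
open CategoryTheory CategoryTheory.Limits AlgebraicGeometry
open AlgSp

namespace Groth.Agent.S10509

/-- A smooth covering of an algebraic space `X` over `S` by algebraic spaces can be refined by an etale
covering of `X` by algebraic spaces: there is an etale covering `{U_j ⟶ X}` each member of which
factors through some member of the given smooth covering. -/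
theorem result {S : Scheme.{u}} (X : AlgSp.Space S) {ι : Type u}
    (Xi : ι → AlgSp.Space S) (g : ∀ i, Xi i ⟶ X)
    (h : AlgSp.IsSmCover (fun i => (Xi i).obj) (fun i => (g i).hom)) :
    ∃ (κ : Type u) (U : κ → AlgSp.Space S) (c : ∀ j, U j ⟶ X),
      AlgSp.IsEtCover (fun j => (U j).obj) (fun j => (c j).hom) ∧
      ∀ j, ∃ (i : ι) (r : U j ⟶ Xi i), r ≫ g i = c j := by
  have hX : IsAlgSpace X.obj := X.property
  obtain ⟨V₀, p, hpe, hps⟩ := hX.atlas
  obtain ⟨hsm, hcov⟩ := h
  -- data for each point of the atlas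
  have key : ∀ v : ↥V₀.left, ∃ (i : ι) (Z : Over S) (c : Z ⟶ V₀) (r : (yon S).obj Z ⟶ (Xi i).obj)
      (z : ↥Z.left), Etale c.left ∧ c.left z = v ∧ r ≫ (g i).hom = (yon S).map c ≫ p := by
    intro v
    obtain ⟨i, ξ, hξ⟩ := hcov (Points.ofPt p v)
    obtain ⟨W, a, k, w, hae, hak, -, hkw⟩ :=
      Groth.Agent.H52.exists_chart_over_through_point (Xi i).property hX (g i).hom p hpe ξ v hξ.symm
    have hks : Smooth k.left := hsm i a p k hae hpe hak
    obtain ⟨Z, i₀, z, -, het, hz⟩ := Groth.Agent.H52.exists_etale_slice_of_smooth k.left w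
    let Zo : Over S := Over.mk (i₀ ≫ W.hom)
    let io : Zo ⟶ W := Over.homMk i₀ rfl
    refine ⟨i, Zo, io ≫ k, (yon S).map io ≫ a, z, het, ?_, ?_⟩
    · change k.left (i₀ z) = v
      rw [hz, hkw]
    · rw [Category.assoc, hak, Functor.map_comp, Category.assoc]
  choose i Z c r z hce hcz hrc using key
  refine ⟨↥V₀.left, fun v => ⟨(yon S).obj (Z v), IsAlgSpace.yon_obj _⟩,
    fun v => ObjectProperty.homMk ((yon S).map (c v) ≫ p), ⟨?_, ?_⟩, ?_⟩
  · intro v T φ hφ
    change RepWith @Etale (φ ≫ (yon S).map (c v) ≫ p)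
    exact (RepWith (S := S) @Etale).comp_mem _ _ hφ
      ((RepWith (S := S) @Etale).comp_mem _ _ ((repWith_yon_map_iff @Etale (c v)).2 (hce v)) hpe)
  · intro x
    obtain ⟨q, rfl⟩ := Groth.Agent.H52.surjective_points_of_repWith_surjective p hps x
    obtain ⟨v, rfl⟩ := (Points.schemeEquiv V₀).surjective q
    refine ⟨v, Points.ofScheme (Z v) (z v), ?_⟩
    change Points.map ((yon S).map (c v) ≫ p) (Points.ofScheme (Z v) (z v)) = _
    rw [Points.map_comp, Groth.Agent.H52.points_map_ofScheme, hcz]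
    rfl
  · intro v
    exact ⟨i v, ObjectProperty.homMk (r v), ObjectProperty.hom_ext _ (hrc v)⟩

end Groth.Agent.S10509
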