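import Groth.Statements.S1051
-- import your own Groth.Agent.* helpers here
import Groth.Agent.S6595
import Groth.Agent.Lib.Helper32.Postnikov

set_option autoImplicit false
universe v u
open CategoryTheory
open CohDer

namespace Groth.Agent.S1051

open CategoryTheory.Pretriangulated Groth.Agent.Lib.Helper32

section
variable {D : Type u} [Category.{v} D] [Preadditive D] [Limits.HasZeroObject D] [HasShift D ℤ]
    [∀ n : ℤ, (shiftFunctor D n).Additive] [Pretriangulated D]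

/-- the state of the construction at stage `k`. -/
structure State (X : ChainComplex D ℕ) (n k : ℕ) where
  Y : D
  a : Y ⟶ X.X k
  vanish : ∀ i : ℕ, k + 2 < i → i ≤ n →
    ∀ φ : (shiftFunctor D ((i : ℤ) - k - 2)).obj (X.X i) ⟶ Y, φ = 0
  inj : k + 2 ≤ n → ∀ u : X.X (k + 2) ⟶ Y, u ≫ a = 0 → u = 0
  lift : k + 1 ≤ n → ∃ b : X.X (k + 1) ⟶ Y, b ≫ a = X.d (k + 1) k

variable (X : ChainComplex D ℕ) (n : ℕ)
    (hX : ∀ i j : ℕ, j + 2 < i → i ≤ n →
      ∀ φ : (shiftFunctor D ((i : ℤ) - j - 2)).obj (X.X i) ⟶ X.X j, φ = 0)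

include hX in
theorem step_exists (k : ℕ) (s : State X n k) :
    ∃ (s' : State X n (k + 1)) (b : X.X (k + 1) ⟶ s.Y)
      (c : s.Y ⟶ (shiftFunctor D (1 : ℤ)).obj s'.Y),
      k < n → (Triangle.mk s'.a b c ∈ distinguishedTriangles ∧ b ≫ s.a = X.d (k + 1) k) := by
  by_cases hk : k < n
  · obtain ⟨b, hb⟩ := s.lift hk
    obtain ⟨Z, g, h, hT⟩ := distinguished_cocone_triangle b
    have hT' := inv_rot_of_distTriang _ hT
    let T := (Triangle.mk b g h).invRotate
    have hT'' : T ∈ distinguishedTriangles := hT'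
    have hTb : T.mor₂ = b := rfl
    refine ⟨⟨T.obj₁, T.mor₁, ?_, ?_, ?_⟩, b, T.mor₃, fun _ => ⟨hT', hb⟩⟩
    · intro i hi hin φ
      exact Groth.Agent.S6595.step (X.X i) T hT'' ((i : ℤ) - ((k + 1 : ℕ) : ℤ) - 2) ((i : ℤ) - k - 2)
        (by push_cast; ring) (hX i (k + 1) hi hin) (s.vanish i (by omega) hin) φ
    · intro hk2 u hu
      refine eq_zero_of_comp_mor₁ T hT'' u hu ?_
      have := s.vanish (k + 1 + 2) (by omega) hk2
      exact homs_zero_of_shift_eq (by push_cast; ring) this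
    · intro hk2
      have h0 : (X.d (k + 1 + 1) (k + 1) ≫ b) = 0 := by
        apply s.inj hk2
        rw [Category.assoc, hb, HomologicalComplex.d_comp_d]
      obtain ⟨b', hb'⟩ := Triangle.coyoneda_exact₂ T hT'' (X.d (k + 1 + 1) (k + 1)) h0
      exact ⟨b', hb'.symm⟩
  · refine ⟨⟨X.X (k + 1), 𝟙 _, ?_, ?_, ?_⟩, 0, 0, fun h => absurd h hk⟩
    · intro i hi hin; omega
    · intro h; omega
    · intro h; omega

/-- the next state. -/
noncomputable def next (k : ℕ) (s : State X n k) : State X n (k + 1) :=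
  (step_exists X n hX k s).choose

/-- the sequence of states. -/
noncomputable def seq : ∀ k : ℕ, State X n k
  | 0 => ⟨X.X 0, 𝟙 _, fun i hi hin φ => hX i 0 hi hin φ,
      fun _ u hu => by rwa [Category.comp_id] at hu, fun _ => ⟨X.d (0 + 1) 0, Category.comp_id _⟩⟩
  | (k + 1) => next X n hX k (seq k)

/-- the morphisms `b`. -/
noncomputable def bOf (k : ℕ) : X.X (k + 1) ⟶ (seq X n hX k).Y :=
  (step_exists X n hX k (seq X n hX k)).choose_spec.choose

/-- the morphisms `c`. -/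
noncomputable def cOf (k : ℕ) :
    (seq X n hX k).Y ⟶ (shiftFunctor D (1 : ℤ)).obj (seq X n hX (k + 1)).Y :=
  (step_exists X n hX k (seq X n hX k)).choose_spec.choose_spec.choose

theorem spec (k : ℕ) (hk : k < n) :
    Triangle.mk (seq X n hX (k + 1)).a (bOf X n hX k) (cOf X n hX k) ∈ distinguishedTriangles ∧
      bOf X n hX k ≫ (seq X n hX k).a = X.d (k + 1) k :=
  (step_exists X n hX k (seq X n hX k)).choose_spec.choose_spec.choose_spec hk

end

open CategoryTheory.Pretriangulated in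
theorem aux {D : Type u} [Category.{v} D] [Preadditive D] [Limits.HasZeroObject D] [HasShift D ℤ]
    [∀ n : ℤ, (shiftFunctor D n).Additive] [Pretriangulated D] [IsTriangulated D]
    (X : ChainComplex D ℕ) (n : ℕ)
    (hX : ∀ i j : ℕ, j + 2 < i → i ≤ n → ∀ φ : (shiftFunctor D ((i : ℤ) - j - 2)).obj (X.X i) ⟶ X.X j, φ = 0) :
    ∃ (Y : ℕ → D) (a : ∀ k, Y k ⟶ X.X k) (b : ∀ k, X.X (k + 1) ⟶ Y k) (c : ∀ k, Y k ⟶ (shiftFunctor D (1 : ℤ)).obj (Y (k + 1))),
      IsIso (a 0) ∧ ∀ k, k < n → Triangle.mk (a (k + 1)) (b k) (c k) ∈ distinguishedTriangles ∧ b k ≫ a k = X.d (k + 1) k := by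
  refine ⟨fun k => (seq X n hX k).Y, fun k => (seq X n hX k).a, bOf X n hX, cOf X n hX, ?_,
    fun k hk => spec X n hX k hk⟩
  change IsIso (𝟙 (X.X 0))
  infer_instance

open CategoryTheory.Pretriangulated in
/-- Let X be a chain complex in a triangulated category D and n a natural number; consider the finite
complex Xₙ → Xₙ₋₁ → … → X₀. If every morphism Xᵢ[i - j - 2] ⟶ Xⱼ with j + 2 < i ≤ n vanishes, then
there is a Postnikov system for it: objects Yₖ (k ≤ n), an isomorphism Y₀ ⟶ X₀, and for each k < n a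
distinguished triangle Yₖ₊₁ ⟶ Xₖ₊₁ ⟶ Yₖ ⟶ Yₖ₊₁[1] such that Xₖ₊₁ ⟶ Yₖ ⟶ Xₖ is the differential of X. -/
theorem result {D : Type u} [Category.{v} D] [Preadditive D] [Limits.HasZeroObject D] [HasShift D ℤ]
    [∀ n : ℤ, (shiftFunctor D n).Additive] [Pretriangulated D] [IsTriangulated D]
    (X : ChainComplex D ℕ) (n : ℕ)
    (hX : ∀ i j : ℕ, j + 2 < i → i ≤ n → ∀ φ : (shiftFunctor D ((i : ℤ) - j - 2)).obj (X.X i) ⟶ X.X j, φ = 0) :
    ∃ (Y : ℕ → D) (a : ∀ k, Y k ⟶ X.X k) (b : ∀ k, X.X (k + 1) ⟶ Y k) (c : ∀ k, Y k ⟶ (shiftFunctor D (1 : ℤ)).obj (Y (k + 1))),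
      IsIso (a 0) ∧ ∀ k, k < n → Triangle.mk (a (k + 1)) (b k) (c k) ∈ distinguishedTriangles ∧ b k ≫ a k = X.d (k + 1) k := by
  exact aux X n hX

end Groth.Agent.S1051
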