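import Groth.Statements.S7190
import Mathlib
import Groth.Agent.Lib.Helper22.PhFppf
-- import your own Groth.Agent.* helpers here

set_option autoImplicit false
universe w u
open FlatMor

namespace Groth.Agent.S7190

open AlgebraicGeometry CategoryTheory Limits in
/-- An fppf covering {T_i → T} of schemes (flat, locally of finite presentation, jointly surjective) is
a ph covering. -/
theorem result {T : Scheme.{u}} (E : PreZeroHypercover.{w} T)
    (hflat : ∀ i, Flat (E.f i)) (hfp : ∀ i, LocallyOfFinitePresentation (E.f i))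
    (hsurj : ∀ t : T, ∃ (i : E.I₀) (x : E.X i), E.f i x = t) : HTop.IsPhCover E := by
  classical
  refine ⟨fun i => by haveI := hfp i; infer_instance, fun U => ?_⟩
  obtain ⟨U, hU⟩ := U
  haveI : IsAffine U.toScheme := hU
  obtain ⟨Q, q, hqf, hqs, c⟩ :=
    Groth.Agent.Lib.Helper22.PhCover.hasCover_of_fppf E hflat hfp hsurj U.ι
  haveI := hqf
  haveI := hqs
  haveI : IsAffine Q := isAffine_of_isAffineHom q
  -- choose charts
  have c' : ∀ z : Q, ∃ (O : Scheme.{u}) (o : O ⟶ Q) (_ : IsOpenImmersion o) (N : O.Opens),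
      IsAffineOpen N ∧ z ∈ o ''ᵁ N ∧ ∃ (i : E.I₀) (r : O ⟶ E.X i), r ≫ E.f i = (o ≫ q) ≫ U.ι := by
    intro z
    obtain ⟨O, o, ho, ⟨z₀, hz₀⟩, i, r, hr⟩ := c z trivial
    obtain ⟨_, ⟨N, hN, rfl⟩, hzN, -⟩ :=
      O.isBasis_affineOpens.exists_subset_of_mem_open (Set.mem_univ z₀) isOpen_univ
    refine ⟨O, o, ho, N, hN, ⟨z₀, hzN, hz₀⟩, i, r, ?_⟩
    rw [hr, Category.comp_id]
  choose O o ho N hN hz i r hr using c'
  obtain ⟨t, ht⟩ := isCompact_univ.elim_finite_subcover (fun z => ((o z ''ᵁ N z : Q.Opens) : Set Q))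
    (fun z => (o z ''ᵁ N z).2) (fun z _ => Set.mem_iUnion.2 ⟨z, hz z⟩)
  let e : Fin t.card ≃ t := t.equivFin.symm
  let F : PreZeroHypercover.{0} U.toScheme :=
    { I₀ := Fin t.card
      X := fun j => (N (e j).1).toScheme
      f := fun j => (N (e j).1).ι ≫ o (e j).1 ≫ q }
  refine ⟨F, ⟨hU, inferInstanceAs (Finite (Fin t.card)), fun j => hN (e j).1, ?_⟩, ?_⟩
  · refine ⟨Q, q, fun j => (N (e j).1).ι ≫ o (e j).1, inferInstance, inferInstance,
      fun j => ?_, fun j => by simp [F], fun x => ?_⟩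
    · haveI := ho (e j).1
      infer_instance
    · obtain ⟨z, hzt, hxz⟩ := Set.mem_iUnion₂.mp (ht (Set.mem_univ x))
      obtain ⟨x₀, hx₀N, hx₀⟩ := hxz
      obtain ⟨j, hj⟩ := e.surjective ⟨z, hzt⟩
      have hjz : (e j).1 = z := congrArg Subtype.val hj
      subst hjz
      exact ⟨j, ⟨x₀, hx₀N⟩, hx₀⟩
  · intro j
    refine ⟨i (e j).1, (N (e j).1).ι ≫ r (e j).1, ?_⟩
    rw [Category.assoc, hr]
    simp [F]

end Groth.Agent.S7190
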