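import Groth.Statements.S10514
import Groth.Agent.Lib.Helper54.FpqcCover
import Groth.Agent.S7190

set_option autoImplicit false
universe u
open CategoryTheory CategoryTheory.Limits AlgebraicGeometry
open AlgSp

namespace Groth.Agent.S10514

/-- An fppf covering of an algebraic space `X` over `S` by algebraic spaces is a ph covering of `X`: its
members are locally of finite type and every morphism from an affine scheme `Z` to `X` admits a
standard ph covering of `Z` whose members lift through members of the family. -/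
theorem result {S : Scheme.{u}} (X : AlgSp.Space S) {ι : Type u}
    (Xi : ι → AlgSp.Space S) (g : ∀ i, Xi i ⟶ X)
    (h : AlgSp.IsFppfCover (fun i => (Xi i).obj) (fun i => (g i).hom)) :
    AlgSp.IsPhCover (fun i => (Xi i).obj) (fun i => (g i).hom) := by
  refine ⟨fun i U V a b φ ha hb hc => ?_, fun Z hZ t => ?_⟩
  · haveI : LocallyOfFinitePresentation φ.left := (h.1 i).2 a b φ ha hb hc
    infer_instance
  · obtain ⟨E, e, l, hflat, hlfp, hsurj, hl⟩ :=
      Groth.Agent.Lib.Helper54.exists_fppf_family_of_isFppfCover X.property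
        (fun i => (Xi i).property) (fun i => (g i).hom) h Z t
    haveI : IsAffine Z.left := hZ
    let C : PreZeroHypercover.{u} Z.left :=
      { I₀ := ι, X := fun i => (E i).left, f := fun i => (e i).left }
    have hC : HTop.IsPhCover C := Groth.Agent.S7190.result C hflat hlfp (fun z => by
      obtain ⟨i, x, hx⟩ := hsurj z
      exact ⟨i, x, hx⟩)
    have hTop : (⊤ : Z.left.Opens) ∈ Z.left.affineOpens := isAffineOpen_top Z.left
    obtain ⟨F, hF, hr⟩ := hC.2 ⟨⊤, hTop⟩
    let F' : PreZeroHypercover.{0} Z.left :=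
      { I₀ := F.I₀, X := F.X, f := fun j => F.f j ≫ (⊤ : Z.left.Opens).ι }
    haveI hiso : IsIso (⊤ : Z.left.Opens).ι := (Z.left.topIso).isIso_hom
    refine ⟨F', ⟨hZ, hF.finite_index, hF.isAffine_obj, ?_⟩, fun j => ?_⟩
    · obtain ⟨U, f, ι', hp, hs, hoi, hcomm, hcov⟩ := hF.exists_proper
      refine ⟨U, f ≫ (⊤ : Z.left.Opens).ι, ι', ?_, ?_, hoi, fun j => ?_, hcov⟩
      · exact (MorphismProperty.cancel_right_of_respectsIso @IsProper f
          (⊤ : Z.left.Opens).ι).mpr hp
      · exact (MorphismProperty.cancel_right_of_respectsIso @Surjective f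
          (⊤ : Z.left.Opens).ι).mpr hs
      · change ι' j ≫ f ≫ (⊤ : Z.left.Opens).ι = F.f j ≫ (⊤ : Z.left.Opens).ι
        rw [← Category.assoc, hcomm j]
    · obtain ⟨i, r, hr'⟩ := hr j
      have hw : r ≫ (E i).hom = F'.f j ≫ Z.hom := by
        have h1 : (e i).left ≫ Z.hom = (E i).hom := Over.w (e i)
        have h2 : r ≫ (e i).left = F.f j ≫ (⊤ : Z.left.Opens).ι := hr'
        calc r ≫ (E i).hom = r ≫ (e i).left ≫ Z.hom := by rw [h1]
          _ = (r ≫ (e i).left) ≫ Z.hom := (Category.assoc _ _ _).symm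
          _ = (F.f j ≫ (⊤ : Z.left.Opens).ι) ≫ Z.hom := by rw [h2]
      let ρ : Over.mk (F'.f j ≫ Z.hom) ⟶ E i := Over.homMk r hw
      refine ⟨i, (AlgSp.yon S).map ρ ≫ l i, ?_⟩
      change ((AlgSp.yon S).map ρ ≫ l i) ≫ (g i).hom = _
      have e1 : ρ ≫ e i = (Over.homMk (F'.f j) rfl : Over.mk (F'.f j ≫ Z.hom) ⟶ Z) := by
        apply Over.OverMorphism.ext
        exact hr'
      calc ((AlgSp.yon S).map ρ ≫ l i) ≫ (g i).hom
          = (AlgSp.yon S).map ρ ≫ (l i ≫ (g i).hom) := Category.assoc _ _ _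
        _ = (AlgSp.yon S).map ρ ≫ ((AlgSp.yon S).map (e i) ≫ t) := by rw [hl i]
        _ = ((AlgSp.yon S).map ρ ≫ (AlgSp.yon S).map (e i)) ≫ t := (Category.assoc _ _ _).symm
        _ = (AlgSp.yon S).map (ρ ≫ e i) ≫ t := by rw [Functor.map_comp]
        _ = _ := by rw [e1]

end Groth.Agent.S10514
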