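import Groth.Statements.S10517
import Groth.Agent.Lib.Helper14.PhCoverC
import Groth.Agent.Lib.Helper54.EtLocalInst
import Groth.Agent.S7409

set_option autoImplicit false
universe u
open CategoryTheory CategoryTheory.Limits AlgebraicGeometry
open AlgSp

namespace Groth.Agent.S10517

/-- If `{X_i ⟶ X}` is a ph covering of the algebraic space `X` by algebraic spaces and each `X_i` has a
ph covering `{X_ij ⟶ X_i}` by algebraic spaces, then the composites `X_ij ⟶ X_i ⟶ X`, indexed by the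
pairs `(i, j)`, form a ph covering of `X`. -/
theorem result {S : Scheme.{u}} (X : AlgSp.Space S) {ι : Type u}
    (Xi : ι → AlgSp.Space S) (g : ∀ i, Xi i ⟶ X) (κ : ι → Type u) (Xij : ∀ i, κ i → AlgSp.Space S)
    (gij : ∀ i j, Xij i j ⟶ Xi i)
    (h : AlgSp.IsPhCover (fun i => (Xi i).obj) (fun i => (g i).hom))
    (hij : ∀ i, AlgSp.IsPhCover (fun j => (Xij i j).obj) (fun j => (gij i j).hom)) :
    AlgSp.IsPhCover (fun r : Σ i, κ i => (Xij r.1 r.2).obj) (fun r => (gij r.1 r.2 ≫ g r.1).hom) := by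
  have chow : Groth.Agent.Lib.Helper14.ProperLim.ChowQcqs.{u} := fun f => Groth.Agent.S7409.result f
  refine ⟨fun r => ?_, fun Z hZ t => ?_⟩
  · obtain ⟨V, q, hqe, hqs⟩ := (Xi r.1).property.atlas
    exact Groth.Agent.Lib.Helper54.locP_comp Groth.Agent.Lib.Helper54.etLocal_lft
      (gij r.1 r.2).hom (g r.1).hom q hqe hqs ((hij r.1).1 r.2) (h.1 r.1)
  · obtain ⟨F, hF, hl⟩ := h.2 Z hZ t
    choose i l hl using hl
    have hG := fun j => (hij (i j)).2 (Over.mk (F.f j ≫ Z.hom)) (hF.isAffine_obj j) (l j)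
    choose G hG hGl using hG
    obtain ⟨F', hF', ⟨φ⟩⟩ :=
      Groth.Agent.Lib.Helper14.PhCover.exists_standardPh_refining_bind chow F hF G hG
    refine ⟨F', hF', fun k => ?_⟩
    obtain ⟨jm, hk, hw⟩ : ∃ (jm : Σ j, (G j).I₀) (hk : F'.X k ⟶ (G jm.1).X jm.2),
        hk ≫ ((G jm.1).f jm.2 ≫ F.f jm.1) = F'.f k := ⟨φ.s₀ k, φ.h₀ k, φ.w₀ k⟩
    obtain ⟨j, mm⟩ := jm
    dsimp only at hk hw
    obtain ⟨ii, ll, hll⟩ := hGl j mm
    let m : Over.mk (F'.f k ≫ Z.hom) ⟶
        Over.mk ((G j).f mm ≫ (Over.mk (F.f j ≫ Z.hom)).hom) :=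
      Over.homMk hk (by
        show hk ≫ ((G j).f mm ≫ F.f j ≫ Z.hom) = F'.f k ≫ Z.hom
        rw [← hw]
        simp only [Category.assoc])
    refine ⟨⟨i j, ii⟩, (yon S).map m ≫ ll, ?_⟩
    show ((yon S).map m ≫ ll) ≫ (gij (i j) ii).hom ≫ (g (i j)).hom = _
    rw [Category.assoc, reassoc_of% hll, hl, ← Functor.map_comp_assoc, ← Functor.map_comp_assoc]
    congr 2
    ext
    simp only [m, Over.comp_left, Over.homMk_left]
    exact hw

end Groth.Agent.S10517
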