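import Groth.Statements.S10522
import Groth.Agent.Lib.Helper54.FpqcTop

set_option autoImplicit false
universe u
open CategoryTheory CategoryTheory.Limits AlgebraicGeometry
open AlgSp

namespace Groth.Agent.S10522

/-- The property of morphisms of algebraic spaces over S given by f is universally open (every base
change along a morphism from an algebraic space is open on points) is fpqc local on the base: for an
fpqc covering of an algebraic space Y by algebraic spaces Y_i, a morphism f : X ⟶ Y of algebraic
spaces and cartesian squares X_i = Y_i ×_Y X, f has the property if and only if every X_i ⟶ Y_i has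
it. -/
theorem result (S : Scheme.{u}) :
    AlgSp.IsLocalOnBase (AlgSp.IsFpqcCover (S := S)) AlgSp.IsUnivOpenMor := by
  exact Groth.Agent.Lib.Helper54.univSp_isLocalOnBase_fpqc _
    (fun snd _ Zi g hfin hsurj Pi a b sq h =>
      Groth.Agent.Lib.Helper54.isOpenMap_points_of_family snd Zi g hfin hsurj Pi a b sq h)

end Groth.Agent.S10522
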