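import Groth.Statements.S10524
import Groth.Agent.Lib.Helper54.FpqcDescent

set_option autoImplicit false
universe u
open CategoryTheory CategoryTheory.Limits AlgebraicGeometry
open AlgSp

namespace Groth.Agent.S10524

/-- The property of morphisms of algebraic spaces over S given by f is universally injective (every base
change along a morphism from an algebraic space is injective on points) is fpqc local on the base:
for an fpqc covering of an algebraic space Y by algebraic spaces Y_i, a morphism f : X ⟶ Y of
algebraic spaces and cartesian squares X_i = Y_i ×_Y X, f has the property if and only if every X_i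
⟶ Y_i has it. -/
theorem result (S : Scheme.{u}) :
    AlgSp.IsLocalOnBase (AlgSp.IsFpqcCover (S := S)) AlgSp.IsUnivInjectiveMor := by
  intro ι Y Yi g hY hYi hcov X f hX Xi p q hXi sq
  constructor
  · intro hf i Z Z' hZ g' fst snd sq'
    exact hf hZ (g' ≫ g i) (fst ≫ q i) snd (sq'.paste_horiz (sq i))
  · intro hp
    have hΔ : AlgSp.RepWith @Surjective (pullback.diagonal f) := by
      refine Groth.Agent.Lib.Helper54.repWith_diagonal_of_fpqc_local @Surjective f
        (Groth.Agent.H52.diagonal_properties (hX) f).1 g hcov.2 p q sq (fun i => ?_)
      exact Groth.Agent.H52.repWith_surjective_of_surjective_points _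
        (Groth.Agent.H52.diagonal_properties (hXi i) (p i)).1
        (Groth.Agent.H52.isSurjectiveMor_diagonal_of_isUnivInjectiveMor (hXi i) (p i) (hp i))
    have hs : AlgSp.IsSurjectiveMor (pullback.diagonal f) :=
      Groth.Agent.H52.surjective_points_of_repWith_surjective _ hΔ
    exact (Groth.Agent.H52.kInj_of_isSurjectiveMor_diagonal hX f hs).isUnivInjectiveMor

end Groth.Agent.S10524
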