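import Groth.Statements.S10538
import Groth.Statements.S10538
import Groth.Agent.Lib.Helper54.ImmersionDescent
import Groth.Agent.H53.ZarGlueInt
import Groth.Agent.H53.Proper
import Groth.Agent.H52.QC
import Groth.Agent.S10519

set_option backward.isDefEq.respectTransparency false

set_option autoImplicit false
universe u
open CategoryTheory CategoryTheory.Limits AlgebraicGeometry
open AlgSp

namespace Groth.Agent.S10538

/-- The property of morphisms of algebraic spaces over S given by f is a quasi-compact immersion
(representable, every base change to a scheme an immersion of schemes that is quasi-compact) is fpqc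
local on the base: for an fpqc covering of an algebraic space Y by algebraic spaces Y_i, a morphism
f : X ⟶ Y of algebraic spaces and cartesian squares X_i = Y_i ×_Y X, f has the property if and only
if every X_i ⟶ Y_i has it. -/
theorem result (S : Scheme.{u}) :
    AlgSp.IsLocalOnBase (AlgSp.IsFpqcCover (S := S)) (AlgSp.RepWith (@IsImmersion ⊓ @QuasiCompact)) := by
  intro ι Y Yi g hY hYi hcov X f hX Xi p q hXi sq
  have hbc : (AlgSp.RepWith (S := S) (@IsImmersion ⊓ @QuasiCompact)).IsStableUnderBaseChange :=
    repWith_isStableUnderBaseChange _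
  constructor
  · intro hf i
    exact MorphismProperty.of_isPullback (sq i) hf
  · intro hp
    have hmono : Mono f :=
      Groth.Agent.Lib.Helper54.mono_of_fpqc_local hX f g hcov.2 p q sq (fun i =>
        Groth.Agent.H52.mono_of_repWith (p i) (@IsImmersion ⊓ @QuasiCompact)
          (fun _ _ φ hφ => by have : IsImmersion φ := hφ.1; infer_instance) (hp i))
    have hqc : AlgSp.IsQuasiCompactMor f :=
      (Groth.Agent.S10519.result S Yi g hY hYi hcov f hX Xi p q hXi sq).2 (fun i =>
        Groth.Agent.H52.isQuasiCompactMor_of_repWith_quasiCompact _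
          (Groth.Agent.H53.repWith_of_le (fun _ _ φ hφ => hφ.2) (hp i)))
    have hloc : IsZariskiLocalAtTarget (@IsImmersion ⊓ @QuasiCompact : MorphismProperty Scheme.{u}) :=
      MorphismProperty.IsLocalAtTarget.inf _ _
    refine Groth.Agent.H53.ZarGlue.repWith_of_affine_local (@IsImmersion ⊓ @QuasiCompact)
      (fun Z hZ gZ => ?_)
    have sqZ := IsPullback.of_hasPullback f gZ
    have hXZqc : AlgSp.IsQuasiCompactSp (pullback f gZ) := by
      have : IsAffine Z.left := hZ
      exact hqc (IsAlgSpace.yon_obj Z) (Groth.Agent.H52.isQuasiCompactSp_yon Z) gZ _ _ sqZ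
    obtain ⟨m, W, c, haff, hflat, hsurj, hl⟩ := hcov.2 Z hZ gZ
    obtain ⟨V, ι, e, hi1, hi2, he⟩ := Groth.Agent.Lib.Helper54.exists_iso_yon_of_immersion_family hZ
      (pullback.snd f gZ) hXZqc W c haff hflat hsurj (fun j => by
        obtain ⟨i, l, hl⟩ := hl j
        have sqA : IsPullback (pullback.fst (p i) l ≫ q i) (pullback.snd (p i) l) f
            ((AlgSp.yon S).map (c j) ≫ gZ) := by
          have := (IsPullback.of_hasPullback (p i) l).paste_horiz (sq i)
          rwa [hl] at this
        have hφ' : AlgSp.RepWith (@IsImmersion ⊓ @QuasiCompact) (pullback.snd (p i) l) :=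
          MorphismProperty.of_isPullback (IsPullback.of_hasPullback (p i) l) (hp i)
        have hw : (pullback.fst (p i) l ≫ q i) ≫ f =
            (pullback.snd (p i) l ≫ (AlgSp.yon S).map (c j)) ≫ gZ := by
          rw [sqA.w, Category.assoc]
        refine ⟨_, sqZ.lift _ (pullback.snd (p i) l ≫ (AlgSp.yon S).map (c j)) hw,
          pullback.snd (p i) l, ?_, hφ'⟩
        refine IsPullback.of_right ?_ (sqZ.lift_snd _ _ _) sqZ
        rw [sqZ.lift_fst]
        exact sqA)
    refine ⟨V, ι, e.hom ≫ pullback.fst f gZ, ?_, hi1, hi2⟩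
    have sqe : IsPullback e.hom ((AlgSp.yon S).map ι) (pullback.snd f gZ) (𝟙 _) :=
      IsPullback.of_horiz_isIso ⟨by rw [he, Category.comp_id]⟩
    have := sqe.paste_horiz sqZ
    rwa [Category.id_comp] at this

end Groth.Agent.S10538
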