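import Groth.Statements.S1054
import Groth.Agent.S0997
import Groth.Agent.H57.QCohLpull


set_option autoImplicit false
universe u
open CategoryTheory CategoryTheory.Limits AlgebraicGeometry Opposite
attribute [local instance] HasDerivedCategory.standard
open Perf

namespace Groth.Agent.S1054

/-- Let f : Y ⟶ X be a morphism of schemes and assume the derived pullback Lf^* exists. If K ∈ D(O_X)
has quasi-coherent cohomology sheaves, so does Lf^*K. -/
theorem result {Y X : Scheme.{u}} (f : Y ⟶ X) [DCoh.HasLpull f] (K : DCoh.D X) (hK : DCoh.IsQCohD K) :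
    DCoh.IsQCohD ((DCoh.Lpull f).obj K) := by
  refine Groth.Agent.H57.QCohLpull.isQCohD_Lpull ?_ f K hK
  intro R _ K hK
  exact ((Groth.Agent.S0997.result R).2.2 K).1 hK

end Groth.Agent.S1054
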