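import Groth.Statements.S10551
import Groth.Agent.H52.Top3

set_option autoImplicit false
universe u
open CategoryTheory CategoryTheory.Limits AlgebraicGeometry
open AlgSp

namespace Groth.Agent.S10551

/-- The property of morphisms of algebraic spaces over S given by f is open (the induced map on spaces
of points is open) is fppf local on the source: for a morphism f : X ⟶ Y of algebraic spaces and a
fppf covering of X by algebraic spaces X_i, f has the property if and only if every composite X_i ⟶
X ⟶ Y has it. -/
theorem result (S : Scheme.{u}) :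
    AlgSp.IsLocalOnSource (AlgSp.IsFppfCover (S := S)) AlgSp.IsOpenMor := by
  intro ι X Xi g hX hXi hcov Y f hY
  have hopen : ∀ i, IsOpenMap (AlgSp.Points.map (g i)) := fun i =>
    (Groth.Agent.H52.isUnivOpenMor_of_locP (hXi i) hX (g i)
      (@Flat ⊓ @LocallyOfFinitePresentation) (fun _ _ φ hφ => by
        have : Flat φ := hφ.1
        have : LocallyOfFinitePresentation φ := hφ.2
        infer_instance)
      (fun U V a b h ha hb comm => ⟨(hcov.1 i).1 a b h ha hb comm, (hcov.1 i).2 a b h ha hb comm⟩))
      hX (𝟙 X) (𝟙 _) (g i) (IsPullback.of_horiz_isIso ⟨by simp⟩)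
  constructor
  · intro hf i
    have : AlgSp.Points.map (g i ≫ f) = AlgSp.Points.map f ∘ AlgSp.Points.map (g i) :=
      funext fun x => AlgSp.Points.map_comp _ _ x
    change IsOpenMap (AlgSp.Points.map (g i ≫ f))
    rw [this]
    exact IsOpenMap.comp hf (hopen i)
  · intro h O hO
    have : AlgSp.Points.map f '' O =
        ⋃ i, AlgSp.Points.map (g i ≫ f) '' (AlgSp.Points.map (g i) ⁻¹' O) := by
      ext y
      constructor
      · rintro ⟨x, hx, rfl⟩
        obtain ⟨i, xi, rfl⟩ := hcov.2 x
        exact Set.mem_iUnion.2 ⟨i, xi, hx, AlgSp.Points.map_comp _ _ xi⟩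
      · intro hy
        obtain ⟨i, xi, hxi, rfl⟩ := Set.mem_iUnion.1 hy
        exact ⟨AlgSp.Points.map (g i) xi, hxi, (AlgSp.Points.map_comp _ _ xi).symm⟩
    rw [this]
    exact isOpen_iUnion fun i => h i _ (hO.preimage (AlgSp.Points.continuous_map _))

end Groth.Agent.S10551
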