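import Groth.Statements.S10552
import Groth.Agent.H52.Top3
import Groth.Agent.Lib.Helper54.Points

set_option autoImplicit false
universe u
open CategoryTheory CategoryTheory.Limits AlgebraicGeometry
open AlgSp

namespace Groth.Agent.S10552

/-- The property of morphisms of algebraic spaces over S given by f is universally open (every base
change along a morphism from an algebraic space is open on points) is fppf local on the source: for
a morphism f : X ⟶ Y of algebraic spaces and a fppf covering of X by algebraic spaces X_i, f has the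
property if and only if every composite X_i ⟶ X ⟶ Y has it. -/
theorem result (S : Scheme.{u}) :
    AlgSp.IsLocalOnSource (AlgSp.IsFppfCover (S := S)) AlgSp.IsUnivOpenMor := by
  intro ι X Xi g hX hXi hcov Y f hY
  have hopen : ∀ i, AlgSp.IsUnivOpenMor (g i) := fun i =>
    Groth.Agent.H52.isUnivOpenMor_of_locP (hXi i) hX (g i)
      (@Flat ⊓ @LocallyOfFinitePresentation) (fun _ _ φ hφ => by
        have : Flat φ := hφ.1
        have : LocallyOfFinitePresentation φ := hφ.2
        infer_instance)
      (fun U V a b h ha hb comm => ⟨(hcov.1 i).1 a b h ha hb comm, (hcov.1 i).2 a b h ha hb comm⟩)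
  constructor
  · intro hf i Z Z' hZ t fst snd sq
    have sqP := IsPullback.of_hasPullback f t
    have hP : AlgSp.IsAlgSpace (pullback f t) :=
      Groth.Agent.H52.isAlgSpace_of_isPullback sqP hX hY hZ
    have hcomp : (fst ≫ g i) ≫ f = snd ≫ t := by rw [Category.assoc]; exact sq.w
    have hl1 : sqP.lift (fst ≫ g i) snd hcomp ≫ pullback.fst f t = fst ≫ g i := sqP.lift_fst _ _ _
    have hl2 : sqP.lift (fst ≫ g i) snd hcomp ≫ pullback.snd f t = snd := sqP.lift_snd _ _ _
    have sqL : IsPullback fst (sqP.lift (fst ≫ g i) snd hcomp) (g i) (pullback.fst f t) := by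
      refine IsPullback.of_bot ?_ hl1.symm sqP
      rw [hl2]
      exact sq
    have h1 : IsOpenMap (AlgSp.Points.map (sqP.lift (fst ≫ g i) snd hcomp)) :=
      hopen i hP _ _ _ sqL
    have h2 : IsOpenMap (AlgSp.Points.map (pullback.snd f t)) := hf hZ t _ _ sqP
    have : AlgSp.Points.map snd = AlgSp.Points.map (pullback.snd f t) ∘
        AlgSp.Points.map (sqP.lift (fst ≫ g i) snd hcomp) := by
      funext x
      rw [Function.comp_apply, ← AlgSp.Points.map_comp, hl2]
    change IsOpenMap (AlgSp.Points.map snd)
    rw [this]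
    exact IsOpenMap.comp h2 h1
  · intro h Z Z' hZ t fst snd sq O hO
    have hb : ∀ i, IsOpenMap (AlgSp.Points.map (pullback.snd (g i) fst ≫ snd)) := fun i =>
      h i hZ t _ _ ((IsPullback.of_hasPullback (g i) fst).paste_vert sq)
    have : AlgSp.Points.map snd '' O =
        ⋃ i, AlgSp.Points.map (pullback.snd (g i) fst ≫ snd) ''
          (AlgSp.Points.map (pullback.snd (g i) fst) ⁻¹' O) := by
      ext y
      constructor
      · rintro ⟨z', hz', rfl⟩
        obtain ⟨i, xi, hxi⟩ := hcov.2 (AlgSp.Points.map fst z')
        obtain ⟨w, -, hw⟩ := Groth.Agent.Lib.Helper54.exists_point_of_isPullback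
          (IsPullback.of_hasPullback (g i) fst) xi z' hxi
        refine Set.mem_iUnion.2 ⟨i, w, ?_, ?_⟩
        · change AlgSp.Points.map (pullback.snd (g i) fst) w ∈ O
          rw [hw]; exact hz'
        · rw [AlgSp.Points.map_comp, hw]
      · intro hy
        obtain ⟨i, w, hw, rfl⟩ := Set.mem_iUnion.1 hy
        exact ⟨AlgSp.Points.map (pullback.snd (g i) fst) w, hw, (AlgSp.Points.map_comp _ _ w).symm⟩
    rw [this]
    exact isOpen_iUnion fun i => hb i _ (hO.preimage (AlgSp.Points.continuous_map _))

end Groth.Agent.S10552
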