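import Groth.Statements.S10556
import Groth.Agent.Lib.Helper54.SourceLocal2
import Groth.Agent.Lib.Helper54.EtLocalInst

set_option autoImplicit false
universe u
open CategoryTheory CategoryTheory.Limits AlgebraicGeometry
open AlgSp

namespace Groth.Agent.S10556

/-- The property of morphisms of algebraic spaces over S given by f is unramified (locally of finite
type and formally unramified on etale charts) is etale local on the source: for a morphism f : X ⟶ Y
of algebraic spaces and a etale covering of X by algebraic spaces X_i, f has the property if and
only if every composite X_i ⟶ X ⟶ Y has it. -/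
theorem result (S : Scheme.{u}) :
    AlgSp.IsLocalOnSource (AlgSp.IsEtCover (S := S)) (AlgSp.LocP (@LocallyOfFiniteType ⊓ @FormallyUnramified)) := by
  have : IsZariskiLocalAtSource (@LocallyOfFiniteType ⊓ @FormallyUnramified : MorphismProperty Scheme.{u}) :=
    MorphismProperty.IsLocalAtSource.inf _ _
  exact Groth.Agent.Lib.Helper54.locP_isLocalOnSource_etale Groth.Agent.Lib.Helper54.etLocal_unramified

end Groth.Agent.S10556
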