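import Groth.Statements.S10559
import Groth.Agent.S10553
import Groth.Agent.H52.DimSp
import Groth.Agent.H52.LocPCalc2
import Groth.Agent.H52.LocPInst
import Groth.Agent.Lib.Helper54.EtLocalBridge

set_option autoImplicit false
universe u
open CategoryTheory CategoryTheory.Limits AlgebraicGeometry
open AlgSp

namespace Groth.Agent.S10559

/-- Let f : X ⟶ Y and q : Y ⟶ B be morphisms of algebraic spaces over S. If f is surjective and smooth
and f ≫ q is smooth, then q is smooth; if f is surjective and etale and f ≫ q is etale, then q is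
etale. (The syntomic case of the published statement is not included.) -/
theorem result {S : Scheme.{u}} {X Y B : AlgSp.Space S} (f : X ⟶ Y) (q : Y ⟶ B)
    (hs : AlgSp.IsSurjectiveMor f.hom) :
    (AlgSp.LocP @Smooth f.hom → AlgSp.LocP @Smooth (f ≫ q).hom → AlgSp.LocP @Smooth q.hom) ∧
    (AlgSp.IsEtaleMor f.hom → AlgSp.IsEtaleMor (f ≫ q).hom → AlgSp.IsEtaleMor q.hom) := by
  have hX : IsAlgSpace X.obj := X.property
  have hY : IsAlgSpace Y.obj := Y.property
  have hB : IsAlgSpace B.obj := B.property
  constructor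
  · intro hf hfq
    have key := Groth.Agent.S10553.result S (ι := PUnit.{u + 1}) (fun _ => X.obj) (fun _ => f.hom)
      hY (fun _ => hX) ⟨fun _ => hf, fun y => ⟨PUnit.unit, hs y⟩⟩ q.hom hB
    exact key.2 (fun _ => hfq)
  · intro hf hfq
    obtain ⟨U, a, hae, has⟩ := hX.atlas
    have hφe : RepWith @Etale (a ≫ f.hom) := hf a hae
    have hφs : RepWith @Surjective (a ≫ f.hom) := by
      refine ⟨hφe.1, fun W Z g fst snd sq => ⟨?_⟩⟩
      refine Groth.Agent.H52.surjective_left_of_isPullback_of_surjective_points sq ?_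
      intro y
      obtain ⟨x, rfl⟩ := hs y
      obtain ⟨t, rfl⟩ := Groth.Agent.H52.surjective_points_of_repWith_surjective a has x
      exact ⟨t, Points.map_comp _ _ _⟩
    have h1 : RepWith @Etale (a ≫ (f ≫ q).hom) := hfq a hae
    have h2 : LocP @Etale ((a ≫ f.hom) ≫ q.hom) := by
      rw [Category.assoc]
      exact Groth.Agent.H52.isEtLocal_etale.locP_of_repWith' _ h1
    have h3 : LocP @Etale q.hom :=
      Groth.Agent.H52.isEtLocal_etale.locP_of_source_cover hB q.hom U (a ≫ f.hom) hφe hφs h2
    exact Groth.Agent.Lib.Helper54.isEtaleMor_of_locP_etale hY hB h3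

end Groth.Agent.S10559
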