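import Groth.Statements.S10562
import Groth.Agent.Lib.Helper54.Transfer
import Groth.Agent.Lib.Helper54.Noetherian

set_option autoImplicit false
universe u
open CategoryTheory CategoryTheory.Limits AlgebraicGeometry
open AlgSp

namespace Groth.Agent.S10562

/-- Let f : X ⟶ Y be a morphism of algebraic spaces over S which is locally of finite presentation, flat
and surjective. If X is locally Noetherian then Y is locally Noetherian. -/
theorem result {S : Scheme.{u}} {X Y : AlgSp.Space S} (f : X ⟶ Y)
    (hfp : AlgSp.LocP @LocallyOfFinitePresentation f.hom) (hfl : AlgSp.LocP @Flat f.hom)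
    (hs : AlgSp.IsSurjectiveMor f.hom) (hX : AlgSp.IsLocNoethSp X.obj) :
    AlgSp.IsLocNoethSp Y.obj := by
  obtain ⟨U, p, hpe, hps, hU⟩ := hX
  obtain ⟨W, q, hqe, hqs⟩ := Y.property.atlas
  obtain ⟨V, a, h, ha, sq, hrep⟩ := Groth.Agent.Lib.Helper54.exists_chart_square f.hom p hpe q hqe
  refine ⟨W, q, hqe, hqs, ?_⟩
  have hflat : Flat h.left := Groth.Agent.Lib.Helper54.locP_of_chart_square hfl hqe sq hrep
  have hlfp : LocallyOfFinitePresentation h.left :=
    Groth.Agent.Lib.Helper54.locP_of_chart_square hfp hqe sq hrep
  have hsurj : Surjective h.left :=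
    ⟨Groth.Agent.Lib.Helper54.surjective_of_chart_square sq
      (Groth.Agent.H52.surjective_points_of_repWith_surjective p hps) hs⟩
  have : IsLocallyNoetherian U.left := hU
  have : IsLocallyNoetherian V.left := LocallyOfFiniteType.isLocallyNoetherian a.left
  exact Groth.Agent.Lib.Helper54.isLocallyNoetherian_of_fppf h.left

end Groth.Agent.S10562
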