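import Groth.Statements.S10563
import Groth.Agent.S0565
import Groth.Agent.S4991
import Groth.Agent.Lib.Helper54.Noetherian
import Groth.Agent.H52.DimSp

set_option autoImplicit false
universe u
open CategoryTheory CategoryTheory.Limits AlgebraicGeometry
open AlgSp

namespace Groth.Agent.S10563

/-- Let f : X ⟶ Y be a morphism of algebraic spaces over S which is locally of finite presentation, flat
and surjective. If X is regular (etale locally a locally Noetherian scheme all of whose local rings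
are regular local rings) then Y is regular. -/
theorem result {S : Scheme.{u}} {X Y : AlgSp.Space S} (f : X ⟶ Y)
    (hfp : AlgSp.LocP @LocallyOfFinitePresentation f.hom) (hfl : AlgSp.LocP @Flat f.hom)
    (hs : AlgSp.IsSurjectiveMor f.hom)
    (hX : AlgSp.EtaleLocally (fun U => IsLocallyNoetherian U ∧ ∀ u : ↥U, IsRegularLocalRing ↥(U.presheaf.stalk u)) X.obj) :
    AlgSp.EtaleLocally (fun U => IsLocallyNoetherian U ∧ ∀ u : ↥U, IsRegularLocalRing ↥(U.presheaf.stalk u)) Y.obj := by
  have hYs : IsAlgSpace Y.obj := Y.property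
  obtain ⟨U₀, p₀, hp₀e, hp₀s, hU₀N, hU₀R⟩ := hX
  obtain ⟨V, b, hbe, hbs⟩ := hYs.atlas
  have hrep := hbe.rep
  have sq := hrep.isPullback (p₀ ≫ f.hom)
  obtain ⟨h, hh⟩ := (yon S).map_surjective (hrep.fst (p₀ ≫ f.hom))
  rw [← hh] at sq
  have hke : Etale (hrep.snd (p₀ ≫ f.hom)).left := hbe.property_snd _
  have hae : RepWith @Etale ((yon S).map (hrep.snd (p₀ ≫ f.hom)) ≫ p₀) :=
    (RepWith (S := S) @Etale).comp_mem _ _ ((repWith_yon_map_iff _ _).2 hke) hp₀e
  have comm : ((yon S).map (hrep.snd (p₀ ≫ f.hom)) ≫ p₀) ≫ f.hom = (yon S).map h ≫ b := by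
    rw [Category.assoc]; exact sq.w.symm
  have hflat : Flat h.left := hfl _ b h hae hbe comm
  have hlfp : LocallyOfFinitePresentation h.left := hfp _ b h hae hbe comm
  have hsurj : Surjective h.left := by
    refine ⟨Groth.Agent.H52.surjective_left_of_isPullback_of_surjective_points sq.flip ?_⟩
    intro y
    obtain ⟨x, rfl⟩ := hs y
    obtain ⟨t, rfl⟩ := Groth.Agent.H52.surjective_points_of_repWith_surjective p₀ hp₀s x
    exact ⟨t, Points.map_comp _ _ _⟩
  -- the chart `U₁` is regular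
  have hU₁N : IsLocallyNoetherian (hrep.pullback (p₀ ≫ f.hom)).left :=
    LocallyOfFiniteType.isLocallyNoetherian (hrep.snd (p₀ ≫ f.hom)).left
  have hU₁R : ∀ u : ↥(hrep.pullback (p₀ ≫ f.hom)).left,
      IsRegularLocalRing ↥((hrep.pullback (p₀ ≫ f.hom)).left.presheaf.stalk u) := by
    intro u
    rw [Groth.Agent.S4991.result (hrep.snd (p₀ ≫ f.hom)).left u
      ⟨⊤, trivial, by infer_instance⟩]
    exact hU₀R _
  -- descent to `V`
  have hVN : IsLocallyNoetherian V.left := Groth.Agent.Lib.Helper54.isLocallyNoetherian_of_fppf h.left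
  refine ⟨V, b, hbe, hbs, hVN, ?_⟩
  intro v
  obtain ⟨u, rfl⟩ := hsurj.surj v
  have := hU₁R u
  letI : Algebra ↥(V.left.presheaf.stalk (h.left u))
      ↥((hrep.pullback (p₀ ≫ f.hom)).left.presheaf.stalk u) := (h.left.stalkMap u).hom.toAlgebra
  have hloc : IsLocalHom (algebraMap ↥(V.left.presheaf.stalk (h.left u))
      ↥((hrep.pullback (p₀ ≫ f.hom)).left.presheaf.stalk u)) :=
    inferInstanceAs (IsLocalHom (h.left.stalkMap u).hom)
  have hfl' : Module.Flat ↥(V.left.presheaf.stalk (h.left u))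
      ↥((hrep.pullback (p₀ ≫ f.hom)).left.presheaf.stalk u) := Flat.stalkMap h.left u
  exact Groth.Agent.S0565.result _ ↥((hrep.pullback (p₀ ≫ f.hom)).left.presheaf.stalk u)

end Groth.Agent.S10563
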