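import Groth.Statements.S10564
import Groth.Agent.Lib.Helper54.Transfer
import Groth.Agent.Lib.Helper54.Reduced

set_option autoImplicit false
universe u
open CategoryTheory CategoryTheory.Limits AlgebraicGeometry
open AlgSp

namespace Groth.Agent.S10564

/-- For a smooth morphism f : X ⟶ Y of algebraic spaces over S, reducedness of Y implies reducedness of
X, and when f is moreover surjective, reducedness of X implies reducedness of Y. -/
theorem result {S : Scheme.{u}} {X Y : AlgSp.Space S} (f : X ⟶ Y) (hf : AlgSp.LocP @Smooth f.hom) :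
    (AlgSp.IsReducedSp Y.obj → AlgSp.IsReducedSp X.obj) ∧
    (AlgSp.IsSurjectiveMor f.hom → AlgSp.IsReducedSp X.obj → AlgSp.IsReducedSp Y.obj) := by
  constructor
  · rintro ⟨W, q, hqe, hqs, hW⟩
    obtain ⟨U, p, hpe, hps⟩ := X.property.atlas
    obtain ⟨V, a, h, ha, sq, hrep⟩ := Groth.Agent.Lib.Helper54.exists_chart_square f.hom p hpe q hqe
    refine ⟨U, p, hpe, hps, ?_⟩
    have hsm : Smooth h.left := Groth.Agent.Lib.Helper54.locP_of_chart_square hf hqe sq hrep
    have hsurj : Surjective a.left := hqs.property _ _ _ sq.flip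
    have : IsReduced W.left := hW
    have : IsReduced V.left := Groth.Agent.Lib.Helper54.isReduced_of_smooth_scheme h.left
    exact Groth.Agent.Lib.Helper54.isReduced_of_flat_of_surjective a.left
  · rintro hs ⟨U, p, hpe, hps, hU⟩
    obtain ⟨W, q, hqe, hqs⟩ := Y.property.atlas
    obtain ⟨V, a, h, ha, sq, hrep⟩ := Groth.Agent.Lib.Helper54.exists_chart_square f.hom p hpe q hqe
    refine ⟨W, q, hqe, hqs, ?_⟩
    have hsm : Smooth h.left := Groth.Agent.Lib.Helper54.locP_of_chart_square hf hqe sq hrep
    have hsurj : Surjective h.left :=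
      ⟨Groth.Agent.Lib.Helper54.surjective_of_chart_square sq
        (Groth.Agent.H52.surjective_points_of_repWith_surjective p hps) hs⟩
    have : IsReduced U.left := hU
    have : IsReduced V.left := Groth.Agent.Lib.Helper54.isReduced_of_etale_scheme a.left
    exact Groth.Agent.Lib.Helper54.isReduced_of_flat_of_surjective h.left

end Groth.Agent.S10564
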