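import Groth.Statements.S10571
import Groth.Statements.S10571
import Groth.Agent.H52.FibreProd
import Groth.Agent.Lib.Helper51.FiniteCofan
import Groth.Agent.Lib.Helper51.OverCoprod

set_option autoImplicit false
universe u
open CategoryTheory CategoryTheory.Limits AlgebraicGeometry
open AlgSp

namespace Groth.Agent.S10571

/-- Suppose a property P of morphisms between algebraic spaces over S satisfies: (1) if finitely many
morphisms X_i ⟶ Y_i have P then so does the induced morphism ∐ X_i ⟶ ∐ Y_i, (2) f : X ⟶ Y has P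
exactly when, for each affine scheme Z and each h_Z ⟶ Y, the base change h_Z ×_Y X ⟶ h_Z has P, and
(3) for every surjective flat morphism of affine schemes Z' ⟶ Z over S and every f : X ⟶ h_Z, if the
base change h_{Z'} ×_{h_Z} X ⟶ h_{Z'} has P then f has P. Under these hypotheses, P is local on the
base for the fpqc topology. (The published statement asks (1) only for two morphisms; its proof
applies (1) to a disjoint union indexed by a finite set that may be empty, and with (1) for two
morphisms only the property that holds for no morphism satisfies all three hypotheses without being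
fpqc local on the base, as the empty covering of the empty algebraic space shows. This row asks (1)
for all finite families, the empty one included.) -/
theorem result {S : Scheme.{u}} (P : MorphismProperty (AlgSp.Sp S))
    (h1 : ∀ ⦃ι : Type u⦄ [Finite ι] (Xi Yi : ι → AlgSp.Sp S) (fi : ∀ i, Xi i ⟶ Yi i)
      (cX : Cofan Xi) (cY : Cofan Yi) (hcX : IsColimit cX) (hcY : IsColimit cY) (m : cX.pt ⟶ cY.pt),
      (∀ i, AlgSp.IsAlgSpace (Xi i)) → (∀ i, AlgSp.IsAlgSpace (Yi i)) →
      AlgSp.IsAlgSpace cX.pt → AlgSp.IsAlgSpace cY.pt →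
      (∀ i, cX.inj i ≫ m = fi i ≫ cY.inj i) → (∀ i, P (fi i)) → P m)
    (h2 : ∀ ⦃X Y : AlgSp.Sp S⦄, AlgSp.IsAlgSpace X → AlgSp.IsAlgSpace Y → ∀ (f : X ⟶ Y),
      P f ↔ ∀ (Z : Over S), IsAffine Z.left → ∀ (g : (AlgSp.yon S).obj Z ⟶ Y) (W : AlgSp.Sp S)
        (fst : W ⟶ X) (snd : W ⟶ (AlgSp.yon S).obj Z), AlgSp.IsAlgSpace W → IsPullback fst snd f g → P snd)
    (h3 : ∀ ⦃Z Z' : Over S⦄ (c : Z' ⟶ Z), IsAffine Z.left → IsAffine Z'.left → Surjective c.left → Flat c.left →
      ∀ ⦃X X' : AlgSp.Sp S⦄ (f : X ⟶ (AlgSp.yon S).obj Z) (fst : X' ⟶ X) (f' : X' ⟶ (AlgSp.yon S).obj Z'),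
        AlgSp.IsAlgSpace X → AlgSp.IsAlgSpace X' → IsPullback fst f' f ((AlgSp.yon S).map c) → P f' → P f) :
    AlgSp.IsLocalOnBase (AlgSp.IsFpqcCover (S := S)) P := by
  intro ι Y Yi g hY hYi hcov X f hX Xi p q hXi sq
  constructor
  · intro hf i
    rw [h2 (hXi i) (hYi i)]
    intro Z hZ gZ W fst snd hW hpb
    exact (h2 hX hY f).1 hf Z hZ (gZ ≫ g i) W (fst ≫ q i) snd hW (hpb.paste_horiz (sq i))
  · intro hp
    rw [h2 hX hY]
    intro Z hZ gZ W fst snd hW hpb
    obtain ⟨m, Wj, c, hWaff, hflat, hsurj, hl⟩ := hcov.2 Z hZ gZ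
    choose idx l hl using hl
    -- the index type, in the right universe
    let κ : Type u := ULift.{u} (Fin m)
    let Yκ : κ → Scheme.{u} := fun j => (Wj j.down).left
    let fκ : ∀ j : κ, Yκ j ⟶ S := fun j => (Wj j.down).hom
    let cκ : ∀ j : κ, Over.mk (fκ j) ⟶ Z := fun j => Over.homMk (c j.down).left (Over.w (c j.down))
    let lκ : ∀ j : κ, (AlgSp.yon S).obj (Over.mk (fκ j)) ⟶ Yi (idx j.down) := fun j => l j.down
    have hlκ : ∀ j : κ, lκ j ≫ g (idx j.down) = (AlgSp.yon S).map (cκ j) ≫ gZ := fun j => hl j.down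
    have hYκaff : ∀ j : κ, IsAffine (Yκ j) := fun j => hWaff j.down
    let Z' : Over S := Groth.Agent.Lib.Helper51.sigmaOver Yκ fκ
    let cZ : Z' ⟶ Z := Groth.Agent.Lib.Helper51.sigmaOverDesc fκ cκ
    have hιc : ∀ j : κ, Groth.Agent.Lib.Helper51.sigmaOverι Yκ fκ j ≫ cZ = cκ j :=
      fun j => Groth.Agent.Lib.Helper51.sigmaOverι_desc fκ cκ j
    have hZ'aff : IsAffine Z'.left := by
      change IsAffine (∐ Yκ)
      infer_instance
    have hcZflat : Flat cZ.left := by
      haveI : IsZariskiLocalAtSource (@Flat : MorphismProperty Scheme.{u}) :=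
        HasRingHomProperty.instIsZariskiLocalAtSource
      refine Groth.Agent.Lib.Helper51.left_mem_of_forall_inj (P := (@Flat : MorphismProperty Scheme.{u}))
        (Cofan.mk (Groth.Agent.Lib.Helper51.sigmaOver Yκ fκ)
          (Groth.Agent.Lib.Helper51.sigmaOverι Yκ fκ))
        (Groth.Agent.Lib.Helper51.isColimitSigmaOver Yκ fκ) cZ (fun j => ?_)
      have : (Cofan.mk (Groth.Agent.Lib.Helper51.sigmaOver Yκ fκ)
          (Groth.Agent.Lib.Helper51.sigmaOverι Yκ fκ)).inj j ≫ cZ = cκ j := hιc j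
      rw [this]
      exact hflat j.down
    have hcZsurj : Surjective cZ.left := by
      refine ⟨fun z => ?_⟩
      obtain ⟨j, w, hw⟩ := hsurj z
      refine ⟨(Sigma.ι Yκ ⟨j⟩) w, ?_⟩
      have h1 : Sigma.ι Yκ ⟨j⟩ ≫ cZ.left = (c j).left := by
        have := congrArg (fun φ => φ.left) (hιc ⟨j⟩)
        exact this
      rw [← Scheme.Hom.comp_apply, h1]
      exact hw
    -- the pullbacks
    have hWκalg : ∀ j : κ, IsAlgSpace (pullback snd ((AlgSp.yon S).map (cκ j))) := fun j =>
      Groth.Agent.H52.isAlgSpace_of_isPullback (IsPullback.of_hasPullback _ _) hW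
        (IsAlgSpace.yon_obj _) (IsAlgSpace.yon_obj _)
    have hQalg : IsAlgSpace (pullback snd ((AlgSp.yon S).map cZ)) :=
      Groth.Agent.H52.isAlgSpace_of_isPullback (IsPullback.of_hasPullback _ _) hW
        (IsAlgSpace.yon_obj _) (IsAlgSpace.yon_obj _)
    -- P for the pieces
    have hPj : ∀ j : κ, P (pullback.snd snd ((AlgSp.yon S).map (cκ j))) := by
      intro j
      have hcomm : (pullback.fst snd ((AlgSp.yon S).map (cκ j)) ≫ fst) ≫ f =
          (pullback.snd snd ((AlgSp.yon S).map (cκ j)) ≫ lκ j) ≫ g (idx j.down) := by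
        rw [Category.assoc, hpb.w, pullback.condition_assoc, Category.assoc, hlκ]
      have htot : IsPullback (pullback.fst snd ((AlgSp.yon S).map (cκ j)) ≫ fst)
          (pullback.snd snd ((AlgSp.yon S).map (cκ j))) f
          ((AlgSp.yon S).map (cκ j) ≫ gZ) :=
        (IsPullback.of_hasPullback snd ((AlgSp.yon S).map (cκ j))).paste_horiz hpb
      have hleft : IsPullback ((sq (idx j.down)).lift _ _ hcomm)
          (pullback.snd snd ((AlgSp.yon S).map (cκ j))) (p (idx j.down)) (lκ j) := by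
        refine IsPullback.of_right ?_ ((sq (idx j.down)).lift_snd _ _ hcomm) (sq (idx j.down))
        rw [(sq (idx j.down)).lift_fst, hlκ]
        exact htot
      exact (h2 (hXi _) (hYi _) (p (idx j.down))).1 (hp _) (Over.mk (fκ j)) (hYκaff j) (lκ j) _ _ _
        (hWκalg j) hleft
    -- the coproduct
    let r : ∀ j : κ, pullback snd ((AlgSp.yon S).map (cκ j)) ⟶ pullback snd ((AlgSp.yon S).map cZ) :=
      fun j => pullback.lift (pullback.fst _ _)
        (pullback.snd _ _ ≫ (AlgSp.yon S).map (Groth.Agent.Lib.Helper51.sigmaOverι Yκ fκ j)) (by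
          rw [Category.assoc, ← Functor.map_comp, hιc, pullback.condition])
    have hr1 : ∀ j, r j ≫ pullback.fst _ _ = pullback.fst _ _ := fun j => pullback.lift_fst _ _ _
    have hr2 : ∀ j, r j ≫ pullback.snd _ _ =
        pullback.snd _ _ ≫ (AlgSp.yon S).map (Groth.Agent.Lib.Helper51.sigmaOverι Yκ fκ j) :=
      fun j => pullback.lift_snd _ _ _
    have hsqj : ∀ j : κ, IsPullback (r j) (pullback.snd snd ((AlgSp.yon S).map (cκ j)))
        (pullback.snd snd ((AlgSp.yon S).map cZ))
        ((AlgSp.yon S).map (Groth.Agent.Lib.Helper51.sigmaOverι Yκ fκ j)) := by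
      intro j
      refine IsPullback.of_right ?_ (hr2 j) (IsPullback.of_hasPullback snd ((AlgSp.yon S).map cZ))
      rw [hr1, ← Functor.map_comp, hιc]
      exact IsPullback.of_hasPullback _ _
    let cY : Cofan (fun j : κ => (AlgSp.yon S).obj (Over.mk (fκ j))) :=
      Cofan.mk ((AlgSp.yon S).obj Z')
        (fun j => (AlgSp.yon S).map (Groth.Agent.Lib.Helper51.sigmaOverι Yκ fκ j))
    have hcY : IsColimit cY := Groth.Agent.Lib.Helper51.isColimitYonSigmaOver Yκ fκ
    have vk := Groth.Agent.Lib.Helper51.isVanKampenColimit_sheaf_discrete (AlgSp.J S) cY hcY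
    let cQ : Cofan (fun j : κ => pullback snd ((AlgSp.yon S).map (cκ j))) :=
      Cofan.mk (pullback snd ((AlgSp.yon S).map cZ)) r
    have hcQ : IsColimit cQ :=
      ((vk cQ (Discrete.natTrans fun j => pullback.snd snd ((AlgSp.yon S).map (cκ j.as)))
        (pullback.snd snd ((AlgSp.yon S).map cZ))
        (by
          apply NatTrans.ext
          funext ⟨j⟩
          exact (hr2 j).symm)
        (NatTrans.Equifibered.of_discrete _)).2 (fun ⟨j⟩ => hsqj j)).some
    have hPm : P (pullback.snd snd ((AlgSp.yon S).map cZ)) :=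
      h1 (fun j : κ => pullback snd ((AlgSp.yon S).map (cκ j)))
        (fun j : κ => (AlgSp.yon S).obj (Over.mk (fκ j)))
        (fun j => pullback.snd snd ((AlgSp.yon S).map (cκ j))) cQ cY hcQ hcY
        (pullback.snd snd ((AlgSp.yon S).map cZ)) hWκalg (fun _ => IsAlgSpace.yon_obj _) hQalg
        (IsAlgSpace.yon_obj _) hr2 hPj
    exact h3 cZ hZ hZ'aff hcZsurj hcZflat snd (pullback.fst snd ((AlgSp.yon S).map cZ))
      (pullback.snd snd ((AlgSp.yon S).map cZ)) hW hQalg (IsPullback.of_hasPullback _ _) hPm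

end Groth.Agent.S10571
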