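import Groth.Statements.S10573
import Groth.Agent.Lib.Helper54.FpqcTop

set_option autoImplicit false
universe u
open CategoryTheory CategoryTheory.Limits AlgebraicGeometry
open AlgSp

namespace Groth.Agent.S10573

/-- Let {g_i : T_i ⟶ T} be a family of algebraic spaces over S forming an fpqc covering, and let W_i ⊂
|T_i| be open subsets (open subspaces) such that for all i, j the two projections T_i ×_T T_j ⟶ T_i,
T_j pull W_i and W_j back to the same subset of |T_i ×_T T_j|. Then there is a unique open subset W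
⊂ |T| with g_i⁻¹(W) = W_i for every i. -/
theorem result {S : Scheme.{u}} {ι : Type u} {T : AlgSp.Space S}
    (Ti : ι → AlgSp.Space S) (g : ∀ i, Ti i ⟶ T)
    (hg : AlgSp.IsFpqcCover (fun i => (Ti i).obj) (fun i => (g i).hom))
    (Wi : ∀ i, Set (AlgSp.Points (Ti i).obj)) (hW : ∀ i, IsOpen (Wi i))
    (hc : ∀ i j, AlgSp.Points.map (pullback.fst (g i).hom (g j).hom) ⁻¹' Wi i =
      AlgSp.Points.map (pullback.snd (g i).hom (g j).hom) ⁻¹' Wi j) :
    ∃! W : TopologicalSpace.Opens (AlgSp.Points T.obj), ∀ i, AlgSp.Points.map (g i).hom ⁻¹' (W : Set (AlgSp.Points T.obj)) = Wi i := by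
  have key : ∀ i, AlgSp.Points.map (g i).hom ⁻¹'
      (⋃ j, AlgSp.Points.map (g j).hom '' Wi j) = Wi i := by
    intro i
    ext ti
    constructor
    · intro hti
      obtain ⟨j, wj, hwj, hw⟩ := Set.mem_iUnion.1 hti
      obtain ⟨z, hz1, hz2⟩ := Groth.Agent.Lib.Helper54.exists_point_of_isPullback
        (IsPullback.of_hasPullback (g i).hom (g j).hom) ti wj hw.symm
      have : z ∈ AlgSp.Points.map (pullback.snd (g i).hom (g j).hom) ⁻¹' Wi j := by
        rw [Set.mem_preimage, hz2]; exact hwj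
      rw [← hc i j, Set.mem_preimage, hz1] at this
      exact this
    · intro hti
      exact Set.mem_iUnion.2 ⟨i, ti, hti, rfl⟩
  have hopen : IsOpen (⋃ j, AlgSp.Points.map (g j).hom '' Wi j) :=
    Groth.Agent.Lib.Helper54.isOpen_points_of_fpqcRefines (fun i => (g i).hom) hg.2 _
      (fun i => by rw [key i]; exact hW i)
  refine ⟨⟨_, hopen⟩, key, ?_⟩
  intro W' hW'
  ext x
  obtain ⟨i, xi, rfl⟩ := Groth.Agent.Lib.Helper54.points_surjective_of_isFpqcCover
    (fun i => (g i).hom) hg x
  have h1 : AlgSp.Points.map (g i).hom xi ∈ (W' : Set (AlgSp.Points T.obj)) ↔ xi ∈ Wi i := by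
    rw [← hW' i]; rfl
  have h2 : AlgSp.Points.map (g i).hom xi ∈ (⋃ j, AlgSp.Points.map (g j).hom '' Wi j) ↔ xi ∈ Wi i := by
    rw [← key i]; rfl
  exact h1.trans h2.symm

end Groth.Agent.S10573
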