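import Groth.Statements.S10579
import Groth.Agent.Lib.Helper54.GeomReducedSp
import Groth.Agent.Lib.Helper54.FpqcTop
import Groth.Agent.Lib.Helper81.GeomUnibranchDescentMain

set_option autoImplicit false
universe u
open CategoryTheory CategoryTheory.Limits AlgebraicGeometry
open AlgSp

namespace Groth.Agent.S10579

/-- Let f : X ⟶ Y be a morphism of algebraic spaces over S and x ∈ |X|. If X is geometrically unibranch
at x and f is flat at x, then Y is geometrically unibranch at the image point f(x). Here an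
algebraic space is geometrically unibranch at a point when for every etale chart from a scheme U and
every point u of U over it the local ring of U at u is geometrically unibranch. -/
theorem result {S : Scheme.{u}} {X Y : AlgSp.Space S} (f : X ⟶ Y) (x : AlgSp.Points X.obj)
    (hf : AlgSp.IsFlatAtMor f.hom x)
    (hX : ∀ (U : Over S) (a : (AlgSp.yon S).obj U ⟶ X.obj) (v : ↥U.left), AlgSp.RepWith @Etale a →
      AlgSp.Points.ofPt a v = x → CAlg2.IsGeomUnibranch ↥(U.left.presheaf.stalk v))
    (V : Over S) (b : (AlgSp.yon S).obj V ⟶ Y.obj) (w : ↥V.left) (hb : AlgSp.RepWith @Etale b)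
    (hw : AlgSp.Points.ofPt b w = AlgSp.Points.map f.hom x) :
    CAlg2.IsGeomUnibranch ↥(V.left.presheaf.stalk w) := by
  obtain ⟨U₀, a₀, u₀, ha₀, hu₀⟩ := Groth.Agent.Lib.Helper54.exists_chart_through X.property x
  have hE : (RepWith (S := S) @Etale).IsMultiplicative := repWith_isMultiplicative _
  have hrep := hb.rep
  have sq := hrep.isPullback (a₀ ≫ f.hom)
  obtain ⟨sn, hsn⟩ := (yon S).map_surjective (hrep.fst (a₀ ≫ f.hom))
  rw [← hsn] at sq
  have hfs : Etale (hrep.snd (a₀ ≫ f.hom)).left := hb.property_snd _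
  obtain ⟨z, hz1, hz2⟩ := Groth.Agent.Lib.Helper54.exists_pt_of_isPullback_yon sq (Points.ofScheme V w) u₀ (by
    rw [← Points.ofPt_eq_map_ofScheme, hw, ← hu₀, Points.map_ofPt])
  have hzw : sn.left z = w := by
    have := congrArg (Points.toScheme V) hz1
    rwa [Points.toScheme_ofPt, Points.toScheme_ofScheme] at this
  let a := (yon S).map (hrep.snd (a₀ ≫ f.hom)) ≫ a₀
  have ha : RepWith @Etale a := (RepWith @Etale).comp_mem _ _ ((repWith_yon_map_iff _ _).2 hfs) ha₀
  have haz : Points.ofPt a z = x := by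
    rw [Groth.Agent.Lib.Helper54.ofPt_yon_map_comp, hz2, hu₀]
  have hcomm : a ≫ f.hom = (yon S).map sn ≫ b := by
    simp only [a, Category.assoc]; exact sq.w.symm
  have hflat := hf a b sn z ha hb hcomm haz
  have hgu := hX _ a z ha haz
  subst hzw
  letI : Algebra ↥(V.left.presheaf.stalk (sn.left z)) ↥((hrep.pullback (a₀ ≫ f.hom)).left.presheaf.stalk z) :=
    (Scheme.Hom.stalkMap sn.left z).hom.toAlgebra
  haveI : Module.Flat ↥(V.left.presheaf.stalk (sn.left z)) ↥((hrep.pullback (a₀ ≫ f.hom)).left.presheaf.stalk z) :=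
    hflat
  haveI : IsLocalHom (algebraMap ↥(V.left.presheaf.stalk (sn.left z))
      ↥((hrep.pullback (a₀ ≫ f.hom)).left.presheaf.stalk z)) :=
    inferInstanceAs (IsLocalHom (Scheme.Hom.stalkMap sn.left z).hom)
  exact Groth.Agent.Lib.Helper81.GURad.isGeomUnibranch_of_flat_localHom hgu

end Groth.Agent.S10579
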