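import Groth.Statements.S10586
import Groth.Agent.Lib.Helper54.ThickEtSite
import Groth.Agent.Lib.Helper54.ThickEss3

set_option autoImplicit false
universe u
open CategoryTheory CategoryTheory.Limits AlgebraicGeometry
open AlgSp

namespace Groth.Agent.S10586

/-- Let i : X ⟶ X' be a thickening of algebraic spaces over S (representable, every base change to a
scheme a surjective closed immersion). Then base change along i is an equivalence from the small
etale site of X' (schemes etale over X') to the small etale site of X. -/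
theorem result {S : Scheme.{u}} {X X' : AlgSp.Space S} (i : X ⟶ X')
    (hi : AlgSp.IsThickMor i.hom) :
    (AlgSp.EtOver.bc hi.1).IsEquivalence := by

  have hF := Groth.Agent.Lib.Helper54.bc_faithful hi
  have hFu := Groth.Agent.Lib.Helper54.bc_full hi
  have hE : (AlgSp.EtOver.bc hi.1).EssSurj := by
    refine ⟨fun E₀ => ?_⟩
    obtain ⟨U', β, c, hβ, sq⟩ := Groth.Agent.Lib.Helper54.exists_etale_lift_of_isThickMor
      X'.property i.hom hi E₀.obj.hom E₀.property
    have sq' := hi.1.isPullback β
    let e := sq'.isoIsPullback _ _ sq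
    have he1 : e.hom ≫ E₀.obj.hom = hi.1.fst β := sq'.isoIsPullback_hom_fst _ _ sq
    have he2 : e.inv ≫ hi.1.fst β = E₀.obj.hom := sq'.isoIsPullback_inv_fst _ _ sq
    let φ := (yon S).preimageIso e
    have hφ1 : (yon S).map φ.hom = e.hom := by simp [φ]
    have hφ2 : (yon S).map φ.inv = e.inv := by simp [φ]
    refine ⟨AlgSp.EtOver.mk β hβ, ⟨?_⟩⟩
    refine ⟨AlgSp.EtOver.homMk φ.hom ?_, AlgSp.EtOver.homMk φ.inv ?_, ?_, ?_⟩
    · exact (congrArg (· ≫ E₀.obj.hom) hφ1).trans he1
    · exact (congrArg (· ≫ hi.1.fst β) hφ2).trans he2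
    · apply AlgSp.EtOver.hom_ext
      exact φ.hom_inv_id
    · apply AlgSp.EtOver.hom_ext
      exact φ.inv_hom_id
  exact {}


end Groth.Agent.S10586
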