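import Groth.Statements.S10588
import Groth.Agent.Lib.Helper54.ThickMor

set_option autoImplicit false
universe u
open CategoryTheory CategoryTheory.Limits AlgebraicGeometry
open AlgSp

namespace Groth.Agent.S10588

/-- Consider a morphism (f, f') from the thickening X ⊂ X' to the thickening Y ⊂ Y' of algebraic spaces
over S, meaning: i : X ⟶ X' and j : Y ⟶ Y' are thickenings (representable, every base change to a
scheme a surjective closed immersion) and i ≫ f' = f ≫ j. Then f is affine exactly when f' is, and f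
is integral if and only if f' is integral. -/
theorem result {S : Scheme.{u}} {X X' Y Y' : AlgSp.Space S} (i : X ⟶ X') (j : Y ⟶ Y')
    (f : X ⟶ Y) (f' : X' ⟶ Y')
    (hi : AlgSp.IsThickMor i.hom)
    (hj : AlgSp.IsThickMor j.hom) (w : i ≫ f' = f ≫ j) :
    (AlgSp.IsAffineMor f.hom ↔ AlgSp.IsAffineMor f'.hom) ∧
    (AlgSp.IsIntegralMor f.hom ↔ AlgSp.IsIntegralMor f'.hom) := by
  have w' : i.hom ≫ f'.hom = f.hom ≫ j.hom := congrArg (fun m => m.hom) w
  refine ⟨⟨fun hf Z' hZ' g' => ?_, fun hf' Z hZ g => ?_⟩, ⟨fun hf Z' hZ' g' => ?_, fun hf' Z hZ g => ?_⟩⟩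
  · have hjs : thick (hj.rep.snd g').left := hj.property_snd g'
    have : IsClosedImmersion (hj.rep.snd g').left := hjs.1
    have hZ : IsAffine (hj.rep.pullback g').left := isAffine_of_isAffineHom (hj.rep.snd g').left
    obtain ⟨W, iw, wf, sqW, hW⟩ := hf hZ (hj.rep.fst g')
    obtain ⟨T', sn, tf, cw, sqT, hcw, -⟩ := Groth.Agent.Lib.Helper54.exists_thick_of_baseChange
      X'.property Y'.property i.hom j.hom f.hom f'.hom hi hj w' g' iw wf sqW
    have : IsClosedImmersion cw.left := hcw.1
    exact ⟨T', sn, tf, sqT,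
      Groth.Agent.Lib.Helper18.ThickAffine.isAffine_of_isClosedImmersion_of_surjective cw.left
        hcw.2.surj⟩
  · obtain ⟨W', i', fst', sq1, hW'⟩ := hf' hZ (g ≫ j.hom)
    have sq := Groth.Agent.Lib.Helper54.isPullback_of_thick_comp i.hom j.hom f.hom f'.hom hi hj w'
      g i' fst' sq1
    have hs : thick (hi.rep.snd fst').left := hi.property_snd fst'
    have : IsClosedImmersion (hi.rep.snd fst').left := hs.1
    exact ⟨_, _, _, sq, isAffine_of_isAffineHom (hi.rep.snd fst').left⟩
  · have hjs : thick (hj.rep.snd g').left := hj.property_snd g'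
    have : IsClosedImmersion (hj.rep.snd g').left := hjs.1
    have hZ : IsAffine (hj.rep.pullback g').left := isAffine_of_isAffineHom (hj.rep.snd g').left
    obtain ⟨W, iw, wf, sqW, hW, hint⟩ := hf hZ (hj.rep.fst g')
    obtain ⟨T', sn, tf, cw, sqT, hcw, hcomm⟩ := Groth.Agent.Lib.Helper54.exists_thick_of_baseChange
      X'.property Y'.property i.hom j.hom f.hom f'.hom hi hj w' g' iw wf sqW
    have : IsClosedImmersion cw.left := hcw.1
    have : Surjective cw.left := hcw.2
    have hT' : IsAffine T'.left :=
      Groth.Agent.Lib.Helper18.ThickAffine.isAffine_of_isClosedImmersion_of_surjective cw.left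
        hcw.2.surj
    have hcl : cw.left ≫ sn.left = iw.left ≫ (hj.rep.snd g').left := by
      rw [← Over.comp_left, ← Over.comp_left, hcomm]
    have : UniversallyClosed (cw.left ≫ sn.left) := by
      rw [hcl]
      infer_instance
    have huc : UniversallyClosed sn.left := UniversallyClosed.of_comp_surjective cw.left sn.left
    exact ⟨T', sn, tf, sqT, hT',
      IsIntegralHom.iff_universallyClosed_and_isAffineHom.2 ⟨huc, inferInstance⟩⟩
  · obtain ⟨W', i', fst', sq1, hW', hint⟩ := hf' hZ (g ≫ j.hom)
    have sq := Groth.Agent.Lib.Helper54.isPullback_of_thick_comp i.hom j.hom f.hom f'.hom hi hj w'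
      g i' fst' sq1
    have hs : thick (hi.rep.snd fst').left := hi.property_snd fst'
    have : IsClosedImmersion (hi.rep.snd fst').left := hs.1
    refine ⟨_, _, _, sq, isAffine_of_isAffineHom (hi.rep.snd fst').left, ?_⟩
    rw [Over.comp_left]
    infer_instance

end Groth.Agent.S10588
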