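import Groth.Statements.S1059
import Groth.Agent.Lib.Helper28.EulerPerf

set_option autoImplicit false
universe u
open CategoryTheory CategoryTheory.Limits AlgebraicGeometry Opposite
attribute [local instance] HasDerivedCategory.standard
open Perf

open Groth.Agent.Lib.Helper28

namespace Groth.Agent.S1059

/-- Let E be a perfect object of D(O_X). Assuming the derived pullbacks to the points Spec κ(x) ⟶ X
exist, the function x ↦ χ_E(x) = Σᵢ (-1)ⁱ dim_{κ(x)} Hⁱ(E ⊗^L κ(x)) is locally constant on X. -/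
theorem result (X : Scheme.{u}) [∀ x : X, DCoh.HasLpull (X.fromSpecResidueField x)]
    (E : DCoh.D X) (hE : DCoh.IsPerfect E) :
    IsLocallyConstant (fun x : X => PerfD.eulerChar E x) := by
  rw [IsLocallyConstant.iff_exists_open]
  intro x₀
  obtain ⟨V, hx₀, P, hP, ⟨e⟩⟩ := (Groth.Agent.Lib.Helper30.PerfRestrict.isPerfect_iff E).1 hE x₀
  obtain ⟨a, b, hab⟩ := hP.1
  haveI : ∀ i, (P.X i).IsQuasicoherent := fun i =>
    Groth.Agent.Lib.Helper49.isQuasicoherent_of_isFinLocFree (P.X i) (hP.2 i)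
  choose n hn using fun i =>
    (Groth.Agent.Lib.Helper18.LimFinLocFree.isFinLocFree_iff_rankAt (P.X i)).1 (hP.2 i) ⟨x₀, hx₀⟩
  let W' : Set (V : Scheme.{u}) := ⋂ i ∈ Finset.Icc a b,
    {y | Groth.Agent.Lib.Helper18.LimFinLocFree.RankAt (P.X i) (n i) y}
  have hW' : IsOpen W' := isOpen_biInter_finset (fun i _ =>
    Groth.Agent.Lib.Helper18.LimFinLocFree.isOpen_setOf_rankAt (P.X i) (n i))
  have hmem : ∀ y : (V : Scheme.{u}), y ∈ W' ↔ ∀ i ∈ Finset.Icc a b,
      Groth.Agent.Lib.Helper18.LimFinLocFree.RankAt (P.X i) (n i) y := by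
    intro y
    simp only [W', Set.mem_iInter, Set.mem_setOf_eq]
  refine ⟨Subtype.val '' W', V.isOpen.isOpenMap_subtype_val _ hW',
    ⟨⟨x₀, hx₀⟩, (hmem _).2 (fun i _ => hn i), rfl⟩, ?_⟩
  rintro x ⟨⟨x, hx⟩, hxW, rfl⟩
  rw [Groth.Agent.Lib.Helper28.EulerPerf.eulerChar_eq E V P hP e a b hab x hx n ((hmem _).1 hxW),
    Groth.Agent.Lib.Helper28.EulerPerf.eulerChar_eq E V P hP e a b hab x₀ hx₀ n (fun i _ => hn i)]

end Groth.Agent.S1059
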