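import Groth.Statements.S10590
import Groth.Agent.Lib.Helper54.ThickLocal
import Groth.Agent.H53.SchImageRed
import Groth.Agent.H52.FibreProd

set_option autoImplicit false
universe u
open CategoryTheory CategoryTheory.Limits AlgebraicGeometry
open AlgSp

namespace Groth.Agent.S10590

/-- Consider a morphism (f, f') from the thickening X ⊂ X' to the thickening Y ⊂ Y' of algebraic spaces
over S, meaning: i : X ⟶ X' and j : Y ⟶ Y' are thickenings (representable, every base change to a
scheme a surjective closed immersion) and i ≫ f' = f ≫ j. Then f is representable by schemes if and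
only if f' is. -/
theorem result {S : Scheme.{u}} {X X' Y Y' : AlgSp.Space S} (i : X ⟶ X') (j : Y ⟶ Y')
    (f : X ⟶ Y) (f' : X' ⟶ Y')
    (hi : AlgSp.IsThickMor i.hom)
    (hj : AlgSp.IsThickMor j.hom) (w : i ≫ f' = f ≫ j) :
    AlgSp.Representable f.hom ↔ AlgSp.Representable f'.hom := by
  have w' : i.hom ≫ f'.hom = f.hom ≫ j.hom := congrArg (fun m => m.hom) w
  constructor
  · intro hf V' g'
    have sqP := IsPullback.of_hasPullback f'.hom g'
    have hP' : IsAlgSpace (pullback f'.hom g') :=
      Groth.Agent.H52.isAlgSpace_of_isPullback sqP X'.property Y'.property (IsAlgSpace.yon_obj V')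
    have sqV := hj.rep.isPullback g'
    have sqW := hf.isPullback (hj.rep.fst g')
    have big : IsPullback (hf.fst (hj.rep.fst g'))
        ((yon S).map (hf.snd (hj.rep.fst g')) ≫ (yon S).map (hj.rep.snd g'))
        (f.hom ≫ j.hom) g' := sqW.paste_vert sqV
    rw [← w'] at big
    have sqc := IsPullback.of_bot' big sqP
    have hc : IsThickMor (sqP.lift (hf.fst (hj.rep.fst g') ≫ i.hom)
        ((yon S).map (hf.snd (hj.rep.fst g')) ≫ (yon S).map (hj.rep.snd g'))
        (by rw [Category.assoc, big.w])) :=
      MorphismProperty.of_isPullback (P := RepWith (S := S) thick) sqc hi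
    obtain ⟨T', ⟨e⟩⟩ := Groth.Agent.Lib.Helper54.exists_iso_yon_of_isThickMor hP' _ hc
    obtain ⟨sn, hsn⟩ := (yon S).map_surjective (e.hom ≫ pullback.snd f'.hom g')
    refine ⟨T', sn, e.hom ≫ pullback.fst f'.hom g', ?_⟩
    rw [hsn]
    exact IsPullback.of_iso sqP e.symm (Iso.refl _) (Iso.refl _) (Iso.refl _) (by simp) (by simp)
      (by simp) (by simp)
  · intro hf' V g
    have hjm : Mono j.hom := Groth.Agent.H53.SchImageRed.mono_of_repWith_isClosedImmersion j.hom
      ⟨hj.rep, fun _ _ g fst snd sq => (hj.property g fst snd sq).1⟩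
    have sq1 := hf'.isPullback (g ≫ j.hom)
    have sq2 := hi.rep.isPullback (hf'.fst (g ≫ j.hom))
    have big := (sq2.flip.paste_horiz sq1.flip).flip
    rw [w', ← Functor.map_comp] at big
    exact ⟨_, _, _, Groth.Agent.Lib.Helper54.isPullback_of_comp_mono j.hom big⟩

end Groth.Agent.S10590
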