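import Groth.Statements.S10591
import Groth.Agent.H52.ThickLft
import Groth.Agent.H52.ThickChart
import Groth.Agent.H52.FibreDimChart
import Groth.Agent.H52.LqfSource
import Groth.Agent.S1312
import Groth.Agent.S1314

set_option autoImplicit false
universe u
open CategoryTheory CategoryTheory.Limits AlgebraicGeometry
open AlgSp

namespace Groth.Agent.S10591

/-- Consider a morphism (f, f') from the thickening X ⊂ X' to the thickening Y ⊂ Y' of algebraic spaces
over S, meaning: i : X ⟶ X' and j : Y ⟶ Y' are thickenings (representable, every base change to a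
scheme a surjective closed immersion) and i ≫ f' = f ≫ j. Assume moreover that the square is
cartesian (X = Y ×_{Y'} X') and that i is a finite order thickening (for one n, on every affine
etale scheme chart of X' the (n+1)-st power of the ideal of the base change of X vanishes). Then f
is locally of finite type of relative dimension d, resp. locally of finite type, resp. locally
quasi-finite, resp. unramified, if and only if f' is (relative dimension d at a point: some chart
diagram through the point has fibre of local dimension d there) (all in the etale-local sense,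
locally quasi-finite and unramified including locally of finite type). -/
theorem result {S : Scheme.{u}} {X X' Y Y' : AlgSp.Space S} (i : X ⟶ X') (j : Y ⟶ Y')
    (f : X ⟶ Y) (f' : X' ⟶ Y')
    (hi : AlgSp.IsThickMor i.hom)
    (hj : AlgSp.IsThickMor j.hom) (w : i ≫ f' = f ≫ j)
    (hcart : IsPullback i.hom f.hom f'.hom j.hom)
    (hfo : AlgSp.IsFinThickMor i.hom) (d : ℕ) :
    ((AlgSp.LocP @LocallyOfFiniteType f.hom ∧
        ∀ x, AlgSp.HasAtMor (fun _ _ h u => FlatMor.fibreDimAt h u = (d : WithBot ℕ∞)) f.hom x) ↔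
      (AlgSp.LocP @LocallyOfFiniteType f'.hom ∧
        ∀ x', AlgSp.HasAtMor (fun _ _ h u => FlatMor.fibreDimAt h u = (d : WithBot ℕ∞)) f'.hom x')) ∧
    (AlgSp.LocP @LocallyOfFiniteType f.hom ↔ AlgSp.LocP @LocallyOfFiniteType f'.hom) ∧
    (AlgSp.LocP (@LocallyQuasiFinite ⊓ @LocallyOfFiniteType) f.hom ↔
      AlgSp.LocP (@LocallyQuasiFinite ⊓ @LocallyOfFiniteType) f'.hom) ∧
    (AlgSp.LocP (@LocallyOfFiniteType ⊓ @FormallyUnramified) f.hom ↔
      AlgSp.LocP (@LocallyOfFiniteType ⊓ @FormallyUnramified) f'.hom) := by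
  have w' : i.hom ≫ f'.hom = f.hom ≫ j.hom := congrArg (fun k => k.hom) w
  obtain ⟨U, U', V, V', a, a', b, b', iU, jV, h, h', hae, has, ha'e, ha's, hbe, hbs, hb'e, hb's,
    sqU, sqV, comm, comm', hsq, hiU, hjV, hpb⟩ := Groth.Agent.H52.exists_thick_charts X'.property
      Y'.property i.hom j.hom f.hom f'.hom hi hj w'
  have hc := hpb hcart
  obtain ⟨n, -, hpow⟩ := hfo
  haveI : IsClosedImmersion iU.left := hiU.1
  haveI : IsClosedImmersion jV.left := hjV.1
  have hker : iU.left.ker ^ (n + 1) = ⊥ := Groth.Agent.H52.ker_pow_eq_bot_of_affLocT hpow ha'e sqU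
  have eLft : LocallyOfFiniteType h.left ↔ LocallyOfFiniteType h'.left := by
    constructor
    · intro H
      refine Groth.Agent.H52.locallyOfFiniteType_of_thickening_source hc (fun O => ⟨n + 1, ?_⟩)
      have h1 := congrArg (fun I : U'.left.IdealSheafData => I.ideal O) hker
      simpa using h1
    · intro H
      exact MorphismProperty.of_isPullback hc H
  have key : ∀ (P : MorphismProperty Scheme.{u}) (_ : Groth.Agent.H52.IsEtLocal P),
      (P h.left ↔ P h'.left) → (LocP P f.hom ↔ LocP P f'.hom) := by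
    intro P hP e
    constructor
    · intro H
      exact hP.locP_of_chart f'.hom a' b' h' ha'e ha's hb'e comm' (e.1 (H a b h hae hbe comm))
    · intro H
      exact hP.locP_of_chart f.hom a b h hae has hbe comm (e.2 (H a' b' h' ha'e hb'e comm'))
  have eLqf : ((@LocallyQuasiFinite : MorphismProperty Scheme.{u}) ⊓ @LocallyOfFiniteType) h.left ↔
      ((@LocallyQuasiFinite : MorphismProperty Scheme.{u}) ⊓ @LocallyOfFiniteType) h'.left := by
    constructor
    · rintro ⟨h1, h2⟩
      have h2' : LocallyOfFiniteType h'.left := eLft.1 h2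
      haveI : LocallyOfFiniteType h.left := h2
      exact ⟨(Groth.Agent.S1312.result iU.left jV.left h.left h'.left hjV hc).1 h1, h2'⟩
    · rintro ⟨h1, h2⟩
      have h2' : LocallyOfFiniteType h.left := eLft.2 h2
      haveI : LocallyOfFiniteType h'.left := h2
      exact ⟨(Groth.Agent.S1312.result iU.left jV.left h.left h'.left hjV hc).2 h1, h2'⟩
  have eUnr : ((@LocallyOfFiniteType : MorphismProperty Scheme.{u}) ⊓ @FormallyUnramified) h.left ↔
      ((@LocallyOfFiniteType : MorphismProperty Scheme.{u}) ⊓ @FormallyUnramified) h'.left := by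
    constructor
    · rintro ⟨h2, h1⟩
      have h2' : LocallyOfFiniteType h'.left := eLft.1 h2
      haveI : LocallyOfFiniteType h.left := h2
      exact ⟨h2', (Groth.Agent.S1314.result iU.left jV.left h.left h'.left hjV hc).1 h1⟩
    · rintro ⟨h2, h1⟩
      have h2' : LocallyOfFiniteType h.left := eLft.2 h2
      haveI : LocallyOfFiniteType h'.left := h2
      exact ⟨h2', (Groth.Agent.S1314.result iU.left jV.left h.left h'.left hjV hc).2 h1⟩
  have cLft := key _ Groth.Agent.H52.isEtLocal_lft eLft
  refine ⟨?_, cLft, key _ Groth.Agent.H52.isEtLocal_lqf_lft eLqf,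
    key _ Groth.Agent.H52.isEtLocal_unramified eUnr⟩
  have hsurjU : Function.Surjective iU.left := hiU.2.surj
  constructor
  · rintro ⟨hL, hD⟩
    have hL' := cLft.1 hL
    refine ⟨hL', fun x' => ?_⟩
    obtain ⟨q, rfl⟩ := Groth.Agent.H52.surjective_points_of_repWith_surjective a' ha's x'
    obtain ⟨u', rfl⟩ := (Points.schemeEquiv U').surjective q
    obtain ⟨u, rfl⟩ := hsurjU u'
    obtain ⟨U₁, V₁, a₁, b₁, h₁, u₁, ha₁, hb₁, comm₁, hu₁, hQ⟩ := hD (Points.ofPt a u)
    have hlft1 : LocallyOfFiniteType h₁.left := hL a₁ b₁ h₁ ha₁ hb₁ comm₁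
    have hlftU : LocallyOfFiniteType h.left := hL a b h hae hbe comm
    haveI hlftU' : LocallyOfFiniteType h'.left := hL' a' b' h' ha'e hb'e comm'
    have e1 := Groth.Agent.H52.fibreDimAt_eq_of_two_charts f.hom a₁ b₁ h₁ ha₁ hb₁ comm₁ hlft1
      a b h hae hbe comm hlftU u₁ u hu₁
    have e2 := Groth.Agent.Lib.Helper55.fibreDimAt_eq_of_isPullback h'.left jV.left iU.left
      h.left hc u
    refine ⟨U', V', a', b', h', iU.left u, ha'e, hb'e, comm', ?_, ?_⟩
    · exact Points.ofPt_eq_map_ofScheme a' _
    · change FlatMor.fibreDimAt h'.left (iU.left u) = _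
      rw [← e2, ← e1]
      exact hQ
  · rintro ⟨hL', hD'⟩
    have hL := cLft.2 hL'
    refine ⟨hL, fun x => ?_⟩
    obtain ⟨q, rfl⟩ := Groth.Agent.H52.surjective_points_of_repWith_surjective a has x
    obtain ⟨u, rfl⟩ := (Points.schemeEquiv U).surjective q
    obtain ⟨U₁, V₁, a₁, b₁, h₁, u₁, ha₁, hb₁, comm₁, hu₁, hQ⟩ :=
      hD' (Points.ofPt a' (iU.left u))
    have hlft1 : LocallyOfFiniteType h₁.left := hL' a₁ b₁ h₁ ha₁ hb₁ comm₁
    haveI hlftU' : LocallyOfFiniteType h'.left := hL' a' b' h' ha'e hb'e comm'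
    have e1 := Groth.Agent.H52.fibreDimAt_eq_of_two_charts f'.hom a₁ b₁ h₁ ha₁ hb₁ comm₁ hlft1
      a' b' h' ha'e hb'e comm' hlftU' u₁ (iU.left u) hu₁
    have e2 := Groth.Agent.Lib.Helper55.fibreDimAt_eq_of_isPullback h'.left jV.left iU.left
      h.left hc u
    refine ⟨U, V, a, b, h, u, hae, hbe, comm, Points.ofPt_eq_map_ofScheme a u, ?_⟩
    change FlatMor.fibreDimAt h.left u = _
    rw [e2, ← e1]
    exact hQ

end Groth.Agent.S10591
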