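import Groth.Statements.S10592
import Groth.Agent.Lib.Helper78.DeformImm
import Groth.Agent.S10591

set_option autoImplicit false
universe u
open CategoryTheory CategoryTheory.Limits AlgebraicGeometry
open AlgSp

namespace Groth.Agent.S10592

/-- Consider a morphism (f, f') from the thickening X ⊂ X' to the thickening Y ⊂ Y' of algebraic spaces
over S, meaning: i : X ⟶ X' and j : Y ⟶ Y' are thickenings (representable, every base change to a
scheme a surjective closed immersion) and i ≫ f' = f ≫ j. Assume moreover that the square is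
cartesian (X = Y ×_{Y'} X') and that i is a finite order thickening (for one n, on every affine
etale scheme chart of X' the (n+1)-st power of the ideal of the base change of X vanishes). Then f
is a closed immersion, resp. proper, resp. finite, resp. an immersion, if and only if f' is
(immersions of algebraic spaces being the representable ones). -/
theorem result {S : Scheme.{u}} {X X' Y Y' : AlgSp.Space S} (i : X ⟶ X') (j : Y ⟶ Y')
    (f : X ⟶ Y) (f' : X' ⟶ Y')
    (hi : AlgSp.IsThickMor i.hom)
    (hj : AlgSp.IsThickMor j.hom) (w : i ≫ f' = f ≫ j)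
    (hcart : IsPullback i.hom f.hom f'.hom j.hom)
    (hfo : AlgSp.IsFinThickMor i.hom) :
    (AlgSp.RepWith @IsClosedImmersion f.hom ↔ AlgSp.RepWith @IsClosedImmersion f'.hom) ∧
    (AlgSp.IsProperMor f.hom ↔ AlgSp.IsProperMor f'.hom) ∧
    (AlgSp.IsFiniteMor f.hom ↔ AlgSp.IsFiniteMor f'.hom) ∧
    (AlgSp.RepWith @IsImmersion f.hom ↔ AlgSp.RepWith @IsImmersion f'.hom) := by
  obtain ⟨-, hL, hlqf, -⟩ := Groth.Agent.S10591.result i j f f' hi hj w hcart hfo 0
  have hX : IsAlgSpace X.obj := X.property
  have hY : IsAlgSpace Y.obj := Y.property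
  have key : ∀ (hft : LocP @LocallyOfFiniteType f.hom),
      (IsFiniteMor f.hom ↔ IsFiniteMor f'.hom) ∧
      (RepWith @IsClosedImmersion f.hom ↔ RepWith @IsClosedImmersion f'.hom) ∧
      (RepWith @IsImmersion f.hom ↔ RepWith @IsImmersion f'.hom) ∧
      (IsProperMor f.hom ↔ IsProperMor f'.hom) := fun hft =>
    Groth.Agent.Lib.Helper78.DeformImm.deform_lft i j f f' hi hj w hcart hft (hL.1 hft) hlqf
  -- each of the four properties implies locally of finite type
  have lft_of_imm : ∀ {A B : AlgSp.Space S} (φ : A ⟶ B), RepWith @IsImmersion φ.hom →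
      LocP @LocallyOfFiniteType φ.hom := fun φ h =>
    Groth.Agent.H52.isEtLocal_lft.locP_of_repWith' φ.hom
      (Groth.Agent.H53.repWith_of_le (fun A B ψ hψ => by
        have : IsImmersion ψ := hψ
        change LocallyOfFiniteType ψ
        infer_instance) h)
  have imm_of_ci : ∀ {A B : AlgSp.Space S} (φ : A ⟶ B), RepWith @IsClosedImmersion φ.hom →
      RepWith @IsImmersion φ.hom := fun φ h =>
    Groth.Agent.H53.repWith_of_le (fun A B ψ hψ => by
        have : IsClosedImmersion ψ := hψ
        change IsImmersion ψ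
        infer_instance) h
  have lft_of_fin : ∀ {A B : AlgSp.Space S} (φ : A ⟶ B), IsFiniteMor φ.hom →
      LocP @LocallyOfFiniteType φ.hom := fun φ h U V a b k ha hb comm =>
    (Groth.Agent.Lib.Helper54.locP_lqf_of_isFiniteMor φ.hom h a b k ha hb comm).2
  refine ⟨⟨fun h => ?_, fun h => ?_⟩, ⟨fun h => ?_, fun h => ?_⟩, ⟨fun h => ?_, fun h => ?_⟩,
    ⟨fun h => ?_, fun h => ?_⟩⟩
  · exact (key (lft_of_imm f (imm_of_ci f h))).2.1.1 h
  · exact (key (hL.2 (lft_of_imm f' (imm_of_ci f' h)))).2.1.2 h
  · exact (key h.2.1.1).2.2.2.1 h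
  · exact (key (hL.2 h.2.1.1)).2.2.2.2 h
  · exact (key (lft_of_fin f h)).1.1 h
  · exact (key (hL.2 (lft_of_fin f' h))).1.2 h
  · exact (key (lft_of_imm f h)).2.2.1.1 h
  · exact (key (hL.2 (lft_of_imm f' h))).2.2.1.2 h

end Groth.Agent.S10592
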