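import Groth.Statements.S10593
import Groth.Agent.H52.ThickChart
import Groth.Agent.H52.LqfSource
import Groth.Agent.H52.LocPInst
import Groth.Agent.S1312
import Groth.Agent.S1314

set_option autoImplicit false
universe u
open CategoryTheory CategoryTheory.Limits AlgebraicGeometry
open AlgSp

namespace Groth.Agent.S10593

/-- Consider a morphism (f, f') from the thickening X ⊂ X' to the thickening Y ⊂ Y' of algebraic spaces
over S, meaning: i : X ⟶ X' and j : Y ⟶ Y' are thickenings (representable, every base change to a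
scheme a surjective closed immersion) and i ≫ f' = f ≫ j. Assume moreover that the square is
cartesian (X = Y ×_{Y'} X') and that f and f' are locally of finite type. Then f is locally
quasi-finite, resp. unramified, if and only if f' is (etale-local sense, both notions including
locally of finite type). -/
theorem result {S : Scheme.{u}} {X X' Y Y' : AlgSp.Space S} (i : X ⟶ X') (j : Y ⟶ Y')
    (f : X ⟶ Y) (f' : X' ⟶ Y')
    (hi : AlgSp.IsThickMor i.hom)
    (hj : AlgSp.IsThickMor j.hom) (w : i ≫ f' = f ≫ j)
    (hcart : IsPullback i.hom f.hom f'.hom j.hom)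
    (hft : AlgSp.LocP @LocallyOfFiniteType f.hom) (hft' : AlgSp.LocP @LocallyOfFiniteType f'.hom) :
    (AlgSp.LocP (@LocallyQuasiFinite ⊓ @LocallyOfFiniteType) f.hom ↔
      AlgSp.LocP (@LocallyQuasiFinite ⊓ @LocallyOfFiniteType) f'.hom) ∧
    (AlgSp.LocP (@LocallyOfFiniteType ⊓ @FormallyUnramified) f.hom ↔
      AlgSp.LocP (@LocallyOfFiniteType ⊓ @FormallyUnramified) f'.hom) := by
  have w' : i.hom ≫ f'.hom = f.hom ≫ j.hom := congrArg (fun k => k.hom) w
  obtain ⟨U, U', V, V', a, a', b, b', iU, jV, h, h', hae, has, ha'e, ha's, hbe, hbs, hb'e, hb's,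
    sqU, sqV, comm, comm', hsq, hiU, hjV, hpb⟩ := Groth.Agent.H52.exists_thick_charts X'.property
      Y'.property i.hom j.hom f.hom f'.hom hi hj w'
  have hc := hpb hcart
  have hlft : LocallyOfFiniteType h.left := hft a b h hae hbe comm
  have hlft' : LocallyOfFiniteType h'.left := hft' a' b' h' ha'e hb'e comm'
  have e1 := Groth.Agent.S1312.result iU.left jV.left h.left h'.left hjV hc
  have e2 := Groth.Agent.S1314.result iU.left jV.left h.left h'.left hjV hc
  refine ⟨⟨fun H => ?_, fun H => ?_⟩, ⟨fun H => ?_, fun H => ?_⟩⟩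
  · have := H a b h hae hbe comm
    exact Groth.Agent.H52.isEtLocal_lqf_lft.locP_of_chart f'.hom a' b' h' ha'e ha's hb'e comm'
      (⟨e1.1 this.1, hlft'⟩ : LocallyQuasiFinite h'.left ∧ LocallyOfFiniteType h'.left)
  · have := H a' b' h' ha'e hb'e comm'
    exact Groth.Agent.H52.isEtLocal_lqf_lft.locP_of_chart f.hom a b h hae has hbe comm
      (⟨e1.2 this.1, hlft⟩ : LocallyQuasiFinite h.left ∧ LocallyOfFiniteType h.left)
  · have := H a b h hae hbe comm
    exact Groth.Agent.H52.isEtLocal_unramified.locP_of_chart f'.hom a' b' h' ha'e ha's hb'e comm'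
      (⟨hlft', e2.1 this.2⟩ : LocallyOfFiniteType h'.left ∧ FormallyUnramified h'.left)
  · have := H a' b' h' ha'e hb'e comm'
    exact Groth.Agent.H52.isEtLocal_unramified.locP_of_chart f.hom a b h hae has hbe comm
      (⟨hlft, e2.2 this.2⟩ : LocallyOfFiniteType h.left ∧ FormallyUnramified h.left)

end Groth.Agent.S10593
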