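import Groth.Statements.S10595
import Groth.Agent.H52.ThickFlat
import Groth.Agent.S1317

set_option autoImplicit false
universe u
open CategoryTheory CategoryTheory.Limits AlgebraicGeometry
open AlgSp

namespace Groth.Agent.S10595

/-- Let iB : B ⟶ B' be a finite order thickening of algebraic spaces over S (a thickening such that for
one n the (n+1)-st power of the ideal vanishes on every affine etale scheme chart), f' : X' ⟶ Y' a
morphism of algebraic spaces over B' (via g' : Y' ⟶ B') with X' flat over B', and f : X ⟶ Y, g : Y ⟶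
B its base change to B (both squares to iB cartesian, iX ≫ f' = f ≫ iY). If f is flat, then f' is
flat and g' : Y' ⟶ B' is flat at every point of Y' in the image of f'. -/
theorem result {S : Scheme.{u}} {X X' Y Y' B B' : AlgSp.Space S} (iX : X ⟶ X') (iY : Y ⟶ Y') (iB : B ⟶ B')
    (f : X ⟶ Y) (f' : X' ⟶ Y') (g : Y ⟶ B) (g' : Y' ⟶ B')
    (hcX : IsPullback iX.hom (f ≫ g).hom (f' ≫ g').hom iB.hom) (hcY : IsPullback iY.hom g.hom g'.hom iB.hom)
    (w : iX ≫ f' = f ≫ iY)
    (hB : AlgSp.IsFinThickMor iB.hom) (hflat : AlgSp.LocP @Flat (f' ≫ g').hom)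
    (hf : AlgSp.LocP @Flat f.hom) :
    AlgSp.LocP @Flat f'.hom ∧
    ∀ x' : AlgSp.Points X'.obj, AlgSp.IsFlatAtMor g'.hom (AlgSp.Points.map f'.hom x') := by
  obtain ⟨n, hthick, hpow⟩ := hB
  have hX' : IsAlgSpace X'.obj := X'.property
  have hY' : IsAlgSpace Y'.obj := Y'.property
  have hB' : IsAlgSpace B'.obj := B'.property
  have w' : iX.hom ≫ f'.hom = f.hom ≫ iY.hom := congrArg (fun k => k.hom) w
  have hcX' : IsPullback iX.hom (f.hom ≫ g.hom) (f'.hom ≫ g'.hom) iB.hom := hcX
  have hflat' : LocP @Flat (f'.hom ≫ g'.hom) := hflat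
  have hiY : IsThickMor iY.hom :=
    MorphismProperty.of_isPullback (P := RepWith (S := S) thick) hcY.flip hthick
  have hiX : IsThickMor iX.hom :=
    MorphismProperty.of_isPullback (P := RepWith (S := S) thick) hcX'.flip hthick
  obtain ⟨W', cW', hcW'e, hcW's⟩ := hB'.atlas
  obtain ⟨V', b', gV', hb'e, hb's, commV'⟩ :=
    Groth.Agent.H52.exists_surjective_chart_over hY' g'.hom cW' hcW'e hcW's
  obtain ⟨U', a', fU', ha'e, ha's, commU'⟩ :=
    Groth.Agent.H52.exists_surjective_chart_over hX' f'.hom b' hb'e hb's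
  have sqW := hthick.rep.isPullback cW'
  have sqV := hiY.rep.isPullback b'
  have sqU := hiX.rep.isPullback a'
  have hae : RepWith @Etale (hiX.rep.fst a') := MorphismProperty.of_isPullback sqU.flip ha'e
  have hbe : RepWith @Etale (hiY.rep.fst b') := MorphismProperty.of_isPullback sqV.flip hb'e
  obtain ⟨gV, hgV1, hgV2, hgVc⟩ :=
    Groth.Agent.H52.exists_chart_map_of_isPullback hcY.w sqV sqW commV'
  obtain ⟨fU, hfU1, hfU2, -⟩ := Groth.Agent.H52.exists_chart_map_of_isPullback w' sqU sqV commU'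
  have commUW' : a' ≫ f'.hom ≫ g'.hom = (yon S).map (fU' ≫ gV') ≫ cW' := by
    rw [← Category.assoc, commU', Category.assoc, commV', Functor.map_comp, Category.assoc]
  obtain ⟨k, hk1, hk2, hkc⟩ :=
    Groth.Agent.H52.exists_chart_map_of_isPullback hcX'.w sqU sqW commUW'
  have hk : k = fU ≫ gV := by
    apply (yon S).map_injective
    apply sqW.hom_ext
    · rw [← hk1, Functor.map_comp, Category.assoc, ← hgV1]
      rw [← Category.assoc, hfU1, Category.assoc]
    · have e2 := hfU2 =≫ gV'
      simp only [Category.assoc] at e2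
      rw [← Functor.map_comp, ← hk2, ← Functor.map_comp, Category.assoc, ← hgV2, e2]
  subst hk
  have hthW : thick (hthick.rep.snd cW').left := hthick.property_snd cW'
  have : IsClosedImmersion (hthick.rep.snd cW').left := hthW.1
  have hS : MoreMor.IsFiniteOrderThickening (hthick.rep.snd cW').left :=
    ⟨hthW, n + 1, Groth.Agent.H52.ker_pow_eq_bot_of_affLocT hpow hcW'e sqW⟩
  have hFl : Flat ((fU' ≫ gV').left) := hflat' a' cW' (fU' ≫ gV') ha'e hcW'e commUW'
  have hFl' : Flat (fU'.left ≫ gV'.left) := hFl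
  have hfUflat : Flat fU.left := hf _ _ fU hae hbe hfU1
  have wU : (hiX.rep.snd a').left ≫ fU'.left = fU.left ≫ (hiY.rep.snd b').left :=
    congrArg (fun t => t.left) hfU2
  have hfU'flat : Flat fU'.left :=
    (Groth.Agent.S1317.result (hiX.rep.snd a').left (hiY.rep.snd b').left (hthick.rep.snd cW').left
      fU.left fU'.left gV.left gV'.left hS (hkc hcX') (hgVc hcY) wU).1 hfUflat
  have hlocf' : LocP @Flat f'.hom :=
    Groth.Agent.H52.isEtLocal_flat.locP_of_chart f'.hom a' b' fU' ha'e ha's hb'e commU' hfU'flat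
  exact ⟨hlocf', fun x' =>
    Groth.Agent.H52.isFlatAtMor_of_locP_flat_comp hX' hY' f'.hom g'.hom hlocf' hflat' x'⟩

end Groth.Agent.S10595
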