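import Groth.Statements.S5338
import Mathlib
import Groth.Agent.Lib.Helper71.FlatQuot

set_option autoImplicit false
universe u
open CategoryTheory CategoryTheory.Limits MonoidalCategory CartesianMonoidalCategory MonObj GrpObj AlgebraicGeometry
open SGA3

namespace Groth.Agent.S5338

-- HELPERS BEGIN
section Nak

/-- nilpotent Nakayama (same statement as helper18's `submodule_eq_top_of_sup_smul_top`). -/
theorem submodule_eq_top_of_sup_smul_top {A M : Type*} [CommRing A] [AddCommGroup M] [Module A M]
    (K : Ideal A) (m : ℕ) (hK : K ^ m = ⊥) (E : Submodule A M)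
    (h : ⊤ ≤ E ⊔ K • (⊤ : Submodule A M)) : E = ⊤ := by
  have key : ∀ j : ℕ, ⊤ ≤ E ⊔ (K ^ j) • (⊤ : Submodule A M) := by
    intro j
    induction j with
    | zero => simp
    | succ j ih =>
      calc ⊤ ≤ E ⊔ K • (⊤ : Submodule A M) := h
        _ ≤ E ⊔ K • (E ⊔ (K ^ j) • (⊤ : Submodule A M)) :=
          sup_le_sup le_rfl (Submodule.smul_mono le_rfl ih)
        _ = E ⊔ (K • E ⊔ K • (K ^ j) • (⊤ : Submodule A M)) := by rw [Submodule.smul_sup]
        _ ≤ E ⊔ (K ^ (j + 1)) • (⊤ : Submodule A M) := by
          refine sup_le le_sup_left (sup_le (Submodule.smul_le_right.trans le_sup_left) ?_)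
          rw [← Submodule.mul_smul, ← pow_succ']
          exact le_sup_right
  have := key m
  rw [hK, Submodule.bot_smul, sup_bot_eq] at this
  exact top_le_iff.mp this

/-- ideal version: `K ≤ K' ⊔ L * K` with `L` nilpotent gives `K ≤ K'`. -/
theorem ideal_le_of_le_sup_mul {P : Type*} [CommRing P] (L K K' : Ideal P) (m : ℕ)
    (hL : L ^ m = ⊥) (h : K ≤ K' ⊔ L * K) : K ≤ K' := by
  have key : ∀ j : ℕ, K ≤ K' ⊔ L ^ j * K := by
    intro j
    induction j with
    | zero => simp
    | succ j ih =>
      calc K ≤ K' ⊔ L * K := h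
        _ ≤ K' ⊔ L * (K' ⊔ L ^ j * K) := sup_le_sup le_rfl (Ideal.mul_mono le_rfl ih)
        _ = K' ⊔ (L * K' ⊔ L * (L ^ j * K)) := by rw [Ideal.mul_sup]
        _ ≤ K' ⊔ L ^ (j + 1) * K := by
          have h1 : L * K' ≤ K' := Ideal.mul_le_right
          have h2 : L * (L ^ j * K) = L ^ (j + 1) * K := by rw [← _root_.mul_assoc, ← _root_.pow_succ']
          rw [h2]
          exact sup_le le_sup_left (sup_le (h1.trans le_sup_left) le_sup_right)
  have := key m
  rw [hL, Ideal.bot_mul, sup_bot_eq] at this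
  exact this

end Nak

section FT
variable {B C : Type u} [CommRing B] [CommRing C] [Algebra B C] (I : Ideal B)

theorem finiteType_of_nilpotent (m : ℕ) (hI : I ^ m = ⊥)
    (h : Algebra.FiniteType (B ⧸ I) (C ⧸ I.map (algebraMap B C))) : Algebra.FiniteType B C := by
  classical
  have h' : Algebra.FiniteType B (C ⧸ I.map (algebraMap B C)) :=
    Algebra.FiniteType.trans (S := B ⧸ I) (Algebra.FiniteType.of_surjective
      (Algebra.ofId B (B ⧸ I)) Ideal.Quotient.mk_surjective) h
  obtain ⟨s₀, hs₀⟩ := h'.out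
  let p : C →ₐ[B] C ⧸ I.map (algebraMap B C) := Ideal.Quotient.mkₐ B _
  have hp : Function.Surjective p := Ideal.Quotient.mk_surjective
  choose g hg using hp
  let s : Finset C := s₀.image g
  have hmap : (Algebra.adjoin B (s : Set C)).map p = ⊤ := by
    rw [AlgHom.map_adjoin, ← hs₀]
    congr 1
    ext x
    simp only [s, Finset.coe_image, Set.mem_image, Finset.mem_coe]
    constructor
    · rintro ⟨_, ⟨y, hy, rfl⟩, rfl⟩
      rw [hg]; exact hy
    · intro hx
      exact ⟨g x, ⟨x, hx, rfl⟩, hg x⟩
  have hsup : (⊤ : Submodule B C) ≤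
      Subalgebra.toSubmodule (Algebra.adjoin B (s : Set C)) ⊔ I • (⊤ : Submodule B C) := by
    intro b _
    have : p b ∈ (Algebra.adjoin B (s : Set C)).map p := by rw [hmap]; trivial
    obtain ⟨b', hb', hbb'⟩ := this
    have hk : b - b' ∈ I.map (algebraMap B C) := by
      rw [← Ideal.Quotient.eq_zero_iff_mem, map_sub, sub_eq_zero]
      exact hbb'.symm
    refine Submodule.mem_sup.mpr ⟨b', hb', b - b', ?_, by ring⟩
    rw [Ideal.smul_top_eq_map]
    exact hk
  have htop := submodule_eq_top_of_sup_smul_top I m hI _ hsup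
  refine ⟨⟨s, ?_⟩⟩
  exact Subalgebra.toSubmodule_injective (by rw [htop]; rfl)

end FT
section FP
variable {B C : Type u} [CommRing B] [CommRing C] [Algebra B C] (I : Ideal B)

theorem finitePresentation_of_nilpotent (m : ℕ) (hI : I ^ m = ⊥)
    (h : Algebra.FinitePresentation (B ⧸ I) (C ⧸ I.map (algebraMap B C)))
    (H : ∀ (k : ℕ) (π : MvPolynomial (Fin k) B →ₐ[B] C), Function.Surjective π →
      RingHom.ker π.toRingHom ⊓ I.map (MvPolynomial.C) ≤
        I.map MvPolynomial.C * RingHom.ker π.toRingHom) :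
    Algebra.FinitePresentation B C := by
  classical
  have hft : Algebra.FiniteType B C := finiteType_of_nilpotent I m hI inferInstance
  obtain ⟨k, π, hπ⟩ := Algebra.FiniteType.iff_quotient_mvPolynomial''.mp hft
  set J := I.map (algebraMap B C) with hJdef
  let ρ : MvPolynomial (Fin k) B →+* MvPolynomial (Fin k) (B ⧸ I) :=
    MvPolynomial.map (Ideal.Quotient.mk I)
  have hρ : Function.Surjective ρ := MvPolynomial.map_surjective _ Ideal.Quotient.mk_surjective
  have hkerρ : RingHom.ker ρ = I.map MvPolynomial.C := by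
    rw [MvPolynomial.ker_map, Ideal.mk_ker]
  let πbar : MvPolynomial (Fin k) (B ⧸ I) →ₐ[B ⧸ I] C ⧸ J :=
    MvPolynomial.aeval (fun i => Ideal.Quotient.mk J (π (MvPolynomial.X i)))
  have hcomp : ∀ p, πbar (ρ p) = Ideal.Quotient.mk J (π p) := by
    intro p
    have : (πbar.toRingHom.comp ρ) = (Ideal.Quotient.mk J).comp π.toRingHom := by
      apply MvPolynomial.ringHom_ext
      · intro b
        simp only [AlgHom.toRingHom_eq_coe, RingHom.coe_comp, RingHom.coe_coe, Function.comp_apply,
          ρ, MvPolynomial.map_C, πbar, MvPolynomial.algHom_C]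
        exact Ideal.Quotient.algebraMap_quotient_map_quotient b
      · intro i
        simp [ρ, πbar]
    exact RingHom.congr_fun this p
  have hπbar : Function.Surjective πbar := by
    intro c
    obtain ⟨c, rfl⟩ := Ideal.Quotient.mk_surjective c
    obtain ⟨p, rfl⟩ := hπ c
    exact ⟨ρ p, hcomp p⟩
  have hfg : (RingHom.ker πbar.toRingHom).FG :=
    Algebra.FinitePresentation.ker_fG_of_surjective πbar hπbar
  set K := RingHom.ker π.toRingHom with hK
  have hkerbar : RingHom.ker πbar.toRingHom = K.map ρ := by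
    apply le_antisymm
    · intro pbar hp
      obtain ⟨p, rfl⟩ := hρ pbar
      rw [RingHom.mem_ker] at hp
      change πbar (ρ p) = 0 at hp
      rw [hcomp, Ideal.Quotient.eq_zero_iff_mem] at hp
      have hJ : J = (I.map MvPolynomial.C).map π.toRingHom := by
        rw [Ideal.map_map, hJdef]
        congr 1
        ext b
        simp
      rw [hJ, Ideal.mem_map_iff_of_surjective π.toRingHom hπ] at hp
      obtain ⟨q, hq, hqp⟩ := hp
      have hpq : p - q ∈ K := by
        rw [hK, RingHom.mem_ker, map_sub, sub_eq_zero]; exact hqp.symm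
      have hρq : ρ q = 0 := by rw [← RingHom.mem_ker, hkerρ]; exact hq
      have : ρ p = ρ (p - q) := by rw [map_sub, hρq, sub_zero]
      rw [this]
      exact Ideal.mem_map_of_mem _ hpq
    · rw [Ideal.map_le_iff_le_comap]
      intro p hp
      rw [Ideal.mem_comap, RingHom.mem_ker]
      change πbar (ρ p) = 0
      have hp' : π p = 0 := hp
      rw [hcomp, hp', map_zero]
  rw [hkerbar] at hfg
  obtain ⟨T, hT⟩ := hfg
  have hTK : ∀ t ∈ T, ∃ k' ∈ K, ρ k' = t := by
    intro t ht
    have : t ∈ K.map ρ := hT ▸ Ideal.subset_span ht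
    exact (Ideal.mem_map_iff_of_surjective ρ hρ).mp this
  choose! lift hliftK hlift using hTK
  let K' : Ideal (MvPolynomial (Fin k) B) := Ideal.span (T.image lift : Set _)
  have hK'K : K' ≤ K := by
    rw [Ideal.span_le]
    intro x hx
    simp only [Finset.coe_image, Set.mem_image, Finset.mem_coe] at hx
    obtain ⟨t, ht, rfl⟩ := hx
    exact hliftK t ht
  have hK'map : K.map ρ ≤ K'.map ρ := by
    rw [← hT, Ideal.span_le]
    intro t ht
    rw [← hlift t ht]
    refine Ideal.mem_map_of_mem _ (Ideal.subset_span ?_)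
    simp only [Finset.coe_image, Set.mem_image, Finset.mem_coe]
    exact ⟨t, ht, rfl⟩
  have hle : K ≤ K' ⊔ I.map MvPolynomial.C * K := by
    intro x hx
    have : ρ x ∈ K'.map ρ := hK'map (Ideal.mem_map_of_mem _ hx)
    obtain ⟨x', hx', hxx'⟩ := (Ideal.mem_map_iff_of_surjective ρ hρ).mp this
    have h1 : x - x' ∈ K ⊓ I.map MvPolynomial.C := by
      refine ⟨K.sub_mem hx (hK'K hx'), ?_⟩
      have : x - x' ∈ RingHom.ker ρ := by rw [RingHom.mem_ker, map_sub, hxx', sub_self]
      rw [hkerρ] at this
      exact this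
    have h2 := H k π hπ h1
    have : x = x' + (x - x') := by ring
    rw [this]
    exact Ideal.add_mem _ (Ideal.mem_sup_left hx') (Ideal.mem_sup_right h2)
  have hKK' : K ≤ K' := ideal_le_of_le_sup_mul (I.map MvPolynomial.C) K K' m
    (by rw [← Ideal.map_pow, hI, Ideal.map_bot]) hle
  have hKeq : K = K' := le_antisymm hKK' hK'K
  exact Algebra.FinitePresentation.of_surjective hπ (by rw [← hK, hKeq]; exact ⟨T.image lift, rfl⟩)

end FP
-- HELPERS END


/-- Let A → B → C be homomorphisms of commutative rings and n a nilpotent ideal of A; write nB and nC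
for the extended ideals. (i) If C/nC is a (B/nB)-algebra of finite type, then C is a B-algebra of
finite type. (ii) If moreover C is flat over A and C/nC is a (B/nB)-algebra of finite presentation,
then C is a B-algebra of finite presentation. -/
theorem result (A B C : Type u) [CommRing A] [CommRing B] [CommRing C]
    [Algebra A B] [Algebra B C] [Algebra A C] [IsScalarTower A B C] (n : Ideal A) (hn : IsNilpotent n) :
    (Algebra.FiniteType (B ⧸ n.map (algebraMap A B)) (C ⧸ (n.map (algebraMap A B)).map (algebraMap B C)) →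
      Algebra.FiniteType B C) ∧
    (Module.Flat A C →
      Algebra.FinitePresentation (B ⧸ n.map (algebraMap A B)) (C ⧸ (n.map (algebraMap A B)).map (algebraMap B C)) →
      Algebra.FinitePresentation B C) := by
  obtain ⟨m, hm⟩ := hn
  have hI : (n.map (algebraMap A B)) ^ m = ⊥ := by
    rw [← Ideal.map_pow, hm, Ideal.zero_eq_bot, Ideal.map_bot]
  refine ⟨fun h => finiteType_of_nilpotent _ m hI h, fun hflat h => ?_⟩
  refine finitePresentation_of_nilpotent _ m hI h fun k π hπ => ?_
  let πA : MvPolynomial (Fin k) B →ₗ[A] C := (π.restrictScalars A).toLinearMap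
  have hπA : Function.Surjective πA := hπ
  have hfl : Module.Flat A (MvPolynomial (Fin k) B ⧸ LinearMap.ker πA) :=
    Module.Flat.of_linearEquiv (πA.quotKerEquivOfSurjective hπA)
  have key := Groth.Agent.Lib.Helper71.inf_le_smul_of_flat_quotient n (LinearMap.ker πA)
  have hmap : (n.map (algebraMap A B)).map (MvPolynomial.C (σ := Fin k)) =
      n.map (algebraMap A (MvPolynomial (Fin k) B)) := by
    rw [Ideal.map_map]
    rfl
  intro x hx
  have hx1 : x ∈ n • (⊤ : Submodule A (MvPolynomial (Fin k) B)) := by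
    rw [Ideal.smul_top_eq_map, Submodule.restrictScalars_mem, ← hmap]
    exact hx.2
  have hx2 : x ∈ LinearMap.ker πA := hx.1
  have hx3 := key ⟨hx1, hx2⟩
  refine Submodule.smul_induction_on hx3 ?_ ?_
  · intro a ha y hy
    rw [Algebra.smul_def]
    refine Ideal.mul_mem_mul ?_ hy
    rw [hmap]
    exact Ideal.mem_map_of_mem _ ha
  · intro y z hy hz
    exact Ideal.add_mem _ hy hz

end Groth.Agent.S5338
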