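import Groth.Statements.S1320
import Mathlib
import Groth.Agent.Lib.Helper71.DeformFlat
import Groth.Agent.S5338

set_option autoImplicit false
universe u
open FlatMor

namespace Groth.Agent.S1320

-- HELPERS BEGIN
theorem fp_of_surjections_ringHom {A' B' C' B C : Type u} [CommRing A'] [CommRing B'] [CommRing C']
    [CommRing B] [CommRing C] (a : A' →+* B') (b : B' →+* C') (I : Ideal A')
    (β : B' →+* B) (γ : C' →+* C) (φ : B →+* C) (n : ℕ) (hI : I ^ n = ⊥)
    (hflat : (b.comp a).Flat)
    (hβ : Function.Surjective β) (hγ : Function.Surjective γ)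
    (hkβ : RingHom.ker β = I.map a) (hkγ : RingHom.ker γ = I.map (b.comp a))
    (hcomm : φ.comp β = γ.comp b) (hφ : φ.FinitePresentation) : b.FinitePresentation := by
  let _ := a.toAlgebra
  let _ := b.toAlgebra
  let _ := (b.comp a).toAlgebra
  have : IsScalarTower A' B' C' := IsScalarTower.of_algebraMap_eq (fun _ => rfl)
  have hfl : Module.Flat A' C' := hflat
  have hkγ' : RingHom.ker γ = (I.map (algebraMap A' B')).map (algebraMap B' C') := by
    rw [hkγ, Ideal.map_map]; rfl
  have h1 : (algebraMap (B' ⧸ I.map (algebraMap A' B'))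
      (C' ⧸ (I.map (algebraMap A' B')).map (algebraMap B' C'))).FinitePresentation :=
    (Groth.Agent.Lib.Helper71.DeformFlat.quotient_map_iff _ φ hβ hγ hkβ hkγ' hcomm
      RingHom.finitePresentation_respectsIso).mpr hφ
  have h2 : Algebra.FinitePresentation (B' ⧸ I.map (algebraMap A' B'))
      (C' ⧸ (I.map (algebraMap A' B')).map (algebraMap B' C')) :=
    RingHom.finitePresentation_algebraMap.mp h1
  have h3 : Algebra.FinitePresentation B' C' :=
    (Groth.Agent.S5338.result A' B' C' I ⟨n, hI⟩).2 hfl h2
  exact RingHom.finitePresentation_algebraMap.mpr h3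
-- HELPERS END


open AlgebraicGeometry CategoryTheory Limits in
/-- Let S ⟶ S' be a finite order thickening, let X' ⟶ Y' be a morphism of schemes over S' with X' flat
over S', and let X ⟶ Y be its base change to S. Then X ⟶ Y is locally of finite presentation if and
only if X' ⟶ Y' is. -/
theorem result {X X' Y Y' S S' : Scheme.{u}} (iX : X ⟶ X') (iY : Y ⟶ Y') (iS : S ⟶ S')
    (f : X ⟶ Y) (f' : X' ⟶ Y') (g : Y ⟶ S) (g' : Y' ⟶ S')
    (hS : MoreMor.IsFiniteOrderThickening iS) (hcX : IsPullback iX (f ≫ g) (f' ≫ g') iS) (hcY : IsPullback iY g g' iS)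
    (w : iX ≫ f' = f ≫ iY) [Flat (f' ≫ g')] :
    LocallyOfFinitePresentation f ↔ LocallyOfFinitePresentation f' := by
  obtain ⟨⟨hcl, hsurj⟩, m, hm⟩ := hS
  constructor
  · intro h
    have hQ : RingHom.StableUnderCompositionWithLocalizationAwaySource
        RingHom.FinitePresentation :=
      (RingHom.StableUnderComposition.stableUnderCompositionWithLocalizationAway
        RingHom.finitePresentation_stableUnderComposition
        RingHom.finitePresentation_holdsForLocalizationAway).1
    refine Groth.Agent.Lib.Helper71.DeformFlat.deform_of_ringHom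
      (P := @LocallyOfFinitePresentation) hQ
      (fun a b I β γ φ n hI hflat hβ hγ hkβ hkγ hcomm hφ =>
        fp_of_surjections_ringHom a b I β γ φ n hI hflat hβ hγ hkβ hkγ hcomm hφ)
      iX iY iS f f' g g' (fun W => ⟨m, ?_⟩) hcX hcY w h
    have h1 := congrArg (fun I : S'.IdealSheafData => I.ideal W) hm
    simpa using h1
  · intro h
    exact MorphismProperty.of_isPullback (IsPullback.of_bot hcX w hcY) h

end Groth.Agent.S1320
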