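import Groth.Statements.S1321
import Mathlib
import Groth.Agent.Lib.Helper71.DeformFlat
import Groth.Agent.S1320

set_option autoImplicit false
universe u
open FlatMor

namespace Groth.Agent.S1321

-- HELPERS BEGIN
open TensorProduct in
theorem smooth_of_quotient {B' C' : Type u} [CommRing B'] [CommRing C'] [Algebra B' C']
    (J : Ideal B') (hJ : IsNilpotent J) [Module.Flat B' C'] [Algebra.FinitePresentation B' C']
    (h : Algebra.FormallySmooth (B' ⧸ J) (C' ⧸ J.map (algebraMap B' C'))) :
    Algebra.Smooth B' C' := by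
  refine Algebra.Smooth.of_formallySmooth_fiber (fun p hp => ?_)
  have hJp : J ≤ p := by
    obtain ⟨n, hn⟩ := hJ
    intro x hx
    have : x ^ n ∈ J ^ n := Ideal.pow_mem_pow hx n
    rw [hn] at this
    have h0 : x ^ n = 0 := by simpa using this
    exact hp.mem_of_pow_mem n (h0 ▸ p.zero_mem)
  let ψ : (B' ⧸ J) →+* p.ResidueField :=
    Ideal.Quotient.lift J (algebraMap B' p.ResidueField) (fun a ha => by
      rw [Ideal.algebraMap_residueField_eq_zero]
      exact hJp ha)
  let _ : Algebra (B' ⧸ J) p.ResidueField := ψ.toAlgebra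
  have : IsScalarTower B' (B' ⧸ J) p.ResidueField :=
    IsScalarTower.of_algebraMap_eq (fun x => rfl)
  have h1 : Algebra.FormallySmooth (B' ⧸ J) ((B' ⧸ J) ⊗[B'] C') :=
    Algebra.FormallySmooth.of_equiv (Algebra.TensorProduct.quotIdealMapEquivQuotTensor C' J)
  have h2 : Algebra.FormallySmooth p.ResidueField
      (p.ResidueField ⊗[B' ⧸ J] ((B' ⧸ J) ⊗[B'] C')) := inferInstance
  exact Algebra.FormallySmooth.of_equiv
    (Algebra.TensorProduct.cancelBaseChange B' (B' ⧸ J) p.ResidueField p.ResidueField C')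

theorem smooth_of_surjections_ringHom {A' B' C' B C : Type u} [CommRing A'] [CommRing B']
    [CommRing C'] [CommRing B] [CommRing C] (a : A' →+* B') (b : B' →+* C') (I : Ideal A')
    (β : B' →+* B) (γ : C' →+* C) (φ : B →+* C) (n : ℕ) (hI : I ^ n = ⊥)
    (hflat : (b.comp a).Flat)
    (hβ : Function.Surjective β) (hγ : Function.Surjective γ)
    (hkβ : RingHom.ker β = I.map a) (hkγ : RingHom.ker γ = I.map (b.comp a))
    (hcomm : φ.comp β = γ.comp b) (hφ : φ.Smooth) : b.Smooth := by
  have hbflat : b.Flat :=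
    Groth.Agent.Lib.Helper71.DeformFlat.flat_of_surjections_ringHom a b I β γ φ n hI hflat
      hβ hγ hkβ hkγ hcomm hφ.flat
  have hbfp : b.FinitePresentation :=
    Groth.Agent.S1320.fp_of_surjections_ringHom a b I β γ φ n hI hflat
      hβ hγ hkβ hkγ hcomm hφ.finitePresentation
  let _ := a.toAlgebra
  let _ := b.toAlgebra
  have h1 : Module.Flat B' C' := hbflat
  have h2 : Algebra.FinitePresentation B' C' := hbfp
  have hkγ' : RingHom.ker γ = (I.map (algebraMap A' B')).map (algebraMap B' C') := by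
    rw [hkγ, Ideal.map_map]; rfl
  have h3 : (algebraMap (B' ⧸ I.map (algebraMap A' B'))
      (C' ⧸ (I.map (algebraMap A' B')).map (algebraMap B' C'))).FormallySmooth :=
    (Groth.Agent.Lib.Helper71.DeformFlat.quotient_map_iff _ φ hβ hγ hkβ hkγ' hcomm
      RingHom.FormallySmooth.respectsIso).mpr hφ.formallySmooth
  have hnil : IsNilpotent (I.map (algebraMap A' B')) := by
    refine ⟨n, ?_⟩
    rw [← Ideal.map_pow, hI, Ideal.map_bot]
    rfl
  exact smooth_of_quotient (I.map (algebraMap A' B')) hnil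
    (RingHom.formallySmooth_algebraMap.mp h3)
-- HELPERS END


open AlgebraicGeometry CategoryTheory Limits in
/-- Let S ⟶ S' be a finite order thickening, let X' ⟶ Y' be a morphism of schemes over S' with X' flat
over S', and let X ⟶ Y be its base change to S. Then X ⟶ Y is smooth if and only if X' ⟶ Y' is. -/
theorem result {X X' Y Y' S S' : Scheme.{u}} (iX : X ⟶ X') (iY : Y ⟶ Y') (iS : S ⟶ S')
    (f : X ⟶ Y) (f' : X' ⟶ Y') (g : Y ⟶ S) (g' : Y' ⟶ S')
    (hS : MoreMor.IsFiniteOrderThickening iS) (hcX : IsPullback iX (f ≫ g) (f' ≫ g') iS) (hcY : IsPullback iY g g' iS)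
    (w : iX ≫ f' = f ≫ iY) [Flat (f' ≫ g')] :
    Smooth f ↔ Smooth f' := by
  obtain ⟨⟨hcl, hsurj⟩, m, hm⟩ := hS
  constructor
  · intro h
    have hQ : RingHom.StableUnderCompositionWithLocalizationAwaySource
        RingHom.Smooth :=
      (RingHom.StableUnderComposition.stableUnderCompositionWithLocalizationAway
        RingHom.Smooth.stableUnderComposition
        RingHom.Smooth.holdsForLocalizationAway).1
    refine Groth.Agent.Lib.Helper71.DeformFlat.deform_of_ringHom
      (P := @Smooth) hQ
      (fun a b I β γ φ n hI hflat hβ hγ hkβ hkγ hcomm hφ =>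
        smooth_of_surjections_ringHom a b I β γ φ n hI hflat hβ hγ hkβ hkγ hcomm hφ)
      iX iY iS f f' g g' (fun W => ⟨m, ?_⟩) hcX hcY w h
    have h1 := congrArg (fun I : S'.IdealSheafData => I.ideal W) hm
    simpa using h1
  · intro h
    exact MorphismProperty.of_isPullback (IsPullback.of_bot hcX w hcY) h

end Groth.Agent.S1321
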