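import Groth.Statements.S1322
import Mathlib
import Groth.Agent.Lib.Helper71.ThickPullback
import Groth.Agent.S1310
import Groth.Agent.S1317
import Groth.Agent.S1320

set_option autoImplicit false
universe u
open FlatMor

namespace Groth.Agent.S1322

-- HELPERS BEGIN
-- HELPERS END


open AlgebraicGeometry CategoryTheory Limits in
/-- Let S ⟶ S' be a finite order thickening, let X' ⟶ Y' be a morphism of schemes over S' with X' flat
over S', and let X ⟶ Y be its base change to S. Then X ⟶ Y is étale if and only if X' ⟶ Y' is. -/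
theorem result {X X' Y Y' S S' : Scheme.{u}} (iX : X ⟶ X') (iY : Y ⟶ Y') (iS : S ⟶ S')
    (f : X ⟶ Y) (f' : X' ⟶ Y') (g : Y ⟶ S) (g' : Y' ⟶ S')
    (hS : MoreMor.IsFiniteOrderThickening iS) (hcX : IsPullback iX (f ≫ g) (f' ≫ g') iS) (hcY : IsPullback iY g g' iS)
    (w : iX ≫ f' = f ≫ iY) [Flat (f' ≫ g')] :
    Etale f ↔ Etale f' := by
  have hsq : IsPullback iX f f' iY := IsPullback.of_bot hcX w hcY
  constructor
  · intro h
    have hY := Groth.Agent.Lib.Helper71.ThickPullback.isFiniteOrderThickening_of_isPullback hcY hS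
    rw [Etale.iff_flat_and_formallyUnramified] at h ⊢
    obtain ⟨h1, h2, h3⟩ := h
    exact ⟨(Groth.Agent.S1317.result iX iY iS f f' g g' hS hcX hcY w).mp h1,
      (Groth.Agent.S1310.result iX iY f f' hY hsq).mp h2,
      (Groth.Agent.S1320.result iX iY iS f f' g g' hS hcX hcY w).mp h3⟩
  · intro h
    exact MorphismProperty.of_isPullback hsq h

end Groth.Agent.S1322
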