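import Groth.Statements.S10596
import Groth.Agent.H52.DeformCharts
import Groth.Agent.H52.FibreDimChart
import Groth.Agent.H52.SmoothSource
import Groth.Agent.H52.LqfSource
import Groth.Agent.H53.EtaleMor
import Groth.Agent.S1317
import Groth.Agent.S1309
import Groth.Agent.S1312
import Groth.Agent.S1314
import Groth.Agent.S1320
import Groth.Agent.S1321
import Groth.Agent.S1322
import Groth.Agent.S10208

set_option autoImplicit false
universe u
open CategoryTheory CategoryTheory.Limits AlgebraicGeometry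
open AlgSp

namespace Groth.Agent.S10596

/-- Let iB : B ⟶ B' be a finite order thickening of algebraic spaces over S (a thickening such that for
one n the (n+1)-st power of the ideal vanishes on every affine etale scheme chart), f' : X' ⟶ Y' a
morphism of algebraic spaces over B' (via g' : Y' ⟶ B') with X' flat over B', and f : X ⟶ Y, g : Y ⟶
B its base change to B (both squares to iB cartesian, iX ≫ f' = f ≫ iY). Then f is locally of finite
type of relative dimension d, resp. flat, resp. locally of finite type, locally quasi-finite,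
locally of finite presentation, smooth, unramified, etale, if and only if f' is (etale-local sense;
locally quasi-finite and unramified include locally of finite type). -/
theorem result {S : Scheme.{u}} {X X' Y Y' B B' : AlgSp.Space S} (iX : X ⟶ X') (iY : Y ⟶ Y') (iB : B ⟶ B')
    (f : X ⟶ Y) (f' : X' ⟶ Y') (g : Y ⟶ B) (g' : Y' ⟶ B')
    (hcX : IsPullback iX.hom (f ≫ g).hom (f' ≫ g').hom iB.hom) (hcY : IsPullback iY.hom g.hom g'.hom iB.hom)
    (w : iX ≫ f' = f ≫ iY)
    (hB : AlgSp.IsFinThickMor iB.hom) (hflat : AlgSp.LocP @Flat (f' ≫ g').hom) (d : ℕ) :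
    ((AlgSp.LocP @LocallyOfFiniteType f.hom ∧
        ∀ x, AlgSp.HasAtMor (fun _ _ h u => FlatMor.fibreDimAt h u = (d : WithBot ℕ∞)) f.hom x) ↔
      (AlgSp.LocP @LocallyOfFiniteType f'.hom ∧
        ∀ x', AlgSp.HasAtMor (fun _ _ h u => FlatMor.fibreDimAt h u = (d : WithBot ℕ∞)) f'.hom x')) ∧
    (AlgSp.LocP @Flat f.hom ↔ AlgSp.LocP @Flat f'.hom) ∧
    (AlgSp.LocP @LocallyOfFiniteType f.hom ↔ AlgSp.LocP @LocallyOfFiniteType f'.hom) ∧
    (AlgSp.LocP (@LocallyQuasiFinite ⊓ @LocallyOfFiniteType) f.hom ↔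
      AlgSp.LocP (@LocallyQuasiFinite ⊓ @LocallyOfFiniteType) f'.hom) ∧
    (AlgSp.LocP @LocallyOfFinitePresentation f.hom ↔ AlgSp.LocP @LocallyOfFinitePresentation f'.hom) ∧
    (AlgSp.LocP @Smooth f.hom ↔ AlgSp.LocP @Smooth f'.hom) ∧
    (AlgSp.LocP (@LocallyOfFiniteType ⊓ @FormallyUnramified) f.hom ↔
      AlgSp.LocP (@LocallyOfFiniteType ⊓ @FormallyUnramified) f'.hom) ∧
    (AlgSp.IsEtaleMor f.hom ↔ AlgSp.IsEtaleMor f'.hom) := by
  have hX' : IsAlgSpace X'.obj := X'.property
  have hY' : IsAlgSpace Y'.obj := Y'.property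
  have hB' : IsAlgSpace B'.obj := B'.property
  have w' : iX.hom ≫ f'.hom = f.hom ≫ iY.hom := congrArg (fun k => k.hom) w
  have hcX' : IsPullback iX.hom (f.hom ≫ g.hom) (f'.hom ≫ g'.hom) iB.hom := hcX
  have hflat' : LocP @Flat (f'.hom ≫ g'.hom) := hflat
  obtain ⟨U, U', V, V', W, W', a, a', b, b', c', iU, iV, iW, fU, fU', gV, gV', hae, has, ha'e,
    ha's, hbe, hb'e, hc'e, comm, comm', commW, hSW, hSV, hSU, pX, pY, pXY⟩ :=
    Groth.Agent.H52.exists_deform_charts hX' hY' hB' iX.hom iY.hom iB.hom f.hom f'.hom g.hom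
      g'.hom hcX' hcY w' hB
  have wU : iU.left ≫ fU'.left = fU.left ≫ iV.left := pXY.w
  have hFl : Flat (fU'.left ≫ gV'.left) := hflat' a' c' (fU' ≫ gV') ha'e hc'e commW
  have key : ∀ (P : MorphismProperty Scheme.{u}) (_ : Groth.Agent.H52.IsEtLocal P),
      (P fU.left ↔ P fU'.left) → (LocP P f.hom ↔ LocP P f'.hom) := by
    intro P hP e
    constructor
    · intro H
      exact hP.locP_of_chart f'.hom a' b' fU' ha'e ha's hb'e comm' (e.1 (H a b fU hae hbe comm))
    · intro H
      exact hP.locP_of_chart f.hom a b fU hae has hbe comm (e.2 (H a' b' fU' ha'e hb'e comm'))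
  have eFlat := Groth.Agent.S1317.result iU.left iV.left iW.left fU.left fU'.left gV.left gV'.left
    hSW pX pY wU
  have eLfp := Groth.Agent.S1320.result iU.left iV.left iW.left fU.left fU'.left gV.left gV'.left
    hSW pX pY wU
  have eSm := Groth.Agent.S1321.result iU.left iV.left iW.left fU.left fU'.left gV.left gV'.left
    hSW pX pY wU
  have eEt := Groth.Agent.S1322.result iU.left iV.left iW.left fU.left fU'.left gV.left gV'.left
    hSW pX pY wU
  have eLft := Groth.Agent.S1309.result iU.left iV.left fU.left fU'.left hSV pXY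
  have eLqf : ((@LocallyQuasiFinite : MorphismProperty Scheme.{u}) ⊓ @LocallyOfFiniteType) fU.left ↔
      ((@LocallyQuasiFinite : MorphismProperty Scheme.{u}) ⊓ @LocallyOfFiniteType) fU'.left := by
    constructor
    · rintro ⟨h1, h2⟩
      have h2' : LocallyOfFiniteType fU'.left := eLft.1 h2
      haveI : LocallyOfFiniteType fU.left := h2
      exact ⟨(Groth.Agent.S1312.result iU.left iV.left fU.left fU'.left hSV.1 pXY).1 h1, h2'⟩
    · rintro ⟨h1, h2⟩
      have h2' : LocallyOfFiniteType fU.left := eLft.2 h2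
      haveI : LocallyOfFiniteType fU'.left := h2
      exact ⟨(Groth.Agent.S1312.result iU.left iV.left fU.left fU'.left hSV.1 pXY).2 h1, h2'⟩
  have eUnr : ((@LocallyOfFiniteType : MorphismProperty Scheme.{u}) ⊓ @FormallyUnramified) fU.left ↔
      ((@LocallyOfFiniteType : MorphismProperty Scheme.{u}) ⊓ @FormallyUnramified) fU'.left := by
    constructor
    · rintro ⟨h2, h1⟩
      have h2' : LocallyOfFiniteType fU'.left := eLft.1 h2
      haveI : LocallyOfFiniteType fU.left := h2
      exact ⟨h2', (Groth.Agent.S1314.result iU.left iV.left fU.left fU'.left hSV.1 pXY).1 h1⟩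
    · rintro ⟨h2, h1⟩
      have h2' : LocallyOfFiniteType fU.left := eLft.2 h2
      haveI : LocallyOfFiniteType fU'.left := h2
      exact ⟨h2', (Groth.Agent.S1314.result iU.left iV.left fU.left fU'.left hSV.1 pXY).2 h1⟩
  have cLft := key _ Groth.Agent.H52.isEtLocal_lft eLft
  refine ⟨?_, key _ Groth.Agent.H52.isEtLocal_flat eFlat, cLft,
    key _ Groth.Agent.H52.isEtLocal_lqf_lft eLqf, key _ Groth.Agent.H52.isEtLocal_lfp eLfp,
    key _ Groth.Agent.H52.isEtLocal_smooth eSm, key _ Groth.Agent.H52.isEtLocal_unramified eUnr, ?_⟩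
  · have hsurjU : Function.Surjective iU.left := hSU.1.2.surj
    constructor
    · rintro ⟨hL, hD⟩
      have hL' := cLft.1 hL
      refine ⟨hL', fun x' => ?_⟩
      obtain ⟨q, rfl⟩ := Groth.Agent.H52.surjective_points_of_repWith_surjective a' ha's x'
      obtain ⟨u', rfl⟩ := (Points.schemeEquiv U').surjective q
      obtain ⟨u, rfl⟩ := hsurjU u'
      obtain ⟨U₁, V₁, a₁, b₁, h₁, u₁, ha₁, hb₁, comm₁, hu₁, hQ⟩ := hD (Points.ofPt a u)
      have hlft1 : LocallyOfFiniteType h₁.left := hL a₁ b₁ h₁ ha₁ hb₁ comm₁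
      have hlftU : LocallyOfFiniteType fU.left := hL a b fU hae hbe comm
      haveI hlftU' : LocallyOfFiniteType fU'.left := hL' a' b' fU' ha'e hb'e comm'
      have e1 := Groth.Agent.H52.fibreDimAt_eq_of_two_charts f.hom a₁ b₁ h₁ ha₁ hb₁ comm₁ hlft1
        a b fU hae hbe comm hlftU u₁ u hu₁
      have e2 := Groth.Agent.Lib.Helper55.fibreDimAt_eq_of_isPullback fU'.left iV.left iU.left
        fU.left pXY u
      refine ⟨U', V', a', b', fU', iU.left u, ha'e, hb'e, comm', ?_, ?_⟩
      · exact Points.ofPt_eq_map_ofScheme a' _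
      · change FlatMor.fibreDimAt fU'.left (iU.left u) = _
        rw [← e2, ← e1]
        exact hQ
    · rintro ⟨hL', hD'⟩
      have hL := cLft.2 hL'
      refine ⟨hL, fun x => ?_⟩
      obtain ⟨q, rfl⟩ := Groth.Agent.H52.surjective_points_of_repWith_surjective a has x
      obtain ⟨u, rfl⟩ := (Points.schemeEquiv U).surjective q
      obtain ⟨U₁, V₁, a₁, b₁, h₁, u₁, ha₁, hb₁, comm₁, hu₁, hQ⟩ :=
        hD' (Points.ofPt a' (iU.left u))
      have hlft1 : LocallyOfFiniteType h₁.left := hL' a₁ b₁ h₁ ha₁ hb₁ comm₁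
      haveI hlftU' : LocallyOfFiniteType fU'.left := hL' a' b' fU' ha'e hb'e comm'
      have e1 := Groth.Agent.H52.fibreDimAt_eq_of_two_charts f'.hom a₁ b₁ h₁ ha₁ hb₁ comm₁ hlft1
        a' b' fU' ha'e hb'e comm' hlftU' u₁ (iU.left u) hu₁
      have e2 := Groth.Agent.Lib.Helper55.fibreDimAt_eq_of_isPullback fU'.left iV.left iU.left
        fU.left pXY u
      refine ⟨U, V, a, b, fU, u, hae, hbe, comm, Points.ofPt_eq_map_ofScheme a u, ?_⟩
      change FlatMor.fibreDimAt fU.left u = _
      rw [e2, ← e1]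
      exact hQ
  · constructor
    · intro H
      have h1 : Etale fU.left :=
        Groth.Agent.H53.etale_of_repWith_etale_triangle (a ≫ f.hom) b (H a hae) hbe fU comm.symm
      haveI : Etale fU'.left := eEt.1 h1
      exact Groth.Agent.S10208.result f' a' ha'e ha's b' hb'e fU' comm'
    · intro H
      have h1 : Etale fU'.left :=
        Groth.Agent.H53.etale_of_repWith_etale_triangle (a' ≫ f'.hom) b' (H a' ha'e) hb'e fU'
          comm'.symm
      haveI : Etale fU.left := eEt.2 h1
      exact Groth.Agent.S10208.result f a hae has b hbe fU comm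

end Groth.Agent.S10596
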