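import Groth.Statements.S10597
import Groth.Agent.Lib.Helper78.DeformIso
import Groth.Agent.H52.FibreProd
import Groth.Agent.S10596

set_option autoImplicit false
universe u
open CategoryTheory CategoryTheory.Limits AlgebraicGeometry
open AlgSp

namespace Groth.Agent.S10597

/-- Let iB : B ⟶ B' be a finite order thickening of algebraic spaces over S (a thickening such that for
one n the (n+1)-st power of the ideal vanishes on every affine etale scheme chart), f' : X' ⟶ Y' a
morphism of algebraic spaces over B' (via g' : Y' ⟶ B') with X' flat over B', and f : X ⟶ Y, g : Y ⟶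
B its base change to B (both squares to iB cartesian, iX ≫ f' = f ≫ iY). Then f is an isomorphism,
resp. an open immersion, resp. a monomorphism, resp. finite locally free, resp. finite locally free
of degree d, if and only if f' is. -/
theorem result {S : Scheme.{u}} {X X' Y Y' B B' : AlgSp.Space S} (iX : X ⟶ X') (iY : Y ⟶ Y') (iB : B ⟶ B')
    (f : X ⟶ Y) (f' : X' ⟶ Y') (g : Y ⟶ B) (g' : Y' ⟶ B')
    (hcX : IsPullback iX.hom (f ≫ g).hom (f' ≫ g').hom iB.hom) (hcY : IsPullback iY.hom g.hom g'.hom iB.hom)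
    (w : iX ≫ f' = f ≫ iY)
    (hB : AlgSp.IsFinThickMor iB.hom) (hflat : AlgSp.LocP @Flat (f' ≫ g').hom) :
    (IsIso f.hom ↔ IsIso f'.hom) ∧
    (AlgSp.RepWith @IsOpenImmersion f.hom ↔ AlgSp.RepWith @IsOpenImmersion f'.hom) ∧
    (Mono f.hom ↔ Mono f'.hom) ∧
    (AlgSp.IsFinLocFreeMor f.hom ↔ AlgSp.IsFinLocFreeMor f'.hom) ∧
    (∀ d : ℕ, AlgSp.IsFinLocFreeOfDegMor d f.hom ↔ AlgSp.IsFinLocFreeOfDegMor d f'.hom) := by
  have hX' : IsAlgSpace X'.obj := X'.property
  have hY' : IsAlgSpace Y'.obj := Y'.property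
  have hB' : IsAlgSpace B'.obj := B'.property
  have hX : IsAlgSpace X.obj := X.property
  have hY : IsAlgSpace Y.obj := Y.property
  have w' : iX.hom ≫ f'.hom = f.hom ≫ iY.hom := congrArg (fun k => k.hom) w
  have hcX' : IsPullback iX.hom (f.hom ≫ g.hom) (f'.hom ≫ g'.hom) iB.hom := hcX
  have hflat' : LocP @Flat (f'.hom ≫ g'.hom) := hflat
  have hthick : IsThickMor iB.hom := hB.choose_spec.1
  have hiY : IsThickMor iY.hom :=
    MorphismProperty.of_isPullback (P := RepWith (S := S) thick) hcY.flip hthick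
  have hiX : IsThickMor iX.hom :=
    MorphismProperty.of_isPullback (P := RepWith (S := S) thick) hcX'.flip hthick
  have sqXY : IsPullback iX.hom f.hom f'.hom iY.hom := IsPullback.of_bot hcX' w' hcY
  obtain ⟨-, hfl, -, hlqf, hlfp, -, -, het⟩ :=
    Groth.Agent.S10596.result iX iY iB f f' g g' hcX hcY w hB hflat 0
  obtain ⟨h1, h2, -, h4, h5⟩ :=
    Groth.Agent.Lib.Helper78.DeformIso.deform_core iX iY f f' hiX hiY w sqXY hfl hlqf hlfp het
  refine ⟨h1, h2, ⟨?_, ?_⟩, h4, h5⟩
  · intro hm
    haveI : Mono f.hom := hm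
    -- the diagonals
    let P : AlgSp.Space S := ⟨pullback f.hom f.hom,
      Groth.Agent.H52.isAlgSpace_of_isPullback (IsPullback.of_hasPullback f.hom f.hom) hX hY hX⟩
    let P' : AlgSp.Space S := ⟨pullback f'.hom f'.hom,
      Groth.Agent.H52.isAlgSpace_of_isPullback (IsPullback.of_hasPullback f'.hom f'.hom) hX' hY' hX'⟩
    let iPo : pullback f.hom f.hom ⟶ pullback f'.hom f'.hom :=
      pullback.map f.hom f.hom f'.hom f'.hom iX.hom iX.hom iY.hom w'.symm w'.symm
    let gPo : pullback f.hom f.hom ⟶ B.obj := pullback.fst f.hom f.hom ≫ (f.hom ≫ g.hom)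
    let gPo' : pullback f'.hom f'.hom ⟶ B'.obj := pullback.fst f'.hom f'.hom ≫ (f'.hom ≫ g'.hom)
    let Δ : X ⟶ P := ObjectProperty.homMk (pullback.diagonal f.hom)
    let Δ' : X' ⟶ P' := ObjectProperty.homMk (pullback.diagonal f'.hom)
    let iP : P ⟶ P' := ObjectProperty.homMk iPo
    let gP : P ⟶ B := ObjectProperty.homMk gPo
    let gP' : P' ⟶ B' := ObjectProperty.homMk gPo'
    have e1 : iPo ≫ pullback.fst f'.hom f'.hom = pullback.fst f.hom f.hom ≫ iX.hom :=
      pullback.lift_fst _ _ _
    have e2 : iPo ≫ pullback.snd f'.hom f'.hom = pullback.snd f.hom f.hom ≫ iX.hom :=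
      pullback.lift_snd _ _ _
    have outer : IsPullback (pullback.snd f.hom f.hom ≫ iX.hom) (pullback.fst f.hom f.hom) f'.hom
        (f.hom ≫ iY.hom) := (IsPullback.of_hasPullback f.hom f.hom).flip.paste_horiz sqXY
    rw [← e2, ← w'] at outer
    have sqA : IsPullback iPo (pullback.fst f.hom f.hom) (pullback.fst f'.hom f'.hom) iX.hom :=
      IsPullback.of_right outer e1 (IsPullback.of_hasPullback f'.hom f'.hom).flip
    have hcP : IsPullback iP.hom gP.hom gP'.hom iB.hom := sqA.paste_vert hcX'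
    have ed : pullback.diagonal f.hom ≫ gPo = f.hom ≫ g.hom := by
      change pullback.diagonal f.hom ≫ pullback.fst f.hom f.hom ≫ (f.hom ≫ g.hom) = _
      rw [pullback.diagonal_fst_assoc]
    have ed' : pullback.diagonal f'.hom ≫ gPo' = f'.hom ≫ g'.hom := by
      change pullback.diagonal f'.hom ≫ pullback.fst f'.hom f'.hom ≫ (f'.hom ≫ g'.hom) = _
      rw [pullback.diagonal_fst_assoc]
    have hcXP : IsPullback iX.hom (Δ ≫ gP).hom (Δ' ≫ gP').hom iB.hom := by
      change IsPullback iX.hom (pullback.diagonal f.hom ≫ gPo) (pullback.diagonal f'.hom ≫ gPo')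
        iB.hom
      rw [ed, ed']
      exact hcX'
    have hflatP : AlgSp.LocP @Flat (Δ' ≫ gP').hom := by
      change LocP @Flat (pullback.diagonal f'.hom ≫ gPo')
      rw [ed']
      exact hflat'
    have wPo : iX.hom ≫ pullback.diagonal f'.hom = pullback.diagonal f.hom ≫ iPo := by
      apply pullback.hom_ext
      · rw [Category.assoc, pullback.diagonal_fst, Category.comp_id, Category.assoc, e1,
          pullback.diagonal_fst_assoc]
      · rw [Category.assoc, pullback.diagonal_snd, Category.comp_id, Category.assoc, e2,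
          pullback.diagonal_snd_assoc]
    have wP : iX ≫ Δ' = Δ ≫ iP := ObjectProperty.hom_ext _ wPo
    have hiP : IsThickMor iP.hom :=
      MorphismProperty.of_isPullback (P := RepWith (S := S) thick) hcP.flip hthick
    have sqXP : IsPullback iX.hom Δ.hom Δ'.hom iP.hom := IsPullback.of_bot hcXP wPo hcP
    obtain ⟨-, hflD, -, hlqfD, hlfpD, -, -, hetD⟩ :=
      Groth.Agent.S10596.result iX iP iB Δ Δ' gP gP' hcXP hcP wP hB hflatP 0
    have hD := (Groth.Agent.Lib.Helper78.DeformIso.deform_core iX iP Δ Δ' hiX hiP wP sqXP hflD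
      hlqfD hlfpD hetD).1
    have hiso : IsIso (pullback.diagonal f.hom) := inferInstance
    have hiso' : IsIso (pullback.diagonal f'.hom) := hD.1 hiso
    exact (pullback.isIso_diagonal_iff f'.hom).1 hiso'
  · intro hm
    haveI : Mono f'.hom := hm
    exact sqXY.mono_snd_of_mono

end Groth.Agent.S10597
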