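import Groth.Statements.S10599
import Groth.Agent.Lib.Helper78.DeformChartsThick
import Groth.Agent.H52.FibreDimChart
import Groth.Agent.H52.SmoothSource
import Groth.Agent.H52.LqfSource
import Groth.Agent.H53.EtaleMor
import Groth.Agent.S1381
import Groth.Agent.S1312
import Groth.Agent.S1314
import Groth.Agent.S1384
import Groth.Agent.S1385
import Groth.Agent.S10208

set_option autoImplicit false
universe u
open CategoryTheory CategoryTheory.Limits AlgebraicGeometry
open AlgSp

namespace Groth.Agent.S10599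

/-- Let iB : B ⟶ B' be a thickening of algebraic spaces over S (representable, every base change to a
scheme a surjective closed immersion), f' : X' ⟶ Y' a morphism of algebraic spaces over B' (via g' :
Y' ⟶ B') with Y' locally of finite type over B' and X' flat and locally of finite presentation over
B', and f : X ⟶ Y, g : Y ⟶ B its base change to B (both squares to iB cartesian, iX ≫ f' = f ≫ iY).
Then f is locally of finite type of relative dimension d, resp. flat, resp. locally quasi-finite,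
smooth, unramified, etale, if and only if f' is (etale-local sense; locally quasi-finite and
unramified include locally of finite type). -/
theorem result {S : Scheme.{u}} {X X' Y Y' B B' : AlgSp.Space S} (iX : X ⟶ X') (iY : Y ⟶ Y') (iB : B ⟶ B')
    (f : X ⟶ Y) (f' : X' ⟶ Y') (g : Y ⟶ B) (g' : Y' ⟶ B')
    (hcX : IsPullback iX.hom (f ≫ g).hom (f' ≫ g').hom iB.hom) (hcY : IsPullback iY.hom g.hom g'.hom iB.hom)
    (w : iX ≫ f' = f ≫ iY)
    (hB : AlgSp.IsThickMor iB.hom)
    (hg' : AlgSp.LocP @LocallyOfFiniteType g'.hom)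
    (hflat : AlgSp.LocP @Flat (f' ≫ g').hom) (hfp : AlgSp.LocP @LocallyOfFinitePresentation (f' ≫ g').hom) (d : ℕ) :
    ((AlgSp.LocP @LocallyOfFiniteType f.hom ∧
        ∀ x, AlgSp.HasAtMor (fun _ _ h u => FlatMor.fibreDimAt h u = (d : WithBot ℕ∞)) f.hom x) ↔
      (AlgSp.LocP @LocallyOfFiniteType f'.hom ∧
        ∀ x', AlgSp.HasAtMor (fun _ _ h u => FlatMor.fibreDimAt h u = (d : WithBot ℕ∞)) f'.hom x')) ∧
    (AlgSp.LocP @Flat f.hom ↔ AlgSp.LocP @Flat f'.hom) ∧
    (AlgSp.LocP (@LocallyQuasiFinite ⊓ @LocallyOfFiniteType) f.hom ↔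
      AlgSp.LocP (@LocallyQuasiFinite ⊓ @LocallyOfFiniteType) f'.hom) ∧
    (AlgSp.LocP @Smooth f.hom ↔ AlgSp.LocP @Smooth f'.hom) ∧
    (AlgSp.LocP (@LocallyOfFiniteType ⊓ @FormallyUnramified) f.hom ↔
      AlgSp.LocP (@LocallyOfFiniteType ⊓ @FormallyUnramified) f'.hom) ∧
    (AlgSp.IsEtaleMor f.hom ↔ AlgSp.IsEtaleMor f'.hom) := by
  have hX' : IsAlgSpace X'.obj := X'.property
  have hY' : IsAlgSpace Y'.obj := Y'.property
  have hB' : IsAlgSpace B'.obj := B'.property
  have w' : iX.hom ≫ f'.hom = f.hom ≫ iY.hom := congrArg (fun k => k.hom) w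
  have hcX' : IsPullback iX.hom (f.hom ≫ g.hom) (f'.hom ≫ g'.hom) iB.hom := hcX
  have hflat' : LocP @Flat (f'.hom ≫ g'.hom) := hflat
  have hfp' : LocP @LocallyOfFinitePresentation (f'.hom ≫ g'.hom) := hfp
  obtain ⟨U, U', V, V', W, W', a, a', b, b', c', iU, iV, iW, fU, fU', gV, gV', hae, has, ha'e,
    ha's, hbe, hbs, hb'e, hb's, hc'e, hc's, comm, comm', commV', commW, -, -, hSW, hSV, hSU,
    pX, pY, pXY⟩ :=
    Groth.Agent.Lib.Helper78.DeformChartsThick.exists_deform_charts_thick hX' hY' hB' iX.hom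
      iY.hom iB.hom f.hom f'.hom g.hom g'.hom hcX' hcY w' hB
  have wU : iU.left ≫ fU'.left = fU.left ≫ iV.left := pXY.w
  haveI hFl : Flat (fU'.left ≫ gV'.left) := hflat' a' c' (fU' ≫ gV') ha'e hc'e commW
  haveI hFp : LocallyOfFinitePresentation (fU'.left ≫ gV'.left) :=
    hfp' a' c' (fU' ≫ gV') ha'e hc'e commW
  haveI hFt : LocallyOfFiniteType gV'.left := hg' b' c' gV' hb'e hc'e commV'
  haveI hlftU' : LocallyOfFiniteType fU'.left := locallyOfFiniteType_of_comp fU'.left gV'.left
  haveI hlftU : LocallyOfFiniteType fU.left := MorphismProperty.of_isPullback pXY hlftU'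
  have key : ∀ (P : MorphismProperty Scheme.{u}) (_ : Groth.Agent.H52.IsEtLocal P),
      (P fU.left ↔ P fU'.left) → (LocP P f.hom ↔ LocP P f'.hom) := by
    intro P hP e
    constructor
    · intro H
      exact hP.locP_of_chart f'.hom a' b' fU' ha'e ha's hb'e comm' (e.1 (H a b fU hae hbe comm))
    · intro H
      exact hP.locP_of_chart f.hom a b fU hae has hbe comm (e.2 (H a' b' fU' ha'e hb'e comm'))
  have eFlat := Groth.Agent.S1381.result iU.left iV.left iW.left fU.left fU'.left gV.left gV'.left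
    hSW pX pY wU
  have eSm := Groth.Agent.S1384.result iU.left iV.left iW.left fU.left fU'.left gV.left gV'.left
    hSW pX pY wU
  have eEt := Groth.Agent.S1385.result iU.left iV.left iW.left fU.left fU'.left gV.left gV'.left
    hSW pX pY wU
  have eLft : LocallyOfFiniteType fU.left ↔ LocallyOfFiniteType fU'.left :=
    ⟨fun _ => hlftU', fun _ => hlftU⟩
  have eLqf : ((@LocallyQuasiFinite : MorphismProperty Scheme.{u}) ⊓ @LocallyOfFiniteType) fU.left ↔
      ((@LocallyQuasiFinite : MorphismProperty Scheme.{u}) ⊓ @LocallyOfFiniteType) fU'.left := by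
    constructor
    · rintro ⟨h1, h2⟩
      exact ⟨(Groth.Agent.S1312.result iU.left iV.left fU.left fU'.left hSV pXY).1 h1, hlftU'⟩
    · rintro ⟨h1, h2⟩
      exact ⟨(Groth.Agent.S1312.result iU.left iV.left fU.left fU'.left hSV pXY).2 h1, hlftU⟩
  have eUnr : ((@LocallyOfFiniteType : MorphismProperty Scheme.{u}) ⊓ @FormallyUnramified) fU.left ↔
      ((@LocallyOfFiniteType : MorphismProperty Scheme.{u}) ⊓ @FormallyUnramified) fU'.left := by
    constructor
    · rintro ⟨h2, h1⟩
      exact ⟨hlftU', (Groth.Agent.S1314.result iU.left iV.left fU.left fU'.left hSV pXY).1 h1⟩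
    · rintro ⟨h2, h1⟩
      exact ⟨hlftU, (Groth.Agent.S1314.result iU.left iV.left fU.left fU'.left hSV pXY).2 h1⟩
  have cLft := key _ Groth.Agent.H52.isEtLocal_lft eLft
  refine ⟨?_, key _ Groth.Agent.H52.isEtLocal_flat eFlat,
    key _ Groth.Agent.H52.isEtLocal_lqf_lft eLqf,
    key _ Groth.Agent.H52.isEtLocal_smooth eSm, key _ Groth.Agent.H52.isEtLocal_unramified eUnr, ?_⟩
  · have hsurjU : Function.Surjective iU.left := hSU.2.surj
    constructor
    · rintro ⟨hL, hD⟩
      have hL' := cLft.1 hL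
      refine ⟨hL', fun x' => ?_⟩
      obtain ⟨q, rfl⟩ := Groth.Agent.H52.surjective_points_of_repWith_surjective a' ha's x'
      obtain ⟨u', rfl⟩ := (Points.schemeEquiv U').surjective q
      obtain ⟨u, rfl⟩ := hsurjU u'
      obtain ⟨U₁, V₁, a₁, b₁, h₁, u₁, ha₁, hb₁, comm₁, hu₁, hQ⟩ := hD (Points.ofPt a u)
      have hlft1 : LocallyOfFiniteType h₁.left := hL a₁ b₁ h₁ ha₁ hb₁ comm₁
      have e1 := Groth.Agent.H52.fibreDimAt_eq_of_two_charts f.hom a₁ b₁ h₁ ha₁ hb₁ comm₁ hlft1
        a b fU hae hbe comm hlftU u₁ u hu₁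
      have e2 := Groth.Agent.Lib.Helper55.fibreDimAt_eq_of_isPullback fU'.left iV.left iU.left
        fU.left pXY u
      refine ⟨U', V', a', b', fU', iU.left u, ha'e, hb'e, comm', ?_, ?_⟩
      · exact Points.ofPt_eq_map_ofScheme a' _
      · change FlatMor.fibreDimAt fU'.left (iU.left u) = _
        rw [← e2, ← e1]
        exact hQ
    · rintro ⟨hL', hD'⟩
      have hL := cLft.2 hL'
      refine ⟨hL, fun x => ?_⟩
      obtain ⟨q, rfl⟩ := Groth.Agent.H52.surjective_points_of_repWith_surjective a has x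
      obtain ⟨u, rfl⟩ := (Points.schemeEquiv U).surjective q
      obtain ⟨U₁, V₁, a₁, b₁, h₁, u₁, ha₁, hb₁, comm₁, hu₁, hQ⟩ :=
        hD' (Points.ofPt a' (iU.left u))
      have hlft1 : LocallyOfFiniteType h₁.left := hL' a₁ b₁ h₁ ha₁ hb₁ comm₁
      have e1 := Groth.Agent.H52.fibreDimAt_eq_of_two_charts f'.hom a₁ b₁ h₁ ha₁ hb₁ comm₁ hlft1
        a' b' fU' ha'e hb'e comm' hlftU' u₁ (iU.left u) hu₁
      have e2 := Groth.Agent.Lib.Helper55.fibreDimAt_eq_of_isPullback fU'.left iV.left iU.left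
        fU.left pXY u
      refine ⟨U, V, a, b, fU, u, hae, hbe, comm, Points.ofPt_eq_map_ofScheme a u, ?_⟩
      change FlatMor.fibreDimAt fU.left u = _
      rw [e2, ← e1]
      exact hQ
  · constructor
    · intro H
      have h1 : Etale fU.left :=
        Groth.Agent.H53.etale_of_repWith_etale_triangle (a ≫ f.hom) b (H a hae) hbe fU comm.symm
      haveI : Etale fU'.left := eEt.1 h1
      exact Groth.Agent.S10208.result f' a' ha'e ha's b' hb'e fU' comm'
    · intro H
      have h1 : Etale fU'.left :=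
        Groth.Agent.H53.etale_of_repWith_etale_triangle (a' ≫ f'.hom) b' (H a' ha'e) hb'e fU'
          comm'.symm
      haveI : Etale fU.left := eEt.2 h1
      exact Groth.Agent.S10208.result f a hae has b hbe fU comm

end Groth.Agent.S10599
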