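import Groth.Statements.S10600
import Groth.Agent.Lib.Helper78.DeformIso
import Groth.Agent.H52.LocPCalc3
import Groth.Agent.H52.LocPInst
import Groth.Agent.S10599
import Groth.Agent.S10613

set_option autoImplicit false
universe u
open CategoryTheory CategoryTheory.Limits AlgebraicGeometry
open AlgSp

namespace Groth.Agent.S10600

/-- Let iB : B ⟶ B' be a thickening of algebraic spaces over S (representable, every base change to a
scheme a surjective closed immersion), f' : X' ⟶ Y' a morphism of algebraic spaces over B' (via g' :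
Y' ⟶ B') with Y' locally of finite type over B' and X' flat and locally of finite presentation over
B', and f : X ⟶ Y, g : Y ⟶ B its base change to B (both squares to iB cartesian, iX ≫ f' = f ≫ iY).
Then f is an isomorphism, resp. an open immersion, resp. a monomorphism, resp. finite locally free,
resp. finite locally free of degree d, if and only if f' is. -/
theorem result {S : Scheme.{u}} {X X' Y Y' B B' : AlgSp.Space S} (iX : X ⟶ X') (iY : Y ⟶ Y') (iB : B ⟶ B')
    (f : X ⟶ Y) (f' : X' ⟶ Y') (g : Y ⟶ B) (g' : Y' ⟶ B')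
    (hcX : IsPullback iX.hom (f ≫ g).hom (f' ≫ g').hom iB.hom) (hcY : IsPullback iY.hom g.hom g'.hom iB.hom)
    (w : iX ≫ f' = f ≫ iY)
    (hB : AlgSp.IsThickMor iB.hom)
    (hg' : AlgSp.LocP @LocallyOfFiniteType g'.hom)
    (hflat : AlgSp.LocP @Flat (f' ≫ g').hom) (hfp : AlgSp.LocP @LocallyOfFinitePresentation (f' ≫ g').hom) :
    (IsIso f.hom ↔ IsIso f'.hom) ∧
    (AlgSp.RepWith @IsOpenImmersion f.hom ↔ AlgSp.RepWith @IsOpenImmersion f'.hom) ∧
    (Mono f.hom ↔ Mono f'.hom) ∧
    (AlgSp.IsFinLocFreeMor f.hom ↔ AlgSp.IsFinLocFreeMor f'.hom) ∧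
    (∀ d : ℕ, AlgSp.IsFinLocFreeOfDegMor d f.hom ↔ AlgSp.IsFinLocFreeOfDegMor d f'.hom) := by
  have hX' : IsAlgSpace X'.obj := X'.property
  have hY' : IsAlgSpace Y'.obj := Y'.property
  have hB' : IsAlgSpace B'.obj := B'.property
  have hX : IsAlgSpace X.obj := X.property
  have hY : IsAlgSpace Y.obj := Y.property
  have w' : iX.hom ≫ f'.hom = f.hom ≫ iY.hom := congrArg (fun k => k.hom) w
  have hcX' : IsPullback iX.hom (f.hom ≫ g.hom) (f'.hom ≫ g'.hom) iB.hom := hcX
  have hfp' : LocP @LocallyOfFinitePresentation (f'.hom ≫ g'.hom) := hfp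
  have hiY : IsThickMor iY.hom :=
    MorphismProperty.of_isPullback (P := RepWith (S := S) thick) hcY.flip hB
  have hiX : IsThickMor iX.hom :=
    MorphismProperty.of_isPullback (P := RepWith (S := S) thick) hcX'.flip hB
  have sqXY : IsPullback iX.hom f.hom f'.hom iY.hom := IsPullback.of_bot hcX' w' hcY
  -- finiteness conditions
  have hlftc : LocP @LocallyOfFiniteType (f'.hom ≫ g'.hom) := fun U V a b h ha hb comm => by
    have : LocallyOfFinitePresentation h.left := hfp' a b h ha hb comm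
    change LocallyOfFiniteType h.left
    infer_instance
  have hlft' : LocP @LocallyOfFiniteType f'.hom :=
    Groth.Agent.H52.isEtLocal_lft.locP_of_comp
      (fun A B C p q h => by
        have : LocallyOfFiniteType (p ≫ q) := h
        exact locallyOfFiniteType_of_comp p q) hB' f'.hom g'.hom hlftc
  have hlft : LocP @LocallyOfFiniteType f.hom :=
    Groth.Agent.H52.isEtLocal_lft.locP_of_isPullback hX' hY' hY sqXY hlft'
  have hlfp' : LocP @LocallyOfFinitePresentation f'.hom :=
    Groth.Agent.H52.isEtLocal_lfp.locP_of_comp'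
      (fun A B C p q h hq => Groth.Agent.H52.lfp_of_comp_of_lft h hq) hB' f'.hom g'.hom hfp' hg'
  have hlfp : LocP @LocallyOfFinitePresentation f.hom :=
    Groth.Agent.H52.isEtLocal_lfp.locP_of_isPullback hX' hY' hY sqXY hlfp'
  obtain ⟨-, hfl, hlqf, -, hunr, het⟩ :=
    Groth.Agent.S10599.result iX iY iB f f' g g' hcX hcY w hB hg' hflat hfp 0
  obtain ⟨h1, h2, -, h4, h5⟩ :=
    Groth.Agent.Lib.Helper78.DeformIso.deform_core iX iY f f' hiX hiY w sqXY hfl hlqf
      ⟨fun _ => hlfp', fun _ => hlfp⟩ het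
  obtain ⟨-, -, -, hui, -⟩ := Groth.Agent.S10587.result iX iY f f' hiX hiY w
  refine ⟨h1, h2, ⟨?_, ?_⟩, h4, h5⟩
  · intro hm
    have hA : LocP (@LocallyOfFiniteType ⊓ @FormallyUnramified) f.hom ∧ Mono f.hom :=
      (Groth.Agent.S10613.result f).2.1.2 ⟨hlft, hm⟩
    have hBf := (Groth.Agent.S10613.result f).1.1 hA
    have hBf' : LocP (@LocallyOfFiniteType ⊓ @FormallyUnramified) f'.hom ∧
        IsUnivInjectiveMor f'.hom := ⟨hunr.1 hBf.1, hui.1 hBf.2⟩
    exact ((Groth.Agent.S10613.result f').1.2 hBf').2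
  · intro hm
    haveI : Mono f'.hom := hm
    exact sqXY.mono_snd_of_mono

end Groth.Agent.S10600
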