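import Groth.Statements.S10603
import Groth.Agent.Lib.Helper78.FibreChartFlat
import Groth.Agent.H52.LocNoeth
import Groth.Agent.H52.ThickFlat
import Groth.Agent.H52.LocPInst
import Groth.Agent.S1386

set_option autoImplicit false
universe u
open CategoryTheory CategoryTheory.Limits AlgebraicGeometry
open AlgSp

namespace Groth.Agent.S10603

/-- Let f : X ⟶ Y and h : Y ⟶ Z be morphisms of algebraic spaces over S. Suppose X is flat and locally
of finite presentation over Z, Y is locally of finite type over Z, and for every field K and every z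
: Spec K ⟶ Z the base change X_z ⟶ Y_z of f is flat (fibres taken as pullback squares of fppf
sheaves). Then f is flat; if moreover f is surjective, then h is flat. -/
theorem result {S : Scheme.{u}} {X Y Z : AlgSp.Space S} (f : X ⟶ Y) (h : Y ⟶ Z)
    (hfp : AlgSp.LocP @LocallyOfFinitePresentation (f ≫ h).hom) (hfl : AlgSp.LocP @Flat (f ≫ h).hom)
    (hft : AlgSp.LocP @LocallyOfFiniteType h.hom)
    (hfib : ∀ (K : Type u) [Field K] (sK : Spec (CommRingCat.of K) ⟶ S)
      (z : (AlgSp.yon S).obj (Over.mk sK) ⟶ Z.obj) (Xz Yz : AlgSp.Sp S)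
      (pX : Xz ⟶ X.obj) (qX : Xz ⟶ (AlgSp.yon S).obj (Over.mk sK))
      (pY : Yz ⟶ Y.obj) (qY : Yz ⟶ (AlgSp.yon S).obj (Over.mk sK)) (fz : Xz ⟶ Yz),
      IsPullback pX qX (f ≫ h).hom z → IsPullback pY qY h.hom z → fz ≫ pY = pX ≫ f.hom → fz ≫ qY = qX →
      AlgSp.LocP @Flat fz) :
    AlgSp.LocP @Flat f.hom ∧ (AlgSp.IsSurjectiveMor f.hom → AlgSp.LocP @Flat h.hom) := by
  have hX : IsAlgSpace X.obj := X.property
  have hY : IsAlgSpace Y.obj := Y.property
  have hZ : IsAlgSpace Z.obj := Z.property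
  have hfp' : LocP @LocallyOfFinitePresentation (f.hom ≫ h.hom) := hfp
  have hfl' : LocP @Flat (f.hom ≫ h.hom) := hfl
  have key : ∀ {U V W : Over S} (a : (yon S).obj U ⟶ X.obj) (_ : RepWith @Etale a)
      (b : (yon S).obj V ⟶ Y.obj) (_ : RepWith @Etale b) (c : (yon S).obj W ⟶ Z.obj)
      (_ : RepWith @Etale c) (fU : U ⟶ V) (hV : V ⟶ W)
      (_ : a ≫ f.hom = (yon S).map fU ≫ b) (_ : b ≫ h.hom = (yon S).map hV ≫ c) (u : ↥U.left),
      (hV.left.stalkMap (fU.left u)).hom.Flat ∧ (fU.left.stalkMap u).hom.Flat := by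
    intro U V W a ha b hb c hc fU hV commU commV u
    have commW : a ≫ f.hom ≫ h.hom = (yon S).map (fU ≫ hV) ≫ c := by
      rw [← Category.assoc, commU, Category.assoc, commV, Functor.map_comp, Category.assoc]
    haveI i1 : LocallyOfFinitePresentation (fU.left ≫ hV.left) := hfp' a c (fU ≫ hV) ha hc commW
    haveI i2 : Flat (fU.left ≫ hV.left) := hfl' a c (fU ≫ hV) ha hc commW
    haveI i3 : LocallyOfFiniteType hV.left := hft b c hV hb hc commV
    have hcrit := (Groth.Agent.S1386.result fU.left hV.left).1 u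
    refine hcrit.1 ⟨Flat.stalkMap _ u, ?_⟩
    haveI := Groth.Agent.Lib.Helper78.FibreChart.flat_fiberMap_of_chart hX hY hZ f.hom h.hom hfib
      a ha b hb c hc fU hV commU commV (hV.left (fU.left u))
    exact Flat.stalkMap _ _
  obtain ⟨W, c, hce, hcs⟩ := hZ.atlas
  obtain ⟨V, b, hV, hbe, hbs, commV⟩ :=
    Groth.Agent.H52.exists_surjective_chart_over hY h.hom c hce hcs
  obtain ⟨U, a, fU, hae, has, commU⟩ :=
    Groth.Agent.H52.exists_surjective_chart_over hX f.hom b hbe hbs
  have hflatU : Flat fU.left :=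
    Flat.of_stalkMap _ (fun u => (key a hae b hbe c hce fU hV commU commV u).2)
  have h1 : LocP @Flat f.hom :=
    Groth.Agent.H52.isEtLocal_flat.locP_of_chart f.hom a b fU hae has hbe commU hflatU
  refine ⟨h1, fun hsurj => ?_⟩
  have hflatV : Flat hV.left := by
    refine Flat.of_stalkMap _ (fun v => ?_)
    obtain ⟨x, hx⟩ := hsurj (Points.ofPt b v)
    obtain ⟨U₁, a₁, k, u, ha₁, comm₁, -, hku⟩ :=
      Groth.Agent.H52.exists_chart_over_through_point hX hY f.hom b hbe x v hx.symm
    have := (key a₁ ha₁ b hbe c hce k hV comm₁ commV u).1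
    exact hku ▸ this
  exact Groth.Agent.H52.isEtLocal_flat.locP_of_chart h.hom b c hV hbe hbs hce commV hflatV

end Groth.Agent.S10603
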