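import Groth.Statements.S10605
import Groth.Agent.Lib.Helper54.AffineDescentRep
import Groth.Agent.Lib.Helper1.AffineAndDescent
import Groth.Agent.S10533
import Mathlib.AlgebraicGeometry.Morphisms.FlatDescent

set_option backward.isDefEq.respectTransparency false

set_option autoImplicit false
universe u
open CategoryTheory CategoryTheory.Limits AlgebraicGeometry
open AlgSp

namespace Groth.Agent.S10605

/-- The property of a morphism of algebraic spaces over S of being a thickening (representable, every
base change to a scheme a surjective closed immersion) is local on the base for the fpqc topology.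
(The published statement also claims the same for first order thickenings; this row states only the
thickening clause.) -/
theorem result {S : Scheme.{u}} :
    AlgSp.IsLocalOnBase (S := S) AlgSp.IsFpqcCover
      AlgSp.IsThickMor := by
  have hdesc : MorphismProperty.DescendsAlong @IsClosedImmersion
      (@Surjective ⊓ @Flat ⊓ @QuasiCompact : MorphismProperty Scheme.{u}) :=
    Groth.Agent.Lib.Helper1.descendsAlong_isClosedImmersion_fpqc
  have hdesc3 : MorphismProperty.DescendsAlong (AlgSp.thick.{u})
      (@Surjective ⊓ @Flat ⊓ @QuasiCompact : MorphismProperty Scheme.{u}) := by
    unfold AlgSp.thick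
    infer_instance
  have hloc : IsZariskiLocalAtTarget (AlgSp.thick.{u}) := by
    unfold AlgSp.thick
    infer_instance
  exact Groth.Agent.Lib.Helper54.repWith_isLocalOnBase_fpqc_of_le_isAffineHom
    (Groth.Agent.S10533.result S) AlgSp.thick
    (fun _ _ φ hφ => by have : IsClosedImmersion φ := hφ.1; infer_instance)

end Groth.Agent.S10605
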