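import Groth.Statements.S10606
import Groth.Agent.Lib.Helper78.PureMonoSp
import Groth.Agent.Lib.Helper54.FlatMonoSp
import Groth.Agent.H53.Proper2
import Groth.Agent.H53.FibreHomeo
import Groth.Agent.H52.LocPInst

set_option autoImplicit false
universe u
open CategoryTheory CategoryTheory.Limits AlgebraicGeometry
open AlgSp

namespace Groth.Agent.S10606

/-- Let f : X ⟶ Y be a monomorphism of algebraic spaces over S that is quasi-compact, and suppose that
for every T ⟶ Y the map from the structure sheaf of T to the direct image of the structure sheaf of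
X ×_Y T is injective. Then f must be an isomorphism. The injectivity is spelled out on sections: for
every scheme T over S, every T ⟶ Y, every pullback square with corner P = X ×_Y T and every global
function s on T, if the pullback of s along every morphism from a scheme to P vanishes, then s = 0
(this is injectivity on global sections over every scheme etale over every base, which is the
sheaf-level injectivity). -/
theorem result {S : Scheme.{u}} {X Y : AlgSp.Space S} (f : X ⟶ Y)
    (hqc : AlgSp.IsQuasiCompactMor f.hom) [Mono f.hom]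
    (hinj : ∀ (T : Over S) (g : (AlgSp.yon S).obj T ⟶ Y.obj) (P : AlgSp.Sp S) (fst : P ⟶ X.obj)
      (snd : P ⟶ (AlgSp.yon S).obj T), IsPullback fst snd f.hom g →
      ∀ s : Γ(T.left, ⊤),
        (∀ (W : Over S) (a : (AlgSp.yon S).obj W ⟶ P) (c : W ⟶ T),
          a ≫ snd = (AlgSp.yon S).map c → c.left.appTop s = 0) → s = 0) :
    IsIso f.hom := by
  have core : ∀ (Z : Over S), IsAffine Z.left → ∀ (g : (AlgSp.yon S).obj Z ⟶ Y.obj) (Q : AlgSp.Sp S)
      (p₁ : Q ⟶ X.obj) (p₂ : Q ⟶ (AlgSp.yon S).obj Z), IsPullback p₁ p₂ f.hom g →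
      ∃ (U₂ : Over S) (a₂ : (AlgSp.yon S).obj U₂ ⟶ Q) (h₂ : U₂ ⟶ Z), AlgSp.RepWith @Etale a₂ ∧
        AlgSp.RepWith @Surjective a₂ ∧ a₂ ≫ p₂ = (AlgSp.yon S).map h₂ ∧ Flat h₂.left ∧
          Surjective h₂.left := by
    intro Z hZ g Q p₁ p₂ sq
    haveI := hZ
    haveI : Mono p₂ := PullbackCone.mono_snd_of_is_pullback_of_mono sq.isLimit
    have hqcQ : AlgSp.IsQuasiCompactSp Q :=
      hqc (AlgSp.IsAlgSpace.yon_obj Z) (Groth.Agent.H52.isQuasiCompactSp_yon Z) g p₁ p₂ sq
    refine Groth.Agent.Lib.Helper78.PureMono.flat_surjective_chart_of_mono p₂ hqcQ ?_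
    intro T t P fst snd sqP s hs
    have sq2 : IsPullback (fst ≫ p₁) snd f.hom ((AlgSp.yon S).map t ≫ g) := sqP.paste_horiz sq
    exact hinj T ((AlgSp.yon S).map t ≫ g) P (fst ≫ p₁) snd sq2 s hs
  have hflat : AlgSp.LocP @Flat f.hom :=
    Groth.Agent.H53.locP_of_forall_affine X.property Y.property f.hom
      (fun Z hZ g Q p₁ p₂ sq => by
        obtain ⟨U₂, a₂, h₂, hae, has, hcomm, hfl, -⟩ := core Z hZ g Q p₁ p₂ sq
        exact Groth.Agent.H52.isEtLocal_flat.locP_of_chart p₂ a₂ (𝟙 _) h₂ hae has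
          (AlgSp.repWith_id _ Z) (by rw [Category.comp_id]; exact hcomm) hfl)
  have hsurj : AlgSp.IsSurjectiveMor f.hom := by
    intro y
    induction y using AlgSp.Points.ind with | h q =>
    have sq := IsPullback.of_hasPullback f.hom q.toHom
    obtain ⟨U₂, a₂, h₂, -, -, hcomm, -, hs⟩ :=
      core q.pt (inferInstanceAs (IsAffine (Spec (CommRingCat.of q.K)))) q.toHom _ _ _ sq
    obtain ⟨u, -⟩ := hs.surj (IsLocalRing.closedPoint q.K)
    refine ⟨AlgSp.Points.map (pullback.fst f.hom q.toHom) (AlgSp.Points.ofPt a₂ u), ?_⟩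
    rw [← AlgSp.Points.map_comp, pullback.condition, AlgSp.Points.map_comp,
      Groth.Agent.H53.FibrePts.points_map_toHom_eq]
  exact Groth.Agent.Lib.Helper54.isIso_of_qc_flat_surjective_mono X.property Y.property f.hom hqc
    hflat hsurj

end Groth.Agent.S10606
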