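import Groth.Statements.S10610
import Groth.Agent.Lib.Helper54.ProperQf
import Groth.Agent.Lib.Helper66.AlgStAffFacts
import Groth.Agent.S10587
import Groth.Agent.S10589
import Groth.Agent.S10596

set_option autoImplicit false
universe u
open CategoryTheory CategoryTheory.Limits AlgebraicGeometry
open AlgSp

namespace Groth.Agent.S10610

/-- Let iB : B ⟶ B' be a finite order thickening of algebraic spaces over S (a thickening such that for
one n the (n+1)-st power of the ideal vanishes on every affine etale scheme chart), f' : X' ⟶ Y' a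
morphism of algebraic spaces over B' (via g' : Y' ⟶ B') with X' flat over B', and f : X ⟶ Y, g : Y ⟶
B its base change to B (both squares to iB cartesian, iX ≫ f' = f ≫ iY). Then f is finite if and
only if f' is finite. (The published statement lists eleven further properties with the same
equivalence: representable by schemes, quasi-compact, universally closed, separated,
quasi-separated, surjective, universally injective, affine, universally open, proper and integral.
Since iX and iY are again thickenings and X = Y ×_{Y'} X', those cases follow from the corresponding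
statements for morphisms of thickenings and are not restated here.) -/
theorem result {S : Scheme.{u}} {X X' Y Y' B B' : AlgSp.Space S} (iX : X ⟶ X') (iY : Y ⟶ Y') (iB : B ⟶ B')
    (f : X ⟶ Y) (f' : X' ⟶ Y') (g : Y ⟶ B) (g' : Y' ⟶ B')
    (hcX : IsPullback iX.hom (f ≫ g).hom (f' ≫ g').hom iB.hom) (hcY : IsPullback iY.hom g.hom g'.hom iB.hom)
    (w : iX ≫ f' = f ≫ iY)
    (hB : AlgSp.IsFinThickMor iB.hom) (hflat : AlgSp.LocP @Flat (f' ≫ g').hom) :
    (AlgSp.IsFiniteMor f.hom ↔ AlgSp.IsFiniteMor f'.hom) := by
  have hX' : IsAlgSpace X'.obj := X'.property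
  have hY' : IsAlgSpace Y'.obj := Y'.property
  have hX : IsAlgSpace X.obj := X.property
  have hY : IsAlgSpace Y.obj := Y.property
  have w' : iX.hom ≫ f'.hom = f.hom ≫ iY.hom := congrArg (fun k => k.hom) w
  have hcX' : IsPullback iX.hom (f.hom ≫ g.hom) (f'.hom ≫ g'.hom) iB.hom := hcX
  have hthick : IsThickMor iB.hom := hB.choose_spec.1
  have hiY : IsThickMor iY.hom :=
    MorphismProperty.of_isPullback (P := RepWith (S := S) thick) hcY.flip hthick
  have hiX : IsThickMor iX.hom :=
    MorphismProperty.of_isPullback (P := RepWith (S := S) thick) hcX'.flip hthick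
  have sqXY : IsPullback iX.hom f.hom f'.hom iY.hom := IsPullback.of_bot hcX' w' hcY
  obtain ⟨hsurj, hqc, huc, hui, huo⟩ := Groth.Agent.S10587.result iX iY f f' hiX hiY w
  obtain ⟨hsep, hqsep⟩ := Groth.Agent.S10589.result iX iY f f' hiX hiY w
  obtain ⟨-, -, -, hlqf, -, -, -, -⟩ :=
    Groth.Agent.S10596.result iX iY iB f f' g g' hcX hcY w hB hflat 0
  constructor
  · intro hfin
    obtain ⟨-, h1, -, h3⟩ := (Groth.Agent.H53.isFiniteMor_iff hX hY f.hom).1 hfin
    have hq := Groth.Agent.Lib.Helper54.locP_lqf_of_isFiniteMor f.hom hfin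
    exact Groth.Agent.Lib.Helper54.isFiniteMor_of_univClosed_sep_lqf hX' hY' f'.hom
      (huc.1 h3) (hsep.1 h1) (hlqf.1 hq)
  · intro hfin
    exact Groth.Agent.Lib.Helper66.AlgStAffFacts.isFiniteMor_of_isPullback sqXY hfin

end Groth.Agent.S10610
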