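import Groth.Statements.S10611
import Groth.Agent.Lib.Helper54.ProperQf
import Groth.Agent.Lib.Helper66.AlgStAffFacts
import Groth.Agent.H52.LocPCalc3
import Groth.Agent.H52.LocPInst
import Groth.Agent.S10587
import Groth.Agent.S10589
import Groth.Agent.S10599

set_option autoImplicit false
universe u
open CategoryTheory CategoryTheory.Limits AlgebraicGeometry
open AlgSp

namespace Groth.Agent.S10611

/-- Let iB : B ⟶ B' be a thickening of algebraic spaces over S (representable, every base change to a
scheme a surjective closed immersion), f' : X' ⟶ Y' a morphism of algebraic spaces over B' (via g' :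
Y' ⟶ B') with Y' locally of finite type over B' and X' flat and locally of finite presentation over
B', and f : X ⟶ Y, g : Y ⟶ B its base change to B (both squares to iB cartesian, iX ≫ f' = f ≫ iY).
Then f is proper if and only if f' is proper, and f is finite if and only if f' is finite. (The
published statement lists nine further properties with the same equivalence: representable by
schemes, quasi-compact, universally closed, separated, quasi-separated, surjective, universally
injective, affine and universally open. Since iX and iY are again thickenings and X = Y ×_{Y'} X',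
those cases follow from the corresponding statements for morphisms of thickenings and are not
restated here.) -/
theorem result {S : Scheme.{u}} {X X' Y Y' B B' : AlgSp.Space S} (iX : X ⟶ X') (iY : Y ⟶ Y') (iB : B ⟶ B')
    (f : X ⟶ Y) (f' : X' ⟶ Y') (g : Y ⟶ B) (g' : Y' ⟶ B')
    (hcX : IsPullback iX.hom (f ≫ g).hom (f' ≫ g').hom iB.hom) (hcY : IsPullback iY.hom g.hom g'.hom iB.hom)
    (w : iX ≫ f' = f ≫ iY)
    (hB : AlgSp.IsThickMor iB.hom)
    (hg' : AlgSp.LocP @LocallyOfFiniteType g'.hom)
    (hflat : AlgSp.LocP @Flat (f' ≫ g').hom) (hfp : AlgSp.LocP @LocallyOfFinitePresentation (f' ≫ g').hom) :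
    (AlgSp.IsProperMor f.hom ↔ AlgSp.IsProperMor f'.hom) ∧
    (AlgSp.IsFiniteMor f.hom ↔ AlgSp.IsFiniteMor f'.hom) := by
  have hX' : IsAlgSpace X'.obj := X'.property
  have hY' : IsAlgSpace Y'.obj := Y'.property
  have hB' : IsAlgSpace B'.obj := B'.property
  have hX : IsAlgSpace X.obj := X.property
  have hY : IsAlgSpace Y.obj := Y.property
  have w' : iX.hom ≫ f'.hom = f.hom ≫ iY.hom := congrArg (fun k => k.hom) w
  have hcX' : IsPullback iX.hom (f.hom ≫ g.hom) (f'.hom ≫ g'.hom) iB.hom := hcX
  have hfp' : LocP @LocallyOfFinitePresentation (f'.hom ≫ g'.hom) := hfp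
  have hiY : IsThickMor iY.hom :=
    MorphismProperty.of_isPullback (P := RepWith (S := S) thick) hcY.flip hB
  have hiX : IsThickMor iX.hom :=
    MorphismProperty.of_isPullback (P := RepWith (S := S) thick) hcX'.flip hB
  have sqXY : IsPullback iX.hom f.hom f'.hom iY.hom := IsPullback.of_bot hcX' w' hcY
  -- finiteness conditions
  have hlftc : LocP @LocallyOfFiniteType (f'.hom ≫ g'.hom) := fun U V a b h ha hb comm => by
    have : LocallyOfFinitePresentation h.left := hfp' a b h ha hb comm
    change LocallyOfFiniteType h.left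
    infer_instance
  have hlft' : LocP @LocallyOfFiniteType f'.hom :=
    Groth.Agent.H52.isEtLocal_lft.locP_of_comp
      (fun A B C p q h => by
        have : LocallyOfFiniteType (p ≫ q) := h
        exact locallyOfFiniteType_of_comp p q) hB' f'.hom g'.hom hlftc
  have hlft : LocP @LocallyOfFiniteType f.hom :=
    Groth.Agent.H52.isEtLocal_lft.locP_of_isPullback hX' hY' hY sqXY hlft'
  obtain ⟨hsurj, hqc, huc, hui, huo⟩ := Groth.Agent.S10587.result iX iY f f' hiX hiY w
  obtain ⟨hsep, hqsep⟩ := Groth.Agent.S10589.result iX iY f f' hiX hiY w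
  obtain ⟨-, -, hlqf, -, -, -⟩ :=
    Groth.Agent.S10599.result iX iY iB f f' g g' hcX hcY w hB hg' hflat hfp 0
  refine ⟨?_, ?_⟩
  · constructor
    · rintro ⟨h1, ⟨-, h2⟩, h3⟩
      exact ⟨hsep.1 h1, ⟨hlft', hqc.1 h2⟩, huc.1 h3⟩
    · rintro ⟨h1, ⟨-, h2⟩, h3⟩
      exact ⟨hsep.2 h1, ⟨hlft, hqc.2 h2⟩, huc.2 h3⟩
  · constructor
    · intro hfin
      obtain ⟨-, h1, -, h3⟩ := (Groth.Agent.H53.isFiniteMor_iff hX hY f.hom).1 hfin
      have hq := Groth.Agent.Lib.Helper54.locP_lqf_of_isFiniteMor f.hom hfin
      exact Groth.Agent.Lib.Helper54.isFiniteMor_of_univClosed_sep_lqf hX' hY' f'.hom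
        (huc.1 h3) (hsep.1 h1) (hlqf.1 hq)
    · intro hfin
      exact Groth.Agent.Lib.Helper66.AlgStAffFacts.isFiniteMor_of_isPullback sqXY hfin

end Groth.Agent.S10611
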