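import Groth.Statements.S10614
import Groth.Agent.Lib.Helper54.MonoUnram

set_option autoImplicit false
universe u
open CategoryTheory CategoryTheory.Limits AlgebraicGeometry
open AlgSp

namespace Groth.Agent.S10614

/-- For a morphism f : X ⟶ Y of algebraic spaces over S, being a closed immersion (representable by
closed immersions) is equivalent to each of: (a) universally closed plus unramified plus
monomorphism; (b) universally closed plus unramified plus universally injective; (c) a universally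
closed monomorphism that is locally of finite type; (d) universally closed, universally injective,
locally of finite type and formally unramified (lifting sense). (Unramified is the etale-local
condition locally of finite type and formally unramified on charts; monomorphisms are taken in fppf
sheaves.) -/
theorem result {S : Scheme.{u}} {X Y : AlgSp.Space S} (f : X ⟶ Y) :
    (AlgSp.RepWith @IsClosedImmersion f.hom ↔
      (AlgSp.IsUnivClosedMor f.hom ∧ AlgSp.LocP (@LocallyOfFiniteType ⊓ @FormallyUnramified) f.hom ∧ Mono f.hom)) ∧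
    (AlgSp.RepWith @IsClosedImmersion f.hom ↔
      (AlgSp.IsUnivClosedMor f.hom ∧ AlgSp.LocP (@LocallyOfFiniteType ⊓ @FormallyUnramified) f.hom ∧ AlgSp.IsUnivInjectiveMor f.hom)) ∧
    (AlgSp.RepWith @IsClosedImmersion f.hom ↔
      (AlgSp.IsUnivClosedMor f.hom ∧ AlgSp.LocP @LocallyOfFiniteType f.hom ∧ Mono f.hom)) ∧
    (AlgSp.RepWith @IsClosedImmersion f.hom ↔
      (AlgSp.IsUnivClosedMor f.hom ∧ AlgSp.IsUnivInjectiveMor f.hom ∧ AlgSp.LocP @LocallyOfFiniteType f.hom ∧
        AlgSp.IsFormallyUnramifiedMor f.hom)) := by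
  have hX := X.property
  have hY := Y.property
  have hfu := Groth.Agent.H52.isFormallyUnramifiedMor_iff_locP hX hY f.hom
  have hkey : AlgSp.RepWith @IsClosedImmersion f.hom ↔
      (AlgSp.IsUnivClosedMor f.hom ∧ AlgSp.LocP @LocallyOfFiniteType f.hom ∧ Mono f.hom) := by
    constructor
    · exact Groth.Agent.Lib.Helper54.mono_lft_of_repWith_isClosedImmersion hX hY f.hom
    · rintro ⟨h1, h2, h3⟩
      exact Groth.Agent.Lib.Helper54.repWith_isClosedImmersion_of_univClosed_mono_lft hX hY f.hom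
        h2 h1
  have h13 : (AlgSp.LocP @LocallyOfFiniteType f.hom ∧ Mono f.hom) ↔
      (AlgSp.LocP (@LocallyOfFiniteType ⊓ @FormallyUnramified) f.hom ∧ Mono f.hom) :=
    ⟨fun ⟨h1, h2⟩ => ⟨Groth.Agent.Lib.Helper54.locP_unramified_of_mono hX hY f.hom h1, h2⟩,
      fun ⟨h1, h2⟩ => ⟨fun U V a b h ha hb w => (h1 a b h ha hb w).1, h2⟩⟩
  have h12 : (AlgSp.LocP (@LocallyOfFiniteType ⊓ @FormallyUnramified) f.hom ∧ Mono f.hom) ↔
      (AlgSp.LocP (@LocallyOfFiniteType ⊓ @FormallyUnramified) f.hom ∧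
        AlgSp.IsUnivInjectiveMor f.hom) :=
    ⟨fun ⟨h1, h2⟩ => ⟨h1, Groth.Agent.Lib.Helper54.isUnivInjectiveMor_of_mono f.hom⟩,
      fun ⟨h1, h2⟩ =>
        ⟨h1, Groth.Agent.Lib.Helper54.mono_of_unramified_of_isUnivInjectiveMor hX hY f.hom h1 h2⟩⟩
  have h24 : (AlgSp.LocP (@LocallyOfFiniteType ⊓ @FormallyUnramified) f.hom ∧
        AlgSp.IsUnivInjectiveMor f.hom) ↔
      (AlgSp.IsUnivInjectiveMor f.hom ∧ AlgSp.LocP @LocallyOfFiniteType f.hom ∧
        AlgSp.IsFormallyUnramifiedMor f.hom) :=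
    ⟨fun ⟨h1, h2⟩ => ⟨h2, fun U V a b h' ha hb w => (h1 a b h' ha hb w).1,
      hfu.2 fun U V a b h' ha hb w => (h1 a b h' ha hb w).2⟩,
      fun ⟨h1, h2, h3⟩ =>
        ⟨fun U V a b h' ha hb w => ⟨h2 a b h' ha hb w, hfu.1 h3 a b h' ha hb w⟩, h1⟩⟩
  refine ⟨?_, ?_, hkey, ?_⟩
  · rw [hkey, h13]
  · rw [hkey, h13, h12]
  · rw [hkey, h13, h12, h24]

end Groth.Agent.S10614
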