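import Groth.Statements.S10616
import Groth.Agent.H52.FormalEt
import Groth.Agent.S1488
import Groth.Agent.Lib.Helper51.ThickeningSpec

set_option autoImplicit false
universe u
open CategoryTheory CategoryTheory.Limits AlgebraicGeometry
open AlgSp

namespace Groth.Agent.S10616

/-- Let a : F ⟶ G be a morphism of fppf sheaves on (Sch/S). If a is representable and smooth, then a is
formally smooth; if a is representable and etale, then a is formally etale; if a is representable
and unramified, then a is formally unramified (lifting conditions against square-zero thickenings of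
affine schemes). (The published statement is for transformations of arbitrary presheaves of sets on
(Sch/S)_fppf; this row takes fppf sheaves, the case of algebraic spaces.) -/
theorem result {S : Scheme.{u}} {F G : AlgSp.Sp S} (a : F ⟶ G) :
    (AlgSp.RepWith @Smooth a → AlgSp.IsFormallySmoothMor a) ∧
    (AlgSp.RepWith @Etale a → AlgSp.IsFormallyEtaleMor a) ∧
    (AlgSp.RepWith (@LocallyOfFiniteType ⊓ @FormallyUnramified) a → AlgSp.IsFormallyUnramifiedMor a) := by
  refine ⟨?_, Groth.Agent.H52.isFormallyEtaleMor_of_repWith_etale a, ?_⟩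
  · -- smooth
    intro ha sq
    have hrep := ha.rep
    have psq := hrep.isPullback sq.bot
    have hsm : Smooth (hrep.snd sq.bot).left := ha.property_snd sq.bot
    have hfs : MoreMor.IsFormallySmoothHom (hrep.snd sq.bot).left :=
      ((Groth.Agent.S1488.result _).mp hsm).2
    obtain ⟨s, hs⟩ := (yon S).map_surjective (psq.lift sq.top ((yon S).map sq.j) sq.comm)
    have hs1 : (yon S).map s ≫ hrep.fst sq.bot = sq.top := by rw [hs]; exact psq.lift_fst _ _ _
    have hs2 : s ≫ hrep.snd sq.bot = sq.j := by
      apply (yon S).map_injective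
      rw [Functor.map_comp, hs]; exact psq.lift_snd _ _ _
    have hs2' : Spec.map (CommRingCat.ofHom (Ideal.Quotient.mk sq.I)) ≫ 𝟙 _ =
        s.left ≫ (hrep.snd sq.bot).left := by
      rw [Category.comp_id, ← Over.comp_left, hs2]
      rfl
    obtain ⟨f, hf2, hf1⟩ := hfs sq.A sq.I sq.sq_zero s.left (𝟙 _) hs2'
    let fO : sq.ptT' ⟶ hrep.pullback sq.bot := Over.homMk f (by
      have := Over.w (hrep.snd sq.bot)
      rw [← this, ← Category.assoc, hf1]
      exact Category.id_comp _)
    have hfO1 : fO ≫ hrep.snd sq.bot = 𝟙 sq.ptT' := by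
      ext; exact hf1
    have hfO2 : sq.j ≫ fO = s := by
      ext; exact hf2
    refine ⟨(yon S).map fO ≫ hrep.fst sq.bot, ?_, ?_⟩
    · rw [← Category.assoc, ← Functor.map_comp, hfO2, hs1]
    · rw [Category.assoc, psq.w, ← Category.assoc, ← Functor.map_comp, hfO1,
        CategoryTheory.Functor.map_id, Category.id_comp]
  · -- unramified
    intro ha sq l l' hl1 hl2 hl'1 hl'2
    have hrep := ha.rep
    have psq := hrep.isPullback sq.bot
    have hun : FormallyUnramified (hrep.snd sq.bot).left := (ha.property_snd sq.bot).2
    obtain ⟨m, hm⟩ := (yon S).map_surjective (psq.lift l (𝟙 _) (by rw [hl2, Category.id_comp]))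
    obtain ⟨m', hm'⟩ := (yon S).map_surjective (psq.lift l' (𝟙 _) (by rw [hl'2, Category.id_comp]))
    have hm1 : (yon S).map m ≫ hrep.fst sq.bot = l := by rw [hm]; exact psq.lift_fst _ _ _
    have hm'1 : (yon S).map m' ≫ hrep.fst sq.bot = l' := by rw [hm']; exact psq.lift_fst _ _ _
    have hm2 : m ≫ hrep.snd sq.bot = 𝟙 sq.ptT' := by
      apply (yon S).map_injective
      rw [Functor.map_comp, hm, psq.lift_snd]
      exact ((yon S).map_id _).symm
    have hm'2 : m' ≫ hrep.snd sq.bot = 𝟙 sq.ptT' := by
      apply (yon S).map_injective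
      rw [Functor.map_comp, hm', psq.lift_snd]
      exact ((yon S).map_id _).symm
    have hjm : sq.j ≫ m = sq.j ≫ m' := by
      apply (yon S).map_injective
      apply psq.hom_ext
      · rw [Functor.map_comp, Category.assoc, hm1, hl1, Functor.map_comp, Category.assoc, hm'1, hl'1]
      · rw [← Functor.map_comp, Category.assoc, hm2, ← Functor.map_comp, Category.assoc, hm'2]
    have hnil : IsNilpotent (Spec.map (CommRingCat.ofHom (Ideal.Quotient.mk sq.I))).ker := by
      have h1 := (Groth.Agent.Lib.Helper51.isFirstOrderThickening_SpecMap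
        (CommRingCat.ofHom (Ideal.Quotient.mk sq.I)) Ideal.Quotient.mk_surjective (by
          rw [CommRingCat.hom_ofHom, Ideal.mk_ker]; exact sq.sq_zero)).2
      exact ⟨2, by rw [pow_two]; exact h1⟩
    haveI : IsClosedImmersion (Spec.map (CommRingCat.ofHom (Ideal.Quotient.mk sq.I))) :=
      IsClosedImmersion.spec_of_surjective _ Ideal.Quotient.mk_surjective
    have key : m.left = m'.left :=
      FormallyUnramified.hom_ext (Spec.map (CommRingCat.ofHom (Ideal.Quotient.mk sq.I))) hnil
        (hrep.snd sq.bot).left
        (by
          have := congrArg (fun t => t.left) hjm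
          simp only [Over.comp_left] at this
          exact this)
        (by rw [← Over.comp_left, ← Over.comp_left, hm2, hm'2])
    have hmm : m = m' := by ext; exact key
    rw [← hm1, ← hm'1, hmm]

end Groth.Agent.S10616
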