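import Groth.Statements.S10618
import Groth.Agent.Lib.Helper55.InfSq

set_option autoImplicit false
universe u
open CategoryTheory CategoryTheory.Limits AlgebraicGeometry
open AlgSp

namespace Groth.Agent.S10618

open Groth.Agent.Lib.Helper55

theorem unramified_of_comp {S : Scheme.{u}} {F G H : AlgSp.Sp S} (a : F ⟶ G) (b : G ⟶ H)
    (hab : AlgSp.IsFormallyUnramifiedMor (a ≫ b)) : AlgSp.IsFormallyUnramifiedMor a := by
  intro sq l l' h1 h2 h1' h2'
  refine (InfSq.change_hasUniq_iff sq (a ≫ b) sq.top (sq.bot ≫ b)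
    (by rw [← Category.assoc, sq.comm, Category.assoc])).1 (hab _) l l' h1 ?_ h1' ?_
  · rw [← Category.assoc, h2]
  · rw [← Category.assoc, h2']

theorem smooth_of_comp {S : Scheme.{u}} {F G H : AlgSp.Sp S} (a : F ⟶ G) (b : G ⟶ H)
    (hb : AlgSp.IsFormallyUnramifiedMor b)
    (hab : AlgSp.IsFormallySmoothMor (a ≫ b)) : AlgSp.IsFormallySmoothMor a := by
  intro sq
  obtain ⟨l, hl1, hl2⟩ := (InfSq.change_hasLift_iff sq (a ≫ b) sq.top (sq.bot ≫ b)
    (by rw [← Category.assoc, sq.comm, Category.assoc])).1 (hab _)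
  refine ⟨l, hl1, ?_⟩
  refine (InfSq.change_hasUniq_iff sq b (sq.top ≫ a) (sq.bot ≫ b)
    (by rw [sq.comm, Category.assoc])).1 (hb _) (l ≫ a) sq.bot ?_ ?_ ?_ rfl
  · rw [← Category.assoc, hl1]
  · rw [Category.assoc, hl2]
  · exact sq.comm.symm

/-- Let a : F ⟶ G and b : G ⟶ H be morphisms of fppf sheaves on (Sch/S) with b formally unramified. If a
≫ b is formally unramified, resp. formally etale, resp. formally smooth, then so is a. (The
published statement is for transformations of arbitrary presheaves of sets on (Sch/S)_fppf; this row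
takes fppf sheaves, the case of algebraic spaces.) -/
theorem result {S : Scheme.{u}} {F G H : AlgSp.Sp S} (a : F ⟶ G) (b : G ⟶ H)
    (hb : AlgSp.IsFormallyUnramifiedMor b) :
    (AlgSp.IsFormallyUnramifiedMor (a ≫ b) → AlgSp.IsFormallyUnramifiedMor a) ∧
    (AlgSp.IsFormallyEtaleMor (a ≫ b) → AlgSp.IsFormallyEtaleMor a) ∧
    (AlgSp.IsFormallySmoothMor (a ≫ b) → AlgSp.IsFormallySmoothMor a) := by
  refine ⟨unramified_of_comp a b, ?_, smooth_of_comp a b hb⟩
  intro hab
  rw [isFormallyEtaleMor_iff] at hab ⊢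
  exact ⟨smooth_of_comp a b hb hab.1, unramified_of_comp a b hab.2⟩

end Groth.Agent.S10618
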