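import Groth.Statements.S10620
import Groth.Agent.Lib.Helper55.InfSq

set_option autoImplicit false
universe u
open CategoryTheory CategoryTheory.Limits AlgebraicGeometry
open AlgSp

namespace Groth.Agent.S10620

open Groth.Agent.Lib.Helper55

theorem smooth_baseChange {S : Scheme.{u}} {F G H P : AlgSp.Sp S} (a : F ⟶ G) (b : H ⟶ G)
    (b' : P ⟶ F) (a' : P ⟶ H) (hP : IsPullback b' a' a b)
    (ha : AlgSp.IsFormallySmoothMor a) : AlgSp.IsFormallySmoothMor a' := by
  intro sq
  obtain ⟨l, hl1, hl2⟩ := (InfSq.change_hasLift_iff sq a (sq.top ≫ b') (sq.bot ≫ b)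
    (by rw [Category.assoc, hP.w, ← Category.assoc, sq.comm, Category.assoc])).1 (ha _)
  refine ⟨hP.lift l sq.bot hl2, ?_, hP.lift_snd _ _ _⟩
  apply hP.hom_ext
  · rw [Category.assoc, hP.lift_fst, hl1]
  · rw [Category.assoc, hP.lift_snd, sq.comm]

theorem unramified_baseChange {S : Scheme.{u}} {F G H P : AlgSp.Sp S} (a : F ⟶ G) (b : H ⟶ G)
    (b' : P ⟶ F) (a' : P ⟶ H) (hP : IsPullback b' a' a b)
    (ha : AlgSp.IsFormallyUnramifiedMor a) : AlgSp.IsFormallyUnramifiedMor a' := by
  intro sq l l' h1 h2 h1' h2'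
  apply hP.hom_ext
  · refine (InfSq.change_hasUniq_iff sq a (sq.top ≫ b') (sq.bot ≫ b)
      (by rw [Category.assoc, hP.w, ← Category.assoc, sq.comm, Category.assoc])).1 (ha _)
      (l ≫ b') (l' ≫ b') ?_ ?_ ?_ ?_
    · rw [← Category.assoc, h1]
    · rw [Category.assoc, hP.w, ← Category.assoc, h2]
    · rw [← Category.assoc, h1']
    · rw [Category.assoc, hP.w, ← Category.assoc, h2']
  · rw [h2, h2']

/-- Let a : F ⟶ G and b : H ⟶ G be morphisms of fppf sheaves on (Sch/S) and let a' : P ⟶ H be the base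
change of a along b (any pullback square). If a is formally smooth, resp. formally etale, resp.
formally unramified, then so is a'. (The published statement is for transformations of arbitrary
presheaves of sets on (Sch/S)_fppf; this row takes fppf sheaves, the case of algebraic spaces.) -/
theorem result {S : Scheme.{u}} {F G H P : AlgSp.Sp S} (a : F ⟶ G) (b : H ⟶ G)
    (b' : P ⟶ F) (a' : P ⟶ H) (hP : IsPullback b' a' a b) :
    (AlgSp.IsFormallySmoothMor a → AlgSp.IsFormallySmoothMor a') ∧
    (AlgSp.IsFormallyEtaleMor a → AlgSp.IsFormallyEtaleMor a') ∧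
    (AlgSp.IsFormallyUnramifiedMor a → AlgSp.IsFormallyUnramifiedMor a') := by
  refine ⟨smooth_baseChange a b b' a' hP, ?_, unramified_baseChange a b b' a' hP⟩
  intro ha
  rw [isFormallyEtaleMor_iff] at ha ⊢
  exact ⟨smooth_baseChange a b b' a' hP ha.1, unramified_baseChange a b b' a' hP ha.2⟩

end Groth.Agent.S10620
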