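import Groth.Statements.S10627
import Groth.Agent.H52.FormalEtChart
import Groth.Agent.S10208
import Groth.Agent.S10265
import Groth.Agent.S1489
open Groth.Agent.H52

set_option autoImplicit false
universe u
open CategoryTheory CategoryTheory.Limits AlgebraicGeometry
open AlgSp

namespace Groth.Agent.S10627

/-- A morphism f : X ⟶ Y of algebraic spaces over S is etale if and only if it is locally of finite
presentation and formally etale (lifting sense). -/
theorem result {S : Scheme.{u}} {X Y : AlgSp.Space S} (f : X ⟶ Y) :
    AlgSp.IsEtaleMor f.hom ↔ AlgSp.LocP @LocallyOfFinitePresentation f.hom ∧ AlgSp.IsFormallyEtaleMor f.hom := by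
  constructor
  · intro hf
    refine ⟨(Groth.Agent.S10265.result f hf).2.2.2.1, ?_⟩
    rw [isFormallyEtaleMor_iff_locP X.property Y.property]
    intro U V a b h ha hb w
    have : Etale h.left :=
      Groth.Agent.H53.etale_of_repWith_etale_triangle (a ≫ f.hom) b (hf a ha) hb h w.symm
    exact ((Groth.Agent.S1489.result h.left).1 this).2
  · rintro ⟨hlfp, hfe⟩
    obtain ⟨V, b, hbe, hbs⟩ := Y.property.atlas
    obtain ⟨U, a, h, hae, has, comm⟩ := exists_surjective_chart_over X.property f.hom b hbe hbs
    have h1 : LocallyOfFinitePresentation h.left := hlfp a b h hae hbe comm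
    have h2 : MoreMor.IsFormallyEtaleHom h.left :=
      locP_isFormallyEtaleHom_of_isFormallyEtaleMor f.hom hfe a b h hae hbe comm
    have : Etale h.left := (Groth.Agent.S1489.result h.left).2 ⟨h1, h2⟩
    exact Groth.Agent.S10208.result f a hae has b hbe h comm

end Groth.Agent.S10627
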