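import Groth.Statements.S10632
import Groth.Agent.H52.ThickLift2

set_option autoImplicit false
universe u
open CategoryTheory CategoryTheory.Limits AlgebraicGeometry
open AlgSp

namespace Groth.Agent.S10632

/-- Let e : Z ⟶ Y be an etale morphism of algebraic spaces over S, hY : Y ⟶ X, and let (iY : Y ⟶ Y', hY'
: Y' ⟶ X) be a universal first order thickening of Y over X. Let e' : Z' ⟶ Y' be etale with iZ : Z ⟶
Z' making Z = Y ×_{Y'} Z' a pullback square. Then (iZ, e' ≫ hY') is a universal first order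
thickening of Z over X. -/
theorem result {S : Scheme.{u}} {Z Y Y' Z' X : AlgSp.Space S} (e : Z ⟶ Y)
    (he : AlgSp.IsEtaleMor e.hom) (hY : Y ⟶ X) (iY : Y ⟶ Y') (hY' : Y' ⟶ X)
    (HU : AlgSp.IsUnivFOThick hY.hom iY.hom hY'.hom) (iZ : Z ⟶ Z') (e' : Z' ⟶ Y') (he' : AlgSp.IsEtaleMor e'.hom)
    (sq : IsPullback e.hom iZ.hom iY.hom e'.hom) :
    AlgSp.IsUnivFOThick (e ≫ hY).hom iZ.hom (e' ≫ hY').hom := by
  obtain ⟨hiY, hcomp, huniv⟩ := HU
  have hfe' : AlgSp.IsFormallyEtaleMor e'.hom :=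
    Groth.Agent.H52.isFormallyEtaleMor_of_isEtaleMor Z'.property e'.hom he'
  refine ⟨Groth.Agent.H52.isFOThickMor_of_isPullback_etale sq hiY he', ?_, ?_⟩
  · change iZ.hom ≫ e'.hom ≫ hY'.hom = e.hom ≫ hY.hom
    rw [← Category.assoc, ← sq.w, Category.assoc, hcomp]
  · intro T T' hT hT' j a b hj w
    have w1 : j ≫ b = (a ≫ e.hom) ≫ hY.hom := by
      rw [Category.assoc]
      exact w
    obtain ⟨y', ⟨hy1, hy2⟩, hyu⟩ := huniv hT hT' j (a ≫ e.hom) b hj w1
    have w2 : (a ≫ iZ.hom) ≫ e'.hom = j ≫ y' := by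
      rw [Category.assoc, ← sq.w, ← Category.assoc, hy1]
    obtain ⟨a', ⟨ha1, ha2⟩, hau⟩ := Groth.Agent.H52.existsUnique_lift_of_isFOThickMor hT' e'.hom hfe'
      j hj (a ≫ iZ.hom) y' w2
    refine ⟨a', ⟨ha1, ?_⟩, ?_⟩
    · change a' ≫ e'.hom ≫ hY'.hom = b
      rw [← Category.assoc, ha2, hy2]
    · rintro a'' ⟨h1, h2⟩
      have h2' : a'' ≫ e'.hom ≫ hY'.hom = b := h2
      have e1 : a'' ≫ e'.hom = y' := hyu _ ⟨by
        rw [← Category.assoc, h1, Category.assoc, ← sq.w, Category.assoc], by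
        rw [Category.assoc, h2']⟩
      exact hau a'' ⟨h1, e1⟩

end Groth.Agent.S10632
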