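import Groth.Statements.S10639
import Groth.Agent.Lib.Helper78.WhereUnram
import Groth.Agent.S10194
import Groth.Agent.S10195

set_option autoImplicit false
universe u
open CategoryTheory CategoryTheory.Limits AlgebraicGeometry
open AlgSp

namespace Groth.Agent.S10639

/-- For morphisms f : X ⟶ Y, p : X ⟶ Z and q : Y ⟶ Z of algebraic spaces over S with f ≫ q = p, where p
is closed (the map on points is closed) and locally of finite type, there is an open subspace W of Z
with the following property: a morphism of algebraic spaces g : Z' ⟶ Z factors through W exactly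
when the base change X' ⟶ Y' of f along g is unramified (locally of finite type and formally
unramified, etale locally on source and target). Here the base change of f along g is any f' : X' ⟶
Y' obtained from pullback squares Y' = Y ×_Z Z' and X' = X ×_Y Y' of algebraic spaces over S, and W
⊂ Z is given as a representable open immersion w : W ⟶ Z. -/
theorem result {S : Scheme.{u}} {X Y Z : AlgSp.Space S}
    (f : X ⟶ Y) (p : X ⟶ Z) (q : Y ⟶ Z) (hc : f ≫ q = p)
    (hp1 : AlgSp.LocP @LocallyOfFiniteType p.hom) (hp2 : AlgSp.IsClosedMor p.hom) :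
    ∃ (W : AlgSp.Space S) (w : W ⟶ Z), AlgSp.RepWith @IsOpenImmersion w.hom ∧
      ∀ (Z' : AlgSp.Space S) (g : Z' ⟶ Z),
        (∃ k : Z' ⟶ W, k ≫ w = g) ↔
          ∀ (Y' : AlgSp.Space S) (gY : Y' ⟶ Y) (q' : Y' ⟶ Z'),
            IsPullback gY.hom q'.hom q.hom g.hom →
            ∀ (X' : AlgSp.Space S) (gX : X' ⟶ X) (f' : X' ⟶ Y'),
              IsPullback gX.hom f'.hom f.hom gY.hom →
                AlgSp.LocP (@LocallyOfFiniteType ⊓ @FormallyUnramified) f'.hom := by
  have hX := X.property
  have hY := Y.property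
  have hZ := Z.property
  have hcomp : f.hom ≫ q.hom = p.hom := congrArg (fun m => m.hom) hc
  have hlft : AlgSp.LocP @LocallyOfFiniteType f.hom :=
    Groth.Agent.H52.isEtLocal_lft.locP_of_comp
      (fun _ _ _ φ ψ hφψ => by
        have : LocallyOfFiniteType (φ ≫ ψ) := hφψ
        exact locallyOfFiniteType_of_comp φ ψ)
      hZ f.hom q.hom (by rw [hcomp]; exact hp1)
  have hopen := Groth.Agent.H52.isOpen_setOf_hasAtMor_nhd
    (@LocallyOfFiniteType ⊓ @FormallyUnramified) f.hom
  set T : Set (AlgSp.Points X.obj) := {x | AlgSp.HasAtMor (fun U _ h u => ∃ W : U.Opens, u ∈ W ∧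
      (@LocallyOfFiniteType ⊓ @FormallyUnramified) (W.ι ≫ h)) f.hom x}ᶜ with hT
  have hTc : IsClosed T := hopen.isClosed_compl
  have hpT : IsClosed (AlgSp.Points.map p.hom '' T) := hp2 T hTc
  obtain ⟨W, w, hw, hr⟩ :=
    Groth.Agent.S10195.result Z ((AlgSp.Points.map p.hom '' T)ᶜ) hpT.isOpen_compl
  refine ⟨W, w, hw, fun Z' g => ?_⟩
  rw [Groth.Agent.S10194.result w hw g, hr]
  have hkey : Set.range (AlgSp.Points.map g.hom) ⊆ (AlgSp.Points.map p.hom '' T)ᶜ ↔
      ∀ (z' : AlgSp.Points Z'.obj) (x : AlgSp.Points X.obj),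
        AlgSp.Points.map (f.hom ≫ q.hom) x = AlgSp.Points.map g.hom z' →
          AlgSp.HasAtMor (fun U _ h u => ∃ W : U.Opens, u ∈ W ∧
            (@LocallyOfFiniteType ⊓ @FormallyUnramified) (W.ι ≫ h)) f.hom x := by
    rw [hcomp]
    constructor
    · intro hsub z' x hx
      by_contra hnf
      exact hsub ⟨z', rfl⟩ ⟨x, hnf, hx⟩
    · rintro H _ ⟨z', rfl⟩ ⟨x, hxT, hx⟩
      exact hxT (H z' x hx)
  rw [hkey]
  constructor
  · intro H Y' gY q' sqY X' gX f' sqX
    exact (Groth.Agent.Lib.Helper78.WhereUnram.baseChange_unram_iff hX hY Y'.property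
      X'.property sqY sqX hlft).2 H
  · intro H
    have sqY := IsPullback.of_hasPullback q.hom g.hom
    have hY' : AlgSp.IsAlgSpace (pullback q.hom g.hom) :=
      Groth.Agent.H52.isAlgSpace_of_isPullback sqY hY hZ Z'.property
    have sqX := IsPullback.of_hasPullback f.hom (pullback.fst q.hom g.hom)
    have hX' : AlgSp.IsAlgSpace (pullback f.hom (pullback.fst q.hom g.hom)) :=
      Groth.Agent.H52.isAlgSpace_of_isPullback sqX hX hY hY'
    let Y's : AlgSp.Space S := ⟨pullback q.hom g.hom, hY'⟩
    let X's : AlgSp.Space S := ⟨pullback f.hom (pullback.fst q.hom g.hom), hX'⟩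
    let gY : Y's ⟶ Y := ObjectProperty.homMk (pullback.fst q.hom g.hom)
    let q' : Y's ⟶ Z' := ObjectProperty.homMk (pullback.snd q.hom g.hom)
    let gX : X's ⟶ X := ObjectProperty.homMk (pullback.fst f.hom (pullback.fst q.hom g.hom))
    let f' : X's ⟶ Y's := ObjectProperty.homMk (pullback.snd f.hom (pullback.fst q.hom g.hom))
    have h1 := H Y's gY q' sqY X's gX f' sqX
    exact (Groth.Agent.Lib.Helper78.WhereUnram.baseChange_unram_iff hX hY hY'
      hX' sqY sqX hlft).1 h1

end Groth.Agent.S10639
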