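import Groth.Statements.S1064
import Groth.Agent.Lib.Helper28.LocFreeLocus

set_option autoImplicit false
universe u
open CategoryTheory CategoryTheory.Limits AlgebraicGeometry Opposite
attribute [local instance] HasDerivedCategory.standard
open Perf

open Groth.Agent.Lib.Helper28.LocFreeLocus

namespace Groth.Agent.S1064

/-- Let E be a perfect object of D(O_X), i ∈ ℤ and r ∈ ℕ. There is an open subset U ⊆ X such that for
every morphism f : Y ⟶ X whose derived pullback Lf^* exists, f has its image inside U exactly when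
Lf^*E is isomorphic in D(O_Y) to a finite locally free O_Y-module of rank r placed in degree i. -/
theorem result (X : Scheme.{u}) (E : DCoh.D X) (hE : DCoh.IsPerfect E) (i : ℤ) (r : ℕ) :
    ∃ U : X.Opens, ∀ (Y : Scheme.{u}) (f : Y ⟶ X) [DCoh.HasLpull f],
      Set.range f.base ⊆ (U : Set X) ↔
        ∃ V : Y.Modules, FlatMod.IsFinLocFreeOfRank r V ∧ Nonempty ((DCoh.Lpull f).obj E ≅ (DCoh.inD Y V)⟦-i⟧) := by
  haveI : ∀ x : X, DCoh.HasLpull (X.fromSpecResidueField x) := fun x =>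
    Groth.Agent.Lib.Helper28.LpullCompute.hasLpull _
  refine ⟨⟨goodSet E i r, isOpen_goodSet E hE i r⟩, fun Y f _ => ⟨fun hf => ?_, ?_⟩⟩
  · have hloc : ∀ y : Y, ∃ (Y' : Y.Opens) (W' : (Y' : Scheme.{u}).Modules), y ∈ Y' ∧
        FlatMod.IsFinLocFree W' ∧
        Nonempty ((Groth.Agent.Lib.Helper30.PerfRestrict.rD Y'.ι).obj ((DCoh.Lpull f).obj E) ≅
          DerivedCategory.Q.obj (Groth.Agent.Lib.Helper28.BettiSingle.sgl W' i)) := by
      intro y
      have hy : f y ∈ goodSet E i r := hf ⟨y, rfl⟩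
      obtain ⟨R, ι, hι, N, hxι, hNf, hNp, ⟨e⟩⟩ :=
        Groth.Agent.Lib.Helper28.LocFreeChart.exists_chart_single E hE i (f y) hy.2
      have hW := (Groth.Agent.Lib.Helper49.isFinLocFree_tilde_iff N).mpr ⟨hNf, hNp⟩
      exact exists_local_single f E i ι (tilde N) hW e y hxι
    obtain ⟨hfl, ⟨eK⟩⟩ := single_of_local ((DCoh.Lpull f).obj E) i hloc
    refine ⟨DCoh.HD ((DCoh.Lpull f).obj E) i, ?_, ⟨eK⟩⟩
    haveI := Groth.Agent.Lib.Helper49.isQuasicoherent_of_isFinLocFree _ hfl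
    rw [Groth.Agent.Lib.Helper18.LimFinLocFree.isFinLocFreeOfRank_iff_rankAt]
    intro y
    obtain ⟨n, hn⟩ := (Groth.Agent.Lib.Helper18.LimFinLocFree.isFinLocFree_iff_rankAt _).mp hfl y
    haveI := Groth.Agent.Lib.Helper28.LpullCompute.hasLpull (Y.fromSpecResidueField y)
    have h1 := Groth.Agent.Lib.Helper28.BettiSingle.betti_sgl _ hfl i _
      (eK ≪≫ shiftSingleIso _ i) y n hn i
    rw [if_pos rfl, Groth.Agent.Lib.Helper28.BettiPull.betti_lpull f E hE y i] at h1
    have h2 : PerfD.betti E (f y) i = r := (hf ⟨y, rfl⟩).1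
    rw [h2] at h1
    rw [h1]
    exact hn
  · rintro ⟨V', hV', ⟨e⟩⟩ _ ⟨y, rfl⟩
    exact mem_goodSet_of_iso f E hE i r V' hV' e y

end Groth.Agent.S1064
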