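import Groth.Statements.S10640
import Groth.Agent.Lib.Helper78.WhereUnivInj
import Groth.Agent.S9938
import Groth.Agent.S10194
import Groth.Agent.S10195

set_option autoImplicit false
universe u
open CategoryTheory CategoryTheory.Limits AlgebraicGeometry
open AlgSp

namespace Groth.Agent.S10640

/-- For morphisms f : X ⟶ Y, p : X ⟶ Z and q : Y ⟶ Z of algebraic spaces over S with f ≫ q = p, write XX
= X ×_Y X with projections pr0, pr1, and assume that p is closed and locally of finite type and that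
the composite XX ⟶ X ⟶ Z (through pr1 and p) is closed as well. Then there is an open subspace W of
Z with the following property: a morphism of algebraic spaces g : Z' ⟶ Z factors through W exactly
when the base change X' ⟶ Y' of f along g is unramified and universally injective. Here the base
change of f along g is any f' : X' ⟶ Y' obtained from pullback squares Y' = Y ×_Z Z' and X' = X ×_Y
Y' of algebraic spaces over S, and W ⊂ Z is given as a representable open immersion w : W ⟶ Z. -/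
theorem result {S : Scheme.{u}} {X Y Z : AlgSp.Space S}
    (f : X ⟶ Y) (p : X ⟶ Z) (q : Y ⟶ Z) (hc : f ≫ q = p)
    (XX : AlgSp.Space S) (pr0 pr1 : XX ⟶ X) (hXX : IsPullback pr0.hom pr1.hom f.hom f.hom)
    (hp1 : AlgSp.LocP @LocallyOfFiniteType p.hom) (hp2 : AlgSp.IsClosedMor p.hom)
    (hp3 : AlgSp.IsClosedMor (pr1 ≫ p).hom) :
    ∃ (W : AlgSp.Space S) (w : W ⟶ Z), AlgSp.RepWith @IsOpenImmersion w.hom ∧
      ∀ (Z' : AlgSp.Space S) (g : Z' ⟶ Z),
        (∃ k : Z' ⟶ W, k ≫ w = g) ↔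
          ∀ (Y' : AlgSp.Space S) (gY : Y' ⟶ Y) (q' : Y' ⟶ Z'),
            IsPullback gY.hom q'.hom q.hom g.hom →
            ∀ (X' : AlgSp.Space S) (gX : X' ⟶ X) (f' : X' ⟶ Y'),
              IsPullback gX.hom f'.hom f.hom gY.hom →
                (AlgSp.LocP (@LocallyOfFiniteType ⊓ @FormallyUnramified) f'.hom ∧ AlgSp.IsUnivInjectiveMor f'.hom) := by
  have hX := X.property
  have hY := Y.property
  have hZ := Z.property
  have hcomp : f.hom ≫ q.hom = p.hom := congrArg (fun m => m.hom) hc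
  have hlft : AlgSp.LocP @LocallyOfFiniteType f.hom :=
    Groth.Agent.H52.isEtLocal_lft.locP_of_comp
      (fun _ _ _ φ ψ hφψ => by
        have : LocallyOfFiniteType (φ ≫ ψ) := hφψ
        exact locallyOfFiniteType_of_comp φ ψ)
      hZ f.hom q.hom (by rw [hcomp]; exact hp1)
  have hopen := Groth.Agent.H52.isOpen_setOf_hasAtMor_nhd
    (@LocallyOfFiniteType ⊓ @FormallyUnramified) f.hom
  set T : Set (AlgSp.Points X.obj) := {x | AlgSp.HasAtMor (fun U _ h u => ∃ W : U.Opens, u ∈ W ∧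
      (@LocallyOfFiniteType ⊓ @FormallyUnramified) (W.ι ≫ h)) f.hom x}ᶜ with hT
  have hTc : IsClosed T := hopen.isClosed_compl
  have hpT : IsClosed (AlgSp.Points.map p.hom '' T) := hp2 T hTc
  set W₁ : Set (AlgSp.Points Z.obj) := (AlgSp.Points.map p.hom '' T)ᶜ with hW₁def
  have hW₁ : IsOpen W₁ := hpT.isOpen_compl
  set A : Set (AlgSp.Points X.obj) := AlgSp.Points.map p.hom ⁻¹' W₁ with hAdef
  have hA : IsOpen A := hW₁.preimage (AlgSp.Points.continuous_map p.hom)
  have hAun : ∀ x ∈ A, AlgSp.HasAtMor (fun U _ h u => ∃ W : U.Opens, u ∈ W ∧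
      (@LocallyOfFiniteType ⊓ @FormallyUnramified) (W.ι ≫ h)) f.hom x := by
    intro x hx
    by_contra hnf
    exact hx ⟨x, hnf, rfl⟩
  obtain ⟨X₁, j, δ, hj, hδ, hδ0, hδ1, hrj⟩ :=
    Groth.Agent.Lib.Helper78.WhereUnivInj.exists_open_diag hX hY f.hom hXX A hA hAun
  have hδe : AlgSp.RepWith @Etale δ :=
    Groth.Agent.H53.repWith_of_le (P := @IsOpenImmersion) (Q := @Etale)
      (fun _ _ φ hφ => by
        haveI : IsOpenImmersion φ := hφ
        infer_instance) hδ
  have hR : IsOpen (Set.range (AlgSp.Points.map δ)) :=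
    (Groth.Agent.H52.isOpenMap_points_of_etale δ hδe).isOpen_range
  have hr : (pr1 ≫ p).hom = pr1.hom ≫ f.hom ≫ q.hom := by
    rw [hcomp]; rfl
  have hrE : IsClosed (AlgSp.Points.map (pr1.hom ≫ f.hom ≫ q.hom) ''
      (Set.range (AlgSp.Points.map δ))ᶜ) := by
    rw [← hr]
    exact hp3 _ hR.isClosed_compl
  obtain ⟨W, w, hw, hrw⟩ :=
    Groth.Agent.S10195.result Z (W₁ ∩ (AlgSp.Points.map (pr1.hom ≫ f.hom ≫ q.hom) ''
      (Set.range (AlgSp.Points.map δ))ᶜ)ᶜ) (hW₁.inter hrE.isOpen_compl)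
  refine ⟨W, w, hw, fun Z' g => ?_⟩
  rw [Groth.Agent.S10194.result w hw g, hrw]
  have hkey : Set.range (AlgSp.Points.map g.hom) ⊆ W₁ ↔
      ∀ (z' : AlgSp.Points Z'.obj) (x : AlgSp.Points X.obj),
        AlgSp.Points.map (f.hom ≫ q.hom) x = AlgSp.Points.map g.hom z' →
          AlgSp.HasAtMor (fun U _ h u => ∃ W : U.Opens, u ∈ W ∧
            (@LocallyOfFiniteType ⊓ @FormallyUnramified) (W.ι ≫ h)) f.hom x := by
    rw [hcomp]
    constructor
    · intro hsub z' x hx
      by_contra hnf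
      exact hsub ⟨z', rfl⟩ ⟨x, hnf, hx⟩
    · rintro H _ ⟨z', rfl⟩ ⟨x, hxT, hx⟩
      exact hxT (H z' x hx)
  have hkey2 : Set.range (AlgSp.Points.map g.hom) ⊆
      (AlgSp.Points.map (pr1.hom ≫ f.hom ≫ q.hom) '' (Set.range (AlgSp.Points.map δ))ᶜ)ᶜ ↔
      ∀ ξ : AlgSp.Points XX.obj, AlgSp.Points.map (pr1.hom ≫ f.hom ≫ q.hom) ξ ∈
        Set.range (AlgSp.Points.map g.hom) → ξ ∈ Set.range (AlgSp.Points.map δ) := by
    constructor
    · intro hsub ξ hξ
      by_contra hn
      exact hsub hξ ⟨ξ, hn, rfl⟩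
    · rintro H _ hz ⟨ξ, hξ, rfl⟩
      exact hξ (H ξ hz)
  rw [Set.subset_inter_iff, hkey, hkey2]
  constructor
  · rintro ⟨H1, H2⟩ Y' gY q' sqY X' gX f' sqX
    refine ⟨(Groth.Agent.Lib.Helper78.WhereUnram.baseChange_unram_iff hX hY Y'.property
      X'.property sqY sqX hlft).2 H1, ?_⟩
    refine ((Groth.Agent.S9938.result f').1).1 ?_
    intro K _ str
    exact Groth.Agent.Lib.Helper78.WhereUnivInj.injective_fieldPts_of_diag sqX sqY hXX hδ hδ0 hδ1
      H2 K str
  · intro H
    have sqY := IsPullback.of_hasPullback q.hom g.hom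
    have hY' : AlgSp.IsAlgSpace (pullback q.hom g.hom) :=
      Groth.Agent.H52.isAlgSpace_of_isPullback sqY hY hZ Z'.property
    have sqX := IsPullback.of_hasPullback f.hom (pullback.fst q.hom g.hom)
    have hX' : AlgSp.IsAlgSpace (pullback f.hom (pullback.fst q.hom g.hom)) :=
      Groth.Agent.H52.isAlgSpace_of_isPullback sqX hX hY hY'
    let Y's : AlgSp.Space S := ⟨pullback q.hom g.hom, hY'⟩
    let X's : AlgSp.Space S := ⟨pullback f.hom (pullback.fst q.hom g.hom), hX'⟩
    let gY : Y's ⟶ Y := ObjectProperty.homMk (pullback.fst q.hom g.hom)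
    let q' : Y's ⟶ Z' := ObjectProperty.homMk (pullback.snd q.hom g.hom)
    let gX : X's ⟶ X := ObjectProperty.homMk (pullback.fst f.hom (pullback.fst q.hom g.hom))
    let f' : X's ⟶ Y's := ObjectProperty.homMk (pullback.snd f.hom (pullback.fst q.hom g.hom))
    obtain ⟨hun, huinj⟩ := H Y's gY q' sqY X's gX f' sqX
    have H1 := (Groth.Agent.Lib.Helper78.WhereUnram.baseChange_unram_iff hX hY hY'
      hX' sqY sqX hlft).1 hun
    refine ⟨H1, ?_⟩
    have hinj := ((Groth.Agent.S9938.result f').1).2 huinj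
    have hAA : ∀ x : AlgSp.Points X.obj, AlgSp.Points.map (f.hom ≫ q.hom) x ∈
        Set.range (AlgSp.Points.map g.hom) → x ∈ Set.range (AlgSp.Points.map j) := by
      intro x hx
      rw [hrj]
      show AlgSp.Points.map p.hom x ∈ W₁
      rw [← hcomp]
      exact (hkey.2 H1) hx
    intro ξ hξ
    exact Groth.Agent.Lib.Helper78.WhereUnivInj.diag_of_injective_fieldPts sqX sqY hXX hj hδ0 hδ1
      hAA hinj ξ hξ

end Groth.Agent.S10640
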