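import Groth.Statements.S10641
import Groth.Agent.S10640
import Groth.Agent.S10614
import Groth.Agent.S10278
import Groth.Agent.H52.QS
import Groth.Agent.H52.FibreProd
import Groth.Agent.H53.Proper

set_option autoImplicit false
universe u
open CategoryTheory CategoryTheory.Limits AlgebraicGeometry
open AlgSp

namespace Groth.Agent.S10641

/-- For morphisms f : X ⟶ Y, p : X ⟶ Z and q : Y ⟶ Z of algebraic spaces over S with f ≫ q = p, where p
is universally closed and locally of finite type and q is separated, there is an open subspace W of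
Z with the following property: a morphism of algebraic spaces g : Z' ⟶ Z factors through W exactly
when the base change X' ⟶ Y' of f along g is a closed immersion (representable, and a closed
immersion on every represented pullback). Here the base change of f along g is any f' : X' ⟶ Y'
obtained from pullback squares Y' = Y ×_Z Z' and X' = X ×_Y Y' of algebraic spaces over S, and W ⊂ Z
is given as a representable open immersion w : W ⟶ Z. -/
theorem result {S : Scheme.{u}} {X Y Z : AlgSp.Space S}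
    (f : X ⟶ Y) (p : X ⟶ Z) (q : Y ⟶ Z) (hc : f ≫ q = p)
    (hp1 : AlgSp.LocP @LocallyOfFiniteType p.hom) (hp2 : AlgSp.IsUnivClosedMor p.hom)
    (hq : AlgSp.IsSeparatedMor q.hom) :
    ∃ (W : AlgSp.Space S) (w : W ⟶ Z), AlgSp.RepWith @IsOpenImmersion w.hom ∧
      ∀ (Z' : AlgSp.Space S) (g : Z' ⟶ Z),
        (∃ k : Z' ⟶ W, k ≫ w = g) ↔
          ∀ (Y' : AlgSp.Space S) (gY : Y' ⟶ Y) (q' : Y' ⟶ Z'),
            IsPullback gY.hom q'.hom q.hom g.hom →
            ∀ (X' : AlgSp.Space S) (gX : X' ⟶ X) (f' : X' ⟶ Y'),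
              IsPullback gX.hom f'.hom f.hom gY.hom →
                AlgSp.RepWith @IsClosedImmersion f'.hom := by
  have hX := X.property
  have hY := Y.property
  have hZ := Z.property
  have hcomp : f.hom ≫ q.hom = p.hom := congrArg (fun m => m.hom) hc
  have hfuc : AlgSp.IsUnivClosedMor f.hom := ((Groth.Agent.S10278.result f p q hc hq).1 hp2).1
  have sqXX := IsPullback.of_hasPullback f.hom f.hom
  have hXXa : AlgSp.IsAlgSpace (pullback f.hom f.hom) :=
    Groth.Agent.H52.isAlgSpace_of_isPullback sqXX hX hY hX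
  let XX : AlgSp.Space S := ⟨pullback f.hom f.hom, hXXa⟩
  let pr0 : XX ⟶ X := ObjectProperty.homMk (pullback.fst f.hom f.hom)
  let pr1 : XX ⟶ X := ObjectProperty.homMk (pullback.snd f.hom f.hom)
  have hpr1 : AlgSp.IsUnivClosedMor pr1.hom := Groth.Agent.H53.univSp_of_isPullback _ sqXX hfuc
  have hpc : AlgSp.IsClosedMor p.hom := Groth.Agent.H53.univSp_self _ hZ hp2
  have hpr1c : AlgSp.IsClosedMor pr1.hom := Groth.Agent.H53.univSp_self _ hX hpr1
  have hp3 : AlgSp.IsClosedMor (pr1 ≫ p).hom := by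
    show IsClosedMap (AlgSp.Points.map (pr1.hom ≫ p.hom))
    have e : AlgSp.Points.map (pr1.hom ≫ p.hom) =
        AlgSp.Points.map p.hom ∘ AlgSp.Points.map pr1.hom :=
      funext (AlgSp.Points.map_comp _ _)
    rw [e]
    exact hpc.comp hpr1c
  obtain ⟨W, w, hw, H⟩ := Groth.Agent.S10640.result f p q hc XX pr0 pr1 sqXX hp1 hpc hp3
  refine ⟨W, w, hw, fun Z' g => ?_⟩
  rw [H Z' g]
  have huc : ∀ (Y' : AlgSp.Space S) (gY : Y' ⟶ Y) (q' : Y' ⟶ Z'),
      IsPullback gY.hom q'.hom q.hom g.hom →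
      ∀ (X' : AlgSp.Space S) (gX : X' ⟶ X) (f' : X' ⟶ Y'),
        IsPullback gX.hom f'.hom f.hom gY.hom → AlgSp.IsUnivClosedMor f'.hom := by
    intro Y' gY q' sqY X' gX f' sqX
    have sq12 : IsPullback gX.hom (f'.hom ≫ q'.hom) (f.hom ≫ q.hom) g.hom := sqX.paste_vert sqY
    have hp2' : AlgSp.IsUnivClosedMor (f.hom ≫ q.hom) := by rw [hcomp]; exact hp2
    have hp' : AlgSp.IsUnivClosedMor (f' ≫ q').hom :=
      Groth.Agent.H53.univSp_of_isPullback _ sq12 hp2'
    have hq' : AlgSp.IsSeparatedMor q'.hom :=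
      Groth.Agent.H52.repWith_diagonal_of_isPullback _ sqY hq
    exact ((Groth.Agent.S10278.result f' (f' ≫ q') q' rfl hq').1 hp').1
  constructor
  · intro H1 Y' gY q' sqY X' gX f' sqX
    obtain ⟨hun, hinj⟩ := H1 Y' gY q' sqY X' gX f' sqX
    exact ((Groth.Agent.S10614.result f').2.1).2 ⟨huc Y' gY q' sqY X' gX f' sqX, hun, hinj⟩
  · intro H1 Y' gY q' sqY X' gX f' sqX
    obtain ⟨-, hun, hinj⟩ := ((Groth.Agent.S10614.result f').2.1).1 (H1 Y' gY q' sqY X' gX f' sqX)
    exact ⟨hun, hinj⟩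

end Groth.Agent.S10641
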