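import Groth.Statements.S10643
import Groth.Agent.Lib.Helper78.WhereFlatSurj
import Groth.Agent.S10194
import Groth.Agent.S10195

set_option autoImplicit false
universe u
open CategoryTheory CategoryTheory.Limits AlgebraicGeometry
open AlgSp

namespace Groth.Agent.S10643

/-- For morphisms f : X ⟶ Y, p : X ⟶ Z and q : Y ⟶ Z of algebraic spaces over S with f ≫ q = p, where p
is flat, closed and locally of finite presentation and q is closed and locally of finite type, there
is an open subspace W of Z with the following property: a morphism of algebraic spaces g : Z' ⟶ Z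
factors through W exactly when the base change X' ⟶ Y' of f along g is flat and surjective (on
points). Here the base change of f along g is any f' : X' ⟶ Y' obtained from pullback squares Y' = Y
×_Z Z' and X' = X ×_Y Y' of algebraic spaces over S, and W ⊂ Z is given as a representable open
immersion w : W ⟶ Z. -/
theorem result {S : Scheme.{u}} {X Y Z : AlgSp.Space S}
    (f : X ⟶ Y) (p : X ⟶ Z) (q : Y ⟶ Z) (hc : f ≫ q = p)
    (hp1 : AlgSp.LocP @LocallyOfFinitePresentation p.hom) (hp2 : AlgSp.LocP @Flat p.hom)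
    (hp3 : AlgSp.IsClosedMor p.hom) (hq1 : AlgSp.LocP @LocallyOfFiniteType q.hom)
    (hq2 : AlgSp.IsClosedMor q.hom) :
    ∃ (W : AlgSp.Space S) (w : W ⟶ Z), AlgSp.RepWith @IsOpenImmersion w.hom ∧
      ∀ (Z' : AlgSp.Space S) (g : Z' ⟶ Z),
        (∃ k : Z' ⟶ W, k ≫ w = g) ↔
          ∀ (Y' : AlgSp.Space S) (gY : Y' ⟶ Y) (q' : Y' ⟶ Z'),
            IsPullback gY.hom q'.hom q.hom g.hom →
            ∀ (X' : AlgSp.Space S) (gX : X' ⟶ X) (f' : X' ⟶ Y'),
              IsPullback gX.hom f'.hom f.hom gY.hom →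
                (AlgSp.IsSurjectiveMor f'.hom ∧ AlgSp.LocP @Flat f'.hom) := by
  have hX := X.property
  have hY := Y.property
  have hZ := Z.property
  have hcomp : f.hom ≫ q.hom = p.hom := congrArg (fun m => m.hom) hc
  have hfp : AlgSp.LocP @LocallyOfFinitePresentation (f.hom ≫ q.hom) := by rw [hcomp]; exact hp1
  have hfl : AlgSp.LocP @Flat (f.hom ≫ q.hom) := by rw [hcomp]; exact hp2
  have hflfp : AlgSp.LocP @LocallyOfFinitePresentation f.hom :=
    Groth.Agent.H52.isEtLocal_lfp.locP_of_comp' (Q := @LocallyOfFiniteType)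
      (fun _ _ _ _ _ h1 h2 => Groth.Agent.H52.lfp_of_comp_of_lft h1 h2) hZ f.hom q.hom hfp hq1
  have hopen := Groth.Agent.Lib.Helper78.FlatLocusSp.isOpen_flatLocus hX hY f.hom hflfp
  set T : Set (AlgSp.Points X.obj) := {x | AlgSp.IsFlatAtMor f.hom x}ᶜ with hT
  have hTc : IsClosed T := hopen.isClosed_compl
  have hpT : IsClosed (AlgSp.Points.map p.hom '' T) := hp3 T hTc
  set W₁ : Set (AlgSp.Points Z.obj) := (AlgSp.Points.map p.hom '' T)ᶜ with hW₁def
  have hW₁ : IsOpen W₁ := hpT.isOpen_compl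
  set A : Set (AlgSp.Points X.obj) := AlgSp.Points.map p.hom ⁻¹' W₁ with hAdef
  have hA : IsOpen A := hW₁.preimage (AlgSp.Points.continuous_map p.hom)
  have hAflat : ∀ x ∈ A, AlgSp.IsFlatAtMor f.hom x := by
    intro x hx
    by_contra hnf
    exact hx ⟨x, hnf, rfl⟩
  have hI : IsOpen (AlgSp.Points.map f.hom '' A) :=
    Groth.Agent.Lib.Helper78.WhereFlat.isOpen_image_of_flat hX hY f.hom hflfp A hA hAflat
  set D : Set (AlgSp.Points Y.obj) := (AlgSp.Points.map f.hom '' A)ᶜ with hDdef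
  have hqD : IsClosed (AlgSp.Points.map q.hom '' D) := hq2 D hI.isClosed_compl
  obtain ⟨W, w, hw, hr⟩ :=
    Groth.Agent.S10195.result Z (W₁ ∩ (AlgSp.Points.map q.hom '' D)ᶜ)
      (hW₁.inter hqD.isOpen_compl)
  refine ⟨W, w, hw, fun Z' g => ?_⟩
  rw [Groth.Agent.S10194.result w hw g, hr]
  have hpq : ∀ x, AlgSp.Points.map p.hom x = AlgSp.Points.map q.hom (AlgSp.Points.map f.hom x) :=
    fun x => by rw [← hcomp, AlgSp.Points.map_comp]
  have hkey : Set.range (AlgSp.Points.map g.hom) ⊆ W₁ ↔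
      ∀ (z' : AlgSp.Points Z'.obj) (x : AlgSp.Points X.obj),
        AlgSp.Points.map (f.hom ≫ q.hom) x = AlgSp.Points.map g.hom z' →
          AlgSp.IsFlatAtMor f.hom x := by
    rw [hcomp]
    constructor
    · intro hsub z' x hx
      by_contra hnf
      exact hsub ⟨z', rfl⟩ ⟨x, hnf, hx⟩
    · rintro H _ ⟨z', rfl⟩ ⟨x, hxT, hx⟩
      exact hxT (H z' x hx)
  constructor
  · intro hsub Y' gY q' sqY X' gX f' sqX
    have hsub1 : Set.range (AlgSp.Points.map g.hom) ⊆ W₁ := fun z hz => (hsub hz).1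
    refine ⟨?_, (Groth.Agent.Lib.Helper78.WhereFlat.baseChange_flat_iff hX hY hZ Y'.property
      Z'.property sqY sqX X'.property hfp hfl hq1).2 (hkey.1 hsub1)⟩
    intro y'
    have hqy : AlgSp.Points.map q.hom (AlgSp.Points.map gY.hom y') =
        AlgSp.Points.map g.hom (AlgSp.Points.map q'.hom y') := by
      rw [← AlgSp.Points.map_comp, ← AlgSp.Points.map_comp, sqY.w]
    have hmem := hsub ⟨AlgSp.Points.map q'.hom y', rfl⟩
    have hyD : AlgSp.Points.map gY.hom y' ∉ D := fun hD => hmem.2 ⟨_, hD, hqy⟩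
    have hyI : AlgSp.Points.map gY.hom y' ∈ AlgSp.Points.map f.hom '' A := not_not.mp hyD
    obtain ⟨x, -, hx⟩ := hyI
    obtain ⟨x', -, hx'⟩ := Groth.Agent.H52.exists_point_of_isPullback sqX x y' hx
    exact ⟨x', hx'⟩
  · intro H
    have sqY := IsPullback.of_hasPullback q.hom g.hom
    have hY' : AlgSp.IsAlgSpace (pullback q.hom g.hom) :=
      Groth.Agent.H52.isAlgSpace_of_isPullback sqY hY hZ Z'.property
    have sqX := IsPullback.of_hasPullback f.hom (pullback.fst q.hom g.hom)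
    have hX' : AlgSp.IsAlgSpace (pullback f.hom (pullback.fst q.hom g.hom)) :=
      Groth.Agent.H52.isAlgSpace_of_isPullback sqX hX hY hY'
    let Y's : AlgSp.Space S := ⟨pullback q.hom g.hom, hY'⟩
    let X's : AlgSp.Space S := ⟨pullback f.hom (pullback.fst q.hom g.hom), hX'⟩
    let gY : Y's ⟶ Y := ObjectProperty.homMk (pullback.fst q.hom g.hom)
    let q' : Y's ⟶ Z' := ObjectProperty.homMk (pullback.snd q.hom g.hom)
    let gX : X's ⟶ X := ObjectProperty.homMk (pullback.fst f.hom (pullback.fst q.hom g.hom))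
    let f' : X's ⟶ Y's := ObjectProperty.homMk (pullback.snd f.hom (pullback.fst q.hom g.hom))
    obtain ⟨hsurj, hflat⟩ := H Y's gY q' sqY X's gX f' sqX
    have hsub1 : Set.range (AlgSp.Points.map g.hom) ⊆ W₁ :=
      hkey.2 ((Groth.Agent.Lib.Helper78.WhereFlat.baseChange_flat_iff hX hY hZ hY'
        Z'.property sqY sqX hX' hfp hfl hq1).1 hflat)
    intro z hz
    refine ⟨hsub1 hz, ?_⟩
    rintro ⟨y, hyD, hyz⟩
    obtain ⟨z', rfl⟩ := hz
    obtain ⟨y', hy'1, hy'2⟩ := Groth.Agent.H52.exists_point_of_isPullback sqY y z' hyz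
    obtain ⟨x', hx'⟩ := hsurj y'
    apply hyD
    have hfx : AlgSp.Points.map f.hom (AlgSp.Points.map gX.hom x') = y := by
      rw [← AlgSp.Points.map_comp]
      have e1 : gX.hom ≫ f.hom = f'.hom ≫ gY.hom := sqX.w
      rw [e1, AlgSp.Points.map_comp, hx']
      exact hy'1
    refine ⟨AlgSp.Points.map gX.hom x', ?_, hfx⟩
    show AlgSp.Points.map p.hom (AlgSp.Points.map gX.hom x') ∈ W₁
    rw [hpq, hfx, hyz]
    exact hsub1 ⟨z', rfl⟩

end Groth.Agent.S10643
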