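import Groth.Statements.S10644
import Groth.Agent.S10641
import Groth.Agent.S10643
import Groth.Agent.S10582
import Groth.Agent.S9936
import Groth.Agent.S10614
import Groth.Agent.S10194
import Groth.Agent.S10195
import Groth.Agent.H52.Top2
import Groth.Agent.H52.Basic
import Groth.Agent.H52.LocPCalc4
import Groth.Agent.H52.LocPInst
import Groth.Agent.H53.Proper

set_option autoImplicit false
universe u
open CategoryTheory CategoryTheory.Limits AlgebraicGeometry
open AlgSp

namespace Groth.Agent.S10644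

/-- For morphisms f : X ⟶ Y, p : X ⟶ Z and q : Y ⟶ Z of algebraic spaces over S with f ≫ q = p, where p
is flat, universally closed and locally of finite presentation and q is closed, separated and
locally of finite type, there is an open subspace W of Z with the following property: a morphism of
algebraic spaces g : Z' ⟶ Z factors through W exactly when the base change X' ⟶ Y' of f along g is
an isomorphism. Here the base change of f along g is any f' : X' ⟶ Y' obtained from pullback squares
Y' = Y ×_Z Z' and X' = X ×_Y Y' of algebraic spaces over S, and W ⊂ Z is given as a representable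
open immersion w : W ⟶ Z. -/
theorem result {S : Scheme.{u}} {X Y Z : AlgSp.Space S}
    (f : X ⟶ Y) (p : X ⟶ Z) (q : Y ⟶ Z) (hc : f ≫ q = p)
    (hp1 : AlgSp.LocP @LocallyOfFinitePresentation p.hom) (hp2 : AlgSp.LocP @Flat p.hom)
    (hp3 : AlgSp.IsUnivClosedMor p.hom) (hq1 : AlgSp.LocP @LocallyOfFiniteType q.hom)
    (hq2 : AlgSp.IsClosedMor q.hom) (hq3 : AlgSp.IsSeparatedMor q.hom) :
    ∃ (W : AlgSp.Space S) (w : W ⟶ Z), AlgSp.RepWith @IsOpenImmersion w.hom ∧
      ∀ (Z' : AlgSp.Space S) (g : Z' ⟶ Z),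
        (∃ k : Z' ⟶ W, k ≫ w = g) ↔
          ∀ (Y' : AlgSp.Space S) (gY : Y' ⟶ Y) (q' : Y' ⟶ Z'),
            IsPullback gY.hom q'.hom q.hom g.hom →
            ∀ (X' : AlgSp.Space S) (gX : X' ⟶ X) (f' : X' ⟶ Y'),
              IsPullback gX.hom f'.hom f.hom gY.hom →
                IsIso f'.hom := by
  have hX := X.property
  have hY := Y.property
  have hZ := Z.property
  have hlft_p : AlgSp.LocP @LocallyOfFiniteType p.hom := fun U V a b h ha hb comm => by
    haveI : LocallyOfFinitePresentation h.left := hp1 a b h ha hb comm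
    infer_instance
  have hpc : AlgSp.IsClosedMor p.hom := Groth.Agent.H53.univSp_self _ hZ hp3
  obtain ⟨W1, w1, hw1, H1⟩ := Groth.Agent.S10641.result f p q hc hlft_p hp3 hq3
  obtain ⟨W2, w2, hw2, H2⟩ := Groth.Agent.S10643.result f p q hc hp1 hp2 hpc hq1 hq2
  have hoi_et : ∀ {A B : AlgSp.Sp S} (φ : A ⟶ B), AlgSp.RepWith @IsOpenImmersion φ →
      AlgSp.RepWith @Etale φ := fun φ hφ =>
    Groth.Agent.H53.repWith_of_le (P := @IsOpenImmersion) (Q := @Etale)
      (fun _ _ ψ hψ => by
        haveI : IsOpenImmersion ψ := hψ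
        infer_instance) hφ
  have ho1 : IsOpen (Set.range (AlgSp.Points.map w1.hom)) :=
    (Groth.Agent.H52.isOpenMap_points_of_etale w1.hom (hoi_et _ hw1)).isOpen_range
  have ho2 : IsOpen (Set.range (AlgSp.Points.map w2.hom)) :=
    (Groth.Agent.H52.isOpenMap_points_of_etale w2.hom (hoi_et _ hw2)).isOpen_range
  obtain ⟨W, w, hw, hr⟩ := Groth.Agent.S10195.result Z
    (Set.range (AlgSp.Points.map w1.hom) ∩ Set.range (AlgSp.Points.map w2.hom)) (ho1.inter ho2)
  refine ⟨W, w, hw, fun Z' g => ?_⟩
  rw [Groth.Agent.S10194.result w hw g, hr, Set.subset_inter_iff,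
    ← Groth.Agent.S10194.result w1 hw1 g, ← Groth.Agent.S10194.result w2 hw2 g, H1 Z' g, H2 Z' g]
  constructor
  · rintro ⟨A1, A2⟩ Y' gY q' sqY X' gX f' sqX
    have hci := A1 Y' gY q' sqY X' gX f' sqX
    obtain ⟨hs, hfl⟩ := A2 Y' gY q' sqY X' gX f' sqX
    have hqc := Groth.Agent.S9936.result f' hci
    haveI : Mono f'.hom := (((Groth.Agent.S10614.result f').1).1 hci).2.2
    exact Groth.Agent.S10582.result f' hqc hfl hs
  · intro A
    refine ⟨fun Y' gY q' sqY X' gX f' sqX => ?_, fun Y' gY q' sqY X' gX f' sqX => ?_⟩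
    · haveI := A Y' gY q' sqY X' gX f' sqX
      exact Groth.Agent.H52.repWith_of_isIso @IsClosedImmersion f'.hom
    · haveI := A Y' gY q' sqY X' gX f' sqX
      refine ⟨fun y => ⟨AlgSp.Points.map (inv f'.hom) y, ?_⟩,
        Groth.Agent.H52.isEtLocal_flat.locP_of_repWith' f'.hom
          (Groth.Agent.H52.repWith_of_isIso @Flat f'.hom)⟩
      rw [← AlgSp.Points.map_comp, IsIso.inv_hom_id, AlgSp.Points.map_id]

end Groth.Agent.S10644
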