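import Groth.Statements.S1494
import Groth.Agent.Lib.Helper10.KosLocus

set_option autoImplicit false
universe u
attribute [local instance] HasDerivedCategory.standard
open FlatMor

namespace Groth.Agent.S1494

open AlgebraicGeometry CategoryTheory Limits in
/-- Let f : X → Y be a morphism over S with X and Y flat and locally of finite presentation over S. Then
the set of points x at which f is Koszul (some affine neighbourhood U of x maps into an affine V of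
Y with O_Y(V) → O_X(U) a local complete intersection homomorphism) is open, and for any base change
S' → S, with f' : X' → Y' the base change of f and X' → X the projection, the corresponding set for
f' is the preimage of the one for f. -/
theorem result {X Y S : Scheme.{u}} (f : X ⟶ Y) (g : Y ⟶ S)
    [Flat (f ≫ g)] [LocallyOfFinitePresentation (f ≫ g)] [Flat g] [LocallyOfFinitePresentation g] :
    IsOpen {x : ↑X | (∃ (U : X.Opens) (V : Y.Opens) (hU : IsAffineOpen U) (hV : IsAffineOpen V) (hUV : U ≤ f ⁻¹ᵁ V), x ∈ U ∧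
          letI := (f.appLE V U hUV).hom.toAlgebra
          LCI.IsLCI Γ(Y, V) Γ(X, U))} ∧
      ∀ {X' Y' S' : Scheme.{u}} (h : S' ⟶ S) (gY : Y' ⟶ Y) (g' : Y' ⟶ S') (hY : IsPullback gY g' g h)
        (gX : X' ⟶ X) (f' : X' ⟶ Y') (hX : IsPullback gX (f' ≫ g') (f ≫ g) h) (w : gX ≫ f = f' ≫ gY),
        {x' : ↑X' | (∃ (U : X'.Opens) (V : Y'.Opens) (hU : IsAffineOpen U) (hV : IsAffineOpen V) (hUV : U ≤ f' ⁻¹ᵁ V), x' ∈ U ∧
          letI := (f'.appLE V U hUV).hom.toAlgebra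
          LCI.IsLCI Γ(Y', V) Γ(X', U))} = gX ⁻¹' {x : ↑X | (∃ (U : X.Opens) (V : Y.Opens) (hU : IsAffineOpen U) (hV : IsAffineOpen V) (hUV : U ≤ f ⁻¹ᵁ V), x ∈ U ∧
          letI := (f.appLE V U hUV).hom.toAlgebra
          LCI.IsLCI Γ(Y, V) Γ(X, U))} := by
  have key : ∀ {X Y : Scheme.{u}} (f : X ⟶ Y) (x : X),
      (∃ (U : X.Opens) (V : Y.Opens) (hU : IsAffineOpen U) (hV : IsAffineOpen V)
        (hUV : U ≤ f ⁻¹ᵁ V), x ∈ U ∧
          letI := (f.appLE V U hUV).hom.toAlgebra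
          LCI.IsLCI Γ(Y, V) Γ(X, U)) ↔
      (∃ (U' : X.Opens) (V' : Y.Opens) (_ : IsAffineOpen U') (_ : IsAffineOpen V')
        (hUV : U' ≤ f ⁻¹ᵁ V'), x ∈ U' ∧
          Groth.Agent.Lib.Helper10.LciComp.IsLCIHom (f.appLE V' U' hUV).hom) :=
    fun f x => Iff.rfl
  have appLE_hom_congr : ∀ {X Y : Scheme.{u}} {f₁ f₂ : X ⟶ Y} (_ : f₁ = f₂) (U : Y.Opens)
      (V : X.Opens) (e₁ : V ≤ f₁ ⁻¹ᵁ U) (e₂ : V ≤ f₂ ⁻¹ᵁ U), f₁.appLE U V e₁ = f₂.appLE U V e₂ := by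
    intro X Y f₁ f₂ h U V e₁ e₂
    subst h
    rfl
  refine ⟨?_, ?_⟩
  · rw [isOpen_iff_forall_mem_open]
    rintro x ⟨U, V, hU, hV, hUV, hxU, hlci⟩
    exact ⟨U, fun y hy => ⟨U, V, hU, hV, hUV, hy, hlci⟩, U.2, hxU⟩
  · intro X' Y' S' h gY g' hY gX f' hX w
    ext x'
    simp only [Set.mem_setOf_eq, Set.mem_preimage]
    -- charts
    obtain ⟨_, ⟨W, hW, rfl⟩, hsW, -⟩ := S.isBasis_affineOpens.exists_subset_of_mem_open
      (Set.mem_univ (h ((f' ≫ g') x'))) isOpen_univ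
    obtain ⟨_, ⟨W', hW', rfl⟩, hs'W', hW'W⟩ := S'.isBasis_affineOpens.exists_subset_of_mem_open
      (show (f' ≫ g') x' ∈ (h ⁻¹ᵁ W : S'.Opens) from hsW) (h ⁻¹ᵁ W).2
    have hgfx : g (f (gX x')) ∈ W := by
      have h1 : g (f (gX x')) = h ((f' ≫ g') x') := by
        have := congrArg (fun φ : X' ⟶ S => φ x') hX.w
        simpa using this
      rw [h1]
      exact hsW
    obtain ⟨_, ⟨V, hV, rfl⟩, hfxV, hVW⟩ := Y.isBasis_affineOpens.exists_subset_of_mem_open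
      (show f (gX x') ∈ (g ⁻¹ᵁ W : Y.Opens) from hgfx) (g ⁻¹ᵁ W).2
    obtain ⟨_, ⟨U, hU, rfl⟩, hxU, hUV⟩ := X.isBasis_affineOpens.exists_subset_of_mem_open
      (show gX x' ∈ (f ⁻¹ᵁ V : X.Opens) from hfxV) (f ⁻¹ᵁ V).2
    have hUW : U ≤ (f ≫ g) ⁻¹ᵁ W := fun y hy => hVW (hUV hy)
    -- the charts upstairs
    have hV' : IsAffineOpen (gY ⁻¹ᵁ V ⊓ g' ⁻¹ᵁ W') := by
      have : IsAffine (Scheme.Opens.toScheme (X := S) W) := hW
      have : IsAffine (Scheme.Opens.toScheme (X := S') W') := hW'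
      have : IsAffine (Scheme.Opens.toScheme (X := Y) V) := hV
      exact IsAffine.of_isIso (Scheme.Hom.isPullback_resLE hY hW'W hVW rfl).isoPullback.hom
    have hU' : IsAffineOpen (gX ⁻¹ᵁ U ⊓ (f' ≫ g') ⁻¹ᵁ W') := by
      have : IsAffine (Scheme.Opens.toScheme (X := S) W) := hW
      have : IsAffine (Scheme.Opens.toScheme (X := S') W') := hW'
      have : IsAffine (Scheme.Opens.toScheme (X := X) U) := hU
      exact IsAffine.of_isIso (Scheme.Hom.isPullback_resLE hX hW'W hUW rfl).isoPullback.hom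
    have hx'U' : x' ∈ gX ⁻¹ᵁ U ⊓ (f' ≫ g') ⁻¹ᵁ W' := ⟨hxU, hs'W'⟩
    have hU'V' : gX ⁻¹ᵁ U ⊓ (f' ≫ g') ⁻¹ᵁ W' ≤ f' ⁻¹ᵁ (gY ⁻¹ᵁ V ⊓ g' ⁻¹ᵁ W') := by
      intro y hy
      refine ⟨?_, hy.2⟩
      show gY (f' y) ∈ V
      have h1 : gY (f' y) = f (gX y) := by
        have := congrArg (fun φ : X' ⟶ Y => φ y) w
        simpa using this.symm
      rw [h1]
      exact hUV hy.1
    have hU'U : gX ⁻¹ᵁ U ⊓ (f' ≫ g') ⁻¹ᵁ W' ≤ gX ⁻¹ᵁ U := inf_le_left
    have hV'V : gY ⁻¹ᵁ V ⊓ g' ⁻¹ᵁ W' ≤ gY ⁻¹ᵁ V := inf_le_left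
    have hV'W' : gY ⁻¹ᵁ V ⊓ g' ⁻¹ᵁ W' ≤ g' ⁻¹ᵁ W' := inf_le_right
    have hU'W' : gX ⁻¹ᵁ U ⊓ (f' ≫ g') ⁻¹ᵁ W' ≤ (f' ≫ g') ⁻¹ᵁ W' := inf_le_right
    -- pushout squares of sections
    have hB := (isIso_pushoutSection_iff hY hW'W hVW rfl).mp
      (isIso_pushoutSection_of_isAffineOpen hY hW'W hVW rfl hW hW' hV)
    have hC := (isIso_pushoutSection_iff hX hW'W hUW rfl).mp
      (isIso_pushoutSection_of_isAffineOpen hX hW'W hUW rfl hW hW' hU)
    rw [key f' x', key f (gX x'),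
      Groth.Agent.Lib.Helper10.KosLocus.mem_locus_iff f' x' _ _ hU' hV' hU'V' hx'U',
      Groth.Agent.Lib.Helper10.KosLocus.mem_locus_iff f (gX x') U V hU hV hUV hxU]
    have hcomap : ((hU'.primeIdealOf ⟨x', hx'U'⟩).asIdeal).comap
        (gX.appLE U (gX ⁻¹ᵁ U ⊓ (f' ≫ g') ⁻¹ᵁ W') hU'U).hom =
        (hU.primeIdealOf ⟨gX x', hxU⟩).asIdeal :=
      congrArg PrimeSpectrum.asIdeal
        (IsAffineOpen.comap_primeIdealOf_appLE (f := gX) U hU _ hU' hU'U hx'U')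
    rw [← hcomap]
    refine (Groth.Agent.Lib.Helper10.KosBC.isLCIAt_iff_of_isPushout''
      (h.appLE W W' hW'W).hom (g.appLE W V hVW).hom (f.appLE V U hUV).hom
      ((f ≫ g).appLE W U hUW).hom (g'.appLE W' _ hV'W').hom (f'.appLE _ _ hU'V').hom
      ((f' ≫ g').appLE W' _ hU'W').hom (gY.appLE V _ hV'V).hom (gX.appLE U _ hU'U).hom
      ?_ ?_ ?_ ?_ hB hC ?_ ?_ ?_ ?_ _).symm
    · rw [← CommRingCat.hom_comp, Scheme.Hom.appLE_comp_appLE]
    · rw [← CommRingCat.hom_comp, Scheme.Hom.appLE_comp_appLE]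
    · rw [← CommRingCat.hom_comp, ← CommRingCat.hom_comp, Scheme.Hom.appLE_comp_appLE,
        Scheme.Hom.appLE_comp_appLE]
      exact congrArg CommRingCat.Hom.hom (appLE_hom_congr hY.w _ _ _ _)
    · rw [← CommRingCat.hom_comp, ← CommRingCat.hom_comp, Scheme.Hom.appLE_comp_appLE,
        Scheme.Hom.appLE_comp_appLE]
      exact congrArg CommRingCat.Hom.hom (appLE_hom_congr w _ _ _ _)
    · exact Flat.flat_appLE g hW hV hVW
    · exact g.finitePresentation_appLE hW hV hVW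
    · exact Flat.flat_appLE (f ≫ g) hW hU hUW
    · exact (f ≫ g).finitePresentation_appLE hW hU hUW

end Groth.Agent.S1494
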