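import Groth.Statements.S10668
import Groth.Agent.Lib.Helper10.LciSpNear
import Groth.Agent.Lib.Helper78.FlatLocusSp
import Groth.Agent.S1494

set_option autoImplicit false
universe u
open CategoryTheory CategoryTheory.Limits AlgebraicGeometry
open AlgSp

namespace Groth.Agent.S10668

/-- For morphisms f : X ⟶ Y, p : X ⟶ Z and q : Y ⟶ Z of algebraic spaces over S with f ≫ q = p and p, q
both flat and locally of finite presentation, any morphism of algebraic spaces g : Z' ⟶ Z and any
base change f' : X' ⟶ Y' of f along g (pullback squares Y' = Y ×_Z Z', X' = X ×_Y Y'), the set of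
points of |X'| at which f' is Koszul (a local complete intersection morphism on some open subspace
through the point) is the inverse image under |X'| ⟶ |X| of the set of points at which f is Koszul.
(The published statement also records that the points at which f is Koszul form an open subspace of
X; with the open-neighbourhood form of being Koszul at a point used here that set is a union of
images of open subspaces, and this row states only its compatibility with base change.) -/
theorem result {S : Scheme.{u}} {X Y Z : AlgSp.Space S} (f : X ⟶ Y) (p : X ⟶ Z) (q : Y ⟶ Z) (hc : f ≫ q = p)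
    (hp1 : AlgSp.LocP @Flat p.hom) (hp2 : AlgSp.LocP @LocallyOfFinitePresentation p.hom)
    (hq1 : AlgSp.LocP @Flat q.hom) (hq2 : AlgSp.LocP @LocallyOfFinitePresentation q.hom)
    {Z' Y' X' : AlgSp.Space S} (g : Z' ⟶ Z) (gY : Y' ⟶ Y) (q' : Y' ⟶ Z') (hY : IsPullback gY.hom q'.hom q.hom g.hom)
    (gX : X' ⟶ X) (f' : X' ⟶ Y') (hX : IsPullback gX.hom f'.hom f.hom gY.hom) :
    {x' | AlgSp.LocPNear AlgSp.lci f'.hom x'} =
      AlgSp.Points.map gX.hom ⁻¹' {x | AlgSp.LocPNear AlgSp.lci f.hom x} := by
  open Groth.Agent.Lib.Helper10.LciMor Groth.Agent.Lib.Helper10.LciSpNear Groth.Agent.H52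
    Groth.Agent.Lib.Helper78.FlatLocusSp in
  have hXa := X.property
  have hYa := Y.property
  have hZa := Z.property
  have hX'a := X'.property
  have hY'a := Y'.property
  have hZ'a := Z'.property
  have hcomp : f.hom ≫ q.hom = p.hom := congrArg (fun m => m.hom) hc
  have hfp : AlgSp.LocP @LocallyOfFinitePresentation (f.hom ≫ q.hom) := by rw [hcomp]; exact hp2
  have hfl : AlgSp.LocP @Flat (f.hom ≫ q.hom) := by rw [hcomp]; exact hp1
  ext x'
  simp only [Set.mem_setOf_eq, Set.mem_preimage]
  obtain ⟨V, W, V', W', b, c, b', c', k, k', β, γ, v', hbe, hce, hb'e, hc'e, cq, cq', cβ, cγ,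
    sqS1, hv'⟩ := exists_baseChange_charts hYa hZa hZ'a hY (AlgSp.Points.map f'.hom x')
  obtain ⟨U, U', a, a', h, h', α, u', hae, ha'e, ck, ck', cα, sqS2, hu'⟩ :=
    exists_baseChange_charts_over hXa hYa hY'a hX x' b hbe b' hb'e β cβ v' hv'
  have commW : a ≫ f.hom ≫ q.hom = (AlgSp.yon S).map (h ≫ k) ≫ c := by
    rw [← Category.assoc, ck, Category.assoc, cq, Functor.map_comp, Category.assoc]
  haveI i1 : LocallyOfFinitePresentation (h.left ≫ k.left) := hfp a c (h ≫ k) hae hce commW
  haveI i2 : Flat (h.left ≫ k.left) := hfl a c (h ≫ k) hae hce commW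
  haveI i3 : Flat k.left := hq1 b c k hbe hce cq
  haveI i4 : LocallyOfFinitePresentation k.left := hq2 b c k hbe hce cq
  have hpt : AlgSp.Points.ofPt a (α.left u') = AlgSp.Points.map gX.hom x' := by
    rw [← ofPt_yon_map_comp, ← cα, ← AlgSp.Points.map_ofPt, hu']
  -- the scheme-level statement
  have key := (Groth.Agent.S1494.result h.left k.left).2 γ.left β.left k'.left sqS1 α.left h'.left
    (sqS2.paste_vert sqS1) sqS2.w
  have key' : (∃ W' : U'.left.Opens, u' ∈ W' ∧ lciMor (W'.ι ≫ h'.left)) ↔
      ∃ W₀ : U.left.Opens, α.left u' ∈ W₀ ∧ lciMor (W₀.ι ≫ h.left) := by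
    rw [← exists_affine_isLCI_iff_exists_nhd, ← exists_affine_isLCI_iff_exists_nhd]
    have := Set.ext_iff.mp key u'
    exact this
  rw [locPNear_lci_iff_hasAtMor hY'a, locPNear_lci_iff_hasAtMor hYa]
  constructor
  · intro H
    have h1 := (hasAtMor_lciNhd_iff_forall hX'a hY'a f'.hom x').mp H a' b' h' u' ha'e hb'e ck' hu'
    obtain ⟨W₀, hW₀, hW₀l⟩ := key'.mp h1
    exact ⟨U, V, a, b, h, α.left u', hae, hbe, ck, hpt, W₀, hW₀, hW₀l⟩
  · intro H
    have h1 := (hasAtMor_lciNhd_iff_forall hXa hYa f.hom _).mp H a b h (α.left u') hae hbe ck hpt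
    obtain ⟨W', hW', hW'l⟩ := key'.mpr h1
    exact ⟨U', V', a', b', h', u', ha'e, hb'e, ck', hu', W', hW', hW'l⟩

end Groth.Agent.S10668
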