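import Groth.Statements.S10645
import Groth.Agent.Lib.Helper10.LciSpNear
import Groth.Agent.S10668
import Groth.Agent.S10194
import Groth.Agent.S10195
import Groth.Agent.H52.FibreProd

set_option autoImplicit false
universe u
open CategoryTheory CategoryTheory.Limits AlgebraicGeometry
open AlgSp

namespace Groth.Agent.S10645

/-- For morphisms f : X ⟶ Y, p : X ⟶ Z and q : Y ⟶ Z of algebraic spaces over S with f ≫ q = p, where p
is flat, closed and locally of finite presentation and q is flat and also locally of finite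
presentation, there is an open subspace W of Z with the following property: a morphism of algebraic
spaces g : Z' ⟶ Z factors through W exactly when the base change X' ⟶ Y' of f along g is a local
complete intersection (Koszul) morphism, i.e. Koszul at every point etale locally on source and
target. Here the base change of f along g is any f' : X' ⟶ Y' obtained from pullback squares Y' = Y
×_Z Z' and X' = X ×_Y Y' of algebraic spaces over S, and W ⊂ Z is given as a representable open
immersion w : W ⟶ Z. -/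
theorem result {S : Scheme.{u}} {X Y Z : AlgSp.Space S}
    (f : X ⟶ Y) (p : X ⟶ Z) (q : Y ⟶ Z) (hc : f ≫ q = p)
    (hp1 : AlgSp.LocP @Flat p.hom) (hp2 : AlgSp.LocP @LocallyOfFinitePresentation p.hom)
    (hp3 : AlgSp.IsClosedMor p.hom) (hq1 : AlgSp.LocP @Flat q.hom)
    (hq2 : AlgSp.LocP @LocallyOfFinitePresentation q.hom) :
    ∃ (W : AlgSp.Space S) (w : W ⟶ Z), AlgSp.RepWith @IsOpenImmersion w.hom ∧
      ∀ (Z' : AlgSp.Space S) (g : Z' ⟶ Z),
        (∃ k : Z' ⟶ W, k ≫ w = g) ↔
          ∀ (Y' : AlgSp.Space S) (gY : Y' ⟶ Y) (q' : Y' ⟶ Z'),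
            IsPullback gY.hom q'.hom q.hom g.hom →
            ∀ (X' : AlgSp.Space S) (gX : X' ⟶ X) (f' : X' ⟶ Y'),
              IsPullback gX.hom f'.hom f.hom gY.hom →
                AlgSp.IsLCIMor f'.hom := by
  open Groth.Agent.Lib.Helper10.LciMor Groth.Agent.Lib.Helper10.LciSpNear Groth.Agent.H52 in
  have hX := X.property
  have hY := Y.property
  have hZ := Z.property
  have hcomp : f.hom ≫ q.hom = p.hom := congrArg (fun m => m.hom) hc
  have hopen := isOpen_setOf_locPNear_lci hY f.hom
  set T : Set (AlgSp.Points X.obj) := {x | AlgSp.LocPNear AlgSp.lci f.hom x}ᶜ with hT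
  have hTc : IsClosed T := hopen.isClosed_compl
  have hpT : IsClosed (AlgSp.Points.map p.hom '' T) := hp3 T hTc
  set W₁ : Set (AlgSp.Points Z.obj) := (AlgSp.Points.map p.hom '' T)ᶜ with hW₁def
  have hW₁ : IsOpen W₁ := hpT.isOpen_compl
  obtain ⟨W, w, hw, hr⟩ := Groth.Agent.S10195.result Z W₁ hW₁
  refine ⟨W, w, hw, fun Z' g => ?_⟩
  rw [Groth.Agent.S10194.result w hw g, hr]
  have hkey : Set.range (AlgSp.Points.map g.hom) ⊆ W₁ ↔
      ∀ (z' : AlgSp.Points Z'.obj) (x : AlgSp.Points X.obj),
        AlgSp.Points.map p.hom x = AlgSp.Points.map g.hom z' →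
          AlgSp.LocPNear AlgSp.lci f.hom x := by
    constructor
    · intro hsub z' x hx
      by_contra hnf
      exact hsub ⟨z', rfl⟩ ⟨x, hnf, hx⟩
    · rintro H _ ⟨z', rfl⟩ ⟨x, hxT, hx⟩
      exact hxT (H z' x hx)
  -- the criterion for one base change
  have hbc : ∀ (Y' : AlgSp.Space S) (gY : Y' ⟶ Y) (q' : Y' ⟶ Z'),
      IsPullback gY.hom q'.hom q.hom g.hom →
      ∀ (X' : AlgSp.Space S) (gX : X' ⟶ X) (f' : X' ⟶ Y'),
        IsPullback gX.hom f'.hom f.hom gY.hom →
          (AlgSp.IsLCIMor f'.hom ↔ ∀ (z' : AlgSp.Points Z'.obj) (x : AlgSp.Points X.obj),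
            AlgSp.Points.map p.hom x = AlgSp.Points.map g.hom z' →
              AlgSp.LocPNear AlgSp.lci f.hom x) := by
    intro Y' gY q' sqY X' gX f' sqX
    have hloc := Groth.Agent.S10668.result f p q hc hp1 hp2 hq1 hq2 g gY q' sqY gX f' sqX
    have hmem : ∀ x' : AlgSp.Points X'.obj, AlgSp.LocPNear AlgSp.lci f'.hom x' ↔
        AlgSp.LocPNear AlgSp.lci f.hom (AlgSp.Points.map gX.hom x') := fun x' =>
      Set.ext_iff.mp hloc x'
    have big : IsPullback gX.hom (f'.hom ≫ q'.hom) (f.hom ≫ q.hom) g.hom := sqX.paste_vert sqY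
    show AlgSp.LocP AlgSp.lci f'.hom ↔ _
    rw [locP_lci_iff_forall_locPNear Y'.property f'.hom]
    constructor
    · intro H z' x hx
      obtain ⟨x', hx'1, -⟩ := exists_point_of_isPullback big x z' (by rw [hcomp]; exact hx)
      rw [← hx'1]
      exact (hmem x').mp (H x')
    · intro H x'
      refine (hmem x').mpr (H (AlgSp.Points.map (f'.hom ≫ q'.hom) x') _ ?_)
      rw [← hcomp, ← AlgSp.Points.map_comp, ← AlgSp.Points.map_comp, big.w]
  constructor
  · intro hsub Y' gY q' sqY X' gX f' sqX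
    exact (hbc Y' gY q' sqY X' gX f' sqX).mpr (hkey.mp hsub)
  · intro H
    have sqY := IsPullback.of_hasPullback q.hom g.hom
    have hY' : AlgSp.IsAlgSpace (pullback q.hom g.hom) :=
      Groth.Agent.H52.isAlgSpace_of_isPullback sqY hY hZ Z'.property
    have sqX := IsPullback.of_hasPullback f.hom (pullback.fst q.hom g.hom)
    have hX' : AlgSp.IsAlgSpace (pullback f.hom (pullback.fst q.hom g.hom)) :=
      Groth.Agent.H52.isAlgSpace_of_isPullback sqX hX hY hY'
    let Y's : AlgSp.Space S := ⟨pullback q.hom g.hom, hY'⟩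
    let X's : AlgSp.Space S := ⟨pullback f.hom (pullback.fst q.hom g.hom), hX'⟩
    let gY : Y's ⟶ Y := ObjectProperty.homMk (pullback.fst q.hom g.hom)
    let q' : Y's ⟶ Z' := ObjectProperty.homMk (pullback.snd q.hom g.hom)
    let gX : X's ⟶ X := ObjectProperty.homMk (pullback.fst f.hom (pullback.fst q.hom g.hom))
    let f' : X's ⟶ Y's := ObjectProperty.homMk (pullback.snd f.hom (pullback.fst q.hom g.hom))
    exact hkey.mpr ((hbc Y's gY q' sqY X's gX f' sqX).mp (H Y's gY q' sqY X's gX f' sqX))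

end Groth.Agent.S10645
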