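import Groth.Statements.S10649
import Groth.Agent.Lib.Helper54.ProperQf

set_option autoImplicit false
universe u
open CategoryTheory CategoryTheory.Limits AlgebraicGeometry
open AlgSp

namespace Groth.Agent.S10649

/-- The following conditions on a morphism f : X ⟶ Y of algebraic spaces over S are equivalent: (1)
finiteness of f; (2) f is locally quasi-finite as well as proper (locally quasi-finite and locally
of finite type etale locally); (3) f is proper and for every field k and every k-point Spec k ⟶ Y
the fibre X_k (any pullback of f along it in fppf sheaves) has discrete space of points; (4) f is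
universally closed, separated and locally of finite type, and every such fibre X_k has discrete
space of points. -/
theorem result {S : Scheme.{u}} {X Y : AlgSp.Space S} (f : X ⟶ Y) :
    [AlgSp.IsFiniteMor f.hom,
      AlgSp.IsProperMor f.hom ∧ AlgSp.LocP (@LocallyQuasiFinite ⊓ @LocallyOfFiniteType) f.hom,
      AlgSp.IsProperMor f.hom ∧
        ∀ (k : AlgSp.FieldPt Y.obj) (Xk : AlgSp.Sp S) (fst : Xk ⟶ X.obj) (snd : Xk ⟶ (AlgSp.yon S).obj k.pt),
          IsPullback fst snd f.hom k.toHom → DiscreteTopology (AlgSp.Points Xk),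
      AlgSp.IsUnivClosedMor f.hom ∧ AlgSp.IsSeparatedMor f.hom ∧ AlgSp.LocP @LocallyOfFiniteType f.hom ∧
        ∀ (k : AlgSp.FieldPt Y.obj) (Xk : AlgSp.Sp S) (fst : Xk ⟶ X.obj) (snd : Xk ⟶ (AlgSp.yon S).obj k.pt),
          IsPullback fst snd f.hom k.toHom → DiscreteTopology (AlgSp.Points Xk)].TFAE := by
  have hX := X.property
  have hY := Y.property
  tfae_have 1 → 2 := by
    intro h
    have h' := (Groth.Agent.H53.isFiniteMor_iff hX hY f.hom).1 h
    refine ⟨h'.2, ?_⟩
    exact Groth.Agent.Lib.Helper54.locP_lqf_of_isFiniteMor f.hom h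
  tfae_have 2 → 3 := by
    rintro ⟨hp, hqf⟩
    refine ⟨hp, fun k Xk fst snd sq => ?_⟩
    exact Groth.Agent.H52.discrete_points_fibre_of_locP_lqf hX hY f.hom hqf k.str k.toHom sq
  tfae_have 3 → 4 := by
    rintro ⟨⟨hs, ⟨hl, hq⟩, hu⟩, hd⟩
    exact ⟨hu, hs, hl, hd⟩
  tfae_have 4 → 1 := by
    rintro ⟨hu, hs, hl, hd⟩
    have hqf := Groth.Agent.H52.locP_lqf_of_discrete_fibres hX hY f.hom hl
      (fun k _ str y P fst snd sq => by
        let p : AlgSp.FieldPt Y.obj := ⟨k, str, (AlgSp.J S).uliftYonedaEquiv y⟩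
        have hp : p.toHom = y := Equiv.symm_apply_apply _ _
        exact hd p P fst snd (by rw [hp]; exact sq))
    exact Groth.Agent.Lib.Helper54.isFiniteMor_of_univClosed_sep_lqf hX hY f.hom hu hs hqf
  tfae_finish

end Groth.Agent.S10649
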