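import Groth.Statements.S10651
import Groth.Agent.S10650
import Groth.Agent.S9964
import Groth.Agent.S10281
import Groth.Agent.H52.FieldDiscrete
import Groth.Agent.H52.FibreConds2
import Groth.Agent.H53.QSDecentMor
import Groth.Agent.H53.Proper
import Groth.Agent.H53.ProperImage
import Groth.Agent.H52.FibreProd
import Groth.Agent.H52.Points

set_option autoImplicit false
universe u
open CategoryTheory CategoryTheory.Limits AlgebraicGeometry
open AlgSp

namespace Groth.Agent.S10651

/-- A separated morphism locally of finite type is quasi-finite at all points over a field point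
whose fibre has finitely many points. -/
theorem qf_of_finite_fibre {S : Scheme.{u}} {X Y : AlgSp.Space S} (f : X ⟶ Y)
    (hsep : AlgSp.IsSeparatedMor f.hom) (hlft : AlgSp.LocP @LocallyOfFiniteType f.hom)
    (y : AlgSp.FieldPt Y.obj) {Xy : AlgSp.Sp S} {fst : Xy ⟶ X.obj}
    {snd : Xy ⟶ (AlgSp.yon S).obj y.pt} (hsq : IsPullback fst snd f.hom y.toHom)
    (hfin : Finite (AlgSp.Points Xy)) :
    ∀ x : AlgSp.Points X.obj, AlgSp.Points.map f.hom x = AlgSp.Points.mk y →
      AlgSp.HasAtMor (fun U _ h u => ∃ W : U.Opens, u ∈ W ∧ LocallyQuasiFinite (W.ι ≫ h) ∧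
        LocallyOfFiniteType (W.ι ≫ h)) f.hom x := by
  have hXa : AlgSp.IsAlgSpace X.obj := X.property
  have hYa : AlgSp.IsAlgSpace Y.obj := Y.property
  have hXy : AlgSp.IsAlgSpace Xy :=
    Groth.Agent.H52.isAlgSpace_of_isPullback hsq hXa hYa (AlgSp.IsAlgSpace.yon_obj _)
  have hqs : AlgSp.IsQuasiSeparatedMor f.hom :=
    Groth.Agent.H53.repWith_of_le (fun _ _ φ hφ => by
      haveI : IsClosedImmersion φ := hφ
      infer_instance) hsep
  have hdm : AlgSp.IsDecentMor f.hom :=
    Groth.Agent.H53.FieldQuot.isDecentMor_of_isQuasiSeparatedMor f hqs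
  have hdec : AlgSp.IsDecent Xy := hdm y.toHom fst snd hsq
  have hsndlft : AlgSp.LocP @LocallyOfFiniteType snd :=
    Groth.Agent.H52.locP_lft_snd_fibre hXa hYa hlft y hsq
  haveI := hfin
  have hdisc : DiscreteTopology (AlgSp.Points Xy) :=
    Groth.Agent.H52.discreteTopology_points_of_finite_of_isDecent hXy hdec snd hsndlft
  exact (Groth.Agent.H52.discreteTopology_fibre_iff_forall_lqfAt hXa hYa hXy f.hom hlft y
    hsq).1 hdisc

/-- Consider morphisms h : X ⟶ Y, f : X ⟶ B, g : Y ⟶ B of algebraic spaces over S with h ≫ g = f, a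
point b of |B| and a field point k of B in the class of b. Assume f is proper, g is separated and
locally of finite type, and either (a) for the fibres X_k ⟶ Y_k of h over k (pullbacks in fppf
sheaves) the image of |X_k| in |Y_k| is finite, or (b) the image in |Y| of the fibre of |X| ⟶ |B|
over b is finite and B is decent. Then over some open subspace B' of B containing b the base change
X_{B'} ⟶ Y_{B'} of h lands in a closed subspace Z of Y_{B'} that is finite over B' (it factors
through Z). -/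
theorem result {S : Scheme.{u}} {X Y B : AlgSp.Space S} (h : X ⟶ Y) (f : X ⟶ B) (g : Y ⟶ B) (hc : h ≫ g = f)
    (b : AlgSp.Points B.obj) (k : AlgSp.FieldPt B.obj) (hk : AlgSp.Points.mk k = b)
    (hf : AlgSp.IsProperMor f.hom) (hg1 : AlgSp.IsSeparatedMor g.hom) (hg2 : AlgSp.LocP @LocallyOfFiniteType g.hom)
    (h3 : (∀ (Yk : AlgSp.Sp S) (gY : Yk ⟶ Y.obj) (sY : Yk ⟶ (AlgSp.yon S).obj k.pt),
            IsPullback gY sY g.hom k.toHom →
            ∀ (Xk : AlgSp.Sp S) (gX : Xk ⟶ X.obj) (hk' : Xk ⟶ Yk), IsPullback gX hk' h.hom gY →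
              (Set.range (AlgSp.Points.map hk')).Finite) ∨
          ((AlgSp.Points.map h.hom '' (AlgSp.Points.map f.hom ⁻¹' {b})).Finite ∧ AlgSp.IsDecent B.obj)) :
    ∃ (B' : AlgSp.Space S) (j : B' ⟶ B), AlgSp.RepWith @IsOpenImmersion j.hom ∧
      b ∈ Set.range (AlgSp.Points.map j.hom) ∧
        ∀ (YB : AlgSp.Space S) (gY : YB ⟶ Y) (sY : YB ⟶ B'), IsPullback gY.hom sY.hom g.hom j.hom →
          ∀ (XB : AlgSp.Space S) (gX : XB ⟶ X) (hB : XB ⟶ YB), IsPullback gX.hom hB.hom h.hom gY.hom →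
            ∃ (Z : AlgSp.Space S) (i : Z ⟶ YB) (e : XB ⟶ Z), AlgSp.RepWith @IsClosedImmersion i.hom ∧
              AlgSp.IsFiniteMor (i ≫ sY).hom ∧ e ≫ i = hB := by
  have hXa : AlgSp.IsAlgSpace X.obj := X.property
  have hYa : AlgSp.IsAlgSpace Y.obj := Y.property
  have hBa : AlgSp.IsAlgSpace B.obj := B.property
  -- the scheme theoretic image of `h`
  obtain ⟨Z₀, i₀, hZ₀⟩ := Groth.Agent.S9964.result h
  have hcl : AlgSp.RepWith @IsClosedImmersion i₀.hom := hZ₀.1
  obtain ⟨h'r, fac⟩ := hZ₀.2.1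
  let h' : X ⟶ Z₀ := ObjectProperty.homMk h'r
  have fac' : h' ≫ i₀ = h := ObjectProperty.hom_ext _ fac
  obtain ⟨hprop, hsurj⟩ := Groth.Agent.S10281.result h f g hc hf hg1 hg2 i₀ hZ₀ h' fac'
  have hZa : AlgSp.IsAlgSpace Z₀.obj := Z₀.property
  have hinj : Function.Injective (AlgSp.Points.map i₀.hom) :=
    Groth.Agent.H53.ProperImage.injective_points_of_repWith_isClosedImmersion i₀.hom hcl
  have hsurj' : Function.Surjective (AlgSp.Points.map h'r) := hsurj
  have hfacP : ∀ x, AlgSp.Points.map i₀.hom (AlgSp.Points.map h'r x) =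
      AlgSp.Points.map h.hom x := by
    intro x
    rw [← AlgSp.Points.map_comp, fac]
  have hpe : (i₀ ≫ g).hom = i₀.hom ≫ g.hom := rfl
  have hfe : f.hom = h.hom ≫ g.hom := by rw [← hc]; rfl
  have hplft : AlgSp.LocP @LocallyOfFiniteType (i₀ ≫ g).hom := hprop.2.1.1
  have hpsep : AlgSp.IsSeparatedMor (i₀ ≫ g).hom := hprop.1
  -- `Z₀ ⟶ B` is quasi-finite at all points over `b`
  have hq : ∀ z : AlgSp.Points Z₀.obj, AlgSp.Points.map (i₀ ≫ g).hom z = b →
      AlgSp.HasAtMor (fun U _ h u => ∃ W : U.Opens, u ∈ W ∧ LocallyQuasiFinite (W.ι ≫ h) ∧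
        LocallyOfFiniteType (W.ι ≫ h)) (i₀ ≫ g).hom z := by
    rcases h3 with h3a | ⟨h3b, hBd⟩
    · have sqY := IsPullback.of_hasPullback g.hom k.toHom
      have sqX := IsPullback.of_hasPullback h.hom (pullback.fst g.hom k.toHom)
      have hfinr := h3a _ _ _ sqY _ _ _ sqX
      have sqZ := IsPullback.of_hasPullback i₀.hom (pullback.fst g.hom k.toHom)
      have sqZk : IsPullback (pullback.fst i₀.hom (pullback.fst g.hom k.toHom))
          (pullback.snd i₀.hom (pullback.fst g.hom k.toHom) ≫ pullback.snd g.hom k.toHom)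
          (i₀ ≫ g).hom k.toHom := sqZ.paste_vert sqY
      have hiZcl : AlgSp.RepWith @IsClosedImmersion
          (pullback.snd i₀.hom (pullback.fst g.hom k.toHom)) :=
        MorphismProperty.of_isPullback (P := AlgSp.RepWith (S := S) @IsClosedImmersion) sqZ hcl
      have hiZinj := Groth.Agent.H53.ProperImage.injective_points_of_repWith_isClosedImmersion
        _ hiZcl
      have hfinZ : Finite (AlgSp.Points (pullback i₀.hom (pullback.fst g.hom k.toHom))) := by
        have hsub : ∀ ζ : AlgSp.Points (pullback i₀.hom (pullback.fst g.hom k.toHom)),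
            AlgSp.Points.map (pullback.snd i₀.hom (pullback.fst g.hom k.toHom)) ζ ∈
              Set.range (AlgSp.Points.map (pullback.snd h.hom (pullback.fst g.hom k.toHom))) := by
          intro ζ
          obtain ⟨x, hx⟩ := hsurj' (AlgSp.Points.map
            (pullback.fst i₀.hom (pullback.fst g.hom k.toHom)) ζ)
          have hcompat : AlgSp.Points.map h.hom x =
              AlgSp.Points.map (pullback.fst g.hom k.toHom)
                (AlgSp.Points.map (pullback.snd i₀.hom (pullback.fst g.hom k.toHom)) ζ) := by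
            rw [← hfacP, hx, ← AlgSp.Points.map_comp, ← AlgSp.Points.map_comp, sqZ.w]
          obtain ⟨ξ, -, hξ⟩ := Groth.Agent.H52.exists_point_of_isPullback sqX x _ hcompat
          exact ⟨ξ, hξ⟩
        have huniv : (Set.univ : Set (AlgSp.Points
            (pullback i₀.hom (pullback.fst g.hom k.toHom)))).Finite :=
          Set.Finite.of_injOn (f := AlgSp.Points.map
            (pullback.snd i₀.hom (pullback.fst g.hom k.toHom))) (fun ζ _ => hsub ζ)
            hiZinj.injOn hfinr
        exact Set.finite_univ_iff.1 huniv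
      intro z hz
      exact qf_of_finite_fibre (i₀ ≫ g) hpsep hplft k sqZk hfinZ z (hz.trans hk.symm)
    · obtain ⟨r', hr', hm, hqc⟩ := hBd b
      have sqZ := IsPullback.of_hasPullback (i₀ ≫ g).hom r'.toHom
      have hfib : (AlgSp.Points.map (i₀ ≫ g).hom ⁻¹' {AlgSp.Points.mk r'}).Finite := by
        rw [hr']
        refine Set.Finite.of_injOn (f := AlgSp.Points.map i₀.hom) ?_ hinj.injOn h3b
        intro z hz
        obtain ⟨x, hx⟩ := hsurj' z
        refine ⟨x, ?_, ?_⟩
        · show AlgSp.Points.map f.hom x = b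
          rw [hfe, AlgSp.Points.map_comp, ← hfacP, hx, ← AlgSp.Points.map_comp]
          exact hz
        · rw [← hfacP, hx]
      have hfinZ : Finite (AlgSp.Points (pullback (i₀ ≫ g).hom r'.toHom)) := by
        haveI : Finite ↥(AlgSp.Points.map (i₀ ≫ g).hom ⁻¹' {AlgSp.Points.mk r'}) :=
          hfib.to_subtype
        exact Finite.of_equiv _
          (Groth.Agent.H52.fibreHomeo hZa hBa (i₀ ≫ g).hom r' hm hqc sqZ).toEquiv.symm
      intro z hz
      exact qf_of_finite_fibre (i₀ ≫ g) hpsep hplft r' sqZ hfinZ z (hz.trans hr'.symm)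
  obtain ⟨B', j, hj, hbB', hfin'⟩ := Groth.Agent.S10650.result (i₀ ≫ g) b hprop hq
  refine ⟨B', j, hj, hbB', ?_⟩
  intro YB gY sY sqYB XB gX hB sqXB
  have sqZ := IsPullback.of_hasPullback i₀.hom gY.hom
  have hZs : AlgSp.IsAlgSpace (pullback i₀.hom gY.hom) :=
    Groth.Agent.H52.isAlgSpace_of_isPullback sqZ hZa hYa YB.property
  let Z : AlgSp.Space S := ⟨pullback i₀.hom gY.hom, hZs⟩
  let i : Z ⟶ YB := ObjectProperty.homMk (pullback.snd i₀.hom gY.hom)
  let zZ : Z ⟶ Z₀ := ObjectProperty.homMk (pullback.fst i₀.hom gY.hom)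
  have hcomm : (gX.hom ≫ h'r) ≫ i₀.hom = hB.hom ≫ gY.hom := by
    rw [Category.assoc, fac, sqXB.w]
  let e : XB ⟶ Z := ObjectProperty.homMk (pullback.lift (gX.hom ≫ h'r) hB.hom hcomm)
  refine ⟨Z, i, e, ?_, ?_, ?_⟩
  · exact MorphismProperty.of_isPullback (P := AlgSp.RepWith (S := S) @IsClosedImmersion) sqZ hcl
  · have sq2 : IsPullback zZ.hom (i ≫ sY).hom (i₀ ≫ g).hom j.hom := sqZ.paste_vert sqYB
    exact hfin' Z zZ (i ≫ sY) sq2
  · exact ObjectProperty.hom_ext _ (pullback.lift_snd _ _ _)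

end Groth.Agent.S10651
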