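import Groth.Statements.S10653
import Groth.Agent.S1240
import Groth.Agent.H52.TwoCharts
import Groth.Agent.H52.QC
import Groth.Agent.H52.Points
import Groth.Agent.H52.LocPCalc5
import Groth.Agent.H53.SpTop
import Groth.Agent.H53.GenFin
import Groth.Agent.Lib.Helper54.Points

set_option autoImplicit false
universe u
open CategoryTheory CategoryTheory.Limits AlgebraicGeometry
open AlgSp

namespace Groth.Agent.S10653

/-- For a flat morphism f : X ⟶ Y of algebraic spaces over S which is locally of finite type, and an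
open subspace j : V ⟶ Y with |V| dense in |Y| such that the base change X ×_Y V ⟶ V has relative
dimension at most d (at every point some etale chart diagram has top arrow with local fibre
dimension at most d): if either j is quasi-compact or f is locally of finite presentation, then f
has relative dimension at most d at every point of |X|. -/
theorem result {S : Scheme.{u}} {X Y V : AlgSp.Space S} (f : X ⟶ Y) (j : V ⟶ Y) (d : ℕ)
    (hf1 : AlgSp.LocP @Flat f.hom) (hf2 : AlgSp.LocP @LocallyOfFiniteType f.hom)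
    (hj1 : AlgSp.RepWith @IsOpenImmersion j.hom) (hj2 : Dense (Set.range (AlgSp.Points.map j.hom)))
    (P : AlgSp.Space S) (fst : P ⟶ X) (snd : P ⟶ V) (hP : IsPullback fst.hom snd.hom f.hom j.hom)
    (hV : ∀ x, AlgSp.HasAtMor (fun _ _ h u => FlatMor.fibreDimAt h u ≤ (d : WithBot ℕ∞)) snd.hom x)
    (h : AlgSp.LocP @LocallyOfFinitePresentation f.hom ∨ AlgSp.IsQuasiCompactMor j.hom) :
    ∀ x, AlgSp.HasAtMor (fun _ _ h u => FlatMor.fibreDimAt h u ≤ (d : WithBot ℕ∞)) f.hom x := by
  have hXa : AlgSp.IsAlgSpace X.obj := X.property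
  have hYa : AlgSp.IsAlgSpace Y.obj := Y.property
  haveI : (AlgSp.RepWith (S := S) @Etale).IsMultiplicative := AlgSp.repWith_isMultiplicative _
  intro x
  obtain ⟨U, W, a, b, k, u, ha, hb, comm, hu⟩ :=
    Groth.Agent.H52.exists_diagram_through_point hXa hYa f.hom x
  refine ⟨U, W, a, b, k, u, ha, hb, comm, hu, ?_⟩
  -- the open subscheme of `W` over `V`
  have hjrep := hj1.rep
  have sqT := hjrep.isPullback b
  haveI hιo : IsOpenImmersion (hjrep.snd b).left := hj1.property_snd b
  have hjet : AlgSp.RepWith @Etale j.hom := Groth.Agent.H53.GenFin.repWith_etale_of_isOpenImmersion hj1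
  have hfstet : AlgSp.RepWith @Etale fst.hom :=
    MorphismProperty.of_isPullback (P := AlgSp.RepWith (S := S) @Etale) hP.flip hjet
  have hrange : ((hjrep.snd b).left.opensRange : Set ↥W.left) =
      (AlgSp.Points.ofPt b) ⁻¹' (Set.range (AlgSp.Points.map j.hom)) := by
    ext w
    constructor
    · rintro ⟨t, rfl⟩
      refine ⟨AlgSp.Points.ofPt (hjrep.fst b) t, ?_⟩
      rw [AlgSp.Points.map_ofPt, sqT.w, Groth.Agent.H52.ofPt_yon_map_comp]
    · rintro ⟨y, hy⟩
      obtain ⟨t, -, ht⟩ := Groth.Agent.Lib.Helper54.exists_pt_of_isPullback_yon sqT y w hy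
      exact ⟨t, ht⟩
  have hdense : Dense ((hjrep.snd b).left.opensRange : Set ↥W.left) := by
    rw [hrange]
    exact hj2.preimage (Groth.Agent.H53.isOpenMap_ofPt_of_etale b hb)
  haveI : Flat k.left := hf1 a b k ha hb comm
  haveI : LocallyOfFiniteType k.left := hf2 a b k ha hb comm
  have hle : ∀ u' : ↥U.left, k.left.base u' ∈ (hjrep.snd b).left.opensRange →
      FlatMor.fibreDimAt k.left u' ≤ (d : WithBot ℕ∞) := by
    rintro u' ⟨t, ht⟩
    have hxy : AlgSp.Points.map f.hom (AlgSp.Points.ofPt a u') =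
        AlgSp.Points.map j.hom (AlgSp.Points.ofPt (hjrep.fst b) t) := by
      rw [AlgSp.Points.map_ofPt, AlgSp.Points.map_ofPt, comm, sqT.w,
        Groth.Agent.H52.ofPt_yon_map_comp, Groth.Agent.H52.ofPt_yon_map_comp]
      exact congrArg _ ht.symm
    obtain ⟨p, hp1, -⟩ := Groth.Agent.H52.exists_point_of_isPullback hP _ _ hxy
    obtain ⟨U1, V1, a1, b1, h1, u1, ha1, hb1, comm1, hu1, hQ⟩ := hV p
    have comm1' : (a1 ≫ fst.hom) ≫ f.hom = (AlgSp.yon S).map h1 ≫ b1 ≫ j.hom := by
      rw [Category.assoc, hP.w, ← Category.assoc, comm1, Category.assoc]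
    have hpt : AlgSp.Points.ofPt a u' = AlgSp.Points.ofPt (a1 ≫ fst.hom) u1 := by
      rw [← AlgSp.Points.map_ofPt, hu1, hp1]
    have key := Groth.Agent.H52.IsEtaleSquareInvariant.eq_of_two_charts
      Groth.Agent.H52.isEtaleSquareInvariant_fibreDimAt f.hom a b k ha hb comm
      (a1 ≫ fst.hom) (b1 ≫ j.hom) h1
      ((AlgSp.RepWith (S := S) @Etale).comp_mem _ _ ha1 hfstet)
      ((AlgSp.RepWith (S := S) @Etale).comp_mem _ _ hb1 hjet) comm1' u' u1 hpt
    have key' : FlatMor.fibreDimAt k.left u' = FlatMor.fibreDimAt h1.left u1 := key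
    rw [key']
    exact hQ
  refine Groth.Agent.S1240.result k.left (hjrep.snd b).left.opensRange hdense d hle ?_ u
  rcases h with hlfp | hqc
  · exact Or.inl (hlfp a b _ ha hb comm)
  · right
    have hqc' : AlgSp.RepWith @QuasiCompact j.hom :=
      Groth.Agent.H52.repWith_quasiCompact_of_isQuasiCompactMor j.hom hjrep hqc
    haveI : QuasiCompact (hjrep.snd b).left := hqc'.property_snd b
    intro K hK hKo
    have : ((hjrep.snd b).left.opensRange : Set ↥W.left) ∩ K =
        (hjrep.snd b).left.base '' ((hjrep.snd b).left.base ⁻¹' K) := by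
      rw [Set.image_preimage_eq_range_inter]
      rfl
    rw [this]
    exact (QuasiCompact.isCompact_preimage (f := (hjrep.snd b).left) K hKo hK).image
      (hjrep.snd b).left.continuous

end Groth.Agent.S10653
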