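import Groth.Statements.S10654
import Groth.Agent.S10653
import Groth.Agent.S10649
import Groth.Agent.S10310
import Groth.Agent.H52.LqfLocus

set_option autoImplicit false
universe u
open CategoryTheory CategoryTheory.Limits AlgebraicGeometry
open AlgSp

namespace Groth.Agent.S10654

/-- For a flat proper morphism f : X ⟶ Y of algebraic spaces over S and an open subspace j : V ⟶ Y with
|V| dense in |Y| such that the base change X ×_Y V ⟶ V is finite: f is finite over all of Y,
provided either j is quasi-compact or f is locally of finite presentation. -/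
theorem result {S : Scheme.{u}} {X Y V : AlgSp.Space S} (f : X ⟶ Y) (j : V ⟶ Y)
    (hf1 : AlgSp.LocP @Flat f.hom) (hf2 : AlgSp.IsProperMor f.hom)
    (hj1 : AlgSp.RepWith @IsOpenImmersion j.hom) (hj2 : Dense (Set.range (AlgSp.Points.map j.hom)))
    (P : AlgSp.Space S) (fst : P ⟶ X) (snd : P ⟶ V) (hP : IsPullback fst.hom snd.hom f.hom j.hom)
    (hV : AlgSp.IsFiniteMor snd.hom)
    (h : AlgSp.LocP @LocallyOfFinitePresentation f.hom ∨ AlgSp.IsQuasiCompactMor j.hom) :
    AlgSp.IsFiniteMor f.hom := by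
  have hlft : AlgSp.LocP @LocallyOfFiniteType f.hom := hf2.2.1.1
  -- the base change is locally quasi-finite, hence of relative dimension `0`
  have hsnd2 : AlgSp.IsProperMor snd.hom ∧
      AlgSp.LocP (@LocallyQuasiFinite ⊓ @LocallyOfFiniteType) snd.hom :=
    ((Groth.Agent.S10649.result snd).out 0 1).1 hV
  have hsndlft : AlgSp.LocP @LocallyOfFiniteType snd.hom := hsnd2.1.2.1.1
  have hsnd0 := (Groth.Agent.S10310.result snd hsndlft).1 hsnd2.2
  have hVd : ∀ x, AlgSp.HasAtMor (fun _ _ h u => FlatMor.fibreDimAt h u ≤ ((0 : ℕ) : WithBot ℕ∞))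
      snd.hom x := by
    intro x
    obtain ⟨U, W, a, b, k, u, ha, hb, comm, hu, hQ⟩ := hsnd0 x
    exact ⟨U, W, a, b, k, u, ha, hb, comm, hu, le_of_eq hQ⟩
  have hfd := Groth.Agent.S10653.result f j 0 hf1 hlft hj1 hj2 P fst snd hP hVd h
  have hf0 : ∀ x : AlgSp.Points X.obj,
      AlgSp.HasAtMor (fun _ _ h u => FlatMor.fibreDimAt h u = 0) f.hom x := by
    intro x
    obtain ⟨U, W, a, b, k, u, ha, hb, comm, hu, hQ⟩ := hfd x
    exact ⟨U, W, a, b, k, u, ha, hb, comm, hu,
      le_antisymm hQ (Groth.Agent.H52.fibreDimAt_nonneg k.left u)⟩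
  have hlqf := (Groth.Agent.S10310.result f hlft).2 hf0
  have h10 : (AlgSp.IsProperMor f.hom ∧
      AlgSp.LocP (@LocallyQuasiFinite ⊓ @LocallyOfFiniteType) f.hom) → AlgSp.IsFiniteMor f.hom :=
    ((Groth.Agent.S10649.result f).out 1 0).1
  exact h10 ⟨hf2, hlqf⟩

end Groth.Agent.S10654
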