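import Groth.Statements.S8654
import Groth.Agent.Lib.Helper10.KoszulRegImmComp

set_option autoImplicit false
universe u
open CategoryTheory CategoryTheory.Limits AlgebraicGeometry
open RegImm

namespace Groth.Agent.S8654

/-- Let i : Y ⟶ X and j : Z ⟶ Y be Koszul-regular immersions (not necessarily closed). Then the
composite Z ⟶ X is a Koszul-regular immersion. -/
theorem result {X Y Z : Scheme.{u}} (i : Y ⟶ X) (j : Z ⟶ Y)
    (hi : RegImm.IsRegularImmersion .koszul i) (hj : RegImm.IsRegularImmersion .koszul j) :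
    RegImm.IsRegularImmersion .koszul (j ≫ i) := by
  haveI := hi.1
  haveI := hj.1
  refine ⟨inferInstance, fun z => ?_⟩
  obtain ⟨U₁, hU₁, hcl₁, fs, hfs, hker₁⟩ := hi.2 (j z)
  obtain ⟨V, hV, hcl₂, gs, hgs, hker₂⟩ := hj.2 z
  obtain ⟨U, hU, hcl, rs, -, hrs, hker⟩ :=
    Groth.Agent.Lib.Helper10.KoszulRegImmComp.comp_at i j z U₁ hU₁ hcl₁ fs hfs hker₁ V hV hcl₂ gs hgs hker₂
  exact ⟨U, hU, hcl, rs, hrs, hker⟩

end Groth.Agent.S8654
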