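import Groth.Statements.S10666
import Groth.Agent.Lib.Helper10.LciEtaleDescentC
import Groth.Agent.Lib.Helper54.LocPCalc

set_option autoImplicit false
universe u
open CategoryTheory CategoryTheory.Limits AlgebraicGeometry
open AlgSp

namespace Groth.Agent.S10666

/-- For morphisms f : X ⟶ Y, p : X ⟶ Z, q : Y ⟶ Z of algebraic spaces over S with f ≫ q = p: if q is
smooth and p is a local complete intersection morphism, then so is f. -/
theorem result {S : Scheme.{u}} {X Y Z : AlgSp.Space S} (f : X ⟶ Y) (p : X ⟶ Z) (q : Y ⟶ Z) (hc : f ≫ q = p)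
    (hq : AlgSp.LocP @Smooth q.hom) (hp : AlgSp.IsLCIMor p.hom) :
    AlgSp.IsLCIMor f.hom := by
  open Groth.Agent.Lib.Helper10.LciMor Groth.Agent.Lib.Helper10.LciLocalProp
    Groth.Agent.Lib.Helper10.LciEtaleDescent in
  intro U V a b h ha hb comm
  have hmult : (AlgSp.RepWith (S := S) @Etale).IsMultiplicative := AlgSp.repWith_isMultiplicative _
  haveI : (lciMor.{u}).IsStableUnderComposition :=
    HasRingHomProperty.stableUnderComposition (P := lciMor) isLCIHom_stableUnderComposition
  -- an étale atlas of `Z`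
  obtain ⟨W, c, hce, hcs⟩ := Z.property.atlas
  -- the étale cover `V' = V ×_Z W` of `V`
  have sqV := hce.rep.isPullback (b ≫ q.hom)
  obtain ⟨q', hq'⟩ := (AlgSp.yon S).map_surjective (hce.rep.fst (b ≫ q.hom))
  rw [← hq'] at sqV
  have hr'e : Etale (hce.rep.snd (b ≫ q.hom)).left := hce.property_snd (b ≫ q.hom)
  have hr's : Surjective (hce.rep.snd (b ≫ q.hom)).left := hcs.property _ _ _ sqV
  have hb' : AlgSp.RepWith @Etale ((AlgSp.yon S).map (hce.rep.snd (b ≫ q.hom)) ≫ b) :=
    (AlgSp.RepWith @Etale).comp_mem _ _ ((AlgSp.repWith_yon_map_iff _ _).2 hr'e) hb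
  -- `q'` is smooth
  have hq'sm : Smooth q'.left :=
    hq ((AlgSp.yon S).map (hce.rep.snd (b ≫ q.hom)) ≫ b) c q' hb' hce
      (by rw [Category.assoc]; exact sqV.w.symm)
  -- the étale cover `U' = U ×_V V'` of `U`
  have sqU := IsPullback.of_hasPullback h (hce.rep.snd (b ≫ q.hom))
  have sqU' := sqU.map (Over.forget S)
  have hre : Etale (pullback.fst h (hce.rep.snd (b ≫ q.hom))).left :=
    MorphismProperty.of_isPullback (P := @Etale) sqU'.flip hr'e
  have hrs : Surjective (pullback.fst h (hce.rep.snd (b ≫ q.hom))).left :=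
    MorphismProperty.of_isPullback (P := @Surjective) sqU'.flip hr's
  have ha' : AlgSp.RepWith @Etale
      ((AlgSp.yon S).map (pullback.fst h (hce.rep.snd (b ≫ q.hom))) ≫ a) :=
    (AlgSp.RepWith @Etale).comp_mem _ _ ((AlgSp.repWith_yon_map_iff _ _).2 hre) ha
  -- `h' ≫ q'` is lci
  have hpq : AlgSp.lci (pullback.snd h (hce.rep.snd (b ≫ q.hom)) ≫ q').left := by
    refine hp ((AlgSp.yon S).map (pullback.fst h (hce.rep.snd (b ≫ q.hom))) ≫ a) c _ ha' hce ?_
    have hpf : p.hom = f.hom ≫ q.hom := by rw [← hc]; rfl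
    rw [Category.assoc, hpf, ← Category.assoc a, comm, Category.assoc, ← Category.assoc,
      ← Functor.map_comp, sqU.w, Functor.map_comp, Category.assoc, ← sqV.w, ← Category.assoc,
      ← Functor.map_comp]
  have h1 : lciMor ((pullback.snd h (hce.rep.snd (b ≫ q.hom))).left ≫ q'.left) := by
    rw [← Over.comp_left]
    exact (lciMor_iff_forall_isKoszulAt _).mpr hpq
  haveI := hq'sm
  have h2 : lciMor (pullback.snd h (hce.rep.snd (b ≫ q.hom))).left := lciMor_of_comp_smooth _ _ h1
  haveI := hr'e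
  have h3 : lciMor ((pullback.fst h (hce.rep.snd (b ≫ q.hom))).left ≫ h.left) := by
    rw [← Over.comp_left, sqU.w, Over.comp_left]
    exact MorphismProperty.comp_mem _ _ _ h2 (lciMor_of_smooth _)
  -- `h` is locally of finite type by fppf descent
  have hlft' : LocallyOfFiniteType (pullback.snd h (hce.rep.snd (b ≫ q.hom))).left :=
    locallyOfFiniteType_of_lciMor _ h2
  haveI := hr's
  have hr'f : Flat (hce.rep.snd (b ≫ q.hom)).left := inferInstance
  have hr'p : LocallyOfFinitePresentation (hce.rep.snd (b ≫ q.hom)).left := inferInstance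
  haveI : LocallyOfFiniteType h.left :=
    MorphismProperty.of_isPullback_of_descendsAlong (P := @LocallyOfFiniteType)
      (Q := @Surjective ⊓ @Flat ⊓ @LocallyOfFinitePresentation) sqU'.flip
      ⟨⟨hr's, hr'f⟩, hr'p⟩ hlft'
  haveI := hre
  haveI := hrs
  exact (lciMor_iff_forall_isKoszulAt _).mp (lciMor_of_etale_surjective_comp _ _ h3)

end Groth.Agent.S10666
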