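import Groth.Statements.S10664
import Groth.Agent.Lib.Helper10.LciImmersion
import Groth.Agent.S10666

set_option autoImplicit false
universe u
open CategoryTheory CategoryTheory.Limits AlgebraicGeometry
open AlgSp

namespace Groth.Agent.S10664

/-- For a local complete intersection (Koszul) morphism f : X ⟶ Y of algebraic spaces over S, a smooth g
: P ⟶ Y, an etale e : U ⟶ X and a representable immersion i : U ⟶ P with i ≫ g = e ≫ f, the
immersion i is Koszul-regular as an immersion of algebraic spaces. -/
theorem result {S : Scheme.{u}} {X Y P U : AlgSp.Space S} (f : X ⟶ Y) (g : P ⟶ Y) (e : U ⟶ X) (i : U ⟶ P)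
    (hc : i ≫ g = e ≫ f) (hf : AlgSp.IsLCIMor f.hom) (hg : AlgSp.LocP @Smooth g.hom)
    (he : AlgSp.IsEtaleMor e.hom) (hi : AlgSp.RepWith @IsImmersion i.hom) :
    AlgSp.IsRegImmMor RegImm.Kind.koszul i.hom := by
  open Groth.Agent.Lib.Helper10.LciMor Groth.Agent.Lib.Helper10.LciImmersion in
  -- `e ≫ f` is a local complete intersection morphism
  have hef : AlgSp.IsLCIMor (e ≫ f).hom := by
    intro A B a b' k ha hb' comm
    refine hf (a ≫ e.hom) b' k (he a ha) hb' ?_
    rw [Category.assoc]
    exact comm
  -- hence so is `i`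
  have hilci : AlgSp.IsLCIMor i.hom := Groth.Agent.S10666.result i (e ≫ f) g hc hg hef
  refine ⟨hi.1, ?_⟩
  intro V W b fst snd hb sq
  have hfst : AlgSp.RepWith @Etale fst := MorphismProperty.of_isPullback sq.flip hb
  have hlci : AlgSp.lci snd.left := hilci fst b snd hfst hb sq.w
  haveI : IsImmersion snd.left := hi.property _ _ _ sq
  exact isRegularImmersion_of_lciMor _ ((lciMor_iff_forall_isKoszulAt _).mpr hlci)

end Groth.Agent.S10664
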