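import Groth.Statements.S10665
import Groth.Agent.Lib.Helper10.LciMor
import Groth.Agent.Lib.Helper54.LocPCalc

set_option autoImplicit false
universe u
open CategoryTheory CategoryTheory.Limits AlgebraicGeometry
open AlgSp

namespace Groth.Agent.S10665

/-- A Koszul-regular immersion between algebraic spaces over S (representable, Koszul-regular immersion
on every etale scheme chart of the target) is a local complete intersection morphism (Koszul at
every point, etale locally on source and target). -/
theorem result {S : Scheme.{u}} {X Y : AlgSp.Space S} (i : X ⟶ Y) (hi : AlgSp.IsRegImmMor RegImm.Kind.koszul i.hom) :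
    AlgSp.IsLCIMor i.hom := by
  open Groth.Agent.Lib.Helper10.LciMor Groth.Agent.Lib.Helper10.LciLocalProp in
  intro U V a b h ha hb comm
  have hrep := hi.1
  have sq := hrep.isPullback b
  have hfst : AlgSp.RepWith @Etale (hrep.fst b) := MorphismProperty.of_isPullback sq.flip hb
  have hl : AlgSp.RepWith @Etale (sq.lift a ((AlgSp.yon S).map h) comm) := by
    refine Groth.Agent.Lib.Helper54.repWith_etale_of_postcomp _ (hrep.fst b) hfst ?_
    rw [sq.lift_fst]
    exact ha
  obtain ⟨u, hu⟩ := (AlgSp.yon S).map_surjective (sq.lift a ((AlgSp.yon S).map h) comm)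
  have hu' : Etale u.left := (AlgSp.repWith_yon_map_iff _ _).1 (hu ▸ hl)
  have hh : h = u ≫ hrep.snd b := by
    apply (AlgSp.yon S).map_injective
    rw [Functor.map_comp, hu, sq.lift_snd]
  have hreg : RegImm.IsRegularImmersion RegImm.Kind.koszul (hrep.snd b).left :=
    hi.2 b (hrep.fst b) (hrep.snd b) hb sq
  have h1 : lciMor u.left := lciMor_of_smooth u.left
  have h2 : lciMor (hrep.snd b).left := lciMor_of_isRegularImmersion _ hreg
  haveI : (lciMor.{u}).IsStableUnderComposition :=
    HasRingHomProperty.stableUnderComposition (P := lciMor) isLCIHom_stableUnderComposition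
  have h3 : lciMor h.left := by
    rw [hh]
    exact MorphismProperty.comp_mem _ _ _ h1 h2
  exact (lciMor_iff_forall_isKoszulAt _).mp h3

end Groth.Agent.S10665
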