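import Groth.Statements.S10669
import Groth.Agent.Lib.Helper78.DVRRedSp
import Groth.Agent.Lib.Helper78.GeomRedFibreSp
import Groth.Agent.Lib.Helper50.NoethLocus
import Groth.Agent.H53.SpTop

set_option autoImplicit false
universe u
open CategoryTheory CategoryTheory.Limits AlgebraicGeometry
open AlgSp

namespace Groth.Agent.S10669

open Groth.Agent.Lib.Helper78.GeomRedFibreSp Groth.Agent.Lib.Helper78.DVRRedSp

/-- For a discrete valuation ring R with residue field κ and fraction field K and an algebraic space X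
over Spec R whose structure morphism s (to the terminal sheaf h_{Spec R}) is flat and proper: if the
special fibre X ×_{Spec R} Spec κ is reduced (some etale surjective scheme chart is reduced), then X
is reduced and so is the generic fibre X ×_{Spec R} Spec K. -/
theorem result (R : Type u) [CommRing R] [IsDomain R] [IsDiscreteValuationRing R]
    {X : AlgSp.Space (Spec (CommRingCat.of R))}
    (s : X.obj ⟶ (AlgSp.yon (Spec (CommRingCat.of R))).obj (Over.mk (𝟙 _)))
    (hs1 : AlgSp.IsProperMor s) (hs2 : AlgSp.LocP @Flat s)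
    (h0 : ∀ (X0 : AlgSp.Sp (Spec (CommRingCat.of R))) (fst : X0 ⟶ X.obj)
      (snd : X0 ⟶ (AlgSp.yon (Spec (CommRingCat.of R))).obj
        (Over.mk (Spec.map (CommRingCat.ofHom (IsLocalRing.residue R))))),
      IsPullback fst snd s ((AlgSp.yon (Spec (CommRingCat.of R))).map
        (Over.homMk (Spec.map (CommRingCat.ofHom (IsLocalRing.residue R))) (Category.comp_id _) :
          Over.mk (Spec.map (CommRingCat.ofHom (IsLocalRing.residue R))) ⟶ Over.mk (𝟙 _))) →
      AlgSp.EtaleLocally (fun U => IsReduced U) X0) :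
    AlgSp.EtaleLocally (fun U => IsReduced U) X.obj ∧
      ∀ (Xη : AlgSp.Sp (Spec (CommRingCat.of R))) (fst : Xη ⟶ X.obj)
        (snd : Xη ⟶ (AlgSp.yon (Spec (CommRingCat.of R))).obj
          (Over.mk (Spec.map (CommRingCat.ofHom (algebraMap R (FractionRing R)))))),
        IsPullback fst snd s ((AlgSp.yon (Spec (CommRingCat.of R))).map
          (Over.homMk (Spec.map (CommRingCat.ofHom (algebraMap R (FractionRing R)))) (Category.comp_id _) :
            Over.mk (Spec.map (CommRingCat.ofHom (algebraMap R (FractionRing R)))) ⟶ Over.mk (𝟙 _))) →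
        AlgSp.EtaleLocally (fun U => IsReduced U) Xη := by
  obtain ⟨U, p, hpe, hps⟩ := X.property.atlas
  obtain ⟨h, hh⟩ := (AlgSp.yon (Spec (CommRingCat.of R))).map_surjective (p ≫ s)
  have hidE : AlgSp.RepWith @Etale
      (𝟙 ((AlgSp.yon (Spec (CommRingCat.of R))).obj (Over.mk (𝟙 _)))) :=
    AlgSp.repWith_id @Etale _
  have hcomm : p ≫ s = (AlgSp.yon (Spec (CommRingCat.of R))).map h ≫ 𝟙 _ := by
    rw [Category.comp_id, hh]
  haveI : Flat h.left := hs2 p (𝟙 _) h hpe hidE hcomm
  haveI : LocallyOfFiniteType h.left := hs1.2.1.1 p (𝟙 _) h hpe hidE hcomm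
  haveI : IsLocallyNoetherian (Over.mk (𝟙 (Spec (CommRingCat.of R)))).left :=
    (inferInstance : IsLocallyNoetherian (Spec (CommRingCat.of R)))
  haveI : IsLocallyNoetherian U.left := LocallyOfFiniteType.isLocallyNoetherian h.left
  have sqV : IsPullback (𝟙 X.obj) s s (𝟙 _) := IsPullback.id_horiz s
  have e1 : h.left = U.hom := by
    have := Over.w h
    simpa using this
  have chart : ∀ {K : Type u} [Field K] (m : Spec (CommRingCat.of K) ⟶ Spec (CommRingCat.of R))
      (XK : AlgSp.Sp (Spec (CommRingCat.of R))) (fst : XK ⟶ X.obj)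
      (snd : XK ⟶ (AlgSp.yon (Spec (CommRingCat.of R))).obj (Over.mk m)),
      IsPullback fst snd s ((AlgSp.yon (Spec (CommRingCat.of R))).map
        (Over.homMk m (Category.comp_id _) : Over.mk m ⟶ Over.mk (𝟙 _))) →
      (AlgSp.EtaleLocally (fun U => IsReduced U) XK ↔ IsReduced (pullback h.left m)) := by
    intro K _ m XK fst snd sq
    let T : Over (Spec (CommRingCat.of R)) := Over.mk m
    let t : T ⟶ Over.mk (𝟙 _) := Over.homMk m (Category.comp_id _)
    let Q : Over (Spec (CommRingCat.of R)) := Over.mk (pullback.snd h.left m ≫ T.hom)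
    let q₂ : Q ⟶ T := Over.homMk (pullback.snd h.left m) rfl
    have hw : pullback.fst h.left m ≫ U.hom = pullback.snd h.left m ≫ T.hom := by
      rw [← e1, pullback.condition]
      rfl
    let q₁ : Q ⟶ U := Over.homMk (pullback.fst h.left m) hw
    have H : IsPullback q₁.left q₂.left h.left t.left := IsPullback.of_hasPullback _ _
    have hq : q₁ ≫ h = q₂ ≫ t := Over.OverMorphism.ext pullback.condition
    have sq' : IsPullback fst snd s ((AlgSp.yon (Spec (CommRingCat.of R))).map t ≫ 𝟙 _) := by
      rw [Category.comp_id]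
      exact sq
    obtain ⟨q, hqe, hqs⟩ :=
      exists_chart_of_fibre s (𝟙 _) (𝟙 X.obj) s sqV p hpe hps h hh t q₁ q₂ hq H fst snd sq'
    have hXK : AlgSp.IsAlgSpace XK :=
      Groth.Agent.H52.isAlgSpace_of_isPullback sq X.property (AlgSp.IsAlgSpace.yon_obj _)
        (AlgSp.IsAlgSpace.yon_obj _)
    exact isReducedSp_iff_of_chart hXK q hqe hqs
  have hfib : IsReduced (h.left.fiber (IsLocalRing.closedPoint R)) := by
    have sq0 := IsPullback.of_hasPullback s ((AlgSp.yon (Spec (CommRingCat.of R))).map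
      (Over.homMk (Spec.map (CommRingCat.ofHom (IsLocalRing.residue R))) (Category.comp_id _) :
        Over.mk (Spec.map (CommRingCat.ofHom (IsLocalRing.residue R))) ⟶ Over.mk (𝟙 _)))
    have hX0 := h0 _ _ _ sq0
    have hQ := (chart (Spec.map (CommRingCat.ofHom (IsLocalRing.residue R))) _ _ _ sq0).1 hX0
    have hfib0 := isReduced_fiber_of_isReduced_pullback h.left _ hQ
    have hpt : (Spec.map (CommRingCat.ofHom (IsLocalRing.residue R))).base
        (IsLocalRing.closedPoint (IsLocalRing.ResidueField R)) = IsLocalRing.closedPoint R :=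
      IsLocalRing.PrimeSpectrum.comap_residue _ _
    exact hpt ▸ hfib0
  have hstalk : ∀ u : ↥U.left, _root_.IsReduced (U.left.presheaf.stalk u) := by
    by_contra hne
    push Not at hne
    obtain ⟨u₀, hu₀⟩ := hne
    have hNcl : IsClosed {u : ↥U.left | ¬ _root_.IsReduced (U.left.presheaf.stalk u)} :=
      (Groth.Agent.Lib.Helper50.isOpen_setOf_isReduced_stalk U.left).isClosed_compl
    have hsatN : ∀ u₁ u₂ : ↥U.left, AlgSp.Points.ofPt p u₁ = AlgSp.Points.ofPt p u₂ →
        (_root_.IsReduced (U.left.presheaf.stalk u₁) ↔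
          _root_.IsReduced (U.left.presheaf.stalk u₂)) := by
      intro u₁ u₂ he
      obtain ⟨R', s', t', sqR, -⟩ := Groth.Agent.H53.CodimQF.exists_pullback_charts p p hpe
      obtain ⟨r, hr1, hr2⟩ :=
        Groth.Agent.H53.CodimQF.exists_point_of_isPullback_yon sqR u₁ u₂ he
      haveI : Etale s'.left := hpe.2 p ((AlgSp.yon _).map t') s' sqR.flip
      haveI : Etale t'.left := hpe.2 p ((AlgSp.yon _).map s') t' sqR
      have e1 := Groth.Agent.H53.isReduced_stalk_iff_of_etale s'.left r
      have e2 := Groth.Agent.H53.isReduced_stalk_iff_of_etale t'.left r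
      rw [hr1] at e1
      rw [hr2] at e2
      exact e1.symm.trans e2
    have hquotp := Groth.Agent.H53.isQuotientMap_ofPt_of_etale_surjective p hpe hps
    have hsat : AlgSp.Points.ofPt p ⁻¹' (AlgSp.Points.ofPt p ''
        {u : ↥U.left | ¬ _root_.IsReduced (U.left.presheaf.stalk u)}) =
        {u : ↥U.left | ¬ _root_.IsReduced (U.left.presheaf.stalk u)} := by
      ext u
      constructor
      · rintro ⟨u', hu', he⟩
        exact fun hu => hu' ((hsatN u' u he).2 hu)
      · intro hu
        exact ⟨u, hu, rfl⟩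
    have hN' : IsClosed (AlgSp.Points.ofPt p ''
        {u : ↥U.left | ¬ _root_.IsReduced (U.left.presheaf.stalk u)}) := by
      rw [← hquotp.isClosed_preimage, hsat]
      exact hNcl
    have hclm : IsClosedMap (AlgSp.Points.map s) :=
      hs1.2.2 (AlgSp.IsAlgSpace.yon_obj _) (𝟙 _) (𝟙 _) s sqV
    have hF' := hclm _ hN'
    have hC : IsClosed (AlgSp.Points.ofScheme (Over.mk (𝟙 (Spec (CommRingCat.of R)))) ⁻¹'
        (AlgSp.Points.map s '' (AlgSp.Points.ofPt p ''
          {u : ↥U.left | ¬ _root_.IsReduced (U.left.presheaf.stalk u)}))) :=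
      hF'.preimage (AlgSp.Points.continuous_ofPt _)
    have key : ∀ u, AlgSp.Points.map s (AlgSp.Points.ofPt p u) =
        AlgSp.Points.ofScheme (Over.mk (𝟙 (Spec (CommRingCat.of R)))) (h.left.base u) := by
      intro u
      rw [AlgSp.Points.map_ofPt, ← hh,
        ← AlgSp.Points.ofScheme_toScheme _ (AlgSp.Points.ofPt ((AlgSp.yon _).map h) u),
        AlgSp.Points.toScheme_ofPt]
    have h1 : h.left.base u₀ ∈ AlgSp.Points.ofScheme (Over.mk (𝟙 (Spec (CommRingCat.of R)))) ⁻¹'
        (AlgSp.Points.map s '' (AlgSp.Points.ofPt p ''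
          {u : ↥U.left | ¬ _root_.IsReduced (U.left.presheaf.stalk u)})) :=
      ⟨_, ⟨u₀, hu₀, rfl⟩, key u₀⟩
    have h2 := (IsLocalRing.specializes_closedPoint (R := R) (h.left.base u₀)).mem_closed hC h1
    obtain ⟨_, ⟨u', hu'N, rfl⟩, hu'⟩ := h2
    rw [key] at hu'
    have hu'c : h.left.base u' = IsLocalRing.closedPoint R :=
      (AlgSp.Points.schemeEquiv _).injective hu'
    exact hu'N (isReduced_stalk_of_specializes h.left hfib u' u' specializes_rfl hu'c)
  haveI : IsReduced U.left := isReduced_of_isReduced_stalk _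
  refine ⟨⟨U, p, hpe, hps, inferInstance⟩, ?_⟩
  intro Xη fst snd sqη
  have hQ : IsReduced
      (pullback h.left (Spec.map (CommRingCat.ofHom (algebraMap R (FractionRing R))))) :=
    isReduced_pullback_of_isLocalization (nonZeroDivisors R) h.left
  exact (chart (Spec.map (CommRingCat.ofHom (algebraMap R (FractionRing R)))) Xη fst snd sqη).2 hQ

end Groth.Agent.S10669
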