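import Groth.Statements.S10670
import Groth.Agent.Lib.Helper78.GeomConn4

set_option autoImplicit false
universe u
open CategoryTheory CategoryTheory.Limits AlgebraicGeometry
open AlgSp

namespace Groth.Agent.S10670

/-- For morphisms f : X ⟶ Y and g : Y' ⟶ Y between algebraic spaces over S, f' : X' ⟶ Y' the base change
of f along g, an algebraically closed field point k' of Y' and an algebraically closed field point k
of Y whose class in |Y| is the image of the class of k', the fibres X'_{k'} and X_k (pullbacks in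
fppf sheaves) have the same number of connected components of their spaces of points, counted in ℕ∞.
With g the identity this says the number of geometric connected components of the fibre over a point
of |Y| is well defined. -/
theorem result {S : Scheme.{u}} {X Y X' Y' : AlgSp.Space S} (f : X ⟶ Y) (g : Y' ⟶ Y) (gX : X' ⟶ X) (f' : X' ⟶ Y')
    (hsq : IsPullback gX.hom f'.hom f.hom g.hom)
    (k' : AlgSp.FieldPt Y'.obj) (hk' : k'.IsGeometric) (k : AlgSp.FieldPt Y.obj) (hk : k.IsGeometric)
    (hkk : AlgSp.Points.mk k = AlgSp.Points.map g.hom (AlgSp.Points.mk k'))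
    (Xk' : AlgSp.Sp S) (a' : Xk' ⟶ X'.obj) (b' : Xk' ⟶ (AlgSp.yon S).obj k'.pt) (h' : IsPullback a' b' f'.hom k'.toHom)
    (Xk : AlgSp.Sp S) (a : Xk ⟶ X.obj) (b : Xk ⟶ (AlgSp.yon S).obj k.pt) (h : IsPullback a b f.hom k.toHom) :
    ENat.card (_root_.ConnectedComponents (AlgSp.Points Xk')) = ENat.card (_root_.ConnectedComponents (AlgSp.Points Xk)) := by
  haveI : IsAlgClosed k.K := hk
  haveI : IsAlgClosed k'.K := hk'
  have hXk : AlgSp.IsAlgSpace Xk :=
    Groth.Agent.H52.isAlgSpace_of_isPullback h X.property Y.property (AlgSp.IsAlgSpace.yon_obj _)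
  have hXk' : AlgSp.IsAlgSpace Xk' :=
    Groth.Agent.H52.isAlgSpace_of_isPullback h' X'.property Y'.property
      (AlgSp.IsAlgSpace.yon_obj _)
  -- a common field extension
  have hrel : AlgSp.FieldPt.Rel k (k'.map g.hom) := by
    rw [← AlgSp.Points.mk_eq_mk_iff, hkk, AlgSp.Points.map_mk]
  obtain ⟨Ω, _, w, α, β0, hαβ0⟩ := (Groth.Agent.Lib.Helper54.rel_iff_toHom _ _).1 hrel
  rw [Groth.Agent.Lib.Helper78.toHom_map] at hαβ0
  obtain ⟨β, hβ⟩ : ∃ β : Over.mk w ⟶ k'.pt, β = β0 := ⟨β0, rfl⟩
  have hαβ : (AlgSp.yon S).map α ≫ k.toHom = (AlgSp.yon S).map β ≫ (k'.toHom ≫ g.hom) := by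
    rw [hβ]; exact hαβ0
  -- the fibre over the common extension
  have bigsq := IsPullback.of_hasPullback f.hom ((AlgSp.yon S).map α ≫ k.toHom)
  have h'' : IsPullback (a' ≫ gX.hom) b' f.hom (k'.toHom ≫ g.hom) := h'.paste_horiz hsq
  have bigsq' : IsPullback (pullback.fst f.hom ((AlgSp.yon S).map α ≫ k.toHom))
      (pullback.snd f.hom ((AlgSp.yon S).map α ≫ k.toHom)) f.hom
      ((AlgSp.yon S).map β ≫ (k'.toHom ≫ g.hom)) := by
    rw [← hαβ]
    exact bigsq
  have sq1 := IsPullback.of_right' bigsq h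
  have sq2 := IsPullback.of_right' bigsq' h''
  have hb1 := Groth.Agent.Lib.Helper78.bijective_connectedComponentsMap_of_isPullback_field
    k.K k.str Ω w α hXk b _ _ sq1
  have hb2 := Groth.Agent.Lib.Helper78.bijective_connectedComponentsMap_of_isPullback_field
    k'.K k'.str Ω w β hXk' b' _ _ sq2
  exact (ENat.card_congr (Equiv.ofBijective _ hb2)).symm.trans
    (ENat.card_congr (Equiv.ofBijective _ hb1))

end Groth.Agent.S10670
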