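import Groth.Statements.S10676
import Groth.Agent.Lib.Helper54.SplitFiniteMulti

set_option autoImplicit false
universe u
open CategoryTheory CategoryTheory.Limits AlgebraicGeometry
open AlgSp

namespace Groth.Agent.S10676

/-- For a separated morphism f : X ⟶ Y of algebraic spaces over S which is locally of finite type, a
point y of |Y| and a finite set xs of points of |X| mapping to y at each of which f is quasi-finite
(some etale chart diagram through the point has top arrow locally quasi-finite and locally of finite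
type on an open neighbourhood), assuming moreover that f is quasi-compact or Y is decent: there are
an etale morphism of algebraic spaces a : U ⟶ Y and a point u of |U| over y such that for the base
change P = U ×_Y X there is an open and closed subspace V ⊂ P, finite over U, such that every point
of |V| over u maps into xs and no point of |P| outside |V| lying over u maps into xs. -/
theorem result {S : Scheme.{u}} {X Y : AlgSp.Space S} (f : X ⟶ Y) (y : AlgSp.Points Y.obj)
    (xs : Finset (AlgSp.Points X.obj)) (hxs : ∀ x ∈ xs, AlgSp.Points.map f.hom x = y)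
    (hf1 : AlgSp.LocP @LocallyOfFiniteType f.hom) (hf2 : AlgSp.IsSeparatedMor f.hom)
    (hf3 : ∀ x ∈ xs, AlgSp.HasAtMor (fun U _ h u => ∃ W : U.Opens, u ∈ W ∧ LocallyQuasiFinite (W.ι ≫ h) ∧ LocallyOfFiniteType (W.ι ≫ h)) f.hom x)
    (hf4 : AlgSp.IsQuasiCompactMor f.hom ∨ AlgSp.IsDecent Y.obj) :
    ∃ (U : AlgSp.Space S) (a : U ⟶ Y) (u : AlgSp.Points U.obj), AlgSp.IsEtaleMor a.hom ∧ AlgSp.Points.map a.hom u = y ∧
      ∀ (P : AlgSp.Space S) (prX : P ⟶ X) (prU : P ⟶ U), IsPullback prX.hom prU.hom f.hom a.hom →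
        ∃ (V : AlgSp.Space S) (jV : V ⟶ P), AlgSp.RepWith @IsOpenImmersion jV.hom ∧ AlgSp.RepWith @IsClosedImmersion jV.hom ∧
          AlgSp.IsFiniteMor (jV ≫ prU).hom ∧
          (∀ v : AlgSp.Points V.obj, AlgSp.Points.map (jV ≫ prU).hom v = u → AlgSp.Points.map (jV ≫ prX).hom v ∈ xs) ∧
          ∀ w : AlgSp.Points P.obj, w ∉ Set.range (AlgSp.Points.map jV.hom) → AlgSp.Points.map prU.hom w = u →
            AlgSp.Points.map prX.hom w ∉ xs := by
  classical
  have hfin : ∀ (U₀ : Over S) (a₀ : (yon S).obj U₀ ⟶ Y.obj) (u₀ : ↥U₀.left), RepWith @Etale a₀ →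
      Points.ofPt a₀ u₀ = y → ∀ (P : Sp S) (prX : P ⟶ X.obj) (prU : P ⟶ (yon S).obj U₀),
        IsPullback prX prU f.hom a₀ →
          {w : Points P | Points.map prX w ∈ (xs : Set (Points X.obj)) ∧
            Points.map prU w = Points.ofScheme U₀ u₀}.Finite := by
    intro U₀ a₀ u₀ ha₀ hu₀ P prX prU sq
    have hP : IsAlgSpace P :=
      Groth.Agent.H52.isAlgSpace_of_isPullback sq X.property Y.property (IsAlgSpace.yon_obj U₀)
    have hEq : {w : Points P | Points.map prX w ∈ (xs : Set (Points X.obj)) ∧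
        Points.map prU w = Points.ofScheme U₀ u₀} =
          ⋃ x ∈ xs, {w : Points P | Points.map prX w = x ∧ Points.map prU w = Points.ofScheme U₀ u₀} := by
      ext w
      simp only [Set.mem_ofPred_eq, Finset.mem_coe, Set.mem_iUnion, exists_prop]
      constructor
      · rintro ⟨h1, h2⟩
        exact ⟨_, h1, rfl, h2⟩
      · rintro ⟨x, hx, rfl, h2⟩
        exact ⟨hx, h2⟩
    rw [hEq]
    refine Set.Finite.biUnion xs.finite_toSet (fun x hx => ?_)
    rcases hf4 with hqc | hdec
    · exact Groth.Agent.Lib.Helper54.finite_fibre_pullback_of_finiteType_quasiFiniteAt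
        (Z := ⟨(yon S).obj U₀, IsAlgSpace.yon_obj U₀⟩) (W := ⟨P, hP⟩) f (ObjectProperty.homMk a₀)
        (ObjectProperty.homMk prX) (ObjectProperty.homMk prU) sq x (Points.ofScheme U₀ u₀) ⟨hf1, hqc⟩
        (hf3 x hx)
    · obtain ⟨r, hr, hm, -⟩ := hdec (Points.map f.hom x)
      have hxz : Points.map a₀ (Points.ofScheme U₀ u₀) = Points.map f.hom x := by
        rw [← Points.ofPt_eq_map_ofScheme, hu₀, hxs x hx]
      have := Groth.Agent.Lib.Helper54.finite_fibre_pullback_of_mono_point_of_quasiFiniteAt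
        (X := ⟨(yon S).obj U₀, IsAlgSpace.yon_obj U₀⟩) (Z := X) (W := ⟨P, hP⟩) (ObjectProperty.homMk a₀) f
        (ObjectProperty.homMk prU) (ObjectProperty.homMk prX) sq.flip (Points.ofScheme U₀ u₀) x hxz
        ⟨r, hr, hm⟩ (hf3 x hx)
      exact this.subset (fun w hw => ⟨hw.2, hw.1⟩)
  obtain ⟨T₁, a, t₁, haet, hpt, H⟩ :=
    Groth.Agent.Lib.Helper54.exists_etale_split_finite_multi X.property Y.property f.hom y
      (xs : Set (Points X.obj)) hf1 hf2 (fun x hx => hf3 x hx) hfin
  refine ⟨⟨(yon S).obj T₁, IsAlgSpace.yon_obj T₁⟩, ObjectProperty.homMk a,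
    Points.ofScheme T₁ t₁, haet, hpt, ?_⟩
  intro P prX prU sqP
  obtain ⟨V, jV, hV, hjo, hjc, hfinV, h1, h2⟩ := H P.obj prX.hom prU.hom sqP
  exact ⟨⟨V, hV⟩, ObjectProperty.homMk jV, hjo, hjc, hfinV, h1, h2⟩

end Groth.Agent.S10676
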