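import Groth.Statements.S10678
import Groth.Agent.H52.FibreDimSp

set_option autoImplicit false
universe u
open CategoryTheory CategoryTheory.Limits AlgebraicGeometry
open AlgSp

namespace Groth.Agent.S10678

/-- For a morphism f : X ⟶ Y of finite type between algebraic spaces over S, a point y of |Y| and any
field point k of Y in the class of y, with fibre X_k (pullback in fppf sheaves): the dimension of
X_k (supremum of the dimensions of its etale scheme charts) is -∞ exactly when y lies outside the
image of |X|, and for every natural number d it is at most d exactly when f has relative dimension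
at most d at every point of |X| over y (some etale chart diagram through the point whose top arrow
has local fibre dimension at most d there). -/
theorem result {S : Scheme.{u}} {X Y : AlgSp.Space S} (f : X ⟶ Y) (hf : AlgSp.IsFiniteTypeMor f.hom)
    (y : AlgSp.Points Y.obj) (k : AlgSp.FieldPt Y.obj) (hk : AlgSp.Points.mk k = y)
    (Xk : AlgSp.Sp S) (fst : Xk ⟶ X.obj) (snd : Xk ⟶ (AlgSp.yon S).obj k.pt) (h : IsPullback fst snd f.hom k.toHom) :
    (AlgSp.dim Xk = ⊥ ↔ y ∉ Set.range (AlgSp.Points.map f.hom)) ∧
      ∀ d : ℕ, (AlgSp.dim Xk ≤ d ↔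
        ∀ x : AlgSp.Points X.obj, AlgSp.Points.map f.hom x = y →
          AlgSp.HasAtMor (fun _ _ h u => FlatMor.fibreDimAt h u ≤ (d : WithBot ℕ∞)) f.hom x) := by
  have hX : IsAlgSpace X.obj := X.property
  have hY : IsAlgSpace Y.obj := Y.property
  have hXk : IsAlgSpace Xk := Groth.Agent.H52.isAlgSpace_of_isPullback h hX hY (IsAlgSpace.yon_obj k.pt)
  -- every point of the fibre lies over `y`
  have hover : ∀ ξ : Points Xk, Points.map f.hom (Points.map fst ξ) = y := by
    intro ξ
    rw [← Points.map_comp, h.w, Points.map_comp, ← hk,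
      Groth.Agent.H52.points_mk_eq_map_tautPt k]
    congr 1
    exact Subsingleton.elim _ _
  -- every point over `y` lifts to the fibre
  have hlift : ∀ x : Points X.obj, Points.map f.hom x = y → ∃ ξ : Points Xk, Points.map fst ξ = x := by
    intro x hx
    obtain ⟨ξ, hξ, -⟩ := Groth.Agent.H52.exists_point_of_isPullback h x
      (Groth.Agent.H52.tautPt k.str) (by
        rw [hx, ← hk, Groth.Agent.H52.points_mk_eq_map_tautPt k]; rfl)
    exact ⟨ξ, hξ⟩
  refine ⟨?_, ?_⟩
  · constructor
    · rintro hbot ⟨x, hx⟩
      obtain ⟨ξ, hξ⟩ := hlift x hx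
      obtain ⟨W, c, w, hc, hw⟩ := Groth.Agent.H52.exists_chart_through_point hXk ξ
      have h1 := Groth.Agent.H52.topologicalKrullDim_le_dim c hc
      rw [hbot, le_bot_iff] at h1
      have : Nonempty ↥W.left := ⟨w⟩
      exact Groth.Agent.H52.topologicalKrullDim_ne_bot_of_nonempty h1
    · intro hy
      unfold AlgSp.dim
      simp only [iSup_eq_bot]
      intro W c hc
      by_contra hne
      have hne' : Nonempty ↥W.left := by
        by_contra hemp
        rw [not_nonempty_iff] at hemp
        exact hne Groth.Agent.H52.topologicalKrullDim_eq_bot_of_isEmpty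
      obtain ⟨w⟩ := hne'
      exact hy ⟨Points.map fst (Points.ofPt c w), hover _⟩
  · intro d
    constructor
    · intro hdim x hx
      obtain ⟨ξ, hξ⟩ := hlift x hx
      obtain ⟨W, c, w, hc, hw⟩ := Groth.Agent.H52.exists_chart_through_point hXk ξ
      obtain ⟨U, V, a, b, hh, u, ha, hb, comm, hu⟩ :=
        Groth.Agent.H52.exists_diagram_through_point hX hY f.hom x
      refine ⟨U, V, a, b, hh, u, ha, hb, comm, hu, ?_⟩
      have e := Groth.Agent.H52.fibreDimAt_eq_localDim_fibre hX hY f.hom hf.1 k h ξ c hc w hw
        a b hh ha hb comm u (hu.trans hξ.symm)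
      show FlatMor.fibreDimAt hh.left u ≤ (d : WithBot ℕ∞)
      rw [e]
      exact (Groth.Agent.H52.localDim_le_topologicalKrullDim _ w).trans
        ((Groth.Agent.H52.topologicalKrullDim_le_dim c hc).trans hdim)
    · intro H
      unfold AlgSp.dim
      refine iSup_le fun W => iSup_le fun c => iSup_le fun hc => ?_
      rw [Groth.Agent.Lib.Helper55.topologicalKrullDim_eq_iSup_localDim]
      refine iSup_le fun w => ?_
      obtain ⟨U, V, a, b, hh, u, ha, hb, comm, hu, hQ⟩ :=
        H (Points.map fst (Points.ofPt c w)) (hover _)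
      have e := Groth.Agent.H52.fibreDimAt_eq_localDim_fibre hX hY f.hom hf.1 k h
        (Points.ofPt c w) c hc w rfl a b hh ha hb comm u hu
      rw [← e]
      exact hQ

end Groth.Agent.S10678
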