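import Groth.Statements.S10680
import Groth.Agent.S10308
import Groth.Agent.H52.FibreDimSp
import Groth.Agent.H52.ThickFlat
import Groth.Agent.H52.DimLocal2
import Groth.Agent.H52.DimSp
import Groth.Agent.Lib.Helper55.GroupLocalDim
import Groth.Agent.H53.Proper
import Groth.Agent.H53.FibreHomeo

set_option autoImplicit false
universe u
open CategoryTheory CategoryTheory.Limits AlgebraicGeometry
open AlgSp

namespace Groth.Agent.S10680

theorem lt_succ_iff' (x : WithBot ℕ∞) (m : ℕ) :
    x < (((m + 1 : ℕ) : ℕ∞) : WithBot ℕ∞) ↔ x ≤ ((m : ℕ) : WithBot ℕ∞) := by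
  induction x using WithBot.recBotCoe with
  | bot => simp
  | coe a =>
    induction a using ENat.recTopCoe with
    | top =>
      constructor
      · intro h
        exact absurd (WithBot.coe_lt_coe.1 h) (by simp)
      · intro h
        have : ((⊤ : ℕ∞) : WithBot ℕ∞) ≤ ((m : ℕ∞) : WithBot ℕ∞) := h
        exact absurd (WithBot.coe_le_coe.1 this) (by simp)
    | coe k =>
      have h1 : (((k : ℕ∞) : WithBot ℕ∞) < (((m + 1 : ℕ) : ℕ∞) : WithBot ℕ∞)) ↔ k < m + 1 := by
        rw [WithBot.coe_lt_coe]; exact Nat.cast_lt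
      have h2 : (((k : ℕ∞) : WithBot ℕ∞) ≤ ((m : ℕ) : WithBot ℕ∞)) ↔ k ≤ m := by
        change ((k : ℕ∞) : WithBot ℕ∞) ≤ ((m : ℕ∞) : WithBot ℕ∞) ↔ _
        rw [WithBot.coe_le_coe]; exact Nat.cast_le
      rw [h1, h2]; omega

theorem lt_zero_iff' (x : WithBot ℕ∞) : x < (((0 : ℕ) : ℕ∞) : WithBot ℕ∞) ↔ x = ⊥ := by
  induction x using WithBot.recBotCoe with
  | bot => simp
  | coe a =>
    constructor
    · intro h
      exact absurd (WithBot.coe_lt_coe.1 h) (by simp)
    · intro h
      exact absurd h (by simp)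

theorem lt_top_iff' (x : WithBot ℕ∞) :
    x < ((⊤ : ℕ∞) : WithBot ℕ∞) ↔ ∃ n : ℕ, x ≤ ((n : ℕ) : WithBot ℕ∞) := by
  induction x using WithBot.recBotCoe with
  | bot => simp
  | coe a =>
    induction a using ENat.recTopCoe with
    | top =>
      constructor
      · intro h; exact absurd h (lt_irrefl _)
      · rintro ⟨n, h⟩
        have : ((⊤ : ℕ∞) : WithBot ℕ∞) ≤ ((n : ℕ∞) : WithBot ℕ∞) := h
        exact absurd (WithBot.coe_le_coe.1 this) (by simp)
    | coe k =>
      constructor
      · intro _; exact ⟨k, le_rfl⟩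
      · intro _
        rw [WithBot.coe_lt_coe]; exact ENat.coe_lt_top k

section fibredim
open Groth.Agent.H52

variable {S : Scheme.{u}}

/-- The dimension of a fibre is at most `n` iff the relative dimension is at most `n` at all
points over the given point. -/
theorem dim_fibre_le_iff {X Y : AlgSp.Sp S} (hX : AlgSp.IsAlgSpace X) (hY : AlgSp.IsAlgSpace Y)
    (f : X ⟶ Y) (hf : AlgSp.LocP @LocallyOfFiniteType f) (k : AlgSp.FieldPt Y) {Xk : AlgSp.Sp S}
    {fst : Xk ⟶ X} {snd : Xk ⟶ (AlgSp.yon S).obj k.pt} (sq : IsPullback fst snd f k.toHom) (n : ℕ) :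
    AlgSp.dim Xk ≤ ((n : ℕ) : WithBot ℕ∞) ↔ ∀ x : AlgSp.Points X,
      AlgSp.Points.map f x = AlgSp.Points.mk k →
        AlgSp.HasAtMor (fun _ _ h u => FlatMor.fibreDimAt h u ≤ ((n : ℕ) : WithBot ℕ∞)) f x := by
  have hXk : AlgSp.IsAlgSpace Xk :=
    isAlgSpace_of_isPullback sq hX hY (AlgSp.IsAlgSpace.yon_obj _)
  constructor
  · intro hd x hx
    obtain ⟨ξ, hξ1, -⟩ := exists_point_of_isPullback sq x
      (AlgSp.Points.ofScheme k.pt (IsLocalRing.closedPoint k.K)) (by
        rw [hx, ← AlgSp.Points.ofPt_eq_map_ofScheme, AlgSp.Points.ofPt_toHom])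
    obtain ⟨V, b, v, hb, hv⟩ := exists_chart_through_point hY (AlgSp.Points.map f x)
    obtain ⟨U, a, h, u, ha, comm, hu, -⟩ := exists_chart_over_through_point hX hY f b hb x v hv
    obtain ⟨W, c, w, hc, hw⟩ := exists_chart_through_point hXk ξ
    have key := fibreDimAt_eq_localDim_fibre hX hY f hf k sq ξ c hc w hw a b h ha hb comm u
      (hu.trans hξ1.symm)
    refine ⟨U, V, a, b, h, u, ha, hb, comm, hu, ?_⟩
    change FlatMor.fibreDimAt h.left u ≤ _
    rw [key]
    exact (localDim_le_topologicalKrullDim _ w).trans ((topologicalKrullDim_le_dim c hc).trans hd)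
  · intro H
    unfold AlgSp.dim
    refine iSup_le fun W => iSup_le fun c => iSup_le fun hc => ?_
    rw [Groth.Agent.Lib.Helper55.topologicalKrullDim_eq_iSup_localDim]
    refine iSup_le fun w => ?_
    have hx : AlgSp.Points.map f (AlgSp.Points.map fst (AlgSp.Points.ofPt c w)) =
        AlgSp.Points.mk k := by
      rw [← AlgSp.Points.map_comp, sq.w, AlgSp.Points.map_comp,
        Groth.Agent.H53.FibrePts.points_map_toHom_eq]
    obtain ⟨U, V, a, b, h, u, ha, hb, comm, hu, hle⟩ := H _ hx
    have key := fibreDimAt_eq_localDim_fibre hX hY f hf k sq (AlgSp.Points.ofPt c w) c hc w rfl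
      a b h ha hb comm u hu
    rw [← key]
    exact hle

/-- The fibre is empty (dimension `⊥`) iff no point lies over the given point. -/
theorem dim_fibre_eq_bot_iff {X Y : AlgSp.Sp S} (hX : AlgSp.IsAlgSpace X) (hY : AlgSp.IsAlgSpace Y)
    (f : X ⟶ Y) (k : AlgSp.FieldPt Y) {Xk : AlgSp.Sp S}
    {fst : Xk ⟶ X} {snd : Xk ⟶ (AlgSp.yon S).obj k.pt} (sq : IsPullback fst snd f k.toHom) :
    AlgSp.dim Xk = ⊥ ↔ ∀ x : AlgSp.Points X, AlgSp.Points.map f x ≠ AlgSp.Points.mk k := by
  have hXk : AlgSp.IsAlgSpace Xk :=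
    isAlgSpace_of_isPullback sq hX hY (AlgSp.IsAlgSpace.yon_obj _)
  constructor
  · intro hd x hx
    obtain ⟨ξ, hξ1, -⟩ := exists_point_of_isPullback sq x
      (AlgSp.Points.ofScheme k.pt (IsLocalRing.closedPoint k.K)) (by
        rw [hx, ← AlgSp.Points.ofPt_eq_map_ofScheme, AlgSp.Points.ofPt_toHom])
    obtain ⟨W, c, w, hc, hw⟩ := exists_chart_through_point hXk ξ
    have h1 := topologicalKrullDim_le_dim c hc
    rw [hd, le_bot_iff] at h1
    haveI : Nonempty ↥W.left := ⟨w⟩
    exact topologicalKrullDim_ne_bot_of_nonempty h1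
  · intro H
    unfold AlgSp.dim
    rw [eq_bot_iff]
    refine iSup_le fun W => iSup_le fun c => iSup_le fun hc => ?_
    have : IsEmpty ↥W.left := by
      constructor
      intro w
      refine H (AlgSp.Points.map fst (AlgSp.Points.ofPt c w)) ?_
      rw [← AlgSp.Points.map_comp, sq.w, AlgSp.Points.map_comp,
        Groth.Agent.H53.FibrePts.points_map_toHom_eq]
    rw [topologicalKrullDim_eq_bot_of_isEmpty]

end fibredim

/-- For a proper morphism f : X ⟶ Y between algebraic spaces over S the fibre dimension function on |Y|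
is upper semi-continuous: for every d the set of y such that every fibre X_k over y (k a field point
in the class of y, X_k any pullback in fppf sheaves) has dimension less than d is open. -/
theorem result {S : Scheme.{u}} {X Y : AlgSp.Space S} (f : X ⟶ Y) (hf : AlgSp.IsProperMor f.hom) (d : WithBot ℕ∞) :
    IsOpen {y : AlgSp.Points Y.obj | ∀ (k : AlgSp.FieldPt Y.obj), AlgSp.Points.mk k = y →
      ∀ (Xk : AlgSp.Sp S) (fst : Xk ⟶ X.obj) (snd : Xk ⟶ (AlgSp.yon S).obj k.pt),
        IsPullback fst snd f.hom k.toHom → AlgSp.dim Xk < d} := by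
  have hlft : AlgSp.LocP @LocallyOfFiniteType f.hom := hf.2.1.1
  have hclosed : IsClosedMap (AlgSp.Points.map f.hom) :=
    Groth.Agent.H53.univSp_self _ Y.property hf.2.2
  -- the sets `T n`
  have hT : ∀ n : ℕ, IsOpen {y : AlgSp.Points Y.obj | ∀ x : AlgSp.Points X.obj,
      AlgSp.Points.map f.hom x = y →
        AlgSp.HasAtMor (fun _ _ h u => FlatMor.fibreDimAt h u ≤ ((n : ℕ) : WithBot ℕ∞)) f.hom x} := by
    intro n
    have hopen := Groth.Agent.S10308.result f hlft n
    have hcl := hclosed _ hopen.isClosed_compl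
    convert hcl.isOpen_compl using 1
    ext y
    simp only [Set.mem_setOf_eq, Set.mem_compl_iff, Set.mem_image, not_exists, not_and]
    constructor
    · intro H x hx hxy
      exact hx (H x hxy)
    · intro H x hxy
      by_contra hx
      exact H x hx hxy
  have hmk : ∀ y : AlgSp.Points Y.obj, ∃ k : AlgSp.FieldPt Y.obj, AlgSp.Points.mk k = y :=
    AlgSp.Points.mk_surjective
  induction d using WithBot.recBotCoe with
  | bot =>
    convert isOpen_empty using 1
    ext y
    simp only [Set.mem_setOf_eq, Set.mem_empty_iff_false, iff_false, not_forall]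
    obtain ⟨k, hk⟩ := hmk y
    exact ⟨k, hk, _, _, _, IsPullback.of_hasPullback f.hom k.toHom, not_lt_bot⟩
  | coe e =>
    induction e using ENat.recTopCoe with
    | top =>
      have : {y : AlgSp.Points Y.obj | ∀ (k : AlgSp.FieldPt Y.obj), AlgSp.Points.mk k = y →
          ∀ (Xk : AlgSp.Sp S) (fst : Xk ⟶ X.obj) (snd : Xk ⟶ (AlgSp.yon S).obj k.pt),
            IsPullback fst snd f.hom k.toHom → AlgSp.dim Xk < ((⊤ : ℕ∞) : WithBot ℕ∞)} =
          ⋃ n : ℕ, {y : AlgSp.Points Y.obj | ∀ x : AlgSp.Points X.obj,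
            AlgSp.Points.map f.hom x = y →
            AlgSp.HasAtMor (fun _ _ h u => FlatMor.fibreDimAt h u ≤ ((n : ℕ) : WithBot ℕ∞))
              f.hom x} := by
        ext y
        simp only [Set.mem_setOf_eq, Set.mem_iUnion]
        constructor
        · intro H
          obtain ⟨k, hk⟩ := hmk y
          have sq := IsPullback.of_hasPullback f.hom k.toHom
          obtain ⟨n, hn⟩ := (lt_top_iff' _).1 (H k hk _ _ _ sq)
          refine ⟨n, fun x hx => ?_⟩
          exact (dim_fibre_le_iff X.property Y.property f.hom hlft k sq n).1 hn x (hx.trans hk.symm)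
        · rintro ⟨n, H⟩ k hk Xk fst snd sq
          refine (lt_top_iff' _).2 ⟨n, ?_⟩
          exact (dim_fibre_le_iff X.property Y.property f.hom hlft k sq n).2
            (fun x hx => H x (hx.trans hk))
      rw [this]
      exact isOpen_iUnion hT
    | coe n =>
      cases n with
      | zero =>
        have : {y : AlgSp.Points Y.obj | ∀ (k : AlgSp.FieldPt Y.obj), AlgSp.Points.mk k = y →
            ∀ (Xk : AlgSp.Sp S) (fst : Xk ⟶ X.obj) (snd : Xk ⟶ (AlgSp.yon S).obj k.pt),
              IsPullback fst snd f.hom k.toHom → AlgSp.dim Xk < (((0 : ℕ) : ℕ∞) : WithBot ℕ∞)} =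
            (Set.range (AlgSp.Points.map f.hom))ᶜ := by
          ext y
          simp only [Set.mem_setOf_eq, Set.mem_compl_iff, Set.mem_range, not_exists]
          constructor
          · intro H x hx
            obtain ⟨k, hk⟩ := hmk y
            have sq := IsPullback.of_hasPullback f.hom k.toHom
            have h0 := (lt_zero_iff' _).1 (H k hk _ _ _ sq)
            exact (dim_fibre_eq_bot_iff X.property Y.property f.hom k sq).1 h0 x (hx.trans hk.symm)
          · intro H k hk Xk fst snd sq
            refine (lt_zero_iff' _).2 ?_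
            exact (dim_fibre_eq_bot_iff X.property Y.property f.hom k sq).2
              (fun x hx => H x (hx.trans hk))
        rw [this]
        exact (hclosed.isClosed_range).isOpen_compl
      | succ m =>
        have : {y : AlgSp.Points Y.obj | ∀ (k : AlgSp.FieldPt Y.obj), AlgSp.Points.mk k = y →
            ∀ (Xk : AlgSp.Sp S) (fst : Xk ⟶ X.obj) (snd : Xk ⟶ (AlgSp.yon S).obj k.pt),
              IsPullback fst snd f.hom k.toHom →
                AlgSp.dim Xk < (((m + 1 : ℕ) : ℕ∞) : WithBot ℕ∞)} =
            {y : AlgSp.Points Y.obj | ∀ x : AlgSp.Points X.obj,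
              AlgSp.Points.map f.hom x = y →
              AlgSp.HasAtMor (fun _ _ h u => FlatMor.fibreDimAt h u ≤ ((m : ℕ) : WithBot ℕ∞))
                f.hom x} := by
          ext y
          simp only [Set.mem_setOf_eq]
          constructor
          · intro H x hx
            obtain ⟨k, hk⟩ := hmk y
            have sq := IsPullback.of_hasPullback f.hom k.toHom
            have h0 := (lt_succ_iff' _ m).1 (H k hk _ _ _ sq)
            exact (dim_fibre_le_iff X.property Y.property f.hom hlft k sq m).1 h0 x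
              (hx.trans hk.symm)
          · intro H k hk Xk fst snd sq
            refine (lt_succ_iff' _ m).2 ?_
            exact (dim_fibre_le_iff X.property Y.property f.hom hlft k sq m).2
              (fun x hx => H x (hx.trans hk))
        rw [this]
        exact hT m

end Groth.Agent.S10680
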