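import Groth.Statements.S10679
import Groth.Agent.S10680
import Groth.Agent.Lib.Helper23.FlatFibreDim
import Groth.Agent.H52.TwoCharts
import Groth.Agent.H52.ThickFlat
import Groth.Agent.H52.LocPCalc5
import Groth.Agent.H53.SpTop
import Groth.Agent.H53.FibreHomeo

set_option autoImplicit false
universe u
open CategoryTheory CategoryTheory.Limits AlgebraicGeometry
open AlgSp

namespace Groth.Agent.S10679

section helpers

variable {S : Scheme.{u}}

/-- An affine chart of the source through a given point, lying over a given chart of the target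
through the image point. -/
theorem exists_affine_chart_over_through_point {X Y : AlgSp.Sp S} (hX : AlgSp.IsAlgSpace X)
    (hY : AlgSp.IsAlgSpace Y) (f : X ⟶ Y) {V : Over S} (b : (AlgSp.yon S).obj V ⟶ Y)
    (hb : AlgSp.RepWith @Etale b) (x : AlgSp.Points X) (v : ↥V.left)
    (hv : AlgSp.Points.ofPt b v = AlgSp.Points.map f x) :
    ∃ (U : Over S) (a : (AlgSp.yon S).obj U ⟶ X) (k : U ⟶ V) (u : ↥U.left), IsAffine U.left ∧
      AlgSp.RepWith @Etale a ∧ a ≫ f = (AlgSp.yon S).map k ≫ b ∧ AlgSp.Points.ofPt a u = x ∧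
        k.left u = v := by
  haveI : (AlgSp.RepWith (S := S) @Etale).IsMultiplicative := AlgSp.repWith_isMultiplicative _
  obtain ⟨U, a, k, u, ha, comm, hu, hk⟩ :=
    Groth.Agent.H52.exists_chart_over_through_point hX hY f b hb x v hv
  obtain ⟨W, hW, huW, -⟩ := exists_isAffineOpen_mem_and_subset (x := u) (U := ⊤) trivial
  let ι₀ : Over.mk (W.ι ≫ U.hom) ⟶ U := Over.homMk W.ι rfl
  have hι : AlgSp.RepWith @Etale ((AlgSp.yon S).map ι₀) :=
    (AlgSp.repWith_yon_map_iff _ _).2 (inferInstance : Etale W.ι)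
  refine ⟨Over.mk (W.ι ≫ U.hom), (AlgSp.yon S).map ι₀ ≫ a, ι₀ ≫ k, ⟨u, huW⟩, hW,
    (AlgSp.RepWith (S := S) @Etale).comp_mem _ _ hι ha, ?_, ?_, ?_⟩
  · rw [Category.assoc, comm, Functor.map_comp, Category.assoc]
  · rw [Groth.Agent.H52.ofPt_yon_map_comp]
    exact hu
  · exact hk

/-- Key step: for a flat morphism locally of finite presentation the image of the locus where the
relative dimension exceeds `c` is open. -/
theorem isOpen_image_relDim_gt {X Y : AlgSp.Space S} (f : X ⟶ Y)
    (hf1 : AlgSp.LocP @Flat f.hom) (hf2 : AlgSp.LocP @LocallyOfFinitePresentation f.hom)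
    (c : WithBot ℕ∞) :
    IsOpen (AlgSp.Points.map f.hom '' {x : AlgSp.Points X.obj |
      ¬ AlgSp.HasAtMor (fun _ _ h u => FlatMor.fibreDimAt h u ≤ c) f.hom x}) := by
  have hXa : AlgSp.IsAlgSpace X.obj := X.property
  have hYa : AlgSp.IsAlgSpace Y.obj := Y.property
  rw [isOpen_iff_forall_mem_open]
  rintro y₀ ⟨x₀, hx₀, rfl⟩
  obtain ⟨V, b, v₀, hV, hb, hv₀⟩ :=
    Groth.Agent.H53.FibrePts.exists_affine_chart hYa (AlgSp.Points.map f.hom x₀)
  obtain ⟨U, a, k, u₀, hU, ha, comm, hu₀, hk₀⟩ :=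
    exists_affine_chart_over_through_point hXa hYa f.hom b hb x₀ v₀ hv₀
  haveI : IsAffine V.left := hV
  haveI : IsAffine U.left := hU
  haveI : Flat k.left := hf1 a b k ha hb comm
  haveI : LocallyOfFinitePresentation k.left := hf2 a b k ha hb comm
  haveI : QuasiCompact k.left := inferInstance
  have hO : IsOpen (k.left '' {u : ↥U.left | c < FlatMor.fibreDimAt k.left u}) := by
    rw [Groth.Agent.Lib.Helper23.FlatFibreDim.image_lt_fibreDimAt_eq]
    exact Groth.Agent.Lib.Helper23.FlatFibreDim.isOpen_lt_fibre_dim k.left c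
  refine ⟨AlgSp.Points.ofPt b '' (k.left '' {u : ↥U.left | c < FlatMor.fibreDimAt k.left u}),
    ?_, Groth.Agent.H53.isOpenMap_ofPt_of_etale b hb _ hO, ?_⟩
  · rintro _ ⟨_, ⟨u, hu, rfl⟩, rfl⟩
    refine ⟨AlgSp.Points.ofPt a u, ?_, ?_⟩
    · rintro ⟨U1, V1, a1, b1, h1, u1, ha1, hb1, comm1, hu1, hQ⟩
      have key := Groth.Agent.H52.IsEtaleSquareInvariant.eq_of_two_charts
        Groth.Agent.H52.isEtaleSquareInvariant_fibreDimAt f.hom a b k ha hb comm
        a1 b1 h1 ha1 hb1 comm1 u u1 hu1.symm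
      have key' : FlatMor.fibreDimAt k.left u = FlatMor.fibreDimAt h1.left u1 := key
      have hu' : c < FlatMor.fibreDimAt k.left u := hu
      rw [key'] at hu'
      exact absurd hQ (not_le.2 hu')
    · rw [AlgSp.Points.map_ofPt, comm, Groth.Agent.H52.ofPt_yon_map_comp]
  · refine ⟨v₀, ⟨u₀, ?_, hk₀⟩, hv₀⟩
    by_contra hle
    exact hx₀ ⟨U, V, a, b, k, u₀, ha, hb, comm, hu₀, not_lt.1 hle⟩

end helpers

/-- For a flat morphism f : X ⟶ Y of algebraic spaces over S which is of finite presentation, the fibre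
dimension function on |Y|, y ↦ dimension of X_k for a field point k in the class of y, is lower
semi-continuous: for every d the set of y such that every fibre X_k over y (k a field point in the
class of y, X_k any pullback in fppf sheaves) has dimension greater than d is open. -/
theorem result {S : Scheme.{u}} {X Y : AlgSp.Space S} (f : X ⟶ Y)
    (hf1 : AlgSp.LocP @Flat f.hom) (hf2 : AlgSp.IsFinitePresentationMor f.hom) (d : WithBot ℕ∞) :
    IsOpen {y : AlgSp.Points Y.obj | ∀ (k : AlgSp.FieldPt Y.obj), AlgSp.Points.mk k = y →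
      ∀ (Xk : AlgSp.Sp S) (fst : Xk ⟶ X.obj) (snd : Xk ⟶ (AlgSp.yon S).obj k.pt),
        IsPullback fst snd f.hom k.toHom → d < AlgSp.dim Xk} := by
  have hXa : AlgSp.IsAlgSpace X.obj := X.property
  have hYa : AlgSp.IsAlgSpace Y.obj := Y.property
  have hlfp : AlgSp.LocP @LocallyOfFinitePresentation f.hom := hf2.1
  have hlft : AlgSp.LocP @LocallyOfFiniteType f.hom := fun _ _ a b k ha hb comm => by
    haveI : LocallyOfFinitePresentation k.left := hlfp a b k ha hb comm
    infer_instance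
  have hmk : ∀ y : AlgSp.Points Y.obj, ∃ k : AlgSp.FieldPt Y.obj, AlgSp.Points.mk k = y :=
    AlgSp.Points.mk_surjective
  have hmain := isOpen_image_relDim_gt f hf1 hlfp
  induction d using WithBot.recBotCoe with
  | bot =>
    convert hmain ⊥ using 1
    ext y
    simp only [Set.mem_setOf_eq, Set.mem_image]
    constructor
    · intro H
      obtain ⟨k, hk⟩ := hmk y
      have sq := IsPullback.of_hasPullback f.hom k.toHom
      have h0 : AlgSp.dim (pullback f.hom k.toHom) ≠ ⊥ := (bot_lt_iff_ne_bot.1 (H k hk _ _ _ sq))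
      have h1 := mt (Groth.Agent.S10680.dim_fibre_eq_bot_iff hXa hYa f.hom k sq).2 h0
      push_neg at h1
      obtain ⟨x, hx⟩ := h1
      refine ⟨x, ?_, hx.trans hk⟩
      rintro ⟨U1, V1, a1, b1, h1, u1, -, -, -, -, hQ⟩
      exact absurd (lt_of_lt_of_le (WithBot.bot_lt_coe (0 : ℕ∞))
        (Groth.Agent.Lib.Helper23.FlatFibreDim.fibreDimAt_nonneg h1.left u1)) (not_lt.2 hQ)
    · rintro ⟨x, -, hx⟩ k hk Xk fst snd sq
      rw [bot_lt_iff_ne_bot]
      intro h0
      exact (Groth.Agent.S10680.dim_fibre_eq_bot_iff hXa hYa f.hom k sq).1 h0 x (hx.trans hk.symm)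
  | coe e =>
    induction e using ENat.recTopCoe with
    | top =>
      convert isOpen_empty using 1
      ext y
      simp only [Set.mem_setOf_eq, Set.mem_empty_iff_false, iff_false, not_forall]
      obtain ⟨k, hk⟩ := hmk y
      refine ⟨k, hk, _, _, _, IsPullback.of_hasPullback f.hom k.toHom, ?_⟩
      exact not_lt.2 le_top
    | coe n =>
      convert hmain ((n : ℕ) : WithBot ℕ∞) using 1
      ext y
      simp only [Set.mem_setOf_eq, Set.mem_image]
      constructor
      · intro H
        obtain ⟨k, hk⟩ := hmk y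
        have sq := IsPullback.of_hasPullback f.hom k.toHom
        have h0 : ¬ AlgSp.dim (pullback f.hom k.toHom) ≤ ((n : ℕ) : WithBot ℕ∞) :=
          not_le.2 (H k hk _ _ _ sq)
        have h1 := mt (Groth.Agent.S10680.dim_fibre_le_iff hXa hYa f.hom hlft k sq n).2 h0
        push_neg at h1
        obtain ⟨x, hx, hxn⟩ := h1
        exact ⟨x, hxn, hx.trans hk⟩
      · rintro ⟨x, hxn, hx⟩ k hk Xk fst snd sq
        have : ¬ AlgSp.dim Xk ≤ ((n : ℕ) : WithBot ℕ∞) := fun hle =>
          hxn ((Groth.Agent.S10680.dim_fibre_le_iff hXa hYa f.hom hlft k sq n).1 hle x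
            (hx.trans hk.symm))
        exact not_le.1 this

end Groth.Agent.S10679
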