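import Groth.Statements.S10681
import Groth.Agent.Lib.Helper78.GeomFibreConn

set_option autoImplicit false
universe u
open CategoryTheory CategoryTheory.Limits AlgebraicGeometry
open AlgSp

namespace Groth.Agent.S10681

/-- For a morphism f : X ⟶ Y between algebraic spaces over S and a geometric point ȳ of Y (an
algebraically closed field point), the geometric fibre X_ȳ (pullback in fppf sheaves) has connected
space of points if and only if for every scheme V with a representable etale a : h_V ⟶ Y and every
point v of V through which ȳ factors, the fibre of X ×_Y V ⟶ V over v (pullback along the residue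
field point of v) has connected space of points. -/
theorem result {S : Scheme.{u}} {X Y : AlgSp.Space S} (f : X ⟶ Y) (yb : AlgSp.FieldPt Y.obj) (hyb : yb.IsGeometric)
    (Xyb : AlgSp.Sp S) (fst : Xyb ⟶ X.obj) (snd : Xyb ⟶ (AlgSp.yon S).obj yb.pt) (h : IsPullback fst snd f.hom yb.toHom) :
    ConnectedSpace (AlgSp.Points Xyb) ↔
      ∀ (V : Over S) (a : (AlgSp.yon S).obj V ⟶ Y.obj), AlgSp.RepWith @Etale a →
        ∀ (v : ↥V.left) (c : yb.pt ⟶ V), (AlgSp.yon S).map c ≫ a = yb.toHom → c.left (IsLocalRing.closedPoint yb.K) = v →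
          ∀ (Xv : AlgSp.Sp S) (fst' : Xv ⟶ X.obj)
            (snd' : Xv ⟶ (AlgSp.yon S).obj (Over.mk (V.left.fromSpecResidueField v ≫ V.hom))),
            IsPullback fst' snd' f.hom ((AlgSp.yon S).map (Over.homMk (V.left.fromSpecResidueField v) rfl :
              Over.mk (V.left.fromSpecResidueField v ≫ V.hom) ⟶ V) ≫ a) →
            ConnectedSpace (AlgSp.Points Xv) := by
  haveI : IsAlgClosed yb.K := hyb
  constructor
  · intro hconn V a ha v c hca hcv Xv fst' snd' sq'
    subst hcv
    obtain ⟨ψ, hψ⟩ : ∃ ψ : V.left.residueField (c.left (IsLocalRing.closedPoint yb.K)) ⟶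
        CommRingCat.of yb.K,
        Spec.map ψ ≫ V.left.fromSpecResidueField (c.left (IsLocalRing.closedPoint yb.K)) =
          c.left :=
      ⟨_, Scheme.descResidueField_stalkClosedPointTo_fromSpecResidueField yb.K V.left c.left⟩
    have hw : Spec.map ψ ≫
        (Over.mk (V.left.fromSpecResidueField (c.left (IsLocalRing.closedPoint yb.K)) ≫
          V.hom)).hom = yb.pt.hom := by
      change Spec.map ψ ≫
        V.left.fromSpecResidueField (c.left (IsLocalRing.closedPoint yb.K)) ≫ V.hom = yb.str
      rw [← Category.assoc, hψ]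
      exact Over.w c
    let tt : yb.pt ⟶ Over.mk (V.left.fromSpecResidueField
        (c.left (IsLocalRing.closedPoint yb.K)) ≫ V.hom) :=
      Over.homMk (Spec.map ψ) hw
    have htt : tt ≫ (Over.homMk (V.left.fromSpecResidueField
        (c.left (IsLocalRing.closedPoint yb.K))) rfl :
        Over.mk (V.left.fromSpecResidueField (c.left (IsLocalRing.closedPoint yb.K)) ≫ V.hom) ⟶
          V) = c := by
      apply Over.OverMorphism.ext
      change Spec.map ψ ≫ V.left.fromSpecResidueField (c.left (IsLocalRing.closedPoint yb.K)) =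
        c.left
      exact hψ
    haveI : Subsingleton ↥(Over.mk (V.left.fromSpecResidueField
        (c.left (IsLocalRing.closedPoint yb.K)) ≫ V.hom)).left :=
      inferInstanceAs (Subsingleton (PrimeSpectrum
        (V.left.residueField (c.left (IsLocalRing.closedPoint yb.K)))))
    haveI : Nonempty ↥yb.pt.left := ⟨IsLocalRing.closedPoint yb.K⟩
    exact Groth.Agent.Lib.Helper78.GalSp.connectedSpace_of_isPullback_comp f.hom _ yb.toHom tt
      (by rw [← Category.assoc, ← Functor.map_comp, htt, hca]) fst' snd' sq' fst snd h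
  · intro Hyp
    obtain ⟨U₀, p₀, hpe, hps⟩ := Y.property.atlas
    obtain ⟨u₀, hu₀⟩ := Groth.Agent.H52.surjective_points_of_repWith_surjective p₀ hps
      (AlgSp.Points.mk yb)
    have hp₀et : AlgSp.IsEtaleMor p₀ := fun W φ hφ => MorphismProperty.comp_mem _ _ _ hφ hpe
    obtain ⟨ubar, hubar, -⟩ := Groth.Agent.H53.exists_lift_geometric_point
      (AlgSp.IsAlgSpace.yon_obj _) Y.property p₀ hp₀et yb hyb u₀ hu₀
    obtain ⟨c₀, hc₀⟩ := (AlgSp.yon S).map_surjective ubar
    exact Groth.Agent.Lib.Helper78.GalSp.connectedSpace_geomFibre_of_nbhds X.property Y.property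
      f.hom yb Xyb fst snd h Hyp U₀ p₀ hpe c₀ (by rw [hc₀]; exact hubar)

end Groth.Agent.S10681
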