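import Groth.Statements.S10682
import Groth.Agent.Lib.Helper78.GeomRedFibreSp
import Groth.Agent.Lib.Helper12.GeomRedOpen
import Groth.Agent.H53.SpTop

set_option autoImplicit false
universe u
open CategoryTheory CategoryTheory.Limits AlgebraicGeometry
open AlgSp

namespace Groth.Agent.S10682

open Groth.Agent.Lib.Helper78.GeomRedFibreSp Groth.Agent.Lib.Helper12.GeomRedLocus

/-- For a flat proper morphism f : X ⟶ Y between algebraic spaces over S which is of finite
presentation, the set of points y of |Y| at which the fibre of f is geometrically reduced is open in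
|Y|; here the fibre of f at y being geometrically reduced means: for every field point k of Y in the
class of y and every field homomorphism k ⟶ k', the base change X_{k'} (pullback in fppf sheaves) is
reduced (some etale surjective scheme chart is reduced). -/
theorem result {S : Scheme.{u}} {X Y : AlgSp.Space S} (f : X ⟶ Y)
    (hf1 : AlgSp.LocP @Flat f.hom) (hf2 : AlgSp.IsProperMor f.hom) (hf3 : AlgSp.IsFinitePresentationMor f.hom) :
    IsOpen {y : AlgSp.Points Y.obj | ∀ (k : AlgSp.FieldPt Y.obj), AlgSp.Points.mk k = y →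
        ∀ (k' : Type u) [Field k'] (φ : k.K →+* k') (Xk' : AlgSp.Sp S) (a : Xk' ⟶ X.obj)
          (b : Xk' ⟶ (AlgSp.yon S).obj (Over.mk (Spec.map (CommRingCat.ofHom φ) ≫ k.str))),
          IsPullback a b f.hom ((AlgSp.yon S).map (Over.homMk (Spec.map (CommRingCat.ofHom φ)) rfl :
            Over.mk (Spec.map (CommRingCat.ofHom φ) ≫ k.str) ⟶ k.pt) ≫ k.toHom) →
          AlgSp.EtaleLocally (fun U => IsReduced U) Xk'} := by
  obtain ⟨V, b, hbe, hbs⟩ := Y.property.atlas
  have sqV := IsPullback.of_hasPullback f.hom b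
  have hXV : AlgSp.IsAlgSpace (pullback f.hom b) :=
    Groth.Agent.H52.isAlgSpace_of_isPullback sqV X.property Y.property (AlgSp.IsAlgSpace.yon_obj _)
  obtain ⟨U, p, hpe, hps⟩ := hXV.atlas
  obtain ⟨h, hh⟩ := (AlgSp.yon S).map_surjective (p ≫ pullback.snd f.hom b)
  have hcomm : (p ≫ pullback.fst f.hom b) ≫ f.hom = (AlgSp.yon S).map h ≫ b := by
    rw [Category.assoc, sqV.w, ← Category.assoc, hh]
  have hfste : AlgSp.RepWith @Etale (pullback.fst f.hom b) :=
    (AlgSp.RepWith @Etale).of_isPullback sqV.flip hbe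
  have hae : AlgSp.RepWith @Etale (p ≫ pullback.fst f.hom b) :=
    (AlgSp.RepWith @Etale).comp_mem _ _ hpe hfste
  haveI : Flat h.left := hf1 (p ≫ pullback.fst f.hom b) b h hae hbe hcomm
  haveI : LocallyOfFinitePresentation h.left := hf3.1 (p ≫ pullback.fst f.hom b) b h hae hbe hcomm
  have hopen : IsOpen (locus h.left) := Groth.Agent.Lib.Helper12.GeomRedOpen.isOpen_locus h.left
  have hquotb := Groth.Agent.H53.isQuotientMap_ofPt_of_etale_surjective b hbe hbs
  have hquotp := Groth.Agent.H53.isQuotientMap_ofPt_of_etale_surjective p hpe hps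
  rw [← hquotb.isOpen_preimage]
  have hZc : IsClosed (locus h.left)ᶜ := hopen.isClosed_compl
  have hsat : AlgSp.Points.ofPt p ⁻¹' (AlgSp.Points.ofPt p '' (locus h.left)ᶜ) = (locus h.left)ᶜ := by
    ext u
    constructor
    · rintro ⟨u', hu', he⟩
      intro hu
      exact hu' ((locus_saturated _ p hpe h hh u' u he).2 hu)
    · intro hu
      exact ⟨u, hu, rfl⟩
  have hZ' : IsClosed (AlgSp.Points.ofPt p '' (locus h.left)ᶜ) := by
    rw [← hquotp.isClosed_preimage, hsat]
    exact hZc
  have hclm : IsClosedMap (AlgSp.Points.map (pullback.snd f.hom b)) :=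
    hf2.2.2 (AlgSp.IsAlgSpace.yon_obj V) b _ _ sqV
  have hF' := hclm _ hZ'
  have hC : IsClosed (AlgSp.Points.ofScheme V ⁻¹'
      (AlgSp.Points.map (pullback.snd f.hom b) '' (AlgSp.Points.ofPt p '' (locus h.left)ᶜ))) :=
    hF'.preimage (AlgSp.Points.continuous_ofPt _)
  have key : ∀ u, AlgSp.Points.map (pullback.snd f.hom b) (AlgSp.Points.ofPt p u) =
      AlgSp.Points.ofScheme V (h.left.base u) := by
    intro u
    rw [AlgSp.Points.map_ofPt, ← hh,
      ← AlgSp.Points.ofScheme_toScheme V (AlgSp.Points.ofPt ((AlgSp.yon S).map h) u),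
      AlgSp.Points.toScheme_ofPt]
  convert hC.isOpen_compl using 1
  ext v
  rw [Set.mem_compl_iff]
  constructor
  · intro hv hvC
    obtain ⟨_, ⟨u, huZ, rfl⟩, hu⟩ := hvC
    rw [key] at hu
    have huv : h.left.base u = v := (AlgSp.Points.schemeEquiv V).injective hu
    subst huv
    exact huZ (mem_locus_of_gr f b _ _ sqV p hpe hps h hh u
      (hv (AlgSp.FieldPt.ofPt b (h.left.base u)) rfl))
  · intro hvC
    have hloc : ∀ u : ↥U.left, h.left.base u = v → u ∈ locus h.left := by
      intro u huv
      by_contra hu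
      exact hvC ⟨_, ⟨u, hu, rfl⟩, by rw [key, huv]⟩
    have hgr := gr_of_forall_mem_locus f b _ _ sqV p hpe hps h hh v hloc
    show ∀ k : AlgSp.FieldPt Y.obj, AlgSp.Points.mk k = AlgSp.Points.ofPt b v → GR f.hom k
    intro k hk
    exact gr_of_gr f _ hgr k hk

end Groth.Agent.S10682
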