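import Groth.Statements.S10683
import Groth.Agent.Lib.Helper78.GeomRedFibreSp2
import Groth.Agent.S1301

set_option autoImplicit false
universe u
open CategoryTheory CategoryTheory.Limits AlgebraicGeometry
open AlgSp

namespace Groth.Agent.S10683

open Groth.Agent.Lib.Helper78.GeomRedFibreSp

/-- For a quasi-compact morphism f : X ⟶ Y between algebraic spaces over S which is locally of finite
presentation, the set E of points of |Y| at which the fibre of f is geometrically reduced is etale
locally constructible: for every affine scheme V with a representable etale a : h_V ⟶ Y, the inverse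
image of E in V is a constructible subset. Here the fibre of f at y being geometrically reduced
means: for every field point k of Y in the class of y and every field homomorphism k ⟶ k', the base
change X_{k'} (pullback in fppf sheaves) is reduced (some etale surjective scheme chart is reduced). -/
theorem result {S : Scheme.{u}} {X Y : AlgSp.Space S} (f : X ⟶ Y)
    (hf1 : AlgSp.IsQuasiCompactMor f.hom) (hf2 : AlgSp.LocP @LocallyOfFinitePresentation f.hom)
    (V : Over S) (hV : IsAffine V.left) (a : (AlgSp.yon S).obj V ⟶ Y.obj) (ha : AlgSp.RepWith @Etale a) :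
    Topology.IsConstructible ((AlgSp.Points.ofPt a) ⁻¹' {y : AlgSp.Points Y.obj | ∀ (k : AlgSp.FieldPt Y.obj), AlgSp.Points.mk k = y →
        ∀ (k' : Type u) [Field k'] (φ : k.K →+* k') (Xk' : AlgSp.Sp S) (a : Xk' ⟶ X.obj)
          (b : Xk' ⟶ (AlgSp.yon S).obj (Over.mk (Spec.map (CommRingCat.ofHom φ) ≫ k.str))),
          IsPullback a b f.hom ((AlgSp.yon S).map (Over.homMk (Spec.map (CommRingCat.ofHom φ)) rfl :
            Over.mk (Spec.map (CommRingCat.ofHom φ) ≫ k.str) ⟶ k.pt) ≫ k.toHom) →
          AlgSp.EtaleLocally (fun U => IsReduced U) Xk'}) := by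
  have sqV := IsPullback.of_hasPullback f.hom a
  have hXV : AlgSp.IsAlgSpace (pullback f.hom a) :=
    Groth.Agent.H52.isAlgSpace_of_isPullback sqV X.property Y.property (AlgSp.IsAlgSpace.yon_obj _)
  haveI : IsAffine V.left := hV
  have hqcV : AlgSp.IsQuasiCompactSp ((AlgSp.yon S).obj V) :=
    ⟨V, 𝟙 _, AlgSp.repWith_id @Etale V, AlgSp.repWith_id @Surjective V,
      (inferInstance : CompactSpace ↥V.left)⟩
  obtain ⟨U, p, hpe, hps, hUc⟩ := hf1 (AlgSp.IsAlgSpace.yon_obj V) hqcV a _ _ sqV
  obtain ⟨h, hh⟩ := (AlgSp.yon S).map_surjective (p ≫ pullback.snd f.hom a)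
  have hcomm : (p ≫ pullback.fst f.hom a) ≫ f.hom = (AlgSp.yon S).map h ≫ a := by
    rw [Category.assoc, sqV.w, ← Category.assoc, hh]
  have hfste : AlgSp.RepWith @Etale (pullback.fst f.hom a) :=
    (AlgSp.RepWith @Etale).of_isPullback sqV.flip ha
  have hae : AlgSp.RepWith @Etale (p ≫ pullback.fst f.hom a) :=
    (AlgSp.RepWith @Etale).comp_mem _ _ hpe hfste
  haveI : LocallyOfFinitePresentation h.left := hf2 (p ≫ pullback.fst f.hom a) a h hae ha hcomm
  haveI : CompactSpace ↥U.left := hUc
  haveI : QuasiCompact h.left := inferInstance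
  have hcons := (Groth.Agent.S1301.result h.left).isConstructible
  convert hcons using 1
  ext v
  constructor
  · intro hv
    exact (gr_iff_geometricallyReduced f a _ _ sqV p hpe hps h hh v).1
      (hv (AlgSp.FieldPt.ofPt a v) rfl)
  · intro hG
    show ∀ k : AlgSp.FieldPt Y.obj, AlgSp.Points.mk k = AlgSp.Points.ofPt a v → GR f.hom k
    intro k hk
    exact gr_of_gr f _ ((gr_iff_geometricallyReduced f a _ _ sqV p hpe hps h hh v).2 hG) k hk

end Groth.Agent.S10683
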