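import Groth.Statements.S10687
import Groth.Agent.Lib.Helper78.GorenSp
import Groth.Agent.H52.ThickFlat
import Groth.Agent.H52.DimLocal2

set_option autoImplicit false
universe u
open CategoryTheory CategoryTheory.Limits AlgebraicGeometry
open AlgSp

namespace Groth.Agent.S10687

/-- For morphisms f : X ⟶ Y and g : Y ⟶ Z between algebraic spaces over S whose fibres, and those of f ≫
g, are locally Noetherian, and a point x of |X|: (1) if g is Gorenstein at the image of x and f is
Gorenstein at x itself, then so is f ≫ g at x; (2) if f ≫ g is Gorenstein at x and f is flat there,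
then f is Gorenstein at x and g at the image of x. Here f is Gorenstein at x when in every etale
chart diagram through x the top arrow is Gorenstein at the point over x (flat there, with Gorenstein
local ring of its fibre), and the fibres of a morphism are locally Noetherian when every fibre over
a field point (pullback in fppf sheaves) is a locally Noetherian algebraic space. -/
theorem result {S : Scheme.{u}} {X Y Z : AlgSp.Space S} (f : X ⟶ Y) (g : Y ⟶ Z)
    (hf : ∀ (k : AlgSp.FieldPt Y.obj) (Xk : AlgSp.Sp S) (a : Xk ⟶ X.obj) (b : Xk ⟶ (AlgSp.yon S).obj k.pt),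
        IsPullback a b f.hom k.toHom → AlgSp.IsLocNoethSp Xk)
    (hg : ∀ (k : AlgSp.FieldPt Z.obj) (Xk : AlgSp.Sp S) (a : Xk ⟶ Y.obj) (b : Xk ⟶ (AlgSp.yon S).obj k.pt),
        IsPullback a b g.hom k.toHom → AlgSp.IsLocNoethSp Xk)
    (hfg : ∀ (k : AlgSp.FieldPt Z.obj) (Xk : AlgSp.Sp S) (a : Xk ⟶ X.obj) (b : Xk ⟶ (AlgSp.yon S).obj k.pt),
        IsPullback a b (f ≫ g).hom k.toHom → AlgSp.IsLocNoethSp Xk)
    (x : AlgSp.Points X.obj) :
    (AlgSp.LocPAt (fun h u => Dual3.IsGorensteinAt h u) f.hom x → AlgSp.LocPAt (fun h u => Dual3.IsGorensteinAt h u) g.hom (AlgSp.Points.map f.hom x) →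
        AlgSp.LocPAt (fun h u => Dual3.IsGorensteinAt h u) (f ≫ g).hom x) ∧
      (AlgSp.LocPAt (fun h u => Dual3.IsGorensteinAt h u) (f ≫ g).hom x → AlgSp.IsFlatAtMor f.hom x →
        AlgSp.LocPAt (fun h u => Dual3.IsGorensteinAt h u) f.hom x ∧ AlgSp.LocPAt (fun h u => Dual3.IsGorensteinAt h u) g.hom (AlgSp.Points.map f.hom x)) := by
  have hXa : AlgSp.IsAlgSpace X.obj := X.property
  have hYa : AlgSp.IsAlgSpace Y.obj := Y.property
  have hZa : AlgSp.IsAlgSpace Z.obj := Z.property
  obtain ⟨W, c, w, hc, hw⟩ := Groth.Agent.H52.exists_chart_through_point hZa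
    (AlgSp.Points.map g.hom (AlgSp.Points.map f.hom x))
  obtain ⟨V, b, hg', v, hb, commg, hv, hvw⟩ :=
    Groth.Agent.H52.exists_chart_over_through_point hYa hZa g.hom c hc
      (AlgSp.Points.map f.hom x) w hw
  obtain ⟨U, a, hf', u, ha, commf, hu, huv⟩ :=
    Groth.Agent.H52.exists_chart_over_through_point hXa hYa f.hom b hb x v hv
  have commfg : a ≫ (f ≫ g).hom = (AlgSp.yon S).map (hf' ≫ hg') ≫ c := by
    change a ≫ f.hom ≫ g.hom = _
    rw [← Category.assoc, commf, Category.assoc, commg, Functor.map_comp, Category.assoc]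
  have hvb : AlgSp.Points.ofPt b (hf'.left u) = AlgSp.Points.map f.hom x := by
    rw [huv]; exact hv
  rw [Groth.Agent.Lib.Helper78.GorenSp.locPAt_gor_iff' f.hom a b hf' ha hb commf u x hu,
    Groth.Agent.Lib.Helper78.GorenSp.locPAt_gor_iff' g.hom b c hg' hb hc commg (hf'.left u) _ hvb,
    Groth.Agent.Lib.Helper78.GorenSp.locPAt_gor_iff' (f ≫ g).hom a c (hf' ≫ hg') ha hc commfg u x
      hu]
  have hNfg : ∀ w, IsLocallyNoetherian ((hf' ≫ hg').left.fiber w) :=
    Groth.Agent.Lib.Helper78.GorenSp.isLocallyNoetherian_fiber_of_chart hXa hZa (f ≫ g).hom hfg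
      a c (hf' ≫ hg') ha hc commfg
  have hNg : ∀ w, IsLocallyNoetherian (hg'.left.fiber w) :=
    Groth.Agent.Lib.Helper78.GorenSp.isLocallyNoetherian_fiber_of_chart hYa hZa g.hom hg
      b c hg' hb hc commg
  constructor
  · intro h1 h2
    exact Groth.Agent.Lib.Helper24.isGorensteinAt_comp hf'.left hg'.left u (hNfg _) h1 h2
  · intro h1 h2
    have hfl : (hf'.left.stalkMap u).hom.Flat := h2 a b hf' u ha hb commf hu
    exact Groth.Agent.Lib.Helper24.isGorensteinAt_of_comp hf'.left hg'.left u (hNg _) h1 hfl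

end Groth.Agent.S10687
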