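import Groth.Statements.S10688
import Groth.Agent.Lib.Helper78.GorenSp
import Groth.Agent.H52.BaseChangeCharts
import Groth.Agent.H52.LocPCalc5
import Groth.Agent.S3625

set_option autoImplicit false
universe u
open CategoryTheory CategoryTheory.Limits AlgebraicGeometry
open AlgSp

namespace Groth.Agent.S10688

/-- For a morphism f : X ⟶ Y between algebraic spaces over S with locally Noetherian fibres, g : Y' ⟶ Y
locally of finite type, f' : X' ⟶ Y' the base change (a pullback square of algebraic spaces) with
projection g' : X' ⟶ X, and x' a point of |X'| with image x: (1) if f is Gorenstein at x then so is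
f' at x'; (2) when f is flat at x, Gorensteinness of f' at x' implies that of f at x; (3) the same
conclusion holds if instead g is flat at the image of x' and f' is Gorenstein at x'. Here f is
Gorenstein at x when in every etale chart diagram through x the top arrow is Gorenstein at the point
over x (flat there, with Gorenstein local ring of its fibre), and the fibres of a morphism are
locally Noetherian when every fibre over a field point (pullback in fppf sheaves) is a locally
Noetherian algebraic space. -/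
theorem result {S : Scheme.{u}} {X Y X' Y' : AlgSp.Space S} (f : X ⟶ Y) (g : Y' ⟶ Y) (g' : X' ⟶ X) (f' : X' ⟶ Y')
    (hsq : IsPullback g'.hom f'.hom f.hom g.hom)
    (hf : ∀ (k : AlgSp.FieldPt Y.obj) (Xk : AlgSp.Sp S) (a : Xk ⟶ X.obj) (b : Xk ⟶ (AlgSp.yon S).obj k.pt),
        IsPullback a b f.hom k.toHom → AlgSp.IsLocNoethSp Xk)
    (hg : AlgSp.LocP @LocallyOfFiniteType g.hom) (x' : AlgSp.Points X'.obj) :
    (AlgSp.LocPAt (fun h u => Dual3.IsGorensteinAt h u) f.hom (AlgSp.Points.map g'.hom x') → AlgSp.LocPAt (fun h u => Dual3.IsGorensteinAt h u) f'.hom x') ∧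
      (AlgSp.IsFlatAtMor f.hom (AlgSp.Points.map g'.hom x') → AlgSp.LocPAt (fun h u => Dual3.IsGorensteinAt h u) f'.hom x' →
        AlgSp.LocPAt (fun h u => Dual3.IsGorensteinAt h u) f.hom (AlgSp.Points.map g'.hom x')) ∧
      (AlgSp.IsFlatAtMor g.hom (AlgSp.Points.map f'.hom x') → AlgSp.LocPAt (fun h u => Dual3.IsGorensteinAt h u) f'.hom x' →
        AlgSp.LocPAt (fun h u => Dual3.IsGorensteinAt h u) f.hom (AlgSp.Points.map g'.hom x')) := by
  have hXa : AlgSp.IsAlgSpace X.obj := X.property
  have hYa : AlgSp.IsAlgSpace Y.obj := Y.property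
  have hY'a : AlgSp.IsAlgSpace Y'.obj := Y'.property
  obtain ⟨U, V, U', V', a, b, a', b', h, h', α, β, u', ha, hb, ha', hb', comm, comm', hα, hβ,
    sqS, hu'⟩ := Groth.Agent.H52.exists_baseChange_charts hXa hYa hY'a hsq x'
  have hlft : LocallyOfFiniteType β.left := hg b' b β hb' hb hβ
  have hN : ∀ v, IsLocallyNoetherian (h.left.fiber v) :=
    Groth.Agent.Lib.Helper78.GorenSp.isLocallyNoetherian_fiber_of_chart hXa hYa f.hom hf
      a b h ha hb comm
  have hpt : AlgSp.Points.ofPt a (α.left u') = AlgSp.Points.map g'.hom x' := by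
    rw [← hu', AlgSp.Points.map_ofPt, hα, Groth.Agent.H52.ofPt_yon_map_comp]
  have hpt' : AlgSp.Points.ofPt b' (h'.left u') = AlgSp.Points.map f'.hom x' := by
    rw [← hu', AlgSp.Points.map_ofPt, comm', Groth.Agent.H52.ofPt_yon_map_comp]
  obtain ⟨k1, k2, k3⟩ := Groth.Agent.S3625.result U.left V.left U'.left V'.left h.left β.left
    h'.left α.left sqS hN u'
  rw [Groth.Agent.Lib.Helper78.GorenSp.locPAt_gor_iff' f.hom a b h ha hb comm (α.left u') _ hpt,
    Groth.Agent.Lib.Helper78.GorenSp.locPAt_gor_iff' f'.hom a' b' h' ha' hb' comm' u' x' hu']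
  refine ⟨k1, fun hfl => k2 (hfl a b h (α.left u') ha hb comm hpt), fun hfl => k3 ?_⟩
  exact hfl b' b β (h'.left u') hb' hb hβ hpt'

end Groth.Agent.S10688
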