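import Groth.Statements.S10690
import Groth.Agent.Lib.Helper78.GorenSp
import Groth.Agent.H52.FibreProd

set_option autoImplicit false
universe u
open CategoryTheory CategoryTheory.Limits AlgebraicGeometry
open AlgSp

namespace Groth.Agent.S10690

/-- For a morphism f : X ⟶ Y between algebraic spaces over S whose fibres are locally Noetherian, the
following are equivalent: (1) f is Gorenstein at every point of |X|; (2) f is flat and for some
scheme V with a representable etale surjective b : h_V ⟶ Y every fibre of X ×_Y V ⟶ V over a point v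
of V (pullback along the residue field point of v) is a Gorenstein algebraic space (some etale
surjective scheme chart is a Gorenstein scheme); (3) f is flat and the same holds for every scheme V
with a representable etale b : h_V ⟶ Y. Here f is Gorenstein at x when in every etale chart diagram
through x the top arrow is Gorenstein at the point over x (flat there, with Gorenstein local ring of
its fibre), and the fibres of a morphism are locally Noetherian when every fibre over a field point
(pullback in fppf sheaves) is a locally Noetherian algebraic space. (The published statement also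
characterises being Gorenstein at a single point through strict henselizations; that part is stated
separately and not included here.) -/
theorem result {S : Scheme.{u}} {X Y : AlgSp.Space S} (f : X ⟶ Y)
    (hf : ∀ (k : AlgSp.FieldPt Y.obj) (Xk : AlgSp.Sp S) (a : Xk ⟶ X.obj) (b : Xk ⟶ (AlgSp.yon S).obj k.pt),
        IsPullback a b f.hom k.toHom → AlgSp.IsLocNoethSp Xk) :
    [∀ x : AlgSp.Points X.obj, AlgSp.LocPAt (fun h u => Dual3.IsGorensteinAt h u) f.hom x,
      AlgSp.LocP @Flat f.hom ∧ ∃ (V : Over S) (b : (AlgSp.yon S).obj V ⟶ Y.obj),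
        AlgSp.RepWith @Etale b ∧ AlgSp.RepWith @Surjective b ∧
          ∀ (v : ↥V.left) (Xv : AlgSp.Sp S) (a : Xv ⟶ X.obj)
            (c : Xv ⟶ (AlgSp.yon S).obj (Over.mk (V.left.fromSpecResidueField v ≫ V.hom))),
            IsPullback a c f.hom ((AlgSp.yon S).map (Over.homMk (V.left.fromSpecResidueField v) rfl :
              Over.mk (V.left.fromSpecResidueField v ≫ V.hom) ⟶ V) ≫ b) →
            AlgSp.EtaleLocally Dual3.IsGorenstein Xv,
      AlgSp.LocP @Flat f.hom ∧ ∀ (V : Over S) (b : (AlgSp.yon S).obj V ⟶ Y.obj), AlgSp.RepWith @Etale b →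
          ∀ (v : ↥V.left) (Xv : AlgSp.Sp S) (a : Xv ⟶ X.obj)
            (c : Xv ⟶ (AlgSp.yon S).obj (Over.mk (V.left.fromSpecResidueField v ≫ V.hom))),
            IsPullback a c f.hom ((AlgSp.yon S).map (Over.homMk (V.left.fromSpecResidueField v) rfl :
              Over.mk (V.left.fromSpecResidueField v ≫ V.hom) ⟶ V) ≫ b) →
            AlgSp.EtaleLocally Dual3.IsGorenstein Xv].TFAE := by
  have hXa : AlgSp.IsAlgSpace X.obj := X.property
  have hYa : AlgSp.IsAlgSpace Y.obj := Y.property
  haveI : (AlgSp.RepWith (S := S) @Etale).IsMultiplicative := AlgSp.repWith_isMultiplicative _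
  haveI : (AlgSp.RepWith (S := S) @Surjective).IsMultiplicative := AlgSp.repWith_isMultiplicative _
  -- charts of `X ×_Y V`
  have chart : ∀ (V : Over S) (b : (AlgSp.yon S).obj V ⟶ Y.obj), AlgSp.RepWith @Etale b →
      ∃ (U : Over S) (q : (AlgSp.yon S).obj U ⟶ pullback f.hom b) (h : U ⟶ V),
        AlgSp.RepWith @Etale q ∧ AlgSp.RepWith @Surjective q ∧
          q ≫ pullback.snd f.hom b = (AlgSp.yon S).map h ∧
          AlgSp.RepWith @Etale (q ≫ pullback.fst f.hom b) ∧
          (q ≫ pullback.fst f.hom b) ≫ f.hom = (AlgSp.yon S).map h ≫ b := by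
    intro V b hb
    have sq := IsPullback.of_hasPullback f.hom b
    have hP : AlgSp.IsAlgSpace (pullback f.hom b) :=
      Groth.Agent.H52.isAlgSpace_of_isPullback sq hXa hYa (AlgSp.IsAlgSpace.yon_obj V)
    obtain ⟨U, q, hqe, hqs⟩ := hP.atlas
    obtain ⟨h, hh⟩ := (AlgSp.yon S).map_surjective (q ≫ pullback.snd f.hom b)
    have hfst : AlgSp.RepWith @Etale (pullback.fst f.hom b) :=
      MorphismProperty.of_isPullback sq.flip hb
    refine ⟨U, q, h, hqe, hqs, hh.symm, (AlgSp.RepWith (S := S) @Etale).comp_mem _ _ hqe hfst, ?_⟩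
    rw [Category.assoc, pullback.condition, ← Category.assoc, ← hh]
  tfae_have 1 → 3 := by
    intro hGor
    have hflat : AlgSp.LocP @Flat f.hom := by
      intro U V a b h ha hb comm
      rw [Flat.iff_flat_stalkMap]
      intro u
      exact (hGor _ a b h u ha hb comm rfl).1
    refine ⟨hflat, fun V b hb v Xv a' c' sqv => ?_⟩
    obtain ⟨U, q, h, hqe, hqs, hh, hae, comm⟩ := chart V b hb
    obtain ⟨p, hpe, hps⟩ :=
      Groth.Agent.Lib.Helper78.GorenSp.exists_fibre_chart f.hom b q hqe h hh v a' c' sqv
    refine ⟨Over.mk (h.left.fiberι v ≫ U.hom), p, hpe, hps hqs, ?_⟩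
    refine Groth.Agent.Lib.Helper78.GorenSp.isGorenstein_fiber_of_forall h.left v ?_ ?_
    · exact Groth.Agent.Lib.Helper78.GorenSp.isLocallyNoetherian_fiber_of_chart hXa hYa f.hom hf
        _ b h hae hb comm v
    · intro y
      exact hGor _ _ b h (h.left.fiberι v y) hae hb comm rfl
  tfae_have 3 → 2 := by
    rintro ⟨hflat, H⟩
    obtain ⟨V, b, hbe, hbs⟩ := hYa.atlas
    exact ⟨hflat, V, b, hbe, hbs, H V b hbe⟩
  tfae_have 2 → 1 := by
    rintro ⟨hflat, V, b, hbe, hbs, H⟩ x
    obtain ⟨U, q, h, hqe, hqs, hh, hae, comm⟩ := chart V b hbe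
    have sq := IsPullback.of_hasPullback f.hom b
    have hfsts : AlgSp.RepWith @Surjective (pullback.fst f.hom b) :=
      MorphismProperty.of_isPullback sq.flip hbs
    have has : AlgSp.RepWith @Surjective (q ≫ pullback.fst f.hom b) :=
      (AlgSp.RepWith (S := S) @Surjective).comp_mem _ _ hqs hfsts
    obtain ⟨u, hu⟩ := Groth.Agent.H53.surjective_ofPt_of_surjective _ has x
    rw [Groth.Agent.Lib.Helper78.GorenSp.locPAt_gor_iff' f.hom _ b h hae hbe comm u x hu]
    have sqv := IsPullback.of_hasPullback f.hom ((AlgSp.yon S).map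
      (Over.homMk (V.left.fromSpecResidueField (h.left u)) rfl :
        Over.mk (V.left.fromSpecResidueField (h.left u) ≫ V.hom) ⟶ V) ≫ b)
    have hG := H (h.left u) _ _ _ sqv
    obtain ⟨p, hpe, -⟩ :=
      Groth.Agent.Lib.Helper78.GorenSp.exists_fibre_chart f.hom b q hqe h hh (h.left u) _ _ sqv
    have hfib : Dual3.IsGorenstein (h.left.fiber (h.left u)) :=
      Groth.Agent.Lib.Helper78.GorenSp.isGorenstein_of_etale_chart hG p hpe
    haveI : Flat h.left := hflat _ b h hae hbe comm
    exact ⟨Flat.stalkMap h.left u, hfib.2 (h.left.asFiber u)⟩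
  tfae_finish

end Groth.Agent.S10690
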