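import Groth.Statements.S10691
import Groth.Agent.Lib.Helper78.GorenSp
import Groth.Agent.Lib.Helper78.GorenSH
import Groth.Agent.H52.ThickFlat

set_option autoImplicit false
universe u
open CategoryTheory CategoryTheory.Limits AlgebraicGeometry
open AlgSp

namespace Groth.Agent.S10691

/-- For locally Noetherian algebraic spaces X, Y over S and a flat morphism f : X ⟶ Y, with X Gorenstein
(some etale surjective scheme chart is a Gorenstein scheme): f is Gorenstein at every point of |X|,
and for every point x of |X| the etale local ring of Y at a geometric point over f(x), presented as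
a strict henselization R of the local ring of an etale scheme chart V of Y at a point v over f(x),
is a Gorenstein local ring. Here f is Gorenstein at x when in every etale chart diagram through x
the top arrow is Gorenstein at the point over x (flat there, with Gorenstein local ring of its
fibre), and the fibres of a morphism are locally Noetherian when every fibre over a field point
(pullback in fppf sheaves) is a locally Noetherian algebraic space. -/
theorem result {S : Scheme.{u}} {X Y : AlgSp.Space S} (f : X ⟶ Y) (hf : AlgSp.LocP @Flat f.hom)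
    (hX1 : AlgSp.IsLocNoethSp X.obj) (hY1 : AlgSp.IsLocNoethSp Y.obj)
    (hX2 : AlgSp.EtaleLocally Dual3.IsGorenstein X.obj) :
    (∀ x : AlgSp.Points X.obj, AlgSp.LocPAt (fun h u => Dual3.IsGorensteinAt h u) f.hom x) ∧
      ∀ (x : AlgSp.Points X.obj) (V : Over S) (b : (AlgSp.yon S).obj V ⟶ Y.obj), AlgSp.RepWith @Etale b →
        ∀ (v : ↥V.left), AlgSp.Points.ofPt b v = AlgSp.Points.map f.hom x →
          ∀ (R : Type u) [CommRing R] [IsLocalRing R] [Algebra ↥(V.left.presheaf.stalk v) R]
            [IsLocalHom (algebraMap ↥(V.left.presheaf.stalk v) R)]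
            [Hensel.IsStrictHenselization ↥(V.left.presheaf.stalk v) R],
            LocCoh.IsGorensteinLocalRing R := by
  have hXa : AlgSp.IsAlgSpace X.obj := X.property
  have hYa : AlgSp.IsAlgSpace Y.obj := Y.property
  have key : ∀ {U V : Over S} (a : (AlgSp.yon S).obj U ⟶ X.obj) (b : (AlgSp.yon S).obj V ⟶ Y.obj)
      (h : U ⟶ V), AlgSp.RepWith @Etale a → AlgSp.RepWith @Etale b →
      a ≫ f.hom = (AlgSp.yon S).map h ≫ b → ∀ u : ↥U.left,
      Dual3.IsGorensteinAt h.left u ∧
        LocCoh.IsGorensteinLocalRing (V.left.presheaf.stalk (h.left u)) := by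
    intro U V a b h ha hb comm u
    have hU := Groth.Agent.Lib.Helper78.GorenSp.isGorenstein_of_etale_chart hX2 a ha
    haveI : IsLocallyNoetherian U.left := hU.1
    haveI : IsLocallyNoetherian V.left :=
      Groth.Agent.H53.isLocallyNoetherian_of_etale_chart hY1 b hb
    haveI : Flat h.left := hf a b h ha hb comm
    exact Groth.Agent.Lib.Helper24.isGorensteinAt_and_base_of_flat_of_gorenstein_source h.left
      hU.2 u
  refine ⟨fun x U V a b h u ha hb comm _ => (key a b h ha hb comm u).1, ?_⟩
  intro x V b hb v hv R _ _ _ _ _
  obtain ⟨U, a, h, u, ha, comm, hu, huv⟩ :=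
    Groth.Agent.H52.exists_chart_over_through_point hXa hYa f.hom b hb x v hv
  have hV := (key a b h ha hb comm u).2
  rw [huv] at hV
  exact (Groth.Agent.Lib.Helper78.GorenSH.gor_iff_of_isStrictHenselization _ R).mpr hV

end Groth.Agent.S10691
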