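import Groth.Statements.S10692
import Groth.Agent.S10679
import Groth.Agent.S10680
import Groth.Agent.S10308
import Groth.Agent.S10174
import Groth.Agent.Lib.Helper23.FibreDimPieces
import Groth.Agent.H52.FibreConds
import Groth.Agent.H52.QC

set_option autoImplicit false
universe u
open CategoryTheory CategoryTheory.Limits AlgebraicGeometry
open AlgSp

namespace Groth.Agent.S10692

theorem bot_lt_iff' (z : WithBot ℕ∞) : ⊥ < z ↔ (((0 : ℕ) : ℕ∞) : WithBot ℕ∞) ≤ z := by
  induction z using WithBot.recBotCoe with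
  | bot =>
    constructor
    · intro h; exact absurd h (lt_irrefl _)
    · intro h; exact absurd h (WithBot.not_coe_le_bot _)
  | coe a =>
    constructor
    · intro _; exact WithBot.coe_le_coe.2 (by simp)
    · intro _; exact WithBot.bot_lt_coe a

theorem coe_lt_iff' (m : ℕ) (z : WithBot ℕ∞) :
    (((m : ℕ) : ℕ∞) : WithBot ℕ∞) < z ↔ (((m + 1 : ℕ) : ℕ∞) : WithBot ℕ∞) ≤ z := by
  induction z using WithBot.recBotCoe with
  | bot =>
    constructor
    · intro h; exact absurd h (not_lt_bot)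
    · intro h; exact absurd h (WithBot.not_coe_le_bot _)
  | coe a =>
    rw [WithBot.coe_lt_coe, WithBot.coe_le_coe]
    induction a using ENat.recTopCoe with
    | top =>
      constructor
      · intro _; exact le_top
      · intro _; exact ENat.coe_lt_top m
    | coe k =>
      rw [Nat.cast_lt, Nat.cast_le]; omega

theorem eq_coe_iff' (x : WithBot ℕ∞) (n : ℕ) (p : WithBot ℕ∞)
    (hp : ∀ z : WithBot ℕ∞, p < z ↔ (((n : ℕ) : ℕ∞) : WithBot ℕ∞) ≤ z) :
    x = (((n : ℕ) : ℕ∞) : WithBot ℕ∞) ↔ x < (((n + 1 : ℕ) : ℕ∞) : WithBot ℕ∞) ∧ p < x := by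
  rw [Groth.Agent.S10680.lt_succ_iff', hp]
  constructor
  · intro h
    rw [h]
    exact ⟨le_of_eq rfl, le_of_eq rfl⟩
  · rintro ⟨h1, h2⟩
    exact le_antisymm h1 h2

/-- The fibres of a quasi-compact morphism locally of finite type have finite dimension. -/
theorem exists_nat_dim_fibre_le {S : Scheme.{u}} {X Y : AlgSp.Space S} (f : X ⟶ Y)
    (hlft : AlgSp.LocP @LocallyOfFiniteType f.hom) (hqcm : AlgSp.IsQuasiCompactMor f.hom)
    (k : AlgSp.FieldPt Y.obj) {Xk : AlgSp.Sp S} {fst : Xk ⟶ X.obj}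
    {snd : Xk ⟶ (AlgSp.yon S).obj k.pt} (sq : IsPullback fst snd f.hom k.toHom) :
    ∃ N : ℕ, AlgSp.dim Xk ≤ ((N : ℕ) : WithBot ℕ∞) := by
  have hXa : AlgSp.IsAlgSpace X.obj := X.property
  have hYa : AlgSp.IsAlgSpace Y.obj := Y.property
  have hqc : AlgSp.IsQuasiCompactSp Xk := by
    haveI : CompactSpace ↥k.pt.left :=
      (inferInstance : CompactSpace ↥(Spec (CommRingCat.of k.K)))
    exact hqcm (AlgSp.IsAlgSpace.yon_obj _) (Groth.Agent.H52.isQuasiCompactSp_yon k.pt)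
      k.toHom _ _ sq
  have hXk : AlgSp.IsAlgSpace Xk :=
    Groth.Agent.H52.isAlgSpace_of_isPullback sq hXa hYa (AlgSp.IsAlgSpace.yon_obj _)
  haveI : CompactSpace (AlgSp.Points Xk) :=
    (Groth.Agent.S10174.result ⟨Xk, hXk⟩).1 hqc
  have hcomp : IsCompact (AlgSp.Points.map f.hom ⁻¹' {AlgSp.Points.mk k}) := by
    rw [← Groth.Agent.H52.range_points_map_fst_fibre f.hom k sq]
    exact isCompact_range (AlgSp.Points.continuous_map _)
  have hO : ∀ n : ℕ, IsOpen {x : AlgSp.Points X.obj |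
      AlgSp.HasAtMor (fun _ _ h u => FlatMor.fibreDimAt h u ≤ ((n : ℕ) : WithBot ℕ∞)) f.hom x} :=
    fun n => Groth.Agent.S10308.result f hlft n
  have hmono : Monotone (fun n : ℕ => {x : AlgSp.Points X.obj |
      AlgSp.HasAtMor (fun _ _ h u => FlatMor.fibreDimAt h u ≤ ((n : ℕ) : WithBot ℕ∞))
        f.hom x}) := by
    intro n m hnm x hx
    obtain ⟨U, V, a, b, h, u, ha, hb, comm, hu, hq⟩ := hx
    have hq' : FlatMor.fibreDimAt h.left u ≤ ((n : ℕ) : WithBot ℕ∞) := hq
    have hnm' : ((n : ℕ) : WithBot ℕ∞) ≤ ((m : ℕ) : WithBot ℕ∞) := by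
      change ((n : ℕ∞) : WithBot ℕ∞) ≤ ((m : ℕ∞) : WithBot ℕ∞)
      exact WithBot.coe_le_coe.2 (Nat.cast_le.2 hnm)
    exact ⟨U, V, a, b, h, u, ha, hb, comm, hu, hq'.trans hnm'⟩
  have hcov : (AlgSp.Points.map f.hom ⁻¹' {AlgSp.Points.mk k}) ⊆ ⋃ n : ℕ,
      {x : AlgSp.Points X.obj |
        AlgSp.HasAtMor (fun _ _ h u => FlatMor.fibreDimAt h u ≤ ((n : ℕ) : WithBot ℕ∞))
          f.hom x} := by
    intro x _
    obtain ⟨V, b, v, hb, hv⟩ :=
      Groth.Agent.H52.exists_chart_through_point hYa (AlgSp.Points.map f.hom x)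
    obtain ⟨U, a, h, u, ha, comm, hu, -⟩ :=
      Groth.Agent.H52.exists_chart_over_through_point hXa hYa f.hom b hb x v hv
    haveI : LocallyOfFiniteType h.left := hlft a b h ha hb comm
    obtain ⟨n, hn⟩ := Groth.Agent.Lib.Helper23.FibreDimPieces.exists_nat_fibreDimAt_eq h.left u
    exact Set.mem_iUnion.2 ⟨n, U, V, a, b, h, u, ha, hb, comm, hu, le_of_eq hn⟩
  obtain ⟨N, hN⟩ := hcomp.elim_directed_cover _ hO hcov hmono.directed_le
  exact ⟨N, (Groth.Agent.S10680.dim_fibre_le_iff hXa hYa f.hom hlft k sq N).2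
    (fun x hx => hN hx)⟩

/-- For a proper flat morphism f : X ⟶ Y between algebraic spaces over S which is of finite
presentation, the fibre dimension function on |Y| is locally constant: for every d the set of y such
that every fibre X_k over y (k a field point in the class of y, X_k any pullback in fppf sheaves)
has dimension exactly d is open. -/
theorem result {S : Scheme.{u}} {X Y : AlgSp.Space S} (f : X ⟶ Y) (hf1 : AlgSp.IsProperMor f.hom)
    (hf2 : AlgSp.LocP @Flat f.hom) (hf3 : AlgSp.IsFinitePresentationMor f.hom) (d : WithBot ℕ∞) :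
    IsOpen {y : AlgSp.Points Y.obj | ∀ (k : AlgSp.FieldPt Y.obj), AlgSp.Points.mk k = y →
      ∀ (Xk : AlgSp.Sp S) (fst : Xk ⟶ X.obj) (snd : Xk ⟶ (AlgSp.yon S).obj k.pt),
        IsPullback fst snd f.hom k.toHom → AlgSp.dim Xk = d} := by
  have hmk : ∀ y : AlgSp.Points Y.obj, ∃ k : AlgSp.FieldPt Y.obj, AlgSp.Points.mk k = y :=
    AlgSp.Points.mk_surjective
  have hsplit : ∀ (n : ℕ) (p : WithBot ℕ∞),
      (∀ z : WithBot ℕ∞, p < z ↔ (((n : ℕ) : ℕ∞) : WithBot ℕ∞) ≤ z) →
      IsOpen {y : AlgSp.Points Y.obj | ∀ (k : AlgSp.FieldPt Y.obj), AlgSp.Points.mk k = y →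
        ∀ (Xk : AlgSp.Sp S) (fst : Xk ⟶ X.obj) (snd : Xk ⟶ (AlgSp.yon S).obj k.pt),
          IsPullback fst snd f.hom k.toHom →
            AlgSp.dim Xk = (((n : ℕ) : ℕ∞) : WithBot ℕ∞)} := by
    intro n p hp
    have h1 := Groth.Agent.S10680.result f hf1 (((n + 1 : ℕ) : ℕ∞) : WithBot ℕ∞)
    have h2 := Groth.Agent.S10679.result f hf2 hf3 p
    convert h1.inter h2 using 1
    ext y
    simp only [Set.mem_setOf_eq, Set.mem_inter_iff]
    constructor
    · intro H
      exact ⟨fun k hk Xk fst snd sq => ((eq_coe_iff' _ n p hp).1 (H k hk Xk fst snd sq)).1,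
        fun k hk Xk fst snd sq => ((eq_coe_iff' _ n p hp).1 (H k hk Xk fst snd sq)).2⟩
    · rintro ⟨H1, H2⟩ k hk Xk fst snd sq
      exact (eq_coe_iff' _ n p hp).2 ⟨H1 k hk Xk fst snd sq, H2 k hk Xk fst snd sq⟩
  induction d using WithBot.recBotCoe with
  | bot =>
    convert Groth.Agent.S10680.result f hf1 (((0 : ℕ) : ℕ∞) : WithBot ℕ∞) using 1
    ext y
    simp only [Set.mem_setOf_eq]
    constructor
    · intro H k hk Xk fst snd sq
      exact (Groth.Agent.S10680.lt_zero_iff' _).2 (H k hk Xk fst snd sq)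
    · intro H k hk Xk fst snd sq
      exact (Groth.Agent.S10680.lt_zero_iff' _).1 (H k hk Xk fst snd sq)
  | coe e =>
    induction e using ENat.recTopCoe with
    | top =>
      convert isOpen_empty using 1
      ext y
      simp only [Set.mem_setOf_eq, Set.mem_empty_iff_false, iff_false, not_forall]
      obtain ⟨k, hk⟩ := hmk y
      have sq := IsPullback.of_hasPullback f.hom k.toHom
      refine ⟨k, hk, _, _, _, sq, ?_⟩
      obtain ⟨N, hle⟩ := exists_nat_dim_fibre_le f hf1.2.1.1 hf1.2.1.2 k sq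
      intro htop
      rw [htop] at hle
      have : ((⊤ : ℕ∞) : WithBot ℕ∞) ≤ ((N : ℕ∞) : WithBot ℕ∞) := hle
      exact absurd (WithBot.coe_le_coe.1 this) (by simp)
    | coe n =>
      cases n with
      | zero => exact hsplit 0 ⊥ bot_lt_iff'
      | succ m => exact hsplit (m + 1) (((m : ℕ) : ℕ∞) : WithBot ℕ∞) (coe_lt_iff' m)

end Groth.Agent.S10692
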