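import Groth.Statements.S1072
import Mathlib

set_option autoImplicit false
universe v v' u u'
open CategoryTheory CategoryTheory.Limits
open CohDer

namespace Groth.Agent.S1072

set_option linter.unusedSectionVars false


section
variable {C : Type u} [Category.{v} C] [Abelian C]
  (W : MorphismProperty C) [W.HasLeftCalculusOfFractions] [W.HasRightCalculusOfFractions]
  {D : Type u'} [Category.{v'} D] (L : C ⥤ D) [L.IsLocalization W]
  [Preadditive D] [L.Additive]

include W L

omit [W.HasLeftCalculusOfFractions] in
lemma map_eq_zero_iff_precomp {X Y : C} (f : X ⟶ Y) :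
    L.map f = 0 ↔ ∃ (Z : C) (t : Z ⟶ X) (_ : W t), t ≫ f = 0 := by
  rw [← L.map_zero, MorphismProperty.map_eq_iff_precomp L W]
  simp

omit [W.HasRightCalculusOfFractions] in
lemma map_eq_zero_iff_postcomp {X Y : C} (f : X ⟶ Y) :
    L.map f = 0 ↔ ∃ (Z : C) (t : Y ⟶ Z) (_ : W t), f ≫ t = 0 := by
  rw [← L.map_zero, MorphismProperty.map_eq_iff_postcomp L W]
  simp

omit [W.HasLeftCalculusOfFractions] in
lemma preservesMonomorphisms : L.PreservesMonomorphisms where
  preserves {X Y} f _ := by
    have := Localization.essSurj L W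
    rw [Preadditive.mono_iff_cancel_zero]
    intro T z hz
    obtain ⟨φ, hφ⟩ := Localization.exists_rightFraction L W ((L.objObjPreimageIso T).hom ≫ z)
    have h0 : L.map φ.s ≫ (L.objObjPreimageIso T).hom ≫ z = L.map φ.f := by
      rw [hφ, MorphismProperty.RightFraction.map_s_comp_map]
    rw [← cancel_epi (L.objObjPreimageIso T).hom, comp_zero, hφ,
      ← cancel_epi (L.map φ.s), comp_zero, MorphismProperty.RightFraction.map_s_comp_map]
    have h1 : L.map (φ.f ≫ f) = 0 := by
      rw [L.map_comp, ← h0, Category.assoc, Category.assoc, hz, comp_zero, comp_zero]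
    obtain ⟨Z, t, ht, fac⟩ := (map_eq_zero_iff_precomp W L _).1 h1
    rw [← Category.assoc] at fac
    have h2 : t ≫ φ.f = 0 := by rw [← cancel_mono f, fac, zero_comp]
    exact (map_eq_zero_iff_precomp W L _).2 ⟨Z, t, ht, h2⟩

omit [W.HasRightCalculusOfFractions] in
lemma preservesEpimorphisms : L.PreservesEpimorphisms where
  preserves {X Y} f _ := by
    have := Localization.essSurj L W
    rw [Preadditive.epi_iff_cancel_zero]
    intro T z hz
    obtain ⟨φ, hφ⟩ := Localization.exists_leftFraction L W (z ≫ (L.objObjPreimageIso T).inv)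
    have h0 : L.map φ.f = z ≫ (L.objObjPreimageIso T).inv ≫ L.map φ.s := by
      rw [← Category.assoc, hφ, MorphismProperty.LeftFraction.map_comp_map_s]
    rw [← cancel_mono (L.objObjPreimageIso T).inv, zero_comp, hφ,
      ← cancel_mono (L.map φ.s), zero_comp, MorphismProperty.LeftFraction.map_comp_map_s]
    have h1 : L.map (f ≫ φ.f) = 0 := by
      rw [L.map_comp, h0, reassoc_of% hz, zero_comp]
    obtain ⟨Z, t, ht, fac⟩ := (map_eq_zero_iff_postcomp W L _).1 h1
    rw [Category.assoc] at fac
    have h2 : φ.f ≫ t = 0 := by rw [← cancel_epi f, fac, comp_zero]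
    exact (map_eq_zero_iff_postcomp W L _).2 ⟨Z, t, ht, h2⟩


omit [W.HasLeftCalculusOfFractions] in
lemma preservesKernel {X Y : C} (f : X ⟶ Y) :
    PreservesLimit (parallelPair f 0) L := by
  have := preservesMonomorphisms W L
  have := Localization.essSurj L W
  suffices ∀ (T : D) (z : T ⟶ L.obj X) (hz : z ≫ L.map f = 0),
      ∃ (l : T ⟶ L.obj (kernel f)), l ≫ L.map (kernel.ι f) = z from
    preservesLimit_of_preserves_limit_cone (kernelIsKernel f)
      ((KernelFork.isLimitMapConeEquiv _ L).2
        (Fork.IsLimit.ofExistsUnique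
          (fun s ↦ existsUnique_of_exists_of_unique
            (this _ _ (KernelFork.condition s))
            (fun _ _ h₁ h₂ ↦ (cancel_mono (L.map (kernel.ι f))).1 (h₁.trans h₂.symm)))))
  intro T w hw
  obtain ⟨φ, hφ⟩ := Localization.exists_rightFraction L W ((L.objObjPreimageIso T).hom ≫ w)
  have h0 : L.map φ.s ≫ (L.objObjPreimageIso T).hom ≫ w = L.map φ.f := by
    rw [hφ, MorphismProperty.RightFraction.map_s_comp_map]
  have h1 : L.map (φ.f ≫ f) = 0 := by
    rw [L.map_comp, ← h0, Category.assoc, Category.assoc, hw, comp_zero, comp_zero]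
  obtain ⟨Z', t, ht, fac⟩ := (map_eq_zero_iff_precomp W L _).1 h1
  rw [← Category.assoc] at fac
  have := Localization.inverts L W t ht
  have := Localization.inverts L W φ.s φ.hs
  refine ⟨(L.objObjPreimageIso T).inv ≫ inv (L.map φ.s) ≫ inv (L.map t) ≫
    L.map (kernel.lift _ _ fac), ?_⟩
  rw [Category.assoc, Category.assoc, Category.assoc, ← L.map_comp, kernel.lift_ι, L.map_comp,
    IsIso.inv_hom_id_assoc, ← h0, IsIso.inv_hom_id_assoc, Iso.inv_hom_id_assoc]

omit [W.HasRightCalculusOfFractions] in
lemma preservesCokernel {X Y : C} (f : X ⟶ Y) :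
    PreservesColimit (parallelPair f 0) L := by
  have := preservesEpimorphisms W L
  have := Localization.essSurj L W
  suffices ∀ (T : D) (z : L.obj Y ⟶ T) (hz : L.map f ≫ z = 0),
      ∃ (l : L.obj (cokernel f) ⟶ T), L.map (cokernel.π f) ≫ l = z from
    preservesColimit_of_preserves_colimit_cocone (cokernelIsCokernel f)
      ((CokernelCofork.isColimitMapCoconeEquiv _ L).2
        (Cofork.IsColimit.ofExistsUnique
          (fun s ↦ existsUnique_of_exists_of_unique
            (this _ _ (CokernelCofork.condition s))
            (fun _ _ h₁ h₂ ↦ (cancel_epi (L.map (cokernel.π f))).1 (h₁.trans h₂.symm)))))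
  intro T w hw
  obtain ⟨φ, hφ⟩ := Localization.exists_leftFraction L W (w ≫ (L.objObjPreimageIso T).inv)
  have h0 : L.map φ.f = w ≫ (L.objObjPreimageIso T).inv ≫ L.map φ.s := by
    rw [← Category.assoc, hφ, MorphismProperty.LeftFraction.map_comp_map_s]
  have h1 : L.map (f ≫ φ.f) = 0 := by
    rw [L.map_comp, h0, reassoc_of% hw, zero_comp]
  obtain ⟨Z', t, ht, fac⟩ := (map_eq_zero_iff_postcomp W L _).1 h1
  rw [Category.assoc] at fac
  have := Localization.inverts L W t ht
  have := Localization.inverts L W φ.s φ.hs
  refine ⟨L.map (cokernel.desc _ _ fac) ≫ inv (L.map t) ≫ inv (L.map φ.s) ≫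
    (L.objObjPreimageIso T).hom, ?_⟩
  rw [← L.map_comp_assoc, cokernel.π_desc, L.map_comp, Category.assoc,
    IsIso.hom_inv_id_assoc, h0]
  simp


lemma hasKernels : HasKernels D where
  has_limit f := by
    obtain ⟨g, ⟨e⟩⟩ := (Localization.essSurj_mapArrow L W).mem_essImage (Arrow.mk f)
    have := preservesKernel W L g.hom
    have : HasLimit (parallelPair (L.map g.hom) 0) :=
      ⟨_, (KernelFork.isLimitMapConeEquiv _ L).1
        (isLimitOfPreserves L (kernelIsKernel g.hom))⟩
    exact hasLimit_of_iso (show parallelPair (L.map g.hom) 0 ≅ _ from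
      parallelPair.ext (Arrow.leftFunc.mapIso e) (Arrow.rightFunc.mapIso e)
        (by simp only [parallelPair_map_left, Functor.mapIso_hom]; exact (Arrow.w e.hom).symm)
        (by simp only [parallelPair_map_right, zero_comp, comp_zero]))

lemma hasCokernels : HasCokernels D where
  has_colimit f := by
    obtain ⟨g, ⟨e⟩⟩ := (Localization.essSurj_mapArrow L W).mem_essImage (Arrow.mk f)
    have := preservesCokernel W L g.hom
    have : HasColimit (parallelPair (L.map g.hom) 0) :=
      ⟨_, (CokernelCofork.isColimitMapCoconeEquiv _ L).1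
        (isColimitOfPreserves L (cokernelIsCokernel g.hom))⟩
    exact hasColimit_of_iso (show _ ≅ parallelPair (L.map g.hom) 0 from
      parallelPair.ext (Arrow.leftFunc.mapIso e.symm) (Arrow.rightFunc.mapIso e.symm)
        (by simp only [parallelPair_map_left, Functor.mapIso_hom, Iso.symm_hom];
            exact (Arrow.w e.inv).symm)
        (by simp only [parallelPair_map_right, zero_comp, comp_zero]))

lemma hasFiniteProducts : HasFiniteProducts D :=
  have := Localization.essSurj L W
  L.hasFiniteProducts_of_additive_of_essSurj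

/-- if `L.map f` is a mono then `L` inverts the projection onto the coimage -/
lemma isIso_map_coimage_π {X Y : C} (f : X ⟶ Y) [Mono (L.map f)] :
    IsIso (L.map (Abelian.coimage.π f)) := by
  have h0 : L.map (kernel.ι f) = 0 := by
    rw [← cancel_mono (L.map f), zero_comp, ← L.map_comp, kernel.condition, L.map_zero]
  have := preservesCokernel W L (kernel.ι f)
  have hc := (CokernelCofork.isColimitMapCoconeEquiv _ L).1
    (isColimitOfPreserves L (cokernelIsCokernel (kernel.ι f)))
  exact CokernelCofork.IsColimit.isIso_π _ hc h0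

/-- if `L.map f` is an epi then `L` inverts the inclusion of the image -/
lemma isIso_map_image_ι {X Y : C} (f : X ⟶ Y) [Epi (L.map f)] :
    IsIso (L.map (Abelian.image.ι f)) := by
  have h0 : L.map (cokernel.π f) = 0 := by
    rw [← cancel_epi (L.map f), comp_zero, ← L.map_comp, cokernel.condition, L.map_zero]
  have := preservesKernel W L (cokernel.π f)
  have hc := (KernelFork.isLimitMapConeEquiv _ L).1
    (isLimitOfPreserves L (kernelIsKernel (cokernel.π f)))
  exact KernelFork.IsLimit.isIso_ι _ hc h0


lemma exists_mono_of_mono {X Y : D} (f : X ⟶ Y) [Mono f] :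
    ∃ (X' Y' : C) (f' : X' ⟶ Y') (_ : Mono f'),
      Nonempty (Arrow.mk (L.map f') ≅ Arrow.mk f) := by
  have := Localization.essSurj_mapArrow L W
  let e := L.mapArrow.objObjPreimageIso (Arrow.mk f)
  have hm : Mono (L.map (L.mapArrow.objPreimage (Arrow.mk f)).hom) :=
    ((MorphismProperty.monomorphisms D).arrow_iso_iff e).2 (.infer_property f)
  have := isIso_map_coimage_π W L (L.mapArrow.objPreimage (Arrow.mk f)).hom
  refine ⟨_, _, Abelian.factorThruCoimage (L.mapArrow.objPreimage (Arrow.mk f)).hom,
    inferInstance, ⟨?_ ≪≫ e⟩⟩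
  refine (Arrow.isoMk (f := Arrow.mk (L.map (L.mapArrow.objPreimage (Arrow.mk f)).hom))
    (g := Arrow.mk (L.map (Abelian.factorThruCoimage (L.mapArrow.objPreimage (Arrow.mk f)).hom)))
    (asIso (L.map (Abelian.coimage.π (L.mapArrow.objPreimage (Arrow.mk f)).hom)))
    (Iso.refl _) ?_).symm
  simp [← L.map_comp]

lemma exists_epi_of_epi {X Y : D} (f : X ⟶ Y) [Epi f] :
    ∃ (X' Y' : C) (f' : X' ⟶ Y') (_ : Epi f'),
      Nonempty (Arrow.mk (L.map f') ≅ Arrow.mk f) := by
  have := Localization.essSurj_mapArrow L W
  let e := L.mapArrow.objObjPreimageIso (Arrow.mk f)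
  have hm : Epi (L.map (L.mapArrow.objPreimage (Arrow.mk f)).hom) :=
    ((MorphismProperty.epimorphisms D).arrow_iso_iff e).2 (.infer_property f)
  have := isIso_map_image_ι W L (L.mapArrow.objPreimage (Arrow.mk f)).hom
  refine ⟨_, _, Abelian.factorThruImage (L.mapArrow.objPreimage (Arrow.mk f)).hom,
    inferInstance, ⟨?_ ≪≫ e⟩⟩
  refine Arrow.isoMk
    (f := Arrow.mk (L.map (Abelian.factorThruImage (L.mapArrow.objPreimage (Arrow.mk f)).hom)))
    (g := Arrow.mk (L.map (L.mapArrow.objPreimage (Arrow.mk f)).hom))
    (Iso.refl _)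
    (asIso (L.map (Abelian.image.ι (L.mapArrow.objPreimage (Arrow.mk f)).hom))) ?_
  simp [← L.map_comp]

lemma isNormalMonoCategory : IsNormalMonoCategory D where
  normalMonoOfMono f hf := by
    obtain ⟨X', Y', f', _, ⟨e⟩⟩ := exists_mono_of_mono W L f
    let hf' := normalMonoOfMono f'
    have := preservesKernel W L hf'.g
    refine ⟨NormalMono.ofArrowIso ?_ e⟩
    exact {
      Z := L.obj hf'.Z
      g := L.map hf'.g
      w := by rw [← L.map_comp]; simp [hf'.w]
      isLimit :=
        (KernelFork.isLimitMapConeEquiv _ L).1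
          (isLimitOfPreserves L hf'.isLimit) }

lemma isNormalEpiCategory : IsNormalEpiCategory D where
  normalEpiOfEpi f hf := by
    obtain ⟨X', Y', f', _, ⟨e⟩⟩ := exists_epi_of_epi W L f
    let hf' := normalEpiOfEpi f'
    have := preservesCokernel W L hf'.g
    refine ⟨NormalEpi.ofArrowIso ?_ e⟩
    exact {
      W := L.obj hf'.W
      g := L.map hf'.g
      w := by rw [← L.map_comp]; simp [hf'.w]
      isColimit :=
        (CokernelCofork.isColimitMapCoconeEquiv _ L).1
          (isColimitOfPreserves L hf'.isColimit) }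

/-- the abelian category structure -/
@[instance_reducible]
noncomputable def abelian : Abelian D := by
  have := hasFiniteProducts W L
  have := hasKernels W L
  have := hasCokernels W L
  have := isNormalMonoCategory W L
  have := isNormalEpiCategory W L
  constructor

lemma preservesFiniteLimits : PreservesFiniteLimits L := by
  have : HasZeroObject D := L.hasZeroObject_of_additive
  have : ∀ {X Y : C} (f : X ⟶ Y), PreservesLimit (parallelPair f 0) L :=
    fun f => preservesKernel W L f
  exact Functor.preservesFiniteLimits_of_preservesKernels L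

lemma preservesFiniteColimits : PreservesFiniteColimits L := by
  have : HasZeroObject D := L.hasZeroObject_of_additive
  have : ∀ {X Y : C} (f : X ⟶ Y), PreservesColimit (parallelPair f 0) L :=
    fun f => preservesCokernel W L f
  exact Functor.preservesFiniteColimits_of_preservesCokernels L

end



/-- Let A be an abelian category, W a class of morphisms admitting both left and right calculus of
fractions, and L : A ⥤ D a localization functor for W. Then D admits the structure of an abelian
category and L is exact (preserves finite limits and finite colimits). -/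
theorem result {A : Type u} [Category.{v} A] [Abelian A]
    (W : MorphismProperty A) [W.HasLeftCalculusOfFractions] [W.HasRightCalculusOfFractions]
    {D : Type u'} [Category.{v'} D] (L : A ⥤ D) [L.IsLocalization W] :
    Nonempty (Abelian D) ∧ PreservesFiniteLimits L ∧ PreservesFiniteColimits L := by
  let _ := Localization.preadditive L W
  have := Localization.functor_additive L W
  exact ⟨⟨abelian W L⟩, preservesFiniteLimits W L, preservesFiniteColimits W L⟩

end Groth.Agent.S1072
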