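import Groth.Statements.S10721
import Groth.Agent.Lib.Helper41.EtGlueTorsion
import Mathlib

set_option autoImplicit false
universe u
open TensorProduct
open EtAlg

namespace Groth.Agent.S10721

/-- Glueing along a glueing pair detects closed immersions of affine schemes, stated for coordinate
rings. Let `(R → R', f)` be a glueing pair and `φ : A → B` a homomorphism of `R`-algebras with `A`,
`B` glueable as `R`-modules (so `Spec A`, `Spec B` are affine and glueable over `Spec R`). Then `φ`
is surjective (a closed immersion on spectra) if and only if `A_f → B_f` and `R' ⊗_R A → R' ⊗_R B`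
are surjective. -/
theorem result (R : Type u) [CommRing R] (R' : Type u) [CommRing R'] [Algebra R R'] (f : R)
    (hRR' : EtGlue.IsGlueingPair R R' f) (A B : Type u) [CommRing A] [Algebra R A] [CommRing B] [Algebra R B]
    (hA : EtGlue.IsGlueable R R' f A) (hB : EtGlue.IsGlueable R R' f B) (φ : A →ₐ[R] B) :
    Function.Surjective φ ↔
      Function.Surjective (Localization.awayMap φ.toRingHom (algebraMap R A f)) ∧ Function.Surjective (Algebra.TensorProduct.map (AlgHom.id R R') φ).toRingHom := by
  classical
  have hq := hRR'.1
  have hcoe : ∀ x : R' ⊗[R] A, (Algebra.TensorProduct.map (AlgHom.id R R') φ).toRingHom x =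
      (φ.toLinearMap.lTensor R') x := by
    intro x
    induction x using TensorProduct.induction_on with
    | zero => simp
    | tmul x y => simp
    | add x y hx hy => rw [map_add, map_add, hx, hy]
  constructor
  · intro hφ
    refine ⟨?_, ?_⟩
    · rw [Localization.awayMap_surjective_iff]
      intro b
      obtain ⟨a, rfl⟩ := hφ b
      exact ⟨a, 0, by simp⟩
    · intro z
      obtain ⟨w, hw⟩ := LinearMap.lTensor_surjective R' (g := φ.toLinearMap) hφ z
      exact ⟨w, (hcoe w).trans hw⟩
  · rintro ⟨h1, h2⟩
    rw [Localization.awayMap_surjective_iff] at h1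
    let P : Submodule R B := LinearMap.range φ.toLinearMap
    have htors : ∀ q : B ⧸ P, ∃ n : ℕ, f ^ n • q = 0 := by
      intro q
      obtain ⟨b, rfl⟩ := Submodule.Quotient.mk_surjective P q
      obtain ⟨a, m, ham⟩ := h1 b
      refine ⟨m, ?_⟩
      rw [← Submodule.Quotient.mk_smul, Submodule.Quotient.mk_eq_zero]
      refine ⟨a, ?_⟩
      change φ a = f ^ m • b
      have : φ.toRingHom (algebraMap R A f) = algebraMap R B f := φ.commutes f
      rw [AlgHom.toRingHom_eq_coe, RingHom.coe_coe] at ham
      rw [ham, φ.commutes, Algebra.smul_def, map_pow]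
    have hzero : Subsingleton (R' ⊗[R] (B ⧸ P)) := by
      have hqs : Function.Surjective (P.mkQ.lTensor R') :=
        LinearMap.lTensor_surjective R' (Submodule.mkQ_surjective P)
      have hkill : ∀ z : R' ⊗[R] B, P.mkQ.lTensor R' z = 0 := by
        intro z
        obtain ⟨w, hw⟩ := h2 z
        rw [← hw, hcoe, ← LinearMap.comp_apply, ← LinearMap.lTensor_comp]
        have : P.mkQ ∘ₗ φ.toLinearMap = 0 := by
          ext a
          simp only [LinearMap.coe_comp, Function.comp_apply, Submodule.mkQ_apply,
            LinearMap.zero_apply, Submodule.Quotient.mk_eq_zero]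
          exact ⟨a, rfl⟩
        rw [this, LinearMap.lTensor_zero, LinearMap.zero_apply]
      refine ⟨fun a b => ?_⟩
      obtain ⟨a', rfl⟩ := hqs a
      obtain ⟨b', rfl⟩ := hqs b
      rw [hkill, hkill]
    have hQ : Subsingleton (B ⧸ P) :=
      Groth.Agent.Lib.Helper41.EtGlueTorsion.subsingleton_of_fPowTorsion hq htors hzero
    have hP : P = ⊤ := Submodule.Quotient.subsingleton_iff.mp hQ
    intro b
    have : b ∈ P := by rw [hP]; trivial
    obtain ⟨a, ha⟩ := this
    exact ⟨a, ha⟩

end Groth.Agent.S10721
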