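import Groth.Statements.S10722
import Groth.Agent.Lib.Helper41.GluePairAlg
import Mathlib

set_option autoImplicit false
universe u
open TensorProduct
open EtAlg

namespace Groth.Agent.S10722

/-- Glueing along a glueing pair detects finite type morphisms of affine schemes, stated for coordinate
rings. Let `(R → R', f)` be a glueing pair and `φ : A → B` a homomorphism of `R`-algebras with `A`,
`B` glueable as `R`-modules (so `Spec A`, `Spec B` are affine and glueable over `Spec R`). Then `φ`
is of finite type if and only if `A_f → B_f` and `R' ⊗_R A → R' ⊗_R B` are. -/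
theorem result (R : Type u) [CommRing R] (R' : Type u) [CommRing R'] [Algebra R R'] (f : R)
    (hRR' : EtGlue.IsGlueingPair R R' f) (A B : Type u) [CommRing A] [Algebra R A] [CommRing B] [Algebra R B]
    (hA : EtGlue.IsGlueable R R' f A) (hB : EtGlue.IsGlueable R R' f B) (φ : A →ₐ[R] B) :
    φ.toRingHom.FiniteType ↔ (Localization.awayMap φ.toRingHom (algebraMap R A f)).FiniteType ∧ (Algebra.TensorProduct.map (AlgHom.id R R') φ).toRingHom.FiniteType := by
  classical
  have hq := hRR'.1
  constructor
  · intro h
    exact ⟨RingHom.localization_away_map_finiteType A B _ _ φ.toRingHom (algebraMap R A f) h,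
      Groth.Agent.Lib.Helper41.GluePairAlg.finiteType_tensorMap φ h⟩
  · rintro ⟨H1, H2⟩
    algebraize [φ.toRingHom]
    have hφ : ∀ a : A, algebraMap A B a = φ a := fun a => rfl
    have : IsScalarTower R A B := IsScalarTower.of_algebraMap_eq (fun r => (φ.commutes r).symm)
    -- Step 1
    obtain ⟨t₁, ht₁⟩ : ∃ t₁ : Finset B, ∀ b : B, ∃ N : ℕ,
        f ^ N • b ∈ Algebra.adjoin A (t₁ : Set B) := by
      algebraize [Localization.awayMap φ.toRingHom (algebraMap R A f)]
      have hst : IsScalarTower A (Localization.Away (algebraMap R A f))
          (Localization.Away (φ.toRingHom (algebraMap R A f))) := by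
        apply IsScalarTower.of_algebraMap_eq'
        rw [IsScalarTower.algebraMap_eq A B (Localization.Away (φ.toRingHom (algebraMap R A f)))]
        change _ = (Localization.awayMap φ.toRingHom (algebraMap R A f)).comp _
        simp only [Localization.awayMap, IsLocalization.Away.map, IsLocalization.map_comp]
        rfl
      have hloc : IsLocalization ((Submonoid.powers (algebraMap R A f)).map (algebraMap A B))
          (Localization.Away (φ.toRingHom (algebraMap R A f))) := by
        rw [Submonoid.map_powers]
        exact (inferInstance : IsLocalization.Away (φ.toRingHom (algebraMap R A f))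
          (Localization.Away (φ.toRingHom (algebraMap R A f))))
      obtain ⟨s, hs⟩ := (inferInstance : Algebra.FiniteType (Localization.Away (algebraMap R A f))
          (Localization.Away (φ.toRingHom (algebraMap R A f)))).out
      refine ⟨IsLocalization.finsetIntegerMultiple
        ((Submonoid.powers (algebraMap R A f)).map (algebraMap A B)) s, fun b => ?_⟩
      obtain ⟨⟨_, k, rfl⟩, hk⟩ := multiple_mem_adjoin_of_mem_localization_adjoin
        (Submonoid.powers (algebraMap R A f)) (Localization.Away (algebraMap R A f))
        (s : Set (Localization.Away (φ.toRingHom (algebraMap R A f))))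
        (algebraMap B _ b) (by rw [hs]; trivial)
      have hk' : algebraMap B (Localization.Away (φ.toRingHom (algebraMap R A f)))
          ((algebraMap R A f) ^ k • b) ∈ Algebra.adjoin A
            (s : Set (Localization.Away (φ.toRingHom (algebraMap R A f)))) := by
        rw [Submonoid.smul_def] at hk
        rw [Algebra.smul_def, map_mul, ← IsScalarTower.algebraMap_apply, ← Algebra.smul_def]
        exact hk
      obtain ⟨⟨_, j, rfl⟩, hj⟩ := IsLocalization.lift_mem_adjoin_finsetIntegerMultiple
        (Submonoid.powers (algebraMap R A f)) _ s hk'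
      refine ⟨j + k, ?_⟩
      rw [Submonoid.smul_def, smul_smul, ← pow_add, ← map_pow, algebraMap_smul] at hj
      exact hj
    -- Step 2
    obtain ⟨t₂, ht₂⟩ : ∃ t₂ : Finset B, ∀ B₀ : Subalgebra A B, (t₂ : Set B) ⊆ B₀ →
        Function.Surjective (((B₀.restrictScalars R).val.toLinearMap).lTensor R') := by
      algebraize [(Algebra.TensorProduct.map (AlgHom.id R R') φ).toRingHom]
      have hψ : ∀ z : R' ⊗[R] A, algebraMap (R' ⊗[R] A) (R' ⊗[R] B) z =
          Algebra.TensorProduct.map (AlgHom.id R R') φ z := fun z => rfl
      obtain ⟨s₂, hs₂⟩ := (inferInstance : Algebra.FiniteType (R' ⊗[R] A) (R' ⊗[R] B)).out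
      obtain ⟨N', hN', hsN'⟩ := TensorProduct.exists_finite_submodule_right_of_setFinite
        (s₂ : Set (R' ⊗[R] B)) s₂.finite_toSet
      obtain ⟨t₂, ht₂⟩ := (Submodule.fg_top N').mp (Module.finite_def.mp hN')
      refine ⟨t₂, fun B₀ hB₀ => ?_⟩
      have hN'B₀ : N' ≤ Subalgebra.toSubmodule (B₀.restrictScalars R) := by
        rw [← ht₂, Submodule.span_le]
        exact hB₀
      -- the range of `R' ⊗ B₀ → R' ⊗ B` as a subalgebra over `R' ⊗ A`
      let Θ : R' ⊗[R] (B₀.restrictScalars R) →ₐ[R] R' ⊗[R] B :=
        Algebra.TensorProduct.map (AlgHom.id R R') (B₀.restrictScalars R).val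
      have hΘ : ∀ w, Θ w = ((B₀.restrictScalars R).val.toLinearMap).lTensor R' w := by
        intro w
        induction w using TensorProduct.induction_on with
        | zero => simp
        | tmul x y => simp [Θ]
        | add x y hx hy => rw [map_add, map_add, hx, hy]
      let T : Subalgebra (R' ⊗[R] A) (R' ⊗[R] B) :=
        { Θ.range.toSubsemiring with
          algebraMap_mem' := by
            intro z
            change algebraMap (R' ⊗[R] A) (R' ⊗[R] B) z ∈ Θ.range
            rw [hψ]
            induction z using TensorProduct.induction_on with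
            | zero => rw [map_zero]; exact Θ.range.zero_mem
            | tmul r' a =>
              refine ⟨r' ⊗ₜ[R] ⟨φ a, ?_⟩, ?_⟩
              · change φ a ∈ B₀
                rw [← hφ]
                exact B₀.algebraMap_mem a
              · simp [Θ]
            | add x y hx hy => rw [map_add]; exact Θ.range.add_mem hx hy }
      have hT : T = ⊤ := by
        rw [eq_top_iff, ← hs₂]
        apply Algebra.adjoin_le
        intro z hz
        obtain ⟨w, hw⟩ := hsN' hz
        change z ∈ Θ.range
        refine ⟨(Submodule.inclusion hN'B₀).lTensor R' w, ?_⟩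
        change Θ ((Submodule.inclusion hN'B₀).lTensor R' w) = z
        rw [hΘ, ← hw, ← LinearMap.comp_apply, ← LinearMap.lTensor_comp]
        rfl
      intro z
      have hz : z ∈ T := by rw [hT]; trivial
      obtain ⟨w, hw⟩ := hz
      exact ⟨w, (hΘ w).symm.trans hw⟩
    let B₀ : Subalgebra A B := Algebra.adjoin A ((t₁ ∪ t₂ : Finset B) : Set B)
    have hB₀ : B₀ = ⊤ := by
      apply Groth.Agent.Lib.Helper41.GluePairAlg.subalgebra_eq_top hq B₀
      · intro b
        obtain ⟨N, hN⟩ := ht₁ b
        refine ⟨N, Algebra.adjoin_mono ?_ hN⟩
        rw [Finset.coe_union]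
        exact Set.subset_union_left
      · apply ht₂
        refine subset_trans ?_ Algebra.subset_adjoin
        rw [Finset.coe_union]
        exact Set.subset_union_right
    change Algebra.FiniteType A B
    exact ⟨⟨t₁ ∪ t₂, hB₀⟩⟩

end Groth.Agent.S10722
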