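import Groth.Statements.S10723
import Groth.Agent.Lib.Helper41.GluePairFlatAlg
import Groth.Agent.Lib.Helper41.GluePairTransfer
import Groth.Agent.Lib.Helper41.GluePairFP
import Groth.Agent.S10722
import Mathlib

set_option autoImplicit false
universe u
open TensorProduct
open EtAlg

namespace Groth.Agent.S10723

/-- Glueing along a glueing pair detects morphisms of affine schemes that are flat and of finite
presentation, stated for coordinate rings. Let `(R → R', f)` be a glueing pair and `φ : A → B` a
homomorphism of `R`-algebras with `A`, `B` glueable as `R`-modules (so `Spec A`, `Spec B` are affine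
and glueable over `Spec R`). Then `φ` is flat and of finite presentation if and only if `A_f → B_f`
and `R' ⊗_R A → R' ⊗_R B` are. -/
theorem result (R : Type u) [CommRing R] (R' : Type u) [CommRing R'] [Algebra R R'] (f : R)
    (hRR' : EtGlue.IsGlueingPair R R' f) (A B : Type u) [CommRing A] [Algebra R A] [CommRing B] [Algebra R B]
    (hA : EtGlue.IsGlueable R R' f A) (hB : EtGlue.IsGlueable R R' f B) (φ : A →ₐ[R] B) :
    (φ.toRingHom.Flat ∧ φ.toRingHom.FinitePresentation) ↔
      ((Localization.awayMap φ.toRingHom (algebraMap R A f)).Flat ∧ (Localization.awayMap φ.toRingHom (algebraMap R A f)).FinitePresentation) ∧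
        ((Algebra.TensorProduct.map (AlgHom.id R R') φ).toRingHom.Flat ∧ (Algebra.TensorProduct.map (AlgHom.id R R') φ).toRingHom.FinitePresentation) := by
  classical
  constructor
  · rintro ⟨hfl, hfp⟩
    refine ⟨⟨?_, ?_⟩, ⟨?_, ?_⟩⟩
    · exact RingHom.Flat.propertyIsLocal.localizationAwayPreserves φ.toRingHom
        (algebraMap R A f) _ _ hfl
    · exact RingHom.finitePresentation_isLocal.localizationAwayPreserves φ.toRingHom
        (algebraMap R A f) _ _ hfp
    · exact RingHom.Flat.lTensor (S := R) R' (f := φ) hfl
    · algebraize [φ.toRingHom]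
      have : IsScalarTower R A B := IsScalarTower.of_algebraMap_eq (fun r => (φ.commutes r).symm)
      have hφ : IsScalarTower.toAlgHom R A B = φ := AlgHom.ext fun _ => rfl
      let _ : Algebra A (R' ⊗[R] A) := Algebra.TensorProduct.rightAlgebra
      rw [← hφ, Groth.Agent.Lib.Helper41.GluePairTransfer.tensorMap_iff
        RingHom.finitePresentation_respectsIso]
      exact RingHom.finitePresentation_isStableUnderBaseChange.tensorProduct (R' ⊗[R] A) hfp
  · rintro ⟨⟨H1f, H1p⟩, ⟨H2f, H2p⟩⟩
    have hfl := Groth.Agent.Lib.Helper41.GluePairFlatAlg.flat_of_glue_alg hRR' A B hA φ H1f H2f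
    have hft : φ.toRingHom.FiniteType :=
      (Groth.Agent.S10722.result R R' f hRR' A B hA hB φ).mpr
        ⟨RingHom.FiniteType.of_finitePresentation H1p,
          RingHom.FiniteType.of_finitePresentation H2p⟩
    refine ⟨hfl, ?_⟩
    algebraize [φ.toRingHom]
    have : IsScalarTower R A B := IsScalarTower.of_algebraMap_eq (fun r => (φ.commutes r).symm)
    have hφ : IsScalarTower.toAlgHom R A B = φ := AlgHom.ext fun _ => rfl
    let _ : Algebra A (R' ⊗[R] A) := Algebra.TensorProduct.rightAlgebra
    have hq := Groth.Agent.Lib.Helper41.GluePairBase.quotPowBijective_baseChange hRR'.1 A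
    have i1 : Algebra.FinitePresentation (R' ⊗[R] A) ((R' ⊗[R] A) ⊗[A] B) := by
      rw [← RingHom.finitePresentation_algebraMap,
        ← Groth.Agent.Lib.Helper41.GluePairTransfer.tensorMap_iff
          RingHom.finitePresentation_respectsIso, hφ]
      exact H2p
    have i2 : Algebra.FinitePresentation (Localization.Away (algebraMap R A f))
        (Localization.Away (algebraMap R A f) ⊗[A] B) := by
      rw [← RingHom.finitePresentation_algebraMap,
        ← Groth.Agent.Lib.Helper41.GluePairTransfer.awayMap_iff
          RingHom.finitePresentation_respectsIso]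
      exact H1p
    exact Groth.Agent.Lib.Helper41.GluePairFP.finitePresentation_of_glue hq B

end Groth.Agent.S10723
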