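import Groth.Statements.S10724
import Groth.Agent.Lib.Helper41.GluePairTransfer
import Groth.Agent.Lib.Helper41.GluePairBase
import Groth.Agent.Lib.Helper41.GluePairUnram
import Groth.Agent.S10723
import Mathlib

set_option autoImplicit false
universe u
open TensorProduct
open EtAlg

namespace Groth.Agent.S10724

/-- Glueing along a glueing pair detects etale morphisms of affine schemes, stated for coordinate rings.
Let `(R → R', f)` be a glueing pair and `φ : A → B` a homomorphism of `R`-algebras with `A`, `B`
glueable as `R`-modules (so `Spec A`, `Spec B` are affine and glueable over `Spec R`). Then `φ` is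
etale if and only if `A_f → B_f` and `R' ⊗_R A → R' ⊗_R B` are. -/
theorem result (R : Type u) [CommRing R] (R' : Type u) [CommRing R'] [Algebra R R'] (f : R)
    (hRR' : EtGlue.IsGlueingPair R R' f) (A B : Type u) [CommRing A] [Algebra R A] [CommRing B] [Algebra R B]
    (hA : EtGlue.IsGlueable R R' f A) (hB : EtGlue.IsGlueable R R' f B) (φ : A →ₐ[R] B) :
    φ.toRingHom.Etale ↔ (Localization.awayMap φ.toRingHom (algebraMap R A f)).Etale ∧ (Algebra.TensorProduct.map (AlgHom.id R R') φ).toRingHom.Etale := by
  classical
  constructor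
  · intro h
    refine ⟨?_, ?_⟩
    · exact RingHom.Etale.propertyIsLocal.localizationAwayPreserves φ.toRingHom
        (algebraMap R A f) _ _ h
    · algebraize [φ.toRingHom]
      have : IsScalarTower R A B := IsScalarTower.of_algebraMap_eq (fun r => (φ.commutes r).symm)
      have hφ : IsScalarTower.toAlgHom R A B = φ := AlgHom.ext fun _ => rfl
      let _ : Algebra A (R' ⊗[R] A) := Algebra.TensorProduct.rightAlgebra
      rw [← hφ, Groth.Agent.Lib.Helper41.GluePairTransfer.tensorMap_iff
        RingHom.Etale.respectsIso]
      exact RingHom.Etale.isStableUnderBaseChange.tensorProduct (R' ⊗[R] A) h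
  · rintro ⟨H1, H2⟩
    rw [RingHom.Etale.iff_flat_and_formallyUnramified] at H1 H2 ⊢
    obtain ⟨H1f, H1u, H1p⟩ := H1
    obtain ⟨H2f, H2u, H2p⟩ := H2
    obtain ⟨hfl, hfp⟩ := (Groth.Agent.S10723.result R R' f hRR' A B hA hB φ).mpr
      ⟨⟨H1f, H1p⟩, ⟨H2f, H2p⟩⟩
    refine ⟨hfl, ?_, hfp⟩
    algebraize [φ.toRingHom]
    have : IsScalarTower R A B := IsScalarTower.of_algebraMap_eq (fun r => (φ.commutes r).symm)
    have hφ : IsScalarTower.toAlgHom R A B = φ := AlgHom.ext fun _ => rfl
    let _ : Algebra A (R' ⊗[R] A) := Algebra.TensorProduct.rightAlgebra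
    have hq := Groth.Agent.Lib.Helper41.GluePairBase.quotPowBijective_baseChange hRR'.1 A
    have i1 : Algebra.FormallyUnramified (R' ⊗[R] A) ((R' ⊗[R] A) ⊗[A] B) := by
      rw [← RingHom.formallyUnramified_algebraMap,
        ← Groth.Agent.Lib.Helper41.GluePairTransfer.tensorMap_iff
          RingHom.FormallyUnramified.respectsIso, hφ]
      exact H2u
    have i2 : Algebra.FormallyUnramified (Localization.Away (algebraMap R A f))
        (Localization.Away (algebraMap R A f) ⊗[A] B) := by
      rw [← RingHom.formallyUnramified_algebraMap,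
        ← Groth.Agent.Lib.Helper41.GluePairTransfer.awayMap_iff
          RingHom.FormallyUnramified.respectsIso]
      exact H1u
    exact Groth.Agent.Lib.Helper41.GluePairUnram.formallyUnramified_of_glue hq B

end Groth.Agent.S10724
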