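import Groth.Statements.S10742
import Groth.Agent.Lib.Helper21.TildeEtCoh

set_option autoImplicit false
universe u
open CategoryTheory CategoryTheory.Limits AlgebraicGeometry Opposite
open AlgSp

namespace Groth.Agent.S10742

/-- Let X be a locally Noetherian algebraic space over S and φ : M ⟶ N a morphism of coherent
O_X-modules on the small etale site of X (coherent meaning of finite presentation, X being locally
Noetherian). Then the kernel and the cokernel of φ are coherent. -/
theorem result {S : Scheme.{u}} (X : AlgSp.Space S)
    (hX : AlgSp.IsLocNoethSp X.obj) {M N : AlgSp.ModEt X.obj} [M.IsFinitePresentation] [N.IsFinitePresentation]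
    (φ : M ⟶ N) :
    (kernel φ).IsFinitePresentation ∧ (cokernel φ).IsFinitePresentation := by
  have hM := Groth.Agent.Lib.Helper21.Tilde.isBCEt_of_isQuasicoherent M
  have hN := Groth.Agent.Lib.Helper21.Tilde.isBCEt_of_isQuasicoherent N
  constructor
  · refine Groth.Agent.Lib.Helper21.Tilde.isFinitePresentation_of_finite_et hX _ (Groth.Agent.Lib.Helper21.Tilde.IsBCEt.kernel φ hM hN)
      (fun E hE => ?_)
    have := Groth.Agent.Lib.Helper21.Tilde.finite_sections_et M E hE
    have := Groth.Agent.Lib.Helper21.Tilde.isNoetherianRing_sections_et hX E hE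
    exact Module.Finite.of_injective ((kernel.ι φ).val.app (Opposite.op E)).hom
      (Groth.Agent.Lib.Helper21.Tilde.injective_of_mono_et (kernel.ι φ) E)
  · have hC := Groth.Agent.Lib.Helper21.Tilde.IsBCEt.cokernel φ hM hN
    refine Groth.Agent.Lib.Helper21.Tilde.isFinitePresentation_of_finite_et hX _ hC (fun E hE => ?_)
    have := Groth.Agent.Lib.Helper21.Tilde.finite_sections_et N E hE
    exact Module.Finite.of_surjective ((cokernel.π φ).val.app (Opposite.op E)).hom
      (Groth.Agent.Lib.Helper21.Tilde.IsBCEt.surjective_of_epi (cokernel.π φ) hN hC E hE)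

end Groth.Agent.S10742
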