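import Groth.Statements.S10743
import Groth.Agent.Lib.Helper21.TildeEtExt

set_option autoImplicit false
universe u
open CategoryTheory CategoryTheory.Limits AlgebraicGeometry Opposite
open AlgSp

namespace Groth.Agent.S10743

/-- Let X be a locally Noetherian algebraic space over S and 0 ⟶ M₁ ⟶ M₂ ⟶ M₃ ⟶ 0 a short exact sequence
of O_X-modules on the small etale site of X with M₁ and M₃ coherent (of finite presentation, X being
locally Noetherian). Then M₂ is coherent. -/
theorem result {S : Scheme.{u}} (X : AlgSp.Space S)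
    (hX : AlgSp.IsLocNoethSp X.obj) (T : ShortComplex (AlgSp.ModEt X.obj)) (hT : T.ShortExact)
    [T.X₁.IsFinitePresentation] [T.X₃.IsFinitePresentation] :
    T.X₂.IsFinitePresentation := by
  have h₁ := Groth.Agent.Lib.Helper21.Tilde.isBCEt_of_isQuasicoherent T.X₁
  have h₃ := Groth.Agent.Lib.Helper21.Tilde.isBCEt_of_isQuasicoherent T.X₃
  have h₂ := Groth.Agent.Lib.Helper21.Tilde.IsBCEt.of_shortExact T hT h₁ h₃
  refine Groth.Agent.Lib.Helper21.Tilde.isFinitePresentation_of_finite_et hX T.X₂ h₂ (fun E hE => ?_)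
  have := Groth.Agent.Lib.Helper21.Tilde.finite_sections_et T.X₁ E hE
  have := Groth.Agent.Lib.Helper21.Tilde.finite_sections_et T.X₃ E hE
  have := Groth.Agent.Lib.Helper21.Tilde.isNoetherianRing_sections_et hX E hE
  have hl := Groth.Agent.Lib.Helper21.Tilde.sections_leftExact T.f T.g T.zero hT.fIsKernel (Opposite.op E)
  have hN₁ : IsNoetherian ((AlgSp.OEtRing X.obj).obj.obj (Opposite.op E))
      (T.X₁.val.obj (Opposite.op E)) := isNoetherian_of_isNoetherianRing_of_finite _ _
  have hN₃ : IsNoetherian ((AlgSp.OEtRing X.obj).obj.obj (Opposite.op E))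
      (T.X₃.val.obj (Opposite.op E)) := isNoetherian_of_isNoetherianRing_of_finite _ _
  have hN₂ : IsNoetherian ((AlgSp.OEtRing X.obj).obj.obj (Opposite.op E))
      (T.X₂.val.obj (Opposite.op E)) :=
    isNoetherian_of_range_eq_ker (T.f.val.app (Opposite.op E)).hom (T.g.val.app (Opposite.op E)).hom
      (LinearMap.exact_iff.1 hl.2).symm
  exact Module.IsNoetherian.finite _ _

end Groth.Agent.S10743
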