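import Groth.Statements.S10744
import Groth.Agent.Lib.Helper21.TildeEtCoh

set_option autoImplicit false
universe u
open CategoryTheory CategoryTheory.Limits AlgebraicGeometry Opposite
open AlgSp

namespace Groth.Agent.S10744

/-- Let X be a locally Noetherian algebraic space over S, M a coherent O_X-module on the small etale
site of X (of finite presentation, X being locally Noetherian) and N ⟶ M a monomorphism with N
quasi-coherent. Then N is coherent. -/
theorem result {S : Scheme.{u}} (X : AlgSp.Space S)
    (hX : AlgSp.IsLocNoethSp X.obj) {M N : AlgSp.ModEt X.obj} [M.IsFinitePresentation] (ι : N ⟶ M) [Mono ι]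
    [N.IsQuasicoherent] :
    N.IsFinitePresentation := by
  have hM := Groth.Agent.Lib.Helper21.Tilde.isBCEt_of_isQuasicoherent M
  have hN := Groth.Agent.Lib.Helper21.Tilde.isBCEt_of_isQuasicoherent N
  refine Groth.Agent.Lib.Helper21.Tilde.isFinitePresentation_of_finite_et hX N hN (fun E hE => ?_)
  have := Groth.Agent.Lib.Helper21.Tilde.finite_sections_et M E hE
  have := Groth.Agent.Lib.Helper21.Tilde.isNoetherianRing_sections_et hX E hE
  exact Module.Finite.of_injective (ι.val.app (Opposite.op E)).hom
    (Groth.Agent.Lib.Helper21.Tilde.injective_of_mono_et ι E)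

end Groth.Agent.S10744
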