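import Groth.Statements.S10745
import Groth.Agent.Lib.Helper21.TildeEtCoh

set_option autoImplicit false
universe u
open CategoryTheory CategoryTheory.Limits AlgebraicGeometry Opposite
open AlgSp

namespace Groth.Agent.S10745

/-- Let X be a locally Noetherian algebraic space over S, M a coherent O_X-module on the small etale
site of X (of finite presentation, X being locally Noetherian) and M ⟶ Q an epimorphism with Q
quasi-coherent. Then Q is coherent. -/
theorem result {S : Scheme.{u}} (X : AlgSp.Space S)
    (hX : AlgSp.IsLocNoethSp X.obj) {M Q : AlgSp.ModEt X.obj} [M.IsFinitePresentation] (π : M ⟶ Q) [Epi π]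
    [Q.IsQuasicoherent] :
    Q.IsFinitePresentation := by
  have hM := Groth.Agent.Lib.Helper21.Tilde.isBCEt_of_isQuasicoherent M
  have hQ := Groth.Agent.Lib.Helper21.Tilde.isBCEt_of_isQuasicoherent Q
  refine Groth.Agent.Lib.Helper21.Tilde.isFinitePresentation_of_finite_et hX Q hQ (fun E hE => ?_)
  have := Groth.Agent.Lib.Helper21.Tilde.finite_sections_et M E hE
  exact Module.Finite.of_surjective (π.val.app (Opposite.op E)).hom
    (Groth.Agent.Lib.Helper21.Tilde.IsBCEt.surjective_of_epi π hM hQ E hE)

end Groth.Agent.S10745
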