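import Groth.Statements.S10750
import Groth.Agent.S10650
import Groth.Agent.H52.FieldDiscrete
import Groth.Agent.H52.FibreConds2
import Groth.Agent.H53.QSDecentMor
import Groth.Agent.H53.Proper
import Groth.Agent.H52.FibreProd

set_option autoImplicit false
universe u
open CategoryTheory CategoryTheory.Limits AlgebraicGeometry Opposite
open AlgSp

namespace Groth.Agent.S10750

/-- Take a proper morphism f : X ⟶ Y of algebraic spaces over S whose target Y is locally Noetherian,
and let y be a geometric point of Y such that the fibre X_y (a pullback of f along the corresponding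
morphism from the spectrum of the algebraically closed field) has finitely many points. Then there
is an open subspace V of Y containing the image of y such that the base change X ×_Y V ⟶ V is
finite. -/
theorem result {S : Scheme.{u}} {X Y : AlgSp.Space S}
    (f : X ⟶ Y) (hY : AlgSp.IsLocNoethSp Y.obj) (hf : AlgSp.IsProperMor f.hom) (y : AlgSp.FieldPt Y.obj)
    (hy : y.IsGeometric) (Xy : AlgSp.Sp S) (fst : Xy ⟶ X.obj) (snd : Xy ⟶ (AlgSp.yon S).obj y.pt)
    (hsq : IsPullback fst snd f.hom y.toHom) (hfin : Finite (AlgSp.Points Xy)) :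
    ∃ (V : AlgSp.Space S) (j : V ⟶ Y), AlgSp.RepWith @IsOpenImmersion j.hom ∧
      AlgSp.Points.mk y ∈ Set.range (AlgSp.Points.map j.hom) ∧
        ∀ (P : AlgSp.Space S) (fst' : P ⟶ X) (snd' : P ⟶ V), IsPullback fst'.hom snd'.hom f.hom j.hom →
          AlgSp.IsFiniteMor snd'.hom := by
  have hXa : AlgSp.IsAlgSpace X.obj := X.property
  have hYa : AlgSp.IsAlgSpace Y.obj := Y.property
  have hlft : AlgSp.LocP @LocallyOfFiniteType f.hom := hf.2.1.1
  have hXy : AlgSp.IsAlgSpace Xy :=
    Groth.Agent.H52.isAlgSpace_of_isPullback hsq hXa hYa (AlgSp.IsAlgSpace.yon_obj _)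
  -- a separated morphism is quasi-separated, hence decent: the fibre is a decent space
  have hqs : AlgSp.IsQuasiSeparatedMor f.hom :=
    Groth.Agent.H53.repWith_of_le (fun _ _ φ hφ => by
      haveI : IsClosedImmersion φ := hφ
      infer_instance) hf.1
  have hdm : AlgSp.IsDecentMor f.hom :=
    Groth.Agent.H53.FieldQuot.isDecentMor_of_isQuasiSeparatedMor f hqs
  have hdec : AlgSp.IsDecent Xy := hdm y.toHom fst snd hsq
  have hsndlft : AlgSp.LocP @LocallyOfFiniteType snd :=
    Groth.Agent.H52.locP_lft_snd_fibre hXa hYa hlft y hsq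
  -- a decent space locally of finite type over a field with finitely many points is discrete
  haveI := hfin
  have hdisc : DiscreteTopology (AlgSp.Points Xy) :=
    Groth.Agent.H52.discreteTopology_points_of_finite_of_isDecent hXy hdec snd hsndlft
  -- hence `f` is quasi-finite at all points over `y`
  have hq := (Groth.Agent.H52.discreteTopology_fibre_iff_forall_lqfAt hXa hYa hXy f.hom hlft y
    hsq).1 hdisc
  obtain ⟨V, j, hj, hyV, hV⟩ := Groth.Agent.S10650.result f (AlgSp.Points.mk y) hf hq
  exact ⟨V, j, hj, hyV, hV⟩

end Groth.Agent.S10750
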