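import Groth.Statements.S10753
import Groth.Agent.Lib.Helper21.EtCartan.EtAffineH1
import Groth.Agent.H53.ZarGlueAff

set_option autoImplicit false
universe u
open CategoryTheory CategoryTheory.Limits AlgebraicGeometry Opposite
open AlgSp

namespace Groth.Agent.S10753

/-- Let X be a quasi-compact algebraic space, quasi-separated over a quasi-separated base scheme S, such
that H^1(X, M) = 0 for every quasi-coherent O_X-module M on the small etale site of X, and let f :
X' ⟶ X be an affine morphism of algebraic spaces. Then H^1(X', M') = 0 for every quasi-coherent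
O_{X'}-module M'. (The companion statement about base change along a ring map out of the ring of
global functions of X is not included.) -/
theorem result {S : Scheme.{u}} [QuasiSeparatedSpace ↥S]
    {X' X : AlgSp.Space S} (hqc : AlgSp.IsQuasiCompactSp X.obj) (hqs : AlgSp.IsQuasiSeparatedSp X.obj)
    (h1 : ∀ M : AlgSp.ModEt X.obj, M.IsQuasicoherent → Subsingleton (AlgSp.HModEt X.obj M 1))
    (f : X' ⟶ X) (haff : AlgSp.IsAffineMor f.hom)
    (M' : AlgSp.ModEt X'.obj) [M'.IsQuasicoherent] :
    Subsingleton (AlgSp.HModEt X'.obj M' 1) := by
  have hf : AlgSp.Representable f.hom := Groth.Agent.H53.ZarGlue.representable_of_isAffineMor haff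
  have hM' := Groth.Agent.Lib.Helper21.Tilde.isBCEt_of_isQuasicoherent M'
  have hpush := Groth.Agent.Lib.Helper21.EtCartan.isBCEt_pushModEt hf haff M' hM'
  exact Groth.Agent.Lib.Helper21.EtCartan.subsingleton_H1_of_isAffineMor hf haff X.property M' hM'
    (h1 ((AlgSp.pushModEt hf).obj M') hpush.isQuasicoherent)

end Groth.Agent.S10753
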