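import Groth.Statements.S1077
import Mathlib
import Groth.Agent.Lib.Helper6.SubobjectJH

set_option autoImplicit false
universe v u
open CategoryTheory CategoryTheory.Limits
open CohDer

namespace Groth.Agent.S1077

/-- An object X of an abelian category is Artinian and Noetherian if and only if there is a finite chain
of subobjects ⊥ = F₀ ≤ F₁ ≤ … ≤ Fₙ = ⊤ of X whose successive quotients Fᵢ₊₁/Fᵢ are simple. -/
theorem result {A : Type u} [Category.{v} A] [Abelian A] (X : A) :
    (IsArtinianObject X ∧ IsNoetherianObject X) ↔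
      ∃ (n : ℕ) (F : Fin (n + 1) → Subobject X) (hF : Monotone F), F 0 = ⊥ ∧ F (Fin.last n) = ⊤ ∧
        ∀ i : Fin n, Simple (cokernel (Subobject.ofLE (F (Fin.castSucc i)) (F (Fin.succ i)) (hF (Fin.castSucc_lt_succ (i := i)).le))) := by
  constructor
  · rintro ⟨hA, hN⟩
    obtain ⟨a, h0, n, hn, hc⟩ := exists_covBy_seq_of_wellFoundedLT_wellFoundedGT (Subobject X)
    have hmono : ∀ i : Fin n, a (Fin.castSucc i : Fin (n+1)) ≤ a (Fin.succ i : Fin (n+1)) := by
      intro i
      exact (hc i i.2).le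
    refine ⟨n, fun i => a i, ?_, ?_, ?_, ?_⟩
    · exact Fin.monotone_iff_le_succ.mpr hmono
    · exact h0.eq_bot
    · exact hn.eq_top
    · intro i
      exact (Lib.Helper6.SubJH.simple_quot_iff_covBy _ _ _).mpr (hc i i.2)
  · rintro ⟨n, F, hF, h0, hn, hS⟩
    have hc : ∀ i : Fin n, F i.castSucc ⋖ F i.succ := fun i =>
      (Lib.Helper6.SubJH.simple_quot_iff_covBy _ _ _).mp (hS i)
    exact ⟨⟨Lib.Helper6.SubJH.wellFoundedLT_of_covBy_chain n F h0 hn hc⟩,
      ⟨Lib.Helper6.SubJH.wellFoundedGT_of_covBy_chain n F h0 hn hc⟩⟩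

end Groth.Agent.S1077
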