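import Groth.Statements.S1078
import Mathlib
import Groth.Agent.Lib.Helper6.SubobjectJH

set_option autoImplicit false
universe v u
open CategoryTheory CategoryTheory.Limits
open CohDer

namespace Groth.Agent.S1078

/-- the subquotient attached to an arbitrary pair of subobjects -/
noncomputable def Qt {A : Type u} [Category.{v} A] [Abelian A] {X : A}
    (p : Subobject X × Subobject X) : A :=
  cokernel (Subobject.ofLE (p.1 ⊓ p.2) p.2 inf_le_right)

lemma Qt_iso {A : Type u} [Category.{v} A] [Abelian A] {X : A} (a b : Subobject X) (h : a ≤ b) :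
    Nonempty (Qt (a, b) ≅ cokernel (Subobject.ofLE a b h)) :=
  Lib.Helper6.SubJH.quot_congr _ _ (inf_eq_left.mpr h) rfl

/-- Let X be an object of an abelian category with two finite chains of subobjects ⊥ = F₀ ≤ … ≤ Fₙ = ⊤
and ⊥ = G₀ ≤ … ≤ Gₘ = ⊤ whose successive quotients are simple. Then n = m, and after transporting
along this equality there is a permutation σ of the indices with Fᵢ₊₁/Fᵢ ≅ G_{σ(i)+1}/G_{σ(i)} for
all i. -/
theorem result {A : Type u} [Category.{v} A] [Abelian A] (X : A)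
    (n : ℕ) (F : Fin (n + 1) → Subobject X) (hF : Monotone F) (hF0 : F 0 = ⊥) (hFn : F (Fin.last n) = ⊤) (hFs : ∀ i : Fin n, Simple (cokernel (Subobject.ofLE (F (Fin.castSucc i)) (F (Fin.succ i)) (hF (Fin.castSucc_lt_succ (i := i)).le))))
    (m : ℕ) (G : Fin (m + 1) → Subobject X) (hG : Monotone G) (hG0 : G 0 = ⊥) (hGm : G (Fin.last m) = ⊤) (hGs : ∀ j : Fin m, Simple (cokernel (Subobject.ofLE (G (Fin.castSucc j)) (G (Fin.succ j)) (hG (Fin.castSucc_lt_succ (i := j)).le)))) :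
    ∃ (e : n = m) (σ : Equiv.Perm (Fin m)), ∀ i : Fin n,
      Nonempty (cokernel (Subobject.ofLE (F (Fin.castSucc i)) (F (Fin.succ i)) (hF (Fin.castSucc_lt_succ (i := i)).le)) ≅
        cokernel (Subobject.ofLE (G (Fin.castSucc (σ (Fin.cast e i)))) (G (Fin.succ (σ (Fin.cast e i)))) (hG (Fin.castSucc_lt_succ (i := σ (Fin.cast e i))).le))) := by
  have hcF : ∀ i : Fin n, F i.castSucc ⋖ F i.succ := fun i =>
    (Lib.Helper6.SubJH.simple_quot_iff_covBy _ _ _).mp (hFs i)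
  have hcG : ∀ i : Fin m, G i.castSucc ⋖ G i.succ := fun i =>
    (Lib.Helper6.SubJH.simple_quot_iff_covBy _ _ _).mp (hGs i)
  let s₁ : CompositionSeries (Subobject X) := ⟨n, F, hcF⟩
  let s₂ : CompositionSeries (Subobject X) := ⟨m, G, hcG⟩
  have hhead : s₁.head = s₂.head := by
    change F 0 = G 0
    rw [hF0, hG0]
  have hlast : s₁.last = s₂.last := by
    change F (Fin.last n) = G (Fin.last m)
    rw [hFn, hGm]
  obtain ⟨f, hf⟩ := CompositionSeries.jordan_holder s₁ s₂ hhead hlast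
  have f' : Fin n ≃ Fin m := f
  have e : n = m := Fin.equiv_iff_eq.mp ⟨f'⟩
  subst e
  refine ⟨rfl, f, fun i => ?_⟩
  have h1 := hf i
  -- translate the lattice-level `Iso` to isomorphism of subquotients
  have h2 : Nonempty (Qt (F i.castSucc, F i.succ) ≅ Qt (G (f i).castSucc, G (f i).succ)) := by
    refine JordanHolderLattice.Iso.rel (fun p q => Nonempty (Qt p ≅ Qt q)) ?_ ?_ ?_ ?_ h1
    · intro p; exact ⟨Iso.refl _⟩
    · rintro p q ⟨e⟩; exact ⟨e.symm⟩
    · rintro p q r ⟨e₁⟩ ⟨e₂⟩; exact ⟨e₁.trans e₂⟩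
    · intro x y _
      obtain ⟨e₁⟩ := Qt_iso x (x ⊔ y) le_sup_left
      obtain ⟨e₂⟩ := Qt_iso (x ⊓ y) y inf_le_right
      obtain ⟨e₃⟩ := Lib.Helper6.SubJH.second_iso x y
      exact ⟨e₁.trans (e₃.trans e₂.symm)⟩
  obtain ⟨e₁⟩ := Qt_iso (F i.castSucc) (F i.succ) (hF (Fin.castSucc_lt_succ (i := i)).le)
  obtain ⟨e₂⟩ := Qt_iso (G (f i).castSucc) (G (f i).succ)
    (hG (Fin.castSucc_lt_succ (i := f i)).le)
  obtain ⟨e₃⟩ := h2
  exact ⟨e₁.symm.trans (e₃.trans e₂)⟩

end Groth.Agent.S1078
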