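import Groth.Statements.S1079
-- import your own Groth.Agent.* helpers here
import Mathlib.CategoryTheory.Triangulated.Opposite.Pretriangulated
import Mathlib.CategoryTheory.Limits.Opposites
import Mathlib.CategoryTheory.Limits.Shapes.Opposites.Products

set_option autoImplicit false
universe v u
open CategoryTheory CategoryTheory.Limits
open CohDer

namespace Groth.Agent.S1079

open CategoryTheory.Pretriangulated

section
variable {D : Type u} [Category.{v} D] [Preadditive D] [Limits.HasZeroObject D] [HasShift D ℤ]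
    [∀ n : ℤ, (shiftFunctor D n).Additive] [Pretriangulated D]

theorem split_of_coproduct (X : D) (e : X ⟶ X) (he : e ≫ e = e) [HasCoproduct (fun _ : ℕ => X)] :
    ∃ (Y : D) (i : Y ⟶ X) (p : X ⟶ Y), i ≫ p = 𝟙 Y ∧ p ≫ i = e := by
  let K : ℕ → D := fun _ => X
  let T : D := ∐ K
  let ι : ∀ n : ℕ, X ⟶ T := fun n => Sigma.ι K n
  let s : T ⟶ T := Sigma.desc (fun n => e ≫ ι (n + 1))
  let r : T ⟶ T := Sigma.desc (fun m => (𝟙 X - e) ≫ ι m - ∑ n ∈ Finset.range m, e ≫ ι n)
  have hs : ∀ n, ι n ≫ s = e ≫ ι (n + 1) := fun n => Sigma.ι_desc _ _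
  have hr : ∀ m, ι m ≫ r = (𝟙 X - e) ≫ ι m - ∑ n ∈ Finset.range m, e ≫ ι n :=
    fun m => Sigma.ι_desc _ _
  have hee : ∀ n, e ≫ e ≫ ι n = e ≫ ι n := fun n => by rw [← Category.assoc, he]
  have he1 : ∀ n, e ≫ (𝟙 X - e) ≫ ι n = 0 := fun n => by
    rw [← Category.assoc, Preadditive.comp_sub, Category.comp_id, he, sub_self, zero_comp]
  have hrs : (𝟙 T - s) ≫ r = 𝟙 T := by
    apply Sigma.hom_ext
    intro m
    change ι m ≫ _ = ι m ≫ _
    rw [Preadditive.sub_comp, Preadditive.comp_sub, Category.id_comp, Category.comp_id,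
      ← Category.assoc, hs, Category.assoc, hr, hr, Finset.sum_range_succ,
      Preadditive.comp_sub, he1, Preadditive.comp_add, Preadditive.comp_sum, hee]
    simp only [hee, Preadditive.sub_comp, Category.id_comp]
    abel
  obtain ⟨Y, π, δ, hT⟩ := distinguished_cocone_triangle (𝟙 T - s)
  have hδ : δ = 0 := by
    have h1 : δ ≫ (shiftFunctor D (1 : ℤ)).map (𝟙 T - s) = 0 := comp_distTriang_mor_zero₃₁ _ hT
    have h2 : (shiftFunctor D (1 : ℤ)).map (𝟙 T - s) ≫ (shiftFunctor D (1 : ℤ)).map r = 𝟙 _ := by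
      rw [← Functor.map_comp, hrs, CategoryTheory.Functor.map_id]
    calc δ = δ ≫ ((shiftFunctor D (1 : ℤ)).map (𝟙 T - s) ≫ (shiftFunctor D (1 : ℤ)).map r) := by
          rw [h2, Category.comp_id]
      _ = 0 := by rw [← Category.assoc, h1, zero_comp]
  have hπ : Epi π := by
    constructor
    intro Z g g' hgg'
    have h0 : π ≫ (g - g') = 0 := by rw [Preadditive.comp_sub, hgg', sub_self]
    obtain ⟨k, hk⟩ := Triangle.yoneda_exact₃ _ hT (g - g') h0
    have : g - g' = 0 := by
      rw [hk]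
      change δ ≫ k = 0
      rw [hδ, zero_comp]
    exact sub_eq_zero.1 this
  let φ : T ⟶ X := Sigma.desc (fun _ => e)
  have hφ : ∀ n, ι n ≫ φ = e := fun n => Sigma.ι_desc _ _
  have hφ0 : (𝟙 T - s) ≫ φ = 0 := by
    apply Sigma.hom_ext
    intro m
    change ι m ≫ _ = ι m ≫ _
    rw [Preadditive.sub_comp, Preadditive.comp_sub, Category.id_comp, ← Category.assoc, hs,
      Category.assoc, hφ, hφ, he, sub_self, comp_zero]
  obtain ⟨q, hq⟩ := Triangle.yoneda_exact₂ _ hT φ hφ0
  change φ = π ≫ q at hq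
  have hsπ : (𝟙 T - s) ≫ π = 0 := comp_distTriang_mor_zero₁₂ _ hT
  have ha : ∀ n, ι n ≫ π = e ≫ ι (n + 1) ≫ π := by
    intro n
    have := congrArg (fun f => ι n ≫ f) hsπ
    simp only [Preadditive.sub_comp, Preadditive.comp_sub, Category.id_comp, comp_zero] at this
    rw [← Category.assoc, hs, Category.assoc] at this
    exact sub_eq_zero.1 this
  have hae : ∀ n, e ≫ ι n ≫ π = ι n ≫ π := by
    intro n
    rw [ha n, ← Category.assoc, he]
  have ha' : ∀ n, ι (n + 1) ≫ π = ι n ≫ π := by
    intro n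
    rw [ha n, hae (n + 1)]
  have ha0 : ∀ n, ι n ≫ π = ι 0 ≫ π := by
    intro n
    induction n with
    | zero => rfl
    | succ n ih => rw [ha', ih]
  refine ⟨Y, q, ι 0 ≫ π, ?_, ?_⟩
  · rw [← cancel_epi π, Category.comp_id, ← Category.assoc, ← hq]
    apply Sigma.hom_ext
    intro m
    change ι m ≫ _ = ι m ≫ _
    rw [← Category.assoc, hφ, hae, ha0 m]
  · rw [Category.assoc, ← hq, hφ]

theorem idem_of_coproducts [HasColimitsOfShape (Discrete ℕ) D] : IsIdempotentComplete D :=
  ⟨fun X e he => split_of_coproduct X e he⟩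

end

open CategoryTheory.Pretriangulated.Opposite in
theorem aux {D : Type u} [Category.{v} D] [Preadditive D] [Limits.HasZeroObject D] [HasShift D ℤ]
    [∀ n : ℤ, (shiftFunctor D n).Additive] [Pretriangulated D]
    (h : HasColimitsOfShape (Discrete ℕ) D ∨ HasLimitsOfShape (Discrete ℕ) D) : IsIdempotentComplete D := by
  rcases h with h | h
  · exact idem_of_coproducts
  · haveI : HasColimitsOfShape (Discrete ℕ) Dᵒᵖ := hasCoproductsOfShape_opposite ℕ
    exact Idempotents.isIdempotentComplete_iff_opposite.1 (idem_of_coproducts (D := Dᵒᵖ))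

/-- A pretriangulated category which has countable coproducts, or countable products, is Karoubian
(idempotent complete). -/
theorem result {D : Type u} [Category.{v} D] [Preadditive D] [Limits.HasZeroObject D] [HasShift D ℤ]
    [∀ n : ℤ, (shiftFunctor D n).Additive] [Pretriangulated D]
    (h : HasColimitsOfShape (Discrete ℕ) D ∨ HasLimitsOfShape (Discrete ℕ) D) : IsIdempotentComplete D := by
  exact aux h

end Groth.Agent.S1079
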