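import Groth.Statements.S1685
import Groth.Agent.H8.SubschemeStalk3

set_option autoImplicit false
universe u
open CategoryTheory CategoryTheory.Limits AlgebraicGeometry TopologicalSpace
open SDiv

namespace Groth.Agent.S1685

/-- Let X be a locally Noetherian scheme all of whose local rings satisfy Serre's condition (S_k), and
let D be the closed subscheme of an effective Cartier divisor. Then all local rings of D satisfy
(S_{k-1}). -/
theorem result (X : Scheme.{u}) [IsLocallyNoetherian X] (k : ℕ)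
    (hX : ∀ x : ↥X, min (k : WithBot ℕ∞) (ringKrullDim (X.presheaf.stalk x)) ≤
      ((LocCoh.depth (X.presheaf.stalk x) (X.presheaf.stalk x) : ℕ∞) : WithBot ℕ∞))
    (𝓘 : X.IdealSheafData) (h𝓘 : BlowUp.IsEffCartierIdeal 𝓘) (d : ↥𝓘.subscheme) :
    min ((k - 1 : ℕ) : WithBot ℕ∞) (ringKrullDim (𝓘.subscheme.presheaf.stalk d)) ≤
      ((LocCoh.depth (𝓘.subscheme.presheaf.stalk d) (𝓘.subscheme.presheaf.stalk d) : ℕ∞) : WithBot ℕ∞) := by
  obtain ⟨hdepth, hdim⟩ := Groth.Agent.H8.SubschemeStalk.depth_and_dim_stalk 𝓘 h𝓘 d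
  have hx := hX (𝓘.subschemeι d)
  have hne : ringKrullDim (𝓘.subscheme.presheaf.stalk d) ≠ ⊥ := by
    have h0 := ringKrullDim_nonneg_of_nontrivial (R := 𝓘.subscheme.presheaf.stalk d)
    intro h
    rw [h] at h0
    simp at h0
  obtain ⟨e, he⟩ := WithBot.ne_bot_iff_exists.mp hne
  rw [← hdim, ← hdepth, ← he] at hx
  rw [← he]
  have h1 : ((e : ℕ∞) : WithBot ℕ∞) + 1 = ((e + 1 : ℕ∞) : WithBot ℕ∞) := rfl
  rw [h1, Groth.Agent.Lib.Helper29.min_natCast_coe_le_coe_iff] at hx
  rw [Groth.Agent.Lib.Helper29.min_natCast_coe_le_coe_iff]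
  rcases k with _ | m
  · simp
  · have h2 : ((m + 1 : ℕ) : ℕ∞) = (m : ℕ∞) + 1 := by push_cast; rfl
    rw [h2, min_add_add_right] at hx
    have h3 : (m + 1 - 1 : ℕ) = m := by omega
    rw [h3]
    exact (ENat.add_le_add_iff_right ENat.one_ne_top).mp hx

end Groth.Agent.S1685
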