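import Groth.Statements.S10799
import Groth.Agent.S10798
import Groth.Agent.Lib.Helper29.SerreNormal

set_option autoImplicit false
universe u
open CategoryTheory CategoryTheory.Limits AlgebraicGeometry Topology TopologicalSpace
open AlgSp

namespace Groth.Agent.S10799

open Groth.Agent.Lib.Helper29 in
/-- A Noetherian local integrally closed domain satisfies `min (2, dim) ≤ depth`. -/
theorem min_two_dim_le_depth (R : Type u) [CommRing R] [IsLocalRing R] [IsNoetherianRing R]
    [IsDomain R] [IsIntegrallyClosed R] :
    min ((2 : ℕ) : WithBot ℕ∞) (ringKrullDim R) ≤ ((LocCoh.depth R R : ℕ∞) : WithBot ℕ∞) := by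
  by_cases hd : (2 : ℕ∞) ≤ LocCoh.depth R R
  · refine (min_le_left _ _).trans ?_
    have h := WithBot.coe_le_coe.mpr hd
    exact h
  · have hd1 : LocCoh.depth R R ≤ 1 := by
      have h2 := not_le.mp hd
      have h3 : (2 : ℕ∞) = 1 + 1 := by norm_num
      rw [h3] at h2
      exact Order.le_of_lt_add_one h2
    have hdim := ringKrullDim_le_one_of_depth_le_one R hd1
    refine (min_le_right _ _).trans ?_
    by_cases hd0 : LocCoh.depth R R = 0
    · have hmem := (depth_eq_zero_iff R R).mp hd0
      have hmin := Groth.Agent.S0602.mem_minimalPrimes_of_mem_associatedPrimes_of_isReduced _ hmem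
      have h0 : (IsLocalRing.maximalIdeal R).height = 0 :=
        Ideal.height_eq_zero_iff.mpr hmin
      have h1 : ringKrullDim R = 0 := by
        rw [← IsLocalRing.maximalIdeal_height_eq_ringKrullDim, h0]; rfl
      rw [h1, hd0]
      exact le_refl _
    · have h2 : 1 ≤ LocCoh.depth R R :=
        Order.one_le_iff_pos.mpr (pos_iff_ne_zero.mpr hd0)
      refine hdim.trans ?_
      exact_mod_cast h2

/-- Let X be an algebraic space over a scheme S which is locally Noetherian and normal in the
etale-local sense: some etale surjective chart of X from a locally Noetherian scheme all of whose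
local rings are integrally closed domains. Let D ⟶ X be an effective Cartier divisor (one-chart
sense). Then D is (S_1): some etale surjective chart of D from a locally Noetherian scheme all of
whose local rings O satisfy min(1, dim O) ≤ depth O. -/
theorem result {S : Scheme.{u}} (X D : AlgSp.Space S)
    (hX : AlgSp.EtaleLocally (fun U => IsLocallyNoetherian U ∧ Pi1.IsNormalScheme U) X.obj)
    (i : D ⟶ X) (hD : AlgSp.IsEffCartierSub i.hom) :
    AlgSp.EtaleLocally (fun V => IsLocallyNoetherian V ∧ ∀ v : ↥V,
        min ((1 : ℕ) : WithBot ℕ∞) (ringKrullDim ↥(V.presheaf.stalk v)) ≤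
          ((LocCoh.depth ↥(V.presheaf.stalk v) ↥(V.presheaf.stalk v) : ℕ∞) : WithBot ℕ∞)) D.obj := by
  have hX2 : AlgSp.EtaleLocally (fun U => IsLocallyNoetherian U ∧ ∀ x : ↥U,
        min ((2 : ℕ) : WithBot ℕ∞) (ringKrullDim ↥(U.presheaf.stalk x)) ≤
          ((LocCoh.depth ↥(U.presheaf.stalk x) ↥(U.presheaf.stalk x) : ℕ∞) : WithBot ℕ∞)) X.obj := by
    obtain ⟨U, p, hpe, hps, hUN, hUn⟩ := hX
    refine ⟨U, p, hpe, hps, hUN, fun x => ?_⟩
    obtain ⟨h1, h2⟩ := hUn x
    exact min_two_dim_le_depth _
  exact Groth.Agent.S10798.result X D 2 hX2 i hD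

end Groth.Agent.S10799
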