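import Groth.Statements.S10803
import Groth.Agent.Lib.Helper78.NoethFibre
import Groth.Agent.Lib.Helper54.EtaleField
import Groth.Agent.Lib.Helper54.Points
import Groth.Agent.H52.FibreProd
import Groth.Agent.H52.Points

set_option autoImplicit false
universe u
open CategoryTheory CategoryTheory.Limits AlgebraicGeometry Topology TopologicalSpace
open AlgSp

namespace Groth.Agent.S10803

theorem flat_surjective_affine_of_field {A B : Scheme.{u}} (φ : A ⟶ B) [IsAffine A] [IsAffine B]
    [Nonempty ↥A] [Subsingleton ↥B] [IsIntegral B] :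
    Flat φ ∧ Surjective φ ∧ IsAffineHom φ := by
  obtain ⟨a⟩ := ‹Nonempty ↥A›
  exact ⟨inferInstance, ⟨fun y => ⟨a, Subsingleton.elim _ _⟩⟩, inferInstance⟩

/-- (3) ⇒ (2) (with (2) ⇒ (1) ⇒ (3) immediate, this gives the equivalence of the three conditions
defining a locally Noetherian fibre over y): take a morphism f : X ⟶ Y of algebraic spaces over a
scheme S and a point y of |Y|. Suppose that for some field k and some point p : Spec k ⟶ Y
representing y the fibre X_p (any pullback of f along the morphism of p) is locally Noetherian. Then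
for every scheme V, every representable etale h_V ⟶ Y and every point v of V mapping to y, the fibre
X_v = Spec κ(v) ×_Y X is locally Noetherian. -/
theorem result {S : Scheme.{u}} (X Y : AlgSp.Space S) (f : X ⟶ Y)
    (y : AlgSp.Points Y.obj) (p : AlgSp.FieldPt Y.obj) (hp : AlgSp.Points.mk p = y)
    (hNoeth : ∀ ⦃P : AlgSp.Sp S⦄ (fst : P ⟶ X.obj) (snd : P ⟶ (AlgSp.yon S).obj p.pt),
      IsPullback fst snd f.hom p.toHom → AlgSp.IsLocNoethSp P)
    (V : Over S) (b : (AlgSp.yon S).obj V ⟶ Y.obj) (hb : AlgSp.RepWith @Etale b) (v : ↥V.left)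
    (hv : AlgSp.Points.ofPt b v = y)
    {Q : AlgSp.Sp S} (qfst : Q ⟶ X.obj) (qsnd : Q ⟶ (AlgSp.yon S).obj (AlgSp.FieldPt.ofPt b v).pt)
    (hQ : IsPullback qfst qsnd f.hom (AlgSp.FieldPt.ofPt b v).toHom) :
    AlgSp.IsLocNoethSp Q := by
  have hQalg : AlgSp.IsAlgSpace Q :=
    Groth.Agent.H52.isAlgSpace_of_isPullback hQ X.property Y.property (AlgSp.IsAlgSpace.yon_obj _)
  -- the etale `k`-scheme `E' = Spec k ×_Y V`
  obtain ⟨E', e₁, e₂, sqE, he₂⟩ : ∃ (E' : Over S) (e₁ : E' ⟶ V) (e₂ : E' ⟶ p.pt),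
      IsPullback ((AlgSp.yon S).map e₁) ((AlgSp.yon S).map e₂) b p.toHom ∧ Etale e₂.left := by
    have hrep := hb.rep
    obtain ⟨e₁, he₁⟩ := (AlgSp.yon S).map_surjective (hrep.fst p.toHom)
    exact ⟨_, e₁, hrep.snd p.toHom, by rw [he₁]; exact hrep.isPullback p.toHom,
      hb.property_snd p.toHom⟩
  -- a point of `E'` over `v`
  have hpt : AlgSp.Points.map b (AlgSp.Points.ofScheme V v) =
      AlgSp.Points.map p.toHom (AlgSp.Points.ofScheme p.pt (IsLocalRing.closedPoint p.K)) := by
    rw [← AlgSp.Points.ofPt_eq_map_ofScheme, ← AlgSp.Points.ofPt_eq_map_ofScheme, hv,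
      AlgSp.Points.ofPt_toHom, hp]
  obtain ⟨z, hz1, -⟩ := Groth.Agent.H52.exists_point_of_isPullback sqE _ _ hpt
  obtain ⟨e, rfl⟩ := Groth.Agent.Lib.Helper54.exists_ofScheme_eq E' z
  have hev : e₁.left e = v := by
    rw [Groth.Agent.H52.points_map_ofScheme] at hz1
    exact (AlgSp.Points.schemeEquiv V).injective hz1
  subst hev
  -- `W = Spec κ(e)`
  haveI : Etale e₂.left := he₂
  have hε : Etale (E'.left.fromSpecResidueField e) :=
    Groth.Agent.Lib.Helper54.etale_fromSpecResidueField_of_etale (K := p.K) e₂.left e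
  let W : Over S := Over.mk (E'.left.fromSpecResidueField e ≫ E'.hom)
  let w : W ⟶ E' := Over.homMk (E'.left.fromSpecResidueField e) rfl
  let c_k : W ⟶ p.pt := w ≫ e₂
  let c_v : W ⟶ (AlgSp.FieldPt.ofPt b (e₁.left e)).pt :=
    Over.homMk (Spec.map (e₁.left.residueFieldMap e)) (by
      change Spec.map _ ≫ V.left.fromSpecResidueField _ ≫ V.hom =
        E'.left.fromSpecResidueField e ≫ E'.hom
      rw [Scheme.Hom.SpecMap_residueFieldMap_fromSpecResidueField_assoc, Over.w e₁])
  have hcv : c_v ≫ (Over.homMk (V.left.fromSpecResidueField (e₁.left e)) rfl :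
      (AlgSp.FieldPt.ofPt b (e₁.left e)).pt ⟶ V) = w ≫ e₁ := by
    ext
    exact Scheme.Hom.SpecMap_residueFieldMap_fromSpecResidueField e₁.left e
  have hcomm : (AlgSp.yon S).map c_k ≫ p.toHom =
      (AlgSp.yon S).map c_v ≫ (AlgSp.FieldPt.ofPt b (e₁.left e)).toHom := by
    rw [AlgSp.FieldPt.toHom_ofPt, ← Category.assoc, ← Functor.map_comp, hcv, Functor.map_comp,
      Functor.map_comp, Category.assoc, Category.assoc, sqE.w]
  -- the fibres
  have sqXp := IsPullback.of_hasPullback f.hom p.toHom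
  have hXp : AlgSp.IsLocNoethSp (pullback f.hom p.toHom) := hNoeth _ _ sqXp
  have sqPW := IsPullback.of_hasPullback qsnd ((AlgSp.yon S).map c_v)
  have hPWalg : AlgSp.IsAlgSpace (pullback qsnd ((AlgSp.yon S).map c_v)) :=
    Groth.Agent.H52.isAlgSpace_of_isPullback sqPW hQalg (AlgSp.IsAlgSpace.yon_obj _)
      (AlgSp.IsAlgSpace.yon_obj _)
  have big := sqPW.paste_horiz hQ
  rw [← hcomm] at big
  have wl : (pullback.fst qsnd ((AlgSp.yon S).map c_v) ≫ qfst) ≫ f.hom =
      (pullback.snd qsnd ((AlgSp.yon S).map c_v) ≫ (AlgSp.yon S).map c_k) ≫ p.toHom := by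
    rw [Category.assoc (pullback.snd qsnd ((AlgSp.yon S).map c_v))]
    exact big.w
  have sqL : IsPullback (sqXp.lift _ _ wl) (pullback.snd qsnd ((AlgSp.yon S).map c_v))
      (pullback.snd f.hom p.toHom) ((AlgSp.yon S).map c_k) := by
    refine IsPullback.of_right ?_ (sqXp.lift_snd _ _ wl) sqXp
    rw [sqXp.lift_fst]
    exact big
  have hck : AlgSp.RepWith @Etale ((AlgSp.yon S).map c_k) :=
    (AlgSp.repWith_yon_map_iff _ _).2 (by
      change Etale (w ≫ e₂).left
      rw [Over.comp_left]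
      haveI : Etale w.left := hε
      infer_instance)
  have hlift : AlgSp.RepWith @Etale (sqXp.lift _ _ wl) :=
    MorphismProperty.of_isPullback sqL.flip hck
  have hPW : AlgSp.IsLocNoethSp (pullback qsnd ((AlgSp.yon S).map c_v)) :=
    Groth.Agent.Lib.Helper78.NoethFibre.isLocNoethSp_of_repWith_etale hPWalg _ hlift hXp
  haveI : Subsingleton ↥(AlgSp.FieldPt.ofPt b (e₁.left e)).pt.left :=
    inferInstanceAs (Subsingleton (PrimeSpectrum (V.left.residueField (e₁.left e))))
  haveI : Nonempty ↥W.left :=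
    ⟨IsLocalRing.closedPoint (E'.left.residueField e)⟩
  haveI : IsAffine W.left := inferInstanceAs (IsAffine (Spec (E'.left.residueField e)))
  haveI : IsAffine (AlgSp.FieldPt.ofPt b (e₁.left e)).pt.left :=
    inferInstanceAs (IsAffine (Spec (V.left.residueField (e₁.left e))))
  haveI : IsIntegral (AlgSp.FieldPt.ofPt b (e₁.left e)).pt.left :=
    inferInstanceAs (IsIntegral (Spec (V.left.residueField (e₁.left e))))
  obtain ⟨h1, h2, h3⟩ := flat_surjective_affine_of_field c_v.left
  exact Groth.Agent.Lib.Helper78.NoethFibre.isLocNoethSp_of_isPullback hQalg qsnd c_v _ _ sqPW hPW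

end Groth.Agent.S10803
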