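import Groth.Statements.S10804
import Groth.Agent.Lib.Helper78.NoethFibre
import Groth.Agent.S10215
import Groth.Agent.H52.FibreProd

set_option autoImplicit false
universe u
open CategoryTheory CategoryTheory.Limits AlgebraicGeometry Topology TopologicalSpace
open AlgSp

namespace Groth.Agent.S10804

theorem flat_surjective_affine_spec_field {K L : Type u} [Field K] [Field L]
    (φ : Spec (CommRingCat.of K) ⟶ Spec (CommRingCat.of L)) :
    Flat φ ∧ Surjective φ ∧ IsAffineHom φ := by
  haveI : Subsingleton ↥(Spec (CommRingCat.of L)) :=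
    inferInstanceAs (Subsingleton (PrimeSpectrum L))
  refine ⟨inferInstance, ⟨fun y => ⟨IsLocalRing.closedPoint K, Subsingleton.elim _ _⟩⟩,
    inferInstance⟩

/-- (3) ⇒ (4): let f : X ⟶ Y be a morphism of algebraic spaces over a scheme S, and let p : Spec k ⟶ Y
and p₀ : Spec k₀ ⟶ Y be field-valued points defining the same point of |Y|, with h_{Spec k₀} ⟶ Y a
monomorphism. If the fibre X_p = Spec k ×_Y X (any pullback of f along the morphism of p) is locally
Noetherian, then the fibre X_{p₀} is locally Noetherian. -/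
theorem result {S : Scheme.{u}} (X Y : AlgSp.Space S) (f : X ⟶ Y)
    (p p₀ : AlgSp.FieldPt Y.obj) (hpp : AlgSp.Points.mk p = AlgSp.Points.mk p₀) (hmono : Mono p₀.toHom)
    (hNoeth : ∀ ⦃P : AlgSp.Sp S⦄ (fst : P ⟶ X.obj) (snd : P ⟶ (AlgSp.yon S).obj p.pt),
      IsPullback fst snd f.hom p.toHom → AlgSp.IsLocNoethSp P)
    {Q : AlgSp.Sp S} (qfst : Q ⟶ X.obj) (qsnd : Q ⟶ (AlgSp.yon S).obj p₀.pt)
    (hQ : IsPullback qfst qsnd f.hom p₀.toHom) :
    AlgSp.IsLocNoethSp Q := by
  have hQalg : AlgSp.IsAlgSpace Q :=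
    Groth.Agent.H52.isAlgSpace_of_isPullback hQ X.property Y.property (AlgSp.IsAlgSpace.yon_obj _)
  haveI := hmono
  obtain ⟨c, hc, -⟩ := Groth.Agent.S10215.result Y p₀ p hpp.symm
  have sqP := IsPullback.of_hasPullback qsnd ((AlgSp.yon S).map c)
  have big := sqP.paste_horiz hQ
  rw [hc] at big
  have hP := hNoeth _ _ big
  obtain ⟨h1, h2, h3⟩ := flat_surjective_affine_spec_field c.left
  exact Groth.Agent.Lib.Helper78.NoethFibre.isLocNoethSp_of_isPullback hQalg qsnd c _ _ sqP hP

end Groth.Agent.S10804
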