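import Groth.Statements.S10817
import Groth.Agent.Lib.Helper21.TildeWeakAss

set_option autoImplicit false
universe u
open CategoryTheory CategoryTheory.Limits AlgebraicGeometry Topology TopologicalSpace
open AlgSp

namespace Groth.Agent.S10817

/-- Let X be an algebraic space over a scheme S and F a quasi-coherent O_X-module on the small etale
site of X. If U ⟶ X is an etale morphism from a scheme (an object of the small etale site) whose
image in |X| contains all weakly associated points of F, then the restriction map Γ(X, F) ⟶ Γ(U, F)
is injective; here Γ(X, F) is the type of compatible families of sections of F over all objects of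
the site, and the map is evaluation at U. -/
theorem result {S : Scheme.{u}} (X : AlgSp.Space S)
    (M : AlgSp.ModEt X.obj) [M.IsQuasicoherent] (E : AlgSp.EtOver X.obj)
    (hE : AlgSp.WeakAssEt M ⊆ Set.range (AlgSp.Points.ofPt E.obj.hom)) :
    Function.Injective (fun s : M.sections => PresheafOfModules.sections.eval s (Opposite.op E)) := by
  intro s s' hss'
  have hE0 : s.1 (Opposite.op E) = s'.1 (Opposite.op E) := hss'
  apply PresheafOfModules.sections_ext
  rintro ⟨W⟩
  rw [← sub_eq_zero]
  refine Groth.Agent.Lib.Helper21.Tilde.sect_eq_zero_of_affine M _ (fun W' f hW' => ?_)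
  have h1 : M.val.map f.op (s.1 (Opposite.op W) - s'.1 (Opposite.op W)) =
      s.1 (Opposite.op W') - s'.1 (Opposite.op W') :=
    (map_sub (M.val.map f.op).hom _ _).trans
      (congrArg₂ (· - ·) (PresheafOfModules.sections_property s f.op)
        (PresheafOfModules.sections_property s' f.op))
  refine h1.trans ?_
  refine Groth.Agent.Lib.Helper21.Tilde.sect_eq_zero_of_weakAss_subset M E hE W' hW' _
    (fun Z a b => ?_)
  have h2 : M.val.map a.op (s.1 (Opposite.op W') - s'.1 (Opposite.op W')) =
      s.1 (Opposite.op Z) - s'.1 (Opposite.op Z) :=
    (map_sub (M.val.map a.op).hom _ _).trans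
      (congrArg₂ (· - ·) (PresheafOfModules.sections_property s a.op)
        (PresheafOfModules.sections_property s' a.op))
  refine h2.trans ?_
  have h3 : s.1 (Opposite.op Z) = s'.1 (Opposite.op Z) :=
    (PresheafOfModules.sections_property s b.op).symm.trans
      ((congrArg (M.val.map b.op) hE0).trans (PresheafOfModules.sections_property s' b.op))
  exact sub_eq_zero.2 h3

end Groth.Agent.S10817
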