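import Groth.Statements.S10820
-- import your own Groth.Agent.* helpers here
import Groth.Agent.Lib.Helper55.ProjDim

set_option autoImplicit false
universe u
open AlgebraicGeometry Topology TopologicalSpace
open Variety

namespace Groth.Agent.S10820

open Groth.Agent.Lib.Helper55 MvPolynomial HomogeneousIdeal

/-- For a field k, n ≥ 2 and a nonzero homogeneous polynomial f of degree d ≥ 1 in n + 1 variables, the
hypersurface V_+(f) in projective n-space over k (as a subspace of Proj of the polynomial ring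
graded by degree) is connected and nonempty. -/
theorem result (k : Type u) [Field k] (n d : ℕ) (hn : 2 ≤ n)
    (f : MvPolynomial (Fin (n + 1)) k) (hf : f.IsHomogeneous d) (hd : 0 < d) (hf0 : f ≠ 0) :
    IsConnected (ProjectiveSpectrum.zeroLocus (CohB1.polyGrading n k)
      ({f} : Set (MvPolynomial (Fin (n + 1)) k))) := by
  set 𝒜 := CohB1.polyGrading n k with h𝒜
  have hfhom : (Ideal.span ({f} : Set (MvPolynomial (Fin (n + 1)) k))).IsHomogeneous 𝒜 := by
    apply Ideal.homogeneous_span
    intro g hg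
    rw [Set.mem_singleton_iff] at hg
    rw [hg]
    exact ⟨d, hf⟩
  have hfirr : f ∈ (irrelevant 𝒜).toIdeal := HomogeneousIdeal.mem_irrelevant_of_mem _ hd hf
  have hfne : Ideal.span ({f} : Set (MvPolynomial (Fin (n + 1)) k)) ≠ ⊤ := by
    intro h
    apply (irrelevant_isMaximal k n).ne_top
    rw [_root_.eq_top_iff, ← h, Ideal.span_singleton_le_iff_mem]
    exact hfirr
  -- points of `V₊(f)` which are minimal primes over `(f)`
  have hmemV : ∀ y : ProjectiveSpectrum 𝒜, y ∈ ProjectiveSpectrum.zeroLocus 𝒜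
      ({f} : Set (MvPolynomial (Fin (n + 1)) k)) ↔
      Ideal.span ({f} : Set (MvPolynomial (Fin (n + 1)) k)) ≤ y.asHomogeneousIdeal.toIdeal := by
    intro y
    rw [ProjectiveSpectrum.mem_zeroLocus, Ideal.span_le]
    rfl
  -- a minimal prime of `(f)` is a point
  have hpoint : ∀ Q : Ideal (MvPolynomial (Fin (n + 1)) k),
      Q ∈ (Ideal.span ({f} : Set (MvPolynomial (Fin (n + 1)) k))).minimalPrimes →
      ∃ y : ProjectiveSpectrum 𝒜, y.asHomogeneousIdeal.toIdeal = Q := by
    intro Q hQ
    have hQp : Q.IsPrime := hQ.1.1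
    apply exists_point_of_isHomogeneous k n Q (isHomogeneous_of_mem_minimalPrimes 𝒜 hfhom hQ)
    rw [ringKrullDim_quotient_of_mem_minimalPrimes_span_singleton k n f hf0 Q hQ]
    have : 1 ≤ n := by omega
    exact_mod_cast this
  obtain ⟨Q₀, hQ₀⟩ := Ideal.nonempty_minimalPrimes hfne
  obtain ⟨q₀, hq₀⟩ := hpoint Q₀ hQ₀
  have hq₀V : q₀ ∈ ProjectiveSpectrum.zeroLocus 𝒜 ({f} : Set (MvPolynomial (Fin (n + 1)) k)) := by
    rw [hmemV, hq₀]
    exact hQ₀.1.2
  refine ⟨⟨q₀, hq₀V⟩, ?_⟩
  apply isPreconnected_of_forall q₀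
  intro y hy
  obtain ⟨q, hq, hqy⟩ := exists_minimalPrime_point_le k n _ hfhom y ((hmemV y).mp hy)
  -- the closures of `q₀` and `q` meet
  obtain ⟨p, hp, hpf, hqp⟩ := exists_prime_span_eq_of_mem_minimalPrimes k n f hf0 _ hq
  have hI : (q₀.asHomogeneousIdeal.toIdeal ⊔
      Ideal.span (({p} : Finset (MvPolynomial (Fin (n + 1)) k)) :
        Set (MvPolynomial (Fin (n + 1)) k))).IsHomogeneous 𝒜 := by
    rw [Finset.coe_singleton, ← hqp]
    exact Ideal.IsHomogeneous.sup q₀.asHomogeneousIdeal.isHomogeneous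
      q.asHomogeneousIdeal.isHomogeneous
  have hIle : q₀.asHomogeneousIdeal.toIdeal ⊔
      Ideal.span (({p} : Finset (MvPolynomial (Fin (n + 1)) k)) :
        Set (MvPolynomial (Fin (n + 1)) k)) ≤ (irrelevant 𝒜).toIdeal := by
    rw [Finset.coe_singleton, ← hqp]
    exact sup_le (Groth.Agent.S10829.toIdeal_lt_irrelevant k n q₀).le
      (Groth.Agent.S10829.toIdeal_lt_irrelevant k n q).le
  have hIne : q₀.asHomogeneousIdeal.toIdeal ⊔
      Ideal.span (({p} : Finset (MvPolynomial (Fin (n + 1)) k)) :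
        Set (MvPolynomial (Fin (n + 1)) k)) ≠ ⊤ :=
    fun h => (irrelevant_isMaximal k n).ne_top (top_le_iff.mp (h ▸ hIle))
  obtain ⟨Q, hQ⟩ := Ideal.nonempty_minimalPrimes hIne
  obtain ⟨z, hz⟩ := exists_point_of_mem_minimalPrimes k n q₀ {p} hI Q hQ (by
    rw [hq₀, ringKrullDim_quotient_of_mem_minimalPrimes_span_singleton k n f hf0 Q₀ hQ₀,
      Finset.card_singleton]
    exact_mod_cast hn)
  have hzq₀ : q₀ ≤ z := by
    change q₀.asHomogeneousIdeal.toIdeal ≤ z.asHomogeneousIdeal.toIdeal
    rw [hz]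
    exact le_sup_left.trans hQ.1.2
  have hzq : q ≤ z := by
    change q.asHomogeneousIdeal.toIdeal ≤ z.asHomogeneousIdeal.toIdeal
    rw [hz, hqp]
    refine le_trans ?_ hQ.1.2
    rw [Finset.coe_singleton]
    exact le_sup_right
  refine ⟨closure {q₀} ∪ closure {q}, ?_, Or.inl (subset_closure rfl), Or.inr ?_, ?_⟩
  · apply Set.union_subset
    · apply closure_minimal _ (ProjectiveSpectrum.isClosed_zeroLocus _ _)
      rw [Set.singleton_subset_iff]
      exact hq₀V
    · apply closure_minimal _ (ProjectiveSpectrum.isClosed_zeroLocus _ _)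
      rw [Set.singleton_subset_iff, hmemV]
      exact hq.1.2
  · rw [← ProjectiveSpectrum.le_iff_mem_closure]
    exact hqy
  · apply IsPreconnected.union z
    · rw [← ProjectiveSpectrum.le_iff_mem_closure]
      exact hzq₀
    · rw [← ProjectiveSpectrum.le_iff_mem_closure]
      exact hzq
    · exact isPreconnected_singleton.closure
    · exact isPreconnected_singleton.closure

end Groth.Agent.S10820
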