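import Groth.Statements.S10821
-- import your own Groth.Agent.* helpers here
import Groth.Agent.Lib.Helper55.ProjDim

set_option autoImplicit false
universe u
open AlgebraicGeometry Topology TopologicalSpace
open Variety

namespace Groth.Agent.S10821

open Groth.Agent.Lib.Helper55 MvPolynomial HomogeneousIdeal

/-- For a field k and an irreducible closed subset Z of projective n-space over k, Z has codimension 1
(the longest chain of irreducible closed subsets strictly above Z has length 1) if and only if Z is
the zero set V_+(f) of an irreducible homogeneous polynomial f in n + 1 variables. -/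
theorem result (k : Type u) [Field k] (n : ℕ)
    (Z : TopologicalSpace.IrreducibleCloseds (ProjectiveSpectrum (CohB1.polyGrading n k))) :
    Order.coheight Z = 1 ↔
      ∃ (d : ℕ) (f : MvPolynomial (Fin (n + 1)) k), f.IsHomogeneous d ∧ Irreducible f ∧
        (Z : Set (ProjectiveSpectrum (CohB1.polyGrading n k))) =
          ProjectiveSpectrum.zeroLocus (CohB1.polyGrading n k) ({f} : Set (MvPolynomial (Fin (n + 1)) k)) := by
  classical
  set 𝒜 := CohB1.polyGrading n k with h𝒜
  -- translate to the height of the generic point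
  set z : ProjectiveSpectrum 𝒜 := OrderDual.ofDual (irreducibleClosedsOrderIso (k := k) (n := n) Z)
    with hz
  have hzZ : closure {z} = (Z : Set (ProjectiveSpectrum 𝒜)) := irreducibleClosedsOrderIso_apply k n Z
  have hcoh : Order.coheight Z = Order.height z := by
    rw [← Order.coheight_orderIso (irreducibleClosedsOrderIso (k := k) (n := n)) Z]
    rfl
  rw [hcoh]
  have hbot : ∀ w : ProjectiveSpectrum 𝒜, botPoint k n ≤ w := by
    intro w
    change (⊥ : Ideal (MvPolynomial (Fin (n + 1)) k)) ≤ w.asHomogeneousIdeal.toIdeal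
    exact bot_le
  have hbotmin : IsMin (botPoint k n) := fun w _ => hbot w
  have heq_bot : ∀ w : ProjectiveSpectrum 𝒜, w.asHomogeneousIdeal.toIdeal = ⊥ → w = botPoint k n := by
    intro w hw
    apply le_antisymm _ (hbot w)
    change w.asHomogeneousIdeal.toIdeal ≤ (⊥ : Ideal (MvPolynomial (Fin (n + 1)) k))
    rw [hw]
  constructor
  · intro h1
    -- `z` is not the zero ideal
    have hz0 : z.asHomogeneousIdeal.toIdeal ≠ ⊥ := by
      intro h0
      rw [heq_bot z h0, Order.height_eq_zero.mpr hbotmin] at h1
      exact zero_ne_one h1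
    -- a nonzero homogeneous element of `z`
    obtain ⟨a, haz, ha0⟩ := Submodule.exists_mem_ne_zero_of_ne_bot hz0
    obtain ⟨i, hi⟩ : ∃ i, ((DirectSum.decompose 𝒜 a i : 𝒜 i) : MvPolynomial (Fin (n + 1)) k) ≠ 0 := by
      by_contra h
      push Not at h
      apply ha0
      rw [← DirectSum.sum_support_decompose 𝒜 a]
      exact Finset.sum_eq_zero fun i _ => h i
    set g : MvPolynomial (Fin (n + 1)) k :=
      ((DirectSum.decompose 𝒜 a i : 𝒜 i) : MvPolynomial (Fin (n + 1)) k) with hg
    have hgz : g ∈ z.asHomogeneousIdeal.toIdeal := z.asHomogeneousIdeal.isHomogeneous i haz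
    have hghom : (Ideal.span ({g} : Set (MvPolynomial (Fin (n + 1)) k))).IsHomogeneous 𝒜 := by
      apply Ideal.homogeneous_span
      intro g' hg'
      rw [Set.mem_singleton_iff] at hg'
      rw [hg']
      exact ⟨i, (DirectSum.decompose 𝒜 a i).2⟩
    obtain ⟨q, hq, hqz⟩ := exists_minimalPrime_point_le k n _ hghom z
      ((Ideal.span_singleton_le_iff_mem _).mpr hgz)
    have hgq : g ∈ q.asHomogeneousIdeal.toIdeal := hq.1.2 (Ideal.mem_span_singleton_self g)
    have hbq : botPoint k n < q := by
      refine lt_of_le_of_ne (hbot q) ?_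
      intro h
      rw [← h] at hgq
      exact hi ((Ideal.mem_bot).mp hgq)
    have hqz' : q = z := by
      by_contra hne
      have hlt : q < z := lt_of_le_of_ne hqz hne
      have e1 := Order.height_add_one_le hbq
      have e2 := Order.height_add_one_le hlt
      rw [h1] at e2
      have e3 : Order.height (botPoint k n) + 1 + 1 ≤ 1 := (add_le_add_left e1 1).trans e2
      rw [Order.height_eq_zero.mpr hbotmin] at e3
      exact absurd e3 (by decide)
    obtain ⟨p, hp, -, hqp⟩ := exists_prime_span_eq_of_mem_minimalPrimes k n g hi _ hq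
    have hphom : (Ideal.span ({p} : Set (MvPolynomial (Fin (n + 1)) k))).IsHomogeneous 𝒜 := by
      rw [← hqp]
      exact q.asHomogeneousIdeal.isHomogeneous
    obtain ⟨d, f, hfhom, hfprime, hfp⟩ := exists_isHomogeneous_prime_of_span_isHomogeneous k n p hp hphom
    refine ⟨d, f, hfhom, hfprime.irreducible, ?_⟩
    rw [← hzZ, ← hqz', closure_singleton_eq_zeroLocus, hqp, ← hfp,
      ProjectiveSpectrum.zeroLocus_span]
  · rintro ⟨d, f, hfhom, hfirr, hZf⟩
    have hfprime : Prime f := hfirr.prime
    have hspanprime : (Ideal.span ({f} : Set (MvPolynomial (Fin (n + 1)) k))).IsPrime :=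
      (Ideal.span_singleton_prime hfprime.ne_zero).mpr hfprime
    have hspanhom : (Ideal.span ({f} : Set (MvPolynomial (Fin (n + 1)) k))).IsHomogeneous 𝒜 := by
      apply Ideal.homogeneous_span
      intro g' hg'
      rw [Set.mem_singleton_iff] at hg'
      rw [hg']
      exact ⟨d, hfhom⟩
    -- `f ∈ z`
    have hfz : f ∈ z.asHomogeneousIdeal.toIdeal := by
      have : z ∈ (Z : Set (ProjectiveSpectrum 𝒜)) := by
        rw [← hzZ]
        exact subset_closure rfl
      rw [hZf, ProjectiveSpectrum.mem_zeroLocus, Set.singleton_subset_iff] at this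
      exact this
    -- the point `(f)`
    let q : ProjectiveSpectrum 𝒜 := ⟨⟨Ideal.span {f}, hspanhom⟩, hspanprime, fun h =>
      z.not_irrelevant_le (le_trans h ((Ideal.span_singleton_le_iff_mem _).mpr hfz))⟩
    have hqz : q = z := by
      have h1 : IsGenericPoint q (Z : Set (ProjectiveSpectrum 𝒜)) := by
        rw [isGenericPoint_def, closure_singleton_eq_zeroLocus, hZf]
        exact ProjectiveSpectrum.zeroLocus_span 𝒜 _
      have h2 : IsGenericPoint z (Z : Set (ProjectiveSpectrum 𝒜)) := hzZ
      exact h1.eq h2
    rw [← hqz]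
    have hbq : botPoint k n < q := by
      refine lt_of_le_of_ne (hbot q) ?_
      intro h
      have : f ∈ (botPoint k n).asHomogeneousIdeal.toIdeal := by
        rw [h]
        exact Ideal.mem_span_singleton_self f
      exact hfprime.ne_zero ((Ideal.mem_bot).mp this)
    apply le_antisymm
    · suffices hle : Order.height q ≤ ((1 : ℕ) : ℕ∞) by simpa using hle
      rw [Order.height_le_coe_iff]
      intro y hy
      have hy0 : y.asHomogeneousIdeal.toIdeal = ⊥ := by
        by_contra hne
        obtain ⟨p', hp'y, hp'⟩ := Ideal.IsPrime.exists_mem_prime_of_ne_bot y.isPrime hne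
        have h1 : p' ∈ Ideal.span ({f} : Set (MvPolynomial (Fin (n + 1)) k)) := hy.le hp'y
        obtain ⟨c, hc⟩ := Ideal.mem_span_singleton.mp h1
        have hcu : IsUnit c := by
          rcases hp'.irreducible.isUnit_or_isUnit hc with h | h
          · exact absurd h hfprime.not_isUnit
          · exact h
        have hfy : f ∈ y.asHomogeneousIdeal.toIdeal := by
          obtain ⟨u, rfl⟩ := hcu
          have : f = p' * ↑u⁻¹ := by rw [hc, mul_assoc, Units.mul_inv, mul_one]
          rw [this]
          exact Ideal.mul_mem_right _ _ hp'y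
        have : q ≤ y := (Ideal.span_singleton_le_iff_mem _).mpr hfy
        exact absurd hy (not_lt_of_ge this)
      rw [heq_bot y hy0, Order.height_eq_zero.mpr hbotmin]
      exact Nat.cast_pos.mpr one_pos
    · have := Order.height_add_one_le hbq
      rw [Order.height_eq_zero.mpr hbotmin, zero_add] at this
      exact this

end Groth.Agent.S10821
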