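import Groth.Statements.S10822
-- import your own Groth.Agent.* helpers here
import Groth.Agent.Lib.Helper55.ProjDim

set_option autoImplicit false
universe u
open AlgebraicGeometry Topology TopologicalSpace
open Variety

namespace Groth.Agent.S10822

open Groth.Agent.Lib.Helper55 MvPolynomial HomogeneousIdeal

/-- Let k be a field, X an irreducible closed subset of projective n-space over k of positive dimension,
and f a homogeneous polynomial in n + 1 variables whose zero set V_+(f) is nonempty and does not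
contain X. Then X meets V_+(f), and every irreducible component C of X ∩ V_+(f) has dim C + 1 = dim
X, i.e. codimension 1 in X (all maximal chains of irreducible closed subsets of X have length dim
X). -/
theorem result (k : Type u) [Field k] (n d : ℕ)
    (X : Set (ProjectiveSpectrum (CohB1.polyGrading n k))) (hXc : IsClosed X) (hXi : IsIrreducible X)
    (hXd : 0 < topologicalKrullDim ↥X)
    (f : MvPolynomial (Fin (n + 1)) k) (hf : f.IsHomogeneous d)
    (hV : (ProjectiveSpectrum.zeroLocus (CohB1.polyGrading n k)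
      ({f} : Set (MvPolynomial (Fin (n + 1)) k))).Nonempty)
    (hX : ¬ X ⊆ ProjectiveSpectrum.zeroLocus (CohB1.polyGrading n k)
      ({f} : Set (MvPolynomial (Fin (n + 1)) k))) :
    (X ∩ ProjectiveSpectrum.zeroLocus (CohB1.polyGrading n k)
        ({f} : Set (MvPolynomial (Fin (n + 1)) k))).Nonempty ∧
      ∀ C ∈ irreducibleComponents ↥(X ∩ ProjectiveSpectrum.zeroLocus (CohB1.polyGrading n k)
          ({f} : Set (MvPolynomial (Fin (n + 1)) k))),
        topologicalKrullDim ↥C + 1 = topologicalKrullDim ↥X := by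
  set 𝒜 := CohB1.polyGrading n k with h𝒜
  obtain ⟨x, hx⟩ := exists_closure_singleton_eq k n X hXc hXi
  -- `f ∉ x`
  have hfx : f ∉ x.asHomogeneousIdeal.toIdeal := by
    intro h
    apply hX
    rw [← hx]
    apply closure_minimal _ (ProjectiveSpectrum.isClosed_zeroLocus _ _)
    rw [Set.singleton_subset_iff, ProjectiveSpectrum.mem_zeroLocus, Set.singleton_subset_iff]
    exact h
  -- `d > 0`
  have hd : 0 < d := by
    rcases Nat.eq_zero_or_pos d with rfl | hd
    · exfalso
      obtain ⟨y, hy⟩ := hV
      rw [ProjectiveSpectrum.mem_zeroLocus, Set.singleton_subset_iff] at hy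
      rw [← totalDegree_zero_iff_isHomogeneous, totalDegree_eq_zero_iff_eq_C] at hf
      by_cases hc : coeff 0 f = 0
      · rw [hc, map_zero] at hf
        exact hfx (hf ▸ Ideal.zero_mem _)
      · have hu : IsUnit f := by
          rw [hf]
          exact (IsUnit.mk0 _ hc).map C
        exact y.isPrime.ne_top (Ideal.eq_top_of_isUnit_mem _ hy hu)
    · exact hd
  have hfhom : SetLike.IsHomogeneousElem 𝒜 f := ⟨d, hf⟩
  have hI : (x.asHomogeneousIdeal.toIdeal ⊔
      Ideal.span (({f} : Finset (MvPolynomial (Fin (n + 1)) k)) :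
        Set (MvPolynomial (Fin (n + 1)) k))).IsHomogeneous 𝒜 := by
    apply Ideal.IsHomogeneous.sup x.asHomogeneousIdeal.isHomogeneous
    apply Ideal.homogeneous_span
    intro g hg
    rw [Finset.coe_singleton, Set.mem_singleton_iff] at hg
    rw [hg]
    exact hfhom
  have hIle : x.asHomogeneousIdeal.toIdeal ⊔
      Ideal.span (({f} : Finset (MvPolynomial (Fin (n + 1)) k)) :
        Set (MvPolynomial (Fin (n + 1)) k)) ≤ (irrelevant 𝒜).toIdeal := by
    apply sup_le (Groth.Agent.S10829.toIdeal_lt_irrelevant k n x).le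
    rw [Ideal.span_le]
    intro g hg
    rw [Finset.coe_singleton, Set.mem_singleton_iff] at hg
    rw [hg]
    exact HomogeneousIdeal.mem_irrelevant_of_mem _ hd hf
  have hIne : x.asHomogeneousIdeal.toIdeal ⊔
      Ideal.span (({f} : Finset (MvPolynomial (Fin (n + 1)) k)) :
        Set (MvPolynomial (Fin (n + 1)) k)) ≠ ⊤ :=
    fun h => (irrelevant_isMaximal k n).ne_top (top_le_iff.mp (h ▸ hIle))
  -- membership in `X ∩ V₊(f)`
  have hY : ∀ y : ProjectiveSpectrum 𝒜,
      y ∈ X ∩ ProjectiveSpectrum.zeroLocus 𝒜 ({f} : Set (MvPolynomial (Fin (n + 1)) k)) ↔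
      x.asHomogeneousIdeal.toIdeal ⊔
        Ideal.span (({f} : Finset (MvPolynomial (Fin (n + 1)) k)) :
          Set (MvPolynomial (Fin (n + 1)) k)) ≤ y.asHomogeneousIdeal.toIdeal := by
    intro y
    rw [Set.mem_inter_iff, ← hx, ← ProjectiveSpectrum.le_iff_mem_closure,
      ProjectiveSpectrum.mem_zeroLocus, Set.singleton_subset_iff, sup_le_iff, Ideal.span_le,
      Finset.coe_singleton, Set.singleton_subset_iff]
    rfl
  -- dimensions
  have hdimX := topologicalKrullDim_closure_singleton_add_one k n x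
  rw [hx] at hdimX
  obtain ⟨t, ht⟩ := exists_nat_ringKrullDim_quotient k n x.asHomogeneousIdeal.toIdeal
  have ht2 : 2 ≤ t := by
    rw [ht] at hdimX
    have h1 : (0 : WithBot ℕ∞) + 1 < topologicalKrullDim ↥X + 1 := by
      rw [zero_add]
      have h2 := one_le_ringKrullDim_quotient k n x
      rw [ht] at h2
      have h3 : 1 ≤ t := by exact_mod_cast h2
      obtain ⟨m, rfl⟩ : ∃ m, t = m + 1 := ⟨t - 1, by omega⟩
      rw [eq_natCast_of_add_one_eq hdimX] at hXd ⊢
      have : 0 < m := by exact_mod_cast hXd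
      have : 1 < m + 1 := by omega
      exact_mod_cast this
    rw [hdimX, zero_add] at h1
    have : 1 < t := by exact_mod_cast h1
    omega
  refine ⟨?_, ?_⟩
  · obtain ⟨Q, hQ⟩ := Ideal.nonempty_minimalPrimes hIne
    obtain ⟨y, hy⟩ := exists_point_of_mem_minimalPrimes k n x {f} hI Q hQ (by
      rw [ht, Finset.card_singleton]
      norm_cast)
    exact ⟨y, (hY y).mpr (hy ▸ hQ.1.2)⟩
  · intro C hC
    obtain ⟨q, hq, -, hdimC⟩ := exists_minimalPrime_of_mem_irreducibleComponents k n _ hI _ hY C hC
    have hq' : q.asHomogeneousIdeal.toIdeal ∈ (x.asHomogeneousIdeal.toIdeal ⊔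
        Ideal.span ({f} : Set (MvPolynomial (Fin (n + 1)) k))).minimalPrimes := by
      simpa using hq
    have h2 := ringKrullDim_quotient_eq_add_one_of_mem_minimalPrimes k _
      x.asHomogeneousIdeal.toIdeal q.asHomogeneousIdeal.toIdeal f hfx hq'
    rw [← hdimC, ← hdimX] at h2
    obtain ⟨m, rfl⟩ : ∃ m, t = m + 1 := ⟨t - 1, by omega⟩
    rw [ht] at hdimX
    rw [eq_natCast_of_add_one_eq hdimX] at h2 ⊢
    have h3 : topologicalKrullDim ↥C + 1 + 1 = ((m + 1 : ℕ) : WithBot ℕ∞) := by
      rw [← h2]
      norm_cast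
    exact eq_natCast_of_add_one_eq h3

end Groth.Agent.S10822
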