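import Groth.Statements.S10823
-- import your own Groth.Agent.* helpers here
import Groth.Agent.Lib.Helper55.ProjDim

set_option autoImplicit false
universe u
open AlgebraicGeometry Topology TopologicalSpace
open Variety

namespace Groth.Agent.S10823

open Groth.Agent.Lib.Helper55 MvPolynomial HomogeneousIdeal

/-- Let k be a field, X an irreducible closed subset of projective n-space over k, and f_1, …, f_r
nonzero homogeneous polynomials of positive degrees in n + 1 variables. Then every irreducible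
component C of X ∩ V_+(f_1, …, f_r) has codimension at most r in X, i.e. dim X ≤ dim C + r, and if
dim X ≥ r the intersection is nonempty. -/
theorem result (k : Type u) [Field k] (n r : ℕ)
    (X : Set (ProjectiveSpectrum (CohB1.polyGrading n k))) (hXc : IsClosed X) (hXi : IsIrreducible X)
    (f : Fin r → MvPolynomial (Fin (n + 1)) k) (d : Fin r → ℕ)
    (hf : ∀ i, (f i).IsHomogeneous (d i)) (hd : ∀ i, 0 < d i) (hf0 : ∀ i, f i ≠ 0) :
    (∀ C ∈ irreducibleComponents ↥(X ∩ ProjectiveSpectrum.zeroLocus (CohB1.polyGrading n k) (Set.range f)),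
        topologicalKrullDim ↥X ≤ topologicalKrullDim ↥C + (r : WithBot ℕ∞)) ∧
      ((r : WithBot ℕ∞) ≤ topologicalKrullDim ↥X →
        (X ∩ ProjectiveSpectrum.zeroLocus (CohB1.polyGrading n k) (Set.range f)).Nonempty) := by
  classical
  set 𝒜 := CohB1.polyGrading n k with h𝒜
  obtain ⟨x, hx⟩ := exists_closure_singleton_eq k n X hXc hXi
  set s : Finset (MvPolynomial (Fin (n + 1)) k) := Finset.univ.image f with hs
  have hscoe : (s : Set (MvPolynomial (Fin (n + 1)) k)) = Set.range f := by
    rw [hs, Finset.coe_image, Finset.coe_univ, Set.image_univ]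
  have hscard : s.card ≤ r := by
    have := Finset.card_image_le (s := (Finset.univ : Finset (Fin r))) (f := f)
    simpa using this
  have hI : (x.asHomogeneousIdeal.toIdeal ⊔
      Ideal.span (s : Set (MvPolynomial (Fin (n + 1)) k))).IsHomogeneous 𝒜 := by
    apply Ideal.IsHomogeneous.sup x.asHomogeneousIdeal.isHomogeneous
    apply Ideal.homogeneous_span
    intro g hg
    rw [hscoe] at hg
    obtain ⟨i, rfl⟩ := hg
    exact ⟨d i, hf i⟩
  have hIle : x.asHomogeneousIdeal.toIdeal ⊔
      Ideal.span (s : Set (MvPolynomial (Fin (n + 1)) k)) ≤ (irrelevant 𝒜).toIdeal := by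
    apply sup_le (Groth.Agent.S10829.toIdeal_lt_irrelevant k n x).le
    rw [Ideal.span_le]
    intro g hg
    rw [hscoe] at hg
    obtain ⟨i, rfl⟩ := hg
    exact HomogeneousIdeal.mem_irrelevant_of_mem _ (hd i) (hf i)
  have hIne : x.asHomogeneousIdeal.toIdeal ⊔
      Ideal.span (s : Set (MvPolynomial (Fin (n + 1)) k)) ≠ ⊤ :=
    fun h => (irrelevant_isMaximal k n).ne_top (top_le_iff.mp (h ▸ hIle))
  have hY : ∀ y : ProjectiveSpectrum 𝒜,
      y ∈ X ∩ ProjectiveSpectrum.zeroLocus 𝒜 (Set.range f) ↔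
      x.asHomogeneousIdeal.toIdeal ⊔
        Ideal.span (s : Set (MvPolynomial (Fin (n + 1)) k)) ≤ y.asHomogeneousIdeal.toIdeal := by
    intro y
    rw [Set.mem_inter_iff, ← hx, ← ProjectiveSpectrum.le_iff_mem_closure,
      ProjectiveSpectrum.mem_zeroLocus, sup_le_iff, Ideal.span_le, hscoe]
    rfl
  have hdimX := topologicalKrullDim_closure_singleton_add_one k n x
  rw [hx] at hdimX
  obtain ⟨t, ht⟩ := exists_nat_ringKrullDim_quotient k n x.asHomogeneousIdeal.toIdeal
  have ht1 : 1 ≤ t := by
    have h2 := one_le_ringKrullDim_quotient k n x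
    rw [ht] at h2
    exact_mod_cast h2
  obtain ⟨m, rfl⟩ : ∃ m, t = m + 1 := ⟨t - 1, by omega⟩
  rw [ht] at hdimX
  have hdimX' := eq_natCast_of_add_one_eq hdimX
  refine ⟨?_, ?_⟩
  · intro C hC
    obtain ⟨q, hq, -, hdimC⟩ := exists_minimalPrime_of_mem_irreducibleComponents k n _ hI _ hY C hC
    have h2 := ringKrullDim_quotient_le_add_card_of_mem_minimalPrimes k _
      x.asHomogeneousIdeal.toIdeal q.asHomogeneousIdeal.toIdeal s hq
    obtain ⟨t', ht'⟩ := exists_nat_ringKrullDim_quotient k n q.asHomogeneousIdeal.toIdeal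
    have ht'1 : 1 ≤ t' := by
      have h3 := one_le_ringKrullDim_quotient k n q
      rw [ht'] at h3
      exact_mod_cast h3
    obtain ⟨m', rfl⟩ : ∃ m', t' = m' + 1 := ⟨t' - 1, by omega⟩
    rw [ht'] at hdimC h2
    rw [ht] at h2
    rw [hdimX', eq_natCast_of_add_one_eq hdimC]
    have h4 : m + 1 ≤ m' + 1 + s.card := by exact_mod_cast h2
    have h5 : m ≤ m' + r := by omega
    exact_mod_cast h5
  · intro hr
    rw [hdimX'] at hr
    have hr' : r ≤ m := by exact_mod_cast hr
    obtain ⟨Q, hQ⟩ := Ideal.nonempty_minimalPrimes hIne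
    obtain ⟨y, hy⟩ := exists_point_of_mem_minimalPrimes k n x s hI Q hQ (by
      rw [ht]
      have : s.card + 1 ≤ m + 1 := by omega
      exact_mod_cast this)
    exact ⟨y, (hY y).mpr (hy ▸ hQ.1.2)⟩

end Groth.Agent.S10823
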