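import Groth.Statements.S10824
import Mathlib
import Groth.Agent.Lib.Helper61.GrCIHilbert3

set_option autoImplicit false
universe u
open Variety

namespace Groth.Agent.S10824

section Helpers
open Groth.Agent.Lib.Helper61.GrCIHilbert

theorem natDegree_gpoly_le (n : ℕ) : (gpoly n).natDegree ≤ n - 1 := by
  unfold gpoly
  apply Polynomial.natDegree_sum_le_of_forall_le
  intro i hi
  rw [Polynomial.natDegree_X_pow]
  have := Finset.mem_range.mp hi
  omega

theorem coeff_mul_geom_one (q : Polynomial ℤ) (d : ℕ) (hd : q.natDegree < d + 1) :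
    PowerSeries.coeff d ((q : PowerSeries ℤ) * geom 1) = q.eval 1 := by
  rw [PowerSeries.coeff_mul, Finset.Nat.sum_antidiagonal_eq_sum_range_succ_mk,
    Polynomial.eval_eq_sum_range' hd]
  refine Finset.sum_congr rfl fun i _ => ?_
  simp [geom, Polynomial.coeff_coe]

theorem one_sub_X_pow_ps (n : ℕ) :
    (1 - PowerSeries.X ^ n : PowerSeries ℤ) = (1 - PowerSeries.X) * ((gpoly n : Polynomial ℤ) : PowerSeries ℤ) := by
  have h := congrArg (fun p : Polynomial ℤ => (p : PowerSeries ℤ)) (one_sub_X_pow_eq n)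
  simpa [Polynomial.coe_sub, Polynomial.coe_mul, Polynomial.coe_pow, Polynomial.coe_X,
    Polynomial.coe_one] using h

end Helpers

/-- Let k be a field, S the polynomial ring in three variables over k with degree-d part S_d, and f, g
nonzero homogeneous polynomials of positive degrees n and m with no common non-unit factor. Then for
every d ≥ n + m the degree-d part of S/(f, g), namely S_d modulo its intersection with the ideal (f,
g), has dimension n·m over k. -/
theorem result (k : Type u) [Field k] (n m d : ℕ)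
    (f g : MvPolynomial (Fin 3) k) (hf : f.IsHomogeneous n) (hg : g.IsHomogeneous m)
    (hn : 0 < n) (hm : 0 < m) (hf0 : f ≠ 0) (hg0 : g ≠ 0) (hfg : IsRelPrime f g) (hd : n + m ≤ d) :
    Module.finrank k
        (↥(MvPolynomial.homogeneousSubmodule (Fin 3) k d) ⧸
          Submodule.comap (MvPolynomial.homogeneousSubmodule (Fin 3) k d).subtype
            ((Ideal.span ({f, g} : Set (MvPolynomial (Fin 3) k))).restrictScalars k)) = n * m := by
  classical
  open Groth.Agent.Lib.Helper61.GrCIHilbert in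
  let _ := MvPolynomial.weightedGradedAlgebra k (1 : Fin 3 → ℕ)
  have hδ : ∀ i : Fin 3, 0 < (1 : Fin 3 → ℕ) i := fun _ => one_pos
  -- the two steps
  have hbot : (⊥ : Ideal (MvPolynomial (Fin 3) k)).IsHomogeneous
      (MvPolynomial.weightedHomogeneousSubmodule k (1 : Fin 3 → ℕ)) := Ideal.IsHomogeneous.bot _
  have hfhom : (Ideal.span {f}).IsHomogeneous
      (MvPolynomial.weightedHomogeneousSubmodule k (1 : Fin 3 → ℕ)) := by
    apply Ideal.homogeneous_span
    rintro _ rfl
    exact ⟨n, hf⟩
  have h1 : hilb k (1 : Fin 3 → ℕ) (⊥ ⊔ Ideal.span {f}) =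
      (1 - PowerSeries.X ^ n) * hilb k (1 : Fin 3 → ℕ) ⊥ := by
    apply hilb_sup_span hδ hbot hf
    intro x hx
    rw [Ideal.mem_bot] at hx ⊢
    exact (mul_eq_zero.mp hx).resolve_left hf0
  have hJ1 : (⊥ ⊔ Ideal.span {f} : Ideal (MvPolynomial (Fin 3) k)).IsHomogeneous
      (MvPolynomial.weightedHomogeneousSubmodule k (1 : Fin 3 → ℕ)) := hbot.sup hfhom
  have h2 : hilb k (1 : Fin 3 → ℕ) ((⊥ ⊔ Ideal.span {f}) ⊔ Ideal.span {g}) =
      (1 - PowerSeries.X ^ m) * hilb k (1 : Fin 3 → ℕ) (⊥ ⊔ Ideal.span {f}) := by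
    apply hilb_sup_span hδ hJ1 hg
    intro x hx
    rw [bot_sup_eq, Ideal.mem_span_singleton] at hx ⊢
    rw [mul_comm] at hx
    exact hfg.dvd_of_dvd_mul_right hx
  have hJ2 : ((⊥ ⊔ Ideal.span {f}) ⊔ Ideal.span {g} : Ideal (MvPolynomial (Fin 3) k)) =
      Ideal.span {f, g} := by
    rw [bot_sup_eq, Ideal.span_insert]
  have h3 : hilb k (1 : Fin 3 → ℕ) ⊥ = geom 1 ^ 3 := by
    rw [hilb_bot hδ]
    simp [pow_succ]
  have hg1 : (1 - PowerSeries.X) * geom 1 = 1 := by
    have := one_sub_X_pow_mul_geom 1 one_pos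
    rwa [pow_one] at this
  have h4 : hilb k (1 : Fin 3 → ℕ) (Ideal.span {f, g}) =
      ((gpoly n * gpoly m : Polynomial ℤ) : PowerSeries ℤ) * geom 1 := by
    rw [← hJ2, h2, h1, h3, one_sub_X_pow_ps n, one_sub_X_pow_ps m, Polynomial.coe_mul]
    calc (1 - PowerSeries.X) * ((gpoly m : Polynomial ℤ) : PowerSeries ℤ) *
          ((1 - PowerSeries.X) * ((gpoly n : Polynomial ℤ) : PowerSeries ℤ) * geom 1 ^ 3)
        = ((gpoly n : Polynomial ℤ) : PowerSeries ℤ) * ((gpoly m : Polynomial ℤ) : PowerSeries ℤ) *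
          geom 1 * ((1 - PowerSeries.X) * geom 1) ^ 2 := by ring
      _ = _ := by rw [hg1, one_pow, mul_one]
  -- the coefficient
  have hdeg : (gpoly n * gpoly m).natDegree < d + 1 := by
    have := Polynomial.natDegree_mul_le (p := gpoly n) (q := gpoly m)
    have := natDegree_gpoly_le n
    have := natDegree_gpoly_le m
    omega
  have h5 : (Module.finrank k (piece k (1 : Fin 3 → ℕ) (Ideal.span {f, g}) d) : ℤ) = n * m := by
    have := congrArg (PowerSeries.coeff d) h4
    rw [coeff_mul_geom_one _ d hdeg, hilb, PowerSeries.coeff_mk] at this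
    rw [this, Polynomial.eval_mul, gpoly_eval_one, gpoly_eval_one]
  -- identify the quotient with the piece
  let L : ↥(MvPolynomial.homogeneousSubmodule (Fin 3) k d) →ₗ[k]
      (MvPolynomial (Fin 3) k ⧸ Ideal.span ({f, g} : Set (MvPolynomial (Fin 3) k))) :=
    (Ideal.Quotient.mkₐ k (Ideal.span {f, g})).toLinearMap.comp
      (MvPolynomial.homogeneousSubmodule (Fin 3) k d).subtype
  have hker : LinearMap.ker L = Submodule.comap (MvPolynomial.homogeneousSubmodule (Fin 3) k d).subtype
      ((Ideal.span ({f, g} : Set (MvPolynomial (Fin 3) k))).restrictScalars k) := by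
    ext x
    simp only [L, LinearMap.mem_ker, LinearMap.coe_comp, Function.comp_apply, Submodule.coe_subtype,
      AlgHom.toLinearMap_apply, Ideal.Quotient.mkₐ_eq_mk, Ideal.Quotient.eq_zero_iff_mem,
      Submodule.mem_comap, Submodule.restrictScalars_mem]
  have hrange : LinearMap.range L = piece k (1 : Fin 3 → ℕ) (Ideal.span {f, g}) d := by
    rw [LinearMap.range_comp, Submodule.range_subtype]
    rfl
  rw [← hker, LinearEquiv.finrank_eq (LinearMap.quotKerEquivRange L), hrange]
  exact_mod_cast h5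

end Groth.Agent.S10824
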