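import Groth.Statements.S10825
-- import your own Groth.Agent.* helpers here
import Groth.Agent.Lib.Helper55.NormIntegral
import Groth.Agent.Lib.Helper55.ZeroLocusDim
import Groth.Agent.Lib.Helper55.KrullDimIntegral

set_option autoImplicit false
universe u
open Topology
open CAlg

namespace Groth.Agent.S10825

open Groth.Agent.Lib.Helper55

/-- Let A → B be an injective integral homomorphism of integral domains with fraction fields K and L, L
a finite extension of K, and A integrally closed. For b in B the norm N_{L/K}(b) lies in A; if a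
denotes this element of A, then the image of the closed set V(b) of Spec B under Spec B → Spec A is
exactly V(a), and V(b) and V(a) have the same dimension. -/
theorem result
    (A B K L : Type u) [CommRing A] [IsDomain A] [CommRing B] [IsDomain B] [Algebra A B]
    [Field K] [Field L] [Algebra A K] [IsFractionRing A K] [Algebra B L] [IsFractionRing B L]
    [Algebra A L] [Algebra K L] [IsScalarTower A B L] [IsScalarTower A K L]
    [FiniteDimensional K L] [Algebra.IsIntegral A B] [IsIntegrallyClosed A]
    (hinj : Function.Injective (algebraMap A B))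
    (b : B) (a : A) (ha : algebraMap A K a = Algebra.norm K (algebraMap B L b)) :
    PrimeSpectrum.comap (algebraMap A B) '' PrimeSpectrum.zeroLocus ({b} : Set B) =
        PrimeSpectrum.zeroLocus ({a} : Set A) ∧
      topologicalKrullDim ↥(PrimeSpectrum.zeroLocus ({b} : Set B)) =
        topologicalKrullDim ↥(PrimeSpectrum.zeroLocus ({a} : Set A)) := by
  obtain ⟨b', hb'⟩ := exists_mul_eq_of_norm_eq (K := K) (L := L) b a ha
  -- the contraction of `(b)` has the same zero locus as `(a)`
  have hJ : PrimeSpectrum.zeroLocus
      ((Ideal.comap (algebraMap A B) (Ideal.span {b}) : Ideal A) : Set A) =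
      PrimeSpectrum.zeroLocus ((Ideal.span {a} : Ideal A) : Set A) := by
    ext 𝔭
    simp only [PrimeSpectrum.mem_zeroLocus, SetLike.coe_subset_coe]
    constructor
    · intro h
      rw [Ideal.span_singleton_le_iff_mem]
      apply h
      rw [Ideal.mem_comap, hb']
      exact Ideal.mul_mem_right _ _ (Ideal.mem_span_singleton_self b)
    · intro h u hu
      have h1 : u ^ Module.finrank K L ∈ Ideal.span {a} :=
        pow_finrank_mem_span_of_mem_span (K := K) (L := L) b a ha u hu
      exact 𝔭.2.mem_of_pow_mem _ (h h1)
  refine ⟨?_, ?_⟩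
  · ext 𝔭
    constructor
    · rintro ⟨𝔮, h𝔮, rfl⟩
      rw [PrimeSpectrum.mem_zeroLocus, Set.singleton_subset_iff] at h𝔮 ⊢
      change algebraMap A B a ∈ 𝔮.asIdeal
      rw [hb']
      exact Ideal.mul_mem_right _ _ h𝔮
    · intro h
      have h1 : 𝔭 ∈ PrimeSpectrum.zeroLocus
          ((Ideal.comap (algebraMap A B) (Ideal.span {b}) : Ideal A) : Set A) := by
        rw [hJ, PrimeSpectrum.zeroLocus_span]
        exact h
      rw [PrimeSpectrum.mem_zeroLocus, SetLike.coe_subset_coe] at h1
      obtain ⟨Q, hQ₁, hQ₂, hQ₃⟩ :=
        Ideal.exists_ideal_over_prime_of_isIntegral (S := B) 𝔭.asIdeal (Ideal.span {b}) h1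
      refine ⟨⟨Q, hQ₂⟩, ?_, ?_⟩
      · rw [PrimeSpectrum.mem_zeroLocus, Set.singleton_subset_iff]
        exact hQ₁ (Ideal.mem_span_singleton_self b)
      · ext1
        exact hQ₃
  · rw [topologicalKrullDim_zeroLocus_singleton, topologicalKrullDim_zeroLocus_singleton]
    have h2 : ringKrullDim (B ⧸ Ideal.span {b}) =
        ringKrullDim (A ⧸ Ideal.comap (algebraMap A B) (Ideal.span {b})) := by
      refine ringKrullDim_eq_of_ringHom_isIntegral_of_injective
        (Ideal.quotientMap (Ideal.span {b}) (algebraMap A B) le_rfl) ?_ ?_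
      · exact RingHom.IsIntegral.quotient (algebraMap A B) Algebra.IsIntegral.isIntegral
      · exact Ideal.quotientMap_injective
    rw [h2]
    exact ringKrullDim_quotient_eq_of_zeroLocus_eq hJ

end Groth.Agent.S10825
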