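import Groth.Statements.S10826
import Mathlib
import Groth.Agent.Lib.Helper90.PSInv

set_option autoImplicit false
open CAlg

namespace Groth.Agent.S10826.Aux

open MvPowerSeries
open Groth.Agent.Lib.Helper90.PSInv

variable {R : Type*} [CommRing R] {n : ℕ}

local notation "PS" => MvPowerSeries (Fin n) R

/-- the ideal of variables -/
noncomputable abbrev II (R : Type*) [CommRing R] (n : ℕ) : Ideal (MvPowerSeries (Fin n) R) :=
  Ideal.span (Set.range (X : Fin n → MvPowerSeries (Fin n) R))

theorem map_mem_II (γ : PS →ₐ[R] PS) (hγ : ∀ i, γ (X i) ∈ II R n) :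
    ∀ x ∈ II R n, γ x ∈ II R n := by
  intro x hx
  have h1 : Ideal.map γ (II R n) ≤ II R n := by
    rw [Ideal.map_span, Ideal.span_le]
    rintro _ ⟨_, ⟨i, rfl⟩, rfl⟩
    exact hγ i
  exact h1 (Ideal.mem_map_of_mem _ hx)

theorem map_mem_II_sq (γ : PS →ₐ[R] PS) (hγ : ∀ i, γ (X i) ∈ II R n) :
    ∀ x ∈ II R n ^ 2, γ x ∈ II R n ^ 2 := by
  intro x hx
  have h1 : Ideal.map γ (II R n) ≤ II R n := by
    rw [Ideal.map_span, Ideal.span_le]
    rintro _ ⟨_, ⟨i, rfl⟩, rfl⟩
    exact hγ i
  have h2 : Ideal.map γ (II R n ^ 2) ≤ II R n ^ 2 := by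
    rw [Ideal.map_pow]
    exact Ideal.pow_right_mono h1 2
  exact h2 (Ideal.mem_map_of_mem _ hx)

theorem sub_self_mem_II (γ : PS →ₐ[R] PS) (hγ : ∀ i, γ (X i) ∈ II R n) (x : PS) :
    γ x - x ∈ II R n := by
  set c := constantCoeff x with hc
  have h0 : constantCoeff (x - C c) = 0 := by simp [hc]
  have h1 : x - C c ∈ II R n := mem_span_range_X_of_constantCoeff_eq_zero _ h0
  have h2 : γ (C c) = C c := by
    have : (C c : PS) = algebraMap R PS c := rfl
    rw [this, AlgHom.commutes]
  have e : γ x - x = γ (x - C c) - (x - C c) := by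
    rw [map_sub, h2]; ring
  rw [e]
  exact (II R n).sub_mem (map_mem_II γ hγ _ h1) h1

theorem lin_mem_II (M : Matrix (Fin n) (Fin n) R) (i : Fin n) :
    (∑ j, C (M i j) * X j : PS) ∈ II R n := by
  refine Ideal.sum_mem _ fun j _ => ?_
  exact Ideal.mul_mem_left _ _ (Ideal.subset_span ⟨j, rfl⟩)

theorem comp_bij (α β : PS →ₐ[R] PS) (Mα Mβ : Matrix (Fin n) (Fin n) R)
    (hα : ∀ i, α (X i) - ∑ j, C (Mα i j) * X j ∈ II R n ^ 2)
    (hβ : ∀ i, β (X i) - ∑ j, C (Mβ i j) * X j ∈ II R n ^ 2)
    (hM : Mα * Mβ = 1) : Function.Bijective (β.comp α) := by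
  have hsq : II R n ^ 2 ≤ II R n := Ideal.pow_le_self (by norm_num)
  have hαX : ∀ i, α (X i) ∈ II R n := by
    intro i
    have : α (X i) = (α (X i) - ∑ j, C (Mα i j) * X j) + ∑ j, C (Mα i j) * X j := by ring
    rw [this]
    exact (II R n).add_mem (hsq (hα i)) (lin_mem_II Mα i)
  have hβX : ∀ i, β (X i) ∈ II R n := by
    intro i
    have : β (X i) = (β (X i) - ∑ j, C (Mβ i j) * X j) + ∑ j, C (Mβ i j) * X j := by ring
    rw [this]
    exact (II R n).add_mem (hsq (hβ i)) (lin_mem_II Mβ i)
  have hγX : ∀ i, (β.comp α) (X i) ∈ II R n := fun i => map_mem_II β hβX _ (hαX i)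
  have hC : ∀ c : R, β (C c) = C c := by
    intro c
    have : (C c : PS) = algebraMap R PS c := rfl
    rw [this, AlgHom.commutes]
  have key := bijective_of_generators (II R n) ((β.comp α) : PS →+* PS)
    (fun x => sub_self_mem_II (β.comp α) hγX x)
    (Set.range (X : Fin n → PS)) rfl ?_
  · exact key
  · rintro _ ⟨i, rfl⟩
    change β (α (X i)) - X i ∈ II R n ^ 2
    set h := α (X i) - ∑ j, C (Mα i j) * X j with hh
    have e1 : α (X i) = ∑ j, C (Mα i j) * X j + h := by rw [hh]; ring
    have e2 : β (α (X i)) = ∑ j, C (Mα i j) * β (X j) + β h := by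
      rw [e1, map_add, map_sum]
      congr 1
      refine Finset.sum_congr rfl fun j _ => ?_
      rw [map_mul, hC]
    have e3 : ∑ j, C (Mα i j) * β (X j)
        = ∑ j, C (Mα i j) * (β (X j) - ∑ k, C (Mβ j k) * X k)
          + ∑ j, C (Mα i j) * ∑ k, C (Mβ j k) * X k := by
      rw [← Finset.sum_add_distrib]
      refine Finset.sum_congr rfl fun j _ => ?_
      ring
    have e4 : ∑ j, C (Mα i j) * ∑ k, C (Mβ j k) * X k = (X i : PS) := by
      have : ∀ j, C (Mα i j) * ∑ k, C (Mβ j k) * (X k : PS)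
          = ∑ k, C (Mα i j * Mβ j k) * X k := by
        intro j
        rw [Finset.mul_sum]
        refine Finset.sum_congr rfl fun k _ => ?_
        rw [map_mul]; ring
      simp_rw [this]
      rw [Finset.sum_comm]
      have h2 : ∀ k, ∑ j, C (Mα i j * Mβ j k) * (X k : PS) = C ((Mα * Mβ) i k) * X k := by
        intro k
        rw [← Finset.sum_mul, ← map_sum, Matrix.mul_apply]
      simp_rw [h2, hM, Matrix.one_apply]
      rw [Finset.sum_eq_single i]
      · simp
      · intro k _ hk
        simp [Ne.symm hk]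
      · simp
    rw [e2, e3, e4]
    have : ∑ j, C (Mα i j) * (β (X j) - ∑ k, C (Mβ j k) * X k) + X i + β h - X i
        = ∑ j, C (Mα i j) * (β (X j) - ∑ k, C (Mβ j k) * X k) + β h := by ring
    rw [this]
    refine (II R n ^ 2).add_mem ?_ (map_mem_II_sq β hβX _ (hα i))
    exact Ideal.sum_mem _ fun j _ => Ideal.mul_mem_left _ _ (hβ j)

/-- linear part lemma -/
theorem sub_lin_mem_sq (f : PS) (hf : constantCoeff f = 0) :
    f - ∑ j, C (coeff (Finsupp.single j 1) f) * X j ∈ II R n ^ 2 := by
  have h1 : f ∈ II R n := mem_span_range_X_of_constantCoeff_eq_zero _ hf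
  obtain ⟨g, hg⟩ := (Submodule.mem_span_range_iff_exists_fun _).mp h1
  simp only [smul_eq_mul] at hg
  have hcoef : ∀ j, coeff (Finsupp.single j 1) f = constantCoeff (g j) := by
    intro j
    rw [← hg, map_sum]
    rw [Finset.sum_eq_single j]
    · have := coeff_add_mul_monomial (R := R) (0 : Fin n →₀ ℕ) (Finsupp.single j 1) (g j) (1 : R)
      rw [zero_add, mul_one] at this
      rw [X_def, this]
      rfl
    · intro i _ hij
      have hdvd : (X i : PS) ∣ g i * X i := Dvd.intro_left _ rfl
      rw [X_dvd_iff] at hdvd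
      apply hdvd
      simp [Ne.symm hij]
    · simp
  have e : f - ∑ j, C (coeff (Finsupp.single j 1) f) * X j
      = ∑ j, (g j - C (constantCoeff (g j))) * X j := by
    simp_rw [hcoef]
    rw [← hg, ← Finset.sum_sub_distrib]
    refine Finset.sum_congr rfl fun j _ => ?_
    ring
  rw [e, pow_two]
  refine Ideal.sum_mem _ fun j _ => ?_
  refine Ideal.mul_mem_mul ?_ (Ideal.subset_span ⟨j, rfl⟩)
  apply mem_span_range_X_of_constantCoeff_eq_zero
  simp

theorem main (φ : PS →ₐ[R] PS)
    (h0 : ∀ i, constantCoeff (φ (X i)) = 0)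
    (hJ : IsUnit (Matrix.det (Matrix.of fun i j : Fin n =>
      coeff (Finsupp.single j 1) (φ (X i))))) :
    Function.Bijective φ := by
  set J : Matrix (Fin n) (Fin n) R := Matrix.of fun i j : Fin n =>
      coeff (Finsupp.single j 1) (φ (X i)) with hJdef
  have hJ1 : J * J⁻¹ = 1 := Matrix.mul_nonsing_inv J hJ
  have hJ2 : J⁻¹ * J = 1 := Matrix.nonsing_inv_mul J hJ
  let a : Fin n → PS := fun i => ∑ j, C (J⁻¹ i j) * X j
  have ha0 : ∀ i, constantCoeff (a i) = 0 := by
    intro i
    simp [a]
  have ha : HasSubst a := hasSubst_of_constantCoeff_zero ha0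
  let lam : PS →ₐ[R] PS := substAlgHom (R := R) ha
  have hlam : ∀ i, lam (X i) - ∑ j, C (J⁻¹ i j) * X j ∈ II R n ^ 2 := by
    intro i
    have : lam (X i) = a i := substAlgHom_X ha i
    rw [this]
    simp [a]
  have hφ : ∀ i, φ (X i) - ∑ j, C (J i j) * X j ∈ II R n ^ 2 := by
    intro i
    exact sub_lin_mem_sq (φ (X i)) (h0 i)
  have b1 := comp_bij φ lam J J⁻¹ hφ hlam hJ1
  have b2 := comp_bij lam φ J⁻¹ J hlam hφ hJ2
  constructor
  · have : Function.Injective (lam ∘ φ) := by
      have := b1.1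
      simpa [AlgHom.coe_comp] using this
    exact Function.Injective.of_comp this
  · have : Function.Surjective (φ ∘ lam) := by
      have := b2.2
      simpa [AlgHom.coe_comp] using this
    exact Function.Surjective.of_comp this

end Groth.Agent.S10826.Aux

namespace Groth.Agent.S10826

/-- Let R be a commutative ring, n ≥ 1, and φ an R-algebra homomorphism from the power series ring in n
variables over R to itself that sends each variable to a power series without constant term. If the
Jacobian matrix at the origin, whose (i, j) entry is the coefficient of X_j in φ(X_i), has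
invertible determinant in R, then φ is an isomorphism (bijective). -/
theorem result
    (R : Type*) [CommRing R] (n : ℕ) (hn : 1 ≤ n)
    (φ : MvPowerSeries (Fin n) R →ₐ[R] MvPowerSeries (Fin n) R)
    (h0 : ∀ i, MvPowerSeries.constantCoeff (φ (MvPowerSeries.X i)) = 0)
    (hJ : IsUnit (Matrix.det (Matrix.of fun i j : Fin n =>
      MvPowerSeries.coeff (Finsupp.single j 1) (φ (MvPowerSeries.X i))))) :
    Function.Bijective φ := by
  exact Aux.main φ h0 hJ

end Groth.Agent.S10826
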