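import Groth.Statements.S10828
import Mathlib.AlgebraicGeometry.Morphisms.Finite
import Mathlib.FieldTheory.IsAlgClosed.Basic
import Mathlib.RingTheory.Jacobson.Ring

set_option autoImplicit false
universe u
open CategoryTheory AlgebraicGeometry
open Variety

namespace Groth.Agent.S10828

section Algebra

variable (k K : Type u) [Field k] [Field K] [Algebra k K] [IsAlgClosure k K]
variable {A : Type u} [CommRing A] [Algebra k A]

/-- The kernel of a `k`-algebra homomorphism to an algebraic extension field of `k` is maximal. -/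
theorem isMaximal_ker (θ : A →ₐ[k] K) : (RingHom.ker θ).IsMaximal := by
  have hKalg : Algebra.IsAlgebraic k K := IsAlgClosure.isAlgebraic
  have hι : Function.Injective (Ideal.kerLiftAlg θ) := Ideal.kerLiftAlg_injective θ
  have h1 : Algebra.IsAlgebraic k (A ⧸ RingHom.ker θ) :=
    Algebra.IsAlgebraic.of_injective (Ideal.kerLiftAlg θ) hι
  have h2 : IsDomain (A ⧸ RingHom.ker θ) :=
    (Ideal.Quotient.isDomain_iff_prime _).mpr (RingHom.ker_isPrime θ)
  have h3 : Algebra.IsIntegral k (A ⧸ RingHom.ker θ) := inferInstance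
  exact Ideal.Quotient.maximal_of_isField _
    (isField_of_isIntegral_of_isField' (Field.toIsField k))

/-- Every maximal ideal of a finitely generated `k`-algebra is the kernel of a homomorphism to
the algebraic closure. -/
theorem exists_algHom_ker_eq [Algebra.FiniteType k A] (𝔪 : Ideal A) [𝔪.IsMaximal] :
    ∃ θ : A →ₐ[k] K, RingHom.ker θ = 𝔪 := by
  have hK : IsAlgClosed K := IsAlgClosure.isAlgClosed k
  let _ : Field (A ⧸ 𝔪) := Ideal.Quotient.field 𝔪
  have hft : Algebra.FiniteType k (A ⧸ 𝔪) :=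
    Algebra.FiniteType.of_surjective (Ideal.Quotient.mkₐ k 𝔪) (Ideal.Quotient.mkₐ_surjective k 𝔪)
  have hfin : Module.Finite k (A ⧸ 𝔪) := finite_of_finite_type_of_isJacobsonRing k (A ⧸ 𝔪)
  have halg : Algebra.IsAlgebraic k (A ⧸ 𝔪) := Algebra.IsAlgebraic.of_finite k _
  obtain ⟨j⟩ : Nonempty ((A ⧸ 𝔪) →ₐ[k] K) := ⟨IsAlgClosed.lift⟩
  refine ⟨j.comp (Ideal.Quotient.mkₐ k 𝔪), ?_⟩
  ext a
  rw [RingHom.mem_ker, AlgHom.comp_apply, map_eq_zero_iff j j.injective,
    Ideal.Quotient.mkₐ_eq_mk, Ideal.Quotient.eq_zero_iff_mem]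

/-- Two `k`-algebra homomorphisms to the algebraic closure with the same kernel differ by a
`k`-automorphism of the algebraic closure. -/
theorem exists_algEquiv_of_ker_eq (θ₁ θ₂ : A →ₐ[k] K) (h : RingHom.ker θ₁ = RingHom.ker θ₂) :
    ∃ σ : K ≃ₐ[k] K, ∀ a, θ₂ a = σ (θ₁ a) := by
  have hK : IsAlgClosed K := IsAlgClosure.isAlgClosed k
  have hKalg : Algebra.IsAlgebraic k K := IsAlgClosure.isAlgebraic
  have hmax : (RingHom.ker θ₁).IsMaximal := isMaximal_ker k K θ₁
  let _ : Field (A ⧸ RingHom.ker θ₁) := Ideal.Quotient.field _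
  let j₁ : (A ⧸ RingHom.ker θ₁) →ₐ[k] K := Ideal.kerLiftAlg θ₁
  let j₂ : (A ⧸ RingHom.ker θ₁) →ₐ[k] K := Ideal.Quotient.liftₐ (RingHom.ker θ₁) θ₂ (by
    intro a ha
    rw [h] at ha
    exact ha)
  let _ : Algebra (A ⧸ RingHom.ker θ₁) K := j₁.toRingHom.toAlgebra
  have htower : IsScalarTower k (A ⧸ RingHom.ker θ₁) K :=
    IsScalarTower.of_algebraMap_eq fun r ↦ (j₁.commutes r).symm
  have halg : Algebra.IsAlgebraic (A ⧸ RingHom.ker θ₁) K :=
    Algebra.IsAlgebraic.tower_top (K := k) (A ⧸ RingHom.ker θ₁)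
  obtain ⟨σ₀, hσ₀⟩ := IsAlgClosed.surjective_domRestrict_of_isAlgebraic (K := k)
    (L := A ⧸ RingHom.ker θ₁) (M := K) (E := K) j₂
  refine ⟨AlgEquiv.ofBijective σ₀ (Algebra.IsAlgebraic.algHom_bijective σ₀), fun a ↦ ?_⟩
  have := congr($hσ₀ (Ideal.Quotient.mk _ a))
  simp only [AlgHom.domRestrict, AlgHom.comp_apply, IsScalarTower.coe_toAlgHom'] at this
  rw [AlgEquiv.coe_ofBijective]
  have h1 : algebraMap (A ⧸ RingHom.ker θ₁) K (Ideal.Quotient.mk _ a) = θ₁ a :=
    Ideal.kerLiftAlg_mk θ₁ a
  have h2 : j₂ (Ideal.Quotient.mk _ a) = θ₂ a := Ideal.Quotient.liftₐ_apply _ _ _ _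
  rw [h1, h2] at this
  exact this.symm

end Algebra


section SchemeGlue

variable (K : Type u) [Field K] {X : Scheme.{u}}

/-- The image of the closed point under `Spec` of a homomorphism to a field is the kernel. -/
theorem asIdeal_SpecMap_closedPoint {A : CommRingCat.{u}} (θ : A ⟶ CommRingCat.of K) :
    (Spec.map θ (IsLocalRing.closedPoint K)).asIdeal = RingHom.ker θ.hom := by
  change Ideal.comap θ.hom (IsLocalRing.maximalIdeal K) = RingHom.ker θ.hom
  rw [IsLocalRing.maximalIdeal_eq_bot]
  rfl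

/-- A field-valued point whose image lies in an affine open factors through it. -/
theorem exists_factor (p : Spec (CommRingCat.of K) ⟶ X) {U : X.Opens} (hU : IsAffineOpen U)
    (hxU : p.base (IsLocalRing.closedPoint K) ∈ U) :
    ∃ θ : Γ(X, U) ⟶ CommRingCat.of K, Spec.map θ ≫ hU.fromSpec = p := by
  have hrange : Set.range p ⊆ Set.range hU.fromSpec := by
    rw [hU.range_fromSpec]
    rintro _ ⟨z, rfl⟩
    have : z = IsLocalRing.closedPoint K := Subsingleton.elim _ _
    rw [this]
    exact hxU
  obtain ⟨θ, hθ⟩ := Spec.map_surjective (IsOpenImmersion.lift hU.fromSpec p hrange)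
  exact ⟨θ, by rw [hθ, IsOpenImmersion.lift_fac]⟩

end SchemeGlue

/-- Let k be a field, K an algebraic closure of k with its group G of k-automorphisms, and X a k-scheme
locally of finite type. The map sending a K-valued point of X over k to its image point identifies
the closed points of X with the G-orbits in X(K): a point is closed if and only if it is the image
of some K-valued point, and two K-valued points have the same image if and only if one is obtained
from the other by composing with Spec of a k-automorphism of K. -/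
theorem result (k K : Type u) [Field k] [Field K]
    [Algebra k K] [IsAlgClosure k K] {X : Scheme.{u}} (f : X ⟶ Spec (CommRingCat.of k))
    [LocallyOfFiniteType f] :
    (∀ x : X, IsClosed ({x} : Set X) ↔
        ∃ p : Spec (CommRingCat.of K) ⟶ X, p ≫ f = Spec.map (CommRingCat.ofHom (algebraMap k K)) ∧
          p.base (IsLocalRing.closedPoint K) = x) ∧
      ∀ p q : Spec (CommRingCat.of K) ⟶ X,
        p ≫ f = Spec.map (CommRingCat.ofHom (algebraMap k K)) →
        q ≫ f = Spec.map (CommRingCat.ofHom (algebraMap k K)) →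
          (p.base (IsLocalRing.closedPoint K) = q.base (IsLocalRing.closedPoint K) ↔
            ∃ σ : K ≃ₐ[k] K, q = Spec.map (CommRingCat.ofHom σ.toRingHom) ≫ p) := by
  have hJ : JacobsonSpace X := LocallyOfFiniteType.jacobsonSpace f
  have key : ∀ (U : X.Opens) (hU : IsAffineOpen U), ∃ α : CommRingCat.of k ⟶ Γ(X, U),
      Spec.map α = hU.fromSpec ≫ f ∧ α.hom.FiniteType := by
    intro U hU
    obtain ⟨α, hα⟩ := Spec.map_surjective (hU.fromSpec ≫ f)
    refine ⟨α, hα, ?_⟩
    have : LocallyOfFiniteType (Spec.map α) := by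
      rw [hα]
      infer_instance
    exact (HasRingHomProperty.Spec_iff (P := @LocallyOfFiniteType)).mp this
  refine ⟨fun x ↦ ⟨fun hx ↦ ?_, ?_⟩, fun p q hp hq ↦ ⟨fun hpq ↦ ?_, ?_⟩⟩
  · -- a closed point is the image of a `K`-point
    obtain ⟨U, hU, hxU, -⟩ := exists_isAffineOpen_mem_and_subset (x := x) (U := ⊤) trivial
    obtain ⟨α, hα, hαft⟩ := key U hU
    obtain ⟨z, hz⟩ : ∃ z : Spec Γ(X, U), hU.fromSpec z = x := by
      have : x ∈ Set.range hU.fromSpec := by
        rw [hU.range_fromSpec]
        exact hxU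
      exact this
    have hcl : IsClosed ({z} : Set (Spec Γ(X, U))) := by
      have : ({z} : Set (Spec Γ(X, U))) = hU.fromSpec ⁻¹' {x} := by
        ext w
        simp only [Set.mem_singleton_iff, Set.mem_preimage, ← hz]
        exact (hU.fromSpec.isOpenEmbedding.injective.eq_iff).symm
      rw [this]
      exact hx.preimage hU.fromSpec.continuous
    have hmax : z.asIdeal.IsMaximal := (PrimeSpectrum.isClosed_singleton_iff_isMaximal _).mp hcl
    let _ : Algebra k Γ(X, U) := α.hom.toAlgebra
    have hft : Algebra.FiniteType k Γ(X, U) := hαft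
    obtain ⟨θ, hθ⟩ := exists_algHom_ker_eq k K z.asIdeal
    refine ⟨Spec.map (CommRingCat.ofHom θ.toRingHom) ≫ hU.fromSpec, ?_, ?_⟩
    · rw [Category.assoc, ← hα, ← Spec.map_comp]
      congr 1
      ext r
      exact θ.commutes r
    · change hU.fromSpec (Spec.map (CommRingCat.ofHom θ.toRingHom) (IsLocalRing.closedPoint K)) = x
      rw [← hz]
      congr 1
      apply PrimeSpectrum.ext
      rw [asIdeal_SpecMap_closedPoint]
      exact hθ
  · -- the image of a `K`-point is closed
    rintro ⟨p, hp, rfl⟩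
    obtain ⟨U, hU, hxU, -⟩ := exists_isAffineOpen_mem_and_subset
      (x := p.base (IsLocalRing.closedPoint K)) (U := ⊤) trivial
    obtain ⟨α, hα, -⟩ := key U hU
    obtain ⟨θ, rfl⟩ := exists_factor K p hU hxU
    have hαθ : α ≫ θ = CommRingCat.ofHom (algebraMap k K) := by
      apply Spec.map_injective
      rw [Spec.map_comp, hα, ← Category.assoc, hp]
    let _ : Algebra k Γ(X, U) := α.hom.toAlgebra
    let θ' : Γ(X, U) →ₐ[k] K := { θ.hom with commutes' := fun r ↦ congr($hαθ r) }
    have hmax : (RingHom.ker θ').IsMaximal := isMaximal_ker k K θ'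
    have hcl : IsClosed ({Spec.map θ (IsLocalRing.closedPoint K)} : Set (Spec Γ(X, U))) := by
      refine (PrimeSpectrum.isClosed_singleton_iff_isMaximal _).mpr ?_
      rw [asIdeal_SpecMap_closedPoint]
      exact hmax
    apply isClosed_singleton_of_isLocallyClosed_singleton
    change IsLocallyClosed {hU.fromSpec (Spec.map θ (IsLocalRing.closedPoint K))}
    rw [← Set.image_singleton]
    exact hcl.isLocallyClosed.image hU.fromSpec.isOpenEmbedding.isInducing
      hU.fromSpec.isOpenEmbedding.isOpen_range.isLocallyClosed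
  · -- two `K`-points with the same image are conjugate
    obtain ⟨U, hU, hxU, -⟩ := exists_isAffineOpen_mem_and_subset
      (x := p.base (IsLocalRing.closedPoint K)) (U := ⊤) trivial
    obtain ⟨α, hα, -⟩ := key U hU
    obtain ⟨θp, rfl⟩ := exists_factor K p hU hxU
    obtain ⟨θq, rfl⟩ := exists_factor K q hU (hpq ▸ hxU)
    have hαθp : α ≫ θp = CommRingCat.ofHom (algebraMap k K) := by
      apply Spec.map_injective
      rw [Spec.map_comp, hα, ← Category.assoc, hp]
    have hαθq : α ≫ θq = CommRingCat.ofHom (algebraMap k K) := by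
      apply Spec.map_injective
      rw [Spec.map_comp, hα, ← Category.assoc, hq]
    let _ : Algebra k Γ(X, U) := α.hom.toAlgebra
    let θp' : Γ(X, U) →ₐ[k] K := { θp.hom with commutes' := fun r ↦ congr($hαθp r) }
    let θq' : Γ(X, U) →ₐ[k] K := { θq.hom with commutes' := fun r ↦ congr($hαθq r) }
    have hker : RingHom.ker θp' = RingHom.ker θq' := by
      have h1 : Spec.map θp (IsLocalRing.closedPoint K) = Spec.map θq (IsLocalRing.closedPoint K) :=
        hU.fromSpec.isOpenEmbedding.injective hpq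
      have h2 := congr_arg PrimeSpectrum.asIdeal h1
      rwa [asIdeal_SpecMap_closedPoint, asIdeal_SpecMap_closedPoint] at h2
    obtain ⟨σ, hσ⟩ := exists_algEquiv_of_ker_eq k K θp' θq' hker
    refine ⟨σ, ?_⟩
    rw [← Category.assoc, ← Spec.map_comp]
    congr 2
    ext a
    exact hσ a
  · rintro ⟨σ, rfl⟩
    change p.base _ = p.base (Spec.map (CommRingCat.ofHom σ.toRingHom) (IsLocalRing.closedPoint K))
    congr 1
    exact Subsingleton.elim _ _

end Groth.Agent.S10828
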