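import Groth.Statements.S10831
import Mathlib.Topology.KrullDimension

set_option autoImplicit false
universe u
open Topology TopologicalSpace
open TopDim

namespace Groth.Agent.S10831

/-- The preimage in a subspace `Y` of an irreducible subset `Z ⊆ Y` is irreducible. -/
theorem isIrreducible_preimage_val {X : Type*} [TopologicalSpace X] {Y Z : Set X}
    (hZ : IsIrreducible Z) (hZY : Z ⊆ Y) : IsIrreducible ((↑) ⁻¹' Z : Set Y) := by
  obtain ⟨⟨z, hz⟩, hpre⟩ := hZ
  refine ⟨⟨⟨z, hZY hz⟩, hz⟩, ?_⟩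
  rintro U' V' hU' hV' ⟨y₁, hy₁Z, hy₁U⟩ ⟨y₂, hy₂Z, hy₂V⟩
  obtain ⟨U, hU, rfl⟩ := isOpen_induced_iff.mp hU'
  obtain ⟨V, hV, rfl⟩ := isOpen_induced_iff.mp hV'
  obtain ⟨x, hxZ, hxU, hxV⟩ := hpre U V hU hV ⟨y₁, hy₁Z, hy₁U⟩ ⟨y₂, hy₂Z, hy₂V⟩
  exact ⟨⟨x, hZY hxZ⟩, hxZ, hxU, hxV⟩

open Order in
/-- The Krull dimension of a topological space is the supremum of the Krull dimensions of its
irreducible components. -/
theorem result (X : Type u) [TopologicalSpace X] :
    topologicalKrullDim X = ⨆ Y ∈ irreducibleComponents X, topologicalKrullDim ↥Y := by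
  apply le_antisymm
  · unfold topologicalKrullDim
    rw [krullDim]
    refine iSup_le fun p => ?_
    obtain ⟨Y, hY, hpY⟩ := exists_mem_irreducibleComponents_subset_of_isIrreducible
      (p.last : Set X) p.last.isIrreducible
    refine le_trans ?_ (le_iSup₂ (f := fun Y (_ : Y ∈ irreducibleComponents X) =>
      krullDim (IrreducibleCloseds ↥Y)) Y hY)
    -- the top element
    have hYcl : IsClosed Y := isClosed_of_mem_irreducibleComponents Y hY
    let T : IrreducibleCloseds X := ⟨Y, hY.1, hYcl⟩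
    have h1 : (p.length : ℕ∞) ≤ height T := length_le_height (x := T) hpY
    have h2 : ((height T : ℕ∞) : WithBot ℕ∞) = krullDim (Set.Iic T) := height_eq_krullDim_Iic T
    let g : Set.Iic T → IrreducibleCloseds ↥Y := fun Z =>
      ⟨(↑) ⁻¹' (Z.1 : Set X), isIrreducible_preimage_val Z.1.isIrreducible Z.2,
        Z.1.isClosed.preimage continuous_subtype_val⟩
    have hg : StrictMono g := by
      intro A B hAB
      have hle : (A.1 : Set X) ⊆ B.1 := hAB.le
      refine lt_of_le_of_ne (fun y hy => hle hy) ?_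
      intro h
      apply hAB.ne
      apply Subtype.ext
      apply IrreducibleCloseds.ext
      apply Set.Subset.antisymm hle
      intro x hx
      have hxY : x ∈ Y := B.2 hx
      have : (⟨x, hxY⟩ : Y) ∈ (g B : Set Y) := hx
      rw [← h] at this
      exact this
    have h3 := krullDim_le_of_strictMono g hg
    calc ((p.length : ℕ) : WithBot ℕ∞) = ((p.length : ℕ∞) : WithBot ℕ∞) := rfl
      _ ≤ ((height T : ℕ∞) : WithBot ℕ∞) := by exact_mod_cast h1
      _ = krullDim (Set.Iic T) := h2
      _ ≤ _ := h3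
  · exact iSup₂_le fun Y _ => topologicalKrullDim_subspace_le X Y

end Groth.Agent.S10831
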