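import Groth.Statements.S10832
import Groth.Agent.Lib.Helper55.DiscreteScheme

set_option autoImplicit false
universe u
open CategoryTheory AlgebraicGeometry Topology
open Variety

namespace Groth.Agent.S10832

/-- For a nonempty scheme X of finite type over a field k the following are equivalent: X has Krull
dimension 0; X is affine with ring of global sections finite over k and equal to the product of all
its local rings via the germ maps; the underlying space of X is discrete; the underlying space of X
is finite. -/
theorem result (k : Type u) [Field k] {X : Scheme.{u}} [Nonempty X]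
    (f : X ⟶ Spec (CommRingCat.of k)) [LocallyOfFiniteType f] [QuasiCompact f] :
    [topologicalKrullDim ↥X = 0,
      IsAffine X ∧ f.appTop.hom.Finite ∧
        Function.Bijective (fun s : Γ(X, ⊤) => fun x : X => X.presheaf.germ ⊤ x trivial s),
      DiscreteTopology ↥X,
      Finite ↥X].TFAE := by
  have hJ : JacobsonSpace X := LocallyOfFiniteType.jacobsonSpace f
  have hLN : IsLocallyNoetherian X := LocallyOfFiniteType.isLocallyNoetherian f
  have hC : CompactSpace X := QuasiCompact.compactSpace_of_compactSpace f
  have hArtk : IsArtinianRing Γ(Spec (CommRingCat.of k), ⊤) := inferInstance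
  tfae_have 1 → 2 := by
    intro h
    have hLA : IsLocallyArtinian X := .of_topologicalKrullDim_le_zero h.le
    have hD : DiscreteTopology X := inferInstance
    have hAff : IsAffine X := by
      have h1 : IsAffineOpen (⊤ : X.Opens) :=
        Groth.Agent.Lib.Helper51.isAffineOpen_of_isCompact_of_t2Space ⊤ isCompact_univ
      have h2 : IsAffine (⊤ : X.Opens).toScheme := h1
      exact IsAffine.of_isIso X.topIso.inv
    refine ⟨hAff, ?_, Groth.Agent.Lib.Helper55.bijective_germ_of_discreteTopology X⟩
    have hArt : IsArtinianRing Γ(X, ⊤) := inferInstance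
    have hft : f.appTop.hom.FiniteType :=
      (HasRingHomProperty.iff_of_isAffine (P := @LocallyOfFiniteType)).mp inferInstance
    algebraize [f.appTop.hom]
    exact RingHom.finite_algebraMap.mpr (Module.finite_of_isArtinianRing _ _)
  tfae_have 2 → 4 := by
    rintro ⟨hAff, hfin, -⟩
    algebraize [f.appTop.hom]
    have hArt : IsArtinianRing Γ(X, ⊤) := IsArtinianRing.of_finite Γ(Spec (CommRingCat.of k), ⊤) _
    have hF : Finite (PrimeSpectrum Γ(X, ⊤)) := inferInstance
    exact Finite.of_equiv _ X.isoSpec.hom.homeomorph.symm.toEquiv
  tfae_have 4 → 3 := fun _ ↦ inferInstance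
  tfae_have 3 → 1 := by
    intro _
    apply le_antisymm (topologicalKrullDim_zero_of_discreteTopology X)
    obtain ⟨x⟩ := ‹Nonempty X›
    have : Nonempty (TopologicalSpace.IrreducibleCloseds X) :=
      ⟨⟨closure {x}, isIrreducible_singleton.closure, isClosed_closure⟩⟩
    exact Order.krullDim_nonneg
  tfae_finish

end Groth.Agent.S10832
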