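import Groth.Statements.S10834
import Groth.Agent.Lib.Helper73.HypersurfaceCM

set_option maxSynthPendingDepth 3

set_option autoImplicit false
universe u
open CAlg

namespace Groth.Agent.S10834

/-- Let A be a Noetherian ring whose localizations at all prime ideals are regular local rings, and f an
element of A generating a prime ideal, so that A/(f) is an integral domain (an integral hypersurface
in the regular affine scheme Spec A). Then A/(f) is normal (integrally closed in its fraction field)
if and only if it is regular in codimension 1, i.e. its localization at every prime at which the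
local ring has dimension 1 is a regular local ring. -/
theorem result (A : Type u) [CommRing A]
    [IsNoetherianRing A] (hreg : ∀ (p : Ideal A) (_ : p.IsPrime), IsRegularLocalRing (Localization.AtPrime p))
    (f : A) (hf : (Ideal.span ({f} : Set A)).IsPrime) :
    IsIntegrallyClosed (A ⧸ Ideal.span ({f} : Set A)) ↔
      ∀ q : PrimeSpectrum (A ⧸ Ideal.span ({f} : Set A)),
        ringKrullDim (Localization.AtPrime q.asIdeal) = 1 →
          IsRegularLocalRing (Localization.AtPrime q.asIdeal) := by
  haveI : IsDomain (A ⧸ Ideal.span ({f} : Set A)) := (Ideal.Quotient.isDomain_iff_prime _).mpr hf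
  constructor
  · intro hic q hdim
    haveI := q.isPrime
    have hN : IsNoetherianRing (Localization.AtPrime q.asIdeal) :=
      IsLocalization.isNoetherianRing q.asIdeal.primeCompl _ inferInstance
    haveI : IsIntegrallyClosed (Localization.AtPrime q.asIdeal) :=
      isIntegrallyClosed_of_isLocalization _ q.asIdeal.primeCompl
        q.asIdeal.primeCompl_le_nonZeroDivisors
    exact Groth.Agent.Lib.Helper29.isRegularLocalRing_of_isIntegrallyClosed_of_dim_le_one _
      (le_of_eq hdim)
  · intro h
    apply Groth.Agent.Lib.Helper73.RegularNormal.isIntegrallyClosed_of_isNormalRing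
    apply Groth.Agent.Lib.Helper29.isNormalRing_of_hasRk_one_of_hasSk_two
    · intro q hq hht
      have hdim : ringKrullDim (Localization.AtPrime q) = q.height :=
        IsLocalization.AtPrime.ringKrullDim_eq_height q _
      by_cases h1 : q.height = 1
      · exact h ⟨q, hq⟩ (by rw [hdim, h1]; rfl)
      · have h0 : q.height = 0 := by
          have hlt : q.height < 1 := lt_of_le_of_ne (by exact_mod_cast hht) h1
          exact ENat.lt_one_iff_eq_zero.mp hlt
        have hN : IsNoetherianRing (Localization.AtPrime q) :=
          IsLocalization.isNoetherianRing q.primeCompl _ inferInstance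
        haveI : Ring.KrullDimLE 0 (Localization.AtPrime q) := by
          rw [Ring.krullDimLE_iff, hdim, h0]
          rfl
        have hfield : IsField (Localization.AtPrime q) := Ring.KrullDimLE.isField_of_isDomain
        apply IsRegularLocalRing.of_spanFinrank_maximalIdeal_le
        rw [IsLocalRing.isField_iff_maximalIdeal_eq.mp hfield, Submodule.spanFinrank_bot]
        exact_mod_cast ringKrullDim_nonneg_of_nontrivial
    · rw [Groth.Agent.Lib.Helper29.hasSk_self_iff]
      intro q hq
      rw [Groth.Agent.Lib.Helper73.HypersurfaceCM.depth_eq_height_quotient A hreg f q]
      exact min_le_right _ _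

end Groth.Agent.S10834
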