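import Groth.Statements.S10835
import Mathlib
import Groth.Agent.Lib.Helper50.HypModel
import Groth.Agent.Lib.Helper50.HypScheme

set_option autoImplicit false
universe u
open CategoryTheory AlgebraicGeometry
attribute [local instance] Curv2.stalkAlgebra
open Variety

namespace Groth.Agent.S10835

/-- Let k be a field and X an integral scheme of finite type over k whose function field admits a
transcendence basis s_1, …, s_d over k over which it is separable algebraic (this holds whenever the
function field is a separable extension of k in the sense of field theory, e.g. for k perfect, and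
then d = dim X). Then some nonempty open subscheme of X is isomorphic, over k, to a nonempty open
subscheme of Spec k[T_1, …, T_d][T]/(g) for a monic polynomial g over k[T_1, …, T_d] which is
irreducible and separable over the fraction field k(T_1, …, T_d). -/
theorem result (k : Type u) [Field k]
    (X : Scheme.{u}) [X.Over (Spec (CommRingCat.of k))] [IsIntegral X]
    [LocallyOfFiniteType (X ↘ Spec (CommRingCat.of k))] [QuasiCompact (X ↘ Spec (CommRingCat.of k))]
    (d : ℕ) (s : Fin d → X.presheaf.stalk (genericPoint X)) (hs : IsTranscendenceBasis k s)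
    (hsep : Algebra.IsSeparable ↥(IntermediateField.adjoin k (Set.range s)) (X.presheaf.stalk (genericPoint X))) :
    ∃ (g : Polynomial (MvPolynomial (Fin d) k)), g.Monic ∧
      Irreducible (g.map (algebraMap (MvPolynomial (Fin d) k) (FractionRing (MvPolynomial (Fin d) k)))) ∧
      (g.map (algebraMap (MvPolynomial (Fin d) k) (FractionRing (MvPolynomial (Fin d) k)))).Separable ∧
      ∃ (U : X.Opens) (V : (Spec (CommRingCat.of (AdjoinRoot g))).Opens) (e : (U : Scheme.{u}) ≅ (V : Scheme.{u})),
        (U : Set X).Nonempty ∧ (V : Set (Spec (CommRingCat.of (AdjoinRoot g)))).Nonempty ∧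
        e.hom ≫ V.ι ≫ Spec.map (CommRingCat.ofHom (algebraMap k (AdjoinRoot g))) =
          U.ι ≫ (X ↘ Spec (CommRingCat.of k)) := by
    classical
    obtain ⟨⟨T, hT⟩, hC⟩ := Groth.Agent.Lib.Helper50.exists_open_iso_open_spec k X
      (X ↘ Spec (CommRingCat.of k)) rfl
    obtain ⟨g, hmonic, hirr, hsepg, φ, hφinj, hfrac⟩ :=
      Groth.Agent.Lib.Helper50.exists_hypersurface_model k (X.presheaf.stalk (genericPoint X)) d s hs
        hsep T hT
    refine ⟨g, hmonic, hirr, hsepg, ?_⟩
    letI algCK : Algebra (AdjoinRoot g) X.functionField := φ.toRingHom.toAlgebra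
    haveI : IsScalarTower k (AdjoinRoot g) X.functionField :=
      IsScalarTower.of_algebraMap_eq fun r => (φ.commutes r).symm
    haveI : IsDomain (AdjoinRoot g) := hφinj.isDomain φ.toRingHom
    haveI : Algebra.FiniteType k (AdjoinRoot g) := by
      haveI : Algebra.FiniteType k (Polynomial (MvPolynomial (Fin d) k)) :=
        Algebra.FiniteType.trans (inferInstance : Algebra.FiniteType k (MvPolynomial (Fin d) k))
          inferInstance
      exact Algebra.FiniteType.of_surjective
        ((AdjoinRoot.mkₐ g).restrictScalars k) (AdjoinRoot.mk_surjective)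
    haveI : IsFractionRing (AdjoinRoot g) X.functionField := by
      refine ⟨?_, ?_, ?_⟩
      · rintro ⟨y, hy⟩
        apply IsUnit.mk0
        intro h
        have : y = 0 := hφinj (by rw [map_zero]; exact h)
        exact (nonZeroDivisors.ne_zero hy) this
      · intro x
        obtain ⟨a, c, hc, hx⟩ := hfrac x
        exact ⟨⟨a, ⟨c, mem_nonZeroDivisors_of_ne_zero hc⟩⟩, hx⟩
      · intro a b hab
        exact ⟨1, by rw [hφinj hab]⟩
    exact hC (AdjoinRoot g)

end Groth.Agent.S10835
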