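import Groth.Statements.S10836
import Mathlib.RingTheory.LocalRing.Module
import Mathlib.RingTheory.Localization.Free
import Mathlib.RingTheory.LocalProperties.Projective
import Mathlib.RingTheory.Localization.Ideal

set_option autoImplicit false
universe u
open Coh

namespace Groth.Agent.S10836

open TensorProduct

/-- The localization of a ring at the complement of a finite union of primes is semilocal. -/
theorem finite_maximalSpectrum_localization (A : Type u) [CommRing A]
    (Z : Set (PrimeSpectrum A)) (hZ : Z.Finite) (T : Submonoid A)
    (hT : ∀ a, a ∈ T ↔ ∀ p ∈ Z, a ∉ p.asIdeal) :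
    Finite (MaximalSpectrum (Localization T)) := by
  classical
  have hZfin : Finite Z := hZ.to_subtype
  let S := Localization T
  -- every maximal ideal of `S` is the extension of some `p ∈ Z`
  have key : ∀ P : MaximalSpectrum S, ∃ p : Z, P.asIdeal = Ideal.map (algebraMap A S) p.1.asIdeal := by
    intro P
    have hPprime : P.asIdeal.IsPrime := P.isMaximal.isPrime
    obtain ⟨hq, hdisj⟩ := (IsLocalization.isPrime_iff_isPrime_disjoint T S P.asIdeal).mp hPprime
    have hsub : ((P.asIdeal.under A : Ideal A) : Set A) ⊆
        ⋃ p ∈ ((hZ.toFinset : Finset (PrimeSpectrum A)) : Set (PrimeSpectrum A)), (p.asIdeal : Set A) := by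
      intro a ha
      have haT : a ∉ T := fun h => Set.disjoint_left.mp hdisj h ha
      rw [hT] at haT
      push Not at haT
      obtain ⟨p, hpZ, hap⟩ := haT
      exact Set.mem_biUnion (by simpa using hpZ) hap
    obtain ⟨p, hpZ, hle⟩ := (Ideal.subset_union_prime (f := fun p : PrimeSpectrum A => p.asIdeal)
      ⟨_, hq⟩ ⟨_, hq⟩ (fun i _ _ _ => i.2)).mp hsub
    have hpZ' : p ∈ Z := by simpa using hpZ
    refine ⟨⟨p, hpZ'⟩, ?_⟩
    have hpdisj : Disjoint (T : Set A) (p.asIdeal : Set A) := by
      rw [Set.disjoint_left]
      intro a haT hap
      exact (hT a).mp haT p hpZ' hap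
    have hprime : (Ideal.map (algebraMap A S) p.asIdeal).IsPrime :=
      IsLocalization.isPrime_of_isPrime_disjoint T S _ p.2 hpdisj
    have hle' : P.asIdeal ≤ Ideal.map (algebraMap A S) p.asIdeal := by
      rw [← IsLocalization.map_under T S P.asIdeal]
      exact Ideal.map_mono hle
    exact P.isMaximal.eq_of_le hprime.ne_top hle'
  choose g hg using key
  refine Finite.of_injective g ?_
  intro P P' h
  apply MaximalSpectrum.ext
  rw [hg P, hg P', h]

/-- For a finite projective module of constant rank `r` over `S` and a maximal ideal `P`, the fibre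
has dimension `r`. -/
theorem finrank_quotient_tensor (S : Type u) [CommRing S] (N : Type u) [AddCommGroup N] [Module S N]
    [Module.Finite S N] [Module.Flat S N] (r : ℕ)
    (hr : ∀ p : PrimeSpectrum S, Module.rankAtStalk N p = r) (P : MaximalSpectrum S) :
    Module.finrank (S ⧸ P.1) ((S ⧸ P.1) ⊗[S] N) = r := by
  let _ : Field (S ⧸ P.1) := @Ideal.Quotient.field _ _ P.1 P.2
  let q : PrimeSpectrum (S ⧸ P.1) := ⟨⊥, Ideal.isPrime_bot⟩
  have h1 : Module.rankAtStalk ((S ⧸ P.1) ⊗[S] N) q = Module.finrank (S ⧸ P.1) ((S ⧸ P.1) ⊗[S] N) := by
    rw [Module.rankAtStalk_eq_finrank_of_free]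
    rfl
  rw [← h1, Module.rankAtStalk_baseChange, hr]

/-- Let A be a commutative ring, M a finitely generated projective A-module whose rank at every prime is
r, and Z a finite set of prime ideals of A. Then there is an element s of A outside every prime of Z
such that the localized module M_s has a basis of r elements over A_s. (The published statement is
for a finite locally free module of constant rank r on a scheme and a finite set of points inside an
affine open Spec A, and produces a basic open D(s) containing the points on which the module is free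
of rank r; its argument begins by replacing the scheme with Spec A, and this row states that case.) -/
theorem result (A : Type u) [CommRing A]
    (M : Type u) [AddCommGroup M] [Module A M] [Module.Finite A M] [Module.Projective A M] (r : ℕ)
    (hr : ∀ p : PrimeSpectrum A, Module.rankAtStalk M p = r)
    (Z : Set (PrimeSpectrum A)) (hZ : Z.Finite) :
    ∃ s : A, (∀ p ∈ Z, s ∉ p.asIdeal) ∧
      Nonempty (Module.Basis (Fin r) (Localization.Away s) (LocalizedModule (Submonoid.powers s) M)) := by
  classical
  -- the multiplicative set of elements outside all primes of `Z`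
  let T : Submonoid A := ⨅ p ∈ Z, p.asIdeal.primeCompl
  have hT : ∀ a, a ∈ T ↔ ∀ p ∈ Z, a ∉ p.asIdeal := by
    intro a
    simp only [T, Submonoid.mem_iInf]
    rfl
  let S := Localization T
  let M' := LocalizedModule T M
  have : Finite (MaximalSpectrum S) := finite_maximalSpectrum_localization A Z hZ T hT
  have hr' : ∀ p : PrimeSpectrum S, Module.rankAtStalk M' p = r := by
    intro p
    rw [Module.rankAtStalk_isBaseChange (LocalizedModule.isBaseChange T M) p, hr]
  obtain ⟨b⟩ := Module.nonempty_basis_of_flat_of_finrank_eq S M' r
    (finrank_quotient_tensor S M' r hr')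
  have : Module.FinitePresentation A M := Module.finitePresentation_of_projective A M
  obtain ⟨s, hsT, b', -⟩ := Module.FinitePresentation.exists_basis_localizedModule_powers T
    (LocalizedModule.mkLinearMap T M) S b
  exact ⟨s, (hT s).mp hsT, ⟨b'⟩⟩

end Groth.Agent.S10836
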