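import Groth.Statements.S1084
-- import your own Groth.Agent.* helpers here
import Groth.Agent.Lib.Helper32.FilLevels
import Groth.Agent.Lib.Helper32.FilBiprod
import Groth.Agent.Lib.Helper32.RDPlus
import Groth.Agent.Lib.Helper32.Postnikov
import Mathlib.Algebra.Homology.HomotopyCategory.Triangulated

set_option autoImplicit false
universe v u
open CategoryTheory CategoryTheory.Limits Opposite
open FilD

namespace Groth.Agent.S1084

open Groth.Agent.Lib.Helper32 CochainComplex CategoryTheory.Pretriangulated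

section
variable {A : Type u} [Category.{v} A] [Abelian A]

lemma isFilteredAcyclic_mappingCone {K L : CochainComplex (FilD.FilF A) ℤ} (α : K ⟶ L)
    (hα : FilD.IsFilteredQuasiIso α) : FilD.IsFilteredAcyclic (mappingCone α) := by
  intro p n
  have e := mappingCone.mapHomologicalComplexIso α (FilD.grF A p)
  have hq : QuasiIso ((FilD.grCx p).map α) := hα p
  have hac : (mappingCone ((FilD.grCx p).map α)).Acyclic :=
    (ConeAcyclic.quasiIso_iff_acyclic_mappingCone _).1 hq
  exact (hac n).of_iso e.symm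

lemma hom_eq_zero (C I : CochainComplex (FilD.FilF A) ℤ) (hC : FilD.IsFilteredAcyclic C)
    (a : ℤ) [I.IsStrictlyGE a] (hI : ∀ n, FilD.IsFilteredInjective (I.X n))
    (γ : (HomotopyCategory.quotient (FilD.FilF A) (ComplexShape.up ℤ)).obj C ⟶
      (HomotopyCategory.quotient (FilD.FilF A) (ComplexShape.up ℤ)).obj I) : γ = 0 := by
  obtain ⟨g, rfl⟩ := (HomotopyCategory.quotient _ _).map_surjective γ
  obtain ⟨h⟩ := FilLevels.nonempty_homotopy_zero C I hC a hI g
  rw [HomotopyCategory.eq_of_homotopy _ _ h, Functor.map_zero]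

lemma hom_shift_eq_zero (C I : CochainComplex (FilD.FilF A) ℤ) (hC : FilD.IsFilteredAcyclic C)
    (a : ℤ) [I.IsStrictlyGE a] (hI : ∀ n, FilD.IsFilteredInjective (I.X n))
    (m : (HomotopyCategory.quotient (FilD.FilF A) (ComplexShape.up ℤ)).obj C ⟶
      ((HomotopyCategory.quotient (FilD.FilF A) (ComplexShape.up ℤ)).obj I)⟦(1 : ℤ)⟧) : m = 0 := by
  let e := ((HomotopyCategory.quotient (FilD.FilF A) (ComplexShape.up ℤ)).commShiftIso (1 : ℤ)).app I
  haveI : (I⟦(1 : ℤ)⟧).IsStrictlyGE (a - 1) := I.isStrictlyGE_shift a 1 (a - 1) (by ring)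
  have hI' : ∀ n, FilD.IsFilteredInjective ((I⟦(1 : ℤ)⟧).X n) := fun n => hI (n + 1)
  have h0 : m ≫ e.inv = 0 := hom_eq_zero C (I⟦(1 : ℤ)⟧) hC (a - 1) hI' (m ≫ e.inv)
  rw [← cancel_mono e.inv, h0, zero_comp]

theorem aux (I : CochainComplex (FilD.FilF A) ℤ)
    (a : ℤ) [I.IsStrictlyGE a] (hI : ∀ n, FilD.IsFilteredInjective (I.X n))
    {K L : CochainComplex (FilD.FilF A) ℤ} (α : K ⟶ L) (hα : FilD.IsFilteredQuasiIso α) :
    Function.Bijective (fun β : (HomotopyCategory.quotient (FilD.FilF A) (ComplexShape.up ℤ)).obj L ⟶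
        (HomotopyCategory.quotient (FilD.FilF A) (ComplexShape.up ℤ)).obj I =>
      (HomotopyCategory.quotient (FilD.FilF A) (ComplexShape.up ℤ)).map α ≫ β) := by
  have hC := isFilteredAcyclic_mappingCone α hα
  have hT := HomotopyCategory.mappingCone_triangleh_distinguished α
  constructor
  · intro β₁ β₂ h
    have h0 : (mappingCone.triangleh α).mor₁ ≫ (β₁ - β₂) = 0 := by
      change (HomotopyCategory.quotient (FilD.FilF A) (ComplexShape.up ℤ)).map α ≫ (β₁ - β₂) = 0
      rw [Preadditive.comp_sub]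
      exact sub_eq_zero.2 h
    obtain ⟨γ, hγ⟩ := Triangle.yoneda_exact₂ _ hT (β₁ - β₂) h0
    have : γ = 0 := hom_eq_zero (mappingCone α) I hC a hI γ
    rw [this, comp_zero] at hγ
    exact sub_eq_zero.1 hγ
  · intro g
    have h0 : (mappingCone.triangleh α).mor₃ ≫ g⟦(1 : ℤ)⟧' = 0 :=
      hom_shift_eq_zero (mappingCone α) I hC a hI _
    obtain ⟨β, hβ⟩ := exists_factor_of_mor₃_comp_shift _ hT g h0
    exact ⟨β, hβ.symm⟩

end

/-- Let A be an abelian category, I a bounded below complex of filtered injective objects, and α : K ⟶ L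
a filtered quasi-isomorphism of complexes of finite filtered objects. Then precomposition with α is
a bijection from homotopy classes of maps L ⟶ I to homotopy classes of maps K ⟶ I. -/
theorem result {A : Type u} [Category.{v} A] [Abelian A] (I : CochainComplex (FilD.FilF A) ℤ)
    (a : ℤ) [I.IsStrictlyGE a] (hI : ∀ n, FilD.IsFilteredInjective (I.X n))
    {K L : CochainComplex (FilD.FilF A) ℤ} (α : K ⟶ L) (hα : FilD.IsFilteredQuasiIso α) :
    Function.Bijective (fun β : (HomotopyCategory.quotient (FilD.FilF A) (ComplexShape.up ℤ)).obj L ⟶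
        (HomotopyCategory.quotient (FilD.FilF A) (ComplexShape.up ℤ)).obj I =>
      (HomotopyCategory.quotient (FilD.FilF A) (ComplexShape.up ℤ)).map α ≫ β) := by
  exact aux I a hI α hα

end Groth.Agent.S1084
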