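import Groth.Statements.S10840
-- import your own Groth.Agent.* helpers here
import Groth.Agent.Lib.Helper55.ProjDim

set_option autoImplicit false
universe u
open AlgebraicGeometry Topology
open Variety

namespace Groth.Agent.S10840

open Groth.Agent.Lib.Helper55 MvPolynomial HomogeneousIdeal

/-- For a field k and nonzero homogeneous polynomials f, g of positive degrees in three variables, the
common zero set V_+(f, g) in the projective plane over k is zero-dimensional as a topological
subspace exactly when f and g are coprime, i.e. their only common divisors are the non-zero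
constants. -/
theorem result (k : Type u) [Field k] (n m : ℕ)
    (f g : MvPolynomial (Fin 3) k) (hf : f.IsHomogeneous n) (hg : g.IsHomogeneous m)
    (hn : 0 < n) (hm : 0 < m) (hf0 : f ≠ 0) (hg0 : g ≠ 0) :
    topologicalKrullDim ↥(ProjectiveSpectrum.zeroLocus (CohB1.polyGrading 2 k)
        ({f, g} : Set (MvPolynomial (Fin 3) k))) = 0 ↔ IsRelPrime f g := by
  classical
  set 𝒜 := CohB1.polyGrading 2 k with h𝒜
  set Y := ProjectiveSpectrum.zeroLocus 𝒜 ({f, g} : Set (MvPolynomial (Fin 3) k)) with hYdef
  have hYc : IsClosed Y := ProjectiveSpectrum.isClosed_zeroLocus 𝒜 _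
  have hIhom : (Ideal.span ({f, g} : Set (MvPolynomial (Fin 3) k))).IsHomogeneous 𝒜 := by
    apply Ideal.homogeneous_span
    intro a ha
    rcases ha with rfl | rfl
    · exact ⟨n, hf⟩
    · exact ⟨m, hg⟩
  have hmemY : ∀ y : ProjectiveSpectrum 𝒜, y ∈ Y ↔
      Ideal.span ({f, g} : Set (MvPolynomial (Fin 3) k)) ≤ y.asHomogeneousIdeal.toIdeal := by
    intro y
    rw [hYdef, ProjectiveSpectrum.mem_zeroLocus, Ideal.span_le]
    rfl
  have hfI : f ∈ Ideal.span ({f, g} : Set (MvPolynomial (Fin 3) k)) :=
    Ideal.subset_span (Set.mem_insert _ _)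
  have hgI : g ∈ Ideal.span ({f, g} : Set (MvPolynomial (Fin 3) k)) :=
    Ideal.subset_span (Set.mem_insert_of_mem _ rfl)
  have hdimprime : ∀ p : MvPolynomial (Fin 3) k, Prime p →
      ringKrullDim (MvPolynomial (Fin 3) k ⧸ Ideal.span {p}) = ((2 : ℕ) : WithBot ℕ∞) := by
    intro p hp
    have := ringKrullDim_quotient_span_prime_mvPolynomial k 3 p hp
    exact eq_natCast_of_add_one_eq this
  rw [topologicalKrullDim_eq_krullDim_of_isClosed Y hYc]
  constructor
  · intro hdim
    intro e hef heg
    by_contra heu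
    have he0 : e ≠ 0 := by
      rintro rfl
      exact hf0 (zero_dvd_iff.mp hef)
    obtain ⟨p, hpirr, hpe⟩ := WfDvdMonoid.exists_irreducible_factor heu he0
    have hp : Prime p := hpirr.prime
    have hspanprime : (Ideal.span ({p} : Set (MvPolynomial (Fin 3) k))).IsPrime :=
      (Ideal.span_singleton_prime hp.ne_zero).mpr hp
    have hIp : Ideal.span ({f, g} : Set (MvPolynomial (Fin 3) k)) ≤ Ideal.span {p} := by
      rw [Ideal.span_le]
      intro a ha
      rcases ha with rfl | rfl
      · exact Ideal.mem_span_singleton.mpr (hpe.trans hef)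
      · exact Ideal.mem_span_singleton.mpr (hpe.trans heg)
    obtain ⟨Q, hQ, hQp⟩ := Ideal.exists_minimalPrimes_le hIp
    have hQprime : Q.IsPrime := hQ.1.1
    have hQhom : Q.IsHomogeneous 𝒜 := isHomogeneous_of_mem_minimalPrimes 𝒜 hIhom hQ
    have hQdim : ((2 : ℕ) : WithBot ℕ∞) ≤ ringKrullDim (MvPolynomial (Fin 3) k ⧸ Q) := by
      rw [← hdimprime p hp]
      have h1 := ringKrullDim_quotient_eq_coheight (⟨Q, hQprime⟩ : PrimeSpectrum _)
      have h2 := ringKrullDim_quotient_eq_coheight
        (⟨Ideal.span {p}, hspanprime⟩ : PrimeSpectrum (MvPolynomial (Fin 3) k))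
      rw [h1, h2]
      have h3 : (⟨Q, hQprime⟩ : PrimeSpectrum (MvPolynomial (Fin 3) k)) ≤
          ⟨Ideal.span {p}, hspanprime⟩ := hQp
      exact_mod_cast Order.coheight_anti h3
    obtain ⟨q, hq⟩ := exists_point_of_isHomogeneous k 2 Q hQhom
      (le_trans (by norm_cast) hQdim)
    have hqY : q ∈ Y := by
      rw [hmemY, hq]
      exact hQ.1.2
    -- coheight of `q` is at least one, so there is a bigger point
    have hcoh := coheight_add_one_eq k 2 q
    rw [hq] at hcoh
    have h1 : (1 : ℕ∞) ≤ Order.coheight q := by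
      have : ((1 : ℕ∞) : WithBot ℕ∞) + 1 ≤ ((Order.coheight q : ℕ∞) : WithBot ℕ∞) + 1 := by
        rw [hcoh]
        exact le_trans (by norm_cast) hQdim
      by_contra hlt
      rw [not_le, Order.lt_one_iff] at hlt
      rw [hlt] at this
      exact absurd this (by decide)
    obtain ⟨l, hlhead, hllen⟩ := Order.exists_series_of_le_coheight q (n := 1) (by exact_mod_cast h1)
    have hlt : l 0 < l 1 := l.strictMono (by
      rw [Fin.lt_def]
      simp [hllen])
    have hl0 : l 0 = q := hlhead
    have hl1Y : l 1 ∈ Y := by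
      rw [hmemY]
      refine le_trans ((hmemY q).mp hqY) ?_
      rw [← hl0]
      exact hlt.le
    have hpos : 0 < Order.krullDim ↥Y := by
      rw [Order.krullDim_pos_iff]
      exact ⟨⟨l 0, hl0 ▸ hqY⟩, ⟨l 1, hl1Y⟩, hlt⟩
    rw [hdim] at hpos
    exact lt_irrefl _ hpos
  · intro hrel
    -- every point of `Y` has `dim S/y = 1`
    have hdimY : ∀ y : ProjectiveSpectrum 𝒜, y ∈ Y →
        ringKrullDim (MvPolynomial (Fin 3) k ⧸ y.asHomogeneousIdeal.toIdeal) = ((1 : ℕ) : WithBot ℕ∞) := by
      intro y hy
      obtain ⟨t, ht⟩ := exists_nat_ringKrullDim_quotient k 2 y.asHomogeneousIdeal.toIdeal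
      have h1 := one_le_ringKrullDim_quotient k 2 y
      rw [ht] at h1 ⊢
      have ht1 : 1 ≤ t := by exact_mod_cast h1
      suffices t ≤ 1 by
        have : t = 1 := by omega
        rw [this]
      by_contra hlt
      have ht2 : 2 ≤ t := by omega
      have hfy : f ∈ y.asHomogeneousIdeal.toIdeal := (hmemY y).mp hy hfI
      have hgy : g ∈ y.asHomogeneousIdeal.toIdeal := (hmemY y).mp hy hgI
      have hy0 : y.asHomogeneousIdeal.toIdeal ≠ ⊥ := by
        intro h0
        rw [h0] at hfy
        exact hf0 ((Ideal.mem_bot).mp hfy)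
      obtain ⟨p, hpy, hp⟩ := Ideal.IsPrime.exists_mem_prime_of_ne_bot y.isPrime hy0
      have hspanprime : (Ideal.span ({p} : Set (MvPolynomial (Fin 3) k))).IsPrime :=
        (Ideal.span_singleton_prime hp.ne_zero).mpr hp
      have hle : Ideal.span {p} ≤ y.asHomogeneousIdeal.toIdeal :=
        (Ideal.span_singleton_le_iff_mem _).mpr hpy
      have heq : Ideal.span {p} = y.asHomogeneousIdeal.toIdeal := by
        by_contra hne
        have hlt' := ringKrullDim_quotient_add_one_le_of_lt (lt_of_le_of_ne hle hne)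
        rw [ht, hdimprime p hp] at hlt'
        have : t + 1 ≤ 2 := by exact_mod_cast hlt'
        omega
      have hpf : p ∣ f := Ideal.mem_span_singleton.mp (heq ▸ hfy)
      have hpg : p ∣ g := Ideal.mem_span_singleton.mp (heq ▸ hgy)
      exact hp.not_isUnit (hrel hpf hpg)
    apply le_antisymm
    · rw [Order.krullDim_nonpos_iff_forall_isMax]
      intro y
      rw [isMax_iff_forall_not_lt]
      intro y' hlt
      have hlt' : y.1.asHomogeneousIdeal.toIdeal < y'.1.asHomogeneousIdeal.toIdeal := hlt
      have h1 := ringKrullDim_quotient_add_one_le_of_lt hlt'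
      rw [hdimY y.1 y.2, hdimY y'.1 y'.2] at h1
      exact absurd h1 (by decide)
    · -- nonempty
      have hIle : Ideal.span ({f, g} : Set (MvPolynomial (Fin 3) k)) ≤ (irrelevant 𝒜).toIdeal := by
        rw [Ideal.span_le]
        intro a ha
        rcases ha with rfl | rfl
        · exact HomogeneousIdeal.mem_irrelevant_of_mem _ hn hf
        · exact HomogeneousIdeal.mem_irrelevant_of_mem _ hm hg
      have hIne : Ideal.span ({f, g} : Set (MvPolynomial (Fin 3) k)) ≠ ⊤ :=
        fun h => (irrelevant_isMaximal k 2).ne_top (top_le_iff.mp (h ▸ hIle))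
      obtain ⟨Q, hQ⟩ := Ideal.nonempty_minimalPrimes hIne
      have hcoe : (({f, g} : Finset (MvPolynomial (Fin 3) k)) : Set (MvPolynomial (Fin 3) k)) =
          {f, g} := by
        simp
      have hsup : (botPoint k 2).asHomogeneousIdeal.toIdeal ⊔
          Ideal.span (({f, g} : Finset (MvPolynomial (Fin 3) k)) : Set (MvPolynomial (Fin 3) k)) =
          Ideal.span ({f, g} : Set (MvPolynomial (Fin 3) k)) := by
        rw [hcoe, botPoint_toIdeal, bot_sup_eq]
      obtain ⟨y, hy⟩ := exists_point_of_mem_minimalPrimes k 2 (botPoint k 2) {f, g}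
        (by rw [hsup]; exact hIhom) Q (by rw [hsup]; exact hQ) (by
          rw [ringKrullDim_quotient_botPoint]
          have : ({f, g} : Finset (MvPolynomial (Fin 3) k)).card ≤ 2 := Finset.card_le_two
          have : ({f, g} : Finset (MvPolynomial (Fin 3) k)).card + 1 ≤ 2 + 1 := by omega
          exact_mod_cast this)
      have : Nonempty ↥Y := ⟨⟨y, (hmemY y).mpr (hy ▸ hQ.1.2)⟩⟩
      exact Order.krullDim_nonneg

end Groth.Agent.S10840
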