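import Groth.Statements.S10841
import Groth.Agent.Lib.Helper55.DimTrdeg
import Groth.Agent.Lib.Helper55.DimOpenCover

set_option autoImplicit false
universe u
open CategoryTheory AlgebraicGeometry Topology
open Variety

namespace Groth.Agent.S10841

/-- Let k be a field, X an irreducible scheme of finite type over k, and f : Y → X a morphism over k
from a scheme Y of finite type over k whose image contains the generic point of X. Then dim Y ≥ dim
X. -/
theorem result (k : Type u) [Field k] {X Y : Scheme.{u}}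
    (p : X ⟶ Spec (CommRingCat.of k)) (q : Y ⟶ Spec (CommRingCat.of k))
    [LocallyOfFiniteType p] [QuasiCompact p] [LocallyOfFiniteType q] [QuasiCompact q]
    [IrreducibleSpace ↥X] (f : Y ⟶ X) (hf : f ≫ p = q)
    (hη : genericPoint ↥X ∈ Set.range f.base) :
    topologicalKrullDim ↥X ≤ topologicalKrullDim ↥Y := by
  obtain ⟨y, hy⟩ := hη
  apply Groth.Agent.Lib.Helper55.topologicalKrullDim_le_of_forall_exists_open
  intro x
  obtain ⟨U, hU, hxU, -⟩ := exists_isAffineOpen_mem_and_subset (x := x) (U := ⊤) trivial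
  refine ⟨U, hxU, ?_⟩
  have hηU : genericPoint X ∈ U :=
    ((genericPoint_spec X).mem_open_set_iff U.2).mpr ⟨x, trivial, hxU⟩
  have hyU : y ∈ f ⁻¹ᵁ U := by
    change f.base y ∈ U
    rw [hy]
    exact hηU
  obtain ⟨V, hV, hyV, hVU⟩ := exists_isAffineOpen_mem_and_subset hyU
  have hdU : topologicalKrullDim {z // z ∈ U} = ringKrullDim Γ(X, U) := by
    rw [← PrimeSpectrum.topologicalKrullDim_eq_ringKrullDim]
    exact IsHomeomorph.topologicalKrullDim_eq _ hU.isoSpec.hom.homeomorph.isHomeomorph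
  have hdV : topologicalKrullDim {z // z ∈ V} = ringKrullDim Γ(Y, V) := by
    rw [← PrimeSpectrum.topologicalKrullDim_eq_ringKrullDim]
    exact IsHomeomorph.topologicalKrullDim_eq _ hV.isoSpec.hom.homeomorph.isHomeomorph
  refine le_trans (le_of_eq hdU) (le_trans ?_ (hdV ▸ topologicalKrullDim_subspace_le Y V))
  -- the algebra structures over `k`
  have hVU' : V ≤ f ⁻¹ᵁ U := hVU
  have hsurj : Function.Surjective (Scheme.ΓSpecIso (CommRingCat.of k)).inv.hom :=
    (ConcreteCategory.bijective_of_isIso (Scheme.ΓSpecIso (CommRingCat.of k)).inv).2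
  let ψU : k →+* Γ(X, U) :=
    (p.appLE ⊤ U le_top).hom.comp (Scheme.ΓSpecIso (CommRingCat.of k)).inv.hom
  let ψV : k →+* Γ(Y, V) :=
    (q.appLE ⊤ V le_top).hom.comp (Scheme.ΓSpecIso (CommRingCat.of k)).inv.hom
  have hψU : ψU.FiniteType :=
    (p.finiteType_appLE (isAffineOpen_top _) hU le_top).comp (RingHom.FiniteType.of_surjective _ hsurj)
  have hψV : ψV.FiniteType :=
    (q.finiteType_appLE (isAffineOpen_top _) hV le_top).comp (RingHom.FiniteType.of_surjective _ hsurj)
  have hcomp : (f.appLE U V hVU').hom.comp ψU = ψV := by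
    subst hf
    change ((p.appLE ⊤ U le_top ≫ f.appLE U V hVU').hom).comp _ = _
    rw [Scheme.Hom.appLE_comp_appLE]
  let _ : Algebra k Γ(X, U) := ψU.toAlgebra
  let _ : Algebra k Γ(Y, V) := ψV.toAlgebra
  have hftU : Algebra.FiniteType k Γ(X, U) := hψU
  have hftV : Algebra.FiniteType k Γ(Y, V) := hψV
  let φ' : Γ(X, U) →ₐ[k] Γ(Y, V) :=
    { (f.appLE U V hVU').hom with commutes' := fun r ↦ congr($hcomp r) }
  obtain ⟨𝔮, h𝔮⟩ : ∃ 𝔮 : Spec Γ(Y, V), hV.fromSpec 𝔮 = y := by
    have : y ∈ Set.range hV.fromSpec := by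
      rw [hV.range_fromSpec]
      exact hyV
    exact this
  have h𝔮prime : 𝔮.asIdeal.IsPrime := 𝔮.2
  apply Groth.Agent.Lib.Helper55.ringKrullDim_le_of_comap_le k φ' 𝔮.asIdeal
  intro 𝔭' h𝔭'
  have h1 : hU.fromSpec (Spec.map (f.appLE U V hVU') 𝔮) = genericPoint X := by
    rw [← Scheme.Hom.comp_apply, IsAffineOpen.SpecMap_appLE_fromSpec f hU hV hVU',
      Scheme.Hom.comp_apply, h𝔮, hy]
  have h2 : hU.fromSpec (Spec.map (f.appLE U V hVU') 𝔮) ⤳ hU.fromSpec ⟨𝔭', h𝔭'⟩ := by
    rw [h1]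
    exact (genericPoint_spec X).specializes trivial
  have h3 : (Spec.map (f.appLE U V hVU') 𝔮) ⤳ (⟨𝔭', h𝔭'⟩ : Spec Γ(X, U)) :=
    hU.fromSpec.isOpenEmbedding.isInducing.specializes_iff.mp h2
  exact (PrimeSpectrum.le_iff_specializes _ _).mpr h3

end Groth.Agent.S10841
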