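import Groth.Statements.S10842
import Mathlib.AlgebraicGeometry.AffineScheme
import Mathlib.RingTheory.IntegralClosure.IntegrallyClosed
import Mathlib.RingTheory.Localization.LocalizationLocalization

set_option autoImplicit false
universe u
open CategoryTheory AlgebraicGeometry
open Variety

namespace Groth.Agent.S10842

open TopologicalSpace

/-- If `x ⤳ y` in a scheme and the stalk at `y` is an integrally closed domain, so is the stalk
at `x` (it is a localization of the stalk at `y`). -/
theorem normal_stalk_of_specializes (X : Scheme.{u}) {x y : X} (h : x ⤳ y)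
    (hy : IsDomain (X.presheaf.stalk y) ∧ IsIntegrallyClosed (X.presheaf.stalk y)) :
    IsDomain (X.presheaf.stalk x) ∧ IsIntegrallyClosed (X.presheaf.stalk x) := by
  obtain ⟨hdom, hic⟩ := hy
  -- an affine open neighbourhood of `y`
  obtain ⟨_, ⟨U, hU, rfl⟩, hyU, -⟩ :=
    X.isBasis_affineOpens.exists_subset_of_mem_open (Set.mem_univ y) isOpen_univ
  have hxU : x ∈ U := h.mem_open U.isOpen hyU
  let R := Γ(X, U)
  let Sy := X.presheaf.stalk y
  let Sx := X.presheaf.stalk x
  let algy : Algebra R Sy := TopCat.Presheaf.algebra_section_stalk X.presheaf ⟨y, hyU⟩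
  let algx : Algebra R Sx := TopCat.Presheaf.algebra_section_stalk X.presheaf ⟨x, hxU⟩
  let algyx : Algebra Sy Sx := (X.presheaf.stalkSpecializes h).hom.toAlgebra
  have tower : IsScalarTower R Sy Sx := IsScalarTower.of_algebraMap_eq' (by
    change (X.presheaf.germ U x hxU).hom =
      (X.presheaf.stalkSpecializes h).hom.comp (X.presheaf.germ U y hyU).hom
    rw [← CommRingCat.hom_comp, TopCat.Presheaf.germ_stalkSpecializes])
  let py := hU.primeIdealOf ⟨y, hyU⟩
  let px := hU.primeIdealOf ⟨x, hxU⟩
  have locy : IsLocalization.AtPrime Sy py.asIdeal := hU.isLocalization_stalk ⟨y, hyU⟩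
  have locx : IsLocalization.AtPrime Sx px.asIdeal := hU.isLocalization_stalk ⟨x, hxU⟩
  have hle : px ≤ py := by
    rw [PrimeSpectrum.le_iff_specializes]
    have hs : (⟨x, hxU⟩ : U) ⤳ ⟨y, hyU⟩ := (subtype_specializes_iff _ _).mpr h
    exact hs.map hU.isoSpec.hom.continuous
  have hcompl : py.asIdeal.primeCompl ≤ px.asIdeal.primeCompl := by
    intro r hr hrx
    exact hr (hle hrx)
  have loc : IsLocalization (px.asIdeal.primeCompl.map (algebraMap R Sy)) Sx :=
    IsLocalization.isLocalization_of_submonoid_le Sy Sx _ _ hcompl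
  have hM : px.asIdeal.primeCompl.map (algebraMap R Sy) ≤ nonZeroDivisors Sy := by
    rintro _ ⟨r, hr, rfl⟩
    apply mem_nonZeroDivisors_of_ne_zero
    intro h0
    have hunit : IsUnit (algebraMap R Sx r) :=
      IsLocalization.map_units Sx (⟨r, hr⟩ : px.asIdeal.primeCompl)
    rw [IsScalarTower.algebraMap_apply R Sy Sx, h0, map_zero] at hunit
    exact not_isUnit_zero hunit
  exact ⟨IsLocalization.isDomain_of_le_nonZeroDivisors Sx hM,
    isIntegrallyClosed_of_isLocalization Sx _ hM⟩

/-- A quasi-compact scheme whose local rings at all closed points are integrally closed domains is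
normal, i.e. all of its local rings are integrally closed domains. -/
theorem result (X : Scheme.{u}) [CompactSpace ↥X]
    (h : ∀ x : X, IsClosed ({x} : Set X) →
      IsDomain (X.presheaf.stalk x) ∧ IsIntegrallyClosed (X.presheaf.stalk x)) :
    Pi1.IsNormalScheme X := by
  intro x
  obtain ⟨y, hy, hycl⟩ := IsClosed.exists_closed_singleton (isClosed_closure (s := {x}))
    (Set.singleton_nonempty x |>.mono subset_closure)
  have hxy : x ⤳ y := specializes_iff_mem_closure.mpr hy
  exact normal_stalk_of_specializes X hxy (h y hycl)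

end Groth.Agent.S10842
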