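import Mathlib
import Groth.Statements.S10844
import Groth.Agent.Lib.Helper49.PullbackSupport
import Groth.Agent.Lib.Helper49.QCohLocal
import Groth.Agent.Lib.Helper49.FiniteTypeLocal

set_option autoImplicit false
universe u
open RepF

namespace Groth.Agent.S10844

open AlgebraicGeometry CategoryTheory in
/-- For a scheme S and a homomorphism v : E → F of quasi-coherent O_S-modules with F of finite type,
there is an open subscheme U of S such that a morphism of schemes f : T → S factors through U (its
image lies in U) if and only if the pulled-back homomorphism f^*v : f^*E → f^*F is an epimorphism. -/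
theorem result {S : Scheme.{u}} {E F : S.Modules}
    [Coh.IsQCoh E] [Coh.IsQCoh F] (hF : CohB1.IsFT F) (v : E ⟶ F) :
    ∃ U : S.Opens, ∀ (T : Scheme.{u}) (f : T ⟶ S),
      Set.range f.base ⊆ (U : Set S) ↔ Epi ((Scheme.Modules.pullback f).map v) := by
  classical
  open Groth.Agent.Lib.Helper49 Limits in
  have hQ : (cokernel v).IsQuasicoherent := isQuasicoherent_cokernel v inferInstance inferInstance
  have hQF : SheafOfModules.IsFiniteType (R := S.ringCatSheaf) (cokernel v) :=
    @isFiniteType_of_epi _ _ _ (cokernel.π v) (coequalizer.π_epi) hF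
  refine ⟨⟨{x : S | Subsingleton ↑((cokernel v).presheaf.stalk x)},
    isOpen_setOf_stalk_subsingleton (cokernel v) hQF⟩, fun T f => ?_⟩
  have hadj : (Scheme.Modules.pullback f).IsLeftAdjoint :=
    (Scheme.Modules.pullbackPushforwardAdjunction f).isLeftAdjoint
  have e : cokernel ((Scheme.Modules.pullback f).map v) ≅
      (Scheme.Modules.pullback f).obj (cokernel v) :=
    PreservesCokernel.iso (Scheme.Modules.pullback f) v |>.symm
  rw [Preadditive.epi_iff_isZero_cokernel, e.isZero_iff,
    Groth.Agent.Lib.Helper45.isZero_iff_stalk_subsingleton]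
  constructor
  · intro h t
    rw [subsingleton_stalk_pullback_iff f (cokernel v) hQF t]
    exact h ⟨t, rfl⟩
  · rintro h _ ⟨t, rfl⟩
    exact (subsingleton_stalk_pullback_iff f (cokernel v) hQF t).mp (h t)

end Groth.Agent.S10844
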