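import Groth.Statements.S8875
import Groth.Agent.Lib.Helper45.FittGen

set_option autoImplicit false
universe u
open CategoryTheory CategoryTheory.Limits AlgebraicGeometry TopologicalSpace
open SDiv

namespace Groth.Agent.S8875

/-- (1) ⇔ (3): let S be a scheme, F a quasi-coherent O_S-module of finite type and r ≥ 0. Then F is
finite locally free of rank r if and only if Fit_k(F) = 0 for every k < r and Fit_k(F) = O_S for
every k ≥ r. -/
theorem result (S : Scheme.{u}) (F : S.Modules) (hF : Coh.IsQCoh F) (hft : CohB1.IsFT F)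
    (r : ℕ) :
    FlatMod.IsFinLocFreeOfRank r F ↔
      (∀ k : ℕ, k < r → Fitt.sheafIdeal F k = ⊥) ∧ (∀ k : ℕ, r ≤ k → Fitt.sheafIdeal F k = ⊤) := by
  have : F.IsQuasicoherent := hF
  have : SheafOfModules.IsFiniteType (R := S.ringCatSheaf) F := hft
  constructor
  · intro h
    have key : ∀ x : S, ∃ V : S.affineOpens, x ∈ V.1 ∧
        Nonempty (Γ(F, V.1) ≃ₗ[Γ(S, V.1)] (Fin r → Γ(S, V.1))) := by
      intro x
      obtain ⟨U, hxU, ⟨e⟩⟩ := h x
      obtain ⟨_, ⟨V, hV : IsAffineOpen V, rfl⟩, hxV, hVU⟩ :=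
        S.isBasis_affineOpens.exists_subset_of_mem_open hxU U.2
      exact ⟨⟨V, hV⟩, hxV, ⟨Groth.Agent.Lib.Helper49.sectionsEquivOfIsoFree F r
        (Groth.Agent.Lib.Helper49.isoFreeOfLE hVU F r e)⟩⟩
    choose V hxV e using key
    have hcov : ⨆ x, (V x).1 = ⊤ := by
      rw [eq_top_iff]
      intro x _
      exact TopologicalSpace.Opens.mem_iSup.mpr ⟨x, hxV x⟩
    constructor
    · intro k hk
      apply Scheme.IdealSheafData.ext_of_iSup_eq_top V hcov
      intro x
      rw [Groth.Agent.Lib.Helper45.sheafIdeal_ideal]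
      change _ = (⊥ : Ideal _)
      let b : Module.Basis (Fin r) Γ(S, (V x).1) Γ(F, (V x).1) :=
        Module.Basis.ofEquivFun (e x).some
      exact Groth.Agent.Lib.Helper10.Fitting.fitt_eq_bot_of_basis b
        (by rw [Fintype.card_fin]; exact hk)
    · intro k hk
      apply Scheme.IdealSheafData.ext_of_iSup_eq_top V hcov
      intro x
      rw [Groth.Agent.Lib.Helper45.sheafIdeal_ideal]
      change _ = (⊤ : Ideal _)
      let b : Module.Basis (Fin r) Γ(S, (V x).1) Γ(F, (V x).1) :=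
        Module.Basis.ofEquivFun (e x).some
      exact Groth.Agent.Lib.Helper10.Fitting.fitt_eq_top_of_span b b.span_eq hk
  · rintro ⟨h1, h2⟩ x
    obtain ⟨_, ⟨W, hW : IsAffineOpen W, rfl⟩, hxW, -⟩ :=
      S.isBasis_affineOpens.exists_subset_of_mem_open (Set.mem_univ x) isOpen_univ
    obtain ⟨xW, rfl⟩ : ∃ xW : W, (xW : S) = x := ⟨⟨x, hxW⟩, rfl⟩
    have hx : (xW : S) ∉ (Fitt.sheafIdeal F r).support := by
      rw [h2 r le_rfl, Scheme.IdealSheafData.support_top]
      exact fun h => h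
    have hfit := (Groth.Agent.Lib.Helper45.not_mem_support_sheafIdeal_iff F hW xW r).mp hx
    have := Groth.Agent.Lib.Helper45.finite_stalk F hW xW
    obtain ⟨g, hg⟩ := Groth.Agent.Lib.Helper10.Fitting.exists_span_eq_top_of_fitt_eq_top hfit
    obtain ⟨f, hxf, t, ht⟩ :=
      Groth.Agent.Lib.Helper45.exists_basicOpen_generators_of_span_stalk F hW xW g hg
    have h0 : Fitt.ideal Γ(S, S.basicOpen f) Γ(F, S.basicOpen f) (r - 1) = ⊥ ∨ r = 0 := by
      rcases Nat.eq_zero_or_pos r with hr | hr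
      · exact Or.inr hr
      · left
        have h3 := Groth.Agent.Lib.Helper45.sheafIdeal_ideal F (r - 1)
          ⟨S.basicOpen f, hW.basicOpen f⟩
        rw [h1 (r - 1) (by omega)] at h3
        exact h3.symm
    obtain ⟨e⟩ := Groth.Agent.Lib.Helper45.nonempty_linearEquiv_of_span_of_fitt_eq_bot t ht h0
    exact ⟨S.basicOpen f, hxf,
      Groth.Agent.Lib.Helper49.nonempty_iso_restrict_freeMod_of_linearEquiv (hW.basicOpen f) F r e⟩

end Groth.Agent.S8875
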