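import Mathlib
import Groth.Statements.S10847
import Groth.Agent.S8872
import Groth.Agent.S8875

set_option autoImplicit false
universe u
open FlatMod

namespace Groth.Agent.S10847

open AlgebraicGeometry CategoryTheory in
/-- Let X be a scheme, F a finite-type quasi-coherent O_X-module and r a natural number. Then there is
an immersion i : Z → X (a subscheme of X) such that a morphism of schemes f : T → X factors through
i if and only if the pullback f^*F is finite locally free of rank r. -/
theorem result {X : Scheme.{u}} (F : X.Modules)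
    [Coh.IsQCoh F] (hF : CohB1.IsFT F) (r : ℕ) :
    ∃ (Z : Scheme.{u}) (i : Z ⟶ X), IsImmersion i ∧ ∀ (T : Scheme.{u}) (f : T ⟶ X),
      (∃ g : T ⟶ Z, g ≫ i = f) ↔ FlatMod.IsFinLocFreeOfRank r ((Scheme.Modules.pullback f).obj F) := by
  open Scheme.IdealSheafData Limits in
  classical
  have hq : F.IsQuasicoherent := ‹Coh.IsQCoh F›
  have hft : SheafOfModules.IsFiniteType (R := X.ringCatSheaf) F := hF
  -- the two ideal sheaves
  let I : X.IdealSheafData := ⨆ k : Fin r, Fitt.sheafIdeal F k
  let J : X.IdealSheafData := Fitt.sheafIdeal F r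
  let U : X.Opens := ⟨(J.support : Set X)ᶜ, J.support.isClosed.isOpen_compl⟩
  refine ⟨pullback I.subschemeι U.ι, pullback.fst _ _ ≫ I.subschemeι, inferInstance, ?_⟩
  intro T f
  -- pullback is qcoh of finite type
  have hq' : ((Scheme.Modules.pullback f).obj F).IsQuasicoherent :=
    Groth.Agent.Lib.Helper16.FlatPull.isQuasicoherent_pullback f F
  have hft' : SheafOfModules.IsFiniteType (R := T.ringCatSheaf)
      ((Scheme.Modules.pullback f).obj F) := Groth.Agent.S8872.isFiniteType_pullback f F
  have hfit : ∀ k, Fitt.sheafIdeal ((Scheme.Modules.pullback f).obj F) k =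
      (Fitt.sheafIdeal F k).comap f := fun k =>
    (Groth.Agent.S8872.result f F hq hft k).symm
  have hmono : ∀ k l, k ≤ l → Fitt.sheafIdeal ((Scheme.Modules.pullback f).obj F) k ≤
      Fitt.sheafIdeal ((Scheme.Modules.pullback f).obj F) l := by
    intro k l hkl
    rw [Scheme.IdealSheafData.le_def]
    intro V
    rw [Groth.Agent.Lib.Helper45.sheafIdeal_ideal, Groth.Agent.Lib.Helper45.sheafIdeal_ideal]
    exact Groth.Agent.Lib.Helper10.Fitting.fitt_mono hkl
  rw [Groth.Agent.S8875.result T _ hq' hft' r]
  -- factorisation through the closed subscheme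
  have hclosed : (∃ a : T ⟶ I.subscheme, a ≫ I.subschemeι = f) ↔
      ∀ k : ℕ, k < r → Fitt.sheafIdeal ((Scheme.Modules.pullback f).obj F) k = ⊥ := by
    have h1 : (∃ a : T ⟶ I.subscheme, a ≫ I.subschemeι = f) ↔ I ≤ f.ker := by
      constructor
      · rintro ⟨a, rfl⟩
        have := Scheme.Hom.le_ker_comp a I.subschemeι
        rwa [ker_subschemeι] at this
      · intro h
        exact ⟨IsClosedImmersion.lift I.subschemeι f (by rwa [ker_subschemeι]),
          IsClosedImmersion.lift_fac _ _ _⟩
    rw [h1, iSup_le_iff]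
    constructor
    · intro h k hk
      rw [hfit, ← le_bot_iff, ← le_map_iff_comap_le, map_bot]
      exact h ⟨k, hk⟩
    · intro h k
      have := h k.1 k.2
      rw [hfit, ← le_bot_iff, ← le_map_iff_comap_le, map_bot] at this
      exact this
  -- factorisation through the open subscheme
  have hopen : (∃ b : T ⟶ U.toScheme, b ≫ U.ι = f) ↔
      ∀ k : ℕ, r ≤ k → Fitt.sheafIdeal ((Scheme.Modules.pullback f).obj F) k = ⊤ := by
    have h1 : (∃ b : T ⟶ U.toScheme, b ≫ U.ι = f) ↔ Set.range f ⊆ (U : Set X) := by
      constructor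
      · rintro ⟨b, rfl⟩
        rintro _ ⟨t, rfl⟩
        exact (b t).2
      · intro h
        have h' : Set.range f ⊆ Set.range U.ι := by
          rwa [Scheme.Opens.range_ι]
        exact ⟨IsOpenImmersion.lift U.ι f h', IsOpenImmersion.lift_fac _ _ _⟩
    have h2 : Set.range f ⊆ (U : Set X) ↔
        Fitt.sheafIdeal ((Scheme.Modules.pullback f).obj F) r = ⊤ := by
      rw [hfit, ← support_eq_bot_iff, support_comap]
      constructor
      · intro h
        ext t
        simp only [TopologicalSpace.Closeds.coe_preimage, Set.mem_preimage, SetLike.mem_coe,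
          TopologicalSpace.Closeds.coe_bot, Set.mem_empty_iff_false, iff_false]
        exact fun ht => h ⟨t, rfl⟩ ht
      · intro h
        rintro _ ⟨t, rfl⟩ ht
        have : t ∈ ((J.support.preimage f.continuous : TopologicalSpace.Closeds T) : Set T) := ht
        rw [h] at this
        exact this
    rw [h1, h2]
    constructor
    · intro h k hk
      exact top_le_iff.mp (h ▸ hmono r k hk)
    · intro h
      exact h r le_rfl
  rw [← hclosed, ← hopen]
  constructor
  · rintro ⟨g, rfl⟩
    refine ⟨⟨g ≫ pullback.fst _ _, by simp⟩, ⟨g ≫ pullback.snd _ _, ?_⟩⟩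
    rw [Category.assoc, ← pullback.condition]
  · rintro ⟨⟨a, ha⟩, ⟨b, hb⟩⟩
    refine ⟨pullback.lift a b (ha.trans hb.symm), ?_⟩
    rw [pullback.lift_fst_assoc, ha]

end Groth.Agent.S10847
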