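import Groth.Statements.S10851
import Mathlib.RingTheory.KrullDimension.Zero

set_option autoImplicit false
universe u
open Mero

namespace Groth.Agent.S10851

/-- In a zero-dimensional local ring, localizing at a submonoid of nonzerodivisors changes nothing:
every unit of the localization comes from a unit of the ring. -/
theorem units_range_eq_top (R : Type u) [CommRing R] [IsLocalRing R] (h0 : ringKrullDim R ≤ 0)
    (M : Submonoid R) (hM : M ≤ nonZeroDivisors R) (K : Type u) [CommRing K] [Algebra R K]
    [IsLocalization M K] :
    (Units.map (algebraMap R K).toMonoidHom).range = ⊤ := by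
  have : Ring.KrullDimLE 0 R := (Ring.krullDimLE_iff).mpr (by simpa using h0)
  have hunits : M ≤ IsUnit.submonoid R := by
    intro s hs
    by_contra hns
    have hnil : IsNilpotent s := Ring.KrullDimLE.isNilpotent_iff_mem_nonunits.mpr hns
    have hs0 : s ∈ nonZeroDivisors R := hM hs
    obtain ⟨n, hn⟩ := hnil
    have : (s ^ n) ∈ nonZeroDivisors R := pow_mem hs0 n
    rw [hn] at this
    exact zero_ne_one (α := R) ((mem_nonZeroDivisors_iff.mp this).1 1 (by simp)).symm
  let e : R ≃ₐ[R] K := IsLocalization.atUnits R M hunits
  rw [eq_top_iff]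
  rintro u -
  have h1 : e (e.symm u) = u := e.apply_symm_apply _
  have h2 : e (e.symm (u⁻¹ : Kˣ)) = (u⁻¹ : Kˣ) := e.apply_symm_apply _
  have hmul : e.symm u * e.symm (u⁻¹ : Kˣ) = 1 := by
    apply e.injective
    rw [map_mul, h1, h2, map_one]
    exact u.mul_inv
  refine ⟨⟨e.symm u, e.symm (u⁻¹ : Kˣ), hmul, by rw [mul_comm]; exact hmul⟩, ?_⟩
  ext
  change algebraMap R K (e.symm u) = u
  have : e (e.symm u) = algebraMap R K (e.symm u) := by
    change (IsLocalization.atUnits R M hunits) (e.symm u) = _
    simp [IsLocalization.atUnits]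
  rw [← this, h1]

open AlgebraicGeometry in
/-- Let X be a locally Noetherian scheme and D a divisor on X (a global section of K_X^×/O_X^×). Then
the support of D has codimension at least 1 in X: for every point z at which the germ of D is
non-trivial, the local ring O_{X,z} has Krull dimension at least 1. -/
theorem result {X : Scheme.{u}} [IsLocallyNoetherian X]
    (D : Mero.Divisor X) (z : X) (hz : z ∈ Mero.supp D) :
    (1 : WithBot ℕ∞) ≤ ringKrullDim (X.presheaf.stalk z) := by
  by_contra hlt
  rw [not_le] at hlt
  have h0 : ringKrullDim (X.presheaf.stalk z) ≤ 0 := by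
    generalize ringKrullDim (X.presheaf.stalk z) = d at hlt
    induction d with
    | bot => exact bot_le
    | coe d =>
      have hd : d < 1 := by exact_mod_cast hlt
      rw [Order.lt_one_iff] at hd
      subst hd
      exact le_rfl
  have htop : Mero.stalkUnits X z = ⊤ :=
    units_range_eq_top (X.presheaf.stalk z) h0 (Mero.regStalk X z)
      (Mero.regStalk_le_nonZeroDivisors z) (Mero.KStalk X z)
  apply hz
  obtain ⟨u, hu⟩ := QuotientGroup.mk_surjective (D.1 z)
  rw [← hu, QuotientGroup.eq_one_iff, htop]
  trivial

end Groth.Agent.S10851
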