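import Groth.Statements.S10854
import Groth.Agent.S10853
import Groth.Agent.Lib.Helper55.SpreadOutIso

set_option autoImplicit false
universe u
open FinCond

namespace Groth.Agent.S10854

open Groth.Agent.Lib.Helper55

open AlgebraicGeometry CategoryTheory in
/-- Let S be a scheme and X, Y two S-schemes locally of finite presentation over S. Let x be a point of
X and y a point of Y over the same point of S, and let φ : O_{Y,y} → O_{X,x} be an isomorphism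
compatible with the two homomorphisms from the local ring of S. Then there exist open neighbourhoods
U of x and V of y and an S-isomorphism f : U → V whose composite with Spec O_{X,x} → U and V → Y
equals Spec φ followed by Spec O_{Y,y} → Y. (The published statement assumes the finiteness
conditions only at the points x and y; this row assumes them everywhere.) -/
theorem result
    {X Y S : Scheme.{u}} (sX : X ⟶ S) (sY : Y ⟶ S)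
    [LocallyOfFinitePresentation sX] [LocallyOfFinitePresentation sY]
    {x : X} {y : Y} (e : sX x = sY y)
    (φ : Y.presheaf.stalk y ⟶ X.presheaf.stalk x) [IsIso φ]
    (h : sY.stalkMap y ≫ φ =
      S.presheaf.stalkSpecializes (Inseparable.of_eq e).specializes ≫ sX.stalkMap x) :
    ∃ (U : X.Opens) (hxU : x ∈ U) (V : Y.Opens) (f : U.toScheme ⟶ V.toScheme), IsIso f ∧
      Spec.map φ ≫ Y.fromSpecStalk y = U.fromSpecStalkOfMem x hxU ≫ f ≫ V.ι ∧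
        f ≫ V.ι ≫ sY = U.ι ≫ sX := by
  classical
  -- Step 1: spread out `φ` to `f : U₀ ⟶ Y`.
  obtain ⟨U₀, hxU₀, f, hf₁, hf₂⟩ := Groth.Agent.S10853.spread_out_of_lfp sX sY e φ h
  -- Step 2: spread out `φ⁻¹` to `g : V₀ ⟶ X`.
  have h' : sX.stalkMap x ≫ inv φ =
      S.presheaf.stalkSpecializes (Inseparable.of_eq e.symm).specializes ≫ sY.stalkMap y := by
    rw [IsIso.comp_inv_eq, Category.assoc, h, ← Category.assoc,
      TopCat.Presheaf.stalkSpecializes_comp, TopCat.Presheaf.stalkSpecializes_refl,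
      Category.id_comp]
  obtain ⟨V₀, hyV₀, g, hg₁, hg₂⟩ := Groth.Agent.S10853.spread_out_of_lfp sY sX e.symm (inv φ) h'
  -- the point `x` maps to `y` under `f`, and `y` to `x` under `g`
  have hloc : IsLocalHom φ.hom := inferInstance
  have hloc' : IsLocalHom (inv φ).hom := inferInstance
  have hfx : f ⟨x, hxU₀⟩ = y := by
    have := congr($hf₁ (IsLocalRing.closedPoint _))
    rw [Scheme.Hom.comp_apply, Scheme.Hom.comp_apply, fromSpecStalkOfMem_closedPoint,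
      Spec_closedPoint, Scheme.fromSpecStalk_closedPoint] at this
    exact this.symm
  have hgy : g ⟨y, hyV₀⟩ = x := by
    have := congr($hg₁ (IsLocalRing.closedPoint _))
    rw [Scheme.Hom.comp_apply, Scheme.Hom.comp_apply, fromSpecStalkOfMem_closedPoint,
      Spec_closedPoint, Scheme.fromSpecStalk_closedPoint] at this
    exact this.symm
  -- Step 3: shrink `U₀` to `U₁` so that `f` lands in `V₀`.
  have hU₁U₀ : U₀.ι ''ᵁ (f ⁻¹ᵁ V₀) ≤ U₀ := U₀.ι_image_le _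
  have hxU₁ : x ∈ U₀.ι ''ᵁ (f ⁻¹ᵁ V₀) :=
    ⟨⟨x, hxU₀⟩, show f ⟨x, hxU₀⟩ ∈ V₀ from hfx ▸ hyV₀, rfl⟩
  have hrange₁ : Set.range (X.homOfLE hU₁U₀ ≫ f) ⊆ Set.range V₀.ι := by
    rintro _ ⟨⟨_, u, hu, rfl⟩, rfl⟩
    rw [Scheme.Opens.range_ι, Scheme.Hom.comp_apply, Scheme.homOfLE_apply']
    exact hu
  let f₁' : (U₀.ι ''ᵁ (f ⁻¹ᵁ V₀)).toScheme ⟶ V₀.toScheme :=
    IsOpenImmersion.lift V₀.ι (X.homOfLE hU₁U₀ ≫ f) hrange₁
  have hf₁' : f₁' ≫ V₀.ι = X.homOfLE hU₁U₀ ≫ f := IsOpenImmersion.lift_fac _ _ _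
  have hf₁'s : (U₀.ι ''ᵁ (f ⁻¹ᵁ V₀)).fromSpecStalkOfMem x hxU₁ ≫ f₁' =
      Spec.map φ ≫ V₀.fromSpecStalkOfMem y hyV₀ := by
    rw [← cancel_mono V₀.ι, Category.assoc, hf₁', ← Category.assoc, fromSpecStalkOfMem_homOfLE,
      Category.assoc, Scheme.Opens.fromSpecStalkOfMem_ι, ← hf₁]
  -- Step 4: `f₁' ≫ g` agrees with the inclusion near `x`.
  obtain ⟨U₂, hU₂U₁, hxU₂, hU₂⟩ := spread_out_unique_opens sX hxU₁ (f₁' ≫ g)
    (U₀.ι ''ᵁ (f ⁻¹ᵁ V₀)).ι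
    (by rw [Category.assoc, hg₂, reassoc_of% hf₁', hf₂, X.homOfLE_ι_assoc])
    (by rw [reassoc_of% hf₁'s, ← hg₁, ← Spec.map_comp_assoc, IsIso.inv_hom_id, Spec.map_id,
      Category.id_comp, Scheme.Opens.fromSpecStalkOfMem_ι])
  have hU₂U₀ : U₂ ≤ U₀ := hU₂U₁.trans hU₁U₀
  have hF : (X.homOfLE hU₂U₁ ≫ f₁') ≫ V₀.ι = X.homOfLE hU₂U₀ ≫ f := by
    rw [Category.assoc, hf₁', ← Category.assoc, X.homOfLE_homOfLE]
  have hf₂'g : (X.homOfLE hU₂U₁ ≫ f₁') ≫ g = U₂.ι := by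
    rw [Category.assoc, hU₂, X.homOfLE_ι]
  have hmono₁ : Mono (X.homOfLE hU₂U₁ ≫ f₁') := mono_of_mono_fac hf₂'g
  have hmonoF : Mono (X.homOfLE hU₂U₀ ≫ f) := hF ▸ mono_comp _ _
  -- Step 5: the same on the `Y`-side.
  have hV₁V₀ : V₀.ι ''ᵁ (g ⁻¹ᵁ U₂) ≤ V₀ := V₀.ι_image_le _
  have hyV₁ : y ∈ V₀.ι ''ᵁ (g ⁻¹ᵁ U₂) :=
    ⟨⟨y, hyV₀⟩, show g ⟨y, hyV₀⟩ ∈ U₂ from hgy ▸ hxU₂, rfl⟩
  have hrange₂ : Set.range (Y.homOfLE hV₁V₀ ≫ g) ⊆ Set.range U₂.ι := by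
    rintro _ ⟨⟨_, v, hv, rfl⟩, rfl⟩
    rw [Scheme.Opens.range_ι, Scheme.Hom.comp_apply, Scheme.homOfLE_apply']
    exact hv
  let g₁' : (V₀.ι ''ᵁ (g ⁻¹ᵁ U₂)).toScheme ⟶ U₂.toScheme :=
    IsOpenImmersion.lift U₂.ι (Y.homOfLE hV₁V₀ ≫ g) hrange₂
  have hg₁' : g₁' ≫ U₂.ι = Y.homOfLE hV₁V₀ ≫ g := IsOpenImmersion.lift_fac _ _ _
  have hg₁'s : (V₀.ι ''ᵁ (g ⁻¹ᵁ U₂)).fromSpecStalkOfMem y hyV₁ ≫ g₁' =
      Spec.map (inv φ) ≫ U₂.fromSpecStalkOfMem x hxU₂ := by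
    rw [← cancel_mono U₂.ι, Category.assoc, hg₁', ← Category.assoc, fromSpecStalkOfMem_homOfLE,
      Category.assoc, Scheme.Opens.fromSpecStalkOfMem_ι, ← hg₁]
  obtain ⟨V₂, hV₂V₁, hyV₂, hV₂⟩ := spread_out_unique_opens sY hyV₁
    (g₁' ≫ X.homOfLE hU₂U₀ ≫ f) (V₀.ι ''ᵁ (g ⁻¹ᵁ U₂)).ι
    (by
      rw [Category.assoc, Category.assoc, hf₂, X.homOfLE_ι_assoc, reassoc_of% hg₁', hg₂,
        Y.homOfLE_ι_assoc])
    (by
      rw [reassoc_of% hg₁'s, ← Category.assoc (U₂.fromSpecStalkOfMem x hxU₂),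
        fromSpecStalkOfMem_homOfLE, ← hf₁, ← Spec.map_comp_assoc, IsIso.hom_inv_id, Spec.map_id,
        Category.id_comp, Scheme.Opens.fromSpecStalkOfMem_ι])
  have hG : (Y.homOfLE hV₂V₁ ≫ g₁') ≫ (X.homOfLE hU₂U₀ ≫ f) = V₂.ι := by
    rw [Category.assoc, hV₂, Y.homOfLE_ι]
  -- Step 6: the restriction of `F` over `V₂` is an isomorphism.
  have hiso : IsIso ((X.homOfLE hU₂U₀ ≫ f) ∣_ V₂) :=
    isIso_morphismRestrict_of_mono_of_section _ V₂ _ hG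
  have hUU₂ : U₂.ι ''ᵁ ((X.homOfLE hU₂U₀ ≫ f) ⁻¹ᵁ V₂) ≤ U₂ := U₂.ι_image_le _
  have hxU : x ∈ U₂.ι ''ᵁ ((X.homOfLE hU₂U₀ ≫ f) ⁻¹ᵁ V₂) := by
    refine ⟨⟨x, hxU₂⟩, ?_, rfl⟩
    change (X.homOfLE hU₂U₀ ≫ f) ⟨x, hxU₂⟩ ∈ V₂
    rw [Scheme.Hom.comp_apply, Scheme.homOfLE_apply', hfx]
    exact hyV₂
  have hm : X.homOfLE (hUU₂.trans hU₂U₀) ≫ f =
      (U₂.ι.isoImage ((X.homOfLE hU₂U₀ ≫ f) ⁻¹ᵁ V₂)).inv ≫
        ((X.homOfLE hU₂U₀ ≫ f) ∣_ V₂) ≫ V₂.ι := by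
    rw [morphismRestrict_ι, ← Category.assoc, Scheme.Opens.isoImage_ι_inv_ι, ← Category.assoc,
      X.homOfLE_homOfLE]
  have hoi : IsOpenImmersion (X.homOfLE (hUU₂.trans hU₂U₀) ≫ f) := by
    rw [hm]
    infer_instance
  refine ⟨_, hxU, (X.homOfLE (hUU₂.trans hU₂U₀) ≫ f).opensRange,
    (X.homOfLE (hUU₂.trans hU₂U₀) ≫ f).isoOpensRange.hom, inferInstance, ?_, ?_⟩
  · rw [Scheme.Hom.isoOpensRange_hom_ι, ← Category.assoc, fromSpecStalkOfMem_homOfLE, hf₁]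
  · rw [Scheme.Hom.isoOpensRange_hom_ι_assoc, Category.assoc, hf₂, X.homOfLE_ι_assoc]

end Groth.Agent.S10854
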