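import Groth.Statements.S5085

set_option autoImplicit false
universe u
open CategoryTheory CategoryTheory.Limits AlgebraicGeometry TopologicalSpace
open Mero

namespace Groth.Agent.S5085

/-- If a fraction `a / b` is zero in the localisation at nonzerodivisors, the numerator is zero. -/
theorem germ_eq_zero_of_mk_eq_zero {X : Scheme.{u}} (y : X) (a : X.presheaf.stalk y)
    (b : Mero.regStalk X y)
    (h : (LocalizedModule.mk a b : Mero.KStalk X y) = 0) : a = 0 := by
  rw [← LocalizedModule.zero_mk (1 : Mero.regStalk X y), LocalizedModule.mk_eq] at h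
  obtain ⟨c, hc⟩ := h
  simp only [smul_zero, one_smul] at hc
  have hc' : (c : X.presheaf.stalk y) * a = 0 := hc
  have hnz := Mero.regStalk_le_nonZeroDivisors y c.2
  exact (mem_nonZeroDivisors_iff.mp hnz).1 a hc'

/-- Let X be a scheme, U an open subset and V an open subset of U which is schematically dense in U (for
every open W ⊆ U, restriction of functions from W to W ∩ V is injective). Then restriction of
sections of the sheaf of meromorphic functions K_X from U to V is injective: the canonical map from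
meromorphic functions to pseudo-functions is injective. -/
theorem result (X : Scheme.{u}) (U V : X.Opens) (hVU : V ≤ U)
    (hV : ∀ W : X.Opens, W ≤ U →
      Function.Injective ⇑(X.presheaf.map (homOfLE (inf_le_left : W ⊓ V ≤ W)).op)) :
    Function.Injective ⇑((Mero.kmod X).presheaf.map (homOfLE hVU).op) := by
  -- the key pointwise statement
  have key : ∀ s : Γ(Mero.kmod X, U), (∀ y : V, s.1 ⟨y.1, hVU y.2⟩ = 0) → ∀ x : U, s.1 x = 0 := by
    intro s hs x
    obtain ⟨W, hxW, i, a, b, hab⟩ := s.2 x
    have hWU : W ≤ U := i.le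
    have ha : a = 0 := by
      apply hV W hWU
      rw [map_zero]
      apply TopCat.Presheaf.section_ext X.sheaf
      intro y hy
      have hyW : y ∈ W := hy.1
      have hyV : y ∈ V := hy.2
      change X.presheaf.germ (W ⊓ V) y hy (X.presheaf.map (homOfLE inf_le_left).op a) =
        X.presheaf.germ (W ⊓ V) y hy 0
      rw [TopCat.Presheaf.germ_res_apply, map_zero]
      have h1 : s.1 (i ⟨y, hyW⟩) = _ := hab ⟨y, hyW⟩
      have h2 := hs ⟨y, hyV⟩
      have h3 : s.1 (i ⟨y, hyW⟩) = s.1 ⟨y, hVU hyV⟩ := rfl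
      rw [h3, h2] at h1
      exact germ_eq_zero_of_mk_eq_zero y _ _ h1.symm
    have h1 : s.1 (i ⟨x.1, hxW⟩) = _ := hab ⟨x.1, hxW⟩
    have h3 : s.1 (i ⟨x.1, hxW⟩) = s.1 x := rfl
    rw [h3] at h1
    rw [h1, ha, map_zero, LocalizedModule.zero_mk]
  intro s s' hss'
  apply Subtype.ext
  funext x
  have hsub := key (s - s') (by
    intro y
    have := congrArg (fun t : Γ(Mero.kmod X, V) => t.1 y) hss'
    have this' : s.1 ⟨y.1, hVU y.2⟩ = s'.1 ⟨y.1, hVU y.2⟩ := this
    change (s - s').1 ⟨y.1, hVU y.2⟩ = 0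
    have hsub' : (s - s').1 ⟨y.1, hVU y.2⟩ = s.1 ⟨y.1, hVU y.2⟩ - s'.1 ⟨y.1, hVU y.2⟩ := rfl
    rw [hsub', this', sub_self]) x
  have hsub' : (s - s').1 x = s.1 x - s'.1 x := rfl
  rw [hsub'] at hsub
  exact sub_eq_zero.mp hsub

end Groth.Agent.S5085
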