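import Groth.Statements.S5086
import Groth.Agent.Lib.Helper20.MeroDiv
import Groth.Agent.Lib.Helper45.AffinePoints
import Groth.Agent.Lib.Helper25.MaximalPoints
import Groth.Agent.S5085
import Mathlib.AlgebraicGeometry.Morphisms.QuasiCompact
import Mathlib.RingTheory.Ideal.AssociatedPrime.Finiteness

set_option autoImplicit false
universe u
open CategoryTheory CategoryTheory.Limits AlgebraicGeometry TopologicalSpace
open Mero

namespace Groth.Agent.S5086

open Groth.Agent.Lib.Helper45 Groth.Agent.Lib.Helper20.MeroDiv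

section alg

variable {A : Type u} [CommRing A]

/-- Noetherian case: an ideal with zero annihilator contains a nonzerodivisor. -/
lemma exists_mem_nonZeroDivisors_of_noetherian [IsNoetherianRing A] (I : Ideal A)
    (hI : ∀ c : A, (∀ s ∈ I, s * c = 0) → c = 0) : ∃ t ∈ I, t ∈ nonZeroDivisors A := by
  by_contra hcon
  push Not at hcon
  rcases subsingleton_or_nontrivial A with hA | hA
  · exact hcon 0 I.zero_mem (by
      rw [mem_nonZeroDivisors_iff_right]; intro x _; exact Subsingleton.elim _ _)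
  have hsub : (I : Set A) ⊆ ⋃ p ∈ associatedPrimes A A, (p : Set A) := by
    intro s hs
    rw [biUnion_associatedPrimes_eq_compl_regular]
    intro hreg
    apply hcon s hs
    rw [mem_nonZeroDivisors_iff_right]
    intro x hx
    apply hreg
    simpa [mul_comm] using hx
  obtain ⟨Ia, hIa⟩ := associatedPrimes.nonempty A A
  obtain ⟨p, hp, hle⟩ := (Ideal.subset_union_prime_finite (associatedPrimes.finite A A) Ia Ia
    (fun I hin _ _ => IsAssociatedPrime.isPrime hin)).mp hsub
  obtain ⟨hpP, c, hc⟩ := (isAssociatedPrime_iff).mp hp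
  have hc0 : c = 0 := by
    apply hI
    intro s hs
    have : s ∈ p := hle hs
    rw [hc] at this
    simpa [mul_comm] using this
  subst hc0
  apply hpP.ne_top
  rw [hc]
  ext x
  simp

lemma sInf_minimalPrimes_eq_bot [IsReduced A] : sInf (minimalPrimes A) = (⊥ : Ideal A) := by
  have h2 : sInf (minimalPrimes A) = (⊥ : Ideal A).radical := Ideal.sInf_minimalPrimes
  rw [h2]
  exact nilradical_eq_zero A

/-- In a reduced ring, an element outside all minimal primes is a nonzerodivisor. -/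
lemma mem_nonZeroDivisors_of_forall_notMem_minimalPrimes [IsReduced A] (t : A)
    (ht : ∀ p ∈ minimalPrimes A, t ∉ p) : t ∈ nonZeroDivisors A := by
  rw [mem_nonZeroDivisors_iff_right]
  intro c hc
  have h1 : c ∈ sInf (minimalPrimes A) := by
    rw [Ideal.mem_sInf]
    intro p hp
    have hpP : p.IsPrime := hp.1.1
    have : c * t ∈ p := by rw [hc]; exact p.zero_mem
    exact (hpP.mem_or_mem this).resolve_right (ht p hp)
  rw [sInf_minimalPrimes_eq_bot, Ideal.mem_bot] at h1
  exact h1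

/-- Reduced case with finitely many minimal primes: an ideal with zero annihilator contains a
nonzerodivisor. -/
lemma exists_mem_nonZeroDivisors_of_reduced [IsReduced A] (hfin : (minimalPrimes A).Finite)
    (I : Ideal A) (hI : ∀ c : A, (∀ s ∈ I, s * c = 0) → c = 0) :
    ∃ t ∈ I, t ∈ nonZeroDivisors A := by
  classical
  by_cases hsub : (I : Set A) ⊆ ⋃ p ∈ minimalPrimes A, (p : Set A)
  · exfalso
    obtain ⟨p₁, hp₁, hle⟩ := (Ideal.subset_union_prime_finite hfin ⊤ ⊤
      (fun p hp _ _ => hp.1.1)).mp hsub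
    have hp₁P : p₁.IsPrime := hp₁.1.1
    let T : Finset (Ideal A) := hfin.toFinset.erase p₁
    have hJ : ¬ (T.inf id ≤ p₁) := by
      rw [Ideal.IsPrime.inf_le' hp₁P]
      rintro ⟨p, hpT, hpp⟩
      rw [Finset.mem_erase, Set.Finite.mem_toFinset] at hpT
      have : p₁ ≤ p := hp₁.2 ⟨hpT.2.1.1, bot_le⟩ hpp
      exact hpT.1 (le_antisymm hpp this)
    obtain ⟨c, hcJ, hcp⟩ := Set.not_subset.mp hJ
    have hc0 : c = 0 := by
      apply hI
      intro s hs
      have h1 : s * c ∈ sInf (minimalPrimes A) := by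
        rw [Ideal.mem_sInf]
        intro p hp
        by_cases hpp : p = p₁
        · rw [hpp]
          exact Ideal.mul_mem_right _ _ (hle hs)
        · apply Ideal.mul_mem_left
          have : T.inf id ≤ p := Finset.inf_le (f := id) (by
            rw [Finset.mem_erase, Set.Finite.mem_toFinset]; exact ⟨hpp, hp⟩)
          exact this hcJ
      rw [sInf_minimalPrimes_eq_bot, Ideal.mem_bot] at h1
      exact h1
    exact hcp (by rw [hc0]; exact p₁.zero_mem)
  · obtain ⟨t, htI, ht⟩ := Set.not_subset.mp hsub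
    refine ⟨t, htI, mem_nonZeroDivisors_of_forall_notMem_minimalPrimes t (fun p hp htp => ht ?_)⟩
    exact Set.mem_biUnion hp htp

end alg

variable {X : Scheme.{u}}

/-- The ideal of sections over `W` whose basic open lies in `V'`. -/
def smallIdeal (W V' : X.Opens) : Ideal Γ(X, W) where
  carrier := {s | X.basicOpen s ≤ V'}
  zero_mem' := by
    change X.basicOpen (0 : Γ(X, W)) ≤ V'
    rw [Scheme.basicOpen_zero]; exact bot_le
  add_mem' := fun {a b} ha hb => (X.basicOpen_add_le a b).trans (sup_le ha hb)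
  smul_mem' := fun c a ha => by
    change X.basicOpen (c * a) ≤ V'
    rw [Scheme.basicOpen_mul]
    exact inf_le_right.trans ha

/-- An affine open on which ideals with zero annihilator contain nonzerodivisors. -/
def Good (W : X.Opens) : Prop :=
  IsAffineOpen W ∧ ∀ I : Ideal Γ(X, W), (∀ c : Γ(X, W), (∀ s ∈ I, s * c = 0) → c = 0) →
    ∃ t ∈ I, t ∈ nonZeroDivisors Γ(X, W)

/-- On a good affine open `W`, if restriction to `W ⊓ V'` is injective, there is a
nonzerodivisor whose basic open lies in `V'`. -/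
lemma exists_regular_basicOpen_le {W V' : X.Opens} (hW : Good W)
    (hinj : Function.Injective (X.presheaf.map (homOfLE (inf_le_left : W ⊓ V' ≤ W)).op)) :
    ∃ t : Γ(X, W), t ∈ nonZeroDivisors Γ(X, W) ∧ X.basicOpen t ≤ V' := by
  obtain ⟨t, htI, ht⟩ := hW.2 (smallIdeal W V') (by
    intro c hc
    apply hinj
    rw [map_zero]
    apply TopCat.Presheaf.section_ext X.sheaf
    intro y hy
    change X.presheaf.germ (W ⊓ V') y hy (X.presheaf.map (homOfLE inf_le_left).op c) =
      X.presheaf.germ (W ⊓ V') y hy 0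
    rw [TopCat.Presheaf.germ_res_apply, map_zero]
    obtain ⟨s, hsV, hys⟩ := hW.1.exists_basicOpen_le (V := V') ⟨y, hy.2⟩ hy.1
    have h1 : s * c = 0 := hc s hsV
    have h2 : IsUnit (X.presheaf.germ W y hy.1 s) := (X.mem_basicOpen s y hy.1).mp hys
    have h3 : X.presheaf.germ W y hy.1 s * X.presheaf.germ W y hy.1 c = 0 := by
      rw [← map_mul, h1, map_zero]
    exact (h2.mul_right_eq_zero).mp h3)
  exact ⟨t, ht, htI⟩

/-- For `t` a regular section over `W`, the basic open of `t` is schematically dense in every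
open `W'' ≤ W`. -/
lemma injective_res_basicOpen {W : X.Opens} (t : Γ(X, W)) (ht : t ∈ regSub X W)
    (W'' : X.Opens) (hW'' : W'' ≤ W) :
    Function.Injective (X.presheaf.map (homOfLE (inf_le_left : W'' ⊓ X.basicOpen t ≤ W'')).op) := by
  rw [injective_iff_map_eq_zero]
  intro r hr
  apply TopCat.Presheaf.section_ext X.sheaf
  intro y hy
  change X.presheaf.germ W'' y hy r = X.presheaf.germ W'' y hy 0
  rw [map_zero]
  obtain ⟨W3, hW3, hy3, hW3le⟩ : ∃ W3 : X.Opens, IsAffineOpen W3 ∧ y ∈ W3 ∧ W3 ≤ W'' := by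
    obtain ⟨_, ⟨W3, hW3, rfl⟩, hy3, hle⟩ :=
      X.isBasis_affineOpens.exists_subset_of_mem_open hy W''.isOpen
    exact ⟨W3, hW3, hy3, hle⟩
  set r3 : Γ(X, W3) := X.presheaf.map (homOfLE hW3le).op r with hr3
  set t3 : Γ(X, W3) := X.presheaf.map (homOfLE (hW3le.trans hW'')).op t with ht3
  have hb : X.basicOpen t3 = W3 ⊓ X.basicOpen t := Scheme.basicOpen_res _ _ _
  have H : X.presheaf.map (homOfLE (X.basicOpen_le t3)).op r3 = 0 := by
    apply TopCat.Presheaf.section_ext X.sheaf
    intro z hz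
    change X.presheaf.germ _ z hz (X.presheaf.map (homOfLE (X.basicOpen_le t3)).op r3) =
      X.presheaf.germ _ z hz 0
    have hz' : z ∈ W3 ⊓ X.basicOpen t := hb ▸ hz
    have hzW : z ∈ W'' ⊓ X.basicOpen t := ⟨hW3le hz'.1, hz'.2⟩
    rw [map_zero, TopCat.Presheaf.germ_res_apply, hr3, TopCat.Presheaf.germ_res_apply]
    have := congrArg (X.presheaf.germ (W'' ⊓ X.basicOpen t) z hzW) hr
    rw [TopCat.Presheaf.germ_res_apply, map_zero] at this
    exact this
  obtain ⟨n, hn⟩ := exists_pow_mul_eq_zero_of_res_basicOpen_eq_zero_of_isAffineOpen X hW3 r3 t3 H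
  have h1 : (X.presheaf.germ W y (hW'' hy) t) ^ n * X.presheaf.germ W'' y hy r = 0 := by
    have := congrArg (X.presheaf.germ W3 y hy3) hn
    rw [map_mul, map_pow, map_zero, ht3, hr3, TopCat.Presheaf.germ_res_apply,
      TopCat.Presheaf.germ_res_apply] at this
    exact this
  have h2 : (X.presheaf.germ W y (hW'' hy) t) ^ n ∈ nonZeroDivisors (X.presheaf.stalk y) :=
    pow_mem (ht ⟨y, hW'' hy⟩) n
  exact (mem_nonZeroDivisors_iff.mp h2).1 _ h1

/-- Local extension: on an affine open `W` with a nonzerodivisor `t` such that `D(t) ≤ V`, a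
function `g` on `V` is, on `W ⊓ V`, the restriction of a meromorphic function on `W`. -/
lemma exists_local_ext {W V : X.Opens} (hW : IsAffineOpen W) (t : Γ(X, W))
    (ht : t ∈ nonZeroDivisors Γ(X, W)) (htV : X.basicOpen t ≤ V) (g : Γ(X, V)) :
    ∃ s : Γ(kmod X, W), ∀ (y : X) (hyW : y ∈ W) (hyV : y ∈ V),
      s.1 ⟨y, hyW⟩ = (toK X V g).1 ⟨y, hyV⟩ := by
  have hloc := hW.isLocalization_basicOpen t
  set g' : Γ(X, X.basicOpen t) := X.presheaf.map (homOfLE htV).op g with hg'
  obtain ⟨⟨a, ⟨_, n, rfl⟩⟩, hag⟩ := IsLocalization.surj (Submonoid.powers t) g'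
  have htreg : t ∈ regSub X W := by rw [Groth.Agent.S12513.result X W hW]; exact ht
  have htn : t ^ n ∈ regSub X W := pow_mem htreg n
  have hu := isUnit_toK_of_mem_regSub W (t ^ n) htn
  set s : Γ(kmod X, W) := toK X W a * ((hu.unit⁻¹ : (Γ(kmod X, W))ˣ) : Γ(kmod X, W)) with hs
  have hs1 : s * toK X W (t ^ n) = toK X W a := by
    rw [hs, mul_assoc]
    have : ((hu.unit⁻¹ : (Γ(kmod X, W))ˣ) : Γ(kmod X, W)) * toK X W (t ^ n) = 1 := hu.val_inv_mul
    rw [this, mul_one]
  -- agreement on `D(t)`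
  have hD : ∀ (y : X) (hy : y ∈ X.basicOpen t),
      s.1 ⟨y, X.basicOpen_le t hy⟩ = (toK X V g).1 ⟨y, htV hy⟩ := by
    intro y hy
    have hyW : y ∈ W := X.basicOpen_le t hy
    have hunit : IsUnit ((toK X W (t ^ n)).1 ⟨y, hyW⟩) := hu.map (evalK X W ⟨y, hyW⟩)
    apply hunit.mul_right_cancel
    have e1 : s.1 ⟨y, hyW⟩ * (toK X W (t ^ n)).1 ⟨y, hyW⟩ = (toK X W a).1 ⟨y, hyW⟩ := by
      rw [← kmod_mul_apply, hs1]
    rw [e1, toK_apply, toK_apply, toK_apply]
    refine (mk_congr ?_ (by rw [one_mul])).trans LocalizedModule.mk_mul_mk.symm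
    have h1 := congrArg (X.presheaf.germ (X.basicOpen t) y hy) hag
    rw [map_mul] at h1
    change X.presheaf.germ _ y hy g' * X.presheaf.germ _ y hy
        (X.presheaf.map (homOfLE (X.basicOpen_le t)).op (t ^ n)) =
      X.presheaf.germ _ y hy (X.presheaf.map (homOfLE (X.basicOpen_le t)).op a) at h1
    rw [hg', TopCat.Presheaf.germ_res_apply, TopCat.Presheaf.germ_res_apply,
      TopCat.Presheaf.germ_res_apply] at h1
    exact h1.symm
  -- extend to `W ⊓ V` by schematic density of `D(t)`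
  have hDO : X.basicOpen t ≤ W ⊓ V := le_inf (X.basicOpen_le t) htV
  have hinj := Groth.Agent.S5085.result X (W ⊓ V) (X.basicOpen t) hDO
    (fun W'' hW'' => injective_res_basicOpen t htreg W'' (hW''.trans inf_le_left))
  have heq : (kmod X).presheaf.map (homOfLE (inf_le_left : W ⊓ V ≤ W)).op s =
      (kmod X).presheaf.map (homOfLE (inf_le_right : W ⊓ V ≤ V)).op (toK X V g) := by
    apply hinj
    apply Subtype.ext
    funext y
    exact hD y.1 y.2
  refine ⟨s, fun y hyW hyV => ?_⟩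
  have := congrArg (fun z : Γ(kmod X, W ⊓ V) => z.1 ⟨y, ⟨hyW, hyV⟩⟩) heq
  exact this

lemma injective_map_congr {A B W'' : X.Opens} (hA : A ≤ W'') (hB : B ≤ W'') (h : A = B) :
    Function.Injective (X.presheaf.map (homOfLE hA).op) ↔
      Function.Injective (X.presheaf.map (homOfLE hB).op) := by
  subst h; rfl

/-- Gluing the local extensions over a cover of `U` by good affine opens. -/
theorem exists_ext_of_good (U V : X.Opens) (hVU : V ≤ U)
    (hV : ∀ W : X.Opens, W ≤ U →
      Function.Injective ⇑(X.presheaf.map (homOfLE (inf_le_left : W ⊓ V ≤ W)).op))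
    (hgood : ∀ x : X, x ∈ U → ∃ W : X.Opens, Good W ∧ x ∈ W ∧ W ≤ U) (g : Γ(X, V)) :
    ∃ s : Γ(Mero.kmod X, U), (Mero.kmod X).presheaf.map (homOfLE hVU).op s = Mero.toK X V g := by
  choose W hWgood hxW hWU using hgood
  have hloc : ∀ (x : X) (hx : x ∈ U), ∃ s : Γ(kmod X, W x hx),
      ∀ (y : X) (hyW : y ∈ W x hx) (hyV : y ∈ V), s.1 ⟨y, hyW⟩ = (toK X V g).1 ⟨y, hyV⟩ := by
    intro x hx
    obtain ⟨t, ht, htV⟩ := exists_regular_basicOpen_le (hWgood x hx) (hV (W x hx) (hWU x hx))
    exact exists_local_ext (hWgood x hx).1 t ht htV g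
  choose σ hσ using hloc
  -- agreement on overlaps
  have hagree : ∀ (x : X) (hx : x ∈ U) (x' : X) (hx' : x' ∈ U) (y : X) (hy : y ∈ W x hx)
      (hy' : y ∈ W x' hx'), (σ x hx).1 ⟨y, hy⟩ = (σ x' hx').1 ⟨y, hy'⟩ := by
    intro x hx x' hx' y hy hy'
    set O : X.Opens := W x hx ⊓ W x' hx' with hO
    have hOU : O ≤ U := inf_le_left.trans (hWU x hx)
    have hinj := Groth.Agent.S5085.result X O (O ⊓ V) inf_le_left (by
      intro W'' hW''
      refine (injective_map_congr _ _ ?_).mpr (hV W'' (hW''.trans hOU))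
      rw [← inf_assoc, inf_eq_left.mpr hW''])
    have heq : (kmod X).presheaf.map (homOfLE (inf_le_left : O ≤ W x hx)).op (σ x hx) =
        (kmod X).presheaf.map (homOfLE (inf_le_right : O ≤ W x' hx')).op (σ x' hx') := by
      apply hinj
      apply Subtype.ext
      funext z
      change (σ x hx).1 ⟨z.1, z.2.1.1⟩ = (σ x' hx').1 ⟨z.1, z.2.1.2⟩
      rw [hσ x hx z.1 z.2.1.1 z.2.2, hσ x' hx' z.1 z.2.1.2 z.2.2]
    have := congrArg (fun z : Γ(kmod X, O) => z.1 ⟨y, ⟨hy, hy'⟩⟩) heq
    exact this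
  let f : ∀ y : U, KStalk X y.1 := fun y => (σ y.1 y.2).1 ⟨y.1, hxW y.1 y.2⟩
  have hf : (kLoc X).pred f := by
    intro x
    obtain ⟨V₁, m₁, i₁, a, b, hab⟩ := (σ x.1 x.2).2 ⟨x.1, hxW x.1 x.2⟩
    refine ⟨V₁, m₁, i₁ ≫ homOfLE (hWU x.1 x.2), a, b, fun y => ?_⟩
    have h1 := hab y
    dsimp only at h1 ⊢
    rw [← h1]
    exact hagree y.1 _ x.1 x.2 y.1 _ (i₁ y).2
  refine ⟨⟨f, hf⟩, ?_⟩
  apply Subtype.ext
  funext y
  change f ⟨y.1, hVU y.2⟩ = (toK X V g).1 y
  exact hσ y.1 (hVU y.2) y.1 (hxW y.1 (hVU y.2)) y.2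

lemma good_of_isLocallyNoetherian [IsLocallyNoetherian X] {W : X.Opens} (hW : IsAffineOpen W) :
    Good W := by
  have hN : IsNoetherianRing Γ(X, W) := IsLocallyNoetherian.component_noetherian ⟨W, hW⟩
  exact ⟨hW, fun I hI => exists_mem_nonZeroDivisors_of_noetherian I hI⟩

lemma finite_minimalPrimes_of_finite_components {W W₀ : X.Opens} (hW : IsAffineOpen W)
    (hWW₀ : W ≤ W₀)
    (hfin : {Z : Set ↥X | Z ∈ irreducibleComponents ↥X ∧ (Z ∩ (W₀ : Set ↥X)).Nonempty}.Finite) :
    (minimalPrimes Γ(X, W)).Finite := by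
  let S' : Set W := {y | (hW.primeIdealOf y).asIdeal ∈ minimalPrimes Γ(X, W)}
  have hS' : S'.Finite := by
    refine Set.Finite.of_finite_image (f := fun y : W => closure ({y.1} : Set X))
      (hfin.subset ?_) ?_
    · rintro _ ⟨y, hy, rfl⟩
      refine ⟨?_, ⟨y.1, subset_closure rfl, hWW₀ y.2⟩⟩
      exact (Groth.Agent.Lib.Helper25.closure_singleton_mem_irreducibleComponents_iff y.1).mpr
        ((primeIdealOf_mem_minimalPrimes_iff hW y).mp hy)
    · intro y _ y' _ h
      exact Subtype.ext (inseparable_iff_closure_eq.mpr h).eq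
  refine (hS'.image (fun y : W => (hW.primeIdealOf y).asIdeal)).subset ?_
  intro p hp
  obtain ⟨y, hy⟩ := exists_primeIdealOf_eq hW ⟨p, hp.1.1⟩
  have hyp : (hW.primeIdealOf y).asIdeal = p := congrArg PrimeSpectrum.asIdeal hy
  refine ⟨y, ?_, hyp⟩
  change (hW.primeIdealOf y).asIdeal ∈ minimalPrimes Γ(X, W)
  rw [hyp]
  exact hp

lemma good_of_isReduced [IsReduced X] {W W₀ : X.Opens} (hW : IsAffineOpen W) (hWW₀ : W ≤ W₀)
    (hfin : {Z : Set ↥X | Z ∈ irreducibleComponents ↥X ∧ (Z ∩ (W₀ : Set ↥X)).Nonempty}.Finite) :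
    Good W :=
  ⟨hW, fun I hI => exists_mem_nonZeroDivisors_of_reduced
    (finite_minimalPrimes_of_finite_components hW hWW₀ hfin) I hI⟩

/-- Let X be a scheme which is either locally Noetherian, or reduced with locally finite set of
irreducible components (every point has an open neighbourhood meeting only finitely many irreducible
components). Let U be an open subset, V an open subset of U schematically dense in U (restriction of
functions from every open W ⊆ U to W ∩ V is injective) and g a function on V. Then there is a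
section of the sheaf of meromorphic functions K_X over U whose restriction to V is g/1; with part
(i), meromorphic functions over U are exactly the pseudo-functions on U. -/
theorem result (X : Scheme.{u})
    (hX : IsLocallyNoetherian X ∨ (IsReduced X ∧ ∀ x : ↥X, ∃ W : X.Opens, x ∈ W ∧
      {Z : Set ↥X | Z ∈ irreducibleComponents ↥X ∧ (Z ∩ (W : Set ↥X)).Nonempty}.Finite))
    (U V : X.Opens) (hVU : V ≤ U)
    (hV : ∀ W : X.Opens, W ≤ U →
      Function.Injective ⇑(X.presheaf.map (homOfLE (inf_le_left : W ⊓ V ≤ W)).op))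
    (g : Γ(X, V)) :
    ∃ s : Γ(Mero.kmod X, U), (Mero.kmod X).presheaf.map (homOfLE hVU).op s = Mero.toK X V g := by
  refine exists_ext_of_good U V hVU hV (fun x hx => ?_) g
  rcases hX with hN | ⟨hR, hfin⟩
  · obtain ⟨_, ⟨W, hW, rfl⟩, hxW, hWU⟩ :=
      X.isBasis_affineOpens.exists_subset_of_mem_open hx U.isOpen
    exact ⟨W, good_of_isLocallyNoetherian hW, hxW, hWU⟩
  · obtain ⟨W₀, hxW₀, hfin₀⟩ := hfin x
    obtain ⟨_, ⟨W, hW, rfl⟩, hxW, hWU⟩ :=
      X.isBasis_affineOpens.exists_subset_of_mem_open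
        (show x ∈ ((U ⊓ W₀ : X.Opens) : Set X) from ⟨hx, hxW₀⟩) (U ⊓ W₀).isOpen
    have hWle : W ≤ U ⊓ W₀ := hWU
    exact ⟨W, good_of_isReduced hW (hWle.trans inf_le_right) hfin₀, hxW, hWle.trans inf_le_left⟩


end Groth.Agent.S5086
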