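import Groth.Statements.S10856
import Groth.Agent.S5086

set_option autoImplicit false
universe u
open Mero

namespace Groth.Agent.S10856

open AlgebraicGeometry CategoryTheory TopologicalSpace
open Groth.Agent.Lib.Helper20.MeroDiv

variable {X : Scheme.{u}}

/-- A fraction `a / b` is in the image of the local ring iff `b ∣ a` there. -/
lemma mk_mem_range_iff (y : X) (a : X.presheaf.stalk y) (b : regStalk X y) :
    (LocalizedModule.mk a b : KStalk X y) ∈ (algebraMap (X.presheaf.stalk y) (KStalk X y)).range ↔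
      ∃ c : X.presheaf.stalk y, a = b * c := by
  constructor
  · rintro ⟨c, hc⟩
    refine ⟨c, ?_⟩
    have h1 : (LocalizedModule.mk a b : KStalk X y) * algebraMap _ (KStalk X y) (1 : X.presheaf.stalk y) =
        algebraMap _ (KStalk X y) c := by rw [map_one, mul_one]; exact hc.symm
    rw [mk_mul_algebraMap_eq_iff _ (regStalk_le_nonZeroDivisors y), mul_one] at h1
    exact h1
  · rintro ⟨c, hc⟩
    refine ⟨c, ?_⟩
    have h1 : (LocalizedModule.mk a b : KStalk X y) * algebraMap _ (KStalk X y) (1 : X.presheaf.stalk y) =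
        algebraMap _ (KStalk X y) c := by
      rw [mk_mul_algebraMap_eq_iff _ (regStalk_le_nonZeroDivisors y), mul_one]
      exact hc
    rw [map_one, mul_one] at h1
    exact h1.symm

open AlgebraicGeometry CategoryTheory TopologicalSpace in
/-- Let X be a scheme and f a global section of the sheaf of meromorphic functions K_X. The domain of
definition of f, i.e. the set of points x whose value f_x ∈ K_{X,x} lies in the image of the local
ring O_{X,x}, is the underlying set of an open subscheme D of X, and D is schematically dense in X: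
for every open subset V of X the restriction map from sections of O_X over V to sections over V ∩ D
is injective. -/
theorem result {X : Scheme.{u}} (f : Γ(Mero.kmod X, ⊤)) :
    ∃ D : X.Opens,
      (D : Set X) = {x | f.1 ⟨x, Opens.mem_top x⟩ ∈ (algebraMap (X.presheaf.stalk x) (Mero.KStalk X x)).range} ∧
        ∀ V : X.Opens, Function.Injective (X.presheaf.map (homOfLE (inf_le_left : V ⊓ D ≤ V)).op) := by
  set S : Set X := {x | f.1 ⟨x, Opens.mem_top x⟩ ∈
    (algebraMap (X.presheaf.stalk x) (Mero.KStalk X x)).range} with hS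
  -- local fractions
  have hfrac : ∀ x : X, ∃ (N : X.Opens) (_ : x ∈ N) (a : Γ(X, N)) (b : regSub X N),
      ∀ (y : X) (hy : y ∈ N), f.1 ⟨y, Opens.mem_top y⟩ =
        LocalizedModule.mk (X.presheaf.germ N y hy a) (regGerm ⟨y, hy⟩ b) := by
    intro x
    obtain ⟨N, hxN, i, a, b, hab⟩ := f.2 ⟨x, Opens.mem_top x⟩
    exact ⟨N, hxN, a, b, fun y hy => hab ⟨y, hy⟩⟩
  have hopen : IsOpen S := by
    rw [isOpen_iff_forall_mem_open]
    intro x hx
    obtain ⟨N, hxN, a, b, hab⟩ := hfrac x
    rw [hS, Set.mem_ofPred_eq, hab x hxN, mk_mem_range_iff] at hx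
    obtain ⟨c, hc⟩ := hx
    obtain ⟨N', hxN', c', rfl⟩ := TopCat.Presheaf.exists_germ_eq X.presheaf c
    -- restrict everything to `N ⊓ N'`
    have hx2 : x ∈ N ⊓ N' := ⟨hxN, hxN'⟩
    have hgerm : X.presheaf.germ (N ⊓ N') x hx2 (X.presheaf.map (homOfLE inf_le_left).op a) =
        X.presheaf.germ (N ⊓ N') x hx2 (X.presheaf.map (homOfLE inf_le_left).op b.1 *
          X.presheaf.map (homOfLE inf_le_right).op c') := by
      rw [map_mul, TopCat.Presheaf.germ_res_apply, TopCat.Presheaf.germ_res_apply,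
        TopCat.Presheaf.germ_res_apply]
      exact hc
    obtain ⟨N'', hxN'', i₁, i₂, heq⟩ := TopCat.Presheaf.germ_eq X.presheaf x hx2 hx2 _ _ hgerm
    refine ⟨N'', ?_, N''.isOpen, hxN''⟩
    intro y hy
    have hy2 : y ∈ N ⊓ N' := i₁.le hy
    rw [hS, Set.mem_ofPred_eq, hab y hy2.1, mk_mem_range_iff]
    refine ⟨X.presheaf.germ N' y hy2.2 c', ?_⟩
    have h3 := congrArg (X.presheaf.germ N'' y hy) heq
    simp only [map_mul, TopCat.Presheaf.germ_res_apply] at h3
    exact h3
  refine ⟨⟨S, hopen⟩, rfl, ?_⟩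
  intro V
  rw [injective_iff_map_eq_zero]
  intro r hr
  apply TopCat.Presheaf.section_ext X.sheaf
  intro y hy
  change X.presheaf.germ V y hy r = X.presheaf.germ V y hy 0
  rw [map_zero]
  obtain ⟨N, hyN, a, b, hab⟩ := hfrac y
  set W : X.Opens := N ⊓ V with hW
  set b' : Γ(X, W) := X.presheaf.map (homOfLE inf_le_left).op b.1 with hb'
  have hb'reg : b' ∈ regSub X W := regSub_res _ b.2
  have hbD : X.basicOpen b' ≤ (⟨S, hopen⟩ : X.Opens) := by
    intro z hz
    have hzW : z ∈ W := X.basicOpen_le b' hz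
    change z ∈ S
    rw [hS, Set.mem_ofPred_eq, hab z hzW.1, mk_mem_range_iff]
    have hu : IsUnit (X.presheaf.germ N z hzW.1 b.1) := by
      have := (X.mem_basicOpen b' z hzW).mp hz
      rwa [hb', TopCat.Presheaf.germ_res_apply] at this
    refine ⟨hu.unit⁻¹ * X.presheaf.germ N z hzW.1 a, ?_⟩
    change _ = X.presheaf.germ N z hzW.1 b.1 * _
    rw [← mul_assoc, IsUnit.mul_val_inv, one_mul]
  have hinj := Groth.Agent.S5086.injective_res_basicOpen b' hb'reg W le_rfl
  have hrW : X.presheaf.map (homOfLE (inf_le_right : W ≤ V)).op r = 0 := by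
    apply hinj
    rw [map_zero]
    apply TopCat.Presheaf.section_ext X.sheaf
    intro z hz
    change X.presheaf.germ _ z hz (X.presheaf.map _ (X.presheaf.map _ r)) = X.presheaf.germ _ z hz 0
    rw [map_zero, TopCat.Presheaf.germ_res_apply, TopCat.Presheaf.germ_res_apply]
    have hzVD : z ∈ V ⊓ (⟨S, hopen⟩ : X.Opens) := ⟨hz.1.2, hbD hz.2⟩
    have := congrArg (X.presheaf.germ _ z hzVD) hr
    rw [TopCat.Presheaf.germ_res_apply, map_zero] at this
    exact this
  have := congrArg (X.presheaf.germ W y ⟨hyN, hy⟩) hrW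
  rw [TopCat.Presheaf.germ_res_apply, map_zero] at this
  exact this


end Groth.Agent.S10856
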