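import Groth.Statements.S10857
import Groth.Agent.Lib.Helper18.FPQuot
import Groth.Agent.Lib.Helper49.StalkColimit
import Groth.Agent.Lib.Helper49.StalkNbhd2

set_option autoImplicit false
universe u
open QCohSup

namespace Groth.Agent.S10857

attribute [local instance] Groth.Agent.Lib.Helper45.stalkModuleSections

open AlgebraicGeometry CategoryTheory CategoryTheory.Limits in
/-- Take a quasi-compact scheme X, a finite-type quasi-coherent O_X-module F, and G a quasi-coherent
O_X-module which is the colimit of a filtered diagram of quasi-coherent O_X-modules G_j. A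
homomorphism u : G → F is an epimorphism if and only if there is an index j₀ such that for every
index j admitting a map from j₀ the composite G_j → G → F is an epimorphism. -/
theorem result {X : Scheme.{u}} [CompactSpace X]
    {J : Type u} [SmallCategory J] [IsFiltered J] (D : J ⥤ X.Modules) [∀ j, Coh.IsQCoh (D.obj j)]
    (c : Cocone D) (hc : IsColimit c) [Coh.IsQCoh c.pt]
    (F : X.Modules) [Coh.IsQCoh F] (hF : CohB1.IsFT F) (u : c.pt ⟶ F) :
    Epi u ↔ ∃ j₀ : J, ∀ j : J, Nonempty (j₀ ⟶ j) → Epi (c.ι.app j ≫ u) := by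
  classical
  constructor
  · intro hu
    have : F.IsQuasicoherent := ‹Coh.IsQCoh F›
    have : ∀ j, (D.obj j).IsQuasicoherent := fun j => ‹∀ j, Coh.IsQCoh (D.obj j)› j
    let φ : ∀ j : J, D.obj j ⟶ F := fun j => c.ι.app j ≫ u
    have hφ : ∀ {j j' : J} (f : j ⟶ j'), D.map f ≫ φ j' = φ j := by
      intro j j' f
      change D.map f ≫ c.ι.app j' ≫ u = c.ι.app j ≫ u
      rw [← Category.assoc, c.w]
    let S : J → Set X := fun j =>
      {x | Function.Surjective (Groth.Agent.Lib.Helper49.stalkMap (φ j) x).hom}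
    have hSopen : ∀ j, IsOpen (S j) := by
      intro j
      have hq : (cokernel (φ j)).IsQuasicoherent :=
        Groth.Agent.Lib.Helper49.isQuasicoherent_cokernel (φ j) inferInstance inferInstance
      have hepi : Epi (cokernel.π (φ j)) := coequalizer.π_epi
      have hft : SheafOfModules.IsFiniteType (R := X.ringCatSheaf) (cokernel (φ j)) :=
        @Groth.Agent.Lib.Helper49.isFiniteType_of_epi X F (cokernel (φ j)) (cokernel.π (φ j)) hepi hF
      have := Groth.Agent.Lib.Helper49.isOpen_setOf_stalk_subsingleton (cokernel (φ j)) hft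
      have heq : S j = {x : X | Subsingleton ↑((cokernel (φ j)).presheaf.stalk x)} := by
        ext x
        exact (Groth.Agent.Lib.Helper49.subsingleton_stalk_cokernel_iff (φ j) x).symm
      rw [heq]
      exact this
    have hSmono : ∀ {j j' : J} (f : j ⟶ j'), S j ⊆ S j' := by
      intro j j' f x hx
      apply Groth.Agent.Lib.Helper18.FPM.stalkMap_surjective_of_comp (D.map f) (φ j') x
      rw [hφ f]
      exact hx
    have hScover : ∀ x : X, ∃ j, x ∈ S j := by
      intro x
      obtain ⟨_, ⟨U, hU : IsAffineOpen U, rfl⟩, hxU, -⟩ :=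
        X.isBasis_affineOpens.exists_subset_of_mem_open (Set.mem_univ x) isOpen_univ
      obtain ⟨xU, rfl⟩ : ∃ xU : U, (xU : X) = x := ⟨⟨x, hxU⟩, rfl⟩
      have hF' : SheafOfModules.IsFiniteType (R := X.ringCatSheaf) F := hF
      have hfin : Module.Finite Γ(X, U) Γ(F, U) :=
        Groth.Agent.Lib.Helper45.finite_sections_of_isFiniteType hU F
      have := Groth.Agent.Lib.Helper45.isLocalizedModule_germₗ hU F xU
      have := hU.isLocalization_stalk xU
      have hfin' : Module.Finite (X.presheaf.stalk (xU : X)) ↑(F.presheaf.stalk (xU : X)) :=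
        Module.Finite.of_isLocalizedModule (hU.primeIdealOf xU).asIdeal.primeCompl
          (Groth.Agent.Lib.Helper45.germₗ F xU)
      obtain ⟨T, hT⟩ := hfin'.fg_top
      have hrep : ∀ e : ↑(F.presheaf.stalk (xU : X)), ∃ (j : J) (a : ↑((D.obj j).presheaf.stalk (xU : X))),
          (Groth.Agent.Lib.Helper49.stalkMap (φ j) (xU : X)).hom a = e := by
        intro e
        obtain ⟨b, hb⟩ := Groth.Agent.Lib.Helper49.stalkMap_surjective_of_epi u (xU : X) e
        obtain ⟨j, a, ha⟩ := Groth.Agent.Lib.Helper49.exists_stalk_rep D c hc (xU : X) b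
        refine ⟨j, a, ?_⟩
        rw [Groth.Agent.Lib.Helper49.stalkMap_comp_apply', ha, hb]
      choose jj aa haa using hrep
      obtain ⟨k, hk⟩ := IsFiltered.sup_objs_exists (T.image jj)
      refine ⟨k, ?_⟩
      change Function.Surjective (Groth.Agent.Lib.Helper49.stalkMapLinear (φ k) (xU : X))
      rw [← LinearMap.range_eq_top, eq_top_iff, ← hT, Submodule.span_le]
      intro e he
      obtain ⟨f⟩ := hk (Finset.mem_image_of_mem jj he)
      refine ⟨(Groth.Agent.Lib.Helper49.stalkMap (D.map f) (xU : X)).hom (aa e), ?_⟩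
      change (Groth.Agent.Lib.Helper49.stalkMap (φ k) (xU : X)).hom _ = e
      rw [← Groth.Agent.Lib.Helper49.stalkMap_comp_apply', hφ f, haa e]
    have : Nonempty J := IsFiltered.nonempty
    obtain ⟨j₀, hj₀⟩ := isCompact_univ.elim_directed_cover S hSopen
      (fun x _ => Set.mem_iUnion.mpr (hScover x))
      (fun j₁ j₂ => ⟨IsFiltered.max j₁ j₂, hSmono (IsFiltered.leftToMax j₁ j₂),
        hSmono (IsFiltered.rightToMax j₁ j₂)⟩)
    refine ⟨j₀, fun j ⟨f⟩ => ?_⟩
    apply Groth.Agent.Lib.Helper18.FPM.epi_of_stalkMap_surjective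
    intro x
    exact hSmono f (hj₀ (Set.mem_univ x))
  · rintro ⟨j₀, h⟩
    have := h j₀ ⟨𝟙 _⟩
    exact epi_of_epi (c.ι.app j₀) u

end Groth.Agent.S10857
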