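import Groth.Statements.S1086
-- import your own Groth.Agent.* helpers here
import Groth.Agent.Lib.Helper32.FilStrict

set_option autoImplicit false
universe v u
open CategoryTheory CategoryTheory.Limits Opposite
open FilD

namespace Groth.Agent.S1086

open Groth.Agent.Lib.Helper32 Groth.Agent.Lib.Helper32.FilExt Groth.Agent.Lib.Helper32.FilStrict

section
variable {A : Type u} [Category.{v} A] [Abelian A]

/-- the levelwise kernel forks are limits. -/
noncomputable def kerLim {X Y : FilD.FilF A} (u : X ⟶ Y) (q : ℤᵒᵖ) :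
    IsLimit (KernelFork.ofι ((kernel.ι u.hom).app q) (by
      rw [← NatTrans.comp_app, kernel.condition]; rfl : (kernel.ι u.hom).app q ≫ u.hom.app q = 0)) :=
  KernelFork.mapIsLimit _ (kernelIsKernel u.hom) ((evaluation ℤᵒᵖ A).obj q)

lemma isFinFil_kernel {X Y : FilD.FilF A} (u : X ⟶ Y) : FilD.IsFinFil A (kernel u.hom) := by
  let K : ℤᵒᵖ ⥤ A := kernel u.hom
  let ι : K ⟶ X.obj := kernel.ι u.hom
  haveI : Mono ι := (inferInstance : Mono (kernel.ι u.hom))
  have hιmono : ∀ q : ℤᵒᵖ, Mono (ι.app q) := fun q => inferInstance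
  have hιu : ∀ q : ℤᵒᵖ, ι.app q ≫ u.hom.app q = 0 := fun q => by
    rw [← NatTrans.comp_app, kernel.condition]; rfl
  have hKmono : ∀ ⦃q r : ℤᵒᵖ⦄ (f : q ⟶ r), Mono (K.map f) := fun q r f => by
    haveI := hιmono q
    haveI : Mono (X.obj.map f) := X.property.1 f
    haveI : Mono (K.map f ≫ ι.app r) := by
      rw [ι.naturality f]
      infer_instance
    exact mono_of_mono (K.map f) (ι.app r)
  obtain ⟨bX, hbX⟩ := X.property.2.1
  obtain ⟨aX, haX⟩ := X.property.2.2
  obtain ⟨aY, haY⟩ := Y.property.2.2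
  refine ⟨hKmono, ⟨bX, fun q hq => ?_⟩, ⟨min aX aY, fun q r f hq => ?_⟩⟩
  · haveI := hιmono (op q)
    exact IsZero.of_mono (ι.app (op q)) (hbX q hq)
  · haveI : IsIso (X.obj.map f) := haX f (hq.trans (min_le_left _ _))
    haveI : IsIso (Y.obj.map f) := haY f (hq.trans (min_le_right _ _))
    haveI := hKmono f
    haveI := hιmono r
    have h0 : (ι.app r ≫ inv (X.obj.map f)) ≫ u.hom.app q = 0 := by
      have hn : inv (X.obj.map f) ≫ u.hom.app q = u.hom.app r ≫ inv (Y.obj.map f) := by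
        rw [IsIso.inv_comp_eq, ← Category.assoc, IsIso.eq_comp_inv]
        exact (u.hom.naturality f).symm
      rw [Category.assoc, hn, ← Category.assoc, hιu, zero_comp]
    obtain ⟨l, hl⟩ := KernelFork.IsLimit.lift' (kerLim u q) _ h0
    have hl' : l ≫ ι.app q = ι.app r ≫ inv (X.obj.map f) := hl
    haveI : IsSplitEpi (K.map f) := ⟨⟨l, by
      rw [← cancel_mono (ι.app r), Category.assoc, ι.naturality f, ← Category.assoc, hl',
        Category.assoc, IsIso.inv_hom_id, Category.comp_id, Category.id_comp]⟩⟩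
    exact isIso_of_mono_of_epi _

/-- the lifting property of a strict morphism. -/
lemma lift_of_isStrict {X Y : FilD.FilF A} (u : X ⟶ Y) (hu : FilD.IsStrict u)
    (p q : ℤ) (h : p ≤ q) (W : A) (x : W ⟶ X.obj.obj (op p))
    (y : W ⟶ Y.obj.obj (op q)) (hxy : x ≫ u.hom.app (op p) = y ≫ tr Y.obj h) :
    ∃ (W' : A) (π : W' ⟶ W) (_ : Epi π) (x' : W' ⟶ X.obj.obj (op q)),
      π ≫ y = x' ≫ u.hom.app (op q) := by
  haveI : Mono (Y.obj.map (homOfLE h).op) := Y.property.1 _
  have hstr := hu p q h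
  let m := x ≫ u.hom.app (op p)
  have f1 : (imageSubobject (u.hom.app (op p))).Factors m :=
    imageSubobject_factors_comp_self _ _
  have f2 : (Subobject.mk (Y.obj.map (homOfLE h).op)).Factors m := by
    change (Subobject.mk (Y.obj.map (homOfLE h).op)).Factors (x ≫ u.hom.app (op p))
    rw [hxy]
    exact Subobject.factors_of_factors_right _ (Subobject.mk_factors_self _)
  have f3 : (imageSubobject (u.hom.app (op q) ≫ Y.obj.map (homOfLE h).op)).Factors m := by
    rw [hstr]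
    exact (Subobject.inf_factors m).2 ⟨f1, f2⟩
  obtain ⟨W', π, hπ, x', hx'⟩ := exists_lift_of_factors_image _ _ f3
  refine ⟨W', π, hπ, x', ?_⟩
  rw [← cancel_mono (tr Y.obj h), Category.assoc, Category.assoc, ← hxy]
  exact hx'

theorem aux {X Y : FilD.FilF A} (φ : X ⟶ Y) :
    FilD.IsStrict φ ↔
      ∀ p : ℤ, ((ShortComplex.mk (kernel.ι φ.hom) φ.hom (kernel.condition φ.hom)).map (FilD.gr A p)).Exact := by
  let Kf : FilD.FilF A := ⟨kernel φ.hom, isFinFil_kernel φ⟩
  let ιf : Kf ⟶ X := ObjectProperty.homMk (kernel.ι φ.hom)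
  have hz : ιf ≫ φ = 0 := by
    apply ObjectProperty.hom_ext
    exact kernel.condition φ.hom
  let S' : ShortComplex (FilD.FilF A) := ShortComplex.mk ιf φ hz
  constructor
  · intro hφ p
    rw [ShortComplex.exact_iff_exact_up_to_refinements]
    intro W (xbar : W ⟶ (FilD.grF A p).obj X) (hxbar : xbar ≫ (FilD.grF A p).map φ = 0)
    obtain ⟨W₁, π₁, hπ₁, x, hx⟩ := surjective_up_to_refinements_of_epi (grπ X p) xbar
    have h1 : (x ≫ φ.hom.app (op p)) ≫ grπ Y p = 0 := by
      rw [Category.assoc, pi_naturality φ p, ← Category.assoc, ← hx, Category.assoc, hxbar,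
        comp_zero]
    obtain ⟨W₂, π₂, hπ₂, y₁, hy₁⟩ := (grπ_exact Y p).exact_up_to_refinements _ h1
    have hy₁' : π₂ ≫ x ≫ φ.hom.app (op p) = y₁ ≫ Y.obj.map (FilD.stepHom p) := hy₁
    obtain ⟨W₃, π₃, hπ₃, x', hx'⟩ := lift_of_isStrict φ hφ p (p + 1) (by omega) W₂ (π₂ ≫ x) y₁
      (by rw [Category.assoc, hy₁']; rfl)
    let k : W₃ ⟶ X.obj.obj (op p) := π₃ ≫ π₂ ≫ x - x' ≫ X.obj.map (FilD.stepHom p)
    have hk : k ≫ φ.hom.app (op p) = 0 := by
      simp only [k, Preadditive.sub_comp, Category.assoc]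
      rw [hy₁', step_naturality φ p, ← Category.assoc π₃, hx', Category.assoc, sub_self]
    let k₀ : W₃ ⟶ Kf.obj.obj (op p) := (KernelFork.IsLimit.lift' (kerLim φ (op p)) k hk).1
    have hk₀ : k₀ ≫ ιf.hom.app (op p) = k := (KernelFork.IsLimit.lift' (kerLim φ (op p)) k hk).2
    refine ⟨W₃, π₃ ≫ π₂ ≫ π₁, epi_comp _ _, k₀ ≫ grπ Kf p, ?_⟩
    change (π₃ ≫ π₂ ≫ π₁) ≫ xbar = (k₀ ≫ grπ Kf p) ≫ (FilD.grF A p).map ιf
    rw [Category.assoc k₀, ← pi_naturality ιf p, ← Category.assoc k₀, hk₀]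
    simp only [k, Preadditive.sub_comp, Category.assoc]
    rw [step_grπ, comp_zero, sub_zero, hx]
  · intro h
    exact isStrict_g S' (fun p => h p)

end

/-- Let φ : X ⟶ Y be a morphism of finite filtered objects of an abelian category and let Ker φ carry
the induced filtration (the kernel computed levelwise). Then φ is strict if and only if for every p
the sequence grᵖ(Ker φ) ⟶ grᵖ X ⟶ grᵖ Y is exact. -/
theorem result {A : Type u} [Category.{v} A] [Abelian A] {X Y : FilD.FilF A} (φ : X ⟶ Y) :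
    FilD.IsStrict φ ↔
      ∀ p : ℤ, ((ShortComplex.mk (kernel.ι φ.hom) φ.hom (kernel.condition φ.hom)).map (FilD.gr A p)).Exact := by
  exact aux φ

end Groth.Agent.S1086
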