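import Groth.Statements.S10860
import Mathlib.AlgebraicGeometry.ZariskisMainTheorem

set_option autoImplicit false
universe u
open Mor

namespace Groth.Agent.S10860

open CategoryTheory AlgebraicGeometry in
set_option backward.isDefEq.respectTransparency.types false in
theorem aux {X Y : Scheme.{u}} (f : X ⟶ Y) [IsProper f] :
    ∃ U : Y.Opens, (∀ y, (f.base ⁻¹' {y}).Finite → y ∈ U) ∧ IsFinite (f ∣_ U) := by
  let V : Y.Opens := ⟨_, (f.isClosedMap _ f.quasiFiniteLocus.isOpen.isClosed_compl).isOpen_compl⟩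
  have hfin : IsFinite (f ∣_ V) := by
    suffices LocallyQuasiFinite (f ∣_ V) from .of_isProper_of_locallyQuasiFinite _
    rw [← Scheme.Hom.quasiFiniteLocus_eq_top_iff]
    ext x
    have : f.QuasiFiniteAt ((f ⁻¹ᵁ V).ι x) := by by_contra H; exact x.2 ⟨_, H, by simp⟩
    rw [← Scheme.Hom.quasiFiniteAt_comp_iff_of_isOpenImmersion, ← morphismRestrict_ι,
      Scheme.Hom.quasiFiniteAt_comp_iff] at this
    simpa
  refine ⟨V, ?_, hfin⟩
  intro y hy
  change (f ⁻¹' {y}).Finite at hy
  suffices ∀ x, f x = y → f.QuasiFiniteAt x by simpa [V, not_imp_not]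
  rintro x rfl
  have : Finite (f.fiber (f x)) := (f.fiberHomeo (f x)).finite_iff.mpr ‹_›
  exact Scheme.Hom.quasiFiniteAt_iff_isOpen_singleton_asFiber.mpr (isOpen_discrete _)

open CategoryTheory AlgebraicGeometry in
/-- For a proper morphism f : X → Y, the set V of points of Y with finite fibre is open, and f
restricted over V is finite (stated as the existence of an open subscheme of Y whose underlying set
is exactly V and over which f is finite). -/
theorem result {X Y : Scheme.{u}} (f : X ⟶ Y) [IsProper f] :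
    ∃ U : Y.Opens, (U : Set Y) = {y : Y | (f.base ⁻¹' {y}).Finite} ∧ IsFinite (f ∣_ U) := by
  obtain ⟨V, hV, hfin⟩ := aux f
  refine ⟨V, ?_, hfin⟩
  ext y
  constructor
  · intro hy
    have h1 := (f ∣_ V).finite_preimage_singleton ⟨y, hy⟩
    have h2 : f.base ⁻¹' {y} ⊆ (f ⁻¹ᵁ V).ι.base '' ((f ∣_ V).base ⁻¹' {⟨y, hy⟩}) := by
      intro x hx
      have hxV : x ∈ f ⁻¹ᵁ V := by
        change f.base x ∈ V
        rw [hx]; exact hy
      refine ⟨⟨x, hxV⟩, ?_, rfl⟩
      change (f ∣_ V).base ⟨x, hxV⟩ = ⟨y, hy⟩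
      apply Subtype.ext
      have := congr($(morphismRestrict_ι f V).base ⟨x, hxV⟩)
      simp only [Scheme.Hom.comp_base, TopCat.hom_comp, ContinuousMap.comp_apply] at this
      exact this.trans hx
    exact (h1.image _).subset h2
  · exact hV y

end Groth.Agent.S10860
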