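import Groth.Statements.S10863
import Groth.Agent.Lib.Helper27.SepCount

set_option autoImplicit false
universe u
open CAlg

namespace Groth.Agent.S10863

open TensorProduct in
/-- Let k be a field, A a finite-dimensional local k-algebra with residue field κ, and k' a field
extension of k. Then the separable degree of κ over k equals the sum over the maximal ideals m' of
k' ⊗_k A (the points of the base-changed finite scheme lying over the given point) of the separable
degrees over k' of their residue fields. -/
theorem result (k A k' : Type u) [Field k] [CommRing A] [Algebra k A]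
    [Module.Finite k A] [IsLocalRing A] [Field k'] [Algebra k k'] :
    Field.finSepDegree k (IsLocalRing.ResidueField A) =
      ∑ᶠ m : MaximalSpectrum (k' ⊗[k] A),
        Field.finSepDegree k' (IsLocalRing.ResidueField (Localization.AtPrime m.asIdeal)) := by
  classical
  let Ω := AlgebraicClosure k'
  haveI : IsArtinianRing A := IsArtinianRing.of_finite k A
  haveI : Module.Finite k (IsLocalRing.ResidueField A) := inferInstance
  -- step 1
  rw [Field.finSepDegree_eq_of_isAlgClosed k (IsLocalRing.ResidueField A) Ω]
  -- step 2: bijection with A →ₐ[k] Ω
  have hbij : Function.Bijective (fun g : IsLocalRing.ResidueField A →ₐ[k] Ω =>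
      g.comp (IsScalarTower.toAlgHom k A (IsLocalRing.ResidueField A))) := by
    constructor
    · intro g g' h
      ext x
      obtain ⟨a, rfl⟩ := IsLocalRing.residue_surjective x
      exact congrArg (fun φ : A →ₐ[k] Ω => φ a) h
    · intro f
      have hprime : (RingHom.ker f.toRingHom).IsPrime := RingHom.ker_isPrime _
      have hmax : (RingHom.ker f.toRingHom).IsMaximal := inferInstance
      have hker : RingHom.ker f.toRingHom = IsLocalRing.maximalIdeal A :=
        IsLocalRing.eq_maximalIdeal hmax
      have h0 : ∀ a ∈ IsLocalRing.maximalIdeal A, f a = 0 := by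
        intro a ha
        rw [← hker] at ha
        exact ha
      refine ⟨Ideal.Quotient.liftₐ (IsLocalRing.maximalIdeal A) f h0, ?_⟩
      ext a
      rfl
  rw [Nat.card_congr (Equiv.ofBijective _ hbij)]
  rw [Nat.card_congr (Groth.Agent.Lib.Helper27.SepCount.adjEquiv k k' A Ω)]
  rw [Groth.Agent.Lib.Helper27.SepCount.card_algHom_eq_finsum k' (k' ⊗[k] A) Ω]
  haveI : IsArtinianRing (k' ⊗[k] A) := IsArtinianRing.of_finite k' _
  exact (finsum_comp_equiv (IsArtinianRing.primeSpectrumEquivMaximalSpectrum (R := k' ⊗[k] A))
    (f := fun m : MaximalSpectrum (k' ⊗[k] A) => Field.finSepDegree k'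
      (IsLocalRing.ResidueField (Localization.AtPrime m.asIdeal))))

end Groth.Agent.S10863
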