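import Groth.Statements.S10866
import Groth.Agent.S10865
import Groth.Agent.S1704
import Groth.Agent.Lib.Helper16.CohThick.Basic
import Groth.Agent.Lib.Helper45.Dev.GraphTrick
import Groth.Agent.Lib.Helper49.CohNoeth
import Groth.Agent.Lib.Helper49.QcqsModules

set_option linter.style.haveILetI false

set_option autoImplicit false
universe u
open Coherent

namespace Groth.Agent.S10866

open CategoryTheory AlgebraicGeometry in
/-- Let f : X → Y be a morphism of Noetherian schemes such that for every integral closed subscheme i :
Z → X there is a coherent O_Z-module with nonzero stalk at the generic point of Z whose direct image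
under i followed by f is coherent on Y. Then the direct image f_*F of every coherent O_X-module F is
coherent. -/
theorem result {X Y : Scheme.{u}} [IsNoetherian X] [IsNoetherian Y]
    (f : X ⟶ Y)
    (hgen : ∀ (Z : Scheme.{u}) (i : Z ⟶ X) [IsClosedImmersion i] [IsIntegral Z],
      ∃ H : Z.Modules, Coh.IsCoh H ∧ Nontrivial (H.presheaf.stalk (genericPoint Z)) ∧
        Coh.IsCoh ((Scheme.Modules.pushforward (i ≫ f)).obj H))
    (F : X.Modules) (hF : Coh.IsCoh F) : Coh.IsCoh ((Scheme.Modules.pushforward f).obj F) := by
  classical
  open CategoryTheory.Limits Groth.Agent.Lib.Helper49 Groth.Agent.Lib.Helper45.GraphTrick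
    Groth.Agent.Lib.Helper16.CohThick in
  rcases isEmpty_or_nonempty X with hX | hX
  · have hz : IsZero F := by
      rw [Groth.Agent.S1704.result X F hF.1]
      intro x
      exact (hX.false x).elim
    exact isCoh_of_isZero ((Scheme.Modules.pushforward f).map_isZero hz)
  · let K : ObjectProperty X.Modules :=
      fun M => Coh.IsCoh ((Scheme.Modules.pushforward f).obj M)
    haveI : K.IsClosedUnderIsomorphisms :=
      ⟨fun e h => isCoh_of_iso ((Scheme.Modules.pushforward f).mapIso e) h⟩
    -- a quasi-coherent module which maps injectively (after `f_*`) to one in `K` is in `K`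
    have hsub : ∀ (A B : X.Modules) (j : A ⟶ B), Mono j → A.IsQuasicoherent → K B → K A := by
      intro A B j hj hA hB
      haveI := hj
      haveI := hA
      haveI : ((Scheme.Modules.pushforward f).obj A).IsQuasicoherent :=
        isQuasicoherent_pushforward A f
      haveI := hB.1
      haveI : Mono ((Scheme.Modules.pushforward f).map j) := inferInstance
      exact ⟨inferInstance, isFiniteType_of_mono ((Scheme.Modules.pushforward f).map j) hB.2⟩
    refine Groth.Agent.S10865.result X K ?_ ?_ ?_ F hF
    · intro S hS h1 h2 h3
      haveI := hS.mono_f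
      refine ⟨fun k2 _ => hsub _ _ S.f inferInstance h1.1 k2, fun k1 k3 => ?_⟩
      haveI := h2.1
      have hG2q : ((Scheme.Modules.pushforward f).obj S.X₂).IsQuasicoherent :=
        isQuasicoherent_pushforward S.X₂ f
      have hex : (S.map (Scheme.Modules.pushforward f)).Exact :=
        hS.exact.map_of_mono_of_preservesKernel (Scheme.Modules.pushforward f) hS.mono_f
          inferInstance
      set g' := (Scheme.Modules.pushforward f).map S.g with hg'
      have hcoker : Coh.IsCoh (cokernel g') := isCoh_cokernel g' hG2q k3
      have hI : Coh.IsCoh (Abelian.image g') := isCoh_kernel (cokernel.π g') k3 hcoker.1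
      have hzero : (Scheme.Modules.pushforward f).map S.f ≫ Abelian.factorThruImage g' = 0 := by
        rw [← cancel_mono (Abelian.image.ι g'), Category.assoc, Abelian.image.fac, zero_comp,
          hg', ← Functor.map_comp, S.zero, Functor.map_zero]
      let S' : ShortComplex Y.Modules :=
        ShortComplex.mk ((Scheme.Modules.pushforward f).map S.f) (Abelian.factorThruImage g') hzero
      let φ : S' ⟶ S.map (Scheme.Modules.pushforward f) :=
        { τ₁ := 𝟙 _
          τ₂ := 𝟙 _
          τ₃ := Abelian.image.ι g'
          comm₁₂ := by
            change 𝟙 _ ≫ (Scheme.Modules.pushforward f).map S.f =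
              (Scheme.Modules.pushforward f).map S.f ≫ 𝟙 _
            rw [Category.id_comp, Category.comp_id]
          comm₂₃ := by
            change 𝟙 _ ≫ g' = Abelian.factorThruImage g' ≫ Abelian.image.ι g'
            rw [Category.id_comp, Abelian.image.fac] }
      haveI : Epi φ.τ₁ :=
        (inferInstance : Epi (𝟙 ((Scheme.Modules.pushforward f).obj S.X₁)))
      haveI : IsIso φ.τ₂ :=
        (inferInstance : IsIso (𝟙 ((Scheme.Modules.pushforward f).obj S.X₂)))
      haveI : Mono φ.τ₃ := (inferInstance : Mono (Abelian.image.ι g'))
      have hex' : S'.Exact := (ShortComplex.exact_iff_of_epi_of_isIso_of_mono φ).mpr hex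
      haveI : Mono S'.f :=
        (inferInstance : Mono ((Scheme.Modules.pushforward f).map S.f))
      haveI : Epi S'.g := (inferInstance : Epi (Abelian.factorThruImage g'))
      have hSE : S'.ShortExact := ShortComplex.ShortExact.mk hex'
      exact isCoh_of_extension S' hSE k1 hI
    · intro F' d hd hF' hK
      haveI := hF'.1
      have hfac : Sigma.ι (fun _ : Fin d => F') ⟨0, hd⟩ ≫ Sigma.desc (fun _ => 𝟙 F') = 𝟙 F' := by
        simp
      have hmono : Mono (Sigma.ι (fun _ : Fin d => F') ⟨0, hd⟩) := by
        exact mono_of_mono_fac hfac
      exact hsub _ _ _ hmono hF'.1 hK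
    · intro Z i _ _
      obtain ⟨H, hH, hnt, hc⟩ := hgen Z i
      exact ⟨H, hH, hnt, isCoh_of_iso ((Scheme.Modules.pushforwardComp i f).app H).symm hc⟩

end Groth.Agent.S10866
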