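import Groth.Statements.S10867
import Groth.Agent.Lib.Helper69.FiberCI2
import Groth.Agent.S10860
import Mathlib.AlgebraicGeometry.AlgClosed.Basic
import Mathlib.AlgebraicGeometry.Noetherian

set_option autoImplicit false
universe u
open Mor

namespace Groth.Agent.S10867
open Groth.Agent.Lib.Helper69 CategoryTheory CategoryTheory.Limits AlgebraicGeometry IsLocalRing

/-- Over an algebraically closed field, the local ring at a closed point is generated modulo its
maximal ideal by the image of the local ring downstairs. -/
theorem exists_sub_mem (k : Type u) [Field k] [IsAlgClosed k] {X Y : Scheme.{u}} (f : X ⟶ Y)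
    (q : Y ⟶ Spec (CommRingCat.of k)) [LocallyOfFiniteType (f ≫ q)] (x : X)
    (hx : IsClosed ({x} : Set X)) :
    ∀ s : X.presheaf.stalk x, ∃ r : Y.presheaf.stalk (f.base x),
      s - (f.stalkMap x).hom r ∈ maximalIdeal (X.presheaf.stalk x) := by
  intro s
  let e := residueFieldIsoBase (f ≫ q) x hx
  let ψ : CommRingCat.of k ⟶ Y.residueField (f.base x) :=
    Spec.preimage (Y.fromSpecResidueField (f.base x) ≫ q)
  have hψ : e.inv = ψ ≫ f.residueFieldMap x := by
    apply Spec.map_injective
    rw [SpecMap_residueFieldIsoBase_inv, Spec.map_comp, Spec.map_preimage,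
      ← Category.assoc (Spec.map _), Scheme.Hom.SpecMap_residueFieldMap_fromSpecResidueField,
      Category.assoc]
  let c : k := e.hom.hom ((X.residue x).hom s)
  obtain ⟨r, hr⟩ := Y.residue_surjective (f.base x) (ψ.hom c)
  refine ⟨r, ?_⟩
  have h1 : (X.residue x).hom ((f.stalkMap x).hom r) = (X.residue x).hom s := by
    have h2 := congr($(Scheme.residue_residueFieldMap f x).hom r)
    simp only [CommRingCat.hom_comp, RingHom.coe_comp, Function.comp_apply] at h2
    rw [← h2, hr]
    have h3 := congr($(hψ).hom c)
    simp only [CommRingCat.hom_comp, RingHom.coe_comp, Function.comp_apply] at h3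
    rw [← h3]
    exact congr($(e.hom_inv_id).hom ((X.residue x).hom s))
  have h4 : (X.residue x).hom (s - (f.stalkMap x).hom r) = 0 := by
    rw [map_sub, h1, sub_self]
  exact (IsLocalRing.residue_eq_zero_iff _).mp h4

/-- Fibres over closed points: empty or a single closed point. -/
theorem fibre_closed_point {X Y : Scheme.{u}} (f : X ⟶ Y) [JacobsonSpace X]
    (hinj : Set.InjOn f.base {x : X | IsClosed ({x} : Set X)}) (y : Y)
    (hy : IsClosed ({y} : Set Y)) :
    (∀ x, f.base x ≠ y) ∨ ∃ x₀, IsClosed ({x₀} : Set X) ∧ f.base x₀ = y ∧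
      ∀ x, f.base x = y → x = x₀ := by
  by_cases hF : ∀ x, f.base x ≠ y
  · exact Or.inl hF
  right
  push Not at hF
  obtain ⟨x1, hx1⟩ := hF
  let F : Set X := f.base ⁻¹' {y}
  have hFc : IsClosed F := hy.preimage f.continuous
  have hcl := JacobsonSpace.closure_inter_closedPoints hFc
  have hne : (F ∩ closedPoints X).Nonempty := by
    by_contra h
    rw [Set.not_nonempty_iff_eq_empty] at h
    rw [h, closure_empty] at hcl
    have : x1 ∈ F := hx1
    rw [← hcl] at this
    exact this
  obtain ⟨x₀, hx₀F, hx₀c⟩ := hne
  have hx₀c' : IsClosed ({x₀} : Set X) := hx₀c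
  refine ⟨x₀, hx₀c', hx₀F, ?_⟩
  have hsub : F ∩ closedPoints X ⊆ {x₀} := by
    rintro x ⟨hxF, hxc⟩
    exact hinj hxc hx₀c ((hxF : f.base x = y).trans (hx₀F : f.base x₀ = y).symm)
  intro x hx
  have : x ∈ closure (F ∩ closedPoints X) := by rw [hcl]; exact hx
  have h2 := closure_mono hsub this
  rw [hx₀c'.closure_eq] at h2
  exact h2

set_option backward.isDefEq.respectTransparency.types false in
theorem isFinite_restrict_of_le {X Y : Scheme.{u}} (f : X ⟶ Y) {W W' : Y.Opens} (hle : W ≤ W')
    (h : IsFinite (f ∣_ W')) : IsFinite (f ∣_ W) :=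
  restrict_of_le (P := @IsFinite) f hle h

open CategoryTheory AlgebraicGeometry in
/-- In the case of an algebraically closed base field k and K = k: let X, Y be k-schemes of finite type
and f : X → Y a proper k-morphism which is injective on closed points and such that for every closed
point x of X the ideal generated by the image of the maximal ideal of the local ring at f(x),
together with the square of the maximal ideal at x, is the whole maximal ideal at x (the cotangent
map is surjective, i.e. the tangent map at x is injective). Then f is a closed immersion. (The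
published statement allows any field k and tests points and tangent spaces with values in an
algebraically closed extension K of k; this row is the case K = k.) -/
theorem result (k : Type u) [Field k] [IsAlgClosed k]
    {X Y : Scheme.{u}} (f : X ⟶ Y) (q : Y ⟶ Spec (CommRingCat.of k)) [LocallyOfFiniteType q] [QuasiCompact q]
    [LocallyOfFiniteType (f ≫ q)] [IsProper f]
    (hinj : Set.InjOn f.base {x : X | IsClosed ({x} : Set X)})
    (hT : ∀ x : X, IsClosed ({x} : Set X) →
      Ideal.map (f.stalkMap x).hom (IsLocalRing.maximalIdeal (Y.presheaf.stalk (f.base x))) ⊔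
        IsLocalRing.maximalIdeal (X.presheaf.stalk x) ^ 2 = IsLocalRing.maximalIdeal (X.presheaf.stalk x)) :
    IsClosedImmersion f := by
  have hJY : JacobsonSpace Y := LocallyOfFiniteType.jacobsonSpace q
  have hJX : JacobsonSpace X := LocallyOfFiniteType.jacobsonSpace (f ≫ q)
  have hNX : IsLocallyNoetherian X := LocallyOfFiniteType.isLocallyNoetherian (f ≫ q)
  obtain ⟨V, hV, hVfin⟩ := Groth.Agent.S10860.aux f
  -- the key local statement at closed points
  have key : ∀ y : Y, IsClosed ({y} : Set Y) →
      ∃ W : Y.Opens, y ∈ W ∧ IsClosedImmersion (f ∣_ W) := by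
    intro y hy
    have hfib := fibre_closed_point f hinj y hy
    have hyV : y ∈ V := by
      apply hV
      rcases hfib with h | ⟨x₀, -, -, h⟩
      · convert Set.finite_empty
        ext x
        simpa using h x
      · exact (Set.finite_singleton x₀).subset fun x hx => h x hx
    obtain ⟨U, hUaff, hyU, hUV⟩ : ∃ U : Y.Opens, IsAffineOpen U ∧ y ∈ U ∧ U ≤ V := by
      obtain ⟨_, ⟨U, hU, rfl⟩, hyU, hUV⟩ :=
        Y.isBasis_affineOpens.exists_subset_of_mem_open hyV V.2
      exact ⟨U, hU, hyU, hUV⟩
    have hUfin : IsFinite (f ∣_ U) := isFinite_restrict_of_le f hUV hVfin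
    rcases hfib with h | ⟨x₀, hx₀c, hx₀y, hx₀u⟩
    · have := isClosedImmersion_fiberToSpecResidueField_of_empty f y h
      exact exists_isClosedImmersion_restrict_of_fiber f U hUaff y hyU
    · have hUaff' : IsAffine U := hUaff
      let g := f ∣_ U
      have hx₀U : x₀ ∈ f ⁻¹ᵁ U := by
        change f.base x₀ ∈ U
        rw [hx₀y]; exact hyU
      let x₀' : (f ⁻¹ᵁ U).toScheme := ⟨x₀, hx₀U⟩
      have hgx₀ : g.base x₀' = ⟨y, hyU⟩ := by
        apply Subtype.ext
        exact (morphismRestrict_base_coe f U x₀').trans hx₀y
      have huniq : ∀ x : (f ⁻¹ᵁ U).toScheme, g.base x = g.base x₀' → x = x₀' := by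
        intro x hx
        apply Subtype.ext
        apply hx₀u
        have := congrArg Subtype.val (hx.trans hgx₀)
        exact (morphismRestrict_base_coe f U x).symm.trans this
      have e := morphismRestrictStalkMap f U x₀'
      have hmax0 := map_maximalIdeal_eq_of_sup_sq (f.stalkMap x₀).hom (hT x₀ hx₀c)
      have hres0 := exists_sub_mem k f q x₀ hx₀c
      have hmax := map_maximalIdeal_of_arrowIso _ _ e.symm hmax0
      have hres := exists_sub_mem_maximalIdeal_of_arrowIso _ _ e.symm hres0
      have hci := isClosedImmersion_fiberToSpecResidueField_of_unique g x₀' huniq hmax hres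
      have hci' : IsClosedImmersion (g.fiberToSpecResidueField ⟨y, hyU⟩) := hgx₀ ▸ hci
      exact exists_isClosedImmersion_restrict_of_fiber' f U hUaff y hyU
  -- conclude using that `Y` is Jacobson
  let T : Set Y := {y | ∃ W : Y.Opens, y ∈ W ∧ IsClosedImmersion (f ∣_ W)}
  have hTopen : IsOpen T := by
    rw [isOpen_iff_forall_mem_open]
    rintro y ⟨W, hyW, hW⟩
    exact ⟨W, fun z hz => ⟨W, hz, hW⟩, W.2, hyW⟩
  have hTuniv : T = Set.univ := by
    by_contra hne
    have hc : IsClosed Tᶜ := hTopen.isClosed_compl
    have hne' : (Tᶜ).Nonempty := by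
      rw [Set.nonempty_compl]; exact hne
    obtain ⟨y, hyT, hyc⟩ := nonempty_inter_closedPoints hne' hc.isLocallyClosed
    exact hyT (key y hyc)
  apply IsZariskiLocalAtTarget.of_forall_exists_morphismRestrict (P := @IsClosedImmersion)
  intro y
  have : y ∈ T := hTuniv ▸ trivial
  exact this

end Groth.Agent.S10867
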