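import Groth.Statements.S10868
import Mathlib.AlgebraicGeometry.QuasiAffine
import Mathlib.AlgebraicGeometry.Morphisms.Proper
import Mathlib.AlgebraicGeometry.ZariskisMainTheorem

set_option autoImplicit false
universe u
open Mor

namespace Groth.Agent.S10868
open CategoryTheory AlgebraicGeometry

theorem isAffine_of_isProper_of_isQuasiAffine {U V : Scheme.{u}} (g : U ⟶ V) [IsAffine V]
    [IsProper g] [U.IsQuasiAffine] : IsAffine U := by
  have hnat : g ≫ V.toSpecΓ = U.toSpecΓ ≫ Spec.map g.appTop := Scheme.toSpecΓ_naturality g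
  have : IsProper (U.toSpecΓ ≫ Spec.map g.appTop) := by
    rw [← hnat]; infer_instance
  have : IsProper U.toSpecΓ := IsProper.of_comp U.toSpecΓ (Spec.map g.appTop)
  have : IsClosedImmersion U.toSpecΓ := (IsClosedImmersion.iff_isProper_and_mono _).mpr ⟨‹_›, inferInstance⟩
  exact (IsClosedImmersion.isAffine_surjective_of_isAffine U.toSpecΓ).1

open CategoryTheory AlgebraicGeometry in
/-- f : X → Y is a finite morphism exactly when it is proper and quasi-affine (quasi-compact, with the
inverse image of every affine open subscheme of Y a quasi-affine scheme). -/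
theorem result {X Y : Scheme.{u}} (f : X ⟶ Y) :
    IsFinite f ↔ IsProper f ∧ Mor2.IsQuasiAffine f := by
  constructor
  · intro hf
    refine ⟨inferInstance, inferInstance, fun V hV => ?_⟩
    have : IsAffine (f ⁻¹ᵁ V : Scheme.{u}) := hV.preimage f
    infer_instance
  · rintro ⟨hp, hqc, hqa⟩
    rw [IsFinite.iff_isProper_and_isAffineHom]
    refine ⟨hp, ⟨fun V hV => ?_⟩⟩
    have : IsAffine (V : Scheme.{u}) := hV
    have := hqa V hV
    exact isAffine_of_isProper_of_isQuasiAffine (f ∣_ V)

end Groth.Agent.S10868
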