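import Groth.Statements.S10871
import Mathlib.RingTheory.DedekindDomain.Ideal.Lemmas
import Mathlib.AlgebraicGeometry.Morphisms.Affine
import Mathlib.AlgebraicGeometry.Limits

set_option autoImplicit false
universe u
open AlgebraicGeometry
open Curves

namespace Groth.Agent.S10871
open TopologicalSpace

/-- Local principalness of a nonzero ideal in a Dedekind domain. -/
theorem exists_local_generator (A : Type u) [CommRing A] [IsDedekindDomain A]
    (I : Ideal A) (hI : I ≠ ⊥) (p : Ideal A) [hp : p.IsPrime] :
    ∃ f ∈ I, ∃ g : A, g ∉ p ∧ ∀ a ∈ I, a * g ∈ Ideal.span {f} := by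
  have hne : p * I ≠ I := by
    intro h
    have h1 : p * I = ⊤ * I := by rw [h]; simp
    have := mul_right_cancel₀ hI h1
    exact hp.ne_top this
  have hlt : ¬ I ≤ p * I := fun h => hne (le_antisymm Ideal.mul_le_right h)
  obtain ⟨f, hfI, hfp⟩ := SetLike.not_le_iff_exists.mp hlt
  obtain ⟨M, hM⟩ : I ∣ Ideal.span {f} := Ideal.dvd_iff_le.mpr ((Ideal.span_singleton_le_iff_mem I).mpr hfI)
  have hMp : ¬ M ≤ p := by
    intro h
    apply hfp
    have : Ideal.span {f} ≤ p * I := by
      rw [hM, mul_comm]
      exact Ideal.mul_mono_left h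
    exact this (Ideal.mem_span_singleton_self f)
  obtain ⟨g, hgM, hgp⟩ := SetLike.not_le_iff_exists.mp hMp
  refine ⟨f, hfI, g, hgp, ?_⟩
  intro a ha
  rw [hM]
  exact Ideal.mul_mem_mul ha hgM

/-- Every open subscheme of the spectrum of a Dedekind domain is affine. -/
theorem result (A : Type u) [CommRing A] [IsDedekindDomain A]
    (U : (Spec (CommRingCat.of A)).Opens) : IsAffineOpen U := by
  obtain ⟨I, hI⟩ := (PrimeSpectrum.isClosed_iff_zeroLocus_ideal _).mp U.2.isClosed_compl
  by_cases hI0 : I = ⊥
  · have : U = ⊥ := by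
      ext x
      simp only [Opens.coe_bot, Set.mem_empty_iff_false, iff_false]
      intro hx
      have : x ∈ U.carrierᶜ := by
        rw [hI, hI0]
        simp only [Submodule.bot_coe, PrimeSpectrum.zeroLocus_singleton_zero]
        trivial
      exact this hx
    rw [this]
    exact isAffineOpen_bot _
  have hmem : ∀ q : PrimeSpectrum A, q ∈ U ↔ ¬ (I ≤ q.asIdeal) := by
    intro q
    have : q ∈ U.carrierᶜ ↔ I ≤ q.asIdeal := by
      rw [hI]
      exact PrimeSpectrum.mem_zeroLocus _ _
    constructor
    · intro hq h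
      exact (this.mpr h) hq
    · intro hq
      by_contra h
      exact hq (this.mp h)
  have key : ∀ (W : (Spec (CommRingCat.of A)).Opens), IsAffineOpen (U ⊓ W) →
      IsAffineOpen (U.ι ⁻¹ᵁ W) := by
    intro W hW
    rw [← U.ι.isAffineOpen_iff_of_isOpenImmersion, U.ι.image_preimage_eq_opensRange_inf,
      Scheme.Opens.opensRange_ι]
    exact hW
  have : IsAffineHom U.ι := by
    apply isAffineHom_of_forall_exists_isAffineOpen
    intro x
    have hxp : (PrimeSpectrum.asIdeal x).IsPrime := PrimeSpectrum.isPrime x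
    obtain ⟨f, hfI, g, hgp, hfg⟩ := exists_local_generator A I hI0 (PrimeSpectrum.asIdeal x)
    refine ⟨PrimeSpectrum.basicOpen g, hgp, IsAffineOpen.Spec_basicOpen (R := CommRingCat.of A) g, ?_⟩
    apply key
    have : U ⊓ PrimeSpectrum.basicOpen g = PrimeSpectrum.basicOpen (f * g) := by
      ext q
      change (q ∈ U ∧ g ∉ q.asIdeal) ↔ f * g ∉ q.asIdeal
      have hq := hmem q
      have hqp : (PrimeSpectrum.asIdeal q).IsPrime := PrimeSpectrum.isPrime q
      constructor
      · rintro ⟨h1, h2⟩ h3
        replace h1 := hq.mp h1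
        rcases hqp.mem_or_mem h3 with h4 | h4
        · apply h1
          intro a ha
          have := hfg a ha
          have h5 : a * g ∈ q.asIdeal :=
            (Ideal.span_singleton_le_iff_mem _).mpr h4 this
          rcases hqp.mem_or_mem h5 with h6 | h6
          · exact h6
          · exact absurd h6 h2
        · exact h2 h4
      · intro h
        refine ⟨hq.mpr fun hle => h (Ideal.mul_mem_right _ _ (hle hfI)), fun hg => h (Ideal.mul_mem_left _ _ hg)⟩
    rw [this]
    exact IsAffineOpen.Spec_basicOpen (R := CommRingCat.of A) (f * g)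
  exact isAffine_of_isAffineHom U.ι

end Groth.Agent.S10871
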