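import Groth.Statements.S10877
import Groth.Agent.Lib.Helper69.ClosedEq

set_option autoImplicit false
universe u
open CategoryTheory AlgebraicGeometry
open FlatMor

namespace Groth.Agent.S10877
open Groth.Agent.Lib.Helper69 CategoryTheory.Limits

theorem injective_of_cover {X Y : Scheme.{u}} (f : X ⟶ Y) [IsSeparated f]
    {ι : Type u} (U : ι → X.Opens)
    (hU : ⨆ i, U i = ⊤) (hd : ∀ i, Dense (U i : Set X)) (h : ∀ i, IsOpenImmersion ((U i).ι ≫ f)) :
    Function.Injective f.base := by
  intro x1 x2 hx
  obtain ⟨i, hi⟩ : ∃ i, x1 ∈ U i := by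
    have : x1 ∈ (⨆ i, U i : X.Opens) := hU ▸ trivial
    simpa using this
  obtain ⟨j, hj⟩ : ∃ j, x2 ∈ U j := by
    have : x2 ∈ (⨆ i, U i : X.Opens) := hU ▸ trivial
    simpa using this
  have := h i
  have := h j
  let gi := (U i).ι ≫ f
  let gj := (U j).ι ≫ f
  let a : pullback gi gj ⟶ X := pullback.fst gi gj ≫ (U i).ι
  let b : pullback gi gj ⟶ X := pullback.snd gi gj ≫ (U j).ι
  have hab : a ≫ f = b ≫ f := by
    simp only [a, b, Category.assoc]
    exact pullback.condition
  -- the dense open
  let D : (pullback gi gj).Opens := a ⁻¹ᵁ (U j)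
  have hD : Dense (D : Set ↥(pullback gi gj)) := by
    have h1 : Dense ((U i).ι.base ⁻¹' (U j : Set X)) :=
      (hd j).preimage (U i).ι.isOpenEmbedding.isOpenMap
    have h2 := h1.preimage (pullback.fst gi gj).isOpenEmbedding.isOpenMap
    exact h2
  have hDab : D.ι ≫ a = D.ι ≫ b := by
    have hrange : Set.range (D.ι ≫ a).base ⊆ Set.range (U j).ι.base := by
      rintro _ ⟨d, rfl⟩
      rw [Scheme.Opens.range_ι]
      exact d.2
    let a' : (D : Scheme.{u}) ⟶ U j := IsOpenImmersion.lift (U j).ι (D.ι ≫ a) hrange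
    have ha' : a' ≫ (U j).ι = D.ι ≫ a := IsOpenImmersion.lift_fac _ _ _
    have h3 : a' ≫ gj = (D.ι ≫ pullback.snd gi gj) ≫ gj := by
      change a' ≫ (U j).ι ≫ f = (D.ι ≫ pullback.snd gi gj) ≫ (U j).ι ≫ f
      rw [← Category.assoc, ha', Category.assoc, hab]
      simp only [b, Category.assoc]
    have h4 : a' = D.ι ≫ pullback.snd gi gj := (cancel_mono gj).mp h3
    rw [← ha', h4, Category.assoc]
  obtain ⟨z, hz1, hz2⟩ := Scheme.Pullback.exists_preimage_pullback (f := gi) (g := gj)
    ⟨x1, hi⟩ ⟨x2, hj⟩ hx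
  have key := base_eq_of_dense f a b hab D hD hDab z
  have e1 : a.base z = x1 := by
    change (U i).ι.base ((pullback.fst gi gj).base z) = x1
    rw [hz1]; rfl
  have e2 : b.base z = x2 := by
    change (U j).ι.base ((pullback.snd gi gj).base z) = x2
    rw [hz2]; rfl
  rw [← e1, ← e2, key]

/-- A separated morphism f : X → Y, with X having finitely many irreducible components, which restricts
to an open immersion on each member of a cover of X by dense open subsets, is an open immersion. -/
theorem result {X Y : Scheme.{u}} (f : X ⟶ Y) [IsSeparated f]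
    (hfin : (irreducibleComponents (X : Type u)).Finite) {ι : Type u} (U : ι → X.Opens)
    (hU : ⨆ i, U i = ⊤) (hd : ∀ i, Dense (U i : Set X)) (h : ∀ i, IsOpenImmersion ((U i).ι ≫ f)) :
    IsOpenImmersion f := by
  have hinj := injective_of_cover f U hU hd h
  refine IsOpenImmersion.of_openCover_source f
    (X.openCoverOfIsOpenCover U (TopologicalSpace.IsOpenCover.mk hU)) hinj ?_
  intro i
  exact h i

end Groth.Agent.S10877
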