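import Groth.Statements.S10878
import Groth.Agent.Lib.Helper69.LocalTarget

set_option autoImplicit false
universe u
open CategoryTheory AlgebraicGeometry
open FlatMor

namespace Groth.Agent.S10878
open Groth.Agent.Lib.Helper69 CategoryTheory.Limits

/-- A separated morphism f : X → Y, with X having finitely many irreducible components, which restricts
to an immersion on each member of a cover of X by dense open subsets, is an immersion. -/
theorem result {X Y : Scheme.{u}} (f : X ⟶ Y) [IsSeparated f]
    (hfin : (irreducibleComponents (X : Type u)).Finite) {ι : Type u} (U : ι → X.Opens)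
    (hU : ⨆ i, U i = ⊤) (hd : ∀ i, Dense (U i : Set X)) (h : ∀ i, IsImmersion ((U i).ι ≫ f)) :
    IsImmersion f := by
  -- the opens V i
  let V : ι → Y.Opens := fun i => ((U i).ι ≫ f).coborderRange
  let W : Y.Opens := ⨆ i, V i
  have hUV : ∀ i, U i ≤ f ⁻¹ᵁ V i := by
    intro i x hx
    change f.base x ∈ coborder (Set.range ((U i).ι ≫ f).base)
    exact subset_coborder ⟨⟨x, hx⟩, rfl⟩
  have hclosed : ∀ i, IsClosedImmersion (f ∣_ V i) := by
    intro i
    have := h i
    let j : (U i : Scheme.{u}) ⟶ (f ⁻¹ᵁ V i : Scheme.{u}) := X.homOfLE (hUV i)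
    have hj : j ≫ f ∣_ V i = ((U i).ι ≫ f).liftCoborder := by
      rw [← cancel_mono (V i).ι, Category.assoc, morphismRestrict_ι, Scheme.homOfLE_ι_assoc,
        Scheme.Hom.liftCoborder_ι]
    have hsep : IsSeparated (f ∣_ V i) := inferInstance
    have hjc : IsClosedImmersion j := by
      have : IsClosedImmersion (j ≫ f ∣_ V i) := by rw [hj]; infer_instance
      exact IsClosedImmersion.of_comp j (f ∣_ V i)
    have hjo : IsOpenImmersion j := inferInstance
    have hrange : Set.range j.base = (f ⁻¹ᵁ V i).ι.base ⁻¹' (U i : Set X) := by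
      ext x
      constructor
      · rintro ⟨y, rfl⟩
        change (j ≫ (f ⁻¹ᵁ V i).ι).base y ∈ (U i : Set X)
        rw [Scheme.homOfLE_ι]
        exact y.2
      · intro hx
        refine ⟨⟨x.1, hx⟩, ?_⟩
        apply (f ⁻¹ᵁ V i).ι.isOpenEmbedding.injective
        change (j ≫ (f ⁻¹ᵁ V i).ι).base _ = _
        rw [Scheme.homOfLE_ι]
        rfl
    have hdense : Dense (Set.range j.base) := by
      rw [hrange]
      exact (hd i).preimage (f ⁻¹ᵁ V i).ι.isOpenEmbedding.isOpenMap
    have hjs : Surjective j := by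
      constructor
      rw [← Set.range_eq_univ, ← j.isClosedEmbedding.isClosed_range.closure_eq]
      exact hdense.closure_eq
    have hji : IsIso j := (isIso_iff_isOpenImmersion_and_surjective j).mpr ⟨hjo, hjs⟩
    have : IsClosedImmersion (j ≫ f ∣_ V i) := by rw [hj]; infer_instance
    exact (MorphismProperty.cancel_left_of_respectsIso @IsClosedImmersion j (f ∣_ V i)).mp this
  have hW : IsClosedImmersion (f ∣_ W) := by
    apply restrict_of_forall_exists (P := @IsClosedImmersion)
    intro y hy
    obtain ⟨i, hi⟩ : ∃ i, y ∈ V i := by simpa [W] using hy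
    exact ⟨V i, hi, hclosed i⟩
  have htop : f ⁻¹ᵁ W = ⊤ := by
    rw [eq_top_iff]
    intro x _
    obtain ⟨i, hi⟩ : ∃ i, x ∈ U i := by
      have : x ∈ (⨆ i, U i : X.Opens) := hU ▸ trivial
      simpa using this
    have : f.base x ∈ V i := hUV i hi
    change f.base x ∈ (⨆ i, V i : Y.Opens)
    simp only [TopologicalSpace.Opens.mem_iSup]
    exact ⟨i, this⟩
  have hιs : Surjective (f ⁻¹ᵁ W).ι := by
    constructor
    intro x
    exact ⟨⟨x, htop ▸ trivial⟩, rfl⟩
  have hιi : IsIso (f ⁻¹ᵁ W).ι :=
    (isIso_iff_isOpenImmersion_and_surjective _).mpr ⟨inferInstance, hιs⟩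
  have hcomp : IsImmersion ((f ⁻¹ᵁ W).ι ≫ f) := by
    rw [← morphismRestrict_ι]
    infer_instance
  have : f = inv (f ⁻¹ᵁ W).ι ≫ ((f ⁻¹ᵁ W).ι ≫ f) := by simp
  rw [this]
  infer_instance

end Groth.Agent.S10878
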