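import Groth.Statements.S10879
import Mathlib

set_option autoImplicit false
universe u
open CategoryTheory AlgebraicGeometry
open FlatMor

namespace Groth.Agent.S10879


/-- A faithfully flat extension of domains inside a common "fraction field" is trivial. -/
theorem surjective_algebraMap_of_fraction {A B K : Type u} [CommRing A] [CommRing B] [IsDomain B]
    [CommRing K] [Algebra A B] [Module.FaithfullyFlat A B]
    (ιA : A →+* K) (ιB : B →+* K) (hcomm : ∀ a, ιB (algebraMap A B a) = ιA a)
    (hιB : Function.Injective ιB)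
    (hfrac : ∀ k : K, ∃ a s : A, s ≠ 0 ∧ k * ιA s = ιA a) :
    Function.Surjective (algebraMap A B) := by
  intro b
  obtain ⟨a, s, hs, h⟩ := hfrac (ιB b)
  have h1 : b * algebraMap A B s = algebraMap A B a :=
    hιB (by rw [map_mul, hcomm, hcomm, h])
  have hinj : Function.Injective (algebraMap A B) := by
    rw [RingHom.injective_iff_ker_eq_bot]
    have := Ideal.comap_map_eq_self_of_faithfullyFlat (A := A) (B := B) ⊥
    rwa [Ideal.map_bot] at this
  have h2 : a ∈ ((Ideal.span {s}).map (algebraMap A B)).comap (algebraMap A B) := by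
    rw [Ideal.mem_comap, Ideal.map_span, Set.image_singleton, Ideal.mem_span_singleton']
    exact ⟨b, h1⟩
  rw [Ideal.comap_map_eq_self_of_faithfullyFlat, Ideal.mem_span_singleton'] at h2
  obtain ⟨a', rfl⟩ := h2
  refine ⟨a', ?_⟩
  have hs' : algebraMap A B s ≠ 0 := fun h0 => hs (hinj (by rw [h0, map_zero]))
  apply mul_right_cancel₀ hs'
  rw [h1, map_mul]


theorem map_genericPoint {X' X : Scheme.{u}} [IsIntegral X'] [IsIntegral X] (f : X' ⟶ X)
    [IsDominant f] : f (genericPoint X') = genericPoint X := by
  apply ((genericPoint_spec X).eq _).symm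
  have := (genericPoint_spec X').image f.continuous
  rwa [Set.image_univ, f.denseRange.closure_eq] at this

theorem exists_fraction {X : Scheme.{u}} [IsIntegral X] (y z : X) (hy : y = genericPoint X)
    (h : y ⤳ z) (k : X.presheaf.stalk y) :
    ∃ a s : X.presheaf.stalk z, s ≠ 0 ∧
      k * (X.presheaf.stalkSpecializes h).hom s = (X.presheaf.stalkSpecializes h).hom a := by
  subst hy
  obtain ⟨⟨a, s⟩, hs⟩ := IsLocalization.surj (nonZeroDivisors (X.presheaf.stalk z))
    (S := X.functionField) k
  exact ⟨a, s.1, nonZeroDivisors.ne_zero s.2, hs⟩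

theorem bijective_stalkMap {X' X : Scheme.{u}} [IsIntegral X'] [IsIntegral X] (f : X' ⟶ X)
    [Flat f] [Surjective f] (hK : IsIso (f.stalkMap (genericPoint X'))) (x' : X') :
    Function.Bijective (f.stalkMap x').hom := by
  algebraize [(f.stalkMap x').hom]
  have hflat : Module.Flat (X.presheaf.stalk (f x')) (X'.presheaf.stalk x') :=
    (RingHom.flat_algebraMap_iff).mp (Flat.stalkMap f x')
  have hloc : IsLocalHom (algebraMap (X.presheaf.stalk (f x')) (X'.presheaf.stalk x')) :=
    inferInstanceAs (IsLocalHom (f.stalkMap x').hom)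
  have hff : Module.FaithfullyFlat (X.presheaf.stalk (f x')) (X'.presheaf.stalk x') :=
    Module.FaithfullyFlat.of_flat_of_isLocalHom
  have hsp : genericPoint X' ⤳ x' := genericPoint_specializes x'
  refine ⟨?_, ?_⟩
  · change Function.Injective (algebraMap (X.presheaf.stalk (f x')) (X'.presheaf.stalk x'))
    rw [RingHom.injective_iff_ker_eq_bot]
    have := Ideal.comap_map_eq_self_of_faithfullyFlat (A := X.presheaf.stalk (f x'))
      (B := X'.presheaf.stalk x') ⊥
    rwa [Ideal.map_bot] at this
  · change Function.Surjective (algebraMap (X.presheaf.stalk (f x')) (X'.presheaf.stalk x'))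
    have hη : f (genericPoint X') = genericPoint X := map_genericPoint f
    refine surjective_algebraMap_of_fraction
      (K := X'.presheaf.stalk (genericPoint X'))
      ((X'.presheaf.stalkSpecializes hsp).hom.comp (f.stalkMap x').hom)
      (X'.presheaf.stalkSpecializes hsp).hom (fun a => rfl) ?_ ?_
    · exact IsFractionRing.injective (X'.presheaf.stalk x') X'.functionField
    · intro k
      have hsurj : Function.Surjective (f.stalkMap (genericPoint X')).hom :=
        (ConcreteCategory.bijective_of_isIso (f.stalkMap (genericPoint X'))).2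
      obtain ⟨k0, rfl⟩ := hsurj k
      obtain ⟨a, s, hs, h⟩ := exists_fraction (f (genericPoint X')) (f x') hη
        (f.base.hom.map_specializes hsp) k0
      refine ⟨a, s, hs, ?_⟩
      have hnat := fun y => (Scheme.Hom.stalkSpecializes_stalkMap_apply f _ _ hsp y).symm
      simp only [RingHom.comp_apply]
      erw [hnat s, hnat a]
      rw [← h, map_mul]


theorem isDominant_SpecMap_of_injective {R S : CommRingCat.{u}} (g : R ⟶ S)
    (hg : Function.Injective g.hom) : IsDominant (Spec.map g) := by
  constructor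
  change DenseRange (PrimeSpectrum.comap g.hom)
  rw [PrimeSpectrum.denseRange_comap_iff_ker_le_nilRadical,
    (RingHom.injective_iff_ker_eq_bot _).mp hg]
  exact bot_le

open CategoryTheory.Limits in
theorem injective_of_bijective_stalkMap {X' X : Scheme.{u}} [IsIntegral X'] [IsIntegral X]
    (f : X' ⟶ X) [IsSeparated f]
    (hbij : ∀ x', Function.Bijective (f.stalkMap x').hom) : Function.Injective f := by
  intro x₁ x₂ h12
  have hiso : ∀ x', IsIso (f.stalkMap x') := fun x' =>
    (ConcreteCategory.isIso_iff_bijective _).mpr (hbij x')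
  have hsp₁ : genericPoint X' ⤳ x₁ := genericPoint_specializes x₁
  have hsp₂ : genericPoint X' ⤳ x₂ := genericPoint_specializes x₂
  have h21 : f x₂ ⤳ f x₁ := specializes_of_eq h12.symm
  have h12' : f x₁ ⤳ f x₂ := specializes_of_eq h12
  -- the two isomorphisms from the stalk at `f x₁`
  let φ₁ : X.presheaf.stalk (f x₁) ⟶ X'.presheaf.stalk x₁ := f.stalkMap x₁
  let φ₂ : X.presheaf.stalk (f x₁) ⟶ X'.presheaf.stalk x₂ :=
    X.presheaf.stalkSpecializes h21 ≫ f.stalkMap x₂
  have : IsIso (X.presheaf.stalkSpecializes h21) :=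
    ⟨X.presheaf.stalkSpecializes h12', by simp, by simp⟩
  have : IsIso φ₁ := hiso x₁
  have : IsIso φ₂ := by dsimp only [φ₂]; infer_instance
  let h₁ : Spec (X.presheaf.stalk (f x₁)) ⟶ X' := Spec.map (inv φ₁) ≫ X'.fromSpecStalk x₁
  let h₂ : Spec (X.presheaf.stalk (f x₁)) ⟶ X' := Spec.map (inv φ₂) ≫ X'.fromSpecStalk x₂
  have hf₁ : h₁ ≫ f = X.fromSpecStalk (f x₁) := by
    dsimp only [h₁, φ₁]
    rw [Category.assoc, ← Scheme.SpecMap_stalkMap_fromSpecStalk, ← Spec.map_comp_assoc,
      IsIso.hom_inv_id, Spec.map_id, Category.id_comp]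
  have hf₂ : h₂ ≫ f = X.fromSpecStalk (f x₁) := by
    dsimp only [h₂]
    rw [Category.assoc, ← Scheme.SpecMap_stalkMap_fromSpecStalk,
      ← Scheme.SpecMap_stalkSpecializes_fromSpecStalk h21, ← Spec.map_comp_assoc,
      ← Spec.map_comp_assoc]
    have : X.presheaf.stalkSpecializes h21 ≫ f.stalkMap x₂ ≫ inv φ₂ = 𝟙 _ := by
      rw [← Category.assoc]; exact IsIso.hom_inv_id φ₂
    rw [this, Spec.map_id, Category.id_comp]
  -- the generic point
  let ι : Spec (X'.presheaf.stalk (genericPoint X')) ⟶ Spec (X.presheaf.stalk (f x₁)) :=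
    Spec.map (φ₁ ≫ X'.presheaf.stalkSpecializes hsp₁)
  have hφ : φ₁ ≫ X'.presheaf.stalkSpecializes hsp₁ = φ₂ ≫ X'.presheaf.stalkSpecializes hsp₂ := by
    dsimp only [φ₁, φ₂]
    rw [Category.assoc, ← Scheme.Hom.stalkSpecializes_stalkMap f _ _ hsp₁,
      ← Scheme.Hom.stalkSpecializes_stalkMap f _ _ hsp₂, ← Category.assoc,
      TopCat.Presheaf.stalkSpecializes_comp]
  have hι₁ : ι ≫ h₁ = X'.fromSpecStalk (genericPoint X') := by
    dsimp only [ι, h₁]
    rw [← Spec.map_comp_assoc, IsIso.inv_hom_id_assoc,
      Scheme.SpecMap_stalkSpecializes_fromSpecStalk]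
  have hι₂ : ι ≫ h₂ = X'.fromSpecStalk (genericPoint X') := by
    dsimp only [ι, h₂]
    rw [hφ, ← Spec.map_comp_assoc, IsIso.inv_hom_id_assoc,
      Scheme.SpecMap_stalkSpecializes_fromSpecStalk]
  have hdom : IsDominant ι := by
    apply isDominant_SpecMap_of_injective
    rw [CommRingCat.hom_comp, RingHom.coe_comp]
    exact (IsFractionRing.injective (X'.presheaf.stalk x₁) X'.functionField).comp (hbij x₁).1
  have heq : h₁ = h₂ :=
    ext_of_isDominant_of_isSeparated f (hf₁.trans hf₂.symm) ι (hι₁.trans hι₂.symm)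
  have hc₁ : h₁ (IsLocalRing.closedPoint _) = x₁ := by
    change X'.fromSpecStalk x₁ (Spec.map (inv φ₁) (IsLocalRing.closedPoint _)) = x₁
    have : IsLocalHom (inv φ₁).hom := isLocalHom_of_isIso _
    rw [Spec_closedPoint, Scheme.fromSpecStalk_closedPoint]
  have hc₂ : h₂ (IsLocalRing.closedPoint _) = x₂ := by
    change X'.fromSpecStalk x₂ (Spec.map (inv φ₂) (IsLocalRing.closedPoint _)) = x₂
    have : IsLocalHom (inv φ₂).hom := isLocalHom_of_isIso _
    rw [Spec_closedPoint, Scheme.fromSpecStalk_closedPoint]
  rw [← hc₁, ← hc₂, heq]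

/-- Take integral schemes X' and X and a separated surjective morphism f : X' → X which is birational in
the sense that the induced map of function fields (the stalk map of f at the generic point of X') is
an isomorphism, and suppose f is affine (e.g. a normalization) or locally of finite presentation
(e.g. a blow-up of a Noetherian integral scheme). Then f is flat exactly when it is an isomorphism. -/
theorem result {X' X : Scheme.{u}} [IsIntegral X'] [IsIntegral X]
    (f : X' ⟶ X) [Surjective f] [IsSeparated f] (hK : IsIso (f.stalkMap (genericPoint X')))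
    (h : IsAffineHom f ∨ LocallyOfFinitePresentation f) :
    Flat f ↔ IsIso f := by
  refine ⟨fun hflat => ?_, fun hiso => inferInstance⟩
  have hbij := fun x' => bijective_stalkMap f hK x'
  have hinj : Function.Injective f := injective_of_bijective_stalkMap f hbij
  have hiso : ∀ x', IsIso (f.stalkMap x') := fun x' =>
    (ConcreteCategory.isIso_iff_bijective _).mpr (hbij x')
  have hopen : IsOpenMap f := by
    rcases h with h | h
    · have hq : Topology.IsQuotientMap f := Flat.isQuotientMap_of_surjective f
      have hhomeo : IsHomeomorph f := isHomeomorph_iff_isQuotientMap_injective.mpr ⟨hq, hinj⟩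
      exact hhomeo.isOpenMap
    · exact f.isOpenMap
  have hemb : Topology.IsOpenEmbedding f :=
    Topology.IsOpenEmbedding.of_continuous_injective_isOpenMap f.continuous hinj hopen
  have : IsOpenImmersion f := IsOpenImmersion.of_isIso_stalkMap f hemb
  have : Epi f.base := (TopCat.epi_iff_surjective _).mpr f.surjective
  exact IsOpenImmersion.isIso f

end Groth.Agent.S10879
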