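import Groth.Statements.S10880
import Mathlib
import Groth.Agent.Lib.Helper70.DVRFlatB
import Groth.Agent.Lib.Helper70.DVRFlatC

set_option autoImplicit false
universe u
open CategoryTheory AlgebraicGeometry
open FlatMor

namespace Groth.Agent.S10880

/-- Let R be a discrete valuation ring and X a locally Noetherian scheme over Spec R whose
scheme-theoretic special fibre is reduced and such that every maximal point of the special fibre
lies in the closure of the generic fibre, i.e. the generic fibre is dense in X. Then X is flat over
R. -/
theorem result (R : Type u) [CommRing R] [IsDomain R]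
    [IsDiscreteValuationRing R] {X : Scheme.{u}} (f : X ⟶ Spec (CommRingCat.of R)) [IsLocallyNoetherian X]
    (hred : IsReduced (f.fiber (IsLocalRing.closedPoint R)))
    (hdense : Dense (f.base ⁻¹' {genericPoint (Spec (CommRingCat.of R))})) : Flat f := by
  obtain ⟨ϖ, hϖ⟩ := IsDiscreteValuationRing.exists_irreducible R
  rw [Groth.Agent.Lib.Helper70.DVRFlatC.preimage_genericPoint_eq_basicOpen f hϖ] at hdense
  exact Groth.Agent.Lib.Helper70.DVRFlatB.flat_of_dense f hred hϖ hdense

end Groth.Agent.S10880
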