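import Groth.Statements.S10885
-- import your own Groth.Agent.* helpers here
import Groth.Agent.Lib.Helper55.FiberTrdeg
import Groth.Agent.Lib.Helper55.DimSup

set_option autoImplicit false
universe u
open CategoryTheory AlgebraicGeometry
open Variety

namespace Groth.Agent.S10885

open Groth.Agent.Lib.Helper55

/-- Let Y be a scheme of finite type over a field k, r ≥ 0, and f : X → Y a morphism of finite type
whose fibre over every maximal point of Y has dimension at least r. Then dim X ≥ r + dim Y. -/
theorem result (k : Type u) [Field k] {X Y : Scheme.{u}}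
    (q : Y ⟶ Spec (CommRingCat.of k)) [LocallyOfFiniteType q] [QuasiCompact q]
    (f : X ⟶ Y) [LocallyOfFiniteType f] [QuasiCompact f] (r : ℕ)
    (hfib : ∀ η : Y, (∀ y : Y, y ⤳ η → y = η) → (r : WithBot ℕ∞) ≤ topologicalKrullDim (f.base ⁻¹' {η})) :
    (r : WithBot ℕ∞) + topologicalKrullDim Y ≤ topologicalKrullDim X := by
  rw [topologicalKrullDim_eq_iSup_closure (X := ↥Y)]
  have hconst : (r : WithBot ℕ∞) = ⨆ _ : Unit, (r : WithBot ℕ∞) := (iSup_const).symm
  rw [hconst]
  refine iSup_add_iSup_le_withBot _ _ _ ?_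
  rintro ⟨⟩ y
  -- a maximal point `η` generizing `y`
  obtain ⟨η, -, hηy, hηmax⟩ :=
    exists_maximal_point_specializes (Set.univ : Set Y) isClosed_univ y trivial
  have hηmax' : ∀ y' : Y, y' ⤳ η → y' = η := fun y' hy' =>
    (hy'.antisymm (hηmax y' trivial hy')).eq
  have hyη : topologicalKrullDim ↥(closure ({y} : Set Y)) ≤
      topologicalKrullDim ↥(closure ({η} : Set Y)) :=
    topologicalKrullDim_mono_set (specializes_iff_closure_subset.mp hηy)
  refine le_trans (add_le_add_right hyη _) ?_
  -- the fibre over `η`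
  have hr := hfib η hηmax'
  rw [← IsHomeomorph.topologicalKrullDim_eq _ (f.fiberHomeo η).isHomeomorph] at hr
  have hlft : LocallyOfFiniteType (f.fiberToSpecResidueField η) :=
    MorphismProperty.pullback_snd (P := @LocallyOfFiniteType) _ _ ‹_›
  rw [topologicalKrullDim_eq_iSup_closure (X := ↥(f.fiber η))] at hr
  obtain ⟨z, hz⟩ := exists_le_of_le_iSup_natCast _ (fun z => by
    obtain ⟨n, hn, -⟩ := exists_dim_closure_fiber_eq_trdeg f η z _ rfl
    exact ⟨n, hn⟩) r hr
  obtain ⟨a, b, ha, hb, hab⟩ := exists_dim_closure_eq_add' q f η z _ rfl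
  have hfx : f (f.fiberι η z) = η := by
    have : f.fiberι η z ∈ Set.range (f.fiberι η) := ⟨z, rfl⟩
    rw [f.range_fiberι η] at this
    exact this
  rw [hfx] at ha
  rw [ha]
  rw [hb] at hz
  have hrb : r ≤ b := by exact_mod_cast hz
  refine le_trans ?_ (topologicalKrullDim_subspace_le ↥X (closure ({f.fiberι η z} : Set X)))
  rw [hab]
  have : r + a ≤ a + b := by omega
  exact_mod_cast this

end Groth.Agent.S10885
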