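import Groth.Statements.S10884
-- import your own Groth.Agent.* helpers here
import Groth.Agent.Lib.Helper55.FiberTrdeg
import Groth.Agent.Lib.Helper55.DimSup
import Groth.Agent.S10885

set_option autoImplicit false
universe u
open CategoryTheory AlgebraicGeometry
open Variety

namespace Groth.Agent.S10884

open Groth.Agent.Lib.Helper55

/-- A continuous map with dense range from a Noetherian quasi-sober space hits every maximal point
of the target. -/
theorem exists_preimage_of_maximal {A B : Type*} [TopologicalSpace A] [TopologicalSpace B]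
    [TopologicalSpace.NoetherianSpace A] [QuasiSober A] [T0Space B] (g : A → B)
    (hg : Continuous g) (hd : DenseRange g) (η : B) (hη : ∀ y : B, y ⤳ η → y = η) :
    ∃ a : A, g a = η := by
  have hfin : (irreducibleComponents A).Finite :=
    TopologicalSpace.NoetherianSpace.finite_irreducibleComponents
  have hclosed : IsClosed (⋃ Z ∈ irreducibleComponents A, closure (g '' Z)) :=
    hfin.isClosed_biUnion fun Z _ => isClosed_closure
  have hsub : Set.range g ⊆ ⋃ Z ∈ irreducibleComponents A, closure (g '' Z) := by
    rintro _ ⟨a, rfl⟩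
    obtain ⟨Z, hZ, haZ⟩ := exists_mem_irreducibleComponents_subset_of_isIrreducible
      ({a} : Set A) isIrreducible_singleton
    exact Set.mem_biUnion hZ (subset_closure ⟨a, haZ rfl, rfl⟩)
  have huniv : (⋃ Z ∈ irreducibleComponents A, closure (g '' Z)) = Set.univ := by
    apply Set.eq_univ_of_univ_subset
    rw [← hd.closure_range]
    exact closure_minimal hsub hclosed
  have hηmem : η ∈ ⋃ Z ∈ irreducibleComponents A, closure (g '' Z) := by
    rw [huniv]; trivial
  obtain ⟨Z, hZ, hηZ⟩ := Set.mem_iUnion₂.mp hηmem
  obtain ⟨ξ, hξ⟩ := QuasiSober.sober hZ.1 (isClosed_of_mem_irreducibleComponents Z hZ)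
  refine ⟨ξ, hη _ ?_⟩
  rw [specializes_iff_mem_closure]
  have h1 : g '' Z ⊆ closure {g ξ} := by
    rw [← hξ.def]
    refine (image_closure_subset_closure_image hg).trans ?_
    rw [Set.image_singleton]
  exact closure_minimal h1 isClosed_closure hηZ

/-- Let Y be a scheme of finite type over a field k and f : X → Y a dominant morphism of finite type all
of whose non-empty fibres have dimension r. Then dim X = r + dim Y. -/
theorem result (k : Type u) [Field k] {X Y : Scheme.{u}}
    (q : Y ⟶ Spec (CommRingCat.of k)) [LocallyOfFiniteType q] [QuasiCompact q]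
    (f : X ⟶ Y) [LocallyOfFiniteType f] [QuasiCompact f] (hdom : DenseRange f.base) (r : ℕ)
    (hfib : ∀ y : Y, (f.base ⁻¹' {y}).Nonempty → topologicalKrullDim (f.base ⁻¹' {y}) = r) :
    topologicalKrullDim X = (r : WithBot ℕ∞) + topologicalKrullDim Y := by
  apply le_antisymm
  · rw [topologicalKrullDim_eq_iSup_closure (X := ↥X)]
    refine iSup_le fun x => ?_
    obtain ⟨a, b, ha, hb, hab⟩ := exists_dim_closure_eq_add q f x
    rw [hab]
    have h1 : (a : WithBot ℕ∞) ≤ topologicalKrullDim Y :=
      ha ▸ topologicalKrullDim_subspace_le _ _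
    have h2 : (b : WithBot ℕ∞) ≤ r := by
      rw [← hb, ← hfib (f x) ⟨x, rfl⟩,
        ← IsHomeomorph.topologicalKrullDim_eq _ (f.fiberHomeo (f x)).isHomeomorph]
      exact topologicalKrullDim_subspace_le _ _
    have h3 : ((a + b : ℕ) : WithBot ℕ∞) = (b : WithBot ℕ∞) + (a : WithBot ℕ∞) := by
      rw [add_comm a b]; push_cast; rfl
    rw [h3]
    exact add_le_add h2 h1
  · refine Groth.Agent.S10885.result k q f r ?_
    intro η hη
    have hlfq : LocallyOfFiniteType (f ≫ q) := inferInstance
    have hqc : QuasiCompact (f ≫ q) := inferInstance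
    have hloc : IsLocallyNoetherian X := LocallyOfFiniteType.isLocallyNoetherian (f ≫ q)
    have hcpt : CompactSpace X := QuasiCompact.compactSpace_of_compactSpace (f ≫ q)
    have hnoeth : IsNoetherian X := { }
    obtain ⟨a, ha⟩ := exists_preimage_of_maximal f.base f.continuous hdom η hη
    exact (hfib η ⟨a, ha⟩).ge

end Groth.Agent.S10884
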