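import Groth.Statements.S10886
import Mathlib.Order.KrullDimension

set_option autoImplicit false
universe u
open CategoryTheory AlgebraicGeometry
open Curves

namespace Groth.Agent.S10886
open TopologicalSpace

/-- In a quasi-sober T0 space of Krull dimension ≤ 1, a proper irreducible closed subset is a
singleton. -/
theorem subsingleton_of_irreducible_closed {T : Type*} [TopologicalSpace T] [QuasiSober T]
    [T0Space T] [IrreducibleSpace T] (hdim : topologicalKrullDim T ≤ 1) (Z : Set T)
    (hZi : IsIrreducible Z) (hZc : IsClosed Z) (hZ : Z ≠ Set.univ) : Z.Subsingleton := by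
  obtain ⟨z, hz⟩ := QuasiSober.sober hZi hZc
  have key : ∀ y ∈ Z, y = z := by
    intro y hy
    by_contra hne
    let a0 : IrreducibleCloseds T := ⟨closure {y}, isIrreducible_singleton.closure, isClosed_closure⟩
    let a1 : IrreducibleCloseds T := ⟨Z, hZi, hZc⟩
    let a2 : IrreducibleCloseds T := ⟨Set.univ, IrreducibleSpace.isIrreducible_univ T, isClosed_univ⟩
    have h01 : a0 < a1 := by
      refine lt_of_le_of_ne ?_ ?_
      · change closure {y} ⊆ Z
        exact hZc.closure_subset_iff.mpr (Set.singleton_subset_iff.mpr hy)
      · intro h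
        have h' : closure {y} = Z := congrArg (fun a : IrreducibleCloseds T => (a : Set T)) h
        have hzy : z ∈ closure {y} := by rw [h']; rw [← hz.def]; exact subset_closure rfl
        have hyz : y ∈ closure {z} := by rw [hz.def]; exact hy
        have s1 : y ⤳ z := specializes_iff_mem_closure.mpr hzy
        have s2 : z ⤳ y := specializes_iff_mem_closure.mpr hyz
        exact hne (s1.antisymm s2).eq
    have h12 : a1 < a2 := by
      refine lt_of_le_of_ne ?_ ?_
      · change Z ⊆ Set.univ
        exact Set.subset_univ _
      · intro h
        exact hZ (congrArg (fun a : IrreducibleCloseds T => (a : Set T)) h)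
    let p : LTSeries (IrreducibleCloseds T) := LTSeries.mk 2 ![a0, a1, a2] (by
      rw [Fin.strictMono_iff_lt_succ]
      intro i
      fin_cases i
      · exact h01
      · exact h12)
    have hp : p.length = 2 := rfl
    have := Order.LTSeries.length_le_krullDim p
    rw [hp] at this
    have h2 : ((2 : ℕ) : WithBot ℕ∞) ≤ 1 := this.trans hdim
    exact absurd h2 (by decide)
  intro a ha b hb
  rw [key a ha, key b hb]

/-- In an irreducible Noetherian scheme of dimension one every constructible subset is either a finite
set of closed points or the complement of such a set; in particular it is open or closed. -/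
theorem result {X : Scheme.{u}} [IsNoetherian X]
    [IrreducibleSpace X] (hX : topologicalKrullDim X = 1) (s : Set X) (hs : Topology.IsConstructible s) :
    (s.Finite ∧ (∀ x ∈ s, IsClosed ({x} : Set X))) ∨ (sᶜ.Finite ∧ ∀ x ∈ sᶜ, IsClosed ({x} : Set X)) := by
  have hN : NoetherianSpace X := inferInstance
  -- closed proper subsets are finite sets of closed points
  have hclosed : ∀ Z : Set X, IsClosed Z → Z ≠ Set.univ →
      Z.Finite ∧ ∀ x ∈ Z, IsClosed ({x} : Set X) := by
    intro Z hZc hZ
    obtain ⟨S, hSf, hSc, hSi, rfl⟩ := NoetherianSpace.exists_finite_set_isClosed_irreducible hZc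
    have hsub : ∀ t ∈ S, t.Subsingleton := by
      intro t ht
      refine subsingleton_of_irreducible_closed hX.le t (hSi t ht) (hSc t ht) ?_
      intro h
      apply hZ
      rw [Set.eq_univ_iff_forall]
      intro x
      exact ⟨t, ht, h ▸ trivial⟩
    refine ⟨hSf.sUnion fun t ht => (hsub t ht).finite, ?_⟩
    rintro x ⟨t, ht, hxt⟩
    have : t = {x} := by
      ext y
      constructor
      · intro hy; exact hsub t ht hy hxt
      · rintro rfl; exact hxt
    rw [← this]
    exact hSc t ht
  induction hs using BooleanSubalgebra.closure_bot_sup_induction with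
  | mem U hU =>
    by_cases h : Uᶜ = Set.univ
    · have hUe : U = ∅ := Set.compl_univ_iff.mp h
      left
      rw [hUe]
      exact ⟨Set.finite_empty, by simp⟩
    · right
      exact hclosed Uᶜ hU.1.isClosed_compl h
  | bot => left; exact ⟨Set.finite_empty, by simp⟩
  | sup a ha b hb iha ihb =>
    change (a ∪ b).Finite ∧ _ ∨ (a ∪ b)ᶜ.Finite ∧ _
    rcases iha with ⟨ha1, ha2⟩ | ⟨ha1, ha2⟩
    · rcases ihb with ⟨hb1, hb2⟩ | ⟨hb1, hb2⟩
      · left
        refine ⟨ha1.union hb1, ?_⟩
        rintro x (hx | hx)
        · exact ha2 x hx
        · exact hb2 x hx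
      · right
        refine ⟨hb1.subset (Set.compl_subset_compl.mpr Set.subset_union_right), ?_⟩
        intro x hx
        exact hb2 x (fun hxb => hx (Or.inr hxb))
    · right
      refine ⟨ha1.subset (Set.compl_subset_compl.mpr Set.subset_union_left), ?_⟩
      intro x hx
      exact ha2 x (fun hxa => hx (Or.inl hxa))
  | compl a ha ih =>
    rcases ih with h | h
    · right
      rw [compl_compl]
      exact h
    · left
      exact h

end Groth.Agent.S10886
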