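import Groth.Statements.S10888
import Mathlib
import Groth.Agent.Lib.Helper78.FibreIso

set_option autoImplicit false
universe u
open CategoryTheory AlgebraicGeometry
open FlatMor

namespace Groth.Agent.S10888

/-- Let g : X → S and h : Y → S be proper and of finite presentation with g flat, and f : X → Y a
morphism over S. Then the locus U of points of S over which the fibre morphism X_s → Y_s is an
isomorphism is an open subset of S, and f restricts to an isomorphism over U. -/
theorem result {X Y S : Scheme.{u}} (g : X ⟶ S) (h : Y ⟶ S)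
    [IsProper g] [LocallyOfFinitePresentation g] [Flat g] [IsProper h] [LocallyOfFinitePresentation h]
    (f : X ⟶ Y) (w : f ≫ h = g) :
    ∃ U : S.Opens, (∀ s : S, s ∈ U ↔ ∃ e : g.fiber s ≅ h.fiber s, e.hom ≫ h.fiberι s = g.fiberι s ≫ f) ∧
      IsIso (f ∣_ (h ⁻¹ᵁ U)) := by
  classical
  subst w
  have hkey : ∀ s : S, IsIso (CohIII.fiberMapOver f (f ≫ h) h rfl s) →
      ∃ U' : S.Opens, s ∈ U' ∧ IsIso (f ∣_ (h ⁻¹ᵁ U')) := fun s hs =>
    Groth.Agent.Lib.Helper78.FibreIso.exists_isIso_of_isIso_fiberMapOver f h s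
  let T : Set S := {s | IsIso (CohIII.fiberMapOver f (f ≫ h) h rfl s)}
  have hT : IsOpen T := by
    rw [isOpen_iff_forall_mem_open]
    intro s hs
    obtain ⟨U', hsU', hU'⟩ := hkey s hs
    refine ⟨U', fun s' hs' => ?_, U'.isOpen, hsU'⟩
    exact Groth.Agent.Lib.Helper78.FibreIso.isIso_fiberMapOver_of_isIso_restrict f (f ≫ h) h rfl U'
      s' hs'
  let U : S.Opens := ⟨T, hT⟩
  refine ⟨U, fun s => ?_, ?_⟩
  · constructor
    · intro hs
      have hs' : IsIso (CohIII.fiberMapOver f (f ≫ h) h rfl s) := hs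
      exact ⟨asIso (CohIII.fiberMapOver f (f ≫ h) h rfl s),
        Groth.Agent.Lib.Helper24.fiberMapOver_fiberι f (f ≫ h) h rfl s⟩
    · rintro ⟨e, he⟩
      have h1 : e.hom = CohIII.fiberMapOver f (f ≫ h) h rfl s := by
        rw [← cancel_mono (h.fiberι s), he,
          Groth.Agent.Lib.Helper24.fiberMapOver_fiberι f (f ≫ h) h rfl s]
      change IsIso (CohIII.fiberMapOver f (f ≫ h) h rfl s)
      rw [← h1]
      infer_instance
  · refine Groth.Agent.Lib.Helper69.restrict_of_forall_exists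
      (P := MorphismProperty.isomorphisms Scheme.{u}) f (h ⁻¹ᵁ U) ?_
    intro y hy
    obtain ⟨U', hsU', hU'⟩ := hkey (h.base y) hy
    exact ⟨h ⁻¹ᵁ U', hsU', hU'⟩

end Groth.Agent.S10888
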