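import Groth.Statements.S10889
-- import your own Groth.Agent.* helpers here
import Groth.Agent.Lib.Helper23.FlatFibreDim
import Groth.Agent.Lib.Helper13.Chevalley

set_option autoImplicit false
universe u
open CategoryTheory AlgebraicGeometry
open FlatMor

namespace Groth.Agent.S10889

/-- Let f : X → Y be proper, flat and of finite presentation, and let V be the set of points of Y whose
fibre is (non-empty and) zero-dimensional. Then V is a clopen subset of Y, and over every open
subset of V the restriction of f is finite, hence finite locally free. -/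
theorem result {X Y : Scheme.{u}} (f : X ⟶ Y) [IsProper f] [Flat f]
    [LocallyOfFinitePresentation f] :
    IsClopen {y : Y | topologicalKrullDim (f.base ⁻¹' {y}) = 0} ∧
      ∀ U : Y.Opens, (U : Set Y) ⊆ {y : Y | topologicalKrullDim (f.base ⁻¹' {y}) = 0} → IsFinite (f ∣_ U) := by
  have hqc : QuasiCompact f := inferInstance
  have hlft : LocallyOfFiniteType f := inferInstance
  -- compare with the scheme-theoretic fibre
  have hdim : ∀ y : Y, topologicalKrullDim (f.base ⁻¹' {y}) = topologicalKrullDim (f.fiber y) :=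
    fun y => (IsHomeomorph.topologicalKrullDim_eq _ (f.fiberHomeo y).isHomeomorph).symm
  have hVeq : {y : Y | topologicalKrullDim (f.base ⁻¹' {y}) = 0} =
      {y : Y | topologicalKrullDim (f.fiber y) = 0} := by
    ext y
    simp only [Set.mem_ofPred_eq, hdim]
  rw [hVeq]
  -- lower semicontinuity on the base
  have hE : ∀ c : WithBot ℕ∞, IsOpen {s : Y | c < topologicalKrullDim (f.fiber s)} :=
    fun c => Groth.Agent.Lib.Helper23.FlatFibreDim.isOpen_lt_fibre_dim f c
  have hEeq := Groth.Agent.Lib.Helper23.FlatFibreDim.image_lt_fibreDimAt_eq f (0 : WithBot ℕ∞)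
  -- upper semicontinuity via properness
  have hC : IsClosed {s : Y | (0 : WithBot ℕ∞) < topologicalKrullDim (f.fiber s)} := by
    rw [← hEeq]
    refine f.isClosedMap _ ?_
    have h1 : IsOpen {x : X | FlatMor.fibreDimAt f x ≤ (0 : ℕ)} :=
      Groth.Agent.Lib.Helper13.Chevalley.isOpen_fibreDimAt_le f 0
    have : {x : X | (0 : WithBot ℕ∞) < FlatMor.fibreDimAt f x} =
        {x : X | FlatMor.fibreDimAt f x ≤ (0 : ℕ)}ᶜ := by
      ext x
      simp only [Set.mem_ofPred_eq, Set.mem_compl_iff, not_le]
      rfl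
    rw [this]
    exact h1.isClosed_compl
  have hVsplit : {y : Y | topologicalKrullDim (f.fiber y) = 0} =
      {s : Y | (⊥ : WithBot ℕ∞) < topologicalKrullDim (f.fiber s)} ∩
        {s : Y | (0 : WithBot ℕ∞) < topologicalKrullDim (f.fiber s)}ᶜ := by
    ext y
    simp only [Set.mem_ofPred_eq, Set.mem_inter_iff, Set.mem_compl_iff, not_lt]
    constructor
    · intro h
      rw [h]
      exact ⟨WithBot.bot_lt_coe _, le_rfl⟩
    · rintro ⟨h1, h2⟩
      refine le_antisymm h2 ?_
      generalize topologicalKrullDim (f.fiber y) = d at h1 ⊢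
      induction d using WithBot.recBotCoe with
      | bot => exact absurd h1 (lt_irrefl _)
      | coe a => exact WithBot.coe_le_coe.mpr (zero_le)
  have hBotClosed : IsClosed {s : Y | (⊥ : WithBot ℕ∞) < topologicalKrullDim (f.fiber s)} := by
    rw [← Groth.Agent.Lib.Helper23.FlatFibreDim.image_lt_fibreDimAt_eq f (⊥ : WithBot ℕ∞)]
    refine f.isClosedMap _ ?_
    have : {x : X | (⊥ : WithBot ℕ∞) < FlatMor.fibreDimAt f x} = Set.univ := by
      ext x
      simp only [Set.mem_ofPred_eq, Set.mem_univ, iff_true]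
      exact lt_of_lt_of_le (WithBot.bot_lt_coe (0 : ℕ∞))
        (Groth.Agent.Lib.Helper23.FlatFibreDim.fibreDimAt_nonneg f x)
    rw [this]
    exact isClosed_univ
  refine ⟨⟨?_, ?_⟩, ?_⟩
  · rw [hVsplit]
    exact hBotClosed.inter (hE 0).isClosed_compl
  · rw [hVsplit]
    exact (hE ⊥).inter hC.isOpen_compl
  · intro U hU
    have hprop : IsProper (f ∣_ U) := inferInstance
    -- quasi-finite at all points over `U`
    have hqf : ∀ x : X, f x ∈ U → f.QuasiFiniteAt x := by
      intro x hx
      rw [Groth.Agent.Lib.Helper13.Chevalley.quasiFiniteAt_iff_fibreDimAt_eq_zero]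
      refine le_antisymm (not_lt.mp fun hlt => ?_)
        (Groth.Agent.Lib.Helper23.FlatFibreDim.fibreDimAt_nonneg f x)
      have hmem : f x ∈ {s : Y | (0 : WithBot ℕ∞) < topologicalKrullDim (f.fiber s)} := by
        rw [← hEeq]
        exact ⟨x, hlt, rfl⟩
      have h0 : topologicalKrullDim (f.fiber (f x)) = 0 := by
        exact hU hx
      rw [Set.mem_ofPred_eq, h0] at hmem
      exact lt_irrefl _ hmem
    have hqf' : ∀ x' : ↥(f ⁻¹ᵁ U), (f ∣_ U).QuasiFiniteAt x' := by
      intro x'
      have h1 : ((f ⁻¹ᵁ U).ι ≫ f).QuasiFiniteAt x' ↔ f.QuasiFiniteAt ((f ⁻¹ᵁ U).ι x') :=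
        Scheme.Hom.quasiFiniteAt_comp_iff_of_isOpenImmersion
      rw [← morphismRestrict_ι f U] at h1
      have h2 := h1.mpr (hqf _ x'.2)
      exact Scheme.Hom.quasiFiniteAt_comp_iff.mp h2
    have hlqf : LocallyQuasiFinite (f ∣_ U) := by
      rw [← Scheme.Hom.quasiFiniteLocus_eq_top_iff]
      exact top_le_iff.mp fun x _ => hqf' x
    exact IsFinite.of_isProper_of_locallyQuasiFinite (f ∣_ U)

end Groth.Agent.S10889
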