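import Groth.Statements.S10891
import Mathlib.RingTheory.MvPolynomial.Basic
import Mathlib.RingTheory.RootsOfUnity.PrimitiveRoots

set_option autoImplicit false
universe u
open CAlg

namespace Groth.Agent.S10891

open MvPolynomial

section
variable {k : Type u} [Field k] (t0 t1 : k)

/-- the diagonal substitution -/
noncomputable def σ : MvPolynomial (Fin 2) k →ₐ[k] MvPolynomial (Fin 2) k :=
  MvPolynomial.aeval (fun i : Fin 2 => if i = 0 then MvPolynomial.C t0 * MvPolynomial.X 0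
        else MvPolynomial.C t1 * (MvPolynomial.X 1 : MvPolynomial (Fin 2) k))

theorem σ_X0 : σ t0 t1 (X 0) = C t0 * X 0 := by simp [σ]
theorem σ_X1 : σ t0 t1 (X 1) = C t1 * X 1 := by simp [σ]

theorem σ_mon (i j : ℕ) : σ t0 t1 (X 0 ^ i * X 1 ^ j) = C (t0 ^ i * t1 ^ j) * (X 0 ^ i * X 1 ^ j) := by
  rw [map_mul, map_pow, map_pow, σ_X0, σ_X1, mul_pow, mul_pow, C_mul, C_pow, C_pow]
  ring

theorem monomial_eq' (m : Fin 2 →₀ ℕ) (c : k) :
    monomial m c = C c * (X 0 ^ m 0 * X 1 ^ m 1) := by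
  rw [MvPolynomial.monomial_eq, Finsupp.prod_fintype _ _ (fun i => pow_zero _), Fin.prod_univ_two]

theorem σ_monomial (m : Fin 2 →₀ ℕ) (c : k) :
    σ t0 t1 (monomial m c) = monomial m (c * (t0 ^ m 0 * t1 ^ m 1)) := by
  have hC : σ t0 t1 (C c) = C c := by simp [σ]
  rw [monomial_eq', map_mul, σ_mon, monomial_eq', hC]
  simp only [C_mul]
  ring

theorem coeff_σ (p : MvPolynomial (Fin 2) k) (m : Fin 2 →₀ ℕ) :
    coeff m (σ t0 t1 p) = coeff m p * (t0 ^ m 0 * t1 ^ m 1) := by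
  induction p using MvPolynomial.induction_on' with
  | monomial n c =>
    rw [σ_monomial, coeff_monomial, coeff_monomial]
    split_ifs with h
    · subst h; rfl
    · rw [zero_mul]
  | add p q hp hq => rw [map_add, coeff_add, coeff_add, hp, hq, add_mul]

end

section
variable {k : Type u} [Field k] (r a : ℕ)

/-- the generating set -/
def gens : Set (MvPolynomial (Fin 2) k) :=
  {q : MvPolynomial (Fin 2) k | ∃ i j : ℕ, i ≤ r ∧ j ≤ r ∧ ¬ (i = r ∧ j = r) ∧
        r ∣ i + a * j ∧ q = MvPolynomial.X 0 ^ i * MvPolynomial.X 1 ^ j}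

theorem mon_mem (hr : 0 < r) : ∀ (N i j : ℕ), i + j = N → r ∣ i + a * j →
    (X 0 ^ i * X 1 ^ j : MvPolynomial (Fin 2) k) ∈ Algebra.adjoin k (gens (k := k) r a) := by
  intro N
  induction N using Nat.strong_induction_on with
  | _ N ih =>
    intro i j hij hdvd
    by_cases hi : r < i
    · -- split off X0^r
      have h1 : (X 0 ^ i * X 1 ^ j : MvPolynomial (Fin 2) k)
          = (X 0 ^ r * X 1 ^ 0) * (X 0 ^ (i - r) * X 1 ^ j) := by
        rw [pow_zero, mul_one, ← mul_assoc, ← pow_add, Nat.add_sub_cancel' hi.le]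
      rw [h1]
      refine Subalgebra.mul_mem _ (Algebra.subset_adjoin ⟨r, 0, le_rfl, Nat.zero_le _, ?_, ?_, rfl⟩)
        (ih (i - r + j) (by omega) (i - r) j rfl ?_)
      · rintro ⟨-, h⟩; omega
      · simp
      · have : i + a * j = r + (i - r + a * j) := by omega
        rw [this] at hdvd
        exact (Nat.dvd_add_right (dvd_refl r)).mp hdvd
    by_cases hj : r < j
    · have h1 : (X 0 ^ i * X 1 ^ j : MvPolynomial (Fin 2) k)
          = (X 0 ^ 0 * X 1 ^ r) * (X 0 ^ i * X 1 ^ (j - r)) := by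
        rw [pow_zero, one_mul, mul_left_comm, ← pow_add, Nat.add_sub_cancel' hj.le]
      rw [h1]
      refine Subalgebra.mul_mem _ (Algebra.subset_adjoin ⟨0, r, Nat.zero_le _, le_rfl, ?_, ?_, rfl⟩)
        (ih (i + (j - r)) (by omega) i (j - r) rfl ?_)
      · rintro ⟨h, -⟩; omega
      · simp
      · have : i + a * j = a * r + (i + a * (j - r)) := by
          have : a * j = a * r + a * (j - r) := by
            rw [← Nat.mul_add, Nat.add_sub_cancel' hj.le]
          omega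
        rw [this] at hdvd
        exact (Nat.dvd_add_right (Dvd.intro_left a rfl)).mp hdvd
    push Not at hi hj
    by_cases hrr : i = r ∧ j = r
    · rw [hrr.1, hrr.2]
      have h1 : (X 0 ^ r * X 1 ^ r : MvPolynomial (Fin 2) k)
          = (X 0 ^ r * X 1 ^ 0) * (X 0 ^ 0 * X 1 ^ r) := by
        rw [pow_zero, pow_zero, mul_one, one_mul]
      rw [h1]
      refine Subalgebra.mul_mem _ (Algebra.subset_adjoin ⟨r, 0, le_rfl, Nat.zero_le _, ?_, ?_, rfl⟩)
        (Algebra.subset_adjoin ⟨0, r, Nat.zero_le _, le_rfl, ?_, ?_, rfl⟩)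
      · rintro ⟨-, h⟩; omega
      · simp
      · rintro ⟨h, -⟩; omega
      · simp
    · exact Algebra.subset_adjoin ⟨i, j, hi, hj, hrr, hdvd, rfl⟩

end

/-- Let k be a field containing a primitive r-th root of unity ζ and 0 < a < r. The cyclic group of r-th
roots of unity acts on k[X, Y] through the generator X ↦ ζ⁻¹ X, Y ↦ ζ^(−a) Y, and the ring of
invariants of this action is generated as a k-algebra by the monomials X^i Y^j with 0 ≤ i, j ≤ r,
(i, j) ≠ (r, r) and i + a·j ≡ 0 (mod r). (The printed statement writes n for the order of the group,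
which the surrounding section calls r.) -/
theorem result (k : Type u) [Field k] (r a : ℕ) (ha : 0 < a) (har : a < r)
    (ζ : k) (hζ : IsPrimitiveRoot ζ r) (p : MvPolynomial (Fin 2) k) :
    MvPolynomial.aeval (fun i : Fin 2 => if i = 0 then MvPolynomial.C ζ⁻¹ * MvPolynomial.X 0
        else MvPolynomial.C (ζ⁻¹ ^ a) * (MvPolynomial.X 1 : MvPolynomial (Fin 2) k)) p = p ↔
      p ∈ Algebra.adjoin k {q : MvPolynomial (Fin 2) k | ∃ i j : ℕ, i ≤ r ∧ j ≤ r ∧ ¬ (i = r ∧ j = r) ∧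
        r ∣ i + a * j ∧ q = MvPolynomial.X 0 ^ i * MvPolynomial.X 1 ^ j} := by
  have hr : 0 < r := by omega
  have hζ0 : ζ ≠ 0 := hζ.ne_zero (by omega)
  have hpow : ∀ i j : ℕ, (ζ⁻¹ ^ i * (ζ⁻¹ ^ a) ^ j = 1 ↔ r ∣ i + a * j) := by
    intro i j
    rw [← pow_mul, ← pow_add, inv_pow, inv_eq_one]
    exact hζ.pow_eq_one_iff_dvd _
  show σ ζ⁻¹ (ζ⁻¹ ^ a) p = p ↔ p ∈ Algebra.adjoin k (gens (k := k) r a)
  constructor
  · intro h
    rw [← MvPolynomial.support_sum_monomial_coeff p]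
    refine Subalgebra.sum_mem _ fun m hm => ?_
    have hc : coeff m p ≠ 0 := MvPolynomial.mem_support_iff.mp hm
    have h1 := coeff_σ ζ⁻¹ (ζ⁻¹ ^ a) p m
    rw [h] at h1
    have h2 : ζ⁻¹ ^ m 0 * (ζ⁻¹ ^ a) ^ m 1 = 1 := by
      have : coeff m p * (ζ⁻¹ ^ m 0 * (ζ⁻¹ ^ a) ^ m 1 - 1) = 0 := by
        rw [mul_sub, mul_one, ← h1, sub_self]
      rcases mul_eq_zero.mp this with h3 | h3
      · exact (hc h3).elim
      · exact sub_eq_zero.mp h3
    have hd := (hpow _ _).mp h2
    rw [monomial_eq', ← algebraMap_eq]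
    exact Subalgebra.mul_mem _ (Subalgebra.algebraMap_mem _ _) (mon_mem r a hr _ _ _ rfl hd)
  · intro h
    have hle : Algebra.adjoin k (gens (k := k) r a) ≤
        AlgHom.equalizer (σ ζ⁻¹ (ζ⁻¹ ^ a)) (AlgHom.id k _) := by
      refine Algebra.adjoin_le ?_
      rintro q ⟨i, j, -, -, -, hd, rfl⟩
      show σ ζ⁻¹ (ζ⁻¹ ^ a) _ = _
      rw [σ_mon, (hpow i j).mpr hd, C_1, one_mul]
      rfl
    exact hle h

end Groth.Agent.S10891
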