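import Groth.Statements.S10894
import Groth.Agent.Lib.Helper97.MeroCurve

set_option autoImplicit false
universe u
open CategoryTheory AlgebraicGeometry
open Curves

namespace Groth.Agent.S10894

open Groth.Agent.Lib.Helper97.MeroLib Mero in
theorem unit_eq_of_val_eq_mk {X : Scheme.{u}} {x : X} (q : (KStalk X x)ˣ) (α β : regStalk X x)
    (h : q.1 = LocalizedModule.mk α.1 β) :
    q = (IsLocalization.map_units (KStalk X x) α).unit *
      ((IsLocalization.map_units (KStalk X x) β).unit)⁻¹ := by
  apply Units.ext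
  rw [h, Units.val_mul, eq_comm, Units.mul_inv_eq_iff_eq_mul]
  have e : (LocalizedModule.mk α.1 β : KStalk X x) * LocalizedModule.mk β.1 1 =
      LocalizedModule.mk (α.1 * β.1) (β * 1) := LocalizedModule.mk_mul_mk
  refine Eq.trans ?_ e.symm
  change (LocalizedModule.mk α.1 1 : KStalk X x) = _
  refine LocalizedModule.mk_eq.mpr ⟨1, ?_⟩
  simp only [Submonoid.smul_def, smul_eq_mul, OneMemClass.coe_one, one_mul, mul_one]
  exact mul_comm _ _

open Groth.Agent.Lib.Helper97.MeroLib Mero in
theorem exists_decomp {X : Scheme.{u}} (D : Divisor X) (x : X) :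
    ∃ α β : regStalk X x,
      D.1 x = QuotientGroup.mk ((IsLocalization.map_units (KStalk X x) α).unit *
        ((IsLocalization.map_units (KStalk X x) β).unit)⁻¹) ∧ (D.1 x = 1 → α = 1 ∧ β = 1) := by
  by_cases h1 : D.1 x = 1
  · refine ⟨1, 1, ?_, fun _ => ⟨rfl, rfl⟩⟩
    rw [h1, mul_inv_cancel, QuotientGroup.mk_one]
  · obtain ⟨q, hq⟩ := QuotientGroup.mk_surjective (D.1 x)
    obtain ⟨W, hxW, a, b, hab⟩ := exists_regSub_mk_eq x q
    refine ⟨regGerm ⟨x, hxW⟩ a, regGerm ⟨x, hxW⟩ b, ?_, fun h => absurd h h1⟩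
    rw [← hq]
    exact congrArg _ (unit_eq_of_val_eq_mk q _ _ hab)

/-- On an absolute curve C (Noetherian, local rings at closed points one-dimensional) every divisor D is
a difference of two effective divisors each supported inside the support of D (divisors are written
multiplicatively, so the difference is D₁ · D₂⁻¹). -/
theorem result {C : Scheme.{u}} [IsNoetherian C]
    (hC : ∀ x : C, IsClosed ({x} : Set C) → ringKrullDim (C.presheaf.stalk x) = 1) (D : Mero.Divisor C) :
    ∃ D₁ D₂ : Mero.Divisor C, Mero.IsEffective D₁ ∧ Mero.IsEffective D₂ ∧ D = D₁ * D₂⁻¹ ∧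
      Mero.supp D₁ ⊆ Mero.supp D ∧ Mero.supp D₂ ⊆ Mero.supp D := by
  classical
  open Groth.Agent.Lib.Helper97.MeroLib Mero in
  choose α β hαβ h1 using exists_decomp D
  have hD := (mem_divisorGroup_iff hC D.1).mp D.2
  have hmem : ∀ γ : ∀ x : C, regStalk C x, (∀ x, D.1 x = 1 → γ x = 1) →
      (fun x => (QuotientGroup.mk (IsLocalization.map_units (KStalk C x) (γ x)).unit : Germ C x)) ∈
        divisorGroup C := by
    intro γ hγ
    have hone : ∀ x, D.1 x = 1 →
        (QuotientGroup.mk (IsLocalization.map_units (KStalk C x) (γ x)).unit : Germ C x) = 1 := by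
      intro x hx
      rw [hγ x hx, QuotientGroup.eq_one_iff]
      convert Subgroup.one_mem _
      exact Units.ext (map_one _)
    refine (mem_divisorGroup_iff hC _).mpr ⟨hD.1.subset fun x hx hx' => hx (hone x hx'), fun x hx => ?_⟩
    exact hone x (hD.2 x hx)
  refine ⟨⟨_, hmem α fun x hx => (h1 x hx).1⟩, ⟨_, hmem β fun x hx => (h1 x hx).2⟩,
    fun x => ⟨α x, rfl⟩, fun x => ⟨β x, rfl⟩, ?_, ?_, ?_⟩
  · apply Subtype.ext
    funext x
    rw [hαβ x]
    rfl
  · intro x hx hx'
    apply hx
    change (QuotientGroup.mk (IsLocalization.map_units (KStalk C x) (α x)).unit : Germ C x) = 1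
    rw [(h1 x hx').1, QuotientGroup.eq_one_iff]
    convert Subgroup.one_mem _
    exact Units.ext (map_one _)
  · intro x hx hx'
    apply hx
    change (QuotientGroup.mk (IsLocalization.map_units (KStalk C x) (β x)).unit : Germ C x) = 1
    rw [(h1 x hx').2, QuotientGroup.eq_one_iff]
    convert Subgroup.one_mem _
    exact Units.ext (map_one _)

end Groth.Agent.S10894
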