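import Groth.Statements.S10895
import Mathlib.RingTheory.Ideal.Pure
import Mathlib.RingTheory.Support
import Mathlib.AlgebraicGeometry.Morphisms.FinitePresentation
import Mathlib.AlgebraicGeometry.Morphisms.ClosedImmersion
import Mathlib.AlgebraicGeometry.Morphisms.Affine

set_option autoImplicit false
universe u
open CategoryTheory AlgebraicGeometry
open FlatMor

namespace Groth.Agent.S10895
theorem eq_zero_of_mem_ker_of_flat_of_surjective {R R' : Type u} [CommRing R] [IsLocalRing R]
    [CommRing R'] [Nontrivial R'] (ψ : R →+* R') (hsurj : Function.Surjective ψ) (hflat : ψ.Flat)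
    (r : R) (hr : ψ r = 0) : r = 0 := by
  let _ := ψ.toAlgebra
  have hflat' : Module.Flat R R' := hflat
  let J : Ideal R := RingHom.ker (algebraMap R R')
  have e : (R ⧸ J) ≃ₗ[R] R' :=
    (Ideal.quotientKerAlgEquivOfSurjective (f := Algebra.ofId R R') hsurj).toLinearEquiv
  have : J.Pure := Module.Flat.of_linearEquiv e
  have hrJ : r ∈ J := hr
  obtain ⟨y, hyJ, hy⟩ := Ideal.exists_eq_mul_of_pure hrJ
  have hJne : J ≠ ⊤ := by
    intro h
    have : (1 : R) ∈ J := h ▸ Submodule.mem_top
    have h1 : ψ 1 = 0 := this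
    rw [map_one] at h1
    exact one_ne_zero h1
  have hym : y ∈ IsLocalRing.maximalIdeal R := IsLocalRing.le_maximalIdeal hJne hyJ
  have hu : IsUnit (1 - y) := IsLocalRing.isUnit_one_sub_self_of_mem_nonunits y hym
  have h0 : r * (1 - y) = 0 := by rw [mul_sub, mul_one, ← hy, sub_self]
  exact (hu.mul_left_eq_zero).mp h0

theorem exists_mul_eq_zero_of_fg {B : Type u} [CommRing B] (I : Ideal B) (hI : I.FG)
    (q : PrimeSpectrum B) (h : ∀ i ∈ I, ∃ m ∉ q.asIdeal, m * i = 0) :
    ∃ r ∉ q.asIdeal, ∀ i ∈ I, r * i = 0 := by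
  have : Module.Finite B I := Module.Finite.iff_fg.mpr hI
  have hq : q ∉ Module.support B I := by
    rw [Module.notMem_support_iff']
    intro m
    obtain ⟨r, hr, hrm⟩ := h m.1 m.2
    exact ⟨r, hr, Subtype.ext hrm⟩
  rw [Module.support_eq_zeroLocus, PrimeSpectrum.mem_zeroLocus, Set.not_subset] at hq
  obtain ⟨r, hr, hrq⟩ := hq
  refine ⟨r, hrq, fun i hi => ?_⟩
  have := Module.mem_annihilator.mp hr ⟨i, hi⟩
  exact congrArg Subtype.val this

theorem away_map_injective {B A B' A' : Type u} [CommRing B] [CommRing A] [CommRing B']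
    [CommRing A'] [Algebra B B'] [Algebra A A'] (φ : B →+* A) (r : B)
    [IsLocalization.Away r B'] [IsLocalization.Away (φ r) A'] (hk : ∀ i, φ i = 0 → r * i = 0) :
    Function.Injective (IsLocalization.Away.map B' A' φ r) := by
  rw [injective_iff_map_eq_zero]
  intro z hz
  obtain ⟨⟨β, s⟩, rfl⟩ := IsLocalization.mk'_surjective (Submonoid.powers r) z
  rw [IsLocalization.Away.map, IsLocalization.map_mk', IsLocalization.mk'_eq_zero_iff] at hz
  obtain ⟨⟨m, n, rfl⟩, hm⟩ := hz
  simp only at hm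
  rw [IsLocalization.mk'_eq_zero_iff]
  have h1 : φ (r ^ n * β) = 0 := by rw [map_mul, map_pow]; exact hm
  have h2 := hk _ h1
  exact ⟨⟨r ^ (n + 1), n + 1, rfl⟩, by simp only; rw [pow_succ', mul_assoc]; exact h2⟩

/-- A closed immersion of finite presentation which is flat at a point x is an isomorphism over some
open neighbourhood of the image of x. -/
theorem result {X Y : Scheme.{u}} (f : X ⟶ Y) [IsClosedImmersion f]
    [LocallyOfFinitePresentation f] (x : X) (hflat : (f.stalkMap x).hom.Flat) :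
    ∃ V : Y.Opens, f.base x ∈ V ∧ IsIso (f ∣_ V) := by
  obtain ⟨_, ⟨V, hV, rfl⟩, hyV, -⟩ := Y.isBasis_affineOpens.exists_subset_of_mem_open
    (Set.mem_univ (f.base x)) isOpen_univ
  have hU : IsAffineOpen (f ⁻¹ᵁ V) := hV.preimage f
  have hφsurj : Function.Surjective (f.app V) := f.app_surjective V hV
  have hfp : (f.app V).hom.FinitePresentation := by
    have := HasRingHomProperty.appLE @LocallyOfFinitePresentation f ‹_› ⟨V, hV⟩ ⟨f ⁻¹ᵁ V, hU⟩ le_rfl
    rwa [← Scheme.Hom.app_eq_appLE] at this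
  -- kernel FG
  have hker : (RingHom.ker (f.app V).hom).FG := by
    let _ := (f.app V).hom.toAlgebra
    have : Algebra.FinitePresentation Γ(Y, V) Γ(X, f ⁻¹ᵁ V) := hfp
    exact Algebra.FinitePresentation.ker_fG_of_surjective (Algebra.ofId Γ(Y, V) Γ(X, f ⁻¹ᵁ V)) hφsurj
  -- germs of kernel elements vanish at y
  have hgerm : ∀ i ∈ RingHom.ker (f.app V).hom, Y.presheaf.germ V (f.base x) hyV i = 0 := by
    intro i hi
    apply eq_zero_of_mem_ker_of_flat_of_surjective (f.stalkMap x).hom (f.stalkMap_surjective x) hflat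
    have := Scheme.Hom.germ_stalkMap_apply f V x hyV i
    rw [this]
    have hi' : (f.app V).hom i = 0 := hi
    change (X.presheaf.germ (f ⁻¹ᵁ V) x hyV) ((f.app V).hom i) = 0
    rw [hi', map_zero]
  let _ := Y.presheaf.algebra_section_stalk ⟨f.base x, hyV⟩
  have hloc := hV.isLocalization_stalk ⟨f.base x, hyV⟩
  let q := hV.primeIdealOf ⟨f.base x, hyV⟩
  have hkill : ∀ i ∈ RingHom.ker (f.app V).hom, ∃ m ∉ q.asIdeal, m * i = 0 := by
    intro i hi
    have h0 : algebraMap Γ(Y, V) (Y.presheaf.stalk (f.base x)) i = 0 := hgerm i hi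
    rw [IsLocalization.map_eq_zero_iff q.asIdeal.primeCompl] at h0
    obtain ⟨m, hm⟩ := h0
    exact ⟨m.1, m.2, hm⟩
  obtain ⟨r, hrq, hr⟩ := exists_mul_eq_zero_of_fg _ hker q hkill
  refine ⟨Y.basicOpen r, ?_, ?_⟩
  · rw [Scheme.mem_basicOpen _ _ _ hyV]
    exact (IsLocalization.AtPrime.isUnit_to_map_iff (Y.presheaf.stalk (f.base x)) q.asIdeal r).mpr hrq
  · rw [isIso_morphismRestrict_iff_isIso_app f (hV.basicOpen r)]
    rw [ConcreteCategory.isIso_iff_bijective]
    refine ⟨?_, f.app_surjective _ (hV.basicOpen r)⟩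
    have := hV.isLocalization_basicOpen r
    have := hU.isLocalization_basicOpen (f.app V r)
    rw [hV.app_basicOpen_eq_away_map f hU r]
    have hinj := away_map_injective (B' := Γ(Y, Y.basicOpen r)) (A' := Γ(X, X.basicOpen (f.app V r)))
      (f.app V).hom r (fun i hi => hr i hi)
    intro a b hab
    apply hinj
    have hiso : Function.Injective (X.presheaf.map (eqToHom (by simp : f ⁻¹ᵁ Y.basicOpen r = X.basicOpen (f.app V r))).op) :=
      (ConcreteCategory.bijective_of_isIso _).1
    apply hiso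
    exact hab

end Groth.Agent.S10895
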