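import Groth.Statements.S10897
import Mathlib
import Groth.Agent.Lib.Helper95.CubicLines
-- import your own Groth.Agent.* helpers here

set_option autoImplicit false
universe u
open Cubic Groth.Agent.Lib.Helper95

namespace Groth.Agent.S10897

/-- Over an algebraically closed field of characteristic zero, through a point s of a smooth cubic
surface S = V_+(f) ⊂ P^3 there pass at most three lines contained in S, and these lines are
coplanar. With s given by a nonzero vector v with f(v) = 0, the lines through s on S are the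
2-dimensional subspaces of k^4 containing v on which f vanishes; there are at most three of them and
one 3-dimensional subspace contains them all. -/
theorem result (k : Type u) [Field k] [IsAlgClosed k] [CharZero k]
    (f : MvPolynomial (Fin 4) k) (hf : f.IsHomogeneous 3) (hf0 : f ≠ 0)
    (hsm : ∀ v : Fin 4 → k, v ≠ 0 → MvPolynomial.eval v f = 0 →
      ∃ i : Fin 4, MvPolynomial.eval v (MvPolynomial.pderiv i f) ≠ 0)
    (v : Fin 4 → k) (hv : v ≠ 0) (hfv : MvPolynomial.eval v f = 0) :
    {U : Submodule k (Fin 4 → k) | v ∈ U ∧ (Module.finrank k ↥U = 2 ∧ ∀ u ∈ U, MvPolynomial.eval u f = 0)}.Finite ∧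
      {U : Submodule k (Fin 4 → k) | v ∈ U ∧ (Module.finrank k ↥U = 2 ∧ ∀ u ∈ U, MvPolynomial.eval u f = 0)}.ncard ≤ 3 ∧
      ∃ H : Submodule k (Fin 4 → k), Module.finrank k ↥H = 3 ∧
        ∀ U : Submodule k (Fin 4 → k), v ∈ U → (Module.finrank k ↥U = 2 ∧ ∀ u ∈ U, MvPolynomial.eval u f = 0) → U ≤ H := by
  classical
  have hsm' := hsm v hv hfv
  set ℓ := phiL f v v with hℓ
  have hℓ0 : ℓ ≠ 0 := by
    obtain ⟨x, hx⟩ := exists_phi_ne_zero hf hsm'
    intro h0
    apply hx
    have : ℓ x = 0 := by rw [h0]; rfl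
    exact this
  have h4 := finite_ncard_le_of_no_inj
    {U : Submodule k (Fin 4 → k) | v ∈ U ∧ (Module.finrank k ↥U = 2 ∧ ∀ u ∈ U, MvPolynomial.eval u f = 0)} 3
    (by
      rintro ⟨U, hinj, hU⟩
      exact no_four_lines hf hsm hv U hinj hU)
  refine ⟨h4.1, h4.2, LinearMap.ker ℓ, ?_, ?_⟩
  · have := Module.Dual.finrank_ker_add_one_of_ne_zero hℓ0
    rw [Module.finrank_fintype_fun_eq_card, Fintype.card_fin] at this
    omega
  · intro U hvU hU u hu
    rw [LinearMap.mem_ker, hℓ, phiL_apply]
    exact (line_facts hf U hvU hu hU.2).2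

end Groth.Agent.S10897
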