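import Groth.Statements.S10896
import Mathlib
import Groth.Agent.Lib.Helper92.TritangentCount
import Groth.Agent.S10897
-- import your own Groth.Agent.* helpers here

set_option autoImplicit false
universe u
open Cubic

namespace Groth.Agent.S10896

/-- Over an algebraically closed field of characteristic zero, a smooth cubic surface S = V_+(f) ⊂ P^3
which contains a line contains two disjoint lines (2-dimensional subspaces of k^4 on which f
vanishes and which intersect trivially). -/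
theorem result (k : Type u) [Field k] [IsAlgClosed k] [CharZero k]
    (f : MvPolynomial (Fin 4) k) (hf : f.IsHomogeneous 3) (hf0 : f ≠ 0)
    (hsm : ∀ v : Fin 4 → k, v ≠ 0 → MvPolynomial.eval v f = 0 →
      ∃ i : Fin 4, MvPolynomial.eval v (MvPolynomial.pderiv i f) ≠ 0)
    (hL : ∃ U : Submodule k (Fin 4 → k), (Module.finrank k ↥U = 2 ∧ ∀ u ∈ U, MvPolynomial.eval u f = 0)) :
    ∃ U₁ U₂ : Submodule k (Fin 4 → k), (Module.finrank k ↥U₁ = 2 ∧ ∀ u ∈ U₁, MvPolynomial.eval u f = 0) ∧ (Module.finrank k ↥U₂ = 2 ∧ ∀ u ∈ U₂, MvPolynomial.eval u f = 0) ∧ U₁ ⊓ U₂ = ⊥ := by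
  classical
  obtain ⟨L, hL2, hLS⟩ := hL
  have h5 := Groth.Agent.Lib.Helper92.Tritangent.ncard_tritangent hf hsm L hL2 hLS
  have hfin : {H : Submodule k (Fin 4 → k) |
      Groth.Agent.Lib.Helper92.Tritangent.IsTritangent f L H}.Finite :=
    Set.finite_of_ncard_ne_zero (by rw [h5]; norm_num)
  obtain ⟨H₁, H₂, hH₁, hH₂, hne⟩ := (Set.one_lt_ncard_iff hfin).mp (by rw [h5]; norm_num)
  obtain ⟨hH₁3, hLH₁, L₁, -, f₁, -, n₁, -, -, l₁, -, s₁, -⟩ := hH₁
  obtain ⟨hH₂3, hLH₂, L₂, -, f₂, -, n₂, -, -, l₂, -, s₂, -⟩ := hH₂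
  -- uniqueness of the plane spanned by two lines
  have huniq : ∀ L' H H' : Submodule k (Fin 4 → k), Module.finrank k ↥L' = 2 → L' ≠ L →
      Module.finrank k ↥H = 3 → Module.finrank k ↥H' = 3 → L ≤ H → L' ≤ H → L ≤ H' → L' ≤ H' →
      H = H' := by
    intro L' H H' hL' hne' hH hH' a1 a2 a3 a4
    have hlt : L < L ⊔ L' := by
      refine lt_of_le_of_ne le_sup_left (fun h => hne' ?_)
      have hle : L' ≤ L := by rw [h]; exact le_sup_right
      exact Submodule.eq_of_le_of_finrank_eq hle (by rw [hL', hL2])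
    have h3 := Submodule.finrank_lt_finrank_of_lt hlt
    have e1 : L ⊔ L' = H := Submodule.eq_of_le_of_finrank_le (sup_le a1 a2) (by omega)
    have e2 : L ⊔ L' = H' := Submodule.eq_of_le_of_finrank_le (sup_le a3 a4) (by omega)
    rw [← e1, e2]
  refine ⟨L₁, L₂, ⟨f₁, s₁⟩, ⟨f₂, s₂⟩, ?_⟩
  rw [Submodule.eq_bot_iff]
  intro p hp
  by_contra hp0
  obtain ⟨hp1, hp2⟩ := Submodule.mem_inf.mp hp
  -- H₁ ⊓ H₂ = L
  have hinf : L = H₁ ⊓ H₂ := by
    apply Submodule.eq_of_le_of_finrank_le (le_inf hLH₁ hLH₂)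
    have hlt : H₁ ⊓ H₂ < H₁ := by
      refine lt_of_le_of_ne inf_le_left (fun h => hne ?_)
      have hle : H₁ ≤ H₂ := by rw [← h]; exact inf_le_right
      exact Submodule.eq_of_le_of_finrank_eq hle (by rw [hH₁3, hH₂3])
    have := Submodule.finrank_lt_finrank_of_lt hlt
    omega
  have hpL : p ∈ L := by rw [hinf]; exact Submodule.mem_inf.mpr ⟨l₁ hp1, l₂ hp2⟩
  obtain ⟨-, -, H, hH3, hHall⟩ := Groth.Agent.S10897.result k f hf hf0 hsm p hp0 (hLS p hpL)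
  have a0 := hHall L hpL ⟨hL2, hLS⟩
  have a1 := hHall L₁ hp1 ⟨f₁, s₁⟩
  have a2 := hHall L₂ hp2 ⟨f₂, s₂⟩
  apply hne
  rw [← huniq L₁ H H₁ f₁ n₁ hH3 hH₁3 a0 a1 hLH₁ l₁, ← huniq L₂ H H₂ f₂ n₂ hH3 hH₂3 a0 a2 hLH₂ l₂]

end Groth.Agent.S10896
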