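import Groth.Statements.S10898
import Mathlib.RingTheory.Polynomial.Basic

set_option autoImplicit false
universe u
open Polynomial
open WDiv

namespace Groth.Agent.S10898

theorem comap_map_C {A : Type*} [CommRing A] (q : Ideal A) :
    (q.map (C : A →+* A[X])).comap (C : A →+* A[X]) = q := by
  ext a
  rw [Ideal.mem_comap, Ideal.mem_map_C_iff]
  constructor
  · intro h
    simpa using h 0
  · intro ha n
    rw [coeff_C]
    split_ifs
    · exact ha
    · exact zero_mem _

/-- Let A be a Noetherian integral domain and P a prime ideal of height 1 of the polynomial ring A[X].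
Then either P meets A in 0 only, or its contraction p = P ∩ A is a prime of height 1 of A and P is
the extension p·A[X]. (The published lemma also assumes A regular in codimension 1; that hypothesis
is not used for this assertion.) -/
theorem result (A : Type u) [CommRing A] [IsDomain A]
    [IsNoetherianRing A] (P : Ideal A[X]) [P.IsPrime] (hP : P.height = 1) :
    P.comap (C : A →+* A[X]) = ⊥ ∨
      ((P.comap (C : A →+* A[X])).height = 1 ∧ P = (P.comap (C : A →+* A[X])).map C) := by
  set p := P.comap (C : A →+* A[X]) with hp
  by_cases h0 : p = ⊥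
  · left; exact h0
  right
  have hpprime : p.IsPrime := Ideal.comap_isPrime C P
  have hle : p.map C ≤ P := Ideal.map_comap_le
  have hqprime : (p.map (C : A →+* A[X])).IsPrime := Ideal.isPrime_map_C_of_isPrime
  have hbot : ∀ q : Ideal A, q.map (C : A →+* A[X]) = ⊥ → q = ⊥ := by
    intro q h
    rw [← comap_map_C q, h]
    rw [eq_bot_iff]
    intro a ha
    rw [Ideal.mem_comap, Ideal.mem_bot, C_eq_zero] at ha
    rw [ha]; exact zero_mem _
  have hq0 : p.map (C : A →+* A[X]) ≠ ⊥ := fun h => h0 (hbot p h)
  have hfin : P.FiniteHeight := ⟨Or.inr (by rw [hP]; exact ENat.one_ne_top)⟩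
  have hheq : p.map C = P := by
    have : (p.map (C : A →+* A[X])).FiniteHeight :=
      Ideal.finiteHeight_of_le hle (Ideal.IsPrime.ne_top ‹_›)
    refine Ideal.eq_of_le_of_height_le (I := p.map (C : A →+* A[X])) (J := P) hle ?_
    rw [hP, Order.one_le_iff_ne_zero, Ne, Ideal.height_eq_zero_iff_eq_bot]
    exact hq0
  refine ⟨?_, hheq.symm⟩
  apply le_antisymm
  · have h1 : ((1 : ℕ) : ℕ∞) = 1 := rfl
    rw [← h1, Ideal.height_le_iff]
    intro q hq hqp
    have hqmap : (q.map (C : A →+* A[X])).IsPrime := Ideal.isPrime_map_C_of_isPrime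
    have hlt : q.map (C : A →+* A[X]) < P := by
      rw [← hheq]
      refine lt_of_le_of_ne (Ideal.map_mono hqp.le) ?_
      intro h
      have := congrArg (Ideal.comap (C : A →+* A[X])) h
      rw [comap_map_C, comap_map_C] at this
      exact hqp.ne this
    have h2 := Ideal.height_add_one_le_of_lt_of_isPrime hlt
    rw [hP] at h2
    have h3 : (q.map (C : A →+* A[X])).height = 0 := by
      have : (q.map (C : A →+* A[X])).height + 1 ≤ 0 + 1 := by simpa using h2
      have := (ENat.add_le_add_iff_right ENat.one_ne_top).mp this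
      exact le_antisymm this bot_le
    rw [Ideal.height_eq_zero_iff_eq_bot] at h3
    have hq0' := hbot q h3
    rw [hq0', Ideal.height_bot]
    exact_mod_cast zero_lt_one
  · rw [Order.one_le_iff_ne_zero, Ne, Ideal.height_eq_zero_iff_eq_bot]
    exact h0

end Groth.Agent.S10898
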