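import Groth.Statements.S10900
import Groth.Agent.Lib.Helper21.AffSpaceDiv

set_option autoImplicit false
universe u
open CategoryTheory CategoryTheory.Limits AlgebraicGeometry TopologicalSpace
open WDiv

namespace Groth.Agent.S10900

/-- Let X be an integral Noetherian separated scheme which is regular in codimension 1 (the local ring
at every point of codimension 1, i.e. of coheight 1 in the specialization order, is a discrete
valuation ring), and let p : A^m_X → X be the affine m-space over X. Pulling back Weil divisors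
along p (a divisor D, viewed as an integer-valued function on the codimension-1 points of X with
finite support, goes to y ↦ D(p(y)) on the codimension-1 points of A^m_X) induces an injective map
on divisor class groups: if the pulled-back divisor is the divisor of a nonzero rational function on
A^m_X, then D is the divisor of a nonzero rational function on X. -/
theorem result (m : ℕ) (X : Scheme.{u}) [IsIntegral X]
    [IsNoetherian X] [X.IsSeparated] [IsLocallyNoetherian 𝔸(ULift.{u} (Fin m); X)]
    (hR1 : ∀ x : ↥X, Order.coheight x = 1 → IsDiscreteValuationRing ↑(X.presheaf.stalk x))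
    (D : ↥X → ℤ) (hD : ∀ x, Order.coheight x ≠ 1 → D x = 0) (hfin : {x | D x ≠ 0}.Finite)
    (g : ↑(𝔸(ULift.{u} (Fin m); X)).functionField) (hg : g ≠ 0)
    (h : ∀ y : ↥(𝔸(ULift.{u} (Fin m); X)), Order.coheight y = 1 →
      Scheme.ord g y = D ((𝔸(ULift.{u} (Fin m); X) ↘ X) y)) :
    ∃ f : ↑X.functionField, f ≠ 0 ∧ ∀ x : ↥X, Order.coheight x = 1 → Scheme.ord f x = D x := by
  classical
  open Groth.Agent.Lib.Helper21 AffSpec FFMap AffChart AffDiv in
  -- a nonempty affine chart for the generic fibre
  obtain ⟨x₀⟩ : Nonempty X := inferInstance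
  obtain ⟨U₀, hU₀, hx₀, -⟩ :=
    exists_isAffineOpen_mem_and_subset (X := X) (x := x₀) (U := ⊤) trivial
  haveI : Nonempty U₀ := ⟨⟨x₀, hx₀⟩⟩
  obtain ⟨f, hf0, hfg⟩ := AffDiv.exists_const_of_ord_eq_zero (ULift.{u} (Fin m)) hU₀ g hg (by
    intro y hy hyg
    rw [h y hy, hyg]
    apply hD
    rw [coheight_genericPoint]
    exact zero_ne_one)
  refine ⟨f, hf0, ?_⟩
  intro x hx
  obtain ⟨U, hU, hxU, -⟩ :=
    exists_isAffineOpen_mem_and_subset (X := X) (x := x) (U := ⊤) trivial
  haveI : Nonempty U := ⟨⟨x, hxU⟩⟩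
  obtain ⟨p, rfl⟩ : ∃ p, hU.fromSpec p = x := ⟨hU.primeIdealOf ⟨x, hxU⟩, hU.fromSpec_primeIdealOf ⟨x, hxU⟩⟩
  have hp : Order.coheight p = 1 := by
    rw [← coheight_eq_of_isOpenImmersion hU.fromSpec]; exact hx
  haveI := hR1 _ hx
  obtain ⟨h1, h2, h3⟩ := ord_ffMap_chart_extPt (ULift.{u} (Fin m)) hU p hp f hf0
  have h4 := h _ h1
  rw [h2] at h4
  rw [← h4, ← h3]
  congr 1

end Groth.Agent.S10900
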