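import Groth.Statements.S10901
import Groth.Agent.Lib.Helper21.AffSpaceDiv2

set_option autoImplicit false
universe u
open CategoryTheory CategoryTheory.Limits AlgebraicGeometry TopologicalSpace
open WDiv

namespace Groth.Agent.S10901

/-- Let X be an integral Noetherian separated scheme which is regular in codimension 1 (the local ring
at every point of coheight 1 is a discrete valuation ring), and p : A^m_X → X the affine m-space
over X. Then pulling back along p is surjective on divisor classes: for every Weil divisor D' on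
A^m_X (an integer-valued function on its points with finite support inside the points of coheight 1)
there are a Weil divisor D on X and a nonzero rational function g on A^m_X such that D'(y) = D(p(y))
+ ord_y(g) at every point y of A^m_X of coheight 1. -/
theorem result (m : ℕ) (X : Scheme.{u}) [IsIntegral X]
    [IsNoetherian X] [X.IsSeparated] [IsLocallyNoetherian 𝔸(ULift.{u} (Fin m); X)]
    (hR1 : ∀ x : ↥X, Order.coheight x = 1 → IsDiscreteValuationRing ↑(X.presheaf.stalk x))
    (D' : ↥(𝔸(ULift.{u} (Fin m); X)) → ℤ) (hD' : ∀ y, Order.coheight y ≠ 1 → D' y = 0) (hfin : {y | D' y ≠ 0}.Finite) :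
    ∃ (D : ↥X → ℤ) (g : ↑(𝔸(ULift.{u} (Fin m); X)).functionField), (∀ x, Order.coheight x ≠ 1 → D x = 0) ∧
      {x | D x ≠ 0}.Finite ∧ g ≠ 0 ∧
        ∀ y : ↥(𝔸(ULift.{u} (Fin m); X)), Order.coheight y = 1 → D' y = D ((𝔸(ULift.{u} (Fin m); X) ↘ X) y) + Scheme.ord g y := by
  classical
  open Groth.Agent.Lib.Helper21 AffSpec FFMap AffChart AffDiv in
  obtain ⟨x₀⟩ : Nonempty X := inferInstance
  obtain ⟨U₀, hU₀, hx₀, -⟩ :=
    exists_isAffineOpen_mem_and_subset (X := X) (x := x₀) (U := ⊤) trivial
  haveI : Nonempty U₀ := ⟨⟨x₀, hx₀⟩⟩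
  obtain ⟨g, hg0, hgen⟩ := AffDiv.exists_ord_eq_on_generic_fibre (ULift.{u} (Fin m)) hU₀ D' hfin
  haveI : CompactSpace 𝔸(ULift.{u} (Fin m); X) :=
    QuasiCompact.compactSpace_of_compactSpace (𝔸(ULift.{u} (Fin m); X) ↘ X)
  have hgfin := finite_ord_ne_zero g hg0
  let good : X → Prop := fun x => x ≠ genericPoint X ∧
    ∃ y : 𝔸(ULift.{u} (Fin m); X), Order.coheight y = 1 ∧ (𝔸(ULift.{u} (Fin m); X) ↘ X) y = x
  let D : X → ℤ := fun x =>
    if hx : good x then D' (Classical.choose hx.2) - Scheme.ord g (Classical.choose hx.2) else 0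
  refine ⟨D, g, ?_, ?_, hg0, ?_⟩
  · intro x hx
    simp only [D]
    split_ifs with hgood
    · exfalso
      obtain ⟨hne, y, hy1, hyx⟩ := hgood
      have := (vertical_classification (ULift.{u} (Fin m)) y hy1 (hyx ▸ hne)).1
      rw [hyx] at this
      exact hx this
    · rfl
  · refine ((hfin.union hgfin).image (𝔸(ULift.{u} (Fin m); X) ↘ X)).subset ?_
    intro x hx
    simp only [D, Set.mem_setOf_eq] at hx
    split_ifs at hx with hgood
    · have hspec := Classical.choose_spec hgood.2
      refine ⟨Classical.choose hgood.2, ?_, hspec.2⟩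
      by_contra hcon
      rw [Set.mem_union, not_or] at hcon
      simp only [Set.mem_setOf_eq, not_not, not_and] at hcon
      apply hx
      rw [hcon.1, hcon.2 hspec.1, sub_zero]
    · exact absurd rfl hx
  · intro y hy
    by_cases hyg : (𝔸(ULift.{u} (Fin m); X) ↘ X) y = genericPoint X
    · rw [hgen y hy hyg]
      have : D ((𝔸(ULift.{u} (Fin m); X) ↘ X) y) = 0 := by
        simp only [D]
        rw [dif_neg]
        intro hgood
        exact hgood.1 hyg
      rw [this, zero_add]
    · have hgood : good ((𝔸(ULift.{u} (Fin m); X) ↘ X) y) := ⟨hyg, y, hy, rfl⟩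
      have hch := Classical.choose_spec hgood.2
      have heq : Classical.choose hgood.2 = y :=
        (vertical_classification (ULift.{u} (Fin m)) y hy hyg).2 _ hch.1 hch.2
      simp only [D]
      rw [dif_pos hgood, heq]
      ring

end Groth.Agent.S10901
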