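import Groth.Statements.S10908
import Groth.Agent.Lib.Helper17.Proj

set_option autoImplicit false
universe u
open ProjDeg

namespace Groth.Agent.S10908

open TopologicalSpace Opposite

section aux
variable {R A : Type u} [CommRing R] [CommRing A] [Algebra R A]
  (𝒜 : ℕ → Submodule R A) [GradedAlgebra 𝒜]

/-- Homogeneous elements of degree `k ≥ M` lie in the `M`-th power of the irrelevant ideal, when the
ring is generated in degree one. -/
theorem mem_irrelevant_pow (hgen : ∀ i : ℕ, 𝒜 1 * 𝒜 i = 𝒜 (i + 1)) (M : ℕ) :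
    ∀ k : ℕ, M ≤ k → ∀ b ∈ 𝒜 k, b ∈ (HomogeneousIdeal.irrelevant 𝒜).toIdeal ^ M := by
  induction M with
  | zero => intro k _ b _; simp
  | succ M ih =>
    intro k hk b hb
    obtain ⟨k', rfl⟩ : ∃ k', k = k' + 1 := ⟨k - 1, by omega⟩
    rw [← hgen k'] at hb
    refine Submodule.mul_induction_on hb ?_ ?_
    · intro u hu v hv
      rw [pow_succ']
      exact Ideal.mul_mem_mul (HomogeneousIdeal.mem_irrelevant_of_mem 𝒜 one_pos hu)
        (ih k' (by omega) v hv)
    · intro x y hx hy
      exact Ideal.add_mem _ hx hy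

end aux

/-- Let S be a Noetherian graded integral domain, graded by the natural numbers as an algebra over a
ring R, generated by its degree-one part over S_0 (S_1 S_i = S_{i+1}) with S_1 ≠ 0, and integrally
closed in its field of fractions (so that X = Proj S is projectively normal). Then for every d ≥ 0
the canonical map from S_d to the global sections of the twisting sheaf O_X(d), sending a to the
section a/1, is bijective. (The underlying lemma: every global section of O_X(d) is an element of
the homogeneous fraction ring integral over S.) (The published corollary takes the degree-zero part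
to be a finitely generated algebra over a field; this row assumes only that the ring is Noetherian,
which is all the argument uses.) -/
theorem result {R A : Type u} [CommRing R] [CommRing A] [IsDomain A]
    [IsNoetherianRing A] [Algebra R A] (𝒜 : ℕ → Submodule R A) [GradedAlgebra 𝒜]
    (hgen : ∀ i : ℕ, 𝒜 1 * 𝒜 i = 𝒜 (i + 1)) (h1 : 𝒜 1 ≠ ⊥) (hint : IsIntegrallyClosed A) (d : ℕ) :
    Function.Bijective (fun a : ↥(𝒜 d) => Twist.globalOf 𝒜 a) := by
  classical
  obtain ⟨f, hf1, hf0⟩ := (Submodule.ne_bot_iff _).mp h1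
  have hirr : ¬ HomogeneousIdeal.irrelevant 𝒜 ≤ (⊥ : HomogeneousIdeal 𝒜) := by
    intro hle
    have hfb : f ∈ (⊥ : HomogeneousIdeal 𝒜) :=
      hle (HomogeneousIdeal.mem_irrelevant_of_mem 𝒜 one_pos hf1)
    have hfb' : f ∈ (⊥ : HomogeneousIdeal 𝒜).toIdeal := hfb
    rw [HomogeneousIdeal.toIdeal_bot] at hfb'
    exact hf0 (Ideal.mem_bot.mp hfb')
  let η : ProjectiveSpectrum 𝒜 :=
    ⟨⊥, by rw [HomogeneousIdeal.toIdeal_bot]; exact Ideal.isPrime_bot, hirr⟩
  have hη : ∀ a : A, a ∈ η.asHomogeneousIdeal ↔ a = 0 := fun a => by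
    change a ∈ (⊥ : HomogeneousIdeal 𝒜).toIdeal ↔ a = 0
    rw [HomogeneousIdeal.toIdeal_bot, Ideal.mem_bot]
  constructor
  · intro a a' h
    have h2 := congrArg (fun s : Twist.sectN (𝒜 := 𝒜) (d : ℤ) (op ⊤) =>
      ((s.1 ⟨η, trivial⟩ : Twist.twistAt 𝒜 (d : ℤ) η) : Twist.Loc 𝒜 η)) h
    change Localization.mk a.1 _ = Localization.mk a'.1 _ at h2
    rw [Localization.mk_eq_mk_iff, Localization.r_iff_exists] at h2
    obtain ⟨c, hc⟩ := h2
    have hc0 : (c : A) ≠ 0 := fun h0 => c.2 ((hη _).mpr h0)
    apply Subtype.ext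
    simp only [one_mul] at hc
    exact mul_left_cancel₀ hc0 hc
  · intro s
    -- local data at each point, valid at the generic point as well
    have hloc : ∀ x : ProjectiveSpectrum 𝒜, ∃ (i j : ℕ) (a t : A), a ∈ 𝒜 i ∧ t ∈ 𝒜 j ∧
        ((i : ℤ) = j + (d : ℤ) ∨ a = 0) ∧
        ∃ (hx : t ∉ x.asHomogeneousIdeal) (hη' : t ∉ η.asHomogeneousIdeal),
          ((s.1 ⟨x, trivial⟩ : Twist.twistAt 𝒜 (d : ℤ) x) : Twist.Loc 𝒜 x) =
            Localization.mk a ⟨t, hx⟩ ∧
          ((s.1 ⟨η, trivial⟩ : Twist.twistAt 𝒜 (d : ℤ) η) : Twist.Loc 𝒜 η) =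
            Localization.mk a ⟨t, hη'⟩ := by
      intro x
      obtain ⟨V, hxV, ia, i, j, ⟨a, ha⟩, ⟨t, ht⟩, hnin, hcase, hw⟩ := s.2 ⟨x, trivial⟩
      have hηV : η ∈ V := by
        obtain ⟨_, ⟨g, rfl⟩, hxg, hgV⟩ :=
          (ProjectiveSpectrum.isTopologicalBasis_basic_opens 𝒜).exists_subset_of_mem_open hxV V.2
        apply hgV
        have hxg' : g ∉ x.asHomogeneousIdeal := (ProjectiveSpectrum.mem_basicOpen 𝒜 g x).mp hxg
        refine (ProjectiveSpectrum.mem_basicOpen 𝒜 g η).mpr ?_
        intro hg
        apply hxg'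
        rw [(hη g).mp hg]
        exact Submodule.zero_mem _
      exact ⟨i, j, a, t, ha, ht, hcase, hnin ⟨x, hxV⟩, hnin ⟨η, hηV⟩, hw ⟨x, hxV⟩, hw ⟨η, hηV⟩⟩
    choose i j a t ha ht hcase hx hη' hvalx hvalη using hloc
    have ht0 : ∀ x, t x ≠ 0 := fun x h0 => hη' x ((hη _).mpr h0)
    -- the fraction at the generic point
    set a₀ := a η with ha₀
    set t₀ := t η with ht₀
    have hrel : ∀ x, a x * t₀ = a₀ * t x := by
      intro x
      have e := (hvalη x).symm.trans (hvalη η)
      rw [Localization.mk_eq_mk_iff, Localization.r_iff_exists] at e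
      obtain ⟨c, hc⟩ := e
      have hc0 : (c : A) ≠ 0 := fun h0 => c.2 ((hη _).mpr h0)
      have := mul_left_cancel₀ hc0 hc
      simp only at this
      rw [mul_comm (a x), mul_comm a₀]
      exact this
    -- conclude once an element `b` of degree `d` with `b * t₀ = a₀` is found
    have hfin : ∀ b : A, b ∈ 𝒜 d → b * t₀ = a₀ → ∃ a' : 𝒜 d, Twist.globalOf 𝒜 a' = s := by
      intro b hb hbt
      refine ⟨⟨b, hb⟩, ?_⟩
      apply Subtype.ext
      funext y
      apply Subtype.ext
      obtain ⟨y, hy⟩ := y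
      change Localization.mk b _ = _
      rw [hvalx y, Localization.mk_eq_mk_iff, Localization.r_iff_exists]
      refine ⟨1, ?_⟩
      simp only [OneMemClass.coe_one, one_mul]
      apply mul_right_cancel₀ (ht0 η)
      rw [hrel y, ← hbt]
      ring
    by_cases ha0 : a₀ = 0
    · exact hfin 0 (Submodule.zero_mem _) (by rw [ha0, zero_mul])
    · have hdeg : (i η : ℤ) = j η + (d : ℤ) := (hcase η).resolve_right ha0
      have hdeg' : i η = j η + d := by exact_mod_cast hdeg
      -- the ideal of denominators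
      let I' : Ideal A := Ideal.span (Set.range t)
      have hI' : I'.IsHomogeneous 𝒜 :=
        Ideal.homogeneous_span 𝒜 _ (by rintro _ ⟨x, rfl⟩; exact ⟨j x, ht x⟩)
      have hrad : (HomogeneousIdeal.irrelevant 𝒜).toIdeal ≤ I'.radical := by
        rw [Groth.Agent.Lib.Helper17.irrelevant_le_radical_iff 𝒜 I' hI']
        intro x hle
        exact hx x (hle (Ideal.subset_span ⟨x, rfl⟩))
      obtain ⟨M, hM⟩ := Ideal.exists_pow_le_of_le_radical_of_fg hrad (IsNoetherian.noetherian _)
      -- the colon ideal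
      let J : Ideal A := Submodule.comap (LinearMap.mulRight A a₀) (Ideal.span {t₀})
      have hJ : ∀ b, b ∈ J ↔ ∃ c, b * a₀ = c * t₀ := by
        intro b
        change b * a₀ ∈ Ideal.span {t₀} ↔ _
        rw [Ideal.mem_span_singleton']
        constructor
        · rintro ⟨c, hc⟩; exact ⟨c, hc.symm⟩
        · rintro ⟨c, hc⟩; exact ⟨c, hc.symm⟩
      have hI'J : I' ≤ J := by
        rw [Ideal.span_le]
        rintro _ ⟨x, rfl⟩
        exact (hJ _).mpr ⟨a x, by rw [hrel x, mul_comm]⟩
      -- elements of high degree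
      have hhigh : ∀ k, M ≤ k → ∀ b ∈ 𝒜 k, ∃ c ∈ 𝒜 (k + d), b * a₀ = c * t₀ := by
        intro k hk b hb
        obtain ⟨c, hc⟩ := (hJ b).mp (hI'J (hM (mem_irrelevant_pow 𝒜 hgen M k hk b hb)))
        refine ⟨(DirectSum.decompose 𝒜 c (k + d) : A), SetLike.coe_mem _, ?_⟩
        rw [← DirectSum.coe_decompose_mul_add_of_right_mem 𝒜 (ht η), ← hc]
        have hmem : b * a₀ ∈ 𝒜 (k + d + j η) := by
          have h3 := SetLike.mul_mem_graded hb (ha η)
          rw [hdeg'] at h3
          have e : k + (j η + d) = k + d + j η := by omega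
          rw [e] at h3
          exact h3
        exact (DirectSum.decompose_of_mem_same 𝒜 hmem).symm
      -- the fraction field
      let K := FractionRing A
      let G : Ideal A := Ideal.span (⋃ k ∈ Set.Ici M, (𝒜 k : Set A))
      let N : Submodule A K := Submodule.map (Algebra.linearMap A K) G
      let q : K := algebraMap A K a₀ / algebraMap A K t₀
      have hinjK : Function.Injective (algebraMap A K) := IsFractionRing.injective A K
      have ht₀K : algebraMap A K t₀ ≠ 0 := by
        rw [Ne, map_eq_zero_iff _ hinjK]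
        exact ht0 η
      have hN : N ≠ ⊥ := by
        intro hbot
        have hfM : f ^ M ∈ 𝒜 M := by simpa using SetLike.pow_mem_graded M hf1
        have hmem : algebraMap A K (f ^ M) ∈ N :=
          Submodule.mem_map_of_mem
            (Ideal.subset_span (Set.mem_biUnion (Set.mem_Ici.mpr le_rfl) hfM))
        rw [hbot, Submodule.mem_bot, map_eq_zero_iff _ hinjK] at hmem
        exact pow_ne_zero M hf0 hmem
      have hNfg : N.FG := (IsNoetherian.noetherian G).map _
      have hqN : ∀ n ∈ N, q • n ∈ N := by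
        have hle : N ≤ Submodule.comap (LinearMap.mulLeft A q) N := by
          rw [Submodule.map_le_iff_le_comap, Ideal.span_le]
          intro b hb
          simp only [Set.mem_iUnion] at hb
          obtain ⟨k, hk, hbk⟩ := hb
          obtain ⟨c, hck, hc⟩ := hhigh k hk b hbk
          change q * algebraMap A K b ∈ N
          have hqb : q * algebraMap A K b = algebraMap A K c := by
            rw [div_mul_eq_mul_div, div_eq_iff ht₀K, ← map_mul, ← map_mul, mul_comm, hc]
          rw [hqb]
          exact Submodule.mem_map_of_mem (Ideal.subset_span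
            (Set.mem_biUnion (show k + d ∈ Set.Ici M from le_trans hk (Nat.le_add_right k d)) hck))
        intro n hn
        exact hle hn
      have hint' : IsIntegral A q := isIntegral_of_smul_mem_submodule N hN hNfg q hqN
      obtain ⟨b, hb⟩ := IsIntegrallyClosed.algebraMap_eq_of_integral hint'
      have hbt : b * t₀ = a₀ := by
        apply hinjK
        rw [map_mul, hb]
        exact div_mul_cancel₀ _ ht₀K
      apply hfin (DirectSum.decompose 𝒜 b d : A) (SetLike.coe_mem _)
      rw [← DirectSum.coe_decompose_mul_add_of_right_mem 𝒜 (ht η), hbt]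
      have hmem : a₀ ∈ 𝒜 (d + j η) := by
        rw [add_comm, ← hdeg']
        exact ha η
      exact DirectSum.decompose_of_mem_same 𝒜 hmem

end Groth.Agent.S10908
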