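import Groth.Statements.S2091
import Groth.Agent.S2116
import Groth.Agent.S2451
import Groth.Agent.Lib.Helper50.GeomReduced
import Mathlib

set_option autoImplicit false
universe u
open CAlg

namespace Groth.Agent.S2091

open IsLocalRing TensorProduct

theorem isGeometricallyReduced_of_perfectField (k K : Type u) [Field k] [PerfectField k]
    [Field K] [Algebra k K] : Algebra.IsGeometricallyReduced k K := by
  apply Groth.Agent.Lib.Helper50.isGeometricallyReduced_of_forall_finite_isPurelyInseparable
  intro k' _ _ _ _
  have hsep : Algebra.IsSeparable k k' := Algebra.IsAlgebraic.isSeparable_of_perfectField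
  have hsurj : Function.Surjective (algebraMap k k') :=
    IsPurelyInseparable.surjective_algebraMap_of_isSeparable k k'
  have hbij : Function.Bijective (algebraMap k k') := ⟨(algebraMap k k').injective, hsurj⟩
  let e : k ≃ₐ[k] k' := AlgEquiv.ofBijective (Algebra.ofId k k') hbij
  let e' : k' ⊗[k] K ≃ₐ[k] K :=
    (Algebra.TensorProduct.congr e.symm AlgEquiv.refl).trans (Algebra.TensorProduct.lid k K)
  exact isReduced_of_injective e' e'.injective

theorem formallySmooth_of_perfectField (k K : Type u) [Field k] [PerfectField k]
    [Field K] [Algebra k K] : Algebra.FormallySmooth k K :=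
  Groth.Agent.S2451.result.mpr (isGeometricallyReduced_of_perfectField k K)

/-- Let `k` be a field of characteristic zero, `S` of finite type over `k` and `𝔮` a prime of `S`.
Smoothness of `S` over `k` at `𝔮` is equivalent to regularity of the local ring `S_𝔮`. -/
theorem result {k S : Type u} [Field k] [CharZero k] [CommRing S] [Algebra k S]
    [Algebra.FiniteType k S] (q : Ideal S) [q.IsPrime] :
    Algebra.IsSmoothAt k q ↔ IsRegularLocalRing (Localization.AtPrime q) := by
  constructor
  · intro h
    exact Groth.Agent.S2116.isRegularLocalRing_of_isSmoothAt k S q h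
  · intro h
    have : Algebra.FormallySmooth k q.ResidueField := formallySmooth_of_perfectField _ _
    exact Groth.Agent.S2116.formallySmooth_of_isRegularLocalRing k S q

end Groth.Agent.S2091
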