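import Groth.Statements.S11311
import Groth.Agent.S2116
import Groth.Agent.S2091
import Mathlib

set_option autoImplicit false
universe u
open CAlg

namespace Groth.Agent.S11311

open IsLocalRing TensorProduct KaehlerDifferential Groth.Agent.S2116

theorem formallySmooth_core (k : Type u) [Field k] (B : Type u) [CommRing B]
    [Algebra k B] [IsRegularLocalRing B] [Algebra.FormallySmooth k (ResidueField B)]
    {ι : Type u} [Finite ι] (g : MvPolynomial ι k →ₐ[k] B)
    (hg : ∀ b : B, ∃ a s, IsUnit (g s) ∧ b * g s = g a) :
    Algebra.FormallySmooth k B := by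
  let Q : Ideal (MvPolynomial ι k) := (maximalIdeal B).comap g
  have hQ : Q.IsPrime := Ideal.comap_isPrime g (maximalIdeal B)
  let P := Localization.AtPrime Q
  let fP : P →ₐ[k] B := IsLocalization.liftAlgHom (M := Q.primeCompl)
      (f := g) fun x ↦ by
    have hx : g x.1 ∉ maximalIdeal B := x.2
    simpa using hx
  have hf₁ : Function.Surjective fP := by
    intro b
    obtain ⟨a, s, hs, hb⟩ := hg b
    have hsQ : s ∈ Q.primeCompl := by
      show g s ∉ maximalIdeal B
      simpa using hs
    refine ⟨IsLocalization.mk' (M := Q.primeCompl) _ a ⟨s, hsQ⟩, ?_⟩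
    apply hs.mul_left_injective
    simp only
    rw [hb]
    have h1 : fP (IsLocalization.mk' P a ⟨s, hsQ⟩) * fP (algebraMap _ P s) =
        fP (algebraMap _ P a) := by
      rw [← map_mul]
      congr 1
      exact IsLocalization.mk'_spec (M := Q.primeCompl) P a ⟨s, hsQ⟩
    have h2 : ∀ t : MvPolynomial ι k, fP (algebraMap _ P t) = g t := fun t => by
      simp [fP]
    rw [h2, h2] at h1
    exact h1
  algebraize [fP.toRingHom]
  have : IsScalarTower k P B := .of_algebraMap_eq' fP.comp_algebraMap.symm
  have : Algebra.FormallyEtale (MvPolynomial ι k) P := .of_isLocalization Q.primeCompl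
  have : Algebra.FormallySmooth k P := .comp _ (MvPolynomial ι k) _
  have : Module.Free P Ω[P⁄k] :=
    .of_equiv (KaehlerDifferential.tensorKaehlerEquivOfFormallyEtale k (MvPolynomial ι k) P)
  have : Module.Finite P Ω[P⁄k] :=
    Module.Finite.equiv
      (KaehlerDifferential.tensorKaehlerEquivOfFormallyEtale k (MvPolynomial ι k) P)
  have h₂ : (RingHom.ker (algebraMap P B)).FG := IsNoetherian.noetherian _
  have hsurjPB : Function.Surjective (algebraMap P B) := hf₁
  rw [Algebra.FormallySmooth.iff_injective_cotangentComplexBaseChange_residueField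
    (R := k) (S := B) P hsurjPB h₂]
  -- regularity of P and generators of the kernel
  have hregP : IsRegularLocalRing P := IsRegularRing.isRegularLocalRing_localization Q
  let I : Ideal P := RingHom.ker (algebraMap P B)
  have hregQ : IsRegularLocalRing (P ⧸ I) :=
    IsRegularLocalRing.of_ringEquiv (RingHom.quotientKerEquivOfSurjective hsurjPB).symm
  have hd : ringKrullDim P = ((maximalIdeal P).spanFinrank : ℕ) :=
    (IsRegularLocalRing.spanFinrank_maximalIdeal (R := P)).symm
  obtain ⟨x, c, hc, hxspan, hI⟩ :=
    Groth.Agent.Lib.Helper85.exists_generators_of_quotient_regular _ hd I hregQ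
  -- the residue field
  let κ := ResidueField B
  have hsurjκ : Function.Surjective (algebraMap P κ) := by
    rw [IsScalarTower.algebraMap_eq P B κ]
    exact (residue_surjective (R := B)).comp hsurjPB
  have hJ : RingHom.ker (algebraMap P κ) = maximalIdeal P := by
    have hmax : (RingHom.ker (algebraMap P κ)).IsMaximal :=
      RingHom.ker_isMaximal_of_surjective _ hsurjκ
    exact IsLocalRing.eq_maximalIdeal hmax
  have hsmκ : Algebra.FormallySmooth k κ := ‹Algebra.FormallySmooth k (ResidueField B)›
  obtain ⟨l, hl⟩ := (Algebra.FormallySmooth.iff_split_injection (R := k) (P := P) (A := κ)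
    hsurjκ).mp hsmκ
  have hIJ : I ≤ RingHom.ker (algebraMap P κ) := by
    intro y hy
    rw [RingHom.mem_ker, IsScalarTower.algebraMap_apply P B κ, (RingHom.mem_ker).mp hy, map_zero]
  rw [injective_iff_map_eq_zero]
  intro z hz
  have hrep : ∀ z : κ ⊗[P] I, ∃ y : I, z = (1 : κ) ⊗ₜ[P] y := by
    intro z
    induction z using TensorProduct.induction_on with
    | zero => exact ⟨0, (TensorProduct.tmul_zero _ _).symm⟩
    | tmul a y =>
      obtain ⟨p, rfl⟩ := hsurjκ a
      refine ⟨p • y, ?_⟩
      rw [TensorProduct.tmul_smul, TensorProduct.smul_tmul', Algebra.smul_def, mul_one]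
    | add z z' h h' =>
      obtain ⟨y, rfl⟩ := h
      obtain ⟨y', rfl⟩ := h'
      exact ⟨y + y', (TensorProduct.tmul_add _ _ _).symm⟩
  obtain ⟨y, rfl⟩ := hrep z
  rw [cotangentComplexBaseChange_tmul, one_smul, kerToTensor_apply] at hz
  have hyJ : (y : P) ∈ RingHom.ker (algebraMap P κ) := hIJ y.2
  have h1 : kerCotangentToTensor k P κ
      ((RingHom.ker (algebraMap P κ)).toCotangent ⟨y, hyJ⟩) = 0 := by
    rw [kerCotangentToTensor_toCotangent]; exact hz
  have h2 : (RingHom.ker (algebraMap P κ)).toCotangent ⟨y, hyJ⟩ = 0 := by
    have := congrArg l h1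
    rwa [← LinearMap.comp_apply, hl, LinearMap.id_apply, map_zero] at this
  rw [Ideal.toCotangent_eq_zero] at h2
  replace h2 : (y : P) ∈ maximalIdeal P ^ 2 := hJ ▸ h2
  have hy : (y : P) ∈ Ideal.span (Set.range (fun i : Fin c => x (Fin.castLE hc i))) := hI ▸ y.2
  obtain ⟨cf, hcf⟩ := Ideal.mem_span_range_iff_exists_fun.mp hy
  have hcm : ∀ i, cf i ∈ maximalIdeal P :=
    mem_maximalIdeal_of_sum_mem_sq hd x hxspan (Fin.castLE hc) (Fin.castLE_injective hc) cf
      (hcf ▸ h2)
  have hxi : ∀ i : Fin c, x (Fin.castLE hc i) ∈ I := fun i => by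
    rw [hI]; exact Ideal.subset_span ⟨i, rfl⟩
  have hy' : y = ∑ i, cf i • (⟨x (Fin.castLE hc i), hxi i⟩ : I) := by
    ext; simp [← hcf]
  rw [hy', TensorProduct.tmul_sum]
  refine Finset.sum_eq_zero fun i _ => ?_
  rw [TensorProduct.tmul_smul, TensorProduct.smul_tmul', Algebra.smul_def, mul_one]
  have : algebraMap P κ (cf i) = 0 := by
    rw [← RingHom.mem_ker, hJ]; exact hcm i
  rw [this, TensorProduct.zero_tmul]


theorem cotangent_bijective (k B : Type u) [Field k] [CommRing B] [Algebra k B] [IsLocalRing B]
    (hres : Function.Bijective (algebraMap k (ResidueField B))) :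
    Function.Bijective (kerCotangentToTensor k B (ResidueField B)) := by
  let κ := ResidueField B
  have hsurj : Function.Surjective (algebraMap B κ) := residue_surjective
  constructor
  · let e : k ≃ₐ[k] κ := AlgEquiv.ofBijective (Algebra.ofId k κ) hres
    let g : κ →ₐ[k] B ⧸ RingHom.ker (IsScalarTower.toAlgHom k B κ).toRingHom ^ 2 :=
      (Algebra.ofId k _).comp e.symm.toAlgHom
    have hg : (IsScalarTower.toAlgHom k B κ).kerSquareLift.comp g = AlgHom.id k κ := by
      apply AlgHom.ext
      intro c
      obtain ⟨a, rfl⟩ := e.surjective c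
      simp [g, e]
    obtain ⟨l, hl⟩ := (retractionKerCotangentToTensorEquivSection (R := k) hsurj).symm ⟨g, hg⟩
    exact Function.HasLeftInverse.injective ⟨l, LinearMap.congr_fun hl⟩
  · have hex := exact_kerCotangentToTensor_mapBaseChange k B κ hsurj
    have : Subsingleton Ω[κ⁄k] := subsingleton_of_surjective k κ hres.2
    intro y
    exact (hex y).mp (Subsingleton.elim _ _)

noncomputable def cotangentEquivOfEq {R : Type*} [CommRing R] (I J : Ideal R) (h : I = J) :
    I.Cotangent ≃ₗ[R] J.Cotangent := by
  subst h; exact LinearEquiv.refl _ _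

theorem finrank_cotangentSpace_eq (k B : Type u) [Field k] [CommRing B] [Algebra k B]
    [IsLocalRing B] (hres : Function.Bijective (algebraMap k (ResidueField B))) :
    Module.finrank (ResidueField B) (CotangentSpace B) =
      Module.finrank (ResidueField B) (ResidueField B ⊗[B] Ω[B⁄k]) := by
  have hker : RingHom.ker (algebraMap B (ResidueField B)) = maximalIdeal B := ker_residue
  let Ψ : CotangentSpace B ≃ₗ[B] ResidueField B ⊗[B] Ω[B⁄k] :=
    (cotangentEquivOfEq (maximalIdeal B) (RingHom.ker (algebraMap B (ResidueField B)))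
      hker.symm).trans (LinearEquiv.ofBijective _ (cotangent_bijective k B hres))
  exact (LinearEquiv.extendScalarsOfSurjective (residue_surjective (R := B)) Ψ).finrank_eq

/-- Let k be a field and B a local ring containing k whose residue field is k (the composite k → B → B/m
is bijective), and which is a localization of a finitely generated k-algebra (essentially of finite
type over k); let d = dim B. If the module of differentials Ω_{B/k} is free of rank d then B is a
regular local ring. Conversely, if k is perfect and B is a regular local ring, then Ω_{B/k} is free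
of rank d. (The published statement assumes k perfect as one of its hypotheses and asserts the
equivalence; its proof of the first implication does not use perfectness, so that hypothesis is
placed on the converse only.) -/
theorem result (k B : Type u) [Field k] [CommRing B] [Algebra k B]
    [IsLocalRing B] [Algebra.EssFiniteType k B]
    (hres : Function.Bijective (algebraMap k (IsLocalRing.ResidueField B)))
    (d : ℕ) (hd : ringKrullDim B = (d : WithBot ℕ∞)) :
    ((Module.Free B (KaehlerDifferential k B) ∧ Module.finrank B (KaehlerDifferential k B) = d) →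
        IsRegularLocalRing B) ∧
      (PerfectField k → IsRegularLocalRing B →
        Module.Free B (KaehlerDifferential k B) ∧ Module.finrank B (KaehlerDifferential k B) = d) := by
  have hN : IsNoetherianRing B := Algebra.EssFiniteType.isNoetherianRing k B
  have hfr := finrank_cotangentSpace_eq k B hres
  constructor
  · rintro ⟨hfree, hrank⟩
    rw [IsRegularLocalRing.iff_finrank_cotangentSpace, hfr, Module.finrank_baseChange, hrank, hd]
  · intro _ hreg
    have hsmκ : Algebra.FormallySmooth k (ResidueField B) :=
      formallySmooth_of_bijective _ _ hres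
    obtain ⟨σ, hσ⟩ := (Algebra.essFiniteType_iff k B).mp inferInstance
    let g : MvPolynomial σ k →ₐ[k] B := MvPolynomial.aeval (fun s : σ => (s : B))
    have hrange : g.range = Algebra.adjoin k (σ : Set B) := by
      rw [← Algebra.adjoin_range_eq_range_aeval]
      simp
    have hg : ∀ b, ∃ a s, IsUnit (g s) ∧ b * g s = g a := by
      intro b
      obtain ⟨t, ht, htu, hbt⟩ := hσ b
      rw [← hrange] at ht hbt
      obtain ⟨s, rfl⟩ := ht
      obtain ⟨a, ha⟩ := hbt
      exact ⟨a, s, htu, ha.symm⟩
    have hsm : Algebra.FormallySmooth k B := formallySmooth_core k B g hg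
    have hfree : Module.Free B Ω[B⁄k] := Module.free_of_flat_of_isLocalRing
    refine ⟨hfree, ?_⟩
    have h1 := (IsRegularLocalRing.iff_finrank_cotangentSpace B).mp hreg
    rw [hfr, Module.finrank_baseChange, hd] at h1
    exact_mod_cast h1

end Groth.Agent.S11311
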