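import Groth.Statements.S10909
import Groth.Agent.S2116
import Groth.Agent.S2091
import Groth.Agent.S11311
import Groth.Agent.S10910
import Groth.Agent.S2680
import Groth.Agent.Lib.Helper73.RegularRing
import Mathlib

set_option autoImplicit false
universe u
open TensorProduct
open SmVar

namespace Groth.Agent.S10909

open KaehlerDifferential IsLocalRing

/-- order isomorphism of spectra for the quotient by the nilradical -/
noncomputable def specQuotNilEquiv (A : Type u) [CommRing A] :
    PrimeSpectrum (A ⧸ nilradical A) ≃o PrimeSpectrum A :=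
  (Ideal.primeSpectrumQuotientOrderIsoZeroLocus (nilradical A)).trans
    ((OrderIso.setCongr _ _ (by
      ext p
      simp only [PrimeSpectrum.mem_zeroLocus, Set.mem_univ, iff_true]
      exact nilradical_le_prime p.asIdeal)).trans OrderIso.Set.univ)

theorem ringKrullDim_localization_maximal (k A : Type u) [Field k] [CommRing A] [Algebra k A]
    [Algebra.FiniteType k A] (hirr : (nilradical A).IsPrime) (m : Ideal A) [hm : m.IsMaximal] :
    ringKrullDim (Localization.AtPrime m) = ringKrullDim A := by
  let A' := A ⧸ nilradical A
  have : IsDomain A' := Ideal.Quotient.isDomain (nilradical A)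
  obtain ⟨n, -, hdim, hmax⟩ := Groth.Agent.S2680.result k A'
  let e := specQuotNilEquiv A
  have hdimA : ringKrullDim A = n := by
    rw [← hdim]
    exact (Order.krullDim_eq_of_orderIso e).symm
  rw [hdimA]
  let x : PrimeSpectrum A := ⟨m, hm.isPrime⟩
  let x' : PrimeSpectrum A' := e.symm x
  have hx'max : x'.asIdeal.IsMaximal := by
    rw [← PrimeSpectrum.isMax_iff, ← e.isMax_apply]
    simp only [x', OrderIso.apply_symm_apply]
    exact PrimeSpectrum.isMax_iff.mpr hm
  have h1 := hmax x'.asIdeal
  rw [IsLocalization.AtPrime.ringKrullDim_eq_height x'.asIdeal,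
    PrimeSpectrum.height_eq_orderHeight] at h1
  rw [IsLocalization.AtPrime.ringKrullDim_eq_height m (Localization.AtPrime m)]
  have h2 : m.height = Order.height x := PrimeSpectrum.height_eq_orderHeight x
  rw [h2, ← h1]
  congr 1
  rw [← Order.height_orderIso e x']
  simp [x']

theorem bijective_algebraMap_residueField (k A : Type u) [Field k] [IsAlgClosed k] [CommRing A]
    [Algebra k A] [Algebra.FiniteType k A] (m : Ideal A) [m.IsMaximal] :
    Function.Bijective (algebraMap k m.ResidueField) := by
  let _ : Field (A ⧸ m) := Ideal.Quotient.field m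
  have hfin : Module.Finite k (A ⧸ m) := finite_of_finite_type_of_isJacobsonRing k (A ⧸ m)
  have hb1 : Function.Bijective (algebraMap k (A ⧸ m)) :=
    IsAlgClosed.algebraMap_bijective_of_isIntegral
  have hb2 : Function.Bijective (algebraMap (A ⧸ m) m.ResidueField) :=
    Ideal.bijective_algebraMap_quotient_residueField m
  rw [IsScalarTower.algebraMap_eq k (A ⧸ m) m.ResidueField]
  exact hb2.comp hb1

theorem finrank_cotangentSpace_localization (k A : Type u) [Field k] [IsAlgClosed k] [CommRing A]
    [Algebra k A] [Algebra.FiniteType k A] (m : Ideal A) [m.IsMaximal] :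
    Module.finrank m.ResidueField (CotangentSpace (Localization.AtPrime m)) =
      Module.finrank m.ResidueField (m.ResidueField ⊗[A] Ω[A⁄k]) := by
  let B := Localization.AtPrime m
  let κ := m.ResidueField
  have hres := bijective_algebraMap_residueField k A m
  rw [Groth.Agent.S11311.finrank_cotangentSpace_eq k B hres]
  have : Algebra.FormallyEtale A B := .of_isLocalization m.primeCompl
  let e1 : B ⊗[A] Ω[A⁄k] ≃ₗ[B] Ω[B⁄k] :=
    KaehlerDifferential.tensorKaehlerEquivOfFormallyEtale k A B
  let e2 : κ ⊗[B] (B ⊗[A] Ω[A⁄k]) ≃ₗ[κ] κ ⊗[A] Ω[A⁄k] :=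
    AlgebraTensorModule.cancelBaseChange A B κ κ Ω[A⁄k]
  let e3 : κ ⊗[B] (B ⊗[A] Ω[A⁄k]) ≃ₗ[κ] κ ⊗[B] Ω[B⁄k] :=
    AlgebraTensorModule.congr (LinearEquiv.refl κ κ) e1
  exact (e3.symm.trans e2).finrank_eq

/-- Let k be an algebraically closed field and A a k-algebra of finite type with irreducible spectrum
(the nilradical of A is prime) and Krull dimension n; X = Spec A is then an irreducible separated
k-scheme of finite type of dimension n. Then X is a nonsingular variety — A is reduced and every
localization of A at a prime is a regular local ring — if and only if the module of Kähler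
differentials Ω_{A/k} is locally free of rank n: projective, with fibre κ(P) ⊗_A Ω_{A/k} of
dimension n at every prime P. -/
theorem result (k : Type u) [Field k]
    [IsAlgClosed k] (A : Type u) [CommRing A] [Algebra k A] [Algebra.FiniteType k A]
    (hirr : (nilradical A).IsPrime) (n : ℕ) (hn : ringKrullDim A = n) :
    (IsReduced A ∧ IsRegularRing A) ↔
      (Module.Projective A (Ω[A⁄k]) ∧
        ∀ (P : Ideal A) [P.IsPrime],
          Module.finrank P.ResidueField (P.ResidueField ⊗[A] Ω[A⁄k]) = n) := by
  have hN : IsNoetherianRing A := Algebra.FiniteType.isNoetherianRing k A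
  have key : ∀ (m : Ideal A) [m.IsMaximal], IsRegularLocalRing (Localization.AtPrime m) ↔
      Module.finrank m.ResidueField (m.ResidueField ⊗[A] Ω[A⁄k]) = n := by
    intro m _
    rw [IsRegularLocalRing.iff_finrank_cotangentSpace,
      ringKrullDim_localization_maximal k A hirr m, hn,
      finrank_cotangentSpace_localization k A m]
    exact Nat.cast_inj
  constructor
  · rintro ⟨hred, hreg⟩
    have hsm : Algebra.FormallySmooth k A :=
      (Groth.Agent.S10910.isRegularRing_iff_formallySmooth k A).mp hreg
    have hproj : Module.Projective A Ω[A⁄k] := inferInstance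
    refine ⟨hproj, ?_⟩
    intro P hP
    obtain ⟨m, hm, hPm⟩ := Ideal.exists_le_maximal P hP.ne_top
    have h1 := (key m).mp (IsRegularRing.isRegularLocalRing_localization m)
    have h2 := Module.rankAtStalk_eq_of_le_of_finite_of_flat' Ω[A⁄k] hPm
    rw [← h1]
    show Module.finrank P.ResidueField (P.Fiber Ω[A⁄k]) =
      Module.finrank m.ResidueField (m.Fiber Ω[A⁄k])
    rw [Ideal.finrank_fiber_eq_rankAtStalk, Ideal.finrank_fiber_eq_rankAtStalk]
    exact h2
  · rintro ⟨hproj, hrank⟩
    have hregm : ∀ (m : Ideal A) [m.IsMaximal], IsRegularLocalRing (Localization.AtPrime m) :=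
      fun m _ => (key m).mpr (hrank m)
    have hreg : IsRegularRing A := Groth.Agent.Lib.Helper73.RegularRing.isRegularRing_of_maximal hregm
    refine ⟨?_, hreg⟩
    apply isReduced_ofLocalizationMaximal
    intro m hm
    have := hregm m
    have : IsDomain (Localization.AtPrime m) :=
      Groth.Agent.Lib.Helper85.isDomain_of_isRegularLocalRing _
    infer_instance

end Groth.Agent.S10909
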