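import Groth.Statements.S10911
import Groth.Agent.Lib.Helper21.OrdOpen

set_option autoImplicit false
universe u
open CategoryTheory CategoryTheory.Limits AlgebraicGeometry TopologicalSpace
open WDiv

namespace Groth.Agent.S10911

/-- Let X be an integral Noetherian separated scheme which is regular in codimension 1 (local rings at
points of coheight 1 are discrete valuation rings), z a point of coheight 1 (generic point of a
prime divisor Z), and U the open subscheme complementary to the closure of z. Let D be a Weil
divisor on X, an integer-valued function on its points with finite support inside the points of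
coheight 1. If the restriction of D to U is the divisor of a nonzero rational function on U, then D
differs from an integer multiple of Z by a principal divisor on X: there are an integer m and a
nonzero rational function f on X with ord_z(f) = D(z) − m and ord_x(f) = D(x) for every other point
x of coheight 1. In other words, the sequence ℤ → Cl X → Cl(X − Z), whose first map sends m to the
class of m·Z and whose second map is restriction, is exact at Cl X. -/
theorem result (X : Scheme.{u}) [IsIntegral X]
    [IsNoetherian X] [X.IsSeparated]
    (hR1 : ∀ x : ↥X, Order.coheight x = 1 → IsDiscreteValuationRing ↑(X.presheaf.stalk x))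
    (z : ↥X) (hz : Order.coheight z = 1) (U : X.Opens) (hU : (U : Set ↥X) = (closure {z})ᶜ)
    [Nonempty U]
    (D : ↥X → ℤ) (hD : ∀ x, Order.coheight x ≠ 1 → D x = 0) (hfin : {x | D x ≠ 0}.Finite)
    (g : ↑(U : Scheme.{u}).functionField) (hg : g ≠ 0)
    (h : ∀ u : ↥(U : Scheme.{u}), Order.coheight u = 1 → Scheme.ord g u = D u.1) :
    ∃ (m : ℤ) (f : ↑X.functionField), f ≠ 0 ∧ Scheme.ord f z = D z - m ∧
      ∀ x : ↥X, x ≠ z → Order.coheight x = 1 → Scheme.ord f x = D x := by
  have hι : ∀ u : ↥(U : Scheme.{u}), U.ι u = u.1 := fun _ => rfl
  obtain ⟨f, rfl⟩ := Lib.Helper21.functionFieldMap_surjective U.ι g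
  refine ⟨D z - Scheme.ord f z, f, fun h0 => hg (by rw [h0, map_zero]), by ring, ?_⟩
  intro x hxz hx
  have hxU : x ∈ U := by
    change x ∈ (U : Set ↥X)
    rw [hU]
    intro hmem
    -- `x` is a strict specialization of `z`
    have hzx : z ⤳ x := specializes_iff_mem_closure.mpr hmem
    have hle : x ≤ z := hzx
    have hlt : x < z := by
      refine lt_of_le_not_ge hle (fun hzx' => hxz ?_)
      have hxz' : x ⤳ z := hzx'
      exact (hxz'.antisymm hzx).eq
    have := Order.coheight_add_one_le hlt
    rw [hx, hz] at this
    exact absurd this (by norm_num)
  let u' : ↥(U : Scheme.{u}) := ⟨x, hxU⟩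
  have hu : Order.coheight u' = 1 := by
    rw [← coheight_eq_of_isOpenImmersion U.ι, hι]
    exact hx
  have := h u' hu
  rw [Lib.Helper21.ord_functionFieldMap, hι] at this
  exact this

end Groth.Agent.S10911
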