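import Groth.Statements.S10918
import Groth.Agent.H46.ProjNormal

set_option autoImplicit false
universe u
open CInt

namespace Groth.Agent.S10918

/-- Let k be a field, S = k[x_0, …, x_n], and f_1, …, f_r with r < n homogeneous polynomials of positive
degrees whose ideal J has height r, so that Y = V_+(J) ⊆ P^n_k is a global complete intersection of
dimension n − r ≥ 1 with homogeneous coordinate ring S' = S/J. Suppose Y is normal, expressed on the
affine cone: for every prime ideal Q of S' not containing all the classes of the x_i (every point of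
the cone Spec S' other than the vertex), the localization S'_Q is an integrally closed domain. Then
S' is an integrally closed domain, i.e. Y is projectively normal. -/
theorem result
    (k : Type u) [Field k] (n r : ℕ) (hr : r < n) (f : Fin r → MvPolynomial (Fin (n + 1)) k) (d : Fin r → ℕ)
    (hf : ∀ i, (f i).IsHomogeneous (d i)) (hd : ∀ i, 0 < d i)
    (hJ : (Ideal.span (Set.range f)).height = r)
    (hnorm : ∀ (Q : Ideal (MvPolynomial (Fin (n + 1)) k ⧸ Ideal.span (Set.range f))) [Q.IsPrime],
      (∃ i, Ideal.Quotient.mk (Ideal.span (Set.range f)) (MvPolynomial.X i) ∉ Q) →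
        IsDomain (Localization.AtPrime Q) ∧ IsIntegrallyClosed (Localization.AtPrime Q)) :
    IsDomain (MvPolynomial (Fin (n + 1)) k ⧸ Ideal.span (Set.range f)) ∧
      IsIntegrallyClosed (MvPolynomial (Fin (n + 1)) k ⧸ Ideal.span (Set.range f)) := by
  have key : ∀ (I : Ideal (MvPolynomial (Fin (n + 1)) k)) (hI : I = Ideal.ofList (List.ofFn f)),
      I.height = r →
      (∀ (Q : Ideal (MvPolynomial (Fin (n + 1)) k ⧸ I)) [Q.IsPrime],
        (∃ i, Ideal.Quotient.mk I (MvPolynomial.X i) ∉ Q) →
          IsDomain (Localization.AtPrime Q) ∧ IsIntegrallyClosed (Localization.AtPrime Q)) →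
      IsDomain (MvPolynomial (Fin (n + 1)) k ⧸ I) ∧
        IsIntegrallyClosed (MvPolynomial (Fin (n + 1)) k ⧸ I) := by
    intro I hI hht hnorm'
    subst hI
    refine Groth.Agent.H46.ProjNormal.main f (by omega) hht ?_ hnorm'
    letI := MvPolynomial.gradedAlgebra (σ := Fin (n + 1)) (R := k)
    apply Ideal.homogeneous_span
    intro x hx
    obtain ⟨i, rfl⟩ := (List.mem_ofFn' _ x).mp hx
    exact ⟨d i, (MvPolynomial.mem_homogeneousSubmodule _ _).mpr (hf i)⟩
  exact key _ (Groth.Agent.Lib.Helper82.CIPoly.ofList_ofFn f).symm hJ hnorm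

end Groth.Agent.S10918
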