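import Groth.Statements.S17385
import Groth.Agent.Lib.Helper93.ModPairAmbProd

set_option autoImplicit false
universe u
open BlowUp

namespace Groth.Agent.S17385

open AlgebraicGeometry CategoryTheory Limits TopologicalSpace in
/-- Let X be any scheme, I and J quasi-coherent ideals on X, b : X' → X a blowing up of X in I, Z ⊆ X
the closed subscheme of J, b' : Z' → Z a blowing up of Z in the inverse image ideal I·O_Z, and k :
Z' → X' the morphism with k ≫ b = b' ≫ (Z → X) (it exists and is unique by the universal property).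
Then k is a closed immersion (its image is the strict transform of Z); writing U for the open
complement of the support of I and W ⊆ Z' for the preimage of U, the restriction W → X' of k is an
affine morphism, and its scheme-theoretic image is the whole image of k: the kernel ideal sheaf of W
→ X' equals that of k. No Noetherian or finite-type hypothesis is needed. -/
theorem result
    {X X' Z' : Scheme.{u}} (𝓘 𝓙 : X.IdealSheafData) (b : X' ⟶ X) (hb : BlowUp.IsBlowUp b 𝓘)
    (b' : Z' ⟶ 𝓙.subscheme) (hb' : BlowUp.IsBlowUp b' (𝓘.comap 𝓙.subschemeι))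
    (k : Z' ⟶ X') (hk : k ≫ b = b' ≫ 𝓙.subschemeι) :
    IsClosedImmersion k ∧
      IsAffineHom ((k ⁻¹ᵁ (b ⁻¹ᵁ 𝓘.support.compl)).ι ≫ k) ∧
      ((k ⁻¹ᵁ (b ⁻¹ᵁ 𝓘.support.compl)).ι ≫ k).ker = k.ker := by
  classical
  -- notation
  set ι := 𝓙.subschemeι with hι
  have hE : BlowUp.IsEffCartierIdeal (𝓘.comap b) := hb.1
  have hE' : BlowUp.IsEffCartierIdeal (𝓘.comap (k ≫ b)) := by
    rw [hk, Scheme.IdealSheafData.comap_comp]
    exact hb'.1
  -- the strict transform as a scheme-theoretic closure inside `X' ×_X Z`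
  let UP : (pullback b ι).Opens := pullback.fst b ι ⁻¹ᵁ ModPair.interior (𝓘.comap b)
  have hqcUP : QuasiCompact UP.ι :=
    Groth.Agent.Lib.Helper93.ModPairInterior.quasiCompact_ι_preimage_interior _ hE _
  let j := UP.ι.imageι
  let c : UP.ι.image ⟶ X' := j ≫ pullback.fst b ι
  let d : UP.ι.image ⟶ 𝓙.subscheme := j ≫ pullback.snd b ι
  have hcd : c ≫ b = d ≫ ι := by
    simp only [c, d, Category.assoc, pullback.condition]
  -- A1: the inverse image ideal on the strict transform is effective Cartier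
  have hcomap_d : (𝓘.comap ι).comap d = (𝓘.comap b).comap c := by
    rw [← Scheme.IdealSheafData.comap_comp, ← Scheme.IdealSheafData.comap_comp, hcd]
  have hA1 : BlowUp.IsEffCartierIdeal ((𝓘.comap ι).comap d) := by
    rw [hcomap_d]
    have hdom : IsSchemeTheoreticallyDominant (c ⁻¹ᵁ ModPair.interior (𝓘.comap b)).ι :=
      Groth.Agent.Lib.Helper93.ModPairProd.isSchemeTheoreticallyDominant_ι_preimage_imageι UP
    exact Groth.Agent.Lib.Helper93.ModPairProd.isEffCartierIdeal_comap_of_dominant _ hE c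
  -- A2: universal property of the strict transform
  have hA2 : ∀ (T : Scheme.{u}) (g : T ⟶ 𝓙.subscheme),
      BlowUp.IsEffCartierIdeal ((𝓘.comap ι).comap g) → ∃! h : T ⟶ UP.ι.image, h ≫ d = g := by
    intro T g hg
    have hg' : BlowUp.IsEffCartierIdeal (𝓘.comap (g ≫ ι)) := by
      rw [Scheme.IdealSheafData.comap_comp]; exact hg
    obtain ⟨h₀, hh₀, hh₀uniq⟩ := hb.2 T (g ≫ ι) hg'
    let θ : T ⟶ pullback b ι := pullback.lift h₀ g hh₀
    have hθ1 : θ ≫ pullback.fst b ι = h₀ := pullback.lift_fst _ _ _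
    have hθ2 : θ ≫ pullback.snd b ι = g := pullback.lift_snd _ _ _
    have hdomT : IsSchemeTheoreticallyDominant (ModPair.interior (𝓘.comap (g ≫ ι))).ι :=
      Groth.Agent.Lib.Helper93.ModPairInterior.isSchemeTheoreticallyDominant_ι_interior _ hg'
    have hle : ModPair.interior (𝓘.comap (g ≫ ι)) ≤ θ ⁻¹ᵁ UP := by
      rw [Groth.Agent.Lib.Helper93.ModPairAmbProd.interior_comap, ← hh₀]
      intro y hy
      change pullback.fst b ι (θ y) ∈ ModPair.interior (𝓘.comap b)
      rw [Groth.Agent.Lib.Helper93.ModPairAmbProd.interior_comap, ← Scheme.Hom.comp_apply, hθ1]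
      exact hy
    have hker : j.ker ≤ θ.ker :=
      Groth.Agent.Lib.Helper93.ModPairAmbProd.ker_imageι_le_of_dominant UP θ _ hle
    refine ⟨IsClosedImmersion.lift j θ hker, ?_, ?_⟩
    · change IsClosedImmersion.lift j θ hker ≫ j ≫ pullback.snd b ι = g
      rw [← Category.assoc, IsClosedImmersion.lift_fac, hθ2]
    · intro h' hh'
      rw [← cancel_mono j, IsClosedImmersion.lift_fac]
      apply pullback.hom_ext
      · rw [hθ1]
        apply hh₀uniq
        rw [Category.assoc, Category.assoc, pullback.condition, ← Category.assoc,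
          ← Category.assoc, Category.assoc h' j]
        exact congrArg (· ≫ ι) hh'
      · rw [hθ2, Category.assoc]
        exact hh'
  -- B: the two blow-ups of `Z` are isomorphic
  obtain ⟨u, hu, -⟩ := hb'.2 _ d hA1
  obtain ⟨v, hv, -⟩ := hA2 _ b' hb'.1
  have hvu : v ≫ u = 𝟙 _ := by
    obtain ⟨w, -, hw⟩ := hb'.2 _ b' hb'.1
    rw [hw (v ≫ u) (by change (v ≫ u) ≫ b' = b'; rw [Category.assoc, hu, hv]),
      hw (𝟙 _) (Category.id_comp _)]
  have huv : u ≫ v = 𝟙 _ := by
    obtain ⟨w, -, hw⟩ := hA2 _ d hA1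
    rw [hw (u ≫ v) (by change (u ≫ v) ≫ d = d; rw [Category.assoc, hv, hu]),
      hw (𝟙 _) (Category.id_comp _)]
  have hviso : IsIso v := ⟨u, hvu, huv⟩
  have hkvc : k = v ≫ c := by
    obtain ⟨w, -, hw⟩ := hb.2 _ (k ≫ b) hE'
    rw [hw k rfl, hw (v ≫ c) (by
      change (v ≫ c) ≫ b = k ≫ b
      rw [Category.assoc, hcd, ← Category.assoc, hv, hk])]
  have hkcl : IsClosedImmersion k := by
    rw [hkvc]
    infer_instance
  -- the open `W` is the interior of the exceptional divisor of `b'`
  have hW : k ⁻¹ᵁ (b ⁻¹ᵁ 𝓘.support.compl) = ModPair.interior (𝓘.comap (k ≫ b)) := by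
    rw [Groth.Agent.Lib.Helper93.ModPairAmbProd.interior_comap]
    rfl
  refine ⟨hkcl, ?_, ?_⟩
  · rw [hW]
    have := Groth.Agent.Lib.Helper93.ModPairInterior.isAffineHom_ι_interior _ hE'
    infer_instance
  · rw [hW, Scheme.Hom.ker_comp]
    have := Groth.Agent.Lib.Helper93.ModPairInterior.isSchemeTheoreticallyDominant_ι_interior _ hE'
    rw [IsSchemeTheoreticallyDominant.ker_eq_bot (ModPair.interior (𝓘.comap (k ≫ b))).ι,
      Scheme.IdealSheafData.map_bot]

end Groth.Agent.S17385
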