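import Groth.Statements.S10920
import Groth.Agent.S17385

set_option autoImplicit false
universe u
open CategoryTheory AlgebraicGeometry
open SDiv

namespace Groth.Agent.S10920

/-- Let X be a Noetherian scheme, I a quasi-coherent ideal sheaf on X, f : Y → X a closed immersion, b :
X' → X a blowing up of X in I and b' : Y' → Y a blowing up of Y in the inverse image ideal sheaf
I·O_Y (blow-ups in the sense of the universal property: the inverse image ideal becomes effective
Cartier, universally). If f' : Y' → X' is the morphism compatible with the blow-ups, b ∘ f' = f ∘ b'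
(it exists and is unique by the universal property), then f' is a closed immersion; Y' is the strict
transform of Y. -/
theorem result {X Y X' Y' : Scheme.{u}} [IsNoetherian X]
    (𝓘 : X.IdealSheafData) (f : Y ⟶ X) [IsClosedImmersion f]
    (b : X' ⟶ X) (hb : BlowUp.IsBlowUp b 𝓘) (b' : Y' ⟶ Y) (hb' : BlowUp.IsBlowUp b' (𝓘.comap f))
    (f' : Y' ⟶ X') (hf' : f' ≫ b = b' ≫ f) : IsClosedImmersion f' := by
  have hiso : IsIso f.toImage := inferInstance
  let e := asIso f.toImage
  have hfac : f.toImage ≫ f.ker.subschemeι = f := f.toImage_imageι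
  have hcomapf : 𝓘.comap f = (𝓘.comap f.ker.subschemeι).comap f.toImage := by
    rw [← Scheme.IdealSheafData.comap_comp, hfac]
  have hb'' : BlowUp.IsBlowUp (b' ≫ f.toImage) (𝓘.comap f.ker.subschemeι) := by
    refine ⟨?_, ?_⟩
    · rw [Scheme.IdealSheafData.comap_comp, ← hcomapf]
      exact hb'.1
    · intro T g hg
      have hg' : BlowUp.IsEffCartierIdeal ((𝓘.comap f).comap (g ≫ inv f.toImage)) := by
        rw [hcomapf, ← Scheme.IdealSheafData.comap_comp, Category.assoc, IsIso.inv_hom_id,
          Category.comp_id]
        exact hg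
      obtain ⟨h, hh, huniq⟩ := hb'.2 T (g ≫ inv f.toImage) hg'
      refine ⟨h, ?_, ?_⟩
      · change h ≫ b' ≫ f.toImage = g
        rw [← Category.assoc, hh, Category.assoc, IsIso.inv_hom_id, Category.comp_id]
      · intro h' hh'
        apply huniq
        change h' ≫ b' = g ≫ inv f.toImage
        rw [← hh', Category.assoc, Category.assoc, IsIso.hom_inv_id, Category.comp_id]
  have hk : f' ≫ b = (b' ≫ f.toImage) ≫ f.ker.subschemeι := by
    rw [Category.assoc, hfac, hf']
  exact (Groth.Agent.S17385.result 𝓘 f.ker b hb (b' ≫ f.toImage) hb'' f' hk).1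

end Groth.Agent.S10920
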