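import Groth.Statements.S10929
import Mathlib

set_option autoImplicit false
universe u
open CategoryTheory CategoryTheory.Limits AlgebraicGeometry
open Variety

namespace Groth.Agent.S10929

/-- The stalk map at the generic point of a dominant, locally finite type morphism of integral
schemes, whose target has function field of characteristic zero, is formally smooth. -/
theorem genericPoint_mem_smoothLocus {X Y : Scheme.{u}} [IsIntegral X] [IsIntegral Y]
    (f : X ⟶ Y) [LocallyOfFinitePresentation f] (hdom : DenseRange f.base)
    (hchar : CharZero (Y.presheaf.stalk (f (genericPoint X)))) :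
    genericPoint X ∈ f.smoothLocus := by
  have hess := LocallyOfFiniteType.stalkMap f (genericPoint X)
  rw [Scheme.Hom.mem_smoothLocus]
  algebraize [(f.stalkMap (genericPoint X)).hom]
  have hcl : closure {f (genericPoint X)} ∈ irreducibleComponents Y := by
    have h1 : closure {f (genericPoint X)} = Set.univ := by
      have := (genericPoint_spec X).image f.continuous
      rw [isGenericPoint_def] at this
      rw [this, Set.image_univ]
      exact hdom.closure_range
    rw [h1, irreducibleComponents_eq_singleton]
    rfl
  have hF := isField_stalk_of_closure_mem_irreducibleComponents Y (f (genericPoint X)) hcl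
  let _ : Field (Y.presheaf.stalk (f (genericPoint X))) := hF.toField
  have : CharZero (Y.presheaf.stalk (f (genericPoint X))) := hchar
  have : PerfectField (Y.presheaf.stalk (f (genericPoint X))) := PerfectField.ofCharZero
  let _ : Field (X.presheaf.stalk (genericPoint X)) :=
    inferInstanceAs (Field X.functionField)
  exact Algebra.FormallySmooth.of_perfectField

/-- Let k be an algebraically closed field of characteristic zero, X and Y integral schemes of finite
type over k and f : X → Y a dominant k-morphism. Then there is a nonempty open subscheme U of X such
that f restricted to U is a smooth morphism U → Y. -/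
theorem result (k : Type u) [Field k] [IsAlgClosed k] [CharZero k]
    {X Y : Scheme.{u}} (qX : X ⟶ Spec (CommRingCat.of k)) (qY : Y ⟶ Spec (CommRingCat.of k))
    [LocallyOfFiniteType qX] [QuasiCompact qX] [LocallyOfFiniteType qY] [QuasiCompact qY]
    [IsIntegral X] [IsIntegral Y] (f : X ⟶ Y) (hf : f ≫ qY = qX) (hdom : DenseRange f.base) :
    ∃ U : X.Opens, (U : Set ↥X).Nonempty ∧ Smooth (U.ι ≫ f) := by
  have hft : LocallyOfFiniteType f := by
    have : LocallyOfFiniteType (f ≫ qY) := by rw [hf]; infer_instance
    exact locallyOfFiniteType_of_comp f qY
  have : IsLocallyNoetherian Y := LocallyOfFiniteType.isLocallyNoetherian qY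
  have : LocallyOfFinitePresentation f := inferInstance
  refine ⟨f.smoothLocus, ⟨genericPoint X, ?_⟩, ?_⟩
  · apply genericPoint_mem_smoothLocus f hdom
    let φ : k →+* Y.presheaf.stalk (f (genericPoint X)) :=
      ((Scheme.ΓSpecIso (CommRingCat.of k)).inv ≫ qY.appTop ≫
        Y.presheaf.germ ⊤ (f (genericPoint X)) trivial).hom
    exact charZero_of_injective_ringHom φ.injective
  · rw [← Scheme.Hom.smoothLocus_eq_top_iff, ← Scheme.Hom.preimage_smoothLocus_eq]
    simp

end Groth.Agent.S10929
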