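import Groth.Statements.S10930
import Mathlib
import Groth.Agent.S7776
import Groth.Agent.S1535

set_option autoImplicit false
universe u
open CategoryTheory CategoryTheory.Limits AlgebraicGeometry
open Variety

namespace Groth.Agent.S10930

section Helpers

open CategoryTheory AlgebraicGeometry IsLocalRing Groth.Agent.S7776

/-- Generic smoothness on the target: a quasi-compact morphism locally of finite presentation
from a regular scheme to an integral scheme with perfect function field is smooth over a dense
open subset of the target (dominance is not needed). -/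
theorem exists_dense_smooth_morphismRestrict {X Y : Scheme.{u}} [IsIntegral Y]
    (hreg : ∀ x : X, IsRegularLocalRing (X.presheaf.stalk x))
    (f : X ⟶ Y) [LocallyOfFinitePresentation f] [QuasiCompact f]
    [PerfectField Y.functionField] :
    ∃ V : Y.Opens, Dense (V : Set Y) ∧ Smooth (f ∣_ V) := by
  classical
  set η := genericPoint Y with hηdef
  let Zc : TopologicalSpace.Closeds X :=
    ⟨(f.smoothLocus : Set X)ᶜ, f.smoothLocus.isOpen.isClosed_compl⟩
  let I := Scheme.IdealSheafData.vanishingIdeal Zc
  let i := I.subschemeι
  have hri : Set.range i.base = (f.smoothLocus : Set X)ᶜ := by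
    rw [Scheme.IdealSheafData.range_subschemeι, Scheme.IdealSheafData.coe_support_vanishingIdeal]
    rfl
  have hη : η ∉ closure (Set.range (i ≫ f).base) := by
    intro hcl
    have hmaxpt : Groth.Agent.Lib.Helper21.IsMaximalPoint η :=
      fun y' hy' => (hy'.antisymm (genericPoint_specializes y')).eq
    obtain ⟨w, hw⟩ :=
      Groth.Agent.Lib.Helper21.mem_range_of_isMaximalPoint (i ≫ f) η hmaxpt hcl
    have h1 : i.base w ∈ (f.smoothLocus : Set X)ᶜ := hri ▸ ⟨w, rfl⟩
    apply h1
    exact formallySmooth_stalkMap_of_regular_of_perfect f (i.base w) (by simpa using hw) (hreg _)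
  let V : Y.Opens := ⟨(closure (Set.range (i ≫ f).base))ᶜ, isClosed_closure.isOpen_compl⟩
  refine ⟨V, ?_, ?_⟩
  · exact V.isOpen.dense ⟨η, hη⟩
  · rw [← Scheme.Hom.smoothLocus_eq_top_iff, ← top_le_iff]
    rintro x -
    rw [Scheme.Hom.mem_smoothLocus]
    rw [RingHom.FormallySmooth.respectsIso.arrow_mk_iso_iff (morphismRestrictStalkMap f V x)]
    by_contra hns
    have hxZ : x.1 ∈ Set.range i.base := by rw [hri]; exact hns
    obtain ⟨w, hw⟩ := hxZ
    have hxV : f.base x.1 ∈ (V : Set Y) := x.2
    apply hxV
    apply subset_closure
    exact ⟨w, by simp [hw]⟩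

end Helpers

/-- Let k be an algebraically closed field of characteristic zero, X and Y varieties over k (integral,
separated and of finite type over k) with X nonsingular, i.e. smooth over k, and f : X → Y a
k-morphism. Then there is a nonempty open subscheme V of Y such that the restriction f⁻¹(V) → V of f
is smooth. -/
theorem result (k : Type u) [Field k] [IsAlgClosed k] [CharZero k]
    {X Y : Scheme.{u}} (qX : X ⟶ Spec (CommRingCat.of k)) (qY : Y ⟶ Spec (CommRingCat.of k))
    [LocallyOfFiniteType qX] [QuasiCompact qX] [IsSeparated qX] [Smooth qX]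
    [LocallyOfFiniteType qY] [QuasiCompact qY] [IsSeparated qY]
    [IsIntegral X] [IsIntegral Y] (f : X ⟶ Y) (hf : f ≫ qY = qX) :
    ∃ V : Y.Opens, (V : Set ↥Y).Nonempty ∧ Smooth (f ∣_ V) := by
  have hfT : LocallyOfFiniteType f := by
    have : LocallyOfFiniteType (f ≫ qY) := by rw [hf]; infer_instance
    exact locallyOfFiniteType_of_comp f qY
  have hnY : IsLocallyNoetherian Y := LocallyOfFiniteType.isLocallyNoetherian qY
  have hfP : LocallyOfFinitePresentation f :=
    LocallyOfFinitePresentation.iff_locallyOfFiniteType.mpr hfT
  have hqc : QuasiCompact f := by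
    have : QuasiCompact (f ≫ qY) := by rw [hf]; infer_instance
    exact QuasiCompact.of_comp f qY
  have hreg : ∀ x : X, IsRegularLocalRing (X.presheaf.stalk x) := by
    intro x
    let : X.Over (Spec (CommRingCat.of k)) := ⟨qX⟩
    have : Smooth (X ↘ Spec (CommRingCat.of k)) := ‹Smooth qX›
    exact Groth.Agent.S1535.result k X x
  -- the function field has characteristic zero, hence is perfect
  let φ : CommRingCat.of k ⟶ Y.functionField :=
    (Scheme.ΓSpecIso (CommRingCat.of k)).inv ≫ qY.appTop ≫
      Y.presheaf.germ ⊤ (genericPoint Y) trivial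
  have hφ : Function.Injective φ.hom := RingHom.injective φ.hom
  have hchar : CharZero Y.functionField := charZero_of_injective_ringHom hφ
  have hperf : PerfectField Y.functionField := PerfectField.ofCharZero
  obtain ⟨V, hV, hsm⟩ := exists_dense_smooth_morphismRestrict hreg f
  exact ⟨V, hV.nonempty, hsm⟩

end Groth.Agent.S10930
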