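import Mathlib
import Groth.Statements.S11495
import Groth.Agent.S0563

set_option autoImplicit false
universe u
open CategoryTheory
open VBPn

namespace Groth.Agent.S11495

open Abelian IsLocalRing

variable {A : Type u} [CommRing A]

/-- one step of the descending induction -/
lemma step [IsNoetherianRing A] (X : ModuleCat.{u} A) (i : ℕ)
    (hA : Subsingleton (Ext X (ModuleCat.of A A) (i + 1)))
    (hnext : ∀ (L : Type u) [AddCommGroup L] [Module A L] [Module.Finite A L],
      Subsingleton (Ext X (ModuleCat.of A L) (i + 2)))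
    (L : Type u) [AddCommGroup L] [Module A L] (hL : Module.Finite A L) :
    Subsingleton (Ext X (ModuleCat.of A L) (i + 1)) := by
  induction hL using IsNoetherianRing.induction_on_isQuotientEquivQuotientPrime A with
  | subsingleton N =>
    have hz : Limits.IsZero (ModuleCat.of A N) := ModuleCat.isZero_of_subsingleton _
    have : Injective (ModuleCat.of A N) := hz.injective
    exact ⟨fun x y => by rw [Ext.eq_zero_of_injective x, Ext.eq_zero_of_injective y]⟩
  | quotient N p f =>
    -- `0 → p → A → A/p → 0`
    have hS : (ModuleCat.shortComplexOfCompEqZero p.1.subtype p.1.mkQ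
        (LinearMap.exact_subtype_mkQ p.1).linearMap_comp_eq_zero).ShortExact :=
      ModuleCat.shortComplex_shortExact _ (LinearMap.exact_subtype_mkQ p.1)
        (Submodule.injective_subtype _) (Submodule.mkQ_surjective _)
    have h1 : Subsingleton (Ext X (ModuleCat.of A (A ⧸ p.1)) (i + 1)) := by
      suffices ∀ x : Ext X (ModuleCat.of A (A ⧸ p.1)) (i + 1), x = 0 from
        ⟨fun x y => by rw [this x, this y]⟩
      intro x
      have := hnext p.1
      obtain ⟨x₂, rfl⟩ := Ext.covariant_sequence_exact₃ X hS x (rfl : i + 1 + 1 = i + 2)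
        (Subsingleton.elim _ _)
      rw [Subsingleton.elim x₂ 0, Ext.zero_comp]
    -- transport along `N ≃ A/p`
    suffices ∀ x : Ext X (ModuleCat.of A N) (i + 1), x = 0 from
      ⟨fun x y => by rw [this x, this y]⟩
    intro x
    let e : ModuleCat.of A N ≅ ModuleCat.of A (A ⧸ p.1) := f.toModuleIso
    have h2 : x = (x.comp (Ext.mk₀ e.hom) (add_zero _)).comp (Ext.mk₀ e.inv) (add_zero _) := by
      rw [Ext.comp_assoc_of_second_deg_zero, Ext.mk₀_comp_mk₀, e.hom_inv_id, Ext.comp_mk₀_id]
    rw [h2, Subsingleton.elim (x.comp (Ext.mk₀ e.hom) (add_zero _)) 0, Ext.zero_comp]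
  | exact N₁ N₂ N₃ f g hf hg hfg h₁ h₃ =>
    have hS : (ModuleCat.shortComplexOfCompEqZero f g hfg.linearMap_comp_eq_zero).ShortExact :=
      ModuleCat.shortComplex_shortExact _ hfg hf hg
    suffices ∀ x : Ext X (ModuleCat.of A N₂) (i + 1), x = 0 from
      ⟨fun x y => by rw [this x, this y]⟩
    intro x
    obtain ⟨x₁, rfl⟩ := Ext.covariant_sequence_exact₂ X hS x (Subsingleton.elim _ _)
    rw [Subsingleton.elim x₁ 0, Ext.zero_comp]

lemma ext_vanish [IsRegularLocalRing A] (X : ModuleCat.{u} A) (q d : ℕ)
    (hd : ringKrullDim A = d)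
    (h : ∀ i : ℕ, q < i → Subsingleton (Ext X (ModuleCat.of A A) i)) :
    ∀ (k i : ℕ), q < i → d + 1 ≤ i + k →
      ∀ (L : Type u) [AddCommGroup L] [Module A L] [Module.Finite A L],
        Subsingleton (Ext X (ModuleCat.of A L) i) := by
  intro k
  induction k with
  | zero =>
    intro i _ hi L _ _ _
    have : HasProjectiveDimensionLT X (d + 1) := by
      have := Groth.Agent.S0563.result A d hd X
      exact this
    exact HasProjectiveDimensionLT.subsingleton X (d + 1) i (by omega) _
  | succ k ih =>
    intro i hqi hi L _ _ hL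
    obtain ⟨j, rfl⟩ : ∃ j, i = j + 1 := ⟨i - 1, by omega⟩
    exact step X j (h _ hqi) (fun L' _ _ _ => ih (j + 2) (by omega) (by omega) L') L hL

theorem result (A : Type u) [CommRing A] [IsRegularLocalRing A]
    (M : Type u) [AddCommGroup M] [Module A M] [Module.Finite A M] (q : ℕ) :
    HasProjectiveDimensionLT (ModuleCat.of A M) (q + 1) ↔
      ∀ i : ℕ, q < i → Subsingleton (Abelian.Ext (ModuleCat.of A M) (ModuleCat.of A A) i) := by
  constructor
  · intro hpd i hi
    exact HasProjectiveDimensionLT.subsingleton _ (q + 1) i hi _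
  · intro h
    obtain ⟨d, hd⟩ : ∃ d : ℕ, ringKrullDim A = d := by
      have := IsRegularLocalRing.spanFinrank_maximalIdeal (R := A)
      exact ⟨_, this.symm⟩
    apply ModuleCat.hasProjectiveDimensionLT_of_forall_finite
    intro L hL
    exact ext_vanish (ModuleCat.of A M) q d hd h (d + 1) (q + 1) (Nat.lt_succ_self q) (by omega) L

end Groth.Agent.S11495
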