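import Mathlib
import Groth.Statements.S10933
import Groth.Agent.S11495

set_option autoImplicit false
universe u
open CategoryTheory
open CAlg

namespace Groth.Agent.S10933

open Abelian

/-- `pd = d` iff `pd < d+1` and not `pd < d` -/
lemma pd_eq_iff {C : Type (u + 1)} [Category.{u} C] [Abelian C] (X : C) (d : ℕ) :
    projectiveDimension X = (d : WithBot ℕ∞) ↔
      HasProjectiveDimensionLT X (d + 1) ∧ ¬ HasProjectiveDimensionLT X d := by
  have h0 : HasProjectiveDimensionLT X (d + 1) ↔ projectiveDimension X ≤ d :=
    (projectiveDimension_le_iff X d).symm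
  rw [← projectiveDimension_lt_iff (n := d), h0]
  constructor
  · intro h
    rw [h]
    exact ⟨le_rfl, lt_irrefl _⟩
  · rintro ⟨h1, h2⟩
    exact le_antisymm h1 (not_lt.mp h2)

/-- a nonzero finite free module has a nonzero map to the ring -/
lemma nontrivial_hom_of_free (A : Type u) [CommRing A] (M : Type u) [AddCommGroup M] [Module A M]
    [Module.Free A M] [Nontrivial M] : Nontrivial (M →ₗ[A] A) := by
  have : Nontrivial A := Module.nontrivial A M
  let b := Module.Free.chooseBasis A M
  have hne : Nonempty (Module.Free.ChooseBasisIndex A M) := by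
    by_contra hempty
    rw [not_nonempty_iff] at hempty
    have : Subsingleton M := b.repr.toEquiv.subsingleton
    exact not_subsingleton M this
  obtain ⟨i⟩ := hne
  refine ⟨⟨b.coord i, 0, fun h => ?_⟩⟩
  have := congrArg (fun φ => φ (b i)) h
  simp at this

theorem result (A : Type u) [CommRing A] [IsRegularLocalRing A]
    (M : Type u) [AddCommGroup M] [Module A M] [Module.Finite A M] (d : ℕ) :
    projectiveDimension (ModuleCat.of A M) = (d : WithBot ℕ∞) ↔
      ((∀ j : ℕ, d < j → Subsingleton (Abelian.Ext (ModuleCat.of A M) (ModuleCat.of A A) j)) ∧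
        Nontrivial (Abelian.Ext (ModuleCat.of A M) (ModuleCat.of A A) d)) := by
  rw [pd_eq_iff, Groth.Agent.S11495.result A M d]
  refine and_congr_right (fun hgt => ?_)
  cases d with
  | zero =>
    rw [hasProjectiveDimensionLT_zero_iff_isZero, ModuleCat.isZero_of_iff_subsingleton,
      not_subsingleton_iff_nontrivial]
    have hpd : HasProjectiveDimensionLT (ModuleCat.of A M) (0 + 1) :=
      (Groth.Agent.S11495.result A M 0).mpr hgt
    have hproj : Projective (ModuleCat.of A M) :=
      projective_iff_hasProjectiveDimensionLT_one.mpr hpd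
    have : Module.Projective A M := (IsProjective.iff_projective (R := A) M).mpr hproj
    have hfree : Module.Free A M := Module.free_of_flat_of_isLocalRing
    -- `Ext^0 ≃ Hom`
    let e : Abelian.Ext (ModuleCat.of A M) (ModuleCat.of A A) 0 ≃
        (ModuleCat.of A M ⟶ ModuleCat.of A A) := Ext.addEquiv₀.toEquiv
    let e' : (ModuleCat.of A M ⟶ ModuleCat.of A A) ≃ (M →ₗ[A] A) :=
      ModuleCat.homEquiv
    constructor
    · intro hM
      have := nontrivial_hom_of_free A M
      exact (e.trans e').nontrivial
    · intro hE
      by_contra hM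
      rw [not_nontrivial_iff_subsingleton] at hM
      have : Subsingleton (M →ₗ[A] A) := ⟨fun f g => LinearMap.ext fun x => by
        rw [Subsingleton.elim x 0, map_zero, map_zero]⟩
      have : Subsingleton (Abelian.Ext (ModuleCat.of A M) (ModuleCat.of A A) 0) :=
        (e.trans e').subsingleton
      exact not_subsingleton _ this
  | succ q =>
    rw [Groth.Agent.S11495.result A M q, ← not_subsingleton_iff_nontrivial, not_iff_not]
    constructor
    · intro h
      exact h (q + 1) (Nat.lt_succ_self q)
    · intro h i hi
      by_cases hiq : i = q + 1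
      · subst hiq
        exact h
      · exact hgt i (by omega)

end Groth.Agent.S10933
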