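import Groth.Statements.S10935
import Mathlib
import Groth.Agent.Lib.Helper45.AssStructure
import Groth.Agent.Lib.Helper55.DimStalk

set_option autoImplicit false
universe u
open CategoryTheory CategoryTheory.Limits AlgebraicGeometry
open FlatMor

namespace Groth.Agent.S10935


open Groth.Agent.Lib.Helper45 IsLocalRing

theorem isAssPoint_structure_iff {X : Scheme.{u}} (x : X) :
    Curv2.IsAssPoint (Coh.structureModule X) x ↔
      IsAssociatedPrime (maximalIdeal (X.presheaf.stalk x)) (X.presheaf.stalk x) := by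
  rw [isAssPoint_iff_isWeakAssPoint, isAssociatedPrime_stalk_iff_isWeakAssPoint]

theorem isPrincipalIdealRing_of_regular (A : Type u) [CommRing A] [IsDomain A]
    [IsRegularLocalRing A] (h : ringKrullDim A ≤ 1) : IsPrincipalIdealRing A := by
  have h1 := (IsRegularLocalRing.iff_finrank_cotangentSpace A).mp inferInstance
  have h2 : Module.finrank (ResidueField A) (CotangentSpace A) ≤ 1 := by
    rw [← h1] at h
    exact_mod_cast h
  exact ((tfae_of_isNoetherianRing_of_isLocalRing_of_isDomain A).out 5 0).mp h2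

theorem map_eq_genericPoint_of_isAssociatedPrime {X Y : Scheme.{u}} (f : X ⟶ Y) [IsIntegral Y]
    [Flat f] (x : X)
    (hx : IsAssociatedPrime (maximalIdeal (X.presheaf.stalk x)) (X.presheaf.stalk x)) :
    f x = genericPoint Y := by
  by_contra hne
  have hnf : ∃ a ∈ maximalIdeal (Y.presheaf.stalk (f x)), a ≠ 0 := by
    by_contra hall
    push Not at hall
    have hη : genericPoint Y ∈ Set.range (Y.fromSpecStalk (f x)) := by
      rw [Scheme.range_fromSpecStalk]; exact genericPoint_specializes _
    obtain ⟨P, hP⟩ := hη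
    have hPc : P = IsLocalRing.closedPoint (Y.presheaf.stalk (f x)) := by
      apply PrimeSpectrum.ext
      apply le_antisymm (IsLocalRing.le_maximalIdeal P.isPrime.ne_top)
      intro a ha
      rw [hall a ha]
      exact zero_mem _
    rw [hPc, Scheme.fromSpecStalk_closedPoint] at hP
    exact hne hP
  obtain ⟨a, ham, ha0⟩ := hnf
  algebraize [(f.stalkMap x).hom]
  have hflat : Module.Flat (Y.presheaf.stalk (f x)) (X.presheaf.stalk x) :=
    (RingHom.flat_algebraMap_iff).mp (Flat.stalkMap f x)
  have hreg : IsSMulRegular (X.presheaf.stalk x) a :=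
    Module.Flat.isSMulRegular_of_nonZeroDivisors (mem_nonZeroDivisors_of_ne_zero ha0)
  have hnzd : (f.stalkMap x).hom a ∈ nonZeroDivisors (X.presheaf.stalk x) := by
    rw [mem_nonZeroDivisors_iff_right]
    intro b hb
    apply hreg
    change a • b = a • 0
    rw [smul_zero, Algebra.smul_def, mul_comm]
    exact hb
  have hunit := isUnit_of_mem_nonZeroDivisors_of_isAssociatedPrime hx _ hnzd
  have : IsUnit a := isUnit_of_map_unit (f.stalkMap x).hom a hunit
  exact ham this


theorem valuationRing_localization {Y : Scheme.{u}} [IsIntegral Y]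
    (hreg : ∀ y : Y, IsRegularLocalRing (Y.presheaf.stalk y))
    (hY : topologicalKrullDim ↥Y = 1) {V : Y.Opens} (hV : IsAffineOpen V) [IsDomain Γ(Y, V)]
    (P : Ideal Γ(Y, V)) [hP : P.IsPrime] : ValuationRing (Localization P.primeCompl) := by
  obtain ⟨y, hy⟩ := exists_primeIdealOf_eq hV ⟨P, hP⟩
  have hP' : (hV.primeIdealOf y).asIdeal = P := congrArg PrimeSpectrum.asIdeal hy
  clear hy
  subst hP'
  have hloc := hV.isLocalization_stalk y
  have := hreg y
  have hdim : ringKrullDim (Y.presheaf.stalk (y : Y)) ≤ 1 := by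
    rw [← hY]
    exact Groth.Agent.Lib.Helper55.ringKrullDim_stalk_le_topologicalKrullDim Y y
  have hpid : IsPrincipalIdealRing (Y.presheaf.stalk (y : Y)) :=
    isPrincipalIdealRing_of_regular _ hdim
  let e := IsLocalization.algEquiv (hV.primeIdealOf y).asIdeal.primeCompl (Y.presheaf.stalk (y : Y))
    (Localization (hV.primeIdealOf y).asIdeal.primeCompl)
  have hpid' : IsPrincipalIdealRing (Localization (hV.primeIdealOf y).asIdeal.primeCompl) :=
    IsPrincipalIdealRing.of_surjective e.toRingEquiv.toRingHom e.surjective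
  have : IsLocalRing (Localization (hV.primeIdealOf y).asIdeal.primeCompl) :=
    inferInstanceAs (IsLocalRing (Localization.AtPrime (hV.primeIdealOf y).asIdeal))
  have hlb : IsLocalRing (Localization (hV.primeIdealOf y).asIdeal.primeCompl) ∧
      IsBezout (Localization (hV.primeIdealOf y).asIdeal.primeCompl) := ⟨inferInstance, inferInstance⟩
  exact ((ValuationRing.TFAE (Localization (hV.primeIdealOf y).asIdeal.primeCompl)).out 0 4).mpr hlb


theorem flat_of_forall_isAssociatedPrime {X Y : Scheme.{u}} (f : X ⟶ Y) [IsIntegral Y]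
    (hreg : ∀ y : Y, IsRegularLocalRing (Y.presheaf.stalk y))
    (hY : topologicalKrullDim ↥Y = 1)
    (h : ∀ x : X, IsAssociatedPrime (maximalIdeal (X.presheaf.stalk x)) (X.presheaf.stalk x) →
      f x = genericPoint Y) : Flat f := by
  have hQ : RingHom.StableUnderCompositionWithLocalizationAwaySource RingHom.Flat := by
    intro R S T _ _ _ _ r _ g hg
    exact (RingHom.Flat.holdsForLocalizationAway S r).comp hg
  rw [HasRingHomProperty.iff_exists_appLE (P := @Flat) hQ]
  intro x
  obtain ⟨_, ⟨V, hV, rfl⟩, hxV, -⟩ :=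
    Y.isBasis_affineOpens.exists_subset_of_mem_open (Set.mem_univ (f x)) isOpen_univ
  obtain ⟨_, ⟨U, hU, rfl⟩, hxU, hUV'⟩ :=
    X.isBasis_affineOpens.exists_subset_of_mem_open (show x ∈ f ⁻¹ᵁ V from hxV) (f ⁻¹ᵁ V).2
  have hUV : U ≤ f ⁻¹ᵁ V := hUV'
  refine ⟨⟨V, hV⟩, ⟨U, hU⟩, hxU, hUV, ?_⟩
  change (f.appLE V U hUV).hom.Flat
  have hne : Nonempty V := ⟨⟨f x, hxV⟩⟩
  have hdom : IsDomain Γ(Y, V) := inferInstance
  algebraize [(f.appLE V U hUV).hom]
  change (algebraMap Γ(Y, V) Γ(X, U)).Flat
  rw [RingHom.flat_algebraMap_iff,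
    Module.Flat.flat_iff_torsion_eq_bot_of_valuationRing_localization_isMaximal
      (fun P hP => valuationRing_localization hreg hY hV P)]
  rw [eq_bot_iff]
  rintro r ⟨⟨s, hs⟩, hsr⟩
  rw [Submodule.mem_bot]
  by_contra hr
  obtain ⟨q, hq, hle⟩ := exists_mem_weakAss_of_ne_zero (R := Γ(X, U)) hr
  have hqP : q.IsPrime := isPrime_of_mem_weakAss hq
  obtain ⟨x', hx'⟩ := exists_primeIdealOf_eq hU ⟨q, hqP⟩
  have hx'q : (hU.primeIdealOf x').asIdeal = q := congrArg PrimeSpectrum.asIdeal hx'
  have hass : IsAssociatedPrime (maximalIdeal (X.presheaf.stalk (x' : X)))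
      (X.presheaf.stalk (x' : X)) := by
    rw [isAssociatedPrime_stalk_iff_mem_weakAss hU x', hx'q]
    exact hq
  have hη := h x' hass
  have hcomap := IsAffineOpen.comap_primeIdealOf_appLE (f := f) V hV U hU hUV x'.2
  have hsq : (f.appLE V U hUV).hom s ∈ q := by
    apply hle
    rw [mem_annEl]
    exact hsr
  have hs0 : s ∈ (hV.primeIdealOf ⟨f x', hUV x'.2⟩).asIdeal := by
    rw [← hcomap]
    change (f.appLE V U hUV).hom s ∈ (hU.primeIdealOf ⟨x', x'.2⟩).asIdeal
    rw [show (⟨(x' : X), x'.2⟩ : U) = x' from rfl, hx'q]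
    exact hsq
  have hbot : (hV.primeIdealOf ⟨f x', hUV x'.2⟩).asIdeal = ⊥ := by
    have h1 := hV.primeIdealOf_genericPoint
    rw [genericPoint_eq_bot_of_affine] at h1
    have h2 : (⟨f x', hUV x'.2⟩ : V) = ⟨genericPoint Y,
        ((genericPoint_spec Y).mem_open_set_iff V.isOpen).mpr (by simpa using hne)⟩ :=
      Subtype.ext hη
    rw [h2, h1]
    rfl
  rw [hbot, Ideal.mem_bot] at hs0
  exact nonZeroDivisors.ne_zero hs hs0

/-- Let Y be an integral, regular (every local ring a regular local ring), one-dimensional scheme with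
generic point η, X a Noetherian scheme and f : X → Y a morphism. Then f is flat if and only if every
associated point x of X — a point such that the maximal ideal of O_{X,x} is an associated prime of
O_{X,x} — satisfies f(x) = η. -/
theorem result {X Y : Scheme.{u}} (f : X ⟶ Y)
    [IsIntegral Y] (hreg : ∀ y : Y, IsRegularLocalRing (Y.presheaf.stalk y))
    (hY : topologicalKrullDim ↥Y = 1) [IsNoetherian X] :
    Flat f ↔ ∀ x : X, Curv2.IsAssPoint (Coh.structureModule X) x → f.base x = genericPoint ↥Y := by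
  constructor
  · intro hf x hx
    exact map_eq_genericPoint_of_isAssociatedPrime f x ((isAssPoint_structure_iff x).mp hx)
  · intro h
    exact flat_of_forall_isAssociatedPrime f hreg hY
      (fun x hx => h x ((isAssPoint_structure_iff x).mpr hx))

end Groth.Agent.S10935
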