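import Groth.Statements.S10936
import Mathlib
import Groth.Agent.Lib.Helper50.CotangentSmooth5
import Groth.Agent.Lib.Helper55.FlatDim
import Groth.Agent.Lib.Helper78.AbVarFibre

set_option autoImplicit false
universe u
open CategoryTheory CategoryTheory.Limits AlgebraicGeometry
open Variety

namespace Groth.Agent.S10936

/-- (a)⇔(c): let k be an algebraically closed field, X and Y nonsingular varieties over k (integral,
separated, of finite type and smooth over k) with dim Y = dY and dim X = dY + n, and f : X → Y a
k-morphism. Then f is smooth of relative dimension n if and only if for every closed point x of X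
the tangent map T_x f : T_x X → T_{f(x)} Y is surjective — equivalently, the cotangent map
m_{f(x)}/m_{f(x)}^2 → m_x/m_x^2 of the local rings is injective. -/
theorem result (k : Type u) [Field k] [IsAlgClosed k]
    {X Y : Scheme.{u}} (qX : X ⟶ Spec (CommRingCat.of k)) (qY : Y ⟶ Spec (CommRingCat.of k))
    [IsIntegral X] [IsSeparated qX] [LocallyOfFiniteType qX] [QuasiCompact qX] [Smooth qX]
    [IsIntegral Y] [IsSeparated qY] [LocallyOfFiniteType qY] [QuasiCompact qY] [Smooth qY]
    (f : X ⟶ Y) (hf : f ≫ qY = qX) (n dY : ℕ) (hY : topologicalKrullDim ↥Y = dY)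
    (hX : topologicalKrullDim ↥X = ((dY + n : ℕ) : WithBot ℕ∞)) :
    SmoothOfRelativeDimension n f ↔
      ∀ x : X, IsClosed ({x} : Set ↥X) → Function.Injective (FixPt.cotangentMapAt f x (f.base x) rfl) := by
      classical
      subst hf
      haveI hsub : Subsingleton ↥(Spec (CommRingCat.of k)) :=
        (inferInstance : Subsingleton (PrimeSpectrum k))
      haveI : IsSeparated f := IsSeparated.of_comp f qY
      haveI : LocallyOfFiniteType f := locallyOfFiniteType_of_comp f qY
      haveI : IsLocallyNoetherian Y := LocallyOfFiniteType.isLocallyNoetherian qY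
      haveI : LocallyOfFinitePresentation f :=
        LocallyOfFinitePresentation.iff_locallyOfFiniteType.mpr inferInstance
      have hU := Groth.Agent.Lib.Helper80.OmegaUniversal.isUniversal_dOmega f
      have hUX := Groth.Agent.Lib.Helper80.OmegaUniversal.isUniversal_dOmega (f ≫ qY)
      have hUY := Groth.Agent.Lib.Helper80.OmegaUniversal.isUniversal_dOmega qY
      constructor
      · intro hs x hx
        haveI : Smooth f := SmoothOfRelativeDimension.smooth n f
        have hmem : x ∈ f.smoothLocus := by rw [Scheme.Hom.smoothLocus_eq_top]; trivial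
        exact (Groth.Agent.Lib.Helper50.mem_smoothLocus_iff_injective_cotangentMapAt k qY f x hx).mp hmem
      · intro h
        have hcl : ∀ x : X, IsClosed ({x} : Set X) → x ∈ (f.smoothLocus : Set X) := fun x hx =>
          (Groth.Agent.Lib.Helper50.mem_smoothLocus_iff_injective_cotangentMapAt k qY f x hx).mpr (h x hx)
        haveI : JacobsonSpace X := LocallyOfFiniteType.jacobsonSpace (Y := Spec _) (f ≫ qY)
        have htop : f.smoothLocus = ⊤ := by
          apply TopologicalSpace.Opens.ext
          exact Groth.Agent.Lib.Helper50.eq_top_of_closedPoints_subset _ f.smoothLocus.2 hcl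
        haveI : Smooth f := Scheme.Hom.smoothLocus_eq_top_iff.mp htop
        refine Groth.Agent.Lib.Helper50.smoothOfRelativeDimension_of_smoothLocus_of_finLocFreeOfRank f n _ _ hU
          ?_ (fun x => htop ▸ trivial)
        intro x
        have hconstX : ∀ t₁ t₂ : X, (f ≫ qY) t₁ = (f ≫ qY) t₂ := fun t₁ t₂ => Subsingleton.elim _ _
        have hconstY : ∀ t₁ t₂ : Y, qY t₁ = qY t₂ := fun t₁ t₂ => Subsingleton.elim _ _
        have hdimX : FlatMor.fibreDimAt (f ≫ qY) x = ((dY + n : ℕ) : WithBot ℕ∞) := by
          rw [Groth.Agent.Lib.Helper78.AbVarFibre.fibreDimAt_eq_localDim_of_const _ hconstX x,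
            Groth.Agent.Lib.Helper55.localDim_eq_topologicalKrullDim_of_irreducibleSpace (f ≫ qY) x, hX]
        have hdimY : FlatMor.fibreDimAt qY (f x) = (dY : WithBot ℕ∞) := by
          rw [Groth.Agent.Lib.Helper78.AbVarFibre.fibreDimAt_eq_localDim_of_const _ hconstY (f x),
            Groth.Agent.Lib.Helper55.localDim_eq_topologicalKrullDim_of_irreducibleSpace qY (f x), hY]
        obtain ⟨U₁, m, hx₁, ⟨iso₁⟩, -⟩ :=
          Groth.Agent.Lib.Helper24.exists_restrict_iso_freeMod_fibreDimAt_of_smooth f _ _ hU x
        obtain ⟨U₂, m₂, hx₂, ⟨iso₂⟩, h₂⟩ :=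
          Groth.Agent.Lib.Helper24.exists_restrict_iso_freeMod_fibreDimAt_of_smooth (f ≫ qY) _ _ hUX x
        obtain ⟨W₀, m₃, hy, ⟨iso₃⟩, h₃⟩ :=
          Groth.Agent.Lib.Helper24.exists_restrict_iso_freeMod_fibreDimAt_of_smooth qY _ _ hUY (f x)
        rw [hdimX] at h₂
        rw [hdimY] at h₃
        have e₂ : dY + n = m₂ := by exact_mod_cast h₂
        have e₃ : dY = m₃ := by exact_mod_cast h₃
        subst e₂ e₃
        have hr := Groth.Agent.Lib.Helper50.rank_eq_of_smooth_tower qY f _ _ hUX _ _ hUY _ _ hU
          x dY (dY + n) m U₁ hx₁ iso₁ U₂ hx₂ iso₂ W₀ hy iso₃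
        have hmn : m = n := by omega
        subst hmn
        exact ⟨U₁, hx₁, ⟨iso₁⟩⟩

end Groth.Agent.S10936
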