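import Groth.Statements.S10941
import Groth.Agent.Lib.Helper78.FibreIrredMain

set_option autoImplicit false
universe u
open CategoryTheory CategoryTheory.Limits AlgebraicGeometry
open FlatMor

namespace Groth.Agent.S10941

open Groth.Agent.Lib.Helper55 Groth.Agent.Lib.Helper78.FibreIrred in
/-- Over a field, a flat morphism from an equidimensional scheme of dimension `dim Y + n` to an
irreducible scheme has all fibres of pure dimension `n`. -/
theorem fibreDimAt_eq_of_flat_equidim (k : Type u) [Field k]
    {X Y : Scheme.{u}} (qX : X ⟶ Spec (CommRingCat.of k)) (qY : Y ⟶ Spec (CommRingCat.of k))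
    [LocallyOfFiniteType qX] [LocallyOfFiniteType qY]
    [IrreducibleSpace ↥Y] (f : X ⟶ Y) (hf : f ≫ qY = qX) [Flat f] (n : ℕ)
    (hX : ∀ Z : Set ↥X, Z ∈ irreducibleComponents ↥X →
      topologicalKrullDim ↥Z = topologicalKrullDim ↥Y + (n : WithBot ℕ∞)) (x : X) :
    FlatMor.fibreDimAt f x = n := by
  have hlft : LocallyOfFiniteType f := lft_of_comp_eq qX qY f hf
  let _ : Y.Over (Spec (CommRingCat.of k)) := ⟨qY⟩
  have hq : LocallyOfFiniteType (Y ↘ Spec (CommRingCat.of k)) := ‹LocallyOfFiniteType qY›
  obtain ⟨s, hs, -⟩ := exists_dim_closure_eq_trdeg k Y (genericPoint Y)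
  rw [(genericPoint_spec Y).def, dim_univ] at hs
  have h1 := (forall_irreducibleComponents_dim_eq_iff qX _).mp hX x
  have h2 := localDim_eq_add_of_flat' qY f (f x) (f.asFiber x)
  rw [f.fiberι_asFiber] at h2
  have h3 := localDim_eq_topologicalKrullDim_of_irreducibleSpace qY (f x)
  rw [h1, h3, hs] at h2
  exact (withBot_enat_add_left_cancel s h2).symm

open Groth.Agent.Lib.Helper55 Groth.Agent.Lib.Helper78.FibreIrred in
/-- For a flat morphism `f : X ⟶ Y` locally of finite type with `Y` locally of finite type over a
field, whose fibres all have pure dimension `n`: every irreducible component of the preimage of an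
irreducible closed subset `V` has dimension `dim V + n`. -/
theorem dim_component_preimage_of_flat (k : Type u) [Field k]
    {X Y : Scheme.{u}} (qY : Y ⟶ Spec (CommRingCat.of k)) [LocallyOfFiniteType qY]
    (f : X ⟶ Y) [LocallyOfFiniteType f] [Flat f] (n : ℕ)
    (hfib : ∀ x : X, FlatMor.fibreDimAt f x = n)
    (V : Set ↥Y) (hV : IsClosed V) (hVirr : IsIrreducible V)
    (W : Set ↥(f.base ⁻¹' V)) (hW : W ∈ irreducibleComponents ↥(f.base ⁻¹' V)) :
    topologicalKrullDim ↥W = topologicalKrullDim ↥V + (n : WithBot ℕ∞) := by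
  have hFcl : IsClosed (f.base ⁻¹' V) := hV.preimage f.continuous
  obtain ⟨ω, hωF, hWω, hmin, hdimW⟩ :=
    exists_genericPoint_of_mem_irreducibleComponents (f.base ⁻¹' V) hFcl W hW
  -- the generic point of `V`
  have hvgen : IsGenericPoint hVirr.genericPoint V := hVirr.isGenericPoint_genericPoint hV
  set v := hVirr.genericPoint with hvdef
  have hvcl : closure ({v} : Set Y) = V := hvgen.def
  -- `f ω = v`
  have hfω : f ω = v := by
    have h1 : v ⤳ f ω := by
      rw [specializes_iff_mem_closure, hvcl]
      exact hωF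
    obtain ⟨ω', hω'ω, hfω'⟩ := (Flat.generalizingMap f) h1
    have hω'F : ω' ∈ f.base ⁻¹' V := by
      change f ω' ∈ V
      rw [hfω']
      exact hvgen.mem
    have h2 : ω ⤳ ω' := hmin ω' hω'F hω'ω
    have h3 : f ω ⤳ v := hfω' ▸ h2.map f.continuous
    exact (h3.antisymm h1).eq
  obtain ⟨a, b, ha, hb, hab⟩ := exists_dim_closure_eq_add qY f ω
  -- the closure of `ω` in its fibre is an irreducible component of the fibre
  have hcomp : closure ({f.asFiber ω} : Set ↥(f.fiber (f ω))) ∈
      irreducibleComponents (↥(f.fiber (f ω)) : Type u) := by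
    refine ⟨isIrreducible_singleton.closure, ?_⟩
    intro S hS hzS
    have hSirr : IsIrreducible S := hS
    have hScl' : IsIrreducible (closure S) := hSirr.closure
    set s := hScl'.genericPoint with hsdef
    have hsgen : IsGenericPoint s (closure S) :=
      hScl'.isGenericPoint_genericPoint isClosed_closure
    have hzs : s ⤳ f.asFiber ω := by
      rw [specializes_iff_mem_closure, hsgen.def]
      exact subset_closure (hzS (subset_closure rfl))
    have h1 : f.fiberι (f ω) s ⤳ ω := by
      have := hzs.map (f.fiberι (f ω)).continuous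
      rwa [f.fiberι_asFiber] at this
    have h2 : f.fiberι (f ω) s ∈ f.base ⁻¹' V := by
      have h3 : f.fiberι (f ω) s ∈ Set.range (f.fiberι (f ω)) := ⟨s, rfl⟩
      rw [f.range_fiberι (f ω)] at h3
      change f (f.fiberι (f ω) s) ∈ V
      have h4 : f (f.fiberι (f ω) s) = f ω := h3
      rw [h4]
      exact hωF
    have h5 : ω ⤳ f.fiberι (f ω) s := hmin _ h2 h1
    have h6 : f.asFiber ω ⤳ s := by
      rw [← (f.fiberι (f ω)).isEmbedding.isInducing.specializes_iff, f.fiberι_asFiber]
      exact h5
    intro t ht
    have h7 : t ∈ closure S := subset_closure ht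
    rw [← hsgen.def] at h7
    exact specializes_iff_mem_closure.mp (h6.trans (specializes_iff_mem_closure.mpr h7))
  have hlftfib : LocallyOfFiniteType (f.fiberToSpecResidueField (f ω)) :=
    MorphismProperty.pullback_snd (P := @LocallyOfFiniteType) _ _ ‹_›
  have hloc := localDim_eq_dim_closure_of_mem_irreducibleComponents
    (k := ↑(Y.residueField (f ω))) (f.fiberToSpecResidueField (f ω)) (f.asFiber ω) hcomp
  have hbn : b = n := by
    have h1 : FlatMor.fibreDimAt f ω = (b : WithBot ℕ∞) := by
      rw [← hb]
      exact hloc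
    rw [hfib ω] at h1
    exact_mod_cast h1.symm
  have haV : topologicalKrullDim ↥V = a := by
    rw [← ha, hfω, hvcl]
  rw [hdimW, hab, haV, hbn]
  push_cast
  rfl
/-- Let k be a field, X, Y and Y' schemes of finite type over k with Y irreducible, f : X → Y a flat
k-morphism and n a natural number such that every irreducible component of X has dimension dim Y +
n. Let g : Y' → Y be a k-morphism and f' : X ×_Y Y' → Y' the base change of f. Then for every
irreducible closed subset V of Y', every irreducible component of the preimage of V under f' (with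
the subspace topology) has dimension dim V + n. In particular (Y' = Y) every irreducible component
of f⁻¹(V) has dimension dim V + n for every irreducible closed V ⊆ Y. -/
theorem result (k : Type u) [Field k]
    {X Y Y' : Scheme.{u}} (qX : X ⟶ Spec (CommRingCat.of k)) (qY : Y ⟶ Spec (CommRingCat.of k))
    (qY' : Y' ⟶ Spec (CommRingCat.of k))
    [LocallyOfFiniteType qX] [QuasiCompact qX] [LocallyOfFiniteType qY] [QuasiCompact qY]
    [LocallyOfFiniteType qY'] [QuasiCompact qY']
    [IrreducibleSpace ↥Y] (f : X ⟶ Y) (hf : f ≫ qY = qX) [Flat f] (n : ℕ)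
    (hX : ∀ Z : Set ↥X, Z ∈ irreducibleComponents ↥X →
      topologicalKrullDim ↥Z = topologicalKrullDim ↥Y + (n : WithBot ℕ∞))
    (g : Y' ⟶ Y) (hg : g ≫ qY = qY')
    (V : Set ↥Y') (hV : IsClosed V) (hVirr : IsIrreducible V)
    (W : Set ↥((pullback.snd f g).base ⁻¹' V))
    (hW : W ∈ irreducibleComponents ↥((pullback.snd f g).base ⁻¹' V)) :
    topologicalKrullDim ↥W = topologicalKrullDim ↥V + (n : WithBot ℕ∞) := by
  have hlft : LocallyOfFiniteType f :=
    Groth.Agent.Lib.Helper78.FibreIrred.lft_of_comp_eq qX qY f hf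
  have hfib : ∀ x' : ↥(pullback f g), FlatMor.fibreDimAt (pullback.snd f g) x' = n := by
    intro x'
    rw [Groth.Agent.Lib.Helper55.fibreDimAt_eq_of_isPullback f g (pullback.fst f g)
      (pullback.snd f g) (IsPullback.of_hasPullback f g) x']
    exact fibreDimAt_eq_of_flat_equidim k qX qY f hf n hX _
  exact dim_component_preimage_of_flat k qY' (pullback.snd f g) n hfib V hV hVirr W hW

end Groth.Agent.S10941
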