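import Groth.Statements.S10944
import Mathlib.AlgebraicGeometry.Morphisms.UniversallyOpen

set_option autoImplicit false
universe u
open CategoryTheory AlgebraicGeometry
open FlatMor

namespace Groth.Agent.S10944

/-- Let f : X → Y be a flat morphism of Noetherian schemes and Y' an irreducible component of Y. Then
f⁻¹(Y') is the union of the irreducible components Z of X with f(Z) ⊆ Y'. -/
theorem result {X Y : Scheme.{u}}
    [IsNoetherian X] [IsNoetherian Y] (f : X ⟶ Y) [Flat f]
    (Y' : Set ↥Y) (hY' : Y' ∈ irreducibleComponents ↥Y) :
    f.base ⁻¹' Y' = ⋃₀ {Z : Set ↥X | Z ∈ irreducibleComponents ↥X ∧ f.base '' Z ⊆ Y'} := by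
  apply Set.Subset.antisymm
  · intro x hx
    have hcl : IsClosed Y' := isClosed_of_mem_irreducibleComponents _ hY'
    obtain ⟨η, hη⟩ := QuasiSober.sober hY'.1 hcl
    have hspec : η ⤳ f.base x := by
      rw [specializes_iff_mem_closure, hη.def]
      exact hx
    obtain ⟨x', hx'x, hx'η⟩ := Flat.generalizingMap (f := f) hspec
    refine ⟨irreducibleComponent x', ⟨irreducibleComponent_mem_irreducibleComponents x', ?_⟩, ?_⟩
    · -- closure (f '' Z) is irreducible and contains Y'
      have hirr : IsIrreducible (closure (f.base '' irreducibleComponent x')) :=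
        (isIrreducible_irreducibleComponent.image _
          f.base.hom.continuous.continuousOn).closure
      have hsub : Y' ⊆ closure (f.base '' irreducibleComponent x') := by
        rw [← hη.def]
        apply closure_minimal _ isClosed_closure
        rw [Set.singleton_subset_iff]
        apply subset_closure
        exact ⟨x', mem_irreducibleComponent, hx'η⟩
      have := hY'.2 hirr hsub
      exact subset_closure.trans this
    · have hclZ : IsClosed (irreducibleComponent x') := isClosed_irreducibleComponent
      have : x ∈ closure ({x'} : Set X) := specializes_iff_mem_closure.mp hx'x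
      exact (hclZ.closure_subset_iff.mpr (Set.singleton_subset_iff.mpr mem_irreducibleComponent)) this
  · rintro x ⟨Z, ⟨_, hZ⟩, hxZ⟩
    exact hZ ⟨x, hxZ, rfl⟩

end Groth.Agent.S10944
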