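import Groth.Statements.S10945
import Mathlib

set_option autoImplicit false
universe u
open CategoryTheory AlgebraicGeometry Opposite
open Coherent

namespace Groth.Agent.S10945
open CategoryTheory CategoryTheory.Limits AlgebraicGeometry Opposite

section general
universe v' u'

variable {C : Type u'} [Category.{v'} C] {J : GrothendieckTopology C} {R : Sheaf J RingCat.{u}}
  [HasSheafify J AddCommGrpCat.{u}] [J.WEqualsLocallyBijective AddCommGrpCat.{u}]
  [J.HasSheafCompose (forget₂ RingCat.{u} AddCommGrpCat.{u})]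

open SheafOfModules

omit [J.HasSheafCompose (forget₂ RingCat.{u} AddCommGrpCat.{u})] in
theorem freeHomEquiv_zero {M : SheafOfModules.{u} R} {I : Type u} (i : I) :
    M.freeHomEquiv (0 : free I ⟶ M) i = M.unitHomEquiv 0 := by
  show M.unitHomEquiv (ιFree i ≫ 0) = _
  rw [comp_zero]

omit [J.HasSheafCompose (forget₂ RingCat.{u} AddCommGrpCat.{u})] in
theorem exists_epi_free_of_shortExact (S : ShortComplex (SheafOfModules.{u} R)) (hS : S.ShortExact)
    {ι₁ ι₃ : Type u} (p₁ : free ι₁ ⟶ S.X₁) [Epi p₁] (p₃ : free ι₃ ⟶ S.X₃) [Epi p₃]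
    (hlift : ∀ s : S.X₃.sections, ∃ t : S.X₂.sections, sectionsMap S.g t = s) :
    ∃ p : free (ι₁ ⊕ ι₃) ⟶ S.X₂, Epi p := by
  choose t ht using hlift
  let s₁ : ι₁ → S.X₂.sections := fun i => sectionsMap S.f (S.X₁.freeHomEquiv p₁ i)
  let s₃ : ι₃ → S.X₂.sections := fun i => t (S.X₃.freeHomEquiv p₃ i)
  let p : free (ι₁ ⊕ ι₃) ⟶ S.X₂ := S.X₂.freeHomEquiv.symm (Sum.elim s₁ s₃)
  have hp : ∀ j, S.X₂.freeHomEquiv p j = Sum.elim s₁ s₃ j := fun j => by
    simp only [p, Equiv.apply_symm_apply]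
  refine ⟨p, ?_⟩
  have := hS.epi_g
  have := hS.mono_f
  apply Preadditive.epi_of_cancel_zero
  intro Z c hc
  -- `p₁ ≫ S.f ≫ c = 0`
  have h1 : p₁ ≫ S.f ≫ c = 0 := by
    apply (Z.freeHomEquiv).injective
    ext1 i
    have := congr(Z.freeHomEquiv $hc (Sum.inl i))
    rw [freeHomEquiv_comp_apply, hp, freeHomEquiv_zero] at this
    rw [freeHomEquiv_zero, freeHomEquiv_comp_apply, sectionsMap_comp]
    exact this
  have h2 : S.f ≫ c = 0 := (cancel_epi p₁).mp (by rw [h1, comp_zero])
  let c' : S.X₃ ⟶ Z := hS.gIsCokernel.desc (CokernelCofork.ofπ c h2)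
  have hc' : S.g ≫ c' = c := hS.gIsCokernel.fac (CokernelCofork.ofπ c h2) WalkingParallelPair.one
  have h3 : p₃ ≫ c' = 0 := by
    apply (Z.freeHomEquiv).injective
    ext1 i
    have := congr(Z.freeHomEquiv $hc (Sum.inr i))
    rw [freeHomEquiv_comp_apply, hp, freeHomEquiv_zero] at this
    rw [freeHomEquiv_zero, freeHomEquiv_comp_apply, ← ht (S.X₃.freeHomEquiv p₃ i),
      ← sectionsMap_comp, hc']
    exact this
  have h4 : c' = 0 := (cancel_epi p₃).mp (by rw [h3, comp_zero])
  rw [← hc', h4, comp_zero]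

end general

/-- Let X be a scheme and 0 → F' → F → F'' → 0 a short exact sequence of O_X-modules whose map on global
sections Γ(X, F) → Γ(X, F'') is surjective. If F' and F'' are generated by global sections (each is
a quotient of a free O_X-module), then F is generated by global sections. -/
theorem result (X : Scheme.{u})
    (S : ShortComplex X.Modules) (hS : S.ShortExact)
    (hsurj : Function.Surjective (S.g.val.app (op ⊤)).hom)
    (h1 : Curv2.IsGloballyGenerated S.X₁) (h3 : Curv2.IsGloballyGenerated S.X₃) :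
    Curv2.IsGloballyGenerated S.X₂ := by
  obtain ⟨ι₁, p₁, hp₁⟩ := h1
  obtain ⟨ι₃, p₃, hp₃⟩ := h3
  have key := exists_epi_free_of_shortExact (R := X.ringCatSheaf) S hS p₁ p₃ ?_
  · obtain ⟨p, hp⟩ := key
    exact ⟨ι₁ ⊕ ι₃, p, hp⟩
  · intro s
    obtain ⟨t₀, ht₀⟩ := hsurj (s.1 (op ⊤))
    let M₂ : PresheafOfModules X.ringCatSheaf.obj := S.X₂.val
    let M₃ : PresheafOfModules X.ringCatSheaf.obj := S.X₃.val
    let t : M₂.sections := PresheafOfModules.sectionsMk
      (fun U => M₂.map (homOfLE (le_top : U.unop ≤ ⊤)).op t₀) (by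
        intro U V f
        rw [← PresheafOfModules.map_comp_apply]
        rfl)
    refine ⟨t, ?_⟩
    apply PresheafOfModules.sections_ext
    intro U
    show (S.g.val.app U) (M₂.map (homOfLE (le_top : U.unop ≤ ⊤)).op t₀) = s.1 U
    rw [PresheafOfModules.naturality_apply]
    have : (S.g.val.app (op ⊤)) t₀ = s.1 (op ⊤) := ht₀
    rw [this]
    exact PresheafOfModules.sections_property s _

end Groth.Agent.S10945
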