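import Groth.Statements.S10947
import Groth.Agent.S0010
import Groth.Agent.S1108
import Groth.Agent.S2357
import Groth.Agent.Lib.Helper38.HHChase
import Groth.Agent.Lib.Helper45.Dev.GraphTrick
import Groth.Agent.Lib.Helper16.LFRes.LFHyp
import Groth.Agent.Lib.Helper17.VeryAmpleAmple
import Groth.Agent.Lib.Helper11.PullbackAmple2

set_option autoImplicit false
universe u
open CategoryTheory AlgebraicGeometry
open Coherent

namespace Groth.Agent.S10947

/-- a quasi-compact scheme has a finite affine open cover indexed by `Fin t`. -/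
theorem exists_fin_affine_cover (X : Scheme.{u}) [CompactSpace X] :
    ∃ (t : ℕ) (U : Fin t → X.Opens), (∀ i, IsAffineOpen (U i)) ∧ ⨆ i, U i = ⊤ := by
  classical
  have hc : IsCompact (Set.univ : Set X) := isCompact_univ
  obtain ⟨T, hT⟩ := hc.elim_finite_subcover (fun V : X.affineOpens => ((V : X.Opens) : Set X))
    (fun V => (V : X.Opens).isOpen) (by
      intro x _
      obtain ⟨V, hV, hxV, -⟩ := TopologicalSpace.Opens.isBasis_iff_nbhd.mp
        X.isBasis_affineOpens (TopologicalSpace.Opens.mem_top x)
      exact Set.mem_iUnion.mpr ⟨⟨V, hV⟩, hxV⟩)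
  refine ⟨T.card, fun i => ((T.equivFin.symm i : X.affineOpens) : X.Opens),
    fun i => (T.equivFin.symm i : X.affineOpens).2, ?_⟩
  rw [eq_top_iff]
  intro x _
  obtain ⟨V, hV⟩ := Set.mem_iUnion.mp (hT (Set.mem_univ x))
  obtain ⟨hVT, hxV⟩ := Set.mem_iUnion.mp hV
  rw [TopologicalSpace.Opens.mem_iSup]
  refine ⟨T.equivFin ⟨V, hVT⟩, ?_⟩
  simp only [Equiv.symm_apply_apply]
  exact hxV

/-- Let k be a field and X a quasi-projective scheme over k, given with an immersion ι : X → P^N_k into
a projective space. If n is a natural number with H^i(X, E) = 0 for all finite locally free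
O_X-modules E and all i > n, then H^i(X, F) = 0 for all coherent O_X-modules F (quasi-coherent of
finite type) and all i > n. -/
theorem result
    (k : Type u) [Field k] (N : ℕ) {X : Scheme.{u}} (ι : X ⟶ CohB1.ProjSpace N k) [IsImmersion ι]
    (n : ℕ) (h : ∀ E : X.Modules, FlatMod.IsFinLocFree E → ∀ i : ℕ, n < i → Subsingleton (Coh.HH X E i))
    (F : X.Modules) (hF : Coh.IsCoh F) (i : ℕ) (hi : n < i) :
    Subsingleton (Coh.HH X F i) := by
  haveI : IsNoetherian (Proj (CohB1.polyGrading N k)) :=
    Groth.Agent.S2357.result (CohB1.polyGrading N k)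
  let ι' : X ⟶ Proj (CohB1.polyGrading N k) := ι
  haveI : IsImmersion ι' := ‹IsImmersion ι›
  haveI : IsLocallyNoetherian X := LocallyOfFiniteType.isLocallyNoetherian ι'
  haveI : CompactSpace X := by
    haveI : TopologicalSpace.NoetherianSpace X := ι'.isEmbedding.isInducing.noetherianSpace
    infer_instance
  haveI : X.IsSeparated := by
    constructor
    rw [← CategoryTheory.Limits.terminal.comp_from ι']
    infer_instance
  have hL : CohB1.IsAmple ((Scheme.Modules.pullback ι').obj (Twist.twistProjSpace N k 1)) :=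
    Groth.Agent.Lib.Helper11.PullbackAmple2.isAmple_pullback_of_isEmbedding' ι'
      ι'.isEmbedding (Groth.Agent.Lib.Helper17.VeryAmpleAmple.isAmple_O1 N k)
  have hres := Groth.Agent.S1108.result X _ hL
  obtain ⟨t, U, hU, hcov⟩ := exists_fin_affine_cover X
  have key : ∀ (m i : ℕ), n < i → t ≤ i + m → ∀ F : X.Modules, Coh.IsCoh F →
      Subsingleton (Coh.HH X F i) := by
    intro m
    induction m with
    | zero =>
      intro i _ hti F hF
      haveI : Coh.IsQCoh F := hF.1
      exact Groth.Agent.S0010.result X t U hU hcov (fun V W hV hW => hV.inf hW) F i (by omega)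
    | succ m ih =>
      intro i hi hti F hF
      obtain ⟨E, π, hE, hπ⟩ := hres F hF.1 hF.2
      have hEc : Coh.IsCoh E := Groth.Agent.Lib.Helper16.LFRes.isCoh_of_isFinLocFree hE
      have hK : Coh.IsCoh (Limits.kernel π) :=
        Groth.Agent.Lib.Helper45.GraphTrick.isCoh_kernel π hEc hF.1
      let S : ShortComplex X.Modules := ShortComplex.mk (Limits.kernel.ι π) π (Limits.kernel.condition π)
      have hS : S.ShortExact :=
        { exact := ShortComplex.exact_of_f_is_kernel _ (Limits.kernelIsKernel π)
          mono_f := inferInstanceAs (Mono (Limits.kernel.ι π))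
          epi_g := hπ }
      exact Groth.Agent.Lib.Helper38.HHChase.subsingleton_HH_right hS i (h E hE i hi)
        (ih (i + 1) (by omega) (by omega) (Limits.kernel π) hK)
  exact key t i hi (by omega) F hF

end Groth.Agent.S10947
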