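import Groth.Statements.S10949
import Groth.Agent.Lib.Helper45.Dev.FiniteGeneric

set_option linter.style.haveILetI false

set_option autoImplicit false
universe u
open CategoryTheory CategoryTheory.Limits AlgebraicGeometry
open Coherent

namespace Groth.Agent.S10949

/-- Let f : X → Y be a finite surjective morphism of integral Noetherian schemes and F a coherent
O_Y-module (quasi-coherent of finite type). Then there are an integer r ≥ 1, a coherent O_X-module G
and a morphism of O_Y-modules β : f_*G → F^r (the coproduct of r copies of F) such that the map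
induced by β on stalks of the underlying abelian sheaves at the generic point of Y is an
isomorphism. -/
theorem result
    {X Y : Scheme.{u}} [IsIntegral X] [IsNoetherian X] [IsIntegral Y] [IsNoetherian Y]
    (f : X ⟶ Y) [IsFinite f] [Surjective f] (F : Y.Modules) (hF : Coh.IsCoh F) :
    ∃ (r : ℕ) (G : X.Modules) (β : (Scheme.Modules.pushforward f).obj G ⟶ ∐ fun _ : ULift.{u} (Fin r) => F),
      0 < r ∧ Coh.IsCoh G ∧
      IsIso ((TopCat.Presheaf.stalkFunctor AddCommGrpCat.{u} (genericPoint ↥Y)).map
        ((SheafOfModules.toSheaf Y.ringCatSheaf).map β).hom) := by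
  classical
  open Groth.Agent.Lib.Helper45 Groth.Agent.Lib.Helper49
    Groth.Agent.Lib.Helper45.FiniteGeneric in
  letI := @Abelian.hasFiniteBiproducts Y.Modules _ _
  -- the local ring at the generic point is a field
  have hmax : ∀ a ∈ IsLocalRing.maximalIdeal (Y.presheaf.stalk (genericPoint ↥Y)), a = 0 := by
    letI : Field (Y.presheaf.stalk (genericPoint ↥Y)) := inferInstanceAs (Field Y.functionField)
    intro a ha
    rw [IsLocalRing.maximalIdeal_eq_bot] at ha
    exact ha
  obtain ⟨d, G, β₀, hd, hG, hβ₀⟩ := exists_hom_power f F hF (genericPoint ↥Y) hmax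
  let κ : (⨁ fun _ : Fin d => F) ≅ ∐ fun _ : ULift.{u} (Fin d) => F :=
    biproduct.isoCoproduct _ ≪≫
      (Sigma.reindex (Equiv.ulift : ULift.{u} (Fin d) ≃ Fin d) (fun _ : Fin d => F)).symm
  refine ⟨d, G, β₀ ≫ κ.hom, hd, hG, ?_⟩
  have hbij : Function.Bijective (stalkMap (β₀ ≫ κ.hom) (genericPoint ↥Y)).hom := by
    have h3 : (stalkMap (β₀ ≫ κ.hom) (genericPoint ↥Y)).hom =
        (stalkMap κ.hom (genericPoint ↥Y)).hom ∘ (stalkMap β₀ (genericPoint ↥Y)).hom :=
      funext (stalkMap_comp_apply' β₀ κ.hom (genericPoint ↥Y))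
    rw [h3]
    exact Function.Bijective.comp
      ⟨stalkMap_injective_of_mono _ _, Groth.Agent.Lib.Helper45.stalkMap_surjective_of_epi _ _⟩ hβ₀
  exact (ConcreteCategory.isIso_iff_bijective _).mpr hbij

end Groth.Agent.S10949
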