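import Mathlib
import Groth.Statements.S3088

set_option autoImplicit false
universe u
open CategoryTheory
open CohSite

namespace Groth.Agent.S3088


section helpers
open CategoryTheory CategoryTheory.Limits Opposite Simplicial AlgebraicTopology

section partA
universe w v
variable {C : Type u} [Category.{v} C] [HasFiniteProducts C]
variable {𝒰 𝒰' : FormalCoproduct.{w} C} (f g : 𝒰 ⟶ 𝒰')

lemma val_succAbove' {n : ℕ} (p : Fin (n + 1)) (i : Fin n) :
    (Fin.succAbove p i : ℕ) = if (i : ℕ) < (p : ℕ) then (i : ℕ) else (i : ℕ) + 1 := by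
  unfold Fin.succAbove
  split_ifs with h1 h2 h2
  · rfl
  · exact absurd (Fin.lt_def.mp h1) h2
  · exact absurd (Fin.lt_def.mpr h2) h1
  · rfl

lemma val_predAbove' {n : ℕ} (p : Fin n) (i : Fin (n + 1)) :
    (Fin.predAbove p i : ℕ) = if (p : ℕ) < (i : ℕ) then (i : ℕ) - 1 else (i : ℕ) := by
  unfold Fin.predAbove
  split_ifs with h1 h2 h2
  · rfl
  · exact absurd (Fin.lt_def.mp h1) h2
  · exact absurd (Fin.lt_def.mpr h2) h1
  · rfl

macro "fin_nat" : tactic => `(tactic|
  (simp only [Fin.ext_iff, val_succAbove', val_predAbove', Function.comp_apply, id_eq, decide_eq_decide,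
      decide_eq_true_eq, decide_eq_false_iff_not, Fin.lt_def, Fin.le_def, Fin.val_succ,
      Fin.val_castSucc, Fin.val_last, Fin.val_zero] at * <;>
   (try split_ifs) <;> omega))


/-- mixed map -/
noncomputable def mix {α β : Type} [Finite α] [Finite β] (θ : β → α) (c : β → Bool) :
    𝒰.power α ⟶ 𝒰'.power β :=
  Fan.IsLimit.lift (𝒰'.isLimitPowerFan β) (fun b => 𝒰.powerπ (θ b) ≫ (bif c b then f else g))

lemma mix_π {α β : Type} [Finite α] [Finite β] (θ : β → α) (c : β → Bool) (b : β) :
    mix f g θ c ≫ 𝒰'.powerπ b = 𝒰.powerπ (θ b) ≫ (bif c b then f else g) :=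
  Fan.IsLimit.fac (𝒰'.isLimitPowerFan β) _ b

lemma power_hom_ext {α : Type} [Finite α] {Z : FormalCoproduct.{w} C} (p q : Z ⟶ 𝒰'.power α)
    (h : ∀ a, p ≫ 𝒰'.powerπ a = q ≫ 𝒰'.powerπ a) : p = q :=
  Fan.IsLimit.hom_ext (𝒰'.isLimitPowerFan α) _ _ h

lemma mix_mapPower {α β γ : Type} [Finite α] [Finite β] [Finite γ] (θ : β → α) (c : β → Bool)
    (φ : γ → β) : mix f g θ c ≫ 𝒰'.mapPower φ = mix f g (θ ∘ φ) (c ∘ φ) := by
  apply power_hom_ext
  intro a
  rw [Category.assoc, FormalCoproduct.mapPower_π, mix_π, mix_π]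
  rfl

lemma mapPower_mix {α α' β : Type} [Finite α] [Finite α'] [Finite β] (θ : β → α) (c : β → Bool)
    (ψ : α → α') : 𝒰.mapPower ψ ≫ mix f g θ c = mix f g (ψ ∘ θ) c := by
  apply power_hom_ext
  intro a
  rw [Category.assoc, mix_π, mix_π, FormalCoproduct.mapPower_π_assoc]
  rfl

lemma powerMap_eq_mix_true {α : Type} [Finite α] :
    FormalCoproduct.powerMap f α = mix f g id (fun _ => true) := by
  apply power_hom_ext
  intro a
  rw [mix_π]
  show _ = 𝒰.powerπ a ≫ f
  refine FormalCoproduct.hom_ext rfl (fun i => ?_)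
  have h := Limits.Pi.map_π (fun b => f.φ (i b)) a
  exact (Category.comp_id _).trans h

lemma powerMap_eq_mix_false {α : Type} [Finite α] :
    FormalCoproduct.powerMap g α = mix f g id (fun _ => false) := by
  apply power_hom_ext
  intro a
  rw [mix_π]
  show _ = 𝒰.powerπ a ≫ g
  refine FormalCoproduct.hom_ext rfl (fun i => ?_)
  have h := Limits.Pi.map_π (fun b => g.φ (i b)) a
  exact (Category.comp_id _).trans h

lemma mix_congr {α β : Type} [Finite α] [Finite β] {θ θ' : β → α} {c c' : β → Bool}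
    (h1 : θ = θ') (h2 : c = c') : mix f g θ c = mix f g θ' c' := by rw [h1, h2]


noncomputable def hm (n : ℕ) (a : Fin (n + 1)) : 𝒰.power (Fin (n + 1)) ⟶ 𝒰'.power (Fin (n + 2)) :=
  mix f g (Fin.predAbove a) (fun j => decide (j ≤ a.castSucc))

/-- face -/
noncomputable abbrev dl (V : FormalCoproduct.{w} C) (n : ℕ) (i : Fin (n + 2)) :
    V.power (Fin (n + 2)) ⟶ V.power (Fin (n + 1)) := V.mapPower (Fin.succAbove i)

/-- degeneracy -/
noncomputable abbrev sg (V : FormalCoproduct.{w} C) (n : ℕ) (i : Fin (n + 1)) :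
    V.power (Fin (n + 1)) ⟶ V.power (Fin (n + 2)) := V.mapPower (Fin.predAbove i)


lemma id1 (n : ℕ) : hm f g n 0 ≫ dl 𝒰' n 0 = FormalCoproduct.powerMap g (Fin (n + 1)) := by
  rw [powerMap_eq_mix_false f g, hm, dl, mix_mapPower]
  apply mix_congr
  · funext k
    simp [Fin.predAbove, Fin.succAbove]
  · funext k
    simp [Fin.succAbove]

lemma id2 (n : ℕ) : hm f g n (Fin.last n) ≫ dl 𝒰' n (Fin.last (n + 1)) =
    FormalCoproduct.powerMap f (Fin (n + 1)) := by
  rw [powerMap_eq_mix_true f g, hm, dl, mix_mapPower]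
  apply mix_congr <;> funext k <;> fin_nat

lemma id3 (n : ℕ) (i : Fin (n + 2)) (j : Fin (n + 1)) (hij : i ≤ j.castSucc) :
    hm f g (n + 1) j.succ ≫ dl 𝒰' (n + 1) i.castSucc = dl 𝒰 n i ≫ hm f g n j := by
  rw [hm, hm, dl, dl, mix_mapPower, mapPower_mix]
  apply mix_congr <;> funext k <;> fin_nat

lemma id4' (n : ℕ) (j : Fin (n + 1)) :
    hm f g (n + 1) j.succ ≫ dl 𝒰' (n + 1) j.castSucc.succ =
      hm f g (n + 1) j.castSucc ≫ dl 𝒰' (n + 1) j.castSucc.succ := by
  rw [hm, hm, dl, mix_mapPower, mix_mapPower]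
  apply mix_congr <;> funext k <;> fin_nat

lemma id5 (n : ℕ) (i : Fin (n + 2)) (j : Fin (n + 1)) (hji : j.castSucc < i) :
    hm f g (n + 1) j.castSucc ≫ dl 𝒰' (n + 1) i.succ = dl 𝒰 n i ≫ hm f g n j := by
  rw [hm, hm, dl, dl, mix_mapPower, mapPower_mix]
  apply mix_congr <;> funext k <;> fin_nat

lemma id6 (n : ℕ) (i j : Fin (n + 1)) (hij : i ≤ j) :
    hm f g n j ≫ sg 𝒰' (n + 1) i.castSucc = sg 𝒰 n i ≫ hm f g (n + 1) j.succ := by
  rw [hm, hm, sg, sg, mix_mapPower, mapPower_mix]
  apply mix_congr <;> funext k <;> fin_nat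

lemma id7 (n : ℕ) (i j : Fin (n + 1)) (hji : j ≤ i) :
    hm f g n j ≫ sg 𝒰' (n + 1) i.succ = sg 𝒰 n i ≫ hm f g (n + 1) j.castSucc := by
  rw [hm, hm, sg, sg, mix_mapPower, mapPower_mix]
  apply mix_congr <;> funext k <;> fin_nat


/-- the simplicial homotopy between the two refinement maps -/
noncomputable def cechHomotopy :
    SimplicialObject.Homotopy (FormalCoproduct.cechFunctor.map f)
      (FormalCoproduct.cechFunctor.map g) where
  h {n} a := hm f g n a
  h_zero_comp_δ_zero n := id1 f g n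
  h_last_comp_δ_last n := id2 f g n
  h_succ_comp_δ_castSucc_of_lt i j hij := id3 f g _ i j hij
  h_succ_comp_δ_castSucc_succ j := id4' f g _ j
  h_castSucc_comp_δ_succ_of_lt i j hji := id5 f g _ i j hji
  h_comp_σ_castSucc_of_le i j hij := id6 f g _ i j hij
  h_comp_σ_succ_of_lt i j hji := id7 f g _ i j hji

end partA

section partB
universe v₁ u₁ v₂ u₂

section general

variable {D : Type u₁} [Category.{v₁} D] {A : Type u₂} [Category.{v₂} A] [Preadditive A]
  {X Y : SimplicialObject D} {φ ψ : X ⟶ Y} (H : SimplicialObject.Homotopy φ ψ) (E : Dᵒᵖ ⥤ A)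

/-- the cosimplicial object -/
abbrev coObj (Z : SimplicialObject D) : CosimplicialObject A := Z.rightOp ⋙ E

/-- the induced map of cosimplicial objects -/
abbrev coMap (φ : X ⟶ Y) : coObj E Y ⟶ coObj E X :=
  ((Functor.whiskeringLeft _ _ _).map (NatTrans.rightOp φ)).app E

/-- the unop of the differential -/
noncomputable def dd (Z : SimplicialObject D) (n : ℕ) :
    ((alternatingCofaceMapComplex A).obj (coObj E Z)).X n ⟶
      ((alternatingCofaceMapComplex A).obj (coObj E Z)).X (n + 1) :=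
  (((alternatingFaceMapComplex Aᵒᵖ).obj (Z ⋙ E.rightOp)).d (n + 1) n).unop

lemma dd_eq (Z : SimplicialObject D) (n : ℕ) :
    dd E Z n = ((alternatingCofaceMapComplex A).obj (coObj E Z)).d n (n + 1) := by
  show _ = (AlternatingCofaceMapComplex.obj (coObj E Z)).d n (n + 1)
  simp only [dd, AlternatingCofaceMapComplex.obj, CochainComplex.of_d,
    alternatingFaceMapComplex_obj_d, AlternatingFaceMapComplex.objD,
    AlternatingCofaceMapComplex.objD, unop_sum, unop_zsmul]
  rfl

/-- chain homotopy in the opposite category -/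
noncomputable abbrev Hc := (H.whiskerRight E.rightOp).toChainHomotopy

/-- components -/
noncomputable def hh (i j : ℕ) :
    ((alternatingCofaceMapComplex A).obj (coObj E Y)).X i ⟶
      ((alternatingCofaceMapComplex A).obj (coObj E X)).X j :=
  ((Hc H E).hom j i).unop

/-- degreewise maps -/
noncomputable def ff (φ : X ⟶ Y) (n : ℕ) :
    ((alternatingCofaceMapComplex A).obj (coObj E Y)).X n ⟶
      ((alternatingCofaceMapComplex A).obj (coObj E X)).X n :=
  (((alternatingFaceMapComplex Aᵒᵖ).map (((SimplicialObject.whiskering D Aᵒᵖ).obj E.rightOp).map φ)).f n).unop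

lemma ff_eq (φ : X ⟶ Y) (n : ℕ) :
    ff E φ n = ((alternatingCofaceMapComplex A).map (coMap E φ)).f n := rfl

lemma key_zero : ff E φ 0 = dd E Y 0 ≫ hh H E 1 0 + ff E ψ 0 := by
  have h := congrArg Quiver.Hom.unop ((Hc H E).comm 0)
  rw [Homotopy.dNext_zero_chainComplex, Homotopy.prevD_chainComplex, zero_add] at h
  rw [unop_add, unop_comp] at h
  exact h

lemma key_succ (m : ℕ) : ff E φ (m + 1) =
    dd E Y (m + 1) ≫ hh H E (m + 2) (m + 1) + hh H E (m + 1) m ≫ dd E X m + ff E ψ (m + 1) := by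
  have h := congrArg Quiver.Hom.unop ((Hc H E).comm (m + 1))
  rw [Homotopy.dNext_succ_chainComplex, Homotopy.prevD_chainComplex] at h
  rw [unop_add, unop_add, unop_comp, unop_comp] at h
  rw [add_comm (dd E Y (m + 1) ≫ _) _]
  exact h

noncomputable def cochainHomotopy :
    Homotopy ((alternatingCofaceMapComplex A).map (coMap E φ))
      ((alternatingCofaceMapComplex A).map (coMap E ψ)) where
  hom i j := hh H E i j
  zero i j hij := by
    unfold hh
    rw [(Hc H E).zero j i hij]
    rfl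
  comm n := by
    cases n with
    | zero =>
      rw [Homotopy.prevD_zero_cochainComplex, Homotopy.dNext_cochainComplex, add_zero, ← ff_eq,
        ← ff_eq, ← dd_eq]
      exact key_zero H E
    | succ m =>
      rw [Homotopy.prevD_succ_cochainComplex, Homotopy.dNext_cochainComplex, ← ff_eq, ← ff_eq,
        ← dd_eq, ← dd_eq]
      exact key_succ H E m

end general


end partB

theorem main {C : Type u} [SmallCategory C] [HasPullbacks C] (M : Cᵒᵖ ⥤ AddCommGrpCat.{u})
    {U : C} {𝒰 𝒰' : FormalCoproduct.{u} (Over U)} (f g : 𝒰 ⟶ 𝒰') (q : ℕ) :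
    HomologicalComplex.homologyMap (CohCx.cechRefine M f) q =
      HomologicalComplex.homologyMap (CohCx.cechRefine M g) q :=
  (cochainHomotopy (cechHomotopy f g)
    ((FormalCoproduct.evalOp.{u} (Over U) AddCommGrpCat.{u}).obj
      ((Over.forget U).op ⋙ M))).homologyMap_eq q


end helpers

open CategoryTheory.Limits in
/-- With A = Z: let C be a u-small category with fibre products, 𝒰 and 𝒰' two families of objects over U
(formal coproducts in the over category) and f, g : 𝒰 -> 𝒰' two refinement morphisms. Then for every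
presheaf of abelian groups M and every q, the maps induced by f and g on the q-th Cech cohomology
groups (from that of 𝒰' to that of 𝒰) coincide. -/
theorem result {C : Type u} [SmallCategory C] [HasPullbacks C] (M : Cᵒᵖ ⥤ AddCommGrpCat.{u})
    {U : C} {𝒰 𝒰' : FormalCoproduct.{u} (Over U)} (f g : 𝒰 ⟶ 𝒰') (q : ℕ) :
    HomologicalComplex.homologyMap (CohCx.cechRefine M f) q = HomologicalComplex.homologyMap (CohCx.cechRefine M g) q := by
  exact main M f g q

end Groth.Agent.S3088
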