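import Mathlib
import Groth.Statements.S10952
import Groth.Agent.S3088

set_option autoImplicit false
universe u
open CategoryTheory
open CohTop

namespace Groth.Agent.S10952

section helpers
open CategoryTheory CategoryTheory.Limits Opposite Simplicial AlgebraicTopology


section chase

/-- exactness in degree `m+1`, elementwise -/
def Acyc (K : CochainComplex AddCommGrpCat.{u} ℕ) (m : ℕ) : Prop :=
  ∀ x : K.X (m + 1), (K.d (m + 1) (m + 2)).hom x = 0 → ∃ y : K.X m, (K.d m (m + 1)).hom y = x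

lemma acyc_iff (K : CochainComplex AddCommGrpCat.{u} ℕ) (m : ℕ) :
    IsZero (K.homology (m + 1)) ↔ Acyc K m := by
  rw [← HomologicalComplex.exactAt_iff_isZero_homology,
    HomologicalComplex.exactAt_iff' K m (m + 1) (m + 2) (by simp) (by simp),
    ShortComplex.ab_exact_iff]
  rfl

lemma d_d_apply (K : CochainComplex AddCommGrpCat.{u} ℕ) (i j k : ℕ) (x : K.X i) :
    (K.d j k).hom ((K.d i j).hom x) = 0 := by
  have := ConcreteCategory.congr_hom (K.d_comp_d i j k) x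
  rw [ConcreteCategory.comp_apply] at this
  exact this

lemma comm_apply {K L : CochainComplex AddCommGrpCat.{u} ℕ} (φ : K ⟶ L) (i j : ℕ) (x : K.X i) :
    (L.d i j).hom ((φ.f i).hom x) = (φ.f j).hom ((K.d i j).hom x) := by
  have := ConcreteCategory.congr_hom (φ.comm i j) x
  rw [ConcreteCategory.comp_apply, ConcreteCategory.comp_apply] at this
  exact this

lemma comp_f_apply {K L M : CochainComplex AddCommGrpCat.{u} ℕ} (φ : K ⟶ L) (ψ : L ⟶ M) (i : ℕ)
    (x : K.X i) : ((φ ≫ ψ).f i).hom x = (ψ.f i).hom ((φ.f i).hom x) := by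
  simp

theorem chase {A A' B B' : CochainComplex AddCommGrpCat.{u} ℕ}
    (ρ : A ⟶ A') (π : A ⟶ B) (ρs : B ⟶ B') (π' : A' ⟶ B') (sq : ρ ≫ π' = π ≫ ρs)
    (h1 : ∀ q, Function.Surjective (ρ.f q).hom)
    (h2 : ∀ q, Function.Surjective (ρs.f q).hom)
    (h3 : ∀ q (x : A.X q), (ρ.f q).hom x = 0 → (π.f q).hom x = 0 → x = 0)
    (h4 : ∀ q (c : B.X q), (ρs.f q).hom c = 0 → ∃ x : A.X q, (ρ.f q).hom x = 0 ∧ (π.f q).hom x = c)
    (m : ℕ) (hA' : Acyc A' (m + 1)) (hB : Acyc B (m + 1)) (hB' : Acyc B' m) :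
    Acyc A (m + 1) := by
  intro z hz
  have sqa : ∀ q (x : A.X q), (π'.f q).hom ((ρ.f q).hom x) = (ρs.f q).hom ((π.f q).hom x) := by
    intro q x
    rw [← comp_f_apply, ← comp_f_apply, sq]
  -- step 1
  obtain ⟨b', hb'⟩ := hA' ((ρ.f _).hom z) (by rw [comm_apply, hz, map_zero])
  obtain ⟨b, rfl⟩ := h1 _ b'
  obtain ⟨z1, hz1⟩ : ∃ z1, z1 = z - (A.d (m + 1) (m + 2)).hom b := ⟨_, rfl⟩
  have hz1ρ : (ρ.f _).hom z1 = 0 := by
    rw [hz1, map_sub, ← comm_apply, hb', sub_self]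
  have hz1d : (A.d (m + 2) (m + 3)).hom z1 = 0 := by
    rw [hz1, map_sub, hz, d_d_apply, sub_zero]
  -- step 2
  obtain ⟨c, hc⟩ := hB ((π.f _).hom z1) (by rw [comm_apply, hz1d, map_zero])
  have hρc : (B'.d (m + 1) (m + 2)).hom ((ρs.f _).hom c) = 0 := by
    rw [comm_apply, hc, ← sqa, hz1ρ, map_zero]
  obtain ⟨e, he⟩ := hB' _ hρc
  obtain ⟨e', rfl⟩ := h2 _ e
  obtain ⟨c1, hc1⟩ : ∃ c1, c1 = c - (B.d m (m + 1)).hom e' := ⟨_, rfl⟩
  have hc1ρ : (ρs.f _).hom c1 = 0 := by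
    rw [hc1, map_sub, ← comm_apply, he, sub_self]
  have hc1d : (B.d (m + 1) (m + 2)).hom c1 = (π.f _).hom z1 := by
    rw [hc1, map_sub, hc, d_d_apply, sub_zero]
  -- step 3
  obtain ⟨a, haρ, haπ⟩ := h4 _ c1 hc1ρ
  have : (A.d (m + 1) (m + 2)).hom a - z1 = 0 := by
    apply h3
    · rw [map_sub, ← comm_apply, haρ, map_zero, hz1ρ, sub_self]
    · rw [map_sub, ← comm_apply, haπ, hc1d, sub_self]
  refine ⟨a + b, ?_⟩
  rw [map_add, sub_eq_zero.mp this, hz1]
  abel

end chase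



section cx
variable {C : Type u} [SmallCategory C] [HasFiniteProducts C]
variable (P : Cᵒᵖ ⥤ AddCommGrpCat.{u})

noncomputable abbrev EE : (FormalCoproduct.{u} C)ᵒᵖ ⥤ AddCommGrpCat.{u} :=
  (FormalCoproduct.evalOp.{u} C AddCommGrpCat.{u}).obj P

noncomputable abbrev Cx (𝒱 : FormalCoproduct.{u} C) : CochainComplex AddCommGrpCat.{u} ℕ :=
  (alternatingCofaceMapComplex _).obj (Groth.Agent.S3088.coObj (EE P) 𝒱.cech)

noncomputable abbrev cxMap {𝒱 𝒱' : FormalCoproduct.{u} C} (f : 𝒱 ⟶ 𝒱') : Cx P 𝒱' ⟶ Cx P 𝒱 :=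
  (alternatingCofaceMapComplex _).map
    (Groth.Agent.S3088.coMap (EE P) (FormalCoproduct.cechFunctor.map f))

lemma cxMap_comp {𝒱 𝒱' 𝒱'' : FormalCoproduct.{u} C} (f : 𝒱 ⟶ 𝒱') (g : 𝒱' ⟶ 𝒱'') :
    cxMap P (f ≫ g) = cxMap P g ≫ cxMap P f := by
  show (alternatingCofaceMapComplex _).map _ =
    (alternatingCofaceMapComplex _).map _ ≫ (alternatingCofaceMapComplex _).map _
  rw [← Functor.map_comp]
  refine congrArg (fun t => (alternatingCofaceMapComplex AddCommGrpCat.{u}).map t) ?_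
  apply NatTrans.ext
  funext n
  show (EE P).map ((FormalCoproduct.cechFunctor.map (f ≫ g)).app (op n)).op =
    (EE P).map ((FormalCoproduct.cechFunctor.map g).app (op n)).op ≫
      (EE P).map ((FormalCoproduct.cechFunctor.map f).app (op n)).op
  rw [← Functor.map_comp, ← op_comp, Functor.map_comp, NatTrans.comp_app]

lemma cxMap_f {𝒱 𝒱' : FormalCoproduct.{u} C} (f : 𝒱 ⟶ 𝒱') (q : ℕ) :
    (cxMap P f).f q = (EE P).map (FormalCoproduct.powerMap f (Fin (q + 1))).op := rfl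

/-- coordinates -/
noncomputable def co {𝒲 : FormalCoproduct.{u} C} (x : ((EE P).obj (op 𝒲) : AddCommGrpCat.{u}))
    (i : 𝒲.I) : (P.obj (op (𝒲.obj i)) : AddCommGrpCat.{u}) :=
  (Pi.π (fun i : 𝒲.I => P.obj (op (𝒲.obj i))) i).hom x

noncomputable def mkE {𝒲 : FormalCoproduct.{u} C}
    (y : ∀ i : 𝒲.I, (P.obj (op (𝒲.obj i)) : AddCommGrpCat.{u})) :
    ((EE P).obj (op 𝒲) : AddCommGrpCat.{u}) :=
  (Concrete.productEquiv (fun i : 𝒲.I => P.obj (op (𝒲.obj i)))).symm y

lemma co_mkE {𝒲 : FormalCoproduct.{u} C}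
    (y : ∀ i : 𝒲.I, (P.obj (op (𝒲.obj i)) : AddCommGrpCat.{u})) (i : 𝒲.I) :
    co P (mkE P y) i = y i :=
  Concrete.productEquiv_symm_apply_π _ y i

lemma co_ext {𝒲 : FormalCoproduct.{u} C} (x x' : ((EE P).obj (op 𝒲) : AddCommGrpCat.{u}))
    (h : ∀ i, co P x i = co P x' i) : x = x' := by
  apply (Concrete.productEquiv (fun i : 𝒲.I => P.obj (op (𝒲.obj i)))).injective
  funext i
  have e1 := Concrete.productEquiv_apply_apply (fun i : 𝒲.I => P.obj (op (𝒲.obj i))) x i
  have e2 := Concrete.productEquiv_apply_apply (fun i : 𝒲.I => P.obj (op (𝒲.obj i))) x' i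
  exact e1.trans ((h i).trans e2.symm)

lemma co_zero {𝒲 : FormalCoproduct.{u} C} (i : 𝒲.I) :
    co P (0 : ((EE P).obj (op 𝒲) : AddCommGrpCat.{u})) i = 0 := by
  exact map_zero (Pi.π (fun i : 𝒲.I => P.obj (op (𝒲.obj i))) i).hom

lemma co_map {𝒲 𝒲' : FormalCoproduct.{u} C} (g : 𝒲 ⟶ 𝒲')
    (x : ((EE P).obj (op 𝒲') : AddCommGrpCat.{u})) (i : 𝒲.I) :
    co P (((EE P).map g.op).hom x) i = (P.map (g.φ i).op).hom (co P x (g.f i)) := by
  unfold co
  have h : (EE P).map g.op ≫ Pi.π (fun i : 𝒲.I => P.obj (op (𝒲.obj i))) i =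
      Pi.π (fun i : 𝒲'.I => P.obj (op (𝒲'.obj i))) (g.f i) ≫ P.map (g.φ i).op := by
    exact Pi.lift_π (fun i : 𝒲.I => Pi.π (fun i : 𝒲'.I => P.obj (op (𝒲'.obj i))) (g.f i) ≫
      P.map (g.φ i).op) i
  exact ConcreteCategory.congr_hom h x

end cx


section thin
variable {C : Type u} [SmallCategory C] [HasFiniteProducts C] [Quiver.IsThin C]
variable (P : Cᵒᵖ ⥤ AddCommGrpCat.{u})

omit [HasFiniteProducts C] in
lemma map_endo {X : C} (g : X ⟶ X) (y : (P.obj (op X) : AddCommGrpCat.{u})) :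
    (P.map g.op).hom y = y := by
  have : g = 𝟙 X := Subsingleton.elim _ _
  subst this
  simp

omit [HasFiniteProducts C] in
lemma map_map {X Y : C} (g : X ⟶ Y) (g' : Y ⟶ X) (y : (P.obj (op X) : AddCommGrpCat.{u})) :
    (P.map g.op).hom ((P.map g'.op).hom y) = y := by
  have h : P.map g'.op ≫ P.map g.op = P.map (g ≫ g').op := by
    rw [← P.map_comp, ← op_comp]
  have h2 := ConcreteCategory.congr_hom h y
  exact h2.trans (map_endo P _ y)

omit [HasFiniteProducts C] in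
lemma thin_hom_ext {𝒱 𝒲 : FormalCoproduct.{u} C} (f g : 𝒱 ⟶ 𝒲) (h : f.f = g.f) : f = g :=
  FormalCoproduct.hom_ext h (fun _ => Subsingleton.elim _ _)

variable {ι : Type u} (V : ι → C) (s : ι)

/-- the family -/
abbrev fam : FormalCoproduct.{u} C := ⟨ι, V⟩

/-- sub family avoiding s -/
abbrev sub : FormalCoproduct.{u} C := ⟨{i : ι // i ≠ s}, fun i => V i.1⟩

/-- inclusion -/
def jj : sub V s ⟶ fam V := ⟨Subtype.val, fun _ => 𝟙 _⟩

lemma co_res (q : ℕ) (x : ((Cx P (fam V)).X q : AddCommGrpCat.{u}))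
    (τ : Fin (q + 1) → {i : ι // i ≠ s}) :
    co P (𝒲 := (sub V s).power (Fin (q + 1))) (((cxMap P (jj V s)).f q).hom x) τ =
      co P (𝒲 := (fam V).power (Fin (q + 1))) x (Subtype.val ∘ τ) := by
  have h := co_map P (FormalCoproduct.powerMap (jj V s) (Fin (q + 1))) x τ
  refine h.trans ?_
  exact map_endo P _ _

lemma res_surj (q : ℕ) : Function.Surjective ((cxMap P (jj V s)).f q).hom := by
  classical
  intro y
  refine ⟨mkE P (𝒲 := (fam V).power (Fin (q + 1))) (fun σ =>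
    if h : ∀ k, σ k ≠ s then co P (𝒲 := (sub V s).power (Fin (q + 1))) y (fun k => ⟨σ k, h k⟩)
    else 0), ?_⟩
  apply co_ext P (𝒲 := (sub V s).power (Fin (q + 1)))
  intro τ
  refine (co_res P V s q _ τ).trans ?_
  refine (co_mkE P (𝒲 := (fam V).power (Fin (q + 1))) _ _).trans ?_
  have hτ : ∀ k, (Subtype.val ∘ τ) k ≠ s := fun k => (τ k).2
  exact dif_pos hτ

end thin

section star
variable {C : Type u} [SmallCategory C] [HasFiniteProducts C] [Quiver.IsThin C]
variable (P : Cᵒᵖ ⥤ AddCommGrpCat.{u})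
variable {ι : Type u} (V : ι → C) (s : ι)

/-- starred family -/
noncomputable abbrev Vs : ι → C := fun i => V s ⨯ V i

/-- projection -/
noncomputable def pp : fam (Vs V s) ⟶ fam V := ⟨id, fun _ => prod.snd⟩

/-- projection on subfamilies -/
noncomputable def pp' : sub (Vs V s) s ⟶ sub V s := ⟨id, fun _ => prod.snd⟩

lemma sq_fam : jj (Vs V s) s ≫ pp V s = pp' V s ≫ jj V s := thin_hom_ext _ _ rfl

omit [Quiver.IsThin C] in
lemma exists_back {q : ℕ} (σ : Fin (q + 1) → ι) (h : ∃ k, σ k = s) :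
    Nonempty (((fam V).power (Fin (q + 1))).obj σ ⟶ ((fam (Vs V s)).power (Fin (q + 1))).obj σ) := by
  obtain ⟨k, hk⟩ := h
  exact ⟨Pi.lift (fun a => prod.lift (Pi.π (V ∘ σ) k ≫ eqToHom (by simp [hk])) (Pi.π (V ∘ σ) a))⟩

lemma co_pp (q : ℕ) (x : ((Cx P (fam V)).X q : AddCommGrpCat.{u})) (σ : Fin (q + 1) → ι) :
    ∃ g : ((fam (Vs V s)).power (Fin (q + 1))).obj σ ⟶ ((fam V).power (Fin (q + 1))).obj σ,
    co P (𝒲 := (fam (Vs V s)).power (Fin (q + 1))) (((cxMap P (pp V s)).f q).hom x) σ =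
      (P.map g.op).hom (co P (𝒲 := (fam V).power (Fin (q + 1))) x σ) :=
  ⟨(FormalCoproduct.powerMap (pp V s) (Fin (q + 1))).φ σ,
    co_map P (FormalCoproduct.powerMap (pp V s) (Fin (q + 1))) x σ⟩

lemma exists_tau {q : ℕ} (σ : Fin (q + 1) → ι) (h : ¬ ∃ k, σ k = s) :
    ∃ τ : Fin (q + 1) → {i : ι // i ≠ s}, Subtype.val ∘ τ = σ :=
  ⟨fun k => ⟨σ k, fun hk => h ⟨k, hk⟩⟩, rfl⟩

lemma h3 (q : ℕ) (x : ((Cx P (fam V)).X q : AddCommGrpCat.{u}))
    (hρ : ((cxMap P (jj V s)).f q).hom x = 0)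
    (hπ : ((cxMap P (pp V s)).f q).hom x = 0) : x = 0 := by
  apply co_ext P (𝒲 := (fam V).power (Fin (q + 1)))
  intro σ
  refine Eq.trans ?_ (co_zero P (𝒲 := (fam V).power (Fin (q + 1))) σ).symm
  by_cases h : ∃ k, σ k = s
  · obtain ⟨g'⟩ := exists_back V s σ h
    obtain ⟨g, hg⟩ := co_pp P V s q x σ
    rw [hπ] at hg
    have e2 := (co_zero P (𝒲 := (fam (Vs V s)).power (Fin (q + 1))) σ).symm.trans hg
    have e3 := map_map P g' g (co P (𝒲 := (fam V).power (Fin (q + 1))) x σ)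
    rw [← e2, map_zero] at e3
    exact e3.symm
  · obtain ⟨τ, rfl⟩ := exists_tau s σ h
    have e1 := co_res P V s q x τ
    rw [hρ] at e1
    exact e1.symm.trans (co_zero P (𝒲 := (sub V s).power (Fin (q + 1))) τ)

lemma h4 (q : ℕ) (c : ((Cx P (fam (Vs V s))).X q : AddCommGrpCat.{u}))
    (hc : ((cxMap P (jj (Vs V s) s)).f q).hom c = 0) :
    ∃ x : ((Cx P (fam V)).X q : AddCommGrpCat.{u}),
      ((cxMap P (jj V s)).f q).hom x = 0 ∧ ((cxMap P (pp V s)).f q).hom x = c := by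
  classical
  obtain ⟨x, hx⟩ : ∃ x : ((Cx P (fam V)).X q : AddCommGrpCat.{u}), x =
    mkE P (𝒲 := (fam V).power (Fin (q + 1))) (fun σ =>
      if h : ∃ k, σ k = s then
        (P.map (Classical.choice (exists_back V s σ h)).op).hom
          (co P (𝒲 := (fam (Vs V s)).power (Fin (q + 1))) c σ)
      else 0) := ⟨_, rfl⟩
  have hco : ∀ σ : Fin (q + 1) → ι, co P (𝒲 := (fam V).power (Fin (q + 1))) x σ =
      if h : ∃ k, σ k = s then
        (P.map (Classical.choice (exists_back V s σ h)).op).hom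
          (co P (𝒲 := (fam (Vs V s)).power (Fin (q + 1))) c σ)
      else 0 := by
    intro σ
    rw [hx]
    exact co_mkE P (𝒲 := (fam V).power (Fin (q + 1))) _ σ
  refine ⟨x, ?_, ?_⟩
  · apply co_ext P (𝒲 := (sub V s).power (Fin (q + 1)))
    intro τ
    refine (co_res P V s q _ τ).trans ?_
    refine (hco _).trans ?_
    refine (dif_neg ?_).trans (co_zero P (𝒲 := (sub V s).power (Fin (q + 1))) τ).symm
    rintro ⟨k, hk⟩
    exact (τ k).2 hk
  · apply co_ext P (𝒲 := (fam (Vs V s)).power (Fin (q + 1)))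
    intro σ
    obtain ⟨g, hg⟩ := co_pp P V s q x σ
    refine hg.trans ?_
    by_cases h : ∃ k, σ k = s
    · rw [(hco σ).trans (dif_pos h)]
      exact map_map P _ _ _
    · rw [(hco σ).trans (dif_neg h), map_zero]
      obtain ⟨τ, rfl⟩ := exists_tau s σ h
      have e1 := co_res P (Vs V s) s q c τ
      rw [hc] at e1
      exact (e1.symm.trans (co_zero P (𝒲 := (sub (Vs V s) s).power (Fin (q + 1))) τ)).symm

end star

lemma sum_const_smul {M : Type*} [AddCommGroup M] (n : ℕ) (D : M) :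
    ∑ i : Fin n, (-1 : ℤ) ^ (i : ℕ) • D = (if Even n then (0 : ℤ) else 1) • D := by
  rw [← Finset.sum_smul, Fin.sum_neg_one_pow]

section one
variable {C : Type u} [SmallCategory C] [HasFiniteProducts C] [Quiver.IsThin C]
variable (P : Cᵒᵖ ⥤ AddCommGrpCat.{u})

section subs
variable {ι : Type u} (V : ι → C) [Subsingleton ι]

lemma hom_subsingleton {α β : Type} [Finite α] [Finite β]
    (f g : (fam V).power α ⟶ (fam V).power β) : f = g :=
  thin_hom_ext f g (by funext i; exact Subsingleton.elim (α := β → ι) _ _)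

/-- the common coface -/
noncomputable def DD (q : ℕ) : (Cx P (fam V)).X q ⟶ (Cx P (fam V)).X (q + 1) :=
  (Groth.Agent.S3088.coObj (EE P) (fam V).cech).δ (0 : Fin (q + 2))

/-- the inverse -/
noncomputable def DI (q : ℕ) : (Cx P (fam V)).X (q + 1) ⟶ (Cx P (fam V)).X q :=
  (Groth.Agent.S3088.coObj (EE P) (fam V).cech).σ (0 : Fin (q + 1))

omit [Quiver.IsThin C] [Subsingleton ι] in
lemma DD_DI (q : ℕ) : DD P V q ≫ DI P V q = 𝟙 _ :=
  CosimplicialObject.δ_comp_σ_self (X := Groth.Agent.S3088.coObj (EE P) (fam V).cech) (i := (0 : Fin (q + 1)))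

lemma DI_DD (q : ℕ) : DI P V q ≫ DD P V q = 𝟙 _ := by
  show (EE P).map ((fam V).cech.σ (0 : Fin (q + 1))).op ≫
    (EE P).map ((fam V).cech.δ (0 : Fin (q + 2))).op = 𝟙 _
  rw [← Functor.map_comp, ← op_comp]
  have : (fam V).cech.δ (0 : Fin (q + 2)) ≫ (fam V).cech.σ (0 : Fin (q + 1)) = 𝟙 _ :=
    hom_subsingleton V (α := Fin (q + 2)) (β := Fin (q + 2)) _ _
  rw [this, op_id, CategoryTheory.Functor.map_id]

lemma all_eq (q : ℕ) (i : Fin (q + 2)) :
    (Groth.Agent.S3088.coObj (EE P) (fam V).cech).δ i = DD P V q := by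
  show (EE P).map ((fam V).cech.δ i).op = (EE P).map ((fam V).cech.δ (0 : Fin (q + 2))).op
  have : (fam V).cech.δ i = (fam V).cech.δ (0 : Fin (q + 2)) :=
    hom_subsingleton V (α := Fin (q + 2)) (β := Fin (q + 1)) _ _
  rw [this]

lemma d_eq (q : ℕ) : (Cx P (fam V)).d q (q + 1) =
    (if Even (q + 2) then (0 : ℤ) else 1) • DD P V q := by
  have h1 : (Cx P (fam V)).d q (q + 1) = ∑ i : Fin (q + 2), (-1 : ℤ) ^ (i : ℕ) •
      (Groth.Agent.S3088.coObj (EE P) (fam V).cech).δ i := by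
    show (AlternatingCofaceMapComplex.obj _).d q (q + 1) = _
    simp only [AlternatingCofaceMapComplex.obj, CochainComplex.of_d,
      AlternatingCofaceMapComplex.objD]
  rw [h1]
  simp only [all_eq]
  exact sum_const_smul (q + 2) (DD P V q)

lemma DI_DD_apply (q : ℕ) (x : ((Cx P (fam V)).X (q + 1) : AddCommGrpCat.{u})) :
    (DD P V q).hom ((DI P V q).hom x) = x := by
  have := ConcreteCategory.congr_hom (DI_DD P V q) x
  exact this

omit [Quiver.IsThin C] [Subsingleton ι] in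
lemma DD_DI_apply (q : ℕ) (x : ((Cx P (fam V)).X q : AddCommGrpCat.{u})) :
    (DI P V q).hom ((DD P V q).hom x) = x := by
  have := ConcreteCategory.congr_hom (DD_DI P V q) x
  exact this

lemma acyc_one (m : ℕ) : Acyc (Cx P (fam V)) m := by
  intro x hx
  rcases Nat.even_or_odd m with hm | hm
  · -- d^{m+1} = DD
    have hne : ¬ Even (m + 1 + 2) := by
      rw [Nat.not_even_iff_odd]; exact ⟨hm.choose + 1, by have := hm.choose_spec; omega⟩
    have hd := d_eq P V (m + 1)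
    rw [if_neg hne, one_smul] at hd
    rw [hd] at hx
    have hx0 : x = 0 := by
      rw [← DD_DI_apply P V (m + 1) x, hx, map_zero]
    exact ⟨0, by rw [map_zero, hx0]⟩
  · have hne : ¬ Even (m + 2) := by
      rw [Nat.not_even_iff_odd]; exact ⟨hm.choose + 1, by have := hm.choose_spec; omega⟩
    have hd := d_eq P V m
    rw [if_neg hne, one_smul] at hd
    refine ⟨(DI P V m).hom x, ?_⟩
    rw [hd]
    exact DI_DD_apply P V m x

end subs

lemma cxMap_id (𝒱 : FormalCoproduct.{u} C) : cxMap P (𝟙 𝒱) = 𝟙 _ := by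
  refine (congrArg (fun t => (alternatingCofaceMapComplex AddCommGrpCat.{u}).map t) ?_).trans
    (CategoryTheory.Functor.map_id _ _)
  apply NatTrans.ext
  funext n
  show (EE P).map ((FormalCoproduct.cechFunctor.map (𝟙 𝒱)).app (op n)).op = 𝟙 _
  rw [CategoryTheory.Functor.map_id, NatTrans.id_app, op_id, CategoryTheory.Functor.map_id]

variable {ι : Type u} (V : ι → C) (s : ι)

lemma star_acyc (m : ℕ) : IsZero ((Cx P (fam (Vs V s))).homology (m + 1)) := by
  let W : PUnit.{u + 1} → C := fun _ => V s ⨯ V s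
  let a : fam (Vs V s) ⟶ fam W := ⟨fun _ => PUnit.unit, fun _ => prod.lift prod.fst prod.fst⟩
  let b : fam W ⟶ fam (Vs V s) := ⟨fun _ => s, fun _ => 𝟙 _⟩
  have hH := (Groth.Agent.S3088.cochainHomotopy
    (Groth.Agent.S3088.cechHomotopy (𝟙 (fam (Vs V s))) (a ≫ b)) (EE P)).homologyMap_eq (m + 1)
  have hH' : HomologicalComplex.homologyMap (cxMap P (𝟙 (fam (Vs V s)))) (m + 1) =
      HomologicalComplex.homologyMap (cxMap P (a ≫ b)) (m + 1) := hH
  rw [cxMap_id, HomologicalComplex.homologyMap_id, cxMap_comp,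
    HomologicalComplex.homologyMap_comp] at hH'
  have hZ : IsZero ((Cx P (fam W)).homology (m + 1)) := (acyc_iff _ _).mpr (acyc_one P W m)
  rw [IsZero.iff_id_eq_zero, hH']
  rw [hZ.eq_of_tgt (HomologicalComplex.homologyMap (cxMap P b) (m + 1)) 0, zero_comp]

omit [Quiver.IsThin C] in
lemma isZero_of_isEmpty [IsEmpty ι] (q : ℕ) : IsZero ((Cx P (fam V)).homology q) := by
  apply HomologicalComplex.ExactAt.isZero_homology
  apply HomologicalComplex.ExactAt.of_isZero
  have : Subsingleton ((Cx P (fam V)).X q : AddCommGrpCat.{u}) := by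
    constructor
    intro x y
    apply co_ext P (𝒲 := (fam V).power (Fin (q + 1)))
    intro σ
    exact (IsEmpty.false (σ 0)).elim
  exact AddCommGrpCat.isZero_of_subsingleton _

theorem main_aux (n : ℕ) : ∀ (ι : Type u) [Finite ι] (V : ι → C), Nat.card ι = n →
    ∀ q, n ≤ q → IsZero ((Cx P (fam V)).homology q) := by
  induction n with
  | zero =>
    intro ι _ V hcard q _
    have : IsEmpty ι := Finite.card_eq_zero_iff.mp hcard
    exact isZero_of_isEmpty P V q
  | succ n ih =>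
    intro ι _ V hcard q hq
    rcases Nat.eq_zero_or_pos n with rfl | hn
    · obtain ⟨h1, _⟩ := Nat.card_eq_one_iff_unique.mp hcard
      obtain ⟨m, rfl⟩ : ∃ m, q = m + 1 := ⟨q - 1, by omega⟩
      exact (acyc_iff _ _).mpr (acyc_one P V m)
    · have hne : Nonempty ι := Finite.card_pos_iff.mp (by omega)
      obtain ⟨s⟩ := hne
      have hcard' : Nat.card {i : ι // i ≠ s} = n := by
        classical
        have := Nat.card_congr (Equiv.optionSubtypeNe s)
        rw [Finite.card_option] at this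
        omega
      obtain ⟨m, rfl⟩ : ∃ m, q = m + 2 := ⟨q - 2, by omega⟩
      refine (acyc_iff _ _).mpr ?_
      have sq : cxMap P (jj V s) ≫ cxMap P (pp' V s) = cxMap P (pp V s) ≫ cxMap P (jj (Vs V s) s) := by
        rw [← cxMap_comp, ← cxMap_comp, sq_fam]
      refine chase (cxMap P (jj V s)) (cxMap P (pp V s)) (cxMap P (jj (Vs V s) s))
        (cxMap P (pp' V s)) sq (res_surj P V s) (res_surj P (Vs V s) s) (h3 P V s) (h4 P V s) m
        ?_ ?_ ?_
      · exact (acyc_iff _ _).mp (ih {i : ι // i ≠ s} (fun i => V i.1) hcard' (m + 2) (by omega))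
      · exact (acyc_iff _ _).mp (star_acyc P V s (m + 1))
      · exact (acyc_iff _ _).mp
          (ih {i : ι // i ≠ s} (fun i => Vs V s i.1) hcard' (m + 1) (by omega))

end one

end helpers

open TopologicalSpace Opposite CategoryTheory.Limits in
/-- Take a topological space X, a presheaf P of abelian groups on it, and an open cover U of X indexed
by a finite set with n elements. Then the Cech cohomology of P with respect to U, computed from the
full complex of ordered cochains, is zero in every degree q with n ≤ q. -/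
theorem result {X : TopCat.{u}} (P : (Opens X)ᵒᵖ ⥤ AddCommGrpCat.{u})
    {ι : Type u} [Finite ι] (U : ι → Opens X) (hU : iSup U = ⊤) (q : ℕ) (hq : Nat.card ι ≤ q) :
    IsZero (CohTop.cechH P U q) := by
  exact main_aux P (Nat.card ι) ι U rfl q hq

end Groth.Agent.S10952
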