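import Groth.Statements.S10954
import Groth.Agent.Lib.Helper18.SerreSurj

set_option autoImplicit false
universe u
open Coherent
open Groth.Agent.Lib.Helper1

namespace Groth.Agent.S10954

open AlgebraicGeometry CategoryTheory CategoryTheory.Limits Opposite in
/-- Let X be a quasi-compact scheme such that, for every short exact sequence 0 → F' → F → F'' → 0 of
quasi-coherent O_X-modules whose first term F' admits a monomorphism into a finite direct sum of
copies of O_X, taking global sections gives a surjection F(X) → F''(X). Then X is affine. (The
published statement is an equivalence of three conditions on a quasi-compact scheme; this row states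
the implication from exactness of global sections on such sequences to affineness.) -/
theorem result (X : Scheme.{u}) [CompactSpace X]
    (h : ∀ (S : ShortComplex X.Modules) (n : ℕ)
      (j : S.X₁ ⟶ ∏ᶜ (fun _ : Fin n => Coh.structureModule X)),
      S.ShortExact → Mono j → Coh.IsQCoh S.X₁ → Coh.IsQCoh S.X₂ → Coh.IsQCoh S.X₃ →
        Function.Surjective (S.g.val.app (op ⊤)).hom) :
    IsAffine X := by
  apply Groth.Agent.Lib.Helper18.SerreSurj.isAffine_of_surjective X
  · intro I
    have hm : Mono (Pi.lift (fun _ : Fin 1 => 𝟙 (Coh.structureModule X))) :=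
      mono_of_mono_fac (Pi.lift_π (fun _ : Fin 1 => 𝟙 (Coh.structureModule X)) 0)
    have hm' : Mono (ClSub.idealModι I) := mono_idealModι I
    have hj : Mono (ClSub.idealModι I ≫ Pi.lift (fun _ : Fin 1 => 𝟙 (Coh.structureModule X))) :=
      mono_comp _ _
    have h1 := h (idealModComplex I) 1
      (ClSub.idealModι I ≫ Pi.lift (fun _ : Fin 1 => 𝟙 (Coh.structureModule X)))
      (idealModComplex_shortExact I) hj (isQuasicoherent_idealMod I)
      (isQuasicoherent_structureModule X) (isQuasicoherent_quotMod I)
    exact h1
  · intro l hl
    let S : ShortComplex X.Modules := ShortComplex.mk (kernel.ι (lin l)) (lin l)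
      (kernel.condition _)
    have hS : S.ShortExact := ShortComplex.ShortExact.mk' (ShortComplex.exact_kernel (lin l))
      (inferInstanceAs (Mono (kernel.ι (lin l)))) hl
    have := Groth.Agent.Lib.Helper18.SerreSurj.mono_opowToPi X l.length
    have h2 := h S l.length
      (kernel.ι (lin l) ≫ Groth.Agent.Lib.Helper18.SerreSurj.opowToPi X l.length) hS
      (mono_comp _ _)
      (Groth.Agent.Lib.Helper49.isQuasicoherent_kernel _ (isQuasicoherent_Opow X _)
        (isQuasicoherent_structureModule X))
      (isQuasicoherent_Opow X _) (isQuasicoherent_structureModule X)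
    obtain ⟨t, ht⟩ := h2 (1 : Γ(X, ⊤))
    exact ⟨t, ht⟩

end Groth.Agent.S10954
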