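import Groth.Statements.S10956
import Mathlib.RingTheory.Kaehler.TensorProduct

set_option autoImplicit false
universe u
open scoped TensorProduct
open CAlg

open KaehlerDifferential

namespace Groth.Agent.S10956

attribute [local instance] Algebra.TensorProduct.rightAlgebra in
theorem aux (R A B : Type u) [CommRing R] [CommRing A] [CommRing B]
    [Algebra R A] [Algebra R B] :
    ∃ r : Ω[(A ⊗[R] B)⁄R] →ₗ[A ⊗[R] B] ((A ⊗[R] B) ⊗[A] Ω[A⁄R]),
      (∀ (a : A) (b : B), r (KaehlerDifferential.D R (A ⊗[R] B) (a ⊗ₜ[R] b)) =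
          ((1 : A) ⊗ₜ[R] b) ⊗ₜ[A] KaehlerDifferential.D R A a) ∧
        Function.Bijective (fun ω : Ω[(A ⊗[R] B)⁄R] =>
          (r ω, KaehlerDifferential.map R A (A ⊗[R] B) (A ⊗[R] B) ω)) := by
  let e := KaehlerDifferential.tensorKaehlerEquiv R B A (A ⊗[R] B)
  let r : Ω[(A ⊗[R] B)⁄R] →ₗ[A ⊗[R] B] ((A ⊗[R] B) ⊗[A] Ω[A⁄R]) :=
    e.symm.toLinearMap ∘ₗ KaehlerDifferential.map R B (A ⊗[R] B) (A ⊗[R] B)
  have hr : ∀ (a : A) (b : B), r (KaehlerDifferential.D R (A ⊗[R] B) (a ⊗ₜ[R] b)) =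
      ((1 : A) ⊗ₜ[R] b) ⊗ₜ[A] KaehlerDifferential.D R A a := by
    intro a b
    simp only [r, LinearMap.comp_apply, LinearEquiv.coe_coe, KaehlerDifferential.map_D]
    have := KaehlerDifferential.tensorKaehlerEquiv_symm_D_tmul' R B A b a
    rw [Algebra.TensorProduct.right_algebraMap_apply] at this
    exact this
  refine ⟨r, hr, ?_⟩
  let u := KaehlerDifferential.mapBaseChange R A (A ⊗[R] B)
  let v := KaehlerDifferential.map R A (A ⊗[R] B) (A ⊗[R] B)
  have hvsurj : Function.Surjective v := KaehlerDifferential.map_surjective R A (A ⊗[R] B)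
  have hex := KaehlerDifferential.exact_mapBaseChange_map R A (A ⊗[R] B)
  -- r ∘ map = (1 ⊗ ·)
  have h1 : (r.restrictScalars A) ∘ₗ (KaehlerDifferential.map R R A (A ⊗[R] B)) =
      TensorProduct.mk A (A ⊗[R] B) Ω[A⁄R] 1 := by
    apply LinearMap.ext_on (KaehlerDifferential.span_range_derivation R A)
    rintro _ ⟨a, rfl⟩
    simp only [LinearMap.comp_apply, LinearMap.restrictScalars_apply, KaehlerDifferential.map_D,
      TensorProduct.mk_apply]
    have := hr a 1
    rw [Algebra.TensorProduct.algebraMap_apply, Algebra.algebraMap_self, RingHom.id_apply]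
    rw [this]
    rfl
  have hru : ∀ z, r (u z) = z := by
    intro z
    induction z with
    | zero => simp
    | add x y hx hy => rw [map_add, map_add, hx, hy]
    | tmul t y =>
      simp only [u, KaehlerDifferential.mapBaseChange_tmul, map_smul]
      have := LinearMap.congr_fun h1 y
      simp only [LinearMap.comp_apply, LinearMap.restrictScalars_apply, TensorProduct.mk_apply] at this
      rw [this, TensorProduct.smul_tmul', smul_eq_mul, mul_one]
  have hvu : ∀ z, v (u z) = 0 := fun z => (hex (u z)).mpr ⟨z, rfl⟩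
  constructor
  · intro ω₁ ω₂ h
    simp only [Prod.mk.injEq] at h
    obtain ⟨hrω, hvω⟩ := h
    have h2 : v (ω₁ - ω₂) = 0 := by rw [map_sub, hvω, sub_self]
    obtain ⟨z, hz⟩ := (hex (ω₁ - ω₂)).mp h2
    have h3 : r (ω₁ - ω₂) = 0 := by rw [map_sub, hrω, sub_self]
    have hz' : u z = ω₁ - ω₂ := hz
    rw [← hz', hru] at h3
    rw [h3, map_zero] at hz'
    exact sub_eq_zero.mp hz'.symm
  · rintro ⟨z, η⟩
    obtain ⟨ω₀, hω₀⟩ := hvsurj η
    refine ⟨ω₀ + u (z - r ω₀), ?_⟩
    simp only [Prod.mk.injEq]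
    constructor
    · rw [map_add, hru]; abel
    · have : v (ω₀ + u (z - r ω₀)) = η := by rw [map_add, hvu, add_zero, hω₀]
      exact this

/-- Let R be a commutative ring, A and B commutative R-algebras and T = A ⊗_R B, an A-algebra through
the left factor. There is a T-linear map r from Ω_{T/R} to T ⊗_A Ω_{A/R} sending d(a ⊗ b) to (1 ⊗ b)
⊗ da for all a in A and b in B, and together with the canonical map Ω_{T/R} → Ω_{T/A} it identifies
Ω_{T/R} with the product (T ⊗_A Ω_{A/R}) × Ω_{T/A}. (The published statement is the isomorphism of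
(Ω_{A/R} ⊗_R B) ⊕ (A ⊗_R Ω_{B/R}) with Ω_{T/R} matching the exterior differentials; it is stated
here through the canonical identifications T ⊗_A Ω_{A/R} = Ω_{A/R} ⊗_R B and Ω_{T/A} = A ⊗_R
Ω_{B/R}.) -/
theorem result (R A B : Type u) [CommRing R] [CommRing A] [CommRing B]
    [Algebra R A] [Algebra R B] :
    ∃ r : Ω[(A ⊗[R] B)⁄R] →ₗ[A ⊗[R] B] ((A ⊗[R] B) ⊗[A] Ω[A⁄R]),
      (∀ (a : A) (b : B), r (KaehlerDifferential.D R (A ⊗[R] B) (a ⊗ₜ[R] b)) =
          ((1 : A) ⊗ₜ[R] b) ⊗ₜ[A] KaehlerDifferential.D R A a) ∧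
        Function.Bijective (fun ω : Ω[(A ⊗[R] B)⁄R] =>
          (r ω, KaehlerDifferential.map R A (A ⊗[R] B) (A ⊗[R] B) ω)) := by
  exact aux R A B

end Groth.Agent.S10956
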