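import Groth.Statements.S10957
import Mathlib.RingTheory.DiscreteValuationRing.TFAE
import Mathlib.RingTheory.IntegralClosure.Algebra.Basic
import Mathlib.RingTheory.Ideal.Colon

set_option autoImplicit false
universe u
open CAlg

open IsLocalRing

namespace Groth.Agent.S10957

/-- Let A be a Noetherian local integral domain that is normal (integrally closed in its field of
fractions). If there is a nonzero element a of A such that the maximal ideal of A is an associated
prime of the A-module A/(a), then A is a discrete valuation ring. (The other conditions listed in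
the published result — normal of dimension one, maximal ideal nonzero principal, regular of
dimension one — are the library's standard characterisations; this row records the criterion through
an associated prime.) -/
theorem result
    (A : Type u) [CommRing A] [IsDomain A] [IsNoetherianRing A] [IsLocalRing A] [IsIntegrallyClosed A]
    (a : A) (ha : a ≠ 0)
    (hass : IsLocalRing.maximalIdeal A ∈ associatedPrimes A (A ⧸ Ideal.span ({a} : Set A))) :
    IsDiscreteValuationRing A := by
  classical
  obtain ⟨-, xbar, hx⟩ := isAssociatedPrime_iff.mp hass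
  obtain ⟨b, rfl⟩ := Ideal.Quotient.mk_surjective xbar
  -- membership characterisation
  have hmem : ∀ r : A, r ∈ maximalIdeal A ↔ ∃ c : A, r * b = a * c := by
    intro r
    rw [hx, Submodule.mem_colon_singleton, Submodule.mem_bot, Algebra.smul_def,
      Ideal.Quotient.algebraMap_eq, ← map_mul, Ideal.Quotient.eq_zero_iff_mem,
      Ideal.mem_span_singleton']
    constructor
    · rintro ⟨c, hc⟩; exact ⟨c, by rw [← hc, mul_comm]⟩
    · rintro ⟨c, hc⟩; exact ⟨c, by rw [hc, mul_comm]⟩
  have ham : a ∈ maximalIdeal A := (hmem a).mpr ⟨b, rfl⟩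
  have hbna : ¬ ∃ y : A, b = a * y := by
    rintro ⟨y, hy⟩
    have : (1 : A) ∈ maximalIdeal A := (hmem 1).mpr ⟨y, by rw [one_mul, hy]⟩
    exact (Ideal.ne_top_iff_one _).mp (maximalIdeal.isMaximal A).ne_top this
  have hb0 : b ≠ 0 := by
    rintro rfl
    exact hbna ⟨0, by simp⟩
  have hnf : ¬ IsField A := by
    rw [isField_iff_maximalIdeal_eq]
    intro h
    rw [h] at ham
    exact ha ham
  apply ((IsDiscreteValuationRing.TFAE A hnf).out 0 4).mpr
  by_cases hcase : ∃ r ∈ maximalIdeal A, ∃ c : A, r * b = a * c ∧ c ∉ maximalIdeal A
  · -- principal case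
    obtain ⟨r, hr, c, hrc, hc⟩ := hcase
    have hcu : IsUnit c := by
      by_contra h
      exact hc ((mem_maximalIdeal c).mpr h)
    obtain ⟨u, rfl⟩ := hcu
    refine ⟨⟨r, ?_⟩⟩
    apply le_antisymm
    · intro s hs
      obtain ⟨cs, hcs⟩ := (hmem s).mp hs
      rw [Submodule.mem_span_singleton]
      refine ⟨↑u⁻¹ * cs, ?_⟩
      apply mul_right_cancel₀ hb0
      have : a = r * b * ↑u⁻¹ := by rw [hrc, mul_assoc, Units.mul_inv, mul_one]
      rw [hcs, smul_eq_mul]
      conv_rhs => rw [this]
      ring
    · rw [Submodule.span_singleton_le_iff_mem]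
      exact hr
  · -- integral case: contradiction
    exfalso
    push Not at hcase
    let K := FractionRing A
    let x : K := algebraMap A K b / algebraMap A K a
    have haK : algebraMap A K a ≠ 0 := by
      rw [Ne, map_eq_zero_iff _ (IsFractionRing.injective A K)]; exact ha
    let N : Submodule A K := Submodule.map (Algebra.linearMap A K) (maximalIdeal A)
    have hN0 : N ≠ ⊥ := by
      intro h
      have : algebraMap A K a ∈ N := ⟨a, ham, rfl⟩
      rw [h, Submodule.mem_bot] at this
      exact haK this
    have hNfg : N.FG := Submodule.FG.map _ (IsNoetherian.noetherian _)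
    have hxN : ∀ n ∈ N, x • n ∈ N := by
      rintro _ ⟨r, hr, rfl⟩
      obtain ⟨c, hc⟩ := (hmem r).mp hr
      refine ⟨c, hcase r hr c hc, ?_⟩
      simp only [Algebra.linearMap_apply, x, smul_eq_mul]
      rw [div_mul_eq_mul_div, eq_div_iff haK, ← map_mul, ← map_mul, mul_comm b r, hc, mul_comm]
    have hint : IsIntegral A x := isIntegral_of_smul_mem_submodule N hN0 hNfg x hxN
    obtain ⟨y, hy⟩ := IsIntegrallyClosed.isIntegral_iff.mp hint
    apply hbna
    refine ⟨y, ?_⟩
    apply IsFractionRing.injective A K
    rw [map_mul, hy]
    change algebraMap A K b = algebraMap A K a * (algebraMap A K b / algebraMap A K a)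
    rw [mul_div_cancel₀ _ haK]

end Groth.Agent.S10957
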