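import Groth.Statements.S10962
import Groth.Agent.Lib.Helper11.GlobalGen
import Groth.Agent.Lib.Helper11.AmpleBasis
import Groth.Agent.Lib.Helper17.TwistAmple2
import Groth.Agent.Lib.Helper17.FinCoh
import Groth.Agent.Lib.Helper17.HZero
import Groth.Agent.Lib.Helper17.UPGen
import Groth.Agent.Lib.Helper17.VeryAmpleAmple
import Groth.Agent.S0844
-- import your own Groth.Agent.* helpers here

set_option autoImplicit false
universe u
open CategoryTheory CategoryTheory.Limits AlgebraicGeometry TopologicalSpace
open SDiv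

namespace Groth.Agent.S10962

open Groth.Agent.Lib.Helper11 Groth.Agent.Lib.Helper11.GenLocus Groth.Agent.Lib.Helper17

/-- the chart ring `R[T]_{(T_0)}` is nontrivial. -/
theorem nontrivial_away (R : Type u) [CommRing R] [Nontrivial R] (n : ℕ) :
    Nontrivial (HomogeneousLocalization.Away (CohB1.polyGrading n R)
      (MvPolynomial.X (0 : Fin (n + 1)) : MvPolynomial (Fin (n + 1)) R)) := by
  refine ⟨⟨1, 0, fun h => ?_⟩⟩
  have h1 := congrArg HomogeneousLocalization.val h
  rw [HomogeneousLocalization.val_one, HomogeneousLocalization.val_zero] at h1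
  have hsub : Subsingleton (Localization.Away
      (MvPolynomial.X (0 : Fin (n + 1)) : MvPolynomial (Fin (n + 1)) R)) :=
    subsingleton_of_zero_eq_one h1.symm
  have h0 := (IsLocalization.subsingleton_iff (M := Submonoid.powers
      (MvPolynomial.X (0 : Fin (n + 1)) : MvPolynomial (Fin (n + 1)) R))
      (S := Localization.Away
      (MvPolynomial.X (0 : Fin (n + 1)) : MvPolynomial (Fin (n + 1)) R))).mp hsub
  obtain ⟨k, hk⟩ := h0
  have hk' : (MvPolynomial.X (0 : Fin (n + 1)) : MvPolynomial (Fin (n + 1)) R) ^ k = 0 := hk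
  rw [MvPolynomial.X_pow_eq_monomial, MvPolynomial.monomial_eq_zero] at hk'
  exact one_ne_zero hk'

theorem nonempty_projSpace (R : Type u) [CommRing R] [Nontrivial R] (n : ℕ) :
    Nonempty (CohB1.ProjSpace n R) := by
  have hf : (MvPolynomial.X (0 : Fin (n + 1)) : MvPolynomial (Fin (n + 1)) R) ∈
      CohB1.polyGrading n R 1 := MvPolynomial.isHomogeneous_X R 0
  have := nontrivial_away R n
  obtain ⟨y⟩ : Nonempty (Spec (CommRingCat.of (HomogeneousLocalization.Away
      (CohB1.polyGrading n R)
      (MvPolynomial.X (0 : Fin (n + 1)) : MvPolynomial (Fin (n + 1)) R)))) :=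
    (inferInstance : Nonempty (PrimeSpectrum _))
  exact ⟨(Proj.awayι (CohB1.polyGrading n R) _ hf one_pos).base y⟩

/-- a point is never in the locus of the zero section. -/
theorem not_mem_genLocus_zero {X : Scheme.{u}} (L : X.Modules) (x : X) :
    x ∉ CohB1.genLocus L (0 : Coh.structureModule X ⟶ L) := by
  intro hx
  have h := (le_genLocus_iff_app L 0 (CohB1.genLocus L 0)).mp le_rfl _ le_rfl
  have h1 : (1 : Γ(X, CohB1.genLocus L 0)) = 0 := by
    have hinj := (ConcreteCategory.bijective_of_isIso ((0 : Coh.structureModule X ⟶ L).app (CohB1.genLocus L 0))).1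
    apply hinj
    change ((0 : Coh.structureModule X ⟶ L).app _).hom _ = ((0 : Coh.structureModule X ⟶ L).app _).hom _
    rfl
  have h2 : X.basicOpen (1 : Γ(X, CohB1.genLocus L 0)) = CohB1.genLocus L 0 :=
    Scheme.basicOpen_of_isUnit _ isUnit_one
  rw [h1, Scheme.basicOpen_zero] at h2
  rw [← h2] at hx
  exact hx

/-- `O(a) ⊗ O(d)^{⊗ k} ≅ O(a + d k)`. -/
theorem nonempty_tensor_tensorPow_iso (R : Type u) [CommRing R] (n : ℕ) (a d : ℤ) (k : ℕ) :
    Nonempty (CohB1.tensorMod (Twist.twistProjSpace n R a)
        (CohB1.tensorPow (Twist.twistProjSpace n R d) k) ≅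
      Twist.twistProjSpace n R (a + d * k)) := by
  induction k with
  | zero =>
    have h0 : a + d * ((0 : ℕ) : ℤ) = a := by simp
    rw [h0]
    exact ⟨tensorUnitIso _⟩
  | succ k ih =>
    obtain ⟨e⟩ := ih
    obtain ⟨e'⟩ := TwistTensor.nonempty_tensor_iso (CohB1.polyGrading n R) (a + d * k) d
      (FinCoh.iSup_basicOpen_deg_one n R)
    have h1 : a + d * (k : ℤ) + d = a + d * ((k + 1 : ℕ) : ℤ) := by push_cast; ring
    rw [h1] at e'
    exact ⟨(tensorModAssoc _ _ _).symm ≪≫ TwistTensor.tensorModCongr e (Iso.refl _) ≪≫ e'⟩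


/-- Let R be a nonzero ring and n ≥ 1, and let X be projective n-space over R. For an integer d, the
Serre twist O_X(d) is ample if and only if d > 0. (Ample is taken in the sense that X is
quasi-compact and covered by the affine open non-vanishing loci X_s of global sections s of positive
tensor powers; for the quasi-compact separated scheme X this agrees with the definition through
finitely many generating sections with quasi-affine non-vanishing loci. The published remark also
asserts that O_X(d) is very ample relative to R for d > 0; that clause is not part of this row.) -/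
theorem result (R : Type u) [CommRing R] [Nontrivial R] (n : ℕ) (hn : 1 ≤ n) (d : ℤ) :
    CohB1.IsAmple (Twist.twistProjSpace n R d) ↔ 0 < d := by

  constructor
  · intro hamp
    by_contra hd
    push Not at hd
    obtain ⟨x⟩ := nonempty_projSpace R n
    have : CompactSpace (CohB1.ProjSpace n R) := hamp.2.1
    obtain ⟨n₀, hn₀⟩ := eventually_genOn_top (CohB1.ProjSpace n R) _ hamp
      (Twist.twistProjSpace n R (-1)) (FinCoh.isCoh_twist n R (-1))
    have hcov := FinCoh.iSup_basicOpen_deg_one n R
    obtain ⟨e⟩ := nonempty_tensor_tensorPow_iso R n (-1) d n₀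
    have hT : PicF.IsInvertible (CohB1.tensorMod (Twist.twistProjSpace n R (-1))
        (CohB1.tensorPow (Twist.twistProjSpace n R d) n₀)) :=
      isInvertible_of_iso e.symm
        (TwistTensor.isInvertible_twist (CohB1.polyGrading n R) hcov _)
    obtain ⟨s, hs⟩ := exists_mem_genLocus_of_genOn hT (hn₀ n₀ le_rfl) x
    have hs' : x ∈ CohB1.genLocus _ (s ≫ e.hom) := by
      rw [GenLocus.genLocus_comp_iso]
      exact hs
    have hneg : ¬ (0 = 0 ∧ (0 : ℤ) ≤ -1 + d * n₀) := by
      rintro ⟨-, h⟩
      have : d * (n₀ : ℤ) ≤ 0 := mul_nonpos_of_nonpos_of_nonneg hd (Int.natCast_nonneg _)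
      omega
    have htop : ¬ (0 = n ∧ -1 + d * (n₀ : ℤ) ≤ -((n : ℤ) + 1)) := by
      rintro ⟨h, -⟩
      omega
    have hsub : Subsingleton (Coh.HH (CohB1.ProjSpace n R)
        (Twist.twistProjSpace n R (-1 + d * n₀)) 0) :=
      Groth.Agent.S0844.result R n (-1 + d * n₀) 0 hneg htop
    have hsub' : Subsingleton Γ(Twist.twistProjSpace n R (-1 + d * n₀), ⊤) :=
      (HZero.hh0Equiv (X := CohB1.ProjSpace n R)
        (M := Twist.twistProjSpace n R (-1 + d * n₀))).symm.injective.subsingleton
    have hzero : s ≫ e.hom = 0 := UPGen.hom_ext_of_sec_top (Subsingleton.elim _ _)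
    rw [hzero] at hs'
    exact not_mem_genLocus_zero _ x hs'
  · intro hd
    lift d to ℕ using hd.le
    have : CompactSpace (Proj (CohB1.polyGrading n R)) := VeryAmpleAmple.compactSpace_projSpace n R
    exact TwistAmple.isAmple_twist_of_cover (CohB1.polyGrading n R)
      (FinCoh.iSup_basicOpen_deg_one n R) d (by exact_mod_cast hd)
end Groth.Agent.S10962
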