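import Groth.Statements.S10967
import Groth.Agent.Lib.Helper69.LocalTarget
import Mathlib.AlgebraicGeometry.QuasiAffine

set_option autoImplicit false
universe u
open CategoryTheory AlgebraicGeometry TopologicalSpace
open MoreMor

namespace Groth.Agent.S10967
open Groth.Agent.Lib.Helper69 CategoryTheory.Limits TopologicalSpace

set_option backward.isDefEq.respectTransparency.types false in
/-- A quasi-compact scheme is quasi-affine if it can be covered by quasi-affine basic opens of
global sections. -/
theorem isQuasiAffine_of_forall_exists_mem_basicOpen (X : Scheme.{u}) [CompactSpace X]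
    (H : ∀ x : X, ∃ r : Γ(X, ⊤), Scheme.IsQuasiAffine (X.basicOpen r : Scheme.{u}) ∧
      x ∈ X.basicOpen r) :
    X.IsQuasiAffine := by
  suffices IsOpenImmersion X.toSpecΓ by constructor
  have : QuasiSeparatedSpace X := by
    choose r hr hxr using H
    refine .of_isOpenCover (U := (X.basicOpen <| r ·))
      (eq_top_iff.mpr fun _ _ ↦ Opens.mem_iSup.mpr ⟨_, hxr _⟩)
      (fun _ ↦ isRetrocompact_basicOpen _) (fun x ↦ ?_)
    refine (isQuasiSeparated_iff_quasiSeparatedSpace _ (X.basicOpen (r x)).2).mpr ?_
    have := hr x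
    change QuasiSeparatedSpace (X.basicOpen (r x) : Scheme.{u})
    infer_instance
  refine IsZariskiLocalAtTarget.of_forall_source_exists_preimage _ fun x ↦ ?_
  obtain ⟨r, hr, hxr⟩ := H x
  refine ⟨PrimeSpectrum.basicOpen r, (X.toSpecΓ_preimage_basicOpen r).ge hxr, ?_⟩
  suffices IsOpenImmersion ((X.basicOpen r).ι ≫ X.toSpecΓ) by
    convert! this <;> rw [Scheme.toSpecΓ_preimage_basicOpen]
  rw [← Scheme.Opens.toSpecΓ_SpecMap_presheaf_map_top]
  have := isLocalization_basicOpen_of_qcqs isCompact_univ isQuasiSeparated_univ r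
  have h1 : IsOpenImmersion (X.basicOpen r).toSpecΓ := by
    delta Scheme.Opens.toSpecΓ
    infer_instance
  exact MorphismProperty.comp_mem _ _ _ h1 (.of_isLocalization r)

set_option backward.isDefEq.respectTransparency.types false in
theorem quasiCompact_of_cover {X Y : Scheme.{u}} (f : X ⟶ Y) {ι : Type u} (V : ι → Y.Opens)
    (hV : iSup V = ⊤) (hVa : ∀ i, IsAffineOpen (V i))
    (hq : ∀ i, CompactSpace (↑(f ⁻¹ᵁ V i) : Scheme.{u})) : QuasiCompact f := by
  rw [HasAffineProperty.iff_of_iSup_eq_top (P := @QuasiCompact) (fun i => ⟨V i, hVa i⟩) hV]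
  exact hq

/-- Quasi-affine over an affine base: call a morphism f : X → Y quasi-affine when Y has a cover by
affine opens V_i whose preimages f⁻¹(V_i) are quasi-affine schemes (quasi-compact open subschemes of
affine schemes; equivalently quasi-compact with X → Spec Γ(X, O_X) an immersion). If Y is affine and
f is quasi-affine in this sense, then X is a quasi-affine scheme. -/
theorem result {X Y : Scheme.{u}} [IsAffine Y]
    (f : X ⟶ Y) {ι : Type u} (V : ι → Y.Opens) (hV : iSup V = ⊤) (hVa : ∀ i, IsAffineOpen (V i))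
    (hq : ∀ i, Scheme.IsQuasiAffine (↑(f ⁻¹ᵁ V i) : Scheme.{u})) :
    X.IsQuasiAffine := by
  have hqc : QuasiCompact f := by
    refine quasiCompact_of_cover f V hV hVa ?_
    intro i
    have := hq i
    infer_instance
  have : CompactSpace X := QuasiCompact.compactSpace_of_compactSpace f
  apply isQuasiAffine_of_forall_exists_mem_basicOpen
  intro x
  obtain ⟨i, hi⟩ : ∃ i, f.base x ∈ V i := by
    have : f.base x ∈ (⨆ i, V i : Y.Opens) := hV ▸ trivial
    simpa using this
  obtain ⟨_, ⟨_, ⟨b, rfl⟩, rfl⟩, hxb, hbV⟩ :=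
    (isBasis_basicOpen Y).exists_subset_of_mem_open hi (V i).2
  have hle : Y.basicOpen b ≤ V i := hbV
  refine ⟨f.appTop b, ?_, ?_⟩
  · rw [← Scheme.preimage_basicOpen_top]
    have hpb := isPullback_morphismRestrict_of_le f hle
    have hW : IsAffineOpen (Y.basicOpen b) := (isAffineOpen_top Y).basicOpen b
    have : IsAffine (Y.basicOpen b : Scheme.{u}) := hW
    have : IsAffine (V i : Scheme.{u}) := hVa i
    have haff : IsAffineHom (Y.homOfLE hle) := inferInstance
    have : IsAffineHom (X.homOfLE (f.preimage_mono hle)) :=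
      MorphismProperty.of_isPullback (P := @IsAffineHom) hpb.flip haff
    have := hq i
    exact Scheme.IsQuasiAffine.of_isAffineHom (X.homOfLE (f.preimage_mono hle))
  · rw [← Scheme.preimage_basicOpen_top]
    exact hxb

end Groth.Agent.S10967
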