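import Groth.Statements.S10974
import Groth.Agent.FunFld.LFinite

set_option autoImplicit false
open FunFld

namespace Groth.Agent.S10974

/-- For divisors `D₁ ≤ D₂` of a function field of one variable, `A(D₁) ⊆ A(D₂)` and `dim_k A(D₂)/A(D₁) =
deg D₂ - deg D₁` (repartitions with components in `K`). -/
theorem result (k K : Type*) [Field k] [Field K] [Algebra k K]
    (hK : FunFld.IsFunctionField k K) (D₁ D₂ : FunFld.Divisor k K) (h : D₁ ≤ D₂) :
    FunFld.AD D₁ ≤ FunFld.AD D₂ ∧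
    FiniteDimensional k (↥(FunFld.AD D₂) ⧸ Submodule.comap (FunFld.AD D₂).subtype (FunFld.AD D₁)) ∧
    (Module.finrank k
        (↥(FunFld.AD D₂) ⧸ Submodule.comap (FunFld.AD D₂).subtype (FunFld.AD D₁)) : ℤ) =
      D₂.deg - D₁.deg := by
  refine ⟨Groth.Agent.FF.AD_mono h, ?_⟩
  obtain ⟨n, hn, hdeg⟩ := Groth.Agent.FF.relLen_AD_of_le hK h
  rw [Groth.Agent.FF.relLen_def, Groth.Agent.FF.length_eq_natCast_iff] at hn
  refine ⟨hn.1, ?_⟩
  rw [hn.2, hdeg]

end Groth.Agent.S10974
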