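import Groth.Statements.S10978
import Groth.Agent.FunFld.PlaceExt

set_option autoImplicit false
open FunFld

namespace Groth.Agent.S10978

/-- In a function field of one variable the elements without poles are the constants, `L(0) = k`. -/
theorem result (k K : Type*) [Field k] [Field K] [Algebra k K]
    (hK : FunFld.IsFunctionField k K) : FunFld.L (0 : FunFld.Divisor k K) = 1 := by
  ext x
  rw [Submodule.mem_one]
  constructor
  · intro hx
    have hx' : ∀ P : FunFld.Place k K, P.1 x ≤ WithZero.exp ((0 : FunFld.Divisor k K) P) := hx
    by_contra hnot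
    have hnot' : x ∉ Set.range (algebraMap k K) := hnot
    have htr := Groth.Agent.FF.transcendental_of_not_mem_range hK hnot'
    obtain ⟨Q, hQ⟩ := Groth.Agent.FF.exists_pole_of_transcendental hK htr
    have hx0 : x ≠ 0 := by
      rintro rfl
      rw [Groth.Agent.FF.ord_zero] at hQ
      exact lt_irrefl _ hQ
    have := hx' Q
    rw [Finsupp.zero_apply, WithZero.exp_zero, Groth.Agent.FF.val_le_one_iff Q hx0] at this
    omega
  · rintro ⟨c, rfl⟩
    intro P
    rw [Finsupp.zero_apply, WithZero.exp_zero]
    exact P.2.1 c

end Groth.Agent.S10978
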