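import Groth.Statements.S11014
import Groth.Agent.FunFld.HypGenus

set_option autoImplicit false
open FunFld

namespace Groth.Agent.S11014

/-- For `char k ≠ 2` and `K = k(x, y)` with `y² = f(x)`, `f` squarefree of degree `d ≥ 1`, the genus is
`(d - 2)/2` for `d` even and `(d - 1)/2` for `d` odd. -/
theorem result (k K : Type*) [Field k] [Field K] [Algebra k K]
    (hK : FunFld.IsFunctionField k K) (h2 : ringChar k ≠ 2) (x y : K) (hx : Transcendental k x)
    (hxy : IntermediateField.adjoin k ({x, y} : Set K) = ⊤)
    (f : Polynomial k) (hf : Squarefree f) (hd : 1 ≤ f.natDegree)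
    (heq : y ^ 2 = Polynomial.aeval x f) :
    FunFld.genus k K = (f.natDegree - 1) / 2 := by
  classical
  let e := RatFunc.algEquivOfTranscendental x hx
  letI : Algebra (RatFunc k) K :=
    ((algebraMap (IntermediateField.adjoin k ({x} : Set K)) K).comp
      (e : RatFunc k →+* IntermediateField.adjoin k ({x} : Set K))).toAlgebra
  haveI : IsScalarTower k (RatFunc k) K := IsScalarTower.of_algebraMap_eq (fun c => by
    show algebraMap k K c =
      algebraMap (IntermediateField.adjoin k ({x} : Set K)) K (e (algebraMap k (RatFunc k) c))
    rw [e.commutes]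
    rfl)
  have hιX : algebraMap (RatFunc k) K RatFunc.X = x := by
    show ((e RatFunc.X : IntermediateField.adjoin k ({x} : Set K)) : K) = x
    rw [RatFunc.algEquivOfTranscendental_X]
  have hιpoly : ∀ q : Polynomial k,
      algebraMap (RatFunc k) K (algebraMap (Polynomial k) (RatFunc k) q) = Polynomial.aeval x q := by
    intro q
    show ((e (algebraMap (Polynomial k) (RatFunc k) q) :
      IntermediateField.adjoin k ({x} : Set K)) : K) = Polynomial.aeval x q
    rw [RatFunc.algEquivOfTranscendental_algebraMap]
    have h1 := Polynomial.aeval_algHom_apply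
      (IntermediateField.val (IntermediateField.adjoin k ({x} : Set K)))
      (IntermediateField.AdjoinSimple.gen k x) q
    rw [IntermediateField.coe_val, IntermediateField.AdjoinSimple.coe_gen] at h1
    exact h1.symm
  have heq' : y ^ 2 = algebraMap (RatFunc k) K (algebraMap (Polynomial k) (RatFunc k) f) := by
    rw [hιpoly]
    exact heq
  have hyr := Groth.Agent.FF.Ext.sqrt_not_mem_range hf hd heq'
  -- `K = k(x)(y)`
  have htop : IntermediateField.adjoin (RatFunc k) ({y} : Set K) = ⊤ := by
    rw [eq_top_iff]
    intro z _
    have hle : IntermediateField.adjoin k ({x, y} : Set K) ≤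
        (IntermediateField.adjoin (RatFunc k) ({y} : Set K)).restrictScalars k := by
      rw [IntermediateField.adjoin_le_iff]
      intro w hw
      rcases hw with rfl | rfl
      · show w ∈ IntermediateField.adjoin (RatFunc k) ({y} : Set K)
        rw [← hιX]
        exact IntermediateField.algebraMap_mem _ _
      · exact IntermediateField.mem_adjoin_simple_self (RatFunc k) w
    rw [hxy] at hle
    exact hle (IntermediateField.mem_top (x := z))
  have hq : Polynomial.aeval y (Polynomial.X ^ 2 -
      Polynomial.C (algebraMap (Polynomial k) (RatFunc k) f) : Polynomial (RatFunc k)) = 0 := by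
    simp [heq']
  have hqm : (Polynomial.X ^ 2 -
      Polynomial.C (algebraMap (Polynomial k) (RatFunc k) f) : Polynomial (RatFunc k)).Monic :=
    Polynomial.monic_X_pow_sub_C _ (by norm_num)
  have hint : IsIntegral (RatFunc k) y := ⟨_, hqm, hq⟩
  have hdeg : Module.finrank (RatFunc k) K = 2 := by
    rw [← IntermediateField.finrank_top', ← htop, IntermediateField.adjoin.finrank hint]
    apply le_antisymm
    · have h1 := Polynomial.natDegree_le_of_dvd (minpoly.dvd (RatFunc k) y hq) hqm.ne_zero
      rw [Polynomial.natDegree_X_pow_sub_C] at h1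
      exact h1
    · exact (minpoly.two_le_natDegree_iff hint).mpr (by simpa using hyr)
  have S : Groth.Agent.FF.Hyp.Setup K y f := ⟨h2, hdeg, hf, hd, heq'⟩
  exact S.genus_eq

end Groth.Agent.S11014
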