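import Groth.Statements.S11015
import Groth.Agent.FunFld.Residue

set_option autoImplicit false
open FunFld

namespace Groth.Agent.S11015

/-- For `x ≠ 0`, multiplication by `x` identifies `L(D + (x))` with `L(D)`; in particular `L(D₁) ≅
L(D₂)` for linearly equivalent divisors. -/
theorem result (k K : Type*) [Field k] [Field K] [Algebra k K]
    (hK : FunFld.IsFunctionField k K) (D : FunFld.Divisor k K) (x y : K) (hx : x ≠ 0) :
    x * y ∈ FunFld.L D ↔ y ∈ FunFld.L (D + FunFld.div k x) := by
  have key : ∀ P : FunFld.Place k K,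
      P.1 (x * y) ≤ WithZero.exp (D P) ↔ P.1 y ≤ WithZero.exp ((D + FunFld.div k x) P) := by
    intro P
    rw [Finsupp.add_apply, Groth.Agent.FF.div_apply hK, WithZero.exp_add, map_mul,
      Groth.Agent.FF.val_eq_exp_neg_ord P hx, WithZero.exp_neg]
    have hpos : (0 : WithZero (Multiplicative ℤ)) < WithZero.exp (P.ord x) := WithZero.exp_pos
    rw [inv_mul_le_iff₀ hpos, mul_comm]
  constructor
  · intro h P; exact (key P).mp (h P)
  · intro h P; exact (key P).mpr (h P)

end Groth.Agent.S11015
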