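import Groth.Statements.S11017


set_option autoImplicit false
open FunFld

namespace Groth.Agent.S11017

/-- For a Weil differential `ω` with divisor `C`, `ord_P [ω] ≥ e` iff `ω` kills every repartition
concentrated at `P` with `P`-component of order at least `-e`. -/
theorem result (k K : Type*) [Field k] [Field K] [Algebra k K] (ω : Module.Dual k (FunFld.adele k K)) (C : FunFld.Divisor k K) (hω : FunFld.IsDivOf ω C)
    (P : FunFld.Place k K) (e : ℤ) :
    e ≤ C P ↔ ∀ (a : FunFld.Place k K → K) (ha : a ∈ FunFld.adele k K),
      (∀ Q, Q ≠ P → a Q = 0) → P.1 (a P) ≤ WithZero.exp e → ω ⟨a, ha⟩ = 0 := by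
  classical
  have hupd : ∀ Q, (C.update P e) Q = if Q = P then e else C Q := by
    intro Q
    rw [Finsupp.coe_update, Function.update_apply]
  constructor
  · intro he a ha hconc hle
    have hE : C.update P e ≤ C := by
      intro Q
      rw [hupd]
      split_ifs with h
      · rw [h]; exact he
      · exact le_rfl
    have hmem : ω ∈ FunFld.WD (C.update P e) := (hω _).2 hE
    rw [FunFld.WD, Submodule.mem_dualAnnihilator] at hmem
    apply hmem
    rw [FunFld.ADK, Submodule.mem_comap]
    apply Submodule.mem_sup_left
    intro Q
    rw [hupd]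
    split_ifs with h
    · subst h; exact hle
    · rw [Submodule.subtype_apply]
      simp only [hconc Q h, map_zero]
      exact zero_le
  · intro h
    by_contra hlt
    have hE : ¬ C.update P e ≤ C := by
      intro hle
      apply hlt
      have := hle P
      rw [hupd, if_pos rfl] at this
      exact this
    have hnot : ω ∉ FunFld.WD (C.update P e) := fun hm => hE ((hω _).1 hm)
    have hC : ω ∈ FunFld.WD C := (hω C).2 le_rfl
    rw [FunFld.WD, Submodule.mem_dualAnnihilator] at hnot hC
    push Not at hnot
    obtain ⟨⟨α, hα⟩, hαmem, hαne⟩ := hnot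
    rw [FunFld.ADK, Submodule.mem_comap, Submodule.subtype_apply, Submodule.mem_sup] at hαmem
    obtain ⟨b, hb, y, hy, hby⟩ := hαmem
    set c : FunFld.Place k K → K := Function.update 0 P (b P) with hc
    have hcP : c P = b P := by rw [hc, Function.update_self]
    have hcQ : ∀ Q, Q ≠ P → c Q = 0 := by
      intro Q hQ
      rw [hc, Function.update_of_ne hQ]; rfl
    have hcad : c ∈ FunFld.adele k K := by
      change ∀ᶠ Q : FunFld.Place k K in Filter.cofinite, Q.1 (c Q) ≤ 1
      rw [Filter.eventually_cofinite]
      apply Set.Finite.subset (Set.finite_singleton P)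
      intro Q hQ
      rw [Set.mem_singleton_iff]
      by_contra hne
      apply hQ
      rw [hcQ Q hne, map_zero]
      exact zero_le
    have hdiff : α - c ∈ FunFld.adele k K := Submodule.sub_mem _ hα hcad
    have h1 : ω ⟨α - c, hdiff⟩ = 0 := by
      apply hC
      rw [FunFld.ADK, Submodule.mem_comap, Submodule.subtype_apply, Submodule.mem_sup]
      refine ⟨b - c, ?_, y, hy, ?_⟩
      · intro Q
        by_cases hQ : Q = P
        · subst hQ
          simp only [Pi.sub_apply, hcP, sub_self, map_zero]
          exact zero_le
        · simp only [Pi.sub_apply, hcQ Q hQ, sub_zero]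
          have := hb Q
          rw [hupd, if_neg hQ] at this
          exact this
      · have hby' : b + y = α := hby
        change b - c + y = α - c
        rw [← hby']; abel
    have h2 : ω ⟨c, hcad⟩ = 0 := by
      apply h c hcad hcQ
      rw [hcP]
      have := hb P
      rw [hupd, if_pos rfl] at this
      exact this
    apply hαne
    have : (⟨α, hα⟩ : FunFld.adele k K) = ⟨α - c, hdiff⟩ + ⟨c, hcad⟩ := by
      apply Subtype.ext
      simp
    rw [this, map_add, h1, h2, add_zero]

end Groth.Agent.S11017
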