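import Groth.Statements.S11025
import Groth.Agent.FunFld.RamGroups

set_option autoImplicit false
open FunFld

namespace Groth.Agent.S11025

/-- For `i ≥ 2` the ramification quotient `G_i/G_{i+1}` embeds in the additive group of the residue
field: it is abelian, trivial in characteristic `0`, and elementary abelian of exponent `p` in
characteristic `p`. (Residue field of `Q` assumed separable over `k`.) -/
theorem result (k K K' : Type*) [Field k] [Field K] [Field K'] [Algebra k K] [Algebra K K'] [Algebra k K']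
    [IsScalarTower k K K'] [FiniteDimensional K K'] (hK : FunFld.IsFunctionField k K) (hg : FunFld.IsGeometric k K) [IsGalois K K'] (Q : FunFld.Place k K') [Algebra.IsSeparable k (IsLocalRing.ResidueField Q.O)]
    (i : ℕ) (hi : 2 ≤ i) (σ τ : K' ≃ₐ[K] K') (hσ : (∀ x : K', Q.1 x ≤ 1 → Q.1 (σ x - x) ≤ WithZero.exp (-(i : ℤ)))) (hτ : (∀ x : K', Q.1 x ≤ 1 → Q.1 (τ x - x) ≤ WithZero.exp (-(i : ℤ)))) :
    (∀ x : K', Q.1 x ≤ 1 → Q.1 ((σ * τ * σ⁻¹ * τ⁻¹) x - x) ≤ WithZero.exp (-((i + 1) : ℤ))) ∧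
    (ringChar K = 0 → (∀ x : K', Q.1 x ≤ 1 → Q.1 (σ x - x) ≤ WithZero.exp (-((i + 1) : ℤ)))) ∧
    ∀ p : ℕ, p.Prime → ringChar K = p → (∀ x : K', Q.1 x ≤ 1 → Q.1 ((σ ^ p) x - x) ≤ WithZero.exp (-((i + 1) : ℤ))) := by
  have e : ((i + 1 : ℕ) : ℤ) = (i : ℤ) + 1 := by push_cast; ring
  have hσ' : Groth.Agent.FF.InRam Q σ (i : ℤ) := hσ
  have hτ' : Groth.Agent.FF.InRam Q τ (i : ℤ) := hτ
  refine ⟨?_, ?_, ?_⟩
  · have h := Groth.Agent.FF.InRam.comm hσ' hτ' hi
    rw [e] at h
    exact h
  · intro h0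
    have hc : CharP K 0 := ringChar.of_eq h0
    have hz : CharZero K := CharP.charP_to_charZero K
    have hz' : CharZero K' := charZero_of_injective_algebraMap (algebraMap K K').injective
    have h := Groth.Agent.FF.InRam.succ_of_charZero hσ' hi
    rw [e] at h
    exact h
  · intro p _ hp
    have hc : CharP K p := ringChar.of_eq hp
    have hc' : CharP K' p := charP_of_injective_algebraMap (algebraMap K K').injective p
    have h := Groth.Agent.FF.InRam.pow_char hσ' hi p
    rw [e] at h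
    exact h

end Groth.Agent.S11025
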