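import Groth.Statements.S11026
import Groth.Agent.FunFld.KerD

set_option autoImplicit false
universe u v
open FunFld

namespace Groth.Agent.S11026

/-- A weakly separable finite extension `K'/k'` of a geometric function field `K/k` (the map `Ω_{K/k} →
Ω_{K'/k'}` injective) is separable over the compositum `k'K`. -/
theorem result (k k' : Type u) (K K' : Type v) [Field k] [Field k'] [Field K] [Field K']
    [Algebra k k'] [Algebra k K] [Algebra K K'] [Algebra k' K'] [Algebra k K']
    [IsScalarTower k k' K'] [IsScalarTower k K K'] [FiniteDimensional K K']
    (hK : FunFld.IsFunctionField k K) (hg : FunFld.IsGeometric k K)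
    (hK' : FunFld.IsFunctionField k' K') (hg' : FunFld.IsGeometric k' K')
    (hw : Function.Injective (KaehlerDifferential.map k k' K K')) :
    Algebra.IsSeparable (IntermediateField.adjoin K (Set.range (algebraMap k' K'))) K' := by
  classical
  obtain ⟨x, hx, hsep⟩ := Groth.Agent.FF.exists_separating hK hg
  have hD : KaehlerDifferential.D k K x ≠ 0 := Groth.Agent.FF.D_ne_zero_of_separating hx
  have hD' : KaehlerDifferential.D k' K' (algebraMap K K' x) ≠ 0 := by
    rw [← KaehlerDifferential.map_D k k' K K']
    intro h
    apply hD
    apply hw
    rw [h, map_zero]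
  have hsep' := Groth.Agent.FF.isSeparable_of_D_ne_zero hK' hg' hD'
  -- the compositum, as an intermediate field over `k'`
  let E₂' : IntermediateField k' K' :=
    { (IntermediateField.adjoin K (Set.range (algebraMap k' K'))).toSubfield with
      algebraMap_mem' := fun c => IntermediateField.subset_adjoin K _ ⟨c, rfl⟩ }
  have hle : IntermediateField.adjoin k' ({algebraMap K K' x} : Set K') ≤ E₂' := by
    rw [IntermediateField.adjoin_simple_le_iff]
    exact IntermediateField.algebraMap_mem (IntermediateField.adjoin K (Set.range (algebraMap k' K'))) x
  let ι : IntermediateField.adjoin k' ({algebraMap K K' x} : Set K') →+*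
      IntermediateField.adjoin K (Set.range (algebraMap k' K')) :=
    { toFun := fun z => ⟨z.1, hle z.2⟩
      map_one' := rfl
      map_mul' := fun _ _ => rfl
      map_zero' := rfl
      map_add' := fun _ _ => rfl }
  let _ : Algebra (IntermediateField.adjoin k' ({algebraMap K K' x} : Set K'))
      (IntermediateField.adjoin K (Set.range (algebraMap k' K'))) := ι.toAlgebra
  have : IsScalarTower (IntermediateField.adjoin k' ({algebraMap K K' x} : Set K'))
      (IntermediateField.adjoin K (Set.range (algebraMap k' K'))) K' :=
    IsScalarTower.of_algebraMap_eq (fun z => rfl)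
  exact Algebra.isSeparable_tower_top_of_isSeparable
    (IntermediateField.adjoin k' ({algebraMap K K' x} : Set K'))
    (IntermediateField.adjoin K (Set.range (algebraMap k' K'))) K'

end Groth.Agent.S11026
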