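import Groth.Statements.S11031
import Groth.Agent.FunFld.RR


set_option autoImplicit false
open FunFld

namespace Groth.Agent.S11031

/-- An effective divisor `D` of degree `< g` on a function field of one variable of genus `g` is
special: some nonzero Weil differential vanishes on `A(D) + K`. (The published statement is phrased
with differential forms `Ω_K(D)`, identified with `W_K(D)` by duality; the Weil-differential form is
stated.) -/
theorem result (k K : Type*) [Field k] [Field K] [Algebra k K]
    (hK : FunFld.IsFunctionField k K) (D : FunFld.Divisor k K) (hD : 0 ≤ D) (hdeg : D.deg < FunFld.genus k K) :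
    ∃ ω : Module.Dual k (FunFld.adele k K), ω ≠ 0 ∧ ω ∈ FunFld.WD D := by
  obtain ⟨C, hC⟩ := Groth.Agent.FF.exists_isCanonical hK
  have hrr := Groth.Agent.FF.riemann_roch hK hC D
  have h1 : 1 ≤ FunFld.ell D := by
    have := Groth.Agent.FF.ell_mono hK hD
    rwa [Groth.Agent.FF.ell_zero hK] at this
  have hpos : 0 < FunFld.ell (C - D) := by
    have h1' : (1 : ℤ) ≤ FunFld.ell D := by exact_mod_cast h1
    have : (0 : ℤ) < FunFld.ell (C - D) := by linarith
    exact_mod_cast this
  have hfin := Groth.Agent.FF.finrank_WD_eq_ell hK hC D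
  rw [← hfin] at hpos
  have hne : FunFld.WD D ≠ ⊥ := by
    intro h
    rw [h] at hpos
    simp at hpos
  obtain ⟨ω, hω, hω0⟩ := (Submodule.ne_bot_iff _).1 hne
  exact ⟨ω, hω0, hω⟩

end Groth.Agent.S11031
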