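import Groth.Statements.S11034
import Groth.Agent.FunFld.Quadratic
import Groth.Agent.FunFld.RatFuncPlaces

set_option autoImplicit false
open FunFld

namespace Groth.Agent.S11034

/-- For `char k ≠ 2` and `K = k(x, y)`, `y² = f(x)` with `f` squarefree, each irreducible factor `p` of
`f` has a unique place `P` of `K` above it, with `e(P|p) = 2`, `f(P|p) = 1` and `deg P = deg p`. The
zero divisor of `y` and the behaviour above the infinite place of `k(x)` are not stated. -/
theorem result (k K : Type*) [Field k] [Field K] (h2 : ringChar k ≠ 2) [Algebra k K]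
    [Algebra (RatFunc k) K] [IsScalarTower k (RatFunc k) K]
    (hdeg : Module.finrank (RatFunc k) K = 2) (y : K) (f : Polynomial k) (hf : Squarefree f)
    (hd : 1 ≤ f.natDegree)
    (heq : y ^ 2 = algebraMap (RatFunc k) K (algebraMap (Polynomial k) (RatFunc k) f))
    (p : Polynomial k) (hp : Irreducible p) (hpf : p ∣ f)
    (P₀ : FunFld.Place k (RatFunc k)) (hP₀ : P₀.1 (algebraMap (Polynomial k) (RatFunc k) p) < 1) :
    (∃! P : FunFld.Place k K, FunFld.IsOver P P₀) ∧
    ∀ P : FunFld.Place k K, FunFld.IsOver P P₀ → FunFld.IsOverWith P P₀ 2 ∧ P.deg = P₀.deg := by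
  haveI : FiniteDimensional (RatFunc k) K := FiniteDimensional.of_finrank_pos (by rw [hdeg]; norm_num)
  have hK := Groth.Agent.FF.isFunctionField_ratFunc k
  have hordf : P₀.ord (algebraMap (Polynomial k) (RatFunc k) f) = 1 :=
    Groth.Agent.FF.ratFunc_ord_squarefree P₀ hp hP₀ hf hpf
  have hf0 : f ≠ 0 := hf.ne_zero
  have hy0 : y ≠ 0 := by
    rintro rfl
    rw [zero_pow (by norm_num)] at heq
    have h1 := (map_eq_zero_iff _ (algebraMap (RatFunc k) K).injective).mp heq.symm
    exact Groth.Agent.FF.ratFunc_algebraMap_ne_zero hf0 h1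
  refine Groth.Agent.FF.Ext.quadratic_ramified hK hdeg P₀ ?_
  intro Q e he
  have h1 := Groth.Agent.FF.Ext.ord_eq he (algebraMap (Polynomial k) (RatFunc k) f)
  rw [← heq, Groth.Agent.FF.ord_pow, hordf] at h1
  refine ⟨(Q.ord y).toNat, ?_⟩
  have h2 : 0 ≤ Q.ord y := by
    have : (0 : ℤ) ≤ e := by positivity
    omega
  zify
  rw [Int.toNat_of_nonneg h2]
  push_cast at h1
  omega

end Groth.Agent.S11034
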