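import Groth.Statements.S11039
import Groth.Agent.Lib.Helper67.FFFunEq
-- import your own Groth.Agent.* helpers here

set_option autoImplicit false
open FunFld

namespace Groth.Agent.S11039

/-- The numerator `L_K(t) = ∑ aᵢ tⁱ` of the zeta function of a function field of one variable of genus
`g` over a finite field with `q` elements has degree exactly `2g` and its coefficients satisfy
`a_{2g-i} = q^{g-i} aᵢ` for `0 ≤ i ≤ 2g`. -/
theorem result
    (k K : Type*) [Field k] [Finite k] [Field K] [Algebra k K]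
    (hK : FunFld.IsFunctionField k K) :
    (∀ n : ℕ, 2 * FunFld.genus k K < n → PowerSeries.coeff n (FunFld.numerZ k K) = 0) ∧
    PowerSeries.coeff (2 * FunFld.genus k K) (FunFld.numerZ k K) ≠ 0 ∧
    ∀ i : ℕ, i ≤ 2 * FunFld.genus k K →
      (((PowerSeries.coeff (2 * FunFld.genus k K - i) (FunFld.numerZ k K) : ℤ)) : ℚ) =
        (Nat.card k : ℚ) ^ ((FunFld.genus k K : ℤ) - i) *
          (((PowerSeries.coeff i (FunFld.numerZ k K) : ℤ)) : ℚ) := by
  classical
  letI : Fintype (Groth.Agent.Lib.Helper67.FFClass.Cl0 k K) :=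
    @Fintype.ofFinite _ (Groth.Agent.Lib.Helper67.FFClass.finite_Cl0 hK)
  have hsymm := fun i hi => Groth.Agent.Lib.Helper67.FFFunEq.coeff_numerZ_symm hK i hi
  refine ⟨fun n hn => Groth.Agent.Lib.Helper67.FFRational.coeff_numerZ_eq_zero hK n hn, ?_,
    hsymm⟩
  intro h0
  have h := hsymm 0 (Nat.zero_le _)
  rw [Nat.sub_zero, h0, Groth.Agent.Lib.Helper67.FFFunEq.coeff_numerZ_zero,
    Groth.Agent.Lib.Helper67.FFFunEq.effDivCount_zero hK] at h
  have hq := Groth.Agent.Lib.Helper67.FFSchmidt.two_le_card (k := k)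
  have hq0 : (Nat.card k : ℚ) ≠ 0 := by
    have : (0 : ℚ) < (Nat.card k : ℚ) := by exact_mod_cast (by omega : 0 < Nat.card k)
    exact this.ne'
  have hne : (Nat.card k : ℚ) ^ ((FunFld.genus k K : ℤ) - ((0 : ℕ) : ℤ)) ≠ 0 := zpow_ne_zero _ hq0
  apply hne
  simpa using h.symm

end Groth.Agent.S11039
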