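import Groth.Statements.S11041
import Groth.Agent.Lib.Helper67.RHMain
import Groth.Agent.S11040

set_option autoImplicit false
open FunFld

namespace Groth.Agent.S11041

/-- The Riemann hypothesis for a function field `K` of one variable over a finite field with `q`
elements: every complex root `z` of `L_K(t) = (1 - t)(1 - q t) Z_K(t)` satisfies `|z|² q = 1`;
equivalently the reciprocal roots `αᵢ` all have `|αᵢ| = q^{1/2}`. -/
theorem result
    (k K : Type*) [Field k] [Finite k] [Field K] [Algebra k K]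
    (hK : FunFld.IsFunctionField k K) (p : Polynomial ℤ)
    (hp : (p : PowerSeries ℤ) = FunFld.numerZ k K) (z : ℂ)
    (hz : (p.map (Int.castRingHom ℂ)).IsRoot z) :
    ‖z‖ ^ 2 * (Nat.card k : ℝ) = 1 := by
  classical
  obtain ⟨α, -, hα, hpair⟩ := Groth.Agent.S11040.result k K hK
  have hnorm := fun i => Groth.Agent.Lib.Helper67.RHMain.norm_eq_sqrt hK α hα hpair i
  -- identify the polynomial
  have hpoly : p.map (Int.castRingHom ℂ) = ∏ i, (1 - Polynomial.C (α i) * Polynomial.X) := by
    apply Polynomial.coe_injective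
    rw [Polynomial.polynomial_map_coe, hp, hα]
  rw [hpoly, Polynomial.IsRoot.def, Polynomial.eval_prod, Finset.prod_eq_zero_iff] at hz
  obtain ⟨i, -, hi⟩ := hz
  have h1 : α i * z = 1 := by
    simp only [Polynomial.eval_sub, Polynomial.eval_one, Polynomial.eval_mul, Polynomial.eval_C,
      Polynomial.eval_X] at hi
    linear_combination -hi
  have h2 : ‖α i‖ * ‖z‖ = 1 := by rw [← norm_mul, h1, norm_one]
  rw [hnorm i] at h2
  have hq0 : (0 : ℝ) ≤ (Nat.card k : ℝ) := Nat.cast_nonneg _
  have h3 : Real.sqrt (Nat.card k : ℝ) ^ 2 = (Nat.card k : ℝ) := Real.sq_sqrt hq0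
  calc ‖z‖ ^ 2 * (Nat.card k : ℝ) = (Real.sqrt (Nat.card k : ℝ) * ‖z‖) ^ 2 := by
        rw [mul_pow, h3]; ring
    _ = 1 := by rw [h2, one_pow]

end Groth.Agent.S11041
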