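import Groth.Statements.S11042
import Groth.Agent.Lib.Helper67.RHMain
import Groth.Agent.S11040

set_option autoImplicit false
open FunFld

namespace Groth.Agent.S11042

/-- A function field of one variable of genus `g` over a finite field with `q` elements has `N` places
of degree one with `|N - q - 1| ≤ 2 g √q`. -/
theorem result
    (k K : Type*) [Field k] [Finite k] [Field K] [Algebra k K]
    (hK : FunFld.IsFunctionField k K) :
    |(Nat.card {P : FunFld.Place k K // P.deg = 1} : ℝ) - (Nat.card k : ℝ) - 1| ≤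
      2 * (FunFld.genus k K : ℝ) * Real.sqrt (Nat.card k : ℝ) := by
  classical
  obtain ⟨α, -, hα, hpair⟩ := Groth.Agent.S11040.result k K hK
  have hnorm := fun i => Groth.Agent.Lib.Helper67.RHMain.norm_eq_sqrt hK α hα hpair i
  have h1 := Groth.Agent.Lib.Helper67.FFNumer.npts_eq_of_numer ℂ hK α hα 0
  rw [Groth.Agent.Lib.Helper67.DegCount.npts_one
    (Groth.Agent.Lib.Helper67.FFConstExt.admissible_deg hK)] at h1
  simp only [zero_add, pow_one] at h1
  have h2 : (((Nat.card {P : FunFld.Place k K // P.deg = 1} : ℝ) - (Nat.card k : ℝ) - 1 : ℝ) : ℂ) =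
      -∑ i, α i := by
    push_cast
    rw [h1]
    ring
  have h3 : |(Nat.card {P : FunFld.Place k K // P.deg = 1} : ℝ) - (Nat.card k : ℝ) - 1| =
      ‖∑ i, α i‖ := by
    rw [← Real.norm_eq_abs, ← Complex.norm_real, h2, norm_neg]
  rw [h3]
  calc ‖∑ i, α i‖ ≤ ∑ i, ‖α i‖ := norm_sum_le _ _
    _ = ∑ _i : Fin (2 * FunFld.genus k K), Real.sqrt (Nat.card k : ℝ) :=
        Finset.sum_congr rfl (fun i _ => hnorm i)
    _ = 2 * (FunFld.genus k K : ℝ) * Real.sqrt (Nat.card k : ℝ) := by
        rw [Finset.sum_const, Finset.card_univ, Fintype.card_fin, nsmul_eq_mul]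
        push_cast
        ring

end Groth.Agent.S11042
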