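import Groth.Statements.S11043
import Mathlib.RingTheory.Polynomial.Cyclotomic.Basic
import Mathlib.RingTheory.RootsOfUnity.PrimitiveRoots

set_option autoImplicit false
open FunFld

namespace Groth.Agent.S11043

open Polynomial in
/-- A product over the `k`-th roots of unity as a product over powers of a primitive root. -/
theorem prod_nthRoots_eq_prod_range {K M : Type*} [Field K] [CommMonoid M] {ω : K} {k : ℕ}
    (hk : 0 < k) (hω : IsPrimitiveRoot ω k) (g : K → M) :
    ∏ θ ∈ nthRootsFinset k (1 : K), g θ = ∏ i ∈ Finset.range k, g (ω ^ i) := by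
  classical
  have himg : (Finset.range k).image (fun i => ω ^ i) = nthRootsFinset k (1 : K) := by
    apply Finset.eq_of_subset_of_card_le
    · intro θ hθ
      obtain ⟨i, -, rfl⟩ := Finset.mem_image.1 hθ
      rw [mem_nthRootsFinset hk, ← pow_mul, mul_comm, pow_mul, hω.pow_eq_one, one_pow]
    · rw [hω.card_nthRootsFinset, Finset.card_image_of_injOn, Finset.card_range]
      intro i hi j hj hij
      exact hω.pow_inj (Finset.mem_range.1 hi) (Finset.mem_range.1 hj) hij
  rw [← himg, Finset.prod_image]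
  intro i hi j hj hij
  exact hω.pow_inj (Finset.mem_range.1 hi) (Finset.mem_range.1 hj) hij

/-- A product of an `m`-periodic function over `range (m * e)`. -/
theorem prod_range_mul_of_periodic {M : Type*} [CommMonoid M] (g : ℕ → M) (m e : ℕ)
    (hg : ∀ i, g (m + i) = g i) :
    ∏ i ∈ Finset.range (m * e), g i = (∏ j ∈ Finset.range m, g j) ^ e := by
  have hg' : ∀ q i, g (m * q + i) = g i := by
    intro q
    induction q with
    | zero => intro i; simp
    | succ q ih =>
      intro i
      rw [Nat.mul_succ, add_assoc, ih, hg]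
  induction e with
  | zero => simp
  | succ e ih =>
    rw [Nat.mul_succ, Finset.prod_range_add, ih, pow_succ]
    congr 1
    exact Finset.prod_congr rfl fun j _ => hg' e j


/-- For positive integers `n`, `d` with `e = gcd(n, d)`, in `ℂ[t]` one has `(1 - t^{nd/e})^e = ∏_{θⁿ =
1} (1 - (θ t)^d)`, the product over the complex `n`-th roots of unity. -/
theorem result (n d : ℕ) (hn : 0 < n) (hd : 0 < d) :
    ((1 : Polynomial ℂ) - Polynomial.X ^ (n * d / Nat.gcd n d)) ^ Nat.gcd n d =
      ∏ θ ∈ Polynomial.nthRootsFinset n (1 : ℂ),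
        (1 - Polynomial.C (θ ^ d) * Polynomial.X ^ d) := by
  apply Polynomial.funext
  intro t
  simp only [Polynomial.eval_pow, Polynomial.eval_sub, Polynomial.eval_one, Polynomial.eval_X,
    Polynomial.eval_prod, Polynomial.eval_mul, Polynomial.eval_C]
  set e := Nat.gcd n d with he
  have hepos : 0 < e := Nat.gcd_pos_of_pos_left d hn
  obtain ⟨m, hm⟩ : e ∣ n := Nat.gcd_dvd_left n d
  obtain ⟨d', hd'⟩ : e ∣ d := Nat.gcd_dvd_right n d
  have hmpos : 0 < m := by
    rcases Nat.eq_zero_or_pos m with h | h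
    · rw [h, mul_zero] at hm; omega
    · exact h
  have hcop : Nat.Coprime d' m := by
    have h1 : Nat.Coprime (n / e) (d / e) := Nat.coprime_div_gcd_div_gcd hepos
    rw [hm, hd', Nat.mul_div_cancel_left _ hepos, Nat.mul_div_cancel_left _ hepos] at h1
    exact h1.symm
  have hexp : n * d / e = d * m := by
    rw [hm, mul_assoc, Nat.mul_div_cancel_left _ hepos, mul_comm]
  rw [hexp]
  have hζ : IsPrimitiveRoot (Complex.exp (2 * Real.pi * Complex.I / n)) n :=
    Complex.isPrimitiveRoot_exp n hn.ne'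
  set ζ := Complex.exp (2 * Real.pi * Complex.I / n) with hζdef
  have hξ : IsPrimitiveRoot (ζ ^ d) m := by
    have h1 : IsPrimitiveRoot (ζ ^ e) m := IsPrimitiveRoot.pow hn hζ hm
    have h2 := h1.pow_of_coprime d' hcop
    rwa [← pow_mul, ← hd'] at h2
  rw [prod_nthRoots_eq_prod_range hn hζ (fun θ => 1 - θ ^ d * t ^ d)]
  have h3 : ∀ i ∈ Finset.range n, 1 - (ζ ^ i) ^ d * t ^ d = 1 - (ζ ^ d) ^ i * t ^ d := by
    intro i _
    rw [← pow_mul, ← pow_mul, mul_comm i d]
  rw [Finset.prod_congr rfl h3]
  have hn' : n = m * e := by rw [hm, mul_comm]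
  rw [hn', prod_range_mul_of_periodic (fun i => 1 - (ζ ^ d) ^ i * t ^ d) m e]
  · congr 1
    rw [← prod_nthRoots_eq_prod_range hmpos hξ (fun η => 1 - η * t ^ d)]
    have := hξ.pow_sub_pow_eq_prod_sub_mul (1 : ℂ) (t ^ d) hmpos
    rw [one_pow, ← pow_mul] at this
    exact this
  · intro i
    rw [pow_add, hξ.pow_eq_one, one_mul]

end Groth.Agent.S11043
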