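import Groth.Statements.S11047
import Groth.Agent.FunFld.AutFix

set_option autoImplicit false
open FunFld

namespace Groth.Agent.S11047

/-- Over an algebraically closed constant field, a `k`-automorphism of a function field of one variable
of genus `g` that fixes more than `2g + 2` places is the identity. -/
theorem result
    (k K : Type*) [Field k] [IsAlgClosed k] [Field K] [Algebra k K]
    (hK : FunFld.IsFunctionField k K) (σ : K ≃ₐ[k] K)
    (h : ((2 * FunFld.genus k K + 2 : ℕ) : ℕ∞) <
      Set.encard {P : FunFld.Place k K | ∀ x : K, P.1 x < 1 → P.1 (σ x) < 1}) :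
    σ = 1 := by
  classical
  have hle : ((2 * FunFld.genus k K + 3 : ℕ) : ℕ∞) ≤
      Set.encard {P : FunFld.Place k K | ∀ x : K, P.1 x < 1 → P.1 (σ x) < 1} := by
    have : ((2 * FunFld.genus k K + 3 : ℕ) : ℕ∞) = ((2 * FunFld.genus k K + 2 : ℕ) : ℕ∞) + 1 := by
      push_cast; ring
    rw [this]
    exact Order.add_one_le_of_lt h
  obtain ⟨t, hts, htc⟩ := Set.exists_subset_encard_eq hle
  have htfin : t.Finite := Set.finite_of_encard_eq_coe htc
  have hcard : htfin.toFinset.card = 2 * FunFld.genus k K + 3 := by
    have := htfin.encard_eq_coe_toFinset_card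
    rw [htc] at this
    exact_mod_cast this.symm
  apply Groth.Agent.FF.algEquiv_eq_one_of_fixed hK σ htfin.toFinset
  · intro P hP
    rw [Set.Finite.mem_toFinset] at hP
    exact Groth.Agent.FF.twist_eq_of_fixed P σ (hts hP)
  · omega

end Groth.Agent.S11047
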