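import Groth.Statements.S11048
import Groth.Agent.H57.AutFin5
import Groth.Agent.H57.HasseExist
import Groth.Agent.FunFld.SepVar
import Groth.Agent.FunFld.Perfect

set_option autoImplicit false
open FunFld

namespace Groth.Agent.S11048

/-- Over an algebraically closed constant field of characteristic `0` or greater than `2g - 2`, a
function field of one variable of genus `g > 1` has only finitely many automorphisms over the
constants. -/
theorem result
    (k K : Type*) [Field k] [IsAlgClosed k] [Field K] [Algebra k K]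
    (hK : FunFld.IsFunctionField k K) (hg : 1 < FunFld.genus k K)
    (hp : ringChar k = 0 ∨ 2 * FunFld.genus k K - 2 < ringChar k) :
    Finite (K ≃ₐ[k] K) := by
  classical
  open Groth.Agent.H57 Groth.Agent.FF in
  obtain ⟨C, hC⟩ := exists_isCanonical hK
  have hell := ell_canonical hK hC
  obtain ⟨n, hn⟩ : ∃ n : ℕ, FunFld.genus k K = n + 1 := ⟨FunFld.genus k K - 1, by omega⟩
  have hn0 : 0 < n := by omega
  have hfinL : Module.Finite k (FunFld.L C) := finite_L hK C
  have hfr : Module.finrank k (FunFld.L C) = n + 1 := by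
    rw [← hn, ← hell]; rfl
  let b := Module.finBasisOfFinrankEq k (FunFld.L C) hfr
  set φ : Fin (n + 1) → K := fun i => ((b i : FunFld.L C) : K) with hφdef
  have hφ : LinearIndependent k φ :=
    b.linearIndependent.map' (FunFld.L C).subtype (Submodule.ker_subtype _)
  have hspan : Submodule.span k (Set.range φ) = FunFld.L C := by
    have h1 : Set.range φ = (FunFld.L C).subtype '' Set.range b := by
      rw [← Set.range_comp]; rfl
    rw [h1, Submodule.span_image, b.span_eq, Submodule.map_subtype_top]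
  have hchar : ringChar k = 0 ∨ 2 * n < ringChar k := by
    rcases hp with h | h
    · exact Or.inl h
    · right; omega
  have hgeo : FunFld.IsGeometric k K := isGeometric_of_perfectField hK
  obtain ⟨s, hst, hsep⟩ := exists_separating hK hgeo
  obtain ⟨H, hH⟩ := exists_isHasseFamily_of_isSeparable s hst
  obtain ⟨Φ, hΦ⟩ := exists_expansion_family hK
  set W := FunFld.wDiv (AlgHom.id k K) H Φ s φ (fun l : Fin n => (l : ℕ) + 1) with hW
  set T : Finset (FunFld.Place k K) := W.support with hT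
  have hTcard : n + 4 ≤ T.card :=
    card_support_canon_wDiv hK hC hn0 φ hφ hspan hchar s H hH Φ hΦ
  have hTinv : ∀ (σ : K ≃ₐ[k] K) (P : FunFld.Place k K), P ∈ T → twist P σ ∈ T := by
    intro σ P hP
    rw [hT, Finsupp.mem_support_iff] at hP ⊢
    intro h0
    exact hP ((canon_wDiv_twist_eq_zero_iff hK hC φ hφ hspan hchar s H hH Φ hΦ P σ).1 h0)
  obtain ⟨P₁, hP₁⟩ : T.Nonempty := Finset.card_pos.1 (by omega)
  obtain ⟨m, x, hm, hxr, hxL, hsp⟩ := exists_first_nongap_function hK P₁
  have hfix : ∀ σ : K ≃ₐ[k] K, (∀ Q ∈ T, twist Q σ = Q) → σ x = x := fun σ hσ =>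
    apply_eq_of_fixes hK P₁ m x hxr hxL hsp T hP₁ (by omega) σ hσ
  have hN : {σ : K ≃ₐ[k] K | σ x = x}.Finite :=
    finite_stabilizer hK x (transcendental_of_not_mem_range hK hxr)
  let f : (K ≃ₐ[k] K) → (T → T) := fun σ P => ⟨twist P.1 σ, hTinv σ P.1 P.2⟩
  rw [← Set.finite_univ_iff]
  apply Set.Finite.of_finite_fibers f (Set.toFinite _)
  rintro F ⟨σ₀, -, rfl⟩
  apply (hN.image (fun ρ => σ₀ * ρ)).subset
  rintro σ ⟨-, hσ⟩
  refine ⟨σ₀⁻¹ * σ, ?_, by simp⟩
  apply hfix
  intro Q hQ
  have hPT : twist Q σ₀⁻¹ ∈ T := hTinv σ₀⁻¹ Q hQ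
  have h1 : f σ ⟨twist Q σ₀⁻¹, hPT⟩ = f σ₀ ⟨twist Q σ₀⁻¹, hPT⟩ := by
    rw [Set.mem_preimage, Set.mem_singleton_iff] at hσ
    rw [hσ]
  have h2 : twist (twist Q σ₀⁻¹) σ = twist (twist Q σ₀⁻¹) σ₀ := congrArg Subtype.val h1
  rw [twist_mul, twist_mul, inv_mul_cancel, twist_one] at h2
  exact h2

end Groth.Agent.S11048
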