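import Groth.Statements.S11049
import Mathlib.LinearAlgebra.Isomorphisms
import Mathlib.LinearAlgebra.Dimension.RankNullity
import Mathlib.LinearAlgebra.Dimension.DivisionRing
import Mathlib.RingTheory.Finiteness.Finsupp
import Mathlib.LinearAlgebra.FiniteDimensional.Basic
import Mathlib.RingTheory.Ideal.Span

set_option autoImplicit false
open CAlg

namespace Groth.Agent.S11049

/-- For `k`-algebras `S ⊆ R` with `R` an integral domain and a nonzero `x ∈ S`, if `R/S` and `R/Rx` are
finite-dimensional over `k` then `dim_k R/Rx = dim_k S/Sx`. (The published statement allows `x = 0`;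
then `R` is a field finite over `k` and the two sides are `dim_k R` and `dim_k S`, which differ for
`S = k ⊊ R`; the published proof multiplies by `x` as an injection, so `x ≠ 0` is assumed here.) -/
theorem result
    (k R : Type*) [Field k] [CommRing R]
    [IsDomain R] [Algebra k R] (S : Subalgebra k R) (x : S) (hx : (x : R) ≠ 0)
    [Module.Finite k (R ⧸ Subalgebra.toSubmodule S)]
    [Module.Finite k (R ⧸ Ideal.span {(x : R)})] :
    Module.finrank k (R ⧸ Ideal.span {(x : R)}) = Module.finrank k (S ⧸ Ideal.span {x}) := by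
  classical
  set S' : Submodule k R := Subalgebra.toSubmodule S with hS'
  let μ : R →ₗ[k] R := LinearMap.mulLeft k (x : R)
  have hμ : ∀ r, μ r = (x : R) * r := fun r => rfl
  have hμinj : Function.Injective μ := by
    intro a b hab
    exact mul_left_cancel₀ hx hab
  set xS : Submodule k R := S'.map μ with hxS
  set xR : Submodule k R := (Ideal.span {(x : R)}).restrictScalars k with hxR
  have h1 : xS ≤ S' := by
    rintro _ ⟨s, hs, rfl⟩
    exact S.mul_mem x.2 hs
  have h2 : xS ≤ xR := by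
    rintro _ ⟨s, hs, rfl⟩
    exact Ideal.mul_mem_right _ _ (Ideal.subset_span rfl)
  -- the submodule `A`, image of `xR`
  let fA : R →ₗ[k] (R ⧸ xS) := xS.mkQ ∘ₗ μ
  have hkerA : LinearMap.ker fA = S' := by
    ext r
    simp only [fA, LinearMap.mem_ker, LinearMap.comp_apply, Submodule.mkQ_apply,
      Submodule.Quotient.mk_eq_zero, hxS, Submodule.mem_map]
    constructor
    · rintro ⟨s, hs, hsr⟩
      rwa [← hμinj hsr]
    · intro hr
      exact ⟨r, hr, rfl⟩
  have hrangeμ : LinearMap.range μ = xR := by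
    ext r
    simp only [LinearMap.mem_range, hxR, Submodule.restrictScalars_mem, Ideal.mem_span_singleton']
    constructor
    · rintro ⟨a, rfl⟩; exact ⟨a, by rw [hμ, mul_comm]⟩
    · rintro ⟨a, rfl⟩; exact ⟨a, by rw [hμ, mul_comm]⟩
  have hrangeA : LinearMap.range fA = xR.map xS.mkQ := by
    rw [LinearMap.range_comp, hrangeμ]
  -- the submodule `B`, image of `S'`
  let fB : S →ₗ[k] (R ⧸ xS) := xS.mkQ ∘ₗ S'.subtype
  have hkerB : LinearMap.ker fB = (Ideal.span {x}).restrictScalars k := by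
    ext s
    simp only [fB, LinearMap.mem_ker, LinearMap.comp_apply, Submodule.mkQ_apply,
      Submodule.Quotient.mk_eq_zero, hxS, Submodule.mem_map, Submodule.restrictScalars_mem,
      Ideal.mem_span_singleton']
    constructor
    · rintro ⟨t, ht, hts⟩
      refine ⟨⟨t, ht⟩, Subtype.ext ?_⟩
      rw [mul_comm]
      exact hts
    · rintro ⟨a, rfl⟩
      exact ⟨a, a.2, by rw [hμ, mul_comm]; rfl⟩
  have hrangeB : LinearMap.range fB = S'.map xS.mkQ := by
    rw [LinearMap.range_comp, Submodule.range_subtype]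
  -- finiteness
  have eA : (R ⧸ S') ≃ₗ[k] (xR.map xS.mkQ : Submodule k (R ⧸ xS)) :=
    (Submodule.quotEquivOfEq _ _ hkerA).symm ≪≫ₗ fA.quotKerEquivRange ≪≫ₗ
      LinearEquiv.ofEq _ _ hrangeA
  have eB : (S ⧸ Ideal.span {x}) ≃ₗ[k] (S'.map xS.mkQ : Submodule k (R ⧸ xS)) :=
    (Submodule.Quotient.restrictScalarsEquiv k (Ideal.span {x})).symm ≪≫ₗ
      (Submodule.quotEquivOfEq _ _ hkerB).symm ≪≫ₗ fB.quotKerEquivRange ≪≫ₗ
      LinearEquiv.ofEq _ _ hrangeB
  have eQA : ((R ⧸ xS) ⧸ xR.map xS.mkQ) ≃ₗ[k] (R ⧸ Ideal.span {(x : R)}) :=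
    Submodule.quotientQuotientEquivQuotient xS xR h2 ≪≫ₗ
      Submodule.Quotient.restrictScalarsEquiv k (Ideal.span {(x : R)})
  have eQB : ((R ⧸ xS) ⧸ S'.map xS.mkQ) ≃ₗ[k] (R ⧸ S') :=
    Submodule.quotientQuotientEquivQuotient xS S' h1
  have : Module.Finite k (xR.map xS.mkQ : Submodule k (R ⧸ xS)) := Module.Finite.equiv eA
  have : Module.Finite k ((R ⧸ xS) ⧸ xR.map xS.mkQ) := Module.Finite.equiv eQA.symm
  have : Module.Finite k (R ⧸ xS) := Module.Finite.of_submodule_quotient (xR.map xS.mkQ)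
  have hA := (xR.map xS.mkQ).finrank_quotient_add_finrank
  have hB := (S'.map xS.mkQ).finrank_quotient_add_finrank
  rw [eQA.finrank_eq, ← eA.finrank_eq] at hA
  rw [eQB.finrank_eq, ← eB.finrank_eq] at hB
  omega

end Groth.Agent.S11049
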