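import Groth.Statements.S11053
import Groth.Agent.H57.StrongBound2

set_option autoImplicit false
open FunFld

namespace Groth.Agent.S11053

/-- Over an algebraically closed constant field, let `τ` be a `k`-embedding of the function field `K` of
genus `g` into itself, of degree `deg τ = [K : τ(K)]`. A place is a strong fixed point of `τ` when
`τ` maps its maximal ideal into the square of that ideal. For every integer `n > g` there are at
most `1 + deg τ + (n + deg τ / n) g + 2g²(g-1)/n` strong fixed points. -/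
theorem result
    (k K : Type*) [Field k] [IsAlgClosed k] [Field K] [Algebra k K]
    (hK : FunFld.IsFunctionField k K) (τ : K →ₐ[k] K) (n : ℕ)
    (hn : FunFld.genus k K < n) :
    {P : FunFld.Place k K | ∀ x : K, P.1 x < 1 → P.1 (τ x) ≤ WithZero.exp (-2)}.Finite ∧
    (Set.ncard {P : FunFld.Place k K | ∀ x : K, P.1 x < 1 → P.1 (τ x) ≤ WithZero.exp (-2)} : ℝ) ≤
      1 + Module.finrank τ.fieldRange K +
        (n + (Module.finrank τ.fieldRange K : ℝ) / n) * FunFld.genus k K +
        2 * (FunFld.genus k K : ℝ) ^ 2 * (FunFld.genus k K - 1) / n := by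
  classical
  open Groth.Agent.H57 in
  set S : Set (FunFld.Place k K) :=
    {P : FunFld.Place k K | ∀ x : K, P.1 x < 1 → P.1 (τ x) ≤ WithZero.exp (-2)} with hS
  have hSeq : S = {P : FunFld.Place k K | FunFld.IsStrongFixedPt τ P} := rfl
  have hn0 : 0 < n := by omega
  have hnR : (0 : ℝ) < n := by exact_mod_cast hn0
  have hgR : (0 : ℝ) ≤ FunFld.genus k K := Nat.cast_nonneg _
  have hdR : (0 : ℝ) ≤ Module.finrank τ.fieldRange K := Nat.cast_nonneg _
  have hlast : (0 : ℝ) ≤ 2 * (FunFld.genus k K : ℝ) ^ 2 * (FunFld.genus k K - 1) / n := by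
    rcases Nat.eq_zero_or_pos (FunFld.genus k K) with h0 | hpos
    · rw [h0]; simp
    · have : (1 : ℝ) ≤ FunFld.genus k K := by exact_mod_cast hpos
      apply div_nonneg _ hnR.le
      apply mul_nonneg (by positivity)
      linarith
  by_cases hemp : S = ∅
  · rw [hemp]
    refine ⟨Set.finite_empty, ?_⟩
    rw [Set.ncard_empty, Nat.cast_zero]
    have h1 : (0 : ℝ) ≤ (n + (Module.finrank τ.fieldRange K : ℝ) / n) * FunFld.genus k K := by
      positivity
    linarith
  · obtain ⟨P₀, hP₀⟩ := Set.nonempty_iff_ne_empty.2 hemp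
    obtain ⟨hfin, X, hX1, hX2, hmain⟩ := strongFixed_count_le hK τ n hn P₀ hP₀
    rw [← hSeq] at hfin hmain
    refine ⟨hfin, ?_⟩
    set N : ℕ := S.ncard with hN
    set g : ℕ := FunFld.genus k K with hg
    set d : ℕ := Module.finrank τ.fieldRange K with hd
    -- the integer inequality without `X`
    have hint : 2 * (n : ℤ) * N ≤ 2 * (n : ℤ) + 2 * n * d + 2 * (n : ℤ) ^ 2 * g + 2 * d * g +
        4 * (g : ℤ) ^ 2 * (g - 1) := by
      rcases Nat.eq_zero_or_pos g with h0 | hpos
      · rw [h0] at hmain hX2 ⊢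
        push_cast at hmain hX2 ⊢
        nlinarith
      · have hg1 : (1 : ℤ) ≤ g := by exact_mod_cast hpos
        have : (2 * (g : ℤ) - 2) * X ≤ (2 * (g : ℤ) - 2) * (n * ((n : ℤ) - 1) + 2 * (g : ℤ) ^ 2) :=
          mul_le_mul_of_nonneg_left hX2 (by linarith)
        nlinarith
    have hreal : 2 * (n : ℝ) * N ≤ 2 * (n : ℝ) + 2 * n * d + 2 * (n : ℝ) ^ 2 * g + 2 * d * g +
        4 * (g : ℝ) ^ 2 * (g - 1) := by
      exact_mod_cast hint
    have hne : (n : ℝ) ≠ 0 := hnR.ne'
    have hgoal : (1 : ℝ) + d + (n + (d : ℝ) / n) * g + 2 * (g : ℝ) ^ 2 * (g - 1) / n =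
        (2 * (n : ℝ) + 2 * n * d + 2 * (n : ℝ) ^ 2 * g + 2 * d * g +
          4 * (g : ℝ) ^ 2 * (g - 1)) / (2 * n) := by
      field_simp
      ring
    rw [hgoal, le_div_iff₀ (by positivity)]
    linarith

end Groth.Agent.S11053
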