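import Groth.Statements.S11060
import Groth.Agent.H57.PlaneRel

set_option autoImplicit false
open FunFld

namespace Groth.Agent.S11060

/-- Over an algebraically closed constant field, a function field of genus `g` with a nonsingular plane
model has `g` a triangular number. Here a projective map is nonsingular at a place when its local
ring there (quotients of polynomials over `k` in the ratios `φᵢ/φⱼ`, `φⱼ` of least order at the
place, with denominator a unit there) is the whole valuation ring. -/
theorem result
    (k K : Type*) [Field k] [IsAlgClosed k] [Field K] [Algebra k K]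
    (hK : FunFld.IsFunctionField k K)
    (h : ∃ x y : K, IntermediateField.adjoin k ({x, y} : Set K) = ⊤ ∧
      ∀ P : FunFld.Place k K, FunFld.IsNonsingularAt ![(1 : K), x, y] P) :
    ∃ m : ℕ, 2 * FunFld.genus k K = m * (m + 1) := by
  classical
  obtain ⟨x, y, hxy, hns⟩ := h
  have hg := (Groth.Agent.H57.Plane.genus_iff hK x y hxy).2 hns
  set e := (FunFld.mapDiv k ![(1 : K), x, y]).deg with he
  have hD0 : (0 : FunFld.Divisor k K) ≤ FunFld.mapDiv k ![(1 : K), x, y] := by
    intro Q
    have h1 : -(FunFld.mapDiv k ![(1 : K), x, y] Q) ≤ Q.ord ((![(1 : K), x, y] : Fin 3 → K) 0) :=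
      Groth.Agent.H57.neg_mapDiv_le_ord hK _ Q 0
    have h2 : (![(1 : K), x, y] : Fin 3 → K) 0 = 1 := rfl
    rw [h2, Groth.Agent.FF.ord_one] at h1
    rw [Finsupp.zero_apply]
    omega
  have he0 : 0 ≤ e := by
    have := Groth.Agent.FF.deg_mono hD0
    rw [Groth.Agent.FF.deg_zero] at this
    exact this
  rcases lt_or_ge e 2 with hlt | hge
  · -- e = 0 or e = 1
    have hcases : e = 0 ∨ e = 1 := by omega
    rcases hcases with h0 | h1
    · refine ⟨1, ?_⟩
      rw [h0] at hg
      have : (2 * FunFld.genus k K : ℤ) = 2 := by rw [hg]; norm_num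
      have h3 : 2 * FunFld.genus k K = 2 := by exact_mod_cast this
      omega
    · refine ⟨0, ?_⟩
      rw [h1] at hg
      have : (2 * FunFld.genus k K : ℤ) = 0 := by rw [hg]; norm_num
      have h3 : 2 * FunFld.genus k K = 0 := by exact_mod_cast this
      omega
  · refine ⟨(e - 2).toNat, ?_⟩
    have hm : ((e - 2).toNat : ℤ) = e - 2 := Int.toNat_of_nonneg (by omega)
    have : ((2 * FunFld.genus k K : ℕ) : ℤ) = (((e - 2).toNat * ((e - 2).toNat + 1) : ℕ) : ℤ) := by
      push_cast
      rw [hm, hg]
      ring
    exact_mod_cast this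

end Groth.Agent.S11060
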