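import Groth.Statements.S11061
import Groth.Agent.Lib.Helper67.FFIsConstExt
import Groth.Agent.Lib.Helper67.FFNumer

set_option autoImplicit false
open FunFld

namespace Groth.Agent.S11061

/-- If `L_K(t) = ∏ (1 - αᵢ t)` is the numerator of the zeta function of a function field of one variable
over a finite field, then the constant-field extension `Kₙ` of degree `n` has `L_{Kₙ}(t) = ∏ (1 -
αᵢⁿ t)`. -/
theorem result
    (k K k' K' : Type*) [Field k] [Finite k] [Field K] [Algebra k K] [Field k'] [Finite k']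
    [Field K'] [Algebra k k'] [Algebra K K'] [Algebra k' K'] (hK : FunFld.IsFunctionField k K)
    (hK' : FunFld.IsFunctionField k' K') (hce : FunFld.IsConstExt k K k' K')
    (α : Fin (2 * FunFld.genus k K) → ℂ)
    (hα : PowerSeries.map (Int.castRingHom ℂ) (FunFld.numerZ k K) =
      ((∏ i, (1 - Polynomial.C (α i) * Polynomial.X) : Polynomial ℂ) : PowerSeries ℂ)) :
    PowerSeries.map (Int.castRingHom ℂ) (FunFld.numerZ k' K') =
      ((∏ i, (1 - Polynomial.C (α i ^ Module.finrank k k') * Polynomial.X) : Polynomial ℂ) :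
        PowerSeries ℂ) := by
  classical
  open Groth.Agent.Lib.Helper67.GeomSeries Groth.Agent.Lib.Helper66
    Groth.Agent.Lib.Helper67.FFZetaSeries Groth.Agent.Lib.Helper67.FFNumer PowerSeries in
  letI : Algebra k K' := ((algebraMap K K').comp (algebraMap k K)).toAlgebra
  haveI : IsScalarTower k K K' := IsScalarTower.of_algebraMap_eq (fun _ => rfl)
  haveI : IsScalarTower k k' K' := IsScalarTower.of_algebraMap_eq (fun c => hce.1 c)
  haveI hfd : FiniteDimensional k k' := Module.Finite.of_finite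
  have hbij := Groth.Agent.Lib.Helper67.FFConstExt.productMap_bijective hce.2.1 hce.2.2
  haveI hfdK : FiniteDimensional K K' :=
    Groth.Agent.FF.Ext.finiteDimensional_of_productMap_surjective hbij.2
  haveI : Algebra.IsAlgebraic K K' := Algebra.IsAlgebraic.of_finite K K'
  set r := Module.finrank k k' with hr
  have hrpos : 0 < r := Module.finrank_pos
  have hcard : (Nat.card k' : ℂ) = (Nat.card k : ℂ) ^ r := by
    rw [Module.natCard_eq_pow_finrank (K := k) (V := k')]
    push_cast
    rfl
  -- the logarithmic derivative of the zeta series of `K'`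
  have hD : DF k' K' ℂ = C (1 : ℂ) * G 1 + C (Nat.card k' : ℂ) * G (Nat.card k' : ℂ) +
      ∑ i, -(C (α i ^ r) * G (α i ^ r)) := by
    ext m
    unfold DF
    rw [coeff_mk, map_add, map_add, coeff_C_mul_G, coeff_C_mul_G, map_sum]
    simp only [map_neg, coeff_C_mul_G]
    rw [Groth.Agent.Lib.Helper67.FFConstExt.npts_constExt hbij hK hK' (m + 1) (by omega)]
    obtain ⟨s, hs⟩ : ∃ s, r * (m + 1) = s + 1 :=
      ⟨r * (m + 1) - 1, by
        have h0 : 0 < r * (m + 1) := Nat.mul_pos hrpos (Nat.succ_pos m)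
        omega⟩
    rw [← hr, hs, npts_eq_of_numer ℂ hK α hα s, ← hs, hcard, one_pow, Finset.sum_neg_distrib]
    simp only [← pow_mul]
    ring
  set W : ℂ⟦X⟧ := (∏ i, (1 - C (α i ^ r) * X)) * (G (1 : ℂ) * G (Nat.card k' : ℂ)) with hW
  have hWlog : IsLogDeriv W (DF k' K' ℂ) := by
    rw [hD]
    have := (isLogDeriv_prod_linear ℂ (fun i => α i ^ r)).mul
      ((isLogDeriv_G (1 : ℂ)).mul (isLogDeriv_G (Nat.card k' : ℂ)))
    convert this using 1
    ring
  have hW0 : constantCoeff W = 1 := by
    rw [hW, map_mul, map_mul, constantCoeff_prod_linear, constantCoeff_G, constantCoeff_G]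
    ring
  have hZ : ZF k' K' ℂ = W :=
    (isLogDeriv_ZF ℂ hK').unique hWlog ((constantCoeff_ZF ℂ hK').trans hW0.symm)
      (by rw [hW0]; exact one_ne_zero)
  rw [map_numerZ, hZ, coe_prod_linear, hW]
  calc (1 - C (1 : ℂ) * X) * (1 - C (Nat.card k' : ℂ) * X) *
        ((∏ i, (1 - C (α i ^ r) * X)) * (G (1 : ℂ) * G (Nat.card k' : ℂ)))
      = (∏ i, (1 - C (α i ^ r) * X)) * (((1 - C (1 : ℂ) * X) * G 1) *
          ((1 - C (Nat.card k' : ℂ) * X) * G (Nat.card k' : ℂ))) := by ring
    _ = ∏ i, (1 - C (α i ^ r) * X) := by rw [one_sub_mul_G, one_sub_mul_G, mul_one, mul_one]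

end Groth.Agent.S11061
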