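import Groth.Statements.S11064
import Mathlib.Tactic


set_option autoImplicit false
open FunFld

namespace Groth.Agent.S11064

/-- Over an algebraically closed constant field, a projective map `φ = (φ₀, …, φₙ)` that is nonsingular
at some place is birational, i.e. the ratios `φᵢ/φ₀` generate `K` over `k`. Here the local ring of a
projective map at a place consists of the quotients of polynomials over `k` in the ratios `φᵢ/φⱼ`,
`φⱼ` of least order at the place, with denominator a unit there; the map is nonsingular at the place
when this ring is the whole valuation ring. -/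
theorem result
    (k K : Type*) [Field k] [IsAlgClosed k] [Field K] [Algebra k K]
    (hK : FunFld.IsFunctionField k K) {n : ℕ} (φ : Fin (n + 1) → K)
    (h0 : φ 0 ≠ 0) (P : FunFld.Place k K) (h : FunFld.IsNonsingularAt φ P) :
    IntermediateField.adjoin k (Set.range fun i => φ i / φ 0) = ⊤ := by
  rw [eq_top_iff]
  intro z _
  set E := IntermediateField.adjoin k (Set.range fun i => φ i / φ 0) with hE
  have key : ∀ z : K, P.1 z ≤ 1 → z ∈ E := by
    intro z hz
    obtain ⟨j, hj, -, u, hu, w, hw, hw1, hzw⟩ := h z hz
    have hsub : Algebra.adjoin k (Set.range fun i => φ i / φ j) ≤ E.toSubalgebra := by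
      rw [Algebra.adjoin_le_iff]
      rintro _ ⟨i, rfl⟩
      have hi : φ i / φ 0 ∈ E := IntermediateField.subset_adjoin k _ ⟨i, rfl⟩
      have hj' : φ j / φ 0 ∈ E := IntermediateField.subset_adjoin k _ ⟨j, rfl⟩
      have : φ i / φ j = (φ i / φ 0) / (φ j / φ 0) := by field_simp
      change φ i / φ j ∈ E
      rw [this]
      exact E.div_mem hi hj'
    have hw0 : w ≠ 0 := by
      rintro rfl
      simp at hw1
    have : z = u / w := by
      rw [← hzw]
      field_simp
    rw [this]
    exact E.div_mem (hsub hu) (hsub hw)
  rcases le_total (P.1 z) 1 with hz | hz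
  · exact key z hz
  · have hz' : P.1 z⁻¹ ≤ 1 := by
      rw [map_inv₀]
      exact inv_le_one_of_one_le₀ hz
    have := E.inv_mem (key z⁻¹ hz')
    simpa using this

end Groth.Agent.S11064
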