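import Groth.Statements.S11066
import Groth.Agent.H57.LocRing2


set_option autoImplicit false
open FunFld

namespace Groth.Agent.S11066

/-- Over an algebraically closed constant field, for an effective projective map `φ` normalized at the
place `P` (`1` in the span of the entries, all entries integral at `P`), the local ring of `φ` at
`P` has an element of order one at `P` (a local parameter) exactly when the span of the entries has
one. The local ring consists of the quotients of polynomials over `k` in the ratios `φᵢ/φⱼ`, `φⱼ` of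
least order at `P`, with denominator a unit at `P`. -/
theorem result
    (k K : Type*) [Field k] [IsAlgClosed k] [Field K] [Algebra k K]
    (hK : FunFld.IsFunctionField k K) {n : ℕ} (φ : Fin (n + 1) → K)
    (P : FunFld.Place k K) (heff : (1 : K) ∈ Submodule.span k (Set.range φ))
    (hnorm : ∀ i, P.1 (φ i) ≤ 1) :
    (∃ t : K, FunFld.InLocRing φ P t ∧ P.1 t = WithZero.exp (-1)) ↔
      ∃ t ∈ Submodule.span k (Set.range φ), P.1 t = WithZero.exp (-1) := by
  classical
  constructor
  · rintro ⟨t, ⟨j, hj, hPj, u, hu, w, hw, hw1, htw⟩, ht⟩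
    have hφj : P.1 (φ j) = 1 :=
      Groth.Agent.H57.val_eq_one_of_least_order φ P heff hnorm j hPj
    have hint : ∀ i, P.1 (φ i / φ j) ≤ 1 := by
      intro i
      rw [map_div₀, hφj, div_one]
      exact hnorm i
    have hu1 : P.1 u = WithZero.exp (-1 : ℤ) := by
      rw [← htw, map_mul, hw1, mul_one, ht]
    obtain ⟨l, hl, hul⟩ := Groth.Agent.H57.exists_linear_approx hK φ P j hj hint hu
    have hl1 : P.1 l = WithZero.exp (-1 : ℤ) := by
      have h1 : l = u - (u - l) := by ring
      rw [h1, Valuation.map_sub_eq_of_lt_left, hu1]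
      rw [hu1]
      refine hul.trans_lt ?_
      rw [WithZero.exp_lt_exp]
      norm_num
    refine ⟨l * φ j, Groth.Agent.H57.mul_mem_span_of_mem_span_ratios φ j hj hl, ?_⟩
    rw [map_mul, hφj, mul_one, hl1]
  · rintro ⟨t, htW, ht⟩
    obtain ⟨j, hPj⟩ := Groth.Agent.H57.exists_least_order φ P
    have hφj : P.1 (φ j) = 1 :=
      Groth.Agent.H57.val_eq_one_of_least_order φ P heff hnorm j hPj
    have hj : φ j ≠ 0 := by
      rw [← P.1.ne_zero_iff, hφj]
      exact one_ne_zero
    refine ⟨t, ⟨j, hj, hPj, t / φ j, ?_, 1 / φ j, ?_, ?_, ?_⟩, ht⟩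
    · exact Groth.Agent.H57.span_le_adjoin _ (Groth.Agent.H57.div_mem_span_ratios φ j htW)
    · exact Groth.Agent.H57.span_le_adjoin _ (Groth.Agent.H57.div_mem_span_ratios φ j heff)
    · rw [map_div₀, map_one, hφj, div_one]
    · rw [mul_one_div]

end Groth.Agent.S11066
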