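import Groth.Statements.S11072
import Groth.Agent.H57.PlaneJac

set_option autoImplicit false
open FunFld

namespace Groth.Agent.S11072

/-- Over an algebraically closed constant field, a plane curve with defining irreducible homogeneous
polynomial `f` and birational natural map `φ = (φ₀ : φ₁ : φ₂)` is singular at the point `a = φ(P)`
(coordinates `(φᵢ/φⱼ)(P)` for an entry `φⱼ` of least order at `P`, read in the residue field) if and
only if `∂f/∂Xᵢ(a) = 0` for `i = 0, 1, 2`. Here `φ` is nonsingular at `P` when its local ring there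
(quotients of polynomials over `k` in the `φᵢ/φⱼ` with denominator a unit at `P`) is the whole
valuation ring. -/
theorem result (k K : Type*) [Field k] [IsAlgClosed k] [Field K] [Algebra k K]
    (hK : FunFld.IsFunctionField k K) (φ : Fin 3 → K)
    (hφ : LinearIndependent k φ)
    (hbir : IntermediateField.adjoin k (Set.range fun i => φ i / φ 0) = ⊤)
    (f : MvPolynomial (Fin 3) k) (hf : Irreducible f) (hhom : f.IsHomogeneous f.totalDegree)
    (hfφ : MvPolynomial.aeval φ f = 0) (P : FunFld.Place k K) (j : Fin 3)
    (hj : ∀ i, P.1 (φ i) ≤ P.1 (φ j)) (a : Fin 3 → P.O) (ha : ∀ i, ((a i : P.O) : K) = φ i / φ j) :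
    ¬ FunFld.IsNonsingularAt φ P ↔
      ∀ l : Fin 3, MvPolynomial.aeval (fun i => IsLocalRing.residue P.O (a i))
        (MvPolynomial.pderiv l f) = 0 := by
  classical
  have hφ0 : ∀ i, φ i ≠ 0 := fun i => hφ.ne_zero i
  set α : Fin 3 → k := fun i => Groth.Agent.H57.rho hK P (a i) with hα
  have hαv : ∀ i, P.1 (φ i / φ j - algebraMap k K (α i)) < 1 := by
    intro i
    rw [← ha i]
    exact Groth.Agent.H57.val_sub_rho_lt_one hK P (a i)
  have hres : ∀ q : MvPolynomial (Fin 3) k,
      MvPolynomial.aeval (fun i => IsLocalRing.residue P.O (a i)) q =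
        algebraMap k (IsLocalRing.ResidueField P.O) (MvPolynomial.eval α q) := by
    intro q
    have h1 : (fun i => IsLocalRing.residue P.O (a i)) =
        (algebraMap k (IsLocalRing.ResidueField P.O)) ∘ α := by
      funext i
      exact (Groth.Agent.H57.algebraMap_rho hK P (a i)).symm
    rw [h1, MvPolynomial.aeval_def]
    have := MvPolynomial.eval₂_comp_left (algebraMap k (IsLocalRing.ResidueField P.O))
      (RingHom.id k) α q
    rw [RingHom.comp_id] at this
    exact this.symm
  have hinj : Function.Injective (algebraMap k (IsLocalRing.ResidueField P.O)) :=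
    (algebraMap k (IsLocalRing.ResidueField P.O)).injective
  have hiff : (∀ l : Fin 3, MvPolynomial.aeval (fun i => IsLocalRing.residue P.O (a i))
      (MvPolynomial.pderiv l f) = 0) ↔ ∀ l : Fin 3, MvPolynomial.eval α (MvPolynomial.pderiv l f) = 0 := by
    refine forall_congr' fun l => ?_
    rw [hres, map_eq_zero_iff _ hinj]
  rw [hiff]
  constructor
  · intro hns l
    by_contra hl
    exact hns (Groth.Agent.H57.Plane.isNonsingularAt_of_pderiv_ne_zero φ hφ0 hbir P j hj α hαv f
      hhom hfφ l hl)
  · intro hall hns
    obtain ⟨i, hi⟩ := Groth.Agent.H57.Plane.exists_pderiv_ne_zero_of_isNonsingularAt hK φ hφ0 hbir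
      P j hj α hαv f hf hhom hfφ hns
    exact hi (hall i)

end Groth.Agent.S11072
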