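import Groth.Statements.S11075
import Groth.Agent.H57.FFBasic


set_option autoImplicit false
open FunFld

namespace Groth.Agent.S11075

/-- Over an algebraically closed constant field, let `φ = (φ₀, …, φₙ)`, `n ≥ 1`, be a projective map
onto the curve `V`. (a) A homogeneous `g` not vanishing identically on `V` vanishes at the image
point of only finitely many places (so a closed set not containing `V` meets `V` in a finite set);
(b) each fibre of `φ` is finite. Here `g` vanishes at `φ(P)` when `g(φ₀/φⱼ, …, φₙ/φⱼ)` lies in the
maximal ideal of `P` for an entry `φⱼ` of least order at `P`. Two places have the same image point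
when some entry `φⱼ` has least order at both and each `φᵢ/φⱼ` is congruent to one constant modulo
both maximal ideals. -/
theorem result (k K : Type*) [Field k] [IsAlgClosed k] [Field K] [Algebra k K]
    (hK : FunFld.IsFunctionField k K) {n : ℕ} (hn : 1 ≤ n)
    (φ : Fin (n + 1) → K) (hφ : LinearIndependent k φ) :
    (∀ g : MvPolynomial (Fin (n + 1)) k, g.IsHomogeneous g.totalDegree →
      MvPolynomial.aeval φ g ≠ 0 →
        {P : FunFld.Place k K | ∃ j, φ j ≠ 0 ∧ (∀ i, P.1 (φ i) ≤ P.1 (φ j)) ∧
          P.1 (MvPolynomial.aeval (fun i => φ i / φ j) g) < 1}.Finite) ∧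
    ∀ P : FunFld.Place k K, {Q : FunFld.Place k K | FunFld.SameImage φ P Q}.Finite := by
  classical
  refine ⟨?_, ?_⟩
  · intro g hg hgφ
    -- for each j with φ j ≠ 0 the dehomogenized value is nonzero
    have hG : ∀ j, φ j ≠ 0 → MvPolynomial.aeval (fun i => φ i / φ j) g ≠ 0 := by
      intro j hj
      have h1 := Groth.Agent.H57.aeval_smul_of_isHomogeneous g _ hg (φ j)⁻¹ φ
      have h2 : (fun i => (φ j)⁻¹ * φ i) = fun i => φ i / φ j := by
        funext i
        rw [div_eq_mul_inv, mul_comm]
      rw [h2] at h1
      rw [h1]
      exact mul_ne_zero (pow_ne_zero _ (inv_ne_zero hj)) hgφ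
    have hfin : (⋃ j ∈ {j : Fin (n + 1) | φ j ≠ 0},
        {P : FunFld.Place k K | P.1 (MvPolynomial.aeval (fun i => φ i / φ j) g) < 1}).Finite := by
      apply Set.Finite.biUnion (Set.toFinite _)
      intro j hj
      exact Groth.Agent.H57.finite_val_lt_one hK (hG j hj)
    refine hfin.subset ?_
    rintro P ⟨j, hj, -, hP⟩
    simp only [Set.mem_iUnion]
    exact ⟨j, hj, hP⟩
  · intro P
    -- for each j pick i with φ i / φ j non-constant
    have hnc : ∀ j, ∃ i, φ i / φ j ∉ Set.range (algebraMap k K) := by
      intro j
      obtain ⟨i, hij⟩ : ∃ i : Fin (n + 1), i ≠ j := by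
        by_cases h0 : j = 0
        · refine ⟨⟨1, by omega⟩, ?_⟩
          rw [h0]
          intro h
          have := congrArg Fin.val h
          simp at this
        · exact ⟨0, fun h => h0 h.symm⟩
      refine ⟨i, ?_⟩
      rintro ⟨c, hc⟩
      have hj0 : φ j ≠ 0 := hφ.ne_zero j
      have h1 : φ i = c • φ j := by
        rw [Algebra.smul_def, hc]
        field_simp
      have hli := hφ
      rw [Fintype.linearIndependent_iff] at hli
      have h2 := hli (fun l => if l = i then 1 else if l = j then -c else 0) (by
        rw [Finset.sum_eq_add_of_mem i j (Finset.mem_univ _) (Finset.mem_univ _) hij]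
        · simp only [if_true, if_neg (Ne.symm hij), one_smul]
          rw [h1]
          simp
        · intro l _ hl
          rw [if_neg hl.1, if_neg hl.2, zero_smul]) i
      simp at h2
    choose ι hι using hnc
    have hfin : (⋃ j : Fin (n + 1), ⋃ c ∈ {c : k | P.1 (φ (ι j) / φ j - algebraMap k K c) < 1},
        {Q : FunFld.Place k K | Q.1 (φ (ι j) / φ j - algebraMap k K c) < 1}).Finite := by
      apply Set.finite_iUnion
      intro j
      apply Set.Finite.biUnion
      · apply Set.Subsingleton.finite
        intro c hc c' hc'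
        exact Groth.Agent.H57.residue_const_unique P _ hc hc'
      · intro c _
        apply Groth.Agent.H57.finite_val_lt_one hK
        intro h0
        apply hι j
        exact ⟨c, (sub_eq_zero.1 h0).symm⟩
    refine hfin.subset ?_
    rintro Q ⟨j, -, -, -, hQ⟩
    obtain ⟨c, hcP, hcQ⟩ := hQ (ι j)
    simp only [Set.mem_iUnion]
    exact ⟨j, c, hcP, hcQ⟩

end Groth.Agent.S11075
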