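import Groth.Statements.S11078
import Groth.Agent.H57.LocRing


set_option autoImplicit false
open FunFld

namespace Groth.Agent.S11078

/-- Over an algebraically closed constant field, for a projective map `φ = (φ₀, …, φₙ)`, `n ≥ 1`, and a
point `a = φ(P)` with local ring `O_a`, the fibre `φ⁻¹(a)` consists of the places `Q` with `O_a ⊆
O_Q` and `m_Q ∩ O_a` equal to the maximal ideal of `O_a` (which is `m_P ∩ O_a`). Here `O_a` consists
of the quotients of polynomials over `k` in the ratios `φᵢ/φⱼ`, `φⱼ` of least order at `P`, with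
denominator a unit at `P`; and `Q` has the same image point as `P` when some entry has least order
at both places and the ratios are congruent to common constants modulo both maximal ideals. -/
theorem result
    (k K : Type*) [Field k] [IsAlgClosed k] [Field K] [Algebra k K]
    (hK : FunFld.IsFunctionField k K) {n : ℕ} (hn : 1 ≤ n) (φ : Fin (n + 1) → K)
    (hφ : LinearIndependent k φ) (P Q : FunFld.Place k K) :
    FunFld.SameImage φ P Q ↔
      ∀ z : K, FunFld.InLocRing φ P z → (Q.1 z ≤ 1 ∧ (Q.1 z < 1 ↔ P.1 z < 1)) := by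
  classical
  constructor
  · rintro ⟨j, hj, hPj, hQj, hres⟩ z ⟨j', hj', hPj', u, hu, w, hw, hw1, hzw⟩
    obtain ⟨hQj', hres'⟩ := Groth.Agent.H57.sameImage_change_index φ P Q j j' hj hj' hPj' hPj hres
    have hgen : ∀ s ∈ (Set.range fun i => φ i / φ j'), ∃ c : k,
        P.1 (s - algebraMap k K c) < 1 ∧ Q.1 (s - algebraMap k K c) < 1 := by
      rintro _ ⟨i, rfl⟩
      exact hres' i
    obtain ⟨cu, hcuP, hcuQ⟩ := Groth.Agent.H57.common_residue_adjoin P Q _ hgen hu
    obtain ⟨cw, hcwP, hcwQ⟩ := Groth.Agent.H57.common_residue_adjoin P Q _ hgen hw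
    have hcw0 : cw ≠ 0 := (Groth.Agent.H57.val_eq_one_iff_of_residue P hcwP).1 hw1
    have hw1Q : Q.1 w = 1 := (Groth.Agent.H57.val_eq_one_iff_of_residue Q hcwQ).2 hcw0
    have hzP : P.1 z = P.1 u := by
      rw [← hzw, map_mul, hw1, mul_one]
    have hzQ : Q.1 z = Q.1 u := by
      rw [← hzw, map_mul, hw1Q, mul_one]
    refine ⟨?_, ?_⟩
    · rw [hzQ]
      exact Groth.Agent.H57.val_le_one_of_residue Q hcuQ
    · rw [hzQ, hzP, Groth.Agent.H57.val_lt_one_iff_of_residue Q hcuQ,
        Groth.Agent.H57.val_lt_one_iff_of_residue P hcuP]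
  · intro h
    obtain ⟨j, hPj⟩ := Groth.Agent.H57.exists_least_order φ P
    have hj : φ j ≠ 0 := hφ.ne_zero j
    have hratio : ∀ i, FunFld.InLocRing φ P (φ i / φ j) := by
      intro i
      refine ⟨j, hj, hPj, φ i / φ j, Algebra.subset_adjoin ⟨i, rfl⟩, 1, Subalgebra.one_mem _,
        map_one _, mul_one _⟩
    have hint : ∀ i, P.1 (φ i / φ j) ≤ 1 := by
      intro i
      rw [map_div₀]
      have hne : P.1 (φ j) ≠ 0 := by rw [P.1.ne_zero_iff]; exact hj
      rw [div_le_one₀ (zero_lt_iff.2 hne)]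
      exact hPj i
    refine ⟨j, hj, hPj, ?_, ?_⟩
    · intro i
      have := (h _ (hratio i)).1
      rw [map_div₀] at this
      have hne : Q.1 (φ j) ≠ 0 := by rw [Q.1.ne_zero_iff]; exact hj
      rwa [div_le_one₀ (zero_lt_iff.2 hne)] at this
    · intro i
      obtain ⟨c, hc⟩ := Groth.Agent.H57.exists_residue_const hK P (hint i)
      refine ⟨c, hc, ?_⟩
      have hmem : FunFld.InLocRing φ P (φ i / φ j - algebraMap k K c) := by
        refine ⟨j, hj, hPj, φ i / φ j - algebraMap k K c, ?_, 1, Subalgebra.one_mem _,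
          map_one _, mul_one _⟩
        exact Subalgebra.sub_mem _ (Algebra.subset_adjoin ⟨i, rfl⟩) (Subalgebra.algebraMap_mem _ c)
      exact (h _ hmem).2.2 hc

end Groth.Agent.S11078
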