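import Groth.Statements.S11080


set_option autoImplicit false
universe u
open CAlg

namespace Groth.Agent.S11080

/-- Valuation rings over a curve: let A be a Dedekind domain with fraction field K. A valuation subring
O of K contains A and is different from K if and only if O is the valuation ring of the v-adic
valuation of K at some nonzero prime v of A (equivalently O is the local ring of A at a maximal
ideal, a discrete valuation ring). (The published statement takes A to be the coordinate ring of a
nonsingular affine curve over an algebraically closed field, which is such a Dedekind domain; its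
proof uses only that the local rings of A at nonzero primes are discrete valuation rings and that
nonzero primes are maximal.) -/
theorem result (A K : Type u) [CommRing A]
    [IsDedekindDomain A] [Field K] [Algebra A K] [IsFractionRing A K] (O : ValuationSubring K) :
    ((algebraMap A K).range ≤ O.toSubring ∧ O ≠ ⊤) ↔
      ∃ v : IsDedekindDomain.HeightOneSpectrum A, O = (v.valuation K).valuationSubring := by
  classical
  constructor
  · rintro ⟨hA, hO⟩
    have hAO : ∀ a : A, algebraMap A K a ∈ O := fun a => hA ⟨a, rfl⟩
    have hvle : ∀ a : A, O.valuation (algebraMap A K a) ≤ 1 := fun a =>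
      (O.valuation_le_one_iff _).2 (hAO a)
    -- the centre of `O` on `A`
    let p : Ideal A :=
      { carrier := {a | O.valuation (algebraMap A K a) < 1}
        add_mem' := by
          intro a b ha hb
          simp only [Set.mem_ofPred_eq, map_add] at *
          exact lt_of_le_of_lt (O.valuation.map_add _ _) (max_lt ha hb)
        zero_mem' := by simp
        smul_mem' := by
          intro c a ha
          simp only [Set.mem_ofPred_eq, smul_eq_mul, map_mul] at *
          calc O.valuation (algebraMap A K c) * O.valuation (algebraMap A K a)
              ≤ 1 * O.valuation (algebraMap A K a) := by gcongr; exact hvle c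
            _ < 1 := by rw [one_mul]; exact ha }
    have hp_mem : ∀ a : A, a ∈ p ↔ O.valuation (algebraMap A K a) < 1 := fun a => Iff.rfl
    have hp_prime : p.IsPrime := by
      refine ⟨?_, ?_⟩
      · intro h
        have : (1 : A) ∈ p := by rw [h]; trivial
        rw [hp_mem, map_one, map_one] at this
        exact lt_irrefl _ this
      · intro a b hab
        rw [hp_mem, map_mul, map_mul] at hab
        by_contra hcon
        push Not at hcon
        obtain ⟨ha, hb⟩ := hcon
        rw [hp_mem, not_lt] at ha hb
        have ha1 : O.valuation (algebraMap A K a) = 1 := le_antisymm (hvle a) ha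
        have hb1 : O.valuation (algebraMap A K b) = 1 := le_antisymm (hvle b) hb
        rw [ha1, hb1, one_mul] at hab
        exact lt_irrefl _ hab
    have hp_ne : p ≠ ⊥ := by
      intro hbot
      apply hO
      rw [eq_top_iff]
      intro x _
      obtain ⟨a, b, hb, rfl⟩ := IsFractionRing.div_surjective (A := A) x
      rw [← O.valuation_le_one_iff, map_div₀]
      have hb0 : b ≠ 0 := nonZeroDivisors.ne_zero hb
      have hbp : b ∉ p := by rw [hbot]; simpa using hb0
      rw [hp_mem, not_lt] at hbp
      have hb1 : O.valuation (algebraMap A K b) = 1 := le_antisymm (hvle b) hbp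
      rw [hb1, div_one]
      exact hvle a
    let v : IsDedekindDomain.HeightOneSpectrum A := ⟨p, hp_prime, hp_ne⟩
    refine ⟨v, ?_⟩
    rw [← IsDedekindDomain.HeightOneSpectrum.valuationSubringAtPrime_eq_valuationSubring]
    symm
    apply ValuationSubring.eq_of_le_of_ne_top _ _ hO
    rintro x ⟨a, s, hs, rfl⟩
    have hsp : s ∉ p := hs
    rw [hp_mem, not_lt] at hsp
    have hs1 : O.valuation (algebraMap A K s) = 1 := le_antisymm (hvle s) hsp
    rw [← ValuationSubring.valuation_le_one_iff, map_mul, map_inv₀, hs1, inv_one, mul_one]
    exact hvle a
  · rintro ⟨v, rfl⟩
    constructor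
    · rintro _ ⟨a, rfl⟩
      exact v.valuation_le_one a
    · intro htop
      obtain ⟨π, hπ⟩ := v.valuation_exists_uniformizer K
      have hmem : π⁻¹ ∈ (v.valuation K).valuationSubring := by rw [htop]; trivial
      rw [Valuation.mem_valuationSubring_iff, map_inv₀, hπ] at hmem
      rw [← WithZero.exp_neg, neg_neg, ← WithZero.exp_zero, WithZero.exp_le_exp] at hmem
      omega

end Groth.Agent.S11080
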