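import Groth.Statements.S11082
import Mathlib
import Groth.Agent.Lib.Helper81.CartierPoly

set_option autoImplicit false
universe u v
open CAlg

namespace Groth.Agent.S11082
open Groth.Agent.Lib.Helper81.CartierPoly KaehlerDifferential in

/-- Let k be an algebraically closed field, F a field extension of k which is finitely generated as a
field, and x a transcendence basis of F over k indexed by a type ι. Then F is a separable algebraic
extension of the subfield k(x) generated by the family (x is a separating transcendence basis) if
and only if the differentials d(x i) form a basis of the F-vector space of Kähler differentials of F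
over k, i.e. they are linearly independent over F and span it. -/
theorem result (k : Type u) (F : Type v)
    [Field k] [IsAlgClosed k] [Field F] [Algebra k F] (hF : (⊤ : IntermediateField k F).FG)
    {ι : Type v} (x : ι → F) (hx : IsTranscendenceBasis k x) :
    Algebra.IsSeparable (IntermediateField.adjoin k (Set.range x)) F ↔
      (LinearIndependent F (fun i : ι => KaehlerDifferential.D k F (x i)) ∧
        Submodule.span F (Set.range fun i : ι => KaehlerDifferential.D k F (x i)) = ⊤) := by
  classical
  haveI : Algebra.EssFiniteType k F := IntermediateField.fg_top_iff.1 hF
  haveI : Algebra.EssFiniteType (IntermediateField.adjoin k (Set.range x)) F :=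
    Algebra.EssFiniteType.of_comp k _ F
  haveI : Algebra.FormallySmooth k F := inferInstance
  -- the differentials of elements of `k(x)` lie in the span of the `d x_i`
  have hmemE : ∀ y ∈ IntermediateField.adjoin k (Set.range x),
      D k F y ∈ Submodule.span F (Set.range fun i : ι => D k F (x i)) := by
    intro y hy
    induction hy using IntermediateField.adjoin_induction with
    | mem z hz =>
      obtain ⟨i, rfl⟩ := hz
      exact Submodule.subset_span ⟨i, rfl⟩
    | algebraMap z =>
      rw [Derivation.map_algebraMap]
      exact Submodule.zero_mem _
    | add a b _ _ ha hb =>
      rw [map_add]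
      exact Submodule.add_mem _ ha hb
    | inv a _ ha =>
      rw [Derivation.leibniz_inv]
      exact Submodule.smul_mem _ _ ha
    | mul a b _ _ ha hb =>
      rw [Derivation.leibniz]
      exact Submodule.add_mem _ (Submodule.smul_mem _ _ hb) (Submodule.smul_mem _ _ ha)
  constructor
  · intro hsep
    -- Ω[F/E] = 0
    haveI : Algebra.FormallyUnramified (IntermediateField.adjoin k (Set.range x)) F :=
      (Algebra.FormallyUnramified.iff_isSeparable _ F).2 hsep
    have hΩE : ∀ ω : Ω[(IntermediateField.adjoin k (Set.range x))⁄k],
        KaehlerDifferential.map k k (IntermediateField.adjoin k (Set.range x)) F ω ∈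
          Submodule.span F (Set.range fun i : ι => D k F (x i)) := by
      intro ω
      have hω : ω ∈ Submodule.span (IntermediateField.adjoin k (Set.range x))
          (Set.range (D k (IntermediateField.adjoin k (Set.range x)))) := by
        rw [KaehlerDifferential.span_range_derivation]
        trivial
      induction hω using Submodule.span_induction with
      | mem ω hω =>
        obtain ⟨y, rfl⟩ := hω
        rw [KaehlerDifferential.map_D]
        exact hmemE _ y.2
      | zero => rw [map_zero]; exact Submodule.zero_mem _
      | add a b _ _ ha hb => rw [map_add]; exact Submodule.add_mem _ ha hb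
      | smul c a _ ha =>
        rw [map_smul, ← algebraMap_smul F c]
        exact Submodule.smul_mem _ _ ha
    have hall : ∀ z : TensorProduct (IntermediateField.adjoin k (Set.range x)) F
        Ω[(IntermediateField.adjoin k (Set.range x))⁄k],
        KaehlerDifferential.mapBaseChange k (IntermediateField.adjoin k (Set.range x)) F z ∈
          Submodule.span F (Set.range fun i : ι => D k F (x i)) := by
      intro z
      induction z using TensorProduct.induction_on with
      | zero => rw [map_zero]; exact Submodule.zero_mem _
      | tmul c ω =>
        rw [mapBaseChange_tmul]
        exact Submodule.smul_mem _ _ (hΩE ω)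
      | add a b ha hb => rw [map_add]; exact Submodule.add_mem _ ha hb
    have hspan : Submodule.span F (Set.range fun i : ι => D k F (x i)) = ⊤ := by
      rw [_root_.eq_top_iff]
      intro w _
      have hw : KaehlerDifferential.map k (IntermediateField.adjoin k (Set.range x)) F F w = 0 :=
        Subsingleton.elim _ _
      obtain ⟨z, rfl⟩ := (KaehlerDifferential.exact_mapBaseChange_map k
        (IntermediateField.adjoin k (Set.range x)) F w).1 hw
      exact hall z
    refine ⟨?_, hspan⟩
    -- count
    obtain ⟨hΩ, hH, n, hn, he⟩ := goodP_of_essFiniteType k F
    haveI := hΩ
    have h0 : Module.finrank F (Algebra.H1Cotangent k F) = 0 :=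
      Module.finrank_zero_of_subsingleton
    have hcard : Cardinal.mk ι = n := by rw [hx.cardinalMk_eq_trdeg, hn]
    haveI : Finite ι := by
      rw [← Cardinal.lt_aleph0_iff_finite, hcard]
      exact Cardinal.nat_lt_aleph0 n
    haveI := Fintype.ofFinite ι
    refine linearIndependent_of_top_le_span_of_card_eq_finrank hspan.ge ?_
    rw [he, h0, zero_add]
    have : (Fintype.card ι : Cardinal) = n := by rw [← Cardinal.mk_fintype, hcard]
    exact_mod_cast this
  · rintro ⟨-, hspan⟩
    haveI : Subsingleton Ω[F⁄(IntermediateField.adjoin k (Set.range x))] := by
      refine subsingleton_of_forall_eq 0 fun w => ?_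
      obtain ⟨w', rfl⟩ := KaehlerDifferential.map_surjective k
        (IntermediateField.adjoin k (Set.range x)) F w
      have hw' : w' ∈ Submodule.span F (Set.range fun i : ι => D k F (x i)) :=
        hspan ▸ Submodule.mem_top
      induction hw' using Submodule.span_induction with
      | mem ω hω =>
        obtain ⟨i, rfl⟩ := hω
        rw [KaehlerDifferential.map_D]
        have : algebraMap F F (x i) = algebraMap (IntermediateField.adjoin k (Set.range x)) F
            ⟨x i, IntermediateField.subset_adjoin k _ ⟨i, rfl⟩⟩ := rfl
        rw [this, Derivation.map_algebraMap]
      | zero => rw [map_zero]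
      | add a b _ _ ha hb => rw [map_add, ha, hb, add_zero]
      | smul c a _ ha => rw [map_smul, ha, smul_zero]
    haveI : Algebra.FormallyUnramified (IntermediateField.adjoin k (Set.range x)) F :=
      ⟨inferInstance⟩
    exact (Algebra.FormallyUnramified.iff_isSeparable _ F).1 inferInstance

end Groth.Agent.S11082
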