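import Groth.Statements.S11083
import Mathlib
import Groth.Agent.Lib.Helper81.CartierPoly

set_option autoImplicit false
universe u v
open CAlg

namespace Groth.Agent.S11083
open Groth.Agent.Lib.Helper81.CartierPoly in

/-- Let k be an algebraically closed field, F a field extension of k which is finitely generated as a
field, and x a transcendence basis of F over k indexed by Fin d. Then the F-vector space of Kähler
differentials of F over k has F-rank exactly d: it is finite-dimensional of dimension the
transcendence degree. -/
theorem result (k : Type u) (F : Type v)
    [Field k] [IsAlgClosed k] [Field F] [Algebra k F] (hF : (⊤ : IntermediateField k F).FG)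
    (d : ℕ) (x : Fin d → F) (hx : IsTranscendenceBasis k x) :
    Module.rank F (Ω[F⁄k]) = d := by
  haveI : Algebra.EssFiniteType k F := IntermediateField.fg_top_iff.1 hF
  obtain ⟨hΩ, hH, n, hn, he⟩ := goodP_of_essFiniteType k F
  haveI := hΩ
  haveI : Algebra.FormallySmooth k F := inferInstance
  have h0 : Module.finrank F (Algebra.H1Cotangent k F) = 0 := Module.finrank_zero_of_subsingleton
  have htr : Algebra.trdeg k F = (d : Cardinal) := by
    have h := hx.lift_cardinalMk_eq_trdeg
    simp only [Cardinal.mk_fin, Cardinal.lift_natCast] at h
    have h2 : Cardinal.lift.{0} (Algebra.trdeg k F) = (d : Cardinal) := h.symm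
    simpa using h2
  have hnd : n = d := by
    have : (n : Cardinal) = d := by rw [← hn, htr]
    exact_mod_cast this
  rw [← Module.finrank_eq_rank, he, h0, zero_add, hnd]

end Groth.Agent.S11083
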