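import Groth.Statements.S11084
import Groth.Agent.S11080
import Mathlib.FieldTheory.RatFunc.Valuation
import Mathlib.FieldTheory.RatFunc.AsPolynomial

set_option autoImplicit false
universe u
open CAlg

namespace Groth.Agent.S11084

/-- Let k be a field and O a valuation subring of the field of rational functions k(x). Then O contains
the constants k and is different from k(x) if and only if O is the valuation ring of the P-adic
valuation at a nonzero prime P of the polynomial ring k[x], or O is the valuation ring of the
valuation at infinity (given by the degree). (The published statement has k algebraically closed, so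
that these valuation rings correspond to the points of the projective line; the published proof does
not use that k is algebraically closed. The published statement also asserts that distinct points
give distinct valuation rings, which this row does not state, and counts k(x) itself among the
valuation rings containing k; this row excludes it.) -/
theorem result (k : Type u) [Field k] [DecidableEq (RatFunc k)]
    (O : ValuationSubring (RatFunc k)) :
    ((algebraMap k (RatFunc k)).range ≤ O.toSubring ∧ O ≠ ⊤) ↔
      ((∃ v : IsDedekindDomain.HeightOneSpectrum (Polynomial k), O = (v.valuation (RatFunc k)).valuationSubring) ∨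
        O = (RatFunc.inftyValuation k).valuationSubring) := by
  classical
  constructor
  · rintro ⟨hk, hO⟩
    have hkO : ∀ c : k, algebraMap k (RatFunc k) c ∈ O := fun c => hk ⟨c, rfl⟩
    by_cases hX : (RatFunc.X : RatFunc k) ∈ O
    · left
      have hA : (algebraMap (Polynomial k) (RatFunc k)).range ≤ O.toSubring := by
        rintro _ ⟨p, rfl⟩
        induction p using Polynomial.induction_on' with
        | add p q hp hq =>
          rw [map_add]
          exact O.add_mem _ _ hp hq
        | monomial n a =>
          rw [← Polynomial.C_mul_X_pow_eq_monomial, map_mul, map_pow, RatFunc.algebraMap_X,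
            RatFunc.algebraMap_C, ← RatFunc.algebraMap_eq_C]
          exact O.mul_mem _ _ (hkO a) (O.pow_mem hX n)
      exact (Groth.Agent.S11080.result (Polynomial k) (RatFunc k) O).1 ⟨hA, hO⟩
    · right
      have hw1 : ∀ c : k, c ≠ 0 → O.valuation (algebraMap k (RatFunc k) c) = 1 := by
        intro c hc
        apply le_antisymm ((O.valuation_le_one_iff _).2 (hkO c))
        have h1 : O.valuation (algebraMap k (RatFunc k) c⁻¹) ≤ 1 :=
          (O.valuation_le_one_iff _).2 (hkO c⁻¹)
        rw [map_inv₀, map_inv₀] at h1
        have hne : O.valuation (algebraMap k (RatFunc k) c) ≠ 0 := by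
          rw [Valuation.ne_zero_iff]
          simpa using hc
        exact (inv_le_one₀ (zero_lt_iff.2 hne)).1 h1
      have : Valuation.IsTrivialOn k O.valuation := ⟨hw1⟩
      have hXlt : 1 < O.valuation (RatFunc.X : RatFunc k) := by
        rw [← not_le, O.valuation_le_one_iff]
        exact hX
      ext x
      rw [Valuation.mem_valuationSubring_iff, ← O.valuation_le_one_iff]
      by_cases hx0 : x = 0
      · simp [hx0]
      obtain ⟨f, g, hg, rfl⟩ := IsFractionRing.div_surjective (A := Polynomial k) x
      have hg0 : g ≠ 0 := nonZeroDivisors.ne_zero hg
      have hf0 : f ≠ 0 := by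
        rintro rfl
        simp at hx0
      have hwf := Polynomial.valuation_eq_valuation_X_pow_natDegree_of_one_lt_valuation_X k
        (v := O.valuation) hXlt hf0
      have hwg := Polynomial.valuation_eq_valuation_X_pow_natDegree_of_one_lt_valuation_X k
        (v := O.valuation) hXlt hg0
      have hvf : RatFunc.inftyValuation k (algebraMap (Polynomial k) (RatFunc k) f) =
          WithZero.exp (f.natDegree : ℤ) := RatFunc.inftyValuation.polynomial (F := k) hf0
      have hvg : RatFunc.inftyValuation k (algebraMap (Polynomial k) (RatFunc k) g) =
          WithZero.exp (g.natDegree : ℤ) := RatFunc.inftyValuation.polynomial (F := k) hg0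
      have hXpos : ∀ n : ℕ, 0 < O.valuation (RatFunc.X : RatFunc k) ^ n :=
        fun n => pow_pos (lt_trans zero_lt_one hXlt) n
      rw [map_div₀, map_div₀]
      change O.valuation (f : RatFunc k) / O.valuation (g : RatFunc k) ≤ 1 ↔ _
      rw [hwf, hwg, hvf, hvg, div_le_one₀ (hXpos _), div_le_one₀ (by simp),
        pow_le_pow_iff_right₀ hXlt, WithZero.exp_le_exp, Nat.cast_le]
  · rintro (⟨v, rfl⟩ | rfl)
    · have := (Groth.Agent.S11080.result (Polynomial k) (RatFunc k) _).2 ⟨v, rfl⟩
      refine ⟨?_, this.2⟩
      rintro _ ⟨c, rfl⟩
      apply this.1
      exact ⟨Polynomial.C c, by rw [RatFunc.algebraMap_C, RatFunc.algebraMap_eq_C]⟩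
    · constructor
      · rintro _ ⟨c, rfl⟩
        change RatFunc.inftyValuation k (algebraMap k (RatFunc k) c) ≤ 1
        by_cases hc : c = 0
        · simp [hc]
        · rw [RatFunc.algebraMap_eq_C, RatFunc.inftyValuation.C k hc]
      · intro htop
        have hmem : (RatFunc.X : RatFunc k) ∈ (RatFunc.inftyValuation k).valuationSubring := by
          rw [htop]; trivial
        rw [Valuation.mem_valuationSubring_iff, RatFunc.inftyValuation.X,
          ← WithZero.exp_zero, WithZero.exp_le_exp] at hmem
        omega

end Groth.Agent.S11084
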