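import Groth.Statements.S11086
import Mathlib
import Groth.Agent.Lib.Helper27.DiffLoc

set_option autoImplicit false
universe u
attribute [local instance] FractionRing.liftAlgebra
open CAlg

namespace Groth.Agent.S11086

/-- Let A be a Dedekind domain, B a Dedekind domain which is a finitely generated torsion-free A-algebra
with fraction field separable over that of A (the integral closure of A in a finite separable
extension), and S a submonoid of A consisting of non-zero-divisors. Let A_S and B_S be localizations
of A at S and of B at the image of S, with B_S an algebra over A_S compatibly with A and B (so A_S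
is integrally closed and B_S is a Dedekind domain, torsion-free over A_S). Then the ideal of B_S
generated by the different of B over A is the different of B_S over A_S. -/
theorem result (A B : Type u) [CommRing A] [CommRing B]
    [IsDedekindDomain A] [IsDedekindDomain B] [Algebra A B] [Module.Finite A B] [Module.IsTorsionFree A B]
    [Algebra.IsSeparable (FractionRing A) (FractionRing B)]
    (S : Submonoid A) (hS : S ≤ nonZeroDivisors A)
    (Aₛ Bₛ : Type u) [CommRing Aₛ] [CommRing Bₛ] [Algebra A Aₛ] [Algebra B Bₛ] [Algebra Aₛ Bₛ]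
    [Algebra A Bₛ] [IsScalarTower A Aₛ Bₛ] [IsScalarTower A B Bₛ]
    [IsLocalization S Aₛ] [IsLocalization (Algebra.algebraMapSubmonoid B S) Bₛ]
    [IsDomain Aₛ] [IsIntegrallyClosed Aₛ] [IsDedekindDomain Bₛ] [Module.IsTorsionFree Aₛ Bₛ] :
    Ideal.map (algebraMap B Bₛ) (differentIdeal A B) = differentIdeal Aₛ Bₛ := by
  classical
  let K := FractionRing A
  let L := FractionRing B
  have hSne : ∀ s ∈ S, algebraMap A K s ≠ 0 := fun s hs =>
    (map_ne_zero_iff _ (IsFractionRing.injective A K)).mpr (nonZeroDivisors.ne_zero (hS hs))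
  letI algAK : Algebra Aₛ K := (IsLocalization.lift (M := S) (g := algebraMap A K)
    (fun y => (hSne y.1 y.2).isUnit)).toAlgebra
  haveI : IsScalarTower A Aₛ K :=
    IsScalarTower.of_algebraMap_eq fun x => (IsLocalization.lift_eq _ x).symm
  haveI : IsFractionRing Aₛ K :=
    IsFractionRing.isFractionRing_of_isDomain_of_isLocalization S Aₛ K
  have hTne : ∀ t ∈ Algebra.algebraMapSubmonoid B S, algebraMap B L t ≠ 0 := by
    rintro t ⟨s, hs, rfl⟩
    rw [← IsScalarTower.algebraMap_apply A B L, IsScalarTower.algebraMap_apply A K L]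
    exact (map_ne_zero_iff _ (algebraMap K L).injective).mpr (hSne s hs)
  letI algBL : Algebra Bₛ L := (IsLocalization.lift (M := Algebra.algebraMapSubmonoid B S)
    (g := algebraMap B L) (fun y => (hTne y.1 y.2).isUnit)).toAlgebra
  haveI : IsScalarTower B Bₛ L :=
    IsScalarTower.of_algebraMap_eq fun x => (IsLocalization.lift_eq _ x).symm
  haveI : IsFractionRing Bₛ L :=
    IsFractionRing.isFractionRing_of_isDomain_of_isLocalization
      (Algebra.algebraMapSubmonoid B S) Bₛ L
  letI algAL : Algebra Aₛ L := ((algebraMap K L).comp (algebraMap Aₛ K)).toAlgebra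
  haveI : IsScalarTower Aₛ K L := IsScalarTower.of_algebraMap_eq fun x => rfl
  haveI : IsScalarTower Aₛ Bₛ L := by
    apply IsScalarTower.of_algebraMap_eq'
    apply IsLocalization.ringHom_ext S
    ext a
    change algebraMap K L (algebraMap Aₛ K (algebraMap A Aₛ a)) =
      algebraMap Bₛ L (algebraMap Aₛ Bₛ (algebraMap A Aₛ a))
    rw [← IsScalarTower.algebraMap_apply A Aₛ K, ← IsScalarTower.algebraMap_apply A K L,
      ← IsScalarTower.algebraMap_apply A Aₛ Bₛ, IsScalarTower.algebraMap_apply A B Bₛ,
      ← IsScalarTower.algebraMap_apply B Bₛ L, ← IsScalarTower.algebraMap_apply A B L]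
  haveI : IsIntegralClosure B A L := IsIntegralClosure.of_isIntegrallyClosed B A L
  haveI : Module.Finite Aₛ Bₛ := Module.Finite.of_isLocalization A B S
  haveI : IsIntegralClosure Bₛ Aₛ L := IsIntegralClosure.of_isIntegrallyClosed Bₛ Aₛ L
  haveI : IsLocalization (Algebra.algebraMapSubmonoid B (nonZeroDivisors A)) L :=
    IsIntegralClosure.isLocalization A K L B
  haveI : FiniteDimensional K L := Module.Finite.of_isLocalization A B (nonZeroDivisors A)
  exact Groth.Agent.Lib.Helper27.DiffLoc.map_differentIdeal_eq A B K L Aₛ Bₛ S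

end Groth.Agent.S11086
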