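import Groth.Statements.S11087
import Groth.Agent.Lib.Helper9.HensK.FiniteLocal

set_option autoImplicit false
universe u
attribute [local instance] FractionRing.liftAlgebra
open CAlg

namespace Groth.Agent.S11087

/-- Let A be a complete discrete valuation ring and K a perfect field contained in A such that K → A →
A/m is bijective. Let B be a Dedekind domain which is a finite torsion-free A-algebra with fraction
field separable over that of A (the integral closure of A in a finite separable extension of its
fraction field). Then for every maximal ideal M of B and every b in B there is exactly one element c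
of B which is algebraic over K and congruent to b modulo M; in other words the algebraic closure of
K in B is a subfield mapping isomorphically onto B/M. -/
theorem result (K A B : Type u) [Field K]
    [PerfectField K] [CommRing A] [IsDomain A] [IsDiscreteValuationRing A]
    [IsAdicComplete (IsLocalRing.maximalIdeal A) A]
    [Algebra K A] (hK : Function.Bijective ((IsLocalRing.residue A).comp (algebraMap K A)))
    [CommRing B] [IsDedekindDomain B] [Algebra A B] [Module.Finite A B] [Module.IsTorsionFree A B]
    [Algebra.IsSeparable (FractionRing A) (FractionRing B)] [Algebra K B] [IsScalarTower K A B]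
    (M : Ideal B) [M.IsMaximal] (b : B) :
    ∃! c : B, IsAlgebraic K c ∧ b - c ∈ M := by
  classical
  have hm0 : IsLocalRing.maximalIdeal A ≠ ⊥ := IsDiscreteValuationRing.not_a_field A
  have hhA : HenselianLocalRing A :=
    Groth.Agent.Lib.Helper3.henselianLocalRing_of_henselianRing_maximalIdeal A
  have hMeq : ∀ Q : Ideal B, Q.IsMaximal → Q = M := by
    intro M' hM'
    have hsurj := Groth.Agent.Lib.Helper3.algebraMap_localization_surjective_of_finite A B M
    have hinj : Function.Injective (algebraMap B (Localization.AtPrime M)) :=
      IsLocalization.injective _ (Ideal.primeCompl_le_nonZeroDivisors M)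
    refine hM'.eq_of_le (Ideal.IsPrime.ne_top inferInstance) ?_
    intro y hy
    by_contra hyM
    have hunit : IsUnit (algebraMap B (Localization.AtPrime M) y) :=
      IsLocalization.map_units (Localization.AtPrime M) (⟨y, hyM⟩ : M.primeCompl)
    obtain ⟨v, hv⟩ := hunit.exists_right_inv
    obtain ⟨u, rfl⟩ := hsurj v
    have h1 : y * u = 1 := by
      apply hinj
      rw [map_mul, hv, map_one]
    apply hM'.ne_top
    rw [Ideal.eq_top_iff_one, ← h1]
    exact M'.mul_mem_right u hy
  have hlocB : IsLocalRing B :=
    IsLocalRing.of_unique_max_ideal ⟨M, inferInstance, fun Q hQ => hMeq Q hQ⟩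
  have hMmax : IsLocalRing.maximalIdeal B = M := hMeq _ inferInstance
  have hhB : HenselianLocalRing B :=
    Groth.Agent.Lib.Helper9.HensK.henselianLocalRing_of_isIntegral A B
  have hcomap : M.comap (algebraMap A B) = IsLocalRing.maximalIdeal A :=
    IsLocalRing.eq_maximalIdeal (Ideal.isMaximal_comap_of_isIntegral_of_isMaximal (R := A) M)
  -- uniqueness part: an algebraic element of `M` is zero
  have hzero : ∀ d : B, IsAlgebraic K d → d ∈ M → d = 0 := by
    intro d hd hdM
    by_contra hd0
    have hint : IsIntegral K d := isAlgebraic_iff_isIntegral.mp hd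
    have hc0 : (minpoly K d).coeff 0 ≠ 0 := minpoly.coeff_zero_ne_zero hint hd0
    have h1 : Polynomial.aeval d (minpoly K d) = 0 := minpoly.aeval K d
    have h2 : algebraMap K B ((minpoly K d).coeff 0) ∈ M := by
      have hdiv := Polynomial.divX_mul_X_add (minpoly K d)
      have h3 : Polynomial.aeval d ((minpoly K d).divX * Polynomial.X +
          Polynomial.C ((minpoly K d).coeff 0)) = 0 := by rw [hdiv]; exact h1
      rw [map_add, map_mul, Polynomial.aeval_X, Polynomial.aeval_C] at h3
      have h4 : algebraMap K B ((minpoly K d).coeff 0) =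
          -(Polynomial.aeval d (minpoly K d).divX * d) := eq_neg_of_add_eq_zero_right h3
      rw [h4]
      exact M.neg_mem (M.mul_mem_left _ hdM)
    have hunit : IsUnit (algebraMap K B ((minpoly K d).coeff 0)) :=
      (IsUnit.mk0 _ hc0).map (algebraMap K B)
    exact (Ideal.IsPrime.ne_top inferInstance : M ≠ ⊤) (Ideal.eq_top_of_isUnit_mem M h2 hunit)
  -- existence
  have hex : ∃ c : B, IsAlgebraic K c ∧ b - c ∈ M := by
    let e : K ≃+* IsLocalRing.ResidueField A := RingEquiv.ofBijective _ hK
    let φ : A →+* K := e.symm.toRingHom.comp (IsLocalRing.residue A)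
    have hφ : ∀ a : A, a - algebraMap K A (φ a) ∈ IsLocalRing.maximalIdeal A := by
      intro a
      rw [← IsLocalRing.residue_eq_zero_iff, map_sub, sub_eq_zero]
      have h1 : IsLocalRing.residue A (algebraMap K A (φ a)) = e (φ a) := rfl
      rw [h1]
      simp [φ]
    have hψ : ∀ a : A, Ideal.Quotient.mk M (algebraMap A B a) =
        algebraMap K (B ⧸ M) (φ a) := by
      intro a
      have h1 : algebraMap K (B ⧸ M) (φ a) =
          Ideal.Quotient.mk M (algebraMap A B (algebraMap K A (φ a))) := by
        rw [← IsScalarTower.algebraMap_apply K A B]; rfl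
      rw [h1, ← sub_eq_zero, ← map_sub, ← map_sub, Ideal.Quotient.eq_zero_iff_mem,
        ← Ideal.mem_comap, hcomap]
      exact hφ a
    have hint : IsIntegral K (Ideal.Quotient.mk M b) := by
      have hb : IsIntegral A b := Algebra.IsIntegral.isIntegral b
      refine ⟨(minpoly A b).map φ, (minpoly.monic hb).map φ, ?_⟩
      rw [Polynomial.eval₂_map]
      have hcomp : (algebraMap K (B ⧸ M)).comp φ =
          (Ideal.Quotient.mk M).comp (algebraMap A B) := RingHom.ext fun a => (hψ a).symm
      rw [hcomp, ← Polynomial.hom_eval₂, ← Polynomial.aeval_def, minpoly.aeval, map_zero]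
    have hfield : Field (B ⧸ M) := Ideal.Quotient.field M
    have hirr : Irreducible (minpoly K (Ideal.Quotient.mk M b)) := minpoly.irreducible hint
    have hsep : (minpoly K (Ideal.Quotient.mk M b)).Separable :=
      PerfectField.separable_of_irreducible hirr
    have hmk : ∀ p : Polynomial K, Ideal.Quotient.mk M ((p.map (algebraMap K B)).eval b) =
        Polynomial.aeval (Ideal.Quotient.mk M b) p := by
      intro p
      rw [Polynomial.eval_map, Polynomial.hom_eval₂, Polynomial.aeval_def]
      rfl
    have h1 : ((minpoly K (Ideal.Quotient.mk M b)).map (algebraMap K B)).eval b ∈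
        IsLocalRing.maximalIdeal B := by
      rw [hMmax, ← Ideal.Quotient.eq_zero_iff_mem, hmk, minpoly.aeval]
    have h2 : IsUnit (((minpoly K (Ideal.Quotient.mk M b)).map
        (algebraMap K B)).derivative.eval b) := by
      rw [← IsLocalRing.notMem_maximalIdeal, hMmax, ← Ideal.Quotient.eq_zero_iff_mem,
        Polynomial.derivative_map, hmk]
      exact hsep.aeval_derivative_ne_zero (minpoly.aeval K _)
    obtain ⟨c, hc, hcb⟩ := HenselianLocalRing.is_henselian _ ((minpoly.monic hint).map _) b h1 h2
    refine ⟨c, ⟨minpoly K (Ideal.Quotient.mk M b), minpoly.ne_zero hint, ?_⟩, ?_⟩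
    · rw [Polynomial.aeval_def, ← Polynomial.eval_map]
      exact hc
    · rw [← hMmax, ← neg_sub]
      exact (Submodule.neg_mem_iff _).mpr hcb
  obtain ⟨c, hcalg, hcM⟩ := hex
  refine ⟨c, ⟨hcalg, hcM⟩, ?_⟩
  rintro c' ⟨hc'alg, hc'M⟩
  have h3 : c' - c ∈ M := by
    have : c' - c = (b - c) - (b - c') := by ring
    rw [this]
    exact M.sub_mem hcM hc'M
  have h4 := hzero (c' - c) (hc'alg.sub hcalg) h3
  exact sub_eq_zero.mp h4

end Groth.Agent.S11087
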