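import Groth.Statements.S11091
import Groth.Agent.Lib.Helper3.CompleteFinite

set_option autoImplicit false
universe u
attribute [local instance] FractionRing.liftAlgebra
open CAlg

namespace Groth.Agent.S11091

/-- Let A be a complete discrete valuation ring and B a Dedekind domain which is a finite torsion-free
A-algebra whose fraction field is separable over that of A (the integral closure of A in a finite
separable extension E of the fraction field F). Then B has exactly one maximal ideal; equivalently,
since the discrete valuations of E extending a multiple of the valuation of F correspond to the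
nonzero primes of B, the valuation of F extends uniquely to E, and B is a complete discrete
valuation ring. -/
theorem result (A B : Type u) [CommRing A] [IsDomain A] [IsDiscreteValuationRing A]
    [IsAdicComplete (IsLocalRing.maximalIdeal A) A]
    [CommRing B] [IsDedekindDomain B] [Algebra A B] [Module.Finite A B] [Module.IsTorsionFree A B]
    [Algebra.IsSeparable (FractionRing A) (FractionRing B)] :
    ∃! M : Ideal B, M.IsMaximal := by
  have : HenselianLocalRing A :=
    Groth.Agent.Lib.Helper3.henselianLocalRing_of_henselianRing_maximalIdeal A
  obtain ⟨M, hM⟩ := Ideal.exists_maximal B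
  refine ⟨M, hM, fun M' hM' => ?_⟩
  have hsurj := Groth.Agent.Lib.Helper3.algebraMap_localization_surjective_of_finite A B M
  have hinj : Function.Injective (algebraMap B (Localization.AtPrime M)) :=
    IsLocalization.injective _ (Ideal.primeCompl_le_nonZeroDivisors M)
  refine hM'.eq_of_le hM.ne_top ?_
  intro x hx
  by_contra hxM
  have hunit : IsUnit (algebraMap B (Localization.AtPrime M) x) :=
    IsLocalization.map_units (Localization.AtPrime M) (⟨x, hxM⟩ : M.primeCompl)
  obtain ⟨v, hv⟩ := hunit.exists_right_inv
  obtain ⟨u, rfl⟩ := hsurj v
  have h1 : x * u = 1 := by
    apply hinj
    rw [map_mul, hv, map_one]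
  apply hM'.ne_top
  rw [Ideal.eq_top_iff_one, ← h1]
  exact M'.mul_mem_right u hx

end Groth.Agent.S11091
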