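import Groth.Statements.S11088
import Groth.Agent.S11091

set_option autoImplicit false
universe u
attribute [local instance] FractionRing.liftAlgebra
open CAlg

namespace Groth.Agent.S11088

/-- Let A be a complete discrete valuation ring with maximal ideal m and B a Dedekind domain which is a
finite torsion-free A-algebra with fraction field separable over that of A (the integral closure of
A in a finite separable extension). Then for every maximal ideal M of B, with f the degree of B/M
over A/m, and every nonzero x in B, the multiplicity of m in the ideal generated by the norm of x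
equals f times the multiplicity of M in the ideal generated by x: v(N(x)) = f · w(x). -/
theorem result (A B : Type u) [CommRing A] [IsDomain A] [IsDiscreteValuationRing A]
    [IsAdicComplete (IsLocalRing.maximalIdeal A) A]
    [CommRing B] [IsDedekindDomain B] [Algebra A B] [Module.Finite A B] [Module.IsTorsionFree A B]
    [Algebra.IsSeparable (FractionRing A) (FractionRing B)]
    (M : Ideal B) [M.IsMaximal] (x : B) (hx : x ≠ 0) :
    emultiplicity (IsLocalRing.maximalIdeal A) (Ideal.span {Algebra.intNorm A B x}) =
      (M.inertiaDeg A : ℕ∞) * emultiplicity M (Ideal.span {x}) := by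
  classical
  have hm0 : IsLocalRing.maximalIdeal A ≠ ⊥ := IsDiscreteValuationRing.not_a_field A
  obtain ⟨M₀, hM₀, huniq⟩ := Groth.Agent.S11091.result A B
  have hMeq : ∀ Q : Ideal B, Q.IsMaximal → Q = M := fun Q hQ =>
    (huniq Q hQ).trans (huniq M inferInstance).symm
  have hlies : M.LiesOver (IsLocalRing.maximalIdeal A) :=
    ⟨(IsLocalRing.eq_maximalIdeal
      (Ideal.isMaximal_comap_of_isIntegral_of_isMaximal (R := A) M)).symm⟩
  have hprimes : (IsLocalRing.maximalIdeal A).primesOver B = {M} := by
    ext Q
    constructor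
    · rintro ⟨hQp, hQo⟩
      have : Q.IsMaximal := Ideal.IsMaximal.of_liesOver_isMaximal Q (IsLocalRing.maximalIdeal A)
      exact hMeq Q this
    · rintro rfl
      exact ⟨inferInstance, hlies⟩
  have hmap : (IsLocalRing.maximalIdeal A).map (algebraMap A B) = M ^ (M.ramificationIdx A) := by
    rw [Ideal.map_algebraMap_eq_finsetProd_pow hm0]
    simp [hprimes]
  -- `e * f = n`
  have hef : M.ramificationIdx A * M.inertiaDeg A = Module.finrank A B := by
    have hfin : Fintype ((IsLocalRing.maximalIdeal A).primesOver B) := by
      rw [hprimes]; infer_instance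
    have := Ideal.sum_ramification_inertia_eq_finrank (IsLocalRing.maximalIdeal A) B
    rw [← this]
    have hMmem : M ∈ (IsLocalRing.maximalIdeal A).primesOver B := by rw [hprimes]; rfl
    rw [Fintype.sum_eq_single (⟨M, hMmem⟩ : (IsLocalRing.maximalIdeal A).primesOver B)]
    intro q hq
    exfalso
    apply hq
    apply Subtype.ext
    have h2 : (q : Ideal B) ∈ ({M} : Set (Ideal B)) := hprimes ▸ q.2
    exact h2
  -- the relative norm of `M`
  obtain ⟨s, hs⟩ := Ideal.exists_relNorm_eq_pow_of_isPrime (R := A) M (IsLocalRing.maximalIdeal A)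
  have h1 : Ideal.relNorm A ((IsLocalRing.maximalIdeal A).map (algebraMap A B)) =
      IsLocalRing.maximalIdeal A ^ Module.finrank A B :=
    Ideal.relNorm_algebraMap B (IsLocalRing.maximalIdeal A)
  rw [hmap, map_pow, hs, ← pow_mul] at h1
  have hm1 : IsLocalRing.maximalIdeal A ≠ ⊤ := Ideal.IsPrime.ne_top inferInstance
  have hse : s * M.ramificationIdx A = Module.finrank A B :=
    (Ideal.pow_right_strictAnti _ hm0 hm1).injective h1
  have he0 : M.ramificationIdx A ≠ 0 := (Ideal.ramificationIdx_pos M A).ne'
  have hsf : s = M.inertiaDeg A := by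
    have : s * M.ramificationIdx A = M.inertiaDeg A * M.ramificationIdx A := by
      rw [hse, ← hef, mul_comm]
    exact Nat.eq_of_mul_eq_mul_right (Nat.pos_of_ne_zero he0) this
  subst hsf
  -- `B` is a discrete valuation ring
  have hlocB : IsLocalRing B :=
    IsLocalRing.of_unique_max_ideal ⟨M, inferInstance, fun Q hQ => hMeq Q hQ⟩
  have hMmax : IsLocalRing.maximalIdeal B = M := hMeq _ inferInstance
  have hM0 : M ≠ ⊥ := Ideal.ne_bot_of_liesOver_of_ne_bot hm0 M
  have hnf : ¬ IsField B := by
    rw [IsLocalRing.isField_iff_maximalIdeal_eq, hMmax]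
    exact hM0
  have hxI : Ideal.span ({x} : Set B) ≠ (⊥ : Ideal B) := fun h => hx (Ideal.span_singleton_eq_bot.mp h)
  have hT := (IsDiscreteValuationRing.TFAE B hnf).out 2 6
  have hpow : ∀ (I : Ideal B), I ≠ ⊥ → ∃ n : ℕ, I = IsLocalRing.maximalIdeal B ^ n :=
    hT.mp ‹IsDedekindDomain B›
  obtain ⟨w, hw⟩ := hpow (Ideal.span {x}) hxI
  rw [hMmax] at hw
  have hPM : Prime M := Ideal.prime_of_isPrime hM0 inferInstance
  have hPm : Prime (IsLocalRing.maximalIdeal A) := Ideal.prime_of_isPrime hm0 inferInstance
  rw [← Ideal.relNorm_singleton (R := A), hw, map_pow, hs, ← pow_mul,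
    emultiplicity_pow_self_of_prime hPm, emultiplicity_pow_self_of_prime hPM]
  push_cast
  rfl

end Groth.Agent.S11088
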