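import Groth.Statements.S11089
import Groth.Agent.H76.CompleteDVRExt
import Groth.Agent.H76.EisensteinDVR

set_option autoImplicit false
universe u
attribute [local instance] FractionRing.liftAlgebra
open CAlg

namespace Groth.Agent.S11089

/-- Let A be a complete discrete valuation ring containing a field K with K → A → A/m bijective, and B a
Dedekind domain which is a finite torsion-free A-algebra of rank m with fraction field separable
over that of A (the integral closure of A in a finite separable extension E of F = Frac A). If the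
extension is totally ramified — the maximal ideal M of B has ramification index m — and m is a unit
in A, then some uniformizer u of B (an element of M not in M²) satisfies u^m ∈ A and generates E
over F: its minimal polynomial over A has degree m. -/
theorem result (K A B : Type u) [Field K]
    [CommRing A] [IsDomain A] [IsDiscreteValuationRing A]
    [IsAdicComplete (IsLocalRing.maximalIdeal A) A]
    [Algebra K A] (hK : Function.Bijective ((IsLocalRing.residue A).comp (algebraMap K A)))
    [CommRing B] [IsDedekindDomain B] [Algebra A B] [Module.Finite A B] [Module.IsTorsionFree A B]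
    [Algebra.IsSeparable (FractionRing A) (FractionRing B)]
    (M : Ideal B) [M.IsMaximal] (hram : M.ramificationIdx A = Module.finrank A B)
    (hm : IsUnit ((Module.finrank A B : ℕ) : A)) :
    ∃ u : B, u ∈ M ∧ u ∉ M ^ 2 ∧ u ^ Module.finrank A B ∈ (algebraMap A B).range ∧
      (minpoly A u).natDegree = Module.finrank A B := by
  classical
  have hm0 : IsLocalRing.maximalIdeal A ≠ ⊥ := IsDiscreteValuationRing.not_a_field A
  have hlocB : IsLocalRing B := Groth.Agent.H76.CompleteDVRExt.isLocalRing A B
  have hMmax : IsLocalRing.maximalIdeal B = M :=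
    Groth.Agent.H76.CompleteDVRExt.maximalIdeal_eq A B M
  have hhB : HenselianLocalRing B := Groth.Agent.H76.CompleteDVRExt.henselianLocalRing A B
  have hMeq : ∀ Q : Ideal B, Q.IsMaximal → Q = M := fun Q hQ =>
    Groth.Agent.H76.CompleteDVRExt.eq_of_isMaximal A B M Q
  have hlies : M.LiesOver (IsLocalRing.maximalIdeal A) :=
    ⟨(IsLocalRing.eq_maximalIdeal
      (Ideal.isMaximal_comap_of_isIntegral_of_isMaximal (R := A) M)).symm⟩
  have hprimes : (IsLocalRing.maximalIdeal A).primesOver B = {M} := by
    ext Q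
    constructor
    · rintro ⟨hQp, hQo⟩
      have : Q.IsMaximal := Ideal.IsMaximal.of_liesOver_isMaximal Q (IsLocalRing.maximalIdeal A)
      exact hMeq Q this
    · rintro rfl
      exact ⟨inferInstance, hlies⟩
  have hmap : (IsLocalRing.maximalIdeal A).map (algebraMap A B) = M ^ (M.ramificationIdx A) := by
    rw [Ideal.map_algebraMap_eq_finsetProd_pow hm0]
    simp [hprimes]
  have hef : M.ramificationIdx A * M.inertiaDeg A = Module.finrank A B := by
    have hfin : Fintype ((IsLocalRing.maximalIdeal A).primesOver B) := by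
      rw [hprimes]; infer_instance
    have := Ideal.sum_ramification_inertia_eq_finrank (IsLocalRing.maximalIdeal A) B
    rw [← this]
    have hMmem : M ∈ (IsLocalRing.maximalIdeal A).primesOver B := by rw [hprimes]; rfl
    rw [Fintype.sum_eq_single (⟨M, hMmem⟩ : (IsLocalRing.maximalIdeal A).primesOver B)]
    intro q hq
    exfalso
    apply hq
    apply Subtype.ext
    have h2 : (q : Ideal B) ∈ ({M} : Set (Ideal B)) := hprimes ▸ q.2
    exact h2
  set n := Module.finrank A B with hn
  have hn0 : n ≠ 0 := by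
    rw [← hram]; exact (Ideal.ramificationIdx_pos M A).ne'
  have hf1 : M.inertiaDeg A = 1 := by
    rw [hram] at hef
    exact Nat.eq_of_mul_eq_mul_left (Nat.pos_of_ne_zero hn0) (by rw [hef, mul_one])
  have hres : ∀ v : B, ∃ a : A, v - algebraMap A B a ∈ M := by
    intro v
    have h1 : Module.finrank (A ⧸ IsLocalRing.maximalIdeal A) (B ⧸ M) = 1 := by
      rw [← Ideal.inertiaDeg_eq_of_isMaximal (IsLocalRing.maximalIdeal A) M, hf1]
    let _ : Field (A ⧸ IsLocalRing.maximalIdeal A) := Ideal.Quotient.field _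
    have h2 : (⊥ : Subalgebra (A ⧸ IsLocalRing.maximalIdeal A) (B ⧸ M)) = ⊤ :=
      Subalgebra.bot_eq_top_iff_finrank_eq_one.mpr h1
    have h3 : Ideal.Quotient.mk M v ∈
        (⊥ : Subalgebra (A ⧸ IsLocalRing.maximalIdeal A) (B ⧸ M)) := by rw [h2]; trivial
    obtain ⟨abar, ha⟩ := Algebra.mem_bot.mp h3
    obtain ⟨a, rfl⟩ := Ideal.Quotient.mk_surjective abar
    refine ⟨a, ?_⟩
    rw [← Ideal.Quotient.eq_zero_iff_mem, map_sub, sub_eq_zero, ← ha]
    rfl
  -- `B` is a discrete valuation ring
  have hM0 : M ≠ ⊥ := Ideal.ne_bot_of_liesOver_of_ne_bot hm0 M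
  have hnf : ¬ IsField B := by
    rw [IsLocalRing.isField_iff_maximalIdeal_eq, hMmax]; exact hM0
  have hT := (IsDiscreteValuationRing.TFAE B hnf).out 2 0
  have hdvrB : IsDiscreteValuationRing B := hT.mp ‹IsDedekindDomain B›
  obtain ⟨ϖ, hϖ⟩ := IsDiscreteValuationRing.exists_irreducible B
  have hMϖ : M = Ideal.span {ϖ} := by rw [← hMmax]; exact hϖ.maximalIdeal_eq
  obtain ⟨π, hπ⟩ := IsDiscreteValuationRing.exists_irreducible A
  have hmπ : IsLocalRing.maximalIdeal A = Ideal.span {π} := hπ.maximalIdeal_eq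
  have hspan : Ideal.span {ϖ ^ n} = Ideal.span {algebraMap A B π} := by
    have h1 := hmap
    rw [hram, hmπ, Ideal.map_span, Set.image_singleton, hMϖ, Ideal.span_singleton_pow] at h1
    exact h1.symm
  obtain ⟨v, hv⟩ := Ideal.span_singleton_eq_span_singleton.mp hspan
  obtain ⟨a₀, ha₀⟩ := hres (v : B)
  have ha₀u : IsUnit a₀ := by
    by_contra h
    have h1 : a₀ ∈ IsLocalRing.maximalIdeal A := h
    have h2 : algebraMap A B a₀ ∈ M := by
      rw [hlies.over] at h1; exact h1
    have h3 : (v : B) ∈ M := by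
      have := M.add_mem ha₀ h2
      rwa [sub_add_cancel] at this
    exact (Ideal.IsPrime.ne_top inferInstance : M ≠ ⊤) (Ideal.eq_top_of_isUnit_mem M h3 v.isUnit)
  obtain ⟨a₀u, rfl⟩ := ha₀u
  -- `t = v / a₀ ≡ 1`
  set t : B := (v : B) * algebraMap A B ((a₀u⁻¹ : Aˣ) : A) with ht
  have hinv : algebraMap A B (a₀u : A) * algebraMap A B ((a₀u⁻¹ : Aˣ) : A) = 1 := by
    rw [← map_mul, Units.mul_inv, map_one]
  have ht1 : 1 - t ∈ IsLocalRing.maximalIdeal B := by
    rw [hMmax]
    have h1 : 1 - t = -(((v : B) - algebraMap A B (a₀u : A)) *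
        algebraMap A B ((a₀u⁻¹ : Aˣ) : A)) := by
      rw [ht, sub_mul, hinv]; ring
    rw [h1]
    exact M.neg_mem (M.mul_mem_right _ ha₀)
  have hnB : IsUnit ((n : ℕ) : B) := by
    have := hm.map (algebraMap A B)
    rwa [map_natCast] at this
  have hmonic : (Polynomial.X ^ n - Polynomial.C t : Polynomial B).Monic :=
    Polynomial.monic_X_pow_sub_C t hn0
  have he1 : (Polynomial.X ^ n - Polynomial.C t : Polynomial B).eval 1 ∈
      IsLocalRing.maximalIdeal B := by
    simpa using ht1
  have he2 : IsUnit ((Polynomial.X ^ n - Polynomial.C t : Polynomial B).derivative.eval 1) := by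
    have h1 : (Polynomial.X ^ n - Polynomial.C t : Polynomial B).derivative.eval 1 =
        ((n : ℕ) : B) := by
      rw [Polynomial.derivative_sub, Polynomial.derivative_C, sub_zero,
        Polynomial.derivative_X_pow, Polynomial.eval_mul, Polynomial.eval_pow,
        Polynomial.eval_X, one_pow, mul_one, Polynomial.eval_C]
    rw [h1]; exact hnB
  obtain ⟨y, hy, hy1⟩ := HenselianLocalRing.is_henselian _ hmonic 1 he1 he2
  have hyn : y ^ n = t := by
    have := hy
    simp only [Polynomial.IsRoot.def, Polynomial.eval_sub, Polynomial.eval_pow,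
      Polynomial.eval_X, Polynomial.eval_C, sub_eq_zero] at this
    exact this
  have hyM : y ∉ M := by
    intro h
    rw [hMmax] at hy1
    have : (1 : B) ∈ M := by
      have := M.sub_mem h hy1
      rwa [sub_sub_cancel] at this
    exact (Ideal.IsPrime.ne_top inferInstance : M ≠ ⊤) ((Ideal.eq_top_iff_one M).mpr this)
  have hϖ0 : ϖ ≠ 0 := hϖ.ne_zero
  have hun : (y * ϖ) ^ n = algebraMap A B (((a₀u⁻¹ : Aˣ) : A) * π) := by
    rw [mul_pow, hyn, ht, map_mul, ← hv]; ring
  have hcirr : Irreducible (((a₀u⁻¹ : Aˣ) : A) * π) := (irreducible_units_mul a₀u⁻¹).mpr hπ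
  refine ⟨y * ϖ, ?_, ?_, ⟨_, hun.symm⟩, ?_⟩
  · rw [hMϖ]; exact Ideal.mem_span_singleton.mpr (Dvd.intro_left y rfl)
  · intro h
    rw [hMϖ, Ideal.span_singleton_pow, Ideal.mem_span_singleton] at h
    obtain ⟨z, hz⟩ := h
    have h1 : y = ϖ * z := by
      have : ϖ * y = ϖ * (ϖ * z) := by rw [mul_comm ϖ y, hz]; ring
      exact mul_left_cancel₀ hϖ0 this
    apply hyM
    rw [hMϖ, h1]
    exact Ideal.mem_span_singleton.mpr (Dvd.intro z rfl)
  · -- the minimal polynomial
    have hirrP := Groth.Agent.H76.EisensteinDVR.irreducible_poly hcirr hn0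
    have hint : IsIntegral A (y * ϖ) := Algebra.IsIntegral.isIntegral _
    have haev : Polynomial.aeval (y * ϖ)
        (Polynomial.X ^ n - Polynomial.C (((a₀u⁻¹ : Aˣ) : A) * π) : Polynomial A) = 0 := by
      rw [map_sub, map_pow, Polynomial.aeval_X, Polynomial.aeval_C, hun, sub_self]
    obtain ⟨q, hq⟩ := minpoly.isIntegrallyClosed_dvd hint haev
    have hqu : IsUnit q := by
      rcases hirrP.isUnit_or_isUnit hq with h | h
      · exact absurd h (minpoly.not_isUnit A (y * ϖ))
      · exact h
    have hdeg : (Polynomial.X ^ n - Polynomial.C (((a₀u⁻¹ : Aˣ) : A) * π) :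
        Polynomial A).natDegree = n := Polynomial.natDegree_X_pow_sub_C
    rw [← hdeg, hq, Polynomial.natDegree_mul (minpoly.ne_zero hint) hqu.ne_zero,
      Polynomial.natDegree_eq_zero_of_isUnit hqu, add_zero]

end Groth.Agent.S11089
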