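import Groth.Statements.S11092
import Mathlib
import Groth.Agent.Lib.Helper81.CartierPoly
import Groth.Agent.Lib.Helper81.GeomRedSmooth

set_option autoImplicit false
universe u v
open CAlg

namespace Groth.Agent.S11092
open Groth.Agent.Lib.Helper81.CartierPoly Groth.Agent.Lib.Helper81.FieldSmooth in

/-- Let k be an algebraically closed field, K a field finitely generated over k admitting a one-element
transcendence basis over k (a function field of dimension one), and L a finite extension field of K
with the compatible k-algebra structure. Then the K-linear map from the Kähler differentials of K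
over k to those of L over k induced by the inclusion is either the zero map or injective, and it is
injective if and only if L is separable over K. (The published statement takes K ⊆ L to be the
function fields of two elliptic curves related by a nonzero homomorphism; its proof uses only that
they are function fields of dimension one over k.) -/
theorem result (k : Type u) (K L : Type v)
    [Field k] [IsAlgClosed k] [Field K] [Field L] [Algebra k K] [Algebra k L] [Algebra K L]
    [IsScalarTower k K L] (hK : (⊤ : IntermediateField k K).FG)
    (hx : ∃ x : K, IsTranscendenceBasis k (fun _ : Unit => x)) [FiniteDimensional K L] :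
    (KaehlerDifferential.map k k K L = 0 ∨ Function.Injective (KaehlerDifferential.map k k K L)) ∧
      (Function.Injective (KaehlerDifferential.map k k K L) ↔ Algebra.IsSeparable K L) := by
  classical
  haveI : Algebra.EssFiniteType k K := IntermediateField.fg_top_iff.1 hK
  haveI : Algebra.EssFiniteType K L := inferInstance
  haveI : Algebra.EssFiniteType k L := Algebra.EssFiniteType.comp k K L
  haveI : Algebra.FormallySmooth k K := inferInstance
  haveI : Algebra.FormallySmooth k L := inferInstance
  -- `Ω[K/k]` is one-dimensional
  obtain ⟨hΩ, hH, n, hn, he⟩ := goodP_of_essFiniteType k K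
  haveI := hΩ
  have h0 : Module.finrank K (Algebra.H1Cotangent k K) = 0 := Module.finrank_zero_of_subsingleton
  obtain ⟨x, hx⟩ := hx
  have htr : Algebra.trdeg k K = ((1 : ℕ) : Cardinal) := by
    have h := hx.lift_cardinalMk_eq_trdeg
    simp only [Cardinal.mk_fintype, Fintype.card_unit, Nat.cast_one, Cardinal.lift_one] at h
    have h2 : Cardinal.lift.{0} (Algebra.trdeg k K) = 1 := h.symm
    simpa using h2
  have hn1 : n = 1 := by
    have : (n : Cardinal) = ((1 : ℕ) : Cardinal) := by rw [← hn, htr]
    exact_mod_cast this
  have hfr : Module.finrank K Ω[K⁄k] = 1 := by rw [he, h0, hn1]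
  obtain ⟨ω₀, hω₀, hspan⟩ := finrank_eq_one_iff'.1 hfr
  -- zero or injective
  have hinj_of_ne : KaehlerDifferential.map k k K L ω₀ ≠ 0 →
      Function.Injective (KaehlerDifferential.map k k K L) := by
    intro hne
    rw [injective_iff_map_eq_zero]
    intro ω hω
    obtain ⟨c, rfl⟩ := hspan ω
    rw [map_smul, ← algebraMap_smul L c, smul_eq_zero] at hω
    rcases hω with h | h
    · rw [(map_eq_zero (algebraMap K L)).1 h, zero_smul]
    · exact absurd h hne
  have hzero_of_eq : KaehlerDifferential.map k k K L ω₀ = 0 →
      KaehlerDifferential.map k k K L = 0 := by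
    intro h
    refine LinearMap.ext fun ω => ?_
    obtain ⟨c, rfl⟩ := hspan ω
    rw [map_smul, h, smul_zero, LinearMap.zero_apply]
  refine ⟨?_, ?_, ?_⟩
  · by_cases h : KaehlerDifferential.map k k K L ω₀ = 0
    · exact Or.inl (hzero_of_eq h)
    · exact Or.inr (hinj_of_ne h)
  · -- injective ⟹ separable
    intro hφ
    have hne : KaehlerDifferential.map k k K L ω₀ ≠ 0 := by
      intro h
      exact hω₀ (hφ (by rw [h, map_zero]))
    have hψ : Function.Injective (KaehlerDifferential.mapBaseChange k K L) := by
      rw [injective_iff_map_eq_zero]
      intro z hz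
      have hform : ∃ c : L, z = c ⊗ₜ[K] ω₀ := by
        induction z using TensorProduct.induction_on with
        | zero => exact ⟨0, by rw [TensorProduct.zero_tmul]⟩
        | tmul c ω =>
          obtain ⟨a, rfl⟩ := hspan ω
          exact ⟨a • c, by rw [TensorProduct.smul_tmul]⟩
        | add z₁ z₂ h₁ h₂ =>
          have hlin : ∀ w : TensorProduct K L Ω[K⁄k], ∃ c : L, w = c ⊗ₜ[K] ω₀ := by
            intro w
            induction w using TensorProduct.induction_on with
            | zero => exact ⟨0, by rw [TensorProduct.zero_tmul]⟩
            | tmul c ω =>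
              obtain ⟨a, rfl⟩ := hspan ω
              exact ⟨a • c, by rw [TensorProduct.smul_tmul]⟩
            | add w₁ w₂ h₁ h₂ =>
              obtain ⟨c₁, rfl⟩ := h₁
              obtain ⟨c₂, rfl⟩ := h₂
              exact ⟨c₁ + c₂, by rw [TensorProduct.add_tmul]⟩
          exact hlin _
      obtain ⟨c, rfl⟩ := hform
      rw [KaehlerDifferential.mapBaseChange_tmul, smul_eq_zero] at hz
      rcases hz with h | h
      · rw [h, TensorProduct.zero_tmul]
      · exact absurd h hne
    haveI : Subsingleton (Algebra.H1Cotangent K L) := subsingleton_h1Cotangent_of_injective hψ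
    obtain ⟨hΩ', hH', n', hn', he'⟩ := goodP_of_essFiniteType K L
    haveI := hΩ'
    have hn0 : n' = 0 := by
      have : (n' : Cardinal) = ((0 : ℕ) : Cardinal) := by
        rw [← hn', _root_.trdeg_eq_zero, Nat.cast_zero]
      exact_mod_cast this
    have h0' : Module.finrank L (Algebra.H1Cotangent K L) = 0 :=
      Module.finrank_zero_of_subsingleton
    have hfr' : Module.finrank L Ω[L⁄K] = 0 := by rw [he', h0', hn0]
    haveI : Subsingleton Ω[L⁄K] := Module.finrank_zero_iff.1 hfr'
    haveI : Algebra.FormallyUnramified K L := ⟨inferInstance⟩
    exact (Algebra.FormallyUnramified.iff_isSeparable K L).1 inferInstance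
  · -- separable ⟹ injective
    intro hsep
    haveI : Algebra.FormallyEtale K L := Algebra.FormallyEtale.of_isSeparable K L
    haveI : Algebra.FormallySmooth K L := inferInstance
    have hψ : Function.Injective (KaehlerDifferential.mapBaseChange k K L) :=
      mapBaseChange_injective_of_subsingleton
    apply hinj_of_ne
    intro h
    have h1 : KaehlerDifferential.mapBaseChange k K L ((1 : L) ⊗ₜ[K] ω₀) = 0 := by
      rw [KaehlerDifferential.mapBaseChange_tmul, h, smul_zero]
    have h2 : (1 : L) ⊗ₜ[K] ω₀ = 0 := hψ (by rw [h1, map_zero])
    have h3 : Function.Injective (TensorProduct.mk K L Ω[K⁄k] 1) :=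
      Module.FaithfullyFlat.tensorProduct_mk_injective (A := K) (B := L) Ω[K⁄k]
    exact hω₀ (h3 (by rw [TensorProduct.mk_apply, h2, map_zero]))

end Groth.Agent.S11092
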