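import Groth.Statements.S11095
import Mathlib
import Groth.Agent.S2150
import Groth.Agent.Lib.Helper50.GeomReduced

set_option autoImplicit false
universe u
open CAlg

namespace Groth.Agent.S11095

/-- Let K₀ be a perfect field, K an algebraic extension of K₀ and F₀ a field extension of K₀ such that
K₀ is algebraically closed in F₀. Then the K₀-algebra F₀ ⊗ K is a field; consequently F₀ and K,
embedded in it by x ↦ x ⊗ 1 and y ↦ 1 ⊗ y, are linearly disjoint over K₀. -/
theorem result (K₀ F₀ K : Type u)
    [Field K₀] [PerfectField K₀] [Field F₀] [Algebra K₀ F₀] [Field K] [Algebra K₀ K]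
    [Algebra.IsAlgebraic K₀ K] (h : algebraicClosure K₀ F₀ = ⊥) :
    IsField (TensorProduct K₀ F₀ K) := by
    open TensorProduct in
    have hsep : Algebra.IsSeparable K₀ K := Algebra.IsAlgebraic.isSeparable_of_perfectField
    have hred : IsReduced (F₀ ⊗[K₀] K) := Groth.Agent.Lib.Helper50.isReduced_tensor_of_isSeparable
    have hirr' : ∀ (k' : Type u) [Field k'] [Algebra K₀ k'],
        IrreducibleSpace (PrimeSpectrum (k' ⊗[K₀] F₀)) := by
      rw [Groth.Agent.S2150.result]
      intro α hα
      have halg : IsAlgebraic K₀ α := hα.isIntegral.isAlgebraic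
      have hmem : α ∈ algebraicClosure K₀ F₀ := by
        rw [mem_algebraicClosure_iff]; exact halg
      rw [h] at hmem
      exact IntermediateField.mem_bot.mp hmem
    have hirr1 : IrreducibleSpace (PrimeSpectrum (K ⊗[K₀] F₀)) := hirr' K
    have hirr : IrreducibleSpace (PrimeSpectrum (F₀ ⊗[K₀] K)) :=
      ((PrimeSpectrum.homeomorphOfRingEquiv
        (Algebra.TensorProduct.comm K₀ K F₀).toRingEquiv).irreducibleSpace_iff).mp hirr1
    have hprime : (nilradical (F₀ ⊗[K₀] K)).IsPrime :=
      PrimeSpectrum.irreducibleSpace_iff_isPrime_nilradical.mp hirr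
    rw [nilradical_eq_zero] at hprime
    have hprime' : (⊥ : Ideal (F₀ ⊗[K₀] K)).IsPrime := hprime
    have hdom : IsDomain (F₀ ⊗[K₀] K) := IsDomain.of_bot_isPrime _
    have hint : Algebra.IsIntegral F₀ (F₀ ⊗[K₀] K) := inferInstance
    exact isField_of_isIntegral_of_isField' (Field.toIsField F₀)

end Groth.Agent.S11095
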