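import Groth.Statements.S11096


set_option autoImplicit false
universe u
open Neron

namespace Groth.Agent.S11096

/-- Let a Weierstrass equation have coefficients in a commutative ring R and let I be an ideal with a₃,
a₄, a₆ ∈ I. If the discriminant Δ does not lie in I ^ 2, then a₆ does not lie in I ^ 2 and b₂ does
not lie in I. (For a discrete valuation ring with maximal ideal (π): if π divides a₃, a₄, a₆ and
v(Δ) = 1, then v(a₆) = 1 and π does not divide b₂.) -/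
theorem result {R : Type u} [CommRing R] (W : WeierstrassCurve R)
    (I : Ideal R) (h3 : W.a₃ ∈ I) (h4 : W.a₄ ∈ I) (h6 : W.a₆ ∈ I) (hΔ : W.Δ ∉ I ^ 2) :
    W.a₆ ∉ I ^ 2 ∧ W.b₂ ∉ I := by
  have hb4 : W.b₄ ∈ I := by
    rw [WeierstrassCurve.b₄]
    exact I.add_mem (I.mul_mem_left _ h4) (I.mul_mem_left _ h3)
  have hb6 : W.b₆ ∈ I := by
    rw [WeierstrassCurve.b₆]
    exact I.add_mem (I.pow_mem_of_mem h3 2 (by norm_num)) (I.mul_mem_left _ h6)
  have e : W.Δ + W.b₂ ^ 3 * W.a₆ =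
      W.b₂ ^ 2 * W.a₁ * (W.a₃ * W.a₄) - W.b₂ ^ 2 * W.a₂ * (W.a₃ * W.a₃) + W.b₂ ^ 2 * (W.a₄ * W.a₄)
        - 8 * W.b₄ * (W.b₄ * W.b₄) - 27 * (W.b₆ * W.b₆) + 9 * W.b₂ * (W.b₄ * W.b₆) := by
    simp only [WeierstrassCurve.Δ, WeierstrassCurve.b₂, WeierstrassCurve.b₄, WeierstrassCurve.b₆,
      WeierstrassCurve.b₈]
    ring
  have key : W.Δ + W.b₂ ^ 3 * W.a₆ ∈ I ^ 2 := by
    rw [e, pow_two]
    have m : ∀ {x y : R}, x ∈ I → y ∈ I → x * y ∈ I * I := fun hx hy => Ideal.mul_mem_mul hx hy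
    refine Ideal.add_mem _ (Ideal.sub_mem _ (Ideal.sub_mem _ (Ideal.add_mem _ (Ideal.sub_mem _ ?_ ?_) ?_) ?_) ?_) ?_
    · exact Ideal.mul_mem_left _ _ (m h3 h4)
    · exact Ideal.mul_mem_left _ _ (m h3 h3)
    · exact Ideal.mul_mem_left _ _ (m h4 h4)
    · exact Ideal.mul_mem_left _ _ (m hb4 hb4)
    · exact Ideal.mul_mem_left _ _ (m hb6 hb6)
    · exact Ideal.mul_mem_left _ _ (m hb4 hb6)
  constructor
  · intro h
    apply hΔ
    have : W.Δ = (W.Δ + W.b₂ ^ 3 * W.a₆) - W.b₂ ^ 3 * W.a₆ := by ring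
    rw [this]
    exact Ideal.sub_mem _ key (Ideal.mul_mem_left _ _ h)
  · intro h
    apply hΔ
    have : W.Δ = (W.Δ + W.b₂ ^ 3 * W.a₆) - W.b₂ ^ 2 * (W.b₂ * W.a₆) := by ring
    rw [this]
    refine Ideal.sub_mem _ key (Ideal.mul_mem_left _ _ ?_)
    rw [pow_two]
    exact Ideal.mul_mem_mul h h6

end Groth.Agent.S11096
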