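import Groth.Statements.S1110
import Mathlib
import Groth.Agent.Lib.Helper11.ResProp

set_option autoImplicit false
universe u
open CategoryTheory AlgebraicGeometry
open Perf

namespace Groth.Agent.S1110

section helpers

open CategoryTheory CategoryTheory.Limits AlgebraicGeometry TopologicalSpace Opposite MonoidalCategory
open Groth.Agent.Lib.Helper45 Groth.Agent.Lib.Helper49 Groth.Agent.Lib.Helper11.GenLocus
open Groth.Agent.Lib.Helper11.NegPowers Groth.Agent.Lib.Helper11.TensorMap
  Groth.Agent.Lib.Helper11.ResProp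

section Main0

attribute [local instance] Abelian.hasFiniteBiproducts

theorem main_S1110 {X Y : Scheme.{u}} (f : X ⟶ Y) [IsAffineHom f] [CompactSpace ↥Y]
    [QuasiSeparatedSpace ↥Y] (hY : PerfAux.HasResolutionProperty Y) :
    PerfAux.HasResolutionProperty X := by
  intro F hF hF'
  have : F.IsQuasicoherent := hF
  have hcX : CompactSpace X := QuasiCompact.compactSpace_of_compactSpace f
  have hgen : ∀ x : X, ∃ (Y' : Y.Opens), IsAffineOpen Y' ∧ ∃ (r : ℕ) (g : Fin r → Γ(F, f ⁻¹ᵁ Y'))
        (W : X.Opens) (hW : W ≤ f ⁻¹ᵁ Y'), x ∈ W ∧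
        ∀ (V : X.Opens) (hV : V ≤ W) (y : Γ(F, V)) (z : X), z ∈ V →
          ∃ (W' : X.Opens) (hW'V : W' ≤ V), z ∈ W' ∧
            mres F hW'V y ∈ Submodule.span Γ(X, W')
              (Set.range fun l => mres F ((hW'V.trans hV).trans hW) (g l)) := by
    intro x
    obtain ⟨_, ⟨Y', hY', rfl⟩, hxY', -⟩ := Y.isBasis_affineOpens.exists_subset_of_mem_open
      (Set.mem_univ (f.base x)) isOpen_univ
    have hU : IsAffineOpen (f ⁻¹ᵁ Y') := hY'.preimage f
    obtain ⟨r, g, hg⟩ := exists_finite_generators_of_affine F hF' hU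
    exact ⟨Y', hY', r, g, f ⁻¹ᵁ Y', le_rfl, hxY', fun V hV y z hz => hg V hV y z hz⟩
  obtain ⟨k, N, π, hN, hπ⟩ := exists_finLocFree_quotient f hY F hgen
  exact ⟨⨁ N, π, isFinLocFree_biproduct N hN, hπ⟩

end Main0

end helpers

/-- For an affine morphism f : X ⟶ Y over a quasi-compact, quasi-separated Y, the resolution property
passes from Y up to X. (The source also treats quasi-affine f.) -/
theorem result {X Y : Scheme.{u}} (f : X ⟶ Y) [IsAffineHom f] [CompactSpace ↥Y] [QuasiSeparatedSpace ↥Y]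
    (hY : PerfAux.HasResolutionProperty Y) : PerfAux.HasResolutionProperty X := by
  exact main_S1110 f hY

end Groth.Agent.S1110
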