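import Groth.Statements.S11100
import Mathlib
import Groth.Agent.S2116

set_option autoImplicit false
universe u
open CategoryTheory AlgebraicGeometry
open Neron

namespace Groth.Agent.S11100

open IsLocalRing TensorProduct KaehlerDifferential TopologicalSpace

/-- Relative version of "regular ⇒ smooth": a regular local ring `B = A_q` essentially of finite
type over a regular ring `R`, admitting a surjection of `R`-algebras onto a nontrivial formally
smooth `R`-algebra `Λ`, is formally smooth over `R`. -/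
theorem formallySmooth_of_surjective_to_formallySmooth (R : Type u) [CommRing R] [IsRegularRing R]
    (A : Type u) [CommRing A] [Algebra R A] [Algebra.FiniteType R A] (q : Ideal A) [q.IsPrime]
    [IsRegularLocalRing (Localization.AtPrime q)]
    (Λ : Type u) [CommRing Λ] [Nontrivial Λ] [Algebra R Λ] [Algebra.FormallySmooth R Λ]
    (ρ : Localization.AtPrime q →ₐ[R] Λ) (hρ : Function.Surjective ρ) :
    Algebra.FormallySmooth R (Localization.AtPrime q) := by
  obtain ⟨n, f₀, hf₀⟩ := Algebra.FiniteType.iff_quotient_mvPolynomial''.mp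
    (inferInstance : Algebra.FiniteType R A)
  let Q : Ideal (MvPolynomial (Fin n) R) := q.comap f₀
  have hQ : Q.IsPrime := Ideal.comap_isPrime f₀ q
  let P := Localization.AtPrime Q
  let B := Localization.AtPrime q
  let fP : P →ₐ[R] B := IsLocalization.liftAlgHom (M := Q.primeCompl)
      (f := (IsScalarTower.toAlgHom R A B).comp f₀) fun x ↦ by
    simpa using IsLocalization.map_units (M := q.primeCompl) B ⟨f₀ x.1, x.2⟩
  have hf₁ : Function.Surjective fP := by
    intro x
    obtain ⟨x, ⟨s, hs⟩, rfl⟩ := IsLocalization.exists_mk'_eq q.primeCompl x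
    obtain ⟨x, rfl⟩ := hf₀ x
    obtain ⟨s, rfl⟩ := hf₀ s
    refine ⟨IsLocalization.mk' (M := Q.primeCompl) _ x ⟨s, hs⟩, ?_⟩
    simp [fP, IsLocalization.lift_mk', Units.mul_inv_eq_iff_eq_mul, IsUnit.liftRight]
  algebraize [fP.toRingHom]
  have : IsScalarTower R P B := .of_algebraMap_eq' fP.comp_algebraMap.symm
  have : Algebra.FormallyEtale (MvPolynomial (Fin n) R) P := .of_isLocalization Q.primeCompl
  have : Algebra.FormallySmooth R P := .comp _ (MvPolynomial (Fin n) R) _
  have : Module.Free P Ω[P⁄R] :=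
    .of_equiv (KaehlerDifferential.tensorKaehlerEquivOfFormallyEtale R (MvPolynomial (Fin n) R) P)
  have : Module.Finite P Ω[P⁄R] :=
    Module.Finite.equiv
      (KaehlerDifferential.tensorKaehlerEquivOfFormallyEtale R (MvPolynomial (Fin n) R) P)
  have hregP : IsRegularLocalRing P := IsRegularRing.isRegularLocalRing_localization Q
  have h₂ : (RingHom.ker (algebraMap P B)).FG := IsNoetherian.noetherian _
  have hsurjPB : Function.Surjective (algebraMap P B) := hf₁
  rw [Algebra.FormallySmooth.iff_injective_cotangentComplexBaseChange_residueField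
    (R := R) (S := B) P hsurjPB h₂]
  -- regularity of P and generators of the kernel
  let I : Ideal P := RingHom.ker (algebraMap P B)
  have hregQ : IsRegularLocalRing (P ⧸ I) :=
    IsRegularLocalRing.of_ringEquiv (RingHom.quotientKerEquivOfSurjective hsurjPB).symm
  have hd : ringKrullDim P = ((maximalIdeal P).spanFinrank : ℕ) :=
    (IsRegularLocalRing.spanFinrank_maximalIdeal (R := P)).symm
  obtain ⟨x, c, hc, hxspan, hI⟩ :=
    Groth.Agent.Lib.Helper85.exists_generators_of_quotient_regular _ hd I hregQ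
  -- the residue field
  let κ := ResidueField B
  have hsurjκ : Function.Surjective (algebraMap P κ) := by
    rw [IsScalarTower.algebraMap_eq P B κ]
    exact (residue_surjective (R := B)).comp hsurjPB
  have hJ : RingHom.ker (algebraMap P κ) = maximalIdeal P := by
    have hmax : (RingHom.ker (algebraMap P κ)).IsMaximal :=
      RingHom.ker_isMaximal_of_surjective _ hsurjκ
    exact IsLocalRing.eq_maximalIdeal hmax
  -- the formally smooth quotient Λ
  let ρP : P →ₐ[R] Λ := ρ.comp fP
  have hρP : Function.Surjective ρP := hρ.comp hf₁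
  algebraize [ρP.toRingHom]
  have : IsScalarTower R P Λ := .of_algebraMap_eq' ρP.comp_algebraMap.symm
  have hsurjΛ : Function.Surjective (algebraMap P Λ) := hρP
  obtain ⟨l, hl⟩ := (Algebra.FormallySmooth.iff_split_injection (R := R) (P := P) (A := Λ)
    hsurjΛ).mp inferInstance
  let N : Ideal P := RingHom.ker (algebraMap P Λ)
  have hIN : I ≤ N := by
    intro y hy
    show algebraMap P Λ y = 0
    have : algebraMap P B y = 0 := hy
    show ρ (fP y) = 0
    have h' : fP y = 0 := this
    rw [h', map_zero]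
  have hNm : N ≤ maximalIdeal P := IsLocalRing.le_maximalIdeal (RingHom.ker_ne_top _)
  -- the map Ω → 𝔪/𝔪²
  let g : N.Cotangent →ₗ[P] (maximalIdeal P).Cotangent :=
    Ideal.mapCotangent N (maximalIdeal P) (AlgHom.id P P) (by simpa using hNm)
  let h : Ω[P⁄R] →ₗ[P] (maximalIdeal P).Cotangent :=
    g ∘ₗ l ∘ₗ (TensorProduct.mk P Λ Ω[P⁄R] 1)
  have hhD : ∀ (y : P) (hy : y ∈ N),
      h (D R P y) = (maximalIdeal P).toCotangent ⟨y, hNm hy⟩ := by
    intro y hy
    have h1 : (TensorProduct.mk P Λ Ω[P⁄R] 1) (D R P y) =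
        kerCotangentToTensor R P Λ (N.toCotangent ⟨y, hy⟩) := by
      rw [kerCotangentToTensor_toCotangent]; rfl
    have h2 : l (kerCotangentToTensor R P Λ (N.toCotangent ⟨y, hy⟩)) = N.toCotangent ⟨y, hy⟩ := by
      rw [← LinearMap.comp_apply, hl, LinearMap.id_apply]
    show g (l ((TensorProduct.mk P Λ Ω[P⁄R] 1) (D R P y))) = _
    rw [h1, h2]
    simp [g, Ideal.mapCotangent_toCotangent]
  have hker : (maximalIdeal P) • (⊤ : Submodule P Ω[P⁄R]) ≤ LinearMap.ker h := by
    rw [Submodule.smul_le]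
    intro r hr ω _
    rw [LinearMap.mem_ker, map_smul]
    obtain ⟨j, hj⟩ := Ideal.toCotangent_surjective _ (h ω)
    rw [← hj, ← map_smul, Ideal.toCotangent_eq_zero]
    show r • (j : P) ∈ _
    rw [pow_two, smul_eq_mul]
    exact Ideal.mul_mem_mul hr j.2
  have hDmem : ∀ ω : Ω[P⁄R], (1 : κ) ⊗ₜ[P] ω = 0 →
      ω ∈ (maximalIdeal P) • (⊤ : Submodule P Ω[P⁄R]) := by
    intro ω hω
    let e₀ : (P ⧸ maximalIdeal P) →ₗ[P] κ :=
      Submodule.liftQ _ (Algebra.linearMap P κ) (by
        intro y hy
        rw [LinearMap.mem_ker, Algebra.linearMap_apply, ← RingHom.mem_ker, hJ]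
        exact hy)
    have he₀ : Function.Bijective e₀ := by
      constructor
      · rw [← LinearMap.ker_eq_bot, Submodule.ker_liftQ, eq_bot_iff,
          Submodule.map_le_iff_le_comap]
        intro y hy
        have : algebraMap P κ y = 0 := hy
        rw [← RingHom.mem_ker, hJ] at this
        rw [Submodule.mem_comap, Submodule.mem_bot, Submodule.mkQ_apply,
          Submodule.Quotient.mk_eq_zero]
        exact this
      · intro a
        obtain ⟨p, rfl⟩ := hsurjκ a
        exact ⟨Submodule.Quotient.mk p, rfl⟩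
    let e : (P ⧸ maximalIdeal P) ≃ₗ[P] κ := LinearEquiv.ofBijective e₀ he₀
    have h1 : (LinearEquiv.rTensor Ω[P⁄R] e) ((1 : P ⧸ maximalIdeal P) ⊗ₜ[P] ω) = 0 := by
      rw [LinearEquiv.rTensor_tmul]
      have : e 1 = 1 := by
        show e₀ (Submodule.Quotient.mk 1) = 1
        exact (Submodule.liftQ_apply _ _ 1).trans (by simp)
      rw [this, hω]
    have h2 : (1 : P ⧸ maximalIdeal P) ⊗ₜ[P] ω = 0 :=
      (LinearEquiv.rTensor Ω[P⁄R] e).injective (by rw [h1, map_zero])
    have h3 : ω ∈ LinearMap.ker (TensorProduct.mk P (P ⧸ maximalIdeal P) Ω[P⁄R] 1) := h2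
    rwa [LinearMap.ker_tensorProductMk] at h3
  have hIJ : I ≤ RingHom.ker (algebraMap P κ) := by
    intro y hy
    rw [RingHom.mem_ker, IsScalarTower.algebraMap_apply P B κ, (RingHom.mem_ker).mp hy, map_zero]
  rw [injective_iff_map_eq_zero]
  intro z hz
  have hrep : ∀ z : κ ⊗[P] I, ∃ y : I, z = (1 : κ) ⊗ₜ[P] y := by
    intro z
    induction z using TensorProduct.induction_on with
    | zero => exact ⟨0, (TensorProduct.tmul_zero _ _).symm⟩
    | tmul a y =>
      obtain ⟨p, rfl⟩ := hsurjκ a
      refine ⟨p • y, ?_⟩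
      rw [TensorProduct.tmul_smul, TensorProduct.smul_tmul', Algebra.smul_def, mul_one]
    | add z z' h h' =>
      obtain ⟨y, rfl⟩ := h
      obtain ⟨y', rfl⟩ := h'
      exact ⟨y + y', (TensorProduct.tmul_add _ _ _).symm⟩
  obtain ⟨y, rfl⟩ := hrep z
  rw [cotangentComplexBaseChange_tmul, one_smul, kerToTensor_apply] at hz
  have hyN : (y : P) ∈ N := hIN y.2
  have h2 : (y : P) ∈ maximalIdeal P ^ 2 := by
    have h3 := hker (hDmem _ hz)
    rw [LinearMap.mem_ker, hhD _ hyN, Ideal.toCotangent_eq_zero] at h3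
    exact h3
  have hy : (y : P) ∈ Ideal.span (Set.range (fun i : Fin c => x (Fin.castLE hc i))) := hI ▸ y.2
  obtain ⟨cf, hcf⟩ := Ideal.mem_span_range_iff_exists_fun.mp hy
  have hcm : ∀ i, cf i ∈ maximalIdeal P :=
    Groth.Agent.S2116.mem_maximalIdeal_of_sum_mem_sq hd x hxspan (Fin.castLE hc)
      (Fin.castLE_injective hc) cf (hcf ▸ h2)
  have hxi : ∀ i : Fin c, x (Fin.castLE hc i) ∈ I := fun i => by
    rw [hI]; exact Ideal.subset_span ⟨i, rfl⟩
  have hy' : y = ∑ i, cf i • (⟨x (Fin.castLE hc i), hxi i⟩ : I) := by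
    ext; simp [← hcf]
  rw [hy', TensorProduct.tmul_sum]
  refine Finset.sum_eq_zero fun i _ => ?_
  rw [TensorProduct.tmul_smul, TensorProduct.smul_tmul', Algebra.smul_def, mul_one]
  have : algebraMap P κ (cf i) = 0 := by
    rw [← RingHom.mem_ker, hJ]; exact hcm i
  rw [this, TensorProduct.zero_tmul]

theorem id_appLE_aux {Y : Scheme.{u}} (f : Y ⟶ Y) (hf : f = 𝟙 Y) (U : Y.Opens)
    (e : U ≤ f ⁻¹ᵁ ⊤) :
    f.appLE ⊤ U e = Y.presheaf.map (homOfLE (le_top : U ≤ ⊤)).op := by
  subst hf
  simp [Scheme.Hom.appLE]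

/-- Let R be a Dedekind domain and p : X → Spec R flat and locally of finite presentation with X regular
(all local rings regular). Then every section s of p factors through the smooth locus of p: for
every point t of Spec R, p is smooth at s(t). (The published statement is for regular arithmetic
surfaces over a Dedekind domain with perfect residue fields; this row assumes only that X is flat,
locally of finite presentation and regular.) -/
theorem result {R : Type u} [CommRing R] [IsDedekindDomain R]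
    {X : Scheme.{u}} (p : X ⟶ Spec (CommRingCat.of R)) [Flat p] [LocallyOfFinitePresentation p]
    (hreg : ∀ x : X, IsRegularLocalRing (X.presheaf.stalk x))
    (s : Spec (CommRingCat.of R) ⟶ X) (hs : s ≫ p = 𝟙 _) (t : Spec (CommRingCat.of R)) :
    s.base t ∈ p.smoothLocus := by
  obtain ⟨V, hV, hxV, -⟩ := Opens.isBasis_iff_nbhd.mp X.isBasis_affineOpens
    (Opens.mem_top (s.base t))
  let W : (Spec (CommRingCat.of R)).Opens := ⊤
  have hW : IsAffineOpen W := isAffineOpen_top _
  have eV : V ≤ p ⁻¹ᵁ W := fun _ _ => trivial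
  rw [Scheme.Hom.mem_smoothLocus, formallySmooth_stalkMap_iff W hW V hV eV hxV]
  have hfp : (p.appLE W V eV).hom.FinitePresentation := p.finitePresentation_appLE hW hV eV
  algebraize [(p.appLE W V eV).hom]
  have hRR : IsRegularRing Γ(Spec (CommRingCat.of R), W) :=
    IsRegularRing.of_ringEquiv (Scheme.ΓSpecIso (CommRingCat.of R)).commRingCatIsoToRingEquiv.symm
  let q : Ideal Γ(X, V) := (hV.primeIdealOf ⟨s.base t, hxV⟩).asIdeal
  have hqp : q.IsPrime := (hV.primeIdealOf ⟨s.base t, hxV⟩).isPrime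
  let _ : Algebra Γ(X, V) (X.presheaf.stalk (s.base t)) :=
    TopCat.Presheaf.algebra_section_stalk X.presheaf (⟨s.base t, hxV⟩ : V)
  have hlocX : IsLocalization.AtPrime (X.presheaf.stalk (s.base t)) q :=
    hV.isLocalization_stalk ⟨s.base t, hxV⟩
  let e : Localization.AtPrime q ≃ₐ[Γ(X, V)] X.presheaf.stalk (s.base t) :=
    IsLocalization.algEquiv q.primeCompl _ _
  have hregq : IsRegularLocalRing (Localization.AtPrime q) :=
    have := hreg (s.base t)
    IsRegularLocalRing.of_ringEquiv e.symm.toRingEquiv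
  let Λ := (Spec (CommRingCat.of R)).presheaf.stalk t
  let _ : Algebra Γ(Spec (CommRingCat.of R), W) Λ :=
    TopCat.Presheaf.algebra_section_stalk _ (⟨t, trivial⟩ : W)
  have hlocΛ : IsLocalization.AtPrime Λ (hW.primeIdealOf ⟨t, trivial⟩).asIdeal :=
    hW.isLocalization_stalk ⟨t, trivial⟩
  have hetΛ : Algebra.FormallyEtale Γ(Spec (CommRingCat.of R), W) Λ :=
    Algebra.FormallyEtale.of_isLocalization (hW.primeIdealOf ⟨t, trivial⟩).asIdeal.primeCompl
  let ρ₀ : Localization.AtPrime q →+* Λ := (s.stalkMap t).hom.comp e.toRingEquiv.toRingHom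
  have hcomm : ∀ r : Γ(Spec (CommRingCat.of R), W),
      ρ₀ (algebraMap _ (Localization.AtPrime q) r) = algebraMap _ Λ r := by
    intro r
    rw [IsScalarTower.algebraMap_apply Γ(Spec (CommRingCat.of R), W) Γ(X, V)
      (Localization.AtPrime q)]
    show (s.stalkMap t).hom (e (algebraMap Γ(X, V) (Localization.AtPrime q)
      (algebraMap Γ(Spec (CommRingCat.of R), W) Γ(X, V) r))) = _
    rw [e.commutes]
    show (s.stalkMap t).hom (X.presheaf.germ V (s.base t) hxV ((p.appLE W V eV).hom r)) = _
    have h1 := Scheme.Hom.germ_stalkMap_apply s V t hxV ((p.appLE W V eV).hom r)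
    rw [h1]
    have h2 : (s.app V).hom ((p.appLE W V eV).hom r) =
        ((Spec (CommRingCat.of R)).presheaf.map (homOfLE (le_top : s ⁻¹ᵁ V ≤ ⊤)).op).hom r := by
      have h3 : p.appLE W V eV ≫ s.app V = (s ≫ p).appLE W (s ⁻¹ᵁ V) (fun _ _ => trivial) := by
        rw [Scheme.Hom.app_eq_appLE, Scheme.Hom.appLE_comp_appLE]
      have h4 := id_appLE_aux (s ≫ p) hs (s ⁻¹ᵁ V) (fun _ _ => trivial)
      rw [← h4, ← h3]
      rfl
    rw [h2]
    exact TopCat.Presheaf.germ_res_apply _ _ _ _ _
  let ρ : Localization.AtPrime q →ₐ[Γ(Spec (CommRingCat.of R), W)] Λ :=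
    { ρ₀ with commutes' := hcomm }
  have hlocal : IsLocalHom ρ₀ := by
    have h1 : IsLocalHom (s.stalkMap t).hom := inferInstance
    have h2 : IsLocalHom e.toRingEquiv.toRingHom := by
      constructor
      intro a ha
      have := ha.map e.symm.toRingEquiv.toRingHom
      simpa using this
    exact RingHom.isLocalHom_comp _ _
  have hsurj : Function.Surjective ρ := by
    intro lam
    obtain ⟨a, b, rfl⟩ := IsLocalization.exists_mk'_eq
      (hW.primeIdealOf ⟨t, trivial⟩).asIdeal.primeCompl lam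
    have hb : IsUnit (algebraMap Γ(Spec (CommRingCat.of R), W) Λ b) :=
      IsLocalization.map_units Λ b
    rw [← hcomm] at hb
    have hb' : IsUnit (algebraMap Γ(Spec (CommRingCat.of R), W) (Localization.AtPrime q) b) :=
      hlocal.map_nonunit _ hb
    obtain ⟨u, hu⟩ := hb'
    refine ⟨algebraMap _ _ a * ↑u⁻¹, ?_⟩
    rw [eq_comm, IsLocalization.mk'_eq_iff_eq_mul, map_mul, mul_assoc]
    have h3 : ρ (↑u⁻¹) * algebraMap Γ(Spec (CommRingCat.of R), W) Λ b = 1 := by
      rw [← ρ.commutes, ← hu, ← map_mul]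
      simp
    rw [h3, mul_one, ρ.commutes]
  have key := formallySmooth_of_surjective_to_formallySmooth Γ(Spec (CommRingCat.of R), W)
    Γ(X, V) q Λ ρ hsurj
  exact key

end Groth.Agent.S11100
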