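import Groth.Statements.S11108
import Groth.Agent.Lib.Helper7.HensSmooth
import Groth.Agent.Lib.Helper7.HensSection
import Mathlib.AlgebraicGeometry.AlgClosed.Basic

set_option autoImplicit false
universe u
open CategoryTheory AlgebraicGeometry
open Neron

namespace Groth.Agent.S11108

/-- Let R be a strictly Henselian discrete valuation ring — Henselian with algebraically closed residue
field — and p : X → Spec R a smooth morphism. Then the image of the reduction map from R-valued
points of X to the special fibre is dense in the special fibre: every point of X over the closed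
point of Spec R lies in the closure of the set of points s(𝔪), s a section of p and 𝔪 the closed
point. -/
theorem result (R : Type u) [CommRing R] [IsDomain R]
    [IsDiscreteValuationRing R] [HenselianLocalRing R] [IsAlgClosed (IsLocalRing.ResidueField R)]
    {X : Scheme.{u}} (p : X ⟶ Spec (CommRingCat.of R)) [Smooth p]
    (x : X) (hx : p.base x = IsLocalRing.closedPoint R) :
    x ∈ closure {y : X | ∃ s : Spec (CommRingCat.of R) ⟶ X, s ≫ p = 𝟙 _ ∧
      s.base (IsLocalRing.closedPoint R) = y} := by
  classical
  rw [mem_closure_iff]
  intro W hW hxW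
  set K := IsLocalRing.ResidueField R with hK
  set ι : Spec (CommRingCat.of K) ⟶ Spec (CommRingCat.of R) :=
    Spec.map (CommRingCat.ofHom (IsLocalRing.residue R)) with hι
  -- the special fibre
  let F := Limits.pullback p ι
  let fst : F ⟶ X := Limits.pullback.fst p ι
  let snd : F ⟶ Spec (CommRingCat.of K) := Limits.pullback.snd p ι
  have hsm : Smooth snd := MorphismProperty.pullback_snd (P := @Smooth) _ _ inferInstance
  have hlft : LocallyOfFiniteType snd := inferInstance
  have hJ : JacobsonSpace F := LocallyOfFiniteType.jacobsonSpace snd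
  -- a point of the fibre over x
  obtain ⟨z₀, hz₀, -⟩ := Scheme.Pullback.exists_preimage_pullback (f := p) (g := ι) x
    (IsLocalRing.closedPoint K)
    (by rw [hx, Groth.Agent.Lib.Helper7.HensSection.specMap_residue_apply])
  have hopen : IsOpen (fst ⁻¹' W) := hW.preimage fst.continuous
  obtain ⟨z, hzW, hzc⟩ := (jacobsonSpace_iff_locallyClosed.mp hJ) (fst ⁻¹' W)
    ⟨z₀, by
      show fst z₀ ∈ W
      rw [show fst z₀ = x from hz₀]
      exact hxW⟩ hopen.isLocallyClosed
  have hzc' : IsClosed ({z} : Set F) := hzc
  let u₀ : Spec (CommRingCat.of K) ⟶ X := pointOfClosedPoint snd z hzc' ≫ fst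
  have h₀ : u₀ ≫ p = ι := by
    simp only [u₀, Category.assoc]
    rw [show fst ≫ p = snd ≫ ι from Limits.pullback.condition]
    rw [pointOfClosedPoint_comp_assoc]
  obtain ⟨s, hs, hsu⟩ := Groth.Agent.Lib.Helper7.HensSmooth.exists_section_of_smooth R p u₀ h₀
  refine ⟨s (IsLocalRing.closedPoint R), ?_, s, hs, rfl⟩
  have h1 : s (IsLocalRing.closedPoint R) = fst z := by
    have := congr($(hsu) (IsLocalRing.closedPoint K))
    rw [Scheme.Hom.comp_apply, Groth.Agent.Lib.Helper7.HensSection.specMap_residue_apply] at this
    rw [this]
    simp only [u₀, Scheme.Hom.comp_apply, pointOfClosedPoint_apply]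
  rw [h1]
  exact hzW

end Groth.Agent.S11108
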