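import Groth.Statements.S1111
import Mathlib
import Groth.Agent.Lib.Helper30.PerfRegular

set_option autoImplicit false
universe u
open CategoryTheory CategoryTheory.Limits AlgebraicGeometry
attribute [local instance] HasDerivedCategory.standard
open KZero

namespace Groth.Agent.S1111

/-- Let X be a Noetherian scheme all of whose local rings are regular. The map K₀(X) = K₀(D_perf(O_X)) ⟶
K'₀(X) = K₀(D^b_Coh(O_X)) induced by the inclusion of perfect objects into bounded objects with
coherent cohomology is an isomorphism: there is an isomorphism of the two Grothendieck groups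
sending the class of each perfect K to the class of K. -/
theorem result (X : Scheme.{u}) [IsNoetherian X] (hreg : ∀ x : X, IsRegularLocalRing (X.presheaf.stalk x)) :
    ∃ φ : KZero.K0tr (fun K : DCoh.D X => DCoh.IsPerfect K) ≃+ KZero.K0tr (fun K : DCoh.D X => DCoh.IsCohD K ∧ ∃ a b : ℤ, K.IsGE a ∧ K.IsLE b),
      ∀ K : DCoh.D X, DCoh.IsPerfect K →
        φ (KZero.clTr (fun K : DCoh.D X => DCoh.IsPerfect K) K) = KZero.clTr (fun K : DCoh.D X => DCoh.IsCohD K ∧ ∃ a b : ℤ, K.IsGE a ∧ K.IsLE b) K := by
  have : CompactSpace X := inferInstance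
  have key : (fun K : DCoh.D X => DCoh.IsPerfect K) =
      (fun K : DCoh.D X => DCoh.IsCohD K ∧ ∃ a b : ℤ, K.IsGE a ∧ K.IsLE b) := by
    funext K
    apply propext
    constructor
    · intro h
      exact ⟨Groth.Agent.Lib.Helper30.PerfRegular.isCohD_of_isPerfect K h,
        Groth.Agent.Lib.Helper30.PerfRegular.exists_bounds_of_isPerfect K h⟩
    · rintro ⟨hc, a, b, ha, hb⟩
      exact Groth.Agent.Lib.Helper30.PerfRegular.isPerfect_of_isCohD_of_bounded hreg K a b hc
  rw [← key]
  exact ⟨AddEquiv.refl _, fun _ _ => rfl⟩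

end Groth.Agent.S1111
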