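import Groth.Statements.S11114
-- import your own Groth.Agent.* helpers here
import Groth.Agent.Lib.Helper32.SectDetect
import Groth.Agent.Lib.Helper32.MVTriangle
import Groth.Agent.Lib.Helper32.OpenKInj
import Groth.Agent.Lib.Helper32.RDerCrit

set_option autoImplicit false
universe u
open CategoryTheory CategoryTheory.Limits AlgebraicGeometry
attribute [local instance] HasDerivedCategory.standard
open DCoh

namespace Groth.Agent.S11114

open Groth.Agent.Lib.Helper32.SectDetect Groth.Agent.Lib.Helper32.MVTriangle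
  Groth.Agent.Lib.Helper32.OpenKInj Groth.Agent.Lib.Helper32.RDerCrit
  Groth.Agent.Lib.Helper32.KInjDerived DerivedCategory

/-- Let Y be a quasi-compact quasi-separated scheme and assume the unbounded derived functor of global
sections RΓ(U, -) exists for every open U of Y (existence binder). A morphism φ : G₁ ⟶ G₂ in D(O_Y)
is an isomorphism if and only if for every affine open U of Y the morphism RΓ(U, φ|_U) of D(Ab),
obtained from φ through restriction to U and derived global sections, is an isomorphism. -/
theorem result {Y : Scheme.{u}} [CompactSpace Y] [QuasiSeparatedSpace Y]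
    [hR : ∀ U : Y.Opens, DCoh.HasRΓ (U : Scheme.{u})] {G₁ G₂ : DCoh.D Y} (φ : G₁ ⟶ G₂) :
    IsIso φ ↔ ∀ U : Y.Opens, IsAffineOpen U →
      IsIso ((DCoh.RΓ (U : Scheme.{u})).map ((DCoh.restrictD U.ι).map φ)) := by
  constructor
  · intro h U _
    infer_instance
  · intro h
    obtain ⟨I₁, hI₁, _, ⟨e₁⟩⟩ := exists_kInj_model G₁
    obtain ⟨I₂, hI₂, _, ⟨e₂⟩⟩ := exists_kInj_model G₂
    haveI := hI₁
    haveI := hI₂
    obtain ⟨ψ₀, hψ₀⟩ := (CochainComplex.IsKInjective.Qh_map_bijective
      ((HomotopyCategory.quotient _ _).obj I₁) I₂).surjective (e₁.inv ≫ φ ≫ e₂.hom)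
    obtain ⟨ψ, rfl⟩ := (HomotopyCategory.quotient _ _).map_surjective ψ₀
    have hψ : Q.map ψ = e₁.inv ≫ φ ≫ e₂.hom := hψ₀
    suffices hq : QuasiIso ψ by
      haveI : IsIso (Q.map ψ) := by
        rw [DerivedCategory.isIso_Q_map_iff_quasiIso]
        exact hq
      have : φ = e₁.hom ≫ Q.map ψ ≫ e₂.inv := by
        rw [hψ]
        simp
      rw [this]
      infer_instance
    apply quasiIso_of_sections
    intro U hU
    have hU' := h U hU
    haveI : DCoh.HasRΓ (U : Scheme.{u}) := hR U
    -- (a)
    have ha : IsIso ((DCoh.RΓ (U : Scheme.{u})).map ((DCoh.restrictD U.ι).map (Q.map ψ))) := by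
      rw [hψ, Functor.map_comp, Functor.map_comp, Functor.map_comp, Functor.map_comp]
      infer_instance
    -- (b)
    let F := Scheme.Modules.restrictFunctor U.ι
    let ψ' := (F.mapHomologicalComplex (ComplexShape.up ℤ)).map ψ
    have hb : IsIso ((DCoh.RΓ (U : Scheme.{u})).map (Q.map ψ')) := by
      have hnat := F.mapDerivedCategoryFactors.hom.naturality ψ
      have h1 : Q.map ψ' = (F.mapDerivedCategoryFactors.inv.app I₁) ≫
          (DCoh.restrictD U.ι).map (Q.map ψ) ≫ F.mapDerivedCategoryFactors.hom.app I₂ := by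
        rw [← cancel_epi (F.mapDerivedCategoryFactors.hom.app I₁)]
        simp only [Iso.hom_inv_id_app_assoc]
        exact hnat.symm
      rw [h1, Functor.map_comp, Functor.map_comp]
      infer_instance
    -- (c)
    let α := (DCoh.gammaKh (U : Scheme.{u})).totalRightDerivedUnit DerivedCategory.Qh
      (HomotopyCategory.quasiIso (U : Scheme.{u}).Modules (ComplexShape.up ℤ))
    let J₁ : CochainComplex (U : Scheme.{u}).Modules ℤ :=
      (F.mapHomologicalComplex (ComplexShape.up ℤ)).obj I₁
    let J₂ : CochainComplex (U : Scheme.{u}).Modules ℤ :=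
      (F.mapHomologicalComplex (ComplexShape.up ℤ)).obj I₂
    haveI hJ₁ : CochainComplex.IsKInjective J₁ := isKInjective_restrict U I₁ hI₁
    haveI hJ₂ : CochainComplex.IsKInjective J₂ := isKInjective_restrict U I₂ hI₂
    have hα₁ : IsIso (α.app ((HomotopyCategory.quotient _ _).obj J₁)) :=
      isIso_app_kInjective (hasKInjRes (U : Scheme.{u})) (DCoh.RΓ (U : Scheme.{u})) α J₁
    have hα₂ : IsIso (α.app ((HomotopyCategory.quotient _ _).obj J₂)) :=
      isIso_app_kInjective (hasKInjRes (U : Scheme.{u})) (DCoh.RΓ (U : Scheme.{u})) α J₂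
    have hc : IsIso ((DCoh.gammaKh (U : Scheme.{u})).map
        ((HomotopyCategory.quotient _ _).map ψ')) := by
      have hnat := α.naturality ((HomotopyCategory.quotient _ _).map ψ')
      have hb' : IsIso ((DerivedCategory.Qh ⋙ DCoh.RΓ (U : Scheme.{u})).map
          ((HomotopyCategory.quotient _ _).map ψ')) := hb
      have h2 : IsIso ((DCoh.gammaKh (U : Scheme.{u})).map
          ((HomotopyCategory.quotient _ _).map ψ') ≫ α.app ((HomotopyCategory.quotient _ _).obj J₂)) := by
        rw [hnat]
        infer_instance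
      exact IsIso.of_isIso_comp_right _ (α.app ((HomotopyCategory.quotient _ _).obj J₂))
    -- (d), (e)
    have hd : IsIso (Q.map (((DCoh.gammaAb (U : Scheme.{u})).mapHomologicalComplex
        (ComplexShape.up ℤ)).map ψ')) := hc
    rw [DerivedCategory.isIso_Q_map_iff_quasiIso] at hd
    exact hd

end Groth.Agent.S11114
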