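import Groth.Statements.S11129
import Groth.Agent.Lib.Helper18.LSubImage
import Groth.Agent.Lib.Helper42.QCohAffineSections
import Groth.Agent.Lib.Helper45.FiniteType

set_option autoImplicit false
universe u
open CategoryTheory AlgebraicGeometry
open QCohCat

namespace Groth.Agent.S11129

open Groth.Agent.Lib.Helper18.LSubM Groth.Agent.Lib.Helper49 Limits

/-- A monomorphism of `QCoh(Y)` is a monomorphism of `O_Y`-modules. -/
theorem mono_hom {Y : Scheme.{u}} {A M : QCohCat.QCoh Y} (f : A ⟶ M) [Mono f] : Mono f.hom := by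
  have hA : A.obj.IsQuasicoherent := A.property
  have hM : M.obj.IsQuasicoherent := M.property
  have hK : (kernel f.hom).IsQuasicoherent := isQuasicoherent_kernel f.hom hA hM
  let K : QCohCat.QCoh Y := ⟨kernel f.hom, hK⟩
  let k : K ⟶ A := ObjectProperty.homMk (kernel.ι f.hom)
  have h1 : k ≫ f = (0 : K ⟶ A) ≫ f := by
    apply ObjectProperty.hom_ext
    change kernel.ι f.hom ≫ f.hom = (0 : K ⟶ A).hom ≫ f.hom
    rw [kernel.condition]
    change 0 = (0 : kernel f.hom ⟶ A.obj) ≫ f.hom
    rw [zero_comp]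
  have h2 : k = 0 := (cancel_mono f).mp h1
  have h3 : kernel.ι f.hom = 0 := by
    have := congrArg (fun g : K ⟶ A => g.hom) h2
    exact this
  exact Preadditive.mono_of_kernel_zero h3

theorem mono_of_mono_hom {Y : Scheme.{u}} {A M : QCohCat.QCoh Y} (f : A ⟶ M) (h : Mono f.hom) :
    Mono f :=
  (QCohCat.isQCoh Y).ι.mono_of_mono_map h

/-- For a noetherian scheme Y, an object M of the category QCoh(O_Y) of quasi-coherent O_Y-modules (a
full subcategory of all O_Y-modules) is a noetherian object of that category if and only if M is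
coherent (quasi-coherent of finite type). (The published statement also records that QCoh(O_Y) is a
locally noetherian category; only the characterisation of its noetherian objects is stated here.) -/
theorem result (Y : Scheme.{u}) [IsNoetherian Y] (M : QCohCat.QCoh Y) :
    IsNoetherianObject M ↔ Coh.IsCoh M.obj := by
  classical
  have hMq : M.obj.IsQuasicoherent := M.property
  constructor
  · -- noetherian object ⇒ finite type
    intro hN
    refine ⟨hMq, ?_⟩
    let 𝒮 : Set (Subobject M) :=
      {A | SheafOfModules.IsFiniteType (R := Y.ringCatSheaf) (A : QCohCat.QCoh Y).obj}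
    have h𝒮ne : 𝒮.Nonempty := by
      obtain ⟨E, hE, -⟩ := exists_isQFT_through_section (F := M.obj) (isAffineOpen_bot Y) 0
      let EE : QCohCat.QCoh Y := ⟨E.toModules, hE.isQuasicoherent⟩
      let i : EE ⟶ M := ObjectProperty.homMk E.ι
      have : Mono i := mono_of_mono_hom _ (by change Mono E.ι; infer_instance)
      refine ⟨Subobject.mk i, ?_⟩
      have e := (QCohCat.isQCoh Y).ι.mapIso (Subobject.underlyingIso i)
      exact isFiniteType_of_iso e.symm hE.isFiniteType
    have hwf : WellFounded (fun a b : Subobject M => b < a) := (inferInstance : WellFoundedGT (Subobject M)).wf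
    obtain ⟨A, hA𝒮, hAmax⟩ := hwf.has_min 𝒮 h𝒮ne
    have hAft : SheafOfModules.IsFiniteType (R := Y.ringCatSheaf) (A : QCohCat.QCoh Y).obj := hA𝒮
    have hAq : (A : QCohCat.QCoh Y).obj.IsQuasicoherent := (A : QCohCat.QCoh Y).property
    have hAmono : Mono A.arrow.hom := mono_hom A.arrow
    have hiso : IsIso A.arrow.hom := by
      apply Groth.Agent.Lib.Helper42.isIso_of_app_bijective_of_cover
      intro x
      obtain ⟨_, ⟨U, hU : IsAffineOpen U, rfl⟩, hxU, -⟩ :=
        Y.isBasis_affineOpens.exists_subset_of_mem_open (Set.mem_univ x) isOpen_univ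
      refine ⟨U, hU, hxU, app_injective_of_mono A.arrow.hom U, fun s => ?_⟩
      let E₁ : LSub M.obj := LSub.ofImage A.arrow.hom
      have hE₁ : E₁.IsQFT := LSub.ofImage_isQFT hAft A.arrow.hom
      obtain ⟨E₂, hE₂, hs⟩ := exists_isQFT_through_section (F := M.obj) hU s
      let E : LSub M.obj := E₁.sup E₂
      have hE : E.IsQFT := hE₁.sup hE₂
      let EE : QCohCat.QCoh Y := ⟨E.toModules, hE.isQuasicoherent⟩
      let i : EE ⟶ M := ObjectProperty.homMk E.ι
      have hi : Mono i := mono_of_mono_hom _ (by change Mono E.ι; infer_instance)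
      let B : Subobject M := Subobject.mk i
      have hB𝒮 : B ∈ 𝒮 := by
        have e := (QCohCat.isQCoh Y).ι.mapIso (Subobject.underlyingIso i)
        exact isFiniteType_of_iso e.symm hE.isFiniteType
      have hAB : A ≤ B := by
        obtain ⟨g, hg⟩ := exists_factor A.arrow.hom E.ι (fun W a y hy => ⟨W, le_rfl, hy,
          E.sec W _ (LSub.le_sup_left E₁ E₂ W (LSub.app_mem_ofImage A.arrow.hom W a)), by
            rw [LSub.ι_app_sec, mres_self]⟩)
        refine Subobject.le_mk_of_comm (ObjectProperty.homMk g) ?_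
        apply ObjectProperty.hom_ext
        exact hg
      have hBA : B = A := by
        by_contra hne
        exact hAmax B hB𝒮 (lt_of_le_of_ne hAB (Ne.symm hne))
      have hBA' : B ≤ A := hBA.le
      let ψ : EE ⟶ (A : QCohCat.QCoh Y) := Subobject.ofMkLE i A hBA'
      have hψ : ψ ≫ A.arrow = i := Subobject.ofMkLE_arrow hBA'
      have hψ' : ψ.hom ≫ A.arrow.hom = E.ι := congrArg (fun g : EE ⟶ M => g.hom) hψ
      have hsE : s ∈ E.obj U := LSub.le_sup_right E₁ E₂ U hs
      refine ⟨ψ.hom.app U (E.sec U s hsE), ?_⟩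
      change (ψ.hom ≫ A.arrow.hom).app U (E.sec U s hsE) = s
      rw [hψ']
      rfl
    exact isFiniteType_of_iso (asIso A.arrow.hom) hAft
  · -- coherent ⇒ noetherian object
    rintro ⟨-, hft⟩
    rw [isNoetherianObject_iff_monotone_chain_condition]
    intro f
    have hfq : ∀ n, ((f n : QCohCat.QCoh Y)).obj.IsQuasicoherent := fun n => (f n : QCohCat.QCoh Y).property
    have hmono : ∀ n, Mono (f n).arrow.hom := fun n => mono_hom (f n).arrow
    -- the ranges on an affine open
    let P : ∀ (U : Y.Opens), ℕ → Submodule Γ(Y, U) Γ(M.obj, U) := fun U n =>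
      LinearMap.range (Groth.Agent.Lib.Helper45.appₗ (f n).arrow.hom U)
    have hle : ∀ {n m : ℕ} (h : n ≤ m), Subobject.ofLE (f n) (f m) (f.monotone h) ≫ (f m).arrow = (f n).arrow :=
      fun h => Subobject.ofLE_arrow _
    have hPmono : ∀ U, Monotone (P U) := by
      intro U n m h
      rintro _ ⟨a, rfl⟩
      refine ⟨(Subobject.ofLE (f n) (f m) (f.monotone h)).hom.app U a, ?_⟩
      have := congrArg (fun g : (f n : QCohCat.QCoh Y) ⟶ M => g.hom) (hle h)
      change (Subobject.ofLE (f n) (f m) (f.monotone h)).hom ≫ (f m).arrow.hom = (f n).arrow.hom at this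
      change ((Subobject.ofLE (f n) (f m) (f.monotone h)).hom ≫ (f m).arrow.hom).app U a = _
      rw [this]
      rfl
    have hstab : ∀ U : Y.affineOpens, ∃ n, ∀ m, n ≤ m → P U.1 n = P U.1 m := by
      intro U
      have hfin : Module.Finite Γ(Y, U.1) Γ(M.obj, U.1) := by
        have : SheafOfModules.IsFiniteType (R := Y.ringCatSheaf) M.obj := hft
        exact Groth.Agent.Lib.Helper45.finite_sections_of_isFiniteType U.2 M.obj
      have hnr : IsNoetherianRing Γ(Y, U.1) := IsLocallyNoetherian.component_noetherian U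
      have hnm : IsNoetherian Γ(Y, U.1) Γ(M.obj, U.1) := isNoetherian_of_isNoetherianRing_of_finite _ _
      exact (monotone_stabilizes_iff_noetherian.mpr hnm) ⟨P U.1, hPmono U.1⟩
    choose N hN using hstab
    obtain ⟨𝒰, h𝒰⟩ : ∃ 𝒰 : Finset Y.affineOpens, (⋃ U ∈ 𝒰, ((U : Y.Opens) : Set Y)) = Set.univ := by
      have hcov : (Set.univ : Set Y) ⊆ ⋃ U : Y.affineOpens, ((U : Y.Opens) : Set Y) := by
        intro x _
        obtain ⟨_, ⟨U, hU : IsAffineOpen U, rfl⟩, hxU, -⟩ :=
          Y.isBasis_affineOpens.exists_subset_of_mem_open (Set.mem_univ x) isOpen_univ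
        exact Set.mem_iUnion.mpr ⟨⟨U, hU⟩, hxU⟩
      obtain ⟨𝒰, h⟩ := isCompact_univ.elim_finite_subcover _ (fun U : Y.affineOpens => U.1.2) hcov
      exact ⟨𝒰, Set.eq_univ_of_univ_subset h⟩
    refine ⟨𝒰.sup N, fun m hm => ?_⟩
    have hNm : f (𝒰.sup N) ≤ f m := f.monotone hm
    refine le_antisymm hNm ?_
    let φ := Subobject.ofLE (f (𝒰.sup N)) (f m) hNm
    have hφ : φ.hom ≫ (f m).arrow.hom = (f (𝒰.sup N)).arrow.hom :=
      congrArg (fun g : (f (𝒰.sup N) : QCohCat.QCoh Y) ⟶ M => g.hom) (hle hm)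
    have hφmono : Mono φ.hom := by
      have : Mono (φ.hom ≫ (f m).arrow.hom) := by rw [hφ]; exact hmono _
      exact mono_of_mono φ.hom (f m).arrow.hom
    have hiso : IsIso φ.hom := by
      have := hfq (𝒰.sup N)
      have := hfq m
      apply Groth.Agent.Lib.Helper42.isIso_of_app_bijective_of_cover
      intro x
      have hx : x ∈ ⋃ U ∈ 𝒰, ((U : Y.Opens) : Set Y) := by rw [h𝒰]; trivial
      obtain ⟨U, hU𝒰, hxU⟩ : ∃ U ∈ 𝒰, x ∈ ((U : Y.Opens) : Set Y) := by
        simpa using hx
      refine ⟨U.1, U.2, hxU, app_injective_of_mono φ.hom U.1, fun b => ?_⟩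
      have hNU : N U ≤ 𝒰.sup N := Finset.le_sup hU𝒰
      have h1 : P U.1 (𝒰.sup N) = P U.1 m := by
        rw [← hN U (𝒰.sup N) hNU, ← hN U m (hNU.trans hm)]
      have hb : (f m).arrow.hom.app U.1 b ∈ P U.1 m := ⟨b, rfl⟩
      rw [← h1] at hb
      obtain ⟨a, ha⟩ := hb
      refine ⟨a, ?_⟩
      apply app_injective_of_mono (f m).arrow.hom U.1
      change (φ.hom ≫ (f m).arrow.hom).app U.1 a = _
      rw [hφ]
      exact ha
    have hiso' : IsIso φ := (ObjectProperty.isIso_hom_iff φ).mp hiso
    refine Subobject.le_of_comm (inv φ) ?_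
    rw [IsIso.inv_comp_eq]
    exact (hle hm).symm

end Groth.Agent.S11129
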