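import Groth.Statements.S1113
import Groth.Agent.S0982
import Mathlib.Algebra.Homology.DerivedCategory.TStructure
import Mathlib.Algebra.Homology.DerivedCategory.ShortExact
import Mathlib.Algebra.Homology.Embedding.CochainComplex

set_option autoImplicit false
universe w v u
open CategoryTheory CategoryTheory.Limits
namespace Groth.Agent.S1113

section
variable {A : Type u} [Category.{v} A] [Abelian A] [HasDerivedCategory.{w} A]

open DerivedCategory Pretriangulated in
/-- If `T` lives in degrees `≥ m` and `g : X ⟶ T` is zero on `H^m`, then `g` factors in the derived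
category through `τ_{≥ m + 1} X`. -/
lemma exists_factor_truncGE {T X : CochainComplex A ℤ} (m m' : ℤ) (hm : m + 1 = m')
    [T.IsStrictlyGE m] (g : X ⟶ T) (hg : HomologicalComplex.homologyMap g m = 0) :
    ∃ ψ : Q.obj (X.truncGE m') ⟶ Q.obj T, Q.map (X.πTruncGE m') ≫ ψ = Q.map g := by
  have hu : X.ιTruncLE m ≫ g = 0 := by
    apply Groth.Agent.S0982.eq_zero_of_homologyMap_eq_zero m
    rw [HomologicalComplex.homologyMap_comp, hg, comp_zero]
  have hS := X.shortComplexTruncLE_shortExact m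
  have hT := triangleOfSES_distinguished hS
  let p : X ⟶ (X.shortComplexTruncLE m).X₃ := (X.shortComplexTruncLE m).g
  let q : (X.shortComplexTruncLE m).X₃ ⟶ X.truncGE m' := X.shortComplexTruncLEX₃ToTruncGE m m' hm
  have hpq : p ≫ q = X.πTruncGE m' := X.g_shortComplexTruncLEX₃ToTruncGE m m' hm
  have hzero : Q.map (X.ιTruncLE m) ≫ Q.map g = 0 := by
    rw [← Q.map_comp, hu, Q.map_zero]
  obtain ⟨ψ', hψ'⟩ := Triangle.yoneda_exact₂ _ hT (Q.map g) hzero
  have hψ'' : Q.map g = Q.map p ≫ ψ' := hψ'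
  have : IsIso (Q.map q) := by
    rw [isIso_Q_map_iff_quasiIso]
    infer_instance
  refine ⟨inv (Q.map q) ≫ ψ', ?_⟩
  rw [← hpq, Q.map_comp, Category.assoc, IsIso.hom_inv_id_assoc, hψ'']

end

/-- Let K : ℕᵒᵖ ⥤ CochainComplex A ℤ be a sequence of cochain maps … → K₂ → K₁ → K₀ in an abelian
category with Hⁱ(K₀) = 0 for i < 0 and such that for every j < n the map Hʲ(Kⱼ₊₁) → Hʲ(Kⱼ) is zero.
Then in the derived category the composite Kₙ → K₀ factors through the canonical truncation Kₙ →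
τ_{≥ n}Kₙ. -/
theorem result {A : Type u} [Category.{v} A] [Abelian A] [HasDerivedCategory.{w} A]
    (K : ℕᵒᵖ ⥤ CochainComplex A ℤ) (n : ℕ)
    (h0 : ∀ i : ℤ, i < 0 → IsZero ((K.obj (Opposite.op 0)).homology i))
    (hz : ∀ j : ℕ, j < n → HomologicalComplex.homologyMap (K.map (homOfLE (Nat.le_succ j)).op) (j : ℤ) = 0) :
    ∃ φ : DerivedCategory.Q.obj ((K.obj (Opposite.op n)).truncGE (n : ℤ)) ⟶ DerivedCategory.Q.obj (K.obj (Opposite.op 0)),
      DerivedCategory.Q.map ((K.obj (Opposite.op n)).πTruncGE (n : ℤ)) ≫ φ = DerivedCategory.Q.map (K.map (homOfLE (Nat.zero_le n)).op) := by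
  induction n with
  | zero =>
    have hge : (K.obj (Opposite.op 0)).IsGE ((0 : ℕ) : ℤ) := by
      rw [CochainComplex.isGE_iff]
      intro i hi
      rw [HomologicalComplex.exactAt_iff_isZero_homology]
      exact h0 i (by simpa using hi)
    have : QuasiIso ((K.obj (Opposite.op 0)).πTruncGE ((0 : ℕ) : ℤ)) := by
      rw [CochainComplex.quasiIso_πTruncGE_iff]
      exact hge
    have : IsIso (DerivedCategory.Q.map ((K.obj (Opposite.op 0)).πTruncGE ((0 : ℕ) : ℤ))) := by
      rw [DerivedCategory.isIso_Q_map_iff_quasiIso]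
      infer_instance
    exact ⟨inv (DerivedCategory.Q.map ((K.obj (Opposite.op 0)).πTruncGE ((0 : ℕ) : ℤ))) ≫
      DerivedCategory.Q.map (K.map (homOfLE (Nat.zero_le 0)).op), by simp⟩
  | succ n ih =>
    obtain ⟨φ, hφ⟩ := ih (fun j hj => hz j (by lia))
    let g : K.obj (Opposite.op (n + 1)) ⟶ (K.obj (Opposite.op n)).truncGE (n : ℤ) :=
      K.map (homOfLE (Nat.le_succ n)).op ≫ (K.obj (Opposite.op n)).πTruncGE (n : ℤ)
    have hg : HomologicalComplex.homologyMap g (n : ℤ) = 0 := by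
      rw [HomologicalComplex.homologyMap_comp, hz n (by lia), zero_comp]
    obtain ⟨ψ, hψ⟩ := exists_factor_truncGE (n : ℤ) ((n + 1 : ℕ) : ℤ)
      (by push_cast; lia) g hg
    refine ⟨ψ ≫ φ, ?_⟩
    rw [reassoc_of% hψ, Functor.map_comp, Category.assoc, hφ, ← Functor.map_comp, ← K.map_comp]
    rfl

end Groth.Agent.S1113
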