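import Groth.Statements.S11130
import Groth.Agent.Lib.Helper86.QCohFpqc

set_option autoImplicit false
universe u
open CategoryTheory AlgebraicGeometry
open Desc

namespace Groth.Agent.S11130

open Groth.Agent.Lib.Helper49 Groth.Agent.Lib.Helper86.QCohFpqc

theorem qcoh_of_pullback {X Y : Scheme.{u}} (f : X ⟶ Y)
    [Flat f] [Surjective f] [QuasiCompact f] (M : Y.Modules)
    (h : ((Scheme.Modules.pullback f).obj M).IsQuasicoherent) : M.IsQuasicoherent := by
  refine isQuasicoherent_of_forall_restrict M (ι := Y.affineOpens)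
    (fun V => (V.1 : Scheme.{u})) (fun V => V.1.ι) (fun y => ?_) (fun V => ?_)
  · have hy : y ∈ (⨆ i : Y.affineOpens, (i : Y.Opens)) := by
      rw [iSup_affineOpens_eq_top]; trivial
    obtain ⟨V, hV⟩ := TopologicalSpace.Opens.mem_iSup.mp hy
    exact ⟨V, by simpa using hV⟩
  · refine isQuasicoherent_of_iso
      ((Scheme.Modules.restrictFunctorIsoPullback V.1.ι).app M).symm ?_
    have hc : IsCompact (X := X) (f ⁻¹ᵁ V.1) :=
      QuasiCompact.isCompact_preimage (f := f) _ V.1.2 V.2.isCompact
    obtain ⟨s, hs, e⟩ := isCompact_iff_finite_and_eq_biUnion_affineOpens.mp hc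
    have : Finite s := hs
    have hle : ∀ U : s, (U.1 : X.Opens) ≤ f ⁻¹ᵁ V.1 := fun U => by
      rw [e]
      exact le_iSup₂_of_le U.1 U.2 le_rfl
    have : IsAffine (V.1 : Scheme.{u}) := V.2
    have : ∀ U : s, IsAffine ((U.1 : X.Opens) : Scheme.{u}) := fun U => U.1.2
    refine isQuasicoherent_of_family (J := s) (U := fun U => ((U.1 : X.Opens) : Scheme.{u}))
      (fun U => f.resLE V.1 U.1 (hle U)) ?_ _ ?_
    · intro y
      obtain ⟨x, hx⟩ := f.surjective y.1
      have hxV : x ∈ f ⁻¹ᵁ V.1 := by
        change f.base x ∈ V.1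
        rw [hx]; exact y.2
      rw [e] at hxV
      obtain ⟨U, hU⟩ := TopologicalSpace.Opens.mem_iSup.mp hxV
      obtain ⟨hUs, hxU⟩ := TopologicalSpace.Opens.mem_iSup.mp hU
      refine ⟨⟨U, hUs⟩, ⟨x, hxU⟩, ?_⟩
      apply V.1.ι.isOpenEmbedding.injective
      have h1 := congrArg (fun φ => φ.base (⟨x, hxU⟩ : (U : X.Opens))) (f.resLE_comp_ι (hle ⟨U, hUs⟩))
      simp only [Scheme.Hom.comp_base, TopCat.hom_comp, ContinuousMap.comp_apply] at h1
      rw [h1]
      exact hx
    · intro U
      have e1 : (Scheme.Modules.pullback (f.resLE V.1 U.1 (hle U))).obj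
          ((Scheme.Modules.pullback V.1.ι).obj M) ≅
          (Scheme.Modules.pullback U.1.1.ι).obj ((Scheme.Modules.pullback f).obj M) :=
        (Scheme.Modules.pullbackComp (f.resLE V.1 U.1 (hle U)) V.1.ι).app M ≪≫
          (Scheme.Modules.pullbackCongr (f.resLE_comp_ι (hle U))).app M ≪≫
          ((Scheme.Modules.pullbackComp U.1.1.ι f).app M).symm
      have h2 : ((Scheme.Modules.pullback U.1.1.ι).obj
          ((Scheme.Modules.pullback f).obj M)).IsQuasicoherent :=
        Groth.Agent.Lib.Helper16.FlatPull.isQuasicoherent_pullback _ _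
      exact isQuasicoherent_of_iso e1.symm h2

/-- Let f : X → Y be a flat, surjective and quasi-compact morphism of schemes and M any O_Y-module. Then
M is quasi-coherent if and only if the pullback f^*M is quasi-coherent. -/
theorem result {X Y : Scheme.{u}} (f : X ⟶ Y)
    [Flat f] [Surjective f] [QuasiCompact f] (M : Y.Modules) :
    Coh.IsQCoh M ↔ Coh.IsQCoh ((Scheme.Modules.pullback f).obj M) := by
  constructor
  · intro h
    have : M.IsQuasicoherent := h
    exact Groth.Agent.Lib.Helper16.FlatPull.isQuasicoherent_pullback f M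
  · intro h
    exact qcoh_of_pullback f M h

end Groth.Agent.S11130
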