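import Groth.Statements.S11135
import Mathlib

set_option autoImplicit false
universe u
open InvTh

namespace Groth.Agent.S11135

set_option linter.unusedSectionVars false

section
variable {ι : Type u} {D : ι → Type u} [∀ i, CommRing (D i)] [∀ i, IsDomain (D i)]

open Classical in
/-- support idempotent -/
noncomputable def supp (a : Π i, D i) : Π i, D i := fun i => if a i = 0 then 0 else 1

lemma supp_apply_of_eq {a : Π i, D i} {i : ι} (h : a i = 0) : supp a i = 0 := by
  simp [supp, h]

lemma supp_apply_of_ne {a : Π i, D i} {i : ι} (h : a i ≠ 0) : supp a i = 1 := by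
  simp [supp, h]

lemma supp_mul_supp (a : Π i, D i) : supp a * supp a = supp a := by
  funext i
  by_cases h : a i = 0
  · simp [supp_apply_of_eq h]
  · simp [supp_apply_of_ne h]

lemma eq_zero_or_one_of_idem {i : ι} {x : D i} (h : x * x = x) : x = 0 ∨ x = 1 := by
  have : x * (x - 1) = 0 := by rw [mul_sub, h, mul_one, sub_self]
  rcases mul_eq_zero.1 this with h1 | h1
  · exact Or.inl h1
  · exact Or.inr (sub_eq_zero.1 h1)

variable [Fintype ι] (A : Subring (Π i, D i))

/-- the block setoid -/
def blk : Setoid ι where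
  r i j := ∀ e ∈ A, e * e = e → (e i = 0 ↔ e j = 0)
  iseqv := ⟨fun _ _ _ _ => Iff.rfl, fun h e he hee => (h e he hee).symm,
    fun h1 h2 e he hee => (h1 e he hee).trans (h2 e he hee)⟩

variable (P1 : ∀ a ∈ A, supp a ∈ A)

include P1 in
lemma zero_iff_of_rel {a : Π i, D i} (ha : a ∈ A) {i j : ι} (h : (blk A).r i j) :
    a i = 0 ↔ a j = 0 := by
  have := h (supp a) (P1 a ha) (supp_mul_supp a)
  constructor
  · intro hi
    by_contra hj
    have h1 := this.1 (supp_apply_of_eq hi)
    rw [supp_apply_of_ne hj] at h1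
    exact one_ne_zero h1
  · intro hj
    by_contra hi
    have h1 := this.2 (supp_apply_of_eq hj)
    rw [supp_apply_of_ne hi] at h1
    exact one_ne_zero h1

open Classical in
/-- block idempotent -/
noncomputable def eps (k : Quotient (blk A)) : Π i, D i :=
  fun j => if (Quotient.mk (blk A) j) = k then 1 else 0

lemma eps_apply_of_eq {k : Quotient (blk A)} {j : ι} (h : Quotient.mk (blk A) j = k) :
    eps A k j = 1 := by simp [eps, h]

lemma eps_apply_of_ne {k : Quotient (blk A)} {j : ι} (h : Quotient.mk (blk A) j ≠ k) :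
    eps A k j = 0 := by simp [eps, h]

lemma eps_mem (k : Quotient (blk A)) : eps A k ∈ A := by
  classical
  set i := k.out with hi
  have hik : Quotient.mk (blk A) i = k := Quotient.out_eq k
  have hex : ∀ j : ι, ∃ e ∈ A, e * e = e ∧ e i = 1 ∧ (Quotient.mk (blk A) j ≠ k → e j = 0) := by
    intro j
    by_cases hj : Quotient.mk (blk A) j = k
    · exact ⟨1, A.one_mem, one_mul 1, rfl, fun h => absurd hj h⟩
    · have hnr : ¬ (blk A).r i j := by
        intro h
        apply hj
        rw [← hik]
        exact (Quotient.sound h).symm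
      change ¬ (∀ e ∈ A, e * e = e → (e i = 0 ↔ e j = 0)) at hnr
      push Not at hnr
      obtain ⟨e, he, hee, hne⟩ := hnr
      have hei : e i * e i = e i := congrFun hee i
      have hej : e j * e j = e j := congrFun hee j
      by_cases h0 : e i = 0
      · refine ⟨1 - e, A.sub_mem A.one_mem he, ?_, ?_, fun _ => ?_⟩
        · have : (1 - e) * (1 - e) = 1 - e - e + e * e := by ring
          rw [this, hee]; ring
        · simp [h0]
        · have : e j ≠ 0 := by
            intro h
            rcases hne with ⟨h1, h2⟩ | ⟨h1, h2⟩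
            · exact h2 h
            · exact h1 h0
          rcases eq_zero_or_one_of_idem hej with h1 | h1
          · exact absurd h1 this
          · simp [h1]
      · refine ⟨e, he, hee, ?_, fun _ => ?_⟩
        · rcases eq_zero_or_one_of_idem hei with h1 | h1
          · exact absurd h1 h0
          · exact h1
        · rcases hne with ⟨h1, h2⟩ | ⟨h1, h2⟩
          · exact absurd h1 h0
          · exact h2
  choose sep hsepA hsepI hsepi hsepj using hex
  have : eps A k = ∏ j, sep j := by
    funext j'
    rw [Finset.prod_apply]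
    by_cases hj' : Quotient.mk (blk A) j' = k
    · rw [eps_apply_of_eq A hj']
      symm
      apply Finset.prod_eq_one
      intro j _
      have hr : (blk A).r i j' := by
        apply Quotient.exact
        rw [hik, hj']
      have hne : sep j j' ≠ 0 := by
        intro h
        have := (hr (sep j) (hsepA j) (hsepI j)).2 h
        rw [hsepi j] at this
        exact one_ne_zero this
      rcases eq_zero_or_one_of_idem (congrFun (hsepI j) j') with h1 | h1
      · exact absurd h1 hne
      · exact h1
    · rw [eps_apply_of_ne A hj']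
      symm
      exact Finset.prod_eq_zero (Finset.mem_univ j') (hsepj j' hj')
  rw [this]
  exact Subring.prod_mem A (fun j _ => hsepA j)

/-- the ideals -/
noncomputable def I (k : Quotient (blk A)) : Ideal A :=
  RingHom.ker ((Pi.evalRingHom D k.out).comp A.subtype)

instance (k : Quotient (blk A)) : (I A k).IsPrime := by
  unfold I
  exact RingHom.ker_isPrime _

lemma mem_I {k : Quotient (blk A)} {a : A} : a ∈ I A k ↔ a.1 k.out = 0 := by
  unfold I
  rw [RingHom.mem_ker]
  rfl

include P1 in
lemma mem_I_iff {k : Quotient (blk A)} {a : A} :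
    a ∈ I A k ↔ ∀ j, Quotient.mk (blk A) j = k → a.1 j = 0 := by
  rw [mem_I]
  constructor
  · intro h j hj
    have hr : (blk A).r k.out j := by
      apply Quotient.exact
      rw [Quotient.out_eq, hj]
    exact (zero_iff_of_rel A P1 a.2 hr).1 h
  · intro h
    exact h _ (Quotient.out_eq k)

lemma isCoprime_I : Pairwise (Function.onFun IsCoprime (I A)) := by
  intro k k' hkk'
  rw [Function.onFun, Ideal.isCoprime_iff_exists]
  refine ⟨⟨1 - eps A k, A.sub_mem A.one_mem (eps_mem A k)⟩, ?_, ⟨eps A k, eps_mem A k⟩, ?_, ?_⟩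
  · rw [mem_I]
    simp [eps_apply_of_eq A (Quotient.out_eq k)]
  · rw [mem_I]
    apply eps_apply_of_ne
    rw [Quotient.out_eq]
    exact hkk'.symm
  · ext1
    simp

include P1 in
lemma iInf_I : ⨅ k, I A k = ⊥ := by
  rw [eq_bot_iff]
  intro a ha
  rw [Ideal.mem_iInf] at ha
  rw [Ideal.mem_bot]
  ext1
  funext j
  exact (mem_I_iff A P1).1 (ha (Quotient.mk (blk A) j)) j rfl

include P1 in
/-- the decomposition -/
noncomputable def decomp : A ≃+* Π k : Quotient (blk A), A ⧸ I A k :=
  (RingEquiv.quotientBot A).symm.trans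
    ((Ideal.quotEquivOfEq (iInf_I A P1).symm).trans
      (Ideal.quotientInfRingEquivPiQuotient (I A) (isCoprime_I A)))


variable [∀ i, IsIntegrallyClosed (D i)]

/-- coordinate map on the quotient -/
noncomputable def coord (k : Quotient (blk A)) (j : ι) (hj : Quotient.mk (blk A) j = k) :
    A ⧸ I A k →+* D j :=
  Ideal.Quotient.lift (I A k) ((Pi.evalRingHom D j).comp A.subtype)
    (fun _ ha => (mem_I_iff A P1).1 ha j hj)

lemma coord_mk (k : Quotient (blk A)) (j : ι) (hj : Quotient.mk (blk A) j = k) (a : A) :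
    coord A P1 k j hj (Ideal.Quotient.mk (I A k) a) = a.1 j := by
  rfl

lemma coord_injective (k : Quotient (blk A)) (j : ι) (hj : Quotient.mk (blk A) j = k) :
    Function.Injective (coord A P1 k j hj) := by
  rw [injective_iff_map_eq_zero]
  intro x hx
  obtain ⟨a, rfl⟩ := Ideal.Quotient.mk_surjective x
  rw [coord_mk] at hx
  rw [Ideal.Quotient.eq_zero_iff_mem, mem_I]
  have hr : (blk A).r k.out j := by
    apply Quotient.exact
    rw [Quotient.out_eq, hj]
  exact (zero_iff_of_rel A P1 a.2 hr).2 hx

variable (P2 : ∀ a b s : Π i, D i, a ∈ A → b ∈ A → (∀ i, b i ≠ 0) → s * b = a → s ∈ A)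

include P1 P2 in
lemma isIntegrallyClosed_quot (k : Quotient (blk A)) : IsIntegrallyClosed (A ⧸ I A k) := by
  classical
  rw [isIntegrallyClosed_iff (FractionRing (A ⧸ I A k))]
  intro x hx
  obtain ⟨a', b', hb', hx'⟩ := IsFractionRing.div_surjective (A := A ⧸ I A k) x
  obtain ⟨a, rfl⟩ := Ideal.Quotient.mk_surjective a'
  obtain ⟨b, rfl⟩ := Ideal.Quotient.mk_surjective b'
  have hb0 : Ideal.Quotient.mk (I A k) b ≠ 0 := nonZeroDivisors.ne_zero hb'
  have hbI : b ∉ I A k := fun h => hb0 (Ideal.Quotient.eq_zero_iff_mem.2 h)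
  have hbj : ∀ j, Quotient.mk (blk A) j = k → b.1 j ≠ 0 := by
    intro j hj h
    apply hbI
    rw [mem_I]
    have hr : (blk A).r k.out j := by
      apply Quotient.exact
      rw [Quotient.out_eq, hj]
    exact (zero_iff_of_rel A P1 b.2 hr).2 h
  have hcoord : ∀ j, Quotient.mk (blk A) j = k → ∃ s : D j, s * b.1 j = a.1 j := by
    intro j hj
    have hπ : Function.Injective (coord A P1 k j hj) := coord_injective A P1 k j hj
    have hg : Function.Injective ((algebraMap (D j) (FractionRing (D j))).comp (coord A P1 k j hj)) :=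
      (IsFractionRing.injective _ _).comp hπ
    have hψ : ∀ y, (IsFractionRing.lift hg : FractionRing (A ⧸ I A k) →+* FractionRing (D j))
        (algebraMap _ _ y) = algebraMap _ _ (coord A P1 k j hj y) :=
      fun y => IsFractionRing.lift_algebraMap hg y
    have hint : IsIntegral (D j) ((IsFractionRing.lift hg :
        FractionRing (A ⧸ I A k) →+* FractionRing (D j)) x) :=
      IsIntegral.map_of_comp_eq (coord A P1 k j hj) (IsFractionRing.lift hg)
        (by ext y; simp [hψ]) hx
    obtain ⟨s, hs⟩ := (isIntegrallyClosed_iff (FractionRing (D j))).1 inferInstance hint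
    refine ⟨s, ?_⟩
    apply IsFractionRing.injective (D j) (FractionRing (D j))
    rw [map_mul, hs, ← hx', map_div₀, hψ, hψ, coord_mk, coord_mk]
    have : algebraMap (D j) (FractionRing (D j)) (b.1 j) ≠ 0 := by
      intro h
      exact hbj j hj ((IsFractionRing.injective (D j) (FractionRing (D j))) (by rw [h, map_zero]))
    field_simp
  let s : Π j, D j := fun j =>
    if hj : Quotient.mk (blk A) j = k then (hcoord j hj).choose else 0
  have hs1 : ∀ j (hj : Quotient.mk (blk A) j = k), s j * b.1 j = a.1 j := by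
    intro j hj
    simp only [s, dif_pos hj]
    exact (hcoord j hj).choose_spec
  have hs0 : ∀ j, Quotient.mk (blk A) j ≠ k → s j = 0 := by
    intro j hj
    simp only [s, dif_neg hj]
  have hsA : s ∈ A := by
    apply P2 (a.1 * eps A k) (b.1 * eps A k + (1 - eps A k)) s
    · exact A.mul_mem a.2 (eps_mem A k)
    · exact A.add_mem (A.mul_mem b.2 (eps_mem A k)) (A.sub_mem A.one_mem (eps_mem A k))
    · intro j
      by_cases hj : Quotient.mk (blk A) j = k
      · simp [eps_apply_of_eq A hj, hbj j hj]
      · simp [eps_apply_of_ne A hj]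
    · funext j
      by_cases hj : Quotient.mk (blk A) j = k
      · simp [eps_apply_of_eq A hj, hs1 j hj]
      · simp [eps_apply_of_ne A hj, hs0 j hj]
  refine ⟨Ideal.Quotient.mk (I A k) ⟨s, hsA⟩, ?_⟩
  rw [← hx']
  have hbK : algebraMap (A ⧸ I A k) (FractionRing (A ⧸ I A k)) (Ideal.Quotient.mk (I A k) b) ≠ 0 := by
    intro h
    exact hb0 ((IsFractionRing.injective (A ⧸ I A k) (FractionRing (A ⧸ I A k)))
      (by rw [h, map_zero]))
  rw [eq_div_iff hbK, ← map_mul, ← map_mul]
  congr 1
  rw [Ideal.Quotient.eq, mem_I]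
  show s k.out * b.1 k.out - a.1 k.out = 0
  rw [hs1 _ (Quotient.out_eq k), sub_self]

end

section
variable {ι : Type u} {D : ι → Type u} [∀ i, CommRing (D i)] [∀ i, IsDomain (D i)]

lemma mul_supp (a : Π i, D i) : a * supp a = a := by
  funext i
  by_cases h : a i = 0
  · simp [h]
  · simp [supp_apply_of_ne h]

lemma mem_nonZeroDivisors_pi {s : Π i, D i} (h : ∀ i, s i ≠ 0) :
    s ∈ nonZeroDivisors (Π i, D i) := by
  rw [mem_nonZeroDivisors_iff_right]
  intro x hx
  funext i
  have := congrFun hx i
  simp only [Pi.mul_apply, Pi.zero_apply, mul_eq_zero] at this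
  rcases this with h1 | h1
  · exact h1
  · exact absurd h1 (h i)

variable {R : Type u} [CommRing R] {F : Set ((Π i, D i) →+* R)}
  (hF : ∀ f ∈ F, ∀ s ∈ nonZeroDivisors (Π i, D i), f s ∈ nonZeroDivisors R)
  {A : Subring (Π i, D i)} (hA : ∀ a, a ∈ A ↔ ∀ f ∈ F, ∀ f' ∈ F, f a = f' a)

include hF hA

lemma supp_mem {a : Π i, D i} (ha : a ∈ A) : supp a ∈ A := by
  rw [hA]
  have key : ∀ f ∈ F, ∀ f' ∈ F, f' (supp a) = f (supp a) * f' (supp a) := by
    intro f hf f' hf'
    set u := f (supp a) with hu
    set u' := f' (supp a) with hu'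
    have hb : f a = f' a := (hA a).1 ha f hf f' hf'
    have hc : a + (1 - supp a) ∈ nonZeroDivisors (Π i, D i) := by
      apply mem_nonZeroDivisors_pi
      intro i
      by_cases h : a i = 0
      · simp [h, supp_apply_of_eq h]
      · simp [h, supp_apply_of_ne h]
    have hfc := hF f' hf' _ hc
    have hbu : f a * u = f a := by rw [hu, ← map_mul, mul_supp]
    have hu'2 : u' * u' = u' := by rw [hu', ← map_mul, supp_mul_supp]
    have h0 : ((1 - u) * u') * f' (a + (1 - supp a)) = 0 := by
      rw [map_add, map_sub, map_one, ← hb, ← hu']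
      have : (1 - u) * u' * (f a + (1 - u')) = (f a - f a * u) * u' + (1 - u) * (u' - u' * u') := by
        ring
      rw [this, hbu, hu'2]
      ring
    have := (mul_right_mem_nonZeroDivisors_eq_zero_iff hfc).1 h0
    linear_combination this
  intro f hf f' hf'
  have h1 := key f hf f' hf'
  have h2 := key f' hf' f hf
  rw [h2, mul_comm]
  exact h1.symm

lemma div_mem {a b s : Π i, D i} (ha : a ∈ A) (hb : b ∈ A) (hb0 : ∀ i, b i ≠ 0)
    (hs : s * b = a) : s ∈ A := by
  rw [hA]
  intro f hf f' hf'
  have hbn := hF f hf b (mem_nonZeroDivisors_pi hb0)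
  have h1 : f a = f' a := (hA a).1 ha f hf f' hf'
  have h2 : f b = f' b := (hA b).1 hb f hf f' hf'
  have h3 : (f s - f' s) * f b = 0 := by
    have e1 : f s * f b = f a := by rw [← map_mul, hs]
    have e2 : f' s * f' b = f' a := by rw [← map_mul, hs]
    rw [sub_mul, e1, h2, e2, h1, sub_self]
  have := (mul_right_mem_nonZeroDivisors_eq_zero_iff hbn).1 h3
  exact sub_eq_zero.1 this

end


/-- Suppose S is the product of a finite family of integrally closed domains (a finite product of normal
domains), R is any commutative ring, and F is a family of ring maps S → R each carrying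
non-zero-divisors of S to non-zero-divisors of R. Then the subring A of S on which all members of F
coincide (a ∈ A iff f(a) = f'(a) for all f, f' in F) is ring-isomorphic to a product of finitely
many integrally closed domains. -/
theorem result {ι : Type u} [Fintype ι] (D : ι → Type u)
    [∀ i, CommRing (D i)] [∀ i, IsDomain (D i)] [∀ i, IsIntegrallyClosed (D i)]
    (R : Type u) [CommRing R] (F : Set ((Π i, D i) →+* R))
    (hF : ∀ f ∈ F, ∀ s ∈ nonZeroDivisors (Π i, D i), f s ∈ nonZeroDivisors R)
    (A : Subring (Π i, D i)) (hA : ∀ a, a ∈ A ↔ ∀ f ∈ F, ∀ f' ∈ F, f a = f' a) :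
    ∃ (κ : Type u) (_ : Fintype κ) (E : κ → Type u) (_ : ∀ j, CommRing (E j)) (_ : ∀ j, IsDomain (E j))
      (_ : ∀ j, IsIntegrallyClosed (E j)), Nonempty (A ≃+* Π j, E j) := by
  classical
  have P1 : ∀ a ∈ A, supp a ∈ A := fun a ha => supp_mem hF hA ha
  have P2 : ∀ a b s : Π i, D i, a ∈ A → b ∈ A → (∀ i, b i ≠ 0) → s * b = a → s ∈ A :=
    fun a b s ha hb hb0 hs => div_mem hF hA ha hb hb0 hs
  exact ⟨Quotient (blk A), Fintype.ofFinite _, fun k => A ⧸ I A k,
    fun k => Ideal.Quotient.commRing (I A k), fun k => Ideal.Quotient.isDomain _,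
    fun k => isIntegrallyClosed_quot A P1 P2 k, ⟨decomp A P1⟩⟩

end Groth.Agent.S11135
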