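import Groth.Statements.S11136
import Mathlib.RingTheory.Invariant.Basic
import Mathlib.RingTheory.Ideal.GoingUp
import Mathlib.RingTheory.Spectrum.Prime.Noetherian
import Mathlib.Topology.NoetherianSpace

set_option autoImplicit false
universe u v
open InvTh

namespace Groth.Agent.S11136

open scoped Pointwise

theorem isOpen_cc_of_noetherian {X : Type*} [TopologicalSpace X]
    [TopologicalSpace.NoetherianSpace X] (x : X) : IsOpen (connectedComponent x) := by
  rw [← isClosed_compl_iff]
  have hfin := TopologicalSpace.NoetherianSpace.finite_irreducibleComponents (α := X)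
  have heq : (connectedComponent x)ᶜ =
      ⋃₀ {Z | Z ∈ irreducibleComponents X ∧ ¬ Z ⊆ connectedComponent x} := by
    ext z
    simp only [Set.mem_compl_iff, Set.mem_sUnion, Set.mem_ofPred_eq]
    constructor
    · intro hz
      exact ⟨irreducibleComponent z, ⟨irreducibleComponent_mem_irreducibleComponents z,
        fun h => hz (h mem_irreducibleComponent)⟩, mem_irreducibleComponent⟩
    · rintro ⟨Z, ⟨hZ, hZn⟩, hzZ⟩ hz
      apply hZn
      have hZirr : IsIrreducible Z := hZ.1
      have := hZirr.isConnected.isPreconnected.subset_connectedComponent hzZ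
      rwa [← connectedComponent_eq hz] at this
  rw [heq, Set.sUnion_eq_biUnion]
  exact Set.Finite.isClosed_biUnion (hfin.subset fun Z hZ => hZ.1)
    fun Z hZ => isClosed_of_mem_irreducibleComponents Z hZ.1


/-- Let a finite group G act on a Noetherian commutative ring R by ring automorphisms, with ring of
invariants A (A → R injective with image the fixed elements). When the prime spectrum of A is
connected, any two connected components of Spec R are exchanged by some element of G: for all points
x, y of Spec R there is g in G whose induced self-map of Spec R carries the connected component of x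
onto the connected component of y. -/
theorem result
    (A : Type u) (R : Type v) [CommRing A] [CommRing R] [Algebra A R] [IsNoetherianRing R]
    (G : Type u) [Group G] [Finite G] [MulSemiringAction G R] [SMulCommClass G A R]
    [Algebra.IsInvariant A R G] [FaithfulSMul A R]
    [ConnectedSpace (PrimeSpectrum A)] (x y : PrimeSpectrum R) :
    ∃ g : G, PrimeSpectrum.comap (MulSemiringAction.toRingHom G R g) '' connectedComponent x =
      connectedComponent y := by
  classical
  let π : PrimeSpectrum R → PrimeSpectrum A := PrimeSpectrum.comap (algebraMap A R)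
  let φ : G → PrimeSpectrum R → PrimeSpectrum R :=
    fun g => PrimeSpectrum.comap (MulSemiringAction.toRingHom G R g)
  have hφcont : ∀ g, Continuous (φ g) := fun g => PrimeSpectrum.continuous_comap _
  have hφmul : ∀ g h z, φ g (φ h z) = φ (h * g) z := by
    intro g h z
    simp only [φ]
    rw [← PrimeSpectrum.comap_comp_apply]
    congr 1
    ext r
    simp [mul_smul]
  have hφone : ∀ z, φ 1 z = z := by
    intro z
    simp only [φ]
    have : MulSemiringAction.toRingHom G R 1 = RingHom.id R := by ext r; simp
    rw [this, PrimeSpectrum.comap_id]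
  have hπφ : ∀ g z, π (φ g z) = π z := by
    intro g z
    simp only [π, φ]
    rw [← PrimeSpectrum.comap_comp_apply]
    congr 1
    ext a
    simp [smul_algebraMap]
  have hint : Algebra.IsIntegral A R := Algebra.IsInvariant.isIntegral A R G
  have hπclosed : IsClosedMap π :=
    PrimeSpectrum.isClosedMap_comap_of_isIntegral _ (algebraMap_isIntegral_iff.2 hint)
  have hπsurj : Function.Surjective π := by
    intro p
    obtain ⟨Q, -, hQprime, hQ⟩ := Ideal.exists_ideal_over_prime_of_isIntegral p.asIdeal (⊥ : Ideal R)
      (by simp [← RingHom.ker_eq_comap_bot])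
    exact ⟨⟨Q, hQprime⟩, PrimeSpectrum.ext hQ⟩
  -- fibres of π are orbits
  have horbit : ∀ s t, π s = π t → ∃ g, φ g s = t := by
    intro s t hst
    have h1 : s.asIdeal.under A = t.asIdeal.under A := congrArg PrimeSpectrum.asIdeal hst
    obtain ⟨g, hg⟩ := Algebra.IsInvariant.exists_smul_of_under_eq A R G t.asIdeal s.asIdeal h1.symm
    refine ⟨g, PrimeSpectrum.ext ?_⟩
    simp only [φ, PrimeSpectrum.comap_asIdeal]
    rw [hg]
    ext r
    simp [Ideal.mem_pointwise_smul_iff_inv_smul_mem]
  set C := connectedComponent y with hC
  have hCclopen : IsClopen C := ⟨isClosed_connectedComponent, isOpen_cc_of_noetherian y⟩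
  set T : Set (PrimeSpectrum R) := ⋃ g : G, φ g ⁻¹' C with hT
  have hTclopen : IsClopen T := by
    exact isClopen_iUnion_of_finite fun g => hCclopen.preimage (hφcont g)
  have hTstable : ∀ h z, z ∈ T → φ h z ∈ T := by
    intro h z hz
    rw [hT, Set.mem_iUnion] at hz ⊢
    obtain ⟨g, hg⟩ := hz
    refine ⟨h⁻¹ * g, ?_⟩
    rw [Set.mem_preimage, hφmul]
    simpa using hg
  have hyT : y ∈ T := by
    rw [hT, Set.mem_iUnion]
    exact ⟨1, by rw [Set.mem_preimage, hφone]; exact mem_connectedComponent⟩
  have hsat : ∀ s t, π s = π t → s ∈ T → t ∈ T := by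
    intro s t hst hs
    obtain ⟨g, rfl⟩ := horbit s t hst
    exact hTstable g s hs
  have himage : IsClopen (π '' T) := by
    refine ⟨hπclosed _ hTclopen.1, ?_⟩
    have : π '' T = (π '' Tᶜ)ᶜ := by
      ext p
      constructor
      · rintro ⟨s, hs, rfl⟩ ⟨t, ht, hts⟩
        exact ht (hsat s t hts.symm hs)
      · intro hp
        obtain ⟨s, rfl⟩ := hπsurj p
        by_cases hs : s ∈ T
        · exact ⟨s, hs, rfl⟩
        · exact absurd ⟨s, hs, rfl⟩ hp
    rw [this]
    exact (hπclosed _ hTclopen.compl.1).isOpen_compl
  have huniv : π '' T = Set.univ := himage.eq_univ ⟨π y, y, hyT, rfl⟩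
  have hxT : x ∈ T := by
    have : π x ∈ π '' T := by rw [huniv]; trivial
    obtain ⟨s, hs, hsx⟩ := this
    exact hsat s x hsx hs
  rw [hT, Set.mem_iUnion] at hxT
  obtain ⟨g, hg⟩ := hxT
  refine ⟨g, ?_⟩
  change φ g '' connectedComponent x = connectedComponent y
  have hgx : connectedComponent (φ g x) = connectedComponent y := connectedComponent_eq hg |>.symm
  rw [← hgx]
  apply Set.Subset.antisymm
  · exact (hφcont g).image_connectedComponent_subset x
  · intro z hz
    refine ⟨φ g⁻¹ z, ?_, ?_⟩
    · have := (hφcont g⁻¹).image_connectedComponent_subset (φ g x) ⟨z, hz, rfl⟩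
      rwa [hφmul, mul_inv_cancel, hφone] at this
    · rw [hφmul, inv_mul_cancel, hφone]

end Groth.Agent.S11136
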