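import Groth.Statements.S1114
import Groth.Agent.Lib.Helper5.PerfDualLocal
import Groth.Agent.S1062
import Groth.Agent.Lib.Helper30.AffinePush.SpecSections
import Groth.Agent.Lib.Helper49.FreeMod
import Groth.Agent.H57.QCohLpull

set_option autoImplicit false
universe u
open CategoryTheory CategoryTheory.Limits AlgebraicGeometry Opposite
attribute [local instance] HasDerivedCategory.standard
open Perf

namespace Groth.Agent.S1114

/-- Let X be a scheme, K a cochain complex of O_X-modules whose image in D(O_X) is perfect, and L ∈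
D(O_X) with quasi-coherent cohomology sheaves. Assuming - ⊗^L K and its right adjoint RHom(K, -)
exist on D(O_X), RHom(K, L) has quasi-coherent cohomology sheaves. -/
theorem result (X : Scheme.{u}) (K : CochainComplex X.Modules ℤ) (hK : DCoh.IsPerfect (DCoh.toD X K)) [DCoh.HasLTensorCx K] [DCoh.HasRSheafHom K]
    (L : DCoh.D X) (hL : DCoh.IsQCohD L) : DCoh.IsQCohD ((DCoh.RSheafHom K).obj L) := by
  refine Groth.Agent.Lib.Helper5.PerfDualLocal.isQCohD_of_forall_restrict _ (fun x => ?_)
  obtain ⟨V, hxV, E', hE', hT, ⟨e⟩⟩ :=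
    Groth.Agent.Lib.Helper5.PerfDualLocal.exists_local_dual K hK x
  refine ⟨V, hxV, ?_⟩
  have hq : DCoh.IsQCohD (DCoh.toD (V : Scheme.{u}) E') :=
    Groth.Agent.Lib.Helper30.AffinePush.isQCohD_Q_of_termwise E'
      (fun n => Groth.Agent.Lib.Helper49.isQuasicoherent_of_isFinLocFree _ (hE'.2 n))
  have h1 := Groth.Agent.S1062.result (V : Scheme.{u}) E' hq
    ((Groth.Agent.Lib.Helper30.PerfRestrict.rD V.ι).obj L)
    (Groth.Agent.H57.QCohLpull.isQCohD_restrictD V.ι L hL)
  intro i
  exact Groth.Agent.Lib.Helper49.isQuasicoherent_of_iso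
    ((DerivedCategory.homologyFunctor _ i).mapIso (e.app L).symm) (h1 i)

end Groth.Agent.S1114
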