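import Groth.Statements.S11141
import Groth.Agent.Lib.Helper84.ShearComod
import Groth.Agent.S11135
-- import your own Groth.Agent.* helpers here

set_option autoImplicit false
universe u
open TensorProduct
open InvTh

namespace Groth.Agent.S11141

/-- Let k be a field, H a finitely generated commutative Hopf algebra over k (the coordinate ring of a
group scheme affine and of finite type over k), and S a commutative k-algebra which is
ring-isomorphic to a finite product of normal (integrally closed) domains and carries an H-comodule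
structure whose coaction S → S ⊗ H is multiplicative and unital. Then the k-subalgebra of invariants
of S, the elements s whose coaction is s ⊗ 1, is again ring-isomorphic to a finite product of normal
domains. -/
theorem result (k : Type u) [Field k]
    (H : Type u) [CommRing H] [HopfAlgebra k H] [Algebra.FiniteType k H]
    (S : Type u) [CommRing S] [Algebra k S] [HopfRep.Comod k H S]
    (hmul : ∀ x y : S, HopfRep.Comod.coact (k := k) (A := H) (x * y) =
        HopfRep.Comod.coact (k := k) (A := H) x * HopfRep.Comod.coact (k := k) (A := H) y)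
    (hone : HopfRep.Comod.coact (k := k) (A := H) (1 : S) = 1)
    {ι : Type u} [Fintype ι] (D : ι → Type u) [∀ i, CommRing (D i)] [∀ i, IsDomain (D i)]
    [∀ i, IsIntegrallyClosed (D i)] (e : S ≃+* Π i, D i)
    (A : Subalgebra k S)
    (hA : ∀ a : S, a ∈ A ↔ HopfRep.Comod.coact (k := k) (A := H) a = a ⊗ₜ[k] (1 : H)) :
    ∃ (κ : Type u) (_ : Fintype κ) (E : κ → Type u) (_ : ∀ j, CommRing (E j)) (_ : ∀ j, IsDomain (E j))
      (_ : ∀ j, IsIntegrallyClosed (E j)), Nonempty (A ≃+* Π j, E j) := by
  classical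
  let ρ : S →ₐ[k] S ⊗[k] H := Groth.Agent.Lib.Helper84.Shear.coactAlg hmul hone
  let ι₁ : S →ₐ[k] S ⊗[k] H := Algebra.TensorProduct.includeLeft
  let f₁ : (Π i, D i) →+* S ⊗[k] H := (ρ : S →+* S ⊗[k] H).comp (e.symm : (Π i, D i) →+* S)
  let f₂ : (Π i, D i) →+* S ⊗[k] H := (ι₁ : S →+* S ⊗[k] H).comp (e.symm : (Π i, D i) →+* S)
  have hf₁ : ∀ a, f₁ a = HopfRep.Comod.coact (k := k) (A := H) (e.symm a) := fun a => rfl
  have hf₂ : ∀ a, f₂ a = (e.symm a) ⊗ₜ[k] (1 : H) := fun a => rfl
  let A' : Subring (Π i, D i) := A.toSubring.map (e : S →+* (Π i, D i))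
  have hmemA' : ∀ a, a ∈ A' ↔ e.symm a ∈ A := by
    intro a
    constructor
    · rintro ⟨s, hs, rfl⟩
      change e.symm (e s) ∈ A
      rw [RingEquiv.symm_apply_apply]
      exact hs
    · intro h
      exact ⟨e.symm a, h, RingEquiv.apply_symm_apply e a⟩
  have hA' : ∀ a, a ∈ A' ↔ ∀ f ∈ ({f₁, f₂} : Set ((Π i, D i) →+* S ⊗[k] H)),
      ∀ f' ∈ ({f₁, f₂} : Set ((Π i, D i) →+* S ⊗[k] H)), f a = f' a := by
    intro a
    rw [hmemA', hA]
    constructor
    · intro h f hf f' hf'
      rcases hf with rfl | rfl <;> rcases hf' with rfl | rfl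
      · rfl
      · rw [hf₁, hf₂]; exact h
      · rw [hf₁, hf₂]; exact h.symm
      · rfl
    · intro h
      have := h f₁ (Or.inl rfl) f₂ (Or.inr rfl)
      rw [hf₁, hf₂] at this
      exact this
  have hnzd : ∀ s ∈ nonZeroDivisors (Π i, D i), e.symm s ∈ nonZeroDivisors S := by
    intro s hs
    rw [mem_nonZeroDivisors_iff_right]
    intro y hy
    have h1 : e y * s = 0 := by
      have := congrArg e hy
      rw [map_mul, RingEquiv.apply_symm_apply, map_zero] at this
      exact this
    have h2 := (mem_nonZeroDivisors_iff_right.mp hs) _ h1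
    exact (map_eq_zero_iff e e.injective).mp h2
  have hF : ∀ f ∈ ({f₁, f₂} : Set ((Π i, D i) →+* S ⊗[k] H)),
      ∀ s ∈ nonZeroDivisors (Π i, D i), f s ∈ nonZeroDivisors (S ⊗[k] H) := by
    intro f hf s hs
    rcases hf with rfl | rfl
    · rw [hf₁]
      exact Groth.Agent.Lib.Helper84.Shear.coact_mem_nonZeroDivisors hmul hone (hnzd s hs)
    · rw [hf₂]
      exact Groth.Agent.Lib.Helper84.Shear.tmul_one_mem_nonZeroDivisors (hnzd s hs)
  obtain ⟨κ, hκ, E, h1, h2, h3, ⟨iso⟩⟩ :=
    Groth.Agent.S11135.result D (S ⊗[k] H) {f₁, f₂} hF A' hA'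
  refine ⟨κ, hκ, E, h1, h2, h3, ⟨?_⟩⟩
  let i0 : A ≃+* A.toSubring :=
    { toFun := fun x => ⟨x.1, x.2⟩
      invFun := fun x => ⟨x.1, x.2⟩
      left_inv := fun _ => rfl
      right_inv := fun _ => rfl
      map_mul' := fun _ _ => rfl
      map_add' := fun _ _ => rfl }
  exact (i0.trans (e.subringMap (s := A.toSubring))).trans iso

end Groth.Agent.S11141
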