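import Groth.Statements.S11142
import Mathlib.AlgebraicGeometry.Morphisms.UniversallyOpen
import Mathlib.AlgebraicGeometry.Noetherian
import Mathlib.Topology.Sober

set_option autoImplicit false
universe u
open CategoryTheory AlgebraicGeometry
open FlatMor

namespace Groth.Agent.S11142

open TopologicalSpace Topology

/-- In a space locally Noetherian and quasi-sober, every point has a maximal generalization. -/
theorem exists_maximal_generalization {X : Type*} [TopologicalSpace X] (x : X)
    (N : Set X) (hN : IsOpen N) (hx : x ∈ N) [NoetherianSpace N] [QuasiSober N] :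
    ∃ ξ : X, ξ ⤳ x ∧ ∀ ζ : X, ζ ⤳ ξ → ξ ⤳ ζ := by
  let x' : N := ⟨x, hx⟩
  have hZirr : IsIrreducible (irreducibleComponent x') := isIrreducible_irreducibleComponent
  have hZcl : IsClosed (irreducibleComponent x') := isClosed_irreducibleComponent
  have hgen : IsGenericPoint hZirr.genericPoint (irreducibleComponent x') :=
    hZirr.isGenericPoint_genericPoint hZcl
  set ξ' : N := hZirr.genericPoint with hξ'
  refine ⟨ξ', ?_, ?_⟩
  · have : ξ' ⤳ x' := hgen.specializes mem_irreducibleComponent
    exact (subtype_specializes_iff _ _).1 this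
  · intro ζ hζ
    have hζN : ζ ∈ N := hζ.mem_open hN ξ'.2
    let ζ' : N := ⟨ζ, hζN⟩
    have h1 : ζ' ⤳ ξ' := (subtype_specializes_iff _ _).2 hζ
    -- closure {ζ'} is irreducible and contains the irreducible component
    have h2 : irreducibleComponent x' ⊆ closure {ζ'} := by
      rw [← hgen.def]
      exact closure_minimal (Set.singleton_subset_iff.2 (specializes_iff_mem_closure.1 h1))
        isClosed_closure
    have h3 : closure {ζ'} ⊆ irreducibleComponent x' := by
      have hmax := irreducibleComponent_mem_irreducibleComponents x'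
      exact hmax.2 (isIrreducible_singleton.closure) h2
    have h4 : ζ' ∈ irreducibleComponent x' := h3 (subset_closure rfl)
    have : ξ' ⤳ ζ' := hgen.specializes h4
    exact (subtype_specializes_iff _ _).1 this

/-- A dense open set contains every maximal point having a Noetherian quasi-sober open
neighbourhood. -/
theorem mem_of_dense_of_maximal {Y : Type*} [TopologicalSpace Y] (η : Y)
    (hη : ∀ ζ : Y, ζ ⤳ η → η ⤳ ζ)
    (N : Set Y) (hN : IsOpen N) (hηN : η ∈ N) [NoetherianSpace N] [QuasiSober N]
    (U : Set Y) (hU : IsOpen U) (hUd : Dense U) : η ∈ U := by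
  let η' : N := ⟨η, hηN⟩
  have hZirr : IsIrreducible (irreducibleComponent η') := isIrreducible_irreducibleComponent
  have hZcl : IsClosed (irreducibleComponent η') := isClosed_irreducibleComponent
  have hgen : IsGenericPoint hZirr.genericPoint (irreducibleComponent η') :=
    hZirr.isGenericPoint_genericPoint hZcl
  set ζ' : N := hZirr.genericPoint with hζ'
  have h1 : ζ' ⤳ η' := hgen.specializes mem_irreducibleComponent
  have h2 : η ⤳ (ζ' : Y) := hη _ ((subtype_specializes_iff _ _).1 h1)
  obtain ⟨o, ho, hone, hoZ⟩ :=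
    NoetherianSpace.exists_isOpen_nonempty_subset_irreducibleComponent
      (irreducibleComponent η') (irreducibleComponent_mem_irreducibleComponents η')
  have ho' : IsOpen (Subtype.val '' o : Set Y) := hN.isOpenMap_subtype_val o ho
  obtain ⟨u', hu'⟩ := hone
  obtain ⟨u, huo, huU⟩ := hUd.inter_open_nonempty _ ho' ⟨(u' : Y), u', hu', rfl⟩
  obtain ⟨v, hv, rfl⟩ := huo
  have h3 : ζ' ⤳ v := hgen.specializes (hoZ hv)
  have h4 : η ⤳ (v : Y) := h2.trans ((subtype_specializes_iff _ _).1 h3)
  exact h4.mem_open hU huU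

theorem dense_preimage_of_generalizing {X Y : Type*} [TopologicalSpace X] [TopologicalSpace Y]
    (f : X → Y) (hf : Continuous f) (hgen : GeneralizingMap f)
    (hX : ∀ x : X, ∃ N : Set X, IsOpen N ∧ x ∈ N ∧ NoetherianSpace N ∧ QuasiSober N)
    (hY : ∀ y : Y, ∃ N : Set Y, IsOpen N ∧ y ∈ N ∧ NoetherianSpace N ∧ QuasiSober N)
    (U : Set Y) (hU : IsOpen U) (hUd : Dense U) : Dense (f ⁻¹' U) := by
  intro x
  obtain ⟨N, hN, hxN, hNn, hNs⟩ := hX x
  obtain ⟨ξ, hξx, hξmax⟩ := exists_maximal_generalization x N hN hxN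
  have hmax : ∀ ζ : Y, ζ ⤳ f ξ → f ξ ⤳ ζ := by
    intro ζ hζ
    obtain ⟨ξ', hξ', rfl⟩ := hgen hζ
    exact (hξmax ξ' hξ').map hf
  obtain ⟨M, hM, hfM, hMn, hMs⟩ := hY (f ξ)
  have hmem : f ξ ∈ U := mem_of_dense_of_maximal (f ξ) hmax M hM hfM U hU hUd
  have : x ∈ closure ({ξ} : Set X) := specializes_iff_mem_closure.1 hξx
  have hsub : ({ξ} : Set X) ⊆ f ⁻¹' U := Set.singleton_subset_iff.2 hmem
  exact closure_mono hsub this


/-- For a flat morphism f : X → Y between locally Noetherian schemes, the preimage under f of any dense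
open subset of Y is dense in X. -/
theorem result (X Y : Scheme.{u}) [IsLocallyNoetherian X]
    [IsLocallyNoetherian Y] (f : X ⟶ Y) [Flat f] (U : Y.Opens) (hU : Dense (U : Set Y)) :
    Dense ((f ⁻¹ᵁ U : X.Opens) : Set X) := by
  have key : ∀ (Z : Scheme.{u}) [IsLocallyNoetherian Z] (z : Z),
      ∃ N : Set Z, IsOpen N ∧ z ∈ N ∧ NoetherianSpace N ∧ QuasiSober N := by
    intro Z _ z
    obtain ⟨W, hW, hzW, -⟩ := Z.isBasis_affineOpens.exists_subset_of_mem_open
      (Set.mem_univ z) isOpen_univ
    obtain ⟨W, rfl⟩ : ∃ W' : Z.Opens, (W' : Set Z) = W := by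
      obtain ⟨W', _, rfl⟩ := hW; exact ⟨W', rfl⟩
    have hWaff : IsAffineOpen W := by
      obtain ⟨W', hW', hW'eq⟩ := hW
      have : W' = W := TopologicalSpace.Opens.ext hW'eq
      exact this ▸ hW'
    have : IsNoetherianRing Γ(Z, W) := IsLocallyNoetherian.component_noetherian ⟨W, hWaff⟩
    refine ⟨W, W.2, hzW, noetherianSpace_of_isAffineOpen W hWaff, ?_⟩
    exact W.isOpenEmbedding'.quasiSober
  exact dense_preimage_of_generalizing f f.continuous (Flat.generalizingMap f)
    (key X) (key Y) U U.2 hU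

end Groth.Agent.S11142
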