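import Groth.Statements.S11147
import Mathlib.FieldTheory.PurelyInseparable.PerfectClosure
import Mathlib.RingTheory.Unramified.Field
import Mathlib.LinearAlgebra.TensorProduct.Basis
import Mathlib.FieldTheory.IntermediateField.Adjoin.Algebra

set_option autoImplicit false
universe u
open FrobAlg

namespace Groth.Agent.S11147


open TensorProduct FrobAlg in
lemma relFrob_tmul (p : ℕ) [Fact p.Prime] (k K : Type u) [Field k]
    [Field K] [Algebra k K] [CharP k p] [CharP K p] (b : K) (a : Twist p k) :
    relFrob p k K (b ⊗ₜ a) = b ^ p * algebraMap k K ((toTwist p k).symm a) := rfl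

open TensorProduct FrobAlg in
lemma D_relFrob (p : ℕ) [Fact p.Prime] (k K : Type u) [Field k]
    [Field K] [Algebra k K] [CharP k p] [CharP K p] (x : BaseChange p k K) :
    KaehlerDifferential.D k K (relFrob p k K x) = 0 := by
  induction x using TensorProduct.induction_on with
  | zero => simp
  | tmul b a =>
    rw [relFrob_tmul, mul_comm, ← Algebra.smul_def, Derivation.map_smul, Derivation.leibniz_pow]
    rw [← Nat.cast_smul_eq_nsmul K, CharP.cast_eq_zero K p, zero_smul, smul_zero]
  | add x y hx hy => rw [map_add, map_add, hx, hy, add_zero]

/-- Let p be a prime and k ⊆ K fields of characteristic p such that K is finitely generated over k as a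
field. Then the relative Frobenius ring homomorphism K ⊗_{k,Frob} k → K, b ⊗ a ↦ b^p a (the
Radu–André homomorphism of k → K), is bijective exactly when K is algebraic over k and every element
of K is separable over k. -/
theorem result (p : ℕ) [Fact p.Prime] (k K : Type u) [Field k]
    [Field K] [Algebra k K] [CharP k p] [CharP K p] (hfg : (⊤ : IntermediateField k K).FG) :
    Function.Bijective (FrobAlg.relFrob p k K) ↔ Algebra.IsSeparable k K := by
  classical
  constructor
  · intro h
    have : Algebra.EssFiniteType k K := IntermediateField.fg_top_iff.mp hfg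
    have hu : Algebra.FormallyUnramified k K := by
      refine ⟨?_⟩
      rw [← Submodule.subsingleton_iff K, ← subsingleton_iff_bot_eq_top,
        ← KaehlerDifferential.span_range_derivation, eq_comm, Submodule.span_eq_bot]
      rintro _ ⟨y, rfl⟩
      obtain ⟨x, rfl⟩ := h.2 y
      exact D_relFrob p k K x
    exact Algebra.FormallyUnramified.isSeparable k K
  · intro h
    have : ExpChar k p := ExpChar.prime (Fact.out : p.Prime)
    let b := Module.Basis.ofVectorSpace k K
    let b' := b.mapPowExpCharPowOfIsSeparable p 1
    have hb' : ∀ i, b' i = b i ^ p := fun i => by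
      simp [b', Module.Basis.mapPowExpCharPowOfIsSeparable]
    constructor
    · rw [injective_iff_map_eq_zero]
      intro x hx
      obtain ⟨c, rfl⟩ := TensorProduct.eq_repr_basis_left b x
      have h1 : Finsupp.linearCombination k b'
          (c.mapRange (FrobAlg.toTwist p k).symm (map_zero _)) = 0 := by
        rw [← hx, Finsupp.linearCombination_apply, Finsupp.sum_mapRange_index (by simp),
          Finsupp.sum, Finsupp.sum, map_sum]
        refine Finset.sum_congr rfl fun i _ => ?_
        rw [relFrob_tmul, hb', Algebra.smul_def, mul_comm]
      have h2 := (linearIndependent_iff.mp b'.linearIndependent) _ h1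
      have h3 : c = 0 := by
        ext i
        have := DFunLike.congr_fun h2 i
        simpa using this
      rw [h3]; simp
    · intro y
      refine ⟨(b'.repr y).sum fun i a => b i ⊗ₜ[k] (FrobAlg.toTwist p k a), ?_⟩
      conv_rhs => rw [← b'.linearCombination_repr y]
      rw [Finsupp.linearCombination_apply, Finsupp.sum, Finsupp.sum, map_sum]
      refine Finset.sum_congr rfl fun i _ => ?_
      rw [relFrob_tmul, hb', Algebra.smul_def, mul_comm, RingEquiv.symm_apply_apply]

end Groth.Agent.S11147
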