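import Groth.Statements.S11153
import Mathlib.Algebra.Homology.DerivedCategory.KInjective
import Mathlib.Algebra.Homology.HomotopyCategory.Plus
import Mathlib.Algebra.Homology.HomotopyCategory.KInjective
import Mathlib.Algebra.Homology.Factorizations.CM5a
import Mathlib.Algebra.Homology.DerivedCategory.SingleTriangle

set_option autoImplicit false
universe w v u
open CategoryTheory CategoryTheory.Limits
open CohDer

namespace Groth.Agent.S11153


open DerivedCategory in
lemma Q_map_surjective_of_isKInjective {A : Type u} [Category.{v} A] [Abelian A]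
    [HasDerivedCategory.{w} A] (K L : CochainComplex A ℤ) [L.IsKInjective]
    (α : Q.obj K ⟶ Q.obj L) : ∃ φ : K ⟶ L, Q.map φ = α := by
  obtain ⟨β, hβ⟩ := (CochainComplex.IsKInjective.Qh_map_bijective
    ((HomotopyCategory.quotient _ _).obj K) L).surjective
    ((quotientCompQhIso A).hom.app K ≫ α ≫ (quotientCompQhIso A).inv.app L)
  obtain ⟨φ, rfl⟩ := (HomotopyCategory.quotient _ _).map_surjective β
  refine ⟨φ, ?_⟩
  have h := quotientCompQhIso_hom_naturality (C := A) φ
  rw [hβ] at h
  simp only [Category.assoc, Iso.inv_hom_id_app, Category.comp_id] at h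
  exact ((cancel_epi ((quotientCompQhIso A).hom.app K)).mp h).symm

open DerivedCategory in
lemma homotopy_of_Q_map_eq_zero {A : Type u} [Category.{v} A] [Abelian A]
    [HasDerivedCategory.{w} A] (K L : CochainComplex A ℤ) [L.IsKInjective]
    (g : K ⟶ L) (hg : Q.map g = 0) : Nonempty (Homotopy g 0) := by
  have h := quotientCompQhIso_hom_naturality (C := A) g
  rw [hg, comp_zero] at h
  have h2 : Qh.map ((HomotopyCategory.quotient _ _).map g) = 0 := by
    have : IsIso ((quotientCompQhIso A).hom.app L) := inferInstance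
    exact (cancel_mono ((quotientCompQhIso A).hom.app L)).mp (by rw [zero_comp]; exact h)
  have h3 : (HomotopyCategory.quotient _ _).map g = (HomotopyCategory.quotient _ _).map 0 := by
    apply (CochainComplex.IsKInjective.Qh_map_bijective
      ((HomotopyCategory.quotient _ _).obj K) L).injective
    rw [h2, Functor.map_zero, Functor.map_zero]
  exact ⟨HomotopyCategory.homotopyOfEq _ _ h3⟩

open DerivedCategory in
lemma forward {A : Type u} [Category.{v} A] [Abelian A] [HasDerivedCategory.{w} A]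
    (K I : CochainComplex A ℤ) (b c : ℤ) (f : K ⟶ I) [I.IsStrictlyGE b] [I.IsStrictlyLE c]
    (hinj : ∀ n, Injective (I.X n)) [QuasiIso f] (Y : A) (i : ℤ) (hi : c < i)
    (φ : (DerivedCategory.singleFunctor A 0).obj Y ⟶ (Q.obj K)⟦i⟧) : φ = 0 := by
  let e : (Q.obj K)⟦i⟧ ≅ Q.obj (I⟦i⟧) :=
    (shiftFunctor (DerivedCategory A) i).mapIso (asIso (Q.map f)) ≪≫
      ((Q.commShiftIso i).app I).symm
  let s : (DerivedCategory.singleFunctor A 0).obj Y ≅
      Q.obj ((CochainComplex.singleFunctor A 0).obj Y) :=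
    (singleFunctorIsoCompQ A 0).app Y
  have hGE : (I⟦i⟧).IsStrictlyGE (b - i) := I.isStrictlyGE_shift b i (b - i) (by omega)
  have hinj' : ∀ n, Injective ((I⟦i⟧).X n) := fun n => hinj (n + i)
  have hKI : (I⟦i⟧).IsKInjective := CochainComplex.isKInjective_of_injective (I⟦i⟧) (b - i)
  obtain ⟨g, hg⟩ := Q_map_surjective_of_isKInjective _ (I⟦i⟧) (s.inv ≫ φ ≫ e.hom)
  have hg0 : g = 0 := by
    apply HomologicalComplex.from_single_hom_ext
    apply IsZero.eq_of_tgt
    exact I.isZero_of_isStrictlyLE c (0 + i) (by omega)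
  rw [hg0, Functor.map_zero] at hg
  have : φ ≫ e.hom = 0 := by
    rw [← cancel_epi s.inv, comp_zero]
    exact hg.symm
  rw [← cancel_mono e.hom, zero_comp]
  exact this



/-- the differential of the shifted complex, with explicit isomorphisms -/
lemma shift_d_conj {A : Type u} [Category.{v} A] [Abelian A] (J : CochainComplex A ℤ)
    (i p q m m' : ℤ) (hm : m = p + i) (hm' : m' = q + i) :
    (J⟦i⟧).d p q = i.negOnePow • ((J.shiftFunctorObjXIso i p m hm).hom ≫ J.d m m' ≫
      (J.shiftFunctorObjXIso i q m' hm').inv) := by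
  subst hm hm'
  simp only [CochainComplex.shiftFunctorObjXIso, HomologicalComplex.XIsoOfEq_rfl, Iso.refl_hom,
    Iso.refl_inv, CochainComplex.shiftFunctor_obj_d']
  erw [Category.id_comp, Category.comp_id]
  rfl

/-- a null-homotopic map out of a single complex: the degree-0 component factors through `d` -/
lemma single_homotopy_factor {A : Type u} [Category.{v} A] [Abelian A]
    (J : CochainComplex A ℤ) (i : ℤ) (Z : A) (ψ : Z ⟶ J.X i) (hψ : ∀ j, ψ ≫ J.d i j = 0)
    (hh : ∀ (g : (HomologicalComplex.single A (ComplexShape.up ℤ) 0).obj Z ⟶ J⟦i⟧),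
      Nonempty (Homotopy g 0)) :
    ∃ h' : Z ⟶ J.X (i - 1), h' ≫ J.d (i - 1) i = ψ := by
  have hψ' : ∀ k, (ComplexShape.up ℤ).Rel 0 k →
      (ψ ≫ (J.shiftFunctorObjXIso i 0 i (by omega)).inv) ≫ (J⟦i⟧).d 0 k = 0 := by
    intro k _
    rw [shift_d_conj J i 0 k i (k + i) (by omega) rfl, Linear.comp_units_smul, Category.assoc,
      Iso.inv_hom_id_assoc, reassoc_of% (hψ (k + i)), zero_comp, smul_zero]
  obtain ⟨h⟩ := hh (HomologicalComplex.mkHomFromSingle _ hψ')
  have hc := h.comm 0
  rw [HomologicalComplex.zero_f, add_zero,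
    prevD_eq _ (show (ComplexShape.up ℤ).Rel (-1) 0 by simp),
    dNext_eq _ (show (ComplexShape.up ℤ).Rel 0 1 by simp)] at hc
  have hd : ((HomologicalComplex.single A (ComplexShape.up ℤ) 0).obj Z).d 0 1 = 0 := by
    apply IsZero.eq_of_tgt
    exact HomologicalComplex.isZero_single_obj_X _ _ _ _ (by simp)
  replace hc : (HomologicalComplex.singleObjXSelf (ComplexShape.up ℤ) 0 Z).hom ≫
      (ψ ≫ (J.shiftFunctorObjXIso i 0 i (by omega)).inv) =
      i.negOnePow • (h.hom 0 (-1) ≫ (J.shiftFunctorObjXIso i (-1) (i - 1) (by omega)).hom ≫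
        J.d (i - 1) i ≫ (J.shiftFunctorObjXIso i 0 i (by omega)).inv) := by
    rw [← HomologicalComplex.mkHomFromSingle_f _ hψ', hc, hd, zero_comp,
      shift_d_conj J i (-1) 0 (i - 1) i (by omega) (by omega), Linear.comp_units_smul]
    exact zero_add _
  refine ⟨i.negOnePow • ((HomologicalComplex.singleObjXSelf (ComplexShape.up ℤ) 0 Z).inv ≫
    h.hom 0 (-1) ≫ (J.shiftFunctorObjXIso i (-1) (i - 1) (by omega)).hom), ?_⟩
  have h2 : ψ = (HomologicalComplex.singleObjXSelf (ComplexShape.up ℤ) 0 Z).inv ≫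
      ((HomologicalComplex.singleObjXSelf (ComplexShape.up ℤ) 0 Z).hom ≫
        ψ ≫ (J.shiftFunctorObjXIso i 0 i (by omega)).inv) ≫
        (J.shiftFunctorObjXIso i 0 i (by omega)).hom := by
    simp only [Category.assoc, Iso.inv_hom_id, Category.comp_id, Iso.inv_hom_id_assoc]
  conv_rhs => rw [h2, hc]
  simp only [Linear.units_smul_comp, Linear.comp_units_smul, Category.assoc, Iso.inv_hom_id,
    Category.comp_id]


open DerivedCategory in
lemma exists_section {A : Type u} [Category.{v} A] [Abelian A] [HasDerivedCategory.{w} A]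
    (J : CochainComplex A ℤ) (b : ℤ) [J.IsStrictlyGE b] (hinj : ∀ n, Injective (J.X n)) (i : ℤ)
    (hvan : ∀ (Y : A) (φ : (DerivedCategory.singleFunctor A 0).obj Y ⟶ (Q.obj J)⟦i⟧), φ = 0) :
    ∃ h' : J.cycles i ⟶ J.X (i - 1), h' ≫ J.d (i - 1) i = J.iCycles i := by
  have hGE : (J⟦i⟧).IsStrictlyGE (b - i) := J.isStrictlyGE_shift b i (b - i) (by omega)
  have hinj' : ∀ n, Injective ((J⟦i⟧).X n) := fun n => hinj (n + i)
  have hKI : (J⟦i⟧).IsKInjective := CochainComplex.isKInjective_of_injective (J⟦i⟧) (b - i)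
  apply single_homotopy_factor J i (J.cycles i) (J.iCycles i) (fun j => J.iCycles_d i j)
  intro g
  apply homotopy_of_Q_map_eq_zero
  let s := (singleFunctorIsoCompQ A 0).app (J.cycles i)
  have := hvan (J.cycles i) (s.hom ≫ Q.map g ≫ ((Q.commShiftIso i).app J).hom)
  have h3 : s.hom ≫ (Q.map g ≫ ((Q.commShiftIso i).app J).hom) = s.hom ≫ 0 := by
    rw [comp_zero]; exact this
  have h4 := (cancel_epi s.hom).mp h3
  have h5 : Q.map g ≫ ((Q.commShiftIso i).app J).hom = 0 ≫ ((Q.commShiftIso i).app J).hom := by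
    rw [zero_comp]; exact h4
  exact (cancel_mono _).mp h5

/-- consequences of the section -/
lemma cycles_injective_of_section {A : Type u} [Category.{v} A] [Abelian A]
    (J : CochainComplex A ℤ) (i : ℤ) [Injective (J.X (i - 1))]
    (h' : J.cycles i ⟶ J.X (i - 1)) (hh' : h' ≫ J.d (i - 1) i = J.iCycles i) :
    Injective (J.cycles i) ∧ J.ExactAt i := by
  have h1 : h' ≫ J.toCycles (i - 1) i = 𝟙 _ := by
    rw [← cancel_mono (J.iCycles i), Category.assoc, J.toCycles_i, hh', Category.id_comp]
  refine ⟨Retract.injective ⟨h', J.toCycles (i - 1) i, h1⟩, ?_⟩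
  have : Epi (J.toCycles (i - 1) i) := SplitEpi.epi ⟨h', h1⟩
  rw [HomologicalComplex.exactAt_iff_isZero_homology]
  have h2 : J.homologyπ i = 0 := by
    rw [← cancel_epi (J.toCycles (i - 1) i), HomologicalComplex.toCycles_comp_homologyπ, comp_zero]
  exact IsZero.of_epi_eq_zero _ h2


/-- (i) ⇔ (iii): let A be an abelian category with enough injectives and K a bounded below cochain
complex of objects of A. Then K admits a quasi-isomorphism into a bounded complex of injective
objects of A if and only if there is an integer n₀ such that Hom_{D(A)}(Y[0], K[i]) = 0 for every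
object Y of A and every i > n₀. -/
theorem result {A : Type u} [Category.{v} A] [Abelian A]
    [HasDerivedCategory.{w} A] [EnoughInjectives A]
    (K : CochainComplex A ℤ) (a : ℤ) [K.IsStrictlyGE a] :
    (∃ (I : CochainComplex A ℤ) (b c : ℤ) (f : K ⟶ I), I.IsStrictlyGE b ∧ I.IsStrictlyLE c ∧
        (∀ n : ℤ, Injective (I.X n)) ∧ QuasiIso f) ↔
      ∃ n₀ : ℤ, ∀ (Y : A) (i : ℤ), n₀ < i →
        ∀ φ : (DerivedCategory.singleFunctor A 0).obj Y ⟶ (DerivedCategory.Q.obj K)⟦i⟧, φ = 0 := by
  constructor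
  · rintro ⟨I, b, c, f, hb, hc, hinj, hf⟩
    exact ⟨c, fun Y i hi φ => forward K I b c f hinj Y i hi φ⟩
  · rintro ⟨n₀, hvan⟩
    obtain ⟨J, j, hj, hJinj, hJGE⟩ :=
      CochainComplex.Plus.modelCategoryQuillen.exists_quasiIso_injective K a
    have hvanJ : ∀ i, n₀ < i → ∀ (Y : A)
        (φ : (DerivedCategory.singleFunctor A 0).obj Y ⟶ (DerivedCategory.Q.obj J)⟦i⟧), φ = 0 := by
      intro i hi Y φ
      let e : (DerivedCategory.Q.obj K)⟦i⟧ ≅ (DerivedCategory.Q.obj J)⟦i⟧ :=
        (shiftFunctor (DerivedCategory A) i).mapIso (asIso (DerivedCategory.Q.map j))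
      have := hvan Y i hi (φ ≫ e.inv)
      rw [← cancel_mono e.inv, zero_comp]
      exact this
    have hsec : ∀ i, max n₀ a + 1 ≤ i → Injective (J.cycles i) ∧ J.ExactAt i := by
      intro i hi
      obtain ⟨h', hh'⟩ := exists_section J a hJinj i
        (hvanJ i (by have := le_max_left n₀ a; omega))
      have := hJinj (i - 1)
      exact cycles_injective_of_section J i h' hh'
    have hLE : J.IsLE (max n₀ a + 1) := by
      rw [CochainComplex.isLE_iff]
      intro i hi
      exact (hsec i (by omega)).2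
    have hqi : QuasiIso (J.ιTruncLE (max n₀ a + 1)) :=
      (J.quasiIso_ιTruncLE_iff (max n₀ a + 1)).mpr hLE
    have hIinj : ∀ n, Injective ((J.truncLE (max n₀ a + 1)).X n) := by
      intro n
      rcases lt_trichotomy n (max n₀ a + 1) with h | rfl | h
      · exact Injective.of_iso (J.truncLEXIso (max n₀ a + 1) n h).symm (hJinj n)
      · exact Injective.of_iso (J.truncLEXIsoCycles (max n₀ a + 1)).symm (hsec _ le_rfl).1
      · exact ((J.truncLE (max n₀ a + 1)).isZero_of_isStrictlyLE (max n₀ a + 1) n h).injective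
    have hIGE : (J.truncLE (max n₀ a + 1)).IsStrictlyGE a := by
      rw [CochainComplex.isStrictlyGE_iff]
      intro i hi
      exact IsZero.of_iso (J.isZero_of_isStrictlyGE a i hi)
        (J.truncLEXIso (max n₀ a + 1) i (by have := le_max_right n₀ a; omega))
    have hIKI : (J.truncLE (max n₀ a + 1)).IsKInjective :=
      CochainComplex.isKInjective_of_injective _ a
    have hQj : IsIso (DerivedCategory.Q.map j) := inferInstance
    have hQι : IsIso (DerivedCategory.Q.map (J.ιTruncLE (max n₀ a + 1))) := inferInstance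
    obtain ⟨f, hf⟩ := Q_map_surjective_of_isKInjective K (J.truncLE (max n₀ a + 1))
      (DerivedCategory.Q.map j ≫ inv (DerivedCategory.Q.map (J.ιTruncLE (max n₀ a + 1))))
    refine ⟨J.truncLE (max n₀ a + 1), a, max n₀ a + 1, f, hIGE, inferInstance, hIinj, ?_⟩
    rw [← DerivedCategory.isIso_Q_map_iff_quasiIso, hf]
    infer_instance

end Groth.Agent.S11153
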