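import Groth.Statements.S11154
import Groth.Agent.Lib.Helper19.InjTilde3
import Groth.Agent.Lib.Helper19.FpqcModDesc
import Groth.Agent.Lib.Helper49.QcqsModules

set_option autoImplicit false
universe u
open CategoryTheory CategoryTheory.Limits AlgebraicGeometry
open Coherent

namespace Groth.Agent.S11154

/-- The canonical morphism `Spec 𝒪_{X,x} ⟶ X` is flat. -/
theorem flat_fromSpecStalk (X : Scheme.{u}) (x : ↥X) : Flat (X.fromSpecStalk x) := by
  let U := (X.affineCover.f (X.affineCover.idx x)).opensRange
  have hU : IsAffineOpen U := isAffineOpen_opensRange _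
  have hxU : x ∈ U := X.affineCover.covers x
  rw [← hU.fromSpecStalk_eq_fromSpecStalk hxU, IsAffineOpen.fromSpecStalk]
  have : Flat (Spec.map (X.presheaf.germ U x hxU)) := by
    rw [HasRingHomProperty.Spec_iff (P := @Flat)]
    let := X.presheaf.algebra_section_stalk (U := U) ⟨x, hxU⟩
    have := hU.isLocalization_stalk ⟨x, hxU⟩
    exact IsLocalization.flat _ (hU.primeIdealOf ⟨x, hxU⟩).asIdeal.primeCompl
  infer_instance

/-- Let X be a locally Noetherian scheme, x a point of X, and k(x) → E an injective hull of the residue
field over the local ring O_{X,x}. Then the direct image along Spec O_{X,x} ⟶ X of the sheaf E~ on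
Spec O_{X,x} is an injective O_X-module (an injective object of the category of O_X-modules), and it
is quasi-coherent. -/
theorem result {X : Scheme.{u}} [IsLocallyNoetherian X]
    (x : X) (E : Type u) [AddCommGroup E] [Module (X.presheaf.stalk x) E]
    (i : IsLocalRing.ResidueField (X.presheaf.stalk x) →ₗ[X.presheaf.stalk x] E)
    (hi : InjHull.IsInjectiveHull i) :
    Injective ((Scheme.Modules.pushforward (X.fromSpecStalk x)).obj
        (tilde (ModuleCat.of (X.presheaf.stalk x) E))) ∧
      Coh.IsQCoh ((Scheme.Modules.pushforward (X.fromSpecStalk x)).obj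
        (tilde (ModuleCat.of (X.presheaf.stalk x) E))) := by
  have hflat : Flat (X.fromSpecStalk x) := flat_fromSpecStalk X x
  have hN : IsNoetherianRing (X.presheaf.stalk x) := inferInstance
  constructor
  · have h1 : Injective (tilde (ModuleCat.of (X.presheaf.stalk x) E)) :=
      Groth.Agent.Helper19.InjTilde.injective_tilde (R := X.presheaf.stalk x)
        (ModuleCat.of (X.presheaf.stalk x) E) hi.isInjective
    have : (Scheme.Modules.pullback (X.fromSpecStalk x)).PreservesMonomorphisms :=
      ⟨fun v _ => Groth.Agent.Helper19.FpqcModDesc.mono_pullback_of_flat (X.fromSpecStalk x) v⟩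
    exact Injective.injective_of_adjoint
      (Scheme.Modules.pullbackPushforwardAdjunction (X.fromSpecStalk x)) _
  · have : TopologicalSpace.NoetherianSpace (Spec (X.presheaf.stalk x)) := inferInstance
    have hqc : QuasiCompact (X.fromSpecStalk x) :=
      ⟨fun U _ _ => TopologicalSpace.NoetherianSpace.isCompact _⟩
    have hqs : QuasiSeparated (X.fromSpecStalk x) := inferInstance
    exact Groth.Agent.Lib.Helper49.isQuasicoherent_pushforward _ (X.fromSpecStalk x)

end Groth.Agent.S11154
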