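import Groth.Statements.S11159
import Mathlib.Algebra.Homology.DerivedCategory.KInjective
import Mathlib.Algebra.Homology.HomotopyCategory.Plus
import Mathlib.Algebra.Homology.HomotopyCategory.KInjective

set_option autoImplicit false
universe w v u
open CategoryTheory CategoryTheory.Limits CategoryTheory.Pretriangulated
open CohDer

namespace Groth.Agent.S11159


open DerivedCategory in
lemma Q_map_surjective_of_isKInjective {A : Type u} [Category.{v} A] [Abelian A]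
    [HasDerivedCategory.{w} A] (K L : CochainComplex A ℤ) [L.IsKInjective]
    (α : Q.obj K ⟶ Q.obj L) : ∃ φ : K ⟶ L, Q.map φ = α := by
  obtain ⟨β, hβ⟩ := (CochainComplex.IsKInjective.Qh_map_bijective
    ((HomotopyCategory.quotient _ _).obj K) L).surjective
    ((quotientCompQhIso A).hom.app K ≫ α ≫ (quotientCompQhIso A).inv.app L)
  obtain ⟨φ, rfl⟩ := (HomotopyCategory.quotient _ _).map_surjective β
  refine ⟨φ, ?_⟩
  have h := quotientCompQhIso_hom_naturality (C := A) φ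
  rw [hβ] at h
  simp only [Category.assoc, Iso.inv_hom_id_app, Category.comp_id] at h
  exact ((cancel_epi ((quotientCompQhIso A).hom.app K)).mp h).symm

/-- Let A be an abelian category with enough injectives and X ⟶ Y ⟶ Z ⟶ X⟦1⟧ a distinguished triangle in
D(A). If X and Z are each isomorphic in D(A) to a bounded complex of injective objects of A, then so
is Y. -/
theorem result {A : Type u} [Category.{v} A] [Abelian A]
    [HasDerivedCategory.{w} A] [EnoughInjectives A]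
    (T : Triangle (DerivedCategory A)) (hT : T ∈ distTriang (DerivedCategory A))
    (h₁ : (∃ (I : CochainComplex A ℤ) (b c : ℤ), I.IsStrictlyGE b ∧ I.IsStrictlyLE c ∧
        (∀ n : ℤ, Injective (I.X n)) ∧ Nonempty (T.obj₁ ≅ DerivedCategory.Q.obj I)))
    (h₃ : (∃ (I : CochainComplex A ℤ) (b c : ℤ), I.IsStrictlyGE b ∧ I.IsStrictlyLE c ∧
        (∀ n : ℤ, Injective (I.X n)) ∧ Nonempty (T.obj₃ ≅ DerivedCategory.Q.obj I))) :
    (∃ (I : CochainComplex A ℤ) (b c : ℤ), I.IsStrictlyGE b ∧ I.IsStrictlyLE c ∧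
        (∀ n : ℤ, Injective (I.X n)) ∧ Nonempty (T.obj₂ ≅ DerivedCategory.Q.obj I)) := by
  obtain ⟨I₁, b₁, c₁, hb₁, hc₁, hinj₁, ⟨e₁⟩⟩ := h₁
  obtain ⟨I₃, b₃, c₃, hb₃, hc₃, hinj₃, ⟨e₃⟩⟩ := h₃
  have hKI : I₁.IsKInjective := CochainComplex.isKInjective_of_injective I₁ b₁
  have hT' := inv_rot_of_distTriang T hT
  let iso₁ : T.invRotate.obj₁ ≅ DerivedCategory.Q.obj (I₃⟦(-1 : ℤ)⟧) :=
    (shiftFunctor (DerivedCategory A) (-1 : ℤ)).mapIso e₃ ≪≫
      ((DerivedCategory.Q.commShiftIso (-1 : ℤ)).app I₃).symm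
  let iso₂ : T.invRotate.obj₂ ≅ DerivedCategory.Q.obj I₁ := e₁
  obtain ⟨φ, hφ⟩ := Q_map_surjective_of_isKInjective (I₃⟦(-1 : ℤ)⟧) I₁
    (iso₁.inv ≫ T.invRotate.mor₁ ≫ iso₂.hom)
  have hT'' := DerivedCategory.mappingCone_triangle_distinguished φ
  have e := isoTriangleOfIso₁₂ T.invRotate _ hT' hT'' iso₁ iso₂ (by
    change T.invRotate.mor₁ ≫ iso₂.hom = iso₁.hom ≫ DerivedCategory.Q.map φ
    rw [hφ, Iso.hom_inv_id_assoc])
  have e₂ : T.obj₂ ≅ DerivedCategory.Q.obj (CochainComplex.mappingCone φ) :=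
    Triangle.π₃.mapIso e
  have hGE : (I₃⟦(-1 : ℤ)⟧).IsStrictlyGE (b₃ + 1) :=
    I₃.isStrictlyGE_shift b₃ (-1) (b₃ + 1) (by omega)
  have hLE : (I₃⟦(-1 : ℤ)⟧).IsStrictlyLE (c₃ + 1) :=
    I₃.isStrictlyLE_shift c₃ (-1) (c₃ + 1) (by omega)
  refine ⟨CochainComplex.mappingCone φ, min b₃ b₁, max c₃ c₁, ?_, ?_, ?_, ⟨e₂⟩⟩
  · exact CochainComplex.isStrictlyGE_mappingCone φ (b₃ + 1) b₁ _
      (by have := min_le_left b₃ b₁; omega) (min_le_right _ _)
  · rw [CochainComplex.isStrictlyLE_iff]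
    intro i hi
    rw [CochainComplex.mappingCone.isZero_X_iff]
    exact ⟨(I₃⟦(-1 : ℤ)⟧).isZero_of_isStrictlyLE (c₃ + 1) _
        (by have := le_max_left c₃ c₁; omega),
      I₁.isZero_of_isStrictlyLE c₁ _ (by have := le_max_right c₃ c₁; omega)⟩
  · intro n
    have : Injective ((I₃⟦(-1 : ℤ)⟧).X (n + 1)) := by
      change Injective (I₃.X (n + 1 + -1))
      infer_instance
    exact Injective.of_iso
      (HomologicalComplex.homotopyCofiber.XIsoBiprod φ n (n + 1) rfl).symm inferInstance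

end Groth.Agent.S11159
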