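import Groth.Statements.S11160
import Groth.Agent.Lib.Helper35.ConeRep
import Mathlib.Algebra.Homology.Factorizations.CM5a

set_option autoImplicit false
set_option linter.unusedSectionVars false
universe w w' v v' u u'
open CategoryTheory CategoryTheory.Limits
open CohDer

namespace Groth.Agent.S11160

section Homotopy

variable {C : Type u} [Category.{v} C] [Preadditive C] {D : Type u'} [Category.{v'} D] [Preadditive D]
  (F : C ⥤ D) [F.Additive] [F.Full] [F.Faithful] {ι : Type*} {c : ComplexShape ι}

/-- Null-homotopies can be lifted along a fully faithful additive functor. -/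
noncomputable def homotopyPreimage {K L : HomologicalComplex C c} (γ : K ⟶ L)
    (h : Homotopy ((F.mapHomologicalComplex c).map γ) 0) : Homotopy γ 0 where
  hom i j := F.preimage (h.hom i j)
  zero i j hij := by
    apply F.map_injective
    rw [F.map_preimage, F.map_zero]
    exact h.zero i j hij
  comm i := by
    apply F.map_injective
    have h1 := h.comm i
    rw [HomologicalComplex.zero_f, add_zero] at h1 ⊢
    rw [F.map_add]
    change F.map (γ.f i) = _ at h1
    rw [h1]
    congr 1
    · change ((F.mapHomologicalComplex c).obj K).d i (c.next i) ≫ h.hom (c.next i) i =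
        F.map (K.d i (c.next i) ≫ F.preimage (h.hom (c.next i) i))
      rw [F.map_comp, F.map_preimage]
      rfl
    · change h.hom i (c.prev i) ≫ ((F.mapHomologicalComplex c).obj L).d (c.prev i) i =
        F.map (F.preimage (h.hom i (c.prev i)) ≫ L.d (c.prev i) i)
      rw [F.map_comp, F.map_preimage]
      rfl

end Homotopy

section KInj

open DerivedCategory CochainComplex

variable {C : Type u} [Category.{v} C] [Abelian C] [HasDerivedCategory.{w} C]

theorem Q_map_eq_of_homotopy {E₁ E₂ : CochainComplex C ℤ} (f g : E₁ ⟶ E₂) (h : Homotopy f g) :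
    Q.map f = Q.map g := by
  have h1 := quotientCompQhIso_hom_naturality f
  have h2 := quotientCompQhIso_hom_naturality g
  rw [HomotopyCategory.eq_of_homotopy f g h, h2] at h1
  exact ((cancel_epi _).mp h1).symm

theorem homotopy_of_Q_map_eq_of_isKInjective {E₁ E₂ : CochainComplex C ℤ} [E₂.IsKInjective]
    (f g : E₁ ⟶ E₂) (h : Q.map f = Q.map g) : Nonempty (Homotopy f g) := by
  have h1 := quotientCompQhIso_hom_naturality f
  have h2 := quotientCompQhIso_hom_naturality g
  rw [h, ← h2] at h1
  have h3 := (cancel_mono _).mp h1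
  exact ⟨HomotopyCategory.homotopyOfEq f g
    ((IsKInjective.Qh_map_bijective ((HomotopyCategory.quotient C (ComplexShape.up ℤ)).obj E₁) E₂).1 h3)⟩

end KInj

section Main

open DerivedCategory

variable {A' : Type u'} [Category.{v'} A'] [Abelian A'] [HasDerivedCategory.{w'} A']
  {A : Type u} [Category.{v} A] [Abelian A] [HasDerivedCategory.{w} A]
  (ι : A' ⥤ A) [ι.Additive] [PreservesFiniteLimits ι] [PreservesFiniteColimits ι] [ι.Full] [ι.Faithful]

theorem injective_of_injective_map (Y' : A') (h : Injective (ι.obj Y')) : Injective Y' where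
  factors {X Z} g f _ := by
    have : Mono (ι.map f) := inferInstance
    obtain ⟨k, hk⟩ := Injective.factors (ι.map g) (ι.map f)
    exact ⟨ι.preimage k, ι.map_injective (by rw [ι.map_comp, ι.map_preimage, hk])⟩

variable (hinj : ∀ X' : A', ∃ (Y' : A') (i : X' ⟶ Y'), Mono i ∧ Injective (ι.obj Y'))

include hinj

theorem enoughInjectives : EnoughInjectives A' where
  presentation X' := by
    obtain ⟨Y', i, hi, hY⟩ := hinj X'
    exact ⟨⟨Y', injective_of_injective_map ι Y' hY, i, hi⟩⟩

theorem map_injective_of_injective (J : A') [Injective J] : Injective (ι.obj J) := by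
  obtain ⟨Y', i, hi, hY⟩ := hinj J
  obtain ⟨r, hr⟩ := Injective.factors (𝟙 J) i
  refine ⟨fun {X Z} g f _ => ?_⟩
  obtain ⟨k, hk⟩ := Injective.factors (g ≫ ι.map i) f
  exact ⟨k ≫ ι.map r, by
    rw [← Category.assoc, hk, Category.assoc, ← ι.map_comp, hr, ι.map_id, Category.comp_id]⟩

theorem key (X₀ L : CochainComplex A' ℤ) (b : ℤ) [L.IsStrictlyGE b] [∀ n, Injective (L.X n)] :
    Function.Bijective (fun f : Q.obj X₀ ⟶ Q.obj L => ι.mapDerivedCategory.map f) := by
  have hLK : L.IsKInjective := CochainComplex.isKInjective_of_injective L b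
  have hL' : ∀ n, Injective (((ι.mapHomologicalComplex (ComplexShape.up ℤ)).obj L).X n) :=
    fun n => map_injective_of_injective ι hinj (L.X n)
  have hL's : CochainComplex.IsStrictlyGE ((ι.mapHomologicalComplex (ComplexShape.up ℤ)).obj L) b := by
    rw [CochainComplex.isStrictlyGE_iff]
    intro i hi
    exact ι.map_isZero (L.isZero_of_isStrictlyGE b i hi)
  have hL'K : CochainComplex.IsKInjective ((ι.mapHomologicalComplex (ComplexShape.up ℤ)).obj L) :=
    CochainComplex.isKInjective_of_injective _ b
  constructor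
  · intro f₁ f₂ h12
    dsimp only at h12
    obtain ⟨γ₁, rfl⟩ := Groth.Agent.Lib.Helper35.KL.exists_Q_map_eq_of_isKInjective X₀ L f₁
    obtain ⟨γ₂, rfl⟩ := Groth.Agent.Lib.Helper35.KL.exists_Q_map_eq_of_isKInjective X₀ L f₂
    have n1 := ι.mapDerivedCategoryFactors_hom_naturality γ₁
    have n2 := ι.mapDerivedCategoryFactors_hom_naturality γ₂
    rw [h12, n2] at n1
    have h3 : Q.map ((ι.mapHomologicalComplex (ComplexShape.up ℤ)).map γ₂) =
        Q.map ((ι.mapHomologicalComplex (ComplexShape.up ℤ)).map γ₁) := (cancel_epi _).mp n1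
    have h4 : Q.map ((ι.mapHomologicalComplex (ComplexShape.up ℤ)).map (γ₁ - γ₂)) =
        Q.map (0 : (ι.mapHomologicalComplex (ComplexShape.up ℤ)).obj X₀ ⟶
          (ι.mapHomologicalComplex (ComplexShape.up ℤ)).obj L) := by
      rw [Functor.map_sub, Functor.map_sub, h3, sub_self, Functor.map_zero]
    obtain ⟨h5⟩ := homotopy_of_Q_map_eq_of_isKInjective _ _ h4
    have h6 := homotopyPreimage ι (γ₁ - γ₂) h5
    have h7 := Q_map_eq_of_homotopy _ _ h6
    rw [Functor.map_sub, Functor.map_zero] at h7
    exact sub_eq_zero.mp h7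
  · intro g
    obtain ⟨γ, hγ⟩ := Groth.Agent.Lib.Helper35.KL.exists_Q_map_eq_of_isKInjective
      ((ι.mapHomologicalComplex (ComplexShape.up ℤ)).obj X₀)
      ((ι.mapHomologicalComplex (ComplexShape.up ℤ)).obj L)
      (ι.mapDerivedCategoryFactors.inv.app X₀ ≫ g ≫ ι.mapDerivedCategoryFactors.hom.app L)
    obtain ⟨γ₀, rfl⟩ := (ι.mapHomologicalComplex (ComplexShape.up ℤ)).map_surjective γ
    refine ⟨Q.map γ₀, ?_⟩
    dsimp only
    have n1 := ι.mapDerivedCategoryFactors_hom_naturality γ₀
    rw [hγ, Iso.hom_inv_id_app_assoc] at n1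
    exact (cancel_mono _).mp n1

theorem main (X Y : DerivedCategory A') (b : ℤ) [Y.IsGE b] :
    Function.Bijective (fun f : X ⟶ Y => ι.mapDerivedCategory.map f) := by
  have hEI := enoughInjectives ι hinj
  obtain ⟨K, hK, ⟨eK⟩⟩ := DerivedCategory.exists_iso_Q_obj_of_isGE Y b
  obtain ⟨L, i, hi, hL, hLs⟩ :=
    CochainComplex.Plus.modelCategoryQuillen.exists_quasiIso_injective K b
  have hiso : IsIso (Q.map i) := by
    rw [isIso_Q_map_iff_quasiIso]
    exact hi
  let eY : Y ≅ Q.obj L := eK ≪≫ asIso (Q.map i)
  let eX : Q.obj (Q.objPreimage X) ≅ X := Q.objObjPreimageIso X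
  have hkey := key ι hinj (Q.objPreimage X) L b
  constructor
  · intro f₁ f₂ h12
    dsimp only at h12
    have h1 : eX.hom ≫ f₁ ≫ eY.hom = eX.hom ≫ f₂ ≫ eY.hom := by
      apply hkey.1
      dsimp only
      rw [Functor.map_comp, Functor.map_comp, Functor.map_comp, Functor.map_comp, h12]
    have h2 := (cancel_epi _).mp h1
    exact (cancel_mono _).mp h2
  · intro g
    obtain ⟨f', hf'⟩ := hkey.2 (ι.mapDerivedCategory.map eX.hom ≫ g ≫ ι.mapDerivedCategory.map eY.hom)
    dsimp only at hf'
    refine ⟨eX.inv ≫ f' ≫ eY.inv, ?_⟩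
    dsimp only
    rw [Functor.map_comp, Functor.map_comp, hf']
    simp only [Category.assoc, ← Functor.map_comp, Iso.hom_inv_id]
    rw [CategoryTheory.Functor.map_id, Category.comp_id, ← Category.assoc, ← Functor.map_comp,
      Iso.inv_hom_id, CategoryTheory.Functor.map_id, Category.id_comp]

end Main



/-- Let ι : A' ⥤ A be an exact fully faithful functor of abelian categories whose essential image is
closed under extensions (a thick abelian subcategory), and suppose every object of A' admits a
monomorphism into an object of A' whose image in A is injective (A' has enough A-injectives). Then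
the induced triangulated functor D(A') ⥤ D(A) is fully faithful on cohomologically bounded below
objects. -/
theorem result {A' : Type u'} [Category.{v'} A'] [Abelian A'] [HasDerivedCategory.{w'} A']
    {A : Type u} [Category.{v} A] [Abelian A] [HasDerivedCategory.{w} A]
    (ι : A' ⥤ A) [ι.Additive] [PreservesFiniteLimits ι] [PreservesFiniteColimits ι] [ι.Full] [ι.Faithful]
    (hext : ∀ S : ShortComplex A, S.ShortExact → ι.essImage S.X₁ → ι.essImage S.X₃ → ι.essImage S.X₂)
    (hinj : ∀ X' : A', ∃ (Y' : A') (i : X' ⟶ Y'), Mono i ∧ Injective (ι.obj Y'))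
    (X Y : DerivedCategory A') (a b : ℤ) [X.IsGE a] [Y.IsGE b] :
    Function.Bijective (fun f : X ⟶ Y => ι.mapDerivedCategory.map f) := by
  exact main ι hinj X Y b

end Groth.Agent.S11160
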