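import Groth.Statements.S11161
-- import your own Groth.Agent.* helpers here
import Groth.Agent.Lib.Helper32.RightResSub

set_option autoImplicit false
universe w w' v v' u u'
open CategoryTheory CategoryTheory.Limits
open CohDer

namespace Groth.Agent.S11161

open Groth.Agent.Lib.Helper32 in

/-- Let ι : A' ⥤ A be an exact fully faithful functor of abelian categories whose essential image is
closed under extensions, and suppose every object of A' admits a monomorphism into an object of A'
whose image in A is injective. Then every object Z of D(A) with H^i(Z) = 0 for i < a and all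
cohomology objects in the essential image of ι is isomorphic to the image under D(A') ⥤ D(A) of a
complex I of objects of A', zero in degrees < a, whose terms are injective in A. -/
theorem result {A' : Type u'} [Category.{v'} A'] [Abelian A'] [HasDerivedCategory.{w'} A']
    {A : Type u} [Category.{v} A] [Abelian A] [HasDerivedCategory.{w} A]
    (ι : A' ⥤ A) [ι.Additive] [PreservesFiniteLimits ι] [PreservesFiniteColimits ι] [ι.Full] [ι.Faithful]
    (hext : ∀ S : ShortComplex A, S.ShortExact → ι.essImage S.X₁ → ι.essImage S.X₃ → ι.essImage S.X₂)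
    (hinj : ∀ X' : A', ∃ (Y' : A') (i : X' ⟶ Y'), Mono i ∧ Injective (ι.obj Y'))
    (Z : DerivedCategory A) (a : ℤ) [Z.IsGE a]
    (hZ : ∀ i : ℤ, ι.essImage ((DerivedCategory.homologyFunctor A i).obj Z)) :
    ∃ (I : CochainComplex A' ℤ), I.IsStrictlyGE a ∧ (∀ n : ℤ, Injective (ι.obj (I.X n))) ∧
      Nonempty (ι.mapDerivedCategory.obj (DerivedCategory.Q.obj I) ≅ Z) := by
  obtain ⟨K, hK, ⟨e⟩⟩ := DerivedCategory.exists_iso_Q_obj_of_isGE Z a
  let J : A → Prop := fun X => ι.essImage X
  have hiso : ∀ {X Y : A} (_ : X ≅ Y), J X → J Y := fun e h => ι.essImage.prop_of_iso e h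
  have emb : ∀ X : A, J X → ∃ (Y : A) (i : X ⟶ Y), Mono i ∧ J Y ∧ Injective Y := by
    intro X hX
    obtain ⟨Y', i, hi, hY'⟩ := hinj (Functor.essImage.witness hX)
    haveI := hi
    exact ⟨ι.obj Y', (Functor.essImage.getIso hX).inv ≫ ι.map i, inferInstance,
      ι.obj_mem_essImage Y', hY'⟩
  have cok : ∀ {X Y : A} (f : X ⟶ Y), J X → J Y → J (cokernel f) := by
    intro X Y f hX hY
    let f' := ι.preimage ((Functor.essImage.getIso hX).hom ≫ f ≫ (Functor.essImage.getIso hY).inv)
    have e1 : cokernel (ι.map f') ≅ cokernel f :=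
      cokernel.mapIso _ _ (Functor.essImage.getIso hX) (Functor.essImage.getIso hY) (by simp [f'])
    exact hiso ((PreservesCokernel.iso ι f') ≪≫ e1) (ι.obj_mem_essImage _)
  have bi : ∀ X Y : A, J X → J Y → J (X ⊞ Y) := by
    intro X Y hX hY
    haveI := Limits.preservesBinaryBiproducts_of_preservesBiproducts ι
    exact hiso ((ι.mapBiprod (Functor.essImage.witness hX) (Functor.essImage.witness hY)) ≪≫ biprod.mapIso (Functor.essImage.getIso hX)
      (Functor.essImage.getIso hY)) (ι.obj_mem_essImage _)
  have hom : ∀ i, J (K.homology i) := fun i =>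
    hiso ((DerivedCategory.homologyFunctor A i).mapIso e ≪≫
      (DerivedCategory.homologyFunctorFactors A i).app K) (hZ i)
  have hJ0 : ∃ Z : A, IsZero Z ∧ J Z := by
    obtain ⟨Z0, hZ0⟩ := HasZeroObject.zero (C := A')
    exact ⟨ι.obj Z0, ι.map_isZero hZ0, ι.obj_mem_essImage _⟩
  obtain ⟨L, α, hL, hJL, hinjL, hqis⟩ :=
    RightResSub.exists_of_isStrictlyGE (J := J) a hiso emb cok bi hom hJ0
  obtain ⟨I, ⟨eI⟩⟩ := RightResSub.exists_lift ι L hJL
  refine ⟨I, ?_, ?_, ⟨?_⟩⟩
  · rw [CochainComplex.isStrictlyGE_iff]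
    intro i hi
    apply IsZero.of_full_of_faithful_of_isZero ι
    exact IsZero.of_iso (L.isZero_of_isStrictlyGE a i hi)
      ((HomologicalComplex.eval _ _ i).mapIso eI)
  · intro n
    exact Injective.of_iso ((HomologicalComplex.eval _ _ n).mapIso eI).symm (hinjL n)
  · haveI := hqis
    exact (ι.mapDerivedCategoryFactors.app I) ≪≫ DerivedCategory.Q.mapIso eI ≪≫
      (asIso (DerivedCategory.Q.map α)).symm ≪≫ e.symm

end Groth.Agent.S11161
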