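import Groth.Statements.S1607
import Mathlib

set_option autoImplicit false
universe u
open CategoryTheory CategoryTheory.Limits AlgebraicGeometry
open Variety

namespace Groth.Agent.S1607


/-- Ring-level core: near a prime `p` whose localization is Noetherian of dimension `≤ 1`, the
closed subset `V(I)` of a finitely generated ideal is cut out by one equation `f`. -/
theorem exists_agree {A : Type*} [CommRing A] (p : Ideal A) [p.IsPrime]
    (L : Type*) [CommRing L] [Algebra A L] [IsLocalization.AtPrime L p] [IsNoetherianRing L]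
    (hdim : ringKrullDim L ≤ 1) (I : Ideal A) (hI : I.FG) :
    ∃ f g : A, g ∉ p ∧ ∀ r : Ideal A, r.IsPrime → g ∉ r → (I ≤ r ↔ f ∈ r) := by
  classical
  have : IsLocalRing L := IsLocalization.AtPrime.isLocalRing L p
  -- finitely many primes in `L`
  have hfinL : {P : Ideal L | P.IsPrime}.Finite := by
    refine ((minimalPrimes.finite_of_isNoetherianRing L).insert
      (IsLocalRing.maximalIdeal L)).subset ?_
    intro P (hP : P.IsPrime)
    by_cases h : P = IsLocalRing.maximalIdeal L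
    · exact h ▸ Set.mem_insert _ _
    · refine Set.mem_insert_of_mem _ ?_
      have hlt : P < IsLocalRing.maximalIdeal L :=
        lt_of_le_of_ne (IsLocalRing.le_maximalIdeal hP.ne_top) h
      have h0 : ((IsLocalRing.maximalIdeal L).height : WithBot ℕ∞) ≤ 1 :=
        Ideal.height_le_ringKrullDim_of_isPrime.trans hdim
      have h0' : (IsLocalRing.maximalIdeal L).height ≤ 1 := by exact_mod_cast h0
      have h1 : P.height < (IsLocalRing.maximalIdeal L).height :=
        Ideal.height_strict_mono_of_isPrime_of_isPrime hlt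
      have h2 : P.height = 0 := Order.lt_one_iff.mp (lt_of_lt_of_le h1 h0')
      exact Ideal.height_eq_zero_iff.mp h2
  have hdisj : ∀ q : Ideal A, q ≤ p → Disjoint (p.primeCompl : Set A) (q : Set A) := by
    intro q hq
    rw [Set.disjoint_left]
    intro a ha haq
    exact ha (hq haq)
  -- the finite set of primes below `p` not containing `I`
  let T : Set (Ideal A) := {q | q.IsPrime ∧ q ≤ p ∧ ¬ I ≤ q}
  have hTfin : T.Finite := by
    refine (hfinL.image (Ideal.comap (algebraMap A L))).subset ?_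
    rintro q ⟨hq, hqp, -⟩
    refine ⟨q.map (algebraMap A L),
      IsLocalization.isPrime_of_isPrime_disjoint p.primeCompl L q hq (hdisj q hqp), ?_⟩
    exact IsLocalization.under_map_of_isPrime_disjoint p.primeCompl L hq (hdisj q hqp)
  -- prime avoidance
  obtain ⟨f, hfI, hfT⟩ : ∃ f ∈ I, ∀ q ∈ T, f ∉ q := by
    by_contra hcon
    push Not at hcon
    have hsub : (I : Set A) ⊆ ⋃ q ∈ (↑hTfin.toFinset : Set (Ideal A)), (id q : Ideal A) := by
      intro a ha
      obtain ⟨q, hq, haq⟩ := hcon a ha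
      simp only [Set.Finite.coe_toFinset, id_eq, Set.mem_iUnion, SetLike.mem_coe, exists_prop]
      exact ⟨q, hq, haq⟩
    obtain ⟨q, hq, hIq⟩ := (Ideal.subset_union_prime (f := id) p p
      (fun q hq _ _ => ((hTfin.mem_toFinset).mp hq).1)).mp hsub
    exact ((hTfin.mem_toFinset).mp hq).2.2 hIq
  -- every element of `I` has a power in `(f)` after inverting something outside `p`
  have key : ∀ a : A, ∃ g : A, g ∉ p ∧ (a ∈ I → ∃ n : ℕ, g * a ^ n ∈ Ideal.span {f}) := by
    intro a
    by_cases ha : a ∈ I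
    swap
    · exact ⟨1, fun h => Ideal.IsPrime.ne_top' ((Ideal.eq_top_iff_one p).mpr h), fun h => absurd h ha⟩
    have hrad : algebraMap A L a ∈ (Ideal.span {algebraMap A L f}).radical := by
      rw [Ideal.radical_eq_sInf, Ideal.mem_sInf]
      rintro P ⟨hfP, hP⟩
      have hq := (IsLocalization.isPrime_iff_isPrime_disjoint p.primeCompl L P).mp hP
      have hqp : P.comap (algebraMap A L) ≤ p := by
        intro b hb
        by_contra hbp
        exact Set.disjoint_left.mp hq.2 hbp hb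
      have hfq : f ∈ P.comap (algebraMap A L) :=
        hfP (Ideal.subset_span (Set.mem_singleton _))
      have hIq : I ≤ P.comap (algebraMap A L) := by
        by_contra h
        exact hfT _ ⟨hq.1, hqp, h⟩ hfq
      exact hIq ha
    obtain ⟨n, hn⟩ := hrad
    obtain ⟨c, hc⟩ := Ideal.mem_span_singleton'.mp hn
    obtain ⟨b, s, rfl⟩ := IsLocalization.exists_mk'_eq p.primeCompl c
    have h1 : algebraMap A L (b * f) = algebraMap A L (a ^ n * s) := by
      rw [map_mul, map_mul, map_pow, ← hc, ← IsLocalization.mk'_spec L b s]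
      ring
    obtain ⟨t, ht⟩ := (IsLocalization.eq_iff_exists p.primeCompl L).mp h1
    refine ⟨t * s, fun h => ?_, fun _ => ⟨n, ?_⟩⟩
    · rcases Ideal.IsPrime.mem_or_mem ‹p.IsPrime› h with h' | h'
      · exact t.2 h'
      · exact s.2 h'
    · rw [Ideal.mem_span_singleton']
      refine ⟨t * b, ?_⟩
      rw [mul_assoc, ht]
      ring
  choose c hc1 hc2 using key
  obtain ⟨S, rfl⟩ := hI
  refine ⟨f, ∏ a ∈ S, c a, ?_, ?_⟩
  · intro h
    obtain ⟨a, -, ha⟩ := (Ideal.IsPrime.prod_mem_iff).mp h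
    exact hc1 a ha
  · intro r hr hgr
    refine ⟨fun h => h hfI, fun hfr => ?_⟩
    rw [Ideal.span_le]
    intro a haS
    obtain ⟨n, hn⟩ := hc2 a (Ideal.subset_span haS)
    have h1 : c a * a ^ n ∈ r := (Ideal.span_singleton_le_iff_mem r).mpr hfr hn
    rcases hr.mem_or_mem h1 with h2 | h2
    · exfalso
      apply hgr
      exact Ideal.mem_of_dvd _ (Finset.dvd_prod_of_mem _ haS) h2
    · exact hr.mem_of_pow_mem n h2

/-- If X is affine and each of its local rings is Noetherian of dimension at most one, then every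
quasi-compact open subscheme of X is affine. -/
theorem result (X : Scheme.{u}) [IsAffine X]
    (hX : ∀ x : X, IsNoetherianRing (X.presheaf.stalk x) ∧ ringKrullDim (X.presheaf.stalk x) ≤ 1)
    (U : X.Opens) (hU : IsCompact (U : Set X)) : IsAffineOpen U := by
  have hW₀ : IsAffineOpen (⊤ : X.Opens) := isAffineOpen_top X
  -- the ideal of the complement
  have hcomp : IsCompact ((hW₀.fromSpec ⁻¹ᵁ U : (Spec Γ(X, ⊤)).Opens) : Set (Spec Γ(X, ⊤))) :=
    QuasiCompact.isCompact_preimage (f := hW₀.fromSpec) _ U.2 hU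
  obtain ⟨I, hIfg, hI⟩ := PrimeSpectrum.isCompact_isOpen_iff_ideal.mp
    ⟨hcomp, (hW₀.fromSpec ⁻¹ᵁ U).isOpen⟩
  -- membership dictionary
  have hbasic : ∀ (a : Γ(X, ⊤)) (y : X) (hy : y ∈ (⊤ : X.Opens)),
      y ∈ X.basicOpen a ↔ a ∉ (hW₀.primeIdealOf ⟨y, hy⟩).asIdeal := by
    intro a y hy
    have h1 : hW₀.fromSpec (hW₀.primeIdealOf ⟨y, hy⟩) ∈ X.basicOpen a ↔
        a ∉ (hW₀.primeIdealOf ⟨y, hy⟩).asIdeal := by
      change hW₀.primeIdealOf ⟨y, hy⟩ ∈ hW₀.fromSpec ⁻¹ᵁ X.basicOpen a ↔ _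
      rw [hW₀.fromSpec_preimage_basicOpen]
      exact PrimeSpectrum.mem_basicOpen a _
    rwa [hW₀.fromSpec_primeIdealOf] at h1
  have hUmem : ∀ (y : X) (hy : y ∈ (⊤ : X.Opens)),
      y ∈ U ↔ ¬ I ≤ (hW₀.primeIdealOf ⟨y, hy⟩).asIdeal := by
    intro y hy
    have h1 : hW₀.fromSpec (hW₀.primeIdealOf ⟨y, hy⟩) ∈ U ↔
        ¬ I ≤ (hW₀.primeIdealOf ⟨y, hy⟩).asIdeal := by
      have h2 : hW₀.fromSpec (hW₀.primeIdealOf ⟨y, hy⟩) ∈ U ↔
          ¬ (hW₀.primeIdealOf ⟨y, hy⟩ ∈ PrimeSpectrum.zeroLocus (I : Set Γ(X, ⊤))) := by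
        have h3 : hW₀.fromSpec (hW₀.primeIdealOf ⟨y, hy⟩) ∈ U ↔
            hW₀.primeIdealOf ⟨y, hy⟩ ∈ (PrimeSpectrum.zeroLocus (I : Set Γ(X, ⊤)))ᶜ := by
          rw [hI]
          rfl
        exact h3
      rw [h2]
      exact not_congr ((PrimeSpectrum.mem_zeroLocus _ _).trans SetLike.coe_subset_coe)
    rwa [hW₀.fromSpec_primeIdealOf] at h1
  -- the local statement
  have hloc : ∀ x : X, ∃ W : X.Opens, x ∈ W ∧ IsAffineOpen W ∧ IsAffineOpen (U.ι ⁻¹ᵁ W) := by
    intro x
    have hx : x ∈ (⊤ : X.Opens) := trivial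
    let _ := TopCat.Presheaf.algebra_section_stalk X.presheaf (⟨x, hx⟩ : (⊤ : X.Opens))
    have hlocz := hW₀.isLocalization_stalk ⟨x, hx⟩
    have hN := (hX x).1
    obtain ⟨f, g, hg, H⟩ := exists_agree (hW₀.primeIdealOf ⟨x, hx⟩).asIdeal
      (X.presheaf.stalk x) (hX x).2 I hIfg
    refine ⟨X.basicOpen g, ?_, hW₀.basicOpen g, ?_⟩
    · rw [hbasic g x hx]
      exact hg
    · have hEq : U ⊓ X.basicOpen g = X.basicOpen (f * g) := by
        ext y
        have hy : y ∈ (⊤ : X.Opens) := trivial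
        set q := hW₀.primeIdealOf ⟨y, hy⟩ with hq
        change (y ∈ U ∧ y ∈ X.basicOpen g) ↔ y ∈ X.basicOpen (f * g)
        rw [hbasic _ y hy, hbasic _ y hy, hUmem y hy, ← hq]
        constructor
        · rintro ⟨h1, h2⟩ h3
          rcases q.isPrime.mem_or_mem h3 with h | h
          · exact h1 ((H q.asIdeal q.isPrime h2).mpr h)
          · exact h2 h
        · intro h
          have h2 : g ∉ q.asIdeal := fun h' => h (Ideal.mul_mem_left _ _ h')
          exact ⟨fun h1 => h (Ideal.mul_mem_right _ _ ((H q.asIdeal q.isPrime h2).mp h1)), h2⟩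
      rw [← U.ι.isAffineOpen_iff_of_isOpenImmersion, Scheme.Hom.image_preimage_eq_opensRange_inf,
        Scheme.Opens.opensRange_ι, hEq]
      exact hW₀.basicOpen (f * g)
  have haff : IsAffineHom U.ι := isAffineHom_of_forall_exists_isAffineOpen U.ι hloc
  exact isAffine_of_isAffineHom U.ι

end Groth.Agent.S1607
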