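import Groth.Statements.S1663
import Groth.Agent.S0028
import Groth.Agent.S11319
import Groth.Agent.S1607

set_option autoImplicit false
universe u
open CategoryTheory CategoryTheory.Limits AlgebraicGeometry
open Variety

namespace Groth.Agent.S1663

/-- a retrocompact open of a scheme with Noetherian local rings of dimension `≤ 1` has affine
inclusion. -/
theorem isAffineHom_ι (X : Scheme.{u})
    (hX : ∀ x : X, IsNoetherianRing (X.presheaf.stalk x) ∧ ringKrullDim (X.presheaf.stalk x) ≤ 1)
    (U : X.Opens) [QuasiCompact U.ι] : IsAffineHom U.ι := by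
  rw [isAffineHom_iff]
  intro V hV
  haveI : IsAffine V.toScheme := hV
  have hUV : IsCompact ((U ⊓ V : X.Opens) : Set X) := by
    have h1 : IsCompact (U.ι ⁻¹' (V : Set X)) :=
      QuasiCompact.isCompact_preimage (f := U.ι) _ V.isOpen hV.isCompact
    have h2 := h1.image U.ι.continuous
    have h3 : U.ι '' (U.ι ⁻¹' (V : Set X)) = ((U ⊓ V : X.Opens) : Set X) := by
      rw [Set.image_preimage_eq_inter_range, Scheme.Opens.range_ι]
      ext x
      exact ⟨fun h => ⟨h.2, h.1⟩, fun h => ⟨h.2, h.1⟩⟩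
    rwa [h3] at h2
  have hc : IsCompact ((V.ι ⁻¹ᵁ U : V.toScheme.Opens) : Set V.toScheme) := by
    have h1 : ((V.ι ⁻¹ᵁ U : V.toScheme.Opens) : Set V.toScheme) =
        V.ι ⁻¹' ((U ⊓ V : X.Opens) : Set X) := by
      ext x
      exact ⟨fun h => ⟨h, x.2⟩, fun h => h.1⟩
    rw [h1]
    refine (V.ι.isEmbedding.isInducing.isCompact_preimage_iff ?_).mpr hUV
    rw [Scheme.Opens.range_ι]
    exact fun x hx => hx.2
  have hstalk : ∀ x : V.toScheme, IsNoetherianRing (V.toScheme.presheaf.stalk x) ∧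
      ringKrullDim (V.toScheme.presheaf.stalk x) ≤ 1 := by
    intro x
    let e : V.toScheme.presheaf.stalk x ≃+* X.presheaf.stalk x.1 :=
      (V.stalkIso x).commRingCatIsoToRingEquiv
    obtain ⟨h1, h2⟩ := hX x.1
    exact ⟨isNoetherianRing_of_ringEquiv _ e.symm, (ringKrullDim_eq_of_ringEquiv e).trans_le h2⟩
  have h := Groth.Agent.S1607.result V.toScheme hstalk (V.ι ⁻¹ᵁ U) hc
  have h2 : IsAffineOpen (V.ι ''ᵁ (V.ι ⁻¹ᵁ U)) :=
    (Scheme.Hom.isAffineOpen_iff_of_isOpenImmersion V.ι).mpr h
  rw [Scheme.Hom.image_preimage_eq_opensRange_inf, Scheme.Opens.opensRange_ι] at h2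
  rw [← Scheme.Hom.isAffineOpen_iff_of_isOpenImmersion U.ι,
    Scheme.Hom.image_preimage_eq_opensRange_inf, Scheme.Opens.opensRange_ι, inf_comm]
  exact h2

/-- an additive faithful-type argument: a module whose underlying abelian sheaf is zero is zero. -/
theorem isZero_of_isZero_toAb {Y : Scheme.{u}} (M : Y.Modules) (h : IsZero (Coh.toAb M)) :
    IsZero M := by
  rw [IsZero.iff_id_eq_zero]
  have h1 : (SheafOfModules.toSheaf Y.ringCatSheaf).map (𝟙 M) =
      (SheafOfModules.toSheaf Y.ringCatSheaf).map (0 : M ⟶ M) := h.eq_of_src _ _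
  exact (SheafOfModules.toSheaf Y.ringCatSheaf).map_injective h1

/-- Let X be a scheme whose local rings are Noetherian of Krull dimension at most one, j : U → X the
inclusion of a retrocompact open (j quasi-compact) and F a quasi-coherent O_U-module. Then R^p j_* F
vanishes for all p > 0. -/
theorem result (X : Scheme.{u})
    (hX : ∀ x : X, IsNoetherianRing (X.presheaf.stalk x) ∧ ringKrullDim (X.presheaf.stalk x) ≤ 1)
    (U : X.Opens) [QuasiCompact U.ι] [HasInjectiveResolutions (U : Scheme.{u}).Modules]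
    (F : (U : Scheme.{u}).Modules) (hF : Coh.IsQCoh F) (p : ℕ) (hp : 0 < p) :
    IsZero ((Coh.Rpush U.ι p).obj F) := by
  haveI := isAffineHom_ι X hX U
  haveI : Coh.IsQCoh F := hF
  obtain ⟨e⟩ := Groth.Agent.S11319.result U.ι F p
  exact isZero_of_isZero_toAb _ (IsZero.of_iso (Groth.Agent.S0028.result U.ι F p hp) e)

end Groth.Agent.S1663
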