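import Groth.Statements.S4456
import Groth.Agent.Lib.Lead.DegLeray
import Groth.Agent.S0028
import Groth.Agent.S0904

set_option autoImplicit false
universe u
open Coherent

namespace Groth.Agent.S4456

open AlgebraicGeometry CategoryTheory in
/-- Let f : X → Y be an affine morphism, g : Y → Z a morphism of schemes and F a quasi-coherent
O_X-module. Then for every p ≥ 0 the higher direct image R^p g_*(f_* F) is isomorphic to R^p (g ∘
f)_* F (higher direct images of the underlying abelian sheaves). The source shows that the canonical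
comparison map is an isomorphism; only the existence of an isomorphism is asserted here. -/
theorem result {X Y Z : Scheme.{u}} (f : X ⟶ Y) (g : Y ⟶ Z)
    [IsAffineHom f] (F : X.Modules) [Coh.IsQCoh F] (p : ℕ) :
    Nonempty ((Coh.RpushAb g p).obj (Coh.toAb ((Coh.push f).obj F)) ≅
      (Coh.RpushAb (f ≫ g) p).obj (Coh.toAb F)) := by
  let T := Coh.pushAb f
  let G := Coh.pushAb g
  have e : T ⋙ G ≅ Coh.pushAb (f ≫ g) := NatIso.ofComponents (fun _ => Iso.refl _)
  haveI : Limits.PreservesFiniteLimits T := by
    have := (TopCat.Sheaf.pullbackPushforwardAdjunction AddCommGrpCat.{u} f.base).rightAdjoint_preservesLimits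
    change Limits.PreservesFiniteLimits (TopCat.Sheaf.pushforward AddCommGrpCat.{u} f.base)
    infer_instance
  haveI : Limits.PreservesFiniteLimits G := by
    have := (TopCat.Sheaf.pullbackPushforwardAdjunction AddCommGrpCat.{u} g.base).rightAdjoint_preservesLimits
    change Limits.PreservesFiniteLimits (TopCat.Sheaf.pushforward AddCommGrpCat.{u} g.base)
    infer_instance
  have hT : ∀ I : Sheaf (Opens.grothendieckTopology X) AddCommGrpCat.{u}, Injective I →
      ∀ k : ℕ, Limits.IsZero ((G.rightDerived (k + 1)).obj (T.obj I)) := by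
    intro I hI k
    haveI : Injective (T.obj I) := Groth.Agent.S0904.result f.base I
    exact G.isZero_rightDerived_obj_injective_succ k _
  have hX : ∀ q : ℕ, Limits.IsZero ((T.rightDerived (q + 1)).obj (Coh.toAb F)) :=
    fun q => Groth.Agent.S0028.result f F (q + 1) (Nat.succ_pos q)
  obtain ⟨i⟩ := Groth.Agent.Lib.Lead.DegLeray.nonempty_iso T G hT p (Coh.toAb F) hX
  exact ⟨i.symm ≪≫ (Groth.Agent.Lib.Lead.DegLeray.rightDerivedIso e p).app _⟩

end Groth.Agent.S4456
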