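import Groth.Statements.S11167
import Mathlib
import Groth.Agent.Lib.Helper80.SubIdealGen

set_option autoImplicit false
universe u
open CategoryTheory CategoryTheory.Limits AlgebraicGeometry
open Coherent

namespace Groth.Agent.S11167
set_option linter.style.haveILetI false


/-- Let X be a Noetherian scheme and G ⟶ O_X a sub-O_X-module of the structure sheaf (a sheaf of ideals,
not necessarily quasi-coherent). Then there are finitely many opens U_i of X and finitely many
sections s_{ij} ∈ G(U_i) such that for every point x of X the germs at x of those s_{ij} with x ∈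
U_i generate the stalk G_x as an O_{X,x}-module. -/
theorem result {X : Scheme.{u}} [IsNoetherian X]
    (G : X.Modules) (ι : G ⟶ Coh.structureModule X) [Mono ι] :
    ∃ (m : ℕ) (U : Fin m → X.Opens) (k : Fin m → ℕ)
      (s : (i : Fin m) → Fin (k i) → (G.presheaf.obj (Opposite.op (U i)) : Type u)),
      ∀ x : X, Submodule.span (X.presheaf.stalk x)
          (Set.range (fun p : (Σ i : {i : Fin m // x ∈ U i}, Fin (k i.1)) =>
            (G.presheaf.germ (U p.1.1) x p.1.2) (s p.1.1 p.2))) = ⊤ := by
  obtain ⟨L, hL⟩ := Groth.Agent.Lib.Helper80.SubIdealGen.exists_list_germSpan_eq_top ι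
  refine ⟨L.length, fun i => (L.get i).1, fun _ => 1, fun i _ => (L.get i).2, fun x => ?_⟩
  rw [eq_top_iff, ← hL x]
  apply Submodule.span_le.mpr
  rintro g ⟨e, he, hx, rfl⟩
  obtain ⟨i, rfl⟩ := List.mem_iff_get.mp he
  exact Submodule.subset_span ⟨⟨⟨i, hx⟩, 0⟩, rfl⟩

end Groth.Agent.S11167
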