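import Groth.Statements.S11178
import Groth.Agent.Lib.Helper60.BiDualF
import Groth.Agent.Lib.Helper35.ExtFin
import Groth.Agent.Lib.Helper6.RDual3
import Groth.Agent.Lib.Helper35.NoethRes
import Groth.Agent.Lib.Helper35.TACore

set_option autoImplicit false
universe u
open CategoryTheory
attribute [local instance] HasDerivedCategory.standard
open Dual

namespace Groth.Agent.S11178

/-- The affine form: let A be a Noetherian ring with a dualizing complex ω, and G a cochain complex of
A-modules whose cohomology modules are finite and vanish outside a bounded range of degrees, with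
RHom_A(G, −) existing as a total right derived functor. Then G has finite Tor-dimension (G is
isomorphic in D(A) to a bounded complex of flat modules) if and only if RHom_A(G, ω) has finite
injective dimension (is isomorphic in D(A) to a bounded complex of injective modules). -/
theorem result (A : Type u) [CommRing A] [IsNoetherianRing A] (ω : Dual.D A) (hω : Dual.IsDualizing A ω) (G : DRing.Cx A) [DRing.HasRHomCx G] (hfin : ∀ i : ℤ, Module.Finite A (Dual.HD A (DRing.toD G) i)) (hbdd : ∃ a b : ℤ, ∀ i : ℤ, (i < a ∨ b < i) → Subsingleton (Dual.HD A (DRing.toD G) i)) : DRing.HasFiniteTorDimCx A (DRing.toD G) ↔ DRing.HasFiniteInjDim A ((DRing.RHomCx G).obj ω) := by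
  classical
  open Groth.Agent.Lib.Helper60.BiDual Groth.Agent.Lib.Helper35 Groth.Agent.Lib.Helper35.RHomKInj
    Groth.Agent.Lib.Helper6 DerivedCategory in
  obtain ⟨a, b, hab⟩ := hω.finite_injective_dimension
  have h21 := (KL.IA_tfae ω a b).out 1 0
  have hIA : KL.IA a b ω := h21.1 (fun (N : ModuleCat.{u} A) i hi => hab N i hi)
  obtain ⟨I, hv, hinj, ⟨ι⟩⟩ := hIA
  have hGE : I.IsStrictlyGE a := by
    rw [CochainComplex.isStrictlyGE_iff]
    intro i hi
    exact hv i (Or.inl hi)
  have hinj' : ∀ n : ℤ, Injective (I.X n) := hinj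
  have hinjM : ∀ q : ℤ, Module.Injective A (I.X q) := fun q =>
    Module.injective_module_of_injective_object A (I.X q)
  have hKI : I.IsKInjective := CochainComplex.isKInjective_of_injective I a
  have hωI : Dual.IsDualizing A (Q.obj I : Dual.D A) := HomBC.isDualizing_of_iso ι.symm hω
  have hu1 := isIso_rhomUnit G I
  let e1 : (DRing.RHomCx G).obj ω ≅ Q.obj (DRing.homCx G I) :=
    (DRing.RHomCx G).mapIso ι.symm ≪≫ (asIso (rhomUnit G I)).symm
  constructor
  · rintro ⟨a', b', hTA⟩
    have hPC : DRing.IsPseudoCoherent' A (Q.obj G : Dual.D A) :=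
      KL.devissage_isPseudoCoherent'.of_bounded_homology (Q.obj G) hbdd (fun i => by
        have := hfin i
        exact KL.isPseudoCoherent'_single_of_finite_of_isNoetherianRing _)
    have hperf : DRing.IsPerfect A (Q.obj G : Dual.D A) :=
      TA.isPerfect_of_isPseudoCoherent'_of_TAmp _ hPC a' b' hTA
    obtain ⟨P, s, t, hPv, hPfp, ⟨eP⟩⟩ := hperf
    obtain ⟨e2⟩ := nonempty_iso_homCx_of_iso_Q I eP
    refine ⟨a - t, b - s, DRing.homCx P I, vanishesOutside_homCx P I s t a b hPv hv,
      fun n => injective_homCx_X P I (fun p => ?_) hinjM n, ⟨e2 ≪≫ e1.symm⟩⟩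
    have := (hPfp p).2
    infer_instance
  · rintro ⟨a', b', J, hJv, hJinj, ⟨eJ⟩⟩
    let e3 : (Q.obj J : Dual.D A) ≅ Q.obj (DRing.homCx G I) := eJ ≪≫ e1
    obtain ⟨e4⟩ := nonempty_iso_homCx_of_iso_Q I e3
    have hP : P I G := P_of_finite a b hv hinj hωI.toEnd_bijective hωI.ext_self_subsingleton G hfin
    have hev : IsIso (Q.map (evCx G I) : (Q.obj G : Dual.D A) ⟶ _) := by
      rw [isIso_Q_map_iff_quasiIso]
      exact hP
    exact ⟨a - b', b - a', DRing.homCx J I, vanishesOutside_homCx J I a' b' a b hJv hv,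
      fun n => flat_homCx_X J I hJinj hinjM a' b' hJv n,
      ⟨e4 ≪≫ (asIso (Q.map (evCx G I))).symm⟩⟩

end Groth.Agent.S11178
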