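import Groth.Statements.S11180
import Groth.Agent.S0543
import Mathlib

set_option autoImplicit false
universe u
open scoped TensorProduct
open CAlg

namespace Groth.Agent.S11180

/-- Let A be a Noetherian ring and M an A-module. If an element m of M is such that 1 ⊗ m = 0 in B ⊗_A M
for every A-algebra B which is a complete Noetherian local ring, flat over A, then m = 0.
(Equivalently the natural map from M to the limit of the modules B ⊗_A M over all such B is
injective.) -/
theorem result (A : Type u) [CommRing A] [IsNoetherianRing A] (M : Type u) [AddCommGroup M] [Module A M] (m : M) (h : ∀ (B : Type u) [CommRing B] [Algebra A B] [IsNoetherianRing B] [IsLocalRing B], IsAdicComplete (IsLocalRing.maximalIdeal B) B → Module.Flat A B → (1 : B) ⊗ₜ[A] m = 0) : m = 0 := by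
  by_contra hm
  have hne : Ideal.torsionOf A M m ≠ ⊤ := by
    rwa [Ne, Ideal.torsionOf_eq_top_iff]
  obtain ⟨𝔪, hmax, hle⟩ := Ideal.exists_le_maximal _ hne
  haveI := hmax
  let Ap := Localization.AtPrime 𝔪
  haveI : IsNoetherianRing Ap := IsLocalization.isNoetherianRing 𝔪.primeCompl Ap inferInstance
  let B := AdicCompletion (IsLocalRing.maximalIdeal Ap) Ap
  haveI : IsNoetherianRing B := Groth.Agent.S0543.result Ap _
  haveI : IsScalarTower A Ap B := IsScalarTower.of_algebraMap_eq (fun a => by
    rw [AdicCompletion.algebraMap_apply, AdicCompletion.algebraMap_apply]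
    rfl)
  haveI : Module.Flat A Ap := IsLocalization.flat Ap 𝔪.primeCompl
  haveI : Module.Flat Ap B := inferInstance
  haveI hfl : Module.Flat A B := Module.Flat.trans A Ap B
  have h0 : (1 : B) ⊗ₜ[A] m = 0 := h B inferInstance hfl
  haveI : Module.FaithfullyFlat Ap B := Module.FaithfullyFlat.of_flat_of_isLocalHom
  have h1 : (1 : B) ⊗ₜ[Ap] ((1 : Ap) ⊗ₜ[A] m) = 0 := by
    have := congrArg (TensorProduct.AlgebraTensorModule.cancelBaseChange A Ap Ap B M).symm h0
    simpa using this
  have h2 : ((1 : Ap) ⊗ₜ[A] m : Ap ⊗[A] M) = 0 := by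
    apply Module.FaithfullyFlat.tensorProduct_mk_injective (A := Ap) (B := B) (Ap ⊗[A] M)
    rw [TensorProduct.mk_apply, h1, map_zero]
  have h3 : TensorProduct.mk A Ap M 1 m = 0 := h2
  rw [IsLocalizedModule.eq_zero_iff 𝔪.primeCompl] at h3
  obtain ⟨s, hs⟩ := h3
  exact s.2 (hle ((Ideal.mem_torsionOf_iff m _).mpr hs))

end Groth.Agent.S11180
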