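import Groth.Statements.S11181
import Groth.Agent.S11180
import Groth.Agent.S0543
import Mathlib

set_option autoImplicit false
set_option linter.style.haveILetI false
set_option linter.unusedSectionVars false
universe u
open scoped TensorProduct
open CAlg

namespace Groth.Agent.S11181

section Compl

variable {R : Type u} [CommRing R] [IsNoetherianRing R] (P : Ideal R) [P.IsPrime]

instance instNoethLoc : IsNoetherianRing (Localization.AtPrime P) :=
  IsLocalization.isNoetherianRing P.primeCompl _ inferInstance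

/-- The completion of the local ring at `P`. -/
abbrev Cpl : Type u :=
  AdicCompletion (IsLocalRing.maximalIdeal (Localization.AtPrime P)) (Localization.AtPrime P)

instance instNoethCpl : IsNoetherianRing (Cpl P) := Groth.Agent.S0543.result _ _

/-- If `1 ⊗ n = 0` in `(R_P)^ ⊗ N`, then `n` is killed by an element outside `P`. -/
theorem exists_smul_eq_zero_of_tmul_eq_zero {N : Type u} [AddCommGroup N] [Module R N] (n : N)
    (h0 : (1 : Cpl P) ⊗ₜ[R] n = 0) : ∃ s : P.primeCompl, s • n = 0 := by
  haveI : Module.FaithfullyFlat (Localization.AtPrime P) (Cpl P) :=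
    Module.FaithfullyFlat.of_flat_of_isLocalHom
  have h1 : (1 : Cpl P) ⊗ₜ[Localization.AtPrime P] ((1 : Localization.AtPrime P) ⊗ₜ[R] n) = 0 := by
    have := congrArg (TensorProduct.AlgebraTensorModule.cancelBaseChange R (Localization.AtPrime P)
      (Localization.AtPrime P) (Cpl P) N).symm h0
    simpa using this
  have h2 : ((1 : Localization.AtPrime P) ⊗ₜ[R] n : Localization.AtPrime P ⊗[R] N) = 0 := by
    apply Module.FaithfullyFlat.tensorProduct_mk_injective (A := Localization.AtPrime P)
      (B := Cpl P) (Localization.AtPrime P ⊗[R] N)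
    rw [TensorProduct.mk_apply, h1, map_zero]
  have h3 : TensorProduct.mk R (Localization.AtPrime P) N 1 n = 0 := h2
  rw [IsLocalizedModule.eq_zero_iff P.primeCompl] at h3
  exact h3

end Compl

section Main

variable (A : Type u) [CommRing A] [IsNoetherianRing A]

/-- A complete Noetherian local ring `C` over `A` whose maximal ideal contracts to `p` receives an
`A`-algebra map from the completion of `A_p`. -/
theorem exists_algHom_cpl (p : Ideal A) [p.IsPrime]
    (C : Type u) [CommRing C] [Algebra A C] [IsLocalRing C]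
    [IsAdicComplete (IsLocalRing.maximalIdeal C) C]
    (hC : (IsLocalRing.maximalIdeal C).comap (algebraMap A C) = p) :
    Nonempty (Cpl p →ₐ[A] C) := by
  have hunit : ∀ y : p.primeCompl, IsUnit ((Algebra.ofId A C) (y : A)) := by
    intro y
    by_contra hy
    have h1 : (Algebra.ofId A C) (y : A) ∈ IsLocalRing.maximalIdeal C :=
      (IsLocalRing.mem_maximalIdeal _).mpr hy
    have h3 : (y : A) ∈ (IsLocalRing.maximalIdeal C).comap (algebraMap A C) := h1
    have h2 : (y : A) ∈ p := by rwa [hC] at h3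
    exact y.2 h2
  let φ : Localization.AtPrime p →ₐ[A] C := IsLocalization.liftAlgHom (M := p.primeCompl) hunit
  have hφ : IsLocalRing.maximalIdeal (Localization.AtPrime p) ≤
      (IsLocalRing.maximalIdeal C).comap φ := by
    rw [← Localization.AtPrime.map_eq_maximalIdeal, Ideal.map_le_iff_le_comap]
    intro a ha
    rw [Ideal.mem_comap, Ideal.mem_comap]
    have h1 : φ (algebraMap A _ a) = algebraMap A C a := φ.commutes a
    rw [h1]
    rw [← hC] at ha
    exact ha
  have hpow : ∀ n : ℕ, IsLocalRing.maximalIdeal (Localization.AtPrime p) ^ n ≤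
      (IsLocalRing.maximalIdeal C ^ n).comap φ := fun n =>
    (Ideal.pow_right_mono hφ n).trans (Ideal.le_comap_pow _ n)
  let f : ∀ n : ℕ, Cpl p →ₐ[A] C ⧸ IsLocalRing.maximalIdeal C ^ n := fun n =>
    (Ideal.quotientMapₐ (IsLocalRing.maximalIdeal C ^ n) φ (hpow n)).comp
      ((AdicCompletion.evalₐ (IsLocalRing.maximalIdeal (Localization.AtPrime p)) n).restrictScalars A)
  refine ⟨IsAdicComplete.liftAlgHom (IsLocalRing.maximalIdeal C) f ?_⟩
  intro m n hle
  ext x
  obtain ⟨s, rfl⟩ := AdicCompletion.mk_surjective _ _ x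
  show Ideal.Quotient.factor (Ideal.pow_le_pow_right hle)
      (Ideal.quotientMap (IsLocalRing.maximalIdeal C ^ n) (φ : Localization.AtPrime p →+* C) (hpow n)
        (AdicCompletion.evalₐ _ n (AdicCompletion.mk _ _ s))) =
    Ideal.quotientMap (IsLocalRing.maximalIdeal C ^ m) (φ : Localization.AtPrime p →+* C) (hpow m)
        (AdicCompletion.evalₐ _ m (AdicCompletion.mk _ _ s))
  rw [AdicCompletion.evalₐ_mk, AdicCompletion.evalₐ_mk]
  show Ideal.Quotient.mk (IsLocalRing.maximalIdeal C ^ m) (φ (s n)) =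
    Ideal.Quotient.mk (IsLocalRing.maximalIdeal C ^ m) (φ (s m))
  rw [Ideal.Quotient.eq, ← map_sub]
  apply hpow m
  exact Ideal.Quotient.eq.mp (AdicCompletion.Ideal.mk_eq_mk _ hle s)

/-- Elements of `(A_p)^ ⊗ A/p` are fractions. -/
theorem exists_frac (p : Ideal A) [p.IsPrime] (y : Cpl p ⊗[A] (A ⧸ p)) :
    ∃ (a : A) (b : A), b ∉ p ∧ b • y = (1 : Cpl p) ⊗ₜ[A] (Ideal.Quotient.mk p a) := by
  obtain ⟨y', rfl⟩ : ∃ y' : Cpl p, y = y' ⊗ₜ[A] (1 : A ⧸ p) := by
    induction y using TensorProduct.induction_on with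
    | zero => exact ⟨0, (TensorProduct.zero_tmul _ _).symm⟩
    | tmul c d =>
      obtain ⟨a, rfl⟩ := Ideal.Quotient.mk_surjective d
      refine ⟨a • c, ?_⟩
      rw [TensorProduct.smul_tmul]
      congr 1
      rw [Algebra.smul_def, mul_one]; rfl
    | add y₁ y₂ h₁ h₂ =>
      obtain ⟨c₁, rfl⟩ := h₁
      obtain ⟨c₂, rfl⟩ := h₂
      exact ⟨c₁ + c₂, (TensorProduct.add_tmul _ _ _).symm⟩
  have hzero : ∀ w ∈ Ideal.map (algebraMap A (Cpl p)) p, w ⊗ₜ[A] (1 : A ⧸ p) = 0 := by
    intro w hw
    have hw' : w ∈ Submodule.span (Cpl p) ((algebraMap A (Cpl p)) '' (p : Set A)) := hw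
    clear hw
    induction hw' using Submodule.span_induction with
    | mem x hx =>
      obtain ⟨a, ha, rfl⟩ := hx
      rw [Algebra.algebraMap_eq_smul_one, TensorProduct.smul_tmul]
      have : a • (1 : A ⧸ p) = 0 := by
        rw [Algebra.smul_def, mul_one]
        exact Ideal.Quotient.eq_zero_iff_mem.mpr ha
      rw [this, TensorProduct.tmul_zero]
    | zero => exact TensorProduct.zero_tmul _ _
    | add x y _ _ hx hy => rw [TensorProduct.add_tmul, hx, hy, add_zero]
    | smul c x _ hx => rw [← TensorProduct.smul_tmul', hx, smul_zero]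
  obtain ⟨r, hr⟩ := Ideal.Quotient.mk_surjective
    (AdicCompletion.evalOneₐ (IsLocalRing.maximalIdeal (Localization.AtPrime p)) y')
  have hker : y' - algebraMap (Localization.AtPrime p) (Cpl p) r ∈
      RingHom.ker (AdicCompletion.evalOneₐ
        (IsLocalRing.maximalIdeal (Localization.AtPrime p))).toRingHom := by
    rw [RingHom.mem_ker, map_sub, sub_eq_zero]
    show AdicCompletion.evalOneₐ _ y' = AdicCompletion.evalOneₐ _ (algebraMap _ _ r)
    rw [AlgHom.commutes, ← hr]; rfl
  rw [AdicCompletion.ker_evalOneₐ_eq_map _ (Ideal.fg_of_isNoetherianRing _)] at hker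
  have hmap : Ideal.map (algebraMap (Localization.AtPrime p) (Cpl p))
      (IsLocalRing.maximalIdeal (Localization.AtPrime p)) =
      Ideal.map (algebraMap A (Cpl p)) p := by
    have e1 : IsLocalRing.maximalIdeal (Localization.AtPrime p) =
        Ideal.map (algebraMap A (Localization.AtPrime p)) p :=
      Localization.AtPrime.map_eq_maximalIdeal.symm
    calc Ideal.map (algebraMap (Localization.AtPrime p) (Cpl p))
          (IsLocalRing.maximalIdeal (Localization.AtPrime p))
        = Ideal.map (algebraMap (Localization.AtPrime p) (Cpl p))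
          (Ideal.map (algebraMap A (Localization.AtPrime p)) p) :=
          congrArg (Ideal.map (algebraMap (Localization.AtPrime p) (Cpl p))) e1
      _ = Ideal.map ((algebraMap (Localization.AtPrime p) (Cpl p)).comp
          (algebraMap A (Localization.AtPrime p))) p := Ideal.map_map _ _
      _ = Ideal.map (algebraMap A (Cpl p)) p := by rw [← IsScalarTower.algebraMap_eq]
  rw [hmap] at hker
  obtain ⟨⟨a', ⟨b, hb⟩⟩, rfl⟩ := IsLocalization.mk'_surjective p.primeCompl r
  refine ⟨a', b, hb, ?_⟩
  have h1 : y' ⊗ₜ[A] (1 : A ⧸ p) =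
      (algebraMap (Localization.AtPrime p) (Cpl p)
        (IsLocalization.mk' (Localization.AtPrime p) a' (⟨b, hb⟩ : p.primeCompl))) ⊗ₜ[A] 1 := by
    have := hzero _ hker
    rw [TensorProduct.sub_tmul, sub_eq_zero] at this
    exact this
  rw [h1, TensorProduct.smul_tmul']
  have h2 : b • algebraMap (Localization.AtPrime p) (Cpl p)
      (IsLocalization.mk' (Localization.AtPrime p) a' (⟨b, hb⟩ : p.primeCompl)) =
      algebraMap A (Cpl p) a' := by
    rw [Algebra.smul_def, IsScalarTower.algebraMap_apply A (Localization.AtPrime p) (Cpl p) b,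
      ← map_mul, IsScalarTower.algebraMap_apply A (Localization.AtPrime p) (Cpl p) a']
    congr 1
    rw [mul_comm]
    exact IsLocalization.mk'_spec _ a' (⟨b, hb⟩ : p.primeCompl)
  rw [h2, Algebra.algebraMap_eq_smul_one, TensorProduct.smul_tmul]
  congr 1
  rw [Algebra.smul_def, mul_one]; rfl

/-- Test algebras: complete Noetherian local rings flat over `A`. -/
structure Test where
  B : Type u
  [cr : CommRing B]
  [alg : Algebra A B]
  [noeth : IsNoetherianRing B]
  [loc : IsLocalRing B]
  complete : IsAdicComplete (IsLocalRing.maximalIdeal B) B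
  flat : Module.Flat A B

attribute [instance] Test.cr Test.alg Test.noeth Test.loc

variable {A}

/-- The completion of `B_P`, as a test algebra. -/
noncomputable def Test.cpl {B : Type u} [CommRing B] [Algebra A B] [IsNoetherianRing B]
    (hfl : Module.Flat A B) (P : Ideal B) [P.IsPrime] : Test A where
  B := Cpl P
  complete := inferInstance
  flat := by
    haveI : Module.Flat A (Localization.AtPrime P) := Module.Flat.trans A B _
    exact Module.Flat.trans A (Localization.AtPrime P) (Cpl P)

variable {M : Type u} [AddCommGroup M] [Module A M]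

/-- Compatibility of a family of elements of `B ⊗ M`. -/
def Compat (x : ∀ T : Test A, T.B ⊗[A] M) : Prop :=
  ∀ (T T' : Test A) (g : T.B →ₐ[A] T'.B), LinearMap.rTensor M g.toLinearMap (x T) = x T'

variable (A M) in
/-- Every compatible family comes from an element. -/
def Good : Prop :=
  ∀ x : (∀ T : Test A, T.B ⊗[A] M), Compat x → ∃ m : M, ∀ T : Test A, x T = (1 : T.B) ⊗ₜ[A] m

theorem lTensor_rTensor_comm {B B' : Type u} [CommRing B] [Algebra A B] [CommRing B']
    [Algebra A B'] (φ : B →ₗ[A] B') {M' : Type u} [AddCommGroup M'] [Module A M']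
    (f : M →ₗ[A] M') (v : B ⊗[A] M) :
    LinearMap.lTensor B' f (LinearMap.rTensor M φ v) =
      LinearMap.rTensor M' φ (LinearMap.lTensor B f v) :=
  LinearMap.congr_fun ((LinearMap.lTensor_comp_rTensor (f := φ) (g := f)).trans
    (LinearMap.rTensor_comp_lTensor (f := φ) (g := f)).symm) v

theorem Compat.map {x : ∀ T : Test A, T.B ⊗[A] M} (hx : Compat x) {M' : Type u}
    [AddCommGroup M'] [Module A M'] (f : M →ₗ[A] M') :
    Compat (fun T => LinearMap.lTensor T.B f (x T)) := by
  intro T T' g
  show LinearMap.rTensor M' g.toLinearMap (LinearMap.lTensor T.B f (x T)) = _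
  rw [← lTensor_rTensor_comm, hx T T' g]

theorem good_of_exact {M₁ M₂ M₃ : Type u} [AddCommGroup M₁] [Module A M₁] [AddCommGroup M₂]
    [Module A M₂] [AddCommGroup M₃] [Module A M₃]
    (f : M₁ →ₗ[A] M₂) (g : M₂ →ₗ[A] M₃) (hf : Function.Injective f)
    (hg : Function.Surjective g) (hfg : Function.Exact f g) (h₁ : Good A M₁) (h₃ : Good A M₃) :
    Good A M₂ := by
  intro x hx
  obtain ⟨m₃, hm₃⟩ := h₃ (fun T => LinearMap.lTensor T.B g (x T)) (hx.map g)
  obtain ⟨m₂, rfl⟩ := hg m₃
  have key : ∀ T : Test A, ∃ y : T.B ⊗[A] M₁,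
      LinearMap.lTensor T.B f y = x T - (1 : T.B) ⊗ₜ[A] m₂ := by
    intro T
    have hex := lTensor_exact T.B hfg hg
    refine (hex _).mp ?_
    rw [map_sub, hm₃ T, LinearMap.lTensor_tmul, sub_self]
  choose y hy using key
  have hinj : ∀ T : Test A, Function.Injective (LinearMap.lTensor T.B f) := fun T =>
    haveI := T.flat
    Module.Flat.lTensor_preserves_injective_linearMap f hf
  have hyc : Compat y := by
    intro T T' φ
    apply hinj T'
    rw [lTensor_rTensor_comm, hy T, hy T', map_sub, hx T T' φ, LinearMap.rTensor_tmul,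
      AlgHom.toLinearMap_apply, map_one]
  obtain ⟨m₁, hm₁⟩ := h₁ y hyc
  refine ⟨m₂ + f m₁, fun T => ?_⟩
  have h := hy T
  rw [hm₁ T, LinearMap.lTensor_tmul] at h
  rw [TensorProduct.tmul_add, h]; abel

theorem smul_eq_zero_of_mem (p : Ideal A) {a : A} (ha : a ∈ p) (B : Type u) [CommRing B]
    [Algebra A B] (w : B ⊗[A] (A ⧸ p)) : a • w = 0 := by
  induction w using TensorProduct.induction_on with
  | zero => exact smul_zero _
  | tmul c d =>
    obtain ⟨d', rfl⟩ := Ideal.Quotient.mk_surjective d
    rw [TensorProduct.smul_tmul', TensorProduct.smul_tmul]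
    have : a • (Ideal.Quotient.mk p d') = 0 := by
      rw [Algebra.smul_def]
      show Ideal.Quotient.mk p a * Ideal.Quotient.mk p d' = 0
      rw [Ideal.Quotient.eq_zero_iff_mem.mpr ha, zero_mul]
    rw [this, TensorProduct.tmul_zero]
  | add w₁ w₂ h₁ h₂ => rw [smul_add, h₁, h₂, add_zero]

theorem eq_zero_of_smul_eq_zero (p : Ideal A) [p.IsPrime] {b : A} (hb : b ∉ p) (B : Type u)
    [CommRing B] [Algebra A B] [Module.Flat A B] (v : B ⊗[A] (A ⧸ p)) (h : b • v = 0) : v = 0 := by
  let μ : (A ⧸ p) →ₗ[A] (A ⧸ p) := b • LinearMap.id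
  have hμ : Function.Injective μ := by
    intro d₁ d₂ hd
    have h1 : Ideal.Quotient.mk p b * d₁ = Ideal.Quotient.mk p b * d₂ := by
      have := hd
      simp only [μ, Algebra.smul_def] at this
      exact this
    have hb0 : Ideal.Quotient.mk p b ≠ 0 := fun h0 => hb (Ideal.Quotient.eq_zero_iff_mem.mp h0)
    exact mul_left_cancel₀ hb0 h1
  have hinj := Module.Flat.lTensor_preserves_injective_linearMap (M := B) μ hμ
  apply hinj
  rw [map_zero]
  show LinearMap.lTensor B (b • LinearMap.id) v = 0
  rw [LinearMap.lTensor_smul, LinearMap.lTensor_id, LinearMap.smul_apply, LinearMap.id_apply, h]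

/-- A compatible family for `A/p` vanishing at the completion of `A_p` vanishes. -/
theorem lemmaZ (p : Ideal A) [p.IsPrime] (z : ∀ T : Test A, T.B ⊗[A] (A ⧸ p)) (hz : Compat z)
    (h0 : z (Test.cpl (B := A) inferInstance p) = 0) (T : Test A) : z T = 0 := by
  by_contra hne
  obtain ⟨P, hP, hle⟩ := exists_le_isAssociatedPrime_of_isNoetherianRing T.B (z T) hne
  rw [isAssociatedPrime_iff] at hP
  obtain ⟨hPprime, w, hPw⟩ := hP
  haveI := hPprime
  haveI := T.flat
  have hw : w ≠ 0 := by
    rintro rfl
    apply hPprime.ne_top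
    rw [hPw]
    ext c
    simp [Submodule.mem_colon_singleton]
  have hcomap : P.comap (algebraMap A T.B) = p := by
    ext a
    rw [Ideal.mem_comap, hPw, Submodule.mem_colon_singleton, Submodule.mem_bot, algebraMap_smul]
    constructor
    · intro h
      by_contra ha
      exact hw (eq_zero_of_smul_eq_zero p ha T.B w h)
    · intro ha
      exact smul_eq_zero_of_mem p ha T.B w
  -- the completion of `T.B` at `P`
  let T' : Test A := Test.cpl T.flat P
  let g : T.B →ₐ[A] Cpl P := IsScalarTower.toAlgHom A T.B (Cpl P)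
  have hC' : (IsLocalRing.maximalIdeal (Cpl P)).comap (algebraMap A (Cpl P)) = p := by
    rw [IsScalarTower.algebraMap_eq A (Localization.AtPrime P) (Cpl P), ← Ideal.comap_comap,
      IsLocalRing.maximalIdeal_comap, IsScalarTower.algebraMap_eq A T.B (Localization.AtPrime P),
      ← Ideal.comap_comap]
    have := Localization.AtPrime.under_maximalIdeal (I := P)
    rw [Ideal.under_def] at this
    rw [this, hcomap]
  obtain ⟨g₀⟩ := exists_algHom_cpl A p (Cpl P) hC'
  have hzT' : z T' = 0 := by
    have := hz (Test.cpl (B := A) inferInstance p) T' g₀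
    rw [h0, map_zero] at this
    exact this.symm
  have hrt : LinearMap.rTensor (A ⧸ p) g.toLinearMap (z T) = 0 := (hz T T' g).trans hzT'
  have key : ∀ v : T.B ⊗[A] (A ⧸ p),
      (TensorProduct.AlgebraTensorModule.cancelBaseChange A T.B T.B (Cpl P) (A ⧸ p))
        ((1 : Cpl P) ⊗ₜ[T.B] v) = LinearMap.rTensor (A ⧸ p) g.toLinearMap v := by
    intro v
    induction v using TensorProduct.induction_on with
    | zero => rw [TensorProduct.tmul_zero, LinearEquiv.map_zero, LinearMap.map_zero]
    | tmul b d =>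
      rw [TensorProduct.AlgebraTensorModule.cancelBaseChange_tmul, LinearMap.rTensor_tmul]
      congr 1
      rw [Algebra.smul_def, mul_one]; rfl
    | add v₁ v₂ h₁ h₂ =>
      rw [TensorProduct.tmul_add, LinearEquiv.map_add, LinearMap.map_add, h₁, h₂]
  have h1 : (1 : Cpl P) ⊗ₜ[T.B] (z T) = 0 := by
    apply (TensorProduct.AlgebraTensorModule.cancelBaseChange A T.B T.B (Cpl P) (A ⧸ p)).injective
    rw [key, hrt, LinearEquiv.map_zero]
  obtain ⟨s, hs⟩ := exists_smul_eq_zero_of_tmul_eq_zero P (z T) h1
  apply s.2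
  apply hle
  rw [Submodule.mem_colon_singleton, Submodule.mem_bot]
  exact hs

theorem good_quot_prime (p : Ideal A) [p.IsPrime] : Good A (A ⧸ p) := by
  intro x hx
  obtain ⟨a, b, hb, hab⟩ := exists_frac A p (x (Test.cpl (B := A) inferInstance p))
  have hz : Compat (fun T : Test A => b • x T - (1 : T.B) ⊗ₜ[A] (Ideal.Quotient.mk p a)) := by
    intro T T' g
    show LinearMap.rTensor _ g.toLinearMap (b • x T - (1 : T.B) ⊗ₜ[A] (Ideal.Quotient.mk p a)) = _
    rw [map_sub, map_smul, hx T T' g, LinearMap.rTensor_tmul, AlgHom.toLinearMap_apply, map_one]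
  have hz0 : ∀ T : Test A, b • x T - (1 : T.B) ⊗ₜ[A] (Ideal.Quotient.mk p a) = 0 :=
    lemmaZ p _ hz (sub_eq_zero.mpr hab)
  -- the quotient `D/bD`
  let S : Submodule A (A ⧸ p) := Submodule.span A {Ideal.Quotient.mk p b}
  have hkill : ∀ (B : Type u) [CommRing B] [Algebra A B] (v : B ⊗[A] ((A ⧸ p) ⧸ S)),
      b • v = 0 := by
    intro B _ _ v
    induction v using TensorProduct.induction_on with
    | zero => exact smul_zero _
    | tmul c q =>
      obtain ⟨d, rfl⟩ := Submodule.Quotient.mk_surjective S q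
      rw [TensorProduct.smul_tmul', TensorProduct.smul_tmul, ← Submodule.Quotient.mk_smul]
      have hmem : b • d ∈ S := by
        obtain ⟨d', rfl⟩ := Ideal.Quotient.mk_surjective d
        refine Submodule.mem_span_singleton.mpr ⟨d', ?_⟩
        rw [Algebra.smul_def, Algebra.smul_def]
        show Ideal.Quotient.mk p d' * Ideal.Quotient.mk p b =
          Ideal.Quotient.mk p b * Ideal.Quotient.mk p d'
        ring
      rw [(Submodule.Quotient.mk_eq_zero S).mpr hmem, TensorProduct.tmul_zero]
    | add v₁ v₂ h₁ h₂ => rw [smul_add, h₁, h₂, add_zero]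
  have hQ : S.mkQ (Ideal.Quotient.mk p a) = 0 := by
    apply Groth.Agent.S11180.result A ((A ⧸ p) ⧸ S)
    intro B _ _ _ _ hB hBf
    have h1 := hz0 ⟨B, hB, hBf⟩
    have h2 : (1 : B) ⊗ₜ[A] (Ideal.Quotient.mk p a) = b • x ⟨B, hB, hBf⟩ :=
      (sub_eq_zero.mp h1).symm
    have h3 := congrArg (LinearMap.lTensor B S.mkQ) h2
    rw [LinearMap.lTensor_tmul, map_smul, hkill B] at h3
    exact h3
  rw [Submodule.mkQ_apply, Submodule.Quotient.mk_eq_zero] at hQ
  obtain ⟨c, hc⟩ := Submodule.mem_span_singleton.mp hQ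
  refine ⟨Ideal.Quotient.mk p c, fun T => ?_⟩
  haveI := T.flat
  have h1 := sub_eq_zero.mp (hz0 T)
  have h2 : b • ((1 : T.B) ⊗ₜ[A] (Ideal.Quotient.mk p c)) =
      (1 : T.B) ⊗ₜ[A] (Ideal.Quotient.mk p a) := by
    rw [TensorProduct.smul_tmul', TensorProduct.smul_tmul, ← hc]
    congr 1
    rw [Algebra.smul_def, Algebra.smul_def]
    show Ideal.Quotient.mk p b * Ideal.Quotient.mk p c =
      Ideal.Quotient.mk p c * Ideal.Quotient.mk p b
    ring
  have h3 : b • (x T - (1 : T.B) ⊗ₜ[A] (Ideal.Quotient.mk p c)) = 0 := by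
    rw [smul_sub, h1, h2, sub_self]
  exact sub_eq_zero.mp (eq_zero_of_smul_eq_zero p hb T.B _ h3)

variable (A) in
theorem good_of_finite (M : Type u) [AddCommGroup M] [Module A M] [hfin : Module.Finite A M] :
    Good A M := by
  induction hfin using IsNoetherianRing.induction_on_isQuotientEquivQuotientPrime A with
  | subsingleton N =>
    intro x _
    exact ⟨0, fun T => Subsingleton.elim _ _⟩
  | quotient N p e =>
    haveI := p.2
    exact good_of_exact e.symm.toLinearMap (0 : N →ₗ[A] PUnit.{u + 1}) e.symm.injective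
      (Function.surjective_to_subsingleton _)
      ((e.symm.exact_zero_iff_surjective _).2 e.symm.surjective) (good_quot_prime p.1)
      (fun x _ => ⟨0, fun T => Subsingleton.elim _ _⟩)
  | exact N₁ N₂ N₃ f g hf hg hfg h₁ h₃ => exact good_of_exact f g hf hg hfg h₁ h₃

end Main

/-- Bijectivity for a finite module: let A be a Noetherian ring and M a finite A-module. Consider the
A-algebras B which are complete Noetherian local rings flat over A, with all A-algebra homomorphisms
between them. Then every family of elements x_B ∈ B ⊗_A M, one for each such B, compatible under the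
maps B ⊗_A M → B' ⊗_A M induced by A-algebra homomorphisms B → B', comes from a unique element m of
M: x_B = 1 ⊗ m for every such B. (The natural map from M to the limit of the B ⊗_A M is bijective.) -/
theorem result (A : Type u) [CommRing A] [IsNoetherianRing A] (M : Type u) [AddCommGroup M] [Module A M] [Module.Finite A M] (x : ∀ (B : Type u) [CommRing B] [Algebra A B] [IsNoetherianRing B] [IsLocalRing B], IsAdicComplete (IsLocalRing.maximalIdeal B) B → Module.Flat A B → TensorProduct A B M) (hx : ∀ (B : Type u) [CommRing B] [Algebra A B] [IsNoetherianRing B] [IsLocalRing B] (hB : IsAdicComplete (IsLocalRing.maximalIdeal B) B) (hBf : Module.Flat A B) (B' : Type u) [CommRing B'] [Algebra A B'] [IsNoetherianRing B'] [IsLocalRing B'] (hB' : IsAdicComplete (IsLocalRing.maximalIdeal B') B') (hB'f : Module.Flat A B') (g : B →ₐ[A] B'), LinearMap.rTensor M g.toLinearMap (x B hB hBf) = x B' hB' hB'f) : ∃! m : M, ∀ (B : Type u) [CommRing B] [Algebra A B] [IsNoetherianRing B] [IsLocalRing B] (hB : IsAdicComplete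 (IsLocalRing.maximalIdeal B) B) (hBf : Module.Flat A B), x B hB hBf = (1 : B) ⊗ₜ[A] m := by
  obtain ⟨m, hm⟩ := good_of_finite A M (fun T => x T.B T.complete T.flat)
    (fun T T' g => hx T.B T.complete T.flat T'.B T'.complete T'.flat g)
  refine ⟨m, fun B _ _ _ _ hB hBf => hm ⟨B, hB, hBf⟩, fun m' hm' => ?_⟩
  have h0 : m' - m = 0 := Groth.Agent.S11180.result A M (m' - m) (fun B _ _ _ _ hB hBf => by
    rw [TensorProduct.tmul_sub, ← hm' B hB hBf, ← hm ⟨B, hB, hBf⟩, sub_self])
  exact sub_eq_zero.mp h0

end Groth.Agent.S11181
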