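import Groth.Statements.S11188
import Groth.Agent.Lib.Helper84.Obs.PtV
import Groth.Agent.Lib.Helper84.Obs.HopfObs3
-- import your own Groth.Agent.* helpers here

set_option autoImplicit false
universe u
open CategoryTheory MonoidalCategory CartesianMonoidalCategory MonObj GrpObj AlgebraicGeometry
open scoped TensorProduct
open AGF

namespace Groth.Agent.S11188

open Groth.Agent.Lib.Helper84.Obs


/-- (1) ⇔ (2) ⇔ (3): let k be an algebraically closed field, G a linear algebraic group over k (an
affine smooth group scheme over k) and H a closed subgroup of G (a smooth closed subgroup scheme, i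
: H → G). The following are equivalent: (i) H is observable in G, i.e. a rational point of G whose
right translation fixes every right-H-invariant global function on G lies in H; (ii) there are a
finite-dimensional rational G-module V and a vector v in V whose stabiliser, on rational points, is
H; (iii) there are finitely many right-H-invariant global functions on G which separate the cosets
gH: two rational points of G at which they all take the same values differ by right multiplication
by a rational point of H. -/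
theorem result (k : Type u) [Field k] [IsAlgClosed k]
    (G : Over (Spec (CommRingCat.of k))) [GrpObj G] [IsAffine G.left] [Smooth G.hom]
    (H : Over (Spec (CommRingCat.of k))) [GrpObj H] [Smooth H.hom] (i : H ⟶ G) [IsMonHom i]
    [IsClosedImmersion i.left] :
    List.TFAE [
      AGF.IsObservableIn k i,
      ∃ (V : Type u) (_ : AddCommGroup V) (_ : Module k V) (_ : Module.Finite k V) (ρ : VecGrp.GMod G V) (v : V),
        AGF.IsStabOnPts k i ρ v,
      ∃ s : Finset Γ(G.left, ⊤), (∀ f ∈ s, AGF.IsRTransInv i f) ∧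
        ∀ g g' : VecGrp.pt k k ⟶ G, (∀ f ∈ s, g.left.appTop f = g'.left.appTop f) →
          ∃ h : VecGrp.pt k k ⟶ H, g' = g * (h ≫ i)] := by
  classical
  obtain ⟨A, _, _, e, he, C, _, _, eH, heH, π, hπ, hπs⟩ := exists_setup k G H i
  haveI : Algebra.FiniteType k A := finiteType_of_loft e
  haveI : IsNoetherianRing A := Algebra.FiniteType.isNoetherianRing k A
  haveI : IsReduced C := isReduced_of_smooth eH
  have keyH : ∀ f : Γ(G.left, ⊤), AGF.IsRTransInv i f ↔ IsRInv (π : A →ₐ[k] C) (valOf e f) :=
    fun f => isRTransInv_sub_iff e eH i (π : A →ₐ[k] C) hπ f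
  have key : ∀ (x : A →ₐ[k] k) (f : Γ(G.left, ⊤)),
      AGF.IsRTransInv (yV e x) f ↔ IsRInv x (valOf e f) :=
    fun x f => isRTransInv_yV_iff e x f
  have hull_iff : ∀ x : A →ₐ[k] k,
      (∀ f : Γ(G.left, ⊤), AGF.IsRTransInv i f → AGF.IsRTransInv (yV e x) f) ↔
        (∀ a : A, IsRInv (π : A →ₐ[k] C) a → IsRInv x a) := by
    intro x
    constructor
    · intro h a ha
      have := (key x _).1 (h (fnOf e a) ((keyH _).2 (by rw [valOf_fnOf]; exact ha)))
      rwa [valOf_fnOf] at this
    · intro h f hf
      exact (key x f).2 (h _ ((keyH f).1 hf))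
  have ptH : ∀ z : C →ₐ[k] k, yV eH z ≫ i = yV e (z.comp (π : A →ₐ[k] C)) :=
    fun z => yV_comp_sub e eH i (π : A →ₐ[k] C) hπ z
  obtain ⟨s₀, hs1, hs2⟩ := exists_finset_hull (π : A →ₐ[k] C)
  tfae_have 1 → 2 := by
    intro hobs
    obtain ⟨V, _, _, hVf, c, v, hv⟩ := exists_stab_vector (k := k) s₀
    refine ⟨V, inferInstance, inferInstance, hVf, gmodOn e c, v, ?_⟩
    intro g
    obtain ⟨x, rfl⟩ := exists_yV e g
    refine (gmodOn_yV_fix_iff e c x v).trans ((hv k x).trans ?_)
    constructor
    · intro hx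
      exact hobs _ ((hull_iff x).2 (hs2 x hx))
    · rintro ⟨h, hh⟩
      obtain ⟨z, rfl⟩ := exists_yV eH h
      have hxz : x = z.comp (π : A →ₐ[k] C) := yV_injective e (hh.symm.trans (ptH z))
      rw [hxz]
      intro a ha
      exact isRInv_comp (π : A →ₐ[k] C) z a (hs1 a ha)
  tfae_have 2 → 1 := by
    rintro ⟨V, _, _, _, ρ, v, hstab⟩ g hg
    obtain ⟨x, rfl⟩ := exists_yV e g
    letI : HopfRep.Comod k A V := comodOf e ρ
    apply (hstab _).1
    apply (rho_yV_fix_iff e ρ x v).2
    apply isFix_of_hull (π : A →ₐ[k] C) x ((hull_iff x).1 hg) v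
    apply isFix_of_forall_point
    intro z
    have h1 := (hstab (yV eH z ≫ i)).2 ⟨yV eH z, rfl⟩
    rw [ptH z] at h1
    exact (rho_yV_fix_iff e ρ (z.comp (π : A →ₐ[k] C)) v).1 h1
  tfae_have 1 → 3 := by
    intro hobs
    obtain ⟨s', hs'1, hs'2⟩ := exists_finset_sep (k := k) s₀
    refine ⟨s'.image (fnOf e), ?_, ?_⟩
    · intro f hf
      obtain ⟨b, hb, rfl⟩ := Finset.mem_image.1 hf
      refine (keyH _).2 ?_
      rw [valOf_fnOf]
      exact hs'1 C (π : A →ₐ[k] C) hs1 b hb
    · intro g g' hgg'
      obtain ⟨x, rfl⟩ := exists_yV e g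
      obtain ⟨x', rfl⟩ := exists_yV e g'
      have hx : ∀ b ∈ s', x b = x' b := by
        intro b hb
        have h1 := hgg' (fnOf e b) (Finset.mem_image_of_mem _ hb)
        have h2 := congrArg (Scheme.ΓSpecIso (CommRingCat.of k)).hom h1
        rw [ev_yV, ev_yV, valOf_fnOf] at h2
        exact h2
      have hΔ := hs'2 x x' hx
      obtain ⟨y, hy⟩ := exists_yV e ((yV e x)⁻¹ * yV e x')
      have hyfix : ∀ a ∈ s₀, IsRInv y a := by
        intro a ha
        refine (gmodOn_yV_fix_iff e (HopfRep.Comod.regular k A) y a).1 ?_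
        rw [hy]
        apply rho_inv_mul_fix
        rw [gmodOn_yV_one_tmul, gmodOn_yV_one_tmul]
        exact congrArg _ (hΔ a ha).symm
      obtain ⟨h, hh⟩ := hobs ((yV e x)⁻¹ * yV e x')
        (by rw [← hy]; exact (hull_iff y).2 (hs2 y hyfix))
      refine ⟨h, ?_⟩
      rw [hh, mul_inv_cancel_left]
  tfae_have 3 → 1 := by
    rintro ⟨s, hs1', hs2'⟩ g hg
    obtain ⟨h, hh⟩ := hs2' 1 g (by
      intro f hf
      obtain ⟨x, rfl⟩ := exists_yV e g
      have h1 : IsRInv x (valOf e f) := (key x f).1 (hg f (hs1' f hf))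
      have h2 := counit_of_isRInv x _ h1
      have hinj : Function.Injective (Scheme.ΓSpecIso (CommRingCat.of k)).hom :=
        ((ConcreteCategory.isIso_iff_bijective _).1 inferInstance).1
      apply hinj
      rw [← yV_one e, ev_yV, ev_yV, h2]
      rfl)
    exact ⟨h, by rw [hh, _root_.one_mul]⟩
  tfae_finish

end Groth.Agent.S11188
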