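import Groth.Statements.S11191
import Groth.Agent.Lib.Helper84.Obs.Setup
import Groth.Agent.Lib.Helper84.Obs.GModDict
-- import your own Groth.Agent.* helpers here

set_option autoImplicit false
universe u
open CategoryTheory MonoidalCategory CartesianMonoidalCategory MonObj GrpObj AlgebraicGeometry
open scoped TensorProduct
open AGF

namespace Groth.Agent.S11191

/-- Let k be an algebraically closed field, G a linear algebraic group over k (an affine smooth group
scheme over k) and H a closed subgroup of G (a smooth closed subgroup scheme, i : H → G), and let M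
be a rational G-module. Then every H-invariant element of M is fixed by the observable hull of H: if
a rational point g of G fixes under right translation every right-H-invariant global function on G,
then g fixes every H-invariant element of M. (The published statement is for a commutative algebra
with a rational action by automorphisms; the multiplication plays no role and the row is stated for
modules.) -/
theorem result (k : Type u) [Field k] [IsAlgClosed k]
    (G : Over (Spec (CommRingCat.of k))) [GrpObj G] [IsAffine G.left] [Smooth G.hom]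
    (H : Over (Spec (CommRingCat.of k))) [GrpObj H] [Smooth H.hom] (i : H ⟶ G) [IsMonHom i]
    [IsClosedImmersion i.left]
    (M : Type u) [AddCommGroup M] [Module k M] (ρ : VecGrp.GMod G M)
    (g : VecGrp.pt k k ⟶ G) (hg : ∀ f : Γ(G.left, ⊤), AGF.IsRTransInv i f → AGF.IsRTransInv g f)
    (a : M) (ha : a ∈ ρ.fixedUnder i) :
    ρ.ρ k g ((1 : k) ⊗ₜ[k] a) = (1 : k) ⊗ₜ[k] a := by
  obtain ⟨A, _, _, e, he, C, _, _, eH, heH, π, hπ, hπs⟩ :=
    Groth.Agent.Lib.Helper84.Obs.exists_setup k G H i
  have keyH : ∀ f : Γ(G.left, ⊤), AGF.IsRTransInv i f ↔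
      Groth.Agent.Lib.Helper84.Obs.IsRInv (π : A →ₐ[k] C) (Groth.Agent.Lib.Helper84.Obs.valOf e f) :=
    fun f => Groth.Agent.Lib.Helper84.Obs.isRTransInv_iff e eH i (π : A →ₐ[k] C) hπ f
  have key : ∀ (x : A →ₐ[k] k) (f : Γ(G.left, ⊤)),
      AGF.IsRTransInv (Groth.Agent.Lib.Helper84.Obs.yOf e x) f ↔
      Groth.Agent.Lib.Helper84.Obs.IsRInv x (Groth.Agent.Lib.Helper84.Obs.valOf e f) :=
    fun x f => Groth.Agent.Lib.Helper84.Obs.isRTransInv_iff e (Iso.refl _)
      (Groth.Agent.Lib.Helper84.Obs.yOf e x) x (by simp) f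
  obtain ⟨x, rfl⟩ := Groth.Agent.Lib.Helper84.Obs.exists_yOf e g
  letI : HopfRep.Comod k A M := Groth.Agent.Lib.Helper84.Obs.comodOf e ρ
  refine (Groth.Agent.Lib.Helper84.Obs.rho_yOf_fix_iff e ρ k x a).2 ?_
  have hfix : Groth.Agent.Lib.Helper84.Obs.IsFix (π : A →ₐ[k] C) a := by
    have h1 := ha C eH.hom
    have h1' : ρ.ρ C (Groth.Agent.Lib.Helper84.Obs.yOf e (π : A →ₐ[k] C)) ((1 : C) ⊗ₜ[k] a)
        = (1 : C) ⊗ₜ[k] a := by
      rw [hπ]
      exact h1
    exact (Groth.Agent.Lib.Helper84.Obs.rho_yOf_fix_iff e ρ C (π : A →ₐ[k] C) a).1 h1'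
  refine Groth.Agent.Lib.Helper84.Obs.isFix_of_hull (π : A →ₐ[k] C) x ?_ a hfix
  intro a' ha'
  have h2 := (key x _).1 (hg (Groth.Agent.Lib.Helper84.Obs.fnOf e a')
    ((keyH _).2 (by rw [Groth.Agent.Lib.Helper84.Obs.valOf_fnOf]; exact ha')))
  rw [Groth.Agent.Lib.Helper84.Obs.valOf_fnOf] at h2
  exact h2

end Groth.Agent.S11191
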