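import Groth.Statements.S11199
import Groth.Agent.Lib.Helper84.Obs.Setup
import Groth.Agent.Lib.Helper84.Obs.HopfObs
-- import your own Groth.Agent.* helpers here

set_option autoImplicit false
universe u
open CategoryTheory MonoidalCategory CartesianMonoidalCategory MonObj GrpObj AlgebraicGeometry
open scoped TensorProduct
open AGF

namespace Groth.Agent.S11199

/-- Let k be an algebraically closed field, G a linear algebraic group over k (an affine smooth group
scheme over k) and H a closed subgroup of G (a smooth closed subgroup scheme, i : H → G). Then there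
are finitely many right-H-invariant global functions f₁, ..., fₙ on G which already cut out the
observable hull of H: a rational point of G whose right translation fixes each fⱼ fixes every
right-H-invariant global function. -/
theorem result (k : Type u) [Field k] [IsAlgClosed k]
    (G : Over (Spec (CommRingCat.of k))) [GrpObj G] [IsAffine G.left] [Smooth G.hom]
    (H : Over (Spec (CommRingCat.of k))) [GrpObj H] [Smooth H.hom] (i : H ⟶ G) [IsMonHom i]
    [IsClosedImmersion i.left] :
    ∃ s : Finset Γ(G.left, ⊤), (∀ f ∈ s, AGF.IsRTransInv i f) ∧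
      ∀ g : VecGrp.pt k k ⟶ G, (∀ f ∈ s, AGF.IsRTransInv g f) →
        ∀ f : Γ(G.left, ⊤), AGF.IsRTransInv i f → AGF.IsRTransInv g f := by
  classical
  obtain ⟨A, _, _, e, he, C, _, _, eH, heH, π, hπ, hπs⟩ :=
    Groth.Agent.Lib.Helper84.Obs.exists_setup k G H i
  haveI : Algebra.FiniteType k A := Groth.Agent.Lib.Helper84.Obs.finiteType_of_loft e
  haveI : IsNoetherianRing A := Algebra.FiniteType.isNoetherianRing k A
  obtain ⟨s, hs1, hs2⟩ := Groth.Agent.Lib.Helper84.Obs.exists_finset_hull (π : A →ₐ[k] C)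
  have keyH : ∀ f : Γ(G.left, ⊤), AGF.IsRTransInv i f ↔
      Groth.Agent.Lib.Helper84.Obs.IsRInv (π : A →ₐ[k] C) (Groth.Agent.Lib.Helper84.Obs.valOf e f) :=
    fun f => Groth.Agent.Lib.Helper84.Obs.isRTransInv_iff e eH i (π : A →ₐ[k] C) hπ f
  have key : ∀ (x : A →ₐ[k] k) (f : Γ(G.left, ⊤)),
      AGF.IsRTransInv (Groth.Agent.Lib.Helper84.Obs.yOf e x) f ↔
      Groth.Agent.Lib.Helper84.Obs.IsRInv x (Groth.Agent.Lib.Helper84.Obs.valOf e f) :=
    fun x f => Groth.Agent.Lib.Helper84.Obs.isRTransInv_iff e (Iso.refl _)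
      (Groth.Agent.Lib.Helper84.Obs.yOf e x) x (by simp) f
  refine ⟨s.image (Groth.Agent.Lib.Helper84.Obs.fnOf e), ?_, ?_⟩
  · intro f hf
    obtain ⟨a, ha, rfl⟩ := Finset.mem_image.1 hf
    rw [keyH, Groth.Agent.Lib.Helper84.Obs.valOf_fnOf]
    exact hs1 a ha
  · intro g hg f hf
    obtain ⟨x, rfl⟩ := Groth.Agent.Lib.Helper84.Obs.exists_yOf e g
    refine (key x f).2 (hs2 x ?_ _ ((keyH f).1 hf))
    intro a ha
    have := (key x _).1 (hg (Groth.Agent.Lib.Helper84.Obs.fnOf e a) (Finset.mem_image_of_mem _ ha))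
    rw [Groth.Agent.Lib.Helper84.Obs.valOf_fnOf] at this
    exact this

end Groth.Agent.S11199
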