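import Groth.Statements.S11200
import Groth.Agent.Lib.Helper84.Obs.PtV
import Groth.Agent.Lib.Helper84.Obs.Char
import Groth.Agent.Lib.Helper84.ChevalleyChar
import Groth.Agent.S11188
-- import your own Groth.Agent.* helpers here

set_option autoImplicit false
universe u
open CategoryTheory MonoidalCategory CartesianMonoidalCategory MonObj GrpObj AlgebraicGeometry
open scoped TensorProduct
open AGF

namespace Groth.Agent.S11200

open Groth.Agent.Lib.Helper84.Obs


/-- Let k be an algebraically closed field, G a linear algebraic group over k (an affine smooth group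
scheme over k) and H a closed subgroup of G (a smooth closed subgroup scheme, i : H → G). If H has
no non-trivial character (every homomorphism from H to the multiplicative group is trivial), then H
is observable in G. -/
theorem result (k : Type u) [Field k] [IsAlgClosed k]
    (G : Over (Spec (CommRingCat.of k))) [GrpObj G] [IsAffine G.left] [Smooth G.hom]
    (H : Over (Spec (CommRingCat.of k))) [GrpObj H] [Smooth H.hom] (i : H ⟶ G) [IsMonHom i]
    [IsClosedImmersion i.left]
    (hχ : ∀ (χ : H ⟶ Red.Gm (Spec (CommRingCat.of k))), IsMonHom χ → χ = 1) :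
    AGF.IsObservableIn k i := by
  classical
  obtain ⟨A, _, _, e, he, C, _, _, eH, heH, π, hπ, hπs⟩ := exists_setup k G H i
  haveI : Algebra.FiniteType k A := finiteType_of_loft e
  haveI := Groth.Agent.Lib.Helper84.ChevalleyChar.isHopfIdeal_ker π
  obtain ⟨V, i1, i2, cV, i4, v, hv, hrep⟩ :=
    Groth.Agent.Lib.Helper84.Chevalley.exists_line.{u, u} k A (RingHom.ker (π : A →+* C))
  obtain ⟨χ, hχv⟩ := (hrep C (π : A →ₐ[k] C)).1 (fun a ha => ha)
  have hgl : IsGroupLikeElem k χ :=
    Groth.Agent.Lib.Helper84.ChevalleyChar.isGroupLikeElem_of_coact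
      (Groth.Agent.Lib.Helper93.Comod.push π.toCoalgHom cV) v hv χ hχv
  obtain ⟨c, hcm, hc⟩ := exists_char eH χ hgl
  have hχ1 : χ = 1 := eq_one_of_char_eq_one eH χ c hc (hχ c hcm)
  rw [hχ1] at hχv
  have hfix : @IsFix k _ A _ _ C _ _ V _ _ cV (π : A →ₐ[k] C) v := hχv
  have tf := Groth.Agent.S11188.result k G H i
  have h21 := tf.out 1 0
  apply h21.1
  refine ⟨V, i1, i2, i4, gmodOn e cV, v, ?_⟩
  intro g
  obtain ⟨x, rfl⟩ := exists_yV e g
  refine (gmodOn_yV_fix_iff e cV x v).trans ?_
  constructor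
  · intro hx
    have hk : ∀ a ∈ RingHom.ker (π : A →+* C), x a = 0 := (hrep k x).2 ⟨1, hx⟩
    have hker : RingHom.ker ((π : A →ₐ[k] C) : A →+* C) ≤ RingHom.ker (x : A →+* k) := by
      intro a ha
      exact hk a ha
    let z : C →ₐ[k] k := AlgHom.liftOfSurjective (π : A →ₐ[k] C) hπs x hker
    have hz : z.comp (π : A →ₐ[k] C) = x := AlgHom.liftOfSurjective_comp _ hπs x hker
    refine ⟨yV eH z, ?_⟩
    rw [yV_comp_sub e eH i (π : A →ₐ[k] C) hπ z, hz]
  · rintro ⟨h, hh⟩
    obtain ⟨z, rfl⟩ := exists_yV eH h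
    have hxz : x = z.comp (π : A →ₐ[k] C) :=
      yV_injective e (hh.symm.trans (yV_comp_sub e eH i (π : A →ₐ[k] C) hπ z))
    rw [hxz]
    exact isFix_comp (π : A →ₐ[k] C) z v hfix

end Groth.Agent.S11200
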