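import Groth.Statements.S11207
import Groth.Agent.Lib.Helper84.Obs.TransferSch2
-- import your own Groth.Agent.* helpers here

set_option autoImplicit false
universe u
open CategoryTheory MonoidalCategory CartesianMonoidalCategory MonObj GrpObj AlgebraicGeometry
open scoped TensorProduct
open AGF

namespace Groth.Agent.S11207

open Groth.Agent.Lib.Helper84.Obs


/-- (a) ⇔ (b): let k be an algebraically closed field, G a linear algebraic group over k whose identity
component is reductive, and H a closed subgroup of G. Assume that invariants of reductive groups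
over k on finitely generated algebras are finitely generated (a standard result, carried as a
hypothesis). Then k[G]^H is finitely generated over the constants if and only if, for every finitely
generated commutative k-algebra A with a rational action of G by algebra automorphisms, the algebra
of H-invariants A^H is finitely generated over k. -/
theorem result (k : Type u) [Field k] [IsAlgClosed k]
    (G : Over (Spec (CommRingCat.of k))) [GrpObj G] [IsAffine G.left] [Smooth G.hom]
    (H : Over (Spec (CommRingCat.of k))) [GrpObj H] [Smooth H.hom] (i : H ⟶ G) [IsMonHom i]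
    [IsClosedImmersion i.left]
    (hG : VecGrp.IsReductiveGrp k G) (thmA : VecGrp.ReductiveInvariantsFG k) :
    AGF.SubringFGOver k G (AGF.rTransInv i) ↔
      ∀ (A : Type u) [CommRing A] [Algebra k A] [Algebra.FiniteType k A] (ρ : VecGrp.GMod G A) (hρ : ρ.IsMult),
        Algebra.FiniteType k ↥(ρ.fixedSubalgebra hρ i) := by
  classical
  obtain ⟨A, _, _, e, he, C, _, _, eH, heH, π, hπ, hπs⟩ := exists_setup k G H i
  haveI : Algebra.FiniteType k A := finiteType_of_loft e
  constructor
  · intro hfg R _ _ _ ρ hρ
    have hB : (invSub (π : A →ₐ[k] C)).FG :=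
      invSub_fg_of_subringFGOver e eH i (π : A →ₐ[k] C) hπ hfg
    letI cR : HopfRep.Comod k A R := comodOf e ρ
    have hmul : ∀ x y : R, HopfRep.Comod.coact (k := k) (A := A) (x * y) =
        HopfRep.Comod.coact (k := k) (A := A) x * HopfRep.Comod.coact (k := k) (A := A) y :=
      comodOf_mul e ρ hρ
    have hone : HopfRep.Comod.coact (k := k) (A := A) (1 : R) = 1 := comodOf_one e ρ hρ
    have hft : Algebra.FiniteType k (R ⊗[k] ↥(invSub' (π : A →ₐ[k] C))) :=
      finiteType_tensor_invSub' (π : A →ₐ[k] C) hB
    have hTmult : (gmodOn e (cT (π : A →ₐ[k] C) R)).IsMult :=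
      gmodOn_isMult e _ (cT_mul (π : A →ₐ[k] C) hmul hone) (cT_one (π : A →ₐ[k] C) hmul hone)
    obtain ⟨s, hs1, hs2⟩ := thmA G hG (R ⊗[k] ↥(invSub' (π : A →ₐ[k] C)))
      (gmodOn e (cT (π : A →ₐ[k] C) R)) hTmult hft
    have hfix : ∀ r : R, r ∈ ρ.fixedSubalgebra hρ i ↔ IsFix (π : A →ₐ[k] C) r := fun r =>
      forall_fix_iff e eH i (π : A →ₐ[k] C) hπ ρ cR (fun B _ _ x m => rho_yV_fix_iff e ρ x m) r
    let Ev : R ⊗[k] ↥(invSub' (π : A →ₐ[k] C)) →ₐ[k] R :=
      (evR k A R).comp (iota (π : A →ₐ[k] C) R)
    have hfg2 : (ρ.fixedSubalgebra hρ i).FG := by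
      refine ⟨s.image Ev, ?_⟩
      apply le_antisymm
      · rw [Algebra.adjoin_le_iff]
        intro r hr
        rw [Finset.coe_image] at hr
        obtain ⟨F, hF, rfl⟩ := hr
        rw [SetLike.mem_coe, hfix]
        exact transfer_isFix (π : A →ₐ[k] C) hmul hone F
          ((mem_fixedUnder_id_iff e _ F).1 (hs1 hF))
      · intro r hr
        obtain ⟨F, hF1, hF2⟩ := transfer_surj (π : A →ₐ[k] C) hmul hone r ((hfix r).1 hr)
        have hF3 : F ∈ Algebra.adjoin k (↑s : Set (R ⊗[k] ↥(invSub' (π : A →ₐ[k] C)))) :=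
          hs2 ((mem_fixedUnder_id_iff e _ F).2 hF1)
        rw [Finset.coe_image, ← AlgHom.map_adjoin]
        exact ⟨F, hF3, hF2⟩
    exact (Subalgebra.fg_iff_finiteType _).1 hfg2
  · intro h
    have hmult : (gmodOn e (HopfRep.Comod.regular k A)).IsMult :=
      gmodOn_isMult e _ (fun x y => Bialgebra.comul_mul x y) Bialgebra.comul_one
    have h1 := h A (gmodOn e (HopfRep.Comod.regular k A)) hmult
    have h2 : ((gmodOn e (HopfRep.Comod.regular k A)).fixedSubalgebra hmult i).FG :=
      (Subalgebra.fg_iff_finiteType _).2 h1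
    have h3 : (gmodOn e (HopfRep.Comod.regular k A)).fixedSubalgebra hmult i =
        invSub (π : A →ₐ[k] C) := by
      ext r
      rw [mem_invSub_iff]
      exact forall_fix_iff e eH i (π : A →ₐ[k] C) hπ _ (HopfRep.Comod.regular k A)
        (fun B _ _ x m => gmodOn_yV_fix_iff e _ x m) r
    rw [h3] at h2
    exact subringFGOver_of_invSub_fg e eH i (π : A →ₐ[k] C) hπ h2

end Groth.Agent.S11207
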