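import Groth.Statements.S11211
import Groth.Agent.S11793
import Groth.Agent.Lib.Helper84.Weitz.Jordan
import Groth.Agent.Lib.Helper84.Weitz.Fix
import Groth.Agent.Lib.Helper84.Weitz.InvU
import Groth.Agent.Lib.Helper84.Obs.TransferE
import Groth.Agent.H40.SLnRed
import Groth.Prelude.Def_W4bk6mukai47Inv
-- import your own Groth.Agent.* helpers here

set_option autoImplicit false
universe u
open CategoryTheory MonoidalCategory CartesianMonoidalCategory MonObj GrpObj AlgebraicGeometry
open scoped TensorProduct
open AGF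

namespace Groth.Agent.S11211

open TensorProduct CoordGrp Groth.Agent.Lib.Helper84.Weitz Groth.Agent.Lib.Helper84.Obs in
theorem main (k : Type u) [Field k] [IsAlgClosed k] [CharZero k] (n : ℕ)
    (m : Matrix (Fin n) (Fin n) (SLn 2 k)) (hm : IsCorep k m) :
    ∃ S : Subalgebra k (MvPolynomial (Fin n) k), S.FG ∧
      ∀ f : MvPolynomial (Fin n) k, f ∈ S ↔ deltaM (dmat m) f = 0 := by
  classical
  letI cR : HopfRep.Comod k (SLn 2 k) (MvPolynomial (Fin n) k) := comodOf m hm
  have hmul : ∀ x y : MvPolynomial (Fin n) k,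
      HopfRep.Comod.coact (k := k) (A := SLn 2 k) (x * y) =
        HopfRep.Comod.coact (k := k) (A := SLn 2 k) x *
          HopfRep.Comod.coact (k := k) (A := SLn 2 k) y := fun x y => by
    show coactAlg (k := k) m (x * y) = coactAlg (k := k) m x * coactAlg (k := k) m y
    exact map_mul (coactAlg (k := k) m) x y
  have hone : HopfRep.Comod.coact (k := k) (A := SLn 2 k) (1 : MvPolynomial (Fin n) k) = 1 := by
    show coactAlg (k := k) m 1 = 1
    exact map_one (coactAlg (k := k) m)
  haveI : Algebra.FiniteType k (SLn 2 k) := Groth.Agent.Lib.Helper91.FormsOrbit.finiteType_SLn k 2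
  have hfg := invSub_piU_fg (k := k)
  haveI ft : Algebra.FiniteType k (MvPolynomial (Fin n) k ⊗[k] ↥(invSub' (piU (k := k)))) :=
    finiteType_tensor_invSub' (piU (k := k)) hfg
  letI cA : HopfRep.Comod k (SLn 2 k) (MvPolynomial (Fin n) k ⊗[k] ↥(invSub' (piU (k := k)))) :=
    cT (piU (k := k)) (MvPolynomial (Fin n) k)
  have hmulT := cT_mul (piU (k := k)) hmul hone
  have honeT := cT_one (piU (k := k)) hmul hone
  obtain ⟨s, hs1, hs2⟩ := Groth.Agent.S11793.result k (SLn 2 k)
    (Groth.Agent.H40.isLinearlyReductive_SLn 2 k)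
    (MvPolynomial (Fin n) k ⊗[k] ↥(invSub' (piU (k := k)))) hmulT honeT
  let Ev : MvPolynomial (Fin n) k ⊗[k] ↥(invSub' (piU (k := k))) →ₐ[k] MvPolynomial (Fin n) k :=
    (evR k (SLn 2 k) (MvPolynomial (Fin n) k)).comp (iota (piU (k := k)) (MvPolynomial (Fin n) k))
  refine ⟨Algebra.adjoin k (Ev '' (s : Set _)), ?_, fun f => ?_⟩
  · exact Subalgebra.fg_def.2 ⟨_, (s.finite_toSet.image _), rfl⟩
  · rw [← isFix_piU_iff hm f, ← AlgHom.map_adjoin]
    constructor
    · rintro ⟨F, hF, rfl⟩
      have hF' : F ∈ InvQ.invSubalg k (SLn 2 k) _ hmulT honeT := by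
        have hle : Algebra.adjoin k (s : Set _) ≤ InvQ.invSubalg k (SLn 2 k) _ hmulT honeT :=
          Algebra.adjoin_le fun x hx => hs1 x hx
        exact hle hF
      exact transfer_isFix (piU (k := k)) hmul hone F hF'
    · intro hf
      obtain ⟨F, hF1, hF2⟩ := transfer_surj (piU (k := k)) hmul hone f hf
      exact ⟨F, hs2 F hF1, hF2⟩


/-- Let k be an algebraically closed field of characteristic zero, n a natural number and M a nilpotent
n × n matrix over k; let δ be the k-derivation of the polynomial ring k[X₁, …, Xₙ] with δ(Xⱼ) = Σᵢ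
Mᵢⱼ Xᵢ (the derivation of the linear action of the additive group on an n-dimensional module; its
kernel is the ring of invariant polynomial functions). Assume finite generation of invariants of
reductive groups over k on finitely generated algebras (a standard result, carried as a hypothesis).
Then the kernel of δ is a finitely generated k-subalgebra. -/
theorem result (k : Type u) [Field k] [IsAlgClosed k] [CharZero k] (thmA : VecGrp.ReductiveInvariantsFG k)
    (n : ℕ) (M : Matrix (Fin n) (Fin n) k) (hM : IsNilpotent M) :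
    ∃ S : Subalgebra k (MvPolynomial (Fin n) k), S.FG ∧
      ∀ f : MvPolynomial (Fin n) k, f ∈ S ↔
        MvPolynomial.mkDerivation k (fun j : Fin n => ∑ i : Fin n, M i j • (MvPolynomial.X i : MvPolynomial (Fin n) k)) f = 0 := by
  obtain ⟨m, hm, hdm⟩ := Groth.Agent.Lib.Helper84.Weitz.exists_corep n M hM
  subst hdm
  exact main k n m hm

end Groth.Agent.S11211
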