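import Groth.Statements.S11212
import Groth.Agent.Lib.Helper84.Obs.Stable
import Groth.Agent.Lib.Helper84.Obs.RedObs
-- import your own Groth.Agent.* helpers here

set_option autoImplicit false
universe u
open CategoryTheory MonoidalCategory CartesianMonoidalCategory MonObj GrpObj AlgebraicGeometry
open scoped TensorProduct
open AGF

namespace Groth.Agent.S11212

open Groth.Agent.Lib.Helper84.Obs


/-- Let k be an algebraically closed field, G a linear algebraic group over k (an affine smooth group
scheme over k) and H a closed subgroup of G (a smooth closed subgroup scheme, i : H → G), with the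
identity component of H reductive. Assume the following standard results of geometric invariant
theory for groups with reductive identity component, carried as hypotheses: finite generation of
invariants on finitely generated algebras, and that for such a group acting on an affine variety the
quotient map sends disjoint closed invariant subsets to disjoint sets. Then H is observable in G. -/
theorem result (k : Type u) [Field k] [IsAlgClosed k]
    (G : Over (Spec (CommRingCat.of k))) [GrpObj G] [IsAffine G.left] [Smooth G.hom]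
    (H : Over (Spec (CommRingCat.of k))) [GrpObj H] [Smooth H.hom] (i : H ⟶ G) [IsMonHom i]
    [IsClosedImmersion i.left]
    (hH : VecGrp.IsReductiveGrp k H) (thmA : VecGrp.ReductiveInvariantsFG k)
    (thmAbiv : AGF.ReductiveQuotSeparates k) :
    AGF.IsObservableIn k i := by
  classical
  obtain ⟨A, _, _, e, he, C, _, _, eH, heH, π, hπ, hπs⟩ := exists_setup k G H i
  haveI : Algebra.FiniteType k A := finiteType_of_loft e
  haveI : IsReduced A := isReduced_of_smooth e
  haveI : IsReduced C := isReduced_of_smooth eH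
  have hmult : (gmodOn eH (cPush π)).IsMult :=
    gmodOn_isMult eH _ (cPush_mul π) (cPush_one π)
  intro g hg
  obtain ⟨x, rfl⟩ := exists_yV e g
  have keyH : ∀ f : Γ(G.left, ⊤), AGF.IsRTransInv i f ↔ IsRInv (π : A →ₐ[k] C) (valOf e f) :=
    fun f => isRTransInv_sub_iff e eH i (π : A →ₐ[k] C) hπ f
  have key : ∀ (f : Γ(G.left, ⊤)),
      AGF.IsRTransInv (yV e x) f ↔ IsRInv x (valOf e f) :=
    fun f => isRTransInv_yV_iff e x f
  have hx : ∀ a : A, IsRInv (π : A →ₐ[k] C) a → IsRInv x a := by
    intro a ha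
    have := (key _).1 (hg (fnOf e a) ((keyH _).2 (by rw [valOf_fnOf]; exact ha)))
    rwa [valOf_fnOf] at this
  have hsep : ∀ I₁ I₂ : Ideal A, I₁.IsRadical → I₂.IsRadical →
      @HopfRep.IsSubcomod k C _ _ _ _ A _ _ (cPush π) (I₁.restrictScalars k) →
      @HopfRep.IsSubcomod k C _ _ _ _ A _ _ (cPush π) (I₂.restrictScalars k) → I₁ ⊔ I₂ = ⊤ →
      ∃ b₁ ∈ I₁, ∃ b₂ ∈ I₂, IsRInv (π : A →ₐ[k] C) b₁ ∧ IsRInv (π : A →ₐ[k] C) b₂ ∧
        b₁ + b₂ = 1 := by
    intro I₁ I₂ hr₁ hr₂ hs₁ hs₂ hsup
    have h1 := thmAbiv H hH A (gmodOn eH (cPush π)) hmult inferInstance I₁ I₂ hr₁ hr₂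
      (isStable_of_isSubcomod eH _ _ hs₁) (isStable_of_isSubcomod eH _ _ hs₂) hsup
    have h2 : (1 : ↥((gmodOn eH (cPush π)).fixedSubalgebra hmult (𝟙 H))) ∈
        I₁.comap ((gmodOn eH (cPush π)).fixedSubalgebra hmult (𝟙 H)).val ⊔
          I₂.comap ((gmodOn eH (cPush π)).fixedSubalgebra hmult (𝟙 H)).val := by
      rw [h1]
      trivial
    obtain ⟨b₁, hb₁, b₂, hb₂, hsum⟩ := Submodule.mem_sup.1 h2
    refine ⟨(b₁ : A), hb₁, (b₂ : A), hb₂, ?_, ?_, ?_⟩
    · exact (cPush_fix_iff π _).1 ((mem_fixedUnder_id_iff eH (cPush π) (b₁ : A)).1 b₁.2)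
    · exact (cPush_fix_iff π _).1 ((mem_fixedUnder_id_iff eH (cPush π) (b₂ : A)).1 b₂.2)
    · have := congrArg (fun b : ↥((gmodOn eH (cPush π)).fixedSubalgebra hmult (𝟙 H)) => (b : A)) hsum
      exact this
  obtain ⟨z, hz⟩ := exists_factor_of_sep π hπs hsep x hx
  refine ⟨yV eH z, ?_⟩
  rw [yV_comp_sub e eH i (π : A →ₐ[k] C) hπ z, hz]

end Groth.Agent.S11212
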