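import Groth.Statements.S11217
import Mathlib.Algebra.MvPolynomial.PDeriv

set_option autoImplicit false
universe u
open CategoryTheory MonoidalCategory CartesianMonoidalCategory MonObj GrpObj AlgebraicGeometry
open scoped TensorProduct
open AGF

namespace Groth.Agent.S11217


open MvPolynomial Finsupp

section Helpers

variable {k : Type u} [Field k]

lemma derivation_formula' {σ : Type*} [Fintype σ] {M : Type*} [AddCommGroup M] [Module k M]
    [Module (MvPolynomial σ k) M] [IsScalarTower k (MvPolynomial σ k) M]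
    (D : Derivation k (MvPolynomial σ k) M) (p : MvPolynomial σ k) :
    D p = ∑ j, pderiv j p • D (X j) := by
  induction p using MvPolynomial.induction_on with
  | C a => simp
  | add p q hp hq => simp only [map_add, hp, hq, add_smul, Finset.sum_add_distrib]
  | mul_X p i hp =>
    classical
    rw [Derivation.leibniz, hp]
    simp only [Derivation.leibniz, pderiv_X, add_smul, Finset.sum_add_distrib, smul_eq_mul]
    rw [Finset.smul_sum]
    congr 1
    · rw [Finset.sum_eq_single i]
      · simp
      · intro j _ hj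
        simp [hj.symm]
      · intro h; exact absurd (Finset.mem_univ i) h
    · refine Finset.sum_congr rfl fun j _ => ?_
      rw [smul_smul, mul_comm]

/-- exponent vectors -/
noncomputable def s0 (m : ℕ) : Fin 7 →₀ ℕ := single 0 (m + 1)
noncomputable def s1 (m : ℕ) : Fin 7 →₀ ℕ := single 1 (m + 1)
noncomputable def s2 (m : ℕ) : Fin 7 →₀ ℕ := single 2 (m + 1)
noncomputable def s3 (m : ℕ) : Fin 7 →₀ ℕ := single 0 m + single 1 m + single 2 m

lemma coeff_delta (m : ℕ) (f : MvPolynomial (Fin 7) k) (e : Fin 7 →₀ ℕ) :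
    coeff e (pderiv 3 f * X 0 ^ (m + 1) + pderiv 4 f * X 1 ^ (m + 1) + pderiv 5 f * X 2 ^ (m + 1) +
      pderiv 6 f * (X 0 * X 1 * X 2) ^ m) =
    (if s0 m ≤ e then coeff (e - s0 m + single 3 1) f * (((e - s0 m) 3 : ℕ) + 1) else 0) +
    (if s1 m ≤ e then coeff (e - s1 m + single 4 1) f * (((e - s1 m) 4 : ℕ) + 1) else 0) +
    (if s2 m ≤ e then coeff (e - s2 m + single 5 1) f * (((e - s2 m) 5 : ℕ) + 1) else 0) +
    (if s3 m ≤ e then coeff (e - s3 m + single 6 1) f * (((e - s3 m) 6 : ℕ) + 1) else 0) := by
  have h4 : ((X 0 * X 1 * X 2) ^ m : MvPolynomial (Fin 7) k) = monomial (s3 m) 1 := by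
    rw [mul_pow, mul_pow, X_pow_eq_monomial, X_pow_eq_monomial, X_pow_eq_monomial, monomial_mul,
      monomial_mul, _root_.one_mul, _root_.one_mul, s3]
  rw [h4, X_pow_eq_monomial, X_pow_eq_monomial, X_pow_eq_monomial]
  simp only [coeff_add, coeff_mul_monomial', coeff_pderiv, _root_.mul_one, s0, s1, s2]

end Helpers



open MvPolynomial Finsupp

section Helpers2

variable {k : Type u} [Field k]


lemma s0_apply (m : ℕ) (i : Fin 7) : s0 m i = if i = 0 then m + 1 else 0 := by
  rw [s0, single_apply]; simp only [eq_comm]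
lemma s1_apply (m : ℕ) (i : Fin 7) : s1 m i = if i = 1 then m + 1 else 0 := by
  rw [s1, single_apply]; simp only [eq_comm]
lemma s2_apply (m : ℕ) (i : Fin 7) : s2 m i = if i = 2 then m + 1 else 0 := by
  rw [s2, single_apply]; simp only [eq_comm]
lemma s3_apply (m : ℕ) (i : Fin 7) : s3 m i =
    (if i = 0 then m else 0) + (if i = 1 then m else 0) + (if i = 2 then m else 0) := by
  rw [s3, Finsupp.add_apply, Finsupp.add_apply, single_apply, single_apply, single_apply]
  simp only [eq_comm]

/-- the shifted exponent -/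
lemma shift_facts (d s : Fin 7 →₀ ℕ) (j : Fin 7) (hj : 1 ≤ d j) :
    s ≤ d - single j 1 + s ∧ (d - single j 1 + s - s + single j 1 = d) ∧
      ((d - single j 1 + s - s : Fin 7 →₀ ℕ) j + 1 = d j) := by
  have h1 : d - single j 1 + s - s = d - single j 1 := add_tsub_cancel_right _ _
  refine ⟨le_add_self, ?_, ?_⟩
  · rw [h1]
    exact tsub_add_cancel_of_le (by rw [single_le_iff]; exact hj)
  · rw [h1, tsub_apply, single_eq_same]
    omega

lemma shift_apply (d s : Fin 7 →₀ ℕ) (j i : Fin 7) (hij : i ≠ j) :
    (d - single j 1 + s : Fin 7 →₀ ℕ) i = d i + s i := by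
  rw [Finsupp.add_apply, tsub_apply, single_eq_of_ne hij, Nat.sub_zero]

end Helpers2


/-- Let k be a field of characteristic zero and m ≥ 2; in the polynomial ring k[x, y, z, s, t, u, v]
(variables 0, …, 6) let δ be the k-derivation with δ(x) = δ(y) = δ(z) = 0, δ(s) = x^(m+1), δ(t) =
y^(m+1), δ(u) = z^(m+1), δ(v) = (xyz)^m, and grade by total degree in s, t, u, v. If f is
homogeneous of degree n ≥ 1 for this grading and δ(f) = 0, then every coefficient of f, as a
polynomial in s, t, u, v over k[x, y, z], lies in the ideal (x, y, z): every monomial of f has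
positive degree in x, y, z. (The published statement allows n = 0, where the constant 1 is a
counterexample; this row assumes n ≥ 1. The published definition of the derivation gives δ(v) =
(xyz)^(m+1), for which the assertion fails: v − (yz)^(m+1)·s is killed by δ and has the monomial v
with coefficient 1; this row uses δ(v) = (xyz)^m, the exponent of the published action formula and
of the published examples of invariants.) -/
theorem result (k : Type u) [Field k] [CharZero k] (m : ℕ) (hm : 2 ≤ m) (n : ℕ) (hn : 1 ≤ n)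
    (f : MvPolynomial (Fin 7) k)
    (hf : MvPolynomial.IsWeightedHomogeneous (![0, 0, 0, 1, 1, 1, 1] : Fin 7 → ℕ) f n)
    (hδ : MvPolynomial.mkDerivation k
      (![0, 0, 0, MvPolynomial.X 0 ^ (m + 1), MvPolynomial.X 1 ^ (m + 1), MvPolynomial.X 2 ^ (m + 1),
        (MvPolynomial.X 0 * MvPolynomial.X 1 * MvPolynomial.X 2) ^ m] : Fin 7 → MvPolynomial (Fin 7) k) f = 0) :
    ∀ d ∈ f.support, 0 < d 0 + d 1 + d 2 := by
  classical
  intro d hd
  by_contra hpos
  have h0 : d 0 = 0 := by omega
  have h1 : d 1 = 0 := by omega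
  have h2 : d 2 = 0 := by omega
  have hc : MvPolynomial.coeff d f ≠ 0 := MvPolynomial.mem_support_iff.mp hd
  have hw : d 3 + d 4 + d 5 + d 6 = n := by
    have := hf hc
    rw [Finsupp.weight_apply, Finsupp.sum_fintype _ _ (by simp), Fin.sum_univ_seven] at this
    simpa using this
  have hδ' : MvPolynomial.pderiv 3 f * MvPolynomial.X 0 ^ (m + 1) +
      MvPolynomial.pderiv 4 f * MvPolynomial.X 1 ^ (m + 1) +
      MvPolynomial.pderiv 5 f * MvPolynomial.X 2 ^ (m + 1) +
      MvPolynomial.pderiv 6 f * (MvPolynomial.X 0 * MvPolynomial.X 1 * MvPolynomial.X 2) ^ m = 0 := by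
    rw [derivation_formula', Fin.sum_univ_seven] at hδ
    simpa [MvPolynomial.mkDerivation_X] using hδ
  have key : ∀ e, _ = (0 : k) := fun e =>
    (coeff_delta m f e).symm.trans (by rw [hδ', MvPolynomial.coeff_zero])
  have fin : ∀ j : Fin 7, MvPolynomial.coeff d f * ((d j : ℕ) : k) = 0 → 1 ≤ d j → False := by
    intro j h hj
    rcases mul_eq_zero.mp h with h | h
    · exact hc h
    · rw [Nat.cast_eq_zero] at h; omega
  by_cases c3 : 1 ≤ d 3
  · obtain ⟨a1, a2, a3⟩ := shift_facts d (s0 m) 3 c3
    have n1 : ¬ s1 m ≤ d - Finsupp.single 3 1 + s0 m := by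
      intro h
      have := Finsupp.le_def.mp h 1
      rw [s1_apply, shift_apply _ _ _ _ (by decide), s0_apply, h1] at this
      simp at this
    have n2 : ¬ s2 m ≤ d - Finsupp.single 3 1 + s0 m := by
      intro h
      have := Finsupp.le_def.mp h 2
      rw [s2_apply, shift_apply _ _ _ _ (by decide), s0_apply, h2] at this
      simp at this
    have n3 : ¬ s3 m ≤ d - Finsupp.single 3 1 + s0 m := by
      intro h
      have := Finsupp.le_def.mp h 1
      rw [s3_apply, shift_apply _ _ _ _ (by decide), s0_apply, h1] at this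
      simp at this
      omega
    have := key (d - Finsupp.single 3 1 + s0 m)
    rw [if_pos a1, if_neg n1, if_neg n2, if_neg n3, a2, add_zero, add_zero, add_zero,
      ← Nat.cast_succ, Nat.succ_eq_add_one, a3] at this
    exact fin 3 this c3
  by_cases c4 : 1 ≤ d 4
  · obtain ⟨a1, a2, a3⟩ := shift_facts d (s1 m) 4 c4
    have n0 : ¬ s0 m ≤ d - Finsupp.single 4 1 + s1 m := by
      intro h
      have := Finsupp.le_def.mp h 0
      rw [s0_apply, shift_apply _ _ _ _ (by decide), s1_apply, h0] at this
      simp at this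
    have n2 : ¬ s2 m ≤ d - Finsupp.single 4 1 + s1 m := by
      intro h
      have := Finsupp.le_def.mp h 2
      rw [s2_apply, shift_apply _ _ _ _ (by decide), s1_apply, h2] at this
      simp at this
    have n3 : ¬ s3 m ≤ d - Finsupp.single 4 1 + s1 m := by
      intro h
      have := Finsupp.le_def.mp h 0
      rw [s3_apply, shift_apply _ _ _ _ (by decide), s1_apply, h0] at this
      simp at this
      omega
    have := key (d - Finsupp.single 4 1 + s1 m)
    rw [if_neg n0, if_pos a1, if_neg n2, if_neg n3, a2, zero_add, add_zero, add_zero,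
      ← Nat.cast_succ, Nat.succ_eq_add_one, a3] at this
    exact fin 4 this c4
  by_cases c5 : 1 ≤ d 5
  · obtain ⟨a1, a2, a3⟩ := shift_facts d (s2 m) 5 c5
    have n0 : ¬ s0 m ≤ d - Finsupp.single 5 1 + s2 m := by
      intro h
      have := Finsupp.le_def.mp h 0
      rw [s0_apply, shift_apply _ _ _ _ (by decide), s2_apply, h0] at this
      simp at this
    have n1 : ¬ s1 m ≤ d - Finsupp.single 5 1 + s2 m := by
      intro h
      have := Finsupp.le_def.mp h 1
      rw [s1_apply, shift_apply _ _ _ _ (by decide), s2_apply, h1] at this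
      simp at this
    have n3 : ¬ s3 m ≤ d - Finsupp.single 5 1 + s2 m := by
      intro h
      have := Finsupp.le_def.mp h 0
      rw [s3_apply, shift_apply _ _ _ _ (by decide), s2_apply, h0] at this
      simp at this
      omega
    have := key (d - Finsupp.single 5 1 + s2 m)
    rw [if_neg n0, if_neg n1, if_pos a1, if_neg n3, a2, zero_add, zero_add, add_zero,
      ← Nat.cast_succ, Nat.succ_eq_add_one, a3] at this
    exact fin 5 this c5
  have c6 : 1 ≤ d 6 := by omega
  obtain ⟨a1, a2, a3⟩ := shift_facts d (s3 m) 6 c6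
  have n0 : ¬ s0 m ≤ d - Finsupp.single 6 1 + s3 m := by
    intro h
    have := Finsupp.le_def.mp h 0
    rw [s0_apply, shift_apply _ _ _ _ (by decide), s3_apply, h0] at this
    simp at this
  have n1 : ¬ s1 m ≤ d - Finsupp.single 6 1 + s3 m := by
    intro h
    have := Finsupp.le_def.mp h 1
    rw [s1_apply, shift_apply _ _ _ _ (by decide), s3_apply, h1] at this
    simp at this
  have n2 : ¬ s2 m ≤ d - Finsupp.single 6 1 + s3 m := by
    intro h
    have := Finsupp.le_def.mp h 2
    rw [s2_apply, shift_apply _ _ _ _ (by decide), s3_apply, h2] at this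
    simp at this
  have := key (d - Finsupp.single 6 1 + s3 m)
  rw [if_neg n0, if_neg n1, if_neg n2, if_pos a1, a2, zero_add, zero_add, zero_add,
    ← Nat.cast_succ, Nat.succ_eq_add_one, a3] at this
  exact fin 6 this c6

end Groth.Agent.S11217
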