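import Groth.Statements.S11218
import Groth.Agent.Lib.Helper41.ProperQuotientClosed
import Groth.Agent.Lib.Helper41.OrbitDim2

set_option autoImplicit false
universe u
open CategoryTheory MonoidalCategory CartesianMonoidalCategory MonObj GrpObj AlgebraicGeometry
open scoped TensorProduct
open AGF

namespace Groth.Agent.S11218

/-- Let k be an algebraically closed field, G a linear algebraic group over k (an affine smooth group
scheme over k) and H a closed subgroup of G (a smooth closed subgroup scheme, i : H → G), such that
the quotient G/H (the scheme Y with action b and base point o′) is proper over k (complete). Let G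
act on a variety X over k (separated, of finite type) and let x be a rational point of X; let Z ⊆ X
be the closure of the H-orbit of x. Then the closure of the G-orbit of x is G·Z, the image under the
action map of the preimage of Z in G × X. (The published statement takes X affine; the argument does
not use this, and this row drops it.) -/
theorem result (k : Type u) [Field k] [IsAlgClosed k]
    (G : Over (Spec (CommRingCat.of k))) [GrpObj G] [IsAffine G.left] [Smooth G.hom]
    (H : Over (Spec (CommRingCat.of k))) [GrpObj H] [Smooth H.hom] (i : H ⟶ G) [IsMonHom i]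
    [IsClosedImmersion i.left]
    (Y : Over (Spec (CommRingCat.of k))) (b : AlgGrp.Action G Y) (o' : 𝟙_ (Over (Spec (CommRingCat.of k))) ⟶ Y) (hY : AGF.IsQuotient i Y b o')
    [IsProper Y.hom]
    (X : Over (Spec (CommRingCat.of k))) [IsSeparated X.hom] [LocallyOfFiniteType X.hom] [QuasiCompact X.hom]
    (a : AlgGrp.Action G X) (x : 𝟙_ (Over (Spec (CommRingCat.of k))) ⟶ X) :
    closure (Set.range ⇑(a.orbitMap x).left.base) =
      ⇑a.act.left.base '' (⇑(snd G X).left.base ⁻¹' closure (Set.range ⇑(i ≫ a.orbitMap x).left.base)) := by
  open Groth.Agent.Lib.Helper41.OrbitTop Groth.Agent.Lib.Helper41.OrbitProper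
    Groth.Agent.Lib.Helper93.ActionOpen in
  have hGuo : UniversallyOpen G.hom := universallyOpen_of_field G.hom
  have hHuo : UniversallyOpen H.hom := universallyOpen_of_field H.hom
  have hZst : Stable (restrictAction i a) (closure (Set.range ⇑(i ≫ a.orbitMap x).left.base)) := by
    rw [← orbitMap_restrictAction]
    exact (stable_orbit (restrictAction i a) x).closure
  have hclosed := Groth.Agent.Lib.Helper41.ProperQuotientClosed.isClosed_act_image_of_universallyClosed
    i b o' hY a _ isClosed_closure hZst
  have hGst : Stable a (closure (Set.range ⇑(a.orbitMap x).left.base)) := (stable_orbit a x).closure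
  apply Set.Subset.antisymm
  · apply hclosed.closure_subset_iff.mpr
    rintro _ ⟨g, rfl⟩
    let s : G ⟶ G ⊗ X := lift (𝟙 G) (toUnit G ≫ x)
    have hs : s ≫ a.act = a.orbitMap x := rfl
    have hs2 : s ≫ snd G X = toUnit G ≫ x := lift_snd _ _
    refine ⟨s.left.base g, ?_, ?_⟩
    · apply subset_closure
      change (s ≫ snd G X).left.base g ∈ _
      rw [hs2]
      refine ⟨(η[H] : 𝟙_ _ ⟶ H).left.base ((toUnit G).left.base g), ?_⟩
      change ((η[H] : 𝟙_ _ ⟶ H) ≫ i ≫ a.orbitMap x).left.base ((toUnit G).left.base g) = _
      rw [← Category.assoc, IsMonHom.one_hom, Groth.Agent.Lib.Helper41.OrbitDim.unit_orbitMap]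
      rfl
    · change (s ≫ a.act).left.base g = _
      rw [hs]
  · rintro _ ⟨w, hw, rfl⟩
    rw [hGst.mem_iff]
    refine closure_mono ?_ hw
    rintro _ ⟨h, rfl⟩
    exact ⟨i.left.base h, rfl⟩

end Groth.Agent.S11218
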