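import Groth.Statements.S11221
import Mathlib.RingTheory.Ideal.Height
import Mathlib.RingTheory.Ideal.AssociatedPrime.Localization
import Mathlib.RingTheory.Ideal.Colon

set_option autoImplicit false
universe u
open CategoryTheory MonoidalCategory CartesianMonoidalCategory MonObj GrpObj AlgebraicGeometry
open scoped TensorProduct
open AGF

namespace Groth.Agent.S11221

/-- Let R be a Noetherian integrally closed domain with fraction field K and let p be a prime ideal of R
of height one. Then there is f ∈ K which is not in R but lies in the local ring R_q ⊆ K of every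
height-one prime q ≠ p (f = a/b with b ∉ q): a rational function on Spec R with a pole along V(p)
only. (The published statement is for the coordinate ring of a normal affine variety; this row is
for any Noetherian integrally closed domain, which is all the argument uses.) -/
theorem result (R : Type u) [CommRing R] [IsDomain R] [IsNoetherianRing R] [IsIntegrallyClosed R]
    (p : Ideal R) [p.IsPrime] (hp : p.height = 1) :
    ∃ f : FractionRing R, f ∉ Set.range ⇑(algebraMap R (FractionRing R)) ∧
      ∀ q : Ideal R, q.IsPrime → q.height = 1 → q ≠ p →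
        ∃ a b : R, b ∉ q ∧ f * algebraMap R (FractionRing R) b = algebraMap R (FractionRing R) a := by
  have hpbot : p ≠ ⊥ := Ideal.ne_bot_of_height_eq_one hp
  obtain ⟨a, hap, ha0⟩ := Submodule.exists_mem_ne_zero_of_ne_bot hpbot
  have hfin : p.FiniteHeight := ⟨Or.inr (by rw [hp]; exact ENat.one_ne_top)⟩
  have hmin : p ∈ (Ideal.span {a}).minimalPrimes := by
    apply Ideal.mem_minimalPrimes_of_height_le ((Ideal.span_singleton_le_iff_mem _).mpr hap)
    rw [hp]
    exact Ideal.one_le_height_span_singleton_of_mem_nonZeroDivisors
      (mem_nonZeroDivisors_of_ne_zero ha0)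
  have hass : p ∈ associatedPrimes R (R ⧸ Ideal.span {a}) := by
    apply Module.associatedPrimes.minimalPrimes_annihilator_subset_associatedPrimes R (R ⧸ Ideal.span {a})
    rwa [Ideal.annihilator_quotient]
  obtain ⟨_, x, hx⟩ := (isAssociatedPrime_iff).mp hass
  obtain ⟨b, rfl⟩ := Ideal.Quotient.mk_surjective x
  have hb : b ∉ Ideal.span {a} := by
    intro hb
    have : (1 : R) ∈ p := by
      rw [hx, Submodule.mem_colon_singleton]
      simp [Ideal.Quotient.eq_zero_iff_mem.mpr hb]
    exact (Ideal.IsPrime.ne_top ‹_›) ((Ideal.eq_top_iff_one _).mpr this)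
  have hbp : ∀ c ∈ p, ∃ r, c * b = a * r := by
    intro c hc
    rw [hx, Submodule.mem_colon_singleton] at hc
    have h0 : Ideal.Quotient.mk (Ideal.span {a}) (c * b) = 0 := by
      simpa [Algebra.smul_def] using hc
    rw [Ideal.Quotient.eq_zero_iff_mem, Ideal.mem_span_singleton'] at h0
    obtain ⟨r, hr⟩ := h0
    exact ⟨r, by rw [← hr, mul_comm]⟩
  have ha' : algebraMap R (FractionRing R) a ≠ 0 := by
    intro h
    exact ha0 (IsFractionRing.injective R (FractionRing R) (by rw [h, map_zero]))
  refine ⟨algebraMap R (FractionRing R) b / algebraMap R (FractionRing R) a, ?_, ?_⟩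
  · rintro ⟨r, hr⟩
    apply hb
    rw [eq_div_iff ha', ← map_mul] at hr
    have := IsFractionRing.injective R (FractionRing R) hr
    rw [Ideal.mem_span_singleton']
    exact ⟨r, this⟩
  · intro q hq hq1 hqp
    have hnle : ¬ p ≤ q := by
      intro hle
      have hlt : p < q := lt_of_le_of_ne hle (Ne.symm hqp)
      have := Ideal.height_strict_mono_of_isPrime hlt
      rw [hp, hq1] at this
      exact lt_irrefl _ this
    obtain ⟨c, hcp, hcq⟩ := Set.not_subset.mp hnle
    obtain ⟨r, hr⟩ := hbp c hcp
    refine ⟨r, c, hcq, ?_⟩
    rw [div_mul_eq_mul_div, div_eq_iff ha', ← map_mul, ← map_mul]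
    congr 1
    rw [mul_comm b c, hr, mul_comm]

end Groth.Agent.S11221
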