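import Groth.Statements.S11223
import Mathlib.RingTheory.IntegralClosure.IsIntegralClosure.Basic
import Mathlib.RingTheory.GradedAlgebra.Basic
import Mathlib.Data.Finsupp.Weight

set_option autoImplicit false
universe u
open CAlg

namespace Groth.Agent.S11223

/-- Let k be a field, let z_1, ..., z_m be homogeneous polynomials of positive degree in the polynomial
ring k[x_1, ..., x_n], and suppose the radical of the ideal (z_1, ..., z_m) is the ideal (x_1, ...,
x_n) generated by the variables. Then the polynomial ring is integral over the subalgebra generated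
by z_1, ..., z_m. (The published statement is over an algebraically closed field; this row takes any
field, which its proof allows.) -/
theorem result (k : Type u) [Field k] (n m : ℕ)
    (z : Fin m → MvPolynomial (Fin n) k) (d : Fin m → ℕ) (hd : ∀ i, 0 < d i)
    (hz : ∀ i, (z i).IsHomogeneous (d i))
    (hrad : (Ideal.span (Set.range z)).radical =
      Ideal.span (Set.range (MvPolynomial.X : Fin n → MvPolynomial (Fin n) k))) :
    Algebra.IsIntegral (Algebra.adjoin k (Set.range z)) (MvPolynomial (Fin n) k) := by
  classical
  have hdegh : ∀ (D : ℕ) (f : MvPolynomial (Fin n) k), f.IsHomogeneous D →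
      ∀ a ∈ f.support, a.degree = D := by
    intro D f hf a ha
    have := hf (MvPolynomial.mem_support_iff.mp ha)
    rw [Finsupp.degree_eq_weight_one]
    exact this
  -- step 1: exponents
  have hX : ∀ i : Fin n, ∃ N : ℕ,
      (MvPolynomial.X i : MvPolynomial (Fin n) k) ^ N ∈ Ideal.span (Set.range z) := by
    intro i
    have : (MvPolynomial.X i : MvPolynomial (Fin n) k) ∈ (Ideal.span (Set.range z)).radical := by
      rw [hrad]; exact Ideal.subset_span ⟨i, rfl⟩
    exact this
  choose Ni hNi using hX
  -- step 2: monomials of large degree are in Z
  have hmon : ∀ a : Fin n →₀ ℕ, ∑ i, Ni i + 1 ≤ a.degree →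
      (MvPolynomial.monomial a (1 : k)) ∈ Ideal.span (Set.range z) := by
    intro a ha
    have hex : ∃ i, Ni i ≤ a i := by
      by_contra hcon
      push Not at hcon
      have : a.degree ≤ ∑ i, Ni i := by
        rw [Finsupp.degree_eq_sum]
        exact Finset.sum_le_sum fun i _ => (hcon i).le
      omega
    obtain ⟨i, hi⟩ := hex
    have : (MvPolynomial.monomial a (1 : k)) =
        MvPolynomial.X i ^ Ni i * MvPolynomial.monomial (a - Finsupp.single i (Ni i)) 1 := by
      have e : Finsupp.single i (Ni i) + (a - Finsupp.single i (Ni i)) = a := by
        ext j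
        by_cases hj : j = i
        · subst hj; simp; omega
        · simp [Ne.symm hj]
      rw [MvPolynomial.X_pow_eq_monomial, MvPolynomial.monomial_mul, one_mul, e]
    rw [this]
    exact Ideal.mul_mem_right _ _ (hNi i)
  -- homogeneous of large degree implies in Z
  have hZ : ∀ D, ∑ i, Ni i + 1 ≤ D → ∀ f : MvPolynomial (Fin n) k, f.IsHomogeneous D →
      f ∈ Ideal.span (Set.range z) := by
    intro D hD f hf
    rw [f.as_sum]
    refine Ideal.sum_mem _ fun a ha => ?_
    have hdeg : a.degree = D := hdegh D f hf a ha
    have : MvPolynomial.monomial a (MvPolynomial.coeff a f) =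
        MvPolynomial.C (MvPolynomial.coeff a f) * MvPolynomial.monomial a 1 := by
      rw [MvPolynomial.C_mul_monomial, mul_one]
    rw [this]
    exact Ideal.mul_mem_left _ _ (hmon a (by omega))
  -- generators
  let G : Set (MvPolynomial (Fin n) k) :=
    (fun a => MvPolynomial.monomial a (1 : k)) '' {a : Fin n →₀ ℕ | a.degree < ∑ i, Ni i + 1}
  have hGfin : G.Finite := (Finsupp.finite_of_degree_lt _).image _
  let M : Submodule (Algebra.adjoin k (Set.range z)) (MvPolynomial (Fin n) k) :=
    Submodule.span _ G
  let _ := MvPolynomial.gradedAlgebra (σ := Fin n) (R := k)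
  have key : ∀ D, ∀ f : MvPolynomial (Fin n) k, f.IsHomogeneous D → f ∈ M := by
    intro D
    induction D using Nat.strong_induction_on with
    | _ D ih =>
      intro f hf
      by_cases hD : D < ∑ i, Ni i + 1
      · rw [f.as_sum]
        refine Submodule.sum_mem _ fun a ha => ?_
        have hdeg : a.degree = D := hdegh D f hf a ha
        have : MvPolynomial.monomial a (MvPolynomial.coeff a f) =
            (algebraMap k (Algebra.adjoin k (Set.range z)) (MvPolynomial.coeff a f)) •
              (MvPolynomial.monomial a (1 : k) : MvPolynomial (Fin n) k) := by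
          rw [algebraMap_smul, MvPolynomial.smul_monomial, smul_eq_mul, mul_one]
        rw [this]
        exact Submodule.smul_mem _ _ (Submodule.subset_span ⟨a, by simpa [hdeg] using hD, rfl⟩)
      · push Not at hD
        have hfZ := hZ D hD f hf
        obtain ⟨g, hg⟩ := (Ideal.mem_span_range_iff_exists_fun).mp hfZ
        have h1 : f = ∑ i, (if d i ≤ D then
            (DirectSum.decompose (MvPolynomial.homogeneousSubmodule (Fin n) k) (g i) (D - d i) :
              MvPolynomial (Fin n) k) * z i else 0) := by
          have h2 := DirectSum.decompose_of_mem_same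
            (MvPolynomial.homogeneousSubmodule (Fin n) k) hf
          conv_lhs => rw [← h2, ← hg, DirectSum.decompose_sum, DFinsupp.finsetSum_apply,
            AddSubmonoidClass.coe_finsetSum]
          refine Finset.sum_congr rfl fun i _ => ?_
          exact DirectSum.coe_decompose_mul_of_right_mem
            (MvPolynomial.homogeneousSubmodule (Fin n) k) D (hz i)
        rw [h1]
        refine Submodule.sum_mem _ fun i _ => ?_
        split_ifs with hle
        · have hmem : (DirectSum.decompose (MvPolynomial.homogeneousSubmodule (Fin n) k) (g i)
              (D - d i) : MvPolynomial (Fin n) k) ∈ M :=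
            ih (D - d i) (by have := hd i; omega) _
              ((MvPolynomial.mem_homogeneousSubmodule _ _).mp (SetLike.coe_mem _))
          have : (DirectSum.decompose (MvPolynomial.homogeneousSubmodule (Fin n) k) (g i)
              (D - d i) : MvPolynomial (Fin n) k) * z i =
              (⟨z i, Algebra.subset_adjoin ⟨i, rfl⟩⟩ : Algebra.adjoin k (Set.range z)) •
                (DirectSum.decompose (MvPolynomial.homogeneousSubmodule (Fin n) k) (g i)
              (D - d i) : MvPolynomial (Fin n) k) := by
            rw [Subalgebra.smul_def, smul_eq_mul, mul_comm]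
          rw [this]
          exact Submodule.smul_mem _ _ hmem
        · exact Submodule.zero_mem _
  have hM : M = ⊤ := by
    rw [eq_top_iff]
    intro f _
    rw [← MvPolynomial.sum_homogeneousComponent f]
    exact Submodule.sum_mem _ fun i _ => key i _ (MvPolynomial.homogeneousComponent_isHomogeneous i f)
  have hfin : Module.Finite (Algebra.adjoin k (Set.range z)) (MvPolynomial (Fin n) k) :=
    ⟨⟨hGfin.toFinset, by rw [Set.Finite.coe_toFinset]; exact hM⟩⟩
  exact Algebra.IsIntegral.of_finite _ _

end Groth.Agent.S11223
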