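import Groth.Statements.S1123
-- import your own Groth.Agent.* helpers here
import Groth.Agent.Lib.Helper32.RelRes
import Groth.Agent.Lib.Helper32.SESQis

set_option autoImplicit false
universe v u
open CategoryTheory CategoryTheory.Limits
open CohDer

namespace Groth.Agent.S1123

open Groth.Agent.Lib.Helper32 ZeroObject

theorem aux {A : Type u} [Category.{v} A] [Abelian A] [EnoughInjectives A]
    (S : ShortComplex (CochainComplex A ℤ)) (hS : S.ShortExact) (n : ℤ)
    [S.X₁.IsStrictlyGE n] [S.X₂.IsStrictlyGE n] [S.X₃.IsStrictlyGE n] :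
    ∃ (T : ShortComplex (CochainComplex A ℤ)) (φ : S ⟶ T), T.ShortExact ∧
      T.X₁.IsStrictlyGE n ∧ T.X₂.IsStrictlyGE n ∧ T.X₃.IsStrictlyGE n ∧
      (∀ k : ℤ, Injective (T.X₁.X k) ∧ Injective (T.X₂.X k) ∧ Injective (T.X₃.X k)) ∧
      QuasiIso φ.τ₁ ∧ QuasiIso φ.τ₂ ∧ QuasiIso φ.τ₃ := by
  let I : ObjectProperty A := fun X => Injective X
  haveI : I.IsClosedUnderIsomorphisms := ⟨fun e h => Injective.of_iso e h⟩
  have hI0 : ∃ Z : A, IsZero Z ∧ I Z := ⟨0, isZero_zero _, (inferInstance : Injective (0 : A))⟩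
  have hIprod : ∀ X Y : A, I X → I Y → I (X ⊞ Y) := fun X Y hX hY => by
    haveI : Injective X := hX
    haveI : Injective Y := hY
    exact (inferInstance : Injective (X ⊞ Y))
  have hI : ∀ X : A, ∃ (Y : A) (ι : X ⟶ Y), I Y ∧ Mono ι := fun X =>
    ⟨Injective.under X, Injective.ι X, (inferInstance : Injective (Injective.under X)), inferInstance⟩
  obtain ⟨IC, πC, hIC, hIICprop, hπCmono, hπC⟩ := RightRes.exists_of_isStrictlyGE hI hI0 S.X₃ n
  obtain ⟨IB, γ, p, hγp, hγ, hγmono, hIB, hIIB, hp⟩ :=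
    RelRes.exists_relative I hI0 hIprod hI (S.g ≫ πC) n hIICprop
  have hpepi : Epi p := HomologicalComplex.epi_of_epi_f p (fun i => by
    obtain ⟨⟨s, hs⟩, _⟩ := hp i
    exact epi_of_epi_fac hs)
  let T : ShortComplex (CochainComplex A ℤ) := ShortComplex.mk (kernel.ι p) p (kernel.condition p)
  have hT : T.ShortExact :=
    { exact := ShortComplex.exact_of_f_is_kernel _ (kernelIsKernel p)
      mono_f := (inferInstance : Mono (kernel.ι p))
      epi_g := hpepi }
  let τ₁ : S.X₁ ⟶ kernel p := kernel.lift p (S.f ≫ γ) (by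
    rw [Category.assoc, hγp, ← Category.assoc, S.zero, zero_comp])
  let φ : S ⟶ T :=
    { τ₁ := τ₁
      τ₂ := γ
      τ₃ := πC
      comm₁₂ := by simp [T, τ₁]
      comm₂₃ := by simp [T, hγp] }
  have hker (k : ℤ) : (kernel p).X k ≅ kernel (p.f k) :=
    PreservesKernel.iso (HomologicalComplex.eval A (ComplexShape.up ℤ) k) p
  have hmonoι (k : ℤ) : Mono ((kernel.ι p).f k) := inferInstance
  refine ⟨T, φ, hT, ?_, hIB, hIC, ?_, ?_, hγ, hπC⟩
  · change (kernel p).IsStrictlyGE n
    rw [CochainComplex.isStrictlyGE_iff]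
    intro i hi
    exact IsZero.of_mono ((kernel.ι p).f i) (IB.isZero_of_isStrictlyGE n i hi)
  · intro k
    exact ⟨Injective.of_iso (hker k).symm (hp k).2, hIIB k, hIICprop k⟩
  · exact SESQis.quasiIso_τ₁ φ hS hT hγ hπC

/-- Let A be an abelian category with enough injectives and S : 0 → A• → B• → C• → 0 a short exact
sequence of cochain complexes all vanishing below degree n. Then there are a short exact sequence T
: 0 → I₁ → I₂ → I₃ → 0 of complexes of injective objects vanishing below degree n and a morphism of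
short exact sequences S ⟶ T whose three components are quasi-isomorphisms. -/
theorem result {A : Type u} [Category.{v} A] [Abelian A] [EnoughInjectives A]
    (S : ShortComplex (CochainComplex A ℤ)) (hS : S.ShortExact) (n : ℤ)
    [S.X₁.IsStrictlyGE n] [S.X₂.IsStrictlyGE n] [S.X₃.IsStrictlyGE n] :
    ∃ (T : ShortComplex (CochainComplex A ℤ)) (φ : S ⟶ T), T.ShortExact ∧
      T.X₁.IsStrictlyGE n ∧ T.X₂.IsStrictlyGE n ∧ T.X₃.IsStrictlyGE n ∧
      (∀ k : ℤ, Injective (T.X₁.X k) ∧ Injective (T.X₂.X k) ∧ Injective (T.X₃.X k)) ∧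
      QuasiIso φ.τ₁ ∧ QuasiIso φ.τ₂ ∧ QuasiIso φ.τ₃ := by
  exact aux S hS n

end Groth.Agent.S1123
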