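import Groth.Statements.S11233
import Mathlib.Algebra.MvPolynomial.Funext

set_option autoImplicit false
universe u
open CAlg

namespace Groth.Agent.S11233

open MvPolynomial in
/-- the substitution `y ↦ y + h T` with `h` a new set of variables -/
noncomputable def Phi {A : Type u} [CommRing A] {m : ℕ} (T : Matrix (Fin m) (Fin m) A) :
    MvPolynomial (Fin m) A →ₐ[A] MvPolynomial (Fin m) (MvPolynomial (Fin m) A) :=
  aeval (fun s => (C (X s : MvPolynomial (Fin m) A) : MvPolynomial (Fin m) (MvPolynomial (Fin m) A)) +
      ∑ r, (X r : MvPolynomial (Fin m) (MvPolynomial (Fin m) A)) * C (C (T r s)))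

open MvPolynomial in
theorem step1 {A : Type u} [CommRing A] {m : ℕ} (T : Matrix (Fin m) (Fin m) A)
    (c : Fin m → A) (f : MvPolynomial (Fin m) A) :
    eval (fun r => (C (c r) : MvPolynomial (Fin m) A)) (Phi T f) =
      aeval (fun s : Fin m => X s + C (∑ r : Fin m, c r * T r s)) f := by
  have e1 : ((aeval (fun r => (C (c r) : MvPolynomial (Fin m) A)) :
      MvPolynomial (Fin m) (MvPolynomial (Fin m) A) →ₐ[MvPolynomial (Fin m) A] MvPolynomial (Fin m) A).restrictScalars A).comp (Phi T) =
      aeval (fun s : Fin m => X s + C (∑ r : Fin m, c r * T r s)) := by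
    apply algHom_ext
    intro s
    simp only [AlgHom.comp_apply, Phi, aeval_X, AlgHom.restrictScalars_apply, map_add,
      aeval_C, map_sum, map_mul]
    rfl
  exact AlgHom.congr_fun e1 f

open MvPolynomial in
theorem step3 {A : Type u} [CommRing A] {m : ℕ} (T : Matrix (Fin m) (Fin m) A)
    (f : MvPolynomial (Fin m) A) :
    map ((aeval (fun _ => (0 : A)) : MvPolynomial (Fin m) A →ₐ[A] A) : MvPolynomial (Fin m) A →+* A) (Phi T f) =
      aeval (fun s => ∑ r, (X r : MvPolynomial (Fin m) A) * C (T r s)) f := by
  have e1 : (mapAlgHom (aeval (fun _ => (0 : A)) : MvPolynomial (Fin m) A →ₐ[A] A)).comp (Phi T) =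
      aeval (fun s => ∑ r, (X r : MvPolynomial (Fin m) A) * C (T r s)) := by
    apply algHom_ext
    intro s
    simp [Phi, mapAlgHom_apply]
  have e2 := AlgHom.congr_fun e1 f
  rw [← e2, AlgHom.comp_apply, mapAlgHom_apply]

open MvPolynomial in
theorem step4 {A : Type u} [CommRing A] {m : ℕ} (T Ti : Matrix (Fin m) (Fin m) A) (hTT : Ti * T = 1) :
    (aeval (fun r => ∑ s', (X s' : MvPolynomial (Fin m) A) * C (Ti s' r)) : MvPolynomial (Fin m) A →ₐ[A] _).comp
      (aeval (fun s => ∑ r, (X r : MvPolynomial (Fin m) A) * C (T r s))) = AlgHom.id A _ := by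
  classical
  apply algHom_ext
  intro s
  simp only [AlgHom.comp_apply, aeval_X, map_sum, map_mul, AlgHom.id_apply, aeval_C, algebraMap_eq]
  rw [Finset.sum_congr rfl (fun x _ => Finset.sum_mul _ _ _)]
  rw [Finset.sum_comm]
  have : ∀ y : Fin m, ∑ x : Fin m, (X y : MvPolynomial (Fin m) A) * C (Ti y x) * C (T x s) =
      (X y : MvPolynomial (Fin m) A) * C ((Ti * T) y s) := by
    intro y
    rw [Matrix.mul_apply, map_sum, Finset.mul_sum]
    apply Finset.sum_congr rfl
    intro x _
    rw [map_mul, mul_assoc]
  simp only [this, hTT, Matrix.one_apply]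
  rw [Finset.sum_eq_single s]
  · simp
  · intro b _ hb
    simp [hb]
  · intro h; exact absurd (Finset.mem_univ s) h

/-- Let k be an algebraically closed field, A an integral domain which is a k-algebra, T an m by m
matrix over A with invertible determinant, and let the additive group k^m act on the polynomial ring
A[y_1, ..., y_m] by the A-algebra maps y_s ↦ y_s + Σ_r h_r T_rs. Then the only invariant polynomials
are the constants: a polynomial fixed by all these substitutions lies in A. -/
theorem result (k : Type u) [Field k] [IsAlgClosed k]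
    (A : Type u) [CommRing A] [IsDomain A] [Algebra k A] (m : ℕ) (T : Matrix (Fin m) (Fin m) A)
    (hT : IsUnit T.det) (f : MvPolynomial (Fin m) A)
    (hf : ∀ h : Fin m → k, MvPolynomial.aeval
      (fun s : Fin m => MvPolynomial.X s + MvPolynomial.C (∑ r : Fin m, algebraMap k A (h r) * T r s)) f = f) :
    ∃ a : A, f = MvPolynomial.C a := by
  classical
  -- Step 2
  have hkinj : Function.Injective (fun a : k => (MvPolynomial.C (algebraMap k A a) : MvPolynomial (Fin m) A)) :=
    (MvPolynomial.C_injective (Fin m) A).comp (algebraMap k A).injective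
  have step2 : Phi T f = MvPolynomial.C f := by
    apply MvPolynomial.funext_set
      (fun _ => Set.range (fun a : k => (MvPolynomial.C (algebraMap k A a) : MvPolynomial (Fin m) A)))
      (fun _ => Set.infinite_range_of_injective hkinj)
    intro x hx
    have hx' : ∀ r, ∃ a : k, (MvPolynomial.C (algebraMap k A a) : MvPolynomial (Fin m) A) = x r :=
      fun r => hx r (Set.mem_univ r)
    choose h hh using hx'
    have : x = fun r => (MvPolynomial.C (algebraMap k A (h r)) : MvPolynomial (Fin m) A) :=
      funext fun r => (hh r).symm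
    rw [this, step1 T (fun r => algebraMap k A (h r)) f, hf h, MvPolynomial.eval_C]
  have s3 := step3 T f
  rw [step2, MvPolynomial.map_C] at s3
  have e5 := AlgHom.congr_fun (step4 T T⁻¹ (Matrix.nonsing_inv_mul T hT)) f
  rw [AlgHom.comp_apply, ← s3, AlgHom.id_apply, MvPolynomial.aeval_C, MvPolynomial.algebraMap_eq] at e5
  exact ⟨_, e5.symm⟩

end Groth.Agent.S11233
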