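import Groth.Statements.S11234
import Groth.Agent.Lib.Helper84.Epi.SmoothGLn
import Groth.Agent.Lib.Helper84.Epi.SchemeEpi
import Groth.Agent.Lib.Helper84.Epi.HopfEpi
import Groth.Agent.Lib.Helper84.Obs.TransferSch2
import Groth.Agent.Lib.Helper84.Obs.Setup
import Groth.Agent.Lib.Helper84.MuN.GLnPts
-- import your own Groth.Agent.* helpers here

set_option autoImplicit false
universe u
open CategoryTheory MonoidalCategory CartesianMonoidalCategory MonObj GrpObj AlgebraicGeometry
open scoped TensorProduct
open AGF

namespace Groth.Agent.S11234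

open Groth.Agent.Lib.Helper84.Obs Groth.Agent.Lib.Helper84.Weitz Groth.Agent.Lib.Helper84.MuN
open Groth.Agent.Lib.Helper84.AffGrpSch CoactBr CoordGrp

/-- Let k be an algebraically closed field, G a linear algebraic group over k (affine, smooth) and H a
smooth closed subgroup of G. The following are equivalent: (b) every global function on G invariant
under right translation by H is a constant; (c) for every rational G-module E, the H-invariants of E
coincide with the G-invariants; (e) two homomorphisms from G to a linear algebraic group which agree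
on H are equal. (The published list also contains the statement that H is epimorphic in the sense of
its hull under the stabilizer correspondence, and the statement that complementary H-stable
subspaces of a rational G-module are G-stable; this row states the other three.) -/
theorem result (k : Type u) [Field k] [IsAlgClosed k]
    (G : Over (Spec (CommRingCat.of k))) [GrpObj G] [IsAffine G.left] [Smooth G.hom]
    (H : Over (Spec (CommRingCat.of k))) [GrpObj H] [Smooth H.hom] (i : H ⟶ G) [IsMonHom i]
    [IsClosedImmersion i.left] :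
    List.TFAE [
      ∀ f : Γ(G.left, ⊤), ((G ◁ i) ≫ μ[G]).left.appTop f = (fst G H).left.appTop f →
        ∃ c : k, f = G.hom.appTop ((Scheme.ΓSpecIso (CommRingCat.of k)).inv c),
      ∀ (E : Type u) [AddCommGroup E] [Module k E] (ρ : VecGrp.GMod G E),
        ρ.fixedUnder i = ρ.fixedUnder (𝟙 G),
      ∀ (G' : Over (Spec (CommRingCat.of k))) [GrpObj G'] [IsAffine G'.left] [Smooth G'.hom]
        (r s : G ⟶ G') [IsMonHom r] [IsMonHom s], i ≫ r = i ≫ s → r = s] := by
  classical
  obtain ⟨A, _, _, e, he, C, _, _, eH, heH, π, hπ, hπs⟩ := exists_setup k G H i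
  tfae_have 1 → 3 := by
    intro hb G' _ _ _ r s _ _ hrs
    exact Groth.Agent.Lib.Helper84.Epi.eq_of_forall_const i hb r s hrs
  tfae_have 3 → 2 := by
    intro he3 E _ _ ρ
    have hepi : ∀ (n : ℕ) (N N' : Matrix (Fin n) (Fin n) A), IsCorep k N → IsCorep k N' →
        N.map π = N'.map π → N = N' := by
      intro n N N' hN hN' hNN
      have : Smooth (sp k (GLn n k)).hom := Groth.Agent.Lib.Helper84.Epi.smooth_sp_GLn n k
      have : IsAffine (sp k (GLn n k)).left := by
        show IsAffine (Spec _)
        infer_instance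
      let r' : GLn n k →ₐc[k] A := bialgOfCorep hN
      let s' : GLn n k →ₐc[k] A := bialgOfCorep hN'
      have : IsMonHom (pt (r' : GLn n k →ₐ[k] A)) := isMonHom_pt r'
      have : IsMonHom (pt (s' : GLn n k →ₐ[k] A)) := isMonHom_pt s'
      have hcomp : (π : A →ₐ[k] C).comp (r' : GLn n k →ₐ[k] A)
          = (π : A →ₐ[k] C).comp (s' : GLn n k →ₐ[k] A) := by
        apply algHom_ext_X
        rw [matOf_comp, matOf_comp, matOf_bialgOfCorep, matOf_bialgOfCorep]
        exact hNN
      have hi : i = eH.inv ≫ pt (π : A →ₐ[k] C) ≫ e.hom := by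
        rw [Iso.eq_inv_comp]
        exact hπ.symm
      have h1 : i ≫ (e.inv ≫ pt (r' : GLn n k →ₐ[k] A))
          = i ≫ (e.inv ≫ pt (s' : GLn n k →ₐ[k] A)) := by
        rw [hi]
        simp only [Category.assoc, Iso.hom_inv_id_assoc]
        rw [← pt_comp, ← pt_comp, hcomp]
      have h2 := he3 (sp k (GLn n k)) (e.inv ≫ pt (r' : GLn n k →ₐ[k] A))
        (e.inv ≫ pt (s' : GLn n k →ₐ[k] A)) h1
      have h3 : pt (r' : GLn n k →ₐ[k] A) = pt (s' : GLn n k →ₐ[k] A) :=
        (Iso.cancel_iso_inv_left e _ _).1 h2
      have h4 : (r' : GLn n k →ₐ[k] A) = (s' : GLn n k →ₐ[k] A) := pt_injective h3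
      have h5 := congrArg matOf h4
      rwa [matOf_bialgOfCorep, matOf_bialgOfCorep] at h5
    ext v
    constructor
    · intro hv
      have h1 : @IsFix k _ A _ _ C _ _ E _ _ (comodOf e ρ) (π : A →ₐ[k] C) v :=
        (forall_fix_iff e eH i (π : A →ₐ[k] C) hπ ρ (comodOf e ρ)
          (fun B _ _ x m => rho_yV_fix_iff e ρ x m) v).1 hv
      let cE : HopfRep.Comod k A E := comodOf e ρ
      have h2 := Groth.Agent.Lib.Helper84.Epi.coact_eq_of_epi π hepi v h1
      intro B _ _ y
      obtain ⟨x, rfl⟩ := exists_yV e y
      rw [Category.comp_id]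
      refine (rho_yV_fix_iff e ρ x v).2 ?_
      unfold IsFix
      rw [h2, LinearMap.lTensor_tmul]
      simp
    · intro hv B _ _ h
      have := hv B (h ≫ i)
      rwa [Category.comp_id] at this
  tfae_have 2 → 1 := by
    intro hc f hf
    have hf' : AGF.IsRTransInv i f := hf
    have h1 : IsRInv (π : A →ₐ[k] C) (valOf e f) :=
      (isRTransInv_sub_iff e eH i (π : A →ₐ[k] C) hπ f).1 hf'
    have h2 : valOf e f ∈ (gmodOn e (HopfRep.Comod.regular k A)).fixedUnder i :=
      (forall_fix_iff e eH i (π : A →ₐ[k] C) hπ _ (HopfRep.Comod.regular k A)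
        (fun B _ _ x m => gmodOn_yV_fix_iff e _ x m) (valOf e f)).2 h1
    rw [hc A (gmodOn e (HopfRep.Comod.regular k A))] at h2
    have h3 := (mem_fixedUnder_id_iff e (HopfRep.Comod.regular k A) (valOf e f)).1 h2
    have h4 : Coalgebra.comul (R := k) (valOf e f) = valOf e f ⊗ₜ[k] (1 : A) := h3
    have h5 := Coalgebra.rTensor_counit_comul (R := k) (valOf e f)
    rw [h4, LinearMap.rTensor_tmul] at h5
    have h6 := congrArg (TensorProduct.lid k A) h5
    simp only [TensorProduct.lid_tmul, one_smul] at h6
    refine ⟨Coalgebra.counit (R := k) (valOf e f), ?_⟩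
    rw [← fnOf_const e, Algebra.algebraMap_eq_smul_one, h6, fnOf_valOf]
  tfae_finish

end Groth.Agent.S11234
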