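import Groth.Statements.S11235
import Mathlib.Algebra.Polynomial.Roots
import Mathlib.Algebra.Polynomial.Div
import Mathlib.RingTheory.Ideal.Quotient.Operations

set_option autoImplicit false
universe u
open CAlg

namespace Groth.Agent.S11235

/-- Let k be an algebraically closed field, A a commutative k-algebra, α ∈ k, and M a maximal ideal of
the polynomial ring A[x] containing x - α. Let I ⊆ M be an ideal whose zero set in Spec A[x] is
invariant under the automorphisms x ↦ c·x, c ∈ k nonzero (equivalently: the image of I under each
such A-algebra automorphism has the same radical as I). Then there is a maximal ideal of A[x]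
containing I and x. -/
theorem result (k : Type u) [Field k] [IsAlgClosed k]
    (A : Type u) [CommRing A] [Algebra k A] (α : k)
    (M : Ideal (Polynomial A)) (hM : M.IsMaximal)
    (hα : Polynomial.X - Polynomial.C (algebraMap k A α) ∈ M)
    (I : Ideal (Polynomial A)) (hIM : I ≤ M)
    (hI : ∀ c : kˣ, (I.map (Polynomial.aeval (R := A)
      (algebraMap k A (c : k) • (Polynomial.X : Polynomial A)))).radical = I.radical) :
    ∃ N : Ideal (Polynomial A), N.IsMaximal ∧ I ≤ N ∧ Polynomial.X ∈ N := by
  classical
  by_cases hα0 : α = 0
  · refine ⟨M, hM, hIM, ?_⟩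
    rw [hα0, map_zero, map_zero, sub_zero] at hα
    exact hα
  -- the residue field F = A[x]/M
  have := hM
  let F := Polynomial A ⧸ M
  let _ : Field F := Ideal.Quotient.field M
  let π : Polynomial A →+* F := Ideal.Quotient.mk M
  let ι : k →+* F := (π.comp Polynomial.C).comp (algebraMap k A)
  have hιinj : Function.Injective ι := ι.injective
  have hπX : π Polynomial.X = ι α := by
    have : π (Polynomial.X - Polynomial.C (algebraMap k A α)) = 0 :=
      Ideal.Quotient.eq_zero_iff_mem.mpr hα
    rw [map_sub, sub_eq_zero] at this
    exact this
  -- every element of F comes from A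
  have hπsurj : Function.Surjective (π.comp Polynomial.C) := by
    intro z
    obtain ⟨p, rfl⟩ := Ideal.Quotient.mk_surjective z
    refine ⟨p.eval (algebraMap k A α), ?_⟩
    have hdvd : Polynomial.X - Polynomial.C (algebraMap k A α) ∣ p - Polynomial.C (p.eval (algebraMap k A α)) :=
      Polynomial.X_sub_C_dvd_sub_C_eval
    have hmem : p - Polynomial.C (p.eval (algebraMap k A α)) ∈ M := Ideal.mem_of_dvd M hdvd hα
    have : π (p - Polynomial.C (p.eval (algebraMap k A α))) = 0 := Ideal.Quotient.eq_zero_iff_mem.mpr hmem
    rw [map_sub, sub_eq_zero] at this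
    exact this.symm
  -- the ideal N
  let ψ : Polynomial A →+* F := (π.comp Polynomial.C).comp (Polynomial.evalRingHom 0)
  have hψsurj : Function.Surjective ψ := by
    intro z
    obtain ⟨a, ha⟩ := hπsurj z
    refine ⟨Polynomial.C a, ?_⟩
    simp only [ψ, RingHom.comp_apply, Polynomial.coe_evalRingHom, Polynomial.eval_C]
    exact ha
  refine ⟨RingHom.ker ψ, RingHom.ker_isMaximal_of_surjective ψ hψsurj, ?_, ?_⟩
  · intro g hg
    -- g mapped to F[x] vanishes
    have hgF : g.map (π.comp Polynomial.C) = 0 := by
      apply Polynomial.eq_zero_of_infinite_isRoot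
      have hsub : Set.range (fun c : kˣ => ι (c : k) * ι α) ⊆
          {x | Polynomial.IsRoot (g.map (π.comp Polynomial.C)) x} := by
        rintro _ ⟨c, rfl⟩
        have h1 : Polynomial.aeval (R := A) (algebraMap k A (c : k) • (Polynomial.X : Polynomial A)) g ∈ M := by
          have h2 : Polynomial.aeval (R := A) (algebraMap k A (c : k) • (Polynomial.X : Polynomial A)) g ∈
              (I.map (Polynomial.aeval (R := A) (algebraMap k A (c : k) • (Polynomial.X : Polynomial A)))).radical :=
            Ideal.le_radical (Ideal.mem_map_of_mem _ hg)
          rw [hI c] at h2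
          have h3 : I.radical ≤ M := (Ideal.IsPrime.radical_le_iff hM.isPrime).mpr hIM
          exact h3 h2
        have h4 : π (Polynomial.aeval (R := A) (algebraMap k A (c : k) • (Polynomial.X : Polynomial A)) g) = 0 :=
          Ideal.Quotient.eq_zero_iff_mem.mpr h1
        rw [Polynomial.aeval_def, Polynomial.hom_eval₂] at h4
        show Polynomial.eval _ _ = 0
        rw [Polynomial.eval_map]
        have h8 : π (algebraMap k A (c : k) • (Polynomial.X : Polynomial A)) = ι (c : k) * ι α := by
          rw [Algebra.smul_def, map_mul, hπX]
          rfl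
        rw [h8] at h4
        exact h4
      apply Set.Infinite.mono hsub
      have : Infinite k := IsAlgClosed.instInfinite
      have : Infinite kˣ := by
        have h0 : Infinite ↥(({0} : Set k)ᶜ) := (Set.finite_singleton (0 : k)).infinite_compl.to_subtype
        let f : ↥(({0} : Set k)ᶜ) → kˣ := fun x => Units.mk0 x.1 (fun h => x.2 (Set.mem_singleton_iff.mpr h))
        refine Infinite.of_injective f ?_
        intro x y hxy
        have := congrArg Units.val hxy
        exact Subtype.ext this
      apply Set.infinite_range_of_injective
      intro c c' hcc'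
      have h5 : ι α ≠ 0 := fun h => hα0 (hιinj (by rw [h, map_zero]))
      have h6 := mul_right_cancel₀ h5 hcc'
      exact Units.ext (hιinj h6)
    rw [RingHom.mem_ker]
    show π (Polynomial.C (g.eval 0)) = 0
    have h7 := congrArg (fun q => Polynomial.coeff q 0) hgF
    simp only [Polynomial.coeff_map, Polynomial.coeff_zero] at h7
    rw [← Polynomial.coeff_zero_eq_eval_zero]
    exact h7
  · rw [RingHom.mem_ker]
    simp [ψ]

end Groth.Agent.S11235
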