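import Groth.Statements.S11237
import Groth.Agent.Lib.Helper59.SqZeroGMod

set_option autoImplicit false
universe u
open CategoryTheory MonoidalCategory CartesianMonoidalCategory MonObj GrpObj AlgebraicGeometry
open scoped TensorProduct
open AGF

namespace Groth.Agent.S11237

/-- Let k be an algebraically closed field and G a linear algebraic group over k (affine, smooth) whose
identity component is reductive. Assume finite generation of invariants of reductive groups over k
on finitely generated algebras (a true result which the published text assumes without proof,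
carried here as a hypothesis). Let A be a finitely generated commutative k-algebra with a rational
action of G by algebra automorphisms and M a finitely generated A-module with a compatible rational
G-action. Then the invariants M^G form a finitely generated A^G-module (the A^G-span of finitely
many invariant elements). -/
theorem result (k : Type u) [Field k] [IsAlgClosed k]
    (G : Over (Spec (CommRingCat.of k))) [GrpObj G] (hG : VecGrp.IsReductiveGrp k G)
    (thmA : VecGrp.ReductiveInvariantsFG k)
    (A : Type u) [CommRing A] [Algebra k A] [Algebra.FiniteType k A] (ρA : VecGrp.GMod G A) (hρ : ρA.IsMult)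
    (M : Type u) [AddCommGroup M] [Module A M] [Module k M] [IsScalarTower k A M] [Module.Finite A M]
    (ρM : VecGrp.GMod G M) (hc : VecGrp.GMod.IsCompat ρA ρM) :
    ∃ s : Finset M, (↑s : Set M) ⊆ ρM.fixedUnder (𝟙 G) ∧
      ρM.fixedUnder (𝟙 G) ≤ (Submodule.span ↥(ρA.fixedSubalgebra hρ (𝟙 G)) (↑s : Set M)).restrictScalars k := by
  classical
  letI : Module Aᵐᵒᵖ M := Groth.Agent.Lib.Helper59.SqZeroGMod.opMod A M
  have hft : Algebra.FiniteType k (TrivSqZeroExt A M) :=
    Groth.Agent.Lib.Helper59.SqZeroGMod.finiteType_tsze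
  obtain ⟨sR, hsub, hgen⟩ := thmA G hG (TrivSqZeroExt A M)
    (Groth.Agent.Lib.Helper59.SqZeroGMod.gmod ρA ρM)
    (Groth.Agent.Lib.Helper59.SqZeroGMod.gmod_isMult ρA ρM hρ hc) hft
  refine ⟨sR.image TrivSqZeroExt.snd, ?_, ?_⟩
  · intro m hm
    rw [Finset.coe_image] at hm
    obtain ⟨r, hr, rfl⟩ := hm
    exact Groth.Agent.Lib.Helper59.SqZeroGMod.snd_mem_of_mem_fixed ρA ρM (hsub hr)
  · intro m hm
    have hmem : (TrivSqZeroExt.inr m : TrivSqZeroExt A M) ∈ Algebra.adjoin k (↑sR : Set (TrivSqZeroExt A M)) :=
      hgen (Groth.Agent.Lib.Helper59.SqZeroGMod.inr_mem_fixed ρA ρM hm)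
    have key : ∀ r ∈ Algebra.adjoin k (↑sR : Set (TrivSqZeroExt A M)),
        r.fst ∈ ρA.fixedSubalgebra hρ (𝟙 G) ∧
          r.snd ∈ Submodule.span ↥(ρA.fixedSubalgebra hρ (𝟙 G))
            (↑(sR.image TrivSqZeroExt.snd) : Set M) := by
      intro r hr
      induction hr using Algebra.adjoin_induction with
      | mem x hx =>
        refine ⟨Groth.Agent.Lib.Helper59.SqZeroGMod.fst_mem_of_mem_fixed ρA ρM (hsub hx), ?_⟩
        apply Submodule.subset_span
        rw [Finset.coe_image]
        exact ⟨x, hx, rfl⟩
      | algebraMap c =>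
        refine ⟨?_, ?_⟩
        · rw [TrivSqZeroExt.algebraMap_eq_inl', TrivSqZeroExt.fst_inl]
          exact Subalgebra.algebraMap_mem _ c
        · rw [TrivSqZeroExt.algebraMap_eq_inl', TrivSqZeroExt.snd_inl]
          exact Submodule.zero_mem _
      | add x y _ _ hx hy =>
        refine ⟨?_, ?_⟩
        · rw [TrivSqZeroExt.fst_add]; exact Subalgebra.add_mem _ hx.1 hy.1
        · rw [TrivSqZeroExt.snd_add]; exact Submodule.add_mem _ hx.2 hy.2
      | mul x y _ _ hx hy =>
        refine ⟨?_, ?_⟩
        · rw [TrivSqZeroExt.fst_mul]; exact Subalgebra.mul_mem _ hx.1 hy.1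
        · rw [TrivSqZeroExt.snd_mul]
          refine Submodule.add_mem _ ?_ ?_
          · exact Submodule.smul_mem _ (⟨x.fst, hx.1⟩ : ↥(ρA.fixedSubalgebra hρ (𝟙 G))) hy.2
          · exact Submodule.smul_mem _ (⟨y.fst, hy.1⟩ : ↥(ρA.fixedSubalgebra hρ (𝟙 G))) hx.2
    have := (key _ hmem).2
    rwa [TrivSqZeroExt.snd_inr] at this

end Groth.Agent.S11237
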