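import Groth.Statements.S11238
import Mathlib
import Groth.Agent.Lib.Helper92.LurothLine
-- import your own Groth.Agent.* helpers here

set_option autoImplicit false
universe u
open AGF

namespace Groth.Agent.S11238

/-- Over an algebraically closed field k, a unirational variety of dimension one is rational. Field
form: let K be a finitely generated field extension of k of transcendence degree one (K is algebraic
over k(x) for some x ∈ K transcendental over k) admitting a k-embedding into a purely transcendental
extension k(t_1, ..., t_n). Then K = k(t) for some t ∈ K transcendental over k. -/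
theorem result (k : Type u) [Field k] [IsAlgClosed k]
    (K : Type u) [Field K] [Algebra k K] (hfg : (⊤ : IntermediateField k K).FG)
    (x : K) (hx : Transcendental k x) (halg : Algebra.IsAlgebraic ↥(IntermediateField.adjoin k {x}) K)
    (n : ℕ) (φ : K →ₐ[k] FractionRing (MvPolynomial (Fin n) k)) :
    ∃ t : K, Transcendental k t ∧ IntermediateField.adjoin k {t} = ⊤ := by
  obtain ⟨S, hS⟩ := hfg
  obtain ⟨ψ⟩ := Groth.Agent.Lib.Helper92.LurothLine.exists_algHom S hS x hx halg φ
  have hψinj : Function.Injective ψ := ψ.toRingHom.injective
  set E := ψ.fieldRange with hEdef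
  have hE : E ≠ ⊥ := by
    intro h
    have hmem : ψ x ∈ E := ⟨x, rfl⟩
    rw [h, IntermediateField.mem_bot] at hmem
    obtain ⟨c, hc⟩ := hmem
    apply hx
    rw [← isAlgebraic_algHom_iff ψ hψinj, ← hc]
    exact isAlgebraic_algebraMap c
  have hgen := RatFunc.Luroth.eq_adjoin_generator (E := E)
  obtain ⟨t, ht⟩ : ∃ t, ψ t = RatFunc.Luroth.generator E :=
    RatFunc.Luroth.generator_mem (E := E)
  refine ⟨t, ?_, ?_⟩
  · have htr := RatFunc.Luroth.transcendental_generator hE
    rw [← ht] at htr
    intro halg'
    exact htr (halg'.algHom ψ)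
  · rw [eq_top_iff]
    intro z _
    have hz : ψ z ∈ E := ⟨z, rfl⟩
    rw [hgen, ← ht, ← Set.image_singleton, ← IntermediateField.adjoin_map] at hz
    obtain ⟨z', hz', hzz⟩ := hz
    rwa [← hψinj hzz]

end Groth.Agent.S11238
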