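import Groth.Statements.S11239
import Mathlib.LinearAlgebra.Matrix.Block

set_option autoImplicit false
universe u
open AGF

namespace Groth.Agent.S11239

/-- Let X be an m × n matrix over a commutative ring, u an upper triangular n × n matrix with ones on
the diagonal, t a diagonal n × n matrix and p ≤ n. For any choice of p rows, the minor of X·t·u
formed with these rows and the first p columns equals (t_11 ⋯ t_pp) times the corresponding minor of
X: the minors on the first p columns are semi-invariant of weight ω_p under right multiplication by
the upper triangular group. (The published statement is for the generic matrix over an algebraically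
closed field; this row states the identity over any commutative ring.) -/
theorem result (R : Type u) [CommRing R] (m n p : ℕ) (hp : p ≤ n)
    (X : Matrix (Fin m) (Fin n) R) (d : Fin n → R) (u : Matrix (Fin n) (Fin n) R)
    (hu1 : ∀ i, u i i = 1) (hu0 : ∀ i j, j < i → u i j = 0) (I : Fin p → Fin m) :
    ((X * Matrix.diagonal d * u).submatrix I (Fin.castLE hp)).det =
      (∏ i : Fin p, d (Fin.castLE hp i)) * (X.submatrix I (Fin.castLE hp)).det := by
  set c : Fin p → Fin n := Fin.castLE hp with hc
  set V : Matrix (Fin n) (Fin n) R := Matrix.diagonal d * u with hV
  have hVent : ∀ i j, V i j = d i * u i j := by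
    intro i j
    rw [hV, Matrix.diagonal_mul]
  -- the key factorization
  have hfac : (X * Matrix.diagonal d * u).submatrix I c =
      X.submatrix I c * V.submatrix c c := by
    ext a j
    rw [Matrix.submatrix_apply, Matrix.mul_assoc, Matrix.mul_apply, Matrix.mul_apply]
    -- sum over Fin n vs sum over Fin p
    have hinj : Function.Injective c := Fin.castLE_injective hp
    rw [← Finset.sum_subset (Finset.subset_univ (Finset.univ.image c))]
    · rw [Finset.sum_image (fun x _ y _ hxy => hinj hxy)]
      rfl
    · intro i _ hi
      have hi' : ∀ j' : Fin p, c j' ≠ i := by
        intro j' hj'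
        exact hi (Finset.mem_image.mpr ⟨j', Finset.mem_univ _, hj'⟩)
      have hpi : p ≤ i.val := by
        by_contra hlt
        push Not at hlt
        exact hi' ⟨i.val, hlt⟩ (Fin.ext rfl)
      have hlt : c j < i := by
        rw [Fin.lt_def]
        have : (c j).val = j.val := rfl
        have := j.isLt
        omega
      change X (I a) i * V i (c j) = 0
      rw [hVent, hu0 i (c j) hlt, mul_zero, mul_zero]
  rw [hfac, Matrix.det_mul]
  have htri : (V.submatrix c c).IsUpperTriangular := by
    intro i j hij
    have hij' : j < i := hij
    change V (c i) (c j) = 0
    rw [hVent, hu0 (c i) (c j) (by rw [Fin.lt_def]; exact hij'), mul_zero]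
  rw [Matrix.det_of_isUpperTriangular htri, mul_comm]
  congr 1
  apply Finset.prod_congr rfl
  intro i _
  change V (c i) (c i) = d (c i)
  rw [hVent, hu1, mul_one]

end Groth.Agent.S11239
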