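import Groth.Statements.S1124
import Groth.Agent.S0079
import Mathlib.AlgebraicGeometry.Morphisms.FlatDescent
import Mathlib.AlgebraicGeometry.Morphisms.Immersion
import Mathlib.AlgebraicGeometry.IdealSheaf.Subscheme

set_option autoImplicit false
open CategoryTheory CategoryTheory.Limits AlgebraicGeometry Opposite
universe u
open Desc

namespace Groth.Agent.S1124

/-- If the base change of a morphism of schemes along a quasi-compact, flat, surjective morphism is a
quasi-compact immersion, then the morphism itself is a quasi-compact immersion. (Stated for a single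
quasi-compact flat surjective base change; together with Zariski-locality on the target this is fpqc
descent for quasi-compact immersions.) -/
theorem result :
    MorphismProperty.DescendsAlong (@IsImmersion ⊓ @QuasiCompact : MorphismProperty Scheme.{u})
      (@Surjective ⊓ @Flat ⊓ @QuasiCompact : MorphismProperty Scheme.{u}) := by
  refine ⟨fun {A X Y Z fst snd f g} hpb hf hfst => ?_⟩
  obtain ⟨⟨hsurj, hflat⟩, hqc⟩ := hf
  obtain ⟨himm, hfstqc⟩ := hfst
  have hsurj' : Surjective f := hsurj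
  have hflat' : Flat f := hflat
  have hqc' : QuasiCompact f := hqc
  have himm' : IsImmersion fst := himm
  have hfstqc' : QuasiCompact fst := hfstqc
  have hgqc : QuasiCompact g :=
    Groth.Agent.S0079.result.of_isPullback hpb ⟨⟨hsurj, hflat⟩, hqc⟩ hfstqc
  refine ⟨?_, hgqc⟩
  let j : A ⟶ pullback f g.imageι := pullback.lift fst (snd ≫ g.toImage)
    (by rw [hpb.w, Category.assoc, g.toImage_imageι])
  have hj1 : j ≫ pullback.fst f g.imageι = fst := pullback.lift_fst _ _ _
  have hj2 : j ≫ pullback.snd f g.imageι = snd ≫ g.toImage := pullback.lift_snd _ _ _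
  have hpbj : IsPullback j snd (pullback.snd f g.imageι) g.toImage := by
    refine IsPullback.of_right ?_ hj2 (IsPullback.of_hasPullback f g.imageι)
    rw [hj1, g.toImage_imageι]
    exact hpb
  have hjimm : IsImmersion j := by
    have : IsImmersion (j ≫ pullback.fst f g.imageι) := by rw [hj1]; exact himm
    exact IsImmersion.of_comp j (pullback.fst f g.imageι)
  have hjqc : QuasiCompact j := by
    have : QuasiCompact (j ≫ pullback.fst f g.imageι) := by rw [hj1]; exact hfstqc
    exact QuasiCompact.of_comp j (pullback.fst f g.imageι)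
  -- injectivity on a basis
  have hinj : ∀ (U₀ : Z.affineOpens) (U' : (pullback f g.imageι).affineOpens),
      U'.1 ≤ (pullback.snd f g.imageι) ⁻¹ᵁ (g.imageι ⁻¹ᵁ U₀.1) →
      Function.Injective (j.app U'.1) := by
    intro U₀ U' hU'
    have hUS : IsAffineOpen (g.imageι ⁻¹ᵁ U₀.1) := U₀.2.preimage g.imageι
    have hUX : IsCompact ((g.toImage ⁻¹ᵁ (g.imageι ⁻¹ᵁ U₀.1) : Y.Opens) : Set Y) :=
      g.toImage.isCompact_preimage hUS.isCompact
    have hm := mono_pushoutSection_of_isCompact_of_flat_right hpbj.flip hU' le_rfl rfl hUS U'.2 hUX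
    have hmi : Function.Injective (pushoutSection hpbj.flip hU' le_rfl rfl) :=
      (ConcreteCategory.mono_iff_injective_of_preservesPullback _).mp hm
    have hinr := CommRingCat.inr_injective_of_flat
      (g.toImage.appLE (g.imageι ⁻¹ᵁ U₀.1) (g.toImage ⁻¹ᵁ (g.imageι ⁻¹ᵁ U₀.1)) le_rfl)
      ((pullback.snd f g.imageι).appLE (g.imageι ⁻¹ᵁ U₀.1) U'.1 hU')
      (by rw [Scheme.Hom.appLE_eq_app]; exact g.toImage_app_injective U₀)
      ((pullback.snd f g.imageι).flat_appLE hUS U'.2 hU')
    have hcomp := hmi.comp hinr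
    have heq : (pushout.inr _ _ ≫ pushoutSection hpbj.flip hU' le_rfl rfl) =
        j.appLE U'.1 (snd ⁻¹ᵁ (g.toImage ⁻¹ᵁ (g.imageι ⁻¹ᵁ U₀.1)) ⊓ j ⁻¹ᵁ U'.1) inf_le_right :=
      pushout.inr_desc _ _ _
    have hinj' : Function.Injective
        (j.appLE U'.1 (snd ⁻¹ᵁ (g.toImage ⁻¹ᵁ (g.imageι ⁻¹ᵁ U₀.1)) ⊓ j ⁻¹ᵁ U'.1) inf_le_right) := by
      rw [← heq]
      exact hcomp
    rw [Scheme.Hom.appLE] at hinj'
    exact Function.Injective.of_comp hinj'
  have hker : j.ker = ⊥ := by
    let 𝒰 := {U' : (pullback f g.imageι).affineOpens // ∃ U₀ : Z.affineOpens,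
      U'.1 ≤ (pullback.snd f g.imageι) ⁻¹ᵁ (g.imageι ⁻¹ᵁ U₀.1)}
    refine Scheme.IdealSheafData.ext_of_iSup_eq_top (fun U' : 𝒰 => U'.1) ?_ ?_
    · rw [eq_top_iff]
      intro w _
      obtain ⟨_, ⟨U₀, hU₀, rfl⟩, hw₀, -⟩ := Z.isBasis_affineOpens.exists_subset_of_mem_open
        (Set.mem_univ (g.imageι (pullback.snd f g.imageι w))) isOpen_univ
      obtain ⟨_, ⟨U', hU', rfl⟩, hwU', hU'le⟩ :=
        (pullback f g.imageι).isBasis_affineOpens.exists_subset_of_mem_open
          (show w ∈ (((pullback.snd f g.imageι) ⁻¹ᵁ (g.imageι ⁻¹ᵁ U₀) :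
            (pullback f g.imageι).Opens) : Set _) from hw₀)
          ((pullback.snd f g.imageι) ⁻¹ᵁ (g.imageι ⁻¹ᵁ U₀)).isOpen
      exact TopologicalSpace.Opens.mem_iSup.mpr ⟨⟨⟨U', hU'⟩, ⟨U₀, hU₀⟩, hU'le⟩, hwU'⟩
    · rintro ⟨U', U₀, hU'⟩
      rw [Scheme.Hom.ker_apply, Scheme.IdealSheafData.ideal_bot]
      exact (RingHom.injective_iff_ker_eq_bot _).mp (hinj U₀ U' hU')
  have hiso : IsIso j.imageι := (Scheme.isIso_subschemeι_iff_eq_bot _).mpr hker
  have hjopen : IsOpenImmersion j := by
    rw [← j.toImage_imageι]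
    infer_instance
  have htopen : IsOpenImmersion g.toImage :=
    MorphismProperty.of_isPullback_of_descendsAlong (P := @IsOpenImmersion)
      (Q := @Surjective ⊓ @Flat ⊓ @QuasiCompact) hpbj
      ⟨⟨inferInstance, inferInstance⟩, inferInstance⟩ hjopen
  rw [← g.toImage_imageι]
  change IsImmersion (g.toImage ≫ g.imageι)
  infer_instance

end Groth.Agent.S1124
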