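import Groth.Statements.S11240
import Mathlib.LinearAlgebra.Matrix.Determinant.Basic
import Mathlib.Algebra.MvPolynomial.Eval
import Mathlib.Tactic.LinearCombination

set_option autoImplicit false
universe u
open AGF

namespace Groth.Agent.S11240

/-- For a single root subgroup: let k be an algebraically closed field and X = (x_ab) the generic n × m
matrix over the polynomial ring k[x_ab]. Let i ≠ j be row indices and let I (rows) and J (columns)
be strictly increasing sequences of length p. The minor of X with rows I and columns J is invariant
under replacing X by (1 + b·E_ij)·X for every b ∈ k (the one-parameter unipotent group adding b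
times row j to row i) if and only if j occurs in I whenever i does. (The published statement gives
the criterion for the group generated by several such root subgroups, which is the conjunction of
these.) -/
theorem result (k : Type u) [Field k] [IsAlgClosed k] (n m p : ℕ)
    (i j : Fin n) (hij : i ≠ j) (I : Fin p ↪o Fin n) (J : Fin p ↪o Fin m) :
    (∀ b : k, ((Matrix.transvection i j (MvPolynomial.C b) *
        (Matrix.of fun a c => (MvPolynomial.X (a, c) : MvPolynomial (Fin n × Fin m) k))).submatrix I J).det =
        ((Matrix.of fun a c => (MvPolynomial.X (a, c) : MvPolynomial (Fin n × Fin m) k)).submatrix I J).det) ↔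
      (i ∈ Set.range I → j ∈ Set.range I) := by
  classical
  set M : Matrix (Fin n) (Fin m) (MvPolynomial (Fin n × Fin m) k) :=
    Matrix.of fun a c => (MvPolynomial.X (a, c) : MvPolynomial (Fin n × Fin m) k) with hM
  by_cases hi : i ∈ Set.range I
  · obtain ⟨r₀, rfl⟩ := hi
    by_cases hj : j ∈ Set.range I
    · obtain ⟨r₁, rfl⟩ := hj
      refine iff_of_true ?_ (fun _ => ⟨r₁, rfl⟩)
      intro b
      have hne : r₀ ≠ r₁ := fun h => hij (by rw [h])
      have hN : (Matrix.transvection (I r₀) (I r₁)
            (MvPolynomial.C b : MvPolynomial (Fin n × Fin m) k) * M).submatrix I J =
          (M.submatrix I J).updateRow r₀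
            ((M.submatrix I J) r₀ +
              (MvPolynomial.C b : MvPolynomial (Fin n × Fin m) k) • (M.submatrix I J) r₁) := by
        ext r c
        by_cases hr : r = r₀
        · subst hr
          rw [Matrix.updateRow_self, Matrix.submatrix_apply, Matrix.transvection_mul_apply_same]
          rfl
        · have hne' : I r ≠ I r₀ := fun h => hr (I.injective h)
          rw [Matrix.updateRow_ne hr, Matrix.submatrix_apply,
            Matrix.transvection_mul_apply_of_ne _ _ _ _ hne']
          rfl
      rw [hN, Matrix.det_updateRow_add_smul_self _ hne]
    · refine iff_of_false ?_ (fun h => hj (h ⟨r₀, rfl⟩))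
      intro h
      have h1 := h 1
      have hN : (Matrix.transvection (I r₀) j
            (MvPolynomial.C (1 : k) : MvPolynomial (Fin n × Fin m) k) * M).submatrix I J =
          (M.submatrix I J).updateRow r₀
            ((M.submatrix I J) r₀ + (fun c => M j (J c))) := by
        ext r c
        by_cases hr : r = r₀
        · subst hr
          rw [Matrix.updateRow_self, Matrix.submatrix_apply, Matrix.transvection_mul_apply_same]
          simp
        · have hne' : I r ≠ I r₀ := fun h => hr (I.injective h)
          rw [Matrix.updateRow_ne hr, Matrix.submatrix_apply,
            Matrix.transvection_mul_apply_of_ne _ _ _ _ hne']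
          rfl
      rw [hN, Matrix.det_updateRow_add, Matrix.updateRow_eq_self] at h1
      have h2 : ((M.submatrix I J).updateRow r₀ (fun c => M j (J c))).det = 0 := by
        linear_combination h1
      let I' : Fin p → Fin n := Function.update I r₀ j
      have hI' : Function.Injective I' := by
        intro r r' h
        by_cases hr : r = r₀ <;> by_cases hr' : r' = r₀
        · rw [hr, hr']
        · exfalso
          simp only [I', hr, Function.update_self, Function.update_of_ne hr'] at h
          exact hj ⟨r', h.symm⟩
        · exfalso
          simp only [I', hr', Function.update_self, Function.update_of_ne hr] at h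
          exact hj ⟨r, h⟩
        · simp only [I', Function.update_of_ne hr, Function.update_of_ne hr'] at h
          exact I.injective h
      have hA : (M.submatrix I J).updateRow r₀ (fun c => M j (J c)) = M.submatrix I' J := by
        ext r c
        by_cases hr : r = r₀
        · subst hr
          simp [I']
        · simp [I', hr]
      let f : Fin n × Fin m → k := fun ac => if ∃ r, ac.1 = I' r ∧ ac.2 = J r then 1 else 0
      have h3 := congrArg (MvPolynomial.eval f) h2
      rw [hA, RingHom.map_det, map_zero] at h3
      have hone : (MvPolynomial.eval f).mapMatrix (M.submatrix I' J) = 1 := by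
        ext r c
        simp only [RingHom.mapMatrix_apply, Matrix.map_apply, Matrix.submatrix_apply, hM,
          Matrix.of_apply, MvPolynomial.eval_X, Matrix.one_apply, f]
        by_cases hrc : r = c
        · subst hrc
          rw [if_pos ⟨r, rfl, rfl⟩, if_pos rfl]
        · rw [if_neg hrc, if_neg]
          rintro ⟨r', h1, h2⟩
          exact hrc ((hI' h1).trans (J.injective h2).symm)
      rw [hone, Matrix.det_one] at h3
      exact one_ne_zero h3
  · refine iff_of_true ?_ (fun h => absurd h hi)
    intro b
    congr 1
    ext r c
    have hne : I r ≠ i := fun h => hi ⟨r, h⟩
    rw [Matrix.submatrix_apply, Matrix.transvection_mul_apply_of_ne _ _ _ _ hne]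
    rfl

end Groth.Agent.S11240
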