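import Groth.Statements.S11244
import Groth.Agent.Lib.Helper41.OrbitDim3

set_option autoImplicit false
universe u
open CategoryTheory MonoidalCategory CartesianMonoidalCategory MonObj GrpObj AlgebraicGeometry
open scoped TensorProduct
open AGF

namespace Groth.Agent.S11244

set_option backward.isDefEq.respectTransparency.types false in
theorem quasiCompact_of_isAffine {k : Type u} [Field k] (G : Over (Spec (CommRingCat.of k)))
    [IsAffine G.left] : QuasiCompact G.hom := by
  rw [HasAffineProperty.iff_of_isAffine (P := @QuasiCompact)]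
  infer_instance

theorem exists_nat_of_add_eq {a b : WithBot ℕ∞} {n : ℕ} (h : (n : WithBot ℕ∞) = a + b) (ha : 0 ≤ a)
    (hb : 0 ≤ b) : ∃ p q : ℕ, a = (p : WithBot ℕ∞) ∧ b = (q : WithBot ℕ∞) ∧ p + q = n := by
  induction a using WithBot.recBotCoe with
  | bot => exact absurd ha (by simp)
  | coe a' =>
    induction b using WithBot.recBotCoe with
    | bot => exact absurd hb (by simp)
    | coe b' =>
      have h' : ((n : ℕ∞) : WithBot ℕ∞) = ((a' + b' : ℕ∞) : WithBot ℕ∞) := by
        rw [WithBot.coe_add]
        exact h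
      have h'' : (n : ℕ∞) = a' + b' := WithBot.coe_inj.mp h'
      induction a' using ENat.recTopCoe with
      | top => simp at h''
      | coe p =>
        induction b' using ENat.recTopCoe with
        | top => simp at h''
        | coe q =>
          refine ⟨p, q, rfl, rfl, ?_⟩
          exact_mod_cast h''.symm

/-- Let k be an algebraically closed field, G a linear algebraic group over k (affine, smooth) acting on
an irreducible variety X over k (reduced, separated, of finite type). For a rational point x of X
let dim G·x be the dimension of the closure of its orbit. Then for every r the set of rational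
points x with dim G·x ≤ r is closed: there is a closed subset Z of X whose rational points are
exactly those x. (The second assertion, that the points of maximal orbit dimension form a dense open
subset, follows.) -/
theorem result (k : Type u) [Field k] [IsAlgClosed k]
    (G : Over (Spec (CommRingCat.of k))) [GrpObj G] [IsAffine G.left] [Smooth G.hom]
    (X : Over (Spec (CommRingCat.of k))) [IrreducibleSpace ↥X.left] [IsReduced X.left]
    [IsSeparated X.hom] [LocallyOfFiniteType X.hom] [QuasiCompact X.hom]
    (a : AlgGrp.Action G X) (r : ℕ) :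
    ∃ Z : Set ↥X.left, IsClosed Z ∧
      ∀ x : 𝟙_ (Over (Spec (CommRingCat.of k))) ⟶ X,
        topologicalKrullDim ↥(closure (Set.range ⇑(a.orbitMap x).left.base)) ≤ (r : WithBot ℕ∞) ↔
          Set.range ⇑x.left.base ⊆ Z := by
  open Groth.Agent.Lib.Helper41.OrbitDim in
  have hqcG : QuasiCompact G.hom := quasiCompact_of_isAffine G
  have hss : Subsingleton ↥(𝟙_ (Over (Spec (CommRingCat.of k)))).left :=
    inferInstanceAs (Subsingleton (PrimeSpectrum k))
  let pt : ↥(𝟙_ (Over (Spec (CommRingCat.of k)))).left := IsLocalRing.closedPoint k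
  let e₀ : G.left := (η[G] : 𝟙_ _ ⟶ G).left pt
  have hneG : Nonempty G.left := ⟨e₀⟩
  obtain ⟨n, hn⟩ := Groth.Agent.Lib.Helper55.exists_localDim_eq_natCast G.hom e₀
  have hG : topologicalKrullDim ↥G.left = n := by
    rw [← Groth.Agent.Lib.Helper55.localDim_eq_topologicalKrullDim_of_grpObj G e₀, hn]
  have hlftΨ : LocallyOfFiniteType (graph a).left := by
    have h1 : LocallyOfFiniteType (G ⊗ X).hom := by
      rw [Over.tensorObj_hom]
      infer_instance
    have : LocallyOfFiniteType ((graph a).left ≫ (X ⊗ X).hom) := by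
      rw [Over.w (graph a)]
      exact h1
    exact locallyOfFiniteType_of_comp (graph a).left (X ⊗ X).hom
  have key : ∀ x : 𝟙_ (Over (Spec (CommRingCat.of k))) ⟶ X, ∃ p q : ℕ, p + q = n ∧
      topologicalKrullDim ↥(closure (Set.range ⇑(a.orbitMap x).left.base)) = (p : WithBot ℕ∞) ∧
      FlatMor.fibreDimAt (graph a).left ((unitSect G X).left (x.left pt)) = (q : WithBot ℕ∞) := by
    intro x
    have hci : IsClosedImmersion x.left :=
      isClosedImmersion_of_comp_eq_id (Y := Spec (CommRingCat.of k)) X.hom x.left (Over.w x)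
    have h1 := dim_eq_orbit_add_stabilizer a x
    have h2 := topologicalKrullDim_closure_eq X.hom _
      (Groth.Agent.Lib.Helper41.OrbitTop.isLocallyClosed_orbit a x)
    have h3 := fibreDimAt_graph_eq a x
    rw [hG] at h1
    have hO0 : 0 ≤ topologicalKrullDim ↥(Set.range (a.orbitMap x).left.base) := by
      have : Nonempty ↥(Set.range (a.orbitMap x).left.base) := ⟨⟨_, ⟨e₀, rfl⟩⟩⟩
      exact Groth.Agent.Lib.Helper29.topologicalKrullDim_nonneg
    have hS0 : 0 ≤ topologicalKrullDim ↥(Limits.pullback (a.orbitMap x).left x.left) := by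
      have : Nonempty ↥(Limits.pullback (a.orbitMap x).left x.left) := by
        obtain ⟨w, -, -⟩ := Scheme.Pullback.exists_preimage_pullback
          (f := (a.orbitMap x).left) (g := x.left) e₀ pt (by
            change ((η[G] : 𝟙_ _ ⟶ G) ≫ a.orbitMap x).left pt = _
            rw [unit_orbitMap])
        exact ⟨w⟩
      exact Groth.Agent.Lib.Helper29.topologicalKrullDim_nonneg
    obtain ⟨p, q, hp, hq, hpq⟩ := exists_nat_of_add_eq h1 hO0 hS0
    exact ⟨p, q, hpq, by rw [h2, hp], by rw [h3, hq]⟩
  have hrange : ∀ (x : 𝟙_ (Over (Spec (CommRingCat.of k))) ⟶ X) (Z : Set ↥X.left),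
      Set.range ⇑x.left.base ⊆ Z ↔ x.left pt ∈ Z := by
    intro x Z
    constructor
    · intro h
      exact h ⟨pt, rfl⟩
    · rintro h _ ⟨p', rfl⟩
      rw [hss.elim p' pt]
      exact h
  by_cases hrn : n ≤ r
  · refine ⟨Set.univ, isClosed_univ, fun x => ?_⟩
    obtain ⟨p, q, hpq, hp, hq⟩ := key x
    simp only [Set.subset_univ, iff_true]
    rw [hp]
    exact_mod_cast (by omega : p ≤ r)
  · rw [not_le] at hrn
    have hopen := Groth.Agent.S0402.result (graph a).left (n - r - 1)
    refine ⟨(unitSect G X).left.base ⁻¹'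
      {z | FlatMor.fibreDimAt (graph a).left z ≤ ((n - r - 1 : ℕ) : WithBot ℕ∞)}ᶜ,
      hopen.isClosed_compl.preimage (unitSect G X).left.continuous, fun x => ?_⟩
    obtain ⟨p, q, hpq, hp, hq⟩ := key x
    rw [hrange, hp]
    change _ ↔ ¬ (FlatMor.fibreDimAt (graph a).left ((unitSect G X).left (x.left pt)) ≤ _)
    rw [hq]
    have e1 : ((p : ℕ) : WithBot ℕ∞) ≤ ((r : ℕ) : WithBot ℕ∞) ↔ p ≤ r := by exact_mod_cast Iff.rfl
    have e2 : ((q : ℕ) : WithBot ℕ∞) ≤ ((n - r - 1 : ℕ) : WithBot ℕ∞) ↔ q ≤ n - r - 1 := by
      exact_mod_cast Iff.rfl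
    rw [e1, e2]
    omega

end Groth.Agent.S11244
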