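import Groth.Statements.S11249
import Mathlib.LinearAlgebra.Matrix.Rank
import Mathlib.LinearAlgebra.Matrix.Adjugate
import Mathlib.LinearAlgebra.Matrix.NonsingularInverse
import Mathlib.Order.Fin.Tuple
import Mathlib.Data.Fin.Tuple.Sort

set_option autoImplicit false
universe u
open W4bk4grassmannian

namespace Groth.Agent.S11249



section Helpers

open Matrix

variable {K : Type u} [Field K] {d n : ℕ}

/-- Step A: the hypothesis extends from increasing tuples to all tuples -/
lemma minor_eq (A A' : Matrix (Fin n) (Fin d) K) (c : K)
    (h : ∀ θ : Idx d n, (A.submatrix θ.1 id).det = c * (A'.submatrix θ.1 id).det)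
    (g : Fin d → Fin n) :
    (A.submatrix g id).det = c * (A'.submatrix g id).det := by
  by_cases hg : Function.Injective g
  · let σ := Tuple.sort g
    have hθ : StrictMono (g ∘ σ) :=
      (Tuple.monotone_sort g).strictMono_of_injective (hg.comp σ.injective)
    have hsub : ∀ B : Matrix (Fin n) (Fin d) K,
        B.submatrix g id = (B.submatrix (g ∘ σ) id).submatrix σ.symm id := by
      intro B
      ext i j
      simp
    rw [hsub A, hsub A', det_permute, det_permute, h ⟨g ∘ σ, hθ⟩]
    ring
  · rw [Function.Injective] at hg
    push Not at hg
    obtain ⟨i, j, hij, hne⟩ := hg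
    rw [det_zero_of_row_eq hne, det_zero_of_row_eq hne, mul_zero]
    · ext l; simp [hij]
    · ext l; simp [hij]

/-- Step B: Cramer -/
lemma mul_adjugate_apply (A : Matrix (Fin n) (Fin d) K) (g : Fin d → Fin n) (i : Fin n) (j : Fin d) :
    (A * adjugate (A.submatrix g id)) i j = (A.submatrix (Function.update g j i) id).det := by
  have h1 : (A.submatrix (Function.update g j i) id) = (A.submatrix g id).updateRow j (A i) := by
    ext a b
    rw [updateRow_apply]
    by_cases ha : a = j
    · subst ha; simp
    · simp [ha]
  rw [h1, ← cramer_transpose_apply, cramer_eq_adjugate_mulVec, ← adjugate_transpose]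
  rw [mul_apply, mulVec, dotProduct]
  refine Finset.sum_congr rfl fun l _ => ?_
  rw [transpose_apply, mul_comm]

end Helpers




section Helpers2

open Matrix

variable {K : Type u} [Field K] {d n : ℕ}

/-- Step C: a matrix with independent columns has a nonzero maximal minor -/
lemma exists_minor_ne_zero (A : Matrix (Fin n) (Fin d) K) (hA : LinearIndependent K A.transpose) :
    ∃ g : Fin d → Fin n, (A.submatrix g id).det ≠ 0 := by
  classical
  have hrank : A.rank = d := by
    rw [← rank_transpose]
    have := LinearIndependent.rank_matrix (M := Aᵀ) hA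
    rw [this, Fintype.card_fin]
  have hspan : Submodule.span K (Set.range A.row) = ⊤ := by
    apply Submodule.eq_top_of_finrank_eq
    rw [← rank_eq_finrank_span_row, hrank, Module.finrank_fin_fun]
  obtain ⟨b, -, -, hb1, hb2⟩ := exists_linearIndepOn_extension (K := K) (v := A.row)
    (s := ∅) (t := Set.univ) (linearIndepOn_empty K _) (Set.empty_subset _)
  have hb3 : ⊤ ≤ Submodule.span K (Set.range fun i : b => A.row i) := by
    rw [← hspan, Submodule.span_le]
    have : (Set.range fun i : b => A.row i) = A.row '' b := by
      ext x; simp
    rw [this, ← Set.image_univ]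
    exact hb1
  let B := Module.Basis.mk hb2 hb3
  have hcard : Fintype.card b = d := by
    rw [← Module.finrank_eq_card_basis B, Module.finrank_fin_fun]
  let e := (Fintype.equivFinOfCardEq hcard).symm
  refine ⟨fun j => (e j : Fin n), ?_⟩
  have hli : LinearIndependent K (A.submatrix (fun j => (e j : Fin n)) id).row := by
    have := hb2.comp e e.injective
    exact this
  have := (linearIndependent_rows_iff_isUnit.mp hli)
  exact ((isUnit_iff_isUnit_det _).mp this).ne_zero

lemma range_mul_eq (A : Matrix (Fin n) (Fin d) K) (N : Matrix (Fin d) (Fin d) K)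
    (hN : IsUnit N.det) : LinearMap.range (A * N).mulVecLin = LinearMap.range A.mulVecLin := by
  apply le_antisymm
  · rw [mulVecLin_mul]
    exact LinearMap.range_comp_le_range _ _
  · have h : A = (A * N) * N⁻¹ := (mul_nonsing_inv_cancel_right N A hN).symm
    conv_lhs => rw [h]
    rw [mulVecLin_mul]
    exact LinearMap.range_comp_le_range _ _

end Helpers2


open W4bk4grassmannian in
/-- Injectivity of the Plücker map, in matrix form: let K be a field, A and A' two n × d matrices over K
with linearly independent columns, and suppose there is a nonzero scalar c with det A_θ = c · det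
A'_θ for every strictly increasing d-tuple θ of row indices (A_θ the d × d submatrix on the rows θ).
Then the columns of A and of A' span the same subspace of K^n. (The published statement is over an
algebraically closed field; this row allows any field K.) -/
theorem result (K : Type u) [Field K] (d n : ℕ)
    (A A' : Matrix (Fin n) (Fin d) K) (hA : LinearIndependent K A.transpose)
    (hA' : LinearIndependent K A'.transpose) (c : K) (hc : c ≠ 0)
    (h : ∀ θ : Idx d n, (A.submatrix θ.1 id).det = c * (A'.submatrix θ.1 id).det) :
    Submodule.span K (Set.range A.transpose) = Submodule.span K (Set.range A'.transpose) := by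
  classical
  have hmin := minor_eq A A' c h
  obtain ⟨g, hg⟩ := exists_minor_ne_zero A hA
  have hg' : (A'.submatrix g id).det ≠ 0 := by
    intro h0
    rw [hmin g, h0, mul_zero] at hg
    exact hg rfl
  have hX : A * Matrix.adjugate (A.submatrix g id) =
      A' * (c • Matrix.adjugate (A'.submatrix g id)) := by
    ext i j
    rw [mul_adjugate_apply, Matrix.mul_smul, Matrix.smul_apply, mul_adjugate_apply, hmin,
      smul_eq_mul]
  have h1 : IsUnit (Matrix.adjugate (A.submatrix g id)).det := by
    rw [Matrix.det_adjugate]
    exact (IsUnit.mk0 _ hg).pow _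
  have h2 : IsUnit (c • Matrix.adjugate (A'.submatrix g id)).det := by
    rw [Matrix.det_smul, Matrix.det_adjugate]
    exact ((IsUnit.mk0 _ hc).pow _).mul ((IsUnit.mk0 _ hg').pow _)
  change Submodule.span K (Set.range A.col) = Submodule.span K (Set.range A'.col)
  rw [← Matrix.range_mulVecLin, ← Matrix.range_mulVecLin, ← range_mul_eq A _ h1,
    ← range_mul_eq A' _ h2, hX]

end Groth.Agent.S11249
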