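import Groth.Statements.S1125
import Groth.Agent.S0083
import Mathlib.AlgebraicGeometry.Morphisms.FlatDescent
import Mathlib.AlgebraicGeometry.Morphisms.Immersion

set_option autoImplicit false
open CategoryTheory CategoryTheory.Limits AlgebraicGeometry Opposite
universe u
open Desc

namespace Groth.Agent.S1125

/-- If the base change of a morphism along a flat, surjective morphism locally of finite presentation is
an immersion, then the morphism is an immersion. (Single-cover form of the fppf-local statement;
Zariski-locality on the target gives the covering form.) -/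
theorem result :
    MorphismProperty.DescendsAlong (@IsImmersion : MorphismProperty Scheme.{u})
      (@Surjective ⊓ @Flat ⊓ @LocallyOfFinitePresentation : MorphismProperty Scheme.{u}) := by
  refine ⟨fun {A X Y Z fst snd f g} hpb hf hfst => ?_⟩
  obtain ⟨⟨hsurj, hflat⟩, hlfp⟩ := hf
  have hsurj' : Surjective f := hsurj
  have hflat' : Flat f := hflat
  have hlfp' : LocallyOfFinitePresentation f := hlfp
  have himm : IsImmersion fst := hfst
  -- range of `fst` is the preimage of the range of `g`
  have hrange : Set.range fst = f ⁻¹' Set.range g := by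
    ext x
    constructor
    · rintro ⟨a, rfl⟩
      refine ⟨snd a, ?_⟩
      rw [← Scheme.Hom.comp_apply, ← Scheme.Hom.comp_apply, hpb.w]
    · rintro ⟨y, hy⟩
      obtain ⟨a, ha, -⟩ := Scheme.exists_preimage_of_isPullback hpb x y hy.symm
      exact ⟨a, ha⟩
  -- the range of `g` is locally closed
  have hquot : Topology.IsQuotientMap f :=
    f.isOpenMap.isQuotientMap f.continuous f.surjective
  have hopen : IsOpen (coborder (Set.range g)) := by
    rw [← hquot.isOpen_preimage, ← coborder_preimage f.isOpenMap f.continuous, ← hrange]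
    exact fst.isLocallyClosed_range.isOpen_coborder
  let V : Z.Opens := ⟨coborder (Set.range g), hopen⟩
  have hgV : Set.range g ⊆ Set.range V.ι := by
    rw [Scheme.Opens.range_ι]
    exact subset_coborder
  let gV : Y ⟶ V := IsOpenImmersion.lift V.ι g hgV
  have hgV' : gV ≫ V.ι = g := IsOpenImmersion.lift_fac _ _ _
  have hfstV : Set.range fst ⊆ Set.range (f ⁻¹ᵁ V).ι := by
    rw [Scheme.Opens.range_ι, hrange]
    exact Set.preimage_mono subset_coborder
  let fstV : A ⟶ (f ⁻¹ᵁ V : Scheme.{u}) := IsOpenImmersion.lift (f ⁻¹ᵁ V).ι fst hfstV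
  have hfstV' : fstV ≫ (f ⁻¹ᵁ V).ι = fst := IsOpenImmersion.lift_fac _ _ _
  have hpbV : IsPullback fstV snd (f ∣_ V) gV := by
    refine IsPullback.of_right ?_ ?_ (isPullback_morphismRestrict f V).flip
    · rw [hfstV', hgV']
      exact hpb
    · rw [← cancel_mono V.ι, Category.assoc, Category.assoc, hgV', morphismRestrict_ι,
        reassoc_of% hfstV', hpb.w]
  -- `fstV` is a closed immersion
  have hfstVimm : IsImmersion fstV := by
    have : IsImmersion (fstV ≫ (f ⁻¹ᵁ V).ι) := by rw [hfstV']; infer_instance
    exact IsImmersion.of_comp fstV (f ⁻¹ᵁ V).ι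
  have hclosedg : IsClosed (Set.range gV) := by
    have : Set.range gV = V.ι ⁻¹' Set.range g := by
      rw [← hgV', Scheme.Hom.comp_base, TopCat.coe_comp, Set.range_comp,
        Set.preimage_image_eq _ V.ι.isEmbedding.injective]
    rw [this]
    exact isClosed_preimage_val_coborder
  have hrangeV : Set.range fstV = (f ∣_ V) ⁻¹' Set.range gV := by
    ext x
    constructor
    · rintro ⟨a, rfl⟩
      refine ⟨snd a, ?_⟩
      rw [← Scheme.Hom.comp_apply, ← Scheme.Hom.comp_apply, hpbV.w]
    · rintro ⟨y, hy⟩
      obtain ⟨a, ha, -⟩ := Scheme.exists_preimage_of_isPullback hpbV x y hy.symm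
      exact ⟨a, ha⟩
  have hfstVcl : IsClosedImmersion fstV :=
    IsClosedImmersion.of_isPreimmersion _ (hrangeV ▸ hclosedg.preimage (f ∣_ V).continuous)
  have := Groth.Agent.S0083.result.{u}
  have hV := (isPullback_morphismRestrict f V).flip
  have hgVcl : IsClosedImmersion gV :=
    MorphismProperty.of_isPullback_of_descendsAlong (P := @IsClosedImmersion)
      (Q := @Surjective ⊓ @Flat ⊓ @LocallyOfFinitePresentation) hpbV
      ⟨⟨MorphismProperty.of_isPullback (P := @Surjective) hV hsurj,
        MorphismProperty.of_isPullback (P := @Flat) hV hflat⟩,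
        MorphismProperty.of_isPullback (P := @LocallyOfFinitePresentation) hV hlfp⟩ hfstVcl
  rw [← hgV']
  change IsImmersion (gV ≫ V.ι)
  infer_instance

end Groth.Agent.S1125
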