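import Groth.Statements.S11252
import Mathlib
import Groth.Agent.Lib.Helper95.SMTIndep
-- import your own Groth.Agent.* helpers here

set_option autoImplicit false
universe u
open W4bk4grassmannian Groth.Agent.Lib.Helper95.SMT

namespace Groth.Agent.S11252

open W4bk4grassmannian in
/-- Standard monomial basis for a union of Schubert varieties: let K be an algebraically closed field, 0
< d < n, and I(d,n) the strictly increasing maps Fin d → Fin n ordered entrywise; S = K[X_θ : θ ∈
I(d,n)] is the Plücker polynomial ring and, for τ ∈ I(d,n), J(τ) ⊆ S is the ideal of polynomials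
vanishing at the d × d row-minors of every n × d matrix over K whose minors on rows φ ≰ τ are zero
(the homogeneous ideal of the Schubert variety X(τ) ⊆ G(d,n)). Let τ_1, …, τ_r ∈ I(d,n) and let J =
⋂_i J(τ_i) be the homogeneous ideal of the union ⋃_i X(τ_i). Then the classes in S/J of the
monomials X_{θ_1} ⋯ X_{θ_m} (m ≥ 0) along chains θ_1 ≥ ⋯ ≥ θ_m all of whose members lie below some
τ_i are linearly independent over K and span S/J. -/
theorem result (K : Type u) [Field K] [IsAlgClosed K] (d n : ℕ)
    (hd : 0 < d) (hdn : d < n) (r : ℕ) (τs : Fin r → Idx d n) :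
    LinearIndependent K (fun c : (Σ m : ℕ, {c : Fin m → Idx d n // Antitone c ∧ ∃ i, ∀ k, c k ≤ τs i}) =>
        Ideal.Quotient.mk (⨅ i, schubertVanishing K d n (τs i)) (chainMon K c.2.1)) ∧
      Submodule.span K (Set.range fun c : (Σ m : ℕ, {c : Fin m → Idx d n // Antitone c ∧ ∃ i, ∀ k, c k ≤ τs i}) =>
        Ideal.Quotient.mk (⨅ i, schubertVanishing K d n (τs i)) (chainMon K c.2.1)) = ⊤ := by
  classical
  have hJ : ∀ (i j : Idx d n) (r' : Fin d), IsPivot i j r' →
      shuffleRel K i j r' ∈ ⨅ i, schubertVanishing K d n (τs i) := by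
    intro i j r' _
    rw [Ideal.mem_iInf]
    intro i₀
    exact vanishing_le_schubertVanishing (τs i₀) (shuffleRel_mem_vanishing i j r')
  constructor
  · rw [linearIndependent_iff']
    intro s g hsum c₀ hc₀
    obtain ⟨i₀, hi₀⟩ := c₀.2.2.2
    have hmem : ∑ x ∈ s, g x • chainMon K x.2.1 ∈ ⨅ i, schubertVanishing K d n (τs i) := by
      rw [← Ideal.Quotient.eq_zero_iff_mem, ← hsum, ← Ideal.Quotient.mkₐ_eq_mk K, map_sum]
      refine Finset.sum_congr rfl fun x _ => ?_
      rw [map_smul]
    have hmem' := (Ideal.mem_iInf.mp hmem) i₀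
    exact coeff_eq_zero_of_mem_schubertVanishing K hd (τs i₀) s g
      (fun x => ⟨x.1, x.2.1⟩) (fun x _ => x.2.2.1)
      (by
        intro x _ y _ hxy
        obtain ⟨m, c, hc⟩ := x
        obtain ⟨m', c', hc'⟩ := y
        simp only [Sigma.mk.injEq] at hxy
        obtain ⟨rfl, h2⟩ := hxy
        have := eq_of_heq h2
        subst this
        rfl)
      hmem' c₀ hc₀ hi₀
  · have h := span_stdSet_eq_top K (⨅ i, schubertVanishing K d n (τs i)) hJ
    rw [eq_top_iff, ← h, Submodule.span_le]
    rintro _ ⟨⟨m, c, hc⟩, rfl⟩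
    by_cases hb : ∃ i, ∀ k, c k ≤ τs i
    · exact Submodule.subset_span ⟨⟨m, ⟨c, hc, hb⟩⟩, rfl⟩
    · push Not at hb
      have : chainMon K c ∈ ⨅ i, schubertVanishing K d n (τs i) := by
        rw [Ideal.mem_iInf]
        intro i
        exact chainMon_mem_schubertVanishing K (τs i) c (hb i)
      simp only
      rw [Ideal.Quotient.eq_zero_iff_mem.mpr this]
      exact Submodule.zero_mem _

end Groth.Agent.S11252
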