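import Groth.Statements.S11253
import Mathlib
import Groth.Agent.Lib.Helper95.SMTCompare
-- import your own Groth.Agent.* helpers here

set_option autoImplicit false
universe u
open W4bk4grassmannian Groth.Agent.Lib.Helper95.SMT

namespace Groth.Agent.S11253

open W4bk4grassmannian in
/-- Intersections of Schubert varieties are reduced: let K be an algebraically closed field, 0 < d < n,
and I(d,n) the strictly increasing maps Fin d → Fin n ordered entrywise; S = K[X_θ : θ ∈ I(d,n)] is
the Plücker polynomial ring and, for τ ∈ I(d,n), J(τ) ⊆ S is the ideal of polynomials vanishing at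
the d × d row-minors of every n × d matrix over K whose minors on rows φ ≰ τ are zero (the
homogeneous ideal of the Schubert variety X(τ) ⊆ G(d,n)). Then for all w₁, w₂ ∈ I(d,n) the ideal
J(w₁) + J(w₂) of S is radical. -/
theorem result (K : Type u) [Field K] [IsAlgClosed K] (d n : ℕ)
    (hd : 0 < d) (hdn : d < n) (w₁ w₂ : Idx d n) :
    (schubertVanishing K d n w₁ ⊔ schubertVanishing K d n w₂).IsRadical := by
  classical
  have hrad : ∀ τ : Idx d n, (schubertVanishing K d n τ).IsRadical := by
    intro τ p hp
    obtain ⟨k, hk⟩ := hp
    unfold schubertVanishing at hk ⊢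
    rw [Ideal.mem_iInf] at hk ⊢
    intro A
    have hkA := hk A
    rw [Ideal.mem_iInf] at hkA ⊢
    intro hA
    have := hkA hA
    rw [RingHom.mem_ker] at this ⊢
    rw [map_pow] at this
    exact pow_eq_zero_iff (M₀ := K) (by
      intro h0
      rw [h0, pow_zero] at this
      exact one_ne_zero this) |>.mp this
  have hle1 : W4bk4grassmannian.inf w₁ w₂ ≤ w₁ := fun t => min_le_left _ _
  have hle2 : W4bk4grassmannian.inf w₁ w₂ ≤ w₂ := fun t => min_le_right _ _
  have heq : schubertVanishing K d n w₁ ⊔ schubertVanishing K d n w₂ =
      schubertVanishing K d n (W4bk4grassmannian.inf w₁ w₂) := by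
    apply le_antisymm
    · exact sup_le (schubertVanishing_mono K hle1) (schubertVanishing_mono K hle2)
    · apply le_of_std_dichotomy K hd
      · intro i j r _
        exact Ideal.mem_sup_left
          (vanishing_le_schubertVanishing w₁ (shuffleRel_mem_vanishing i j r))
      · exact sup_le (schubertVanishing_mono K hle1) (schubertVanishing_mono K hle2)
      · intro m c _
        by_cases h1 : ∀ k, c k ≤ w₁
        · by_cases h2 : ∀ k, c k ≤ w₂
          · right
            exact ⟨W4bk4grassmannian.inf w₁ w₂, fun k t => le_min (h1 k t) (h2 k t), le_refl _⟩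
          · left
            push Not at h2
            exact Ideal.mem_sup_right (chainMon_mem_schubertVanishing K w₂ c h2)
        · left
          push Not at h1
          exact Ideal.mem_sup_left (chainMon_mem_schubertVanishing K w₁ c h1)
  rw [heq]
  exact hrad _

end Groth.Agent.S11253
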