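import Groth.Statements.S1126
import Mathlib.AlgebraicGeometry.Morphisms.FlatDescent
-- import your own Groth.Agent.* helpers here

set_option autoImplicit false
open CategoryTheory CategoryTheory.Limits AlgebraicGeometry Opposite
universe u
open Desc

namespace Groth.Agent.S1126

/-- Universal homeomorphisms are exactly the universally injective, universally open, surjective
morphisms. -/
theorem isUnivHomeo_eq : FlatMor.IsUnivHomeo.{u} =
    (@UniversallyInjective ⊓ @UniversallyOpen ⊓ @Surjective : MorphismProperty Scheme.{u}) := by
  ext X Y f
  constructor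
  · intro hf
    refine ⟨⟨⟨?_⟩, ⟨?_⟩⟩, ?_⟩
    · intro X' Y' i₁ i₂ f' h
      exact (hf i₁ i₂ f' h).bijective.injective
    · intro X' Y' i₁ i₂ f' h
      exact (hf i₁ i₂ f' h).isOpenMap
    · exact ⟨(hf (𝟙 X) (𝟙 Y) f IsPullback.of_id_snd).bijective.surjective⟩
  · rintro ⟨⟨h₁, h₂⟩, h₃⟩ X' Y' i₁ i₂ f' h
    have hs : Surjective f' :=
      MorphismProperty.of_isPullback (P := @Surjective) h.flip h₃
    exact ⟨f'.continuous, h₂.1 i₁ i₂ f' h, h₁.1 i₁ i₂ f' h, hs.surj⟩

/-- If the base change of a morphism along a quasi-compact flat surjective morphism to its target is a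
universal homeomorphism, then the morphism is a universal homeomorphism. (Stated for a single
quasi-compact flat surjective base change; combined with Zariski-locality on the target this gives
the fpqc-local form.) -/
theorem result :
    MorphismProperty.DescendsAlong (FlatMor.IsUnivHomeo.{u})
      (@Surjective ⊓ @Flat ⊓ @QuasiCompact : MorphismProperty Scheme.{u}) := by
  rw [isUnivHomeo_eq]
  infer_instance

end Groth.Agent.S1126
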