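import Groth.Statements.S11262
import Mathlib

set_option autoImplicit false
universe u v
open W4bk4grassmannian

namespace Groth.Agent.S11262

open MvPolynomial

section
variable {K : Type u} [Field K] {σ : Type v} [Preorder σ]

/-- exponent vectors with chain support -/
def Good (d : σ →₀ ℕ) : Prop := IsChain (fun a b : σ => a ≤ b) (d.support : Set σ)

/-- the generating set of monomial exponents -/
def T : Set (σ →₀ ℕ) :=
  {t | ∃ a b : σ, ¬ a ≤ b ∧ ¬ b ≤ a ∧ t = Finsupp.single a 1 + Finsupp.single b 1}

lemma span_eq :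
    Ideal.span {f : MvPolynomial σ K | ∃ a b : σ, ¬ a ≤ b ∧ ¬ b ≤ a ∧ f = X a * X b} =
      Ideal.span ((fun s => monomial s (1 : K)) '' (T (σ := σ))) := by
  congr 1
  ext f
  constructor
  · rintro ⟨a, b, h1, h2, rfl⟩
    exact ⟨_, ⟨a, b, h1, h2, rfl⟩, by simp [X, monomial_mul]⟩
  · rintro ⟨t, ⟨a, b, h1, h2, rfl⟩, rfl⟩
    exact ⟨a, b, h1, h2, by simp [X, monomial_mul]⟩

lemma not_good_iff (d : σ →₀ ℕ) : ¬ Good d ↔ ∃ t ∈ T (σ := σ), t ≤ d := by
  classical
  unfold Good IsChain Set.Pairwise
  push Not
  constructor
  · rintro ⟨a, ha, b, hb, hab, h1, h2⟩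
    refine ⟨_, ⟨a, b, h1, h2, rfl⟩, ?_⟩
    intro c
    have ha' : 1 ≤ d a := Nat.one_le_iff_ne_zero.2 (Finsupp.mem_support_iff.1 ha)
    have hb' : 1 ≤ d b := Nat.one_le_iff_ne_zero.2 (Finsupp.mem_support_iff.1 hb)
    simp only [Finsupp.add_apply, Finsupp.single_apply]
    split_ifs with h3 h4 h4
    · exact absurd (h3.trans h4.symm) hab
    · subst h3; omega
    · subst h4; omega
    · omega
  · rintro ⟨t, ⟨a, b, h1, h2, rfl⟩, hle⟩
    have hab : a ≠ b := by rintro rfl; exact h1 le_rfl
    refine ⟨a, ?_, b, ?_, hab, h1, h2⟩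
    · have := hle a
      simp only [Finsupp.add_apply, Finsupp.single_apply, if_true, if_neg hab.symm] at this
      simp only [Finset.mem_coe, Finsupp.mem_support_iff]
      omega
    · have := hle b
      simp only [Finsupp.add_apply, Finsupp.single_apply, if_true, if_neg hab] at this
      simp only [Finset.mem_coe, Finsupp.mem_support_iff]
      omega

lemma mem_span_iff (f : MvPolynomial σ K) :
    f ∈ Ideal.span {f : MvPolynomial σ K | ∃ a b : σ, ¬ a ≤ b ∧ ¬ b ≤ a ∧ f = X a * X b} ↔
      ∀ d ∈ f.support, ¬ Good d := by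
  rw [span_eq, mem_ideal_span_monomial_image]
  simp only [not_good_iff]

variable [Fintype σ]

open Classical in
/-- exponent vectors of degree `m` with chain support -/
noncomputable def Sm (m : ℕ) : Finset (σ →₀ ℕ) := (Finset.univ.finsuppAntidiag m).filter Good

lemma mem_Sm {m : ℕ} {d : σ →₀ ℕ} : d ∈ Sm m ↔ d.degree = m ∧ Good d := by
  classical
  simp [Sm, Finset.mem_finsuppAntidiag, Finsupp.degree_eq_sum]

variable (K) in
/-- coefficient map -/
noncomputable def coeffMap (m : ℕ) : homogeneousSubmodule σ K m →ₗ[K] (Sm (σ := σ) m → K) where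
  toFun f d := coeff d.1 f.1
  map_add' f g := by ext d; simp
  map_smul' c f := by ext d; simp

lemma coeffMap_surjective (m : ℕ) : Function.Surjective (coeffMap K (σ := σ) m) := by
  classical
  intro g
  refine ⟨⟨∑ d : Sm (σ := σ) m, monomial d.1 (g d), ?_⟩, ?_⟩
  · rw [mem_homogeneousSubmodule]
    apply IsHomogeneous.sum
    intro d _
    exact isHomogeneous_monomial _ (mem_Sm.1 d.2).1
  · ext d
    simp only [coeffMap, LinearMap.coe_mk, AddHom.coe_mk, coeff_sum, coeff_monomial]
    rw [Finset.sum_eq_single d]
    · simp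
    · intro b _ hb
      rw [if_neg]
      intro h
      exact hb (Subtype.ext h)
    · simp

lemma ker_coeffMap (m : ℕ) :
    LinearMap.ker (coeffMap K (σ := σ) m) =
      LinearMap.ker ((Ideal.Quotient.mkₐ K (Ideal.span {f : MvPolynomial σ K |
        ∃ a b : σ, ¬ a ≤ b ∧ ¬ b ≤ a ∧ f = X a * X b})).toLinearMap ∘ₗ
          (homogeneousSubmodule σ K m).subtype) := by
  ext f
  rw [LinearMap.mem_ker, LinearMap.mem_ker, LinearMap.comp_apply, Submodule.subtype_apply,
    AlgHom.toLinearMap_apply, Ideal.Quotient.mkₐ_eq_mk, Ideal.Quotient.eq_zero_iff_mem, mem_span_iff]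
  have hf : f.1.IsHomogeneous m := f.2
  constructor
  · intro h d hd hgood
    have hdeg : d.degree = m := by
      by_contra hne
      exact (mem_support_iff.1 hd) (hf.coeff_eq_zero hne)
    have := congrFun h ⟨d, mem_Sm.2 ⟨hdeg, hgood⟩⟩
    exact (mem_support_iff.1 hd) this
  · intro h
    ext d
    by_contra hne
    exact h d.1 (mem_support_iff.2 hne) (mem_Sm.1 d.2).2

lemma finrank_eq (m : ℕ) :
    Module.finrank K ((homogeneousSubmodule σ K m).map
        (Ideal.Quotient.mkₐ K (Ideal.span {f : MvPolynomial σ K |
        ∃ a b : σ, ¬ a ≤ b ∧ ¬ b ≤ a ∧ f = X a * X b})).toLinearMap) = (Sm (σ := σ) m).card := by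
  classical
  set g := (Ideal.Quotient.mkₐ K (Ideal.span {f : MvPolynomial σ K |
        ∃ a b : σ, ¬ a ≤ b ∧ ¬ b ≤ a ∧ f = X a * X b})).toLinearMap ∘ₗ
          (homogeneousSubmodule σ K m).subtype with hg
  have hmap : (homogeneousSubmodule σ K m).map
        (Ideal.Quotient.mkₐ K (Ideal.span {f : MvPolynomial σ K |
        ∃ a b : σ, ¬ a ≤ b ∧ ¬ b ≤ a ∧ f = X a * X b})).toLinearMap = LinearMap.range g := by
    rw [hg, LinearMap.range_comp, Submodule.range_subtype]
  rw [hmap]
  have e : LinearMap.range g ≃ₗ[K] (Sm (σ := σ) m → K) :=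
    (LinearMap.quotKerEquivRange g).symm ≪≫ₗ
      (Submodule.quotEquivOfEq _ _ (ker_coeffMap (K := K) m).symm) ≪≫ₗ
      (LinearMap.quotKerEquivOfSurjective (coeffMap K m) (coeffMap_surjective m))
  rw [e.finrank_eq, Module.finrank_fintype_fun_eq_card]
  simp

omit [Preorder σ] in
/-- number of exponent vectors with exact support `C` and degree `m`. -/
lemma card_support_eq (C : Finset σ) (hC : C.Nonempty) (m : ℕ) (hm : 1 ≤ m) :
    open Classical in
    ((Finset.univ.finsuppAntidiag m).filter (fun d : σ →₀ ℕ => d.support = C)).card =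
      Nat.choose (m - 1) (C.card - 1) := by
  classical
  have hCpos : 1 ≤ C.card := Finset.card_pos.2 hC
  have hmem : ∀ d : σ →₀ ℕ, d ∈ (Finset.univ.finsuppAntidiag m).filter
      (fun d : σ →₀ ℕ => d.support = C) ↔ d.degree = m ∧ d.support = C := by
    intro d
    simp [Finset.mem_finsuppAntidiag, Finsupp.degree_eq_sum]
  by_cases hlt : m < C.card
  · rw [Nat.choose_eq_zero_of_lt (by omega), Finset.card_eq_zero, Finset.eq_empty_iff_forall_notMem]
    intro d hd
    obtain ⟨hdeg, hsupp⟩ := (hmem d).1 hd
    have h1 : C.card ≤ d.degree := by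
      rw [Finsupp.degree_apply, hsupp]
      calc C.card = ∑ _i ∈ C, 1 := by simp
        _ ≤ ∑ i ∈ C, d i := Finset.sum_le_sum (fun i hi => by
            rw [← hsupp] at hi
            exact Nat.one_le_iff_ne_zero.2 (Finsupp.mem_support_iff.1 hi))
    omega
  · push Not at hlt
    set e : σ →₀ ℕ := Finsupp.indicator C (fun _ _ => 1) with he
    have he_apply : ∀ x, e x = if x ∈ C then 1 else 0 := by
      intro x
      rw [he, Finsupp.indicator_apply]
      split_ifs <;> rfl
    have hcard : ((Finset.univ.finsuppAntidiag m).filter (fun d : σ →₀ ℕ => d.support = C)).card =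
        (C.finsuppAntidiag (m - C.card)).card := by
      refine Finset.card_nbij' (fun d => d - e) (fun d => d + e) ?_ ?_ ?_ ?_
      · intro d hd
        obtain ⟨hdeg, hsupp⟩ := (hmem d).1 hd
        have hd1 : ∀ x ∈ C, 1 ≤ d x := fun x hx => by
          rw [← hsupp] at hx
          exact Nat.one_le_iff_ne_zero.2 (Finsupp.mem_support_iff.1 hx)
        simp only [Finset.mem_coe]
        rw [Finset.mem_finsuppAntidiag]
        constructor
        · have h1 : ∑ x ∈ C, ((d - e) x + 1) = ∑ x ∈ C, d x := by
            apply Finset.sum_congr rfl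
            intro x hx
            rw [Finsupp.tsub_apply, he_apply, if_pos hx]
            have := hd1 x hx
            omega
          rw [Finset.sum_add_distrib, Finset.sum_const, smul_eq_mul, mul_one] at h1
          have h2 : ∑ x ∈ C, d x = m := by
            rw [← hdeg, Finsupp.degree_apply, hsupp]
          show ∑ x ∈ C, (d - e) x = m - C.card
          omega
        · intro x hx
          rw [← hsupp]
          rw [Finsupp.mem_support_iff, Finsupp.tsub_apply] at hx
          rw [Finsupp.mem_support_iff]
          omega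
      · intro d hd
        simp only [Finset.mem_coe] at hd ⊢
        rw [Finset.mem_finsuppAntidiag] at hd
        obtain ⟨hsum, hsupp⟩ := hd
        rw [hmem]
        have hsuppe : (d + e).support = C := by
          ext x
          rw [Finsupp.mem_support_iff, Finsupp.add_apply, he_apply]
          by_cases hx : x ∈ C
          · simp [hx]
          · have : d x = 0 := by
              by_contra h
              exact hx (hsupp (Finsupp.mem_support_iff.2 h))
            simp [hx, this]
        refine ⟨?_, hsuppe⟩
        rw [Finsupp.degree_apply, hsuppe]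
        simp only [Finsupp.add_apply, he_apply]
        rw [Finset.sum_add_distrib, hsum]
        rw [Finset.sum_ite_mem, Finset.inter_self]
        simp only [Finset.sum_const, smul_eq_mul, mul_one]
        omega
      · intro d hd
        obtain ⟨hdeg, hsupp⟩ := (hmem d).1 hd
        ext x
        simp only [Finsupp.add_apply, Finsupp.tsub_apply, he_apply]
        by_cases hx : x ∈ C
        · have : 1 ≤ d x := by
            rw [← hsupp] at hx
            exact Nat.one_le_iff_ne_zero.2 (Finsupp.mem_support_iff.1 hx)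
          simp [hx]; omega
        · simp [hx]
      · intro d _
        ext x
        simp
    rw [hcard, Finset.card_finsuppAntidiag_nat_eq_choose]
    have h1 : C.card + (m - C.card) - 1 = m - 1 := by omega
    have h2 : m - C.card = (m - 1) - (C.card - 1) := by omega
    rw [h1, h2, Nat.choose_symm (by omega)]

lemma card_Sm (m : ℕ) (hm : 1 ≤ m) :
    (Sm (σ := σ) m).card =
      ∑ᶠ C : {C : Finset σ // C.Nonempty ∧ IsChain (fun a b : σ => a ≤ b) (↑C : Set σ)},
        Nat.choose (m - 1) (C.1.card - 1) := by
  classical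
  rw [finsum_eq_sum_of_fintype]
  rw [← Finset.sum_subtype (Finset.univ.filter (fun C : Finset σ =>
    C.Nonempty ∧ IsChain (fun a b : σ => a ≤ b) (↑C : Set σ))) (by simp)
    (fun C => Nat.choose (m - 1) (C.card - 1))]
  rw [Finset.card_eq_sum_card_fiberwise (f := fun d : σ →₀ ℕ => d.support)
    (t := Finset.univ.filter (fun C : Finset σ =>
      C.Nonempty ∧ IsChain (fun a b : σ => a ≤ b) (↑C : Set σ)))]
  · apply Finset.sum_congr rfl
    intro C hC
    rw [Finset.mem_filter] at hC
    rw [← card_support_eq C hC.2.1 m hm]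
    congr 1
    ext d
    simp only [Finset.mem_filter, mem_Sm]
    constructor
    · rintro ⟨⟨hdeg, -⟩, hsupp⟩
      refine ⟨?_, hsupp⟩
      simp [Finset.mem_finsuppAntidiag, ← Finsupp.degree_eq_sum, hdeg]
    · rintro ⟨hd, hsupp⟩
      refine ⟨⟨?_, ?_⟩, hsupp⟩
      · simpa [Finset.mem_finsuppAntidiag, ← Finsupp.degree_eq_sum] using hd
      · unfold Good
        rw [hsupp]
        exact hC.2.2
  · intro d hd
    have := mem_Sm.1 hd
    simp only [Finset.mem_coe, Finset.mem_filter, Finset.mem_univ, true_and]
    refine ⟨?_, this.2⟩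
    rw [Finset.nonempty_iff_ne_empty]
    intro h
    rw [Finsupp.support_eq_empty] at h
    rw [h] at this
    simp at this
    omega

end


/-- Hilbert function of the Stanley–Reisner ring of a finite distributive lattice: let K be a field, L a
finite distributive lattice, R = K[x_α : α ∈ L], I ⊆ R the ideal generated by the products x_α x_β
over the incomparable (skew) pairs α, β, and m ≥ 1. Then the image in R/I of the homogeneous
polynomials of degree m has K-dimension equal to the sum, over the nonempty chains C ⊆ L, of the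
binomial coefficient (m - 1 choose |C| - 1). (The published statement is that the degree of R/I
equals the number of maximal chains of L; this row states the Hilbert function from which that
degree is read off.) -/
theorem result (K : Type u) [Field K] (L : Type v) [DistribLattice L]
    [Fintype L] (m : ℕ) (hm : 1 ≤ m) :
    Module.finrank K ((MvPolynomial.homogeneousSubmodule L K m).map
        (Ideal.Quotient.mkₐ K (Ideal.span {f : MvPolynomial L K | ∃ a b : L, ¬ a ≤ b ∧ ¬ b ≤ a ∧
          f = MvPolynomial.X a * MvPolynomial.X b})).toLinearMap) =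
      ∑ᶠ C : {C : Finset L // C.Nonempty ∧ IsChain (fun a b : L => a ≤ b) (↑C : Set L)},
        Nat.choose (m - 1) (C.1.card - 1) := by
  classical
  rw [finrank_eq (K := K) (σ := L) m, card_Sm m hm]

end Groth.Agent.S11262
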