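import Groth.Statements.S11269
import Groth.Agent.Lib.Helper29.DepthSelf

set_option autoImplicit false
universe u
open W4bk4grassmannian

namespace Groth.Agent.S11269

/-- Let R be a Noetherian integral domain. Then R satisfies Serre's condition (S_2) (depth R_P ≥ min(2,
dim R_P) for all primes P) if and only if, for every nonzero a ∈ R, every associated prime of the
R-module R/(a) has height one. -/
theorem result (R : Type u) [CommRing R] [IsDomain R]
    [IsNoetherianRing R] :
    LocCoh.HasSk 2 R R ↔
      ∀ a : R, a ≠ 0 → ∀ P : Ideal R, P ∈ associatedPrimes R (R ⧸ Ideal.span {a}) → P.height = 1 := by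
  open Groth.Agent.Lib.Helper29 in
  rw [hasSk_self_iff]
  have hreg : ∀ a : R, a ≠ 0 → IsSMulRegular R a := fun a ha x y hxy => mul_left_cancel₀ ha hxy
  have key : ∀ (P : Ideal R) [P.IsPrime] (a : R), a ≠ 0 → a ∈ P →
      LocCoh.depth (Localization.AtPrime P) (LocalizedModule P.primeCompl (QuotSMulTop a R)) + 1 =
        LocCoh.depth (Localization.AtPrime P) (Localization.AtPrime P) := by
    intro P _ a ha haP
    rw [← depth_localizedModule_self]
    exact depth_localizedModule_quotSMulTop_add_one R P R haP (hreg a ha)
  constructor
  · intro hS a ha P hP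
    have hPprime : P.IsPrime := IsAssociatedPrime.isPrime hP
    have haP : a ∈ P := by
      have h1 := IsAssociatedPrime.annihilator_le hP
      rw [Submodule.annihilator_top, Ideal.annihilator_quotient] at h1
      exact h1 (Ideal.mem_span_singleton_self a)
    have hP' : P ∈ associatedPrimes R (QuotSMulTop a R) := by
      rw [← LinearEquiv.AssociatedPrimes.eq (quotientSpanSingletonEquivQuotSMulTop R a)]
      exact hP
    have h0 := depth_localizedModule_eq_zero_of_mem_associatedPrimes R (QuotSMulTop a R) P hP'
    have h1 := key P a ha haP
    rw [h0, zero_add] at h1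
    have h2 := hS P
    rw [← h1] at h2
    have h3 : P.height ≤ 1 := by
      rcases min_le_iff.mp h2 with h | h
      · exact absurd h (by norm_num)
      · exact h
    have h7 : 1 ≤ P.height := by
      rw [Order.one_le_iff_pos, pos_iff_ne_zero, Ne, Ideal.height_eq_zero_iff_eq_bot]
      rintro rfl
      exact ha (by simpa using haP)
    exact le_antisymm h3 h7
  · intro H p hp
    by_cases hpbot : p = ⊥
    · subst hpbot
      rw [Ideal.height_bot]
      simp
    · obtain ⟨a, haP, ha⟩ : ∃ a ∈ p, a ≠ 0 := Submodule.exists_mem_ne_zero_of_ne_bot hpbot
      have h1 := key p a ha haP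
      rw [← h1]
      by_cases hd : LocCoh.depth (Localization.AtPrime p)
          (LocalizedModule p.primeCompl (QuotSMulTop a R)) = 0
      · have hN : IsNoetherianRing (Localization.AtPrime p) :=
          IsLocalization.isNoetherianRing p.primeCompl _ inferInstance
        have hmem := (depth_eq_zero_iff (Localization.AtPrime p)
          (LocalizedModule p.primeCompl (QuotSMulTop a R))).mp hd
        have hcomap :=
          Module.associatedPrimes.comap_mem_associatedPrimes_of_mem_associatedPrimes_of_isLocalizedModule_of_fg
            p.primeCompl (LocalizedModule.mkLinearMap p.primeCompl (QuotSMulTop a R))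
            (IsLocalRing.maximalIdeal (Localization.AtPrime p)) hmem
            ((isNoetherianRing_iff_ideal_fg R).mp inferInstance _)
        have hunder : (IsLocalRing.maximalIdeal (Localization.AtPrime p)).comap
            (algebraMap R (Localization.AtPrime p)) = p :=
          Localization.AtPrime.under_maximalIdeal
        rw [hunder] at hcomap
        have hass : p ∈ associatedPrimes R (R ⧸ Ideal.span {a}) := by
          rw [LinearEquiv.AssociatedPrimes.eq (quotientSpanSingletonEquivQuotSMulTop R a)]
          exact hcomap
        rw [H a ha p hass, hd]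
        simp
      · have h2 : 1 ≤ LocCoh.depth (Localization.AtPrime p)
            (LocalizedModule p.primeCompl (QuotSMulTop a R)) :=
          Order.one_le_iff_pos.mpr (pos_iff_ne_zero.mpr hd)
        calc min ((2 : ℕ) : ℕ∞) p.height ≤ ((2 : ℕ) : ℕ∞) := min_le_left _ _
          _ = 1 + 1 := by norm_num
          _ ≤ _ := by gcongr

end Groth.Agent.S11269
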