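import Groth.Statements.S1401
import Groth.Agent.Lib.Helper7.IndQuasiAffine
import Mathlib.AlgebraicGeometry.Morphisms.FlatDescent
import Mathlib.AlgebraicGeometry.Morphisms.Flat

set_option autoImplicit false
universe u
open FlatMor

namespace Groth.Agent.S1401

section Helpers

open AlgebraicGeometry CategoryTheory Limits TopologicalSpace Groth.Agent.Lib.Helper7

/-- Lemma A: quasi-separatedness descends along a finite jointly surjective family of quasi-compact
maps from quasi-separated schemes. -/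
theorem quasiSeparatedSpace_of_finite_family {W : Scheme.{u}} {ι : Type*} [Finite ι]
    (Y : ι → Scheme.{u}) (p : ∀ k, Y k ⟶ W) [∀ k, QuasiCompact (p k)]
    [∀ k, QuasiSeparatedSpace (Y k)] (hsurj : ∀ w : W, ∃ k, ∃ y : Y k, p k y = w) :
    QuasiSeparatedSpace W := by
  rw [quasiSeparatedSpace_iff_forall_affineOpens]
  intro U V
  have : (U ∩ V : Set W) = ⋃ k, p k '' ((p k ⁻¹' (U : Set W)) ∩ (p k ⁻¹' (V : Set W))) := by
    ext w
    simp only [Set.mem_inter_iff, Set.mem_iUnion, Set.mem_image, Set.mem_preimage]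
    constructor
    · rintro ⟨hU, hV⟩
      obtain ⟨k, y, rfl⟩ := hsurj w
      exact ⟨k, y, ⟨hU, hV⟩, rfl⟩
    · rintro ⟨k, y, ⟨hU, hV⟩, rfl⟩
      exact ⟨hU, hV⟩
  rw [this]
  refine isCompact_iUnion fun k => IsCompact.image ?_ (p k).continuous
  exact QuasiSeparatedSpace.inter_isCompact _ _ (U.1.2.preimage (p k).continuous)
    (QuasiCompact.isCompact_preimage _ U.1.2 U.2.isCompact) (V.1.2.preimage (p k).continuous)
    (QuasiCompact.isCompact_preimage _ V.1.2 V.2.isCompact)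

/-- Lemma B0: flat base change of sections as a pullback square of spectra. -/
theorem isPullback_SpecMap_appLE {X S X' S' : Scheme.{u}} {f : X ⟶ S} {f' : X' ⟶ S'} {g' : X' ⟶ X}
    {g : S' ⟶ S} [Flat g] (hc : IsPullback g' f' f g) {V : S.Opens} {T : S'.Opens} {W : X.Opens}
    (hV : IsAffineOpen V) (hT : IsAffineOpen T) (hTV : T ≤ g ⁻¹ᵁ V) (hWV : W ≤ f ⁻¹ᵁ V)
    (hW : IsCompact (W : Set X)) (hW' : IsQuasiSeparated (W : Set X)) {Y : X'.Opens}
    (hY : Y = g' ⁻¹ᵁ W ⊓ f' ⁻¹ᵁ T) :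
    IsPullback (Spec.map (g'.appLE W Y (by simp [hY]))) (Spec.map (f'.appLE T Y (by simp [hY])))
      (Spec.map (f.appLE V W hWV)) (Spec.map (g.appLE V T hTV)) := by
  have hiso : IsIso (pushoutSection hc hTV hWV hY) :=
    isIso_pushoutSection_of_isQuasiSeparated_of_flat_right hc hTV hWV hY hV hT hW hW'
  have P := (isIso_pushoutSection_iff hc hTV hWV hY).mp hiso
  exact isPullback_SpecMap_of_isPushout _ _ _ _ P

/-- Lemma B: flat base change of the canonical map to `Spec Γ`. -/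
theorem isPullback_toSpecΓ {X S X' S' : Scheme.{u}} {f : X ⟶ S} {f' : X' ⟶ S'} {g' : X' ⟶ X}
    {g : S' ⟶ S} [Flat g] (hc : IsPullback g' f' f g) {V : S.Opens} {T : S'.Opens} {W : X.Opens}
    (hV : IsAffineOpen V) (hT : IsAffineOpen T) (hTV : T ≤ g ⁻¹ᵁ V) (hWV : W ≤ f ⁻¹ᵁ V)
    (hW : IsCompact (W : Set X)) (hW' : IsQuasiSeparated (W : Set X)) {Y : X'.Opens}
    (hY : Y = g' ⁻¹ᵁ W ⊓ f' ⁻¹ᵁ T) :
    IsPullback (g'.resLE W Y (by simp [hY])) Y.toSpecΓ W.toSpecΓ
      (Spec.map (g'.appLE W Y (by simp [hY]))) := by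
  have R := Scheme.Hom.isPullback_resLE hc hTV hWV hY
  have P2 := isPullback_SpecMap_appLE hc hV hT hTV hWV hW hW' hY
  have : IsIso T.toSpecΓ := by rw [← hT.isoSpec_hom]; infer_instance
  have : IsIso V.toSpecΓ := by rw [← hV.isoSpec_hom]; infer_instance
  have I : IsPullback (g.resLE V T hTV) T.toSpecΓ V.toSpecΓ (Spec.map (g.appLE V T hTV)) :=
    IsPullback.of_vert_isIso ⟨(Scheme.Opens.toSpecΓ_SpecMap_appLE g V T hTV).symm⟩
  have C := R.paste_vert I
  rw [← Scheme.Opens.toSpecΓ_SpecMap_appLE, ← Scheme.Opens.toSpecΓ_SpecMap_appLE] at C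
  exact IsPullback.of_bot C (Scheme.Opens.toSpecΓ_SpecMap_appLE _ _ _ _).symm P2

theorem exists_preimage_of_isPullback {P X Y Z : Scheme.{u}} {fst : P ⟶ X} {snd : P ⟶ Y}
    {f : X ⟶ Z} {g : Y ⟶ Z} (h : IsPullback fst snd f g) (x : X) (y : Y) (hxy : f x = g y) :
    ∃ p : P, fst p = x ∧ snd p = y := by
  obtain ⟨z, hz1, hz2⟩ := Scheme.Pullback.exists_preimage_pullback x y hxy
  refine ⟨h.isoPullback.inv z, ?_, ?_⟩
  · rw [← Scheme.Hom.comp_apply, h.isoPullback_inv_fst, hz1]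
  · rw [← Scheme.Hom.comp_apply, h.isoPullback_inv_snd, hz2]

set_option backward.isDefEq.respectTransparency.types false in
/-- Lemma D: open immersions descend along a finite jointly surjective family of flat maps from
affine schemes to an affine scheme. -/
theorem isOpenImmersion_of_finite_flat_family {W Q : Scheme.{u}} [IsAffine Q] (j : W ⟶ Q)
    {K : Type u} [Finite K] (Qk : K → Scheme.{u}) [∀ k, IsAffine (Qk k)] (q : ∀ k, Qk k ⟶ Q)
    (hqflat : ∀ k, Flat (q k)) (hsurj : ∀ x : Q, ∃ k, ∃ y : Qk k, q k y = x)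
    (Yk : K → Scheme.{u}) (a : ∀ k, Yk k ⟶ W) (jk : ∀ k, Yk k ⟶ Qk k)
    (hpb : ∀ k, IsPullback (a k) (jk k) j (q k)) [∀ k, IsOpenImmersion (jk k)] :
    IsOpenImmersion j := by
  let c : ∐ Qk ⟶ Q := Sigma.desc q
  have hc_flat : Flat c := by
    refine IsZariskiLocalAtSource.of_openCover (sigmaOpenCover Qk) fun k => ?_
    have : (sigmaOpenCover Qk).f k ≫ c = q k := Sigma.ι_desc _ _
    rw [this]
    exact hqflat k
  have hc_surj : Surjective c := ⟨fun x => by
    obtain ⟨k, y, rfl⟩ := hsurj x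
    exact ⟨Sigma.ι Qk k y, by rw [← Scheme.Hom.comp_apply, Sigma.ι_desc]⟩⟩
  have hc_qc : QuasiCompact c := inferInstance
  refine MorphismProperty.of_pullback_fst_of_descendsAlong (P := @IsOpenImmersion)
    (Q := @Surjective ⊓ @Flat ⊓ @QuasiCompact) (f := c) (g := j) ⟨⟨hc_surj, hc_flat⟩, hc_qc⟩ ?_
  refine IsZariskiLocalAtTarget.of_openCover (sigmaOpenCover Qk) fun k => ?_
  have h1 := ((IsPullback.of_hasPullback (pullback.fst c j) (Sigma.ι Qk k)).flip.paste_vert
    (IsPullback.of_hasPullback c j)).flip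
  have hq : Sigma.ι Qk k ≫ c = q k := Sigma.ι_desc _ _
  rw [hq] at h1
  let e := h1.isoIsPullback _ _ (hpb k)
  have he : e.hom ≫ jk k = pullback.snd (pullback.fst c j) (Sigma.ι Qk k) :=
    IsPullback.isoIsPullback_hom_snd _ _ h1 (hpb k)
  change IsOpenImmersion (pullback.snd (pullback.fst c j) (Sigma.ι Qk k))
  rw [← he]
  infer_instance

end Helpers

open AlgebraicGeometry CategoryTheory Limits in
/-- Let S' → S be flat, surjective and quasi-compact and let f' be the base change of f : X → S to S'.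
If f' is ind-quasi-affine then so is f. -/
theorem result {X S X' S' : Scheme.{u}} (f : X ⟶ S) (f' : X' ⟶ S') (g' : X' ⟶ X) (g : S' ⟶ S)
    [Flat g] [Surjective g] [QuasiCompact g] (hc : IsPullback g' f' f g) (hf' : MoreMor.IsIndQuasiAffineHom f') : MoreMor.IsIndQuasiAffineHom f := by
  classical
  apply Groth.Agent.Lib.Helper7.isIndQuasiAffineHom_of_forall
  intro W0 i _ _ V hV hrange
  let W : X.Opens := i.opensRange
  have hWV : W ≤ f ⁻¹ᵁ V := by
    rintro _ ⟨w, rfl⟩
    exact hrange ⟨w, rfl⟩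
  have hWc : IsCompact (W : Set X) := by
    simpa [W] using isCompact_range i.continuous
  suffices h : (W : Scheme.{u}).IsQuasiAffine from
    Scheme.IsQuasiAffine.of_isImmersion i.isoOpensRange.hom
  have : CompactSpace W.toScheme := isCompact_iff_compactSpace.mp hWc
  -- a finite affine cover of `g⁻¹ V`
  have hgV : IsCompact ((g ⁻¹ᵁ V : S'.Opens) : Set S') := g.isCompact_preimage hV.isCompact
  obtain ⟨K, hK, hKeq⟩ := isCompact_iff_finite_and_eq_biUnion_affineOpens.mp hgV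
  have : Finite K := hK.to_subtype
  have hTV : ∀ T : K, T.1.1 ≤ g ⁻¹ᵁ V := fun T => by
    rw [hKeq]
    exact le_iSup₂ (f := fun (i : S'.affineOpens) (_ : i ∈ K) => (i : S'.Opens)) T.1 T.2
  let Y : K → X'.Opens := fun T => g' ⁻¹ᵁ W ⊓ f' ⁻¹ᵁ T.1.1
  have hYW : ∀ T : K, Y T ≤ g' ⁻¹ᵁ W := fun T => inf_le_left
  have R := fun T : K => Scheme.Hom.isPullback_resLE hc (hTV T) hWV (rfl : Y T = _)
  -- each `Y T` is compact
  have hqc : ∀ T : K, QuasiCompact (g'.resLE W (Y T) (hYW T)) := fun T => by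
    have : IsAffine T.1.1.toScheme := T.1.2
    have : IsAffine V.toScheme := hV
    have : QuasiCompact (g.resLE V T.1.1 (hTV T)) := inferInstance
    exact MorphismProperty.of_isPullback (P := @QuasiCompact) (R T).flip inferInstance
  have hYc : ∀ T : K, CompactSpace (Y T).toScheme := fun T =>
    have := hqc T
    QuasiCompact.compactSpace_of_compactSpace (g'.resLE W (Y T) (hYW T))
  -- each `Y T` is quasi-affine
  have hYqa : ∀ T : K, (Y T : Scheme.{u}).IsQuasiAffine := fun T => by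
    have := hYc T
    refine Groth.Agent.Lib.Helper7.isQuasiAffine_of_isIndQuasiAffineHom hf' (Y T).ι T.1.1 T.1.2 ?_
    rintro _ ⟨y, rfl⟩
    exact y.2.2
  -- joint surjectivity on points
  have hsurj : ∀ w : W.toScheme, ∃ T : K, ∃ y : (Y T).toScheme, g'.resLE W (Y T) (hYW T) y = w := fun w => by
    obtain ⟨s', hs'⟩ := g.surjective (f w.1)
    have hs'V : s' ∈ g ⁻¹ᵁ V := by
      show g s' ∈ V
      rw [hs']
      exact hWV w.2
    rw [hKeq] at hs'V
    simp only [TopologicalSpace.Opens.mem_iSup, exists_prop] at hs'V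
    obtain ⟨T, hTK, hs'T⟩ := hs'V
    obtain ⟨x', hx'1, hx'2⟩ := exists_preimage_of_isPullback hc w.1 s' hs'.symm
    refine ⟨⟨T, hTK⟩, ⟨x', ?_, ?_⟩, ?_⟩
    · show g' x' ∈ W
      rw [hx'1]; exact w.2
    · show f' x' ∈ T.1
      rw [hx'2]; exact hs'T
    · apply W.ι.injective
      rw [← Scheme.Hom.comp_apply, Scheme.Hom.resLE_comp_ι, Scheme.Hom.comp_apply]
      exact hx'1
  -- `W` is quasi-separated
  have hWqs : QuasiSeparatedSpace W.toScheme := by
    have : ∀ T : K, QuasiSeparatedSpace (Y T).toScheme := fun T => by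
      have := hYqa T
      infer_instance
    exact quasiSeparatedSpace_of_finite_family (fun T : K => (Y T).toScheme)
      (fun T => g'.resLE W (Y T) (hYW T)) hsurj
  have hW' : IsQuasiSeparated (W : Set X) :=
    (isQuasiSeparated_iff_quasiSeparatedSpace _ W.2).mpr hWqs
  -- flat base change squares
  have L := fun T : K =>
    isPullback_toSpecΓ hc hV T.1.2 (hTV T) hWV hWc hW' (rfl : Y T = _)
  have P2 := fun T : K =>
    isPullback_SpecMap_appLE hc hV T.1.2 (hTV T) hWV hWc hW' (rfl : Y T = _)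
  have hflat : ∀ T : K, Flat (Spec.map (g'.appLE W (Y T) (hYW T))) := fun T => by
    have : Flat (Spec.map (g.appLE V T.1.1 (hTV T))) :=
      Flat.SpecMap_iff.mpr (g.flat_appLE hV T.1.2 _)
    exact MorphismProperty.of_isPullback (P := @Flat) (P2 T).flip inferInstance
  have hsurjQ : ∀ x : Spec Γ(X, W), ∃ T : K, ∃ y : Spec Γ(X', Y T),
      Spec.map (g'.appLE W (Y T) (hYW T)) y = x := fun x => by
    -- the image of `x` in `V`
    let v : V.toScheme := hV.isoSpec.inv (Spec.map (f.appLE V W hWV) x)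
    obtain ⟨s', hs'⟩ := g.surjective (V.ι v)
    have hs'V : s' ∈ g ⁻¹ᵁ V := by
      show g s' ∈ V
      rw [hs']
      exact v.2
    rw [hKeq] at hs'V
    simp only [TopologicalSpace.Opens.mem_iSup, exists_prop] at hs'V
    obtain ⟨T, hTK, hs'T⟩ := hs'V
    let t : Spec Γ(S', T.1) := T.1.toSpecΓ ⟨s', hs'T⟩
    have ht : Spec.map (f.appLE V W hWV) x = Spec.map (g.appLE V T.1 (hTV ⟨T, hTK⟩)) t := by
      have h1 : g.resLE V T.1 (hTV ⟨T, hTK⟩) ⟨s', hs'T⟩ = v := by
        apply V.ι.injective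
        rw [← Scheme.Hom.comp_apply, Scheme.Hom.resLE_comp_ι, Scheme.Hom.comp_apply]
        exact hs'
      show _ = (T.1.toSpecΓ ≫ Spec.map (g.appLE V T.1 (hTV ⟨T, hTK⟩))) ⟨s', hs'T⟩
      rw [Scheme.Opens.toSpecΓ_SpecMap_appLE, Scheme.Hom.comp_apply, h1]
      show _ = hV.isoSpec.hom (hV.isoSpec.inv _)
      rw [← Scheme.Hom.comp_apply, Iso.inv_hom_id]
      rfl
    obtain ⟨y, hy1, -⟩ := exists_preimage_of_isPullback (P2 ⟨T, hTK⟩) x t ht
    exact ⟨⟨T, hTK⟩, y, hy1⟩
  have hOI : ∀ T : K, IsOpenImmersion (Y T).toSpecΓ := fun T => by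
    have := hYqa T
    rw [Scheme.Opens.toSpecΓ]
    infer_instance
  have hjW : IsOpenImmersion W.toSpecΓ :=
    isOpenImmersion_of_finite_flat_family W.toSpecΓ (fun T : K => Spec Γ(X', Y T))
      (fun T => Spec.map (g'.appLE W (Y T) (hYW T))) hflat hsurjQ
      (fun T => (Y T).toScheme) (fun T => g'.resLE W (Y T) (hYW T)) (fun T => (Y T).toSpecΓ) L
  have hjW' : IsOpenImmersion W.toScheme.toSpecΓ := by
    have : W.toScheme.toSpecΓ = W.toSpecΓ ≫ Spec.map W.topIso.hom := by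
      rw [Scheme.Opens.toSpecΓ, Category.assoc, ← Spec.map_comp, Iso.hom_inv_id, Spec.map_id,
        Category.comp_id]
    rw [this]
    infer_instance
  exact { }

end Groth.Agent.S1401
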