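import Groth.Statements.S1127
import Groth.Agent.S1401
import Groth.Agent.S0079

set_option autoImplicit false
open CategoryTheory CategoryTheory.Limits AlgebraicGeometry Opposite
universe u
open Desc

namespace Groth.Agent.S1127

/-- If the base change of a morphism along a quasi-compact, flat, surjective morphism is quasi-affine
(quasi-compact, with quasi-affine preimages of affine opens), then the morphism is quasi-affine.
(The published statement is the fpqc-local form; stated here for a single quasi-compact flat
surjective base change, from which that form follows by Zariski-locality on the target.) -/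
theorem result :
    MorphismProperty.DescendsAlong (fun _ _ f => Mor2.IsQuasiAffine f : MorphismProperty Scheme.{u})
      (@Surjective ⊓ @Flat ⊓ @QuasiCompact : MorphismProperty Scheme.{u}) := by
  refine ⟨fun {A X Y Z fst snd f g} hpb hf hfst => ?_⟩
  obtain ⟨⟨hsurj, hflat⟩, hqc⟩ := hf
  have hsurj' : Surjective f := hsurj
  have hflat' : Flat f := hflat
  have hqc' : QuasiCompact f := hqc
  obtain ⟨hfstqc, hqa'⟩ := hfst
  have hind' : MoreMor.IsIndQuasiAffineHom fst := fun V hV U hU => by
    have := hqa' V hV
    have : CompactSpace (U : Scheme.{u}) := isCompact_iff_compactSpace.mp hU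
    exact Scheme.IsQuasiAffine.of_isImmersion U.ι
  have hind : MoreMor.IsIndQuasiAffineHom g := Groth.Agent.S1401.result g fst snd f hpb.flip hind'
  have hgqc : QuasiCompact g :=
    Groth.Agent.S0079.result.of_isPullback hpb ⟨⟨hsurj, hflat⟩, hqc⟩ hfstqc
  refine ⟨hgqc, fun V hV => ?_⟩
  have hc : IsCompact ((g ⁻¹ᵁ V : Y.Opens) : Set Y) := g.isCompact_preimage hV.isCompact
  have : CompactSpace (g ⁻¹ᵁ V : Scheme.{u}) := isCompact_iff_compactSpace.mp hc
  refine Groth.Agent.Lib.Helper7.isQuasiAffine_of_isIndQuasiAffineHom hind (g ⁻¹ᵁ V).ι V hV ?_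
  rintro _ ⟨y, rfl⟩
  exact y.2

end Groth.Agent.S1127
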