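import Groth.Statements.S11271
import Mathlib

set_option autoImplicit false
universe u
open W4bk4grassmannian

namespace Groth.Agent.S11271

open W4bk4grassmannian in
/-- Semistable matrices are the matrices of full rank: let K be an algebraically closed field, 0 < d <
n, and let SL_d(K) act on n × d matrices by right multiplication; a matrix A is semistable when the
zero matrix is not in the Zariski closure of its orbit, i.e. when some polynomial in the entries
vanishes at A g for every g ∈ SL_d(K) but not at 0. Then A is semistable if and only if its columns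
are linearly independent. -/
theorem result (K : Type u) [Field K]
    [IsAlgClosed K] (d n : ℕ) (hd : 0 < d) (hdn : d < n) (A : Matrix (Fin n) (Fin d) K) :
    LinearIndependent K A.transpose ↔
      ∃ f : MatRing K d n, (∀ g : Matrix.SpecialLinearGroup (Fin d) K,
        MvPolynomial.eval (fun p : Fin n × Fin d => (A * (g : Matrix (Fin d) (Fin d) K)) p.1 p.2) f = 0) ∧
        MvPolynomial.eval (fun _ : Fin n × Fin d => (0 : K)) f ≠ 0 := by
  classical
  have : Nonempty (Fin d) := Fin.pos_iff_nonempty.mp hd
  constructor
  · intro hLI
    have hinj : Function.Injective A.mulVec := Matrix.mulVec_injective_iff.mpr hLI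
    have hker : LinearMap.ker (Matrix.toLin' A) = ⊥ := by
      rw [LinearMap.ker_eq_bot]
      intro x y hxy
      apply hinj
      simpa [Matrix.toLin'_apply] using hxy
    obtain ⟨g, hg⟩ := LinearMap.exists_leftInverse_of_injective (Matrix.toLin' A) hker
    let B : Matrix (Fin d) (Fin n) K := LinearMap.toMatrix' g
    have hBA : B * A = 1 := by
      rw [← LinearMap.toMatrix'_toLin' A, ← LinearMap.toMatrix'_comp, hg, LinearMap.toMatrix'_id]
    let Xm : Matrix (Fin n) (Fin d) (MvPolynomial (Fin n × Fin d) K) :=
      Matrix.of fun i j => MvPolynomial.X (i, j)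
    let BX : Matrix (Fin d) (Fin d) (MvPolynomial (Fin n × Fin d) K) :=
      (B.map MvPolynomial.C : Matrix (Fin d) (Fin n) (MvPolynomial (Fin n × Fin d) K)) * Xm
    have heval : ∀ (x : Fin n × Fin d → K),
        MvPolynomial.eval x (BX.det - 1) =
          (B * Matrix.of fun i j => x (i, j)).det - 1 := by
      intro x
      rw [map_sub, map_one, RingHom.map_det, RingHom.mapMatrix_apply]
      simp only [BX]
      rw [Matrix.map_mul]
      congr 3
      · ext i j
        simp
      · ext i j
        simp [Xm]
    refine ⟨BX.det - 1, ?_, ?_⟩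
    · intro g'
      rw [heval]
      have h1 : (Matrix.of fun i j => (A * (g' : Matrix (Fin d) (Fin d) K)) i j) =
          A * (g' : Matrix (Fin d) (Fin d) K) := rfl
      rw [h1, ← Matrix.mul_assoc, hBA, Matrix.one_mul, g'.2, sub_self]
    · rw [heval]
      have h1 : (Matrix.of fun (i : Fin n) (j : Fin d) => (0 : K)) = 0 := rfl
      rw [h1, Matrix.mul_zero, Matrix.det_zero, zero_sub]
      exact neg_ne_zero.mpr one_ne_zero
  · rintro ⟨f, hf, hf0⟩
    by_contra hLI
    have hninj : ¬ Function.Injective A.mulVec := fun h => hLI (Matrix.mulVec_injective_iff.mp h)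
    obtain ⟨v, hv0, hAv⟩ : ∃ v : Fin d → K, v ≠ 0 ∧ A.mulVec v = 0 := by
      by_contra hcon
      push Not at hcon
      apply hninj
      intro x y hxy
      have h1 : A.mulVec (x - y) = 0 := by rw [Matrix.mulVec_sub, hxy, sub_self]
      by_contra hne
      exact hcon (x - y) (sub_ne_zero.mpr hne) h1
    obtain ⟨i₀, hi₀⟩ : ∃ i, v i ≠ 0 := by
      by_contra hcon
      push Not at hcon
      exact hv0 (funext hcon)
    let lam : Fin d → K := Pi.single i₀ (v i₀)⁻¹
    have hlam : lam ⬝ᵥ v = 1 := by
      rw [single_dotProduct, inv_mul_cancel₀ hi₀]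
    have key : ∀ t : K, t ≠ 0 → MvPolynomial.eval (fun p : Fin n × Fin d => A p.1 p.2 * t) f = 0 := by
      intro t ht
      let s : K := (t⁻¹) ^ (d - 1) - t
      let G : Matrix (Fin d) (Fin d) K := t • (1 + Matrix.vecMulVec ((s / t) • v) lam)
      have hdet : G.det = 1 := by
        rw [Matrix.det_smul, Matrix.vecMulVec_eq Unit,
          Matrix.det_one_add_replicateCol_mul_replicateRow, dotProduct_smul, hlam,
          Fintype.card_fin]
        have hpow : t ^ d = t ^ (d - 1) * t := by
          rw [← pow_succ]; congr 1; omega
        rw [smul_eq_mul, mul_one]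
        have : (1 : K) + s / t = (t⁻¹) ^ (d - 1) / t := by
          simp only [s]
          field_simp
          ring
        rw [this, hpow, inv_pow]
        field_simp
      have hAG : A * G = t • A := by
        simp only [G, Matrix.mul_smul, Matrix.mul_add, Matrix.mul_one, Matrix.mul_vecMulVec,
          Matrix.mulVec_smul, hAv, smul_zero]
        congr 1
        ext i j
        simp [Matrix.vecMulVec]
      have := hf ⟨G, hdet⟩
      simp only [hAG] at this
      convert this using 3
      rename_i p
      simp [mul_comm]
    let φ : Polynomial K := MvPolynomial.eval₂ Polynomial.C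
      (fun p : Fin n × Fin d => Polynomial.C (A p.1 p.2) * Polynomial.X) f
    have hφ : ∀ t : K, φ.eval t = MvPolynomial.eval (fun p : Fin n × Fin d => A p.1 p.2 * t) f := by
      intro t
      have := MvPolynomial.eval₂_comp_left (Polynomial.evalRingHom t) Polynomial.C
        (fun p : Fin n × Fin d => Polynomial.C (A p.1 p.2) * Polynomial.X) f
      rw [Polynomial.coe_evalRingHom] at this
      rw [this]
      have h1 : (Polynomial.evalRingHom t).comp Polynomial.C = RingHom.id K := by
        ext x; simp
      rw [h1, MvPolynomial.eval₂_id]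
      congr 2
      ext p
      simp
    have hφ0 : φ = 0 := by
      apply Polynomial.eq_zero_of_infinite_isRoot
      refine Set.Infinite.mono ?_ (Set.finite_singleton (0 : K)).infinite_compl
      intro t ht
      rw [Set.mem_compl_iff, Set.mem_singleton_iff] at ht
      rw [Set.mem_ofPred_eq, Polynomial.IsRoot, hφ, key t ht]
    apply hf0
    have := hφ 0
    rw [hφ0, Polynomial.eval_zero] at this
    simpa using this.symm

end Groth.Agent.S11271
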