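import Groth.Statements.S11277
-- import your own Groth.Agent.* helpers here

set_option autoImplicit false
universe u v
open W4bk4grassmannian

namespace Groth.Agent.S11277

/-- a sum of homogeneous elements of pairwise distinct degrees vanishes only if each term does -/
theorem eq_zero_of_sum_eq_zero {K : Type u} [Field K] {R : Type v} [CommRing R] [Algebra K R]
    (𝒜 : ℕ → Submodule K R) [GradedAlgebra 𝒜] {ι : Type*} [DecidableEq ι] (S : Finset ι) (t : ι → R)
    (d : ι → ℕ) (hd : Set.InjOn d S) (ht : ∀ i ∈ S, t i ∈ 𝒜 (d i)) (hsum : ∑ i ∈ S, t i = 0) :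
    ∀ j ∈ S, t j = 0 := by
  intro j hj
  have h1 : (DirectSum.decompose 𝒜 (∑ i ∈ S, t i) (d j) : R) = t j := by
    rw [DirectSum.decompose_sum, DFinsupp.finsetSum_apply, AddSubmonoidClass.coe_finsetSum]
    rw [Finset.sum_eq_single j]
    · exact DirectSum.decompose_of_mem_same 𝒜 (ht j hj)
    · intro i hi hij
      apply DirectSum.decompose_of_mem_ne 𝒜 (ht i hi)
      intro h
      exact hij (hd hi hj h)
    · intro h; exact absurd hj h
  rw [hsum] at h1
  rw [← h1]
  simp

/-- Let K be a field, R = ⊕_{i ≥ 0} R_i an ℕ-graded commutative K-algebra which is an integral domain,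
and s ∈ R_e a homogeneous element of degree e > 0. Let R_(s) ⊆ R[1/s] be the homogeneous
localization (fractions f / s^k with f homogeneous of degree k e). Then the image of s in R[1/s] is
transcendental over R_(s). -/
theorem result (K : Type u) [Field K] (R : Type v) [CommRing R]
    [IsDomain R] [Algebra K R] (𝒜 : ℕ → Submodule K R) [GradedAlgebra 𝒜] (e : ℕ) (he : 0 < e) (s : R)
    (hs : s ∈ 𝒜 e) :
    Transcendental (HomogeneousLocalization.Away 𝒜 s) (algebraMap R (Localization.Away s) s) := by
  classical
  by_cases hs0 : s = 0
  · subst hs0
    have : Subsingleton (Localization.Away (0 : R)) :=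
      IsLocalization.subsingleton (M := Submonoid.powers (0 : R)) ⟨1, by simp⟩
    have hinj : Function.Injective (algebraMap (HomogeneousLocalization.Away 𝒜 (0 : R))
        (Localization.Away (0 : R))) := HomogeneousLocalization.val_injective _
    have : Subsingleton (HomogeneousLocalization.Away 𝒜 (0 : R)) := hinj.subsingleton
    rintro ⟨p, hp, -⟩
    exact hp (Subsingleton.elim _ _)
  rintro ⟨p, hp, hpz⟩
  apply hp
  -- choose representatives of the coefficients
  have hrep : ∀ i : ℕ, ∃ (n : ℕ) (a : R) (ha : a ∈ 𝒜 (n • e)),
      HomogeneousLocalization.Away.mk 𝒜 hs n a ha = p.coeff i :=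
    fun i => HomogeneousLocalization.Away.mk_surjective 𝒜 hs (p.coeff i)
  choose n a ha hna using hrep
  set N := p.support.sup n with hN
  have hnN : ∀ i ∈ p.support, n i ≤ N := fun i hi => Finset.le_sup hi
  -- injectivity of R → R[1/s]
  have hinjR : Function.Injective (algebraMap R (Localization.Away s)) := by
    apply IsLocalization.injective (M := Submonoid.powers s)
    apply Submonoid.powers_le.mpr
    exact mem_nonZeroDivisors_of_ne_zero hs0
  -- the key equation in R
  have hsumR : ∑ i ∈ p.support, a i * s ^ (N - n i + i) = 0 := by
    apply hinjR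
    rw [map_zero, map_sum]
    have hunit : IsUnit (algebraMap R (Localization.Away s) s) :=
      IsLocalization.Away.algebraMap_isUnit s
    have h2 : ∑ i ∈ p.support, algebraMap R (Localization.Away s) (a i * s ^ (N - n i + i)) =
        (algebraMap R (Localization.Away s) s) ^ N * Polynomial.aeval (algebraMap R (Localization.Away s) s) p := by
      rw [Polynomial.aeval_def, Polynomial.eval₂_eq_sum, Polynomial.sum_def, Finset.mul_sum]
      apply Finset.sum_congr rfl
      intro i hi'
      rw [← hna i]
      change _ = _ * ((HomogeneousLocalization.Away.mk 𝒜 hs (n i) (a i) (ha i)).val * _)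
      rw [HomogeneousLocalization.Away.val_mk, Localization.mk_eq_mk'_apply,
        IsLocalization.mk'_eq_mul_mk'_one]
      have hN' : N = (N - n i) + n i := (Nat.sub_add_cancel (hnN i hi')).symm
      have h3 : algebraMap R (Localization.Away s) s ^ N *
          (algebraMap R (Localization.Away s) (a i) *
            IsLocalization.mk' (Localization.Away s) 1 (⟨s ^ n i, n i, rfl⟩ : Submonoid.powers s) *
          algebraMap R (Localization.Away s) s ^ i) =
          algebraMap R (Localization.Away s) (a i) * algebraMap R (Localization.Away s) s ^ (N - n i) *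
          algebraMap R (Localization.Away s) s ^ i *
          (algebraMap R (Localization.Away s) (s ^ n i) *
            IsLocalization.mk' (Localization.Away s) 1 (⟨s ^ n i, n i, rfl⟩ : Submonoid.powers s)) := by
        conv_lhs => rw [hN', pow_add]
        rw [map_pow]
        ring
      rw [h3]
      have h4 : algebraMap R (Localization.Away s) (s ^ n i) *
          IsLocalization.mk' (Localization.Away s) 1 (⟨s ^ n i, n i, rfl⟩ : Submonoid.powers s) = 1 := by
        rw [mul_comm]
        exact (IsLocalization.mk'_spec (Localization.Away s) 1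
          (⟨s ^ n i, n i, rfl⟩ : Submonoid.powers s)).trans (map_one _)
      rw [h4, mul_one, map_mul, map_pow, pow_add]
      ring
    rw [h2, hpz, mul_zero]
  -- each term vanishes by homogeneity
  have hterm := eq_zero_of_sum_eq_zero 𝒜 p.support (fun i => a i * s ^ (N - n i + i))
    (fun i => (N + i) * e) ?_ ?_ hsumR
  · apply Polynomial.ext
    intro i
    by_cases hi : i ∈ p.support
    · have h5 := hterm i hi
      have h6 : a i = 0 := by
        rcases mul_eq_zero.mp h5 with h | h
        · exact h
        · exact absurd h (pow_ne_zero _ hs0)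
      rw [Polynomial.coeff_zero, ← hna i]
      apply HomogeneousLocalization.val_injective
      rw [HomogeneousLocalization.Away.val_mk, HomogeneousLocalization.val_zero]
      simp only [h6, Localization.mk_zero]
    · rw [Polynomial.coeff_zero]; exact Polynomial.notMem_support_iff.mp hi
  · intro i _ j _ hij
    have : (N + i) * e = (N + j) * e := hij
    have := Nat.eq_of_mul_eq_mul_right he this
    omega
  · intro i hi
    have h7 : s ^ (N - n i + i) ∈ 𝒜 ((N - n i + i) • e) := SetLike.pow_mem_graded _ hs
    have h8 := SetLike.mul_mem_graded (ha i) h7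
    have h9 : n i • e + (N - n i + i) • e = (N + i) * e := by
      have := hnN i hi
      simp only [smul_eq_mul]
      rw [← add_mul]
      congr 1
      omega
    rw [h9] at h8
    exact h8

end Groth.Agent.S11277
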