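import Groth.Statements.S1128
-- import your own Groth.Agent.* helpers here

set_option autoImplicit false
open CategoryTheory CategoryTheory.Limits AlgebraicGeometry Opposite
universe u
open Desc

namespace Groth.Agent.S1128

open TensorProduct in
/-- If `S → T` is faithfully flat and `T` is flat over `R`, then `S` is flat over `R`. -/
theorem flat_of_flat_of_faithfullyFlat (R S T : Type u) [CommRing R] [CommRing S] [CommRing T]
    [Algebra R S] [Algebra S T] [Algebra R T] [IsScalarTower R S T]
    [Module.FaithfullyFlat S T] [Module.Flat R T] : Module.Flat R S := by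
  rw [Module.Flat.iff_lTensor_preserves_injective_linearMap]
  intro N N' _ _ _ _ f hf
  have h1 : Function.Injective (f.lTensor T) :=
    Module.Flat.lTensor_preserves_injective_linearMap f hf
  -- the `S`-linear version of `f.lTensor S`
  let g : S ⊗[R] N →ₗ[S] S ⊗[R] N' := TensorProduct.AlgebraTensorModule.lTensor S S f
  have hg : (g : S ⊗[R] N → S ⊗[R] N') = f.lTensor S := rfl
  rw [← hg, ← Module.FaithfullyFlat.lTensor_injective_iff_injective S T g]
  have key := TensorProduct.AlgebraTensorModule.lTensor_comp_cancelBaseChange
    (R := R) (A := S) (B := T) (M := T) f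
  have h2 : Function.Injective ((TensorProduct.AlgebraTensorModule.lTensor T T f) ∘ₗ
      (TensorProduct.AlgebraTensorModule.cancelBaseChange R S T T N).toLinearMap) := by
    rw [LinearMap.coe_comp]
    exact Function.Injective.comp h1 (LinearEquiv.injective _)
  rw [key] at h2
  rw [LinearMap.coe_comp] at h2
  have h3 := Function.Injective.of_comp h2
  exact h3

/-- If f is flat and surjective and the composite of f with g is flat, then g is flat; together with
stability of flatness under composition this says flatness is fpqc local on the source. -/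
theorem result {X' X Y : Scheme.{u}} (f : X' ⟶ X) (g : X ⟶ Y) [Flat f]
    [Surjective f] [Flat (f ≫ g)] : Flat g := by
  rw [Flat.iff_flat_stalkMap]
  intro x
  obtain ⟨x', rfl⟩ := f.surjective x
  have h1 : (f.stalkMap x').hom.Flat := Flat.stalkMap f x'
  have h2 : ((f ≫ g).stalkMap x').hom.Flat := Flat.stalkMap (f ≫ g) x'
  rw [Scheme.Hom.stalkMap_comp] at h2
  let φ : Y.presheaf.stalk (g (f x')) →+* X.presheaf.stalk (f x') := (g.stalkMap (f x')).hom
  let ψ : X.presheaf.stalk (f x') →+* X'.presheaf.stalk x' := (f.stalkMap x').hom
  have h2' : (ψ.comp φ).Flat := h2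
  have h1' : ψ.Flat := h1
  show φ.Flat
  algebraize [φ, ψ, ψ.comp φ]
  have : IsLocalHom (algebraMap (X.presheaf.stalk (f x')) (X'.presheaf.stalk x')) :=
    inferInstanceAs (IsLocalHom (f.stalkMap x').hom)
  have : Module.FaithfullyFlat (X.presheaf.stalk (f x')) (X'.presheaf.stalk x') :=
    Module.FaithfullyFlat.of_flat_of_isLocalHom
  exact flat_of_flat_of_faithfullyFlat _ (X.presheaf.stalk (f x')) (X'.presheaf.stalk x')

end Groth.Agent.S1128
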