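import Groth.Statements.S11280
import Groth.Agent.Lib.Helper58.SmoothNilpotent

set_option autoImplicit false
universe u
open Deform

namespace Groth.Agent.S11280

section helpers
open Function Groth.Agent.Lib.Helper58.SmoothNilpotent

theorem formallySmooth_of_closedFibre
    {k : Type u} [Field k]
    {A : Type u} [CommRing A] [Algebra k A] [IsLocalRing A] [IsArtinianRing A]
    (hres : ∀ a : A, ∃ c : k, a - algebraMap k A c ∈ IsLocalRing.maximalIdeal A)
    {B : Type u} [CommRing B] [Algebra A B] [Module.Flat A B] [Algebra k B] [IsScalarTower k A B]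
    (hsm : Algebra.FormallySmooth k (B ⧸ (IsLocalRing.maximalIdeal A).map (algebraMap A B))) :
    Algebra.FormallySmooth A B := by
  obtain ⟨n, hn⟩ : IsNilpotent (IsLocalRing.maximalIdeal A) := by
    rw [← IsLocalRing.jacobson_eq_maximalIdeal ⊥ bot_ne_top]
    exact IsArtinianRing.isNilpotent_jacobson_bot
  set m := IsLocalRing.maximalIdeal A with hm
  have hg : (algebraMap (A ⧸ m) (B ⧸ m.map (algebraMap A B))).FormallySmooth := by
    rw [RingHom.formallySmooth_algebraMap]
    have : IsScalarTower k (A ⧸ m) (B ⧸ m.map (algebraMap A B)) := by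
      refine IsScalarTower.of_algebraMap_eq (fun x => ?_)
      rw [IsScalarTower.algebraMap_apply k B, IsScalarTower.algebraMap_apply k A (A ⧸ m),
        IsScalarTower.algebraMap_apply k A B]
      rfl
    have : Algebra.FormallyUnramified k (A ⧸ m) := by
      refine Algebra.FormallyUnramified.of_surjective (Algebra.ofId k (A ⧸ m)) ?_
      intro x
      obtain ⟨a, rfl⟩ := Ideal.Quotient.mk_surjective x
      obtain ⟨c, hc⟩ := hres a
      refine ⟨c, ?_⟩
      rw [Algebra.ofId_apply, IsScalarTower.algebraMap_apply k A (A ⧸ m)]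
      exact ((Ideal.Quotient.eq).mpr hc).symm
    exact Algebra.FormallySmooth.of_restrictScalars k (A ⧸ m) _
  have := formallySmooth_of_flat_of_pow_eq_bot _ hg n (algebraMap A B)
    (RingHom.flat_algebraMap_iff.mpr inferInstance) (Ideal.Quotient.mk m)
    (Ideal.Quotient.mk (m.map (algebraMap A B))) Ideal.Quotient.mk_surjective
    Ideal.Quotient.mk_surjective (by ext x; rfl)
    (by rw [Ideal.mk_ker, pow_succ, hn]; simp)
    (by rw [Ideal.mk_ker, Ideal.mk_ker])
  exact RingHom.formallySmooth_algebraMap.mp this

/-- lifting an automorphism of `B ⧸ (s)` with `s² = 0` for a formally smooth algebra -/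
theorem exists_lift_of_formallySmooth {A B : Type u} [CommRing A] [CommRing B] [Algebra A B]
    [Algebra.FormallySmooth A B] (s : B) (hss : s * s = 0) (hfix : ∀ θ : B →ₐ[A] B, θ s = s)
    (σ : (B ⧸ Ideal.span {s}) ≃ₐ[A] (B ⧸ Ideal.span {s})) :
    ∃ τ : B ≃ₐ[A] B, ∀ b : B,
      Ideal.Quotient.mk (Ideal.span {s}) (τ b) =
        σ (Ideal.Quotient.mk (Ideal.span {s}) b) := by
  have hnil : IsNilpotent (Ideal.span {s}) := by
    refine ⟨2, ?_⟩
    rw [Ideal.span_singleton_pow, pow_two, hss]
    simp
  let τ₀ : B →ₐ[A] B :=
    Algebra.FormallySmooth.lift (Ideal.span {s}) hnil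
      ((σ : _ →ₐ[A] _).comp (Ideal.Quotient.mkₐ A (Ideal.span {s})))
  let τ₁ : B →ₐ[A] B :=
    Algebra.FormallySmooth.lift (Ideal.span {s}) hnil
      ((σ.symm : _ →ₐ[A] _).comp (Ideal.Quotient.mkₐ A (Ideal.span {s})))
  have h₀ : ∀ b, Ideal.Quotient.mk (Ideal.span {s}) (τ₀ b) =
      σ (Ideal.Quotient.mk (Ideal.span {s}) b) := fun b =>
    Algebra.FormallySmooth.mk_lift (Ideal.span {s}) hnil _ b
  have h₁ : ∀ b, Ideal.Quotient.mk (Ideal.span {s}) (τ₁ b) =
      σ.symm (Ideal.Quotient.mk (Ideal.span {s}) b) := fun b =>
    Algebra.FormallySmooth.mk_lift (Ideal.span {s}) hnil _ b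
  have key : ∀ θ : B →ₐ[A] B, (∀ b, Ideal.Quotient.mk (Ideal.span {s}) (θ b) =
      Ideal.Quotient.mk (Ideal.span {s}) b) → Bijective θ := by
    intro θ hθ
    refine bijective_of_congr_id s hss (θ : B →+* B) (hfix θ) ?_
    intro b
    have := (Ideal.Quotient.eq).mp (hθ b)
    obtain ⟨d, hd⟩ := Ideal.mem_span_singleton'.mp this
    refine ⟨d, ?_⟩
    change θ b = b + s * d
    linear_combination -hd
  have b01 : Bijective (τ₀.comp τ₁) := key _ (fun b => by
    rw [AlgHom.comp_apply, h₀, h₁, AlgEquiv.apply_symm_apply])
  have b10 : Bijective (τ₁.comp τ₀) := key _ (fun b => by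
    rw [AlgHom.comp_apply, h₁, h₀, AlgEquiv.symm_apply_apply])
  have hbij : Bijective τ₀ := by
    constructor
    · have := b10.1
      rw [AlgHom.coe_comp] at this
      exact Injective.of_comp this
    · have := b01.2
      rw [AlgHom.coe_comp] at this
      exact Surjective.of_comp this
  exact ⟨AlgEquiv.ofBijective τ₀ hbij, fun b => h₀ b⟩

end helpers

/-- Let k be an algebraically closed field, A a local Artinian k-algebra with residue field k and t an
element of the maximal ideal of A annihilated by the maximal ideal, so that A is a small extension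
of A/tA. Let B be a flat A-algebra whose closed fibre B/m_A B is a formally smooth k-algebra (an
infinitesimal deformation over A of a formally smooth k-algebra). Then every A-algebra automorphism
of B/tB is induced by an A-algebra automorphism of B. (The published statement asks the automorphism
of B/tB to induce the identity on B/m_A B; this row does not. The published statement takes the
closed fibre smooth, that is formally smooth and essentially of finite type; this row asks the
closed fibre to be formally smooth over k in the sense of lifting along all square-zero surjections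
of commutative k-algebras, with no finiteness condition.) -/
theorem result
    {k : Type u} [Field k] [IsAlgClosed k]
    {A : Type u} [CommRing A] [Algebra k A] [IsLocalRing A] [IsArtinianRing A]
    (hres : ∀ a : A, ∃ c : k, a - algebraMap k A c ∈ IsLocalRing.maximalIdeal A)
    (t : A) (ht : t ∈ IsLocalRing.maximalIdeal A)
    (htm : ∀ a ∈ IsLocalRing.maximalIdeal A, a * t = 0)
    {B : Type u} [CommRing B] [Algebra A B] [Module.Flat A B] [Algebra k B] [IsScalarTower k A B]
    (hsm : Algebra.FormallySmooth k (B ⧸ (IsLocalRing.maximalIdeal A).map (algebraMap A B)))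
    (σ : (B ⧸ Ideal.span {algebraMap A B t}) ≃ₐ[A] (B ⧸ Ideal.span {algebraMap A B t})) :
    ∃ τ : B ≃ₐ[A] B, ∀ b : B,
      Ideal.Quotient.mk (Ideal.span {algebraMap A B t}) (τ b) =
        σ (Ideal.Quotient.mk (Ideal.span {algebraMap A B t}) b) := by
  have hFS : Algebra.FormallySmooth A B := formallySmooth_of_closedFibre hres hsm
  refine exists_lift_of_formallySmooth (algebraMap A B t) ?_ (fun θ => θ.commutes t) σ
  rw [← map_mul, htm t ht, map_zero]

end Groth.Agent.S11280
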