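import Groth.Statements.S11281
import Mathlib.RingTheory.Filtration
import Mathlib.RingTheory.HopkinsLevitzki
import Mathlib.RingTheory.Finiteness.Ideal
import Mathlib.RingTheory.Ideal.Quotient.Operations

set_option autoImplicit false
universe u
open Deform

namespace Groth.Agent.S11281


section Stage0

open IsLocalRing

variable {Λ : Type u} [CommRing Λ] {R : Type u} [CommRing R] [Algebra Λ R] [IsLocalRing R]
  (X : Exal.Ext Λ R (ResidueField R))

lemma incl_residue_proj (e : X.E) : X.incl (residue R (X.proj e)) = e * X.incl 1 := by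
  rw [X.isExtension.mul_incl, Algebra.smul_def, ResidueField.algebraMap_eq, mul_one]

lemma exists_mul_of_proj_eq_zero (x : X.E) (hx : X.proj x = 0) : ∃ e : X.E, x = e * X.incl 1 := by
  obtain ⟨z, rfl⟩ := (X.isExtension.exact x).1 hx
  obtain ⟨r, rfl⟩ := residue_surjective z
  obtain ⟨e, rfl⟩ := X.isExtension.proj_surjective r
  exact ⟨e, incl_residue_proj X e⟩

lemma proj_incl (z : ResidueField R) : X.proj (X.incl z) = 0 :=
  (X.isExtension.exact _).2 ⟨z, rfl⟩

lemma mul_eq_zero_of_proj (x y : X.E) (hx : X.proj x ∈ maximalIdeal R) (hy : X.proj y = 0) :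
    x * y = 0 := by
  obtain ⟨z, rfl⟩ := (X.isExtension.exact y).1 hy
  rw [X.isExtension.mul_incl]
  have : X.proj x • z = 0 := by
    rw [Algebra.smul_def, ResidueField.algebraMap_eq, (residue_eq_zero_iff _).mpr hx, zero_mul]
  rw [this, map_zero]

lemma isUnit_iff (e : X.E) : IsUnit e ↔ IsUnit (X.proj e) := by
  constructor
  · intro h; exact h.map X.proj
  · intro h
    obtain ⟨r', hr'⟩ := h.exists_right_inv
    obtain ⟨e', rfl⟩ := X.isExtension.proj_surjective r'
    have hy : X.proj (e * e' - 1) = 0 := by rw [map_sub, map_mul, hr', map_one, sub_self]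
    have hyy : (e * e' - 1) * (e * e' - 1) = 0 :=
      mul_eq_zero_of_proj X _ _ (by rw [hy]; exact zero_mem _) hy
    refine IsUnit.of_mul_eq_one (e' * (1 - (e * e' - 1))) ?_
    have : e * (e' * (1 - (e * e' - 1))) = 1 - (e * e' - 1) * (e * e' - 1) := by ring
    rw [this, hyy, sub_zero]

instance : Nontrivial X.E := X.isExtension.proj_surjective.nontrivial

instance isLocalRingE : IsLocalRing X.E := by
  refine IsLocalRing.of_nonunits_add ?_
  intro a b ha hb
  rw [mem_nonunits_iff, isUnit_iff] at ha hb ⊢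
  rw [map_add]
  exact nonunits_add ha hb

lemma mem_maximalIdeal_iff (e : X.E) : e ∈ maximalIdeal X.E ↔ X.proj e ∈ maximalIdeal R := by
  rw [mem_maximalIdeal, mem_maximalIdeal, mem_nonunits_iff, mem_nonunits_iff, isUnit_iff]

lemma incl_one_ne_zero : X.incl 1 ≠ 0 := by
  intro h
  have := X.isExtension.incl_injective (h.trans (map_zero X.incl).symm)
  exact one_ne_zero this

lemma incl_one_mem : X.incl 1 ∈ maximalIdeal X.E := by
  rw [mem_maximalIdeal_iff, proj_incl]; exact zero_mem _

lemma maximalIdeal_mul_incl_one (e : X.E) (he : e ∈ maximalIdeal X.E) : e * X.incl 1 = 0 :=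
  mul_eq_zero_of_proj X _ _ ((mem_maximalIdeal_iff X e).mp he) (proj_incl X 1)

/-- any nonzero element of the kernel generates `incl 1` -/
lemma incl_one_mem_of_ne_zero (𝔞 : Ideal X.E) (x : X.E) (hx : x ∈ 𝔞) (hx0 : x ≠ 0)
    (hpx : X.proj x = 0) : X.incl 1 ∈ 𝔞 := by
  obtain ⟨z, rfl⟩ := (X.isExtension.exact x).1 hpx
  have hz : z ≠ 0 := by
    rintro rfl
    exact hx0 (map_zero _)
  obtain ⟨r, hr⟩ := residue_surjective z⁻¹
  obtain ⟨e, rfl⟩ := X.isExtension.proj_surjective r
  have : e * X.incl z = X.incl 1 := by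
    rw [X.isExtension.mul_incl, Algebra.smul_def, ResidueField.algebraMap_eq, hr,
      inv_mul_cancel₀ hz]
  rw [← this]
  exact 𝔞.mul_mem_left _ hx

lemma ker_proj_eq_span : RingHom.ker X.proj.toRingHom = Ideal.span {X.incl 1} := by
  apply le_antisymm
  · intro x hx
    obtain ⟨e, rfl⟩ := exists_mul_of_proj_eq_zero X x hx
    exact Ideal.mul_mem_left _ _ (Ideal.subset_span rfl)
  · rw [Ideal.span_le]
    rintro _ rfl
    exact proj_incl X 1

instance isNoetherianRingE [IsNoetherianRing R] : IsNoetherianRing X.E := by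
  rw [isNoetherianRing_iff_ideal_fg]
  intro 𝔞
  refine Ideal.fg_of_fg_map_of_fg_inf_ker_of_surjective (f := X.proj.toRingHom)
    (IsNoetherian.noetherian _) ?_ X.isExtension.proj_surjective
  by_cases h : 𝔞 ⊓ RingHom.ker X.proj.toRingHom = ⊥
  · rw [h]; exact Submodule.fg_bot
  · obtain ⟨x, hx, hx0⟩ := Submodule.exists_mem_ne_zero_of_ne_bot h
    have h1 : X.incl 1 ∈ 𝔞 := incl_one_mem_of_ne_zero X 𝔞 x hx.1 hx0 hx.2
    have h2 : 𝔞 ⊓ RingHom.ker X.proj.toRingHom = Ideal.span {X.incl 1} := by
      rw [ker_proj_eq_span, inf_eq_right, Ideal.span_le]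
      rintro _ rfl
      exact h1
    rw [h2]
    exact ⟨{X.incl 1}, by simp⟩

end Stage0



section Gen

open IsLocalRing

lemma map_mem_maximalIdeal_iff {E B : Type*} [CommRing E] [CommRing B] [IsLocalRing E]
    [IsLocalRing B] (f : E →+* B) (hf : Function.Surjective f) (e : E) :
    f e ∈ maximalIdeal B ↔ e ∈ maximalIdeal E := by
  have : (Ideal.comap f (maximalIdeal B)).IsMaximal := Ideal.comap_isMaximal_of_surjective f hf
  have h := IsLocalRing.eq_maximalIdeal this
  rw [← h, Ideal.mem_comap]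

/-- quotient of a Noetherian local ring by a power of the maximal ideal is Artinian -/
lemma isArtinianRing_quot {E : Type*} [CommRing E] [IsLocalRing E] [IsNoetherianRing E] (n : ℕ)
    [IsLocalRing (E ⧸ maximalIdeal E ^ (n + 1))] :
    IsArtinianRing (E ⧸ maximalIdeal E ^ (n + 1)) := by
  rw [isArtinianRing_iff_isNilpotent_maximalIdeal]
  refine ⟨n + 1, ?_⟩
  rw [Ideal.zero_eq_bot, eq_bot_iff]
  have h1 : maximalIdeal (E ⧸ maximalIdeal E ^ (n + 1)) ≤
      Ideal.map (Ideal.Quotient.mk (maximalIdeal E ^ (n + 1))) (maximalIdeal E) := by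
    intro b hb
    obtain ⟨e, rfl⟩ := Ideal.Quotient.mk_surjective b
    exact Ideal.mem_map_of_mem _
      ((map_mem_maximalIdeal_iff _ Ideal.Quotient.mk_surjective e).mp hb)
  refine (Ideal.pow_right_mono h1 (n + 1)).trans ?_
  rw [← Ideal.map_pow, Ideal.map_quotient_self]

end Gen


section Stage1

open IsLocalRing

variable {k : Type u} [Field k] {Λ : Type u} [CommRing Λ] [Algebra k Λ]
  {R : Type u} [CommRing R] [Algebra Λ R] [IsLocalRing R] [IsNoetherianRing R]

lemma exists_pow_inf_ker (X : Exal.Ext Λ R (ResidueField R)) :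
    ∃ n : ℕ, ∀ x ∈ maximalIdeal X.E ^ n, X.proj x = 0 → x = 0 := by
  by_contra hcon
  push Not at hcon
  have h1 : X.incl 1 ∈ ⨅ n : ℕ, maximalIdeal X.E ^ n := by
    rw [Ideal.mem_iInf]
    intro n
    obtain ⟨x, hx, hpx, hx0⟩ := hcon n
    exact incl_one_mem_of_ne_zero X _ x hx hx0 hpx
  rw [Ideal.iInf_pow_eq_bot_of_isLocalRing _ (Ideal.IsMaximal.ne_top inferInstance)] at h1
  exact incl_one_ne_zero X h1

theorem trivial_of_lifting
    (hR : ∀ r : R, ∃ c : k, r - algebraMap Λ R (algebraMap k Λ c) ∈ maximalIdeal R)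
    (hlift : ∀ (B : Type u) [CommRing B] [Algebra Λ B] [IsLocalRing B] [IsArtinianRing B],
      (∀ b : B, ∃ c : k, b - algebraMap Λ B (algebraMap k Λ c) ∈ maximalIdeal B) →
      ∀ t : B, t ∈ maximalIdeal B → (∀ b ∈ maximalIdeal B, b * t = 0) →
      ∀ φ : R →ₐ[Λ] B ⧸ Ideal.span {t},
        ∃ φ' : R →ₐ[Λ] B, (Ideal.Quotient.mkₐ Λ (Ideal.span {t})).comp φ' = φ)
    (X : Exal.Ext Λ R (ResidueField R)) : X.IsTrivial := by
  obtain ⟨n, hn⟩ := exists_pow_inf_ker X
  -- the Artinian quotient
  have hne : maximalIdeal X.E ^ (n + 1) ≠ ⊤ := by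
    intro h
    have : maximalIdeal X.E ^ (n + 1) ≤ maximalIdeal X.E := Ideal.pow_le_self (Nat.succ_ne_zero n)
    rw [h, top_le_iff] at this
    exact Ideal.IsMaximal.ne_top inferInstance this
  have hnt : Nontrivial (X.E ⧸ maximalIdeal X.E ^ (n + 1)) := Ideal.Quotient.nontrivial_iff.mpr hne
  have hloc : IsLocalRing (X.E ⧸ maximalIdeal X.E ^ (n + 1)) :=
    IsLocalRing.of_surjective' (Ideal.Quotient.mk (maximalIdeal X.E ^ (n + 1)))
      Ideal.Quotient.mk_surjective
  have hart : IsArtinianRing (X.E ⧸ maximalIdeal X.E ^ (n + 1)) := isArtinianRing_quot n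
  have hmem : ∀ e : X.E, Ideal.Quotient.mk (maximalIdeal X.E ^ (n + 1)) e ∈
      maximalIdeal (X.E ⧸ maximalIdeal X.E ^ (n + 1)) ↔ e ∈ maximalIdeal X.E :=
    fun e => map_mem_maximalIdeal_iff _ Ideal.Quotient.mk_surjective e
  -- residue field condition
  have hB : ∀ b : X.E ⧸ maximalIdeal X.E ^ (n + 1), ∃ c : k,
      b - algebraMap Λ (X.E ⧸ maximalIdeal X.E ^ (n + 1)) (algebraMap k Λ c) ∈
        maximalIdeal (X.E ⧸ maximalIdeal X.E ^ (n + 1)) := by
    intro b
    obtain ⟨e, rfl⟩ := Ideal.Quotient.mk_surjective b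
    obtain ⟨c, hc⟩ := hR (X.proj e)
    refine ⟨c, ?_⟩
    rw [← Ideal.Quotient.mk_algebraMap, ← map_sub, hmem, mem_maximalIdeal_iff, map_sub,
      AlgHom.commutes]
    exact hc
  -- the element t
  have ht : Ideal.Quotient.mk (maximalIdeal X.E ^ (n + 1)) (X.incl 1) ∈
      maximalIdeal (X.E ⧸ maximalIdeal X.E ^ (n + 1)) := (hmem _).mpr (incl_one_mem X)
  have htm : ∀ b ∈ maximalIdeal (X.E ⧸ maximalIdeal X.E ^ (n + 1)),
      b * Ideal.Quotient.mk (maximalIdeal X.E ^ (n + 1)) (X.incl 1) = 0 := by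
    intro b hb
    obtain ⟨e, rfl⟩ := Ideal.Quotient.mk_surjective b
    rw [← map_mul, maximalIdeal_mul_incl_one X e ((hmem e).mp hb), map_zero]
  -- the map φ
  let g : X.E →ₐ[Λ] (X.E ⧸ maximalIdeal X.E ^ (n + 1)) ⧸
      Ideal.span {Ideal.Quotient.mk (maximalIdeal X.E ^ (n + 1)) (X.incl 1)} :=
    (Ideal.Quotient.mkₐ Λ _).comp (Ideal.Quotient.mkₐ Λ (maximalIdeal X.E ^ (n + 1)))
  have hg : RingHom.ker X.proj.toRingHom ≤ RingHom.ker g.toRingHom := by
    intro x hx
    obtain ⟨e, rfl⟩ := exists_mul_of_proj_eq_zero X x hx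
    change Ideal.Quotient.mk _ (Ideal.Quotient.mk _ (e * X.incl 1)) = 0
    rw [Ideal.Quotient.eq_zero_iff_mem, map_mul]
    exact Ideal.mul_mem_left _ _ (Ideal.subset_span rfl)
  obtain ⟨φ', hφ'⟩ := hlift (X.E ⧸ maximalIdeal X.E ^ (n + 1)) hB _ ht htm
    (AlgHom.liftOfSurjective X.proj X.isExtension.proj_surjective g hg)
  have hφ'' : ∀ e : X.E, Ideal.Quotient.mk (Ideal.span
      {Ideal.Quotient.mk (maximalIdeal X.E ^ (n + 1)) (X.incl 1)}) (φ' (X.proj e)) =
      Ideal.Quotient.mk _ (Ideal.Quotient.mk (maximalIdeal X.E ^ (n + 1)) e) := by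
    intro e
    have := congrArg (fun ψ : R →ₐ[Λ] _ => ψ (X.proj e)) hφ'
    simp only [AlgHom.liftOfSurjective_apply] at this
    exact this
  -- existence and uniqueness of the lift
  have hex : ∀ r : R, ∃ e : X.E, X.proj e = r ∧
      Ideal.Quotient.mk (maximalIdeal X.E ^ (n + 1)) e = φ' r := by
    intro r
    obtain ⟨e₀, rfl⟩ := X.isExtension.proj_surjective r
    have h1 := hφ'' e₀
    rw [Ideal.Quotient.eq, Ideal.mem_span_singleton'] at h1
    obtain ⟨b, hb⟩ := h1
    obtain ⟨e₁, rfl⟩ := Ideal.Quotient.mk_surjective b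
    refine ⟨e₀ + e₁ * X.incl 1, ?_, ?_⟩
    · rw [map_add, map_mul, proj_incl, mul_zero, add_zero]
    · rw [map_add, map_mul, hb]; ring
  have huniq : ∀ (r : R) (e e' : X.E), X.proj e = r →
      Ideal.Quotient.mk (maximalIdeal X.E ^ (n + 1)) e = φ' r → X.proj e' = r →
      Ideal.Quotient.mk (maximalIdeal X.E ^ (n + 1)) e' = φ' r → e = e' := by
    intro r e e' h1 h2 h3 h4
    have h5 : e - e' ∈ maximalIdeal X.E ^ (n + 1) := by
      rw [← Ideal.Quotient.eq, h2, h4]
    have h6 := hn (e - e') (Ideal.pow_le_pow_right (Nat.le_succ n) h5)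
      (by rw [map_sub, h1, h3, sub_self])
    exact sub_eq_zero.mp h6
  choose s hs1 hs2 using hex
  refine ⟨{ toFun := s
            map_one' := ?_
            map_mul' := ?_
            map_zero' := ?_
            map_add' := ?_
            commutes' := ?_ }, hs1⟩
  · exact huniq 1 _ _ (hs1 1) (hs2 1) (map_one _) (by rw [map_one, map_one])
  · intro a b
    exact huniq (a * b) _ _ (hs1 _) (hs2 _) (by rw [map_mul, hs1, hs1])
      (by rw [map_mul, hs2, hs2, map_mul])
  · exact huniq 0 _ _ (hs1 0) (hs2 0) (map_zero _) (by rw [map_zero, map_zero])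
  · intro a b
    exact huniq (a + b) _ _ (hs1 _) (hs2 _) (by rw [map_add, hs1, hs1])
      (by rw [map_add, hs2, hs2, map_add])
  · intro l
    exact huniq _ _ _ (hs1 _) (hs2 _) (X.proj.commutes l)
      (by rw [Ideal.Quotient.mk_algebraMap, AlgHom.commutes])

end Stage1





section Stage2

open IsLocalRing

variable {k : Type u} [Field k] {Λ : Type u} [CommRing Λ] [Algebra k Λ]
  {R : Type u} [CommRing R] [Algebra Λ R] [IsLocalRing R]

variable (Λ) in
/-- the comparison `k → κ(R)` -/
noncomputable def tau : k →+* ResidueField R :=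
  (residue R).comp ((algebraMap Λ R).comp (algebraMap k Λ))

lemma tau_bijective
    (hR : ∀ r : R, ∃ c : k, r - algebraMap Λ R (algebraMap k Λ c) ∈ maximalIdeal R) :
    Function.Bijective (tau Λ : k →+* ResidueField R) := by
  refine ⟨(tau Λ : k →+* ResidueField R).injective, fun z => ?_⟩
  obtain ⟨a, rfl⟩ := residue_surjective z
  obtain ⟨c, hc⟩ := hR a
  refine ⟨c, ?_⟩
  change residue R (algebraMap Λ R (algebraMap k Λ c)) = residue R a
  rw [eq_comm, ← sub_eq_zero, ← map_sub, residue_eq_zero_iff]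
  exact hc

/-- the inverse comparison -/
noncomputable def sigma
    (hR : ∀ r : R, ∃ c : k, r - algebraMap Λ R (algebraMap k Λ c) ∈ maximalIdeal R) :
    ResidueField R ≃+* k :=
  (RingEquiv.ofBijective (tau Λ : k →+* ResidueField R) (tau_bijective hR)).symm

lemma sigma_tau
    (hR : ∀ r : R, ∃ c : k, r - algebraMap Λ R (algebraMap k Λ c) ∈ maximalIdeal R) (c : k) :
    sigma hR (tau Λ c) = c :=
  (RingEquiv.ofBijective (tau Λ : k →+* ResidueField R) (tau_bijective hR)).symm_apply_apply c

lemma sigma_smul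
    (hR : ∀ r : R, ∃ c : k, r - algebraMap Λ R (algebraMap k Λ c) ∈ maximalIdeal R)
    (a : R) (c : k) (hc : a - algebraMap Λ R (algebraMap k Λ c) ∈ maximalIdeal R)
    (z : ResidueField R) : sigma hR (a • z) = c * sigma hR z := by
  have : a • z = tau Λ c * z := by
    rw [Algebra.smul_def, ResidueField.algebraMap_eq]
    congr 1
    change residue R a = residue R (algebraMap Λ R (algebraMap k Λ c))
    rw [← sub_eq_zero, ← map_sub, residue_eq_zero_iff]
    exact hc
  rw [this, map_mul, sigma_tau]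

theorem lifting_of_trivial
    (hR : ∀ r : R, ∃ c : k, r - algebraMap Λ R (algebraMap k Λ c) ∈ maximalIdeal R)
    (htriv : ∀ X : Exal.Ext Λ R (ResidueField R), X.IsTrivial)
    (B : Type u) [CommRing B] [Algebra Λ B] [IsLocalRing B]
    (hB : ∀ b : B, ∃ c : k, b - algebraMap Λ B (algebraMap k Λ c) ∈ maximalIdeal B)
    (t : B) (ht : t ∈ maximalIdeal B) (htm : ∀ b ∈ maximalIdeal B, b * t = 0)
    (φ : R →ₐ[Λ] B ⧸ Ideal.span {t}) :
    ∃ φ' : R →ₐ[Λ] B, (Ideal.Quotient.mkₐ Λ (Ideal.span {t})).comp φ' = φ := by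
  by_cases ht0 : t = 0
  · subst ht0
    have hbij : Function.Bijective (Ideal.Quotient.mkₐ Λ (Ideal.span {(0 : B)})) := by
      refine ⟨?_, Ideal.Quotient.mkₐ_surjective Λ _⟩
      rw [injective_iff_map_eq_zero]
      intro b hb
      rw [Ideal.Quotient.mkₐ_eq_mk, Ideal.Quotient.eq_zero_iff_mem, Ideal.mem_span_singleton'] at hb
      obtain ⟨a, ha⟩ := hb
      rw [← ha, mul_zero]
    let e := AlgEquiv.ofBijective _ hbij
    refine ⟨e.symm.toAlgHom.comp φ, ?_⟩
    ext r
    exact e.apply_symm_apply (φ r)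
  · -- the quotient is local
    have hspan : Ideal.span {t} ≠ ⊤ := by
      intro h
      have : Ideal.span {t} ≤ maximalIdeal B := by
        rw [Ideal.span_le]; rintro _ rfl; exact ht
      rw [h, top_le_iff] at this
      exact Ideal.IsMaximal.ne_top inferInstance this
    have hnt : Nontrivial (B ⧸ Ideal.span {t}) := Ideal.Quotient.nontrivial_iff.mpr hspan
    have hloc : IsLocalRing (B ⧸ Ideal.span {t}) :=
      IsLocalRing.of_surjective' (Ideal.Quotient.mk (Ideal.span {t})) Ideal.Quotient.mk_surjective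
    have hmemB : ∀ b : B, Ideal.Quotient.mk (Ideal.span {t}) b ∈ maximalIdeal (B ⧸ Ideal.span {t}) ↔
        b ∈ maximalIdeal B := fun b => map_mem_maximalIdeal_iff _ Ideal.Quotient.mk_surjective b
    have hφγ : ∀ c : k, φ (algebraMap Λ R (algebraMap k Λ c)) =
        Ideal.Quotient.mk (Ideal.span {t}) (algebraMap Λ B (algebraMap k Λ c)) := by
      intro c
      rw [AlgHom.commutes, Ideal.Quotient.mk_algebraMap]
    -- φ is local
    have hφloc : ∀ r₀ ∈ maximalIdeal R, φ r₀ ∈ maximalIdeal (B ⧸ Ideal.span {t}) := by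
      intro r₀ hr₀
      obtain ⟨b₀, hb₀⟩ := Ideal.Quotient.mk_surjective (φ r₀)
      obtain ⟨c₀, hc₀⟩ := hB b₀
      by_cases hc0 : c₀ = 0
      · subst hc0
        rw [map_zero, map_zero, sub_zero] at hc₀
        rw [← hb₀]
        exact (hmemB b₀).mpr hc₀
      · exfalso
        have hu : IsUnit (algebraMap Λ R (algebraMap k Λ c₀)) :=
          ((IsUnit.mk0 c₀ hc0).map (algebraMap k Λ)).map (algebraMap Λ R)
        have hu2 : IsUnit (r₀ - algebraMap Λ R (algebraMap k Λ c₀)) := by
          by_contra hnu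
          have h1 : r₀ - algebraMap Λ R (algebraMap k Λ c₀) ∈ maximalIdeal R :=
            (mem_maximalIdeal _).mpr hnu
          have h2 : algebraMap Λ R (algebraMap k Λ c₀) ∈ maximalIdeal R := by
            have := sub_mem hr₀ h1
            rwa [sub_sub_cancel] at this
          exact (mem_maximalIdeal _).mp h2 hu
        have h3 : φ (r₀ - algebraMap Λ R (algebraMap k Λ c₀)) ∈
            maximalIdeal (B ⧸ Ideal.span {t}) := by
          rw [map_sub, hφγ, ← hb₀, ← map_sub]
          exact (hmemB _).mpr hc₀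
        exact (mem_maximalIdeal _).mp h3 (hu2.map φ)
    -- the fibre product
    let E' : Subalgebra Λ (R × B) := AlgHom.equalizer (φ.comp (AlgHom.fst Λ R B))
      ((Ideal.Quotient.mkₐ Λ (Ideal.span {t})).comp (AlgHom.snd Λ R B))
    have hmemE : ∀ x : R × B, x ∈ E' ↔ φ x.1 = Ideal.Quotient.mk (Ideal.span {t}) x.2 :=
      fun x => Iff.rfl
    let proj' : E' →ₐ[Λ] R := (AlgHom.fst Λ R B).comp E'.val
    have hincl_mem : ∀ z : ResidueField R,
        ((0 : R), algebraMap Λ B (algebraMap k Λ (sigma hR z)) * t) ∈ E' := by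
      intro z
      rw [hmemE]
      change φ 0 = _
      rw [map_zero, eq_comm, Ideal.Quotient.eq_zero_iff_mem]
      exact Ideal.mul_mem_left _ _ (Ideal.subset_span rfl)
    let incl' : ResidueField R →+ E' :=
      { toFun := fun z => ⟨(0, algebraMap Λ B (algebraMap k Λ (sigma hR z)) * t), hincl_mem z⟩
        map_zero' := by
          apply Subtype.ext
          change ((0 : R), algebraMap Λ B (algebraMap k Λ (sigma hR 0)) * t) = (0, 0)
          rw [map_zero, map_zero, map_zero, zero_mul]
        map_add' := fun z w => by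
          apply Subtype.ext
          change ((0 : R), algebraMap Λ B (algebraMap k Λ (sigma hR (z + w))) * t) =
            (0 + 0, algebraMap Λ B (algebraMap k Λ (sigma hR z)) * t +
              algebraMap Λ B (algebraMap k Λ (sigma hR w)) * t)
          rw [map_add, map_add, map_add, add_mul, add_zero] }
    have hincl1 : ∀ z, ((incl' z : E') : R × B).1 = 0 := fun z => rfl
    have hincl2 : ∀ z, ((incl' z : E') : R × B).2 =
        algebraMap Λ B (algebraMap k Λ (sigma hR z)) * t := fun z => rfl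
    have hunit : ∀ c : k, c ≠ 0 → IsUnit (algebraMap Λ B (algebraMap k Λ c)) := fun c hc =>
      ((IsUnit.mk0 c hc).map (algebraMap k Λ)).map (algebraMap Λ B)
    have hext : Exal.IsExtension proj' incl' := by
      refine ⟨?_, ?_, ?_, ?_⟩
      · intro r
        obtain ⟨b, hb⟩ := Ideal.Quotient.mk_surjective (φ r)
        exact ⟨⟨(r, b), (hmemE _).mpr hb.symm⟩, rfl⟩
      · rw [injective_iff_map_eq_zero]
        intro z hz
        have h2 := congrArg (fun x : E' => (x : R × B).2) hz
        change algebraMap Λ B (algebraMap k Λ (sigma hR z)) * t = 0 at h2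
        by_contra hz0
        have hσ : sigma hR z ≠ 0 := fun h => hz0 ((sigma hR).map_eq_zero_iff.mp h)
        exact ht0 ((hunit _ hσ).mul_right_eq_zero.mp h2)
      · rintro ⟨⟨r, b⟩, hx⟩
        constructor
        · intro hr
          change r = 0 at hr
          subst hr
          have hb : b ∈ Ideal.span {t} := by
            rw [← Ideal.Quotient.eq_zero_iff_mem, ← (hmemE _).mp hx]
            exact map_zero φ
          obtain ⟨b', rfl⟩ := Ideal.mem_span_singleton'.mp hb
          obtain ⟨c, hc⟩ := hB b'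
          refine ⟨tau Λ c, Subtype.ext ?_⟩
          change ((0 : R), algebraMap Λ B (algebraMap k Λ (sigma hR (tau Λ c))) * t) = (0, b' * t)
          rw [sigma_tau]
          congr 1
          have := htm _ hc
          rw [sub_mul, sub_eq_zero] at this
          exact this.symm
        · rintro ⟨z, hz⟩
          have := congrArg (fun x : E' => (x : R × B).1) hz
          exact this.symm
      · rintro ⟨⟨r, b⟩, hx⟩ z
        apply Subtype.ext
        obtain ⟨c, hc⟩ := hR r
        have hbc : b - algebraMap Λ B (algebraMap k Λ c) ∈ maximalIdeal B := by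
          rw [← hmemB, map_sub, ← (hmemE _).mp hx, ← hφγ, ← map_sub]
          exact hφloc _ hc
        have h1 := htm _ hbc
        rw [sub_mul, sub_eq_zero] at h1
        change ((r, b) : R × B) * ((0 : R), algebraMap Λ B (algebraMap k Λ (sigma hR z)) * t) =
          ((0 : R), algebraMap Λ B (algebraMap k Λ (sigma hR (r • z))) * t)
        rw [sigma_smul hR r c hc, Prod.mk_mul_mk, mul_zero, map_mul, map_mul]
        congr 1
        rw [mul_left_comm, h1]
        ring
    obtain ⟨s, hs⟩ := htriv { E := E', proj := proj', incl := incl', isExtension := hext }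
    refine ⟨(AlgHom.snd Λ R B).comp (E'.val.comp s), ?_⟩
    ext r
    have h1 : ((s r : E') : R × B).1 = r := hs r
    have h2 := (hmemE _).mp (s r).2
    rw [h1] at h2
    exact h2.symm

end Stage2


/-- Let k be an algebraically closed field, Λ a local Noetherian k-algebra with residue field k, and R a
local Noetherian Λ-algebra, with local structure map and residue field k. The following are
equivalent: (a) every Λ-extension of R by its residue field k is trivial, i.e. the relative
obstruction space o(R/Λ) = Ex_Λ(R, k) vanishes; (b) for every local Artinian Λ-algebra B with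
residue field k and every t in the maximal ideal of B annihilated by the maximal ideal, every
Λ-algebra map R → B/tB lifts to a Λ-algebra map R → B (formal smoothness of R over Λ tested on small
extensions of Artinian rings). The test algebras B range over the universe of R. -/
theorem result
    {k : Type u} [Field k] [IsAlgClosed k]
    {Λ : Type u} [CommRing Λ] [Algebra k Λ] [IsLocalRing Λ] [IsNoetherianRing Λ]
    (hΛ : ∀ a : Λ, ∃ c : k, a - algebraMap k Λ c ∈ IsLocalRing.maximalIdeal Λ)
    {R : Type u} [CommRing R] [Algebra Λ R] [IsLocalRing R] [IsNoetherianRing R]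
    [IsLocalHom (algebraMap Λ R)]
    (hR : ∀ r : R, ∃ c : k, r - algebraMap Λ R (algebraMap k Λ c) ∈ IsLocalRing.maximalIdeal R) :
    (∀ X : Exal.Ext Λ R (IsLocalRing.ResidueField R), X.IsTrivial) ↔
    (∀ (B : Type u) [CommRing B] [Algebra Λ B] [IsLocalRing B] [IsArtinianRing B],
      (∀ b : B, ∃ c : k, b - algebraMap Λ B (algebraMap k Λ c) ∈ IsLocalRing.maximalIdeal B) →
      ∀ t : B, t ∈ IsLocalRing.maximalIdeal B → (∀ b ∈ IsLocalRing.maximalIdeal B, b * t = 0) →
      ∀ φ : R →ₐ[Λ] B ⧸ Ideal.span {t},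
        ∃ φ' : R →ₐ[Λ] B, (Ideal.Quotient.mkₐ Λ (Ideal.span {t})).comp φ' = φ) := by
  constructor
  · intro htriv B _ _ _ _ hB t ht htm φ
    exact lifting_of_trivial hR htriv B hB t ht htm φ
  · intro hlift X
    exact trivial_of_lifting hR hlift X

end Groth.Agent.S11281
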