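import Groth.Statements.S11287
import Groth.Agent.Lib.Helper58.ExalBasic
import Groth.Agent.Lib.Helper58.ExalLocal
import Groth.Agent.Lib.Helper58.ExalPres
import Groth.Agent.Lib.Helper58.PSComplete
import Groth.Agent.Lib.Helper58.MvPSComplete
import Groth.Agent.Lib.Helper58.SchlAmbient
import Groth.Agent.Lib.Helper44.AdicQuot

set_option autoImplicit false
universe u
open Deform

namespace Groth.Agent.S11287

open IsLocalRing Groth.Agent.Lib.Helper58

section Aux

variable {Λ : Type u} [CommRing Λ] [IsLocalRing Λ] (d : ℕ)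

theorem X_mem_maximalIdeal (i : Fin d) :
    (MvPowerSeries.X i : MvPowerSeries (Fin d) Λ) ∈ maximalIdeal (MvPowerSeries (Fin d) Λ) := by
  rw [MvPSComplete.mem_maximalIdeal_iff, MvPowerSeries.constantCoeff_X]
  exact zero_mem _

theorem span_X_le :
    Ideal.span (Set.range (MvPowerSeries.X : Fin d → MvPowerSeries (Fin d) Λ)) ≤
      maximalIdeal (MvPowerSeries (Fin d) Λ) := by
  rw [Ideal.span_le]
  rintro _ ⟨i, rfl⟩
  exact X_mem_maximalIdeal d i

variable {d} [Algebra Λ (MvPowerSeries (Fin d) Λ)] (J : Ideal (MvPowerSeries (Fin d) Λ))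
  [IsLocalRing (MvPowerSeries (Fin d) Λ ⧸ J)]
  {L : Type u} [AddCommGroup L] [Module (MvPowerSeries (Fin d) Λ ⧸ J) L]
  [IsSimpleModule (MvPowerSeries (Fin d) Λ ⧸ J) L]

theorem mk_mem_of_mem_span {a : MvPowerSeries (Fin d) Λ}
    (ha : a ∈ Ideal.span (Set.range (MvPowerSeries.X : Fin d → MvPowerSeries (Fin d) Λ))) :
    Ideal.Quotient.mk J a ∈ maximalIdeal (MvPowerSeries (Fin d) Λ ⧸ J) := by
  rw [← Schl.map_mk_maximalIdeal J]
  exact Ideal.mem_map_of_mem _ (span_X_le d ha)

/-- two lifts of the quotient map agree on the square of the ideal of the variables -/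
theorem lifts_agree (X : Exal.Ext Λ (MvPowerSeries (Fin d) Λ ⧸ J) L)
    (v v' : MvPowerSeries (Fin d) Λ →ₐ[Λ] X.E)
    (hv : ∀ p, X.proj (v p) = Ideal.Quotient.mk J p)
    (hv' : ∀ p, X.proj (v' p) = Ideal.Quotient.mk J p)
    {f : MvPowerSeries (Fin d) Λ}
    (hf : f ∈ Ideal.span (Set.range (MvPowerSeries.X : Fin d → MvPowerSeries (Fin d) Λ)) ^ 2) :
    v f = v' f := by
  rw [pow_two] at hf
  refine Submodule.mul_induction_on hf (fun a ha b hb => ?_) (fun x y hx hy => ?_)
  · have h1 : v a * (v b - v' b) = 0 :=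
      ExalL.mul_eq_zero_of_proj X _ _ (by rw [hv]; exact mk_mem_of_mem_span J ha)
        (by rw [map_sub, hv, hv', sub_self])
    have h2 : v' b * (v a - v' a) = 0 :=
      ExalL.mul_eq_zero_of_proj X _ _ (by rw [hv']; exact mk_mem_of_mem_span J hb)
        (by rw [map_sub, hv, hv', sub_self])
    rw [map_mul, map_mul, ← sub_eq_zero]
    have : v a * v b - v' a * v' b = v a * (v b - v' b) + v' b * (v a - v' a) := by ring
    rw [this, h1, h2, add_zero]
  · rw [map_add, map_add, hx, hy]

end Aux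

/-- Let k be an algebraically closed field, Λ a complete local Noetherian k-algebra with residue field
k, P = Λ[[X_1, …, X_d]] the power series ring, J an ideal of P contained in (X_1, …, X_d)^2, R =
P/J, and L a simple R-module (a copy of the residue field k). Then: (a) for every Λ-extension 0 → L
→ E → R → 0 the quotient map P → R lifts to a Λ-algebra map u : P → E; (b) for two such extensions
E, E' with lifts u, u', the extensions are equivalent if and only if u and u' send every element of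
J to the images of the same element of L (the restrictions J → L of the lifts agree); (c) every
P-linear map J → L is the restriction of a lift for some extension. Thus the classes of Λ-extensions
of R by L correspond bijectively to Hom_P(J, L), the dual of J/m_P J; this is the identification of
the obstruction space o(R/Λ) for a complete R (the general case reduces to it by passing to the
completion). -/
theorem result
    {k : Type u} [Field k] [IsAlgClosed k]
    {Λ : Type u} [CommRing Λ] [Algebra k Λ] [IsLocalRing Λ] [IsNoetherianRing Λ]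
    [IsAdicComplete (IsLocalRing.maximalIdeal Λ) Λ]
    (hΛ : ∀ a : Λ, ∃ c : k, a - algebraMap k Λ c ∈ IsLocalRing.maximalIdeal Λ)
    (d : ℕ) (J : Ideal (MvPowerSeries (Fin d) Λ))
    (hJ : J ≤ Ideal.span (Set.range (MvPowerSeries.X : Fin d → MvPowerSeries (Fin d) Λ)) ^ 2)
    (L : Type u) [AddCommGroup L] [Module (MvPowerSeries (Fin d) Λ ⧸ J) L] [Module (MvPowerSeries (Fin d) Λ) L]
    [IsScalarTower (MvPowerSeries (Fin d) Λ) (MvPowerSeries (Fin d) Λ ⧸ J) L] [IsSimpleModule (MvPowerSeries (Fin d) Λ ⧸ J) L] :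
    (∀ X : Exal.Ext Λ (MvPowerSeries (Fin d) Λ ⧸ J) L,
        ∃ u : MvPowerSeries (Fin d) Λ →ₐ[Λ] X.E, ∀ p, X.proj (u p) = Ideal.Quotient.mk J p) ∧
    (∀ (X X' : Exal.Ext Λ (MvPowerSeries (Fin d) Λ ⧸ J) L) (u : MvPowerSeries (Fin d) Λ →ₐ[Λ] X.E) (u' : MvPowerSeries (Fin d) Λ →ₐ[Λ] X'.E),
        (∀ p, X.proj (u p) = Ideal.Quotient.mk J p) → (∀ p, X'.proj (u' p) = Ideal.Quotient.mk J p) →
        (Nonempty (X.Equiv X') ↔ ∀ j ∈ J, ∃ z : L, X.incl z = u j ∧ X'.incl z = u' j)) ∧
    (∀ δ : J →ₗ[MvPowerSeries (Fin d) Λ] L, ∃ (X : Exal.Ext Λ (MvPowerSeries (Fin d) Λ ⧸ J) L) (u : MvPowerSeries (Fin d) Λ →ₐ[Λ] X.E),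
        (∀ p, X.proj (u p) = Ideal.Quotient.mk J p) ∧ ∀ j : J, X.incl (δ j) = u j) := by
  have hJm : J ≤ maximalIdeal (MvPowerSeries (Fin d) Λ) :=
    hJ.trans ((Ideal.pow_le_self two_ne_zero).trans (span_X_le d))
  have hJne : J ≠ ⊤ := fun h =>
    (Ideal.IsMaximal.ne_top (inferInstance : (maximalIdeal (MvPowerSeries (Fin d) Λ)).IsMaximal))
      (top_le_iff.1 (h ▸ hJm))
  haveI : Nontrivial (MvPowerSeries (Fin d) Λ ⧸ J) := Ideal.Quotient.nontrivial_iff.2 hJne
  haveI : IsLocalRing (MvPowerSeries (Fin d) Λ ⧸ J) :=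
    IsLocalRing.of_surjective' (Ideal.Quotient.mk J) Ideal.Quotient.mk_surjective
  haveI : IsAdicComplete (maximalIdeal (MvPowerSeries (Fin d) Λ)) (MvPowerSeries (Fin d) Λ) :=
    MvPSComplete.isAdicComplete
  haveI : IsAdicComplete (maximalIdeal (MvPowerSeries (Fin d) Λ ⧸ J))
      (MvPowerSeries (Fin d) Λ ⧸ J) := by
    have := Groth.Agent.Lib.Helper44.isAdicComplete_quotient_ring
      (maximalIdeal (MvPowerSeries (Fin d) Λ)) J
    rwa [Ideal.Quotient.algebraMap_eq, Schl.map_mk_maximalIdeal] at this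
  refine ⟨fun X => ?_, fun X X' u u' hu hu' => ⟨?_, ?_⟩, fun δ => ?_⟩
  · haveI := ExalL.isLocalRingE X
    haveI := ExalL.isAdicCompleteE X
    choose e he using fun i : Fin d =>
      X.isExtension.proj_surjective (Ideal.Quotient.mk J (MvPowerSeries.X i))
    have hem : ∀ i, e i ∈ maximalIdeal X.E := fun i => by
      rw [ExalL.mem_maximalIdeal_iff, he]
      exact mk_mem_of_mem_span J (Ideal.subset_span ⟨i, rfl⟩)
    refine ⟨PSComplete.evalComplete (R := Λ) (maximalIdeal X.E) e hem, fun p => ?_⟩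
    have h1 := PSComplete.algHom_ext_of_X (maximalIdeal (MvPowerSeries (Fin d) Λ ⧸ J))
      (X.proj.comp (PSComplete.evalComplete (R := Λ) (maximalIdeal X.E) e hem))
      (Ideal.Quotient.mkₐ Λ J)
      (fun i => by
        rw [AlgHom.comp_apply, PSComplete.evalComplete_X, he]
        exact mk_mem_of_mem_span J (Ideal.subset_span ⟨i, rfl⟩))
      (fun i => by
        rw [AlgHom.comp_apply, PSComplete.evalComplete_X, he]
        rfl)
    exact AlgHom.congr_fun h1 p
  · rintro ⟨θ⟩ j hj
    have h0 : X.proj (u j) = 0 := by rw [hu, Ideal.Quotient.eq_zero_iff_mem]; exact hj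
    refine ⟨X.kerLift (u j) h0, X.incl_kerLift _ h0, ?_⟩
    have h1 : X'.incl (X.kerLift (u j) h0) = θ.toAlgEquiv (u j) := by
      rw [← θ.apply_incl, X.incl_kerLift]
    rw [h1]
    exact lifts_agree J X' ((θ.toAlgEquiv : X.E →ₐ[Λ] X'.E).comp u) u'
      (fun p => by
        rw [AlgHom.comp_apply]
        change X'.proj (θ.toAlgEquiv (u p)) = _
        rw [θ.proj_apply, hu]) hu' (hJ hj)
  · intro h
    exact ExalP.nonempty_equiv_of_agree X X' u u' hu hu' h
  · exact ExalP.exists_ext_of_linear Λ J δ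

end Groth.Agent.S11287
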