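import Groth.Statements.S11288
import Mathlib.LinearAlgebra.Basis.VectorSpace
import Mathlib.RingTheory.Ideal.Quotient.Operations
import Mathlib.Tactic.LinearCombination

set_option autoImplicit false
universe u
open Deform

namespace Groth.Agent.S11288

/-- Let K be a field, R' a local Artinian K-algebra with residue field K, and t a nonzero element of the
maximal ideal m' of R' with m' t = 0, so that R' → R = R'/(t) is a small extension of R. Then the
extension is trivial, i.e. the projection admits a section which is a K-algebra map, if and only if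
t is not in m'^2; equivalently, iff the surjection m'/m'^2 → m_R/m_R^2 induced on cotangent spaces,
whose kernel is spanned by the class of t, is not bijective. For instance K[t]/(t^(n+1)) →
K[t]/(t^n) is a non-trivial small extension for n ≥ 2. (The published example allows any local
K-algebra with residue field K; the row takes R' Artinian, the case in which the subalgebra
generated by lifts of a basis of the cotangent space maps onto R.) -/
theorem result
    {K : Type u} [Field K]
    {R' : Type u} [CommRing R'] [Algebra K R'] [IsLocalRing R'] [IsArtinianRing R']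
    (hres : ∀ a : R', ∃ c : K, a - algebraMap K R' c ∈ IsLocalRing.maximalIdeal R')
    (t : R') (ht : t ∈ IsLocalRing.maximalIdeal R') (ht0 : t ≠ 0)
    (htm : ∀ a ∈ IsLocalRing.maximalIdeal R', a * t = 0) :
    (∃ s : (R' ⧸ Ideal.span {t}) →ₐ[K] R', ∀ x, Ideal.Quotient.mk (Ideal.span {t}) (s x) = x) ↔
      t ∉ IsLocalRing.maximalIdeal R' ^ 2 := by
  have htt : t * t = 0 := htm t ht
  constructor
  · rintro ⟨s, hs⟩ htsq
    have hρ : ∀ a : R', ∃ r : R', s (Ideal.Quotient.mk _ a) = a + r * t := by
      intro a
      have h1 : Ideal.Quotient.mk (Ideal.span {t}) (s (Ideal.Quotient.mk _ a) - a) = 0 := by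
        rw [map_sub, hs, sub_self]
      rw [Ideal.Quotient.eq_zero_iff_mem, Ideal.mem_span_singleton'] at h1
      obtain ⟨r, hr⟩ := h1
      exact ⟨r, by rw [hr]; ring⟩
    have hid : ∀ x ∈ IsLocalRing.maximalIdeal R' ^ 2, s (Ideal.Quotient.mk _ x) = x := by
      intro x hx
      rw [pow_two] at hx
      refine Submodule.mul_induction_on hx ?_ ?_
      · intro a ha b hb
        obtain ⟨r, hr⟩ := hρ a
        obtain ⟨r', hr'⟩ := hρ b
        rw [map_mul, map_mul, hr, hr']
        have h1 : a * t = 0 := htm a ha
        have h2 : b * t = 0 := htm b hb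
        linear_combination r' * h1 + r * h2 + r * r' * htt
      · intro x y hx hy
        rw [map_add, map_add, hx, hy]
    have h0 : s (Ideal.Quotient.mk _ t) = 0 := by
      have : Ideal.Quotient.mk (Ideal.span {t}) t = 0 :=
        Ideal.Quotient.eq_zero_iff_mem.mpr (Ideal.mem_span_singleton_self t)
      rw [this, map_zero]
    exact ht0 ((hid t htsq).symm.trans h0)
  · intro htsq
    let p : Submodule K R' :=
      Submodule.span K {1} ⊔ (IsLocalRing.maximalIdeal R' ^ 2).restrictScalars K
    have htp : t ∉ p := by
      intro h
      obtain ⟨y, hy, q, hq, hyq⟩ := Submodule.mem_sup.mp h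
      obtain ⟨c, rfl⟩ := Submodule.mem_span_singleton.mp hy
      have hq' : q ∈ IsLocalRing.maximalIdeal R' ^ 2 := hq
      have hqm : q ∈ IsLocalRing.maximalIdeal R' := Ideal.pow_le_self two_ne_zero hq'
      have hc : c • (1 : R') ∈ IsLocalRing.maximalIdeal R' := by
        have : c • (1 : R') = t - q := by rw [← hyq]; ring
        rw [this]; exact sub_mem ht hqm
      by_cases hc0 : c = 0
      · apply htsq; rw [← hyq, hc0, zero_smul, zero_add]; exact hq'
      · have : IsUnit (c • (1 : R')) := by
          rw [Algebra.smul_def, mul_one]; exact (IsUnit.mk0 c hc0).map (algebraMap K R')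
        exact (IsLocalRing.mem_maximalIdeal _).mp hc this
    obtain ⟨f, hft, hpf⟩ := Submodule.exists_le_ker_of_notMem htp
    let l : R' →ₗ[K] K := (f t)⁻¹ • f
    have hlt : l t = 1 := by simp [l, hft]
    have hl1 : l 1 = 0 := by
      have : (1 : R') ∈ p := Submodule.mem_sup_left (Submodule.mem_span_singleton_self 1)
      have := hpf this
      simp only [LinearMap.mem_ker] at this
      simp [l, this]
    have hlsq : ∀ x ∈ IsLocalRing.maximalIdeal R' ^ 2, l x = 0 := by
      intro x hx
      have : x ∈ p := Submodule.mem_sup_right hx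
      have := hpf this
      simp only [LinearMap.mem_ker] at this
      simp [l, this]
    have hlmul : ∀ (a b : R') (α β : K), a - algebraMap K R' α ∈ IsLocalRing.maximalIdeal R' →
        b - algebraMap K R' β ∈ IsLocalRing.maximalIdeal R' →
        l (a * b) = α * l b + β * l a := by
      intro a b α β ha hb
      have h1 : a * b = (α * β) • (1 : R') + α • (b - algebraMap K R' β) +
          β • (a - algebraMap K R' α) + (a - algebraMap K R' α) * (b - algebraMap K R' β) := by
        simp only [Algebra.smul_def, map_mul]; ring
      have h2 : l ((a - algebraMap K R' α) * (b - algebraMap K R' β)) = 0 :=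
        hlsq _ (by rw [pow_two]; exact Ideal.mul_mem_mul ha hb)
      have h3 : ∀ (x : R') (γ : K), l (x - algebraMap K R' γ) = l x := by
        intro x γ
        rw [map_sub, Algebra.algebraMap_eq_smul_one, map_smul, hl1, smul_zero, sub_zero]
      rw [h1, map_add, map_add, map_add, map_smul, map_smul, map_smul, h2, hl1, h3, h3]
      simp only [smul_eq_mul]; ring
    let ρlin : R' →ₗ[K] R' := LinearMap.id - l.smulRight t
    have hρapp : ∀ a, ρlin a = a - algebraMap K R' (l a) * t := by
      intro a; simp [ρlin, Algebra.smul_def]
    let ρ : R' →ₐ[K] R' := AlgHom.ofLinearMap ρlin (by rw [hρapp, hl1]; simp) (by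
      intro a b
      obtain ⟨α, hα⟩ := hres a
      obtain ⟨β, hβ⟩ := hres b
      rw [hρapp, hρapp, hρapp]
      have h1 : (a - algebraMap K R' α) * t = 0 := htm _ hα
      have h2 : (b - algebraMap K R' β) * t = 0 := htm _ hβ
      have h3 : algebraMap K R' (l (a * b)) =
          algebraMap K R' α * algebraMap K R' (l b) + algebraMap K R' β * algebraMap K R' (l a) := by
        rw [hlmul a b α β hα hβ, map_add, map_mul, map_mul]
      linear_combination algebraMap K R' (l b) * h1 + algebraMap K R' (l a) * h2 -
        algebraMap K R' (l a) * algebraMap K R' (l b) * htt - t * h3)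
    have hρ : ∀ a, ρ a = a - algebraMap K R' (l a) * t := hρapp
    have hρt : ρ t = 0 := by rw [hρ, hlt]; simp
    have hker : ∀ a ∈ Ideal.span {t}, ρ a = 0 := by
      intro a ha
      obtain ⟨r, rfl⟩ := Ideal.mem_span_singleton'.mp ha
      rw [map_mul, hρt, mul_zero]
    refine ⟨Ideal.Quotient.liftₐ (Ideal.span {t}) ρ hker, ?_⟩
    intro x
    obtain ⟨a, rfl⟩ := Ideal.Quotient.mk_surjective x
    have : Ideal.Quotient.liftₐ (Ideal.span {t}) ρ hker (Ideal.Quotient.mk _ a) = ρ a := rfl
    rw [this, hρ, map_sub, map_mul]
    have : Ideal.Quotient.mk (Ideal.span {t}) t = 0 :=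
      Ideal.Quotient.eq_zero_iff_mem.mpr (Ideal.mem_span_singleton_self t)
    rw [this, mul_zero, sub_zero]

end Groth.Agent.S11288
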