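import Groth.Statements.S11291
import Mathlib.RingTheory.MvPolynomial.Ideal
import Mathlib.LinearAlgebra.Basis.VectorSpace
import Mathlib.RingTheory.Ideal.Quotient.Operations

set_option autoImplicit false
universe u
open Deform

namespace Groth.Agent.S11291


section General1

variable {k : Type u} [Field k] {A : Type u} [CommRing A] [Algebra k A] [IsLocalRing A]

open IsLocalRing

/-- in an extension of `A` by its residue field, elements over the maximal ideal kill the kernel -/
lemma mul_eq_zero_of_proj (X : Exal.Ext k A (ResidueField A)) (x y : X.E)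
    (hx : X.proj x ∈ maximalIdeal A) (hy : X.proj y = 0) : x * y = 0 := by
  obtain ⟨z, rfl⟩ := (X.isExtension.exact y).1 hy
  rw [X.isExtension.mul_incl]
  have : X.proj x • z = 0 := by
    rw [Algebra.smul_def, ResidueField.algebraMap_eq, (residue_eq_zero_iff _).mpr hx, zero_mul]
  rw [this, map_zero]

/-- a section agrees with any lift on the square of the preimage of the maximal ideal -/
lemma section_eq_of_mem_sq (X : Exal.Ext k A (ResidueField A)) (s : A →ₐ[k] X.E)
    (hs : ∀ a, X.proj (s a) = a) {P : Type*} [CommRing P] [Algebra k P] (π : P →ₐ[k] X.E) (p : P)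
    (hp : p ∈ (Ideal.comap (X.proj.comp π) (maximalIdeal A)) ^ 2) :
    s (X.proj (π p)) = π p := by
  rw [sq, ← smul_eq_mul] at hp
  refine Submodule.smul_induction_on hp ?_ ?_
  · intro a ha b hb
    rw [Ideal.mem_comap] at ha hb
    change X.proj (π a) ∈ _ at ha
    change X.proj (π b) ∈ _ at hb
    rw [smul_eq_mul, map_mul, map_mul, map_mul]
    have h1 : s (X.proj (π a)) * (s (X.proj (π b)) - π b) = 0 :=
      mul_eq_zero_of_proj X _ _ (by rw [hs]; exact ha) (by rw [map_sub, hs, sub_self])
    have h2 : π b * (s (X.proj (π a)) - π a) = 0 :=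
      mul_eq_zero_of_proj X _ _ hb (by rw [map_sub, hs, sub_self])
    have : s (X.proj (π a)) * s (X.proj (π b)) - π a * π b =
        s (X.proj (π a)) * (s (X.proj (π b)) - π b) + π b * (s (X.proj (π a)) - π a) := by ring
    rw [h1, h2, add_zero, sub_eq_zero] at this
    exact this
  · intro a b ha hb
    rw [map_add, map_add, map_add, ha, hb]

end General1



section General

variable {k : Type u} [Field k] {A : Type u} [CommRing A] [Algebra k A] [IsLocalRing A]

open IsLocalRing

lemma algebraMap_mem_maximalIdeal {c : k} (hc : algebraMap k A c ∈ maximalIdeal A) : c = 0 := by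
  by_contra h
  exact (mem_maximalIdeal _).mp hc ((IsUnit.mk0 c h).map (algebraMap k A))

/-- the comparison `k → κ(A)` -/
noncomputable def tau : k →+* ResidueField A := (residue A).comp (algebraMap k A)

lemma tau_bijective (hres : ∀ a : A, ∃ c : k, a - algebraMap k A c ∈ maximalIdeal A) :
    Function.Bijective (tau : k →+* ResidueField A) := by
  refine ⟨(tau : k →+* ResidueField A).injective, fun z => ?_⟩
  obtain ⟨a, rfl⟩ := residue_surjective z
  obtain ⟨c, hc⟩ := hres a
  refine ⟨c, ?_⟩
  change residue A (algebraMap k A c) = residue A a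
  rw [eq_comm, ← sub_eq_zero, ← map_sub, residue_eq_zero_iff]
  exact hc

/-- the inverse comparison -/
noncomputable def sigma (hres : ∀ a : A, ∃ c : k, a - algebraMap k A c ∈ maximalIdeal A) :
    ResidueField A ≃+* k :=
  (RingEquiv.ofBijective (tau : k →+* ResidueField A) (tau_bijective hres)).symm

lemma sigma_tau (hres : ∀ a : A, ∃ c : k, a - algebraMap k A c ∈ maximalIdeal A) (c : k) :
    sigma hres (tau c) = c :=
  (RingEquiv.ofBijective (tau : k →+* ResidueField A) (tau_bijective hres)).symm_apply_apply c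

lemma sigma_smul (hres : ∀ a : A, ∃ c : k, a - algebraMap k A c ∈ maximalIdeal A)
    (a : A) (c : k) (hc : a - algebraMap k A c ∈ maximalIdeal A) (z : ResidueField A) :
    sigma hres (a • z) = c * sigma hres z := by
  have : a • z = tau c * z := by
    rw [Algebra.smul_def, ResidueField.algebraMap_eq]
    congr 1
    change residue A a = residue A (algebraMap k A c)
    rw [← sub_eq_zero, ← map_sub, residue_eq_zero_iff]
    exact hc
  rw [this, map_mul, sigma_tau]

/-- the ideal `J'` -/
def Jp {P : Type u} [CommRing P] [Algebra k P] (φ : P →ₐ[k] A)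
    (hres : ∀ a : A, ∃ c : k, a - algebraMap k A c ∈ maximalIdeal A) (lam : P →ₗ[k] k)
    (hlam : ((Ideal.comap φ (maximalIdeal A)) * RingHom.ker φ).restrictScalars k ≤ LinearMap.ker lam) :
    Ideal P where
  carrier := {p | φ p = 0 ∧ lam p = 0}
  add_mem' := by
    rintro a b ⟨ha1, ha2⟩ ⟨hb1, hb2⟩
    exact ⟨by rw [map_add, ha1, hb1, add_zero], by rw [map_add, ha2, hb2, add_zero]⟩
  zero_mem' := ⟨map_zero _, map_zero _⟩
  smul_mem' := by
    rintro r p ⟨hp1, hp2⟩
    refine ⟨by rw [smul_eq_mul, map_mul, hp1, mul_zero], ?_⟩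
    obtain ⟨c, hc⟩ := hres (φ r)
    have h1 : (r - algebraMap k P c) * p ∈ (Ideal.comap φ (maximalIdeal A)) * RingHom.ker φ := by
      refine Ideal.mul_mem_mul ?_ hp1
      rw [Ideal.mem_comap, map_sub, AlgHom.commutes]
      exact hc
    have h2 : lam ((r - algebraMap k P c) * p) = 0 := hlam h1
    have h3 : r • p = (r - algebraMap k P c) * p + c • p := by
      rw [Algebra.smul_def c p, smul_eq_mul]; ring
    rw [h3, map_add, h2, map_smul, hp2, smul_zero, add_zero]

lemma mem_Jp {P : Type u} [CommRing P] [Algebra k P] (φ : P →ₐ[k] A)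
    (hres : ∀ a : A, ∃ c : k, a - algebraMap k A c ∈ maximalIdeal A) (lam : P →ₗ[k] k)
    (hlam : ((Ideal.comap φ (maximalIdeal A)) * RingHom.ker φ).restrictScalars k ≤ LinearMap.ker lam)
    (p : P) : p ∈ Jp φ hres lam hlam ↔ φ p = 0 ∧ lam p = 0 := Iff.rfl

/-- construction of an extension from a presentation -/
lemma ext_construct {P : Type u} [CommRing P] [Algebra k P] (φ : P →ₐ[k] A)
    (hφ : Function.Surjective φ)
    (hres : ∀ a : A, ∃ c : k, a - algebraMap k A c ∈ maximalIdeal A) (j₀ : P) (hj₀ : φ j₀ = 0)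
    (hj₀' : j₀ ∉ (Ideal.comap φ (maximalIdeal A)) * RingHom.ker φ) :
    ∃ (X : Exal.Ext k A (ResidueField A)) (π : P →ₐ[k] X.E),
      (∀ p, X.proj (π p) = φ p) ∧ π j₀ ≠ 0 := by
  obtain ⟨lam, hlam0, hlam⟩ := Submodule.exists_le_ker_of_notMem
    (p := ((Ideal.comap φ (maximalIdeal A)) * RingHom.ker φ).restrictScalars k) (v := j₀)
    (by rw [Submodule.restrictScalars_mem]; exact hj₀')
  let J' := Jp φ hres lam hlam
  let proj : (P ⧸ J') →ₐ[k] A := Ideal.Quotient.liftₐ J' φ (fun p hp => hp.1)
  have hproj : ∀ p : P, proj (Ideal.Quotient.mk J' p) = φ p := fun p => rfl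
  let incl : ResidueField A →+ (P ⧸ J') :=
    ((LinearMap.toSpanSingleton k (P ⧸ J') (Ideal.Quotient.mk J' j₀)).toAddMonoidHom).comp
      (sigma hres).toAddMonoidHom
  have hincl : ∀ z, incl z = sigma hres z • Ideal.Quotient.mk J' j₀ := fun z => rfl
  have hsm : ∀ (c : k) (p : P), c • Ideal.Quotient.mk J' p = Ideal.Quotient.mk J' (c • p) :=
    fun c p => rfl
  refine ⟨{ E := P ⧸ J', proj := proj, incl := incl, isExtension := ?_ },
    Ideal.Quotient.mkₐ k J', fun p => rfl, ?_⟩
  · refine ⟨?_, ?_, ?_, ?_⟩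
    · intro a
      obtain ⟨p, rfl⟩ := hφ a
      exact ⟨Ideal.Quotient.mk J' p, rfl⟩
    · rw [injective_iff_map_eq_zero]
      intro z hz
      rw [hincl, hsm, Ideal.Quotient.eq_zero_iff_mem] at hz
      have := hz.2
      rw [map_smul, smul_eq_mul, mul_eq_zero] at this
      rcases this with h | h
      · exact (sigma hres).map_eq_zero_iff.mp h
      · exact absurd h hlam0
    · intro x
      obtain ⟨p, rfl⟩ := Ideal.Quotient.mk_surjective x
      rw [hproj]
      constructor
      · intro hp
        refine ⟨tau (lam p / lam j₀), ?_⟩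
        rw [hincl, sigma_tau, hsm, eq_comm, ← sub_eq_zero, ← map_sub, Ideal.Quotient.eq_zero_iff_mem]
        refine ⟨by rw [map_sub, hp, map_smul, hj₀, smul_zero, sub_zero], ?_⟩
        rw [map_sub, map_smul, smul_eq_mul, div_mul_cancel₀ _ hlam0, sub_self]
      · rintro ⟨z, hz⟩
        rw [← hproj, ← hz, hincl, map_smul, hproj, hj₀, smul_zero]
    · intro x z
      obtain ⟨p, rfl⟩ := Ideal.Quotient.mk_surjective x
      obtain ⟨c, hc⟩ := hres (φ p)
      have key : Ideal.Quotient.mk J' (p * j₀) = c • Ideal.Quotient.mk J' j₀ := by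
        rw [hsm, ← sub_eq_zero, ← map_sub, Ideal.Quotient.eq_zero_iff_mem]
        have h1 : (p - algebraMap k P c) * j₀ ∈
            (Ideal.comap φ (maximalIdeal A)) * RingHom.ker φ := by
          refine Ideal.mul_mem_mul ?_ hj₀
          rw [Ideal.mem_comap, map_sub, AlgHom.commutes]
          exact hc
        have h3 : p * j₀ - c • j₀ = (p - algebraMap k P c) * j₀ := by
          rw [Algebra.smul_def c j₀]; ring
        rw [h3]
        exact ⟨by rw [map_mul, hj₀, mul_zero], hlam h1⟩
      rw [hincl, hincl, hproj, sigma_smul hres (φ p) c hc, mul_smul, mul_smul_comm, ← map_mul, key,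
        smul_comm]
  · intro h
    have : j₀ ∈ J' := Ideal.Quotient.eq_zero_iff_mem.mp h
    exact hlam0 this.2

end General




section Poly

variable {k : Type u} [Field k] {A : Type u} [CommRing A] [Algebra k A] [IsLocalRing A]
variable {ι : Type u} (x : ι → A)

open IsLocalRing MvPolynomial

lemma linX_mem (l : ι →₀ k) :
    Finsupp.linearCombination k (X : ι → MvPolynomial ι k) l ∈ idealOfVars ι k := by
  rw [Finsupp.linearCombination_apply]
  refine Ideal.sum_mem _ fun i _ => ?_
  change l i • (X i : MvPolynomial ι k) ∈ _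
  rw [Algebra.smul_def]
  exact Ideal.mul_mem_left _ _ (Ideal.subset_span ⟨i, rfl⟩)

lemma decomp (p : MvPolynomial ι k) : ∃ (c : k) (l : ι →₀ k) (q : MvPolynomial ι k),
    q ∈ idealOfVars ι k ^ 2 ∧
      p = C c + Finsupp.linearCombination k (X : ι → MvPolynomial ι k) l + q := by
  induction p using MvPolynomial.induction_on with
  | C a => exact ⟨a, 0, 0, zero_mem _, by simp⟩
  | add p p' hp hp' =>
    obtain ⟨c, l, q, hq, rfl⟩ := hp
    obtain ⟨c', l', q', hq', rfl⟩ := hp'
    refine ⟨c + c', l + l', q + q', add_mem hq hq', ?_⟩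
    rw [map_add, map_add]; ring
  | mul_X p i hp =>
    obtain ⟨c, l, q, hq, rfl⟩ := hp
    refine ⟨0, Finsupp.single i c,
      Finsupp.linearCombination k (X : ι → MvPolynomial ι k) l * X i + q * X i, ?_, ?_⟩
    · refine add_mem ?_ (Ideal.mul_mem_right _ _ hq)
      rw [sq]
      exact Ideal.mul_mem_mul (linX_mem l) (Ideal.subset_span ⟨i, rfl⟩)
    · rw [Finsupp.linearCombination_single, map_zero, zero_add, Algebra.smul_def]
      rw [MvPolynomial.algebraMap_eq]
      ring

omit [IsLocalRing A] in
lemma aeval_linX (l : ι →₀ k) :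
    aeval x (Finsupp.linearCombination k (X : ι → MvPolynomial ι k) l) =
      Finsupp.linearCombination k x l := by
  rw [Finsupp.linearCombination_apply, Finsupp.linearCombination_apply, Finsupp.sum, map_sum,
    Finsupp.sum]
  refine Finset.sum_congr rfl fun i _ => ?_
  rw [map_smul, aeval_X]

variable (hx_mem : ∀ i, x i ∈ maximalIdeal A)

include hx_mem in
lemma vars_le_comap : idealOfVars ι k ≤ Ideal.comap (aeval x : MvPolynomial ι k →ₐ[k] A)
    (maximalIdeal A) := by
  rw [idealOfVars, Ideal.span_le]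
  rintro _ ⟨i, rfl⟩
  change aeval x (X i : MvPolynomial ι k) ∈ maximalIdeal A
  rw [aeval_X]
  exact hx_mem i

include hx_mem in
lemma aeval_mem_pow {p : MvPolynomial ι k} {t : ℕ} (hp : p ∈ idealOfVars ι k ^ t) :
    aeval x p ∈ maximalIdeal A ^ t :=
  Ideal.le_comap_pow (K := maximalIdeal A) (aeval x : MvPolynomial ι k →ₐ[k] A) t
    (Ideal.pow_right_mono (vars_le_comap (k := k) x hx_mem) t hp)

include hx_mem in
lemma comap_le_vars : Ideal.comap (aeval x : MvPolynomial ι k →ₐ[k] A) (maximalIdeal A) ≤
    idealOfVars ι k := by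
  intro p hp
  obtain ⟨c, l, q, hq, rfl⟩ := decomp p
  have hq1 : q ∈ idealOfVars ι k := Ideal.pow_le_self two_ne_zero hq
  have hrest : Finsupp.linearCombination k (X : ι → MvPolynomial ι k) l + q ∈ idealOfVars ι k :=
    add_mem (linX_mem l) hq1
  have : algebraMap k A c ∈ maximalIdeal A := by
    rw [Ideal.mem_comap, add_assoc, map_add, aeval_C] at hp
    have h2 := vars_le_comap x hx_mem hrest
    rw [Ideal.mem_comap] at h2
    exact (Ideal.add_mem_iff_left _ h2).mp hp
  rw [algebraMap_mem_maximalIdeal this, map_zero, zero_add]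
  exact hrest

variable (hx_li : ∀ l : ι →₀ k, Finsupp.linearCombination k x l ∈ maximalIdeal A ^ 2 → l = 0)

include hx_mem hx_li in
lemma ker_le_sq : RingHom.ker (aeval x : MvPolynomial ι k →ₐ[k] A) ≤ idealOfVars ι k ^ 2 := by
  intro p hp
  rw [RingHom.mem_ker] at hp
  have hp' : p ∈ idealOfVars ι k := comap_le_vars x hx_mem (by
    rw [Ideal.mem_comap, hp]; exact zero_mem _)
  obtain ⟨c, l, q, hq, rfl⟩ := decomp p
  have hq1 : q ∈ idealOfVars ι k := Ideal.pow_le_self two_ne_zero hq
  have hrest : Finsupp.linearCombination k (X : ι → MvPolynomial ι k) l + q ∈ idealOfVars ι k :=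
    add_mem (linX_mem l) hq1
  have hc : algebraMap k A c ∈ maximalIdeal A := by
    have h1 := vars_le_comap x hx_mem hp'
    rw [Ideal.mem_comap, add_assoc, map_add, aeval_C] at h1
    have h2 := vars_le_comap x hx_mem hrest
    rw [Ideal.mem_comap] at h2
    exact (Ideal.add_mem_iff_left _ h2).mp h1
  have hc0 := algebraMap_mem_maximalIdeal hc
  subst hc0
  rw [map_zero, zero_add] at hp ⊢
  rw [map_add, aeval_linX] at hp
  have hl : Finsupp.linearCombination k x l ∈ maximalIdeal A ^ 2 := by
    rw [eq_neg_of_add_eq_zero_left hp]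
    exact neg_mem (aeval_mem_pow x hx_mem hq)
  rw [hx_li l hl, map_zero, zero_add]
  exact hq

end Poly



section Poly2

variable {k : Type u} [Field k] {A : Type u} [CommRing A] [Algebra k A] [IsLocalRing A]
variable {ι : Type u} (x : ι → A)

open IsLocalRing MvPolynomial


variable (hx_mem : ∀ i, x i ∈ maximalIdeal A)

/-- existence of a relation outside `n J` -/
lemma exists_rel [Nonempty ι] (N : ℕ) (hN : maximalIdeal A ^ N = ⊥)
    (hx_mem : ∀ i, x i ∈ maximalIdeal A) :
    ∃ j₀ : MvPolynomial ι k, aeval x j₀ = 0 ∧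
      j₀ ∉ idealOfVars ι k * RingHom.ker (aeval x : MvPolynomial ι k →ₐ[k] A) := by
  by_contra hcon
  push Not at hcon
  have hle : ∀ t : ℕ, RingHom.ker (aeval x : MvPolynomial ι k →ₐ[k] A) ≤ idealOfVars ι k ^ t := by
    intro t
    induction t with
    | zero => rw [pow_zero, Ideal.one_eq_top]; exact le_top
    | succ t ih =>
      intro p hp
      rw [pow_succ']
      exact Ideal.mul_mono_right ih (hcon p hp)
  obtain ⟨i₀⟩ := ‹Nonempty ι›
  have h1 : (X i₀ ^ N : MvPolynomial ι k) ∈ RingHom.ker (aeval x : MvPolynomial ι k →ₐ[k] A) := by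
    rw [RingHom.mem_ker, map_pow, aeval_X]
    have : x i₀ ^ N ∈ maximalIdeal A ^ N := Ideal.pow_mem_pow (hx_mem i₀) N
    rw [hN] at this
    exact this
  have h2 := hle (N + 1) h1
  rw [X_pow_eq_monomial, monomial_mem_pow_idealOfVars_iff _ _ one_ne_zero,
    Finsupp.degree_single] at h2
  omega

variable (hres : ∀ a : A, ∃ c : k, a - algebraMap k A c ∈ maximalIdeal A)
variable (hx_span : ∀ a ∈ maximalIdeal A, ∃ l : ι →₀ k,
  a - Finsupp.linearCombination k x l ∈ maximalIdeal A ^ 2)

include hres hx_span in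
lemma approx_step (j : ℕ) : ∀ a ∈ maximalIdeal A ^ j, ∃ p : MvPolynomial ι k,
    a - aeval x p ∈ maximalIdeal A ^ (j + 1) := by
  induction j with
  | zero =>
    intro a _
    obtain ⟨c, hc⟩ := hres a
    refine ⟨C c, ?_⟩
    rw [aeval_C, zero_add, pow_one]
    exact hc
  | succ j ih =>
    intro a ha
    rw [pow_succ', ← smul_eq_mul] at ha
    refine Submodule.smul_induction_on ha ?_ ?_
    · intro r hr y hy
      obtain ⟨l, hl⟩ := hx_span r hr
      obtain ⟨py, hpy⟩ := ih y hy
      refine ⟨Finsupp.linearCombination k (X : ι → MvPolynomial ι k) l * py, ?_⟩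
      rw [map_mul, aeval_linX, smul_eq_mul]
      have hv : Finsupp.linearCombination k x l ∈ maximalIdeal A := by
        rw [← sub_sub_cancel r (Finsupp.linearCombination k x l)]
        exact sub_mem hr (Ideal.pow_le_self two_ne_zero hl)
      have e : r * y - Finsupp.linearCombination k x l * aeval x py =
          (r - Finsupp.linearCombination k x l) * y +
            Finsupp.linearCombination k x l * (y - aeval x py) := by ring
      rw [e]
      refine add_mem ?_ ?_
      · have : (r - Finsupp.linearCombination k x l) * y ∈ maximalIdeal A ^ 2 * maximalIdeal A ^ j :=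
          Ideal.mul_mem_mul hl hy
        rw [← pow_add] at this
        convert this using 2
        omega
      · have : Finsupp.linearCombination k x l * (y - aeval x py) ∈
            maximalIdeal A * maximalIdeal A ^ (j + 1) :=
          Ideal.mul_mem_mul hv hpy
        rw [← pow_succ'] at this
        exact this
    · rintro a b ⟨p, hp⟩ ⟨q, hq⟩
      refine ⟨p + q, ?_⟩
      rw [map_add]
      have : a + b - (aeval x p + aeval x q) = (a - aeval x p) + (b - aeval x q) := by ring
      rw [this]
      exact add_mem hp hq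

include hres hx_span in
lemma aeval_surjective (N : ℕ) (hN : maximalIdeal A ^ N = ⊥) :
    Function.Surjective (aeval x : MvPolynomial ι k →ₐ[k] A) := by
  have key : ∀ j : ℕ, ∀ a : A, ∃ p : MvPolynomial ι k, a - aeval x p ∈ maximalIdeal A ^ j := by
    intro j
    induction j with
    | zero => intro a; exact ⟨0, by rw [pow_zero, Ideal.one_eq_top]; trivial⟩
    | succ j ih =>
      intro a
      obtain ⟨p, hp⟩ := ih a
      obtain ⟨q, hq⟩ := approx_step x hres hx_span j _ hp
      refine ⟨p + q, ?_⟩
      rw [map_add, ← sub_sub]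
      exact hq
  intro a
  obtain ⟨p, hp⟩ := key N a
  rw [hN, Ideal.mem_bot, sub_eq_zero] at hp
  exact ⟨p, hp.symm⟩

end Poly2



section Gens

variable {k : Type u} [Field k] {A : Type u} [CommRing A] [Algebra k A] [IsLocalRing A]

open IsLocalRing Module

lemma exists_gens : ∃ (ι : Type u) (x : ι → A), (∀ i, x i ∈ maximalIdeal A) ∧
    (∀ l : ι →₀ k, Finsupp.linearCombination k x l ∈ maximalIdeal A ^ 2 → l = 0) ∧
    (∀ a ∈ maximalIdeal A, ∃ l : ι →₀ k,
      a - Finsupp.linearCombination k x l ∈ maximalIdeal A ^ 2) := by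
  let M1 : Submodule k A := (maximalIdeal A).restrictScalars k
  let M2 : Submodule k A := (maximalIdeal A ^ 2).restrictScalars k
  let W : Submodule k (A ⧸ M2) := M1.map M2.mkQ
  let b := Basis.ofVectorSpace k W
  have hex : ∀ i : Basis.ofVectorSpaceIndex k W, ∃ y ∈ M1, M2.mkQ y = (b i : A ⧸ M2) :=
    fun i => Submodule.mem_map.mp (b i).2
  choose x hx1 hx2 using hex
  have hcomp : ∀ l : Basis.ofVectorSpaceIndex k W →₀ k,
      M2.mkQ (Finsupp.linearCombination k x l) = W.subtype (Finsupp.linearCombination k b l) := by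
    intro l
    rw [Finsupp.apply_linearCombination, Finsupp.apply_linearCombination]
    congr 1
    congr 1
    funext i
    exact hx2 i
  refine ⟨Basis.ofVectorSpaceIndex k W, x, hx1, ?_, ?_⟩
  · intro l hl
    have h0 : M2.mkQ (Finsupp.linearCombination k x l) = 0 := by
      rw [Submodule.mkQ_apply, Submodule.Quotient.mk_eq_zero]
      exact hl
    rw [hcomp] at h0
    have h1 : Finsupp.linearCombination k b l = 0 := Subtype.ext h0
    exact linearIndependent_iff.mp b.linearIndependent l h1
  · intro a ha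
    let w : W := ⟨M2.mkQ a, Submodule.mem_map_of_mem ha⟩
    refine ⟨b.repr w, ?_⟩
    have h1 : M2.mkQ (a - Finsupp.linearCombination k x (b.repr w)) = 0 := by
      rw [map_sub, hcomp, Basis.linearCombination_repr]
      exact sub_self _
    rw [Submodule.mkQ_apply, Submodule.Quotient.mk_eq_zero] at h1
    exact h1

end Gens


/-- Let k be an algebraically closed field and A a local Artinian k-algebra with residue field k and
non-zero maximal ideal, i.e. A is not k. Then the obstruction space o(A) = Ex_k(A, k) is not zero: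
there is a k-extension 0 → k → E → A → 0 of A by its residue field which is not trivial (admits no
k-algebra section). Equivalently, k is the only formally smooth object among local Artinian
k-algebras with residue field k. -/
theorem result
    {k : Type u} [Field k] [IsAlgClosed k]
    {A : Type u} [CommRing A] [Algebra k A] [IsLocalRing A] [IsArtinianRing A]
    (hres : ∀ a : A, ∃ c : k, a - algebraMap k A c ∈ IsLocalRing.maximalIdeal A)
    (hA : IsLocalRing.maximalIdeal A ≠ ⊥) :
    ∃ X : Exal.Ext k A (IsLocalRing.ResidueField A), ¬ X.IsTrivial := by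
  classical
  obtain ⟨N, hN⟩ : ∃ N : ℕ, IsLocalRing.maximalIdeal A ^ N = ⊥ := by
    have := IsArtinianRing.isNilpotent_jacobson_bot (R := A)
    rw [IsLocalRing.jacobson_eq_maximalIdeal ⊥ bot_ne_top] at this
    exact this
  obtain ⟨ι, x, hx_mem, hx_li, hx_span⟩ := exists_gens (k := k) (A := A)
  have hne : Nonempty ι := by
    by_contra hemp
    rw [not_nonempty_iff] at hemp
    have h1 : IsLocalRing.maximalIdeal A ≤ IsLocalRing.maximalIdeal A ^ 2 := by
      intro a ha
      obtain ⟨l, hl⟩ := hx_span a ha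
      have : l = 0 := Subsingleton.elim _ _
      rw [this, map_zero, sub_zero] at hl
      exact hl
    have h2 : ∀ t : ℕ, IsLocalRing.maximalIdeal A ≤ IsLocalRing.maximalIdeal A ^ (t + 1) := by
      intro t
      induction t with
      | zero => rw [zero_add, pow_one]
      | succ t ih =>
        refine h1.trans ?_
        rw [sq, pow_succ' _ (t + 1)]
        exact Ideal.mul_mono_right ih
    have h3 : IsLocalRing.maximalIdeal A ≤ ⊥ := by
      rw [← hN]
      exact (h2 N).trans (Ideal.pow_le_pow_right (Nat.le_succ N))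
    exact hA (le_bot_iff.mp h3)
  have hsurj := aeval_surjective (k := k) x hres hx_span N hN
  obtain ⟨j₀, hj₀, hj₀'⟩ := exists_rel (k := k) x N hN hx_mem
  have hn : Ideal.comap (MvPolynomial.aeval x : MvPolynomial ι k →ₐ[k] A)
      (IsLocalRing.maximalIdeal A) = MvPolynomial.idealOfVars ι k :=
    le_antisymm (comap_le_vars x hx_mem) (vars_le_comap x hx_mem)
  obtain ⟨X, π, hπ, hπj⟩ := ext_construct (MvPolynomial.aeval x : MvPolynomial ι k →ₐ[k] A)
    hsurj hres j₀ hj₀ (by rw [hn]; exact hj₀')
  refine ⟨X, ?_⟩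
  rintro ⟨s, hs⟩
  have hcomp : X.proj.comp π = (MvPolynomial.aeval x : MvPolynomial ι k →ₐ[k] A) :=
    AlgHom.ext hπ
  have hmem : j₀ ∈ (Ideal.comap (X.proj.comp π) (IsLocalRing.maximalIdeal A)) ^ 2 := by
    rw [hcomp, hn]
    exact ker_le_sq x hx_mem hx_li hj₀
  have := section_eq_of_mem_sq X s hs π j₀ hmem
  rw [hπ, hj₀, map_zero] at this
  exact hπj this.symm

end Groth.Agent.S11291
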