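import Groth.Statements.S5817
import Groth.Agent.Lib.Helper21.Exal

set_option autoImplicit false
universe u v
open EGA41 Groth.Agent.Lib.Helper21

namespace Groth.Agent.S5817

attribute [local instance] Exal.opModule Exal.isCentralScalar_opModule

/-- Commutative rings, exactness at Der_A(B, L). For ring maps A → B → C and a C-module L, the
B-extension of C by L attached to an A-derivation D : B → L (middle ring C ⊕ L, made a B-algebra
through x ↦ (x, D x)) is trivial if and only if D is the composite of B → C with an A-derivation C →
L. -/
theorem result {A : Type u} {B C L : Type v} [CommRing A] [CommRing B] [CommRing C]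
    [Algebra A B] [Algebra B C] [Algebra A C] [IsScalarTower A B C]
    [AddCommGroup L] [Module C L] [Module B L] [IsScalarTower B C L] [Module A L] [IsScalarTower A B L]
    [IsScalarTower A C L]
    (D : Derivation A B L) :
    (Exal.Ext.ofDerivation (C := C) D).IsTrivial ↔
      ∃ D' : Derivation A C L, D'.compAlgebraMap B = D := by
  constructor
  · rintro ⟨s, hs⟩
    let σ : C →+* TrivSqZeroExt C L := s.toRingHom
    have hfst : ∀ c : C, (σ c).fst = c := hs
    have hσalg : ∀ b : B, σ (algebraMap B C b) =
        TrivSqZeroExt.inl (algebraMap B C b) + TrivSqZeroExt.inr (D b) := fun b =>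
      s.commutes b
    have hsmul : ∀ (a : A) (c : C), (σ (a • c)).snd = a • (σ c).snd := by
      intro a c
      have h1 : a • c = algebraMap B C (algebraMap A B a) * c := by
        rw [← IsScalarTower.algebraMap_apply, Algebra.smul_def]
      have h2 : σ (algebraMap B C (algebraMap A B a)) = TrivSqZeroExt.inl (algebraMap A C a) := by
        rw [hσalg, D.map_algebraMap, TrivSqZeroExt.inr_zero, add_zero,
          ← IsScalarTower.algebraMap_apply]
      rw [h1, map_mul, h2, TrivSqZeroExt.snd_mul, TrivSqZeroExt.fst_inl, TrivSqZeroExt.snd_inl,
        smul_zero, add_zero, algebraMap_smul]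
    let lin : C →ₗ[A] L :=
      { toFun := fun c => (σ c).snd
        map_add' := fun c c' => by
          rw [map_add, TrivSqZeroExt.snd_add]
        map_smul' := fun a c => hsmul a c }
    refine ⟨Derivation.mk' lin ?_, ?_⟩
    · intro c c'
      change (σ (c * c')).snd = c • (σ c').snd + c' • (σ c).snd
      rw [map_mul, TrivSqZeroExt.snd_mul, hfst, hfst, op_smul_eq_smul]
    · ext b
      change (σ (algebraMap B C b)).snd = D b
      rw [hσalg]
      simp
  · rintro ⟨D', rfl⟩
    refine ⟨{ toRingHom := Exal.Ext.derivationHom (A := A) (B := C) (C := C) D'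
              commutes' := fun b => rfl }, fun c => ?_⟩
    change TrivSqZeroExt.fst (TrivSqZeroExt.inl (algebraMap C C c) +
      TrivSqZeroExt.inr (D' c) : TrivSqZeroExt C L) = c
    simp

end Groth.Agent.S5817
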