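import Groth.Statements.S11294
import Mathlib.RingTheory.Ideal.Quotient.Operations
import Mathlib.Tactic.LinearCombination

set_option autoImplicit false
universe u
open Deform

namespace Groth.Agent.S11294


open TrivSqZeroExt

variable {P : Type u} [CommRing P] (J : Ideal P)

lemma aux_iff (φ : J →ₗ[P] (P ⧸ J)) {a a' b b' : P} (ha : a = a') (hb : b = b') :
    (∃ h : a ∈ J, Ideal.Quotient.mk J b = φ ⟨a, h⟩) ↔
      (∃ h : a' ∈ J, Ideal.Quotient.mk J b' = φ ⟨a', h⟩) := by
  subst ha hb; rfl

lemma decomp (x : DualNumber P) : x = inl x.fst + inr x.snd :=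
  (TrivSqZeroExt.inl_fst_add_inr_snd_eq x).symm

/-- the ideal attached to `φ` -/
def idealOf (φ : J →ₗ[P] (P ⧸ J)) : Ideal (DualNumber P) where
  carrier := {x | ∃ h : x.fst ∈ J, Ideal.Quotient.mk J x.snd = φ ⟨x.fst, h⟩}
  zero_mem' := by
    refine ⟨by simp, ?_⟩
    have : (⟨(0 : DualNumber P).fst, by simp⟩ : J) = 0 := Subtype.ext (by simp)
    rw [this, map_zero]; simp
  add_mem' := by
    rintro x y ⟨hx, hx'⟩ ⟨hy, hy'⟩
    refine ⟨by simpa using J.add_mem hx hy, ?_⟩
    have : (⟨(x + y).fst, by simpa using J.add_mem hx hy⟩ : J) = ⟨x.fst, hx⟩ + ⟨y.fst, hy⟩ :=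
      Subtype.ext (by simp)
    rw [this, map_add, ← hx', ← hy']; simp
  smul_mem' := by
    rintro c x ⟨hx, hx'⟩
    have h1 : (c • x).fst = c.fst * x.fst := by simp
    have h2 : (c • x).snd = c.fst * x.snd + x.fst * c.snd := by
      simp [TrivSqZeroExt.snd_mul, mul_comm]
    refine ⟨by rw [h1]; exact J.mul_mem_left _ hx, ?_⟩
    have : (⟨(c • x).fst, by rw [h1]; exact J.mul_mem_left _ hx⟩ : J) = c.fst • ⟨x.fst, hx⟩ :=
      Subtype.ext (by simp)
    rw [this, map_smul, ← hx', h2, map_add, map_mul]
    have : Ideal.Quotient.mk J (x.fst * c.snd) = 0 :=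
      Ideal.Quotient.eq_zero_iff_mem.mpr (J.mul_mem_right _ hx)
    rw [this, add_zero]; rfl

lemma mem_idealOf (φ : J →ₗ[P] (P ⧸ J)) (a b : P) :
    (inl a + inr b : DualNumber P) ∈ idealOf J φ ↔
      ∃ h : a ∈ J, Ideal.Quotient.mk J b = φ ⟨a, h⟩ :=
  aux_iff J φ (by simp) (by simp)

lemma eps_mul (x : DualNumber P) : DualNumber.eps * x = inr x.fst := by
  ext
  · simp [DualNumber.fst_eps]
  · rw [TrivSqZeroExt.snd_mul]
    simp [DualNumber.fst_eps, DualNumber.snd_eps]

open TrivSqZeroExt in
/-- Let P be a commutative ring, J an ideal, and P[ε] the ring of dual numbers over P. First-order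
embedded deformations of Spec(P/J) in Spec P, namely ideals J' of P[ε] lifting J (the image of J'
under ε ↦ 0 is J) with P[ε]/J' flat over the dual numbers — flatness being replaced by the condition
that every element of P[ε]/J' annihilated by ε is a multiple of ε (equivalent to flatness over k[ε]
when P is an algebra over a field k) — are in canonical bijection with Hom_P(J, P/J) =
Hom_{P/J}(J/J^2, P/J), the normal module: to φ corresponds the ideal of all a + εb with a in J and b
reducing to φ(a) modulo J. The first clause says this rule defines exactly one ideal for each φ; the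
second says an ideal J' is a flat lift of J precisely when its membership is given by this rule for
some φ. (The published statement is the global one, identifying first-order deformations of a closed
subscheme X of an algebraic scheme Y with H^0(X, N_{X/Y}); this row is the affine computation in its
proof, valid for every commutative ring P.) -/
theorem result (P : Type u) [CommRing P] (J : Ideal P) :
    (∀ φ : J →ₗ[P] (P ⧸ J), ∃! J' : Ideal (DualNumber P),
        ∀ a b : P, (inl a + inr b : DualNumber P) ∈ J' ↔ ∃ h : a ∈ J, Ideal.Quotient.mk J b = φ ⟨a, h⟩) ∧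
    (∀ J' : Ideal (DualNumber P),
      (J'.map (TrivSqZeroExt.fstHom P P P) = J ∧
        ∀ m : DualNumber P ⧸ J', Ideal.Quotient.mk J' DualNumber.eps * m = 0 →
          ∃ m' : DualNumber P ⧸ J', m = Ideal.Quotient.mk J' DualNumber.eps * m') ↔
      ∃ φ : J →ₗ[P] (P ⧸ J), ∀ a b : P,
        (inl a + inr b : DualNumber P) ∈ J' ↔ ∃ h : a ∈ J, Ideal.Quotient.mk J b = φ ⟨a, h⟩) := by
  constructor
  · intro φ
    refine ⟨idealOf J φ, mem_idealOf J φ, ?_⟩
    intro J₂ h₂
    ext x
    rw [decomp x, h₂, mem_idealOf]
  · intro J'
    have hsurj : Function.Surjective (TrivSqZeroExt.fstHom P P P) := fun a => ⟨inl a, by simp⟩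
    constructor
    · rintro ⟨hmap, htors⟩
      -- every element of `J` lifts
      have hlift : ∀ a : J, ∃ b : P, (inl (a : P) + inr b : DualNumber P) ∈ J' := by
        intro a
        have ha : (a : P) ∈ J'.map (TrivSqZeroExt.fstHom P P P) := by rw [hmap]; exact a.2
        rw [Ideal.mem_map_iff_of_surjective _ hsurj] at ha
        obtain ⟨x, hx, hxa⟩ := ha
        refine ⟨x.snd, ?_⟩
        have : x.fst = a := by simpa using hxa
        rw [← this, ← decomp x]; exact hx
      have hfst : ∀ x ∈ J', x.fst ∈ J := by
        intro x hx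
        rw [← hmap]
        exact Ideal.mem_map_of_mem (TrivSqZeroExt.fstHom P P P) hx
      -- `ε b ∈ J'` iff `b ∈ J`
      have hinr : ∀ b : P, (inr b : DualNumber P) ∈ J' ↔ b ∈ J := by
        intro b
        constructor
        · intro hb
          have h1 : Ideal.Quotient.mk J' DualNumber.eps * Ideal.Quotient.mk J' (inl b) = 0 := by
            rw [← map_mul, eps_mul, Ideal.Quotient.eq_zero_iff_mem]; simpa using hb
          obtain ⟨m', hm'⟩ := htors _ h1
          obtain ⟨y, rfl⟩ := Ideal.Quotient.mk_surjective m'
          rw [← map_mul, Ideal.Quotient.eq, eps_mul] at hm'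
          have := hfst _ hm'
          simpa using this
        · intro hb
          obtain ⟨c, hc⟩ := hlift ⟨b, hb⟩
          have := J'.mul_mem_left DualNumber.eps hc
          rw [eps_mul] at this
          simpa using this
      choose g hg using hlift
      have hwd : ∀ (a : J) (b : P), (inl (a : P) + inr b : DualNumber P) ∈ J' →
          Ideal.Quotient.mk J b = Ideal.Quotient.mk J (g a) := by
        intro a b hb
        rw [Ideal.Quotient.eq, ← hinr]
        have := J'.sub_mem hb (hg a)
        have e : (inl (a : P) + inr b : DualNumber P) - (inl (a : P) + inr (g a)) =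
            inr (b - g a) := by
          ext <;> simp
        rwa [e] at this
      let φ : J →ₗ[P] (P ⧸ J) :=
        { toFun := fun a => Ideal.Quotient.mk J (g a)
          map_add' := by
            intro a b
            rw [← map_add]
            symm
            apply hwd
            have := J'.add_mem (hg a) (hg b)
            have e : (inl (a : P) + inr (g a) : DualNumber P) + (inl (b : P) + inr (g b)) =
                inl ((a + b : J) : P) + inr (g a + g b) := by
              ext <;> simp
            rwa [e] at this
          map_smul' := by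
            intro c a
            simp only [RingHom.id_apply]
            rw [Algebra.smul_def, Ideal.Quotient.algebraMap_eq, ← map_mul]
            symm
            apply hwd
            have := J'.mul_mem_left (inl c) (hg a)
            have e : (inl c : DualNumber P) * (inl (a : P) + inr (g a)) =
                inl ((c • a : J) : P) + inr (c * g a) := by
              ext <;> simp [TrivSqZeroExt.snd_mul]
            rwa [e] at this }
      refine ⟨φ, fun a b => ?_⟩
      constructor
      · intro hab
        have ha : a ∈ J := by simpa using hfst _ hab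
        exact ⟨ha, hwd ⟨a, ha⟩ b hab⟩
      · rintro ⟨ha, hb⟩
        have h1 : b - g ⟨a, ha⟩ ∈ J := by
          rw [← Ideal.Quotient.eq]; exact hb
        have h2 := J'.add_mem (hg ⟨a, ha⟩) ((hinr _).mpr h1)
        have e : (inl a + inr (g ⟨a, ha⟩) : DualNumber P) + inr (b - g ⟨a, ha⟩) =
            inl a + inr b := by
          ext <;> simp
        rwa [e] at h2
    · rintro ⟨φ, hφ⟩
      constructor
      · ext a
        rw [Ideal.mem_map_iff_of_surjective _ hsurj]
        constructor
        · rintro ⟨x, hx, rfl⟩
          rw [decomp x, hφ] at hx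
          obtain ⟨h, -⟩ := hx
          simpa using h
        · intro ha
          obtain ⟨b, hb⟩ := Ideal.Quotient.mk_surjective (φ ⟨a, ha⟩)
          exact ⟨inl a + inr b, (hφ a b).mpr ⟨ha, hb⟩, by simp⟩
      · intro m hm
        obtain ⟨x, rfl⟩ := Ideal.Quotient.mk_surjective m
        rw [← map_mul, eps_mul, Ideal.Quotient.eq_zero_iff_mem] at hm
        have hm' : (inl 0 + inr x.fst : DualNumber P) ∈ J' := by simpa using hm
        rw [hφ] at hm'
        obtain ⟨h0, hx⟩ := hm'
        have h00 : (⟨0, h0⟩ : J) = 0 := rfl
        rw [h00, map_zero, Ideal.Quotient.eq_zero_iff_mem] at hx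
        obtain ⟨b', hb'⟩ := Ideal.Quotient.mk_surjective (φ ⟨x.fst, hx⟩)
        have hmem : (inl x.fst + inr b' : DualNumber P) ∈ J' := (hφ _ _).mpr ⟨hx, hb'⟩
        refine ⟨Ideal.Quotient.mk J' (inl (x.snd - b')), ?_⟩
        rw [← map_mul, eps_mul, Ideal.Quotient.eq]
        have e : x - inr (inl (x.snd - b') : DualNumber P).fst = inl x.fst + inr b' := by
          ext <;> simp
        rw [e]; exact hmem

end Groth.Agent.S11294
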