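import Groth.Statements.S11298
import Mathlib.RingTheory.Regular.RegularSequence

set_option autoImplicit false
universe u v
open LocCoh

namespace Groth.Agent.S11298

open RingTheory.Sequence in
theorem weaklyRegular_dual {B : Type u} [CommRing B] {M : Type v} [AddCommGroup M] [Module B M]
    (x y : B) (hx : IsSMulRegular B x) (hy : IsSMulRegular (QuotSMulTop x B) y) :
    IsWeaklyRegular (M →ₗ[B] B) [x, y] := by
  rw [isWeaklyRegular_cons_iff, isWeaklyRegular_cons_iff]
  refine ⟨?_, ?_, IsWeaklyRegular.nil _ _⟩
  · intro f g hfg
    ext m
    have := LinearMap.congr_fun hfg m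
    simp only [LinearMap.smul_apply] at this
    exact hx this
  · -- regularity of y on Hom / x Hom
    rw [isSMulRegular_iff_right_eq_zero_of_smul]
    intro z hz
    obtain ⟨f, rfl⟩ := Submodule.Quotient.mk_surjective _ z
    rw [← Submodule.Quotient.mk_smul, Submodule.Quotient.mk_eq_zero] at hz
    rw [Submodule.Quotient.mk_eq_zero]
    -- y • f = x • h
    obtain ⟨h, -, hh⟩ := (Submodule.mem_smul_pointwise_iff_exists _ _ _).mp hz
    have hpt : ∀ m, ∃ b : B, f m = x * b := by
      intro m
      have h1 : y * f m = x * h m := by
        have := LinearMap.congr_fun hh m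
        simp only [LinearMap.smul_apply, smul_eq_mul] at this
        exact this.symm
      have h2 : y • (Submodule.Quotient.mk (f m) : QuotSMulTop x B) = 0 := by
        rw [← Submodule.Quotient.mk_smul, Submodule.Quotient.mk_eq_zero, smul_eq_mul, h1]
        exact (Submodule.mem_smul_pointwise_iff_exists _ _ _).mpr ⟨h m, Submodule.mem_top, rfl⟩
      have h3 := isSMulRegular_iff_right_eq_zero_of_smul.mp hy _ h2
      rw [Submodule.Quotient.mk_eq_zero] at h3
      obtain ⟨b, -, hb⟩ := (Submodule.mem_smul_pointwise_iff_exists _ _ _).mp h3
      exact ⟨b, hb.symm⟩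
    choose b hb using hpt
    have hxinj : ∀ a c : B, x * a = x * c → a = c := fun a c hac => hx hac
    let h' : M →ₗ[B] B :=
      { toFun := b
        map_add' := by
          intro m m'
          apply hxinj
          rw [mul_add, ← hb, ← hb, ← hb, map_add]
        map_smul' := by
          intro r m
          apply hxinj
          rw [RingHom.id_apply, smul_eq_mul, ← hb, map_smul, smul_eq_mul, hb m]
          ring }
    refine (Submodule.mem_smul_pointwise_iff_exists _ _ _).mpr ⟨h', Submodule.mem_top, ?_⟩
    ext m
    simp only [LinearMap.smul_apply, smul_eq_mul]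
    exact (hb m).symm

/-- Let X = Spec B be an affine Noetherian scheme, Z = V(I) a closed subscheme and G a coherent sheaf,
i.e. a finitely generated B-module M, with dual G^v = Hom_B(M, B). If depth_Z(O_X) ≥ 2 then
depth_Z(G^v) ≥ 2. Here the depth along I of a module N is the supremum of the lengths of N-regular
sequences contained in I (and is infinite when I N = N). (The published statement adds that sections
of the dual over X and over X minus Z agree; this row omits that clause.) -/
theorem result (B : Type u) [CommRing B] [IsNoetherianRing B]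
    (I : Ideal B) (M : Type v) [AddCommGroup M] [Module B M] [Module.Finite B M]
    (h : 2 ≤ LocCoh.idealDepth I B) : 2 ≤ LocCoh.idealDepth I (M →ₗ[B] B) := by
  classical
  unfold LocCoh.idealDepth at h ⊢
  by_cases hI : I • (⊤ : Submodule B B) = ⊤
  · -- then I = ⊤
    have hItop : I = ⊤ := by
      rw [← hI]
      exact (Ideal.mul_top I).symm
    have : I • (⊤ : Submodule B (M →ₗ[B] B)) = ⊤ := by
      rw [hItop]
      exact Submodule.top_smul _
    rw [if_pos this]
    exact le_top
  · rw [if_neg hI] at h
    by_cases hI' : I • (⊤ : Submodule B (M →ₗ[B] B)) = ⊤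
    · rw [if_pos hI']; exact le_top
    rw [if_neg hI']
    -- there is a weakly regular sequence of length ≥ 2
    obtain ⟨rs, hrs, hlen⟩ : ∃ rs : List B,
        (RingTheory.Sequence.IsWeaklyRegular B rs ∧ ∀ r ∈ rs, r ∈ I) ∧ 2 ≤ rs.length := by
      by_contra hcon
      push Not at hcon
      have : (⨆ (rs : List B) (_ : RingTheory.Sequence.IsWeaklyRegular B rs ∧ ∀ r ∈ rs, r ∈ I),
          (rs.length : ℕ∞)) ≤ 1 := by
        apply iSup₂_le
        intro rs hrs
        have := hcon rs hrs
        have h1 : rs.length ≤ 1 := by omega
        exact_mod_cast h1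
      have h2 : (2 : ℕ∞) ≤ 1 := le_trans h this
      exact absurd h2 (by norm_num)
    match rs, hrs, hlen with
    | x :: y :: rest, hrs, _ =>
      obtain ⟨hreg, hmem⟩ := hrs
      rw [RingTheory.Sequence.isWeaklyRegular_cons_iff,
        RingTheory.Sequence.isWeaklyRegular_cons_iff] at hreg
      obtain ⟨hx, hy, -⟩ := hreg
      have key := weaklyRegular_dual (M := M) x y hx hy
      refine le_trans ?_ (le_iSup₂_of_le [x, y] ⟨key, ?_⟩ le_rfl)
      · simp
      · intro r hr
        simp only [List.mem_cons, List.not_mem_nil, or_false] at hr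
        rcases hr with rfl | rfl
        · exact hmem _ (by simp)
        · exact hmem _ (by simp)

end Groth.Agent.S11298
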