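import Groth.Statements.S11299
import Mathlib.Algebra.Module.Projective
import Mathlib.LinearAlgebra.Quotient.Basic
import Mathlib.LinearAlgebra.Span.Basic

set_option autoImplicit false
universe u
open CAlg

namespace Groth.Agent.S11299


section Helpers

variable {P : Type u} [CommRing P] (J : Ideal P)
variable {F F' F'' : Type u} [AddCommGroup F] [Module P F] [AddCommGroup F'] [Module P F']
  [AddCommGroup F''] [Module P F'']

/-- the span of the trivial relations -/
def triv (j : F →ₗ[P] P) : Submodule P F :=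
  Submodule.span P {y : F | ∃ u v : F, y = j u • v - j v • u}

/-- maps `ker j → P/J` vanishing on the trivial relations -/
def KK (j : F →ₗ[P] P) : Submodule P (LinearMap.ker j →ₗ[P] P ⧸ J) :=
  LinearMap.ker (LinearMap.lcomp P (P ⧸ J)
    (Submodule.comap (LinearMap.ker j).subtype (triv j)).subtype)

/-- restrictions of maps `F → P/J` -/
def Res (j : F →ₗ[P] P) : Submodule P (LinearMap.ker j →ₗ[P] P ⧸ J) :=
  LinearMap.range (LinearMap.lcomp P (P ⧸ J) (LinearMap.ker j).subtype)

/-- the second cotangent module of the presentation -/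
def T2 (j : F →ₗ[P] P) : Submodule P ((LinearMap.ker j →ₗ[P] P ⧸ J) ⧸ Res J j) :=
  Submodule.map (Res J j).mkQ (KK J j)

lemma mem_KK (j : F →ₗ[P] P) (φ : LinearMap.ker j →ₗ[P] P ⧸ J) :
    φ ∈ KK J j ↔ ∀ x : LinearMap.ker j, (x : F) ∈ triv j → φ x = 0 := by
  unfold KK
  rw [LinearMap.mem_ker]
  constructor
  · intro h x hx
    exact LinearMap.congr_fun h ⟨x, hx⟩
  · intro h
    ext ⟨x, hx⟩
    exact h x hx

lemma mem_Res (j : F →ₗ[P] P) (φ : LinearMap.ker j →ₗ[P] P ⧸ J) :
    φ ∈ Res J j ↔ ∃ α : F →ₗ[P] P ⧸ J, α.comp (LinearMap.ker j).subtype = φ := by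
  unfold Res
  rw [LinearMap.mem_range]
  rfl

variable {j : F →ₗ[P] P} {j' : F' →ₗ[P] P} {j'' : F'' →ₗ[P] P}

/-- the induced map on relation modules -/
def kerMap (τ : F →ₗ[P] F') (hτ : j'.comp τ = j) : LinearMap.ker j →ₗ[P] LinearMap.ker j' :=
  τ.restrict (fun x hx => by
    rw [LinearMap.mem_ker] at hx ⊢
    rw [← LinearMap.comp_apply, hτ, hx])

@[simp] lemma kerMap_coe (τ : F →ₗ[P] F') (hτ : j'.comp τ = j) (x : LinearMap.ker j) :
    ((kerMap τ hτ x : LinearMap.ker j') : F') = τ x := rfl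

lemma map_triv_le (τ : F →ₗ[P] F') (hτ : j'.comp τ = j) :
    (triv j).map τ ≤ triv j' := by
  unfold triv
  rw [Submodule.map_span]
  apply Submodule.span_mono
  rintro _ ⟨y, ⟨u, v, rfl⟩, rfl⟩
  refine ⟨τ u, τ v, ?_⟩
  rw [map_sub, map_smul, map_smul, ← LinearMap.comp_apply, ← LinearMap.comp_apply, hτ]

/-- precomposition with the induced map on relation modules -/
def pre (τ : F →ₗ[P] F') (hτ : j'.comp τ = j) :
    (LinearMap.ker j' →ₗ[P] P ⧸ J) →ₗ[P] (LinearMap.ker j →ₗ[P] P ⧸ J) :=
  LinearMap.lcomp P (P ⧸ J) (kerMap τ hτ)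

@[simp] lemma pre_apply (τ : F →ₗ[P] F') (hτ : j'.comp τ = j)
    (φ : LinearMap.ker j' →ₗ[P] P ⧸ J) (x : LinearMap.ker j) :
    pre J τ hτ φ x = φ (kerMap τ hτ x) := rfl

lemma pre_mem_KK (τ : F →ₗ[P] F') (hτ : j'.comp τ = j)
    (φ : LinearMap.ker j' →ₗ[P] P ⧸ J) (hφ : φ ∈ KK J j') : pre J τ hτ φ ∈ KK J j := by
  rw [mem_KK] at hφ ⊢
  intro x hx
  rw [pre_apply]
  apply hφ
  exact map_triv_le τ hτ (Submodule.mem_map_of_mem hx)

lemma pre_mem_Res (τ : F →ₗ[P] F') (hτ : j'.comp τ = j)
    (φ : LinearMap.ker j' →ₗ[P] P ⧸ J) (hφ : φ ∈ Res J j') : pre J τ hτ φ ∈ Res J j := by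
  rw [mem_Res] at hφ ⊢
  obtain ⟨α, rfl⟩ := hφ
  exact ⟨α.comp τ, by ext x; rfl⟩

lemma pre_comp (τ : F →ₗ[P] F') (hτ : j'.comp τ = j) (τ' : F' →ₗ[P] F'') (hτ' : j''.comp τ' = j')
    (φ : LinearMap.ker j'' →ₗ[P] P ⧸ J) :
    pre J τ hτ (pre J τ' hτ' φ) =
      pre J (τ'.comp τ) (by rw [← LinearMap.comp_assoc, hτ', hτ]) φ := by
  ext x
  rfl

/-- an endomorphism of the presentation acts trivially modulo restrictions -/
lemma pre_endo_sub_mem_Res (θ : F →ₗ[P] F) (hθ : j.comp θ = j)
    (φ : LinearMap.ker j →ₗ[P] P ⧸ J) : pre J θ hθ φ - φ ∈ Res J j := by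
  rw [mem_Res]
  have h : ∀ u : F, (θ - (LinearMap.id : F →ₗ[P] F)) u ∈ LinearMap.ker j := by
    intro u
    rw [LinearMap.mem_ker, LinearMap.sub_apply, map_sub, LinearMap.id_apply,
      ← LinearMap.comp_apply, hθ, sub_self]
  refine ⟨φ.comp ((θ - (LinearMap.id : F →ₗ[P] F)).codRestrict (LinearMap.ker j) h), ?_⟩
  ext x
  rw [LinearMap.comp_apply, LinearMap.comp_apply, LinearMap.sub_apply, pre_apply, ← map_sub]
  congr 1

/-- the induced map on the quotients by restrictions -/
def quotMap (τ : F →ₗ[P] F') (hτ : j'.comp τ = j) :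
    ((LinearMap.ker j' →ₗ[P] P ⧸ J) ⧸ Res J j') →ₗ[P] ((LinearMap.ker j →ₗ[P] P ⧸ J) ⧸ Res J j) :=
  (Res J j').mapQ (Res J j) (pre J τ hτ) (fun φ hφ => pre_mem_Res J τ hτ φ hφ)

lemma quotMap_mk (τ : F →ₗ[P] F') (hτ : j'.comp τ = j) (φ : LinearMap.ker j' →ₗ[P] P ⧸ J) :
    quotMap J τ hτ (Submodule.Quotient.mk φ) = Submodule.Quotient.mk (pre J τ hτ φ) := rfl

lemma quotMap_comp_quotMap (τ : F →ₗ[P] F') (hτ : j'.comp τ = j) (τ' : F' →ₗ[P] F)
    (hτ' : j.comp τ' = j') :
    (quotMap J τ hτ).comp (quotMap J τ' hτ') = LinearMap.id := by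
  ext φ
  simp only [LinearMap.comp_apply, Submodule.mkQ_apply, quotMap_mk, LinearMap.id_apply]
  rw [pre_comp, Submodule.Quotient.eq]
  exact pre_endo_sub_mem_Res J _ _ φ

lemma quotMap_T2_le (τ : F →ₗ[P] F') (hτ : j'.comp τ = j) :
    (T2 J j').map (quotMap J τ hτ) ≤ T2 J j := by
  rintro _ ⟨_, ⟨φ, hφ, rfl⟩, rfl⟩
  exact ⟨pre J τ hτ φ, pre_mem_KK J τ hτ φ hφ, rfl⟩

theorem main [Module.Projective P F] [Module.Projective P F']
    (j : F →ₗ[P] P) (j' : F' →ₗ[P] P) (h : LinearMap.range j = LinearMap.range j') :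
    Nonempty (T2 J j ≃ₗ[P] T2 J j') := by
  -- lifts
  have hg : ∃ g : F →ₗ[P] F', j'.comp g = j := by
    obtain ⟨g, hg⟩ := Module.projective_lifting_property j'.rangeRestrict
      (j.codRestrict (LinearMap.range j') (fun u => h ▸ LinearMap.mem_range_self j u))
      j'.surjective_rangeRestrict
    refine ⟨g, ?_⟩
    ext u
    have := congrArg Subtype.val (LinearMap.congr_fun hg u)
    simpa using this
  have hg' : ∃ g' : F' →ₗ[P] F, j.comp g' = j' := by
    obtain ⟨g, hg⟩ := Module.projective_lifting_property j.rangeRestrict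
      (j'.codRestrict (LinearMap.range j) (fun u => h ▸ LinearMap.mem_range_self j' u))
      j.surjective_rangeRestrict
    refine ⟨g, ?_⟩
    ext u
    have := congrArg Subtype.val (LinearMap.congr_fun hg u)
    simpa using this
  obtain ⟨g, hg⟩ := hg
  obtain ⟨g', hg'⟩ := hg'
  let E : ((LinearMap.ker j →ₗ[P] P ⧸ J) ⧸ Res J j) ≃ₗ[P]
      ((LinearMap.ker j' →ₗ[P] P ⧸ J) ⧸ Res J j') :=
    LinearEquiv.ofLinearMap (quotMap J g' hg') (quotMap J g hg)
      (quotMap_comp_quotMap J g' hg' g hg) (quotMap_comp_quotMap J g hg g' hg')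
  have hE : (T2 J j).map (E : _ →ₗ[P] _) = T2 J j' := by
    apply le_antisymm
    · exact quotMap_T2_le J g' hg'
    · intro x hx
      refine ⟨quotMap J g hg x, quotMap_T2_le J g hg (Submodule.mem_map_of_mem hx), ?_⟩
      exact LinearMap.congr_fun (quotMap_comp_quotMap J g' hg' g hg) x
  exact ⟨(E.submoduleMap (T2 J j)).trans (LinearEquiv.ofEq _ _ hE)⟩

end Helpers

/-- The second cotangent module does not depend on the presentation: let P be a commutative ring, J an
ideal and B = P/J. For a presentation of J, i.e. a finitely generated free P-module F with a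
P-linear map j : F → P with image J, let R = ker j be the relation module and R^tr ⊆ R the span of
the trivial relations j(u) • v - j(v) • u; the module T^2 of the presentation is the quotient of
Hom_B(R/R^tr, B), realised as the P-linear maps R → P/J vanishing on R^tr, by the restrictions to R
of the P-linear maps F → P/J (here: the image of that submodule in the quotient of Hom_P(R, P/J) by
the restrictions). Then for two presentations (F, j) and (F', j') of the same ideal J the two
modules T^2 are isomorphic as P-modules (existence of an isomorphism; the comparison maps depend on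
expressing one system of generators through the other). (The published statement takes B essentially
of finite type over a field and P smooth; this row allows any commutative ring P and ideal J.) -/
theorem result (P : Type u) [CommRing P] (J : Ideal P)
    (F : Type u) [AddCommGroup F] [Module P F] [Module.Free P F] [Module.Finite P F]
    (F' : Type u) [AddCommGroup F'] [Module P F'] [Module.Free P F'] [Module.Finite P F']
    (j : F →ₗ[P] P) (j' : F' →ₗ[P] P) (hj : LinearMap.range j = J) (hj' : LinearMap.range j' = J) :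
    Nonempty (↥(Submodule.map
          (LinearMap.range (LinearMap.lcomp P (P ⧸ J) (LinearMap.ker j).subtype)).mkQ
          (LinearMap.ker (LinearMap.lcomp P (P ⧸ J)
            (Submodule.comap (LinearMap.ker j).subtype
              (Submodule.span P {y : F | ∃ u v : F, y = j u • v - j v • u})).subtype))) ≃ₗ[P]
      ↥(Submodule.map
          (LinearMap.range (LinearMap.lcomp P (P ⧸ J) (LinearMap.ker j').subtype)).mkQ
          (LinearMap.ker (LinearMap.lcomp P (P ⧸ J)
            (Submodule.comap (LinearMap.ker j').subtype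
              (Submodule.span P {y : F' | ∃ u v : F', y = j' u • v - j' v • u})).subtype)))) :=
  main J j j' (hj.trans hj'.symm)

end Groth.Agent.S11299
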