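import Groth.Statements.S11302
import Groth.Agent.Lib.Helper18.RegQuasiReg
import Mathlib.Algebra.MvPolynomial.Derivation
import Mathlib.LinearAlgebra.Isomorphisms
import Mathlib.LinearAlgebra.Finsupp.LinearCombination

set_option autoImplicit false
universe u
open Deform

namespace Groth.Agent.S11302


section Helpers

open MvPolynomial

variable {k : Type u} [Field k] {d n : ℕ} (f : Fin n → MvPolynomial (Fin d) k)

/-- generators as elements of `J` -/
def gen (i : Fin n) : ↥(Ideal.span (Set.range f)) :=
  ⟨f i, Ideal.subset_span (Set.mem_range_self i)⟩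

/-- evaluation on the generators -/
noncomputable def ev : (↥(Ideal.span (Set.range f)) →ₗ[MvPolynomial (Fin d) k]
      (MvPolynomial (Fin d) k ⧸ Ideal.span (Set.range f))) →ₗ[MvPolynomial (Fin d) k]
    (Fin n → MvPolynomial (Fin d) k ⧸ Ideal.span (Set.range f)) :=
  LinearMap.pi fun i => LinearMap.applyₗ (gen f i)

lemma ev_apply (φ : ↥(Ideal.span (Set.range f)) →ₗ[MvPolynomial (Fin d) k]
      (MvPolynomial (Fin d) k ⧸ Ideal.span (Set.range f))) (i : Fin n) :
    ev f φ i = φ (gen f i) := rfl

/-- the presentation `P^n → J` -/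
noncomputable def gmap : (Fin n → MvPolynomial (Fin d) k) →ₗ[MvPolynomial (Fin d) k]
    ↥(Ideal.span (Set.range f)) :=
  Fintype.linearCombination (MvPolynomial (Fin d) k) (gen f)

lemma gmap_coe (a : Fin n → MvPolynomial (Fin d) k) :
    ((gmap f a : ↥(Ideal.span (Set.range f))) : MvPolynomial (Fin d) k) = ∑ i, a i * f i := by
  rw [gmap, Fintype.linearCombination_apply]
  rw [Submodule.coe_sum]
  rfl

lemma gmap_surjective : Function.Surjective (gmap f) := by
  rintro ⟨x, hx⟩
  obtain ⟨a, ha⟩ := (Ideal.mem_span_range_iff_exists_fun).mp hx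
  exact ⟨a, Subtype.ext (by rw [gmap_coe, ha])⟩

lemma ev_injective : Function.Injective (ev f) := by
  rw [injective_iff_map_eq_zero]
  intro φ hφ
  ext x
  obtain ⟨a, rfl⟩ := gmap_surjective f x
  rw [gmap, Fintype.linearCombination_apply, map_sum]
  simp only [LinearMap.zero_apply]
  refine Finset.sum_eq_zero fun i _ => ?_
  rw [map_smul]
  have := congrFun hφ i
  rw [ev_apply] at this
  rw [this, Pi.zero_apply, smul_zero]

lemma coeff_mem_of_relation (hq : CAlgX.IsQuasiRegular f) (a : Fin n → MvPolynomial (Fin d) k)
    (ha : ∑ i, a i * f i = 0) (i : Fin n) : a i ∈ Ideal.span (Set.range f) := by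
  classical
  have hhom : (∑ j, C (a j) * X j : MvPolynomial (Fin n) (MvPolynomial (Fin d) k)).IsHomogeneous 1 :=
    IsHomogeneous.sum _ _ _ fun j _ => isHomogeneous_C_mul_X (a j) j
  have heval : MvPolynomial.eval f (∑ j, C (a j) * X j) ∈ Ideal.span (Set.range f) ^ (1 + 1) := by
    rw [map_sum]
    simp only [map_mul, eval_C, eval_X]
    rw [ha]
    exact Ideal.zero_mem _
  have := hq 1 _ hhom heval (Finsupp.single i 1)
  rw [coeff_sum] at this
  simp only [coeff_C_mul, coeff_X, Finsupp.single_left_inj (one_ne_zero)] at this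
  simpa using this

lemma ev_surjective (hq : CAlgX.IsQuasiRegular f) : Function.Surjective (ev f) := by
  intro b
  -- the map `P^n → B`
  let ψ : (Fin n → MvPolynomial (Fin d) k) →ₗ[MvPolynomial (Fin d) k]
      (MvPolynomial (Fin d) k ⧸ Ideal.span (Set.range f)) :=
    Fintype.linearCombination (MvPolynomial (Fin d) k) b
  have hker : LinearMap.ker (gmap f) ≤ LinearMap.ker ψ := by
    intro a ha
    rw [LinearMap.mem_ker] at ha ⊢
    have ha' : ∑ i, a i * f i = 0 := by
      rw [← gmap_coe, ha]; rfl
    change Fintype.linearCombination (MvPolynomial (Fin d) k) b a = 0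
    rw [Fintype.linearCombination_apply]
    refine Finset.sum_eq_zero fun i _ => ?_
    obtain ⟨c, hc⟩ := Ideal.Quotient.mk_surjective (b i)
    rw [← hc, ← Ideal.Quotient.mk_eq_mk, ← Submodule.Quotient.mk_smul, Ideal.Quotient.mk_eq_mk,
      Ideal.Quotient.eq_zero_iff_mem, smul_eq_mul]
    exact Ideal.mul_mem_right _ _ (coeff_mem_of_relation f hq a ha' i)
  let φ : ↥(Ideal.span (Set.range f)) →ₗ[MvPolynomial (Fin d) k]
      (MvPolynomial (Fin d) k ⧸ Ideal.span (Set.range f)) :=
    ((LinearMap.ker (gmap f)).liftQ ψ hker).comp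
      ((gmap f).quotKerEquivOfSurjective (gmap_surjective f)).symm.toLinearMap
  have hφ : ∀ a, φ (gmap f a) = ψ a := by
    intro a
    have : ((gmap f).quotKerEquivOfSurjective (gmap_surjective f)).symm (gmap f a) =
        Submodule.Quotient.mk a := by
      rw [LinearEquiv.symm_apply_eq]
      rfl
    change ((LinearMap.ker (gmap f)).liftQ ψ hker)
      (((gmap f).quotKerEquivOfSurjective (gmap_surjective f)).symm (gmap f a)) = ψ a
    rw [this, Submodule.liftQ_apply]
  refine ⟨φ, ?_⟩
  funext i
  rw [ev_apply]
  have h1 : gen f i = gmap f (Pi.single i 1) := by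
    rw [gmap, Fintype.linearCombination_apply_single, one_smul]
  rw [h1, hφ]
  change Fintype.linearCombination (MvPolynomial (Fin d) k) b (Pi.single i 1) = b i
  rw [Fintype.linearCombination_apply_single, one_smul]

/-- every derivation is determined by the partial derivatives -/
lemma derivation_formula {M : Type*} [AddCommGroup M] [Module k M] [Module (MvPolynomial (Fin d) k) M]
    [IsScalarTower k (MvPolynomial (Fin d) k) M]
    (D : Derivation k (MvPolynomial (Fin d) k) M) (p : MvPolynomial (Fin d) k) :
    D p = ∑ j, pderiv j p • D (X j) := by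
  induction p using MvPolynomial.induction_on with
  | C a => simp
  | add p q hp hq => simp only [map_add, hp, hq, add_smul, Finset.sum_add_distrib]
  | mul_X p i hp =>
    classical
    rw [Derivation.leibniz, hp]
    simp only [Derivation.leibniz, pderiv_X, add_smul, Finset.sum_add_distrib, smul_eq_mul]
    rw [Finset.smul_sum]
    congr 1
    · rw [Finset.sum_eq_single i]
      · simp
      · intro j _ hj
        simp [hj.symm]
      · intro h; exact absurd (Finset.mem_univ i) h
    · refine Finset.sum_congr rfl fun j _ => ?_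
      rw [smul_smul, mul_comm]

/-- the `P`-action on `B = P ⧸ J` is multiplication by the class -/
lemma smul_quot (p : MvPolynomial (Fin d) k)
    (b : MvPolynomial (Fin d) k ⧸ Ideal.span (Set.range f)) :
    p • b = Ideal.Quotient.mk (Ideal.span (Set.range f)) p * b := by
  obtain ⟨c, rfl⟩ := Ideal.Quotient.mk_surjective b
  rw [← map_mul, ← Ideal.Quotient.mk_eq_mk, ← Submodule.Quotient.mk_smul, Ideal.Quotient.mk_eq_mk,
    smul_eq_mul]

/-- the restriction of a derivation to `J` is `P`-linear -/
noncomputable def derRestrict (D : Derivation k (MvPolynomial (Fin d) k)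
      (MvPolynomial (Fin d) k ⧸ Ideal.span (Set.range f))) :
    ↥(Ideal.span (Set.range f)) →ₗ[MvPolynomial (Fin d) k]
      (MvPolynomial (Fin d) k ⧸ Ideal.span (Set.range f)) where
  toFun a := D (a : MvPolynomial (Fin d) k)
  map_add' a b := by simp
  map_smul' p a := by
    simp only [Submodule.coe_smul, smul_eq_mul, Derivation.leibniz, RingHom.id_apply]
    have : ((a : MvPolynomial (Fin d) k) • D p :
        MvPolynomial (Fin d) k ⧸ Ideal.span (Set.range f)) = 0 := by
      rw [smul_quot, Ideal.Quotient.eq_zero_iff_mem.mpr a.2, zero_mul]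
    rw [this, add_zero]

lemma ev_derRestrict (D : Derivation k (MvPolynomial (Fin d) k)
      (MvPolynomial (Fin d) k ⧸ Ideal.span (Set.range f))) :
    ev f (derRestrict f D) = ∑ j, D (X j) •
      (fun i : Fin n => Ideal.Quotient.mk (Ideal.span (Set.range f)) (pderiv j (f i))) := by
  funext i
  rw [ev_apply]
  change D (f i) = _
  rw [derivation_formula D (f i), Finset.sum_apply]
  refine Finset.sum_congr rfl fun j _ => ?_
  rw [Pi.smul_apply, smul_quot, smul_eq_mul, mul_comm]

end Helpers

open MvPolynomial in
/-- T^1 of a complete intersection; the hypersurface case P/(f, ∂f/∂X_1, ..., ∂f/∂X_d) is n = 1: let k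
be an algebraically closed field, P = k[X_1, ..., X_d], f_1, ..., f_n a regular sequence in P (each
f_i a non-zero-divisor modulo the preceding ones), J the ideal they generate and B = P/J. The first
cotangent module T^1_B — the cokernel of Der_k(P, B) → Hom_P(J, B), a derivation being restricted to
J — is isomorphic, as a P-module, to B^n modulo the B-submodule generated by the d columns
(∂f_1/∂X_j, ..., ∂f_n/∂X_j), j = 1, ..., d, of the Jacobian matrix reduced modulo J, through the map
sending the class of φ : J → B to the class of (φ(f_1), ..., φ(f_n)). (The published formula allows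
P to be a localisation of the polynomial ring; this row takes the polynomial ring.) -/
theorem result (k : Type u) [Field k] [IsAlgClosed k] (d n : ℕ)
    (f : Fin n → MvPolynomial (Fin d) k) (hreg : RingTheory.Sequence.IsWeaklyRegular (MvPolynomial (Fin d) k) (List.ofFn f)) :
    ∃ e : ((↥(Ideal.span (Set.range f)) →ₗ[MvPolynomial (Fin d) k] (MvPolynomial (Fin d) k ⧸ Ideal.span (Set.range f))) ⧸
            Submodule.span (MvPolynomial (Fin d) k)
              {ψ : ↥(Ideal.span (Set.range f)) →ₗ[MvPolynomial (Fin d) k] (MvPolynomial (Fin d) k ⧸ Ideal.span (Set.range f)) |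
                ∃ D : Derivation k (MvPolynomial (Fin d) k) (MvPolynomial (Fin d) k ⧸ Ideal.span (Set.range f)), ∀ a : ↥(Ideal.span (Set.range f)), ψ a = D (a : MvPolynomial (Fin d) k)}) ≃ₗ[MvPolynomial (Fin d) k]
          ((Fin n → MvPolynomial (Fin d) k ⧸ Ideal.span (Set.range f)) ⧸
            Submodule.span (MvPolynomial (Fin d) k ⧸ Ideal.span (Set.range f))
              (Set.range fun j : Fin d => fun i : Fin n => Ideal.Quotient.mk (Ideal.span (Set.range f)) (pderiv j (f i)))),
      ∀ φ : ↥(Ideal.span (Set.range f)) →ₗ[MvPolynomial (Fin d) k] (MvPolynomial (Fin d) k ⧸ Ideal.span (Set.range f)),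
        e (Submodule.Quotient.mk φ) =
          Submodule.Quotient.mk (fun i : Fin n => φ ⟨f i, Ideal.subset_span (Set.mem_range_self i)⟩) := by
  classical
  have hq := Groth.Agent.Lib.Helper18.isQuasiRegular_of_isWeaklyRegular n f hreg
  let evE := LinearEquiv.ofBijective (ev f) ⟨ev_injective f, ev_surjective f hq⟩
  have hmap : (Submodule.span (MvPolynomial (Fin d) k)
      {ψ : ↥(Ideal.span (Set.range f)) →ₗ[MvPolynomial (Fin d) k] (MvPolynomial (Fin d) k ⧸ Ideal.span (Set.range f)) |
        ∃ D : Derivation k (MvPolynomial (Fin d) k) (MvPolynomial (Fin d) k ⧸ Ideal.span (Set.range f)), ∀ a : ↥(Ideal.span (Set.range f)), ψ a = D (a : MvPolynomial (Fin d) k)}).map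
        (evE : _ →ₗ[MvPolynomial (Fin d) k] _) =
      (Submodule.span (MvPolynomial (Fin d) k ⧸ Ideal.span (Set.range f))
        (Set.range fun j : Fin d => fun i : Fin n => Ideal.Quotient.mk (Ideal.span (Set.range f)) (pderiv j (f i)))).restrictScalars
          (MvPolynomial (Fin d) k) := by
    apply le_antisymm
    · rw [Submodule.map_span, Submodule.span_le]
      rintro _ ⟨ψ, ⟨D, hD⟩, rfl⟩
      have hψ : ψ = derRestrict f D := by
        ext a; exact hD a
      change ev f ψ ∈ _
      rw [hψ, ev_derRestrict]
      rw [SetLike.mem_coe, Submodule.restrictScalars_mem]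
      exact Submodule.sum_mem _ fun j _ =>
        Submodule.smul_mem _ _ (Submodule.subset_span ⟨j, rfl⟩)
    · intro x hx
      rw [Submodule.restrictScalars_mem, Submodule.mem_span_range_iff_exists_fun] at hx
      obtain ⟨c, rfl⟩ := hx
      refine ⟨derRestrict f (mkDerivation k c), Submodule.subset_span ⟨mkDerivation k c, fun a => rfl⟩, ?_⟩
      change ev f (derRestrict f (mkDerivation k c)) = _
      rw [ev_derRestrict]
      simp only [mkDerivation_X]
  refine ⟨(Submodule.Quotient.equiv _ _ evE hmap).trans
    (Submodule.Quotient.restrictScalarsEquiv (MvPolynomial (Fin d) k) _), ?_⟩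
  intro φ
  rfl

end Groth.Agent.S11302
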