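import Groth.Statements.S11306
import Mathlib.RingTheory.LocalRing.Module
import Mathlib.LinearAlgebra.Dimension.OrzechProperty
import Mathlib.LinearAlgebra.TensorProduct.Tower

set_option autoImplicit false
universe u
open TensorProduct
open CAlg

namespace Groth.Agent.S11306

/-- Take a Noetherian local domain A, with residue field k and fraction field K, and let M be a finitely
generated A-module. If k ⊗_A M and K ⊗_A M have the same dimension r (over k and over K
respectively), then M is a free A-module of rank r. -/
theorem result (A : Type u) [CommRing A] [IsDomain A]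
    [IsNoetherianRing A] [IsLocalRing A] (M : Type u) [AddCommGroup M] [Module A M] [Module.Finite A M] (r : ℕ)
    (hk : Module.finrank (IsLocalRing.ResidueField A) (IsLocalRing.ResidueField A ⊗[A] M) = r)
    (hK : Module.finrank (FractionRing A) (FractionRing A ⊗[A] M) = r) :
    Module.Free A M ∧ Module.finrank A M = r := by
  classical
  -- a basis of k ⊗ M consisting of pure tensors 1 ⊗ f i
  let b : Module.Basis (Fin r) (IsLocalRing.ResidueField A) (IsLocalRing.ResidueField A ⊗[A] M) :=
    Module.finBasisOfFinrankEq _ _ hk
  have hsurj : ∀ z : IsLocalRing.ResidueField A ⊗[A] M, ∃ m : M, (1 : IsLocalRing.ResidueField A) ⊗ₜ[A] m = z := by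
    intro z
    induction z using TensorProduct.induction_on with
    | zero => exact ⟨0, by simp⟩
    | tmul x m =>
      obtain ⟨a, rfl⟩ := IsLocalRing.residue_surjective x
      refine ⟨a • m, ?_⟩
      rw [TensorProduct.tmul_smul, TensorProduct.smul_tmul']
      congr 1
      rw [Algebra.smul_def, mul_one]
      rfl
    | add x y hx hy =>
      obtain ⟨m, rfl⟩ := hx
      obtain ⟨m', rfl⟩ := hy
      exact ⟨m + m', by rw [TensorProduct.tmul_add]⟩
  choose f hf using fun i => hsurj (b i)
  have hspan : Submodule.span A (Set.range f) = ⊤ :=
    IsLocalRing.span_eq_top_of_tmul_eq_basis f b hf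
  -- over K the vectors 1 ⊗ f i span, hence are linearly independent
  let K := FractionRing A
  let g : Fin r → K ⊗[A] M := fun i => (1 : K) ⊗ₜ[A] f i
  have hspanK : ⊤ ≤ Submodule.span K (Set.range g) := by
    have h1 := Submodule.baseChange_span (R := A) (A := K) (M := M) (Set.range f)
    rw [hspan, Submodule.baseChange_top] at h1
    rw [h1, ← Set.range_comp]
    rfl
  have hli : LinearIndependent K g :=
    linearIndependent_of_top_le_span_of_card_eq_finrank hspanK (by simp [K, hK])
  -- the map (Fin r → A) → M is bijective
  let φ : (Fin r → A) →ₗ[A] M := Fintype.linearCombination A f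
  have hφsurj : Function.Surjective φ := by
    rw [← LinearMap.range_eq_top, Fintype.range_linearCombination, hspan]
  have hφinj : Function.Injective φ := by
    rw [← LinearMap.ker_eq_bot, LinearMap.ker_eq_bot']
    intro a ha
    have h2 : ∑ i, (algebraMap A K (a i)) • g i = 0 := by
      have : ∑ i, (algebraMap A K (a i)) • g i = (1 : K) ⊗ₜ[A] (φ a) := by
        simp only [φ, Fintype.linearCombination_apply, TensorProduct.tmul_sum, g]
        apply Finset.sum_congr rfl
        intro i _
        rw [TensorProduct.tmul_smul, TensorProduct.smul_tmul', TensorProduct.smul_tmul',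
          smul_eq_mul, mul_one, Algebra.smul_def, mul_one]
      rw [this, ha, TensorProduct.tmul_zero]
    have h3 := Fintype.linearIndependent_iff.mp hli _ h2
    ext i
    exact (IsFractionRing.injective A K) (by rw [h3 i]; simp)
  let e : (Fin r → A) ≃ₗ[A] M := LinearEquiv.ofBijective φ ⟨hφinj, hφsurj⟩
  refine ⟨Module.Free.of_equiv e, ?_⟩
  rw [← LinearEquiv.finrank_eq e]
  simp

end Groth.Agent.S11306
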