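import Groth.Statements.S11318
-- import your own Groth.Agent.* helpers here

set_option autoImplicit false
universe u
open CategoryTheory AlgebraicGeometry
open ProjDual

namespace Groth.Agent.S11318

theorem hmap_comp {C : Type*} [Category C] {D : Type*} [Category D] {J : GrothendieckTopology D}
    [HasSheafify J AddCommGrpCat.{u}] [HasExt.{u} (Sheaf J AddCommGrpCat.{u})]
    (T : C ⥤ Sheaf J AddCommGrpCat.{u}) {a b c : C} (f : a ⟶ b) (g : b ⟶ c) (n : ℕ)
    (x : Sheaf.H (T.obj a) n) :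
    Sheaf.H.map (T.map (f ≫ g)) n x = Sheaf.H.map (T.map g) n (Sheaf.H.map (T.map f) n x) := by
  rw [T.map_comp, Sheaf.H.map_comp_apply]

theorem hmap_id {C : Type*} [Category C] {D : Type*} [Category D] {J : GrothendieckTopology D}
    [HasSheafify J AddCommGrpCat.{u}] [HasExt.{u} (Sheaf J AddCommGrpCat.{u})]
    (T : C ⥤ Sheaf J AddCommGrpCat.{u}) (a : C) (n : ℕ)
    (x : Sheaf.H (T.obj a) n) :
    Sheaf.H.map (T.map (𝟙 a)) n x = x := by
  rw [T.map_id, Sheaf.H.map_id_apply]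

/-- Let k be a field, X a proper k-scheme of dimension n, and (ω, t), (ω', t') two dualizing sheaves for
X: each is a coherent O_X-module with a k-linear map on its n-th cohomology to k such that for every
coherent F and every k-linear form ψ on H^n(X, F) there is exactly one morphism from F into it
through which ψ factors. Then there is exactly one morphism φ : ω → ω' with t = t' ∘ H^n(φ), and
this φ is an isomorphism. -/
theorem result (k : Type u) [Field k] (X : Scheme.{u}) [X.Over (Spec (CommRingCat.of k))]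
    [IsProper (X ↘ Spec (CommRingCat.of k))] (n : ℕ) (hn : topologicalKrullDim ↥X = n)
    (ω ω' : X.Modules) (hω : Coh.IsCoh ω) (hω' : Coh.IsCoh ω')
    (t : Coh.HH X ω n →ₗ[k] k) (t' : Coh.HH X ω' n →ₗ[k] k)
    (hd : ∀ F : X.Modules, Coh.IsCoh F → ∀ ψ : Coh.HH X F n →ₗ[k] k,
        ∃! φ : F ⟶ ω, ∀ x : Coh.HH X F n,
          ψ x = t (Sheaf.H.map ((SheafOfModules.toSheaf X.ringCatSheaf).map φ) n x))
    (hd' : ∀ F : X.Modules, Coh.IsCoh F → ∀ ψ : Coh.HH X F n →ₗ[k] k,
        ∃! φ : F ⟶ ω', ∀ x : Coh.HH X F n,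
          ψ x = t' (Sheaf.H.map ((SheafOfModules.toSheaf X.ringCatSheaf).map φ) n x)) :
    ∃ φ : ω ⟶ ω', IsIso φ ∧
      (∀ x : Coh.HH X ω n, t x = t' (Sheaf.H.map ((SheafOfModules.toSheaf X.ringCatSheaf).map φ) n x)) ∧
      ∀ ψ : ω ⟶ ω', (∀ x : Coh.HH X ω n, t x = t' (Sheaf.H.map ((SheafOfModules.toSheaf X.ringCatSheaf).map ψ) n x)) → ψ = φ := by
  -- the canonical maps
  obtain ⟨φ, hφ, hφu⟩ := hd' ω hω t
  obtain ⟨φ', hφ', hφ'u⟩ := hd ω' hω' t'
  -- uniqueness of endomorphisms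
  obtain ⟨e, he, heu⟩ := hd ω hω t
  obtain ⟨e', he', he'u⟩ := hd' ω' hω' t'
  have hcomp : φ ≫ φ' = 𝟙 ω := by
    have h1 : φ ≫ φ' = e := by
      apply heu
      intro x
      have := hmap_comp (SheafOfModules.toSheaf X.ringCatSheaf) φ φ' n x
      refine Eq.trans ?_ (congrArg t this).symm
      rw [← hφ', ← hφ]
    have h2 : 𝟙 ω = e := by
      apply heu
      intro x
      exact (congrArg t (hmap_id (SheafOfModules.toSheaf X.ringCatSheaf) ω n x)).symm
    rw [h1, h2]
  have hcomp' : φ' ≫ φ = 𝟙 ω' := by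
    have h1 : φ' ≫ φ = e' := by
      apply he'u
      intro x
      have := hmap_comp (SheafOfModules.toSheaf X.ringCatSheaf) φ' φ n x
      refine Eq.trans ?_ (congrArg t' this).symm
      rw [← hφ, ← hφ']
    have h2 : 𝟙 ω' = e' := by
      apply he'u
      intro x
      exact (congrArg t' (hmap_id (SheafOfModules.toSheaf X.ringCatSheaf) ω' n x)).symm
    rw [h1, h2]
  refine ⟨φ, ⟨⟨φ', hcomp, hcomp'⟩⟩, hφ, ?_⟩
  intro ψ hψ
  exact hφu ψ hψ

end Groth.Agent.S11318
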