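import Groth.Statements.S11320
import Groth.Agent.Lib.Helper19.ColimSheafC

set_option autoImplicit false
universe u
open CategoryTheory CategoryTheory.Limits
open CohTop

namespace Groth.Agent.S11320

/-- On a Noetherian topological space X, the direct limit, in the category of abelian sheaves, of a
directed system (F_i) of flasque abelian sheaves indexed by a nonempty directed preorder is flasque
(all its restriction maps are surjective). -/
theorem result {X : TopCat.{u}} [TopologicalSpace.NoetherianSpace X]
    (ι : Type u) [Preorder ι] [IsDirected ι (· ≤ ·)] [Nonempty ι]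
    (D : ι ⥤ CohTop.Ab X) (hD : ∀ i : ι, TopCat.Sheaf.IsFlasque (D.obj i)) :
    TopCat.Sheaf.IsFlasque (colimit D : CohTop.Ab X) := by
  refine ⟨fun {U V} i => ?_⟩
  rw [AddCommGrpCat.epi_iff_surjective]
  intro σ
  obtain ⟨j, r, hr⟩ := Groth.Agent.Helper19.ColimSheafC.exists_lift_of_forall_isCompact
    (A := AddCommGrpCat.{u}) D (colimit.cocone D) (colimit.isColimit D)
    (fun W => TopologicalSpace.NoetherianSpace.isCompact _) V.unop σ
  have hepi := (hD j).epi i
  rw [AddCommGrpCat.epi_iff_surjective] at hepi
  obtain ⟨r', hr'⟩ := hepi r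
  refine ⟨((colimit.ι D j).1.app U) r', ?_⟩
  rw [← hr, ← hr']
  exact (NatTrans.naturality_apply (colimit.ι D j).1 i r').symm

end Groth.Agent.S11320
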