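import Groth.Statements.S14403
-- import your own Groth.Agent.* helpers here
import Groth.Agent.Lib.Helper55.Equidim
import Groth.Agent.Lib.Helper55.GroupLocalDim

set_option autoImplicit false
universe u
open CategoryTheory AlgebraicGeometry
open FlatMor

namespace Groth.Agent.S14403

open Groth.Agent.Lib.Helper55

/-- Let k be a field, X and Y schemes of finite type over k, f : X ⟶ Y a flat k-morphism, and d, n
natural numbers such that every irreducible component of Y has dimension d (Y equidimensional of
dimension d). Then every irreducible component of X has dimension d + n if and only if for every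
point y of Y, closed or not, every irreducible component of the scheme-theoretic fibre of f over y
has dimension n (empty fibres impose no condition). -/
theorem result (k : Type u) [Field k]
    {X Y : Scheme.{u}} (qX : X ⟶ Spec (CommRingCat.of k)) (qY : Y ⟶ Spec (CommRingCat.of k))
    [LocallyOfFiniteType qX] [QuasiCompact qX] [LocallyOfFiniteType qY] [QuasiCompact qY]
    (f : X ⟶ Y) (hf : f ≫ qY = qX) [Flat f] (d n : ℕ)
    (hY : ∀ Z ∈ irreducibleComponents (Y : Type u), topologicalKrullDim Z = (d : WithBot ℕ∞)) :
    (∀ Z ∈ irreducibleComponents (X : Type u), topologicalKrullDim Z = ((d + n : ℕ) : WithBot ℕ∞)) ↔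
      ∀ (y : Y), ∀ Z ∈ irreducibleComponents (f.fiber y : Type u),
        topologicalKrullDim Z = (n : WithBot ℕ∞) := by
  have hlf : LocallyOfFiniteType (f ≫ qY) := hf ▸ ‹LocallyOfFiniteType qX›
  have hf' : LocallyOfFiniteType f := locallyOfFiniteType_of_comp f qY
  have hYl : ∀ y : Y, FlatMor.localDim ↥Y y = (d : WithBot ℕ∞) :=
    (forall_irreducibleComponents_dim_eq_iff qY (d : WithBot ℕ∞)).mp hY
  have hfib : ∀ y : Y, (∀ Z ∈ irreducibleComponents (f.fiber y : Type u),
      topologicalKrullDim Z = (n : WithBot ℕ∞)) ↔
      ∀ z : ↥(f.fiber y), FlatMor.localDim ↥(f.fiber y) z = (n : WithBot ℕ∞) := by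
    intro y
    have hlft : LocallyOfFiniteType (f.fiberToSpecResidueField y) :=
      MorphismProperty.pullback_snd (P := @LocallyOfFiniteType) _ _ ‹_›
    exact forall_irreducibleComponents_dim_eq_iff (k := ↑(Y.residueField y))
      (f.fiberToSpecResidueField y) (n : WithBot ℕ∞)
  rw [forall_irreducibleComponents_dim_eq_iff (f ≫ qY) ((d + n : ℕ) : WithBot ℕ∞)]
  constructor
  · intro h y
    rw [hfib y]
    intro z
    have h1 := localDim_eq_add_of_flat' qY f y z
    rw [h, hYl] at h1
    have h2 : (d : WithBot ℕ∞) + (n : WithBot ℕ∞) =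
        (d : WithBot ℕ∞) + FlatMor.localDim ↥(f.fiber y) z := by
      rw [← h1]; push_cast; rfl
    exact (withBot_enat_add_left_cancel d h2).symm
  · intro h x
    have h1 := localDim_eq_add_of_flat' qY f (f x) (f.asFiber x)
    rw [f.fiberι_asFiber] at h1
    rw [h1, hYl, (hfib (f x)).mp (h (f x)) (f.asFiber x)]
    push_cast
    rfl

end Groth.Agent.S14403
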