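import Mathlib
import Groth.Statements.S11329

set_option autoImplicit false
universe u
open CategoryTheory AlgebraicGeometry Opposite
open Coherent

namespace Groth.Agent.S11329

section helpers
open CategoryTheory AlgebraicGeometry Opposite TopologicalSpace


section alg
variable {A : Type u} [CommRing A] [IsNoetherianRing A]

/-- Hartshorne III.3.3, elementwise -/
lemma exists_lift_div {I : Type u} [AddCommGroup I] [Module A I] [Module.Injective A I]
    (f : A) (n : ℕ) (y : I) : ∃ (z : I) (M : ℕ), f ^ M • (f ^ n • z - y) = 0 := by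
  -- ascending chain of annihilators
  let K : ℕ →o Submodule A A :=
    { toFun := fun i => LinearMap.ker (LinearMap.toSpanSingleton A A (f ^ i))
      monotone' := by
        intro i j hij a ha
        simp only [LinearMap.mem_ker, LinearMap.toSpanSingleton_apply, smul_eq_mul] at ha ⊢
        obtain ⟨d, rfl⟩ := Nat.exists_eq_add_of_le hij
        rw [pow_add, ← mul_assoc, ha, zero_mul] }
  obtain ⟨r, hr⟩ := monotone_stabilizes_iff_noetherian.mpr (inferInstance : IsNoetherian A A) K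
  let μ : A →ₗ[A] A := LinearMap.toSpanSingleton A A (f ^ (n + r))
  let ι : (A ⧸ LinearMap.ker μ) →ₗ[A] A := (LinearMap.ker μ).liftQ μ le_rfl
  have hι : Function.Injective ι := by
    rw [← LinearMap.ker_eq_bot]
    exact Submodule.ker_liftQ_eq_bot _ _ _ le_rfl
  have hle : LinearMap.ker μ ≤ LinearMap.ker (LinearMap.toSpanSingleton A I (f ^ r • y)) := by
    intro a ha
    have h1 : a ∈ K (n + r) := ha
    have h2 : a ∈ K r := by rw [hr (n + r) (by omega)]; exact h1
    have h3 : (LinearMap.toSpanSingleton A A (f ^ r)) a = 0 := h2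
    rw [LinearMap.toSpanSingleton_apply, smul_eq_mul] at h3
    simp only [LinearMap.mem_ker, LinearMap.toSpanSingleton_apply]
    rw [smul_smul, h3, zero_smul]
  let g : (A ⧸ LinearMap.ker μ) →ₗ[A] I :=
    (LinearMap.ker μ).liftQ (LinearMap.toSpanSingleton A I (f ^ r • y)) hle
  obtain ⟨h, hh⟩ := Module.Injective.out ι hι g
  refine ⟨h 1, r, ?_⟩
  have e1 : ι (Submodule.Quotient.mk 1) = f ^ (n + r) := by
    show μ 1 = _
    simp [μ, LinearMap.toSpanSingleton_apply]
  have e2 : g (Submodule.Quotient.mk 1) = f ^ r • y := by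
    show (LinearMap.toSpanSingleton A I (f ^ r • y)) 1 = _
    simp [LinearMap.toSpanSingleton_apply]
  have e3 : f ^ (n + r) • h 1 = f ^ r • y := by
    rw [← map_smul, smul_eq_mul, mul_one, ← e1, hh, e2]
  rw [smul_sub, smul_smul, ← pow_add, add_comm r n, e3, sub_self]

/-- the `f`-power torsion submodule -/
def tors (I : Type u) [AddCommGroup I] [Module A I] (f : A) : Submodule A I where
  carrier := {x | ∃ n : ℕ, f ^ n • x = 0}
  add_mem' := by
    rintro x y ⟨n, hn⟩ ⟨m, hm⟩
    refine ⟨n + m, ?_⟩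
    rw [smul_add, pow_add, mul_smul (f ^ n) (f ^ m) y, hm, smul_zero, mul_comm,
      mul_smul (f ^ m) (f ^ n) x, hn, smul_zero, add_zero]
  zero_mem' := ⟨0, smul_zero _⟩
  smul_mem' := by
    rintro c x ⟨n, hn⟩
    exact ⟨n, by rw [smul_comm, hn, smul_zero]⟩

lemma mem_tors {I : Type u} [AddCommGroup I] [Module A I] (f : A) (x : I) :
    x ∈ tors I f ↔ ∃ n : ℕ, f ^ n • x = 0 := Iff.rfl

/-- Hartshorne III.3.2 for a principal ideal -/
instance tors_injective {I : Type u} [AddCommGroup I] [Module A I] [Module.Injective A I] (f : A) :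
    Module.Injective A (tors I f) := by
  apply Module.Baer.injective
  intro 𝔟 φ
  -- (i) uniform exponent
  obtain ⟨n, hn⟩ : ∃ n : ℕ, ∀ b : 𝔟, f ^ n • (φ b : I) = 0 := by
    obtain ⟨S, hS⟩ := (Module.Finite.fg_top : (⊤ : Submodule A 𝔟).FG)
    have hex : ∀ s : 𝔟, ∃ n : ℕ, f ^ n • (φ s : I) = 0 := fun s => (φ s).2
    choose e he using hex
    refine ⟨S.sup e, ?_⟩
    let ψ : 𝔟 →ₗ[A] I := (LinearMap.lsmul A I (f ^ S.sup e)).comp ((tors I f).subtype.comp φ)
    have hker : (⊤ : Submodule A 𝔟) ≤ LinearMap.ker ψ := by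
      rw [← hS, Submodule.span_le]
      intro s hs
      simp only [SetLike.mem_coe, LinearMap.mem_ker, ψ, LinearMap.comp_apply,
        LinearMap.lsmul_apply, Submodule.subtype_apply]
      obtain ⟨d, hd⟩ := Nat.exists_eq_add_of_le (Finset.le_sup (f := e) hs)
      rw [hd, pow_add, mul_comm, mul_smul, he, smul_zero]
    intro b
    have := hker (Submodule.mem_top : b ∈ ⊤)
    simpa [ψ] using this
  -- (ii) chain
  let L : ℕ →o Submodule A A :=
    { toFun := fun i => Submodule.comap (LinearMap.toSpanSingleton A A (f ^ i)) 𝔟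
      monotone' := by
        intro i j hij a ha
        simp only [Submodule.mem_comap, LinearMap.toSpanSingleton_apply, smul_eq_mul] at ha ⊢
        obtain ⟨d, rfl⟩ := Nat.exists_eq_add_of_le hij
        rw [pow_add, ← mul_assoc]
        exact Ideal.mul_mem_right _ _ ha }
  obtain ⟨c, hc⟩ := monotone_stabilizes_iff_noetherian.mpr (inferInstance : IsNoetherian A A) L
  -- (iii)
  have hkill : ∀ (b : 𝔟) (a : A), (b : A) = a * f ^ (n + c) → (φ b : I) = 0 := by
    intro b a hb
    have h1 : a ∈ L (n + c) := by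
      show a • f ^ (n + c) ∈ 𝔟
      rw [smul_eq_mul, ← hb]; exact b.2
    have h2 : a ∈ L c := by rw [hc (n + c) (by omega)]; exact h1
    have h3 : a * f ^ c ∈ 𝔟 := h2
    have hb' : b = f ^ n • (⟨a * f ^ c, h3⟩ : 𝔟) := by
      apply Subtype.ext
      rw [hb]
      simp only [SetLike.val_smul, smul_eq_mul]
      ring
    rw [hb', map_smul]
    exact hn _
  -- (iv)
  let 𝔠 : Submodule A A := Ideal.span {f ^ (n + c)}
  let ν : 𝔟 →ₗ[A] (A ⧸ 𝔠) := 𝔠.mkQ.comp 𝔟.subtype
  let ι : (𝔟 ⧸ LinearMap.ker ν) →ₗ[A] (A ⧸ 𝔠) := (LinearMap.ker ν).liftQ ν le_rfl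
  have hι : Function.Injective ι := by
    rw [← LinearMap.ker_eq_bot]
    exact Submodule.ker_liftQ_eq_bot _ _ _ le_rfl
  have hle : LinearMap.ker ν ≤ LinearMap.ker ((tors I f).subtype.comp φ) := by
    intro b hb
    have h1 : (b : A) ∈ 𝔠 := by
      have : 𝔠.mkQ (b : A) = 0 := hb
      rwa [Submodule.mkQ_apply, Submodule.Quotient.mk_eq_zero] at this
    obtain ⟨a, ha⟩ := Ideal.mem_span_singleton'.mp h1
    simp only [LinearMap.mem_ker, LinearMap.comp_apply, Submodule.subtype_apply]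
    exact hkill b a ha.symm
  let g : (𝔟 ⧸ LinearMap.ker ν) →ₗ[A] I :=
    (LinearMap.ker ν).liftQ ((tors I f).subtype.comp φ) hle
  obtain ⟨h, hh⟩ := Module.Injective.out ι hι g
  let ψ₀ : A →ₗ[A] I := h.comp 𝔠.mkQ
  have hψ₀ : ∀ a, ψ₀ a ∈ tors I f := by
    intro a
    refine ⟨n + c, ?_⟩
    rw [← map_smul]
    show h (𝔠.mkQ (f ^ (n + c) • a)) = 0
    have : 𝔠.mkQ (f ^ (n + c) • a) = 0 := by
      rw [Submodule.mkQ_apply, Submodule.Quotient.mk_eq_zero, smul_eq_mul, mul_comm]
      exact Ideal.mem_span_singleton'.mpr ⟨a, rfl⟩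
    rw [this, map_zero]
  refine ⟨ψ₀.codRestrict (tors I f) hψ₀, ?_⟩
  intro x hx
  apply Subtype.ext
  show h (𝔠.mkQ x) = (φ ⟨x, hx⟩ : I)
  have e1 : ι (Submodule.Quotient.mk ⟨x, hx⟩) = 𝔠.mkQ x := by
    simp [ι, ν]
  rw [← e1, hh]
  simp [g]

/-- the gluing property for `r` basic opens -/
def GlueProp (A : Type u) [CommRing A] (r : ℕ) : Prop :=
  ∀ (I : Type u) [AddCommGroup I] [Module A I] [Module.Injective A I]
    (f : Fin r → A) (k : Fin r → ℕ) (a : Fin r → I),
    (∀ i j, ∃ N : ℕ, (f i * f j) ^ N • (f j ^ k j • a i - f i ^ k i • a j) = 0) →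
    ∃ m : I, ∀ i, ∃ N : ℕ, f i ^ N • (f i ^ k i • m - a i) = 0

lemma glue_step (r : ℕ) (ih : GlueProp A r)
    (I : Type u) [AddCommGroup I] [Module A I] [Module.Injective A I]
    (f : Fin r → A) (k : Fin r → ℕ) (a : Fin r → I) (g : A) (kl : ℕ) (al : I)
    (hc : ∀ i j, ∃ N : ℕ, (f i * f j) ^ N • (f j ^ k j • a i - f i ^ k i • a j) = 0)
    (hcl : ∀ i, ∃ N : ℕ, (f i * g) ^ N • (g ^ kl • a i - f i ^ k i • al) = 0) :
    ∃ m : I, (∀ i, ∃ N : ℕ, f i ^ N • (f i ^ k i • m - a i) = 0) ∧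
      ∃ N : ℕ, g ^ N • (g ^ kl • m - al) = 0 := by
  obtain ⟨t, M, ht⟩ := exists_lift_div g kl al
  have hci : ∀ i : Fin r, ∃ N : ℕ, f i ^ N • (a i - f i ^ k i • t) ∈ tors I g := by
    intro i
    obtain ⟨N, hN⟩ := hcl i
    refine ⟨N, M + N + kl, ?_⟩
    have : g ^ (M + N + kl) • f i ^ N • (a i - f i ^ k i • t)
        = g ^ M • ((f i * g) ^ N • (g ^ kl • a i - f i ^ k i • al))
          - (f i ^ (N + k i) * g ^ N) • (g ^ M • (g ^ kl • t - al)) := by
      module
    rw [this, hN, ht, smul_zero, smul_zero, sub_zero]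
  choose Ni hNi using hci
  have hc' : ∀ i j, ∃ N : ℕ, (f i * f j) ^ N •
      (f j ^ (k j + Ni j) • (⟨_, hNi i⟩ : tors I g) - f i ^ (k i + Ni i) • (⟨_, hNi j⟩ : tors I g)) = 0 := by
    intro i j
    obtain ⟨N, hN⟩ := hc i j
    refine ⟨N, Subtype.ext ?_⟩
    simp only [Submodule.coe_smul, Submodule.coe_sub, Submodule.coe_zero]
    have : (f i * f j) ^ N • (f j ^ (k j + Ni j) • f i ^ Ni i • (a i - f i ^ k i • t) -
        f i ^ (k i + Ni i) • f j ^ Ni j • (a j - f j ^ k j • t)) =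
        (f i ^ Ni i * f j ^ Ni j) • ((f i * f j) ^ N • (f j ^ k j • a i - f i ^ k i • a j)) := by
      module
    rw [this, hN, smul_zero]
  obtain ⟨m, hm⟩ := ih (tors I g) f (fun i => k i + Ni i) (fun i => ⟨_, hNi i⟩) hc'
  refine ⟨(m : I) + t, ?_, ?_⟩
  · intro i
    obtain ⟨N, hN⟩ := hm i
    refine ⟨N + Ni i, ?_⟩
    have hN' := congrArg Subtype.val hN
    simp only [Submodule.coe_smul, Submodule.coe_sub, Submodule.coe_zero] at hN'
    have : f i ^ (N + Ni i) • (f i ^ k i • ((m : I) + t) - a i) =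
        f i ^ N • (f i ^ (k i + Ni i) • (m : I) - f i ^ Ni i • (a i - f i ^ k i • t)) := by
      module
    rw [this, hN']
  · obtain ⟨nm, hnm⟩ := m.2
    refine ⟨nm + M, ?_⟩
    have : g ^ (nm + M) • (g ^ kl • ((m : I) + t) - al) =
        g ^ (kl + M) • (g ^ nm • (m : I)) + g ^ nm • (g ^ M • (g ^ kl • t - al)) := by
      module
    rw [this, hnm, ht, smul_zero, smul_zero, add_zero]

theorem glue_alg : ∀ r : ℕ, GlueProp A r := by
  intro r
  induction r with
  | zero =>
    intro I _ _ _ f k a _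
    exact ⟨0, fun i => i.elim0⟩
  | succ r ih =>
    intro I _ _ _ f k a hc
    obtain ⟨m, hm, hml⟩ := glue_step r ih I (fun i => f i.castSucc) (fun i => k i.castSucc)
      (fun i => a i.castSucc) (f (Fin.last r)) (k (Fin.last r)) (a (Fin.last r))
      (fun i j => hc i.castSucc j.castSucc) (fun i => hc i.castSucc (Fin.last r))
    refine ⟨m, fun i => ?_⟩
    induction i using Fin.lastCases with
    | last => exact hml
    | cast i => exact hm i

end alg



section sheaf
variable {R : CommRingCat.{u}} (M : ModuleCat.{u} R)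

/-- the sheaf of modules -/
noncomputable abbrev FF : TopCat.Sheaf (ModuleCat R) (Spec R) :=
  modulesSpecToSheaf.obj (tilde M)

/-- basic open, typed -/
abbrev bO (f : R) : (Spec R).Opens := PrimeSpectrum.basicOpen f

lemma bO_mul_le_left (f g : R) : bO (f * g) ≤ bO f := PrimeSpectrum.basicOpen_mul_le_left f g

lemma bO_mul_le_right (f g : R) : bO (f * g) ≤ bO g := PrimeSpectrum.basicOpen_mul_le_right f g

/-- restriction -/
noncomputable abbrev rs {U V : (Spec R).Opens} (h : U ≤ V) :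
    ((FF M).presheaf.obj (op V)) →ₗ[R] ((FF M).presheaf.obj (op U)) :=
  ((FF M).presheaf.map (homOfLE h).op).hom

lemma rs_tO {U V : (Spec R).Opens} (h : U ≤ V) (m : M) :
    rs M h ((tilde.toOpen M V).hom m) = (tilde.toOpen M U).hom m := by
  have := tilde.toOpen_res M V U (homOfLE h)
  exact congrArg (fun φ => φ.hom m) this

lemma exists_num (f : R) (s : (FF M).presheaf.obj (op (bO f))) :
    ∃ (a : M) (k : ℕ), f ^ k • s = (tilde.toOpen M (bO f)).hom a := by
  obtain ⟨⟨a, ⟨c, k, rfl⟩⟩, h⟩ := IsLocalizedModule.surj (Submonoid.powers f)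
    (tilde.toOpen M (bO f)).hom s
  exact ⟨a, k, h⟩

lemma exists_kill (f : R) (a : M) (h : (tilde.toOpen M (bO f)).hom a = 0) :
    ∃ N : ℕ, f ^ N • a = 0 := by
  obtain ⟨⟨c, k, rfl⟩, hc⟩ := (IsLocalizedModule.eq_zero_iff (Submonoid.powers f)
    (tilde.toOpen M (bO f)).hom).mp h
  exact ⟨k, hc⟩

lemma smul_inj {f : R} {U : (Spec R).Opens} (hU : U ≤ bO f)
    (N : ℕ) (s : (FF M).presheaf.obj (op U)) (h : f ^ N • s = 0) : s = 0 := by
  have h1 := Scheme.Modules.isSMulRegular_of_le_basicOpen (M := tilde M) hU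
  have h2 := h1.pow N
  have h3 : Function.Injective (fun x : (FF M).presheaf.obj (op U) => f ^ N • x) := h2
  apply h3
  show f ^ N • s = f ^ N • 0
  rw [h, smul_zero]

end sheaf


section main
variable {R : CommRingCat.{u}} (M : ModuleCat.{u} R)

lemma rs_rs {U V W : (Spec R).Opens} (h1 : U ≤ V) (h2 : V ≤ W) (s : (FF M).presheaf.obj (op W)) :
    rs M h1 (rs M h2 s) = rs M (h1.trans h2) s := by
  have h : (FF M).presheaf.map (homOfLE h2).op ≫ (FF M).presheaf.map (homOfLE h1).op =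
      (FF M).presheaf.map (homOfLE (h1.trans h2)).op := by
    rw [← Functor.map_comp]
    rfl
  exact congrArg (fun φ => φ.hom s) h

theorem exists_global [IsNoetherianRing R] [Module.Injective R M]
    (U : (Spec R).Opens) (s : (FF M).presheaf.obj (op U)) :
    ∃ m : M, (tilde.toOpen M U).hom m = s := by
  classical
  obtain ⟨t, ht⟩ : ∃ t : Finset R, (PrimeSpectrum.zeroLocus (t : Set R))ᶜ = (U.1 : Set (PrimeSpectrum R)) :=
    PrimeSpectrum.isCompact_isOpen_iff.mp
      ⟨TopologicalSpace.NoetherianSpace.isCompact (U.1 : Set (PrimeSpectrum R)), U.2⟩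
  let e := t.equivFin
  let fi : Fin t.card → R := fun i => ((e.symm i : t) : R)
  have hfi : ∀ i, fi i ∈ t := fun i => (e.symm i).2
  have hle : ∀ i, bO (fi i) ≤ U := by
    intro i x hx
    have hx' : (x : PrimeSpectrum R) ∈ (PrimeSpectrum.zeroLocus (t : Set R))ᶜ := by
      intro hz
      exact hx (hz (hfi i))
    rw [ht] at hx'
    exact hx'
  have hcov : ∀ x ∈ U, ∃ i, x ∈ bO (fi i) := by
    intro x hx
    let x' : PrimeSpectrum R := x
    have hx' : x' ∈ (PrimeSpectrum.zeroLocus (t : Set R))ᶜ := by rw [ht]; exact hx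
    have hx'' : ¬ ((t : Set R) ⊆ x'.asIdeal) :=
      fun h => hx' ((PrimeSpectrum.mem_zeroLocus x' _).mpr h)
    obtain ⟨f, hf, hfx⟩ := Set.not_subset.mp hx''
    refine ⟨e ⟨f, hf⟩, ?_⟩
    show fi (e ⟨f, hf⟩) ∉ x'.asIdeal
    simpa [fi] using hfx
  have hnum := fun i => exists_num M (fi i) (rs M (hle i) s)
  choose a k hak using hnum
  have hc : ∀ i j, ∃ N : ℕ, (fi i * fi j) ^ N • (fi j ^ k j • a i - fi i ^ k i • a j) = 0 := by
    intro i j
    apply exists_kill M
    have hi : bO (fi i * fi j) ≤ bO (fi i) := bO_mul_le_left _ _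
    have hj : bO (fi i * fi j) ≤ bO (fi j) := bO_mul_le_right _ _
    have e1 : (tilde.toOpen M (bO (fi i * fi j))).hom (a i) =
        fi i ^ k i • rs M (hi.trans (hle i)) s := by
      rw [← rs_tO M hi, ← hak i, map_smul, rs_rs]
    have e2 : (tilde.toOpen M (bO (fi i * fi j))).hom (a j) =
        fi j ^ k j • rs M (hi.trans (hle i)) s := by
      rw [← rs_tO M hj, ← hak j, map_smul, rs_rs]
    rw [map_sub, map_smul, map_smul, e1, e2, smul_comm, sub_self]
  obtain ⟨m, hm⟩ := glue_alg (A := R) t.card M fi k a hc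
  refine ⟨m, ?_⟩
  have hloc : ∀ i, (tilde.toOpen M (bO (fi i))).hom m = rs M (hle i) s := by
    intro i
    obtain ⟨N, hN⟩ := hm i
    rw [← sub_eq_zero]
    apply smul_inj M (le_refl _) (N + k i)
    have := congrArg (tilde.toOpen M (bO (fi i))).hom hN
    rw [map_smul, map_sub, map_smul, ← hak i, map_zero] at this
    rw [pow_add, mul_smul, smul_sub (fi i ^ k i)]
    exact this
  refine TopCat.Sheaf.eq_of_locally_eq' (FF M)
    (fun i : ULift.{u} (Fin t.card) => bO (fi i.down)) U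
    (fun i => homOfLE (hle i.down)) ?_ _ _ ?_
  · intro x hx
    obtain ⟨i, hi⟩ := hcov x hx
    exact TopologicalSpace.Opens.mem_iSup.mpr ⟨⟨i⟩, hi⟩
  · intro i
    have h1 := rs_tO M (hle i.down) m
    exact h1.trans (hloc i.down)

end main

end helpers

/-- Let A be a Noetherian ring and I an injective A-module. Then the quasi-coherent sheaf I~ on Spec A
associated with I is flasque: for all opens U ⊆ V of Spec A the restriction map I~(V) → I~(U) is
surjective. -/
theorem result (A : Type u) [CommRing A] [IsNoetherianRing A]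
    (I : Type u) [AddCommGroup I] [Module A I] [Module.Injective A I]
    (U V : (Spec (CommRingCat.of A)).Opens) (hUV : U ≤ V) :
    Function.Surjective ((tilde (ModuleCat.of A I)).val.map (homOfLE hUV).op).hom := by
  intro s
  obtain ⟨m, hm⟩ := exists_global (R := CommRingCat.of A) (ModuleCat.of A I) U s
  refine ⟨(tilde.toOpen (ModuleCat.of A I) V).hom m, ?_⟩
  exact (rs_tO (R := CommRingCat.of A) (ModuleCat.of A I) hUV m).trans hm

end Groth.Agent.S11329
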