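import Groth.Statements.S11353
import Groth.Agent.Lib.Helper67.SmCurve17

set_option autoImplicit false
universe u
open CategoryTheory CategoryTheory.Limits AlgebraicGeometry
open Curves

namespace Groth.Agent.S11353

/-- Let C be a curve over an algebraically closed field k (integral, proper over k, of dimension one,
all local rings regular) and E a decomposable locally free sheaf of rank 2 — E ≅ L₁ ⊕ L₂ with L₁, L₂
invertible — which is normalized: H^0(C, E) ≠ 0 while H^0(C, E ⊗ M) = 0 for every invertible M of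
negative degree. Then E ≅ O_C ⊕ L for an invertible L with deg L ≤ 0; in particular e = -deg E ≥ 0. -/
theorem result (k : Type u) [Field k] [IsAlgClosed k] (C : Scheme.{u}) [C.Over (Spec (CommRingCat.of k))]
    [IsIntegral C] [IsProper (C ↘ (Spec (CommRingCat.of k)))] (hdimC : topologicalKrullDim C = 1)
    (hregC : ∀ x : C, IsRegularLocalRing (C.presheaf.stalk x))
    (E L₁ L₂ : C.Modules) (hL₁ : PicF.IsInvertible L₁) (hL₂ : PicF.IsInvertible L₂) (hE : Nonempty (E ≅ L₁ ⊞ L₂))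
    (hn0 : Nontrivial (Coh.HH C E 0))
    (hneg : ∀ M : C.Modules, PicF.IsInvertible M → Curv2.deg k C M 1 < 0 → Subsingleton (Coh.HH C (CohB1.tensorMod E M) 0)) :
    ∃ L : C.Modules, PicF.IsInvertible L ∧ Curv2.deg k C L 1 ≤ 0 ∧ Nonempty (E ≅ Coh.structureModule C ⊞ L) := by
  obtain ⟨e⟩ := hE
  have hO1 : FlatMod.IsFinLocFreeOfRank 1 (Coh.structureModule C) :=
    Groth.Agent.Lib.Helper67.CurveTors.rank_one_of_isInvertible
      (Groth.Agent.Lib.Helper11.GenLocus.isInvertible_structureModule C)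
  have hdegO : Curv2.deg k C (Coh.structureModule C) 1 = 0 := by
    unfold Curv2.deg
    simp
  have h11 := Groth.Agent.Lib.Helper67.CurveTors.rank_one_of_isInvertible hL₁
  have h21 := Groth.Agent.Lib.Helper67.CurveTors.rank_one_of_isInvertible hL₂
  -- both summands have degree ≤ 0
  have hd1 : Curv2.deg k C L₁ 1 ≤ 0 := by
    refine Groth.Agent.Lib.Helper67.SmCurve.deg_le_zero_of_hom_ne_zero k C hdimC.le hneg hL₁
      ((biprod.inl : L₁ ⟶ L₁ ⊞ L₂) ≫ e.inv) (fun h0 => ?_)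
    have h1 : ((biprod.inl : L₁ ⟶ L₁ ⊞ L₂) ≫ e.inv) ≫ e.hom ≫ (biprod.fst : L₁ ⊞ L₂ ⟶ L₁) = 𝟙 L₁ := by
      simp
    rw [h0, zero_comp] at h1
    exact Groth.Agent.Lib.Helper67.SmCurve.not_isZero_of_rank_pos C Nat.one_pos h11
      ((IsZero.iff_id_eq_zero L₁).mpr h1.symm)
  have hd2 : Curv2.deg k C L₂ 1 ≤ 0 := by
    refine Groth.Agent.Lib.Helper67.SmCurve.deg_le_zero_of_hom_ne_zero k C hdimC.le hneg hL₂
      ((biprod.inr : L₂ ⟶ L₁ ⊞ L₂) ≫ e.inv) (fun h0 => ?_)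
    have h1 : ((biprod.inr : L₂ ⟶ L₁ ⊞ L₂) ≫ e.inv) ≫ e.hom ≫ (biprod.snd : L₁ ⊞ L₂ ⟶ L₂) = 𝟙 L₂ := by
      simp
    rw [h0, zero_comp] at h1
    exact Groth.Agent.Lib.Helper67.SmCurve.not_isZero_of_rank_pos C Nat.one_pos h21
      ((IsZero.iff_id_eq_zero L₂).mpr h1.symm)
  obtain ⟨σ, hσ⟩ := Groth.Agent.Lib.Helper67.SmCurve.exists_hom_ne_zero_of_nontrivial E hn0
  by_cases h1 : σ ≫ e.hom ≫ (biprod.fst : L₁ ⊞ L₂ ⟶ L₁) = 0
  · have h2 : σ ≫ e.hom ≫ (biprod.snd : L₁ ⊞ L₂ ⟶ L₂) ≠ 0 := by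
      intro h2
      apply hσ
      have h3 : σ ≫ e.hom = 0 := by
        apply biprod.hom_ext
        · rw [Category.assoc, h1, zero_comp]
        · rw [Category.assoc, h2, zero_comp]
      rw [← cancel_mono e.hom, h3, zero_comp]
    have h4 := Groth.Agent.Lib.Helper67.SmCurve.deg_le_of_ne_zero k C hdimC.le hO1 h21 _ h2
    rw [hdegO] at h4
    haveI : IsIso (σ ≫ e.hom ≫ (biprod.snd : L₁ ⊞ L₂ ⟶ L₂)) := h4.2 (le_antisymm h4.1 hd2)
    exact ⟨L₁, hL₁, hd1, ⟨e ≪≫ biprod.braiding L₁ L₂ ≪≫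
      biprod.mapIso (asIso (σ ≫ e.hom ≫ (biprod.snd : L₁ ⊞ L₂ ⟶ L₂))).symm (Iso.refl L₁)⟩⟩
  · have h4 := Groth.Agent.Lib.Helper67.SmCurve.deg_le_of_ne_zero k C hdimC.le hO1 h11 _ h1
    rw [hdegO] at h4
    haveI : IsIso (σ ≫ e.hom ≫ (biprod.fst : L₁ ⊞ L₂ ⟶ L₁)) := h4.2 (le_antisymm h4.1 hd1)
    exact ⟨L₂, hL₂, hd2, ⟨e ≪≫
      biprod.mapIso (asIso (σ ≫ e.hom ≫ (biprod.fst : L₁ ⊞ L₂ ⟶ L₁))).symm (Iso.refl L₂)⟩⟩

end Groth.Agent.S11353
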