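import Groth.Statements.S11360
import Groth.Agent.Lib.Helper6.HomBC9

set_option autoImplicit false
universe u
open CategoryTheory
attribute [local instance] HasDerivedCategory.standard
open Dual

namespace Groth.Agent.S11360

/-- Let A be a Noetherian ring and R an object of D(A) with finite cohomology modules and of finite
injective dimension (isomorphic to a bounded complex of injective modules). If for every prime p of
A the derived base change of R to A_p (the total left derived functor of extension of scalars,
assumed to exist) is a dualizing complex for A_p, then R is a dualizing complex for A. (The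
published statement is for a locally Noetherian scheme and the stalks at all points; this row is the
affine case. Without the global finite injective dimension hypothesis the conclusion fails, e.g. for
a regular Noetherian ring of infinite Krull dimension.) -/
theorem result (A : Type u) [CommRing A] [IsNoetherianRing A] (R : Dual.D A) (hfin : ∀ i : ℤ, Module.Finite A (Dual.HD A R i)) (hfid : DRing.HasFiniteInjDim A R) [∀ p : PrimeSpectrum A, DRing.HasLBaseChange (algebraMap A (Localization.AtPrime p.asIdeal))] (h : ∀ p : PrimeSpectrum A, Dual.IsDualizing (Localization.AtPrime p.asIdeal) ((DRing.LBaseChange (algebraMap A (Localization.AtPrime p.asIdeal))).obj R)) : Dual.IsDualizing A R := by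
  classical
  let B : PrimeSpectrum A → Type u := fun p => Localization.AtPrime p.asIdeal
  letI instCR : ∀ p : PrimeSpectrum A, CommRing (B p) := fun p =>
    inferInstanceAs (CommRing (Localization.AtPrime p.asIdeal))
  letI instAlg : ∀ p : PrimeSpectrum A, Algebra A (B p) := fun p =>
    inferInstanceAs (Algebra A (Localization.AtPrime p.asIdeal))
  haveI instFlat : ∀ p : PrimeSpectrum A, Module.Flat A (B p) := fun p =>
    inferInstanceAs (Module.Flat A (Localization.AtPrime p.asIdeal))
  have hinj : ∃ a b : ℤ, ∀ (M : Type u) [AddCommGroup M] [Module A M] (i : ℤ),
      (i < a ∨ b < i) → Subsingleton (Dual.inD A M ⟶ R⟦i⟧) := by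
    obtain ⟨a, b, hIA⟩ := hfid
    have h1 : Lib.Helper35.KL.IA a b R := (Lib.Helper35.KL.IA_iff a b R).2 hIA
    have h01 := (Lib.Helper35.KL.IA_tfae R a b).out 0 1
    have h2 := h01.1 h1
    exact ⟨a, b, fun M _ _ i hi => h2 (ModuleCat.of A M) i hi⟩
  refine Lib.Helper6.HomBC.isDualizing_of_family B ?_ R hfin hinj ?_
  · intro M _ _ hM
    refine Module.subsingleton_of_localization_maximal
      (fun P _ => TensorProduct A (Localization.AtPrime P) M)
      (fun P _ => TensorProduct.mk A (Localization.AtPrime P) M 1) ?_
    intro P hP
    exact hM ⟨P, hP.isPrime⟩
  · intro p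
    have h1 := h p
    exact Lib.Helper6.HomBC.isDualizing_of_iso
      ((Lib.Helper6.HomBC.lbcIsoG A (Localization.AtPrime p.asIdeal)).app R) h1

end Groth.Agent.S11360
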