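import Groth.Statements.S11364
import Mathlib
import Groth.Agent.Lib.Helper79.PFID7
-- import your own Groth.Agent.* helpers here

set_option autoImplicit false
universe u
open CategoryTheory
attribute [local instance] HasDerivedCategory.standard
open Dual

namespace Groth.Agent.S11364

/-- Let A be a Noetherian ring and R an object of D(A) with finite cohomology modules vanishing outside
a bounded range, such that for every prime p of A the derived base change of R to A_p (total left
derived functor of extension of scalars, assumed to exist) has finite injective dimension over A_p.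
Then for every finite A-module M, the groups Hom_{D(A)}(M, R[i]) vanish for all sufficiently large
i. (The published statement is for a locally Noetherian scheme, complexes with coherent locally
bounded cohomology, and local boundedness of the internal RHom; this row is the affine case with the
first argument a single finite module, to which the published proof reduces.) -/
theorem result (A : Type u) [CommRing A] [IsNoetherianRing A] (R : Dual.D A) (hfin : ∀ i : ℤ, Module.Finite A (Dual.HD A R i)) (hbdd : ∃ a b : ℤ, ∀ i : ℤ, (i < a ∨ b < i) → Subsingleton (Dual.HD A R i)) [∀ p : PrimeSpectrum A, DRing.HasLBaseChange (algebraMap A (Localization.AtPrime p.asIdeal))] (hpw : ∀ p : PrimeSpectrum A, DRing.HasFiniteInjDim (Localization.AtPrime p.asIdeal) ((DRing.LBaseChange (algebraMap A (Localization.AtPrime p.asIdeal))).obj R)) (M : Type u) [AddCommGroup M] [Module A M] [Module.Finite A M] : ∃ N : ℤ, ∀ i : ℤ, N < i → Subsingleton (Dual.inD A M ⟶ R⟦i⟧) := by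
  classical
  obtain ⟨a, b, hab⟩ := hbdd
  obtain ⟨hGE, hLE⟩ := Groth.Agent.Lib.Helper35.KL.isGE_and_isLE_of_subsingleton R a b hab
  have hloc : ∀ (q : Ideal A) [q.IsPrime] (N : Type u) [AddCommGroup N] [Module A N]
      [Module.Finite A N], ∃ n : ℤ, ∀ i : ℤ, n < i →
        Groth.Agent.Lib.Helper79.PFID.NS q.primeCompl (Dual.inD A N) (R⟦i⟧) := by
    intro q hq N _ _ _
    haveI : DRing.HasLBaseChange (algebraMap A (Localization.AtPrime q)) :=
      inferInstanceAs (DRing.HasLBaseChange
        (algebraMap A (Localization.AtPrime (⟨q, hq⟩ : PrimeSpectrum A).asIdeal)))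
    have h1 : DRing.HasFiniteInjDim (Localization.AtPrime q)
        ((DRing.LBaseChange (algebraMap A (Localization.AtPrime q))).obj R) := hpw ⟨q, hq⟩
    have h2 : DRing.HasFiniteInjDim (Localization.AtPrime q)
        ((Groth.Agent.Lib.Helper35.FlatBC.G A (Localization.AtPrime q)).obj R) := by
      obtain ⟨a', b', h⟩ := h1
      exact ⟨a', b', (Groth.Agent.Lib.Helper35.KL.IA_iff _ _ _).1
        (((Groth.Agent.Lib.Helper35.KL.IA_iff _ _ _).2 h).of_iso
          ((Groth.Agent.Lib.Helper6.HomBC.lbcIsoG A (Localization.AtPrime q)).app R))⟩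
    exact Groth.Agent.Lib.Helper79.PFID.local_bound R a q h2 N
  obtain ⟨n, hn⟩ := Groth.Agent.Lib.Helper79.PFID.good_of_annihilated R b hloc ⊥ M
    (fun a ha x => by rw [Submodule.mem_bot] at ha; rw [ha, zero_smul])
  exact ⟨n, fun i hi => ⟨fun φ ψ =>
    (Groth.Agent.Lib.Helper79.PFID.NS.eq_zero (hn i hi) φ).trans
      (Groth.Agent.Lib.Helper79.PFID.NS.eq_zero (hn i hi) ψ).symm⟩⟩

end Groth.Agent.S11364
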