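import Groth.Statements.S11368
import Groth.Agent.S0051
import Groth.Agent.Lib.Helper45.Dev.AmpleFinite
import Groth.Agent.Lib.Helper11.PullbackAmple2

set_option linter.style.haveILetI false

set_option autoImplicit false
universe u
open CategoryTheory CategoryTheory.Limits AlgebraicGeometry TopologicalSpace
open Variety

namespace Groth.Agent.S11368

/-- For X proper over an algebraically closed field k and L an invertible O_X-module, L is ample on X if
and only if for every irreducible component X_i of X, with its reduced closed subscheme structure
(the vanishing ideal of the closed set X_i), the pullback of L to X_i is ample. -/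
theorem result (k : Type u) [Field k] [IsAlgClosed k] (X : Scheme.{u})
    [X.Over (Spec (CommRingCat.of k))] [IsProper (X ↘ (Spec (CommRingCat.of k)))]
    (L : X.Modules) (hL : PicF.IsInvertible L) :
    CohB1.IsAmple L ↔
      ∀ Z : Closeds X, (Z : Set X) ∈ irreducibleComponents X →
        CohB1.IsAmple ((Scheme.Modules.pullback
          (Scheme.IdealSheafData.vanishingIdeal Z).subschemeι).obj L) := by
  open Groth.Agent.Lib.Helper45.AmpleFinite Groth.Agent.Lib.Helper45.SerreVanish in
  constructor
  · intro hamp Z _
    exact Groth.Agent.Lib.Helper11.PullbackAmple.isAmple_pullback_of_isQuasiAffine _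
      (Groth.Agent.Lib.Helper11.PullbackAmple2.isQuasiAffine_of_isAffineHom _) hamp
  · intro hcomp
    haveI : IsLocallyNoetherian X :=
      LocallyOfFiniteType.isLocallyNoetherian (X ↘ (Spec (CommRingCat.of k)))
    haveI : CompactSpace X :=
      QuasiCompact.compactSpace_of_compactSpace (X ↘ (Spec (CommRingCat.of k)))
    haveI : IsNoetherian X := {}
    refine isAmple_of_serreVanish L hL (serreVanish_of_finite_family L hL fun x => ?_)
    let Z : TopologicalSpace.Closeds X := ⟨irreducibleComponent x, isClosed_irreducibleComponent⟩
    have hZ : (Z : Set X) ∈ irreducibleComponents X := irreducibleComponent_mem_irreducibleComponents x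
    set f := (Scheme.IdealSheafData.vanishingIdeal Z).subschemeι with hf
    set gY := f ≫ (X ↘ (Spec (CommRingCat.of k))) with hgY
    haveI : IsProper gY := inferInstance
    haveI : IsLocallyNoetherian (Scheme.IdealSheafData.vanishingIdeal Z).subscheme :=
      LocallyOfFiniteType.isLocallyNoetherian gY
    haveI : CompactSpace (Scheme.IdealSheafData.vanishingIdeal Z).subscheme :=
      QuasiCompact.compactSpace_of_compactSpace gY
    haveI : IsNoetherian (Scheme.IdealSheafData.vanishingIdeal Z).subscheme := {}
    have hx : x ∈ Set.range f := by
      rw [hf, Scheme.IdealSheafData.range_subschemeι, Scheme.IdealSheafData.coe_support_vanishingIdeal]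
      exact mem_irreducibleComponent
    obtain ⟨y, hy⟩ := hx
    have hamp := hcomp Z hZ
    have hY := (Groth.Agent.S0051.result k _ gY ((Scheme.Modules.pullback f).obj L) hamp.1).mp hamp
    exact ⟨_, f, y, inferInstance, inferInstance, hy, fun M hM => hY M hM⟩

end Groth.Agent.S11368
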