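import Groth.Statements.S11377
import Groth.Agent.Lib.Helper37.AmpleAffine

set_option autoImplicit false
universe u
open CategoryTheory CategoryTheory.Limits AlgebraicGeometry TopologicalSpace
open CohDim

namespace Groth.Agent.S11377

section Aux

open CategoryTheory CategoryTheory.Limits AlgebraicGeometry
open Groth.Agent.Lib.Helper1 Groth.Agent.Lib.Helper45 Groth.Agent.Lib.Helper37.SerreFT
open Groth.Agent.Lib.Helper37.AmpleAffine
open Groth.Agent.Lib.Helper49 Groth.Agent.Lib.Helper11.GenLocus
open Groth.Agent.Lib.Helper11.NegPowers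

attribute [local instance] Abelian.hasFiniteBiproducts

/-- If `L` is ample with inverse `L'` and the cohomology in degrees `> r` of all large powers of `L'`
vanishes, then the cohomology in degrees `> r` of every quasi-coherent module vanishes
(the proof of `Helper37.AmpleAffine.subsingleton_HH_of_ample`, with `r` in place of `0`). -/
theorem subsingleton_HH_of_ample_gt {X : Scheme.{u}} (L L' : X.Modules) (hL : CohB1.IsAmple L)
    (ε₀ : CohB1.tensorMod L L' ≅ Coh.structureModule X) (r n₀ : ℕ)
    (h : ∀ n : ℕ, n₀ ≤ n → ∀ p : ℕ, r < p → Subsingleton (Coh.HH X (CohB1.tensorPow L' n) p))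
    (p : ℕ) (hp : r < p) (F : X.Modules) (hqF : F.IsQuasicoherent) :
    Subsingleton (Coh.HH X F p) := by
  haveI : CompactSpace X := hL.2.1
  haveI : QuasiSeparatedSpace X := quasiSeparatedSpace_of_isAmple hL
  have hL' : PicF.IsInvertible L' :=
    isInvertible_of_tensor_iso L' L (tensorModBraid L' L ≪≫ ε₀)
  obtain ⟨d, hd⟩ := exists_vanishing_qcqs X
  have key : ∀ (m p : ℕ), r < p → d ≤ p + m → ∀ F : X.Modules, F.IsQuasicoherent →
      Subsingleton (Coh.HH X F p) := by
    intro m
    induction m with
    | zero => intro p _ hdp F hqF; exact hd F hqF p hdp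
    | succ m ih =>
      intro p hp hdp F hqF
      have ih' := ih (p + 1) (Nat.lt_succ_of_lt hp) (by omega)
      haveI := hqF
      refine subsingleton_HH_of_forall_ft p (fun M hqM hM => ?_) F
      haveI := hqM
      obtain ⟨k, N, π, hN, hπ⟩ := exists_resolution_ge M hM L L' hL ε₀ n₀
      have hNq : (⨁ N).IsQuasicoherent := by
        refine Groth.Agent.Lib.Helper11.AffineCrit.isQuasicoherent_biproduct' N fun j => ?_
        obtain ⟨m', -, hm'⟩ := hN j
        rw [hm']
        exact isQuasicoherent_of_isInvertible (isInvertible_tensorPow hL' m')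
      let S : ShortComplex X.Modules := ShortComplex.mk (kernel.ι π) π (kernel.condition _)
      have hS : S.ShortExact := ShortComplex.ShortExact.mk' (ShortComplex.exact_kernel π)
        (inferInstanceAs (Mono (kernel.ι π))) hπ
      refine subsingleton_HH_X₃ hS p ?_ ?_
      · refine subsingleton_HH_biproduct N p fun j => ?_
        obtain ⟨m', hm', hj⟩ := hN j
        rw [hj]
        exact h m' hm' p hp
      · exact ih' (kernel π) (isQuasicoherent_kernel π hNq hqM)
  exact key d p hp (Nat.le_add_left d p) F hqF

end Aux

/-- Let S be an integral scheme, separated and of finite type over an algebraically closed field k, with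
all local rings regular, let L be an ample invertible O_S-module with tensor inverse M (so S is
quasi-projective and M^{⊗m} plays the role of O_S(-m)), and let r ≥ 0. If there is m₀ such that
H^i(S, M^{⊗m}) = 0 for every i > r and every m ≥ m₀, then H^i(S, F) = 0 for every i > r and every
coherent O_S-module F. (The published statement takes O_S(1) from a quasi-projective embedding; the
printed proof uses only that F ⊗ O_S(m) is generated by finitely many global sections for m ≫ 0,
which holds for any ample L.) -/
theorem result (k : Type u) [Field k] [IsAlgClosed k] (S : Scheme.{u})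
    [S.Over (Spec (CommRingCat.of k))] [IsSeparated (S ↘ (Spec (CommRingCat.of k)))]
    [LocallyOfFiniteType (S ↘ (Spec (CommRingCat.of k)))] [QuasiCompact (S ↘ (Spec (CommRingCat.of k)))]
    [IsIntegral S] (hreg : ∀ x : S, IsRegularLocalRing (S.presheaf.stalk x))
    (L M : S.Modules) (hL : CohB1.IsAmple L) (hM : ClSub.IsInverseOf M L) (r : ℕ)
    (hneg : ∃ m₀ : ℕ, ∀ m : ℕ, m₀ ≤ m → ∀ i : ℕ, r < i → Subsingleton (Coh.HH S (CohB1.tensorPow M m) i))
    (F : S.Modules) (hF : Coh.IsCoh F) (i : ℕ) (hi : r < i) :
    Subsingleton (Coh.HH S F i) := by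
  obtain ⟨ε⟩ := hM
  obtain ⟨m₀, hm₀⟩ := hneg
  exact subsingleton_HH_of_ample_gt L M hL
    (Groth.Agent.Lib.Helper11.GenLocus.tensorModBraid L M ≪≫ ε) r m₀ hm₀ i hi F hF.1

end Groth.Agent.S11377
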