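import Groth.Statements.S11389
import Groth.Agent.Lib.Helper45.Dev.FiniteGeneric2

set_option linter.style.haveILetI false

set_option autoImplicit false
universe u
open CategoryTheory CategoryTheory.Limits AlgebraicGeometry TopologicalSpace
open Variety

namespace Groth.Agent.S11389

/-- Let k be an algebraically closed field, X and Y integral schemes separated and of finite type over
k, and f : X ⟶ Y a finite surjective k-morphism of degree m = [K(X) : K(Y)], computed as the rank of
the stalk of f_*O_X at the generic point of Y over the function field K(Y). Then for every coherent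
O_Y-module F there exist a coherent O_X-module G and a morphism u : f_*G ⟶ F^{⊕m} whose restriction
to some open neighbourhood of the generic point of Y is an isomorphism. -/
theorem result
    (k : Type u) [Field k] [IsAlgClosed k] (X Y : Scheme.{u})
    [X.Over (Spec (CommRingCat.of k))] [Y.Over (Spec (CommRingCat.of k))]
    [IsSeparated (X ↘ (Spec (CommRingCat.of k)))] [LocallyOfFiniteType (X ↘ (Spec (CommRingCat.of k)))]
    [IsSeparated (Y ↘ (Spec (CommRingCat.of k)))] [LocallyOfFiniteType (Y ↘ (Spec (CommRingCat.of k)))]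
    [QuasiCompact (Y ↘ (Spec (CommRingCat.of k)))]
    [IsIntegral X] [IsIntegral Y] (f : X ⟶ Y) [IsFinite f] [Surjective f]
    (hf : f ≫ (Y ↘ (Spec (CommRingCat.of k))) = X ↘ (Spec (CommRingCat.of k)))
    (F : Y.Modules) (hF : Coh.IsCoh F) :
    ∃ (G : X.Modules) (u : (Scheme.Modules.pushforward f).obj G ⟶
        ∐ fun _ : Fin (Module.finrank (Y.functionField)
            (((Scheme.Modules.pushforward f).obj (Coh.structureModule X)).presheaf.stalk (genericPoint Y))) => F),
      Coh.IsCoh G ∧ ∃ V : Y.Opens, genericPoint Y ∈ V ∧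
        IsIso ((Scheme.Modules.restrictFunctor V.ι).map u) := by
  classical
  open Groth.Agent.Lib.Helper45 Groth.Agent.Lib.Helper49 Groth.Agent.Lib.Helper45.GraphTrick
    Groth.Agent.Lib.Helper45.DevRoots Groth.Agent.Lib.Helper45.FiniteGeneric in
  letI := @Abelian.hasFiniteBiproducts Y.Modules _ _
  -- Noetherianity
  haveI : IsLocallyNoetherian Y :=
    LocallyOfFiniteType.isLocallyNoetherian (Y ↘ (Spec (CommRingCat.of k)))
  haveI : CompactSpace Y :=
    QuasiCompact.compactSpace_of_compactSpace (Y ↘ (Spec (CommRingCat.of k)))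
  haveI : IsNoetherian Y := {}
  haveI : IsLocallyNoetherian X :=
    LocallyOfFiniteType.isLocallyNoetherian (X ↘ (Spec (CommRingCat.of k)))
  -- the local ring at the generic point is a field
  have hmax : ∀ a ∈ IsLocalRing.maximalIdeal (Y.presheaf.stalk (genericPoint ↥Y)), a = 0 := by
    letI : Field (Y.presheaf.stalk (genericPoint ↥Y)) := inferInstanceAs (Field Y.functionField)
    intro a ha
    rw [IsLocalRing.maximalIdeal_eq_bot] at ha
    exact ha
  obtain ⟨d, G, β₀, hd, hG, hβ₀, ⟨eO⟩⟩ := exists_hom_power_rank f F hF (genericPoint ↥Y) hmax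
  have hrank : Module.finrank (Y.functionField)
      (((Scheme.Modules.pushforward f).obj (Coh.structureModule X)).presheaf.stalk
        (genericPoint Y)) = d := by
    have h1 := LinearEquiv.finrank_eq eO
    rw [Module.finrank_fin_fun] at h1
    exact h1
  rw [hrank]
  haveI := hG.1
  have hfG : Coh.IsCoh ((Scheme.Modules.pushforward f).obj G) :=
    ⟨isQuasicoherent_pushforward _ f, isFiniteType_pushforward_of_isFinite f _ hG.2⟩
  have hB : Coh.IsCoh (⨁ fun _ : Fin d => F) := isCoh_biproduct _ fun _ => hF
  haveI := hfG.1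
  haveI := hB.1
  obtain ⟨V, hV, hiso⟩ := exists_isIso_restrict_of_stalkMap_bijective hfG.2 hB.2 β₀
    (genericPoint ↥Y) hβ₀
  let κ : (⨁ fun _ : Fin d => F) ≅ ∐ fun _ : Fin d => F := biproduct.isoCoproduct _
  refine ⟨G, β₀ ≫ κ.hom, hG, V, hV, ?_⟩
  rw [Functor.map_comp]
  infer_instance

end Groth.Agent.S11389
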