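import Groth.Statements.S11395
import Groth.Agent.Lib.Helper75.AAGroup
import Groth.Agent.Lib.Helper75.AAPoint
-- import your own Groth.Agent.* helpers here

set_option autoImplicit false
universe u
open CategoryTheory MonoidalCategory CartesianMonoidalCategory MonObj GrpObj AlgebraicGeometry CategoryTheory.Limits
open AlgGrp

namespace Groth.Agent.S11395

/-- Over an algebraically closed field k, let X, Y and Z be k-schemes of finite type such that the only
global functions on X are the constants, Y is connected and Z is separated over k. Let f : X × Y → Z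
be a k-morphism and y₀, z₀ rational points of Y, Z such that the restriction of f to X × y₀ is the
constant morphism with value z₀ (as a morphism of schemes; for reduced X this is the condition on
closed points). Then there is a unique morphism g : Y → Z with f = g ∘ pr₂. -/
theorem result (k : Type u) [Field k] [IsAlgClosed k]
    (X Y Z : Over (Spec (CommRingCat.of k))) [LocallyOfFiniteType X.hom] [QuasiCompact X.hom]
    [LocallyOfFiniteType Y.hom] [QuasiCompact Y.hom] [LocallyOfFiniteType Z.hom] [QuasiCompact Z.hom]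
    (hX : Function.Bijective ((Scheme.ΓSpecIso (CommRingCat.of k)).inv ≫ X.hom.appTop).hom)
    [ConnectedSpace ↥Y.left] [IsSeparated Z.hom]
    (f : X ⊗ Y ⟶ Z) (y₀ : 𝟙_ (Over (Spec (CommRingCat.of k))) ⟶ Y) (z₀ : 𝟙_ (Over (Spec (CommRingCat.of k))) ⟶ Z)
    (hf : (X ◁ y₀) ≫ f = toUnit _ ≫ z₀) :
    ∃! g : Y ⟶ Z, f = snd X Y ≫ g := by
  have hconn : ConnectedSpace X.left :=
    Groth.Agent.Lib.Helper75.AAGroup.connectedSpace_of_bijective k X.hom hX
  obtain ⟨x₀⟩ := Groth.Agent.Lib.Helper75.AAPoint.exists_point k X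
  have hN : IsLocallyNoetherian Y.left := LocallyOfFiniteType.isLocallyNoetherian Y.hom
  have e1 : lift x₀ y₀ = lift x₀ (𝟙 _) ≫ (X ◁ y₀) := by
    apply CartesianMonoidalCategory.hom_ext
    · rw [lift_fst, Category.assoc, whiskerLeft_fst, lift_fst]
    · rw [lift_snd, Category.assoc, whiskerLeft_snd, lift_snd_assoc, Category.id_comp]
  have hz : lift x₀ y₀ ≫ f = z₀ := by
    rw [e1, Category.assoc, hf, ← Category.assoc, toUnit_unique (lift x₀ (𝟙 _) ≫ toUnit _) (𝟙 _),
      Category.id_comp]
  have hf' : (X ◁ y₀) ≫ f = toUnit _ ≫ lift x₀ y₀ ≫ f := by rw [hf, hz]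
  have key := Groth.Agent.Lib.Helper75.AARigidity.aa_rigidity k X Y Z hX x₀ y₀ f hf'
  refine ⟨lift (toUnit Y ≫ x₀) (𝟙 Y) ≫ f, key, ?_⟩
  intro g' hg'
  rw [hg', ← Category.assoc, lift_snd, Category.id_comp]

end Groth.Agent.S11395
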