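import Groth.Statements.S11421
import Groth.Agent.Lib.Helper75.AAGroup
import Groth.Agent.Lib.Helper75.AAPoint
import Groth.Agent.Lib.Helper41.SepPoints3
-- import your own Groth.Agent.* helpers here

set_option autoImplicit false
universe u
open CategoryTheory MonoidalCategory CartesianMonoidalCategory MonObj GrpObj AlgebraicGeometry CategoryTheory.Limits
open AlgGrp

namespace Groth.Agent.S11421

/-- Over an algebraically closed field k, let G be an algebraic group (smooth k-group scheme of finite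
type) whose only global functions are the constants, H a connected algebraic group, S a connected
k-scheme of finite type and f : G × S → H a morphism of k-schemes. Then there are a unique
k-morphism φ : S → H and a unique homomorphism ψ : G → H with f(g, s) = φ(s) · ψ(g) on points. (This
is the decomposition, over a connected base, behind the identification of the functor of morphisms
from G to H with H × Hom_gp(G, H); the published statement is the equivalence of representability of
that functor with anti-affineness of G, whose converse direction is not stated here.) -/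
theorem result (k : Type u) [Field k] [IsAlgClosed k]
    (G H S : Over (Spec (CommRingCat.of k))) [GrpObj G] [Smooth G.hom] [QuasiCompact G.hom]
    (hG : Function.Bijective ((Scheme.ΓSpecIso (CommRingCat.of k)).inv ≫ G.hom.appTop).hom)
    [GrpObj H] [Smooth H.hom] [QuasiCompact H.hom] [ConnectedSpace ↥H.left]
    [LocallyOfFiniteType S.hom] [QuasiCompact S.hom] [ConnectedSpace ↥S.left]
    (f : G ⊗ S ⟶ H) :
    ∃ (φ : S ⟶ H) (ψ : G ⟶ H), IsMonHom ψ ∧ f = (snd G S ≫ φ) * (fst G S ≫ ψ) ∧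
      ∀ (φ' : S ⟶ H) (ψ' : G ⟶ H), IsMonHom ψ' → f = (snd G S ≫ φ') * (fst G S ≫ ψ') → φ' = φ ∧ ψ' = ψ := by
  have hHsep : IsSeparated H.hom := Groth.Agent.Lib.Helper41.SepPoints3.isSeparated_of_field H
  have hN : IsLocallyNoetherian S.left := LocallyOfFiniteType.isLocallyNoetherian S.hom
  obtain ⟨s₀⟩ := Groth.Agent.Lib.Helper75.AAPoint.exists_point k S
  -- the two partial maps
  obtain ⟨φ, hφ⟩ : ∃ φ : S ⟶ H, φ = lift (toUnit S ≫ η[G]) (𝟙 S) ≫ f := ⟨_, rfl⟩
  obtain ⟨F, hFdef⟩ : ∃ F : G ⊗ S ⟶ H, F = (snd G S ≫ φ)⁻¹ * f := ⟨_, rfl⟩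
  obtain ⟨ψ, hψ⟩ : ∃ ψ : G ⟶ H, ψ = lift (𝟙 G) (toUnit G ≫ s₀) ≫ F := ⟨_, rfl⟩
  have hFe : lift (toUnit S ≫ η[G]) (𝟙 S) ≫ F = toUnit S ≫ η[H] := by
    rw [hFdef, comp_mul, GrpObj.comp_inv, lift_snd_assoc, Category.id_comp, ← hφ, inv_mul_cancel,
      Hom.one_def]
  have hψe : η[G] ≫ ψ = η[H] := by
    have e1 : η[G] ≫ lift (𝟙 G) (toUnit G ≫ s₀) = s₀ ≫ lift (toUnit S ≫ η[G]) (𝟙 S) := by
      rw [comp_lift, comp_lift, Category.comp_id, Category.comp_id, ← Category.assoc,
        ← Category.assoc, toUnit_unique (η[G] ≫ toUnit G) (𝟙 _),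
        toUnit_unique (s₀ ≫ toUnit S) (𝟙 _), Category.id_comp, Category.id_comp]
    rw [hψ, ← Category.assoc, e1, Category.assoc, hFe, ← Category.assoc,
      toUnit_unique (s₀ ≫ toUnit S) (𝟙 _), Category.id_comp]
  have hD : F * (fst G S ≫ ψ)⁻¹ = toUnit (G ⊗ S) ≫ η[H] := by
    apply Groth.Agent.Lib.Helper75.AAGroup.aa_rigidity_const k G S H hG _ η[G] s₀ η[H]
    · rw [comp_mul, GrpObj.comp_inv, lift_fst_assoc, Category.id_comp, ← hψ, mul_inv_cancel,
        Hom.one_def]
    · rw [comp_mul, GrpObj.comp_inv, lift_fst_assoc, Category.assoc, hψe, hFe, ← Hom.one_def,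
        inv_one, _root_.mul_one]
  have hFψ : F = fst G S ≫ ψ := by
    rw [← Hom.one_def, mul_inv_eq_one] at hD
    exact hD
  have hψmon : IsMonHom ψ :=
    Groth.Agent.Lib.Helper75.AAGroup.isMonHom_of_pointed_aa k G H hG ψ hψe
  have hf : f = (snd G S ≫ φ) * (fst G S ≫ ψ) := by
    rw [← hFψ, hFdef, mul_inv_cancel_left]
  refine ⟨φ, ψ, hψmon, hf, ?_⟩
  intro φ' ψ' hψ'mon hf'
  have hφ' : φ' = φ := by
    rw [hφ, hf', comp_mul, lift_snd_assoc, Category.id_comp, lift_fst_assoc, Category.assoc,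
      IsMonHom.one_hom, ← Hom.one_def, _root_.mul_one]
  refine ⟨hφ', ?_⟩
  have h1 : fst G S ≫ ψ' = fst G S ≫ ψ := by
    have h2 : (snd G S ≫ φ) * (fst G S ≫ ψ') = (snd G S ≫ φ) * (fst G S ≫ ψ) := by
      rw [← hf, ← hφ', ← hf']
    exact mul_left_cancel h2
  have := congrArg (fun t => lift (𝟙 G) (toUnit G ≫ s₀) ≫ t) h1
  simpa using this

end Groth.Agent.S11421
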