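import Groth.Statements.S11404
import Groth.Agent.S11421
import Groth.Agent.Lib.Helper75.AbVarOfSmooth
import Groth.Agent.Lib.Helper75.ConstAffine
import Groth.Agent.Lib.Helper41.SepPoints3
-- import your own Groth.Agent.* helpers here

set_option autoImplicit false
universe u
open CategoryTheory MonoidalCategory CartesianMonoidalCategory MonObj GrpObj AlgebraicGeometry CategoryTheory.Limits
open AlgGrp

namespace Groth.Agent.S11404

/-- Over an algebraically closed field k, let A be an abelian variety (a proper, smooth, connected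
k-group scheme) and S a connected k-scheme of finite type. For every automorphism f of A × S over S
there are a unique k-morphism g : S → A and a unique group automorphism h of A with f(a, s) = (g(s)
· h(a), s) on points. (This is the functor-of-points form, over a connected base, of the
identification of the automorphism group scheme of A with the semidirect product of A, acting by
translations, and the constant group of group automorphisms; in particular the neutral component is
A.) -/
theorem result (k : Type u) [Field k] [IsAlgClosed k]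
    (A S : Over (Spec (CommRingCat.of k))) [GrpObj A] [IsProper A.hom] [Smooth A.hom] [ConnectedSpace ↥A.left]
    [LocallyOfFiniteType S.hom] [QuasiCompact S.hom] [ConnectedSpace ↥S.left]
    (f : A ⊗ S ≅ A ⊗ S) (hf : f.hom ≫ snd A S = snd A S) :
    ∃ (g : S ⟶ A) (h : A ⟶ A), IsMonHom h ∧ IsIso h ∧
      f.hom ≫ fst A S = (snd A S ≫ g) * (fst A S ≫ h) ∧
      ∀ (g' : S ⟶ A) (h' : A ⟶ A), IsMonHom h' →
        f.hom ≫ fst A S = (snd A S ≫ g') * (fst A S ≫ h') → g' = g ∧ h' = h := by
  have hqcA : QuasiCompact A.hom := inferInstance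
  have hlft : LocallyOfFiniteType A.hom := inferInstance
  have hirr : IrreducibleSpace A.left :=
    Groth.Agent.Lib.Helper75.AbVarOfSmooth.irreducibleSpace_of_grpObj A
  have hred : IsReduced A.left := Groth.Agent.Lib.Helper41.SepPoints3.isReduced_of_smooth A
  have hint : IsIntegral A.left := isIntegral_of_irreducibleSpace_of_isReduced _
  have hA : Function.Bijective ((Scheme.ΓSpecIso (CommRingCat.of k)).inv ≫ A.hom.appTop).hom := by
    refine ⟨RingHom.injective _, ?_⟩
    intro t
    obtain ⟨c, hc⟩ := Groth.Agent.Lib.Helper75.ConstAffine.appTop_surjective k A.hom t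
    refine ⟨(Scheme.ΓSpecIso (CommRingCat.of k)).hom c, ?_⟩
    rw [CommRingCat.hom_comp, RingHom.comp_apply]
    have : (Scheme.ΓSpecIso (CommRingCat.of k)).inv.hom ((Scheme.ΓSpecIso (CommRingCat.of k)).hom c)
        = c := CategoryTheory.Iso.hom_inv_id_apply (Scheme.ΓSpecIso (CommRingCat.of k)) c
    rw [this]
    exact hc
  have hf' : f.inv ≫ snd A S = snd A S := by
    conv_lhs => rw [← hf]
    rw [← Category.assoc, Iso.inv_hom_id, Category.id_comp]
  obtain ⟨φ, ψ, hψ, hdec, huniq⟩ := Groth.Agent.S11421.result k A A S hA (f.hom ≫ fst A S)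
  obtain ⟨φ', ψ', hψ', hdec', huniq'⟩ := Groth.Agent.S11421.result k A A S hA (f.inv ≫ fst A S)
  obtain ⟨φ₀, ψ₀, hψ₀, hdec₀, huniq₀⟩ := Groth.Agent.S11421.result k A A S hA (fst A S)
  have hid : 𝟙 A = ψ₀ := by
    have := huniq₀ 1 (𝟙 A) inferInstance (by
      rw [Category.comp_id, MonObj.comp_one, _root_.one_mul])
    exact this.2
  -- a general composition formula
  have hcompose : ∀ (u : A ⊗ S ≅ A ⊗ S) (hu : u.hom ≫ snd A S = snd A S)
      (φ₁ φ₂ : S ⟶ A) (ψ₁ ψ₂ : A ⟶ A) (_ : IsMonHom ψ₂),
      u.hom ≫ fst A S = (snd A S ≫ φ₁) * (fst A S ≫ ψ₁) →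
      u.inv ≫ fst A S = (snd A S ≫ φ₂) * (fst A S ≫ ψ₂) →
      fst A S = (snd A S ≫ (φ₂ * (φ₁ ≫ ψ₂))) * (fst A S ≫ (ψ₁ ≫ ψ₂)) := by
    intro u hu φ₁ φ₂ ψ₁ ψ₂ _ h1 h2
    have e1 : fst A S = u.hom ≫ u.inv ≫ fst A S := by
      rw [← Category.assoc, Iso.hom_inv_id, Category.id_comp]
    rw [h2, comp_mul, ← Category.assoc, hu, ← Category.assoc u.hom, h1, mul_comp,
      Category.assoc, Category.assoc] at e1
    rw [comp_mul, _root_.mul_assoc]
    exact e1
  have h12 : ψ ≫ ψ' = 𝟙 A := by
    have e := hcompose f hf φ φ' ψ ψ' hψ' hdec hdec'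
    have : IsMonHom (ψ ≫ ψ') := by
      have := hψ; have := hψ'
      infer_instance
    rw [hid]
    exact (huniq₀ _ _ this e).2
  have h21 : ψ' ≫ ψ = 𝟙 A := by
    have e := hcompose f.symm (by simpa using hf') φ' φ ψ' ψ hψ (by simpa using hdec')
      (by simpa using hdec)
    have : IsMonHom (ψ' ≫ ψ) := by
      have := hψ; have := hψ'
      infer_instance
    rw [hid]
    exact (huniq₀ _ _ this e).2
  refine ⟨φ, ψ, hψ, ⟨ψ', h12, h21⟩, hdec, ?_⟩
  intro g' h' hh' hdec''
  exact huniq g' h' hh' hdec''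

end Groth.Agent.S11404
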