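import Groth.Statements.S18096
import Groth.Agent.Lib.Helper84.Affn.Basic
import Groth.Agent.Lib.Helper84.GLnRep
import Groth.Agent.Lib.Helper84.CorepTriv
import Groth.Agent.Lib.Helper84.AffGrpSch.Basic
-- import your own Groth.Agent.* helpers here

set_option autoImplicit false
universe u
open CategoryTheory MonoidalCategory CartesianMonoidalCategory MonObj GrpObj AlgebraicGeometry CategoryTheory.Limits
open AlgGrp

namespace Groth.Agent.S18096

/-- Let k be a field and G a k-group scheme of finite type. Then G is anti-affine, i.e. O(G) = k, if and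
only if every finite-dimensional linear representation of G is trivial, i.e. for every n every
homomorphism G → GL_{n,k} is trivial. -/
theorem result (k : Type u) [Field k]
    (G : Over (Spec (CommRingCat.of k))) [GrpObj G] [LocallyOfFiniteType G.hom] [QuasiCompact G.hom] :
    Function.Bijective ((Scheme.ΓSpecIso (CommRingCat.of k)).inv ≫ G.hom.appTop).hom ↔
      ∀ (n : ℕ) (ρ : G ⟶ FrB.GLn n (Spec (CommRingCat.of k))), IsMonHom ρ → ρ = 1 := by
  constructor
  · -- anti-affine ⟹ all representations trivial
    intro hbij n ρ hρ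
    have h1 : IsIso ((Scheme.ΓSpecIso (CommRingCat.of k)).inv ≫ G.hom.appTop) :=
      (ConcreteCategory.isIso_iff_bijective _).2 hbij
    have h2 : IsIso G.hom.appTop := by
      have h3 : G.hom.appTop = (Scheme.ΓSpecIso (CommRingCat.of k)).hom ≫
          ((Scheme.ΓSpecIso (CommRingCat.of k)).inv ≫ G.hom.appTop) := by
        rw [Iso.hom_inv_id_assoc]
      rw [h3]
      infer_instance
    have h4 : IsIso (toUnit G).left.appTop := by
      have : (toUnit G).left = G.hom := Over.toUnit_left
      rw [this]
      exact h2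
    have hA : IsAffine (FrB.GLn n (Spec (CommRingCat.of k))).left := by
      have hZ : IsAffine (FrB.GLZ n).left := inferInstanceAs (IsAffine (Spec _))
      dsimp only [FrB.GLn, Red.bc]
      simp only [Over.pullback_obj_left]
      infer_instance
    obtain ⟨c, hc⟩ := Groth.Agent.Lib.Helper14.QuasiAffineGroup.over_exists_lift_of_isIso_appTop
      (toUnit G) ρ
    have h5 : c = η[FrB.GLn n (Spec (CommRingCat.of k))] := by
      have h6 : η[G] ≫ ρ = η[FrB.GLn n (Spec (CommRingCat.of k))] := IsMonHom.one_hom ρ
      rw [← h6, ← hc, ← Category.assoc, toUnit_unique (η[G] ≫ toUnit G) (𝟙 _), Category.id_comp]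
    rw [← hc, h5, Hom.one_def]
  · -- all representations trivial ⟹ anti-affine
    intro hρ
    obtain ⟨hG1, hG2⟩ := Groth.Agent.Lib.Helper84.Affn.qcqs_of_grp G
    obtain ⟨inst, hmon⟩ := Groth.Agent.Lib.Helper84.Affn.exists_grpObj_affObj G
    obtain ⟨A, _, _, e, he⟩ := Groth.Agent.Lib.Helper84.AffGrpSch.exists_hopf_iso
      (Groth.Agent.Lib.Helper84.Affn.affObj G)
    have := he
    have hqinj : Function.Injective (Groth.Agent.Lib.Helper84.Affn.affMap G).left.appTop :=
      ((ConcreteCategory.isIso_iff_bijective _).1 inferInstance).1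
    have hsurj : Function.Surjective (algebraMap k A) := by
      apply Groth.Agent.Lib.Helper84.CorepTriv.algebraMap_surjective_of_forall_corep_trivial
      intro n c hΔ hε
      obtain ⟨ρ, hρm, hρc⟩ := Groth.Agent.Lib.Helper84.GLnRep.exists_hom_GLn_of_corep e c hΔ hε
      have h1 := hρ n (Groth.Agent.Lib.Helper84.Affn.affMap G ≫ ρ) inferInstance
      have h2 : (Groth.Agent.Lib.Helper84.GLnSch.glMat ρ).map
          (Groth.Agent.Lib.Helper84.Affn.affMap G).left.appTop = 1 := by
        rw [← Groth.Agent.Lib.Helper84.GLnSch.glMat_comp, h1,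
          Groth.Agent.Lib.Helper84.GLnSch.glMat_one]
      have h3 : Groth.Agent.Lib.Helper84.GLnSch.glMat ρ = 1 := by
        ext i j
        apply hqinj
        have := congrFun (congrFun h2 i) j
        rw [Matrix.map_apply] at this
        rw [this, Matrix.one_apply, Matrix.one_apply]
        split_ifs
        · exact (map_one _).symm
        · exact (map_zero _).symm
      rw [hρc] at h3
      ext i j
      have h4 := congrFun (congrFun h3 i) j
      rw [Matrix.map_apply] at h4
      have h5 := congrArg (Groth.Agent.Lib.Helper84.Obs.valOf e) h4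
      rw [Groth.Agent.Lib.Helper84.Obs.valOf_fnOf] at h5
      rw [h5, Matrix.one_apply, Matrix.one_apply]
      unfold Groth.Agent.Lib.Helper84.Obs.valOf
      split_ifs
      · rw [map_one]
        exact map_one (Scheme.ΓSpecIso (CommRingCat.of A)).hom.hom
      · rw [map_zero]
        exact map_zero (Scheme.ΓSpecIso (CommRingCat.of A)).hom.hom
    have hbij : Function.Bijective (algebraMap k A) := by
      refine ⟨?_, hsurj⟩
      have : Nontrivial A := by
        refine ⟨⟨0, 1, fun h01 => ?_⟩⟩
        have := congrArg (Bialgebra.counitAlgHom k A) h01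
        simp at this
      exact (algebraMap k A).injective
    have hiso : IsIso (CommRingCat.ofHom (algebraMap k A)) :=
      (ConcreteCategory.isIso_iff_bijective _).2 hbij
    have he1 : IsIso e.inv.left := inferInstanceAs (IsIso ((Over.forget _).map e.inv))
    have he2 : IsIso e.inv.left.appTop := inferInstanceAs (IsIso (Scheme.Γ.map e.inv.left.op))
    have hw : e.inv.left ≫ (CoactBr.sp k A).hom = (Groth.Agent.Lib.Helper84.Affn.affObj G).hom :=
      Over.w e.inv
    have h1 : G.hom = (Groth.Agent.Lib.Helper84.Affn.affMap G).left ≫ e.inv.left ≫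
        (CoactBr.sp k A).hom := by
      rw [hw, Over.w]
    have h2 : G.hom.appTop = (CoactBr.sp k A).hom.appTop ≫ e.inv.left.appTop ≫
        (Groth.Agent.Lib.Helper84.Affn.affMap G).left.appTop := by
      rw [h1]
      rfl
    have h3 : (Scheme.ΓSpecIso (CommRingCat.of k)).inv ≫ (CoactBr.sp k A).hom.appTop =
        CommRingCat.ofHom (algebraMap k A) ≫ (Scheme.ΓSpecIso (CommRingCat.of A)).inv :=
      (Scheme.ΓSpecIso_inv_naturality (CommRingCat.ofHom (algebraMap k A))).symm
    have a1 : IsIso (e.inv.left.appTop ≫
        (Groth.Agent.Lib.Helper84.Affn.affMap G).left.appTop) := IsIso.comp_isIso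
    have a2 : IsIso ((Scheme.ΓSpecIso (CommRingCat.of k)).inv ≫ (CoactBr.sp k A).hom.appTop) := by
      rw [h3]
      exact @IsIso.comp_isIso _ _ _ _ _ _ _ hiso
        (Iso.isIso_inv (Scheme.ΓSpecIso (CommRingCat.of A)))
    have hfinal : IsIso ((Scheme.ΓSpecIso (CommRingCat.of k)).inv ≫ G.hom.appTop) := by
      rw [h2, ← Category.assoc]
      exact @IsIso.comp_isIso _ _ _ _ _ _ _ a2 a1
    exact (ConcreteCategory.isIso_iff_bijective _).1 hfinal

end Groth.Agent.S18096
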