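import Groth.Statements.S11405
import Groth.Agent.S18096
import Groth.Agent.Lib.Helper84.AffSp.AntiAff
import Groth.Agent.Lib.Helper84.AffSp.LinAct
import Groth.Agent.Lib.Helper84.AffSp.Props
import Groth.Agent.Lib.Helper84.Affn.GModFn
import Groth.Agent.Lib.Helper84.Affn.GModOfHom
-- import your own Groth.Agent.* helpers here

set_option autoImplicit false
universe u
open CategoryTheory MonoidalCategory CartesianMonoidalCategory MonObj GrpObj AlgebraicGeometry CategoryTheory.Limits
open AlgGrp

namespace Groth.Agent.S11405

/-- Over an algebraically closed field k, the following are equivalent for an algebraic group G (a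
smooth k-group scheme of finite type): (i) the only global functions on G are the constants; (ii)
every finite-dimensional linear representation of G is trivial (every point of G with values in a
k-algebra B acts as the identity on B ⊗ M, for every G-module structure on a finite-dimensional
k-vector space M); (iii) every action of G on a variety (integral, separated k-scheme of finite
type) with a fixed rational point is the trivial action. Stated as (i) ⇔ (ii) and (i) ⇔ (iii). -/
theorem result (k : Type u) [Field k] [IsAlgClosed k]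
    (G : Over (Spec (CommRingCat.of k))) [GrpObj G] [Smooth G.hom] [QuasiCompact G.hom] :
    (Function.Bijective ((Scheme.ΓSpecIso (CommRingCat.of k)).inv ≫ G.hom.appTop).hom ↔
      ∀ (M : Type u) [AddCommGroup M] [Module k M] [Module.Finite k M] (m : VecGrp.GMod G M)
        (B : Type u) [CommRing B] [Algebra k B] (g : VecGrp.pt k B ⟶ G), m.ρ B g = 1) ∧
    (Function.Bijective ((Scheme.ΓSpecIso (CommRingCat.of k)).inv ≫ G.hom.appTop).hom ↔
      ∀ (X : Over (Spec (CommRingCat.of k))) [LocallyOfFiniteType X.hom] [QuasiCompact X.hom] [IsSeparated X.hom]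
        [IsIntegral X.left] (a : AlgGrp.Action G X) (x : 𝟙_ (Over (Spec (CommRingCat.of k))) ⟶ X), a.IsFixedPt x → a.act = snd G X) := by
  have hlft : LocallyOfFiniteType G.hom := inferInstance
  obtain ⟨hc1, hc2⟩ := Groth.Agent.Lib.Helper84.Affn.qcqs_of_grp G
  refine ⟨⟨?_, ?_⟩, ⟨?_, ?_⟩⟩
  · intro hG M _ _ _ m B _ _ g
    exact Groth.Agent.Lib.Helper84.Affn.rho_eq_one_of_affMap_eq m B g
      (Groth.Agent.Lib.Helper84.Affn.hom_affObj_ext G hG _ _)
  · intro H
    rw [Groth.Agent.S18096.result k G]
    intro n ρ hρ
    exact Groth.Agent.Lib.Helper84.Affn.eq_one_of_gmodOfHom_trivial ρ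
      (fun B _ _ g => H (Fin n → k) (Groth.Agent.Lib.Helper84.Affn.gmodOfHom ρ) B g)
  · intro hG X _ _ _ _ a x hx
    have hnoe : IsLocallyNoetherian X.left := LocallyOfFiniteType.isLocallyNoetherian X.hom
    exact Groth.Agent.Lib.Helper84.Affn.act_eq_snd_of_antiAffine G X hG a x hx
  · intro H
    rw [Groth.Agent.S18096.result k G]
    intro n ρ hρ
    exact Groth.Agent.Lib.Helper84.AffSp.eq_one_of_act_eq_snd ρ
      (H (Groth.Agent.Lib.Helper84.AffSp.An k n) (Groth.Agent.Lib.Helper84.AffSp.linAction ρ)
        (Groth.Agent.Lib.Helper84.AffSp.vecPt 0)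
        (Groth.Agent.Lib.Helper84.AffSp.isFixedPt_zero ρ))

end Groth.Agent.S11405
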