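import Groth.Statements.S14597
import Groth.Agent.Lib.Helper84.Affn.ChartNoeth
import Groth.Agent.Lib.Helper26.QuotActionSch
-- import your own Groth.Agent.* helpers here

set_option autoImplicit false
universe u
open CategoryTheory MonoidalCategory CartesianMonoidalCategory MonObj GrpObj AlgebraicGeometry CategoryTheory.Limits
open AlgGrp

namespace Groth.Agent.S14597

/-- Let k be a field, G a k-group scheme of finite type acting on a separated, integral, locally
Noetherian k-scheme X and fixing a rational point x. Let n : N → G be the kernel of the action, i.e.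
the closed subgroup scheme whose points with values in a k-scheme T are the T-points of G acting as
the identity on X_T, and let q : G → Q be a flat surjective homomorphism of k-group schemes of
finite type with kernel N. Then Q is affine. (The published statement is for an irreducible locally
Noetherian X and the quotient C_G(x)/Ker of the stabiliser of x; restricting the action to the
stabiliser gives the case stated, and X is taken reduced here because the published proof uses that
the infinitesimal neighbourhoods of x are schematically dense in X.) -/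
theorem result (k : Type u) [Field k]
    (G X : Over (Spec (CommRingCat.of k))) [GrpObj G] [LocallyOfFiniteType G.hom] [QuasiCompact G.hom]
    [IsSeparated X.hom] [IsIntegral X.left] [IsLocallyNoetherian X.left]
    (a : AlgGrp.Action G X) (x : 𝟙_ (Over (Spec (CommRingCat.of k))) ⟶ X) (hx : a.IsFixedPt x)
    (N : Over (Spec (CommRingCat.of k))) [GrpObj N] (n : N ⟶ G) [IsMonHom n] [IsClosedImmersion n.left]
    (hN : ∀ (T : Over (Spec (CommRingCat.of k))) (g : T ⟶ G), (∃ m : T ⟶ N, m ≫ n = g) ↔
      ∀ (T' : Over (Spec (CommRingCat.of k))) (t : T' ⟶ T) (y : T' ⟶ X), lift (t ≫ g) y ≫ a.act = y)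
    (Q : Over (Spec (CommRingCat.of k))) [GrpObj Q] [LocallyOfFiniteType Q.hom] [QuasiCompact Q.hom]
    (q : G ⟶ Q) [IsMonHom q] [Surjective q.left] [Flat q.left] (hq : AlgGrp.IsKernel n q) :
    IsAffine Q.left := by
  have hGlft : LocallyOfFiniteType G.hom := inferInstance
  have hqc : QuasiCompact q.left :=
    Groth.Agent.Lib.Helper26.QuotActionSch.quasiCompact_of_lft_field k q
  have hex := Groth.Agent.Lib.Helper26.QuotActionSch.isExactSeq_fpqc_of_isKernel n q hq
  have hqu := Groth.Agent.Lib.Helper26.ExactSeqQuot.isUnivQuotHom_of_isExactSeq_fpqc hex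
  have huv : n ≫ q = 1 := hex.2.2.1
  have hcov := Groth.Agent.Lib.Helper26.QuotActionSch.exists_lift_of_flat_surjective q
  have htriv : ∀ (W : Over (Spec (CommRingCat.of k))) (m : W ⟶ N) (y : W ⟶ X),
      Groth.Agent.Lib.Helper26.PseudoTorsor.smul a.act (m ≫ n) y = y := by
    intro W m y
    have := (hN W (m ≫ n)).1 ⟨m, rfl⟩ W (𝟙 W) y
    rwa [Category.id_comp] at this
  obtain ⟨b₀, hb₀, hb₀'⟩ := Groth.Agent.Lib.Helper26.QuotAction.existsUnique_desc n q a.act
    a.mul_act htriv hqu
  let b : AlgGrp.Action Q X :=
    ⟨b₀, Groth.Agent.Lib.Helper26.QuotAction.desc_one_act q a.act a.one_act b₀ hb₀,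
      Groth.Agent.Lib.Helper26.QuotAction.desc_mul_act q a.act a.mul_act b₀ hb₀ hcov⟩
  have hfaith : ∀ (T : Over (Spec (CommRingCat.of k))) (g : T ⟶ Q),
      (∀ (T' : Over (Spec (CommRingCat.of k))) (t : T' ⟶ T) (y : T' ⟶ X),
        lift (t ≫ g) y ≫ b.act = y) → g = 1 := by
    intro T g hg
    exact Groth.Agent.Lib.Helper26.QuotAction.desc_faithful n q a.act b₀ hb₀ hcov hN huv T g hg
  have hfix : b.IsFixedPt x := by
    intro T t
    obtain ⟨T', p, y, hp, hy⟩ := hcov T t
    rw [← cancel_epi p, ← Category.assoc, comp_lift, ← hy]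
    have e1 : lift (y ≫ q) (p ≫ toUnit T ≫ x) = lift y (p ≫ toUnit T ≫ x) ≫ (q ▷ X) := by
      rw [lift_whiskerRight]
    have e2 : p ≫ toUnit T ≫ x = toUnit T' ≫ x := by
      rw [← Category.assoc]
      congr 1
      exact toUnit_unique _ _
    rw [e1, Category.assoc]
    show lift y (p ≫ toUnit T ≫ x) ≫ (q ▷ X) ≫ b₀ = _
    rw [hb₀, e2]
    exact hx T' y
  obtain ⟨hQ1, hQ2⟩ := Groth.Agent.Lib.Helper84.Affn.qcqs_of_grp Q
  exact Groth.Agent.Lib.Helper84.Affn.isAffine_of_faithful_of_fixedPt b hfaith x hfix

end Groth.Agent.S14597
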