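import Groth.Statements.S11409
import Groth.Agent.S14597
import Groth.Agent.Lib.Helper58.TrivAct4
import Groth.Agent.Lib.Helper70.WeilF
import Groth.Agent.Lib.Helper64.CurveGeom
-- import your own Groth.Agent.* helpers here

set_option autoImplicit false
universe u
open CategoryTheory MonoidalCategory CartesianMonoidalCategory MonObj GrpObj AlgebraicGeometry CategoryTheory.Limits
open AlgGrp

namespace Groth.Agent.S11409

/-- Over an algebraically closed field k, let G be a connected algebraic group (smooth k-group scheme of
finite type), j : Z → G its scheme-theoretic centre, and q : G → Q a flat surjective homomorphism of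
k-group schemes of finite type with kernel j (so Q = G/Z). Then Q is affine. (The published
statement also treats the quotients by Z_red and by its identity component; those are not stated
here.) -/
theorem result (k : Type u) [Field k] [IsAlgClosed k]
    (G : Over (Spec (CommRingCat.of k))) [GrpObj G] [Smooth G.hom] [QuasiCompact G.hom] [ConnectedSpace ↥G.left]
    (Z : Over (Spec (CommRingCat.of k))) [GrpObj Z] (j : Z ⟶ G) (hZ : Red.IsCentre j)
    (Q : Over (Spec (CommRingCat.of k))) [GrpObj Q] [LocallyOfFiniteType Q.hom] [QuasiCompact Q.hom]
    (q : G ⟶ Q) [IsMonHom q] [Surjective q.left] [Flat q.left] (hker : AlgGrp.IsKernel j q) :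
    IsAffine Q.left := by
  obtain ⟨hj1, hj2, hj3⟩ := hZ
  have hsep : IsSeparated G.hom := Groth.Agent.Lib.Helper70.WeilF.isSeparated_grpObj k G
  have hint : IsIntegral G.left :=
    Groth.Agent.Lib.Helper64.CurveGeom.isIntegral_of_connected_of_smooth k G.hom
  have hlft : LocallyOfFiniteType G.hom := inferInstance
  have hnoe : IsLocallyNoetherian G.left := LocallyOfFiniteType.isLocallyNoetherian G.hom
  have hcl : IsClosedImmersion j.left := by
    have sq := (hker.map (Over.forget _)).flip
    exact MorphismProperty.of_isPullback (P := @IsClosedImmersion) sq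
      (inferInstance : IsClosedImmersion η[Q].left)
  let a : AlgGrp.Action G G := Groth.Agent.Lib.Helper58.TrivAct4.conjAction (𝟙 G)
  have hfix : a.IsFixedPt η[G] := by
    intro T g
    rw [Groth.Agent.Lib.Helper58.TrivAct4.lift_conjAction_eq_iff, ← Hom.one_def,
      _root_.mul_one, _root_.one_mul]
  have hN : ∀ (T : Over (Spec (CommRingCat.of k))) (g : T ⟶ G), (∃ m : T ⟶ Z, m ≫ j = g) ↔
      ∀ (T' : Over (Spec (CommRingCat.of k))) (t : T' ⟶ T) (y : T' ⟶ G),
        lift (t ≫ g) y ≫ a.act = y := by
    intro T g
    rw [hj3 T g]
    constructor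
    · intro h T' t y
      rw [Groth.Agent.Lib.Helper58.TrivAct4.lift_conjAction_eq_iff, Category.comp_id]
      have := h T' t y
      rwa [Category.comp_id] at this
    · intro h T' t y
      have := h T' t y
      rw [Groth.Agent.Lib.Helper58.TrivAct4.lift_conjAction_eq_iff, Category.comp_id] at this
      rwa [Category.comp_id]
  exact Groth.Agent.S14597.result k G G a η[G] hfix Z j hN Q q hker

end Groth.Agent.S11409
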