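import Groth.Statements.S11411
-- import your own Groth.Agent.* helpers here

set_option autoImplicit false
universe u
open CategoryTheory MonoidalCategory CartesianMonoidalCategory MonObj GrpObj AlgebraicGeometry CategoryTheory.Limits
open AlgGrp

namespace Groth.Agent.S11411

/-- Over an algebraically closed field k, let G be an algebraic group (a smooth k-group scheme of finite
type) and N the kernel of the canonical morphism ρ : G → Spec O(G), i.e. the fibre of ρ over the
image of the unit. Then N is the smallest normal subgroup scheme of G with affine quotient: for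
every closed normal subgroup scheme H of G with a flat surjective homomorphism G → Q of k-group
schemes of finite type with kernel H and Q affine, the inclusion of N factors through H. And N is
the largest anti-affine subgroup scheme: every homomorphism and closed immersion into G from a
k-group scheme whose only global functions are the constants factors through N. (The published
statement also asserts O(N) = k, that N is a connected algebraic group central in G⁰, and O(G/N) =
O(G) finitely generated; those parts are not restated here.) -/
theorem result (k : Type u) [Field k] [IsAlgClosed k]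
    (G : Over (Spec (CommRingCat.of k))) [GrpObj G] [Smooth G.hom] [QuasiCompact G.hom] :
    (∀ (H Q : Over (Spec (CommRingCat.of k))) [GrpObj H] [GrpObj Q] (h : H ⟶ G) [IsMonHom h] [IsClosedImmersion h.left]
        [LocallyOfFiniteType Q.hom] [QuasiCompact Q.hom] (q : G ⟶ Q) [IsMonHom q] [Surjective q.left] [Flat q.left],
        AlgGrp.IsKernel h q → IsAffine Q.left →
        ∃ f : pullback G.left.toSpecΓ (η[G].left ≫ G.left.toSpecΓ) ⟶ H.left, f ≫ h.left = pullback.fst G.left.toSpecΓ (η[G].left ≫ G.left.toSpecΓ)) ∧
    (∀ (M : Over (Spec (CommRingCat.of k))) [GrpObj M] (j : M ⟶ G) [IsMonHom j] [IsClosedImmersion j.left],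
        Function.Bijective ((Scheme.ΓSpecIso (CommRingCat.of k)).inv ≫ M.hom.appTop).hom →
        ∃ f : M.left ⟶ pullback G.left.toSpecΓ (η[G].left ≫ G.left.toSpecΓ), f ≫ pullback.fst G.left.toSpecΓ (η[G].left ≫ G.left.toSpecΓ) = j.left) := by
  constructor
  · intro H Q _ _ h _ _ _ _ q _ _ _ hker hQ
    have sq := hker.map (Over.forget _)
    have hq1 : q.left ≫ Q.left.toSpecΓ = G.left.toSpecΓ ≫ Spec.map q.left.appTop :=
      Scheme.toSpecΓ_naturality q.left
    have hq2 : q.left = G.left.toSpecΓ ≫ Spec.map q.left.appTop ≫ inv Q.left.toSpecΓ := by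
      rw [← Category.assoc, ← hq1, Category.assoc, IsIso.hom_inv_id, Category.comp_id]
    have hηq : η[G].left ≫ q.left = η[Q].left := by
      rw [← Over.comp_left, IsMonHom.one_hom q]
    have hcond : pullback.fst G.left.toSpecΓ (η[G].left ≫ G.left.toSpecΓ) ≫ q.left =
        pullback.snd G.left.toSpecΓ (η[G].left ≫ G.left.toSpecΓ) ≫ η[Q].left := by
      rw [← hηq]
      conv_lhs => rw [hq2]
      conv_rhs => rw [hq2]
      rw [← Category.assoc, pullback.condition]
      simp only [Category.assoc]
    exact ⟨sq.lift _ _ hcond, sq.lift_fst _ _ hcond⟩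
  · intro M _ j _ _ hM
    have hηj : η[M].left ≫ j.left = η[G].left := by
      rw [← Over.comp_left, IsMonHom.one_hom j]
    have hηM : η[M].left ≫ M.hom = 𝟙 _ := Over.w η[M]
    have key : j.left.appTop = (M.hom ≫ η[G].left).appTop := by
      ext a
      have hsurj : Function.Surjective M.hom.appTop.hom := by
        intro b
        obtain ⟨c, hc⟩ := hM.2 b
        exact ⟨(Scheme.ΓSpecIso (CommRingCat.of k)).inv.hom c, hc⟩
      obtain ⟨c, hc⟩ := hsurj (j.left.appTop.hom a)
      have h1 : η[M].left.appTop.hom (j.left.appTop.hom a) = η[G].left.appTop.hom a := by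
        rw [← hηj, Scheme.Hom.comp_appTop]
        rfl
      have h2 : η[M].left.appTop.hom (M.hom.appTop.hom c) = c := by
        have e : (η[M].left ≫ M.hom).appTop = 𝟙 _ := by
          rw [hηM]
          simp
        have e2 := congrArg (fun m => m.hom c) e
        rw [Scheme.Hom.comp_appTop] at e2
        exact e2
      rw [← hc, h2] at h1
      rw [Scheme.Hom.comp_appTop, CommRingCat.hom_comp, RingHom.comp_apply, ← h1, hc]
    have hcond : j.left ≫ G.left.toSpecΓ = M.hom ≫ η[G].left ≫ G.left.toSpecΓ := by
      rw [Scheme.toSpecΓ_naturality, ← Category.assoc M.hom, Scheme.toSpecΓ_naturality, key]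
    exact ⟨pullback.lift j.left M.hom hcond, pullback.lift_fst _ _ _⟩

end Groth.Agent.S11411
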