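import Groth.Statements.S11416
import Groth.Agent.Lib.Helper84.Affn.GModFn
import Groth.Agent.Lib.Helper84.Affn.InjPts
-- import your own Groth.Agent.* helpers here

set_option autoImplicit false
universe u
open CategoryTheory MonoidalCategory CartesianMonoidalCategory MonObj GrpObj AlgebraicGeometry CategoryTheory.Limits
open AlgGrp

namespace Groth.Agent.S11416

/-- Over an algebraically closed field k, let G be an algebraic group (a smooth k-group scheme of finite
type) and M a rational G-module, not necessarily finite-dimensional: a k-vector space with a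
G-module structure (points of G with values in a k-algebra B act B-linearly on B ⊗ M, naturally in
B) such that every vector lies in a finite-dimensional subspace N with B ⊗ N stable under all
B-points of G. If the representation is faithful, in the sense that every rational point of G acting
as the identity on M is the identity element, then G is affine. -/
theorem result (k : Type u) [Field k] [IsAlgClosed k]
    (G : Over (Spec (CommRingCat.of k))) [GrpObj G] [Smooth G.hom] [QuasiCompact G.hom]
    (M : Type u) [AddCommGroup M] [Module k M] (m : VecGrp.GMod G M)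
    (hlf : ∀ v : M, ∃ N : Submodule k M, v ∈ N ∧ Module.Finite k ↥N ∧
      ∀ (B : Type u) [CommRing B] [Algebra k B] (g : VecGrp.pt k B ⟶ G) (x : VecGrp.W k M B),
        x ∈ Submodule.baseChange B N → m.ρ B g x ∈ Submodule.baseChange B N)
    (hfaith : ∀ g : VecGrp.pt k k ⟶ G, m.ρ k g = 1 → g = 1) :
    IsAffine G.left := by
  have hlft : LocallyOfFiniteType G.hom := inferInstance
  obtain ⟨hc1, hc2⟩ := Groth.Agent.Lib.Helper84.Affn.qcqs_of_grp G
  obtain ⟨inst, hmon⟩ := Groth.Agent.Lib.Helper84.Affn.exists_grpObj_affObj G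
  apply Groth.Agent.Lib.Helper84.Affn.isAffine_of_injective_on_points G
    (Groth.Agent.Lib.Helper84.Affn.affObj G) (Groth.Agent.Lib.Helper84.Affn.affMap G)
  intro z h hzh
  have h1 : (z * h⁻¹) ≫ Groth.Agent.Lib.Helper84.Affn.affMap G =
      (1 : 𝟙_ (Over (Spec (CommRingCat.of k))) ⟶ G) ≫ Groth.Agent.Lib.Helper84.Affn.affMap G := by
    rw [MonObj.mul_comp, GrpObj.inv_comp, hzh, mul_inv_cancel, MonObj.one_comp]
  let t : CoactBr.sp k k ⟶ 𝟙_ (Over (Spec (CommRingCat.of k))) := toUnit _
  have ht : IsIso t := by
    refine ⟨Groth.Agent.Lib.Helper84.Rosenlicht.Sch.u₀ k, ?_, toUnit_unique _ _⟩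
    apply Over.OverMorphism.ext
    show (toUnit (CoactBr.sp k k)).left ≫ 𝟙 _ = 𝟙 _
    rw [Category.comp_id, Over.toUnit_left]
    show Spec.map (CommRingCat.ofHom (algebraMap k k)) = 𝟙 _
    exact Spec.map_id _
  let g : CoactBr.sp k k ⟶ G := t ≫ (z * h⁻¹)
  have hg : g ≫ Groth.Agent.Lib.Helper84.Affn.affMap G =
      (1 : CoactBr.sp k k ⟶ G) ≫ Groth.Agent.Lib.Helper84.Affn.affMap G := by
    rw [Category.assoc, h1, ← Category.assoc, MonObj.comp_one]
  have h2 : m.ρ k g = 1 := Groth.Agent.Lib.Helper84.Affn.rho_eq_one_of_affMap_eq m k g hg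
  have h3 : g = 1 := hfaith g h2
  have h4 : t ≫ (z * h⁻¹) = t ≫ 1 := by
    rw [MonObj.comp_one]
    exact h3
  have h5 := (cancel_epi t).mp h4
  exact mul_inv_eq_one.mp h5

end Groth.Agent.S11416
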