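import Groth.Statements.S11418
import Mathlib
import Groth.Prelude.Def_ChGrp

set_option autoImplicit false
universe u
open CategoryTheory MonoidalCategory CartesianMonoidalCategory MonObj GrpObj AlgebraicGeometry CategoryTheory.Limits
open AlgGrp

namespace Groth.Agent.S11418

/-- Over an algebraically closed field k, let G be an affine algebraic group (smooth affine k-group
scheme of finite type) and π : X → Y a principal G-bundle of k-schemes of finite type: G acts on X,
π is G-invariant, faithfully flat, and the square formed by the action, the second projection G × X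
→ X and π is cartesian. Then the map θ sending a G-equivariant morphism f : X → G (for the
conjugation action on G, i.e. f(g·x) = g f(x) g⁻¹ on points) to the automorphism x ↦ f(x)·x is a
bijection onto the bundle automorphisms: every G-equivariant automorphism φ of X with π ∘ φ = π
equals θ(f) for exactly one such f. -/
theorem result (k : Type u) [Field k] [IsAlgClosed k]
    (G X Y : Over (Spec (CommRingCat.of k))) [GrpObj G] [Smooth G.hom] [QuasiCompact G.hom] [IsAffine G.left]
    [LocallyOfFiniteType X.hom] [QuasiCompact X.hom] [LocallyOfFiniteType Y.hom] [QuasiCompact Y.hom]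
    (a : AlgGrp.Action G X) (π : X ⟶ Y) (hinv : a.act ≫ π = snd G X ≫ π) [Flat π.left] [Surjective π.left]
    (hcart : IsPullback (snd G X) a.act π π)
    (φ : X ≅ X) (hφ : φ.hom ≫ π = π) (hφeq : (G ◁ φ.hom) ≫ a.act = a.act ≫ φ.hom) :
    ∃! f : X ⟶ G, (∀ (S : Over (Spec (CommRingCat.of k))) (g : S ⟶ G) (x : S ⟶ X),
        lift g x ≫ a.act ≫ f = g * (x ≫ f) * g⁻¹) ∧ φ.hom = lift f (𝟙 X) ≫ a.act := by
  have hw : 𝟙 X ≫ π = φ.hom ≫ π := by rw [Category.id_comp, hφ]
  let ℓ : X ⟶ G ⊗ X := hcart.lift (𝟙 X) φ.hom hw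
  have hℓ1 : ℓ ≫ snd G X = 𝟙 X := hcart.lift_fst _ _ _
  have hℓ2 : ℓ ≫ a.act = φ.hom := hcart.lift_snd _ _ _
  let f : X ⟶ G := ℓ ≫ fst G X
  have hℓ : ℓ = lift f (𝟙 X) := by
    apply CartesianMonoidalCategory.hom_ext
    · rw [lift_fst]
    · rw [lift_snd, hℓ1]
  have hφf : lift f (𝟙 X) ≫ a.act = φ.hom := by rw [← hℓ, hℓ2]
  have hfree : ∀ (S : Over (Spec (CommRingCat.of k))) (h₁ h₂ : S ⟶ G) (y : S ⟶ X),
      lift h₁ y ≫ a.act = lift h₂ y ≫ a.act → h₁ = h₂ := by
    intro S h₁ h₂ y h
    have e : lift h₁ y = lift h₂ y := hcart.hom_ext (by rw [lift_snd, lift_snd]) h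
    have e' := congr($e ≫ fst G X)
    rwa [lift_fst, lift_fst] at e'
  refine ⟨f, ⟨?_, ?_⟩, ?_⟩
  · intro S g x
    apply hfree S _ _ (lift g x ≫ a.act)
    have hL : lift (lift g x ≫ a.act ≫ f) (lift g x ≫ a.act) ≫ a.act =
        lift g x ≫ a.act ≫ φ.hom := by
      have e : lift (lift g x ≫ a.act ≫ f) (lift g x ≫ a.act) =
          (lift g x ≫ a.act) ≫ lift f (𝟙 X) := by
        rw [comp_lift, Category.comp_id, Category.assoc]
      rw [e, Category.assoc, hφf, Category.assoc]
    have hR : lift (g * (x ≫ f) * g⁻¹) (lift g x ≫ a.act) ≫ a.act =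
        lift g x ≫ a.act ≫ φ.hom := by
      rw [← AlgGrp.Action.lift_mul_act, inv_mul_cancel_right, AlgGrp.Action.lift_mul_act]
      have e : lift (x ≫ f) x = x ≫ lift f (𝟙 X) := by rw [comp_lift, Category.comp_id]
      rw [e, Category.assoc, hφf, ← hφeq, lift_whiskerLeft_assoc]
    rw [hL, hR]
  · exact hφf.symm
  · rintro f' ⟨-, hf'⟩
    have e : lift f' (𝟙 X) = ℓ :=
      hcart.hom_ext (by rw [lift_snd, hℓ1]) (by rw [← hf', hℓ2])
    calc f' = lift f' (𝟙 X) ≫ fst G X := (lift_fst _ _).symm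
      _ = f := by rw [e]

end Groth.Agent.S11418
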