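import Groth.Statements.S11420
import Groth.Agent.Lib.Helper75.RigidProd
import Groth.Agent.Lib.Helper75.ActionMk
-- import your own Groth.Agent.* helpers here

set_option autoImplicit false
universe u
open CategoryTheory MonoidalCategory CartesianMonoidalCategory MonObj GrpObj AlgebraicGeometry CategoryTheory.Limits
open AlgGrp

namespace Groth.Agent.S11420

/-- Over an algebraically closed field k, let X and Y be complete varieties (proper, integral, separated
k-schemes of finite type) and let a connected k-group scheme of finite type G act on X × Y. Then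
there are unique actions of G on X and on Y such that the given action is the product action g·(x,
y) = (g·x, g·y). (This is the form, for actions of connected group schemes, of the identification of
the neutral component of the automorphism group scheme of X × Y with the product of those of X and
Y; the representability of these group schemes is not asserted here.) -/
theorem result (k : Type u) [Field k] [IsAlgClosed k]
    (G X Y : Over (Spec (CommRingCat.of k))) [GrpObj G] [LocallyOfFiniteType G.hom] [QuasiCompact G.hom] [ConnectedSpace ↥G.left]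
    [IsProper X.hom] [IsIntegral X.left]
    [IsProper Y.hom] [IsIntegral Y.left]
    (a : AlgGrp.Action G (X ⊗ Y)) :
    ∃ (b : AlgGrp.Action G X) (c : AlgGrp.Action G Y),
      a.act = lift ((G ◁ fst X Y) ≫ b.act) ((G ◁ snd X Y) ≫ c.act) ∧
      ∀ (b' : AlgGrp.Action G X) (c' : AlgGrp.Action G Y),
        a.act = lift ((G ◁ fst X Y) ≫ b'.act) ((G ◁ snd X Y) ≫ c'.act) → b' = b ∧ c' = c := by
  have hneX : Nonempty ↥X.left := inferInstance
  have hneY : Nonempty ↥Y.left := inferInstance
  obtain ⟨x₀⟩ := Groth.Agent.Lib.Helper75.AAPoint.exists_point k X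
  obtain ⟨y₀⟩ := Groth.Agent.Lib.Helper75.AAPoint.exists_point k Y
  have hirrX : IrreducibleSpace ↥X.left := inferInstance
  have hirrY : IrreducibleSpace ↥Y.left := inferInstance
  have hsepX : IsSeparated X.hom := inferInstance
  have hsepY : IsSeparated Y.hom := inferInstance
  obtain ⟨sX, hsX⟩ : ∃ sX : X ⟶ X ⊗ Y, sX = lift (𝟙 X) (toUnit X ≫ y₀) := ⟨_, rfl⟩
  obtain ⟨sY, hsY⟩ : ∃ sY : Y ⟶ X ⊗ Y, sY = lift (toUnit Y ≫ x₀) (𝟙 Y) := ⟨_, rfl⟩
  have hsX1 : sX ≫ fst X Y = 𝟙 X := by rw [hsX, lift_fst]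
  have hsY1 : sY ≫ snd X Y = 𝟙 Y := by rw [hsY, lift_snd]
  -- the two factorizations
  have H1 : a.act ≫ fst X Y = (G ◁ fst X Y) ≫ (G ◁ sX) ≫ a.act ≫ fst X Y := by
    rw [hsX]
    apply Groth.Agent.Lib.Helper75.RigidProd.eq_whiskerLeft_fst_comp k G X Y X
      (a.act ≫ fst X Y) (𝟙 X) ?_ y₀
    rw [← Category.assoc, Groth.Agent.Lib.Helper75.ActionMk.act_one, Category.id_comp,
      Category.comp_id]
  have H2 : a.act ≫ snd X Y = (G ◁ snd X Y) ≫ (G ◁ sY) ≫ a.act ≫ snd X Y := by
    have h0 := Groth.Agent.Lib.Helper75.RigidProd.eq_whiskerLeft_fst_comp k G Y X Y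
      ((G ◁ (β_ Y X).hom) ≫ a.act ≫ snd X Y) (𝟙 Y) (by
        rw [← Category.assoc, lift_whiskerLeft, Category.id_comp, ← Category.assoc,
          Groth.Agent.Lib.Helper75.ActionMk.act_one, braiding_hom_snd, Category.comp_id]) x₀
    have h1 := congrArg (fun t => (G ◁ (β_ X Y).hom) ≫ t) h0
    simp only [← Category.assoc, ← MonoidalCategory.whiskerLeft_comp] at h1
    have e1 : (β_ X Y).hom ≫ (β_ Y X).hom = 𝟙 _ := by simp
    have e2 : (β_ X Y).hom ≫ fst Y X = snd X Y := braiding_hom_fst X Y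
    have e3 : ((snd X Y ≫ lift (𝟙 Y) (toUnit Y ≫ x₀)) ≫ (β_ Y X).hom) = snd X Y ≫ sY := by
      rw [hsY, Category.assoc]
      congr 1
      apply CartesianMonoidalCategory.hom_ext <;> simp
    rw [e1, e2, e3, MonoidalCategory.whiskerLeft_id, Category.id_comp,
      MonoidalCategory.whiskerLeft_comp] at h1
    simp only [Category.assoc] at h1
    exact h1
  obtain ⟨bact, hbact⟩ : ∃ bact : G ⊗ X ⟶ X, bact = (G ◁ sX) ≫ a.act ≫ fst X Y := ⟨_, rfl⟩
  obtain ⟨cact, hcact⟩ : ∃ cact : G ⊗ Y ⟶ Y, cact = (G ◁ sY) ≫ a.act ≫ snd X Y := ⟨_, rfl⟩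
  rw [← hbact] at H1
  rw [← hcact] at H2
  -- pointwise forms
  have P1 : ∀ (T : Over (Spec (CommRingCat.of k))) (g : T ⟶ G) (p : T ⟶ X ⊗ Y),
      (lift g p ≫ a.act) ≫ fst X Y = lift g (p ≫ fst X Y) ≫ bact := by
    intro T g p
    rw [Category.assoc, H1, ← Category.assoc, lift_whiskerLeft]
  have P2 : ∀ (T : Over (Spec (CommRingCat.of k))) (g : T ⟶ G) (p : T ⟶ X ⊗ Y),
      (lift g p ≫ a.act) ≫ snd X Y = lift g (p ≫ snd X Y) ≫ cact := by
    intro T g p
    rw [Category.assoc, H2, ← Category.assoc, lift_whiskerLeft]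
  have Pb : ∀ (T : Over (Spec (CommRingCat.of k))) (g : T ⟶ G) (x : T ⟶ X),
      lift g x ≫ bact = (lift g (x ≫ sX) ≫ a.act) ≫ fst X Y := by
    intro T g x
    rw [hbact, ← Category.assoc, lift_whiskerLeft, Category.assoc]
  have Pc : ∀ (T : Over (Spec (CommRingCat.of k))) (g : T ⟶ G) (y : T ⟶ Y),
      lift g y ≫ cact = (lift g (y ≫ sY) ≫ a.act) ≫ snd X Y := by
    intro T g y
    rw [hcact, ← Category.assoc, lift_whiskerLeft, Category.assoc]
  let b : AlgGrp.Action G X := Groth.Agent.Lib.Helper75.ActionMk.mkAction bact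
    (by
      intro T x
      rw [Pb, Groth.Agent.Lib.Helper75.ActionMk.act_one, Category.assoc, hsX1, Category.comp_id])
    (by
      intro T g h x
      rw [Pb, Groth.Agent.Lib.Helper75.ActionMk.act_mul, P1, ← Pb])
  let c : AlgGrp.Action G Y := Groth.Agent.Lib.Helper75.ActionMk.mkAction cact
    (by
      intro T y
      rw [Pc, Groth.Agent.Lib.Helper75.ActionMk.act_one, Category.assoc, hsY1, Category.comp_id])
    (by
      intro T g h y
      rw [Pc, Groth.Agent.Lib.Helper75.ActionMk.act_mul, P2, ← Pc])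
  have hb : b.act = bact := rfl
  have hc : c.act = cact := rfl
  refine ⟨b, c, ?_, ?_⟩
  · apply CartesianMonoidalCategory.hom_ext
    · rw [lift_fst, hb]; exact H1
    · rw [lift_snd, hc]; exact H2
  · intro b' c' h'
    have h1' : a.act ≫ fst X Y = (G ◁ fst X Y) ≫ b'.act := by rw [h', lift_fst]
    have h2' : a.act ≫ snd X Y = (G ◁ snd X Y) ≫ c'.act := by rw [h', lift_snd]
    constructor
    · apply Groth.Agent.Lib.Helper75.ActionMk.action_ext
      rw [hb]
      have e : (G ◁ sX) ≫ (G ◁ fst X Y) = 𝟙 _ := by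
        rw [← MonoidalCategory.whiskerLeft_comp, hsX1, MonoidalCategory.whiskerLeft_id]
      calc b'.act = ((G ◁ sX) ≫ (G ◁ fst X Y)) ≫ b'.act := by rw [e, Category.id_comp]
        _ = ((G ◁ sX) ≫ (G ◁ fst X Y)) ≫ bact := by
            rw [Category.assoc, ← h1', H1, ← Category.assoc]
        _ = bact := by rw [e, Category.id_comp]
    · apply Groth.Agent.Lib.Helper75.ActionMk.action_ext
      rw [hc]
      have e : (G ◁ sY) ≫ (G ◁ snd X Y) = 𝟙 _ := by
        rw [← MonoidalCategory.whiskerLeft_comp, hsY1, MonoidalCategory.whiskerLeft_id]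
      calc c'.act = ((G ◁ sY) ≫ (G ◁ snd X Y)) ≫ c'.act := by rw [e, Category.id_comp]
        _ = ((G ◁ sY) ≫ (G ◁ snd X Y)) ≫ cact := by
            rw [Category.assoc, ← h2', H2, ← Category.assoc]
        _ = cact := by rw [e, Category.id_comp]

end Groth.Agent.S11420
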