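import Groth.Statements.S11423
import Groth.Agent.Lib.Helper75.HomogBundle
import Groth.Agent.Lib.Helper75.PointOver
import Groth.Agent.Lib.Helper26.GrpQuotGen
-- import your own Groth.Agent.* helpers here

set_option autoImplicit false
universe u
open CategoryTheory MonoidalCategory CartesianMonoidalCategory MonObj GrpObj AlgebraicGeometry CategoryTheory.Limits
open AlgGrp

namespace Groth.Agent.S11423

/-- Over an algebraically closed field k, let G be a connected affine algebraic group (smooth, affine,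
connected k-group scheme of finite type), A an abelian variety (proper, smooth, connected k-group
scheme) and π : X → A a principal G-bundle of k-schemes of finite type (G acts on X, π is
G-invariant and faithfully flat, and the square formed by the action, the second projection and π is
cartesian). Suppose π is trivialized by an anti-affine extension of A: there are an algebraic group
𝒢 whose only global functions are the constants, a flat surjective homomorphism φ : 𝒢 → A with
affine kernel, and a morphism σ : 𝒢 → X with π ∘ σ = φ (a section of the pulled-back bundle). Then π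
is homogeneous: for every rational point a of A there is a G-equivariant automorphism of X over the
translation of A by a. (The published statement is the equivalence; only this direction is stated
here.) -/
theorem result (k : Type u) [Field k] [IsAlgClosed k]
    (G X A : Over (Spec (CommRingCat.of k))) [GrpObj G] [Smooth G.hom] [QuasiCompact G.hom] [IsAffine G.left] [ConnectedSpace ↥G.left]
    [LocallyOfFiniteType X.hom] [QuasiCompact X.hom]
    [GrpObj A] [IsProper A.hom] [Smooth A.hom] [ConnectedSpace ↥A.left]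
    (a : AlgGrp.Action G X) (π : X ⟶ A) (hinv : a.act ≫ π = snd G X ≫ π) [Flat π.left] [Surjective π.left]
    (hcart : IsPullback (snd G X) a.act π π)
    (E : Over (Spec (CommRingCat.of k))) [GrpObj E] [Smooth E.hom] [QuasiCompact E.hom]
    (hE : Function.Bijective ((Scheme.ΓSpecIso (CommRingCat.of k)).inv ≫ E.hom.appTop).hom)
    (φ : E ⟶ A) [IsMonHom φ] [Flat φ.left] [Surjective φ.left]
    (Hk : Over (Spec (CommRingCat.of k))) [GrpObj Hk] (h : Hk ⟶ E) [IsMonHom h] (hk : AlgGrp.IsKernel h φ) [IsAffine Hk.left]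
    (σ : E ⟶ X) (hσ : σ ≫ π = φ)
    (t : 𝟙_ (Over (Spec (CommRingCat.of k))) ⟶ A) :
    ∃ ψ : X ≅ X, (G ◁ ψ.hom) ≫ a.act = a.act ≫ ψ.hom ∧
      ψ.hom ≫ π = π ≫ (lift (𝟙 A) (toUnit A ≫ t) ≫ μ[A]) := by
  have hlftE : LocallyOfFiniteType E.hom := inferInstance
  have hlftA : LocallyOfFiniteType A.hom := inferInstance
  have hlftG : LocallyOfFiniteType G.hom := inferInstance
  obtain ⟨e₀, he₀⟩ := Groth.Agent.Lib.Helper75.PointOver.exists_point_over k φ t
  -- the trivialization is a universally effective epimorphism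
  obtain ⟨p, hpdef⟩ : ∃ p : G ⊗ E ⟶ X, p = Groth.Agent.Lib.Helper75.HomogBundle.triv a σ :=
    ⟨_, rfl⟩
  have hpb : IsPullback p (snd G E) π φ := by
    rw [hpdef]
    exact Groth.Agent.Lib.Helper75.HomogBundle.isPullback_triv a π φ σ hinv hcart hσ
  have hφuee := Groth.Agent.Lib.Helper41.FppfPoints.uEE_of_flat_surjective φ
  have hp : Groth.Agent.H26.UEE _ p := hφuee.of_isPullback hpb
  have hpepi : Epi p := hp.epi
  have hpeff : EffectiveEpi p := hp.effectiveEpi
  have hGp : Groth.Agent.H26.UEE _ (G ◁ p) :=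
    hp.of_isPullback (Groth.Agent.Lib.Helper26.GrpQuotGen.isPullback_whiskerLeft G p)
  have hGpepi : Epi (G ◁ p) := hGp.epi
  -- translation along any rational point of `E`
  have hψ : ∀ e₁ : 𝟙_ (Over (Spec (CommRingCat.of k))) ⟶ E, ∃ ψ : X ⟶ X,
      p ≫ ψ = (G ◁ Groth.Agent.Lib.Helper75.HomogBundle.rtr e₁) ≫ p := by
    intro e₁
    have hc : ∀ {Z : Over (Spec (CommRingCat.of k))} (w₁ w₂ : Z ⟶ G ⊗ E), w₁ ≫ p = w₂ ≫ p →
        w₁ ≫ (G ◁ Groth.Agent.Lib.Helper75.HomogBundle.rtr e₁) ≫ p =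
        w₂ ≫ (G ◁ Groth.Agent.Lib.Helper75.HomogBundle.rtr e₁) ≫ p := by
      intro Z w₁ w₂ hw
      rw [hpdef] at hw ⊢
      exact Groth.Agent.Lib.Helper75.HomogBundle.descent_cond a π φ h σ hE hinv hcart hk hσ e₁
        w₁ w₂ hw
    exact ⟨EffectiveEpi.desc p _ hc, EffectiveEpi.fac p _ hc⟩
  have hrr : ∀ e₁ e₂ : 𝟙_ (Over (Spec (CommRingCat.of k))) ⟶ E, e₁ * e₂ = 1 →
      Groth.Agent.Lib.Helper75.HomogBundle.rtr e₁ ≫ Groth.Agent.Lib.Helper75.HomogBundle.rtr e₂
        = 𝟙 E := by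
    intro e₁ e₂ h12
    rw [Groth.Agent.Lib.Helper75.HomogBundle.comp_rtr]
    have h1 := Groth.Agent.Lib.Helper75.HomogBundle.comp_rtr e₁ (𝟙 E)
    rw [Category.id_comp] at h1
    rw [h1, _root_.mul_assoc, ← comp_mul, h12, comp_one, _root_.mul_one]
  obtain ⟨ψ, hψ1⟩ := hψ e₀
  obtain ⟨ψ', hψ2⟩ := hψ e₀⁻¹
  have hinvpair : ∀ (e₁ e₂ : 𝟙_ (Over (Spec (CommRingCat.of k))) ⟶ E) (ψ₁ ψ₂ : X ⟶ X),
      e₁ * e₂ = 1 →
      p ≫ ψ₁ = (G ◁ Groth.Agent.Lib.Helper75.HomogBundle.rtr e₁) ≫ p →
      p ≫ ψ₂ = (G ◁ Groth.Agent.Lib.Helper75.HomogBundle.rtr e₂) ≫ p → ψ₁ ≫ ψ₂ = 𝟙 X := by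
    intro e₁ e₂ ψ₁ ψ₂ h12 h1 h2
    rw [← cancel_epi p, ← Category.assoc, h1, Category.assoc, h2, ← Category.assoc,
      ← MonoidalCategory.whiskerLeft_comp, hrr e₁ e₂ h12, MonoidalCategory.whiskerLeft_id,
      Category.id_comp, Category.comp_id]
  have h12 : ψ ≫ ψ' = 𝟙 X := hinvpair e₀ e₀⁻¹ ψ ψ' (mul_inv_cancel e₀) hψ1 hψ2
  have h21 : ψ' ≫ ψ = 𝟙 X := hinvpair e₀⁻¹ e₀ ψ' ψ (inv_mul_cancel e₀) hψ2 hψ1
  refine ⟨⟨ψ, ψ', h12, h21⟩, ?_, ?_⟩
  · -- equivariance
    show (G ◁ ψ) ≫ a.act = a.act ≫ ψ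
    rw [← cancel_epi (G ◁ p)]
    -- both sides on the universal point
    have hL : (G ◁ p) ≫ (G ◁ ψ) ≫ a.act =
        lift (fst G (G ⊗ E) * (snd G (G ⊗ E) ≫ fst G E))
          ((snd G (G ⊗ E) ≫ snd G E) ≫ Groth.Agent.Lib.Helper75.HomogBundle.rtr e₀) ≫ p := by
      rw [← Category.assoc, ← MonoidalCategory.whiskerLeft_comp, hψ1, hpdef,
        Groth.Agent.Lib.Helper75.HomogBundle.lift_triv,
        Groth.Agent.Lib.Helper75.ActionMk.act_mul]
      have e1 : G ◁ ((G ◁ Groth.Agent.Lib.Helper75.HomogBundle.rtr e₀) ≫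
          Groth.Agent.Lib.Helper75.HomogBundle.triv a σ) =
          lift (fst G (G ⊗ E)) (lift (snd G (G ⊗ E) ≫ fst G E)
            (((snd G (G ⊗ E) ≫ snd G E) ≫ Groth.Agent.Lib.Helper75.HomogBundle.rtr e₀) ≫ σ)
              ≫ a.act) := by
        apply CartesianMonoidalCategory.hom_ext
        · rw [whiskerLeft_fst, lift_fst]
        · rw [whiskerLeft_snd, lift_snd, ← Groth.Agent.Lib.Helper75.HomogBundle.lift_triv,
            ← Category.assoc]
          congr 1
          apply CartesianMonoidalCategory.hom_ext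
          · rw [Category.assoc, whiskerLeft_fst, lift_fst]
          · rw [Category.assoc, whiskerLeft_snd, lift_snd, Category.assoc]
      rw [e1]
    have hR : (G ◁ p) ≫ a.act ≫ ψ =
        lift (fst G (G ⊗ E) * (snd G (G ⊗ E) ≫ fst G E))
          ((snd G (G ⊗ E) ≫ snd G E) ≫ Groth.Agent.Lib.Helper75.HomogBundle.rtr e₀) ≫ p := by
      have e2 : (G ◁ p) ≫ a.act = lift (fst G (G ⊗ E) * (snd G (G ⊗ E) ≫ fst G E))
          (snd G (G ⊗ E) ≫ snd G E) ≫ p := by
        rw [hpdef, Groth.Agent.Lib.Helper75.HomogBundle.lift_triv,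
          Groth.Agent.Lib.Helper75.ActionMk.act_mul]
        congr 1
        apply CartesianMonoidalCategory.hom_ext
        · rw [whiskerLeft_fst, lift_fst]
        · rw [whiskerLeft_snd, lift_snd, ← Groth.Agent.Lib.Helper75.HomogBundle.lift_triv]
          congr 1
          apply CartesianMonoidalCategory.hom_ext
          · rw [lift_fst]
          · rw [lift_snd]
      rw [← Category.assoc, e2, Category.assoc, hψ1, ← Category.assoc, lift_whiskerLeft]
    rw [hL, hR]
  · -- compatibility with the translation of `A`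
    show ψ ≫ π = π ≫ (lift (𝟙 A) (toUnit A ≫ t) ≫ μ[A])
    rw [← cancel_epi p, ← Category.assoc, hψ1, Category.assoc, ← Category.assoc p, hpb.w,
      whiskerLeft_snd_assoc, Category.assoc]
    have e3 : Groth.Agent.Lib.Helper75.HomogBundle.rtr e₀ ≫ φ =
        φ ≫ (lift (𝟙 A) (toUnit A ≫ t) ≫ μ[A]) := by
      have h1 := Groth.Agent.Lib.Helper75.HomogBundle.comp_rtr e₀ (𝟙 E)
      rw [Category.id_comp] at h1
      rw [h1, mul_comp, Category.id_comp, Category.assoc, he₀, ← Category.assoc φ, comp_lift,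
        Category.comp_id, ← Category.assoc φ, toUnit_unique (φ ≫ toUnit A) (toUnit E),
        Hom.mul_def]
    rw [e3]

end Groth.Agent.S11423
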