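import Groth.Statements.S11428
import Mathlib
import Groth.Agent.Lib.Helper27.GeomQuotSep

set_option autoImplicit false
universe u
open CategoryTheory MonoidalCategory CartesianMonoidalCategory MonObj GrpObj AlgebraicGeometry Topology
open GIT

namespace Groth.Agent.S11428

/-- If (Y, φ) is a geometric quotient of X by G over S, then Y is separated over S exactly when the
action is separated, i.e. the image of (σ, p₂) : G ×_S X → X ×_S X is closed. -/
theorem result (S : Scheme.{u}) (G X Y : Over S) [GrpObj G]
    (a : AlgGrp.Action G X) (φ : X ⟶ Y) (h : GIT.IsGeomQuot a φ) :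
    IsSeparated Y.hom ↔ IsClosed (Set.range (GIT.psi a (𝟙 X)).left.base) := by
  have hφ : φ.left ≫ Y.hom = X.hom := Over.w φ
  have key := Groth.Agent.Lib.Helper27.GeomQuotSep.isSeparated_iff_of_relation φ.left X.hom Y.hom hφ
    a.act.left (snd G X).left h.inv.left h.orbit h.subm
    ((Over.w a.act).trans (Over.w (snd G X)).symm)
  rw [key]
  have e : (GIT.psi a (𝟙 X)).left =
      Limits.pullback.lift a.act.left (snd G X).left
        ((Over.w a.act).trans (Over.w (snd G X)).symm) := by
    unfold GIT.psi
    rw [Over.lift_left]
    congr 1
    rw [MonoidalCategory.whiskerLeft_id, Category.id_comp]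
  rw [e]

end Groth.Agent.S11428
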