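import Groth.Statements.S11435
import Groth.Agent.Lib.Helper41.OrbitProper
import Groth.Agent.Lib.Helper41.SepPoints3

set_option autoImplicit false
universe u
open CategoryTheory MonoidalCategory CartesianMonoidalCategory MonObj GrpObj AlgebraicGeometry Topology
open GIT

namespace Groth.Agent.S11435

/-- Over an algebraically closed field k, let a group scheme G of finite type act on a scheme X of
finite type and let x be a k-rational point of X. Then the orbit morphism ψ_x : G × Spec k → X ×
Spec k, g ↦ (g · x, pt), is proper if and only if the orbit of x (the image of ψ_x) is closed and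
the stabilizer of x (the fibre of ψ_x over (x, pt)) is proper over k. -/
theorem result (k : Type u) [Field k] [IsAlgClosed k]
    (G X : Over (Spec (CommRingCat.of k))) [GrpObj G] [LocallyOfFiniteType G.hom] [QuasiCompact G.hom]
    [LocallyOfFiniteType X.hom] [QuasiCompact X.hom] (a : AlgGrp.Action G X)
    (x : 𝟙_ (Over (Spec (CommRingCat.of k))) ⟶ X) :
    IsProper (GIT.psi a x).left ↔
      IsClosed (Set.range (GIT.psi a x).left.base) ∧
        IsProper (Limits.pullback.snd (GIT.psi a x).left (lift x (𝟙 (𝟙_ (Over (Spec (CommRingCat.of k)))))).left ≫
          (𝟙_ (Over (Spec (CommRingCat.of k)))).hom) := by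
  have hsub : Subsingleton (Spec (CommRingCat.of k)) :=
    inferInstanceAs (Subsingleton (PrimeSpectrum k))
  let U1 : Over (Spec (CommRingCat.of k)) := 𝟙_ (Over (Spec (CommRingCat.of k)))
  set ψ : G ⊗ U1 ⟶ X ⊗ U1 := GIT.psi a x with hψ
  set p : U1 ⟶ X ⊗ U1 := lift x (𝟙 U1) with hp
  have hU1hom : U1.hom = 𝟙 _ := rfl
  -- the orbit map and `ψ`
  have hkey : ψ ≫ fst X U1 = fst G U1 ≫ a.orbitMap x := by
    rw [hψ]
    unfold GIT.psi AlgGrp.Action.orbitMap
    rw [lift_fst, ← Category.assoc]
    congr 1
    apply CartesianMonoidalCategory.hom_ext
    · simp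
    · rw [whiskerLeft_snd, Category.assoc, lift_snd, ← Category.assoc]
      congr 1
      exact toUnit_unique _ _
  have hisoG : IsIso (fst G U1) := by
    have : fst G U1 = (ρ_ G).hom := (rightUnitor_hom G).symm
    rw [this]
    infer_instance
  have hisoX : IsIso (fst X U1) := by
    have : fst X U1 = (ρ_ X).hom := (rightUnitor_hom X).symm
    rw [this]
    infer_instance
  have hisoGl : IsIso (fst G U1).left := (Over.forget _).map_isIso (fst G U1)
  have hisoXl : IsIso (fst X U1).left := (Over.forget _).map_isIso (fst X U1)
  have hkeyl : ψ.left ≫ (fst X U1).left = (fst G U1).left ≫ (a.orbitMap x).left := by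
    rw [← Over.comp_left, hkey, Over.comp_left]
  constructor
  · intro hproper
    refine ⟨ψ.left.isClosedMap.isClosed_range, ?_⟩
    rw [hU1hom, Category.comp_id]
    infer_instance
  · rintro ⟨hclosed, hstab⟩
    -- the orbit is closed
    have hcl : IsClosed (Set.range (a.orbitMap x).left.base) := by
      have h1 : Set.range (a.orbitMap x).left.base =
          (fst X U1).left.base '' Set.range ψ.left.base := by
        rw [← Set.range_comp, ← TopCat.coe_comp, ← Scheme.Hom.comp_base, hkeyl,
          Scheme.Hom.comp_base, TopCat.coe_comp, Set.range_comp,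
          Set.range_eq_univ.mpr (fst G U1).left.surjective, Set.image_univ]
      rw [h1]
      exact (fst X U1).left.homeomorph.isClosedMap _ hclosed
    -- the stabiliser as an object over `k`
    let St : Over (Spec (CommRingCat.of k)) :=
      Over.mk (Limits.pullback.snd ψ.left p.left ≫ U1.hom)
    have hwSt : (Limits.pullback.fst ψ.left p.left ≫ (fst G U1).left) ≫ G.hom = St.hom := by
      change _ = Limits.pullback.snd ψ.left p.left ≫ U1.hom
      rw [Category.assoc, Over.w (fst G U1), ← Over.w ψ, ← Category.assoc,
        Limits.pullback.condition, Category.assoc, Over.w p]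
    let iSt : St ⟶ G := Over.homMk (Limits.pullback.fst ψ.left p.left ≫ (fst G U1).left) hwSt
    have hStuc : UniversallyClosed St.hom := by
      change UniversallyClosed (Limits.pullback.snd ψ.left p.left ≫ U1.hom)
      infer_instance
    have hSt : IsPullback iSt (toUnit St) (a.orbitMap x) x := by
      apply Groth.Agent.Lib.Helper41.PointsPullback2.isPullback_of_existsUnique
      · ext1
        change (Limits.pullback.fst ψ.left p.left ≫ (fst G U1).left) ≫ (a.orbitMap x).left =
          (toUnit St).left ≫ x.left
        have hpfst : p ≫ fst X U1 = x := by rw [hp, lift_fst]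
        rw [Category.assoc, ← hkeyl, ← Category.assoc, Limits.pullback.condition, Category.assoc,
          ← Over.comp_left, hpfst]
        congr 1
      · intro T g u hgu
        have hu : u = toUnit T := toUnit_unique _ _
        let g' : T ⟶ G ⊗ U1 := lift g u
        have hg'ψ : g' ≫ ψ = u ≫ p := by
          apply CartesianMonoidalCategory.hom_ext
          · rw [Category.assoc, hkey, ← Category.assoc, lift_fst, hgu, Category.assoc, hp, lift_fst]
          · exact toUnit_unique _ _
        have hg'ψl : g'.left ≫ ψ.left = u.left ≫ p.left := by
          rw [← Over.comp_left, hg'ψ, Over.comp_left]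
        let t0 : T.left ⟶ Limits.pullback ψ.left p.left := Limits.pullback.lift g'.left u.left hg'ψl
        have ht0w : t0 ≫ St.hom = T.hom := by
          change t0 ≫ Limits.pullback.snd ψ.left p.left ≫ U1.hom = _
          rw [← Category.assoc, Limits.pullback.lift_snd]
          exact Over.w u
        let t : T ⟶ St := Over.homMk t0 ht0w
        refine ⟨t, ⟨?_, toUnit_unique _ _⟩, ?_⟩
        · ext1
          change t0 ≫ Limits.pullback.fst ψ.left p.left ≫ (fst G U1).left = g.left
          rw [← Category.assoc, Limits.pullback.lift_fst, ← Over.comp_left, lift_fst]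
        · rintro t' ⟨ht', -⟩
          ext1
          change t'.left = t0
          apply Limits.pullback.hom_ext
          · have hg'fst : g'.left ≫ (fst G U1).left = g.left := by
              rw [← Over.comp_left, lift_fst]
            rw [Limits.pullback.lift_fst, ← cancel_mono (fst G U1).left, hg'fst, Category.assoc]
            have := congrArg (fun m => m.left) ht'
            exact this
          · rw [Limits.pullback.lift_snd]
            have h1 : (t'.left ≫ Limits.pullback.snd ψ.left p.left) ≫ U1.hom = T.hom := by
              rw [Category.assoc]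
              exact Over.w t'
            have h2 : u.left ≫ U1.hom = T.hom := Over.w u
            rw [hU1hom, Category.comp_id] at h1 h2
            rw [h1, h2]
    have huc : UniversallyClosed (a.orbitMap x).left :=
      Groth.Agent.Lib.Helper41.OrbitProper.universallyClosed_orbitMap a x hcl St iSt hSt hStuc
    have huc1 : UniversallyClosed (ψ.left ≫ (fst X U1).left) := by
      rw [hkeyl]
      infer_instance
    have hψeq : ψ.left = (ψ.left ≫ (fst X U1).left) ≫ inv (fst X U1).left := by
      rw [Category.assoc, IsIso.hom_inv_id, Category.comp_id]
    have hψuc : UniversallyClosed ψ.left := by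
      rw [hψeq]
      infer_instance
    -- separatedness and finite type
    have hGsep : IsSeparated G.hom := Groth.Agent.Lib.Helper41.SepPoints3.isSeparated_of_field G
    have hGUsep : IsSeparated (G ⊗ U1).hom := by
      rw [← Over.w (fst G U1)]
      infer_instance
    have hGUlft : LocallyOfFiniteType (G ⊗ U1).hom := by
      rw [← Over.w (fst G U1)]
      infer_instance
    have hψsep : IsSeparated ψ.left := by
      have : IsSeparated (ψ.left ≫ (X ⊗ U1).hom) := by
        rw [Over.w ψ]
        exact hGUsep
      exact IsSeparated.of_comp ψ.left (X ⊗ U1).hom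
    have hψlft : LocallyOfFiniteType ψ.left := by
      have : LocallyOfFiniteType (ψ.left ≫ (X ⊗ U1).hom) := by
        rw [Over.w ψ]
        exact hGUlft
      exact locallyOfFiniteType_of_comp ψ.left (X ⊗ U1).hom
    exact { }

end Groth.Agent.S11435
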