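import Groth.Statements.S11438
import Groth.Agent.Lib.Helper75.RigMain
-- import your own Groth.Agent.* helpers here

set_option autoImplicit false
universe u
open CategoryTheory MonoidalCategory CartesianMonoidalCategory MonObj GrpObj AlgebraicGeometry Topology
open GIT

namespace Groth.Agent.S11438

/-- Let S be connected and locally Noetherian, G a locally Noetherian group scheme separated over S, X →
S proper and flat with κ(s) → H⁰(X_s, O_{X_s}) bijective for every s, and f, g : X → G morphisms
over S which agree on one fibre X_s. Then there is a section t of G over S with f = (t ∘ p) · g, the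
product taken in the group of X-valued points of G. -/
theorem result (S : Scheme.{u}) [IsLocallyNoetherian S] [ConnectedSpace S]
    (X G : Over S) [GrpObj G] [IsLocallyNoetherian G.left] [IsSeparated G.hom] [IsProper X.hom] [Flat X.hom]
    (h0 : ∀ s : S, Function.Bijective (Limits.pullback.snd X.hom (S.fromSpecResidueField s)).appTop)
    (f g : X ⟶ G) (s : S)
    (hs : Limits.pullback.fst X.hom (S.fromSpecResidueField s) ≫ f.left =
      Limits.pullback.fst X.hom (S.fromSpecResidueField s) ≫ g.left) :
    ∃ t : 𝟙_ (Over S) ⟶ G, f = (toUnit X ≫ t) * g := by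
  have h0' : ∀ s : S, Groth.Agent.Lib.Helper75.RigMain.FibH0 X.hom s := fun s => h0 s
  let h : X ⟶ G := f * g⁻¹
  have hw : h.left ≫ G.hom = X.hom := Over.w h
  let Xs : Over S := Over.mk (Limits.pullback.fst X.hom (S.fromSpecResidueField s) ≫ X.hom)
  let inc : Xs ⟶ X := Over.homMk (Limits.pullback.fst X.hom (S.fromSpecResidueField s)) rfl
  have hincfg : inc ≫ f = inc ≫ g := by
    apply Over.OverMorphism.ext
    exact hs
  have hinch : inc ≫ h = toUnit Xs ≫ η[G] := by
    show inc ≫ (f * g⁻¹) = _
    rw [comp_mul, GrpObj.comp_inv, hincfg, mul_inv_cancel, Hom.one_def]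
  have hcol : s ∈ Groth.Agent.Lib.Helper75.RigMain.collapsed X.hom h.left := by
    refine ⟨(η[G]).left.base s, fun x hx => ?_⟩
    have hx' : x ∈ Set.range (X.hom.fiberι s) := by
      rw [Scheme.Hom.range_fiberι]
      exact hx
    obtain ⟨w, hwx⟩ : ∃ w : ↥(Limits.pullback X.hom (S.fromSpecResidueField s)),
      (Limits.pullback.fst X.hom (S.fromSpecResidueField s)).base w = x := hx'
    subst hwx
    have h1 := congrArg (fun t : Xs ⟶ G => t.left.base w) hinch
    simp only [Over.comp_left, Scheme.Hom.comp_apply] at h1
    have h2 : (toUnit Xs).left.base w = s := by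
      have : (toUnit Xs).left = Xs.hom := by simp
      rw [this]
      show (Limits.pullback.fst X.hom (S.fromSpecResidueField s) ≫ X.hom).base w = s
      rw [Scheme.Hom.comp_apply]
      exact hx
    rw [h2] at h1
    exact h1
  obtain ⟨t, ht1, ht2⟩ :=
    Groth.Agent.Lib.Helper75.RigMain.exists_section_of_proper X.hom G.hom h.left hw h0' s hcol
  let t' : 𝟙_ (Over S) ⟶ G := Over.homMk t (by simpa using ht1)
  refine ⟨t', ?_⟩
  have h3 : toUnit X ≫ t' = h := by
    apply Over.OverMorphism.ext
    have : (toUnit X).left = X.hom := by simp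
    rw [Over.comp_left, this]
    exact ht2.symm
  rw [h3]
  show f = f * g⁻¹ * g
  rw [inv_mul_cancel_right]

end Groth.Agent.S11438
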