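import Groth.Statements.S11439
import Groth.Agent.Lib.Helper75.RigOver
-- import your own Groth.Agent.* helpers here

set_option autoImplicit false
universe u
open CategoryTheory MonoidalCategory CartesianMonoidalCategory MonObj GrpObj AlgebraicGeometry Topology
open GIT

namespace Groth.Agent.S11439

/-- Let S be locally Noetherian, G a locally Noetherian group scheme separated over S, X → S proper and
flat with κ(s) → H⁰(X_s, O_{X_s}) bijective for every s, and Y connected, locally Noetherian,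
separated over S with a section over S. Then every morphism f : X ×_S Y → G over S factors as f = (g
∘ p₁) · (h ∘ p₂) with g : X → G and h : Y → G. -/
theorem result (S : Scheme.{u}) [IsLocallyNoetherian S]
    (X Y G : Over S) [GrpObj G] [IsLocallyNoetherian G.left] [IsSeparated G.hom] [IsProper X.hom] [Flat X.hom]
    (h0 : ∀ s : S, Function.Bijective (Limits.pullback.snd X.hom (S.fromSpecResidueField s)).appTop)
    [IsLocallyNoetherian Y.left] [IsSeparated Y.hom] [ConnectedSpace Y.left] (e : 𝟙_ (Over S) ⟶ Y)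
    (f : X ⊗ Y ⟶ G) :
    ∃ (g : X ⟶ G) (h : Y ⟶ G), f = (fst X Y ≫ g) * (snd X Y ≫ h) := by
  have h0' : ∀ s : S, Groth.Agent.Lib.Helper75.RigMain.FibH0 X.hom s := fun s => h0 s
  let g : X ⟶ G := lift (𝟙 X) (toUnit X ≫ e) ≫ f
  let F : X ⊗ Y ⟶ G := (fst X Y ≫ g)⁻¹ * f
  have hσ : (X ◁ e) ≫ F = toUnit _ ≫ η[G] := by
    show (X ◁ e) ≫ ((fst X Y ≫ g)⁻¹ * f) = _
    rw [comp_mul, GrpObj.comp_inv, ← Category.assoc, whiskerLeft_fst]
    have h1 : fst X (𝟙_ (Over S)) ≫ g = (X ◁ e) ≫ f := by
      show fst X _ ≫ lift (𝟙 X) (toUnit X ≫ e) ≫ f = _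
      rw [← Category.assoc]
      congr 1
      apply CartesianMonoidalCategory.hom_ext
      · simp
      · rw [Category.assoc, lift_snd, whiskerLeft_snd, ← Category.assoc]
        congr 1
        exact toUnit_unique _ _
    rw [h1, inv_mul_cancel, Hom.one_def]
  obtain ⟨y₁⟩ := (inferInstance : Nonempty Y.left)
  have hmem := Groth.Agent.Lib.Helper75.RigOver.mem_collapsedY_of_section X Y G F e η[G] hσ
    (Y.hom.base y₁)
  have hclopen := Groth.Agent.Lib.Helper75.RigOver.isClopen_collapsedY X Y G h0' F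
  have huniv := hclopen.eq_univ ⟨_, hmem⟩
  obtain ⟨h, hh⟩ := Groth.Agent.Lib.Helper75.RigOver.exists_factor_snd_of_univ X Y G h0' F huniv
  refine ⟨g, h, ?_⟩
  rw [← hh]
  show f = (fst X Y ≫ g) * ((fst X Y ≫ g)⁻¹ * f)
  rw [mul_inv_cancel_left]

end Groth.Agent.S11439
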