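import Groth.Statements.S11440
import Groth.Agent.Lib.Helper75.RigOver
import Groth.Agent.Lib.Helper75.RigGI
import Groth.Agent.Lib.Helper14.GrpSepQCa
import Groth.Agent.Lib.Helper41.SmoothGeomRed
-- import your own Groth.Agent.* helpers here

set_option autoImplicit false
universe u
open CategoryTheory MonoidalCategory CartesianMonoidalCategory MonObj GrpObj AlgebraicGeometry Topology
open GIT

namespace Groth.Agent.S11440

/-- Let S be Noetherian, X an abelian scheme over S (smooth proper group scheme with connected geometric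
fibres), G any locally Noetherian group scheme separated over S, and f : X → G a morphism over S
carrying the unit of X to the unit of G. Then f is a homomorphism. -/
theorem result (S : Scheme.{u}) [IsNoetherian S]
    (X G : Over S) [GrpObj X] [GrpObj G] [Smooth X.hom] [IsProper X.hom]
    (hc : ∀ s : S, ConnectedSpace (Red.geomFibre s X).left)
    [IsLocallyNoetherian G.left] [IsSeparated G.hom] (f : X ⟶ G) (hf : η[X] ≫ f = η[G]) :
    IsMonHom f := by
  -- fibres of `X → S` are connected
  have hconn : ∀ s : S, _root_.IsConnected (X.hom ⁻¹' {s}) := by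
    intro s
    have hcs : ConnectedSpace ↥(Limits.pullback X.hom (Red.geomPt s)) := hc s
    have hrange : Set.range (Limits.pullback.fst X.hom (Red.geomPt s)) = X.hom ⁻¹' {s} := by
      rw [Scheme.Pullback.range_fst]
      congr 1
      ext t
      constructor
      · rintro ⟨w, rfl⟩
        show (Spec.map _ ≫ S.fromSpecResidueField s).base w = s
        rw [Scheme.Hom.comp_apply, Scheme.fromSpecResidueField_apply]
      · rintro rfl
        let w₀ : ↥(Spec (CommRingCat.of (AlgebraicClosure (S.residueField t)))) :=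
          (⊥ : PrimeSpectrum (AlgebraicClosure (S.residueField t)))
        refine ⟨w₀, ?_⟩
        show (Spec.map _ ≫ S.fromSpecResidueField t).base w₀ = t
        rw [Scheme.Hom.comp_apply, Scheme.fromSpecResidueField_apply]
    rw [← hrange]
    exact isConnected_range (Limits.pullback.fst X.hom (Red.geomPt s)).continuous
  have hred : GeometricallyReduced X.hom :=
    Groth.Agent.Lib.Helper41.SmoothGeomRed.geometricallyReduced_of_smooth X.hom
  have hirr : GeometricallyIrreducible X.hom :=
    Groth.Agent.Lib.Helper14.GrpSepQC.geometricallyIrreducible_of_connected_fibres X hconn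
  have hGI : GeometricallyIntegral X.hom :=
    GeometricallyIntegral.of_geometricallyReduced_of_geometricallyIrreducible X.hom
  have h0' : ∀ s : S, Groth.Agent.Lib.Helper75.RigMain.FibH0 X.hom s := fun s =>
    Groth.Agent.Lib.Helper75.RigGI.fibH0_of_geometricallyIntegral X.hom s
  have hXN : IsLocallyNoetherian X.left := LocallyOfFiniteType.isLocallyNoetherian X.hom
  -- the obstruction
  let F : X ⊗ X ⟶ G := ((fst X X * snd X X) ≫ f) * (snd X X ≫ f)⁻¹ * (fst X X ≫ f)⁻¹
  have hσ : (X ◁ η[X]) ≫ F = toUnit _ ≫ η[G] := by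
    have e1 : (X ◁ η[X]) ≫ fst X X = fst X (𝟙_ (Over S)) := whiskerLeft_fst _ _
    have e2 : (X ◁ η[X]) ≫ snd X X = snd X (𝟙_ (Over S)) ≫ η[X] := whiskerLeft_snd _ _
    have e3 : snd X (𝟙_ (Over S)) ≫ η[X] = (1 : X ⊗ 𝟙_ (Over S) ⟶ X) := by
      rw [Hom.one_def]
      congr 1
      exact toUnit_unique _ _
    have e4 : (snd X (𝟙_ (Over S)) ≫ η[X]) ≫ f = (1 : X ⊗ 𝟙_ (Over S) ⟶ G) := by
      rw [Category.assoc, hf, Hom.one_def]
      congr 1
      exact toUnit_unique _ _
    show (X ◁ η[X]) ≫ (((fst X X * snd X X) ≫ f) * (snd X X ≫ f)⁻¹ * (fst X X ≫ f)⁻¹) = _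
    rw [comp_mul, comp_mul, GrpObj.comp_inv, GrpObj.comp_inv, ← Category.assoc, comp_mul,
      ← Category.assoc (X ◁ η[X]) (snd X X), ← Category.assoc (X ◁ η[X]) (fst X X), e1, e2, e4, e3,
      _root_.mul_one, inv_one, _root_.mul_one, mul_inv_cancel, Hom.one_def]
  have hmem := Groth.Agent.Lib.Helper75.RigOver.mem_collapsedY_of_section X X G F η[X] η[G] hσ
  have hclopen := Groth.Agent.Lib.Helper75.RigOver.isClopen_collapsedY X X G h0' F
  have huniv : Groth.Agent.Lib.Helper75.RigOver.collapsedY X X G F = Set.univ := by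
    rw [Set.eq_univ_iff_forall]
    intro x
    have hpre : _root_.IsPreconnected (X.hom ⁻¹' {X.hom.base x}) := (hconn _).isPreconnected
    have hsec : X.hom.base ((η[X]).left.base (X.hom.base x)) = X.hom.base x := by
      rw [← Scheme.Hom.comp_apply, Over.w η[X]]
      rfl
    have hsub := hpre.subset_isClopen hclopen
      ⟨(η[X]).left.base (X.hom.base x), hsec, hmem (X.hom.base x)⟩
    exact hsub rfl
  obtain ⟨h, hh⟩ := Groth.Agent.Lib.Helper75.RigOver.exists_factor_snd_of_univ X X G h0' F huniv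
  -- `h = 1`
  have hh1 : h = 1 := by
    let j : X ⟶ X ⊗ X := lift (toUnit X ≫ η[X]) (𝟙 X)
    have j1 : j ≫ fst X X = (1 : X ⟶ X) := by
      rw [lift_fst, Hom.one_def]
    have j2 : j ≫ snd X X = 𝟙 X := lift_snd _ _
    have e5 : (1 : X ⟶ X) ≫ f = (1 : X ⟶ G) := by
      rw [Hom.one_def, Category.assoc, hf, Hom.one_def]
    have h1 : j ≫ F = h := by
      rw [hh, ← Category.assoc, j2, Category.id_comp]
    rw [← h1]
    show j ≫ (((fst X X * snd X X) ≫ f) * (snd X X ≫ f)⁻¹ * (fst X X ≫ f)⁻¹) = 1
    rw [comp_mul, comp_mul, GrpObj.comp_inv, GrpObj.comp_inv, ← Category.assoc, comp_mul,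
      ← Category.assoc j (snd X X), ← Category.assoc j (fst X X), j1, j2, e5, _root_.one_mul,
      Category.id_comp, mul_inv_cancel, inv_one, _root_.mul_one]
  have hF1 : F = 1 := by
    rw [hh, hh1, MonObj.comp_one]
  have hmain : (fst X X * snd X X) ≫ f = (fst X X ≫ f) * (snd X X ≫ f) := by
    have h2 : ((fst X X * snd X X) ≫ f) * (snd X X ≫ f)⁻¹ * (fst X X ≫ f)⁻¹ = 1 := hF1
    have h3 := mul_inv_eq_one.mp h2
    exact mul_inv_eq_iff_eq_mul.mp h3
  refine ⟨hf, ?_⟩
  rw [MonObj.mul_eq_mul X, hmain, MonObj.mul_eq_mul G, comp_mul, tensorHom_fst, tensorHom_snd]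

end Groth.Agent.S11440
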