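import Groth.Statements.S11441
import Mathlib
import Groth.Agent.Lib.Helper27.GeomQuotOrbit

set_option autoImplicit false
universe u
open CategoryTheory MonoidalCategory CartesianMonoidalCategory MonObj GrpObj AlgebraicGeometry Topology
open GIT

namespace Groth.Agent.S11441

/-- If a geometric quotient of X by G over S exists, then the action of G on X is closed (orbits of
geometric points are closed in the geometric fibres). -/
theorem result (S : Scheme.{u}) (G X Y : Over S) [GrpObj G]
    (a : AlgGrp.Action G X) (φ : X ⟶ Y) (h : GIT.IsGeomQuot a φ) : GIT.IsClosedAction a := by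
  intro Ω _ _ T e f
  haveI : Subsingleton ↥(Spec (CommRingCat.of Ω)) :=
    inferInstanceAs (Subsingleton (PrimeSpectrum Ω))
  haveI : Subsingleton T.left := e.hom.homeomorph.injective.subsingleton
  haveI : IsAffine T.left := IsAffine.of_isIso e.hom
  refine Groth.Agent.Lib.Helper27.GeomQuotOrbit.isClosed_range_orbit G.hom X.hom Y.hom T.hom φ.left
    (Over.w φ) f.left (Over.w f) a.act.left h.inv.left h.orbit (G ◁ f).left
    (Over.whiskerLeft_left_fst f) (Over.whiskerLeft_left_snd f) (GIT.psi a f).left ?_ ?_
  · unfold GIT.psi
    rw [Over.lift_left, Limits.pullback.lift_fst, Over.comp_left]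
  · unfold GIT.psi
    rw [Over.lift_left, Limits.pullback.lift_snd, Over.snd_left]

end Groth.Agent.S11441
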