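import Groth.Statements.S11452
import Groth.Agent.Lib.Helper59.AffDeform
import Groth.Agent.Lib.Helper59.CotTRegIff

set_option autoImplicit false
universe u
open CategoryTheory AlgebraicGeometry
open DefT

namespace Groth.Agent.S11452

/-- Let k be an algebraically closed field, X an affine scheme of finite type over k whose local rings
are all regular, A a local Artin k-algebra with a k-algebra augmentation e : A → k, and g : X' →
Spec A a flat morphism whose fibre over the k-point Spec k → Spec A given by e is X (with its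
structure map to Spec k). Then there is an isomorphism from X' to the trivial deformation X ×_{Spec
k} Spec A compatible with the projections to Spec A. -/
theorem result (k : Type u) [Field k]
    [IsAlgClosed k] (X : Scheme.{u}) (hX : X ⟶ Spec (CommRingCat.of k)) [IsAffine X]
    [LocallyOfFiniteType hX] (hreg : ∀ x : X, IsRegularLocalRing (X.presheaf.stalk x))
    (A : Type u) [CommRing A] [IsLocalRing A] [IsArtinianRing A] [Algebra k A] (e : A →ₐ[k] k)
    (X' : Scheme.{u}) (g : X' ⟶ Spec (CommRingCat.of A)) [Flat g] (i : X ⟶ X')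
    (hsq : IsPullback i hX g (Spec.map (CommRingCat.ofHom e.toRingHom))) :
    ∃ φ : X' ≅ Limits.pullback hX (Spec.map (CommRingCat.ofHom (algebraMap k A))),
      φ.hom ≫ Limits.pullback.snd hX (Spec.map (CommRingCat.ofHom (algebraMap k A))) = g := by
  classical
  -- affine coordinates on `X`
  obtain ⟨ψ, hψ⟩ : ∃ ψ : CommRingCat.of k ⟶ Γ(X, ⊤),
      ψ = (Scheme.ΓSpecIso (CommRingCat.of k)).inv ≫ hX.appTop := ⟨_, rfl⟩
  have hhX : hX = X.isoSpec.hom ≫ Spec.map ψ := by
    have h := Scheme.isoSpec_hom_naturality hX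
    rw [Scheme.isoSpec_Spec_hom] at h
    rw [hψ, Spec.map_comp, ← Category.assoc, h, Category.assoc, ← Spec.map_comp, Iso.inv_hom_id,
      Spec.map_id, Category.comp_id]
  have hft : ψ.hom.FiniteType := by
    have h1 : LocallyOfFiniteType (Spec.map ψ) := by
      have : Spec.map ψ = X.isoSpec.inv ≫ hX := by rw [hhX, Iso.inv_hom_id_assoc]
      rw [this]
      infer_instance
    exact (HasRingHomProperty.Spec_iff (P := @LocallyOfFiniteType)).mp h1
  clear hψ
  letI algkB : Algebra k Γ(X, ⊤) := ψ.hom.toAlgebra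
  haveI : Algebra.FiniteType k Γ(X, ⊤) := hft
  -- regularity of the localizations
  have hregB : ∀ (p : Ideal Γ(X, ⊤)) [p.IsPrime], IsRegularLocalRing (Localization.AtPrime p) := by
    intro p hp
    let y : Spec Γ(X, ⊤) := ⟨p, hp⟩
    haveI := hreg (X.isoSpec.inv y)
    have e1 : X.presheaf.stalk (X.isoSpec.inv y) ≃+* (Spec Γ(X, ⊤)).presheaf.stalk y :=
      (asIso (X.isoSpec.inv.stalkMap y)).commRingCatIsoToRingEquiv
    haveI : IsRegularLocalRing ((Spec Γ(X, ⊤)).presheaf.stalk y) :=
      IsRegularLocalRing.of_ringEquiv e1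
    letI : Algebra Γ(X, ⊤) ((Spec Γ(X, ⊤)).presheaf.stalk y) :=
      StructureSheaf.stalkAlgebra Γ(X, ⊤) y
    haveI : IsLocalization.AtPrime ((Spec Γ(X, ⊤)).presheaf.stalk y) p :=
      StructureSheaf.IsLocalization.to_stalk Γ(X, ⊤) y
    exact IsRegularLocalRing.of_ringEquiv
      (IsLocalization.algEquiv p.primeCompl ((Spec Γ(X, ⊤)).presheaf.stalk y)
        (Localization.AtPrime p)).toRingEquiv
  haveI hsm : Algebra.FormallySmooth k Γ(X, ⊤) :=
    Lib.Helper59.CotTRegIff.formallySmooth_of_regular k Γ(X, ⊤) hregB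
  -- the transported square
  have hsq' : IsPullback (X.isoSpec.inv ≫ i) (Spec.map (CommRingCat.ofHom (algebraMap k Γ(X, ⊤)))) g
      (Spec.map (CommRingCat.ofHom e.toRingHom)) := by
    refine hsq.of_iso X.isoSpec (Iso.refl _) (Iso.refl _) (Iso.refl _) ?_ ?_ ?_ ?_
    · simp
    · rw [Iso.refl_hom, Category.comp_id]; exact hhX
    · simp
    · simp
  -- sections from formal smoothness
  obtain ⟨Φ, hΦ, -⟩ := Lib.Helper59.AffDeform.exists_iso_trivial e Γ(X, ⊤) X' g (X.isoSpec.inv ≫ i) hsq'
    (by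
      intro B _ _ _ _ _ q hq hker hqA
      have hqk : ∀ c : k, q (algebraMap k B c) = algebraMap k Γ(X, ⊤) c := by
        intro c
        rw [IsScalarTower.algebraMap_apply k A B, hqA, e.commutes]
        rfl
      let qa : B →ₐ[k] Γ(X, ⊤) := { q with commutes' := hqk }
      have hnil : IsNilpotent (RingHom.ker (qa : B →+* Γ(X, ⊤))) := by
        have : RingHom.ker (qa : B →+* Γ(X, ⊤)) = (IsLocalRing.maximalIdeal A).map (algebraMap A B) :=
          hker
        rw [this]
        obtain ⟨n, hn⟩ := Lib.Helper77.isNilpotent_maximalIdeal_of_artinian (A := A)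
        exact ⟨n, by rw [← Ideal.map_pow, hn]; simp⟩
      refine ⟨Algebra.FormallySmooth.liftOfSurjective (AlgHom.id k Γ(X, ⊤)) qa hq hnil, fun b => ?_⟩
      exact Algebra.FormallySmooth.liftOfSurjective_apply (AlgHom.id k Γ(X, ⊤)) qa hq hnil b)
  -- back to `X`
  have hψ' : CommRingCat.ofHom (algebraMap k Γ(X, ⊤)) = ψ := rfl
  let Ψ : Limits.pullback (Spec.map (CommRingCat.ofHom (algebraMap k Γ(X, ⊤))))
        (Spec.map (CommRingCat.ofHom (algebraMap k A))) ≅
      Limits.pullback hX (Spec.map (CommRingCat.ofHom (algebraMap k A))) :=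
    asIso (Limits.pullback.map _ _ _ _ X.isoSpec.inv (𝟙 _) (𝟙 _)
      (by rw [Category.comp_id, hψ', hhX, Iso.inv_hom_id_assoc]) (by simp))
  refine ⟨Φ ≪≫ Ψ, ?_⟩
  rw [Iso.trans_hom, Category.assoc]
  have : Ψ.hom ≫ Limits.pullback.snd hX (Spec.map (CommRingCat.ofHom (algebraMap k A))) =
      Limits.pullback.snd _ _ := by
    simp only [Ψ, asIso_hom, Limits.pullback.lift_snd, Category.comp_id]
  rw [this, hΦ]

end Groth.Agent.S11452
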