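import Groth.Statements.S1146
-- import your own Groth.Agent.* helpers here
import Groth.Agent.S10838
import Mathlib.AlgebraicGeometry.Morphisms.QuasiFinite
import Mathlib.AlgebraicGeometry.Morphisms.UniversallyOpen
import Mathlib.RingTheory.Unramified.LocalStructure

set_option autoImplicit false
open CategoryTheory CategoryTheory.Limits AlgebraicGeometry Opposite
universe u
open Desc

namespace Groth.Agent.S1146

open Order Topology

open Groth.Agent.S10838 in
/-- A continuous map without nontrivial specializations inside its fibres does not lower the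
dimension. -/
theorem topologicalKrullDim_le_of_fibres {X Y : Type*} [TopologicalSpace X] [TopologicalSpace Y]
    [QuasiSober X] [T0Space X] [T0Space Y] (f : X → Y) (hf : Continuous f)
    (hfib : ∀ x x' : X, x ⤳ x' → f x = f x' → x = x') :
    topologicalKrullDim X ≤ topologicalKrullDim Y := by
  refine (topologicalKrullDim_le_specialization X).trans
    (le_trans ?_ (krullDim_specialization_le Y))
  refine krullDim_le_of_strictMono
    (fun a => Specialization.toEquiv (f (Specialization.ofEquiv a))) ?_
  intro a b hab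
  have h1 : Specialization.ofEquiv b ⤳ Specialization.ofEquiv a := hab.le
  have h2 : ¬ Specialization.ofEquiv a ⤳ Specialization.ofEquiv b := fun h => hab.not_ge h
  have h3 : f (Specialization.ofEquiv b) ⤳ f (Specialization.ofEquiv a) := h1.map hf
  refine lt_of_le_not_ge h3 ?_
  intro h4
  have h5 : f (Specialization.ofEquiv a) ⤳ f (Specialization.ofEquiv b) := h4
  have h6 : f (Specialization.ofEquiv b) = f (Specialization.ofEquiv a) :=
    (h3.antisymm h5).eq
  have h7 := hfib _ _ h1 h6
  exact h2 (h7 ▸ specializes_rfl)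

/-- Étale morphisms are locally quasi-finite. -/
theorem locallyQuasiFinite_of_etale {X Y : Scheme.{u}} (f : X ⟶ Y) [Etale f] :
    LocallyQuasiFinite f := by
  rw [HasRingHomProperty.iff_appLE (P := @LocallyQuasiFinite)]
  intro U V e
  have h : (f.appLE U.1 V.1 e).hom.Etale := HasRingHomProperty.appLE @Etale f ‹_› U V e
  algebraize [(f.appLE U.1 V.1 e).hom]
  change Algebra.QuasiFinite Γ(Y, U.1) Γ(X, V.1)
  infer_instance

/-- No nontrivial specializations inside the fibres of a locally quasi-finite morphism. -/
theorem eq_of_specializes_of_locallyQuasiFinite {X Y : Scheme.{u}} (f : X ⟶ Y)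
    [LocallyQuasiFinite f] (x x' : X) (h : x ⤳ x') (hxx' : f.base x = f.base x') : x = x' := by
  have hd : _root_.IsDiscrete (f.base ⁻¹' {f.base x'}) := f.isDiscrete_preimage_singleton _
  have hx : x ∈ f.base ⁻¹' {f.base x'} := hxx'
  have hx' : x' ∈ f.base ⁻¹' {f.base x'} := rfl
  have : DiscreteTopology (f.base ⁻¹' {f.base x'}) := hd.to_subtype
  have h' : (⟨x, hx⟩ : f.base ⁻¹' {f.base x'}) ⤳ ⟨x', hx'⟩ :=
    (IsInducing.subtypeVal.specializes_iff).mp h
  have := h'.eq
  exact congrArg Subtype.val this

/-- Let f : U ⟶ V be an etale morphism of schemes and u a point of U. Then the local dimension of U at u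
(the infimum of the Krull dimensions of open neighbourhoods) equals the local dimension of V at
f(u). -/
theorem result {U V : Scheme.{u}} (f : U ⟶ V) [Etale f] (u : U) :
    FlatMor.localDim U u = FlatMor.localDim V (f.base u) := by
  have hqf : LocallyQuasiFinite f := locallyQuasiFinite_of_etale f
  have hgen : GeneralizingMap f.base := Flat.generalizingMap f
  have hopen : IsOpenMap f.base := isOpenMap_of_generalizingMap f hgen
  refine le_antisymm ?_ ?_
  · -- for each open V' ∋ f u, use f⁻¹ V'
    refine le_iInf fun V' => ?_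
    let U' : TopologicalSpace.Opens U := ⟨f.base ⁻¹' V'.1, V'.1.2.preimage f.continuous⟩
    have hu : u ∈ U' := V'.2
    refine (iInf_le _ (⟨U', hu⟩ : {U'' : TopologicalSpace.Opens U // u ∈ U''})).trans ?_
    have : QuasiSober (U'.1 : Set U) := U'.2.isOpenEmbedding_subtypeVal.quasiSober
    refine topologicalKrullDim_le_of_fibres
      (fun x : (U'.1 : Set U) => (⟨f.base x.1, x.2⟩ : (V'.1.1 : Set V))) ?_ ?_
    · exact (f.continuous.comp continuous_subtype_val).subtype_mk _
    · intro x x' hxx' heq
      have h1 : (x : U) ⤳ x' := (IsInducing.subtypeVal.specializes_iff).mpr hxx'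
      have h2 : f.base x = f.base x' := congrArg Subtype.val heq
      exact Subtype.ext (eq_of_specializes_of_locallyQuasiFinite f _ _ h1 h2)
  · refine le_iInf fun U' => ?_
    let V' : TopologicalSpace.Opens V := ⟨f.base '' U'.1.1, hopen _ U'.1.2⟩
    have hv : f.base u ∈ V' := ⟨u, U'.2, rfl⟩
    refine (iInf_le _ (⟨V', hv⟩ : {V'' : TopologicalSpace.Opens V // f.base u ∈ V''})).trans ?_
    have : QuasiSober (V'.1 : Set V) := V'.2.isOpenEmbedding_subtypeVal.quasiSober
    refine Groth.Agent.S10838.topologicalKrullDim_le_of_generalizingMap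
      (fun x : (U'.1.1 : Set U) => (⟨f.base x.1, ⟨x.1, x.2, rfl⟩⟩ : (V'.1 : Set V))) ?_ ?_ ?_
    · exact (f.continuous.comp continuous_subtype_val).subtype_mk _
    · rintro ⟨_, x, hx, rfl⟩
      exact ⟨⟨x, hx⟩, rfl⟩
    · intro x y hy
      have hy' : (y : V) ⤳ f.base x := (IsInducing.subtypeVal.specializes_iff).mpr hy
      obtain ⟨x', hx', hfx'⟩ := hgen hy'
      have hx'U : x' ∈ U'.1.1 := hx'.mem_open U'.1.2 x.2
      exact ⟨⟨x', hx'U⟩, (IsInducing.subtypeVal.specializes_iff).mp hx', Subtype.ext hfx'⟩

end Groth.Agent.S1146
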