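import Groth.Statements.S11460
import Groth.Agent.Lib.Helper73.HBSpread
import Groth.Agent.S11449
import Groth.Agent.S1535
import Groth.Agent.H8.RegImmStalk
import Groth.Agent.Lib.Helper29.FlatAscent2

set_option autoImplicit false
universe u
open CategoryTheory AlgebraicGeometry
open DefT

namespace Groth.Agent.S11460

/-- Let X be smooth over a field k and Y ⊆ X a closed subscheme which is Cohen–Macaulay of codimension 2
(all local rings of Y Cohen–Macaulay, and dim O_{X,y} = dim O_{Y,y} + 2 at every point y of Y). Then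
each point of Y has an affine open neighbourhood U in X and an (r+1) × r matrix φ of functions on U
whose signed maximal minors f_i generate the ideal of Y ∩ U and give an exact sequence 0 → O(U)^r →
O(U)^{r+1} → O(U), hence a resolution of O_{Y ∩ U} on the affine U. -/
theorem result (k : Type u) [Field k]
    (X Y : Scheme.{u}) (f : X ⟶ Spec (CommRingCat.of k)) [Smooth f] (ι : Y ⟶ X) [IsClosedImmersion ι]
    (hCM : ∀ y : Y, LocCoh.IsCohenMacaulayLocalRing (Y.presheaf.stalk y))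
    (hcodim : ∀ y : Y, ringKrullDim (Y.presheaf.stalk y) + 2 = ringKrullDim (X.presheaf.stalk (ι.base y)))
    (y : Y) :
    ∃ U : X.affineOpens, ι.base y ∈ (U : X.Opens) ∧ ∃ (r : ℕ) (φ : Matrix (Fin (r + 1)) (Fin r) Γ(X, U)),
      (Ideal.span (Set.range (fun i : Fin (r + 1) => (-1 : Γ(X, U)) ^ (i : ℕ) * ((φ).submatrix i.succAbove id).det)) = ι.ker.ideal U ∧
        Function.Injective (φ).mulVecLin ∧
        LinearMap.range (φ).mulVecLin = LinearMap.ker (Fintype.linearCombination Γ(X, U) (fun i : Fin (r + 1) => (-1 : Γ(X, U)) ^ (i : ℕ) * ((φ).submatrix i.succAbove id).det))) := by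
  haveI : IsLocallyNoetherian X := LocallyOfFiniteType.isLocallyNoetherian f
  obtain ⟨_, ⟨U, hU, rfl⟩, hxU, -⟩ :=
    X.isBasis_affineOpens.exists_subset_of_mem_open (Set.mem_univ (ι.base y)) isOpen_univ
  have hxU' : ι.base y ∈ U := hxU
  have hN : IsNoetherianRing Γ(X, U) := IsLocallyNoetherian.component_noetherian ⟨U, hU⟩
  letI : Algebra Γ(X, U) (X.presheaf.stalk (ι.base y)) :=
    TopCat.Presheaf.algebra_section_stalk X.presheaf ⟨ι.base y, hxU'⟩
  have hloc : IsLocalization.AtPrime (X.presheaf.stalk (ι.base y))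
      (hU.primeIdealOf ⟨ι.base y, hxU'⟩).asIdeal := hU.isLocalization_stalk ⟨ι.base y, hxU'⟩
  set p := (hU.primeIdealOf ⟨ι.base y, hxU'⟩).asIdeal with hp
  haveI hreg : IsRegularLocalRing (X.presheaf.stalk (ι.base y)) := by
    let _ : X.Over (Spec (CommRingCat.of k)) := ⟨f⟩
    have hsm : Smooth (X ↘ Spec (CommRingCat.of k)) := ‹Smooth f›
    exact Groth.Agent.S1535.result k X (ι.base y)
  set K := RingHom.ker (ι.stalkMap y).hom with hKdef
  have hK : K = (ι.ker.ideal ⟨U, hU⟩).map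
      (algebraMap Γ(X, U) (X.presheaf.stalk (ι.base y))) := by
    rw [hKdef, Groth.Agent.H8.RegImmStalk.ker_stalkMap ι y ⟨U, hU⟩ hxU']
    rfl
  let e : (X.presheaf.stalk (ι.base y) ⧸ K) ≃+* Y.presheaf.stalk y :=
    RingHom.quotientKerEquivOfSurjective (ι.stalkMap_surjective y)
  haveI : LocCoh.IsCohenMacaulayLocalRing (X.presheaf.stalk (ι.base y) ⧸ K) :=
    Groth.Agent.Lib.Helper29.isCohenMacaulayLocalRing_of_ringEquiv e.symm (hCM y)
  have hcod : ringKrullDim (X.presheaf.stalk (ι.base y) ⧸ K) + 2 =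
      ringKrullDim (X.presheaf.stalk (ι.base y)) := by
    rw [ringKrullDim_eq_of_ringEquiv e]
    exact hcodim y
  obtain ⟨r, ψ, h1, _, h2, h3⟩ := Groth.Agent.S11449.result (X.presheaf.stalk (ι.base y)) K hcod
  rw [hK] at h1
  obtain ⟨g, hgp, hg⟩ := Groth.Agent.Lib.Helper73.HBSpread.spread p
    (X.presheaf.stalk (ι.base y)) (ι.ker.ideal ⟨U, hU⟩) r ψ h1 h2 h3
  have hV : IsAffineOpen (X.basicOpen g) := hU.basicOpen g
  have hVU : X.basicOpen g ≤ U := X.basicOpen_le g
  have hxV : ι.base y ∈ X.basicOpen g := by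
    rw [Scheme.mem_basicOpen _ _ _ hxU']
    exact (IsLocalization.AtPrime.isUnit_to_map_iff (X.presheaf.stalk (ι.base y)) p g).mpr hgp
  have hlocV : IsLocalization.Away g Γ(X, X.basicOpen g) := hU.isLocalization_basicOpen g
  obtain ⟨φ, e1, e2, e3⟩ := hg Γ(X, X.basicOpen g)
  refine ⟨⟨X.basicOpen g, hV⟩, hxV, r, φ, ?_, e2, e3⟩
  refine Eq.trans e1 ?_
  exact ι.ker.map_ideal (U := ⟨X.basicOpen g, hV⟩) (V := ⟨U, hU⟩) hVU

end Groth.Agent.S11460
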