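import Groth.Statements.S11461
import Mathlib.RingTheory.Ideal.AssociatedPrime.Finiteness
import Mathlib.RingTheory.Finiteness.Nakayama
import Mathlib.Algebra.Homology.ShortComplex.ModuleCat
import Mathlib.RingTheory.Ideal.Colon
import Mathlib.CategoryTheory.Limits.Preserves.Shapes.Zero

set_option autoImplicit false
universe u
open CategoryTheory
open DefT

namespace Groth.Agent.S11461

section aux

variable (B : Type u) [CommRing B] [IsNoetherianRing B] (F : ModuleCat.{u} B ⥤ ModuleCat.{u} B)
  [F.Additive]

/-- dévissage: if `F` kills `B/q` for all primes `q` containing the annihilator of `N`, it kills `N`. -/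
theorem lemmaA
    (hex : ∀ S : ShortComplex (ModuleCat.{u} B), S.ShortExact → Module.Finite B S.X₂ → (S.map F).Exact)
    (N : Type u) [AddCommGroup N] [Module B N] (hN : Module.Finite B N) :
    (∀ q : PrimeSpectrum B, Module.annihilator B N ≤ q.asIdeal →
      Limits.IsZero (F.obj (ModuleCat.of B (B ⧸ q.asIdeal)))) →
    Limits.IsZero (F.obj (ModuleCat.of B N)) := by
  induction hN using IsNoetherianRing.induction_on_isQuotientEquivQuotientPrime B with
  | subsingleton N =>
    intro _
    exact F.map_isZero (ModuleCat.isZero_of_subsingleton _)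
  | quotient N p e =>
    intro H
    have h1 : Module.annihilator B N = p.asIdeal := by
      rw [e.annihilator_eq, Ideal.annihilator_quotient]
    exact (H p h1.le).of_iso (F.mapIso e.toModuleIso)
  | exact N₁ N₂ N₃ f g hf hg hfg ih₁ ih₃ =>
    intro H
    have z1 := ih₁ (fun q hq => H q ((LinearMap.annihilator_le_of_injective f hf).trans hq))
    have z3 := ih₃ (fun q hq => H q ((LinearMap.annihilator_le_of_surjective g hg).trans hq))
    let S : ShortComplex (ModuleCat.{u} B) := ShortComplex.moduleCatMk f g hfg.linearMap_comp_eq_zero
    have hS : S.ShortExact := ModuleCat.shortComplex_shortExact S hfg hf hg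
    have hE := hex S hS (inferInstanceAs (Module.Finite B N₂))
    exact hE.isZero_of_both_isZero z1 z3

end aux


section main

variable (B : Type u) [CommRing B] (F : ModuleCat.{u} B ⥤ ModuleCat.{u} B) [F.Linear B] in
theorem map_smul_id (X : ModuleCat.{u} B) (x : B) (y : F.obj X) :
    (F.map (ModuleCat.ofHom (x • (LinearMap.id : X →ₗ[B] X)))).hom y = x • y := by
  have h1 : ModuleCat.ofHom (x • (LinearMap.id : X →ₗ[B] X)) = x • 𝟙 X := by
    ext z
    rfl
  rw [h1, F.map_smul, F.map_id]
  rfl

variable (B : Type u) [CommRing B] [IsNoetherianRing B] (F : ModuleCat.{u} B ⥤ ModuleCat.{u} B)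
  [F.Additive] [F.Linear B]

theorem isZero_quotient_prime
    (hfg : ∀ M : ModuleCat.{u} B, Module.Finite B M → Module.Finite B (F.obj M))
    (hex : ∀ S : ShortComplex (ModuleCat.{u} B), S.ShortExact → Module.Finite B S.X₂ → (S.map F).Exact)
    (h0 : ∀ m : Ideal B, m.IsMaximal → Limits.IsZero (F.obj (ModuleCat.of B (B ⧸ m))))
    (p : Ideal B) : p.IsPrime → Limits.IsZero (F.obj (ModuleCat.of B (B ⧸ p))) := by
  induction p using (wellFounded_gt (α := Ideal B)).induction with
  | _ p IH =>
  intro hp
  set X := F.obj (ModuleCat.of B (B ⧸ p)) with hX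
  have hXfin : Module.Finite B X := hfg _ (inferInstanceAs (Module.Finite B (B ⧸ p)))
  by_contra hnz
  have hann : Module.annihilator B X ≠ ⊤ := by
    intro h
    rw [Module.annihilator_eq_top_iff] at h
    exact hnz (ModuleCat.isZero_of_subsingleton X)
  obtain ⟨m, hm, hle⟩ := Ideal.exists_le_maximal _ hann
  by_cases hpm : p ≤ m
  · rcases eq_or_lt_of_le hpm with heq | hlt
    · subst heq
      exact hnz (h0 p hm)
    · obtain ⟨x, hxm, hxp⟩ := Set.exists_of_ssubset hlt
      -- multiplication by x on B/p
      let μ : (B ⧸ p) →ₗ[B] (B ⧸ p) := x • LinearMap.id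
      have hμinj : Function.Injective μ := by
        intro a b hab
        have hx0 : (Ideal.Quotient.mk p x) ≠ 0 := by
          rwa [Ne, Ideal.Quotient.eq_zero_iff_mem]
        have hab' : x • a = x • b := hab
        obtain ⟨a', rfl⟩ := Ideal.Quotient.mk_surjective a
        obtain ⟨b', rfl⟩ := Ideal.Quotient.mk_surjective b
        have : Ideal.Quotient.mk p x * Ideal.Quotient.mk p a' =
            Ideal.Quotient.mk p x * Ideal.Quotient.mk p b' := by
          rw [← map_mul, ← map_mul]; exact hab'
        exact mul_left_cancel₀ hx0 this
      let g : (B ⧸ p) →ₗ[B] ((B ⧸ p) ⧸ LinearMap.range μ) := (LinearMap.range μ).mkQ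
      have hexact : Function.Exact μ g := LinearMap.exact_map_mkQ_range μ
      let S : ShortComplex (ModuleCat.{u} B) := ShortComplex.moduleCatMk μ g hexact.linearMap_comp_eq_zero
      have hS : S.ShortExact :=
        ModuleCat.shortComplex_shortExact S hexact hμinj (Submodule.mkQ_surjective _)
      have hE := hex S hS (inferInstanceAs (Module.Finite B (B ⧸ p)))
      have z3 : Limits.IsZero (F.obj (ModuleCat.of B ((B ⧸ p) ⧸ LinearMap.range μ))) := by
        apply lemmaA B F hex _ inferInstance
        intro q hq
        have h1 : p ≤ q.asIdeal := by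
          refine le_trans ?_ hq
          have := LinearMap.annihilator_le_of_surjective g (Submodule.mkQ_surjective _)
          rwa [Ideal.annihilator_quotient] at this
        have h2 : x ∈ q.asIdeal := by
          apply hq
          rw [Module.mem_annihilator]
          intro z
          obtain ⟨z', rfl⟩ := Submodule.mkQ_surjective _ z
          rw [← map_smul, Submodule.mkQ_apply, Submodule.Quotient.mk_eq_zero]
          exact ⟨z', rfl⟩
        have hlt' : p < q.asIdeal := lt_of_le_of_ne h1 (fun h => hxp (h ▸ h2))
        exact IH q.asIdeal hlt' q.isPrime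
      have hepi : Epi (S.map F).f := hE.epi_f (z3.eq_of_tgt _ _)
      have hsurj : Function.Surjective (F.map S.f).hom := by
        rw [ModuleCat.epi_iff_surjective] at hepi
        exact hepi
      have hle' : (⊤ : Submodule B X) ≤ (Ideal.span {x}) • (⊤ : Submodule B X) := by
        intro y _
        obtain ⟨z, hz⟩ := hsurj y
        have hz' : x • z = y := by
          rw [← hz]
          exact (map_smul_id B F (ModuleCat.of B (B ⧸ p)) x z).symm
        rw [← hz']
        exact Submodule.smul_mem_smul (Ideal.subset_span rfl) trivial
      obtain ⟨r, hr1, hr2⟩ := Submodule.exists_sub_one_mem_and_smul_eq_zero_of_fg_of_le_smul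
        (Ideal.span {x}) (⊤ : Submodule B X) (Module.Finite.fg_top) hle'
      have hr : r ∈ m := hle (by
        rw [Module.mem_annihilator]
        exact fun y => hr2 y trivial)
      have hr' : r - 1 ∈ m := (Ideal.span_singleton_le_iff_mem _).2 hxm hr1
      have : (1 : B) ∈ m := by
        have := m.sub_mem hr hr'
        simpa using this
      exact hm.ne_top ((Ideal.eq_top_iff_one _).2 this)
  · obtain ⟨x, hxp, hxm⟩ := Set.not_subset.mp hpm
    apply hxm
    apply hle
    rw [Module.mem_annihilator]
    intro y
    have h0' : ModuleCat.ofHom (x • (LinearMap.id : (B ⧸ p) →ₗ[B] (B ⧸ p))) = 0 := by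
      apply ModuleCat.hom_ext
      apply LinearMap.ext
      intro z
      obtain ⟨z', rfl⟩ := Ideal.Quotient.mk_surjective z
      change x • Ideal.Quotient.mk p z' = 0
      rw [← Ideal.Quotient.mk_eq_mk, ← Submodule.Quotient.mk_smul, Submodule.Quotient.mk_eq_zero]
      exact p.mul_mem_right _ hxp
    have := map_smul_id B F (ModuleCat.of B (B ⧸ p)) x y
    rw [h0', F.map_zero] at this
    exact this.symm

end main


/-- Let B be a Noetherian ring and F an additive, B-linear endofunctor of B-modules which preserves
finite generation and is semi-exact on short exact sequences of finitely generated modules (the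
image sequence is exact in the middle). If F kills B/m for every maximal ideal m, then F kills every
finitely generated B-module. (The published statement assumes F only additive; this row assumes F
B-linear, and takes the functor on all B-modules with the hypotheses and the conclusion on the
finitely generated ones.) -/
theorem result (B : Type u) [CommRing B]
    [IsNoetherianRing B] (F : ModuleCat.{u} B ⥤ ModuleCat.{u} B) [F.Additive] [F.Linear B]
    (hfg : ∀ M : ModuleCat.{u} B, Module.Finite B M → Module.Finite B (F.obj M))
    (hex : ∀ S : ShortComplex (ModuleCat.{u} B), S.ShortExact → Module.Finite B S.X₂ → (S.map F).Exact)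
    (h0 : ∀ m : Ideal B, m.IsMaximal → Limits.IsZero (F.obj (ModuleCat.of B (B ⧸ m))))
    (M : ModuleCat.{u} B) (hM : Module.Finite B M) : Limits.IsZero (F.obj M) := by
  have key := lemmaA B F hex M hM (fun q _ => isZero_quotient_prime B F hfg hex h0 q.asIdeal q.isPrime)
  exact key

end Groth.Agent.S11461
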