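import Groth.Statements.S11467
import Groth.Agent.Lib.Helper59.ObsGen

set_option autoImplicit false
universe u
open DefT

namespace Groth.Agent.S11467

/-- Let P be a regular local k-algebra with residue field k, I ⊆ m_P² an ideal (so that dim P is the
embedding dimension of A = P/I), and suppose A has an obstruction theory whose obstruction space is
a finite-dimensional k-vector space V (obstructions in V ⊗ J attached to k-algebra maps A → C'/J for
small extensions of local Artinian k-algebras with residue field k, vanishing exactly when the map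
lifts, functorial in quotients of C'). Then dim A ≥ dim P − dim_k V; and if equality holds, I is
generated by dim P − dim A elements, so A is a local complete intersection in P. -/
theorem result (k : Type u) [Field k]
    (P : Type u) [CommRing P] [IsRegularLocalRing P] [Algebra k P]
    (hres : Function.Surjective (algebraMap k (IsLocalRing.ResidueField P)))
    (I : Ideal P) (hI : I ≤ IsLocalRing.maximalIdeal P ^ 2)
    (V : Type u) [AddCommGroup V] [Module k V] [Module.Finite k V]
    (T : W4bk4hartshdef114.ObsTheory k (P ⧸ I) V) :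
    ringKrullDim P ≤ ringKrullDim (P ⧸ I) + (Module.finrank k V : WithBot ℕ∞) ∧
      (ringKrullDim (P ⧸ I) + (Module.finrank k V : WithBot ℕ∞) = ringKrullDim P →
        ∃ s : Finset P, Ideal.span (s : Set P) = I ∧
          ringKrullDim (P ⧸ I) + (s.card : WithBot ℕ∞) = ringKrullDim P) := by
  classical
  have hsp : I.spanFinrank ≤ Module.finrank k V :=
    Groth.Agent.Lib.Helper59.ObsGen.spanFinrank_le hres I hI V T
  have hI𝔫 : I ≤ IsLocalRing.maximalIdeal P := le_trans hI (Ideal.pow_le_self two_ne_zero)
  have hjac : I ≤ Ring.jacobson P := by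
    rw [← Ideal.jacobson_bot, IsLocalRing.jacobson_eq_maximalIdeal ⊥ bot_ne_top]
    exact hI𝔫
  have h1 : ringKrullDim P ≤ ringKrullDim (P ⧸ I) + (I.spanFinrank : WithBot ℕ∞) :=
    ringKrullDim_le_ringKrullDim_quotient_add_spanFinrank I hjac
  have hfg : (I : Submodule P P).FG := (isNoetherianRing_iff_ideal_fg _).1 inferInstance I
  obtain ⟨s, hscard, hs⟩ := Submodule.FG.exists_span_finset_card_eq_spanFinrank hfg
  have hPfin : ringKrullDim P = ((IsLocalRing.maximalIdeal P).spanFinrank : WithBot ℕ∞) := by
    have := IsRegularLocalRing.spanFinrank_maximalIdeal (R := P)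
    rw [← this]
  have hntQ : Nontrivial (P ⧸ I) := Ideal.Quotient.nontrivial_iff.2 (fun h =>
    (IsLocalRing.maximalIdeal.isMaximal P).ne_top (top_le_iff.1 (h ▸ hI𝔫)))
  have hQle : ringKrullDim (P ⧸ I) ≤ ringKrullDim P :=
    ringKrullDim_le_of_surjective (Ideal.Quotient.mk I) Ideal.Quotient.mk_surjective
  set n := (IsLocalRing.maximalIdeal P).spanFinrank with hn
  have hQ0 : (0 : WithBot ℕ∞) ≤ ringKrullDim (P ⧸ I) := ringKrullDim_nonneg_of_nontrivial
  obtain ⟨D, hD⟩ : ∃ m : ℕ, ringKrullDim (P ⧸ I) = m := by
    have hle : ringKrullDim (P ⧸ I) ≤ (n : WithBot ℕ∞) := by rw [← hPfin]; exact hQle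
    generalize ringKrullDim (P ⧸ I) = x at hQ0 hle
    induction x using WithBot.recBotCoe with
    | bot => simp at hQ0
    | coe y =>
      induction y using ENat.recTopCoe with
      | top =>
        exfalso
        have : ((⊤ : ℕ∞) : WithBot ℕ∞) ≤ ((n : ℕ∞) : WithBot ℕ∞) := hle
        rw [WithBot.coe_le_coe] at this
        simp at this
      | coe m => exact ⟨m, rfl⟩
  rw [hD, hPfin] at h1 ⊢
  have h1' : n ≤ D + I.spanFinrank := by exact_mod_cast h1
  refine ⟨?_, ?_⟩
  · have : n ≤ D + Module.finrank k V := by omega
    exact_mod_cast this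
  · intro heq
    have h3 : D + Module.finrank k V = n := by exact_mod_cast heq
    refine ⟨s, hs, ?_⟩
    have : D + s.card = n := by omega
    exact_mod_cast this

end Groth.Agent.S11467
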