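import Groth.Statements.S1147
import Groth.Agent.Lib.Helper22.QFSlice

set_option autoImplicit false
universe u
open Desc

namespace Groth.Agent.S1147

/-- A prime maximal among ideals disjoint from a submonoid. -/
theorem exists_prime_maximal_disjoint {A : Type*} [CommRing A] (I : Ideal A) (S : Submonoid A)
    (disjoint : Disjoint (I : Set A) S) :
    ∃ p : Ideal A, p.IsPrime ∧ I ≤ p ∧ Disjoint (p : Set A) S ∧
      ∀ J : Ideal A, p ≤ J → Disjoint (J : Set A) S → J = p := by
  have ⟨p, hIp, hp⟩ := zorn_le_nonempty₀ {p : Ideal A | Disjoint (p : Set A) S}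
    (fun c hc hc' x hx ↦ ?_) I disjoint
  · exact ⟨p, Ideal.isPrime_of_maximally_disjoint _ _ hp.1 (fun _ ↦ hp.not_prop_of_gt), hIp, hp.1,
      fun J hpJ hJ => (hp.eq_of_le hJ hpJ).symm⟩
  cases isEmpty_or_nonempty c
  · exact ⟨I, disjoint, fun J hJ ↦ isEmptyElim (⟨J, hJ⟩ : c)⟩
  refine ⟨sSup c, Set.disjoint_left.mpr fun x hx ↦ ?_, fun _ ↦ le_sSup⟩
  have ⟨p, hp⟩ := (Submodule.mem_iSup_of_directed _ hc'.directed).mp (sSup_eq_iSup' c ▸ hx)
  exact Set.disjoint_left.mp (hc p.2) hp

/-- The Jacobson property descends along quasi-finite faithfully flat maps. -/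
theorem isJacobsonRing_of_quasiFinite_faithfullyFlat (A S : Type*) [CommRing A] [CommRing S]
    [Algebra A S] [Algebra.QuasiFinite A S] [Module.FaithfullyFlat A S] [IsJacobsonRing S] :
    IsJacobsonRing A := by
  rw [isJacobsonRing_iff_prime_eq]
  intro P hP
  refine le_antisymm ?_ Ideal.le_jacobson
  intro g hg
  by_contra hgP
  have hdisj : Disjoint (P : Set A) (Submonoid.powers g) := by
    rw [Set.disjoint_right]
    rintro _ ⟨n, rfl⟩ hn
    exact hgP (hP.mem_of_pow_mem n hn)
  obtain ⟨Q, hQ, hPQ, hQd, hQmax⟩ := exists_prime_maximal_disjoint P _ hdisj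
  have hgQ : g ∉ Q := fun h => Set.disjoint_left.mp hQd h (Submonoid.mem_powers g)
  have hQM : Q.IsMaximal := by
    by_contra hnm
    obtain ⟨m, hm, hQm⟩ := Ideal.exists_le_maximal Q hQ.ne_top
    have hmp : m.IsPrime := hm.isPrime
    have hne : Q ≠ m := fun h => hnm (h ▸ hm)
    obtain ⟨n', hn'p, hn'm⟩ := Ideal.exists_isPrime_liesOver_of_faithfullyFlat (B := S) m
    obtain ⟨n'', hle, hn''p, hn''Q⟩ := Ideal.exists_ideal_le_liesOver_of_le n' (p := Q) (q := m) hQm
    have hgn : algebraMap A S g ∉ n'' := by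
      intro h
      apply hgQ
      rw [n''.over_def Q]
      exact h
    have hjac := (isJacobsonRing_iff_prime_eq.mp ‹IsJacobsonRing S›) n'' hn''p
    have hex : ∃ N : Ideal S, N.IsMaximal ∧ n'' ≤ N ∧ algebraMap A S g ∉ N := by
      by_contra hcon
      push Not at hcon
      apply hgn
      rw [← hjac, Ideal.jacobson, Ideal.mem_sInf]
      rintro N ⟨hle, hmax⟩
      exact hcon N hmax hle
    obtain ⟨N, hNmax, hn''N, hgN⟩ := hex
    have hNp : N.IsPrime := hNmax.isPrime
    have hQN : Q ≤ N.under A := by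
      rw [n''.over_def Q]
      exact Ideal.comap_mono hn''N
    have hNQ : N.under A = Q := by
      apply hQmax _ hQN
      rw [Set.disjoint_right]
      rintro _ ⟨n, rfl⟩ hn
      have : g ∈ N.under A := (Ideal.IsPrime.under A N).mem_of_pow_mem n hn
      exact hgN this
    have heq : n'' = N := Algebra.QuasiFinite.eq_of_le_of_under_eq (R := A) n'' N hn''N
      (by rw [hNQ, ← n''.over_def Q])
    have hn''max : n''.IsMaximal := heq ▸ hNmax
    have heq2 : n'' = n' := hn''max.eq_of_le hn'p.ne_top hle
    apply hne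
    rw [n''.over_def Q, heq2, ← n'.over_def m]
  have : g ∈ Q := by
    rw [Ideal.jacobson, Ideal.mem_sInf] at hg
    exact hg ⟨hPQ, hQM⟩
  exact hgQ this

/-- Let A → B be a faithfully flat ring map of finite presentation. If B is a Jacobson ring then so is
A. (This is the affine descent direction of the statement that the Jacobson property is fppf local.) -/
theorem result (A B : Type u) [CommRing A] [CommRing B] [Algebra A B]
    [Module.FaithfullyFlat A B] [Algebra.FinitePresentation A B] [IsJacobsonRing B] : IsJacobsonRing A := by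
  obtain ⟨S', _, _, hqf, hft, hff, hfp, ⟨φ⟩⟩ :=
    Groth.Agent.Lib.Helper22.QFSlice.exists_quasiFinite_dominating A B
  let algBS : Algebra B S' := φ.toRingHom.toAlgebra
  have tow : IsScalarTower A B S' := IsScalarTower.of_algebraMap_eq (fun r => (φ.commutes r).symm)
  have hftB : Algebra.FiniteType B S' := Algebra.FiniteType.of_restrictScalars_finiteType A B S'
  have hJ : IsJacobsonRing S' := isJacobsonRing_of_finiteType (A := B) (B := S')
  exact isJacobsonRing_of_quasiFinite_faithfullyFlat A S'

end Groth.Agent.S1147
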