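import Groth.Statements.S1148
import Mathlib

set_option autoImplicit false
universe u
open Desc

namespace Groth.Agent.S1148

section Helpers
open PrimeSpectrum TensorProduct
lemma finite_irr_iff (R : Type*) [CommRing R] :
    (irreducibleComponents (PrimeSpectrum R)).Finite ↔ (minimalPrimes R).Finite := by
  rw [← Set.finite_coe_iff, ← Set.finite_coe_iff]
  exact (Equiv.finite_iff
    ((minimalPrimes.equivIrreducibleComponents R).toEquiv.trans OrderDual.ofDual)).symm

lemma under_mem_minimalPrimes {A B : Type*} [CommRing A] [CommRing B] [Algebra A B]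
    [Algebra.HasGoingDown A B] {q : Ideal B} (hq : q ∈ minimalPrimes B) :
    q.under A ∈ minimalPrimes A := by
  have hqp : q.IsPrime := hq.1.1
  refine ⟨⟨inferInstance, bot_le⟩, ?_⟩
  rintro p' ⟨hp', -⟩ hle
  have : q.LiesOver (q.under A) := ⟨rfl⟩
  obtain ⟨P, hPq, hP, hPl⟩ := Ideal.exists_ideal_le_liesOver_of_le (p := p') (q := q.under A) q hle
  have : P = q := le_antisymm hPq (hq.2 ⟨hP, bot_le⟩ hPq)
  subst this
  rw [← hPl.over]

lemma finite_minimalPrimes_over {A B : Type*} [CommRing A] [CommRing B] [Algebra A B]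
    [Algebra.FiniteType A B] (p : Ideal A) [p.IsPrime] :
    {q ∈ minimalPrimes B | q.under A = p}.Finite := by
  have : Algebra.FiniteType p.ResidueField (p.Fiber B) := inferInstance
  have : IsNoetherianRing (p.Fiber B) := Algebra.FiniteType.isNoetherianRing p.ResidueField _
  have hfin := minimalPrimes.finite_of_isNoetherianRing (p.Fiber B)
  refine (hfin.image (fun Q => Q.comap
    (Algebra.TensorProduct.includeRight : B →ₐ[A] p.Fiber B))).subset ?_
  rintro q ⟨hq, hqp⟩
  have hqP : q.IsPrime := hq.1.1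
  have hmem : q ∈ p.primesOver B := ⟨hqP, ⟨hqp.symm⟩⟩
  let e := PrimeSpectrum.primesOverOrderIsoFiber A B p
  refine ⟨(e ⟨q, hmem⟩).asIdeal, ⟨⟨(e ⟨q, hmem⟩).2, bot_le⟩, ?_⟩, ?_⟩
  · rintro Q' ⟨hQ', -⟩ hle
    have h1 : e.symm ⟨Q', hQ'⟩ ≤ ⟨q, hmem⟩ := by
      rw [e.symm_apply_le]
      exact hle
    have h2 : (e.symm ⟨Q', hQ'⟩ : Ideal B) = q :=
      le_antisymm h1 (hq.2 ⟨(e.symm ⟨Q', hQ'⟩).2.1, bot_le⟩ h1)
    have h3 : e.symm ⟨Q', hQ'⟩ = ⟨q, hmem⟩ := Subtype.ext h2
    have h4 : (⟨Q', hQ'⟩ : PrimeSpectrum (p.Fiber B)) = e ⟨q, hmem⟩ := by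
      rw [← h3, e.apply_symm_apply]
    rw [← h4]
  · have := PrimeSpectrum.coe_primesOverOrderIsoFiber_symm_apply (R := A) (S := B) (p := p)
      (e ⟨q, hmem⟩)
    simp only [e, OrderIso.symm_apply_apply] at this
    exact this.symm

end Helpers

/-- Affine form (finiteness of irreducible components of quasi-compact opens is fppf local; this is the
ascent direction for a morphism of affine schemes). Let A → B be a flat ring map of finite
presentation. If Spec A has finitely many irreducible components, then so does Spec B. -/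
theorem result (A B : Type u) [CommRing A] [CommRing B] [Algebra A B]
    [Module.Flat A B] [Algebra.FinitePresentation A B] (h : (irreducibleComponents (PrimeSpectrum A)).Finite) :
    (irreducibleComponents (PrimeSpectrum B)).Finite := by
  rw [finite_irr_iff] at h ⊢
  have hft : Algebra.FiniteType A B := inferInstance
  refine (h.biUnion (t := fun p => {q ∈ minimalPrimes B | q.under A = p}) ?_).subset ?_
  · intro p hp
    have : p.IsPrime := hp.1.1
    exact finite_minimalPrimes_over p
  · intro q hq
    simp only [Set.mem_iUnion, Set.mem_ofPred_eq, exists_prop]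
    exact ⟨q.under A, under_mem_minimalPrimes hq, hq, rfl⟩

end Groth.Agent.S1148
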