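import Groth.Statements.S11493
import Groth.Agent.Lib.Helper59.SerreFree

set_option autoImplicit false
universe u
open CategoryTheory
open VBPn

namespace Groth.Agent.S11493

/-- Let A be a Noetherian local ring and I an ideal with a free resolution of length 1, 0 → A^p → A^q →
I → 0 (equivalently: a surjection A^q → I with free kernel). Let 0 → A → M → I → 0 be an extension
with class e ∈ Ext^1(I, A). Then M is free if and only if e generates the A-module Ext^1(I, A); the
A-module structure being through End(A) = A, this says every element of Ext^1(I, A) is the composite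
of e with an endomorphism of A. -/
theorem result (A : Type u) [CommRing A] [IsNoetherianRing A] [IsLocalRing A]
    (I : Ideal A)
    (hres : ∃ (q : ℕ) (φ : (Fin q → A) →ₗ[A] ↥I), Function.Surjective φ ∧ Module.Free A ↥(LinearMap.ker φ))
    (S : ShortComplex (ModuleCat.{u} A)) (hS : S.ShortExact)
    (h₁ : Nonempty (S.X₁ ≅ ModuleCat.of A A)) (h₃ : Nonempty (S.X₃ ≅ ModuleCat.of A ↥I)) :
    Module.Free A S.X₂ ↔
      ∀ x : Abelian.Ext S.X₃ S.X₁ 1, ∃ f : S.X₁ ⟶ S.X₁, hS.extClass.comp (Abelian.Ext.mk₀ f) (add_zero 1) = x := by
  obtain ⟨q, φ, hφ, hfree⟩ := hres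
  obtain ⟨i₁⟩ := h₁
  obtain ⟨i₃⟩ := h₃
  constructor
  · intro hfreeX
    have : Module.Projective A S.X₂ := inferInstance
    have : Projective S.X₂ := ModuleCat.projective_of_categoryTheory_projective S.X₂
    exact fun x => Lib.Helper59.SerreFree.generates_of_projective S hS x
  · intro h
    have hPA : Projective (ModuleCat.of A A) :=
      ModuleCat.projective_of_categoryTheory_projective _
    have : Projective S.X₁ := Projective.of_iso i₁.symm hPA
    have hExt := Lib.Helper59.SerreFree.ext_eq_zero_of_generates S hS h
    have hfinj : Function.Injective S.f.hom := by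
      have := hS.mono_f
      exact (ModuleCat.mono_iff_injective _).mp this
    have hgsurj : Function.Surjective S.g.hom := by
      have := hS.epi_g
      exact (ModuleCat.epi_iff_surjective _).mp this
    have hex : Function.Exact S.f.hom S.g.hom :=
      (ShortComplex.ShortExact.moduleCat_exact_iff_function_exact _).mp hS.exact
    let e₁ : S.X₁ ≃ₗ[A] A := i₁.toLinearEquiv
    let e₃ : S.X₃ ≃ₗ[A] I := i₃.toLinearEquiv
    obtain ⟨ψ, hψ⟩ := Module.projective_lifting_property S.g.hom
      ((e₃.symm : ↥I →ₗ[A] S.X₃).comp φ) hgsurj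
    have hψ' : ∀ v, S.g.hom (ψ v) = e₃.symm (φ v) := fun v => by
      have := congrArg (fun t => t v) hψ
      simpa using this
    let π : (A × (Fin q → A)) →ₗ[A] S.X₂ :=
      (S.f.hom.comp (e₁.symm : A →ₗ[A] S.X₁)).coprod ψ
    have hπ_apply : ∀ a v, π (a, v) = S.f.hom (e₁.symm a) + ψ v := fun a v => by
      simp [π]
    have hπ : Function.Surjective π := by
      intro m
      obtain ⟨v, hv⟩ := hφ (e₃ (S.g.hom m))
      have h0 : S.g.hom (m - ψ v) = 0 := by
        rw [map_sub, hψ', hv, LinearEquiv.symm_apply_apply, sub_self]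
      obtain ⟨n, hn⟩ := (hex _).mp h0
      refine ⟨(e₁ n, v), ?_⟩
      rw [hπ_apply, LinearEquiv.symm_apply_apply, hn, sub_add_cancel]
    -- the kernel of `π` is isomorphic to the kernel of `φ`
    let κ : LinearMap.ker π →ₗ[A] LinearMap.ker φ :=
      LinearMap.codRestrict _ ((LinearMap.snd A A (Fin q → A)).comp (LinearMap.ker π).subtype)
        (fun x => by
          obtain ⟨⟨a, v⟩, hx⟩ := x
          have hx' : S.f.hom (e₁.symm a) + ψ v = 0 := by rw [← hπ_apply]; exact hx
          have := congrArg S.g.hom hx'
          rw [map_add, map_zero, hψ', hex.apply_apply_eq_zero, zero_add] at this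
          have h2 : φ v = 0 := by
            have := congrArg e₃ this
            simpa using this
          simpa using h2)
    have hκ_apply : ∀ (a : A) (v : Fin q → A) (hx : (a, v) ∈ LinearMap.ker π),
        ((κ ⟨(a, v), hx⟩ : LinearMap.ker φ) : Fin q → A) = v := fun a v hx => rfl
    have hκ : Function.Bijective κ := by
      constructor
      · rw [← LinearMap.ker_eq_bot, LinearMap.ker_eq_bot']
        rintro ⟨⟨a, v⟩, hx⟩ h0
        have hv : v = 0 := by
          have := congrArg (fun t : LinearMap.ker φ => (t : Fin q → A)) h0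
          simpa [hκ_apply] using this
        subst hv
        have hx' : S.f.hom (e₁.symm a) + ψ 0 = 0 := by rw [← hπ_apply]; exact hx
        rw [map_zero, add_zero] at hx'
        have h1 : e₁.symm a = 0 := hfinj (by rw [hx', map_zero])
        have ha : a = 0 := by
          have := congrArg e₁ h1
          simpa using this
        subst ha
        rfl
      · rintro ⟨v, hv⟩
        have h0 : S.g.hom (ψ v) = 0 := by
          rw [hψ']
          have : φ v = 0 := hv
          rw [this, map_zero]
        obtain ⟨n, hn⟩ := (hex _).mp h0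
        have hx : (-(e₁ n), v) ∈ LinearMap.ker π := by
          rw [LinearMap.mem_ker, hπ_apply, map_neg, LinearEquiv.symm_apply_apply, map_neg, hn,
            neg_add_cancel]
        exact ⟨⟨(-(e₁ n), v), hx⟩, Subtype.ext (hκ_apply _ _ hx)⟩
    have : Module.Free A (LinearMap.ker π) :=
      Module.Free.of_equiv (LinearEquiv.ofBijective κ hκ).symm
    exact Lib.Helper59.SerreFree.free_of_ext_eq_zero π hπ S.X₁ i₁ (fun y => hExt y)

end Groth.Agent.S11493
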