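import Groth.Statements.S11496
import Groth.Agent.S0564
import Groth.Agent.S0563
import Groth.Agent.S11553

set_option autoImplicit false
universe u
open CategoryTheory
open VBPn

namespace Groth.Agent.S11496

/-- Let A be a regular local ring, M a finitely generated A-module and i ≥ 0. The support of Ext^i_A(M,
A) has dimension at most dim A − i: for every prime ideal p of A such that Ext^i over the
localization A_p of M_p into A_p is nonzero (this Ext group is the localization at p of Ext^i_A(M,
A)), one has dim(A/p) + i ≤ dim A. The published statement is for coherent analytic sheaves on an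
n-dimensional complex manifold; this row is stated for any regular local ring. -/
theorem result (A : Type u) [CommRing A] [IsRegularLocalRing A]
    (M : Type u) [AddCommGroup M] [Module A M] [Module.Finite A M] (i : ℕ) (p : Ideal A) [p.IsPrime]
    (h : Nontrivial (Abelian.Ext
      (ModuleCat.of (Localization.AtPrime p) (LocalizedModule p.primeCompl M))
      (ModuleCat.of (Localization.AtPrime p) (Localization.AtPrime p)) i)) :
    ringKrullDim (A ⧸ p) + (i : WithBot ℕ∞) ≤ ringKrullDim A := by
  have hreg : IsRegularLocalRing (Localization.AtPrime p) := Groth.Agent.S0564.result A p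
  have hdim : ringKrullDim (Localization.AtPrime p) = p.height :=
    IsLocalization.AtPrime.ringKrullDim_eq_height p _
  obtain ⟨d, hd⟩ : ∃ d : ℕ, p.height = d :=
    ENat.ne_top_iff_exists.mp (Ideal.height_ne_top_of_isPrime) |>.imp fun _ h => h.symm
  have hpd := Groth.Agent.S0563.result (Localization.AtPrime p) d (by rw [hdim, hd]; rfl)
    (LocalizedModule p.primeCompl M)
  have hid : i ≤ d := by
    by_contra hlt
    push Not at hlt
    have hsub : Subsingleton (Abelian.Ext
        (ModuleCat.of (Localization.AtPrime p) (LocalizedModule p.primeCompl M))
        (ModuleCat.of (Localization.AtPrime p) (Localization.AtPrime p)) i) :=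
      ⟨fun a b => by
        rw [Abelian.Ext.eq_zero_of_hasProjectiveDimensionLT a (d + 1) (by omega),
          Abelian.Ext.eq_zero_of_hasProjectiveDimensionLT b (d + 1) (by omega)]⟩
    exact not_nontrivial _ h
  calc ringKrullDim (A ⧸ p) + (i : WithBot ℕ∞) ≤ ringKrullDim (A ⧸ p) + (d : WithBot ℕ∞) := by
        gcongr
    _ = (p.height : WithBot ℕ∞) + ringKrullDim (A ⧸ p) := by rw [hd, add_comm]; rfl
    _ ≤ ringKrullDim A := Groth.Agent.S11553.height_add_dim_quotient_le p

end Groth.Agent.S11496
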