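import Groth.Statements.S11497
import Mathlib.Algebra.Homology.DerivedCategory.Ext.ExactSequences

set_option autoImplicit false
universe w v u
open CategoryTheory
open VBPn

namespace Groth.Agent.S11497

open CategoryTheory.Abelian CategoryTheory.Limits

section aux

variable {C : Type u} [Category.{v} C] [Abelian C]

/-- the short exact sequence `0 → cycles → X₂ → X₃ → 0` of a short complex with `g` epi. -/
theorem shortExact_cycles (M : ShortComplex C) [Epi M.g] :
    (ShortComplex.mk M.iCycles M.g M.iCycles_g).ShortExact :=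
  ShortComplex.ShortExact.mk' (ShortComplex.exact_of_f_is_kernel _ M.cyclesIsKernel)
    (inferInstanceAs (Mono M.iCycles)) (inferInstanceAs (Epi M.g))

/-- the short exact sequence `0 → X₁ → cycles → homology → 0` of a short complex with `f` mono. -/
theorem shortExact_homology (M : ShortComplex C) [Mono M.f] :
    (ShortComplex.mk M.toCycles M.homologyπ M.toCycles_comp_homologyπ).ShortExact := by
  have : Mono M.toCycles := mono_of_mono_fac M.toCycles_i
  exact ShortComplex.ShortExact.mk' (ShortComplex.exact_of_g_is_cokernel _ M.homologyIsCokernel)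
    (inferInstanceAs (Mono M.toCycles)) (inferInstanceAs (Epi M.homologyπ))

end aux

/-- In an abelian category, let M : A → B → C and M' : A' → B' → C' be monads, i.e. short complexes
whose first map is a monomorphism and whose second map is an epimorphism, with cohomology (homology)
objects E and E'. Suppose Hom(B, A') = 0, Hom(C, B') = 0 and Ext^1(C, A') = Ext^1(B, A') = Ext^1(C,
B') = Ext^2(C, A') = 0. Then the map sending a morphism of monads M → M' to the induced morphism E →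
E' is bijective. The published statement is for monads of vector bundles on a complex manifold X,
with Ext^i(C, A') written H^i(X, C^* ⊗ A'); this row is stated in any abelian category. -/
theorem result {C : Type u} [Category.{v} C] [Abelian C] [HasExt.{w} C]
    (M M' : ShortComplex C) [Mono M.f] [Epi M.g] [Mono M'.f] [Epi M'.g]
    (hBA : ∀ f : M.X₂ ⟶ M'.X₁, f = 0) (hCB : ∀ f : M.X₃ ⟶ M'.X₂, f = 0)
    (hCA₁ : Subsingleton (Abelian.Ext M.X₃ M'.X₁ 1)) (hBA₁ : Subsingleton (Abelian.Ext M.X₂ M'.X₁ 1))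
    (hCB₁ : Subsingleton (Abelian.Ext M.X₃ M'.X₂ 1)) (hCA₂ : Subsingleton (Abelian.Ext M.X₃ M'.X₁ 2)) :
    Function.Bijective (fun φ : M ⟶ M' => ShortComplex.homologyMap φ) := by
  have hS1 := shortExact_cycles M
  have hS2' := shortExact_homology M'
  have hS1' := shortExact_cycles M'
  have hS2 := shortExact_homology M
  have : Mono M'.toCycles := mono_of_mono_fac M'.toCycles_i
  have : Mono M.toCycles := mono_of_mono_fac M.toCycles_i
  -- (F1) Hom(K, A') = 0
  have F1 : ∀ h : M.cycles ⟶ M'.X₁, h = 0 := by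
    intro h
    obtain ⟨x₂, hx₂⟩ := Ext.contravariant_sequence_exact₁ hS1 M'.X₁ (Ext.mk₀ h) (n₁ := 1) rfl
      (Subsingleton.elim _ _)
    obtain ⟨b, rfl⟩ := Ext.addEquiv₀.symm.surjective x₂
    have hb : b = 0 := hBA b
    subst hb
    have : Ext.mk₀ h = 0 := by
      rw [← hx₂]; simp
    simpa using this
  -- (F2) Ext¹(K, A') = 0
  have F2 : ∀ x : Ext M.cycles M'.X₁ 1, x = 0 := by
    intro x
    obtain ⟨x₂, hx₂⟩ := Ext.contravariant_sequence_exact₁ hS1 M'.X₁ x (n₁ := 2) rfl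
      (Subsingleton.elim _ _)
    have : x₂ = 0 := Subsingleton.elim _ _
    rw [← hx₂, this, Ext.comp_zero]
  -- (F3) lifting K → E' to K → K'
  have F3 : ∀ t : M.cycles ⟶ M'.homology, ∃ ψ : M.cycles ⟶ M'.cycles, ψ ≫ M'.homologyπ = t := by
    intro t
    obtain ⟨x₂, hx₂⟩ := Ext.covariant_sequence_exact₃ M.cycles hS2' (Ext.mk₀ t) (n₁ := 1) rfl (F2 _)
    obtain ⟨ψ, rfl⟩ := Ext.addEquiv₀.symm.surjective x₂
    refine ⟨ψ, ?_⟩
    have h2 : Ext.mk₀ (ψ ≫ M'.homologyπ) = Ext.mk₀ t := by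
      rw [← hx₂]; simp
    exact Ext.addEquiv₀.symm.injective h2
  -- (F4) uniqueness of the lifting
  have F4 : ∀ ψ₁ ψ₂ : M.cycles ⟶ M'.cycles, ψ₁ ≫ M'.homologyπ = ψ₂ ≫ M'.homologyπ → ψ₁ = ψ₂ := by
    intro ψ₁ ψ₂ h
    have h0 : (ψ₁ - ψ₂) ≫ M'.homologyπ = 0 := by rw [Preadditive.sub_comp, h, sub_self]
    obtain ⟨l, hl⟩ := hS2'.exact.lift' (ψ₁ - ψ₂) h0
    rw [F1 l, zero_comp] at hl
    exact (sub_eq_zero.mp hl.symm)
  -- (F5) extension K → B' to B → B'
  have F5 : ∀ s : M.cycles ⟶ M'.X₂, ∃ β : M.X₂ ⟶ M'.X₂, M.iCycles ≫ β = s := by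
    intro s
    obtain ⟨x₂, hx₂⟩ := Ext.contravariant_sequence_exact₁ hS1 M'.X₂ (Ext.mk₀ s) (n₁ := 1) rfl
      (Subsingleton.elim _ _)
    obtain ⟨β, rfl⟩ := Ext.addEquiv₀.symm.surjective x₂
    refine ⟨β, ?_⟩
    have h2 : Ext.mk₀ (M.iCycles ≫ β) = Ext.mk₀ s := by
      rw [← hx₂]; simp
    exact Ext.addEquiv₀.symm.injective h2
  -- (F6) uniqueness of the extension
  have F6 : ∀ β₁ β₂ : M.X₂ ⟶ M'.X₂, M.iCycles ≫ β₁ = M.iCycles ≫ β₂ → β₁ = β₂ := by
    intro β₁ β₂ h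
    have h0 : M.iCycles ≫ (β₁ - β₂) = 0 := by rw [Preadditive.comp_sub, h, sub_self]
    obtain ⟨l, hl⟩ := hS1.exact.desc' (β₁ - β₂) h0
    rw [hCB l, comp_zero] at hl
    exact (sub_eq_zero.mp hl.symm)
  constructor
  · -- injectivity
    intro Φ₁ Φ₂ h
    have h' : ShortComplex.homologyMap Φ₁ = ShortComplex.homologyMap Φ₂ := h
    have hψ : ShortComplex.cyclesMap Φ₁ = ShortComplex.cyclesMap Φ₂ := by
      apply F4
      rw [← ShortComplex.homologyπ_naturality, ← ShortComplex.homologyπ_naturality, h']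
    have h2 : Φ₁.τ₂ = Φ₂.τ₂ := by
      apply F6
      rw [← ShortComplex.cyclesMap_i, ← ShortComplex.cyclesMap_i, hψ]
    have h1 : Φ₁.τ₁ = Φ₂.τ₁ := by
      rw [← cancel_mono M'.f, Φ₁.comm₁₂, Φ₂.comm₁₂, h2]
    have h3 : Φ₁.τ₃ = Φ₂.τ₃ := by
      rw [← cancel_epi M.g, ← Φ₁.comm₂₃, ← Φ₂.comm₂₃, h2]
    exact ShortComplex.hom_ext _ _ h1 h2 h3
  · -- surjectivity
    intro φ
    obtain ⟨ψ, hψ⟩ := F3 (M.homologyπ ≫ φ)
    obtain ⟨β, hβ⟩ := F5 (ψ ≫ M'.iCycles)
    have hα0 : (M.toCycles ≫ ψ) ≫ M'.homologyπ = 0 := by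
      rw [Category.assoc, hψ, ← Category.assoc, M.toCycles_comp_homologyπ, zero_comp]
    obtain ⟨α, hα⟩ := hS2'.exact.lift' (M.toCycles ≫ ψ) hα0
    have hγ0 : M.iCycles ≫ (β ≫ M'.g) = 0 := by
      rw [← Category.assoc, hβ, Category.assoc, M'.iCycles_g, comp_zero]
    obtain ⟨γ, hγ⟩ := hS1.exact.desc' (β ≫ M'.g) hγ0
    have hα' : α ≫ M'.toCycles = M.toCycles ≫ ψ := hα
    have hγ' : M.g ≫ γ = β ≫ M'.g := hγ
    have c12 : α ≫ M'.f = M.f ≫ β := by
      rw [← M'.toCycles_i, ← Category.assoc, hα', Category.assoc, ← hβ, ← Category.assoc, M.toCycles_i]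
    let Φ : M ⟶ M' := ⟨α, β, γ, c12, hγ'.symm⟩
    refine ⟨Φ, ?_⟩
    change ShortComplex.homologyMap Φ = φ
    have hcyc : ShortComplex.cyclesMap Φ = ψ := by
      rw [← cancel_mono M'.iCycles, ShortComplex.cyclesMap_i]
      exact hβ
    rw [← cancel_epi M.homologyπ, ShortComplex.homologyπ_naturality, hcyc, hψ]

end Groth.Agent.S11497
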