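import Groth.Statements.S11499
import Groth.Agent.H34.TorsionFree

set_option autoImplicit false
universe u
open TensorProduct
open VBPn

namespace Groth.Agent.S11499

/-- Let A be an integral domain with fraction field K and M a finitely generated torsion-free A-module
of rank r (K ⊗_A M is r-dimensional over K). Then there is an injective A-linear map M → A^r. The
published statement is for torsion-free coherent sheaves on a complex manifold, locally near a
point; this row is its statement for one stalk, over any domain. -/
theorem result (A : Type u) [CommRing A] [IsDomain A]
    (M : Type u) [AddCommGroup M] [Module A M] [Module.Finite A M] [NoZeroSMulDivisors A M] (r : ℕ)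
    (hr : Module.finrank (FractionRing A) (FractionRing A ⊗[A] M) = r) :
    ∃ f : M →ₗ[A] (Fin r → A), Function.Injective f := by
  have h1 : Module.finrank (FractionRing A) (FractionRing A ⊗[A] M) = Module.finrank A M :=
    (TensorProduct.isBaseChange A M (FractionRing A)).finrank_eq
  obtain ⟨h, hker, -⟩ := Groth.Agent.H34.exists_map_to_fin_fun A M
  subst hr
  rw [h1]
  refine ⟨h, ?_⟩
  intro x y hxy
  have h0 : h (x - y) = 0 := by rw [map_sub, hxy, sub_self]
  obtain ⟨c, hc, hcx⟩ := hker _ h0
  rcases smul_eq_zero.mp hcx with h' | h'
  · exact absurd h' hc
  · exact sub_eq_zero.mp h'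

end Groth.Agent.S11499
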