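import Groth.Statements.S11521
import Mathlib.CategoryTheory.Triangulated.TStructure.AbelianSubcategory
import Mathlib.CategoryTheory.Triangulated.TStructure.TruncLTGE
import Mathlib.CategoryTheory.Triangulated.TStructure.Heart
import Mathlib.CategoryTheory.Abelian.Exact

set_option autoImplicit false
universe v u v' u'
open CategoryTheory CategoryTheory.Limits CategoryTheory.Pretriangulated CategoryTheory.Triangulated
open PervT

namespace Groth.Agent.S11521

section Helpers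

variable {C : Type u} [Category.{v} C] [Preadditive C] [HasZeroObject C] [HasShift C ℤ]
  [∀ n : ℤ, (shiftFunctor C n).Additive] [Pretriangulated C] [IsTriangulated C] (t : TStructure C)
  {H : Type u'} [Category.{v'} H] [Abelian H] [t.Heart H]

lemma hι ⦃X Y : H⦄ ⦃n : ℤ⦄ (f : t.ιHeart.obj X ⟶ (t.ιHeart.obj Y)⟦n⟧) (hn : n < 0) : f = 0 := by
  have : t.IsGE ((t.ιHeart.obj Y)⟦n⟧) (-n) := t.isGE_shift (t.ιHeart.obj Y) 0 n (-n) (by omega)
  exact t.zero f 0 (-n) (by omega)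

lemma backward {X Y Z : H} (u : X ⟶ Y) (v : Y ⟶ Z)
    (w : t.ιHeart.obj Z ⟶ (t.ιHeart.obj X)⟦(1 : ℤ)⟧)
    (hT : Triangle.mk (t.ιHeart.map u) (t.ιHeart.map v) w ∈ distTriang C) :
    ∃ huv : u ≫ v = 0, (ShortComplex.mk u v huv).ShortExact := by
  have h1 := AbelianSubcategory.isLimitKernelForkOfDistTriang (hι t) u v w hT
  have h2 := AbelianSubcategory.isColimitCokernelCoforkOfDistTriang (hι t) u v w hT
  have huv : u ≫ v = 0 := t.ιHeart.map_injective (by
    have := comp_distTriang_mor_zero₁₂ _ hT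
    rw [Functor.map_comp, Functor.map_zero]
    exact this)
  refine ⟨huv, ?_⟩
  have hm : Mono u := mono_of_isLimit_fork h1
  have he : Epi v := epi_of_isColimit_cofork h2
  exact { exact := ShortComplex.exact_of_f_is_kernel _ h1 }

set_option backward.isDefEq.respectTransparency false in
lemma forward {X Y Z : H} (u : X ⟶ Y) (v : Y ⟶ Z) (huv : u ≫ v = 0)
    (hS : (ShortComplex.mk u v huv).ShortExact) :
    ∃ (w : t.ιHeart.obj Z ⟶ (t.ιHeart.obj X)⟦(1 : ℤ)⟧),
        Triangle.mk (t.ιHeart.map u) (t.ιHeart.map v) w ∈ distTriang C := by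
  have hm : Mono u := hS.mono_f
  have he : Epi v := hS.epi_g
  obtain ⟨W, f₂, f₃, hT⟩ := distinguished_cocone_triangle (t.ιHeart.map u)
  have hX1le : t.IsLE ((t.ιHeart.obj X)⟦(1 : ℤ)⟧) 0 :=
    have := t.isLE_shift (t.ιHeart.obj X) 0 1 (-1) (by omega)
    t.isLE_of_le _ (-1) 0 (by omega)
  have hX1ge : t.IsGE ((t.ιHeart.obj X)⟦(1 : ℤ)⟧) (-1) :=
    t.isGE_shift (t.ιHeart.obj X) 0 1 (-1) (by omega)
  have hYge : t.IsGE (t.ιHeart.obj Y) (-1) := t.isGE_of_ge _ (-1) 0 (by omega)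
  have hWle : t.IsLE W 0 :=
    t.isLE₂ _ (rot_of_distTriang _ hT) 0 (by exact (inferInstance : t.IsLE (t.ιHeart.obj Y) 0))
      (by exact hX1le)
  have hWge : t.IsGE W (-1) :=
    t.isGE₂ _ (rot_of_distTriang _ hT) (-1) (by exact hYge) (by exact hX1ge)
  -- the truncation
  let T := (t.truncLT 0).obj W
  let a : T ⟶ W := (t.truncLTι 0).app W
  have hTle : t.IsLE T (-1) := t.isLE_truncLT_obj W 0 (-1) (by omega)
  have hTge : t.IsGE T (-1) := inferInstance
  have hT1le : t.IsLE (T⟦(-1 : ℤ)⟧) 0 := t.isLE_shift T (-1) (-1) 0 (by omega)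
  have hT1ge : t.IsGE (T⟦(-1 : ℤ)⟧) 0 := t.isGE_shift T (-1) (-1) 0 (by omega)
  have hmem : (t.ιHeart (H := H)).essImage (T⟦(-1 : ℤ)⟧) := by
    rw [t.essImage_ιHeart H]
    exact (t.mem_heart_iff _).2 ⟨hT1le, hT1ge⟩
  obtain ⟨K, ⟨e⟩⟩ := hmem
  let e' : (t.ιHeart.obj K)⟦(1 : ℤ)⟧ ≅ T :=
    (shiftFunctor C (1 : ℤ)).mapIso e ≪≫ (shiftFunctorCompIsoId C (-1) 1 (by omega)).app T
  let α := e'.hom ≫ a
  let k : K ⟶ X := (t.ιHeart ⋙ shiftFunctor C (1 : ℤ)).preimage (α ≫ f₃)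
  have hk : (t.ιHeart.map k)⟦(1 : ℤ)⟧' = α ≫ f₃ :=
    (t.ιHeart ⋙ shiftFunctor C (1 : ℤ)).map_preimage _
  have hku : k ≫ u = 0 := by
    apply (t.ιHeart ⋙ shiftFunctor C (1 : ℤ)).map_injective
    have := comp_distTriang_mor_zero₃₁ _ hT
    simp only [Functor.comp_map, Functor.map_comp, Functor.map_zero]
    rw [hk, Category.assoc]
    erw [this, comp_zero]
  have hk0 : k = 0 := by rw [← cancel_mono u, hku, zero_comp]
  have hαf : α ≫ f₃ = 0 := by rw [← hk, hk0, Functor.map_zero, Functor.map_zero]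
  obtain ⟨g, hg⟩ := Triangle.coyoneda_exact₃ _ hT α hαf
  have hg0 : g = 0 := AbelianSubcategory.eq_zero_of_hom_shift_pos (hι t) g (by omega)
  have hα0 : α = 0 := by rw [hg, hg0]; exact zero_comp
  have ha0 : a = 0 := by rw [← cancel_epi e'.hom, comp_zero]; exact hα0
  have hT0 : IsZero T := by
    rw [IsZero.iff_id_eq_zero]
    have : t.IsLE T (0 - 1) := hTle
    apply t.to_truncLT_obj_ext
    change 𝟙 T ≫ a = 0 ≫ a
    rw [ha0, comp_zero, comp_zero]
  have hWge0 : t.IsGE W 0 := (t.isGE_iff_isZero_truncLT_obj 0 W).2 hT0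
  obtain ⟨Q, ⟨eQ⟩⟩ : (t.ιHeart (H := H)).essImage W := by
    rw [t.essImage_ιHeart H]
    exact (t.mem_heart_iff _).2 ⟨hWle, hWge0⟩
  let π : Y ⟶ Q := t.ιHeart.preimage (f₂ ≫ eQ.inv)
  have hπ : t.ιHeart.map π = f₂ ≫ eQ.inv := t.ιHeart.map_preimage _
  have hT2 : Triangle.mk (t.ιHeart.map u) (t.ιHeart.map π) (eQ.hom ≫ f₃) ∈ distTriang C := by
    refine isomorphic_distinguished _ hT _ ?_
    exact Triangle.isoMk _ _ (Iso.refl _) (Iso.refl _) eQ (by simp) (by simp [hπ]) (by simp)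
  have hc := AbelianSubcategory.isColimitCokernelCoforkOfDistTriang (hι t) u π _ hT2
  have hv := hS.gIsCokernel
  let φ : Q ≅ Z := IsColimit.coconePointUniqueUpToIso hc hv
  have hφ : π ≫ φ.hom = v :=
    IsColimit.comp_coconePointUniqueUpToIso_hom hc hv WalkingParallelPair.one
  refine ⟨t.ιHeart.map φ.inv ≫ eQ.hom ≫ f₃, isomorphic_distinguished _ hT2 _ ?_⟩
  exact Triangle.isoMk _ _ (Iso.refl _) (Iso.refl _) (t.ιHeart.mapIso φ.symm) (by simp)
    (by simp [← hφ, ← Functor.map_comp]) (by simp)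

end Helpers

/-- Let `C` be a triangulated category (octahedron axiom included) with a t-structure `t`, and let `H`
be an abelian category identified with the heart of `t` through a fully faithful additive functor
`ι` whose essential image is the heart. For morphisms `u : X ⟶ Y` and `v : Y ⟶ Z` in `H`, the
sequence `0 ⟶ X ⟶ Y ⟶ Z ⟶ 0` is a complex and is short exact if and only if there is a morphism `w :
ι Z ⟶ (ι X)⟦1⟧` such that `(ι u, ι v, w)` is a distinguished triangle of `C`. -/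
theorem result {C : Type u} [Category.{v} C] [Preadditive C] [HasZeroObject C] [HasShift C ℤ] [∀ n : ℤ, (shiftFunctor C n).Additive] [Pretriangulated C] [IsTriangulated C] (t : TStructure C) {H : Type u'} [Category.{v'} H] [Abelian H] [t.Heart H] {X Y Z : H} (u : X ⟶ Y) (v : Y ⟶ Z) :
    (∃ huv : u ≫ v = 0, (ShortComplex.mk u v huv).ShortExact) ↔
      ∃ (w : t.ιHeart.obj Z ⟶ (t.ιHeart.obj X)⟦(1 : ℤ)⟧),
        Triangle.mk (t.ιHeart.map u) (t.ιHeart.map v) w ∈ distTriang C := by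
  constructor
  · rintro ⟨huv, hS⟩
    exact forward t u v huv hS
  · rintro ⟨w, hT⟩
    exact backward t u v w hT

end Groth.Agent.S11521
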