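import Groth.Statements.S11523
import Mathlib.CategoryTheory.Abelian.Exact
import Mathlib.Algebra.Homology.ShortComplex.ExactFunctor

set_option autoImplicit false
universe v u v' u'
open CategoryTheory CategoryTheory.Limits
open PervT

namespace Groth.Agent.S11523

section Helpers

variable {A : Type u} [Category.{v} A] [Abelian A] {B : Type u'} [Category.{v'} B] [Abelian B]
    (u : A ⥤ B) [u.Full] [u.Faithful] [PreservesFiniteLimits u] [PreservesFiniteColimits u]

/-- every nonzero subobject of `u X` receives a nonzero map from some `u Z`. -/
def P (X : A) : Prop :=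
  ∀ (K : B) (k : K ⟶ u.obj X), Mono k → ¬ IsZero K → ∃ (Z : A) (f : u.obj Z ⟶ K), f ≠ 0

lemma additive_u : u.Additive := by
  have : u.PreservesZeroMorphisms := inferInstance
  exact Functor.additive_of_preserves_binary_products u

lemma P_step (hsimple : ∀ X : A, Simple X → Simple (u.obj X))
    {C S : A} (s : S ⟶ C) [Mono s] [hS : Simple S] (h : P u (cokernel s)) : P u C := by
  intro K k hk hK
  have := additive_u u
  have hex : (ShortComplex.mk (u.map s) (u.map (cokernel.π s))
      (by rw [← u.map_comp, cokernel.condition, u.map_zero])).Exact :=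
    (ShortComplex.exact_cokernel s).map u
  have : Mono (u.map s) := inferInstance
  have hsS : Simple (u.obj S) := hsimple S hS
  -- kernel of k ≫ u π
  let ι := kernel.ι (k ≫ u.map (cokernel.π s))
  have hι : (ι ≫ k) ≫ u.map (cokernel.π s) = 0 := by
    rw [Category.assoc]; exact kernel.condition _
  let j : kernel (k ≫ u.map (cokernel.π s)) ⟶ u.obj S := hex.lift (ι ≫ k) hι
  have hj : j ≫ u.map s = ι ≫ k := hex.lift_f (ι ≫ k) hι
  have hjm : Mono j := by
    have : Mono (j ≫ u.map s) := by rw [hj]; infer_instance
    exact mono_of_mono j (u.map s)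
  by_cases hj0 : j = 0
  · -- then ι = 0, so k ≫ u π is mono
    have hι0 : ι = 0 := by
      rw [← cancel_mono k, zero_comp, ← hj, hj0, zero_comp]
    have : Mono (k ≫ u.map (cokernel.π s)) := Abelian.mono_of_kernel_ι_eq_zero _ hι0
    exact h K _ this hK
  · have : IsIso j := isIso_of_mono_of_nonzero hj0
    refine ⟨S, inv j ≫ ι, fun h0 => ?_⟩
    have h1 : u.map s = 0 := by
      have : u.map s = (inv j ≫ ι) ≫ k := by
        rw [Category.assoc, ← hj, IsIso.inv_hom_id_assoc]
      rw [this, h0, zero_comp]
    have h2 : s = 0 := u.map_injective (by rw [h1, u.map_zero])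
    have h3 : 𝟙 S = 0 := by rw [← cancel_mono s, h2, comp_zero, comp_zero]
    exact id_nonzero S h3

lemma P_all (hlen : ∀ X : A, IsArtinianObject X ∧ IsNoetherianObject X)
    (hsimple : ∀ X : A, Simple X → Simple (u.obj X)) (X : A) : P u X := by
  have := (hlen X).2
  suffices H : ∀ W : Subobject X, ∀ (C : A) (p : X ⟶ C), Epi p → kernelSubobject p = W → P u C by
    exact H _ X (𝟙 X) inferInstance rfl
  intro W
  induction W using WellFoundedGT.induction with
  | ind W ih =>
    intro C p hp hW
    by_cases hC : IsZero C
    · intro K k hk hK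
      exfalso; apply hK
      have : IsZero (u.obj C) := u.map_isZero hC
      exact IsZero.of_mono k this
    · have := (hlen C).1
      obtain ⟨S, hS⟩ := exists_simple_subobject hC
      apply P_step u hsimple S.arrow
      refine ih (kernelSubobject (p ≫ cokernel.π S.arrow)) ?_ _ (p ≫ cokernel.π S.arrow)
        inferInstance rfl
      rw [← hW]
      refine lt_of_le_of_ne (kernelSubobject_comp_le p _) (fun heq => ?_)
      have h0 : (kernelSubobject (p ≫ cokernel.π S.arrow)).arrow ≫ p = 0 :=
        heq ▸ kernelSubobject_arrow_comp p
      have h1 : kernel.ι (p ≫ cokernel.π S.arrow) ≫ p = 0 := by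
        rw [← kernelSubobject_arrow', Category.assoc, h0, comp_zero]
      have h2 : (pullback.fst p S.arrow) ≫ p ≫ cokernel.π S.arrow = 0 := by
        rw [pullback.condition_assoc, cokernel.condition, comp_zero]
      have h3 : pullback.fst p S.arrow ≫ p = 0 := by
        rw [← kernel.lift_ι _ _ h2, Category.assoc, h1, comp_zero]
      have h4 : S.arrow = 0 := by
        rw [← cancel_epi (pullback.snd p S.arrow), comp_zero, ← pullback.condition, h3]
      have h5 : 𝟙 (S : A) = 0 := by rw [← cancel_mono S.arrow, h4, comp_zero, comp_zero]
      exact id_nonzero (S : A) h5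

end Helpers

/-- Let `u : A ⥤ B` be a fully faithful exact functor of abelian categories admitting a left adjoint and
a right adjoint `uStar`. Suppose every object of `A` has finite length (it is both an artinian and a
noetherian object) and that `u` sends simple objects to simple objects. Then for every object `Y` of
`B` the counit `u (uStar Y) ⟶ Y` of the adjunction `u ⊣ uStar` is a monomorphism. (The published
statement also lists two further conditions equivalent to this one: that for every object `Y` of `B`
the unit `Y ⟶ u (L Y)` of the adjunction `L ⊣ u` of the left adjoint `L` is an epimorphism, and that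
the essential image of `u` is stable under subobjects and quotients; this row states only the counit
condition.) -/
theorem result {A : Type u} [Category.{v} A] [Abelian A] {B : Type u'} [Category.{v'} B] [Abelian B]
    (u : A ⥤ B) [u.Full] [u.Faithful] [PreservesFiniteLimits u] [PreservesFiniteColimits u] [u.IsRightAdjoint]
    (uStar : B ⥤ A) (adj : u ⊣ uStar)
    (hlen : ∀ X : A, IsArtinianObject X ∧ IsNoetherianObject X)
    (hsimple : ∀ X : A, Simple X → Simple (u.obj X)) (Y : B) :
    Mono (adj.counit.app Y) := by
  apply Preadditive.mono_of_isZero_kernel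
  by_contra hK
  obtain ⟨Z, f, hf⟩ := P_all u hlen hsimple (uStar.obj Y) _ (kernel.ι (adj.counit.app Y))
    inferInstance hK
  apply hf
  obtain ⟨g, hg⟩ := u.map_surjective (f ≫ kernel.ι (adj.counit.app Y))
  have h1 : u.map g ≫ adj.counit.app Y = 0 := by
    rw [hg, Category.assoc, kernel.condition, comp_zero]
  have h2 : g = 0 := by
    have : (adj.homEquiv Z Y).symm g = (adj.homEquiv Z Y).symm 0 := by
      rw [Adjunction.homEquiv_counit, Adjunction.homEquiv_counit, h1, u.map_zero, zero_comp]
    exact (adj.homEquiv Z Y).symm.injective this
  rw [← cancel_mono (kernel.ι (adj.counit.app Y)), zero_comp, ← hg, h2, u.map_zero]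

end Groth.Agent.S11523
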