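import Groth.Statements.S1153
import Groth.Agent.Lib.Helper7.ProperThickening
import Groth.Agent.Lib.Helper7.ProperDescent
import Mathlib.AlgebraicGeometry.IdealSheaf.Functorial

set_option autoImplicit false
open CategoryTheory CategoryTheory.Limits AlgebraicGeometry Opposite
universe u
open Desc

namespace Groth.Agent.S1153

/-- Let f : X ⟶ Y be locally of finite type, Z a closed subset of X and g : Y' ⟶ Y quasi-compact, flat
and surjective. If the preimage of Z in X ×_Y Y' is proper over Y', then Z is proper over Y. -/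
theorem result {X Y Y' : Scheme.{u}} (f : X ⟶ Y) [LocallyOfFiniteType f] (Z : Set X) (hZ : IsClosed Z)
    (g : Y' ⟶ Y) [QuasiCompact g] [Flat g] [Surjective g]
    (h : ClSub.IsProperOver (pullback.snd f g) ((pullback.fst f g).base ⁻¹' Z)) :
    ClSub.IsProperOver f Z := by
  obtain ⟨hZ', hprop⟩ := h
  refine ⟨hZ, ?_⟩
  let I := Scheme.IdealSheafData.vanishingIdeal ⟨Z, hZ⟩
  let I' := Scheme.IdealSheafData.vanishingIdeal ⟨(pullback.fst f g).base ⁻¹' Z, hZ'⟩
  have H : I.subschemeι.ker ≤ (I'.subschemeι ≫ pullback.fst f g).ker := by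
    rw [Scheme.IdealSheafData.ker_subschemeι]
    change I ≤ I'.map (pullback.fst f g)
    rw [Scheme.IdealSheafData.map_vanishingIdeal]
    apply Scheme.IdealSheafData.vanishingIdeal_antimono
    rw [TopologicalSpace.Closeds.closure_le]
    exact Set.image_preimage_subset _ _
  let l := IsClosedImmersion.lift I.subschemeι (I'.subschemeι ≫ pullback.fst f g) H
  have hl : l ≫ I.subschemeι = I'.subschemeι ≫ pullback.fst f g :=
    IsClosedImmersion.lift_fac _ _ _
  let k : I'.subscheme ⟶ pullback (I.subschemeι ≫ f) g :=
    pullback.lift l (I'.subschemeι ≫ pullback.snd f g)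
      (by rw [reassoc_of% hl, Category.assoc, pullback.condition])
  have hk1 : k ≫ pullback.fst (I.subschemeι ≫ f) g = l := pullback.lift_fst _ _ _
  have hk2 : k ≫ pullback.snd (I.subschemeι ≫ f) g = I'.subschemeι ≫ pullback.snd f g :=
    pullback.lift_snd _ _ _
  let c : pullback (I.subschemeι ≫ f) g ⟶ pullback f g :=
    pullback.map (I.subschemeι ≫ f) g f g I.subschemeι (𝟙 _) (𝟙 _)
      ((Category.comp_id _).trans rfl) ((Category.comp_id _).trans (Category.id_comp _).symm)
  have hc : IsClosedImmersion c :=
    MorphismProperty.pullbackMap (P := @IsClosedImmersion)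
      (inferInstance : IsClosedImmersion I.subschemeι) (inferInstance : IsClosedImmersion (𝟙 Y'))
      rfl (Category.id_comp _).symm
  have hc1 : c ≫ pullback.fst f g = pullback.fst (I.subschemeι ≫ f) g ≫ I.subschemeι :=
    pullback.lift_fst _ _ _
  have hc2 : c ≫ pullback.snd f g = pullback.snd (I.subschemeι ≫ f) g :=
    (pullback.lift_snd (f := f) (g := g) _ _ _).trans (Category.comp_id _)
  have hkc : k ≫ c = I'.subschemeι := by
    apply pullback.hom_ext
    · rw [Category.assoc, hc1, reassoc_of% hk1, hl]
    · rw [Category.assoc, hc2, hk2]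
  have hkcl : IsClosedImmersion k := by
    have : IsClosedImmersion (k ≫ c) := by rw [hkc]; infer_instance
    exact IsClosedImmersion.of_comp_isClosedImmersion k c
  have hksurj : Surjective k := ⟨fun w => by
    have hcw : c w ∈ Set.range I'.subschemeι := by
      rw [Scheme.IdealSheafData.range_subschemeι, Scheme.IdealSheafData.coe_support_vanishingIdeal]
      show (pullback.fst f g) (c w) ∈ Z
      rw [← Scheme.Hom.comp_apply, hc1, Scheme.Hom.comp_apply]
      have : I.subschemeι (pullback.fst (I.subschemeι ≫ f) g w) ∈ Set.range I.subschemeι := ⟨_, rfl⟩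
      rwa [Scheme.IdealSheafData.range_subschemeι,
        Scheme.IdealSheafData.coe_support_vanishingIdeal] at this
    obtain ⟨z', hz'⟩ := hcw
    refine ⟨z', c.isClosedEmbedding.injective ?_⟩
    rw [← Scheme.Hom.comp_apply, hkc, hz']⟩
  have hkp : IsProper (k ≫ pullback.snd (I.subschemeι ≫ f) g) := by rw [hk2]; exact hprop
  have hW : IsProper (pullback.snd (I.subschemeι ≫ f) g) :=
    Groth.Agent.Lib.Helper7.isProper_of_comp_of_surjective_isClosedImmersion k _
  exact Groth.Agent.Lib.Helper7.descendsAlong_isProper.of_isPullback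
    (IsPullback.of_hasPullback (I.subschemeι ≫ f) g).flip
    ⟨⟨inferInstance, inferInstance⟩, inferInstance⟩ hW

end Groth.Agent.S1153
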