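import Groth.Statements.S11538
import Groth.Agent.H76.RegFlat
import Mathlib.RingTheory.Flat.TorsionFree
import Mathlib.RingTheory.Flat.Stability

set_option autoImplicit false
universe u v
open scoped TensorProduct
open AdicRing

namespace Groth.Agent.S11538

/-- Let A be a commutative ring, π an element of A which is not a zero divisor and M an A-module. Then M
is flat over A if and only if the π-power torsion of M vanishes, (A/πA) ⊗_A M is flat over A/πA, and
A[π⁻¹] ⊗_A M is flat over A[π⁻¹]. -/
theorem result
    (A : Type u) [CommRing A] (π : A) (hπ : π ∈ nonZeroDivisors A)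
    (M : Type v) [AddCommGroup M] [Module A M] :
    Module.Flat A M ↔
      (∀ (x : M) (n : ℕ), π ^ n • x = 0 → x = 0) ∧
        Module.Flat (A ⧸ Ideal.span {π}) ((A ⧸ Ideal.span {π}) ⊗[A] M) ∧
        Module.Flat (Localization.Away π) ((Localization.Away π) ⊗[A] M) := by
  constructor
  · intro hflat
    refine ⟨?_, inferInstance, inferInstance⟩
    intro x n hx
    have hreg : IsSMulRegular M (π ^ n) :=
      Module.Flat.isSMulRegular_of_nonZeroDivisors (pow_mem hπ n)
    exact hreg (show π ^ n • x = π ^ n • (0 : M) by rw [hx, smul_zero])
  · rintro ⟨h1, h2, h3⟩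
    haveI := h2
    haveI : Module.Flat (Localization.Away π) (LocalizedModule (Submonoid.powers π) M) := by
      have hbc : IsBaseChange (Localization.Away π)
          (LocalizedModule.mkLinearMap (Submonoid.powers π) M) :=
        IsLocalizedModule.isBaseChange (Submonoid.powers π) (Localization.Away π) _
      exact Module.Flat.of_linearEquiv hbc.equiv.symm
    refine Groth.Agent.H76.RegFlat.flat_of_regular π hπ ?_
    intro x y hxy
    have h0 : π ^ 1 • (x - y) = 0 := by
      rw [pow_one, smul_sub]
      exact sub_eq_zero.mpr hxy
    exact sub_eq_zero.mp (h1 _ 1 h0)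

end Groth.Agent.S11538
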