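import Groth.Statements.S11545
import Mathlib

set_option autoImplicit false
universe u
open AdicRing

namespace Groth.Agent.S11545

/-- Equality in a Hausdorff ring can be tested modulo all powers of the ideal. -/
theorem eq_of_forall_sub_mem_pow {B : Type*} [CommRing B] (K : Ideal B) [IsHausdorff K B]
    (x y : B) (h : ∀ n : ℕ, x - y ∈ K ^ n) : x = y := by
  rw [← sub_eq_zero]
  refine IsHausdorff.haus' (I := K) (x - y) fun n => ?_
  rw [SModEq.zero, smul_eq_mul, Ideal.mul_top]
  exact h n

theorem pow_le_comap_pow {C B : Type*} [CommRing C] [CommRing B] (J : Ideal C) (K : Ideal B)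
    (g : C →+* B) (hg : J ≤ K.comap g) (n : ℕ) : J ^ n ≤ (K ^ n).comap g := by
  rw [← Ideal.map_le_iff_le_comap, Ideal.map_pow]
  exact Ideal.pow_right_mono (Ideal.map_le_iff_le_comap.mpr hg) n

/-- A ring map into an adically complete ring extends over the adic completion of the source. -/
theorem exists_lift_of_complete {C B : Type*} [CommRing C] [CommRing B] (J : Ideal C)
    (K : Ideal B) [IsAdicComplete K B] (g : C →+* B) (hg : J ≤ K.comap g) :
    ∃ G : AdicCompletion J C →+* B, ∀ c : C, G (AdicCompletion.of J C c) = g c := by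
  have hn : ∀ n, J ^ n ≤ (K ^ n).comap g := pow_le_comap_pow J K g hg
  let G' : (n : ℕ) → AdicCompletion J C →+* B ⧸ K ^ n := fun n =>
    (Ideal.quotientMap (K ^ n) g (hn n)).comp (AdicCompletion.evalₐ J n).toRingHom
  have hG'mk : ∀ (n : ℕ) (s : AdicCompletion.AdicCauchySequence J C),
      G' n (AdicCompletion.mk J C s) = Ideal.Quotient.mk (K ^ n) (g (s n)) := by
    intro n s
    show (Ideal.quotientMap (K ^ n) g (hn n)) (AdicCompletion.evalₐ J n (AdicCompletion.mk J C s)) = _
    rw [AdicCompletion.evalₐ_mk, Ideal.quotientMap_mk]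
  have hcompat : ∀ {m n : ℕ} (hle : m ≤ n),
      (Ideal.Quotient.factorPow K hle).comp (G' n) = G' m := by
    intro m n hle
    ext x
    obtain ⟨s, rfl⟩ := AdicCompletion.mk_surjective J C x
    rw [RingHom.comp_apply, hG'mk, hG'mk]
    show Ideal.Quotient.factor _ (Ideal.Quotient.mk (K ^ n) (g (s n))) = _
    rw [Ideal.Quotient.factor_mk, Ideal.Quotient.eq, ← map_sub]
    apply hn m
    have h1 := AdicCompletion.AdicCauchySequence.mk_eq_mk hle s
    rw [Submodule.Quotient.eq] at h1
    rwa [smul_eq_mul, Ideal.mul_top] at h1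
  refine ⟨IsAdicComplete.liftRingHom K G' hcompat, fun c => ?_⟩
  apply eq_of_forall_sub_mem_pow K
  intro n
  rw [← Ideal.Quotient.eq, IsAdicComplete.mk_liftRingHom]
  show (Ideal.quotientMap (K ^ n) g (hn n)) (AdicCompletion.evalₐ J n (AdicCompletion.of J C c)) = _
  rw [AdicCompletion.evalₐ_of, Ideal.quotientMap_mk]

/-- A ring map out of the completion that restricts to `g` on `C` sends `J ^ n • ⊤` into `K ^ n`. -/
theorem map_mem_pow_of_mem_smul_top {C B : Type*} [CommRing C] [CommRing B] (J : Ideal C)
    (K : Ideal B) (g : C →+* B) (hg : J ≤ K.comap g) (θ : AdicCompletion J C →+* B)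
    (hθ : ∀ c : C, θ (AdicCompletion.of J C c) = g c) (n : ℕ) (z : AdicCompletion J C)
    (hz : z ∈ (J ^ n • ⊤ : Submodule C (AdicCompletion J C))) : θ z ∈ K ^ n := by
  refine Submodule.smul_induction_on hz ?_ ?_
  · intro a ha y _
    rw [Algebra.smul_def, AdicCompletion.algebraMap_apply, map_mul, Algebra.algebraMap_self,
      RingHom.id_apply, hθ]
    exact Ideal.mul_mem_right _ _ (pow_le_comap_pow J K g hg n ha)
  · intro x y hx hy
    rw [map_add]
    exact Ideal.add_mem _ hx hy

/-- With `J` finitely generated, every element of the completion is, modulo `J ^ n • ⊤`, the image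
of an element of `C`. -/
theorem exists_of_add_mem_smul_top {C : Type*} [CommRing C] (J : Ideal C) (hJ : J.FG) (n : ℕ)
    (x : AdicCompletion J C) :
    ∃ c : C, x - AdicCompletion.of J C c ∈ (J ^ n • ⊤ : Submodule C (AdicCompletion J C)) := by
  obtain ⟨c, hc⟩ := Ideal.Quotient.mk_surjective (AdicCompletion.evalₐ J n x)
  refine ⟨c, ?_⟩
  rw [AdicCompletion.pow_smul_top_eq_ker_eval hJ, LinearMap.mem_ker]
  have h0 : AdicCompletion.evalₐ J n (x - AdicCompletion.of J C c) = 0 := by
    rw [map_sub, AdicCompletion.evalₐ_of, hc, sub_self]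
  have h1 := AdicCompletion.factor_evalₐ_eq_eval J (x - AdicCompletion.of J C c)
    (n := n) (by rw [smul_eq_mul, Ideal.mul_top])
  rw [← h1, h0, map_zero]


/-- Let R be a base ring of class (N) or (V) for the ideal I, A an admissible R-algebra, f_0, ..., f_r
elements generating an open ideal 𝔞 of A, and A_i = C_i/(f_i-power torsion) the i-th chart algebra
of the formal blowing-up of 𝔞. Let B be an R-algebra complete and separated for the I-adic topology
and φ : A → B an R-algebra homomorphism such that the ideal 𝔞B is generated by φ(f_i), a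
non-zero-divisor of B. Then there is exactly one R-algebra homomorphism A_i → B whose composite with
A → A_i is φ. -/
theorem result
    (R : Type u) [CommRing R] (I : Ideal R) (hR : AdicRing.IsBase R I)
    (A : Type u) [CommRing A] [Algebra R A] (hA : AdicRing.Admissible R I A)
    (r : ℕ) (f : Fin (r + 1) → A) (k : ℕ)
    (hopen : (I ^ k).map (algebraMap R A) ≤ Ideal.span (Set.range f)) (i : Fin (r + 1))
    (B : Type u) [CommRing B] [Algebra R B] [IsAdicComplete (I.map (algebraMap R B)) B]
    (φ : A →ₐ[R] B) (hnzd : φ (f i) ∈ nonZeroDivisors B)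
    (hgen : (Ideal.span (Set.range f)).map φ = Ideal.span {φ (f i)}) :
    ∃! ψ : AdicRing.chartAdm I f i →ₐ[R] B,
      ψ.comp (IsScalarTower.toAlgHom R A (AdicRing.chartAdm I f i)) = φ := by
  classical
  -- the ideal of definition is finitely generated
  have hIfg : I.FG := by
    rcases hR with ⟨_, h | h⟩
    · have := h.1
      exact IsNoetherian.noetherian I
    · obtain ⟨_, _, _, t, _, rfl⟩ := h
      exact ⟨{t}, by simp⟩
  have hBH : IsHausdorff (I.map (algebraMap R B)) B := inferInstance
  -- the quotients `b j = φ (f j) / φ (f i)`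
  have hb : ∀ j : Fin (r + 1), ∃ b : B, φ (f j) = φ (f i) * b := by
    intro j
    have : φ (f j) ∈ (Ideal.span (Set.range f)).map φ :=
      Ideal.mem_map_of_mem _ (Ideal.subset_span ⟨j, rfl⟩)
    rw [hgen, Ideal.mem_span_singleton'] at this
    obtain ⟨b, hb⟩ := this
    exact ⟨b, by rw [← hb, mul_comm]⟩
  choose b hb using hb
  have hcancel : ∀ x y : B, φ (f i) * x = φ (f i) * y → x = y := fun x y h =>
    (mul_cancel_left_mem_nonZeroDivisors hnzd).mp h
  -- the map on the polynomial ring and on the chart algebra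
  let g₀ : MvPolynomial {j : Fin (r + 1) // j ≠ i} A →+* B :=
    MvPolynomial.eval₂Hom (φ : A →+* B) (fun j => b j.1)
  have hg₀ : ∀ x ∈ Ideal.span (Set.range fun j : {j : Fin (r + 1) // j ≠ i} =>
      (MvPolynomial.C (f i) * MvPolynomial.X j - MvPolynomial.C (f j.1) :
        MvPolynomial {j : Fin (r + 1) // j ≠ i} A)), g₀ x = 0 := by
    intro x hx
    have : Ideal.span (Set.range fun j : {j : Fin (r + 1) // j ≠ i} =>
      (MvPolynomial.C (f i) * MvPolynomial.X j - MvPolynomial.C (f j.1) :
        MvPolynomial {j : Fin (r + 1) // j ≠ i} A)) ≤ RingHom.ker g₀ := by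
      rw [Ideal.span_le]
      rintro _ ⟨j, rfl⟩
      show g₀ _ = 0
      simp only [g₀, map_sub, map_mul, MvPolynomial.eval₂Hom_C, MvPolynomial.eval₂Hom_X',
        RingHom.coe_coe]
      rw [hb j.1, sub_self]
    exact this hx
  let g : AdicRing.chartAlg f i →+* B := Ideal.Quotient.lift _ g₀ hg₀
  have hgmk : ∀ P, g (Ideal.Quotient.mk _ P) = g₀ P := fun P => Ideal.Quotient.lift_mk _ _ _
  have hgA : ∀ y : A, g (algebraMap A (AdicRing.chartAlg f i) y) = φ y := by
    intro y
    show g (Ideal.Quotient.mk _ (MvPolynomial.C y)) = φ y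
    rw [hgmk]
    simp [g₀]
  have hgR : ∀ s : R, g (algebraMap R (AdicRing.chartAlg f i) s) = algebraMap R B s := by
    intro s
    rw [IsScalarTower.algebraMap_apply R A (AdicRing.chartAlg f i), hgA, AlgHom.commutes]
  -- ideals of definition
  set J : Ideal (AdicRing.chartAlg f i) := I.map (algebraMap R (AdicRing.chartAlg f i)) with hJ
  set K : Ideal B := I.map (algebraMap R B) with hK
  have hJfg : J.FG := hIfg.map _
  have hJK : J ≤ K.comap g := by
    rw [hJ, Ideal.map_le_iff_le_comap]
    intro s hs
    show g (algebraMap R (AdicRing.chartAlg f i) s) ∈ K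
    rw [hgR]
    exact Ideal.mem_map_of_mem _ hs
  -- ring maps out of the completed chart restricting to `φ` on `A` restrict to `g` on the chart
  have key : ∀ θ : AdicRing.chartCompl I f i →+* B,
      (∀ y : A, θ (algebraMap A (AdicRing.chartCompl I f i) y) = φ y) →
      ∀ c : AdicRing.chartAlg f i, θ (AdicCompletion.of J _ c) = g c := by
    intro θ hθ
    have hθ' : θ.comp (algebraMap (AdicRing.chartAlg f i) (AdicRing.chartCompl I f i)) = g := by
      apply Ideal.Quotient.ringHom_ext
      apply MvPolynomial.ringHom_ext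
      · intro y
        show θ (algebraMap (AdicRing.chartAlg f i) (AdicRing.chartCompl I f i)
          (algebraMap A (AdicRing.chartAlg f i) y)) = g (algebraMap A (AdicRing.chartAlg f i) y)
        rw [hgA, ← hθ y, AdicCompletion.algebraMap_apply, AdicCompletion.algebraMap_apply,
          Algebra.algebraMap_self, RingHom.id_apply]
      · intro j
        show θ (algebraMap (AdicRing.chartAlg f i) (AdicRing.chartCompl I f i)
          (Ideal.Quotient.mk _ (MvPolynomial.X j))) = g (Ideal.Quotient.mk _ (MvPolynomial.X j))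
        apply hcancel
        have h1 : φ (f i) = θ (algebraMap (AdicRing.chartAlg f i) (AdicRing.chartCompl I f i)
            (Ideal.Quotient.mk _ (MvPolynomial.C (f i)))) := by
          rw [← hθ (f i), AdicCompletion.algebraMap_apply, AdicCompletion.algebraMap_apply,
            Algebra.algebraMap_self, RingHom.id_apply]
          rfl
        have h2 : (Ideal.Quotient.mk (Ideal.span (Set.range fun j : {j : Fin (r + 1) // j ≠ i} =>
            (MvPolynomial.C (f i) * MvPolynomial.X j - MvPolynomial.C (f j.1) :
              MvPolynomial {j : Fin (r + 1) // j ≠ i} A))))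
            (MvPolynomial.C (f i) * MvPolynomial.X j) =
            Ideal.Quotient.mk _ (MvPolynomial.C (f j.1)) :=
          Ideal.Quotient.eq.mpr (Ideal.subset_span ⟨j, rfl⟩)
        have h3 : g (Ideal.Quotient.mk _ (MvPolynomial.X j)) = b j.1 := by
          rw [hgmk]; simp [g₀]
        rw [h3, ← hb j.1]
        conv_lhs => rw [h1]
        rw [← map_mul, ← map_mul, ← map_mul, h2]
        have h4 : θ (algebraMap (AdicRing.chartAlg f i) (AdicRing.chartCompl I f i)
            (Ideal.Quotient.mk _ (MvPolynomial.C (f j.1)))) = φ (f j.1) := by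
          rw [← hθ (f j.1), AdicCompletion.algebraMap_apply, AdicCompletion.algebraMap_apply,
            Algebra.algebraMap_self, RingHom.id_apply]
          rfl
        exact h4
    intro c
    have := RingHom.congr_fun hθ' c
    rw [RingHom.comp_apply, AdicCompletion.algebraMap_apply, Algebra.algebraMap_self,
      RingHom.id_apply] at this
    exact this
  -- existence
  obtain ⟨G, hG⟩ := exists_lift_of_complete J K g hJK
  have hGA : ∀ y : A, G (algebraMap A (AdicRing.chartCompl I f i) y) = φ y := by
    intro y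
    rw [AdicCompletion.algebraMap_apply, hG, hgA]
  have hGR : ∀ s : R, G (algebraMap R (AdicRing.chartCompl I f i) s) = algebraMap R B s := by
    intro s
    rw [AdicCompletion.algebraMap_apply, hG, hgR]
  have hT : ∀ x ∈ (⨆ n : ℕ, Submodule.torsionBy (AdicRing.chartCompl I f i)
      (AdicRing.chartCompl I f i) (algebraMap A (AdicRing.chartCompl I f i) (f i) ^ n) :
        Ideal (AdicRing.chartCompl I f i)), G x = 0 := by
    intro x hx
    have hle : (⨆ n : ℕ, Submodule.torsionBy (AdicRing.chartCompl I f i)
      (AdicRing.chartCompl I f i) (algebraMap A (AdicRing.chartCompl I f i) (f i) ^ n) :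
        Ideal (AdicRing.chartCompl I f i)) ≤ RingHom.ker G := by
      refine iSup_le fun n => ?_
      intro x hx
      rw [Submodule.mem_torsionBy_iff, smul_eq_mul] at hx
      rw [RingHom.mem_ker]
      have h1 : φ (f i) ^ n * G x = 0 := by
        rw [← hGA, ← map_pow, ← map_mul, hx, map_zero]
      exact (mul_cancel_left_mem_nonZeroDivisors (pow_mem hnzd n)).mp (by rw [h1, mul_zero])
    exact hle hx
  let ψ₀ : AdicRing.chartAdm I f i →+* B := Ideal.Quotient.lift _ G hT
  have hψ₀mk : ∀ x, ψ₀ (Ideal.Quotient.mk _ x) = G x := fun x => Ideal.Quotient.lift_mk _ _ _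
  let ψ : AdicRing.chartAdm I f i →ₐ[R] B :=
    { ψ₀ with
      commutes' := fun s => by
        show ψ₀ (Ideal.Quotient.mk _ (algebraMap R (AdicRing.chartCompl I f i) s)) = _
        rw [hψ₀mk, hGR] }
  have hψmk : ∀ x, ψ (Ideal.Quotient.mk _ x) = G x := hψ₀mk
  refine ⟨ψ, ?_, ?_⟩
  · apply AlgHom.ext
    intro y
    show ψ (Ideal.Quotient.mk _ (algebraMap A (AdicRing.chartCompl I f i) y)) = φ y
    rw [hψmk, hGA]
  · intro ψ' hψ'
    let θ' : AdicRing.chartCompl I f i →+* B := (ψ' : AdicRing.chartAdm I f i →+* B).comp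
      (Ideal.Quotient.mk _)
    have hθ'A : ∀ y : A, θ' (algebraMap A (AdicRing.chartCompl I f i) y) = φ y := by
      intro y
      exact AlgHom.congr_fun hψ' y
    have hθ'of := key θ' hθ'A
    have hθ'G : ∀ x, θ' x = G x := by
      intro x
      apply eq_of_forall_sub_mem_pow K
      intro n
      obtain ⟨c, hc⟩ := exists_of_add_mem_smul_top J hJfg n x
      have e1 := map_mem_pow_of_mem_smul_top J K g hJK θ' hθ'of n _ hc
      have e2 := map_mem_pow_of_mem_smul_top J K g hJK G hG n _ hc
      rw [map_sub, hθ'of] at e1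
      rw [map_sub, hG] at e2
      have : θ' x - G x = (θ' x - g c) - (G x - g c) := by ring
      rw [this]
      exact Ideal.sub_mem _ e1 e2
    apply AlgHom.ext
    intro a
    obtain ⟨x, rfl⟩ := Ideal.Quotient.mk_surjective a
    rw [hψmk, ← hθ'G]
    rfl

end Groth.Agent.S11545
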