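import Groth.Statements.S11546
import Mathlib

set_option autoImplicit false
universe u
open AdicRing

namespace Groth.Agent.S11546

/-- Multiplication by a power of `t` is injective on the `t`-adic completion of a polynomial ring
over a domain. -/
theorem pow_smul_eq_zero_imp {R : Type u} [CommRing R] [IsDomain R] (t : R) (ht : t ≠ 0) (n k : ℕ)
    (J : Ideal (MvPolynomial (Fin n) R))
    (hJspan : J = Ideal.span {(MvPolynomial.C t : MvPolynomial (Fin n) R)})
    (x : AdicCompletion J (MvPolynomial (Fin n) R))
    (hx : t ^ k • x = 0) : x = 0 := by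
  have hJpow : ∀ m : ℕ, (J ^ m • ⊤ : Submodule (MvPolynomial (Fin n) R) (MvPolynomial (Fin n) R)) =
      Ideal.span {(MvPolynomial.C t : MvPolynomial (Fin n) R) ^ m} := by
    intro m
    rw [smul_eq_mul, Ideal.mul_top, hJspan, Ideal.span_singleton_pow]
  have hCt : (MvPolynomial.C t : MvPolynomial (Fin n) R) ≠ 0 := by
    intro h
    exact ht (MvPolynomial.C_injective (Fin n) R (by rw [h, map_zero]))
  apply AdicCompletion.ext
  intro m
  rw [AdicCompletion.val_zero_apply]
  obtain ⟨p, hp⟩ := Submodule.Quotient.mk_surjective _ (x.val (m + k))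
  -- `t ^ k • p ∈ J ^ (m + k)`
  have h1 : (t ^ k • x).val (m + k) = 0 := by rw [hx, AdicCompletion.val_zero_apply]
  rw [AdicCompletion.val_smul_apply, ← hp, ← Submodule.Quotient.mk_smul,
    Submodule.Quotient.mk_eq_zero, hJpow, Ideal.mem_span_singleton'] at h1
  obtain ⟨q, hq⟩ := h1
  have h2 : p = q * MvPolynomial.C t ^ m := by
    have h3 : MvPolynomial.C t ^ k * p = MvPolynomial.C t ^ k * (q * MvPolynomial.C t ^ m) := by
      rw [MvPolynomial.smul_eq_C_mul, map_pow] at hq
      rw [← hq, pow_add]; ring
    exact mul_left_cancel₀ (pow_ne_zero k hCt) h3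
  have h4 : x.val m = AdicCompletion.transitionMap J _ (Nat.le_add_right m k) (x.val (m + k)) :=
    (x.property (Nat.le_add_right m k)).symm
  rw [h4, ← hp]
  show Submodule.Quotient.mk p = 0
  rw [Submodule.Quotient.mk_eq_zero, hJpow, Ideal.mem_span_singleton']
  exact ⟨q, h2.symm⟩


/-- Let R be a base ring of class (N) or (V) for the ideal I. Then the restricted power series ring
R⟨ζ_1, ..., ζ_n⟩ is flat over R. -/
theorem result
    (R : Type u) [CommRing R] (I : Ideal R) (hR : AdicRing.IsBase R I) (n : ℕ) :
    Module.Flat R (AdicRing.RPow R I n) := by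
  obtain ⟨hcomp, hN | hV⟩ := hR
  · -- Noetherian case: completion of the (Noetherian) polynomial ring is flat over it
    have := hN.1
    have h1 : Module.Flat (MvPolynomial (Fin n) R) (AdicRing.RPow R I n) :=
      AdicCompletion.flat_of_isNoetherian _
    exact Module.Flat.trans R (MvPolynomial (Fin n) R) (AdicRing.RPow R I n)
  · -- valuation ring case: flat = torsion free
    obtain ⟨hdom, hval, _, t, ht, rfl⟩ := hV
    have hVR : ValuationRing R := { }
    rw [Module.Flat.flat_iff_torsion_eq_bot_of_isBezout, Submodule.eq_bot_iff]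
    intro x hx
    rw [Submodule.mem_torsion_iff] at hx
    obtain ⟨⟨a, ha⟩, hax⟩ := hx
    have ha0 : a ≠ 0 := nonZeroDivisors.ne_zero ha
    -- `a` divides a power of `t`
    have hHaus : IsHausdorff (Ideal.span {t}) R := inferInstance
    have hex : ∃ k : ℕ, a ∣ t ^ k := by
      by_contra hcon
      push Not at hcon
      apply ha0
      refine IsHausdorff.haus' (I := Ideal.span {t}) a fun k => ?_
      rw [SModEq.zero, smul_eq_mul, Ideal.mul_top, Ideal.span_singleton_pow,
        Ideal.mem_span_singleton]
      rcases ValuationRing.dvd_total a (t ^ k) with h | h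
      · exact absurd h (hcon k)
      · exact h
    obtain ⟨k, b, hb⟩ := hex
    apply pow_smul_eq_zero_imp t ht n k _ (by rw [Ideal.map_span, Set.image_singleton]) x
    rw [hb, mul_comm, mul_smul]
    show b • ((⟨a, ha⟩ : nonZeroDivisors R) • x) = 0
    rw [hax, smul_zero]

end Groth.Agent.S11546
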