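import Groth.Statements.S1160
import Mathlib
import Groth.Statements.S1160
import Groth.Agent.Lib.Helper86.DescUIMain

set_option autoImplicit false
open CategoryTheory Opposite
universe u
open Desc

namespace Groth.Agent.S1160

open Groth.Agent.Lib.Helper86.DescBridge Groth.Agent.Lib.Helper86.DescDDRing
  Groth.Agent.Lib.Helper86.DescUIMain

theorem result (R S : Type u) [CommRing R] [CommRing S] [Algebra R S] :
    (Pi1.UnivInjective R S ↔ (Desc.ringModPF.{u}.toDescentData (fun _ : PUnit.{u + 1} => (CommRingCat.ofHom (algebraMap R S)).op)).IsEquivalence) ∧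
    (Nonempty (Desc.ringModPF.{u}.toDescentData (fun _ : PUnit.{u + 1} => (CommRingCat.ofHom (algebraMap R S)).op)).FullyFaithful → Pi1.UnivInjective R S) := by
  have key : Nonempty (Desc.ringModPF.{u}.toDescentData
      (fun _ : PUnit.{u + 1} => (CommRingCat.ofHom (algebraMap R S)).op)).FullyFaithful →
      Pi1.UnivInjective R S := fun h =>
    univInjective_of_faithful
      (faithful_transport (F := PF Φ₀.{u}) (G := Desc.ringModPF.{u}) rfl (fAB R S) h)
  refine ⟨⟨fun hUI => ?_, fun hEq => key ⟨Functor.FullyFaithful.ofFullyFaithful _⟩⟩, key⟩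
  exact isEquivalence_transport (F := PF Φ₀.{u}) (G := Desc.ringModPF.{u}) rfl (fAB R S)
    (isEquivalence_of_section
      (Groth.Agent.Lib.Helper86.DescEffUI.exists_section_compHom R S hUI))

end Groth.Agent.S1160
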