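import Groth.Statements.S1161
import Mathlib
import Groth.Statements.S1161
import Groth.Agent.Lib.Helper86.DescDDRing
import Groth.Agent.Lib.Helper86.DescTransport2

set_option autoImplicit false
open CategoryTheory Opposite
universe u
open Desc

namespace Groth.Agent.S1161

open Groth.Agent.Lib.Helper86.DescBridge Groth.Agent.Lib.Helper86.DescDDRing

theorem result (R S : Type u) [CommRing R] [CommRing S] [Algebra R S]
    [Module.FaithfullyFlat R S] (D : Desc.ringModPF.{u}.DescentData (fun _ : PUnit.{u + 1} => (CommRingCat.ofHom (algebraMap R S)).op)) :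
    ∃ M : ModuleCat.{u} R, Nonempty ((Desc.ringModPF.{u}.toDescentData (fun _ : PUnit.{u + 1} => (CommRingCat.ofHom (algebraMap R S)).op)).obj M ≅ D) := by
  have hflat : Module.Flat R S := inferInstance
  exact Groth.Agent.Lib.Helper86.DescTransport2.effective_transport
    (F := PF Φ₀.{u}) (G := Desc.ringModPF.{u}) rfl (fAB R S)
    (fun D' => effective_native D') D

end Groth.Agent.S1161
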