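import Groth.Statements.S1181
import Groth.Agent.Lib.Helper26.HilbDSheaf

set_option autoImplicit false
open CategoryTheory CategoryTheory.Limits AlgebraicGeometry
universe u
open HilbD

namespace Groth.Agent.S1181

/-- Let f : X ⟶ S, d a natural number, T an S-scheme and g : T' ⟶ T quasi-compact, flat and surjective,
viewed over S. Let Z' be a closed subscheme of X ×_S T' finite locally free of degree d over T'
whose two pullbacks to X ×_S (T' ×_T T') coincide. Then there is exactly one closed subscheme of X
×_S T, finite locally free of degree d over T, pulling back to Z'. -/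
theorem result {X S : Scheme.{u}} (f : X ⟶ S) (d : ℕ) (T : Over S) {T' : Scheme.{u}} (g : T' ⟶ T.left)
    [QuasiCompact g] [Flat g] [Surjective g] (Z' : HilbD.Obj f d (HilbD.coverOver T g))
    (hZ' : HilbD.pull f (HilbD.overlapFst T g) Z'.1 = HilbD.pull f (HilbD.overlapSnd T g) Z'.1) :
    ∃! I : (PicF.XT f T).IdealSheafData, Mor2.IsFinLocFreeOfDeg d (I.subschemeι ≫ PicF.XTproj f T) ∧
      HilbD.pull f (HilbD.coverHom T g) I = Z'.1 := by
  open Groth.Agent.Lib.Helper26.HilbDSheaf Groth.Agent.Lib.Helper26.ClosedDescent in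
  refine ⟨Z'.1.map (PicF.XTmap f (HilbD.coverHom T g)), ⟨?_, ?_⟩, ?_⟩
  · apply isFinLocFreeOfDeg_descends f T g d
    rw [exists_comap_eq f T g Z'.1 hZ']
    exact Z'.2
  · rw [pull_eq_comap]
    exact exists_comap_eq f T g Z'.1 hZ'
  · rintro I ⟨-, hI⟩
    rw [pull_eq_comap] at hI
    apply comap_injective_of_fpqc (PicF.XTmap f (HilbD.coverHom T g))
    change I.comap _ = (Z'.1.map _).comap _
    rw [hI, exists_comap_eq f T g Z'.1 hZ']

end Groth.Agent.S1181
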