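import Groth.Statements.S1183
import Mathlib
import Groth.Agent.S1535
import Groth.Agent.Lib.Helper29.FlatAscent4
import Groth.Agent.Lib.Helper29.RkDescent

set_option autoImplicit false
universe u
open Desc

namespace Groth.Agent.S1183

/-- Let A → B be a smooth ring map of Noetherian rings and k a natural number. If A satisfies (R_k) then
so does B; and if moreover A → B is faithfully flat and B satisfies (R_k), then A does. -/
theorem result (A B : Type u) [CommRing A] [CommRing B] [IsNoetherianRing A] [IsNoetherianRing B]
    [Algebra A B] [Algebra.Smooth A B] (k : ℕ) :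
    (LocCoh.HasRk k A → LocCoh.HasRk k B) ∧
    (Module.FaithfullyFlat A B → LocCoh.HasRk k B → LocCoh.HasRk k A) := by
  have hflat : Module.Flat A B := Algebra.Smooth.flat_of_isNoetherianRing A B
  refine ⟨fun hA => ?_, fun hff hB => ?_⟩
  · refine Groth.Agent.Lib.Helper29.hasRk_of_flat_of_fibers k hA ?_
    intro p hp q hq _
    exact Groth.Agent.S1535.isRegularLocalRing_atPrime_of_smooth p.ResidueField (p.Fiber B) q
  · exact (Groth.Agent.Lib.Helper29.hasRk_of_faithfullyFlat (R := A) (S := B) k hB).2

end Groth.Agent.S1183
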