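import Groth.Statements.S1186
import Groth.Agent.Lib.Helper58.PinchFEt

set_option autoImplicit false
universe u
open Pi1

namespace Groth.Agent.S1186

open AlgebraicGeometry CategoryTheory CategoryTheory.Limits in
/-- Let i : Z ⟶ X be a closed immersion and j : Z ⟶ Y an integral morphism such that every fibre of j
lies in the preimage under i of some affine open of X, and let a : X ⟶ W, b : Y ⟶ W exhibit W as the
pushout of i and j in the category of schemes. If U is finite étale over X and V is finite étale
over Y with U ×_X Z ≅ V ×_Y Z over Z, then there is a finite étale cover T of W whose restrictions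
to X and to Y are isomorphic to U and to V respectively. (This is the essential-surjectivity part of
an equivalence between finite étale covers of W and the 2-fibre product of the categories of finite
étale covers of X and of Y over that of Z; only the gluing of objects is asserted, and the
compatibility of the two identifications over Z is not asserted.) -/
theorem result {Z X Y W : Scheme.{u}} (i : Z ⟶ X) [IsClosedImmersion i] (j : Z ⟶ Y) [IsIntegralHom j]
    (h3 : ∀ y : Y, ∃ U : X.Opens, IsAffineOpen U ∧ ∀ z : Z, j.base z = y → i.base z ∈ U)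
    (a : X ⟶ W) (b : Y ⟶ W) (hpo : IsPushout i j a b)
    (U : FEt.Cat X) (V : FEt.Cat Y) (e : (FEt.restrict i).obj U ≅ (FEt.restrict j).obj V) :
    ∃ T : FEt.Cat W, Nonempty ((FEt.restrict a).obj T ≅ U) ∧ Nonempty ((FEt.restrict b).obj T ≅ V) := by
  haveI : IsFinite U.hom := U.prop.1
  haveI : Etale U.hom := U.prop.2
  haveI : IsFinite V.hom := V.prop.1
  haveI : Etale V.hom := V.prop.2
  -- the glued locus upstairs
  let el : pullback U.hom i ≅ pullback V.hom j :=
    (MorphismProperty.Over.forget FEt.prop ⊤ Z ⋙ Over.forget Z).mapIso e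
  have hw : el.hom ≫ pullback.snd V.hom j = pullback.snd U.hom i := MorphismProperty.Over.w e.hom
  have hY : IsPullback (pullback.fst U.hom i) (pullback.snd U.hom i) U.hom i :=
    IsPullback.of_hasPullback _ _
  have hX : IsPullback (el.hom ≫ pullback.fst V.hom j) (pullback.snd U.hom i) V.hom j := by
    refine (IsPullback.of_hasPullback V.hom j).of_iso el.symm (Iso.refl _) (Iso.refl _)
      (Iso.refl _) ?_ ?_ ?_ ?_
    · simp
    · rw [Iso.refl_hom, Category.comp_id, Iso.symm_hom, ← hw, Iso.inv_hom_id_assoc]
    · simp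
    · simp
  have hfib : ∀ y : Y, ∃ O : X.Opens, IsAffineOpen O ∧ j ⁻¹' {y} ⊆ i ⁻¹' (O : Set X) := by
    intro y
    obtain ⟨O, hO, hz⟩ := h3 y
    exact ⟨O, hO, fun z hzy => hz z hzy⟩
  obtain ⟨T, τ, a', b', hfin, het, hpa, hpb⟩ :=
    Groth.Agent.Lib.Helper58.Pinch.exists_finiteEtale_glue j i
      (el.hom ≫ pullback.fst V.hom j) (pullback.fst U.hom i) V.hom U.hom (pullback.snd U.hom i)
      hfib b a hpo.flip hX hY
  let TT : FEt.Cat W := MorphismProperty.Over.mk ⊤ τ ⟨hfin, het⟩
  refine ⟨TT, ⟨MorphismProperty.Over.isoMk hpb.isoPullback.symm ?_⟩,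
    ⟨MorphismProperty.Over.isoMk hpa.isoPullback.symm ?_⟩⟩
  · change hpb.isoPullback.inv ≫ U.hom = pullback.snd τ a
    rw [Iso.inv_comp_eq, hpb.isoPullback_hom_snd]
  · change hpa.isoPullback.inv ≫ V.hom = pullback.snd τ b
    rw [Iso.inv_comp_eq, hpa.isoPullback_hom_snd]

end Groth.Agent.S1186
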