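import Groth.Statements.S1190
import Groth.Agent.Lib.Helper6.GaloisExact

set_option autoImplicit false
universe u v w
open CategoryTheory PreGaloisCategory
open Pi1

namespace Groth.Agent.S1190

/-- Let H : C ⥤ C' and H' : C' ⥤ C'' be exact functors between Galois categories, F'' a fibre functor on
C'' with F'' ∘ H' and F'' ∘ H' ∘ H fibre functors, and h', h the induced homomorphisms of
fundamental groups. Then: h is surjective, h ∘ h' is trivial and the kernel of h is the closed
normal subgroup generated by the image of h', if and only if H is fully faithful and its essential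
image consists exactly of those X' in C' for which H'(X') is a finite coproduct of copies of the
final object. -/
theorem result {C C' C'' : Type u} [Category.{v} C] [Category.{v} C'] [Category.{v} C'']
    [GaloisCategory C] [GaloisCategory C'] [GaloisCategory C'']
    (H : C ⥤ C') [Limits.PreservesFiniteLimits H] [Limits.PreservesFiniteColimits H]
    (H' : C' ⥤ C'') [Limits.PreservesFiniteLimits H'] [Limits.PreservesFiniteColimits H']
    (F'' : C'' ⥤ FintypeCat.{w}) [FiberFunctor F''] [FiberFunctor (H' ⋙ F'')] [FiberFunctor (H ⋙ (H' ⋙ F''))] :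
    (Function.Surjective (Pi1X.autWhisker H (H' ⋙ F'')) ∧
      (∀ σ : Aut F'', Pi1X.autWhisker H (H' ⋙ F'') (Pi1X.autWhisker H' F'' σ) = 1) ∧
      (Pi1X.autWhisker H (H' ⋙ F'')).ker = (Subgroup.normalClosure (Set.range (Pi1X.autWhisker H' F''))).topologicalClosure) ↔
    ((H.Full ∧ H.Faithful) ∧
      ∀ X' : C', (∃ X : C, Nonempty (H.obj X ≅ X')) ↔ ∃ n : ℕ, Nonempty (H'.obj X' ≅ ∐ fun _ : Fin n => ⊤_ C'')) := by
  constructor
  · rintro ⟨hs, htriv, hker⟩
    refine ⟨⟨Lib.Helper6.full_of_autWhisker_surjective H (H' ⋙ F'') hs,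
      Functor.Faithful.of_comp H (H' ⋙ F'')⟩, fun X' => ⟨?_, ?_⟩⟩
    · rintro ⟨X, ⟨i⟩⟩
      obtain ⟨n, ⟨e⟩⟩ := Lib.Helper6.exists_iso_sigma_terminal_of_smul_eq F'' (H'.obj (H.obj X))
        (fun σ x => (Lib.Helper6.autWhisker_comp_eq_one_iff H H' F'' σ).mp (htriv σ) X x)
      exact ⟨n, ⟨(H'.mapIso i).symm ≪≫ e⟩⟩
    · intro hX'
      exact Lib.Helper6.exists_iso_of_split H H' F'' hs hker X' hX'
  · rintro ⟨⟨hfull, hfaith⟩, hess⟩
    have hsplit : ∀ X : C, ∃ n : ℕ, Nonempty (H'.obj (H.obj X) ≅ ∐ fun _ : Fin n => ⊤_ C'') :=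
      fun X => (hess (H.obj X)).mp ⟨X, ⟨Iso.refl _⟩⟩
    have htriv : ∀ σ : Aut F'',
        Pi1X.autWhisker H (H' ⋙ F'') (Pi1X.autWhisker H' F'' σ) = 1 := by
      intro σ
      rw [Lib.Helper6.autWhisker_comp_eq_one_iff]
      intro X x
      obtain ⟨n, ⟨e⟩⟩ := hsplit X
      exact Lib.Helper6.smul_eq_of_iso_sigma_terminal F'' _ n e σ x
    refine ⟨Lib.Helper6.autWhisker_surjective_of_full H (H' ⋙ F''), htriv, le_antisymm ?_ ?_⟩
    · exact Lib.Helper6.ker_le_clNormal H H' F'' (fun X' h => (hess X').mpr h)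
    · refine Subgroup.topologicalClosure_minimal _ (Subgroup.normalClosure_le_normal ?_)
        (Lib.Helper6.isClosed_ker_autWhisker H H' F'')
      rintro _ ⟨σ, rfl⟩
      exact htriv σ

end Groth.Agent.S1190
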