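import Groth.Statements.S1191
import Mathlib

set_option autoImplicit false
universe u
open FlatMor

namespace Groth.Agent.S1191

open TensorProduct in
/-- For a finitely presented algebra S over R, a finitely presented S-module N and a prime q of S over
p, some element of S outside q maps into every associated prime of the fibre module of N over p that
is not contained in the extension of q to the fibre ring. -/
theorem result {R S : Type u} [CommRing R] [CommRing S] [Algebra R S] [Algebra.FinitePresentation R S]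
    (N : Type u) [AddCommGroup N] [Module S N] [Module R N] [IsScalarTower R S N] [Module.FinitePresentation S N]
    (p : Ideal R) [p.IsPrime] (q : Ideal S) [q.IsPrime] [q.LiesOver p] :
    ∃ g : S, g ∉ q ∧ ∀ r ∈ associatedPrimes (p.Fiber S) (FlatCA.fiberMod p S N),
      ¬ r ≤ FlatCA.fiberIdeal p q → (1 : p.ResidueField) ⊗ₜ[R] g ∈ r := by
  classical
  letI : Algebra S (p.Fiber S) := Algebra.TensorProduct.rightAlgebra
  have : IsNoetherianRing (p.Fiber S) :=
    Algebra.FiniteType.isNoetherianRing p.ResidueField (p.Fiber S)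
  have : Module.Finite (p.Fiber S) (FlatCA.fiberMod p S N) :=
    inferInstanceAs (Module.Finite (p.Fiber S) ((p.Fiber S) ⊗[S] N))
  have hfin := associatedPrimes.finite (p.Fiber S) (FlatCA.fiberMod p S N)
  have key : ∀ r : Ideal (p.Fiber S), ¬ r ≤ FlatCA.fiberIdeal p q →
      ∃ g : S, g ∉ q ∧ (1 : p.ResidueField) ⊗ₜ[R] g ∈ r := by
    intro r hr
    obtain ⟨x, hxr, hxq⟩ := SetLike.not_le_iff_exists.mp hr
    obtain ⟨t, ht, s, e⟩ := Ideal.Fiber.exists_smul_eq_one_tmul p x
    refine ⟨s, fun hs => hxq ?_, ?_⟩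
    · have h1 : (1 : p.ResidueField) ⊗ₜ[R] s ∈ FlatCA.fiberIdeal p q :=
        Ideal.mem_map_of_mem _ hs
      have ht' : algebraMap R p.ResidueField t ≠ 0 := by
        rwa [Ne, Ideal.algebraMap_residueField_eq_zero]
      have hx : x = ((algebraMap R p.ResidueField t)⁻¹ ⊗ₜ[R] (1 : S)) * (t • x) := by
        rw [Algebra.smul_def, ← mul_assoc, Algebra.TensorProduct.algebraMap_apply,
          Algebra.TensorProduct.tmul_mul_tmul, inv_mul_cancel₀ ht', one_mul]
        exact (one_mul x).symm
      rw [hx, e]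
      exact Ideal.mul_mem_left _ _ h1
    · rw [← e, Algebra.smul_def]
      exact Ideal.mul_mem_left _ _ hxr
  choose! g hg1 hg2 using key
  refine ⟨∏ r ∈ hfin.toFinset.filter (fun r => ¬ r ≤ FlatCA.fiberIdeal p q), g r, ?_, ?_⟩
  · rw [Ideal.IsPrime.prod_mem_iff]
    push Not
    intro r hr
    exact hg1 r (Finset.mem_filter.mp hr).2
  · intro r hr hrq
    have hrT : r ∈ hfin.toFinset.filter (fun r => ¬ r ≤ FlatCA.fiberIdeal p q) :=
      Finset.mem_filter.mpr ⟨hfin.mem_toFinset.mpr hr, hrq⟩
    obtain ⟨c, hc⟩ := Finset.dvd_prod_of_mem g hrT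
    rw [hc, ← mul_one (1 : p.ResidueField), ← Algebra.TensorProduct.tmul_mul_tmul]
    exact Ideal.mul_mem_right _ _ (hg2 r hrq)

end Groth.Agent.S1191
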