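import Mathlib
import Groth.Statements.S1193
import Groth.Agent.Lib.Helper96.AssSurj

set_option autoImplicit false
universe u
open FlatMor

namespace Groth.Agent.S1193

open TensorProduct in
attribute [local instance] Algebra.TensorProduct.rightAlgebra in
/-- For a local ring `R`, the closed fibre ring `κ ⊗_R S` is a quotient of `S`. -/
theorem algebraMap_fiber_surjective {R S : Type u} [CommRing R] [IsLocalRing R] [CommRing S]
    [Algebra R S] :
    Function.Surjective (algebraMap S ((IsLocalRing.maximalIdeal R).Fiber S)) := by
  intro x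
  obtain ⟨r, hr, s, hs⟩ := Ideal.Fiber.exists_smul_eq_one_tmul (IsLocalRing.maximalIdeal R) x
  have hru : IsUnit r := by
    by_contra h
    exact hr ((IsLocalRing.mem_maximalIdeal r).mpr h)
  obtain ⟨v, rfl⟩ := hru
  refine ⟨((v⁻¹ : Rˣ) : R) • s, ?_⟩
  have h1 : algebraMap S ((IsLocalRing.maximalIdeal R).Fiber S) (((v⁻¹ : Rˣ) : R) • s) =
      ((v⁻¹ : Rˣ) : R) • ((1 : (IsLocalRing.maximalIdeal R).ResidueField) ⊗ₜ[R] s) := by
    rw [TensorProduct.smul_tmul', TensorProduct.smul_tmul]
    rfl
  rw [h1, ← hs, smul_smul, Units.inv_mul, one_smul]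

open IsLocalRing in
/-- Let R be a local ring, S an R-algebra whose closed fibre ring is Noetherian and N an S-module whose
closed fibre module N/𝔪N is finite. Let Σ be the set of elements of S acting injectively on N/𝔪N.
Then a prime of S is disjoint from Σ exactly when it lies inside an associated prime of N/𝔪N (the
primes of the localization at Σ), the localization of S at Σ has finitely many maximal ideals, and
an ideal of that localization is maximal exactly when it is prime and contracts to a maximal member
of the set of associated primes of N/𝔪N. -/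
theorem result {R S : Type u} [CommRing R] [IsLocalRing R] [CommRing S] [Algebra R S]
    (N : Type u) [AddCommGroup N] [Module S N] [Module R N] [IsScalarTower R S N]
    [IsNoetherianRing ((maximalIdeal R).Fiber S)]
    [Module.Finite ((maximalIdeal R).Fiber S) (FlatCA.fiberMod (maximalIdeal R) S N)] :
    (∀ (q : Ideal S) [q.IsPrime], Disjoint (q : Set S) (FlatCA.nzdFiber R S N) ↔
        ∃ q' ∈ associatedPrimes S (FlatCA.fiberMod (maximalIdeal R) S N), q ≤ q') ∧
    {Q : Ideal (Localization (FlatCA.nzdFiber R S N)) | Q.IsMaximal}.Finite ∧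
    (∀ Q : Ideal (Localization (FlatCA.nzdFiber R S N)), Q.IsMaximal ↔ (Q.IsPrime ∧
        Maximal (fun r => r ∈ associatedPrimes S (FlatCA.fiberMod (maximalIdeal R) S N))
          (Q.comap (algebraMap S (Localization (FlatCA.nzdFiber R S N)))))) := by
  let _ : Algebra S ((maximalIdeal R).Fiber S) := Algebra.TensorProduct.rightAlgebra
  have hπ := algebraMap_fiber_surjective (R := R) (S := S)
  have : IsScalarTower S ((maximalIdeal R).Fiber S) (FlatCA.fiberMod (maximalIdeal R) S N) :=
    inferInstanceAs (IsScalarTower S ((maximalIdeal R).Fiber S)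
      (TensorProduct S ((maximalIdeal R).Fiber S) N))
  refine ⟨fun q _ => ?_, ?_, fun Q => ?_⟩
  · exact Groth.Agent.Lib.Helper96.AssSurj.disjoint_iff hπ q
  · exact Groth.Agent.Lib.Helper96.AssSurj.finite_maximal
      (M := FlatCA.fiberMod (maximalIdeal R) S N) _ hπ
  · exact Groth.Agent.Lib.Helper96.AssSurj.isMaximal_iff
      (M := FlatCA.fiberMod (maximalIdeal R) S N) _ hπ Q

end Groth.Agent.S1193
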