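import Groth.Statements.S1197
import Groth.Agent.Lib.Helper31.ComplUnivInj
import Groth.Agent.Lib.Helper31.MittagLefflerNoeth
import Groth.Agent.Lib.Helper31.MittagLefflerFP

set_option autoImplicit false
universe u
open FlatMor

namespace Groth.Agent.S1197

/-- Over a Noetherian ring R which is I-adically complete, the I-adic completion of a free module on an
arbitrary index set is a flat and Mittag-Leffler R-module. (Flatness alone, without completeness of
R, is stated separately.) -/
theorem result (R : Type u) [CommRing R] [IsNoetherianRing R] (I : Ideal R) [IsAdicComplete I R] (α : Type u) :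
    Module.Flat R (AdicCompletion I (α →₀ R)) ∧ CAlg.IsMittagLeffler R (AdicCompletion I (α →₀ R)) := by
  refine ⟨Groth.Agent.Lib.Helper63.ComplFree.flat_completion_free I α, ?_⟩
  have hML : CAlg.IsMittagLeffler R (α → AdicCompletion I R) := by
    let e : (α → AdicCompletion I R) ≃ₗ[R] (α → R) :=
      LinearEquiv.piCongrRight (fun _ => (AdicCompletion.ofLinearEquiv I R).symm)
    exact Groth.Agent.Lib.Helper31.ML.isMittagLeffler_of_linearEquiv R e
      (Groth.Agent.Lib.Helper31.ML.isMittagLeffler_pi_of_isNoetherianRing R α)
  exact Groth.Agent.Lib.Helper31.ML.isMittagLeffler_of_universallyInjective R _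
    (Groth.Agent.Lib.Helper31.ComplUnivInj.universallyInjective_jmap I α) hML

end Groth.Agent.S1197
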