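import Groth.Statements.S1198
import Groth.Agent.Lib.Helper31.AdicSplit
import Groth.Agent.S1197
import Groth.Agent.Lib.Helper31.MittagLeffler

set_option autoImplicit false
universe u
open FlatMor

namespace Groth.Agent.S1198

/-- Let R be a Noetherian ring complete with respect to an ideal I and M a flat R-module whose reduction
M/IM is projective over R/I. Then M's I-adic completion is a flat and Mittag-Leffler R-module. -/
theorem result (R : Type u) [CommRing R] [IsNoetherianRing R] (I : Ideal R) [IsAdicComplete I R]
    (M : Type u) [AddCommGroup M] [Module R M] [Module.Flat R M]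
    [Module.Projective (R ⧸ I) (M ⧸ (I • ⊤ : Submodule R M))] :
    Module.Flat R (AdicCompletion I M) ∧ CAlg.IsMittagLeffler R (AdicCompletion I M) := by
  classical
  let g : (M →₀ R) →ₗ[R] M := Finsupp.linearCombination R id
  have hg : Function.Surjective g := fun m => ⟨Finsupp.single m 1, by simp [g]⟩
  let f : LinearMap.ker g →ₗ[R] (M →₀ R) := (LinearMap.ker g).subtype
  have hfg : Function.Exact f g := LinearMap.exact_subtype_ker_map g
  obtain ⟨s, hs⟩ := Groth.Agent.Lib.Helper31.AdicSplit.exists_section_map (K := LinearMap.ker g) I f g hg hfg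
  obtain ⟨hflat, hML⟩ := Groth.Agent.S1197.result R I M
  let s' : AdicCompletion I M →ₗ[R] AdicCompletion I (M →₀ R) := s.restrictScalars R
  let r' : AdicCompletion I (M →₀ R) →ₗ[R] AdicCompletion I M :=
    (AdicCompletion.map I g).restrictScalars R
  have hrs : r' ∘ₗ s' = LinearMap.id := by
    refine LinearMap.ext fun x => ?_
    exact LinearMap.congr_fun hs x
  refine ⟨Module.Flat.of_retract s' r' hrs, ?_⟩
  refine Groth.Agent.Lib.Helper31.ML.isMittagLeffler_of_universallyInjective R s' ?_ hML
  intro Q _ _
  apply Function.LeftInverse.injective (g := r'.rTensor Q)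
  intro t
  rw [← LinearMap.comp_apply, ← LinearMap.rTensor_comp, hrs, LinearMap.rTensor_id]
  rfl

end Groth.Agent.S1198
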