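import Groth.Statements.S12057
import Groth.Agent.Lib.Helper62.InvDescent
import Groth.Agent.Lib.Helper11.CounitEpi2
import Groth.Agent.Lib.Helper11.PullbackTensor
-- import your own Groth.Agent.* helpers here

set_option autoImplicit false
set_option linter.style.haveILetI false
universe u
open CategoryTheory CategoryTheory.Limits AlgebraicGeometry
open FGA

namespace Groth.Agent.S12057

open Groth.Agent.Lib.Helper45 Groth.Agent.Lib.Helper49
  Groth.Agent.Lib.Helper11.GenLocus Groth.Agent.Lib.Helper11.PullbackBasis
  Groth.Agent.Lib.Helper11.CounitEpi TopologicalSpace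

/-- a basis on an open trivialises the module there (no quasi-coherence needed). -/
theorem nonempty_iso_of_isBasisOn {X : Scheme.{u}} (L : X.Modules) {V : X.Opens} {t : Γ(L, V)}
    (ht : IsBasisOn L V t) :
    Nonempty (L.restrict V.ι ≅ Coh.structureModule (↑V : Scheme.{u})) := by
  let t' : Γ(L.restrict V.ι, ⊤) :=
    (show Γ(L, V.ι ''ᵁ ⊤) from mres L (le_of_eq V.ι_image_top) t)
  let ψ : Coh.structureModule (↑V : Scheme.{u}) ⟶ L.restrict V.ι := homOfSection _ t'
  have hψ : IsIso ψ := by
    rw [Scheme.Modules.Hom.isIso_iff_isIso_app]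
    intro W'
    rw [isIso_app_iff_bijective, sec_homOfSection]
    let α := V.ι.appIso W'
    have hW : V.ι ''ᵁ W' ≤ V := fun x hx => by
      obtain ⟨y, -, rfl⟩ := hx
      exact y.2
    have hb := ht (V.ι ''ᵁ W') hW
    have hres : mres (L.restrict V.ι) (le_top : W' ≤ ⊤) t' =
        (show Γ(L.restrict V.ι, W') from mres L hW t) := by
      change mres L (V.ι.image_mono (le_top : W' ≤ ⊤)) (mres L (le_of_eq V.ι_image_top) t) = _
      rw [mres_mres]
    rw [hres]
    have hsmul : ∀ (r' : Γ((↑V : Scheme.{u}), W')),
        r' • (show Γ(L.restrict V.ι, W') from mres L hW t) =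
          (show Γ(L.restrict V.ι, W') from (α.inv r') • mres L hW t) := fun r' => rfl
    constructor
    · intro r₁ r₂ h12
      have h12' : (α.inv r₁) • mres L hW t = (α.inv r₂) • mres L hW t := h12
      have h3 := hb.1 h12'
      have h4 := congrArg α.hom h3
      rwa [Iso.inv_hom_id_apply, Iso.inv_hom_id_apply] at h4
    · intro s
      obtain ⟨r, hr⟩ := hb.2 (show Γ(L, V.ι ''ᵁ W') from s)
      refine ⟨α.hom r, ?_⟩
      change (α.inv (α.hom r)) • mres L hW t = s
      rw [Iso.hom_inv_id_apply]
      exact hr
  exact ⟨(asIso ψ).symm⟩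

theorem genOn_structureModule (X : Scheme.{u}) :
    GenOn (Coh.structureModule X) ⊤ := by
  intro V _ a x hx
  refine ⟨V, le_rfl, hx, ?_⟩
  rw [mres_self]
  have h1 : a = (ofO V a) • mres (Coh.structureModule X) (le_top : V ≤ ⊤) (toO ⊤ 1) := by
    change a = toO V (ofO V a * X.presheaf.map (homOfLE (le_top : V ≤ ⊤)).op 1)
    rw [map_one, mul_one]
    rfl
  rw [h1]
  exact Submodule.smul_mem _ _ (Submodule.subset_span ⟨toO ⊤ 1, rfl⟩)


/-- Let f : X ⟶ S be a morphism of schemes such that for every open U of S the induced map from sections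
of the structure sheaf of S over U to sections of the structure sheaf of X over the inverse image of
U is bijective. Let L be an invertible module on X which is trivial locally over S: every point of S
has an open neighbourhood U such that the restriction of L to the inverse image of U is isomorphic
to the structure sheaf. Then L is isomorphic to the pullback along f of an invertible module on S.
(The relative Picard group here is the group of global sections of the first higher direct image of
the sheaf of units, so its elements vanishing are exactly the classes trivial locally over the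
base.) -/
theorem result {X S : Scheme.{u}} (f : X ⟶ S)
    (hf : ∀ U : S.Opens, Function.Bijective (f.app U)) (L : X.Modules) (hL : PicF.IsInvertible L)
    (hloc : ∀ s : S, ∃ U : S.Opens, s ∈ U ∧
      Nonempty ((Scheme.Modules.pullback (f ⁻¹ᵁ U).ι).obj L ≅ Coh.structureModule (f ⁻¹ᵁ U))) :
    ∃ N : S.Modules, PicF.IsInvertible N ∧ Nonempty (L ≅ (Scheme.Modules.pullback f).obj N) := by
  classical
  -- Step A: local bases of `L` over preimages of opens of `S`
  have hA : ∀ s : S, ∃ U : S.Opens, s ∈ U ∧ ∃ a : Γ(L, f ⁻¹ᵁ U), IsBasisOn L (f ⁻¹ᵁ U) a := by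
    intro s
    obtain ⟨U, hsU, ⟨e⟩⟩ := hloc s
    refine ⟨U, hsU, exists_isBasisOn_of_iso ?_⟩
    exact (Scheme.Modules.restrictFunctorIsoPullback (f ⁻¹ᵁ U).ι).app L ≪≫ e
  let N : S.Modules := (Scheme.Modules.pushforward f).obj L
  -- Step B: `N` is invertible
  have hN : PicF.IsInvertible N := by
    intro s
    obtain ⟨U, hsU, a, ha⟩ := hA s
    refine ⟨U, hsU, ?_⟩
    apply nonempty_iso_of_isBasisOn N (t := (show Γ(N, U) from a))
    intro W hW
    have hW' : f ⁻¹ᵁ W ≤ f ⁻¹ᵁ U := fun x hx => hW hx
    have hb := ha (f ⁻¹ᵁ W) hW'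
    have hres : mres N hW (show Γ(N, U) from a) = (show Γ(N, W) from mres L hW' a) := rfl
    rw [hres]
    constructor
    · intro r₁ r₂ h12
      have h12' : (f.app W r₁) • mres L hW' a = (f.app W r₂) • mres L hW' a := h12
      exact (hf W).1 (hb.1 h12')
    · intro m
      obtain ⟨r, hr⟩ := hb.2 (show Γ(L, f ⁻¹ᵁ W) from m)
      obtain ⟨r', rfl⟩ := (hf W).2 r
      exact ⟨r', hr⟩
  -- Step C: the counit is an epimorphism
  have hepi : Epi ((Scheme.Modules.pullbackPushforwardAdjunction f).counit.app L) := by
    apply Groth.Agent.Lib.Helper11.CounitEpi2.epi_counit_of_locally_genOn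
    intro x
    obtain ⟨U, hsU, ⟨e⟩⟩ := hloc (f.base x)
    refine ⟨U, hsU, ?_⟩
    exact (genOn_structureModule _).of_iso
      ((Scheme.Modules.restrictFunctorIsoPullback (f ⁻¹ᵁ U).ι).app L ≪≫ e).symm
  -- Step D: hence an isomorphism
  have hpull : PicF.IsInvertible ((Scheme.Modules.pullback f).obj N) :=
    Groth.Agent.Lib.Helper11.PullbackTensor.isInvertible_pullback f hN
  haveI := Groth.Agent.Lib.Helper62.InvDescent.isIso_of_epi_of_isInvertible hpull hL
    ((Scheme.Modules.pullbackPushforwardAdjunction f).counit.app L)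
  exact ⟨N, hN, ⟨(asIso ((Scheme.Modules.pullbackPushforwardAdjunction f).counit.app L)).symm⟩⟩

end Groth.Agent.S12057
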