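import Groth.Statements.S12059
import Groth.Agent.Lib.Helper63.SpecQuot

set_option autoImplicit false
universe u
open CategoryTheory CategoryTheory.Limits AlgebraicGeometry
open SGA1

namespace Groth.Agent.S12059

/-- Let a finite group G act on a commutative ring A by ring automorphisms σ_g, and let B → A be
injective, G-equivariant for the trivial action on B, with image containing all G-invariants (so B
is the ring of invariants A^G). Let ρ be an action of G on Spec A by scheme automorphisms whose
automorphisms are exactly the maps Spec(σ_g). Then Spec A ⟶ Spec B is a quotient of Spec A by G, and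
the structure sheaf of Spec B is the sheaf of G-invariants of the direct image of the structure
sheaf of Spec A: the map is affine and G-invariant, and for every open U of Spec B the sections of
the structure sheaf of Spec B over U map injectively onto the G-invariant sections of the structure
sheaf of Spec A over the inverse image of U. -/
theorem result (G : Type u) [Group G] [Finite G] (A B : Type u) [CommRing A] [CommRing B]
    [Algebra B A] [MulSemiringAction G A] [SMulCommClass G B A] [Algebra.IsInvariant B A G] [FaithfulSMul B A]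
    (ρ : G →* Aut (Spec (CommRingCat.of A)))
    (hρ : Set.range (fun g : G => (ρ g).hom) =
      Set.range (fun g : G => Spec.map (CommRingCat.ofHom (MulSemiringAction.toRingHom G A g)))) :
    SGA1.IsQuot ρ (Spec.map (CommRingCat.ofHom (algebraMap B A))) := by
  have h1 : ∀ g : G, ∃ h : G,
      (ρ g).hom = Spec.map (CommRingCat.ofHom (MulSemiringAction.toRingHom G A h)) := by
    intro g
    have : (ρ g).hom ∈ Set.range (fun g : G => (ρ g).hom) := ⟨g, rfl⟩
    rw [hρ] at this
    obtain ⟨h, hh⟩ := this
    exact ⟨h, hh.symm⟩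
  have h2 : ∀ h : G, ∃ g : G,
      (ρ g).hom = Spec.map (CommRingCat.ofHom (MulSemiringAction.toRingHom G A h)) := by
    intro h
    have : Spec.map (CommRingCat.ofHom (MulSemiringAction.toRingHom G A h)) ∈
        Set.range (fun g : G => (ρ g).hom) := by
      rw [hρ]; exact ⟨h, rfl⟩
    exact this
  have hσ : ∀ h : G, CommRingCat.ofHom (algebraMap B A) ≫
      CommRingCat.ofHom (MulSemiringAction.toRingHom G A h) =
        CommRingCat.ofHom (algebraMap B A) := by
    intro h
    ext b
    exact smul_algebraMap h b
  have hinv : ∀ g, (ρ g).hom ≫ Spec.map (CommRingCat.ofHom (algebraMap B A)) =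
      Spec.map (CommRingCat.ofHom (algebraMap B A)) := by
    intro g
    obtain ⟨h, hh⟩ := h1 g
    rw [hh, ← Spec.map_comp, hσ]
  have hnatB := Scheme.ΓSpecIso_naturality (CommRingCat.ofHom (algebraMap B A))
  have hinj : Function.Injective (Spec.map (CommRingCat.ofHom (algebraMap B A))).appTop.hom := by
    intro x y hxy
    have hx := congrArg (fun k => k.hom x) hnatB
    have hy := congrArg (fun k => k.hom y) hnatB
    simp only [CommRingCat.hom_comp, RingHom.comp_apply, CommRingCat.hom_ofHom] at hx hy
    rw [hxy, hy] at hx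
    have := FaithfulSMul.algebraMap_injective B A hx
    exact ((ConcreteCategory.bijective_of_isIso (Scheme.ΓSpecIso (CommRingCat.of B)).hom).1 this).symm
  have hfix : ∀ a : Γ(Spec (CommRingCat.of A), ⊤),
      (∀ g : G, (ρ g).hom.appTop.hom a = a) →
        ∃ b, (Spec.map (CommRingCat.ofHom (algebraMap B A))).appTop.hom b = a := by
    intro a ha
    have hfixed : ∀ h : G, h • ((Scheme.ΓSpecIso (CommRingCat.of A)).hom.hom a) =
        (Scheme.ΓSpecIso (CommRingCat.of A)).hom.hom a := by
      intro h
      obtain ⟨g, hg⟩ := h2 h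
      have h3 := ha g
      rw [hg] at h3
      have h4 := congrArg (fun k => k.hom a)
        (Scheme.ΓSpecIso_naturality (CommRingCat.ofHom (MulSemiringAction.toRingHom G A h)))
      simp only [CommRingCat.hom_comp, RingHom.comp_apply, CommRingCat.hom_ofHom] at h4
      rw [h3] at h4
      exact h4.symm
    obtain ⟨b, hb⟩ := Algebra.IsInvariant.isInvariant (A := B) (G := G) _ hfixed
    refine ⟨(Scheme.ΓSpecIso (CommRingCat.of B)).inv.hom b, ?_⟩
    apply (ConcreteCategory.bijective_of_isIso (Scheme.ΓSpecIso (CommRingCat.of A)).hom).1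
    have h5 := congrArg (fun k => k.hom ((Scheme.ΓSpecIso (CommRingCat.of B)).inv.hom b)) hnatB
    simp only [CommRingCat.hom_comp, RingHom.comp_apply, CommRingCat.hom_ofHom] at h5
    refine h5.trans ?_
    rw [← hb]
    congr 1
    exact congrArg (fun k => k.hom b) (Scheme.ΓSpecIso (CommRingCat.of B)).inv_hom_id
  have core := Groth.Agent.Lib.Helper63.SpecQuot.general_case
    (Spec.map (CommRingCat.ofHom (algebraMap B A))) (fun g => (ρ g).hom) hinv
    (fun g U => SGA1.preimage_le_of_inv ρ _ hinv g U) hinj hfix
  refine ⟨inferInstance, hinv, fun U => (core U).1, fun U s => ⟨?_, fun hs => (core U).2 s hs⟩⟩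
  rintro ⟨y, rfl⟩ g
  have key : ∀ (q q' : Spec (CommRingCat.of A) ⟶ Spec (CommRingCat.of B)) (hq : q = q')
      (W : (Spec (CommRingCat.of B)).Opens) (W' : (Spec (CommRingCat.of A)).Opens)
      (e : W' ≤ q ⁻¹ᵁ W) (e' : W' ≤ q' ⁻¹ᵁ W), q.appLE W W' e = q'.appLE W W' e' := by
    rintro q q' rfl W W' e e'
    rfl
  have e1 : (Spec.map (CommRingCat.ofHom (algebraMap B A))).app U ≫
      (ρ g).hom.appLE _ _ (SGA1.preimage_le_of_inv ρ _ hinv g U) =
      ((ρ g).hom ≫ Spec.map (CommRingCat.ofHom (algebraMap B A))).appLE U
        (Spec.map (CommRingCat.ofHom (algebraMap B A)) ⁻¹ᵁ U)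
        (SGA1.preimage_le_of_inv ρ _ hinv g U) :=
    (Scheme.Hom.comp_appLE _ _ _ _ _).symm
  have e2 := key _ _ (hinv g) U (Spec.map (CommRingCat.ofHom (algebraMap B A)) ⁻¹ᵁ U)
    (SGA1.preimage_le_of_inv ρ _ hinv g U) le_rfl
  have e3 := e1.trans (e2.trans (Scheme.Hom.appLE_eq_app _))
  exact congrArg (fun k => k.hom y) e3

end Groth.Agent.S12059
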