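import Groth.Statements.S1206
import Mathlib

set_option autoImplicit false
universe u
open FlatMor

namespace Groth.Agent.S1206

/-- Let A be a local domain which is not a field and 𝒮 a set of finitely generated ideals of A, closed
under products, such that the union of the closed sets V(I), I ∈ 𝒮, is exactly the set of nonzero
primes (every nonzero prime contains a member of 𝒮 and no member is zero). Then the intersection of
all members of 𝒮 is zero. -/
theorem result (A : Type u) [CommRing A] [IsDomain A] [IsLocalRing A] (hA : ¬ IsField A)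
    (𝒮 : Set (Ideal A)) (hfg : ∀ I ∈ 𝒮, I.FG) (hmul : ∀ I ∈ 𝒮, ∀ J ∈ 𝒮, I * J ∈ 𝒮)
    (hne : ∀ I ∈ 𝒮, I ≠ ⊥) (hcov : ∀ (p : Ideal A), p.IsPrime → p ≠ ⊥ → ∃ I ∈ 𝒮, I ≤ p) :
    sInf 𝒮 = ⊥ := by
  have hm : IsLocalRing.maximalIdeal A ≠ ⊥ := fun h =>
    hA (IsLocalRing.isField_iff_maximalIdeal_eq.mpr h)
  obtain ⟨I₀, hI₀, -⟩ := hcov _ (IsLocalRing.maximalIdeal.isMaximal A).isPrime hm
  -- the Oka predicate
  let P : Ideal A → Prop := fun 𝔞 => 𝔞 = ⊥ ∨ ∃ I ∈ 𝒮, I ≤ 𝔞
  have hOka : Ideal.IsOka P := by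
    refine ⟨Or.inr ⟨I₀, hI₀, le_top⟩, ?_⟩
    intro 𝔞 a h1 h2
    rcases h1 with h1 | ⟨I₁, hI₁, h1⟩
    · left
      exact le_bot_iff.mp (h1 ▸ le_sup_left)
    rcases h2 with h2 | ⟨I₂, hI₂, h2⟩
    · left
      exact le_bot_iff.mp (h2 ▸ Ideal.le_colon)
    right
    refine ⟨I₁ * I₂, hmul _ hI₁ _ hI₂, ?_⟩
    refine (Ideal.mul_mono h1 h2).trans ?_
    rw [Ideal.sup_mul]
    refine sup_le Ideal.mul_le_left ?_
    rw [Ideal.span_singleton_mul_le_iff]
    intro z hz
    rw [Ideal.mem_colon_span_singleton] at hz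
    rwa [mul_comm]
  have hall : ∀ 𝔞, P 𝔞 := by
    refine hOka.forall_of_forall_prime' ?_ ?_
    · intro C hC hchain J hJ hsup
      rcases hsup with hsup | ⟨I, hI, hsup⟩
      · refine ⟨J, hJ, Or.inl ?_⟩
        exact le_bot_iff.mp (hsup ▸ le_sSup hJ)
      · have hcomp : IsCompactElement I :=
          (Submodule.fg_iff_compact I).mp (hfg I hI)
        obtain ⟨K, hK, hIK⟩ := hcomp C (sSup C) ⟨J, hJ⟩ hchain.directedOn (isLUB_sSup C) hsup
        exact ⟨K, hK, Or.inr ⟨I, hI, hIK⟩⟩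
    · intro p hp
      by_cases h : p = ⊥
      · exact Or.inl h
      · exact Or.inr (hcov p hp h)
  rw [eq_bot_iff]
  intro x hx
  rw [Ideal.mem_bot]
  by_contra hx0
  obtain ⟨g, hg, hg0⟩ : ∃ g ∈ IsLocalRing.maximalIdeal A, g ≠ 0 := by
    by_contra hcon
    push Not at hcon
    exact hm (eq_bot_iff.mpr fun g hg => hcon g hg)
  rcases hall (Ideal.span {x * g}) with h | ⟨I, hI, hle⟩
  · rw [Ideal.span_singleton_eq_bot] at h
    exact mul_ne_zero hx0 hg0 h
  · have hxI : x ∈ I := (Ideal.mem_sInf.mp hx) hI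
    have := hle hxI
    rw [Ideal.mem_span_singleton'] at this
    obtain ⟨h, hh⟩ := this
    have h1 : x * (h * g - 1) = 0 := by linear_combination hh
    have h2 : h * g = 1 := by
      rcases mul_eq_zero.mp h1 with h | h
      · exact absurd h hx0
      · exact sub_eq_zero.mp h
    have : IsUnit g := IsUnit.of_mul_eq_one_right _ h2
    exact (IsLocalRing.mem_maximalIdeal g).mp hg this

end Groth.Agent.S1206
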