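import Groth.Statements.S12067
import Groth.Agent.H40.Unipotent
import Mathlib

set_option autoImplicit false
universe u
open TensorProduct
open SGA3t2b

universe v w

namespace Groth.Agent.S12067

open Groth.Agent.H40

section
variable {k : Type u} [Field k] {V : Type v} {Q : Type w} [AddCommGroup V] [Module k V]
  [AddCommGroup Q] [Module k Q]

theorem finrank_comap_of_surjective [Module.Finite k V] (π : V →ₗ[k] Q)
    (hπ : Function.Surjective π) (G : Submodule k Q) :
    Module.finrank k (G.comap π) = Module.finrank k G + Module.finrank k (LinearMap.ker π) := by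
  set S := G.comap π with hS
  set f : S →ₗ[k] Q := π ∘ₗ S.subtype with hf
  have h1 := LinearMap.finrank_range_add_finrank_ker f
  have hr : LinearMap.range f = G := by
    rw [hf, LinearMap.range_comp, Submodule.range_subtype, hS,
      Submodule.map_comap_eq_of_surjective hπ]
  have hk : LinearMap.ker f = (LinearMap.ker π).comap S.subtype := by
    rw [hf, LinearMap.ker_comp]
  have hle : LinearMap.ker π ≤ S := by
    intro x hx
    rw [hS, Submodule.mem_comap, LinearMap.mem_ker.1 hx]
    exact G.zero_mem
  have h2 : Module.finrank k ((LinearMap.ker π).comap S.subtype) =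
      Module.finrank k (LinearMap.ker π) :=
    (Submodule.comapSubtypeEquivOfLe hle).finrank_eq
  rw [hr, hk, h2] at h1
  exact h1.symm

end

section
variable {k : Type u} {A : Type v} [Field k] [CommRing A] [Bialgebra k A]

theorem exists_flag (hU : HopfRep.IsUnipotent k A) :
    ∀ (n : ℕ) (V : Type v) [AddCommGroup V] [Module k V] [HopfRep.Comod k A V],
      Module.Finite k V → Module.finrank k V = n →
      ∃ F : ℕ → Submodule k V, F 0 = ⊥ ∧ F n = ⊤ ∧
        (∀ i, HopfRep.IsSubcomod (k := k) (A := A) (F i)) ∧
        ∀ i, i < n → F i ≤ F (i + 1) ∧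
          Module.finrank k (F (i + 1)) = Module.finrank k (F i) + 1 ∧
          ∀ v ∈ F (i + 1),
            HopfRep.Comod.coact (k := k) (A := A) v - v ⊗ₜ[k] (1 : A) ∈
              LinearMap.range ((F i).subtype.rTensor A) := by
  intro n
  induction n with
  | zero =>
    intro V _ _ _ hfin hn
    haveI := hfin
    haveI : Subsingleton V := Module.finrank_zero_iff.1 hn
    refine ⟨fun _ => ⊥, rfl, Subsingleton.elim _ _, fun _ => isSubcomod_bot, ?_⟩
    intro i hi
    exact absurd hi (Nat.not_lt_zero i)
  | succ n IH =>
    intro V _ _ _ hfin hn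
    haveI := hfin
    have hnt : Nontrivial V := Module.nontrivial_of_finrank_pos (R := k) (by omega)
    have hW0 : HopfRep.fixedPts k A V ≠ ⊥ := hU V hfin hnt
    obtain ⟨v₁, hv₁, hv₁0⟩ := Submodule.exists_mem_ne_zero_of_ne_bot hW0
    set L : Submodule k V := Submodule.span k {v₁} with hL
    have hLfix : L ≤ HopfRep.fixedPts k A V := by
      rw [hL, Submodule.span_le]
      intro x hx
      rw [Set.mem_singleton_iff] at hx
      rw [hx]
      exact hv₁
    have hLsub : HopfRep.IsSubcomod (k := k) (A := A) L := by
      intro w hw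
      have hw' : HopfRep.Comod.coact (k := k) (A := A) w = w ⊗ₜ[k] (1 : A) := hLfix hw
      exact ⟨(⟨w, hw⟩ : L) ⊗ₜ[k] (1 : A), by simp [hw']⟩
    have hLrank : Module.finrank k L = 1 := finrank_span_singleton hv₁0
    letI instQ : HopfRep.Comod k A (V ⧸ L) := quotComod L hLsub
    have hQrank : Module.finrank k (V ⧸ L) = n := by
      have h1 := Submodule.finrank_quotient_add_finrank L
      omega
    obtain ⟨G, hG0, hGn, hGsub, hGstep⟩ := IH (V ⧸ L) inferInstance hQrank
    have hcoactQ : ∀ v : V, HopfRep.Comod.coact (k := k) (A := A) (L.mkQ v) =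
        L.mkQ.rTensor A (HopfRep.Comod.coact (k := k) (A := A) v) :=
      fun v => quotComod_coact_mk L hLsub v
    let F : ℕ → Submodule k V := fun i => Nat.casesOn i ⊥ (fun j => (G j).comap L.mkQ)
    have hF0 : F 0 = ⊥ := rfl
    have hFs : ∀ j, F (j + 1) = (G j).comap L.mkQ := fun j => rfl
    have hF1 : F 1 = L := by
      rw [show (1 : ℕ) = 0 + 1 from rfl, hFs, hG0, Submodule.comap_bot, Submodule.ker_mkQ]
    have hker : Module.finrank k (LinearMap.ker L.mkQ) = 1 := by
      rw [Submodule.ker_mkQ]; exact hLrank
    refine ⟨F, hF0, ?_, ?_, ?_⟩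
    · rw [hFs, hGn, Submodule.comap_top]
    · intro i
      cases i with
      | zero => rw [hF0]; exact isSubcomod_bot
      | succ j =>
        rw [hFs]
        intro v hv
        apply mem_range_rTensor_subtype_of_forall_slice
        intro ψ
        rw [Submodule.mem_comap, ← slice_rTensor, ← hcoactQ]
        exact slice_mem_of_mem_range _ _ (hGsub j _ hv) ψ
    · intro i hi
      cases i with
      | zero =>
        refine ⟨by rw [hF0]; exact bot_le, ?_, ?_⟩
        · rw [zero_add, hF1, hF0, hLrank, finrank_bot]
        · intro v hv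
          rw [zero_add, hF1] at hv
          have hv' : HopfRep.Comod.coact (k := k) (A := A) v = v ⊗ₜ[k] (1 : A) := hLfix hv
          rw [hv', sub_self]
          exact Submodule.zero_mem _
      | succ j =>
        have hj : j < n := by omega
        obtain ⟨hle, hrk, htriv⟩ := hGstep j hj
        refine ⟨?_, ?_, ?_⟩
        · rw [hFs, hFs]
          exact Submodule.comap_mono hle
        · rw [hFs, hFs, finrank_comap_of_surjective _ L.mkQ_surjective,
            finrank_comap_of_surjective _ L.mkQ_surjective, hker, hrk]
        · intro v hv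
          rw [hFs] at hv ⊢
          apply mem_range_rTensor_subtype_of_forall_slice
          intro ψ
          rw [Submodule.mem_comap, ← slice_rTensor, map_sub, ← hcoactQ, LinearMap.rTensor_tmul]
          exact slice_mem_of_mem_range _ _ (htriv _ hv) ψ

end


/-- In Hopf-algebra form, let k be a field and A a finitely generated commutative Hopf algebra over k
(an affine algebraic group G) which is unipotent: every nonzero finite-dimensional comodule has a
nonzero fixed vector. Then every finite-dimensional comodule V (a finite-dimensional representation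
of G), of dimension n, has a flag of subcomodules 0 = V_0 ⊂ V_1 ⊂ ⋯ ⊂ V_n = V with one-dimensional
successive quotients on which G acts trivially: for v ∈ V_(i+1) the coaction of v is congruent to v
⊗ 1 modulo V_i ⊗ A. -/
theorem result (k : Type u) [Field k] (A : Type u) [CommRing A]
    [HopfAlgebra k A] [Algebra.FiniteType k A] (hU : HopfRep.IsUnipotent k A)
    (V : Type u) [AddCommGroup V] [Module k V] [HopfRep.Comod k A V] [Module.Finite k V] :
    ∃ F : Fin (Module.finrank k V + 1) → Submodule k V,
      F 0 = ⊥ ∧ F (Fin.last _) = ⊤ ∧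
      (∀ i : Fin (Module.finrank k V + 1), HopfRep.IsSubcomod (k := k) (A := A) (F i)) ∧
      ∀ i : Fin (Module.finrank k V), F i.castSucc ≤ F i.succ ∧
        Module.finrank k ↥(F i.succ) = Module.finrank k ↥(F i.castSucc) + 1 ∧
        ∀ v ∈ F i.succ, HopfRep.Comod.coact (k := k) (A := A) v - v ⊗ₜ[k] (1 : A) ∈
          LinearMap.range ((F i.castSucc).subtype.rTensor A) := by
  obtain ⟨F, hF0, hFn, hFsub, hFstep⟩ :=
    exists_flag hU (Module.finrank k V) V inferInstance rfl
  refine ⟨fun i => F i.val, ?_, ?_, fun i => hFsub i.val, ?_⟩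
  · exact hF0
  · exact hFn
  · intro i
    exact hFstep i.val i.isLt

end Groth.Agent.S12067
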