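import Groth.Statements.S1207
import Mathlib

set_option autoImplicit false
universe u
open FlatMor

namespace Groth.Agent.S1207

/-- Let A be a local ring and I, J ideals of A with J finitely generated, J ≠ A, and I ⊆ J^n for all n ≥
1. Then every prime p not containing J which is maximal among the primes not containing J (a closed
point of Spec A ∖ V(J)) contains I. (The published statement leaves the hypothesis J ≠ A implicit;
for J = A the assertion fails.) -/
theorem result (A : Type u) [CommRing A] [IsLocalRing A] (I J : Ideal A) (hJ : J.FG) (hJ1 : J ≠ ⊤)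
    (hI : ∀ n : ℕ, 1 ≤ n → I ≤ J ^ n) (p : Ideal A) [p.IsPrime] (hp : ¬ J ≤ p)
    (hmax : ∀ (p' : Ideal A), p'.IsPrime → p ≤ p' → ¬ J ≤ p' → p' = p) : I ≤ p := by
  intro x hxI
  by_contra hxp
  -- Step 1: for each `f ∈ J`, some power of `f` lies in `p + (x)`.
  have key : ∀ f ∈ J, ∃ n : ℕ, f ^ n ∈ p ⊔ Ideal.span {x} := by
    intro f hf
    by_contra hcon
    push Not at hcon
    -- there is a prime containing `p + (x)` avoiding powers of `f`
    obtain ⟨q, hq, hpq, hdisj⟩ := Ideal.exists_le_prime_disjoint (p ⊔ Ideal.span {x})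
      (Submonoid.powers f) (by
        rw [Set.disjoint_left]
        rintro y hy ⟨n, rfl⟩
        exact hcon n hy)
    have hfq : f ∉ q := fun h => Set.disjoint_left.mp hdisj h ⟨1, by simp⟩
    have hJq : ¬ J ≤ q := fun h => hfq (h hf)
    have := hmax q hq (le_sup_left.trans hpq) hJq
    apply hxp
    rw [← this]
    exact hpq (Ideal.mem_sup_right (Ideal.subset_span rfl))
  -- Step 2: some power of `J` lies in `p + (x)`.
  have hpow : ∃ N : ℕ, J ^ N ≤ p ⊔ Ideal.span {x} := by
    have : J ≤ (p ⊔ Ideal.span {x}).radical := fun f hf => key f hf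
    exact Ideal.exists_pow_le_of_le_radical_of_fg this hJ
  obtain ⟨N, hN⟩ := hpow
  -- Step 3: x ∈ J^(N+1) ⊆ J * (p + (x)) ⊆ p + J x
  have hx1 : x ∈ J ^ (N + 1) := hI (N + 1) (by omega) hxI
  have hx2 : x ∈ J * (p ⊔ Ideal.span {x}) := by
    rw [pow_succ'] at hx1
    exact Ideal.mul_mono_right hN hx1
  have hx3 : J * (p ⊔ Ideal.span {x}) ≤ p ⊔ J * Ideal.span {x} := by
    rw [Ideal.mul_sup]
    exact sup_le_sup_right Ideal.mul_le_right _
  have hx4 := hx3 hx2
  rw [Submodule.mem_sup] at hx4
  obtain ⟨y, hy, z, hz, hyz⟩ := hx4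
  rw [Ideal.mem_mul_span_singleton] at hz
  obtain ⟨j, hj, rfl⟩ := hz
  -- x = y + j x, so x (1 - j) ∈ p
  have h1 : x * (1 - j) ∈ p := by
    have : x * (1 - j) = y := by linear_combination (-1 : A) * hyz
    rw [this]; exact hy
  have hJm : J ≤ IsLocalRing.maximalIdeal A := IsLocalRing.le_maximalIdeal hJ1
  have hunit : IsUnit (1 - j) := by
    have hjm : j ∈ IsLocalRing.maximalIdeal A := hJm hj
    by_contra hnu
    have : (1 - j) ∈ IsLocalRing.maximalIdeal A := (IsLocalRing.mem_maximalIdeal _).mpr hnu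
    have h1m : (1 : A) ∈ IsLocalRing.maximalIdeal A := by
      have := Ideal.add_mem _ this hjm
      simp at this
    exact (Ideal.ne_top_iff_one _).mp (IsLocalRing.maximalIdeal.isMaximal A).ne_top h1m
  rcases Ideal.IsPrime.mem_or_mem ‹p.IsPrime› h1 with h | h
  · exact hxp h
  · exact (Ideal.IsPrime.ne_top ‹_›) (Ideal.eq_top_of_isUnit_mem _ h hunit)

end Groth.Agent.S1207
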