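import Groth.Statements.S12071
import Mathlib.GroupTheory.Archimedean
import Mathlib.Algebra.Group.Subgroup.ZPowers.Basic

set_option autoImplicit false
open RootD

namespace Groth.Agent.S12071

/-- rotation of the infinite dihedral group indexed by an honest integer -/
def R (i : ℤ) : DihedralGroup 0 := DihedralGroup.r (show ZMod 0 from i)
/-- reflection of the infinite dihedral group indexed by an honest integer -/
def SR (i : ℤ) : DihedralGroup 0 := DihedralGroup.sr (show ZMod 0 from i)

theorem R_mul (i j : ℤ) : R i * R j = R (i + j) := DihedralGroup.r_mul_r (n := 0) i j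
theorem R_inv (i : ℤ) : (R i)⁻¹ = R (-i) := DihedralGroup.inv_r (n := 0) i
theorem R_zero : R 0 = 1 := rfl
theorem R_zpow (i k : ℤ) : (R i) ^ k = R (i * k) := DihedralGroup.r_zpow (n := 0) i k
theorem R_mul_SR (i j : ℤ) : R i * SR j = SR (j - i) := DihedralGroup.r_mul_sr (n := 0) i j
theorem SR_mul_R (i j : ℤ) : SR i * R j = SR (i + j) := DihedralGroup.sr_mul_r (n := 0) i j
theorem R_inj {i j : ℤ} (h : R i = R j) : i = j := DihedralGroup.r.inj h
theorem R_ne_SR (i j : ℤ) : R i ≠ SR j := by
  intro h; cases h

theorem cases_RSR (g : DihedralGroup 0) : (∃ i, g = R i) ∨ (∃ i, g = SR i) := by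
  cases g with
  | r i => exact Or.inl ⟨i, rfl⟩
  | sr i => exact Or.inr ⟨i, rfl⟩

theorem no_sr (N : Subgroup (DihedralGroup 0)) [hn : N.Normal]
    (hx : SR 0 ∉ N) (hy : SR 1 ∉ N) (i : ℤ) : SR i ∉ N := by
  intro hi
  have hconj : ∀ j : ℤ, SR (i - j + -j) ∈ N := by
    intro j
    have := hn.conj_mem _ hi (R j)
    rwa [R_mul_SR, R_inv, SR_mul_R] at this
  rcases Int.even_or_odd' i with ⟨k, hk | hk⟩
  · apply hx
    have := hconj k
    have e : i - k + -k = 0 := by omega
    rwa [e] at this
  · apply hy
    have := hconj k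
    have e : i - k + -k = 1 := by omega
    rwa [e] at this

theorem main (N : Subgroup (DihedralGroup 0)) [N.Normal]
    (hN : N ≠ ⊥) (hx : SR 0 ∉ N) (hy : SR 1 ∉ N) :
    ∃ n : ℕ, 0 < n ∧ N = Subgroup.zpowers (R (n : ℤ)) := by
  have hsr := no_sr N hx hy
  let H : AddSubgroup ℤ :=
    { carrier := {i : ℤ | R i ∈ N}
      zero_mem' := by
        show R 0 ∈ N
        rw [R_zero]; exact N.one_mem
      add_mem' := by
        intro a b ha hb
        have := N.mul_mem ha hb
        rwa [R_mul] at this
      neg_mem' := by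
        intro a ha
        have := N.inv_mem ha
        rwa [R_inv] at this }
  have hH : ∀ i : ℤ, i ∈ H ↔ R i ∈ N := fun i => Iff.rfl
  obtain ⟨a, ha⟩ := Int.subgroup_cyclic H
  rw [← AddSubgroup.zmultiples_eq_closure, ← Int.zmultiples_natAbs] at ha
  refine ⟨a.natAbs, ?_, ?_⟩
  · rcases Nat.eq_zero_or_pos a.natAbs with h0 | h0
    · exfalso
      apply hN
      rw [Subgroup.eq_bot_iff_forall]
      intro g hg
      rcases cases_RSR g with ⟨i, rfl⟩ | ⟨i, rfl⟩
      · have : i ∈ H := hg
        rw [ha, h0] at this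
        simp only [Nat.cast_zero, AddSubgroup.zmultiples_zero_eq_bot, AddSubgroup.mem_bot] at this
        rw [this, R_zero]
      · exact absurd hg (hsr i)
    · exact h0
  · ext g
    rw [Subgroup.mem_zpowers_iff]
    rcases cases_RSR g with ⟨i, rfl⟩ | ⟨i, rfl⟩
    · rw [← hH, ha, AddSubgroup.mem_zmultiples_iff]
      constructor
      · rintro ⟨k, hk⟩
        refine ⟨k, ?_⟩
        rw [R_zpow, ← hk, smul_eq_mul, mul_comm]
      · rintro ⟨k, hk⟩
        refine ⟨k, ?_⟩
        rw [R_zpow] at hk
        rw [← R_inj hk, smul_eq_mul, mul_comm]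
    · constructor
      · intro h; exact absurd h (hsr i)
      · rintro ⟨k, hk⟩
        rw [R_zpow] at hk
        exact absurd hk (R_ne_SR _ _)

/-- Let G be the group generated by two elements x, y subject to x² = y² = 1 (the infinite dihedral
group; here Mathlib's DihedralGroup 0 with x = sr 0 and y = sr 1, so that x y = r 1). Then every
normal subgroup of G containing neither x nor y is generated by an element (x y)^n with n > 0; such
a subgroup is cyclic, generated by r n. (The published statement does not exclude the trivial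
subgroup, for which no n > 0 works; this row assumes the subgroup nontrivial.) -/
theorem result (N : Subgroup (DihedralGroup 0)) [N.Normal]
    (hN : N ≠ ⊥) (hx : DihedralGroup.sr (0 : ZMod 0) ∉ N) (hy : DihedralGroup.sr (1 : ZMod 0) ∉ N) :
    ∃ n : ℕ, 0 < n ∧ N = Subgroup.zpowers (DihedralGroup.r (n : ZMod 0)) := by
  obtain ⟨n, hn, h⟩ := main N hN hx hy
  exact ⟨n, hn, h⟩

end Groth.Agent.S12071
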