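import Groth.Statements.S12073
import Groth.Agent.Lib.Helper2.FEtLimit

set_option autoImplicit false
universe u
open CategoryTheory CategoryTheory.Limits AlgebraicGeometry
open Pi1

namespace Groth.Agent.S12073

/-- Let X = lim X_i be the limit of a cofiltered system of quasi-compact quasi-separated schemes with
affine transition morphisms, given by a limit cone. Then: (1) every finite étale cover of X is
isomorphic, over X, to the base change of a finite étale cover of some X_i; (2) if two morphisms
between finite étale covers of some X_i have the same base change to X, then they have the same base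
change to some X_j with j → i. (Fullness — every morphism over X between base changes comes from
some stage — is part of the published statement and is not stated here; nor is the consequence on
fundamental groups.) -/
theorem result {I : Type u} [SmallCategory I] [IsCofiltered I]
    (D : I ⥤ Scheme.{u}) (c : Limits.Cone D) (hc : Limits.IsLimit c)
    [∀ (i j : I) (f : i ⟶ j), IsAffineHom (D.map f)] [∀ i, CompactSpace (D.obj i)]
    [∀ i, QuasiSeparatedSpace (D.obj i)] :
    (∀ V : FEt.Cat c.pt, ∃ (i : I) (Vi : FEt.Cat (D.obj i)), Nonempty ((FEt.restrict (c.π.app i)).obj Vi ≅ V)) ∧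
    (∀ (i : I) (Vi Wi : FEt.Cat (D.obj i)) (φ ψ : Vi ⟶ Wi),
      (FEt.restrict (c.π.app i)).map φ = (FEt.restrict (c.π.app i)).map ψ →
      ∃ (j : I) (a : j ⟶ i), (FEt.restrict (D.map a)).map φ = (FEt.restrict (D.map a)).map ψ) := by
  refine ⟨fun V => ?_, fun i Vi Wi φ ψ h => ?_⟩
  · have hfin : IsFinite V.hom := V.prop.1
    have het : Etale V.hom := V.prop.2
    obtain ⟨i, Zi, zi, a, hzfin, hzet, hpb⟩ :=
      Groth.Agent.Lib.Helper2.FEtLimit.exists_fet_descend D c hc V.hom
    let W : FEt.Cat (D.obj i) := MorphismProperty.Over.mk ⊤ zi ⟨hzfin, hzet⟩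
    refine ⟨i, W, ⟨MorphismProperty.Over.isoMk hpb.isoPullback.symm ?_⟩⟩
    change hpb.isoPullback.inv ≫ V.hom = pullback.snd zi (c.π.app i)
    rw [Iso.inv_comp_eq, hpb.isoPullback_hom_snd]
  · have hVfin : IsFinite Vi.hom := Vi.prop.1
    have hWfin : IsFinite Wi.hom := Wi.prop.1
    have h1 : pullback.fst Vi.hom (c.π.app i) ≫ φ.left =
        pullback.fst Vi.hom (c.π.app i) ≫ ψ.left := by
      have h2 := congrArg (fun m => m.left ≫ pullback.fst Wi.hom (c.π.app i)) h
      simp only [FEt.restrict, MorphismProperty.Over.pullback, MorphismProperty.Over.homMk_hom,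
        Over.homMk_left] at h2
      rw [pullback.lift_fst, pullback.lift_fst] at h2
      exact h2
    obtain ⟨j, a, ha⟩ := Groth.Agent.Lib.Helper2.FEtLimit.exists_stage_eq D c hc Vi.hom Wi.hom
      φ.left ψ.left (MorphismProperty.Over.w φ) (MorphismProperty.Over.w ψ) h1
    refine ⟨j, a, ?_⟩
    ext
    apply pullback.hom_ext
    · simp only [FEt.restrict, MorphismProperty.Over.pullback, MorphismProperty.Over.homMk_hom,
        Over.homMk_left]
      rw [pullback.lift_fst, pullback.lift_fst]
      exact ha
    · simp only [FEt.restrict, MorphismProperty.Over.pullback, MorphismProperty.Over.homMk_hom,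
        Over.homMk_left]
      rw [pullback.lift_snd, pullback.lift_snd]

end Groth.Agent.S12073
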