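import Groth.Statements.S12076
import Mathlib.Algebra.Order.Group.PiLex
import Mathlib.LinearAlgebra.Basis.Defs
import Mathlib.LinearAlgebra.Basis.Basic

set_option autoImplicit false
open RootD

namespace Groth.Agent.S12076

open Module

section

variable {ι M N : Type*} [AddCommGroup M] [AddCommGroup N]
  (P : RootPairing ι ℤ M N) (b : P.Base)

/-- height as a linear functional on the root lattice -/
noncomputable def ht : ↥(P.rootSpan ℤ) →ₗ[ℤ] ℤ :=
  b.toWeightBasisInt.constr ℤ (fun _ => (1 : ℤ))

theorem ht_apply (x : ↥(P.rootSpan ℤ)) : ht P b x = ∑ j, b.toWeightBasisInt.repr x j := by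
  unfold ht
  rw [Basis.constr_apply_fintype]
  simp [Basis.equivFun_apply]

theorem ht_basis (j : b.support) : ht P b (b.toWeightBasisInt j) = 1 := by
  unfold ht
  rw [Basis.constr_basis]

theorem basis_eq (j : b.support) :
    b.toWeightBasisInt j = P.rootSpanMem ℤ j := by
  apply Subtype.ext
  simp

theorem ht_root (i : ι) : ht P b (P.rootSpanMem ℤ i) = b.height i := by
  classical
  set x : ↥(P.rootSpan ℤ) := P.rootSpanMem ℤ i with hx
  let f : ι → ℤ := fun j => if h : j ∈ b.support then b.toWeightBasisInt.repr x ⟨j, h⟩ else 0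
  have hf : P.root i = ∑ j ∈ b.support, f j • P.root j := by
    have h1 : (x : M) = P.root i := rfl
    rw [← h1]
    conv_lhs => rw [← b.toWeightBasisInt.sum_repr x]
    rw [Submodule.coe_sum, ← Finset.sum_coe_sort b.support]
    apply Finset.sum_congr rfl
    intro j _
    rw [Submodule.coe_smul, RootPairing.Base.coe_toWeightBasisInt_apply]
    simp [f]
  rw [RootPairing.Base.height_eq_sum hf, ht_apply, ← Finset.sum_coe_sort b.support]
  apply Finset.sum_congr rfl
  intro j _
  simp [f]

/-- coordinates in `Fin n → ℤ` -/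
noncomputable def coords : ↥(P.rootSpan ℤ) ≃ₗ[ℤ] (Fin (Fintype.card b.support) → ℤ) :=
  (b.toWeightBasisInt.reindex (Fintype.equivFin b.support)).equivFun

/-- lexicographic coordinate vector -/
noncomputable def lexc (x : ↥(P.rootSpan ℤ)) : Lex (Fin (Fintype.card b.support) → ℤ) :=
  toLex (coords P b x)

theorem lexc_add (x y : ↥(P.rootSpan ℤ)) : lexc P b (x + y) = lexc P b x + lexc P b y := by
  unfold lexc
  rw [map_add]
  rfl

theorem lexc_neg (x : ↥(P.rootSpan ℤ)) : lexc P b (-x) = -lexc P b x := by
  unfold lexc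
  rw [map_neg]
  rfl

theorem lexc_zero : lexc P b 0 = 0 := by
  unfold lexc
  rw [map_zero]
  rfl

theorem lexc_eq_zero {x : ↥(P.rootSpan ℤ)} (h : lexc P b x = 0) : x = 0 := by
  unfold lexc at h
  have : coords P b x = 0 := h
  exact (coords P b).map_eq_zero_iff.mp this

/-- the positive cone -/
def cone : Set ↥(P.rootSpan ℤ) :=
  {x | 0 < ht P b x ∨ (ht P b x = 0 ∧ 0 < lexc P b x)}

theorem zero_notMem_cone : (0 : ↥(P.rootSpan ℤ)) ∉ cone P b := by
  rintro (h | ⟨_, h⟩)
  · rw [map_zero] at h; exact lt_irrefl _ h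
  · rw [lexc_zero] at h; exact lt_irrefl _ h

theorem add_mem_cone {x y : ↥(P.rootSpan ℤ)} (hx : x ∈ cone P b) (hy : y ∈ cone P b) :
    x + y ∈ cone P b := by
  unfold cone at *
  simp only [Set.mem_ofPred_eq, map_add] at *
  rcases hx with hx | ⟨hx0, hx⟩ <;> rcases hy with hy | ⟨hy0, hy⟩
  · left; omega
  · left; omega
  · left; omega
  · right
    refine ⟨by omega, ?_⟩
    rw [lexc_add]
    exact add_pos hx hy

theorem mem_or_neg_mem_cone {x : ↥(P.rootSpan ℤ)} (hx : x ≠ 0) :
    x ∈ cone P b ∨ -x ∈ cone P b := by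
  unfold cone
  simp only [Set.mem_ofPred_eq, map_neg]
  rcases lt_trichotomy (ht P b x) 0 with h | h | h
  · right; left; omega
  · have hne : lexc P b x ≠ 0 := fun h0 => hx (lexc_eq_zero P b h0)
    rcases lt_or_gt_of_ne hne with h' | h'
    · right; right
      refine ⟨by omega, ?_⟩
      rw [lexc_neg]
      exact neg_pos.mpr h'
    · left; right
      exact ⟨h, h'⟩
  · left; left; exact h

theorem ht_nonneg_of_mem_cone {x : ↥(P.rootSpan ℤ)} (hx : x ∈ cone P b) : 0 ≤ ht P b x := by
  rcases hx with h | ⟨h, _⟩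
  · exact h.le
  · exact h.ge

end

/-- Let Δ be a system of simple roots (a base b of a root pairing P over ℤ) and Γ₀ the subgroup
generated by the roots. Then Γ₀ has a structure of totally ordered group for which the roots > 0 are
exactly the positive roots defined by Δ and for which the height (the additive function with value 1
on each simple root) is monotone. The order is given here by its positive cone C ⊆ Γ₀: 0 ∉ C, C + C
⊆ C, and for every x ≠ 0 exactly one of x, −x lies in C (x < y meaning y − x ∈ C). -/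
theorem result {ι M N : Type*} [AddCommGroup M] [AddCommGroup N]
    (P : RootPairing ι ℤ M N) [Finite ι] (b : P.Base) :
    ∃ C : Set ↥(Submodule.span ℤ (Set.range P.root)),
      0 ∉ C ∧ (∀ x ∈ C, ∀ y ∈ C, x + y ∈ C) ∧ (∀ x, x ≠ 0 → (x ∈ C ∨ -x ∈ C)) ∧ (∀ x ∈ C, -x ∉ C) ∧
      (∀ i : ι, (⟨P.root i, Submodule.subset_span (Set.mem_range_self i)⟩ : ↥(Submodule.span ℤ (Set.range P.root))) ∈ C ↔
        b.IsPos i) ∧
      ∀ φ : ↥(Submodule.span ℤ (Set.range P.root)) →+ ℤ,
        (∀ j ∈ b.support, φ ⟨P.root j, Submodule.subset_span (Set.mem_range_self j)⟩ = 1) →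
        ∀ x y : ↥(Submodule.span ℤ (Set.range P.root)), y - x ∈ C → φ x ≤ φ y := by
  refine ⟨cone P b, zero_notMem_cone P b, fun x hx y hy => add_mem_cone P b hx hy,
    fun x hx => mem_or_neg_mem_cone P b hx, ?_, ?_, ?_⟩
  · intro x hx hnx
    have := add_mem_cone P b hx hnx
    rw [add_neg_cancel] at this
    exact zero_notMem_cone P b this
  · intro i
    have hroot : ht P b (P.rootSpanMem ℤ i) = b.height i := ht_root P b i
    constructor
    · intro hi
      rw [RootPairing.Base.isPos_iff']
      have := ht_nonneg_of_mem_cone P b hi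
      rw [← hroot]
      exact this
    · intro hi
      left
      rw [RootPairing.Base.isPos_iff] at hi
      show 0 < ht P b (P.rootSpanMem ℤ i)
      rw [hroot]
      exact hi
  · intro φ hφ x y hxy
    have hφht : φ.toIntLinearMap = ht P b := by
      apply b.toWeightBasisInt.ext
      intro j
      rw [ht_basis, basis_eq]
      exact hφ j j.2
    have h1 : φ (y - x) = ht P b (y - x) := by
      rw [← hφht]; rfl
    have h2 := ht_nonneg_of_mem_cone P b hxy
    rw [← h1, map_sub] at h2
    omega

end Groth.Agent.S12076
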