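import Groth.Statements.S12078
import Mathlib.LinearAlgebra.Matrix.Notation
import Mathlib.Algebra.BigOperators.Fin

set_option autoImplicit false
universe u
open CAlg

namespace Groth.Agent.S12078

/-- An elementary divisor domain is Bézout. Here `R` is a domain such that for all `n, m ≥ 1` and every
`n × m` matrix `A` there are invertible matrices `U` (`n × n`) and `V` (`m × m`) with `U * A * V`
zero off the diagonal and with diagonal entries `f 0 ∣ f 1 ∣ f 2 ∣ …`; the conclusion is that every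
finitely generated ideal of `R` is principal. -/
theorem result (R : Type u) [CommRing R] [IsDomain R]
    (hR : ∀ n m : ℕ, 1 ≤ n → 1 ≤ m → ∀ A : Matrix (Fin n) (Fin m) R,
      ∃ (U : (Matrix (Fin n) (Fin n) R)ˣ) (V : (Matrix (Fin m) (Fin m) R)ˣ) (f : ℕ → R),
        (∀ k : ℕ, f k ∣ f (k + 1)) ∧
        ∀ (i : Fin n) (j : Fin m), ((U : Matrix (Fin n) (Fin n) R) * A * (V : Matrix (Fin m) (Fin m) R)) i j =
          if (i : ℕ) = (j : ℕ) then f i else 0) :
    IsBezout R := by
  rw [IsBezout.iff_span_pair_isPrincipal]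
  intro x y
  obtain ⟨U, V, f, -, hf⟩ := hR 1 2 le_rfl (by norm_num) (Matrix.of ![![x, y]])
  set A : Matrix (Fin 1) (Fin 2) R := Matrix.of ![![x, y]] with hA
  set B : Matrix (Fin 1) (Fin 2) R := (U : Matrix (Fin 1) (Fin 1) R) * A * (V : Matrix (Fin 2) (Fin 2) R) with hB
  have hB0 : B 0 0 = f 0 := by simpa using hf 0 0
  have hB1 : B 0 1 = 0 := by simpa using hf 0 1
  -- A = U⁻¹ * B * V⁻¹
  have hAB : A = ((U⁻¹ : (Matrix (Fin 1) (Fin 1) R)ˣ) : Matrix (Fin 1) (Fin 1) R) * B *
      ((V⁻¹ : (Matrix (Fin 2) (Fin 2) R)ˣ) : Matrix (Fin 2) (Fin 2) R) := by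
    rw [hB]
    simp only [Matrix.mul_assoc]
    rw [Units.mul_inv, Matrix.mul_one, ← Matrix.mul_assoc, Units.inv_mul, Matrix.one_mul]
  refine ⟨⟨f 0, ?_⟩⟩
  apply le_antisymm
  · -- x, y ∈ span {f 0}
    rw [Ideal.span_le]
    have key : ∀ j : Fin 2, A 0 j ∈ Ideal.span ({f 0} : Set R) := by
      intro j
      rw [hAB, Matrix.mul_apply, Fin.sum_univ_two, Matrix.mul_apply, Matrix.mul_apply,
        Fin.sum_univ_one, Fin.sum_univ_one, hB0, hB1]
      simp only [mul_zero, zero_mul, add_zero]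
      rw [Ideal.mem_span_singleton']
      exact ⟨((U⁻¹ : (Matrix (Fin 1) (Fin 1) R)ˣ) : Matrix (Fin 1) (Fin 1) R) 0 0 *
        ((V⁻¹ : (Matrix (Fin 2) (Fin 2) R)ˣ) : Matrix (Fin 2) (Fin 2) R) 0 j, by ring⟩
    intro z hz
    simp only [Set.mem_insert_iff, Set.mem_singleton_iff] at hz
    rcases hz with rfl | rfl
    · simpa [hA] using key 0
    · simpa [hA] using key 1
  · rw [Submodule.span_singleton_le_iff_mem, ← hB0, hB, Matrix.mul_apply, Fin.sum_univ_two,
      Matrix.mul_apply, Matrix.mul_apply, Fin.sum_univ_one, Fin.sum_univ_one]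
    have hx : x ∈ Ideal.span ({x, y} : Set R) := Ideal.subset_span (by simp)
    have hy : y ∈ Ideal.span ({x, y} : Set R) := Ideal.subset_span (by simp)
    have h0 : A 0 0 = x := by simp [hA]
    have h1 : A 0 1 = y := by simp [hA]
    rw [h0, h1]
    apply Ideal.add_mem
    · exact Ideal.mul_mem_right _ _ (Ideal.mul_mem_left _ _ hx)
    · exact Ideal.mul_mem_right _ _ (Ideal.mul_mem_left _ _ hy)

end Groth.Agent.S12078
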