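import Groth.Statements.S12079
import Mathlib.LinearAlgebra.Contraction
import Mathlib.LinearAlgebra.LeftExact

set_option autoImplicit false
universe u
open TensorProduct
open CAlg

namespace Groth.Agent.S12079

section

variable (R : Type u) [CommRing R]
  (N L : Type u) [AddCommGroup N] [Module R N] [AddCommGroup L] [Module R L]

/-- the comparison map `Hom(P, N) ⊗ L → Hom(P, N ⊗ L)` -/
noncomputable abbrev θ (P : Type u) [AddCommGroup P] [Module R P] :
    (P →ₗ[R] N) ⊗[R] L →ₗ[R] (P →ₗ[R] N ⊗[R] L) :=
  TensorProduct.rTensorHomToHomRTensor (RingHom.id R) P N L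

theorem θ_natural {P P' : Type u} [AddCommGroup P] [Module R P] [AddCommGroup P'] [Module R P']
    (u : P →ₗ[R] P') (t : (P' →ₗ[R] N) ⊗[R] L) :
    θ R N L P ((LinearMap.lcomp R N u).rTensor L t) = (θ R N L P' t).comp u := by
  induction t with
  | zero => simp
  | add x y hx hy => rw [map_add, map_add, hx, hy, map_add, LinearMap.add_comp]
  | tmul φ l =>
    apply LinearMap.ext
    intro p
    simp [TensorProduct.rTensorHomToHomRTensor_apply]

theorem θ_bijective_of_finite_projective (P : Type u) [AddCommGroup P] [Module R P]
    [Module.Projective R P] [Module.Finite R P] : Function.Bijective (θ R N L P) := by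
  have h := (rTensorHomEquivHomRTensor R P N L).bijective
  have e : ⇑(rTensorHomEquivHomRTensor R P N L) = ⇑(θ R N L P) := by
    funext x
    exact rTensorHomEquivHomRTensor_apply x
  rwa [e] at h

end

/-- For a finitely presented `R`-module `M`, any `R`-module `N` and a flat `R`-module `L`, the canonical
map `Hom_R(M, N) ⊗_R L → Hom_R(M, N ⊗_R L)` sending `f ⊗ l` to `m ↦ f m ⊗ l` is bijective. -/
theorem result (R : Type u) [CommRing R]
    (M N L : Type u) [AddCommGroup M] [Module R M] [AddCommGroup N] [Module R N] [AddCommGroup L] [Module R L]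
    [Module.FinitePresentation R M] [Module.Flat R L] :
    Function.Bijective (TensorProduct.rTensorHomToHomRTensor (RingHom.id R) M N L) := by
  obtain ⟨n, m, f, g, hf, hfg⟩ := Module.FinitePresentation.exists_fin' R M
  have hn := θ_bijective_of_finite_projective R N L (Fin n → R)
  have hm := θ_bijective_of_finite_projective R N L (Fin m → R)
  -- exactness of the Hom sequence, tensored with the flat module L
  have hex : Function.Exact ((LinearMap.lcomp R N f).rTensor L) ((LinearMap.lcomp R N g).rTensor L) :=
    Module.Flat.rTensor_exact L (LinearMap.exact_lcomp_of_exact_of_surjective N hfg hf)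
  have hinjT : Function.Injective ((LinearMap.lcomp R N f).rTensor L) :=
    Module.Flat.rTensor_preserves_injective_linearMap _ (LinearMap.lcomp_injective_of_surjective f hf)
  constructor
  · -- injectivity
    intro s s' hss
    apply hinjT
    apply hn.1
    rw [θ_natural, θ_natural]
    show (θ R N L M s).comp f = (θ R N L M s').comp f
    have : θ R N L M s = θ R N L M s' := hss
    rw [this]
  · -- surjectivity
    intro ψ
    obtain ⟨t, ht⟩ := hn.2 (ψ.comp f)
    have ht0 : (LinearMap.lcomp R N g).rTensor L t = 0 := by
      apply hm.1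
      rw [θ_natural, ht, map_zero, LinearMap.comp_assoc, hfg.linearMap_comp_eq_zero,
        LinearMap.comp_zero]
    obtain ⟨s, hs⟩ := (hex t).mp ht0
    refine ⟨s, ?_⟩
    have h1 : (θ R N L M s).comp f = ψ.comp f := by
      rw [← θ_natural, hs, ht]
    apply LinearMap.ext
    intro x
    obtain ⟨y, rfl⟩ := hf x
    exact LinearMap.congr_fun h1 y

end Groth.Agent.S12079
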