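import Groth.Statements.S12081
-- import your own Groth.Agent.* helpers here

set_option autoImplicit false
universe u
open TensorProduct
open EtAlg

namespace Groth.Agent.S12081

/-- Let `B' = B ×_A A'` be a fibre square of rings with `A' → A` surjective with kernel `I`, let `J =
Ker(B' → B)`, let `D'` be a `B'`-algebra and `C' = D' ⊗_{B'} A'`. Then the ideal `I C'` is, as a
subset of `C'`, the image of the ideal `J D'` under `D' → C'`; that is, the map `J D' → I C'` is
surjective. -/
theorem result (B' B A' A : Type u) [CommRing B'] [CommRing B] [CommRing A'] [CommRing A]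
    [Algebra B' B] [Algebra B' A'] [Algebra B A] [Algebra A' A] [Algebra B' A] [IsScalarTower B' B A] [IsScalarTower B' A' A]
    (hsq : EtMil.IsFibreSquare B' B A' A)
    (D' C' : Type u) [CommRing D'] [CommRing C'] [Algebra B' D'] [Algebra A' C']
    [Algebra D' C'] [Algebra B' C'] [IsScalarTower B' A' C'] [IsScalarTower B' D' C'] [Algebra.IsPushout B' A' D' C'] :
    (algebraMap D' C') '' ((RingHom.ker (algebraMap B' B)).map (algebraMap B' D') : Set D') =
      ((RingHom.ker (algebraMap A' A)).map (algebraMap A' C') : Set C') := by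
  set J := RingHom.ker (algebraMap B' B) with hJ
  set I := RingHom.ker (algebraMap A' A) with hI
  set φ := algebraMap D' C' with hφ
  -- every element of `I` is the image of an element of `J`
  have hIJ : ∀ i ∈ I, ∃ j ∈ J, algebraMap B' A' j = i := by
    intro i hi
    obtain ⟨b', ⟨h1, h2⟩, -⟩ := hsq.2 0 i (by rw [map_zero]; exact ((RingHom.mem_ker).1 hi).symm)
    exact ⟨b', (RingHom.mem_ker).2 h1, h2⟩
  have hJI : ∀ j ∈ J, algebraMap B' A' j ∈ I := by
    intro j hj
    rw [hI, RingHom.mem_ker, ← IsScalarTower.algebraMap_apply, IsScalarTower.algebraMap_apply B' B A,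
      (RingHom.mem_ker).1 hj, map_zero]
  have hcomm : ∀ b : B', φ (algebraMap B' D' b) = algebraMap A' C' (algebraMap B' A' b) := by
    intro b
    rw [hφ, ← IsScalarTower.algebraMap_apply, ← IsScalarTower.algebraMap_apply]
  -- Lemma (L)
  have hL : ∀ (a' : A') (u : D'), u ∈ J.map (algebraMap B' D') →
      ∃ u' ∈ J.map (algebraMap B' D'), φ u' = a' • φ u := by
    intro a' u hu
    rw [Ideal.map] at hu
    induction hu using Submodule.span_induction with
    | mem x hx =>
      obtain ⟨j, hj, rfl⟩ := hx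
      obtain ⟨j', hj', hjj⟩ := hIJ (a' * algebraMap B' A' j) (I.mul_mem_left _ (hJI j hj))
      refine ⟨algebraMap B' D' j', Ideal.mem_map_of_mem _ hj', ?_⟩
      rw [hcomm, hcomm, hjj, map_mul, Algebra.smul_def]
    | zero => exact ⟨0, Ideal.zero_mem _, by simp⟩
    | add x y _ _ hx hy =>
      obtain ⟨x', hx', hxx⟩ := hx
      obtain ⟨y', hy', hyy⟩ := hy
      exact ⟨x' + y', Ideal.add_mem _ hx' hy', by rw [map_add, map_add, smul_add, hxx, hyy]⟩
    | smul d x _ hx =>
      obtain ⟨x', hx', hxx⟩ := hx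
      refine ⟨d * x', Ideal.mul_mem_left _ _ hx', ?_⟩
      rw [smul_eq_mul, map_mul, map_mul, hxx, mul_smul_comm]
  -- multiplication by arbitrary `c : C'`
  have hM : ∀ (c : C') (u : D'), u ∈ J.map (algebraMap B' D') →
      ∃ u' ∈ J.map (algebraMap B' D'), φ u' = c * φ u := by
    intro c
    have hbc : IsBaseChange A' (IsScalarTower.toAlgHom B' D' C').toLinearMap :=
      Algebra.IsPushout.out
    refine hbc.inductionOn c (fun c => ∀ (u : D'), u ∈ J.map (algebraMap B' D') →
      ∃ u' ∈ J.map (algebraMap B' D'), φ u' = c * φ u) ?_ ?_ ?_ ?_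
    · intro u _
      exact ⟨0, Ideal.zero_mem _, by simp⟩
    · intro d u hu
      refine ⟨d * u, Ideal.mul_mem_left _ _ hu, ?_⟩
      simp [hφ]
    · intro a' c ih u hu
      obtain ⟨u1, hu1, h1⟩ := ih u hu
      obtain ⟨u2, hu2, h2⟩ := hL a' u1 hu1
      exact ⟨u2, hu2, by rw [h2, h1, smul_mul_assoc]⟩
    · intro c1 c2 ih1 ih2 u hu
      obtain ⟨u1, hu1, h1⟩ := ih1 u hu
      obtain ⟨u2, hu2, h2⟩ := ih2 u hu
      exact ⟨u1 + u2, Ideal.add_mem _ hu1 hu2, by rw [map_add, h1, h2, add_mul]⟩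
  apply Set.Subset.antisymm
  · rintro _ ⟨d, hd, rfl⟩
    have hle : (J.map (algebraMap B' D')).map φ ≤ I.map (algebraMap A' C') := by
      rw [Ideal.map_map, Ideal.map_le_iff_le_comap]
      intro j hj
      rw [Ideal.mem_comap, RingHom.comp_apply, hcomm]
      exact Ideal.mem_map_of_mem _ (hJI j hj)
    exact hle (Ideal.mem_map_of_mem _ hd)
  · intro c hc
    have hc' : c ∈ Ideal.span ((algebraMap A' C') '' (I : Set A')) := hc
    refine Submodule.span_induction
      (p := fun c _ => c ∈ φ '' ((J.map (algebraMap B' D') : Ideal D') : Set D')) ?_ ?_ ?_ ?_ hc'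
    · rintro _ ⟨i, hi, rfl⟩
      obtain ⟨j, hj, rfl⟩ := hIJ i hi
      exact ⟨algebraMap B' D' j, Ideal.mem_map_of_mem _ hj, hcomm j⟩
    · exact ⟨0, Ideal.zero_mem _, map_zero _⟩
    · rintro _ _ _ _ ⟨x', hx', rfl⟩ ⟨y', hy', rfl⟩
      exact ⟨x' + y', Ideal.add_mem _ hx' hy', map_add _ _ _⟩
    · rintro c _ _ ⟨x', hx', rfl⟩
      obtain ⟨u, hu, h⟩ := hM c x' hx'
      exact ⟨u, hu, h⟩

end Groth.Agent.S12081
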