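import Groth.Statements.S12084
import Mathlib
import Groth.Agent.Lib.Helper10.Fitting
-- import your own Groth.Agent.* helpers here

set_option autoImplicit false
universe u
open Fitt

namespace Groth.Agent.S12084

open Groth.Agent.Lib.Helper10.Fitting Matrix

section Blocks

variable {R : Type*} [CommRing R]

/-- A matrix whose rows are supported either on the left or on the right block of columns has
vanishing determinant unless the number of left-supported rows is the number of left columns. -/
theorem det_eq_zero_of_card_ne {ι ι' : Type*} [Fintype ι] [DecidableEq ι] [Fintype ι']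
    [DecidableEq ι'] (a : Matrix (ι ⊕ ι') (ι ⊕ ι') R) (L : Finset (ι ⊕ ι'))
    (hL : ∀ i ∈ L, ∀ j', a i (Sum.inr j') = 0) (hLc : ∀ i, i ∉ L → ∀ j, a i (Sum.inl j) = 0)
    (hcard : L.card ≠ Fintype.card ι) : a.det = 0 := by
  classical
  rw [Matrix.det_apply']
  apply Finset.sum_eq_zero
  intro σ _
  let s : Finset (ι ⊕ ι') := L.map σ.symm.toEmbedding
  let t : Finset (ι ⊕ ι') := Finset.univ.map ⟨Sum.inl, Sum.inl_injective⟩
  have hs : s.card = L.card := Finset.card_map _
  have ht : t.card = Fintype.card ι := by rw [Finset.card_map, Finset.card_univ]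
  have hsmem : ∀ c, c ∈ s ↔ σ c ∈ L := by
    intro c
    simp only [s, Finset.mem_map, Equiv.coe_toEmbedding]
    constructor
    · rintro ⟨i, hi, rfl⟩
      rwa [Equiv.apply_symm_apply]
    · intro h
      exact ⟨σ c, h, Equiv.symm_apply_apply _ _⟩
  have htmem : ∀ c, c ∈ t ↔ ∃ j, c = Sum.inl j := by
    intro c
    simp only [t, Finset.mem_map, Finset.mem_univ, true_and, Function.Embedding.coeFn_mk]
    constructor
    · rintro ⟨j, rfl⟩; exact ⟨j, rfl⟩
    · rintro ⟨j, rfl⟩; exact ⟨j, rfl⟩
  have hex : ∃ c, a (σ c) c = 0 := by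
    rcases lt_or_gt_of_ne hcard with h | h
    · have hlt : s.card < t.card := by rw [hs, ht]; exact h
      obtain ⟨c, hct, hcs⟩ := Finset.exists_mem_notMem_of_card_lt_card hlt
      obtain ⟨j, rfl⟩ := (htmem c).mp hct
      exact ⟨Sum.inl j, hLc _ (fun hmem => hcs ((hsmem _).mpr hmem)) j⟩
    · have hlt : t.card < s.card := by rw [hs, ht]; exact h
      obtain ⟨c, hcs, hct⟩ := Finset.exists_mem_notMem_of_card_lt_card hlt
      cases c with
      | inl j => exact absurd ((htmem _).mpr ⟨j, rfl⟩) hct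
      | inr j' => exact ⟨Sum.inr j', hL _ ((hsmem _).mp hcs) j'⟩
  obtain ⟨c, hc⟩ := hex
  have hprod : ∏ i, a (σ i) i = 0 := Finset.prod_eq_zero (Finset.mem_univ c) hc
  rw [hprod, mul_zero]

/-- Block-diagonalisation after a permutation of rows. -/
theorem det_of_card_eq {ι ι' : Type*} [Fintype ι] [DecidableEq ι] [Fintype ι']
    [DecidableEq ι'] (a : Matrix (ι ⊕ ι') (ι ⊕ ι') R) (L : Finset (ι ⊕ ι'))
    (hL : ∀ i ∈ L, ∀ j', a i (Sum.inr j') = 0) (hLc : ∀ i, i ∉ L → ∀ j, a i (Sum.inl j) = 0)
    (hcard : L.card = Fintype.card ι) :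
    ∃ (e₁ : ι ≃ {i // i ∈ L}) (e₂ : ι' ≃ {i // i ∉ L}) (ε : R),
      a.det = ε * ((Matrix.of fun i j => a (e₁ i) (Sum.inl j)).det *
        (Matrix.of fun i' j' => a (e₂ i') (Sum.inr j')).det) := by
  classical
  have h1 : Fintype.card ι = Fintype.card {i // i ∈ L} := by
    rw [Fintype.card_coe, hcard]
  have h2 : Fintype.card ι' = Fintype.card {i // i ∉ L} := by
    rw [Fintype.card_subtype_compl, Fintype.card_coe, Fintype.card_sum, hcard]
    omega
  let e₁ : ι ≃ {i // i ∈ L} := Fintype.equivOfCardEq h1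
  let e₂ : ι' ≃ {i // i ∉ L} := Fintype.equivOfCardEq h2
  let ρ : Equiv.Perm (ι ⊕ ι') := (Equiv.sumCongr e₁ e₂).trans (Equiv.sumCompl (· ∈ L))
  refine ⟨e₁, e₂, (((Equiv.Perm.sign ρ : ℤˣ) : ℤ) : R), ?_⟩
  have hblock : a.submatrix ρ id = Matrix.fromBlocks
      (Matrix.of fun i j => a (e₁ i) (Sum.inl j)) 0 0
      (Matrix.of fun i' j' => a (e₂ i') (Sum.inr j')) := by
    ext r c
    cases r with
    | inl i =>
      have hρ : ρ (Sum.inl i) = (e₁ i : ι ⊕ ι') := rfl
      cases c with
      | inl j =>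
        rw [Matrix.submatrix_apply, Matrix.fromBlocks_apply₁₁, hρ]
        rfl
      | inr j' =>
        rw [Matrix.submatrix_apply, Matrix.fromBlocks_apply₁₂, hρ]
        exact hL _ (e₁ i).2 j'
    | inr i' =>
      have hρ : ρ (Sum.inr i') = (e₂ i' : ι ⊕ ι') := rfl
      cases c with
      | inl j =>
        rw [Matrix.submatrix_apply, Matrix.fromBlocks_apply₂₁, hρ]
        exact hLc _ (e₂ i').2 j
      | inr j' =>
        rw [Matrix.submatrix_apply, Matrix.fromBlocks_apply₂₂, hρ]
        rfl
  have hdet := Matrix.det_permute ρ a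
  rw [hblock, Matrix.det_fromBlocks_zero₂₁] at hdet
  rw [hdet, ← mul_assoc, Groth.Agent.Lib.Helper10.Fitting.sign_mul_self, one_mul]

end Blocks

section Sum

variable {R : Type*} [CommRing R] {M M' : Type*} [AddCommGroup M] [Module R M]
  [AddCommGroup M'] [Module R M']

/-- The generating tuple of the product. -/
def zt {ι ι' : Type*} (x : ι → M) (x' : ι' → M') : ι ⊕ ι' → M × M' :=
  Sum.elim (fun i => (x i, 0)) (fun j => (0, x' j))

theorem span_zt {ι ι' : Type*} (x : ι → M) (x' : ι' → M')
    (hx : Submodule.span R (Set.range x) = ⊤) (hx' : Submodule.span R (Set.range x') = ⊤) :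
    Submodule.span R (Set.range (zt x x')) = ⊤ := by
  have h1 : Set.range (zt x x') = LinearMap.inl R M M' '' Set.range x ∪
      LinearMap.inr R M M' '' Set.range x' := by
    unfold zt
    rw [Set.Sum.elim_range, ← Set.range_comp, ← Set.range_comp]
    rfl
  rw [h1, LinearMap.span_inl_union_inr, hx, hx', Submodule.prod_top]

theorem mem_Rel_zt {ι ι' : Type*} [Fintype ι] [Fintype ι'] (x : ι → M) (x' : ι' → M')
    (v : ι ⊕ ι' → R) :
    v ∈ Rel R (zt x x') ↔ (fun i => v (Sum.inl i)) ∈ Rel R x ∧
      (fun j => v (Sum.inr j)) ∈ Rel R x' := by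
  rw [mem_Rel, mem_Rel, mem_Rel, Fintype.sum_sum_type]
  have e1 : ∑ i, v (Sum.inl i) • zt x x' (Sum.inl i) =
      ((∑ i, v (Sum.inl i) • x i, 0) : M × M') := by
    apply Prod.ext
    · rw [Prod.fst_sum]
      rfl
    · rw [Prod.snd_sum]
      show ∑ i, v (Sum.inl i) • (0 : M') = 0
      simp
  have e2 : ∑ j, v (Sum.inr j) • zt x x' (Sum.inr j) =
      ((0, ∑ j, v (Sum.inr j) • x' j) : M × M') := by
    apply Prod.ext
    · rw [Prod.fst_sum]
      show ∑ j, v (Sum.inr j) • (0 : M) = 0
      simp
    · rw [Prod.snd_sum]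
      rfl
  rw [e1, e2, Prod.mk_add_mk, add_zero, zero_add, Prod.mk_eq_zero]

theorem G_mono {ι : Type*} [Fintype ι] [DecidableEq ι] (x : ι → M) {r r' : ℕ} (h : r ≤ r') :
    G R x r ≤ G R x r' := by
  rw [G_le_iff]
  intro a ha
  exact det_mem_G x r' a (le_trans ha h)

open Classical in
theorem mul_le_G_zt {ι ι' : Type*} [Fintype ι] [DecidableEq ι] [Fintype ι'] [DecidableEq ι']
    (x : ι → M) (x' : ι' → M') (k k' : ℕ) :
    G R x k * G R x' k' ≤ G R (zt x x') (k + k') := by
  unfold G
  rw [Ideal.span_mul_span', Ideal.span_le]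
  rintro _ ⟨d, ⟨A, hA, rfl⟩, d', ⟨A', hA', rfl⟩, rfl⟩
  apply Ideal.subset_span
  refine ⟨Matrix.fromBlocks A 0 0 A', ?_, (Matrix.det_fromBlocks_zero₂₁ A 0 A').symm⟩
  refine le_trans ?_ (Nat.add_le_add hA hA')
  unfold nonRelCard
  rw [← Finset.card_disjSum]
  apply Finset.card_le_card
  intro r hr
  rw [Finset.mem_filter] at hr
  cases r with
  | inl i =>
    rw [Finset.inl_mem_disjSum, Finset.mem_filter]
    refine ⟨Finset.mem_univ _, fun hi => hr.2 ?_⟩
    rw [mem_Rel_zt]
    constructor
    · exact hi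
    · show (fun j => (0 : R)) ∈ Rel R x'
      exact Submodule.zero_mem _
  | inr i' =>
    rw [Finset.inr_mem_disjSum, Finset.mem_filter]
    refine ⟨Finset.mem_univ _, fun hi => hr.2 ?_⟩
    rw [mem_Rel_zt]
    constructor
    · show (fun j => (0 : R)) ∈ Rel R x
      exact Submodule.zero_mem _
    · exact hi

open Classical in
theorem G_zt_le {ι ι' : Type*} [Fintype ι] [DecidableEq ι] [Fintype ι'] [DecidableEq ι']
    (x : ι → M) (x' : ι' → M') (l : ℕ) :
    G R (zt x x') l ≤ ∑ k ∈ Finset.range (l + 1), G R x k * G R x' (l - k) := by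
  set J := ∑ k ∈ Finset.range (l + 1), G R x k * G R x' (l - k) with hJ
  obtain ⟨S, hSdef⟩ : ∃ S : Set (ι ⊕ ι' → R), S = {w | ∃ v ∈ Rel R x, w = Sum.elim v (fun _ => (0 : R))} ∪
      {w | ∃ v' ∈ Rel R x', w = Sum.elim (fun _ => (0 : R)) v'} := ⟨_, rfl⟩
  have hSmem : ∀ w, w ∈ S ↔ ((∃ v ∈ Rel R x, w = Sum.elim v (fun _ => (0 : R))) ∨
      (∃ v' ∈ Rel R x', w = Sum.elim (fun _ => (0 : R)) v')) := by
    intro w
    rw [hSdef]
    rfl
  have hS : Rel R (zt x x') ≤ Submodule.span R S := by
    intro v hv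
    rw [mem_Rel_zt] at hv
    have hdec : v = Sum.elim (fun i => v (Sum.inl i)) (fun _ => (0 : R)) +
        Sum.elim (fun _ => (0 : R)) (fun j => v (Sum.inr j)) := by
      funext c
      cases c with
      | inl i => simp
      | inr j => simp
    rw [hdec]
    apply Submodule.add_mem
    · exact Submodule.subset_span ((hSmem _).mpr (Or.inl ⟨_, hv.1, rfl⟩))
    · exact Submodule.subset_span ((hSmem _).mpr (Or.inr ⟨_, hv.2, rfl⟩))
  apply G_le_of_rel_le_span (zt x x') l S hS J
  intro a ha hcardS
  let L : Finset (ι ⊕ ι') := Finset.univ.filter (fun i => ∀ j', a i (Sum.inr j') = 0)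
  have hL : ∀ i ∈ L, ∀ j', a i (Sum.inr j') = 0 := by
    intro i hi
    exact (Finset.mem_filter.mp hi).2
  have hLc : ∀ i, i ∉ L → ∀ j, a i (Sum.inl j) = 0 := by
    intro i hi j
    have hne : ¬ ∀ j', a i (Sum.inr j') = 0 := fun h => hi (Finset.mem_filter.mpr ⟨Finset.mem_univ _, h⟩)
    rcases ha i with hSi | ⟨c, hc⟩
    · rcases (hSmem _).mp hSi with ⟨v, -, hv⟩ | ⟨v', -, hv'⟩
      · exfalso
        apply hne
        intro j'
        rw [hv]
        rfl
      · rw [hv']
        rfl
    · cases c with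
      | inl j₀ =>
        exfalso
        apply hne
        intro j'
        rw [hc, Pi.single_apply, if_neg (by simp)]
      | inr j₀ =>
        rw [hc, Pi.single_apply, if_neg (by simp)]
  by_cases hcard : L.card = Fintype.card ι
  · obtain ⟨e₁, e₂, ε, hdet⟩ := det_of_card_eq a L hL hLc hcard
    set A : Matrix ι ι R := Matrix.of fun i j => a (e₁ i) (Sum.inl j) with hAdef
    set A' : Matrix ι' ι' R := Matrix.of fun i' j' => a (e₂ i') (Sum.inr j') with hA'def
    have hrowA : ∀ i, a (e₁ i) ∈ S → A i ∈ Rel R x := by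
      intro i hSi
      rcases (hSmem _).mp hSi with ⟨v, hv, hav⟩ | ⟨v', -, hav⟩
      · have : A i = v := by
          funext j
          show a (e₁ i) (Sum.inl j) = v j
          rw [hav]
          rfl
        rw [this]
        exact hv
      · have : A i = 0 := by
          funext j
          show a (e₁ i) (Sum.inl j) = 0
          rw [hav]
          rfl
        rw [this]
        exact Submodule.zero_mem _
    have hrowA' : ∀ i', a (e₂ i') ∈ S → A' i' ∈ Rel R x' := by
      intro i' hSi
      rcases (hSmem _).mp hSi with ⟨v, -, hav⟩ | ⟨v', hv', hav⟩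
      · have : A' i' = 0 := by
          funext j
          show a (e₂ i') (Sum.inr j) = 0
          rw [hav]
          rfl
        rw [this]
        exact Submodule.zero_mem _
      · have : A' i' = v' := by
          funext j
          show a (e₂ i') (Sum.inr j) = v' j
          rw [hav]
          rfl
        rw [this]
        exact hv'
    have hsumcard : nonRelCard x A + nonRelCard x' A' ≤ l := by
      refine le_trans ?_ hcardS
      unfold nonRelCard
      rw [← Finset.card_disjSum]
      let φ : ι ⊕ ι' → ι ⊕ ι' := Sum.elim (fun i => (e₁ i : ι ⊕ ι')) (fun i' => (e₂ i' : ι ⊕ ι'))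
      have hφ : Function.Injective φ := by
        intro r r' hrr'
        cases r with
        | inl i =>
          cases r' with
          | inl i₂ =>
            have : e₁ i = e₁ i₂ := Subtype.ext hrr'
            rw [e₁.injective this]
          | inr i₂ =>
            exfalso
            have h1 : (e₁ i : ι ⊕ ι') ∈ L := (e₁ i).2
            have h2 : (e₂ i₂ : ι ⊕ ι') ∉ L := (e₂ i₂).2
            have h3 : (e₁ i : ι ⊕ ι') = (e₂ i₂ : ι ⊕ ι') := hrr'
            rw [h3] at h1
            exact h2 h1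
        | inr i' =>
          cases r' with
          | inl i₂ =>
            exfalso
            have h1 : (e₁ i₂ : ι ⊕ ι') ∈ L := (e₁ i₂).2
            have h2 : (e₂ i' : ι ⊕ ι') ∉ L := (e₂ i').2
            have h3 : (e₂ i' : ι ⊕ ι') = (e₁ i₂ : ι ⊕ ι') := hrr'
            rw [← h3] at h1
            exact h2 h1
          | inr i₂ =>
            have : e₂ i' = e₂ i₂ := Subtype.ext hrr'
            rw [e₂.injective this]
      apply Finset.card_le_card_of_injOn φ
      · intro r hr
        rw [Finset.mem_coe, Finset.mem_filter]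
        refine ⟨Finset.mem_univ _, ?_⟩
        cases r with
        | inl i =>
          rw [Finset.mem_coe, Finset.inl_mem_disjSum, Finset.mem_filter] at hr
          exact fun h => hr.2 (hrowA i h)
        | inr i' =>
          rw [Finset.mem_coe, Finset.inr_mem_disjSum, Finset.mem_filter] at hr
          exact fun h => hr.2 (hrowA' i' h)
      · exact hφ.injOn
    have hk1 : nonRelCard x A ≤ l := by omega
    have hmem : A.det * A'.det ∈ G R x (nonRelCard x A) * G R x' (l - nonRelCard x A) := by
      apply Ideal.mul_mem_mul (det_mem_G x _ A le_rfl)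
      exact G_mono x' (by omega) (det_mem_G x' _ A' le_rfl)
    have hle : G R x (nonRelCard x A) * G R x' (l - nonRelCard x A) ≤ J := by
      rw [hJ, Ideal.sum_eq_sup]
      exact Finset.le_sup (f := fun k => G R x k * G R x' (l - k))
        (Finset.mem_range.mpr (by omega))
    rw [hdet]
    exact Ideal.mul_mem_left _ _ (hle hmem)
  · rw [det_eq_zero_of_card_ne a L hL hLc hcard]
    exact Submodule.zero_mem _

end Sum

/-- For finite `R`-modules `M`, `M'` and every `l`, the `l`-th Fitting ideal of `M ⊕ M'` equals `∑_{k +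
k' = l} Fit_k(M) · Fit_{k'}(M')`; in particular `Fit_0(M ⊕ M') = Fit_0(M) · Fit_0(M')`. -/
theorem result (R : Type u) [CommRing R] (M M' : Type u) [AddCommGroup M] [Module R M]
    [AddCommGroup M'] [Module R M'] [Module.Finite R M] [Module.Finite R M'] (l : ℕ) :
    Fitt.ideal R (M × M') l = ∑ k ∈ Finset.range (l + 1), Fitt.ideal R M k * Fitt.ideal R M' (l - k) := by
  classical
  obtain ⟨n, x, hx⟩ := Module.Finite.exists_fin (R := R) (M := M)
  obtain ⟨n', x', hx'⟩ := Module.Finite.exists_fin (R := R) (M := M')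
  have hz := span_zt x x' hx hx'
  rw [fitt_eq_G (R := R) (zt x x') hz l]
  have hterm : ∀ k, Fitt.ideal R M k * Fitt.ideal R M' (l - k) = G R x k * G R x' (l - k) := by
    intro k
    rw [fitt_eq_G (R := R) x hx k, fitt_eq_G (R := R) x' hx' (l - k)]
  simp only [hterm]
  apply le_antisymm
  · exact G_zt_le (R := R) x x' l
  · rw [Ideal.sum_eq_sup]
    apply Finset.sup_le
    intro k hk
    have hkl : k ≤ l := by
      have := Finset.mem_range.mp hk
      omega
    have h1 := mul_le_G_zt (R := R) x x' k (l - k)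
    rw [Nat.add_sub_cancel' hkl] at h1
    exact h1

end Groth.Agent.S12084
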