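import Groth.Statements.S12096
-- import your own Groth.Agent.* helpers here
import Mathlib.RingTheory.Localization.Ideal

set_option autoImplicit false
universe u
open BlowUp

namespace Groth.Agent.S12096

/-- Néron's blowup is compatible with localization. For a ring `A`, an ideal `I`, elements `π, a ∈ A`,
`A' = A[I/π] ⊆ A_π` the affine blowup algebra and `(A_a)' = A_a[I A_a/π]` that of the localization,
the canonical map `A' → (A_a)'` (the restriction of `A_π → (A_a)_π`, given here as a datum with that
compatibility) identifies `(A_a)'` with the localization `A'_a`. In Néron's situation (`I` the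
inverse image of the maximal ideal of `Λ`, `π` a uniformizer, `a ∉ I`) this reads: the Néron blowup
of `A_a` is `A'_a`; the identity holds for arbitrary `A, I, π, a`. -/
theorem result (A : Type u) [CommRing A] (I : Ideal A) (π a : A) (hπ : π ∈ I)
    (ψ : BlowUp.affineAlgebra A I π →+*
      BlowUp.affineAlgebra (Localization.Away a) (I.map (algebraMap A (Localization.Away a))) (algebraMap A (Localization.Away a) π))
    (hψ : ∀ x : BlowUp.affineAlgebra A I π,
      ((ψ x : BlowUp.affineAlgebra (Localization.Away a) (I.map (algebraMap A (Localization.Away a))) (algebraMap A (Localization.Away a) π)) :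
          Localization.Away (algebraMap A (Localization.Away a) π)) =
        Localization.awayMap (algebraMap A (Localization.Away a)) π (x : Localization.Away π)) :
    letI := ψ.toAlgebra
    IsLocalization.Away (algebraMap A (BlowUp.affineAlgebra A I π) a)
      (BlowUp.affineAlgebra (Localization.Away a) (I.map (algebraMap A (Localization.Away a))) (algebraMap A (Localization.Away a) π)) := by
  let alg := ψ.toAlgebra
  classical
  have halg : ∀ x, algebraMap (BlowUp.affineAlgebra A I π) (BlowUp.affineAlgebra (Localization.Away a)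
      (I.map (algebraMap A (Localization.Away a))) (algebraMap A (Localization.Away a) π)) x = ψ x :=
    fun x => rfl
  set Φ := Localization.awayMap (algebraMap A (Localization.Away a)) π with hΦ
  have hΦalg : ∀ b : A, Φ (algebraMap A (Localization.Away π) b) =
      algebraMap (Localization.Away a) (Localization.Away (algebraMap A (Localization.Away a) π))
        (algebraMap A (Localization.Away a) b) := by
    intro b
    simp [hΦ, Localization.awayMap, IsLocalization.Away.map, IsLocalization.map_eq]
  have hΦmk : ∀ (b : A) (n : ℕ), Φ (IsLocalization.mk' (Localization.Away π) b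
        (⟨π ^ n, n, rfl⟩ : Submonoid.powers π)) =
      IsLocalization.mk' (Localization.Away (algebraMap A (Localization.Away a) π))
        (algebraMap A (Localization.Away a) b)
        (⟨algebraMap A (Localization.Away a) π ^ n, n, rfl⟩ :
          Submonoid.powers (algebraMap A (Localization.Away a) π)) := by
    intro b n
    simp [hΦ, Localization.awayMap, IsLocalization.Away.map, IsLocalization.map_mk']
  have hψa : ∀ b : A, ψ (algebraMap A (BlowUp.affineAlgebra A I π) b) =
      algebraMap (Localization.Away a) (BlowUp.affineAlgebra (Localization.Away a)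
        (I.map (algebraMap A (Localization.Away a))) (algebraMap A (Localization.Away a) π))
        (algebraMap A (Localization.Away a) b) := by
    intro b
    apply Subtype.ext
    rw [hψ, Subalgebra.coe_algebraMap, Subalgebra.coe_algebraMap, hΦalg]
  have hunit : IsUnit (ψ (algebraMap A _ a)) := by
    rw [hψa]
    exact (IsLocalization.Away.algebraMap_isUnit a).map _
  -- key surjectivity claim
  have hsurj : ∀ z ∈ BlowUp.affineAlgebra (Localization.Away a)
        (I.map (algebraMap A (Localization.Away a))) (algebraMap A (Localization.Away a) π),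
      ∃ x ∈ BlowUp.affineAlgebra A I π, ∃ n : ℕ,
        z * Φ (algebraMap A (Localization.Away π) a) ^ n = Φ x := by
    intro z hz
    unfold BlowUp.affineAlgebra at hz
    induction hz using Algebra.adjoin_induction with
    | mem z hz =>
      obtain ⟨w, hw, rfl⟩ := hz
      obtain ⟨⟨⟨x, hx⟩, ⟨_, n, rfl⟩⟩, hxw⟩ :=
        (IsLocalization.mem_map_algebraMap_iff (Submonoid.powers a) (Localization.Away a)).1 hw
      refine ⟨IsLocalization.mk' (Localization.Away π) x ⟨π, Submonoid.mem_powers π⟩,
        Algebra.subset_adjoin ⟨x, hx, rfl⟩, n, ?_⟩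
      have h1 := hΦmk x 1
      simp only [pow_one] at h1
      rw [h1, hΦalg]
      simp only at hxw
      rw [← map_pow, ← map_pow, mul_comm, IsLocalization.mul_mk'_eq_mk'_of_mul, ← hxw, mul_comm]
    | algebraMap c =>
      obtain ⟨b, ⟨_, n, rfl⟩, rfl⟩ := IsLocalization.exists_mk'_eq (Submonoid.powers a) c
      refine ⟨algebraMap A _ b, Subalgebra.algebraMap_mem _ b, n, ?_⟩
      rw [hΦalg, hΦalg, ← map_pow, ← map_mul, ← map_pow]
      congr 1
      exact IsLocalization.mk'_spec (Localization.Away a) b (⟨a ^ n, n, rfl⟩ : Submonoid.powers a)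
    | add y z _ _ hy hz =>
      obtain ⟨y', hy', n1, h1⟩ := hy
      obtain ⟨z', hz', n2, h2⟩ := hz
      refine ⟨y' * (algebraMap A _ a) ^ n2 + z' * (algebraMap A _ a) ^ n1,
        Subalgebra.add_mem _ (Subalgebra.mul_mem _ hy' (Subalgebra.pow_mem _
          (Subalgebra.algebraMap_mem _ a) _)) (Subalgebra.mul_mem _ hz' (Subalgebra.pow_mem _
          (Subalgebra.algebraMap_mem _ a) _)), n1 + n2, ?_⟩
      rw [map_add, map_mul, map_mul, map_pow, map_pow, ← h1, ← h2, pow_add]
      ring
    | mul y z _ _ hy hz =>
      obtain ⟨y', hy', n1, h1⟩ := hy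
      obtain ⟨z', hz', n2, h2⟩ := hz
      refine ⟨y' * z', Subalgebra.mul_mem _ hy' hz', n1 + n2, ?_⟩
      rw [map_mul, ← h1, ← h2, pow_add]
      ring
  refine (isLocalization_iff _ _).2 ⟨?_, ?_, ?_⟩
  · rintro ⟨_, n, rfl⟩
    rw [halg]
    simp only [map_pow]
    exact hunit.pow n
  · rintro ⟨z, hz⟩
    obtain ⟨x, hx, n, h⟩ := hsurj z hz
    refine ⟨(⟨x, hx⟩, ⟨algebraMap A _ a ^ n, n, rfl⟩), ?_⟩
    apply Subtype.ext
    rw [halg, halg]
    simp only [Subalgebra.coe_mul, hψ, map_pow, Subalgebra.coe_pow, Subalgebra.coe_algebraMap]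
    exact h
  · intro x y hxy
    rw [halg, halg] at hxy
    have h0 : Φ ((x : Localization.Away π) - y) = 0 := by
      rw [map_sub, ← hψ, ← hψ, hxy, sub_self]
    obtain ⟨b, ⟨_, k, rfl⟩, hb⟩ := IsLocalization.exists_mk'_eq (Submonoid.powers π)
      ((x : Localization.Away π) - y)
    rw [← hb, hΦmk, IsLocalization.mk'_eq_zero_iff] at h0
    obtain ⟨⟨_, m, rfl⟩, hm⟩ := h0
    have hm' : algebraMap A (Localization.Away a) (π ^ m * b) = 0 := by
      rw [map_mul, map_pow]; exact hm
    obtain ⟨⟨_, n, rfl⟩, hn⟩ := (IsLocalization.map_eq_zero_iff (Submonoid.powers a) _ _).1 hm'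
    refine ⟨⟨algebraMap A _ a ^ n, n, rfl⟩, ?_⟩
    apply Subtype.ext
    simp only [Subalgebra.coe_mul, Subalgebra.coe_pow, Subalgebra.coe_algebraMap]
    rw [← sub_eq_zero, ← mul_sub, ← hb, ← map_pow, IsLocalization.mul_mk'_eq_mk'_of_mul,
      IsLocalization.mk'_eq_zero_iff]
    exact ⟨⟨π ^ m, m, rfl⟩, by rw [← hn]; ring⟩

end Groth.Agent.S12096
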