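import Groth.Statements.S12097
-- import your own Groth.Agent.* helpers here

set_option autoImplicit false
universe u
open BlowUp

namespace Groth.Agent.S12097

/-- Néron's blowup is compatible with closed immersions. For a surjective ring map `B → A` with kernel
`J`, an ideal `I ⊆ B` containing `π`, and the affine blowup algebras `B' = B[I/π] ⊆ B_π`, `A' =
A[IA/π] ⊆ A_π`, the canonical map `B' → A'` (the restriction of `B_π → A_π`, given as a datum with
that compatibility) is surjective with kernel the elements `x` such that `π^n x ∈ J B'` for some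
`n`: `A'` is the quotient of `B'/JB'` by its `π`-power torsion. In Néron's situation (`I` the
inverse image of the maximal ideal of `Λ`, `π` a uniformizer) this is the printed functoriality; the
identity holds for any surjection. -/
theorem result (B A : Type u) [CommRing B] [CommRing A] [Algebra B A]
    (hq : Function.Surjective (algebraMap B A)) (I : Ideal B) (π : B) (hπ : π ∈ I)
    (ψ : BlowUp.affineAlgebra B I π →+* BlowUp.affineAlgebra A (I.map (algebraMap B A)) (algebraMap B A π))
    (hψ : ∀ x : BlowUp.affineAlgebra B I π,
      ((ψ x : BlowUp.affineAlgebra A (I.map (algebraMap B A)) (algebraMap B A π)) : Localization.Away (algebraMap B A π)) =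
        Localization.awayMap (algebraMap B A) π (x : Localization.Away π)) :
    Function.Surjective ψ ∧
      ∀ x : BlowUp.affineAlgebra B I π, x ∈ RingHom.ker ψ ↔
        ∃ n : ℕ, algebraMap B (BlowUp.affineAlgebra B I π) π ^ n * x ∈
          (RingHom.ker (algebraMap B A)).map (algebraMap B (BlowUp.affineAlgebra B I π)) := by
  classical
  set Φ := Localization.awayMap (algebraMap B A) π with hΦ
  have hΦalg : ∀ b : B, Φ (algebraMap B (Localization.Away π) b) =
      algebraMap A (Localization.Away (algebraMap B A π)) (algebraMap B A b) := by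
    intro b
    simp [hΦ, Localization.awayMap, IsLocalization.Away.map, IsLocalization.map_eq]
  have hΦmk : ∀ (b : B) (n : ℕ), Φ (IsLocalization.mk' (Localization.Away π) b
        (⟨π ^ n, n, rfl⟩ : Submonoid.powers π)) =
      IsLocalization.mk' (Localization.Away (algebraMap B A π)) (algebraMap B A b)
        (⟨algebraMap B A π ^ n, n, rfl⟩ : Submonoid.powers (algebraMap B A π)) := by
    intro b n
    simp [hΦ, Localization.awayMap, IsLocalization.Away.map, IsLocalization.map_mk']
  have hker : ∀ x : BlowUp.affineAlgebra B I π, ψ x = 0 ↔ Φ (x : Localization.Away π) = 0 := by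
    intro x
    rw [← hψ x]
    constructor
    · intro h; rw [h]; rfl
    · intro h; exact Subtype.ext h
  refine ⟨?_, ?_⟩
  · -- surjectivity
    rintro ⟨y, hy⟩
    suffices h : ∃ x ∈ BlowUp.affineAlgebra B I π, Φ x = y by
      obtain ⟨x, hx, hxy⟩ := h
      refine ⟨⟨x, hx⟩, Subtype.ext ?_⟩
      rw [hψ]; exact hxy
    unfold BlowUp.affineAlgebra at hy
    induction hy using Algebra.adjoin_induction with
    | mem y hy =>
      obtain ⟨z, hz, rfl⟩ := hy
      obtain ⟨x, hx, rfl⟩ := (Ideal.mem_map_iff_of_surjective _ hq).1 hz
      refine ⟨IsLocalization.mk' (Localization.Away π) x ⟨π, Submonoid.mem_powers π⟩,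
        Algebra.subset_adjoin ⟨x, hx, rfl⟩, ?_⟩
      have := hΦmk x 1
      simp only [pow_one] at this
      exact this
    | algebraMap a =>
      obtain ⟨b, rfl⟩ := hq a
      exact ⟨algebraMap B _ b, Subalgebra.algebraMap_mem _ b, hΦalg b⟩
    | add y z _ _ hy hz =>
      obtain ⟨y', hy', rfl⟩ := hy
      obtain ⟨z', hz', rfl⟩ := hz
      exact ⟨y' + z', Subalgebra.add_mem _ hy' hz', map_add _ _ _⟩
    | mul y z _ _ hy hz =>
      obtain ⟨y', hy', rfl⟩ := hy
      obtain ⟨z', hz', rfl⟩ := hz
      exact ⟨y' * z', Subalgebra.mul_mem _ hy' hz', map_mul _ _ _⟩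
  · intro x
    rw [RingHom.mem_ker, hker]
    constructor
    · intro hx
      obtain ⟨b, ⟨_, n, rfl⟩, hb⟩ := IsLocalization.exists_mk'_eq (Submonoid.powers π)
        (x : Localization.Away π)
      rw [← hb, hΦmk, IsLocalization.mk'_eq_zero_iff] at hx
      obtain ⟨⟨_, m, rfl⟩, hm⟩ := hx
      refine ⟨m + n, ?_⟩
      have hmem : π ^ m * b ∈ RingHom.ker (algebraMap B A) := by
        rw [RingHom.mem_ker, map_mul, map_pow]; exact hm
      have heq : algebraMap B (BlowUp.affineAlgebra B I π) π ^ (m + n) * x =
          algebraMap B (BlowUp.affineAlgebra B I π) (π ^ m * b) := by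
        apply Subtype.ext
        simp only [Subalgebra.coe_mul, Subalgebra.coe_pow, Subalgebra.coe_algebraMap, ← hb]
        rw [pow_add, mul_assoc, ← map_pow, ← map_pow, map_mul]
        congr 1
        rw [mul_comm]
        exact IsLocalization.mk'_spec (Localization.Away π) b
          (⟨π ^ n, n, rfl⟩ : Submonoid.powers π)
      rw [heq]
      exact Ideal.mem_map_of_mem _ hmem
    · rintro ⟨n, hn⟩
      have hle : (RingHom.ker (algebraMap B A)).map (algebraMap B (BlowUp.affineAlgebra B I π)) ≤
          RingHom.ker ψ := by
        rw [Ideal.map_le_iff_le_comap]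
        intro j hj
        rw [Ideal.mem_comap, RingHom.mem_ker, hker]
        rw [Subalgebra.coe_algebraMap, hΦalg, (RingHom.mem_ker).1 hj, map_zero]
      have h1 := hle hn
      rw [RingHom.mem_ker, hker] at h1
      simp only [Subalgebra.coe_mul, Subalgebra.coe_pow, Subalgebra.coe_algebraMap, map_mul,
        map_pow, hΦalg] at h1
      have hu : IsUnit (algebraMap A (Localization.Away (algebraMap B A π)) (algebraMap B A π)) :=
        IsLocalization.Away.algebraMap_isUnit (algebraMap B A π)
      exact (hu.pow n).mul_right_eq_zero.1 h1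

end Groth.Agent.S12097
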