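import Groth.Statements.S12099
-- import your own Groth.Agent.* helpers here

set_option autoImplicit false
universe v u
open CategoryTheory CategoryTheory.Limits
open PCoh

namespace Groth.Agent.S12099

/-- Punctual site: let C be an abelian category and C₀ a strictly full additive subcategory,
quasi-liftable in C. For an exact sequence F → G → H → 0 with F of C₀-finite type and G precoherent
relative to C₀ (every morphism from a C₀-object into G has kernel of C₀-finite type), H is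
precoherent relative to C₀. -/
theorem result {C : Type u} [Category.{v} C] [Abelian C]
    (P : ObjectProperty C) [P.IsClosedUnderIsomorphisms] [P.ContainsZero] (hsum : ∀ X Y : C, P X → P Y → P (X ⨯ Y))
    (hql : PCoh.IsQuasiLiftable P)
    (S : ShortComplex C) (hS : S.Exact) (hg : Epi S.g)
    (hF : PCoh.IsOfFiniteType P S.X₁) (hG : ∀ (E : C) (u : E ⟶ S.X₂), P E → PCoh.IsOfFiniteType P (kernel u)) :
    ∀ (E : C) (u : E ⟶ S.X₃), P E → PCoh.IsOfFiniteType P (kernel u) := by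
  intro E u hE
  haveI := hg
  obtain ⟨E₁, π₁, hE₁, hπ₁⟩ := hF
  haveI := hπ₁
  -- lift along the pullback
  obtain ⟨E', v, hE', hv⟩ := hql (pullback u S.g) E (pullback.fst u S.g) inferInstance hE
  haveI := hv
  set p : E' ⟶ E := v ≫ pullback.fst u S.g with hp
  set u' : E' ⟶ S.X₂ := v ≫ pullback.snd u S.g with hu'
  have hcomm : p ≫ u = u' ≫ S.g := by
    rw [hp, hu', Category.assoc, Category.assoc, pullback.condition]
  -- the auxiliary map
  set ψ : E' ⨯ E₁ ⟶ S.X₂ := prod.fst ≫ u' - prod.snd ≫ π₁ ≫ S.f with hψ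
  obtain ⟨E₀, π₀, hE₀, hπ₀⟩ := hG (E' ⨯ E₁) ψ (hsum _ _ hE' hE₁)
  haveI := hπ₀
  have hθ0 : (kernel.ι ψ ≫ prod.fst ≫ p) ≫ u = 0 := by
    have h1 : kernel.ι ψ ≫ prod.fst ≫ u' = kernel.ι ψ ≫ prod.snd ≫ π₁ ≫ S.f := by
      have := kernel.condition ψ
      rw [hψ, Preadditive.comp_sub, sub_eq_zero] at this
      exact this
    calc (kernel.ι ψ ≫ prod.fst ≫ p) ≫ u = kernel.ι ψ ≫ prod.fst ≫ (p ≫ u) := by
          simp only [Category.assoc]
      _ = (kernel.ι ψ ≫ prod.fst ≫ u') ≫ S.g := by rw [hcomm]; simp only [Category.assoc]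
      _ = 0 := by rw [h1]; simp
  set θ : kernel ψ ⟶ kernel u := kernel.lift u (kernel.ι ψ ≫ prod.fst ≫ p) hθ0 with hθ
  have hθepi : Epi θ := by
    rw [epi_iff_surjective_up_to_refinements]
    intro A y
    obtain ⟨A₁, q₁, hq₁, x, hx⟩ := (epi_iff_surjective_up_to_refinements p).mp hv (y ≫ kernel.ι u)
    have hx0 : (x ≫ u') ≫ S.g = 0 := by
      rw [Category.assoc, ← hcomm, ← Category.assoc, ← hx]
      simp
    obtain ⟨A₂, q₂, hq₂, x₁, hx₁⟩ := hS.exact_up_to_refinements (x ≫ u') hx0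
    obtain ⟨A₃, q₃, hq₃, z, hz⟩ := (epi_iff_surjective_up_to_refinements π₁).mp hπ₁ x₁
    have hw0 : prod.lift (q₃ ≫ q₂ ≫ x) z ≫ ψ = 0 := by
      rw [hψ, Preadditive.comp_sub, ← Category.assoc, prod.lift_fst, ← Category.assoc (prod.lift _ _),
        prod.lift_snd, sub_eq_zero]
      rw [← Category.assoc z, ← hz]
      simp only [Category.assoc]
      rw [← hx₁]
    refine ⟨A₃, q₃ ≫ q₂ ≫ q₁, ?_, kernel.lift ψ (prod.lift (q₃ ≫ q₂ ≫ x) z) hw0, ?_⟩
    · have := hq₁; have := hq₂; have := hq₃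
      exact epi_comp _ _
    · rw [← cancel_mono (kernel.ι u), hθ]
      simp only [Category.assoc, kernel.lift_ι, kernel.lift_ι_assoc, prod.lift_fst_assoc]
      rw [hx]
  exact ⟨E₀, π₀ ≫ θ, hE₀, epi_comp _ _⟩

end Groth.Agent.S12099
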