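import Groth.Statements.S12105
import Groth.Agent.S0487
import Groth.Agent.Lib.Helper33.GrothSS
import Groth.Agent.Lib.Helper33.ExtRightDerived
import Groth.Agent.Lib.Helper33.ExactCoupleAbut
import Groth.Agent.Lib.Helper5.SiteCoh
import Mathlib.CategoryTheory.Sites.Adjunction

set_option autoImplicit false
universe u
open CategoryTheory
open CohSite

namespace Groth.Agent.S12105

open Opposite CategoryTheory.Limits Groth.Agent.Lib.Helper5
open scoped ZeroObject

variable {C : Type u} [SmallCategory C] (J : GrothendieckTopology C)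

/-- the identity functor is continuous from the trivial topology -/
instance idCont : (𝟭 C).IsContinuous ⊥ J where
  op_comp_isSheaf_of_types _ := Presieve.isSheaf_bot

/-- the functor forgetting the topology, `Sh(C, J) ⥤ Sh(C, ⊥)` -/
noncomputable abbrev T : Sheaf J AddCommGrpCat.{u} ⥤
    Sheaf (⊥ : GrothendieckTopology C) AddCommGrpCat.{u} :=
  CohSite.push J ⊥ (𝟭 C)

/-- sheafification of (pre)sheaves for the trivial topology -/
noncomputable abbrev L : Sheaf (⊥ : GrothendieckTopology C) AddCommGrpCat.{u} ⥤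
    Sheaf J AddCommGrpCat.{u} :=
  sheafToPresheaf ⊥ AddCommGrpCat.{u} ⋙ presheafToSheaf J AddCommGrpCat.{u}

/-- `L ⊣ T` -/
noncomputable def adjLT : L J ⊣ T J :=
  ((sheafBotEquivalence AddCommGrpCat.{u}).toAdjunction.comp
    (sheafificationAdjunction J AddCommGrpCat.{u})).ofNatIsoRight
    (Iso.refl _)

instance : (L J).Additive := by
  dsimp only [L]
  infer_instance

instance : (L J).PreservesMonomorphisms := by
  have : (sheafToPresheaf (⊥ : GrothendieckTopology C) AddCommGrpCat.{u}).PreservesMonomorphisms :=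
    inferInstance
  have : (presheafToSheaf J AddCommGrpCat.{u}).PreservesMonomorphisms := inferInstance
  dsimp only [L]
  infer_instance

lemma injective_T (Q : Sheaf J AddCommGrpCat.{u}) [Injective Q] : Injective ((T J).obj Q) :=
  Injective.injective_of_adjoint (adjLT J) Q

/-- the free abelian sheaf on a presheaf of sets, in two ways -/
noncomputable def freeIso :
    (Functor.whiskeringRight Cᵒᵖ _ _).obj AddCommGrpCat.free.{u} ⋙
      presheafToSheaf J AddCommGrpCat.{u} ≅
    presheafToSheaf J (Type u) ⋙ Sheaf.composeAndSheafify J AddCommGrpCat.free.{u} :=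
  (SiteCoh.freeAdj J).leftAdjointUniq
    (((sheafificationAdjunction J (Type u)).comp
      (Sheaf.adjunction J AddCommGrpCat.adj.{u})).ofNatIsoRight (Iso.refl _))

variable (R : Cᵒᵖ ⥤ Type u)

/-- the free abelian presheaf on `R`, as a sheaf for the trivial topology -/
noncomputable abbrev A : Sheaf (⊥ : GrothendieckTopology C) AddCommGrpCat.{u} :=
  (presheafToSheaf ⊥ AddCommGrpCat.{u}).obj (R ⋙ AddCommGrpCat.free.{u})

/-- the free abelian sheaf on the sheaf associated to `R` -/
noncomputable abbrev B : Sheaf J AddCommGrpCat.{u} :=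
  (presheafToSheaf J AddCommGrpCat.{u}).obj
    (((presheafToSheaf J (Type u)).obj R).obj ⋙ AddCommGrpCat.free.{u})

/-- `L A ≅ B` -/
noncomputable def isoLA : (L J).obj (A R) ≅ B J R :=
  haveI : IsIso (toSheafify (⊥ : GrothendieckTopology C) (R ⋙ AddCommGrpCat.free.{u})) :=
    isIso_toSheafify _ (Presheaf.isSheaf_bot _)
  (presheafToSheaf J AddCommGrpCat.{u}).mapIso
    (asIso (toSheafify (⊥ : GrothendieckTopology C) (R ⋙ AddCommGrpCat.free.{u}))).symm ≪≫
    (freeIso J).app R

/-- `Hom(A, T -) ≅ Hom(B, -)` -/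
noncomputable def homIso :
    T J ⋙ preadditiveCoyoneda.obj (op (A R)) ≅ preadditiveCoyoneda.obj (op (B J R)) :=
  NatIso.ofComponents (fun Y => ((adjLT J).homAddEquiv (A R) Y).symm.toAddCommGrpIso ≪≫
      (preadditiveCoyoneda.mapIso (isoLA J R).symm.op).app Y)
    (fun {Y Y'} f => by
      ext g
      change (isoLA J R).inv ≫ ((adjLT J).homEquiv (A R) Y').symm (g ≫ (T J).map f) =
        ((isoLA J R).inv ≫ ((adjLT J).homEquiv (A R) Y).symm g) ≫ f
      rw [Adjunction.homEquiv_naturality_right_symm, Category.assoc])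

/-- a presheaf, as a sheaf for the trivial topology, is its own sheafification -/
noncomputable def botIso (P : Cᵒᵖ ⥤ AddCommGrpCat.{u}) :
    (presheafToSheaf (⊥ : GrothendieckTopology C) AddCommGrpCat.{u}).obj ((𝟭 C).op ⋙ P) ≅
      ⟨P, Presheaf.isSheaf_bot P⟩ :=
  haveI : IsIso (toSheafify (⊥ : GrothendieckTopology C) P) :=
    isIso_toSheafify _ (Presheaf.isSheaf_bot _)
  (presheafToSheaf (⊥ : GrothendieckTopology C) AddCommGrpCat.{u}).mapIso
      (NatIso.ofComponents (fun X => Iso.refl _) (fun f => by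
        simp only [Iso.refl_hom, Category.comp_id, Category.id_comp]; rfl) :
        (𝟭 C).op ⋙ P ≅ P) ≪≫
    (sheafBotEquivalence AddCommGrpCat.{u}).inverse.mapIso
      (asIso (toSheafify (⊥ : GrothendieckTopology C) P)).symm

/-- an `if`-expression with a zero object in the second branch -/
noncomputable def ifIso (c : Prop) [Decidable c] (X : AddCommGrpCat.{u}) :
    (if c then X else 0) ≅ (if c then X else AddCommGrpCat.of PUnit.{u + 1}) := by
  by_cases h : c
  · exact eqToIso (if_pos h) ≪≫ eqToIso (if_pos h).symm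
  · exact eqToIso (if_neg h) ≪≫ (isZero_zero _).iso (AddCommGrpCat.isZero_of_subsingleton _) ≪≫
      eqToIso (if_neg h).symm

open CategoryTheory.Limits in
/-- On a small site (C, J), for a presheaf of sets R on C and an abelian sheaf M there is a bounded E_2
spectral sequence of abelian groups with E_2^{p,q} isomorphic to H^p(R, H^q(M)) — the cohomology, in
the topos of presheaves (sheaves for the trivial topology), of the presheaf V ↦ H^q(V, M) with
respect to R, i.e. the p-th Ext out of the free abelian presheaf on R — for p, q ≥ 0 and zero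
otherwise, with abutment data whose filtrations are finite on H^n(aR, M), the cohomology of M with
respect to the sheaf of sets associated to R (n ≥ 0; zero for n < 0). The E_2 identifications and
abutment isomorphisms are asserted to exist only, not pinned to the canonical maps, so edge maps and
functoriality in R and M are not part of this statement. -/
theorem result {C : Type u} [SmallCategory C]
    (J : GrothendieckTopology C) (R : Cᵒᵖ ⥤ Type u) (M : Sheaf J AddCommGrpCat.{u}) :
    ∃ (E : E₂CohomologicalSpectralSequence AddCommGrpCat.{u})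
      (a : SpSeq.Abutment E (fun n : ℤ =>
        if 0 ≤ n then AddCommGrpCat.of (CohCx.HK ((presheafToSheaf J (Type u)).obj R) M n.toNat)
        else AddCommGrpCat.of PUnit.{u + 1})),
      (∀ n, a.IsFinite n) ∧ SpSeq.IsBounded E ∧
      ∀ p q : ℤ, Nonempty ((E.page 2 le_rfl).X (p, q) ≅
        (if 0 ≤ p ∧ 0 ≤ q then
          AddCommGrpCat.of (CohCx.HK (J := (⊥ : GrothendieckTopology C)) ⟨R, Presheaf.isSheaf_bot _⟩
            ⟨M.cohomologyPresheaf q.toNat, Presheaf.isSheaf_bot _⟩ p.toNat)
         else AddCommGrpCat.of PUnit.{u + 1})) := by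
  let S : Sheaf (⊥ : GrothendieckTopology C) AddCommGrpCat.{u} ⥤ AddCommGrpCat.{u} :=
    preadditiveCoyoneda.obj (op (A R))
  have hT : ∀ Q : Sheaf J AddCommGrpCat.{u}, Injective Q → ∀ q : ℕ, 0 < q →
      IsZero ((S.rightDerived q).obj ((T J).obj Q)) := by
    intro Q hQ q hq
    have := injective_T J Q
    obtain ⟨k, rfl⟩ : ∃ k, q = k + 1 := ⟨q - 1, by omega⟩
    exact Functor.isZero_rightDerived_obj_injective_succ _ k _
  obtain ⟨E, a, h1, h2, h3⟩ := Groth.Agent.Lib.Helper33.GrothSS.grothendieck_ss
    (T J) S hT M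
    (fun n => AddCommGrpCat.of (CohCx.HK ((presheafToSheaf J (Type u)).obj R) M n))
    (fun n => Groth.Agent.Lib.Helper33.ExtRD.ext_iso_rightDerived_of_iso (B J R) (T J ⋙ S)
      (homIso J R) M n)
    (fun p q => AddCommGrpCat.of (CohCx.HK (J := (⊥ : GrothendieckTopology C))
      ⟨R, Presheaf.isSheaf_bot _⟩ ⟨M.cohomologyPresheaf q, Presheaf.isSheaf_bot _⟩ p))
    (fun p q => by
      obtain ⟨e₁⟩ := Groth.Agent.S0487.result J ⊥ (𝟭 C) M q
      obtain ⟨e₂⟩ := Groth.Agent.Lib.Helper33.ExtRD.ext_iso_rightDerived (A R)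
        (⟨M.cohomologyPresheaf q, Presheaf.isSheaf_bot _⟩ :
          Sheaf (⊥ : GrothendieckTopology C) AddCommGrpCat.{u}) p
      exact ⟨(S.rightDerived p).mapIso (e₁ ≪≫ botIso (M.cohomologyPresheaf q)) ≪≫ e₂⟩)
  refine ⟨E, Groth.Agent.Lib.Helper33.EC.abutmentTransport a (fun n => ifIso _ _),
    fun n => Groth.Agent.Lib.Helper33.EC.abutmentTransport_isFinite a _ n (h1 n), h2,
    fun p q => ?_⟩
  obtain ⟨e⟩ := h3 p q
  exact ⟨e ≪≫ ifIso _ _⟩

end Groth.Agent.S12105
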