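import Groth.Statements.S12108
import Mathlib
-- import your own Groth.Agent.* helpers here

set_option autoImplicit false
open CategoryTheory CategoryTheory.Limits
universe u
open SGA4
open Opposite

namespace Groth.Agent.S12108.Aux

variable {C : Type u} [SmallCategory C] (J : GrothendieckTopology C) {X : C} {ι : Type u}
  (Y : ι → C) (s : ∀ i, Y i ⟶ X)

/-- the presheaf coproduct of the representables `h_{Y i}` -/
def sigmaRep : Cᵒᵖ ⥤ Type u where
  obj T := Σ i, (T.unop ⟶ Y i)
  map f := ↾fun p => ⟨p.1, f.unop ≫ p.2⟩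
  map_id T := by
    apply ConcreteCategory.hom_ext
    rintro ⟨i, f⟩
    change (⟨i, 𝟙 _ ≫ f⟩ : Σ i, (T.unop ⟶ Y i)) = ⟨i, f⟩
    rw [Category.id_comp]
  map_comp {T T' T''} f g := by
    apply ConcreteCategory.hom_ext
    rintro ⟨i, p⟩
    change (⟨i, (g.unop ≫ f.unop) ≫ p⟩ : Σ i, (T''.unop ⟶ Y i)) = ⟨i, g.unop ≫ f.unop ≫ p⟩
    rw [Category.assoc]

/-- the injections -/
def sigmaRepι (i : ι) : yoneda.obj (Y i) ⟶ sigmaRep Y where
  app T := ↾fun f => ⟨i, f⟩

/-- the canonical map to `h_X` -/
def sigmaRepDesc : sigmaRep Y ⟶ yoneda.obj X where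
  app T := ↾fun p => p.2 ≫ s p.1
  naturality := by
    intro T T' f
    apply ConcreteCategory.hom_ext
    rintro ⟨i, p⟩
    change (f.unop ≫ p) ≫ s i = f.unop ≫ p ≫ s i
    rw [Category.assoc]

lemma sigmaRepι_desc (i : ι) : sigmaRepι Y i ≫ sigmaRepDesc Y s = yoneda.map (s i) := by
  ext T f
  rfl

/-- the cofan is a colimit -/
def isColimitSigmaRep : IsColimit (Cofan.mk (sigmaRep Y) (sigmaRepι Y)) :=
  Cofan.IsColimit.mk _
    (fun t => { app := fun T => ↾fun p => (t.inj p.1).app T p.2
                naturality := by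
                  intro T T' f
                  ext p
                  exact NatTrans.naturality_apply (t.inj p.1) f p.2 })
    (fun t i => by
      ext T f
      rfl)
    (fun t m hm => by
      ext T p
      obtain ⟨i, f⟩ := p
      have := hm i
      exact ConcreteCategory.congr_hom (NatTrans.congr_app this T) f)


lemma isColimit_iff_W :
    Nonempty (IsColimit (Cofan.mk ((presheafToSheaf J (Type u)).obj (yoneda.obj X))
      (fun i => (presheafToSheaf J (Type u)).map (yoneda.map (s i))))) ↔
    J.W (sigmaRepDesc Y s) := by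
  have hc₁ : IsColimit (Cofan.mk ((presheafToSheaf J (Type u)).obj (sigmaRep Y))
      (fun i => (presheafToSheaf J (Type u)).map (sigmaRepι Y i))) :=
    isColimitCofanMkObjOfIsColimit (presheafToSheaf J (Type u)) _ _ (isColimitSigmaRep Y)
  rw [J.W_iff, IsColimit.nonempty_isColimit_iff_isIso_desc hc₁]
  have : hc₁.desc (Cofan.mk ((presheafToSheaf J (Type u)).obj (yoneda.obj X))
      (fun i => (presheafToSheaf J (Type u)).map (yoneda.map (s i)))) =
      (presheafToSheaf J (Type u)).map (sigmaRepDesc Y s) := by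
    apply Cofan.IsColimit.hom_ext hc₁
    intro i
    refine (hc₁.fac _ ⟨i⟩).trans ?_
    change (presheafToSheaf J (Type u)).map (yoneda.map (s i)) =
      (presheafToSheaf J (Type u)).map (sigmaRepι Y i) ≫ _
    rw [← Functor.map_comp, sigmaRepι_desc]
  rw [this]


lemma imageSieve_sigmaRepDesc {T : C} (w : T ⟶ X) :
    Presheaf.imageSieve (sigmaRepDesc Y s) (U := T) w = (Sieve.ofArrows Y s).pullback w := by
  ext V k
  rw [Sieve.pullback_apply, Sieve.mem_ofArrows_iff]
  constructor
  · rintro ⟨⟨i, f⟩, hf⟩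
    exact ⟨i, f, hf.symm⟩
  · rintro ⟨i, f, hf⟩
    exact ⟨⟨i, f⟩, hf.symm⟩

lemma isLocallySurjective_iff :
    Presheaf.IsLocallySurjective J (sigmaRepDesc Y s) ↔ Sieve.ofArrows Y s ∈ J X := by
  constructor
  · intro h
    have := Presheaf.imageSieve_mem J (sigmaRepDesc Y s) (U := op X) (𝟙 X)
    rw [imageSieve_sigmaRepDesc] at this
    simpa using this
  · intro h
    refine ⟨fun {T} w => ?_⟩
    rw [imageSieve_sigmaRepDesc]
    exact J.pullback_stable w h


section initial

/-- a sheaf has exactly one section over an object covered by the empty sieve -/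
lemma unique_of_bot_mem {F : Cᵒᵖ ⥤ Type u} (hF : Presieve.IsSheaf J F) {T : C}
    (hT : (⊥ : Sieve T) ∈ J T) : Nonempty (Unique (F.obj (op T))) := by
  have h := hF _ hT
  let x : Presieve.FamilyOfElements F (⊥ : Sieve T).arrows := fun Y f hf => False.elim hf
  have hx : x.Compatible := by
    intro Y₁ Y₂ W g₁ g₂ f₁ f₂ h₁ h₂ _
    exact False.elim h₁
  obtain ⟨t, _, ht⟩ := h x hx
  refine ⟨⟨⟨t⟩, fun t' => ht t' ?_⟩⟩
  intro Y f hf
  exact False.elim hf

/-- the empty presheaf -/
def emptyPresheaf : Cᵒᵖ ⥤ Type u := (Functor.const Cᵒᵖ).obj PEmpty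

/-- sections of the sheafification of the empty presheaf only exist over objects covered by
the empty sieve -/
lemma bot_mem_of_sheafify_empty {T : C}
    (e : ((presheafToSheaf J (Type u)).obj (emptyPresheaf (C := C))).obj.obj (op T)) :
    (⊥ : Sieve T) ∈ J T := by
  have h := Presheaf.imageSieve_mem J (toSheafify J (emptyPresheaf (C := C))) (U := op T) e
  convert h using 1
  ext V k
  constructor
  · intro hk
    exact False.elim hk
  · rintro ⟨t, _⟩
    exact PEmpty.elim t

lemma isInitial_sheafify_iff (Q : Cᵒᵖ ⥤ Type u) :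
    Nonempty (IsInitial ((presheafToSheaf J (Type u)).obj Q)) ↔
      ∀ T : C, Nonempty (Q.obj (op T)) → (⊥ : Sieve T) ∈ J T := by
  constructor
  · rintro ⟨hI⟩ T ⟨q⟩
    let φ : (presheafToSheaf J (Type u)).obj Q ⟶
        (presheafToSheaf J (Type u)).obj (emptyPresheaf (C := C)) := hI.to _
    exact bot_mem_of_sheafify_empty J (φ.hom.app (op T) ((toSheafify J Q).app (op T) q))
  · intro h
    have huniq : ∀ (F : Sheaf J (Type u)) (m m' : Q ⟶ F.obj), m = m' := by
      intro F m m'
      ext V q
      obtain ⟨hV⟩ := unique_of_bot_mem J ((isSheaf_iff_isSheaf_of_type J F.obj).mp F.property)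
        (h V.unop ⟨q⟩)
      exact (hV.uniq _).trans (hV.uniq _).symm
    have hex : ∀ (F : Sheaf J (Type u)), Nonempty (Q ⟶ F.obj) := by
      intro F
      refine ⟨{ app := fun V => ↾fun q => (Classical.choice (unique_of_bot_mem J
        ((isSheaf_iff_isSheaf_of_type J F.obj).mp F.property) (h V.unop ⟨q⟩))).default
                naturality := ?_ }⟩
      intro V W f
      ext q
      obtain ⟨hW⟩ := unique_of_bot_mem J ((isSheaf_iff_isSheaf_of_type J F.obj).mp F.property)
        (h W.unop ⟨Q.map f q⟩)
      exact (hW.uniq _).trans (hW.uniq _).symm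
    refine ⟨IsInitial.ofUniqueHom
      (fun F => ((sheafificationAdjunction J (Type u)).homEquiv Q F).symm
        (Classical.choice (hex F))) ?_⟩
    intro F m
    apply ((sheafificationAdjunction J (Type u)).homEquiv Q F).injective
    exact huniq F _ _

end initial


section pullbackSections

variable {A A' B : Cᵒᵖ ⥤ Type u} (α : A ⟶ B) (β : A' ⟶ B)

lemma pullback_sections_ext (T : Cᵒᵖ) (z z' : (pullback α β).obj T)
    (h1 : (pullback.fst α β).app T z = (pullback.fst α β).app T z')
    (h2 : (pullback.snd α β).app T z = (pullback.snd α β).app T z') : z = z' := by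
  have hpb := (IsPullback.of_hasPullback α β).map ((evaluation Cᵒᵖ (Type u)).obj T)
  exact ((Types.isPullback_iff _ _ _ _).mp hpb).2.1 z z' ⟨h1, h2⟩

lemma pullback_sections_exists (T : Cᵒᵖ) (x : A.obj T) (y : A'.obj T)
    (h : α.app T x = β.app T y) :
    ∃ z : (pullback α β).obj T, (pullback.fst α β).app T z = x ∧ (pullback.snd α β).app T z = y := by
  have hpb := (IsPullback.of_hasPullback α β).map ((evaluation Cᵒᵖ (Type u)).obj T)
  exact ((Types.isPullback_iff _ _ _ _).mp hpb).2.2 x y h

lemma pullback_sections_condition (T : Cᵒᵖ) (z : (pullback α β).obj T) :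
    α.app T ((pullback.fst α β).app T z) = β.app T ((pullback.snd α β).app T z) := by
  have := pullback.condition (f := α) (g := β)
  exact ConcreteCategory.congr_hom (NatTrans.congr_app this T) z

end pullbackSections


section injective

lemma isLocallyInjective_sigmaRepDesc_iff :
    Presheaf.IsLocallyInjective J (sigmaRepDesc Y s) ↔
      (∀ i, Presheaf.IsLocallyInjective J (yoneda.map (s i))) ∧
      (∀ i j, i ≠ j → ∀ (T : C) (f : T ⟶ Y i) (g : T ⟶ Y j), f ≫ s i = g ≫ s j →
        (⊥ : Sieve T) ∈ J T) := by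
  constructor
  · intro h
    refine ⟨fun i => ⟨fun {T} x y hxy => ?_⟩, fun i j hij T f g hfg => ?_⟩
    · have h1 := Presheaf.equalizerSieve_mem J (sigmaRepDesc Y s) (X := T)
        (⟨i, x⟩ : Σ i, (T.unop ⟶ Y i)) ⟨i, y⟩ hxy
      refine J.superset_covering ?_ h1
      intro V k hk
      have hk' : (⟨i, k ≫ x⟩ : Σ i, (V ⟶ Y i)) = ⟨i, k ≫ y⟩ := hk
      have := Sigma.mk.inj_iff.mp hk'
      exact eq_of_heq this.2
    · have h1 := Presheaf.equalizerSieve_mem J (sigmaRepDesc Y s) (X := op T)
        (⟨i, f⟩ : Σ i, (T ⟶ Y i)) ⟨j, g⟩ hfg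
      refine J.superset_covering ?_ h1
      intro V k hk
      have hk' : (⟨i, k ≫ f⟩ : Σ i, (V ⟶ Y i)) = ⟨j, k ≫ g⟩ := hk
      exact (hij (Sigma.mk.inj_iff.mp hk').1).elim
  · rintro ⟨h1, h2⟩
    refine ⟨fun {T} p q hpq => ?_⟩
    obtain ⟨i, f⟩ := p
    obtain ⟨j, g⟩ := q
    have hfg : f ≫ s i = g ≫ s j := hpq
    by_cases hij : i = j
    · subst hij
      have := h1 i
      have h3 := Presheaf.equalizerSieve_mem J (yoneda.map (s i)) (X := T) f g hfg
      refine J.superset_covering ?_ h3
      intro V k hk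
      have hk' : k ≫ f = k ≫ g := hk
      change (⟨i, k ≫ f⟩ : Σ i, (V ⟶ Y i)) = ⟨i, k ≫ g⟩
      rw [hk']
    · exact J.superset_covering bot_le (h2 i j hij T.unop f g hfg)

lemma isIso_diagonal_iff (i : ι) :
    IsIso ((presheafToSheaf J (Type u)).map (pullback.diagonal (yoneda.map (s i)))) ↔
      Presheaf.IsLocallyInjective J (yoneda.map (s i)) := by
  rw [← J.W_iff, J.W_iff_isLocallyBijective]
  have hinj : Presheaf.IsLocallyInjective J (pullback.diagonal (yoneda.map (s i))) := by
    apply Presheaf.isLocallyInjective_of_injective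
    intro T x y hxy
    have := congrArg ((pullback.fst (yoneda.map (s i)) (yoneda.map (s i))).app T) hxy
    have h1 : ∀ t : (yoneda.obj (Y i)).obj T,
        (pullback.fst (yoneda.map (s i)) (yoneda.map (s i))).app T
          ((pullback.diagonal (yoneda.map (s i))).app T t) = t := by
      intro t
      have := pullback.diagonal_fst (yoneda.map (s i))
      exact ConcreteCategory.congr_hom (NatTrans.congr_app this T) t
    rw [h1, h1] at this
    exact this
  have hfst : ∀ (T : Cᵒᵖ) (t : (yoneda.obj (Y i)).obj T),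
      (pullback.fst (yoneda.map (s i)) (yoneda.map (s i))).app T
        ((pullback.diagonal (yoneda.map (s i))).app T t) = t := by
    intro T t
    have := pullback.diagonal_fst (yoneda.map (s i))
    exact ConcreteCategory.congr_hom (NatTrans.congr_app this T) t
  have hsnd : ∀ (T : Cᵒᵖ) (t : (yoneda.obj (Y i)).obj T),
      (pullback.snd (yoneda.map (s i)) (yoneda.map (s i))).app T
        ((pullback.diagonal (yoneda.map (s i))).app T t) = t := by
    intro T t
    have := pullback.diagonal_snd (yoneda.map (s i))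
    exact ConcreteCategory.congr_hom (NatTrans.congr_app this T) t
  constructor
  · rintro ⟨_, hsurj⟩
    refine ⟨fun {T} f g hfg => ?_⟩
    obtain ⟨z, hz1, hz2⟩ := pullback_sections_exists (yoneda.map (s i)) (yoneda.map (s i)) T f g hfg
    have h1 := Presheaf.imageSieve_mem J (pullback.diagonal (yoneda.map (s i))) (U := T) z
    refine J.superset_covering ?_ h1
    rintro V k ⟨t, ht⟩
    have e1 := congrArg ((pullback.fst (yoneda.map (s i)) (yoneda.map (s i))).app (op V)) ht
    have e2 := congrArg ((pullback.snd (yoneda.map (s i)) (yoneda.map (s i))).app (op V)) ht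
    rw [hfst] at e1
    rw [hsnd] at e2
    rw [NatTrans.naturality_apply, hz1] at e1
    rw [NatTrans.naturality_apply, hz2] at e2
    exact e1.symm.trans e2
  · intro h
    refine ⟨hinj, ⟨fun {T} z => ?_⟩⟩
    have h1 := Presheaf.equalizerSieve_mem J (yoneda.map (s i)) (X := op T)
      ((pullback.fst (yoneda.map (s i)) (yoneda.map (s i))).app (op T) z)
      ((pullback.snd (yoneda.map (s i)) (yoneda.map (s i))).app (op T) z)
      (pullback_sections_condition _ _ (op T) z)
    refine J.superset_covering ?_ h1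
    intro V k hk
    refine ⟨(yoneda.obj (Y i)).map k.op
      ((pullback.fst (yoneda.map (s i)) (yoneda.map (s i))).app (op T) z), ?_⟩
    apply pullback_sections_ext
    · rw [hfst, NatTrans.naturality_apply]
    · rw [hsnd, NatTrans.naturality_apply]
      exact hk

lemma isInitial_pullback_iff (i j : ι) :
    Nonempty (IsInitial ((presheafToSheaf J (Type u)).obj
        (pullback (yoneda.map (s i)) (yoneda.map (s j))))) ↔
      ∀ (T : C) (f : T ⟶ Y i) (g : T ⟶ Y j), f ≫ s i = g ≫ s j → (⊥ : Sieve T) ∈ J T := by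
  rw [isInitial_sheafify_iff]
  constructor
  · intro h T f g hfg
    obtain ⟨z, -, -⟩ := pullback_sections_exists (yoneda.map (s i)) (yoneda.map (s j)) (op T) f g hfg
    exact h T ⟨z⟩
  · rintro h T ⟨z⟩
    exact h T _ _ (pullback_sections_condition (yoneda.map (s i)) (yoneda.map (s j)) (op T) z)

end injective

end Groth.Agent.S12108.Aux


namespace Groth.Agent.S12108

/-- Let `(C, J)` be a small site, `X` an object and `s i : Y i ⟶ X` a family of morphisms indexed by a
small type. The following are equivalent: (i) the family is covering, for every `i` the diagonal of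
presheaves `h_{Y i} ⟶ h_{Y i} ×_{h_X} h_{Y i}` becomes an isomorphism under the associated-sheaf
functor, and for all `i ≠ j` the sheaf associated to the presheaf `h_{Y i} ×_{h_X} h_{Y j}` is an
initial object; (ii) the associated sheaf of `X`, with the maps induced by the `s i`, is a coproduct
of the associated sheaves of the `Y i` in sheaves of sets. -/
theorem result
    {C : Type u} [SmallCategory C] (J : GrothendieckTopology C) {X : C} {ι : Type u}
    (Y : ι → C) (s : ∀ i, Y i ⟶ X) :
    (Sieve.ofArrows Y s ∈ J X ∧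
      (∀ i, IsIso ((presheafToSheaf J (Type u)).map (pullback.diagonal (yoneda.map (s i))))) ∧
      (∀ i j, i ≠ j → Nonempty (IsInitial ((presheafToSheaf J (Type u)).obj
        (pullback (yoneda.map (s i)) (yoneda.map (s j))))))) ↔
    Nonempty (IsColimit (Cofan.mk ((presheafToSheaf J (Type u)).obj (yoneda.obj X))
      (fun i => (presheafToSheaf J (Type u)).map (yoneda.map (s i))))) := by
  rw [Aux.isColimit_iff_W, J.W_iff_isLocallyBijective, Aux.isLocallySurjective_iff,
    Aux.isLocallyInjective_sigmaRepDesc_iff]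
  constructor
  · rintro ⟨h1, h2, h3⟩
    refine ⟨⟨fun i => (Aux.isIso_diagonal_iff J Y s i).mp (h2 i), fun i j hij =>
      (Aux.isInitial_pullback_iff J Y s i j).mp (h3 i j hij)⟩, h1⟩
  · rintro ⟨⟨h2, h3⟩, h1⟩
    refine ⟨h1, fun i => (Aux.isIso_diagonal_iff J Y s i).mpr (h2 i), fun i j hij =>
      (Aux.isInitial_pullback_iff J Y s i j).mpr (h3 i j hij)⟩

end Groth.Agent.S12108
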