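import Groth.Statements.S6136
import Mathlib.CategoryTheory.Limits.Presheaf
-- import your own Groth.Agent.* helpers here

set_option autoImplicit false
open CategoryTheory CategoryTheory.Limits
universe u
open SGA4

namespace Groth.Agent.S6136

/-- Fully faithful case. Let `u : C ⥤ C'` be a functor between small categories and `u_!` the left Kan
extension functor on presheaves of sets, whose restriction to ind-representable presheaves is the
induced functor `Ind C ⥤ Ind C'`. Then `u` is full and faithful if and only if `u_!` is bijective on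
morphisms between ind-representable presheaves. -/
theorem result
    {C : Type u} [SmallCategory C] {C' : Type u} [SmallCategory C'] (u : C ⥤ C') :
    (u.Full ∧ u.Faithful) ↔ ∀ (F G : Cᵒᵖ ⥤ Type u), IsIndObject F → IsIndObject G →
      Function.Bijective (fun φ : F ⟶ G => (u.op.lan : (Cᵒᵖ ⥤ Type u) ⥤ (C'ᵒᵖ ⥤ Type u)).map φ) := by
  constructor
  · rintro ⟨hfull, hfaith⟩ F G _ _
    have hiso : IsIso (u.op.lanAdjunction (Type u)).unit := inferInstance
    exact ((u.op.lanAdjunction (Type u)).fullyFaithfulLOfIsIsoUnit).map_bijective F G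
  · intro hbij
    let Y : C ⥤ Cᵒᵖ ⥤ Type u := uliftYoneda.{u}
    let Y' : C' ⥤ C'ᵒᵖ ⥤ Type u := uliftYoneda.{u}
    let e : u ⋙ Y' ≅ Y ⋙ u.op.lan := Presheaf.compULiftYonedaIsoULiftYonedaCompLan.{u} u
    have hind : ∀ X : C, IsIndObject (Y.obj X) := fun X =>
      (isIndObject_yoneda X).map (uliftYonedaIsoYoneda.{u}.symm.app X).hom
    have hfull : (Y ⋙ u.op.lan).Full := ⟨fun {X X'} g => by
      obtain ⟨φ, hφ⟩ := (hbij _ _ (hind X) (hind X')).2 g
      obtain ⟨f, hf⟩ := Y.map_surjective φ
      exact ⟨f, by rw [Functor.comp_map, hf]; exact hφ⟩⟩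
    have hfaith : (Y ⋙ u.op.lan).Faithful := ⟨fun {X X'} f g hfg => by
      apply Y.map_injective
      exact (hbij _ _ (hind X) (hind X')).1 hfg⟩
    have hfull' : (u ⋙ Y').Full := Functor.Full.of_iso e.symm
    have hfaith' : (u ⋙ Y').Faithful := Functor.Faithful.of_iso e.symm
    exact ⟨Functor.Full.of_comp_faithful u Y', Functor.Faithful.of_comp u Y'⟩

end Groth.Agent.S6136
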