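import Groth.Statements.S12109
import Groth.Agent.S6136
import Mathlib
-- import your own Groth.Agent.* helpers here

set_option autoImplicit false
open CategoryTheory CategoryTheory.Limits
universe u
open SGA4


namespace Groth.Agent.S12109.Aux
open Opposite

variable {C : Type u} [SmallCategory C] {C' : Type u} [SmallCategory C'] (u : C ⥤ C')

/-- non-ulift version of `Presheaf.compULiftYonedaIsoULiftYonedaCompLan`. -/
noncomputable def compYonedaIsoYonedaCompLan' :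
    u ⋙ yoneda ≅ yoneda ⋙ (u.op.lan : (Cᵒᵖ ⥤ Type u) ⥤ (C'ᵒᵖ ⥤ Type u)) :=
  Functor.isoWhiskerLeft u (uliftYonedaIsoYoneda.{u}).symm ≪≫
    Presheaf.compULiftYonedaIsoULiftYonedaCompLan.{u} u ≪≫
    Functor.isoWhiskerRight (uliftYonedaIsoYoneda.{u}) u.op.lan

lemma exists_ind_preimage [u.Full] [u.Faithful]
    (hret : ∀ X' : C', ∃ (X : C) (i : X' ⟶ u.obj X) (r : u.obj X ⟶ X'), i ≫ r = 𝟙 X')
    (G' : C'ᵒᵖ ⥤ Type u) (hG' : IsIndObject G') :
    ∃ F : Cᵒᵖ ⥤ Type u, IsIndObject F ∧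
      Nonempty ((u.op.lan : (Cᵒᵖ ⥤ Type u) ⥤ (C'ᵒᵖ ⥤ Type u)).obj F ≅ G') := by
  have hfilt : IsFiltered (CostructuredArrow yoneda G') := hG'.isFiltered
  let Φ := CostructuredArrow.pre u yoneda G'
  have hex : ∀ d : CostructuredArrow yoneda G', ∃ c, Nonempty (d ⟶ Φ.obj c) := by
    intro d
    obtain ⟨X, i, r, hir⟩ := hret d.left
    refine ⟨CostructuredArrow.mk (Y := X) (yoneda.map r ≫ d.hom), ⟨CostructuredArrow.homMk i ?_⟩⟩
    change yoneda.map i ≫ (yoneda.map r ≫ d.hom) = d.hom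
    rw [← Category.assoc, ← yoneda.map_comp, hir, yoneda.map_id, Category.id_comp]
  have hE : IsFiltered (CostructuredArrow (u ⋙ yoneda) G') :=
    IsFiltered.of_exists_of_isFiltered_of_fullyFaithful Φ hex
  have hfinal : Φ.Final := Functor.final_of_exists_of_isFiltered_of_fullyFaithful Φ hex
  let D : CostructuredArrow (u ⋙ yoneda) G' ⥤ (Cᵒᵖ ⥤ Type u) :=
    CostructuredArrow.proj (u ⋙ yoneda) G' ⋙ yoneda
  refine ⟨colimit D, ?_, ?_⟩
  · exact ⟨⟨⟨CostructuredArrow (u ⋙ yoneda) G', CostructuredArrow.proj (u ⋙ yoneda) G',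
      (colimit.cocone D).ι, colimit.isColimit D⟩⟩⟩
  · have : PreservesColimits (u.op.lan : (Cᵒᵖ ⥤ Type u) ⥤ (C'ᵒᵖ ⥤ Type u)) :=
      (u.op.lanAdjunction (Type u)).leftAdjoint_preservesColimits
    let e : u ⋙ yoneda ≅ yoneda ⋙ u.op.lan := compYonedaIsoYonedaCompLan' u
    let e1 : u.op.lan.obj (colimit D) ≅ colimit (D ⋙ u.op.lan) := preservesColimitIso _ _
    let e2 : D ⋙ u.op.lan ≅ Φ ⋙ (CostructuredArrow.proj yoneda G' ⋙ yoneda) :=
      Functor.isoWhiskerLeft (CostructuredArrow.proj (u ⋙ yoneda) G') e.symm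
    let e3 : colimit (D ⋙ u.op.lan) ≅ colimit (Φ ⋙ (CostructuredArrow.proj yoneda G' ⋙ yoneda)) :=
      HasColimit.isoOfNatIso e2
    let e4 : colimit (Φ ⋙ (CostructuredArrow.proj yoneda G' ⋙ yoneda)) ≅
        colimit (CostructuredArrow.proj yoneda G' ⋙ yoneda) := Functor.Final.colimitIso Φ _
    let e5 : colimit (CostructuredArrow.proj yoneda G' ⋙ yoneda) ≅ G' :=
      (colimit.isColimit _).coconePointUniqueUpToIso (Presheaf.isColimitTautologicalCocone G')
    exact ⟨e1 ≪≫ e3 ≪≫ e4 ≪≫ e5⟩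

end Groth.Agent.S12109.Aux

namespace Groth.Agent.S12109.Aux
open Opposite

variable {C : Type u} [SmallCategory C] {C' : Type u} [SmallCategory C'] (u : C ⥤ C')

lemma exists_retract_of_lan_iso (X' : C') (F : Cᵒᵖ ⥤ Type u) (hF : IsIndObject F)
    (e : (u.op.lan : (Cᵒᵖ ⥤ Type u) ⥤ (C'ᵒᵖ ⥤ Type u)).obj F ≅ yoneda.obj X') :
    ∃ (X : C) (i : X' ⟶ u.obj X) (r : u.obj X ⟶ X'), i ≫ r = 𝟙 X' := by
  obtain ⟨⟨P⟩⟩ := hF
  have : PreservesColimits (u.op.lan : (Cᵒᵖ ⥤ Type u) ⥤ (C'ᵒᵖ ⥤ Type u)) :=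
    (u.op.lanAdjunction (Type u)).leftAdjoint_preservesColimits
  let c : Cocone (P.F ⋙ yoneda) := Cocone.mk F P.ι
  have hc : IsColimit (u.op.lan.mapCocone c) := isColimitOfPreserves _ P.isColimit
  have hc' : IsColimit (((evaluation _ _).obj (op X')).mapCocone (u.op.lan.mapCocone c)) :=
    isColimitOfPreserves _ hc
  let t : (u.op.lan.obj F).obj (op X') := yonedaEquiv e.inv
  obtain ⟨j, tj, htj⟩ := Types.jointly_surjective_of_isColimit hc' t
  let a : yoneda.obj X' ⟶ u.op.lan.obj (yoneda.obj (P.F.obj j)) := yonedaEquiv.symm tj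
  have ha : a ≫ u.op.lan.map (P.ι.app j) = e.inv := by
    apply yonedaEquiv.injective
    rw [yonedaEquiv_comp, Equiv.apply_symm_apply]
    exact htj
  let ciso := (compYonedaIsoYonedaCompLan' u).app (P.F.obj j)
  let i : X' ⟶ u.obj (P.F.obj j) := yoneda.preimage (a ≫ ciso.inv)
  let r : u.obj (P.F.obj j) ⟶ X' :=
    yoneda.preimage (ciso.hom ≫ u.op.lan.map (P.ι.app j) ≫ e.hom)
  refine ⟨P.F.obj j, i, r, ?_⟩
  apply yoneda.map_injective
  rw [yoneda.map_comp, Functor.map_preimage, Functor.map_preimage, yoneda.map_id]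
  rw [Category.assoc, Iso.inv_hom_id_assoc, ← Category.assoc, ha, e.inv_hom_id]

end Groth.Agent.S12109.Aux

namespace Groth.Agent.S12109

open Aux

/-- Let `u : C ⥤ C'` be a functor between small categories and `u_!` the left Kan extension functor on
presheaves of sets, whose restriction to ind-representable presheaves is the induced functor `Ind C
⥤ Ind C'`. Then `Ind(u)` is an equivalence — `u_!` is bijective on morphisms between
ind-representable presheaves on `C` and every ind-representable presheaf on `C'` is isomorphic to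
`u_! F` for some ind-representable `F` — if and only if `u` is full and faithful and every object of
`C'` is a retract (direct factor) of an object `u X`. -/
theorem result
    {C : Type u} [SmallCategory C] {C' : Type u} [SmallCategory C'] (u : C ⥤ C') :
    ((∀ (F G : Cᵒᵖ ⥤ Type u), IsIndObject F → IsIndObject G →
        Function.Bijective (fun φ : F ⟶ G => (u.op.lan : (Cᵒᵖ ⥤ Type u) ⥤ (C'ᵒᵖ ⥤ Type u)).map φ)) ∧
      (∀ G' : C'ᵒᵖ ⥤ Type u, IsIndObject G' →
        ∃ F : Cᵒᵖ ⥤ Type u, IsIndObject F ∧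
          Nonempty ((u.op.lan : (Cᵒᵖ ⥤ Type u) ⥤ (C'ᵒᵖ ⥤ Type u)).obj F ≅ G'))) ↔
    ((u.Full ∧ u.Faithful) ∧
      ∀ X' : C', ∃ (X : C) (i : X' ⟶ u.obj X) (r : u.obj X ⟶ X'), i ≫ r = 𝟙 X') := by
  constructor
  · rintro ⟨hA, hB⟩
    refine ⟨(Groth.Agent.S6136.result u).mpr hA, ?_⟩
    intro X'
    obtain ⟨F, hF, ⟨e⟩⟩ := hB (yoneda.obj X') (isIndObject_yoneda X')
    exact exists_retract_of_lan_iso u X' F hF e
  · rintro ⟨hff, hret⟩
    refine ⟨(Groth.Agent.S6136.result u).mp hff, ?_⟩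
    intro G' hG'
    have := hff.1
    have := hff.2
    exact exists_ind_preimage u hret G' hG'

end Groth.Agent.S12109
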