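import Groth.Statements.S1212
import Groth.Agent.S0582
import Groth.Agent.Lib.Helper31.LocalUnivInj
import Groth.Agent.Lib.Helper31.FiberAss

set_option autoImplicit false
universe u
open FlatMor

namespace Groth.Agent.S1212

open TensorProduct IsLocalRing in
/-- Let R be a local ring, S an R-algebra and N an S-module which is projective as an R-module, such
that the closed fibre ring of S is Noetherian and the closed fibre module of N is finite over it.
Then every prime q of S, over p in R, which is an associated prime (the annihilator of an element)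
of the S-module N ⊗_R κ(p) satisfies q + 𝔪_R S ≠ S. -/
theorem result {R S : Type u} [CommRing R] [IsLocalRing R] [CommRing S] [Algebra R S]
    (N : Type u) [AddCommGroup N] [Module S N] [Module R N] [IsScalarTower R S N] [Module.Projective R N]
    [IsNoetherianRing ((maximalIdeal R).Fiber S)]
    [Module.Finite ((maximalIdeal R).Fiber S) (FlatCA.fiberMod (maximalIdeal R) S N)]
    (p : Ideal R) [p.IsPrime] (q : Ideal S) [q.IsPrime] [q.LiesOver p]
    (hq : q ∈ FlatCA.ass S (N ⊗[R] p.ResidueField)) :
    q ⊔ (maximalIdeal R).map (algebraMap R S) ≠ ⊤ := by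
  intro htop
  obtain ⟨hqp, z, hz⟩ := hq
  have h1 : (1 : S) ∈ q ⊔ (maximalIdeal R).map (algebraMap R S) := by rw [htop]; trivial
  obtain ⟨g, hg, m, hm, hgm⟩ := Submodule.mem_sup.mp h1
  have hgz : g • z = 0 := by
    have h2 : g ∈ (Submodule.span S {z}).annihilator := hz ▸ hg
    exact (Submodule.mem_annihilator_span_singleton _ _).mp h2
  have : Module.Free R N := Groth.Agent.S0582.result R N
  let G : N →ₗ[R] N := (LinearMap.lsmul S N g).restrictScalars R
  have hGn : ∀ n : N, G n = g • n := fun n => rfl
  have hkill : ∀ n ∈ (maximalIdeal R • ⊤ : Submodule R N), ∀ c : ResidueField R,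
      c ⊗ₜ[R] n = 0 := by
    intro n hn c
    refine Submodule.smul_induction_on hn ?_ ?_
    · intro a ha n' _
      rw [← TensorProduct.smul_tmul, Algebra.smul_def]
      have : algebraMap R (ResidueField R) a = 0 := (residue_eq_zero_iff a).mpr ha
      rw [this, zero_mul, TensorProduct.zero_tmul]
    · intro x y hx hy
      rw [TensorProduct.tmul_add, hx, hy, add_zero]
  have hG : Function.Injective (G.lTensor (ResidueField R)) := by
    have hid : G.lTensor (ResidueField R) = LinearMap.id := by
      refine TensorProduct.ext' fun c n => ?_
      rw [LinearMap.lTensor_tmul, LinearMap.id_apply, hGn]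
      have hg' : g = 1 - m := eq_sub_of_add_eq hgm
      rw [hg', sub_smul, one_smul, TensorProduct.tmul_sub, sub_eq_self]
      apply hkill
      rw [← Groth.Agent.Lib.Helper31.FiberAss.mem_map_smul_top_iff (S := S)]
      exact Submodule.smul_mem_smul hm Submodule.mem_top
    rw [hid]; exact Function.injective_id
  have hinj := Groth.Agent.Lib.Helper31.LocalUnivInj.lTensor_injective_of_residueField G hG
    p.ResidueField
  rw [LinearMap.lTensor_inj_iff_rTensor_inj] at hinj
  have hGz : ∀ w : N ⊗[R] p.ResidueField, G.rTensor p.ResidueField w = g • w := by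
    intro w
    induction w using TensorProduct.induction_on with
    | zero => simp
    | tmul n c => rw [LinearMap.rTensor_tmul, hGn, TensorProduct.smul_tmul']
    | add x y hx hy => rw [map_add, smul_add, hx, hy]
  have hz0 : z = 0 := hinj (by rw [hGz, hgz, map_zero])
  apply hqp.ne_top
  rw [hz, hz0, Ideal.eq_top_iff_one, Submodule.mem_annihilator_span_singleton, smul_zero]

end Groth.Agent.S1212
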