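import Groth.Statements.S12127

set_option autoImplicit false
universe u
open EGA43

namespace Groth.Agent.S12127

section

variable {X Y : Type u} [TopologicalSpace X] [TopologicalSpace Y]

/-- quasi-constructible: a finite union of locally closed subsets -/
def QC {X : Type u} [TopologicalSpace X] (Z : Set X) : Prop :=
  ∃ T : Set (Set X), T.Finite ∧ (∀ t ∈ T, IsLocallyClosed t) ∧ Z = ⋃₀ T

/-- locally quasi-constructible, in the form of the statement -/
def LQCs {X : Type u} [TopologicalSpace X] (Z : Set X) : Prop :=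
  ∀ y : X, ∃ V : Set X, IsOpen V ∧ y ∈ V ∧
    ∃ T : Set (Set V), T.Finite ∧ (∀ t ∈ T, IsLocallyClosed t) ∧ (Subtype.val ⁻¹' Z : Set V) = ⋃₀ T

/-- locally quasi-constructible, convenient form -/
def LQC {X : Type u} [TopologicalSpace X] (Z : Set X) : Prop :=
  ∀ y : X, ∃ V : Set X, IsOpen V ∧ y ∈ V ∧ QC (Z ∩ V)

theorem QC.preimage {f : X → Y} (hf : Continuous f) {Z : Set Y} (hZ : QC Z) : QC (f ⁻¹' Z) := by
  obtain ⟨T, hT, hlc, rfl⟩ := hZ
  refine ⟨(fun t => f ⁻¹' t) '' T, hT.image _, ?_, ?_⟩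
  · rintro _ ⟨t, ht, rfl⟩
    exact (hlc t ht).preimage hf
  · rw [Set.preimage_sUnion, Set.sUnion_image]

theorem QC.inter {Z W : Set X} (hZ : QC Z) (hW : IsLocallyClosed W) : QC (Z ∩ W) := by
  obtain ⟨T, hT, hlc, rfl⟩ := hZ
  refine ⟨(fun t => t ∩ W) '' T, hT.image _, ?_, ?_⟩
  · rintro _ ⟨t, ht, rfl⟩
    exact (hlc t ht).inter hW
  · rw [Set.sUnion_image, Set.sUnion_eq_biUnion, Set.iUnion₂_inter]

theorem QC.image_val {V : Set X} (hV : IsOpen V) {A : Set V} (hA : QC A) :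
    QC (Subtype.val '' A) := by
  obtain ⟨T, hT, hlc, rfl⟩ := hA
  refine ⟨(fun t => Subtype.val '' t) '' T, hT.image _, ?_, ?_⟩
  · rintro _ ⟨t, ht, rfl⟩
    refine (hlc t ht).image Topology.IsInducing.subtypeVal ?_
    rw [Subtype.range_coe]
    exact hV.isLocallyClosed
  · rw [Set.image_sUnion, Set.sUnion_image]

theorem LQCs_iff_LQC (Z : Set X) : LQCs Z ↔ LQC Z := by
  constructor
  · intro h y
    obtain ⟨V, hV, hyV, hT⟩ := h y
    refine ⟨V, hV, hyV, ?_⟩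
    have h1 : QC (Subtype.val ⁻¹' Z : Set V) := hT
    have h2 := h1.image_val hV
    rwa [Subtype.image_preimage_coe, Set.inter_comm] at h2
  · intro h y
    obtain ⟨V, hV, hyV, hQ⟩ := h y
    refine ⟨V, hV, hyV, ?_⟩
    have h1 : QC (Subtype.val ⁻¹' (Z ∩ V) : Set V) := hQ.preimage continuous_subtype_val
    have h2 : (Subtype.val ⁻¹' (Z ∩ V) : Set V) = Subtype.val ⁻¹' Z := by
      ext ⟨v, hv⟩
      simp
    rw [h2] at h1
    exact h1

/-- The working hypotheses on a quasi-homeomorphism. -/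
structure QH (f : X → Y) : Prop where
  cont : Continuous f
  inj : ∀ U V : Set Y, IsOpen U → IsOpen V → f ⁻¹' U = f ⁻¹' V → U = V
  surj : ∀ U : Set X, IsOpen U → ∃ V : Set Y, IsOpen V ∧ f ⁻¹' V = U

variable {f : X → Y}

theorem QH.surj_closed (h : QH f) (C : Set X) (hC : IsClosed C) :
    ∃ D : Set Y, IsClosed D ∧ f ⁻¹' D = C := by
  obtain ⟨V, hV, hVC⟩ := h.surj Cᶜ hC.isOpen_compl
  refine ⟨Vᶜ, hV.isClosed_compl, ?_⟩
  rw [Set.preimage_compl, hVC, compl_compl]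

theorem QH.surj_locallyClosed (h : QH f) (t : Set X) (ht : IsLocallyClosed t) :
    ∃ s : Set Y, IsLocallyClosed s ∧ f ⁻¹' s = t := by
  obtain ⟨U, C, hU, hC, rfl⟩ := ht
  obtain ⟨U', hU', hUU⟩ := h.surj U hU
  obtain ⟨C', hC', hCC⟩ := h.surj_closed C hC
  exact ⟨U' ∩ C', ⟨U', C', hU', hC', rfl⟩, by rw [Set.preimage_inter, hUU, hCC]⟩

theorem QH.surj_QC (h : QH f) (Z : Set X) (hZ : QC Z) :
    ∃ Z' : Set Y, QC Z' ∧ f ⁻¹' Z' = Z := by
  obtain ⟨T, hT, hlc, rfl⟩ := hZ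
  have : ∀ t : T, ∃ s : Set Y, IsLocallyClosed s ∧ f ⁻¹' s = t.1 :=
    fun t => h.surj_locallyClosed t.1 (hlc t.1 t.2)
  choose g hg1 hg2 using this
  have hfin : Finite T := hT.to_subtype
  refine ⟨⋃₀ Set.range g, ⟨Set.range g, Set.finite_range g, ?_, rfl⟩, ?_⟩
  · rintro _ ⟨t, rfl⟩
    exact hg1 t
  · rw [Set.sUnion_range, Set.preimage_iUnion, Set.sUnion_eq_iUnion]
    exact Set.iUnion_congr hg2

theorem QH.eq_empty_of_preimage (h : QH f) (s : Set Y) (hs : IsLocallyClosed s)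
    (he : f ⁻¹' s = ∅) : s = ∅ := by
  obtain ⟨U, C, hU, hC, rfl⟩ := hs
  have h1 : f ⁻¹' (U ∩ Cᶜ) = f ⁻¹' U := by
    ext x
    simp only [Set.preimage_inter, Set.mem_inter_iff, Set.mem_preimage, Set.preimage_compl,
      Set.mem_compl_iff, and_iff_left_iff_imp]
    intro hxU hxC
    have : x ∈ f ⁻¹' (U ∩ C) := ⟨hxU, hxC⟩
    rw [he] at this
    exact this
  have h2 := h.inj _ _ (hU.inter hC.isOpen_compl) hU h1
  ext y
  simp only [Set.mem_inter_iff, Set.mem_empty_iff_false, iff_false, not_and]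
  intro hyU hyC
  have : y ∈ U ∩ Cᶜ := by rw [h2]; exact hyU
  exact this.2 hyC

/-- A point outside a finite union of locally closed sets has a locally closed neighbourhood
disjoint from the union. -/
theorem exists_locallyClosed_disjoint (T : Set (Set Y)) (hT : T.Finite)
    (hlc : ∀ t ∈ T, IsLocallyClosed t) (y : Y) (hy : y ∉ ⋃₀ T) :
    ∃ W : Set Y, IsLocallyClosed W ∧ y ∈ W ∧ W ∩ ⋃₀ T = ∅ := by
  induction T, hT using Set.Finite.induction_on with
  | empty => exact ⟨Set.univ, isOpen_univ.isLocallyClosed, trivial, by simp⟩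
  | @insert s T _ _ ih =>
    have hyT : y ∉ ⋃₀ T := fun hy' => hy (by
      rw [Set.sUnion_insert]; exact Or.inr hy')
    have hys : y ∉ s := fun hy' => hy (by
      rw [Set.sUnion_insert]; exact Or.inl hy')
    obtain ⟨W, hW, hyW, hWT⟩ := ih (fun t ht => hlc t (Set.mem_insert_of_mem _ ht)) hyT
    obtain ⟨U, C, hU, hC, rfl⟩ := hlc s (Set.mem_insert _ _)
    by_cases hyU : y ∈ U
    · have hyC : y ∉ C := fun hyC => hys ⟨hyU, hyC⟩
      refine ⟨W ∩ Cᶜ, hW.inter hC.isOpen_compl.isLocallyClosed, ⟨hyW, hyC⟩, ?_⟩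
      rw [Set.sUnion_insert, Set.inter_union_distrib_left]
      have e1 : W ∩ Cᶜ ∩ (U ∩ C) = ∅ := by
        ext z; simp only [Set.mem_inter_iff, Set.mem_compl_iff, Set.mem_empty_iff_false, iff_false]
        tauto
      have e2 : W ∩ Cᶜ ∩ ⋃₀ T = ∅ := by
        rw [Set.inter_right_comm, hWT, Set.empty_inter]
      rw [e1, e2, Set.union_empty]
    · refine ⟨W ∩ Uᶜ, hW.inter hU.isClosed_compl.isLocallyClosed, ⟨hyW, hyU⟩, ?_⟩
      rw [Set.sUnion_insert, Set.inter_union_distrib_left]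
      have e1 : W ∩ Uᶜ ∩ (U ∩ C) = ∅ := by
        ext z; simp only [Set.mem_inter_iff, Set.mem_compl_iff, Set.mem_empty_iff_false, iff_false]
        tauto
      have e2 : W ∩ Uᶜ ∩ ⋃₀ T = ∅ := by
        rw [Set.inter_right_comm, hWT, Set.empty_inter]
      rw [e1, e2, Set.union_empty]

theorem QH.subset_of_preimage_subset (h : QH f) {Z Z' : Set Y} (hZ : QC Z) (hZ' : QC Z')
    (hsub : f ⁻¹' Z ⊆ f ⁻¹' Z') : Z ⊆ Z' := by
  intro y hyZ
  by_contra hyZ'
  obtain ⟨T, hT, hlc, rfl⟩ := hZ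
  obtain ⟨T', hT', hlc', rfl⟩ := hZ'
  obtain ⟨t, htT, hyt⟩ := hyZ
  obtain ⟨W, hW, hyW, hWT⟩ := exists_locallyClosed_disjoint T' hT' hlc' y hyZ'
  have hne : f ⁻¹' (t ∩ W) ≠ ∅ := by
    intro he
    have := h.eq_empty_of_preimage _ ((hlc t htT).inter hW) he
    have hy : y ∈ t ∩ W := ⟨hyt, hyW⟩
    rw [this] at hy
    exact hy
  obtain ⟨x, hxt, hxW⟩ := Set.nonempty_iff_ne_empty.mpr hne
  have hx1 : x ∈ f ⁻¹' ⋃₀ T := ⟨t, htT, hxt⟩
  have hx2 : f x ∈ ⋃₀ T' := hsub hx1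
  have : f x ∈ W ∩ ⋃₀ T' := ⟨hxW, hx2⟩
  rw [hWT] at this
  exact this

theorem QH.eq_of_preimage_eq (h : QH f) {Z Z' : Set Y} (hZ : QC Z) (hZ' : QC Z')
    (he : f ⁻¹' Z = f ⁻¹' Z') : Z = Z' :=
  Set.Subset.antisymm (h.subset_of_preimage_subset hZ hZ' he.subset)
    (h.subset_of_preimage_subset hZ' hZ he.symm.subset)

theorem QH.bijOn_QC (h : QH f) :
    Set.BijOn (fun Z : Set Y => f ⁻¹' Z) {Z : Set Y | QC Z} {Z : Set X | QC Z} := by
  refine ⟨fun Z hZ => QC.preimage h.cont hZ, fun Z hZ Z' hZ' he => h.eq_of_preimage_eq hZ hZ' he,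
    fun Z hZ => ?_⟩
  obtain ⟨Z', hZ', he⟩ := h.surj_QC Z hZ
  exact ⟨Z', hZ', he⟩

theorem QH.bijOn_LQC (h : QH f) :
    Set.BijOn (fun Z : Set Y => f ⁻¹' Z) {Z : Set Y | LQC Z} {Z : Set X | LQC Z} := by
  refine ⟨?_, ?_, ?_⟩
  · intro Z hZ x
    obtain ⟨V, hV, hyV, hQ⟩ := hZ (f x)
    exact ⟨f ⁻¹' V, hV.preimage h.cont, hyV, by
      rw [← Set.preimage_inter]; exact hQ.preimage h.cont⟩
  · intro Z hZ Z' hZ' he
    have he' : f ⁻¹' Z = f ⁻¹' Z' := he
    ext y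
    obtain ⟨V₁, hV₁, hy₁, hQ₁⟩ := hZ y
    obtain ⟨V₂, hV₂, hy₂, hQ₂⟩ := hZ' y
    have q1 : QC (Z ∩ (V₁ ∩ V₂)) := by
      rw [← Set.inter_assoc]; exact hQ₁.inter hV₂.isLocallyClosed
    have q2 : QC (Z' ∩ (V₁ ∩ V₂)) := by
      rw [Set.inter_comm V₁ V₂, ← Set.inter_assoc]; exact hQ₂.inter hV₁.isLocallyClosed
    have e : Z ∩ (V₁ ∩ V₂) = Z' ∩ (V₁ ∩ V₂) := by
      apply h.eq_of_preimage_eq q1 q2
      simp only [Set.preimage_inter, he']
    constructor
    · intro hy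
      have : y ∈ Z ∩ (V₁ ∩ V₂) := ⟨hy, hy₁, hy₂⟩
      rw [e] at this
      exact this.1
    · intro hy
      have : y ∈ Z' ∩ (V₁ ∩ V₂) := ⟨hy, hy₁, hy₂⟩
      rw [← e] at this
      exact this.1
  · intro Z hZ
    have hZ' : ∀ x : X, ∃ V : Set X, IsOpen V ∧ x ∈ V ∧ QC (Z ∩ V) := hZ
    choose V hVo hxV hQ using hZ'
    have hW : ∀ x, ∃ W : Set Y, IsOpen W ∧ f ⁻¹' W = V x := fun x => h.surj (V x) (hVo x)
    choose W hWo hWV using hW
    have hZ'' : ∀ x, ∃ Z' : Set Y, QC Z' ∧ f ⁻¹' Z' = Z ∩ V x := fun x => h.surj_QC _ (hQ x)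
    choose Z'' hQ'' hZV using hZ''
    obtain ⟨Z', hZ'def⟩ : ∃ Z' : X → Set Y, ∀ x, Z' x = Z'' x ∩ W x := ⟨_, fun _ => rfl⟩
    have hQ' : ∀ x, QC (Z' x) := fun x => by
      rw [hZ'def]; exact (hQ'' x).inter (hWo x).isLocallyClosed
    have hZ'V : ∀ x, f ⁻¹' (Z' x) = Z ∩ V x := by
      intro x
      rw [hZ'def, Set.preimage_inter, hZV, hWV, Set.inter_assoc, Set.inter_self]
    have hZ'W : ∀ x, Z' x ⊆ W x := fun x => by
      rw [hZ'def]; exact Set.inter_subset_right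
    refine ⟨⋃ x, Z' x, ?_, ?_⟩
    · -- locally quasi-constructible
      intro y
      have hcover : (⋃ x, W x) = Set.univ := by
        apply h.inj _ _ (isOpen_iUnion hWo) isOpen_univ
        rw [Set.preimage_iUnion, Set.preimage_univ]
        apply Set.eq_univ_of_forall
        intro x
        rw [Set.mem_iUnion]
        exact ⟨x, by rw [hWV]; exact hxV x⟩
      have hy : y ∈ ⋃ x, W x := by rw [hcover]; trivial
      obtain ⟨x, hyx⟩ := Set.mem_iUnion.mp hy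
      refine ⟨W x, hWo x, hyx, ?_⟩
      have e : (⋃ x, Z' x) ∩ W x = Z' x := by
        apply Set.Subset.antisymm
        · rintro z ⟨hz, hzW⟩
          obtain ⟨x', hzx'⟩ := Set.mem_iUnion.mp hz
          have q1 : QC (Z' x' ∩ W x) := (hQ' x').inter (hWo x).isLocallyClosed
          have q2 : QC (Z' x ∩ W x') := (hQ' x).inter (hWo x').isLocallyClosed
          have e' : Z' x' ∩ W x = Z' x ∩ W x' := by
            apply h.eq_of_preimage_eq q1 q2
            rw [Set.preimage_inter, Set.preimage_inter, hZ'V, hZ'V, hWV, hWV,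
              Set.inter_assoc, Set.inter_assoc, Set.inter_comm (V x') (V x)]
          have : z ∈ Z' x' ∩ W x := ⟨hzx', hzW⟩
          rw [e'] at this
          exact this.1
        · intro z hz
          exact ⟨Set.mem_iUnion.mpr ⟨x, hz⟩, hZ'W x hz⟩
      rw [e]
      exact hQ' x
    · show f ⁻¹' (⋃ x, Z' x) = Z
      rw [Set.preimage_iUnion]
      apply Set.Subset.antisymm
      · intro z hz
        obtain ⟨x, hzx⟩ := Set.mem_iUnion.mp hz
        rw [hZ'V] at hzx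
        exact hzx.1
      · intro z hz
        refine Set.mem_iUnion.mpr ⟨z, ?_⟩
        rw [hZ'V]
        exact ⟨hz, hxV z⟩

end

/-- Let f : X → Y be a quasi-homeomorphism, i.e. a continuous map such that U ↦ f⁻¹(U) is a bijection
from the open subsets of Y onto the open subsets of X. Call a subset quasi-constructible when it is
a finite union of locally closed subsets, and locally quasi-constructible when every point of the
space has an open neighbourhood V whose intersection with it is quasi-constructible in V. Then Z ↦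
f⁻¹(Z) induces a bijection from the quasi-constructible subsets of Y onto those of X, and from the
locally quasi-constructible subsets of Y onto those of X. -/
theorem result {X Y : Type u}
    [TopologicalSpace X] [TopologicalSpace Y] (f : X → Y) (hf : Continuous f)
    (hq : Function.Bijective (fun U : TopologicalSpace.Opens Y =>
      (⟨f ⁻¹' (U : Set Y), U.isOpen.preimage hf⟩ : TopologicalSpace.Opens X))) :
    Set.BijOn (fun Z : Set Y => f ⁻¹' Z)
        {Z : Set Y | ∃ T : Set (Set Y), T.Finite ∧ (∀ t ∈ T, IsLocallyClosed t) ∧ Z = ⋃₀ T}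
        {Z : Set X | ∃ T : Set (Set X), T.Finite ∧ (∀ t ∈ T, IsLocallyClosed t) ∧ Z = ⋃₀ T} ∧
      Set.BijOn (fun Z : Set Y => f ⁻¹' Z)
        {Z : Set Y | ∀ y : Y, ∃ V : Set Y, IsOpen V ∧ y ∈ V ∧
          ∃ T : Set (Set V), T.Finite ∧ (∀ t ∈ T, IsLocallyClosed t) ∧ (Subtype.val ⁻¹' Z : Set V) = ⋃₀ T}
        {Z : Set X | ∀ x : X, ∃ V : Set X, IsOpen V ∧ x ∈ V ∧
          ∃ T : Set (Set V), T.Finite ∧ (∀ t ∈ T, IsLocallyClosed t) ∧ (Subtype.val ⁻¹' Z : Set V) = ⋃₀ T} := by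
  have h : QH f := by
    refine ⟨hf, ?_, ?_⟩
    · intro U V hU hV he
      have := @hq.1 ⟨U, hU⟩ ⟨V, hV⟩ (by
        apply TopologicalSpace.Opens.ext
        exact he)
      exact congrArg (fun O : TopologicalSpace.Opens Y => (O : Set Y)) this
    · intro U hU
      obtain ⟨V, hV⟩ := hq.2 ⟨U, hU⟩
      exact ⟨V, V.isOpen, congrArg (fun O : TopologicalSpace.Opens X => (O : Set X)) hV⟩
  refine ⟨h.bijOn_QC, ?_⟩
  have e1 : {Z : Set Y | LQCs Z} = {Z : Set Y | LQC Z} := Set.ext fun Z => LQCs_iff_LQC Z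
  have e2 : {Z : Set X | LQCs Z} = {Z : Set X | LQC Z} := Set.ext fun Z => LQCs_iff_LQC Z
  show Set.BijOn (fun Z : Set Y => f ⁻¹' Z) {Z : Set Y | LQCs Z} {Z : Set X | LQCs Z}
  rw [e1, e2]
  exact h.bijOn_LQC

end Groth.Agent.S12127
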