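import Groth.Statements.S1213
import Groth.Agent.Lib.Helper6.DirectSummand

set_option autoImplicit false
universe u
open scoped Classical
open FlatMor

namespace Groth.Agent.S1213

open TensorProduct IsLocalRing in
/-- Let R be a local ring, S an R-algebra and N an S-module which, as an R-module, is an internal direct
sum of finite R-submodules. Then for every R-module M and every prime q of S which is the
annihilator of an element of the S-module N ⊗_R M we have q + 𝔪_R S ≠ S. -/
theorem result {R S : Type u} [CommRing R] [IsLocalRing R] [CommRing S] [Algebra R S]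
    (N : Type u) [AddCommGroup N] [Module S N] [Module R N] [IsScalarTower R S N]
    (ι : Type u) (F : ι → Submodule R N) (hF : DirectSum.IsInternal F) (hfin : ∀ i, Module.Finite R (F i))
    (M : Type u) [AddCommGroup M] [Module R M]
    (q : Ideal S) [q.IsPrime] (hq : q ∈ FlatCA.ass S (N ⊗[R] M)) :
    q ⊔ (maximalIdeal R).map (algebraMap R S) ≠ ⊤ := by
  intro htop
  obtain ⟨-, z, hz⟩ := hq
  have h1 : (1 : S) ∈ q ⊔ (maximalIdeal R).map (algebraMap R S) := htop ▸ Submodule.mem_top
  obtain ⟨s, hs, f, hf, hsf⟩ := Submodule.mem_sup.mp h1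
  obtain ⟨T, z₁, hz₁⟩ := Lib.Helper6.exists_finset_mem_range_rTensor N ι F hF.submodule_iSup_eq_top M z
  have hfg : (⨆ i ∈ T, F i).FG :=
    Submodule.fg_biSup T F fun i _ => Module.Finite.iff_fg.mp (hfin i)
  have hcompl : IsCompl (⨆ i ∈ T, F i) (⨆ i ∈ ((T : Set ι)ᶜ), F i) := by
    constructor
    · exact hF.submodule_iSupIndep.disjoint_biSup_biSup (s := (T : Set ι)) (t := (T : Set ι)ᶜ)
        disjoint_compl_right
    · rw [codisjoint_iff, eq_top_iff, ← hF.submodule_iSup_eq_top]
      refine iSup_le fun i => ?_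
      by_cases hi : i ∈ T
      · exact le_sup_of_le_left (le_biSup F hi)
      · exact le_sup_of_le_right (le_biSup F (show i ∈ ((T : Set ι)ᶜ) from hi))
  have hsz : s • z = 0 := by
    have : s ∈ (Submodule.span S {z}).annihilator := hz ▸ hs
    rw [Submodule.mem_annihilator_span_singleton] at this
    exact this
  have hz₁0 : z₁ = 0 :=
    Lib.Helper6.eq_zero_of_smul_eq_zero_of_isCompl N M _ _ hcompl hfg s f hsf hf z₁ (by rw [hz₁]; exact hsz)
  have hz0 : z = 0 := by rw [← hz₁, hz₁0, map_zero]
  have : q = ⊤ := by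
    rw [hz, hz0]
    simp [Submodule.annihilator_bot]
  exact (Ideal.IsPrime.ne_top ‹_›) this

end Groth.Agent.S1213
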