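import Groth.Statements.S12134
import Groth.Agent.Lib.Helper47.GrStratInd

set_option autoImplicit false
universe u
open scoped TensorProduct
open EGA43

namespace Groth.Agent.S12134

open AlgebraicGeometry CategoryTheory in
/-- Suppose A₀ is a Noetherian ring and B₀ is a finitely generated A₀-algebra; fix an ideal J₀ ⊆ B₀ and
a finite B₀-module M₀. Then Spec A₀ admits finitely many affine subschemes S_1, …, S_m — presented
as immersions Spec A_i → Spec A₀ — whose underlying sets are mutually disjoint with union all of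
Spec A₀, such that each S_i is open in S_i ∪ S_{i+1} ∪ … ∪ S_m, and such that for each i, setting
N_i = A_i ⊗_{A₀} M₀, the graded module associated to the J₀-adic filtration on N_i is A_i-flat.
Concretely, for every n the A_i-module J₀ⁿN_i / J₀ⁿ⁺¹N_i is flat, where this quotient is encoded as
the image of J₀ⁿN_i inside N_i / J₀ⁿ⁺¹N_i, and J₀ⁿN_i denotes the image in N_i of A_i ⊗_{A₀} J₀ⁿM₀. -/
theorem result {A₀ : Type u} [CommRing A₀] [IsNoetherianRing A₀]
    {B₀ : Type u} [CommRing B₀] [Algebra A₀ B₀] [Algebra.FiniteType A₀ B₀] (J₀ : Ideal B₀)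
    (M₀ : Type u) [AddCommGroup M₀] [Module B₀ M₀] [Module A₀ M₀] [IsScalarTower A₀ B₀ M₀]
    [Module.Finite B₀ M₀] :
    ∃ (m : ℕ) (A : Fin m → Type u) (_ : ∀ i, CommRing (A i)) (_ : ∀ i, Algebra A₀ (A i)),
      (∀ i, IsImmersion (Spec.map (CommRingCat.ofHom (algebraMap A₀ (A i))))) ∧
      (∀ i j, i ≠ j → Disjoint (Set.range (Spec.map (CommRingCat.ofHom (algebraMap A₀ (A i)))))
        (Set.range (Spec.map (CommRingCat.ofHom (algebraMap A₀ (A j)))))) ∧
      (⋃ i, Set.range (Spec.map (CommRingCat.ofHom (algebraMap A₀ (A i)))) = Set.univ) ∧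
      (∀ i, ∃ U : Set (Spec (CommRingCat.of A₀)), IsOpen U ∧
        U ∩ (⋃ j, ⋃ (_ : i ≤ j), Set.range (Spec.map (CommRingCat.ofHom (algebraMap A₀ (A j))))) =
          Set.range (Spec.map (CommRingCat.ofHom (algebraMap A₀ (A i))))) ∧
      ∀ i (n : ℕ), Module.Flat (A i)
        ↥(Submodule.map
            (LinearMap.range (LinearMap.baseChange (A i)
              ((J₀ ^ (n + 1) • (⊤ : Submodule B₀ M₀)).restrictScalars A₀).subtype)).mkQ
            (LinearMap.range (LinearMap.baseChange (A i)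
              ((J₀ ^ n • (⊤ : Submodule B₀ M₀)).restrictScalars A₀).subtype))) := by
  classical
  let Good : Ideal A₀ × A₀ → Prop := fun p => ∀ k : ℕ,
    Module.Flat (Localization.Away (Ideal.Quotient.mk p.1 p.2))
      (Localization.Away (Ideal.Quotient.mk p.1 p.2) ⊗[A₀]
        Groth.Agent.Lib.Helper47.GrStrat.TruncZ (A₀ := A₀) J₀ M₀ k)
  obtain ⟨m, d, h1, h2, h3, h4⟩ := Groth.Agent.Lib.Helper47.GrStrat.exists_strat Good
    (fun 𝔟 h𝔟 hne => Groth.Agent.Lib.Helper47.GrStrat.exists_flat_tensor_truncZ J₀ M₀ 𝔟 h𝔟 hne)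
    (⊥ : Ideal A₀)
  have hr : ∀ i, Set.range (Spec.map (CommRingCat.ofHom
      (algebraMap A₀ (Localization.Away (Ideal.Quotient.mk (d i).1 (d i).2))))) =
      Groth.Agent.Lib.Helper47.GrStrat.ZD (d i) :=
    fun i => Groth.Agent.Lib.Helper47.GrStrat.range_specMap (d i).1 (d i).2
  refine ⟨m, fun i => Localization.Away (Ideal.Quotient.mk (d i).1 (d i).2),
    fun i => inferInstance, fun i => inferInstance, ?_, ?_, ?_, ?_, ?_⟩
  · intro i
    exact Groth.Agent.Lib.Helper47.GrStrat.isImmersion_specMap _ _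
  · intro i j hij
    exact Set.disjoint_left.mpr (fun x hx hx' =>
      Set.disjoint_left.mp (h2 i j hij) ((hr i).le hx) ((hr j).le hx'))
  · refine Set.eq_univ_of_forall (fun x => ?_)
    have hx : (x : PrimeSpectrum A₀) ∈ ⋃ i, Groth.Agent.Lib.Helper47.GrStrat.ZD (d i) := by
      rw [h3]
      intro a ha
      have ha0 : a = 0 := ha
      rw [ha0]
      exact (x : PrimeSpectrum A₀).asIdeal.zero_mem
    obtain ⟨i, hi⟩ := Set.mem_iUnion.mp hx
    exact Set.mem_iUnion.mpr ⟨i, (hr i).ge hi⟩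
  · intro i
    obtain ⟨U, hU, hUi⟩ := h4 i
    refine ⟨U, hU, Set.ext (fun x => ⟨?_, ?_⟩)⟩
    · rintro ⟨hxU, hx⟩
      simp only [Set.mem_iUnion] at hx
      obtain ⟨j, hij, hxj⟩ := hx
      have hmem : (x : PrimeSpectrum A₀) ∈
          U ∩ ⋃ j, ⋃ (_ : i ≤ j), Groth.Agent.Lib.Helper47.GrStrat.ZD (d j) :=
        ⟨hxU, Set.mem_iUnion.mpr ⟨j, Set.mem_iUnion.mpr ⟨hij, (hr j).le hxj⟩⟩⟩
      rw [hUi] at hmem
      exact (hr i).ge hmem
    · intro hx
      have hmem : (x : PrimeSpectrum A₀) ∈ Groth.Agent.Lib.Helper47.GrStrat.ZD (d i) :=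
        (hr i).le hx
      rw [← hUi] at hmem
      obtain ⟨hxU, hx'⟩ := hmem
      simp only [Set.mem_iUnion] at hx'
      obtain ⟨j, hij, hxj⟩ := hx'
      exact ⟨hxU, Set.mem_iUnion.mpr ⟨j, Set.mem_iUnion.mpr ⟨hij, (hr j).ge hxj⟩⟩⟩
  · intro i n
    haveI := h1 i (n + 1)
    haveI := h1 i n
    exact Groth.Agent.Lib.Helper47.GrStrat.flat_map_mkQ_range _ _
      (fun x hx => (Submodule.smul_mono_left (Ideal.pow_le_pow_right (Nat.le_succ n))) hx)

end Groth.Agent.S12134
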