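import Groth.Statements.S12136
-- import your own Groth.Agent.* helpers here
import Mathlib
import Groth.Agent.Lib.Helper62.AdicJacobian

set_option autoImplicit false
universe u
open TensorProduct KaehlerDifferential
open EGA41

namespace Groth.Agent.S12136

open Groth.Agent.Lib.Helper62.AdicJacobian

theorem sup_pow_le {B : Type u} [CommRing B] (K I : Ideal B) (k : ℕ) :
    (K ⊔ I) ^ k ≤ K ⊔ I ^ k := by
  have h1 : ((K ⊔ I) ^ k).map (Ideal.Quotient.mk K) = (I ^ k).map (Ideal.Quotient.mk K) := by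
    rw [Ideal.map_pow, Ideal.map_sup, Ideal.map_quotient_self, bot_sup_eq, Ideal.map_pow]
  have h2 : (K ⊔ I) ^ k ≤ Ideal.comap (Ideal.Quotient.mk K) (Ideal.map (Ideal.Quotient.mk K) ((K ⊔ I) ^ k)) := Ideal.le_comap_map
  rw [h1, Ideal.comap_map_of_surjective _ Ideal.Quotient.mk_surjective,
    ← RingHom.ker_eq_comap_bot, Ideal.mk_ker, sup_comm (I ^ k) K] at h2
  exact h2

/-- In the Noetherian adic case, which the published statement itself singles out, let A → B be a ring
homomorphism with B Noetherian, I and J ideals of B, and suppose B, with the I-adic topology, is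
formally smooth over the discrete ring A. Put C = B/J with the quotient (IC-adic) topology and let Q
be an ideal of definition of C, i.e. an ideal containing a power of IC and a power of which lies in
IC. Then C is formally smooth over A for the IC-adic topology if and only if the C/Q-linear map
(J/J²) ⊗ (C/Q) → Ω_{B/A} ⊗_B (C/Q), obtained by base change from the conormal map J/J² → Ω_{B/A} ⊗_B
C, x ↦ 1 ⊗ dx, has a C/Q-linear left inverse (is an isomorphism onto a direct summand). Here J is
written as the kernel of B → C and the tensor products are taken over B, which for these C-modules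
is the same as over C. (The published statement allows A to be any topological ring with A → B
continuous; this row takes A discrete.) -/
theorem result {A B : Type u} [CommRing A]
    [CommRing B] [Algebra A B] [IsNoetherianRing B] (I J : Ideal B) (hB : CAlgX.IsAdicFormallySmooth A B I)
    (Q : Ideal (B ⧸ J)) (hQ : ∃ n : ℕ, (I.map (Ideal.Quotient.mk J)) ^ n ≤ Q)
    (hQ' : ∃ m : ℕ, Q ^ m ≤ I.map (Ideal.Quotient.mk J)) :
    CAlgX.IsAdicFormallySmooth A (B ⧸ J) (I.map (Ideal.Quotient.mk J)) ↔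
      ∃ g : ((B ⧸ J) ⧸ Q) ⊗[B] ((B ⧸ J) ⊗[B] Ω[B⁄A]) →ₗ[(B ⧸ J) ⧸ Q]
          ((B ⧸ J) ⧸ Q) ⊗[B] (RingHom.ker (algebraMap B (B ⧸ J))).Cotangent,
        g ∘ₗ LinearMap.baseChange ((B ⧸ J) ⧸ Q) (KaehlerDifferential.kerCotangentToTensor A B (B ⧸ J)) =
          LinearMap.id := by
  have hsurj : Function.Surjective (algebraMap B (B ⧸ J)) := Ideal.Quotient.mk_surjective
  have hsurjR : Function.Surjective (algebraMap B ((B ⧸ J) ⧸ Q)) := by
    intro y
    obtain ⟨c, rfl⟩ := Ideal.Quotient.mk_surjective y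
    obtain ⟨b, rfl⟩ := Ideal.Quotient.mk_surjective c
    exact ⟨b, rfl⟩
  rw [← hasRetraction_iff_exists_leftInverse (A := A) (C := B ⧸ J) ((B ⧸ J) ⧸ Q) hsurjR]
  have hKJ : RingHom.ker (algebraMap B (B ⧸ J)) = J := Ideal.mk_ker
  have h𝔮 : ∀ x, x ∈ RingHom.ker (algebraMap B ((B ⧸ J) ⧸ Q)) ↔ Ideal.Quotient.mk J x ∈ Q := by
    intro x
    rw [RingHom.mem_ker]
    exact Ideal.Quotient.eq_zero_iff_mem
  obtain ⟨n, hn⟩ := hQ
  obtain ⟨m, hm⟩ := hQ'
  have hK𝔮 : RingHom.ker (algebraMap B (B ⧸ J)) ≤ RingHom.ker (algebraMap B ((B ⧸ J) ⧸ Q)) := by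
    intro x hx
    rw [h𝔮]
    have : Ideal.Quotient.mk J x = 0 := hx
    rw [this]
    exact Q.zero_mem
  have hIn : RingHom.ker (algebraMap B (B ⧸ J)) ⊔ I ^ n ≤
      RingHom.ker (algebraMap B ((B ⧸ J) ⧸ Q)) := by
    refine sup_le hK𝔮 (fun x hx => (h𝔮 x).mpr (hn ?_))
    rw [← Ideal.map_pow]
    exact Ideal.mem_map_of_mem _ hx
  have h𝔮m : RingHom.ker (algebraMap B ((B ⧸ J) ⧸ Q)) ^ m ≤
      RingHom.ker (algebraMap B (B ⧸ J)) ⊔ I := by
    have h1 : (RingHom.ker (algebraMap B ((B ⧸ J) ⧸ Q)) ^ m).map (Ideal.Quotient.mk J) ≤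
        I.map (Ideal.Quotient.mk J) := by
      rw [Ideal.map_pow]
      refine le_trans (Ideal.pow_right_mono ?_ m) hm
      rw [Ideal.map_le_iff_le_comap]
      intro x hx
      exact (h𝔮 x).mp hx
    have h2 := Ideal.map_le_iff_le_comap.mp h1
    rw [Ideal.comap_map_of_surjective _ Ideal.Quotient.mk_surjective,
      ← RingHom.ker_eq_comap_bot, Ideal.mk_ker, sup_comm I J] at h2
    rw [hKJ]
    exact h2
  constructor
  · intro hC
    exact (hasRetraction_of_isAdicFormallySmooth hsurj hC n).mono hIn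
  · intro hP
    apply isAdicFormallySmooth_of_hasRetraction hB hsurj
    have key : ∀ k ≥ n, HasRetraction A (RingHom.ker (algebraMap B (B ⧸ J)))
        (RingHom.ker (algebraMap B (B ⧸ J)) ⊔ I ^ k) := by
      intro k hk
      refine HasRetraction.of_nilpotent hB (𝔠' := RingHom.ker (algebraMap B ((B ⧸ J) ⧸ Q)))
        ?_ le_sup_left (t := m * k) ?_ (k := k) le_sup_right hP
      · exact le_trans (sup_le_sup_left (Ideal.pow_le_pow_right hk) _) hIn
      · rw [pow_mul]
        exact le_trans (Ideal.pow_right_mono h𝔮m k) (sup_pow_le _ _ _)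
    intro k
    exact (key (max k n) (le_max_right _ _)).mono
      (sup_le_sup_left (Ideal.pow_le_pow_right (le_max_left _ _)) _)

end Groth.Agent.S12136
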