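import Groth.Statements.S1214
import Groth.Agent.Lib.Helper6.Adic

set_option autoImplicit false
universe u
open FlatMor

namespace Groth.Agent.S1214

open TensorProduct in
/-- Let R → S be a ring map, I an ideal of R and N an S-module which is I-adically complete. Then for
every R-module M and every prime q of S which is the annihilator of an element of the S-module N ⊗_R
M we have q + IS ≠ S. -/
theorem result {R S : Type u} [CommRing R] [CommRing S] [Algebra R S] (I : Ideal R)
    (N : Type u) [AddCommGroup N] [Module S N] [Module R N] [IsScalarTower R S N] [IsAdicComplete I N]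
    (M : Type u) [AddCommGroup M] [Module R M]
    (q : Ideal S) [q.IsPrime] (hq : q ∈ FlatCA.ass S (N ⊗[R] M)) :
    q ⊔ I.map (algebraMap R S) ≠ ⊤ := by
  intro htop
  obtain ⟨-, z, hz⟩ := hq
  have h1 : (1 : S) ∈ q ⊔ I.map (algebraMap R S) := htop ▸ Submodule.mem_top
  obtain ⟨s, hs, f, hf, hsf⟩ := Submodule.mem_sup.mp h1
  -- multiplication by `f` on `N` as an `R`-linear map
  let g : N →ₗ[R] N := (Algebra.lsmul R R N f)
  have hg : ∀ x, g x ∈ (I • ⊤ : Submodule R N) := by
    suffices h : ∀ x : N, f • x ∈ (I • ⊤ : Submodule R N) from h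
    refine Submodule.span_induction (p := fun f _ => ∀ x : N, f • x ∈ (I • ⊤ : Submodule R N))
      ?_ ?_ ?_ ?_ hf
    · rintro _ ⟨a, ha, rfl⟩ x
      rw [algebraMap_smul]
      exact Submodule.smul_mem_smul ha Submodule.mem_top
    · simp
    · intro a b _ _ ha hb x
      rw [add_smul]; exact Submodule.add_mem _ (ha x) (hb x)
    · intro a b _ hb x
      rw [smul_eq_mul, mul_comm, mul_smul]
      exact hb _
  have hbij := Lib.Helper6.bijective_one_sub_of_isAdicComplete I g hg
  let e : N ≃ₗ[R] N := LinearEquiv.ofBijective _ hbij
  have hinj : Function.Injective (LinearMap.rTensor M e.toLinearMap) :=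
    (LinearEquiv.rTensor M e).injective
  have hsz : s • z = 0 := by
    have : s ∈ (Submodule.span S {z}).annihilator := hz ▸ hs
    rw [Submodule.mem_annihilator_span_singleton] at this
    exact this
  have hgen : ∀ w : N ⊗[R] M, s • w = LinearMap.rTensor M e.toLinearMap w := by
    have hs' : s = 1 - f := by rw [← hsf]; ring
    intro w
    induction w using TensorProduct.induction_on with
    | zero => simp
    | add x y hx hy => rw [smul_add, map_add, hx, hy]
    | tmul n m =>
      rw [TensorProduct.smul_tmul', LinearMap.rTensor_tmul]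
      congr 1
      simp [e, g, hs', sub_smul]
  have hsz' := hgen z
  have hz0 : z = 0 := by
    apply hinj
    rw [← hsz', hsz, map_zero]
  have : q = ⊤ := by
    rw [hz, hz0]
    simp [Submodule.annihilator_bot]
  exact (Ideal.IsPrime.ne_top ‹_›) this

end Groth.Agent.S1214
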