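import Groth.Statements.S12187
import Groth.Agent.Lib.Helper41.GluePairFinite
import Mathlib

set_option autoImplicit false
universe u
open TensorProduct
open EtAlg

namespace Groth.Agent.S12187

/-- Glueing along a glueing pair detects finite morphisms of affine schemes, stated for coordinate
rings. Let (R → R', f) be a glueing pair and φ : A → B a homomorphism of R-algebras with A and B
glueable as R-modules. Then φ is finite exactly when both induced maps A_f → B_f and R' ⊗_R A → R'
⊗_R B are finite. -/
theorem result (R : Type u) [CommRing R] (R' : Type u) [CommRing R'] [Algebra R R'] (f : R)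
    (hRR' : EtGlue.IsGlueingPair R R' f) (A B : Type u) [CommRing A] [Algebra R A] [CommRing B] [Algebra R B]
    (hA : EtGlue.IsGlueable R R' f A) (hB : EtGlue.IsGlueable R R' f B) (φ : A →ₐ[R] B) :
    φ.toRingHom.Finite ↔ (Localization.awayMap φ.toRingHom (algebraMap R A f)).Finite ∧
      (Algebra.TensorProduct.map (AlgHom.id R R') φ).toRingHom.Finite := by
  classical
  have hq := hRR'.1
  constructor
  · intro h
    exact ⟨RingHom.localization_away_map_finite A B _ _ φ.toRingHom (algebraMap R A f) h,
      Groth.Agent.Lib.Helper41.GluePairFinite.finite_tensorMap φ h⟩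
  · rintro ⟨H1, H2⟩
    algebraize [φ.toRingHom]
    have hφ : ∀ (a : A) (b : B), a • b = φ a * b := fun a b => rfl
    have : IsScalarTower R A B := IsScalarTower.of_algebraMap_eq (fun r => (φ.commutes r).symm)
    -- Step 1
    obtain ⟨t₁, ht₁⟩ : ∃ t₁ : Finset B, ∀ b : B, ∃ N : ℕ,
        f ^ N • b ∈ Submodule.span A (t₁ : Set B) := by
      algebraize [Localization.awayMap φ.toRingHom (algebraMap R A f)]
      have hst : IsScalarTower A (Localization.Away (algebraMap R A f))
          (Localization.Away (φ.toRingHom (algebraMap R A f))) := by
        apply IsScalarTower.of_algebraMap_eq'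
        rw [IsScalarTower.algebraMap_eq A B (Localization.Away (φ.toRingHom (algebraMap R A f)))]
        change _ = (Localization.awayMap φ.toRingHom (algebraMap R A f)).comp _
        simp only [Localization.awayMap, IsLocalization.Away.map, IsLocalization.map_comp]
        rfl
      have hloc : IsLocalization ((Submonoid.powers (algebraMap R A f)).map (algebraMap A B))
          (Localization.Away (φ.toRingHom (algebraMap R A f))) := by
        rw [Submonoid.map_powers]
        exact (inferInstance : IsLocalization.Away (φ.toRingHom (algebraMap R A f))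
          (Localization.Away (φ.toRingHom (algebraMap R A f))))
      obtain ⟨s, hs⟩ := (inferInstance : Module.Finite (Localization.Away (algebraMap R A f))
          (Localization.Away (φ.toRingHom (algebraMap R A f)))).fg_top
      refine ⟨IsLocalization.finsetIntegerMultiple
        ((Submonoid.powers (algebraMap R A f)).map (algebraMap A B)) s, fun b => ?_⟩
      obtain ⟨⟨_, k, rfl⟩, hk⟩ := multiple_mem_span_of_mem_localization_span
        (Submonoid.powers (algebraMap R A f)) (Localization.Away (algebraMap R A f))
        (s : Set (Localization.Away (φ.toRingHom (algebraMap R A f))))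
        (algebraMap B _ b) (by rw [hs]; trivial)
      have hk' : algebraMap B (Localization.Away (φ.toRingHom (algebraMap R A f)))
          ((algebraMap R A f) ^ k • b) ∈ Submodule.span A
            (s : Set (Localization.Away (φ.toRingHom (algebraMap R A f)))) := by
        rw [Submonoid.smul_def] at hk
        rw [Algebra.smul_def, map_mul, ← IsScalarTower.algebraMap_apply, ← Algebra.smul_def]
        exact hk
      obtain ⟨⟨_, j, rfl⟩, hj⟩ := IsLocalization.smul_mem_finsetIntegerMultiple_span
        (Submonoid.powers (algebraMap R A f)) _ _ s hk'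
      refine ⟨j + k, ?_⟩
      rw [Submonoid.smul_def, smul_smul, ← pow_add, ← map_pow, algebraMap_smul] at hj
      exact hj
    -- Step 2
    obtain ⟨t₂, ht₂⟩ : ∃ t₂ : Finset B, ∀ P₀ : Submodule A B, (t₂ : Set B) ⊆ P₀ →
        Function.Surjective (((P₀.restrictScalars R).subtype).lTensor R') := by
      algebraize [(Algebra.TensorProduct.map (AlgHom.id R R') φ).toRingHom]
      have hψ : ∀ (z : R' ⊗[R] A) (w : R' ⊗[R] B),
          z • w = Algebra.TensorProduct.map (AlgHom.id R R') φ z * w := fun z w => rfl
      obtain ⟨s₂, hs₂⟩ := (inferInstance : Module.Finite (R' ⊗[R] A) (R' ⊗[R] B)).fg_top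
      obtain ⟨N', hN', hsN'⟩ := TensorProduct.exists_finite_submodule_right_of_setFinite
        (s₂ : Set (R' ⊗[R] B)) s₂.finite_toSet
      obtain ⟨t₂, ht₂⟩ := (Submodule.fg_top N').mp (Module.finite_def.mp hN')
      refine ⟨t₂, fun P₀ hP₀ => ?_⟩
      have hN'P₀ : N' ≤ P₀.restrictScalars R := by
        rw [← ht₂, Submodule.span_le]
        exact hP₀
      let Θ : R' ⊗[R] (P₀.restrictScalars R) →ₗ[R] R' ⊗[R] B :=
        ((P₀.restrictScalars R).subtype).lTensor R'
      have hmul : ∀ (z : R' ⊗[R] A) (w₀ : R' ⊗[R] (P₀.restrictScalars R)),
          z • Θ w₀ ∈ LinearMap.range Θ := by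
        intro z w₀
        induction z using TensorProduct.induction_on with
        | zero => rw [zero_smul]; exact Submodule.zero_mem _
        | tmul r' a =>
          induction w₀ using TensorProduct.induction_on with
          | zero => rw [map_zero, smul_zero]; exact Submodule.zero_mem _
          | tmul x' p =>
            refine ⟨(r' * x') ⊗ₜ[R] ⟨a • (p : B), P₀.smul_mem a p.2⟩, ?_⟩
            rw [hψ]
            simp only [Θ, LinearMap.lTensor_tmul, Submodule.subtype_apply,
              Algebra.TensorProduct.map_tmul, AlgHom.id_apply,
              Algebra.TensorProduct.tmul_mul_tmul, hφ]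
          | add x y hx hy =>
            rw [map_add, smul_add]
            exact Submodule.add_mem _ hx hy
        | add x y hx hy =>
          rw [add_smul]
          exact Submodule.add_mem _ hx hy
      let T : Submodule (R' ⊗[R] A) (R' ⊗[R] B) :=
        { carrier := LinearMap.range Θ
          add_mem' := fun ha hb => Submodule.add_mem _ ha hb
          zero_mem' := Submodule.zero_mem _
          smul_mem' := by
            rintro z _ ⟨w₀, rfl⟩
            exact hmul z w₀ }
      have hT : T = ⊤ := by
        rw [eq_top_iff, ← hs₂, Submodule.span_le]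
        intro z hz
        obtain ⟨w, hw⟩ := hsN' hz
        change z ∈ LinearMap.range Θ
        refine ⟨(Submodule.inclusion hN'P₀).lTensor R' w, ?_⟩
        rw [← hw, ← LinearMap.comp_apply, ← LinearMap.lTensor_comp]
        rfl
      intro z
      have hz : z ∈ T := by rw [hT]; trivial
      exact hz
    let P₀ : Submodule A B := Submodule.span A ((t₁ ∪ t₂ : Finset B) : Set B)
    have hP₀ : P₀.restrictScalars R = ⊤ := by
      apply Groth.Agent.Lib.Helper41.GluePairFinite.submodule_eq_top hq
      · intro b
        obtain ⟨N, hN⟩ := ht₁ b
        refine ⟨N, ?_⟩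
        change f ^ N • b ∈ P₀
        refine Submodule.span_mono ?_ hN
        rw [Finset.coe_union]
        exact Set.subset_union_left
      · apply ht₂
        refine subset_trans ?_ Submodule.subset_span
        rw [Finset.coe_union]
        exact Set.subset_union_right
    have hP₀' : P₀ = ⊤ := by
      rw [eq_top_iff]
      intro b _
      have : b ∈ P₀.restrictScalars R := by rw [hP₀]; trivial
      exact this
    change Module.Finite A B
    exact ⟨⟨t₁ ∪ t₂, hP₀'⟩⟩

end Groth.Agent.S12187
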