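import Groth.Statements.S12195
import Groth.Agent.H52.FormalEt

set_option autoImplicit false
universe u
open CategoryTheory CategoryTheory.Limits AlgebraicGeometry
open AlgSp

namespace Groth.Agent.S12195

/-- Let a : F ⟶ G be a representable, surjective and etale morphism of fppf sheaves on (Sch/S) and b : G
⟶ H a morphism such that a ≫ b is formally smooth. Consider a solid infinitesimal lifting square for
b: a square-zero thickening T = Spec (A/I) ⊂ T' = Spec A of affine schemes over S, a morphism T ⟶ G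
and a morphism T' ⟶ H making the square commute. Then for every point t of T' there exist an affine
scheme U', an etale morphism U' ⟶ T' whose image contains t, and a morphism U' ⟶ G lying over T' ⟶ H
whose restriction to T ×_{T'} U' agrees with the given T ⟶ G (stated for every scheme V mapping
compatibly to T and U'). (The published statement is for transformations of arbitrary presheaves of
sets on (Sch/S)_fppf; this row takes fppf sheaves, the case of algebraic spaces.) -/
theorem result {S : Scheme.{u}} {F G H : AlgSp.Sp S} (a : F ⟶ G)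
    (b : G ⟶ H) (ha : AlgSp.RepWith @Etale a) (ha' : AlgSp.RepWith @Surjective a)
    (hab : AlgSp.IsFormallySmoothMor (a ≫ b)) (sq : AlgSp.InfSq b) (t : ↥sq.ptT'.left) :
    ∃ (U' : Over S) (g : U' ⟶ sq.ptT') (l : (AlgSp.yon S).obj U' ⟶ G),
      IsAffine U'.left ∧ Etale g.left ∧ (∃ u : ↥U'.left, g.left u = t) ∧
        l ≫ b = (AlgSp.yon S).map g ≫ sq.bot ∧
          ∀ (V : Over S) (p : V ⟶ sq.ptT) (q : V ⟶ U'), p ≫ sq.j = q ≫ g →
            (AlgSp.yon S).map q ≫ l = (AlgSp.yon S).map p ≫ sq.top := by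
  have hrep := ha.rep
  have sqW := hrep.isPullback sq.top
  have hp₀e : Etale (hrep.snd sq.top).left := ha.property_snd sq.top
  have hp₀s : Surjective (hrep.snd sq.top).left := ha'.2 sq.top _ _ sqW
  obtain ⟨t₀, rfl⟩ := (Groth.Agent.H52.surjective_jQ sq.I sq.sq_zero sq.str).surj t
  obtain ⟨w₀, rfl⟩ := hp₀s.surj t₀
  obtain ⟨B, instB, φ, s, hφe, hs1, y₀, hy₀⟩ :=
    Groth.Agent.H52.exists_etale_lift_chart sq.I sq.str (hrep.snd sq.top) w₀
  let tt : (yon S).obj (Groth.Agent.H52.ptQ (sq.I.map φ)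
      (Spec.map (CommRingCat.ofHom φ) ≫ sq.str)) ⟶ F := (yon S).map s ≫ hrep.fst sq.top
  have ht : tt ≫ a = (yon S).map (Groth.Agent.H52.rho₀ sq.I sq.str φ) ≫ sq.top := by
    rw [Category.assoc, sqW.w, ← Category.assoc, ← Functor.map_comp, hs1]
  let sq' : InfSq (a ≫ b) :=
    { A := B
      I := sq.I.map φ
      sq_zero := (sq.restrict φ).sq_zero
      str := Spec.map (CommRingCat.ofHom φ) ≫ sq.str
      top := tt
      bot := (yon S).map (Groth.Agent.H52.rho sq.str φ) ≫ sq.bot
      comm := by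
        have e0 : tt ≫ a ≫ b = (tt ≫ a) ≫ b := (Category.assoc _ _ _).symm
        refine e0.trans ?_
        rw [ht]
        exact (sq.restrict φ).comm }
  obtain ⟨l, hl1, hl2⟩ := hab sq'
  have hl1' : (yon S).map (Groth.Agent.H52.jQ (sq.I.map φ)
      (Spec.map (CommRingCat.ofHom φ) ≫ sq.str)) ≫ l = tt := hl1
  have hl2' : l ≫ a ≫ b = (yon S).map (Groth.Agent.H52.rho sq.str φ) ≫ sq.bot := hl2
  refine ⟨Groth.Agent.H52.ptA (Spec.map (CommRingCat.ofHom φ) ≫ sq.str),
    Groth.Agent.H52.rho sq.str φ, l ≫ a, ?_, hφe, ?_, ?_, ?_⟩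
  · change IsAffine (Spec (CommRingCat.of B))
    infer_instance
  · refine ⟨(Groth.Agent.H52.jQ (sq.I.map φ) (Spec.map (CommRingCat.ofHom φ) ≫ sq.str)).left y₀, ?_⟩
    have e1 := congrArg (fun m => m.left y₀) (Groth.Agent.H52.jQ_rho sq.I sq.str φ)
    have e2 := congrArg (fun m => m.left y₀) hs1
    simp only [Over.comp_left, Scheme.Hom.comp_apply] at e1 e2
    rw [e1, ← e2, hy₀]
  · rw [Category.assoc]
    exact hl2'
  · intro V p q hpq
    have hpb := Groth.Agent.H52.isPullback_rho sq.I sq.str φ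
    have hκ1 : hpb.lift q p hpq.symm ≫ Groth.Agent.H52.jQ (sq.I.map φ)
        (Spec.map (CommRingCat.ofHom φ) ≫ sq.str) = q := hpb.lift_fst _ _ _
    have hκ2 : hpb.lift q p hpq.symm ≫ Groth.Agent.H52.rho₀ sq.I sq.str φ = p :=
      hpb.lift_snd _ _ _
    rw [← hκ1, Functor.map_comp, Category.assoc, ← Category.assoc ((yon S).map _) l a, hl1', ht,
      ← Category.assoc, ← Functor.map_comp, hκ2]

end Groth.Agent.S12195
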