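import Groth.Statements.S12197
import Groth.Agent.Lib.Helper66.GpdInvOpen

set_option autoImplicit false
universe u
open CategoryTheory CategoryTheory.Limits AlgebraicGeometry
open AlgSp AlgSp.GroupoidSp

namespace Groth.Agent.S12197

/-- Let B be an algebraic space over S and (U, R, s, t, c) a groupoid in algebraic spaces over B. Let τ
be one of the topologies fppf, etale, smooth and P a property of morphisms between algebraic spaces,
τ-local on the base, and assume that {s : R → U} and {t : R → U} are coverings for τ. Let W ⊂ U be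
the largest open subspace such that s⁻¹(W) → W has P, characterised by: for an open subspace W' ⊂ U
the base change R ×_{s,U} W' → W' has P if and only if W' ⊂ W. Then W is an R-invariant open
subspace of U. (The published statement also allows the syntomic topology, which is not available
here.) -/
theorem result {S : Scheme.{u}} {B : AlgSp.Sp S} (hB : AlgSp.IsAlgSpace B)
    (G : AlgSp.GroupoidSp B) (hU : AlgSp.IsAlgSpace G.U) (hR : AlgSp.IsAlgSpace G.R)
    (τ : AlgSp.CovNotion S) (hτ : τ = AlgSp.IsFppfCover ∨ τ = AlgSp.IsEtCover ∨ τ = AlgSp.IsSmCover)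
    (P : MorphismProperty (AlgSp.Sp S)) (hP : AlgSp.IsLocalOnBase τ P)
    (hs : τ (fun _ : PUnit.{u + 1} => G.R) (fun _ => G.s)) (ht : τ (fun _ : PUnit.{u + 1} => G.R) (fun _ => G.t))
    {W : AlgSp.Sp S} (hWsp : AlgSp.IsAlgSpace W) (w : W ⟶ G.U) [Mono w] (hw : AlgSp.RepWith @IsOpenImmersion w)
    (hmax : ∀ (W' : AlgSp.Sp S) (w' : W' ⟶ G.U), AlgSp.IsAlgSpace W' → AlgSp.RepWith @IsOpenImmersion w' →
      (P (pullback.snd G.s w') ↔ ∃ k : W' ⟶ W, k ≫ w = w')) :
    G.IsInvariant w := by
  rcases hτ with rfl | rfl | rfl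
  · exact Groth.Agent.Lib.Helper66.GpdInvOpen.isInvariant_largest_open_source
      Groth.Agent.Lib.Helper54.covClass_fppf hP G hU hR (hs.1 PUnit.unit) (ht.1 PUnit.unit) hWsp w hw hmax
  · exact Groth.Agent.Lib.Helper66.GpdInvOpen.isInvariant_largest_open_source
      Groth.Agent.Lib.Helper54.covClass_etale hP G hU hR (hs.1 PUnit.unit) (ht.1 PUnit.unit) hWsp w hw hmax
  · exact Groth.Agent.Lib.Helper66.GpdInvOpen.isInvariant_largest_open_source
      Groth.Agent.Lib.Helper54.covClass_smooth hP G hU hR (hs.1 PUnit.unit) (ht.1 PUnit.unit) hWsp w hw hmax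

end Groth.Agent.S12197
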