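import Groth.Statements.S12209
import Mathlib.RingTheory.Flat.EquationalCriterion
import Mathlib.Data.Fintype.Order

set_option autoImplicit false
universe u
open CAlg

namespace Groth.Agent.S12209

/-- Let (R_i) be a system of commutative rings over a nonempty directed preorder, with colimit R, and
let M be an R-module which is flat as an R_i-module for every i (the R_i-module structure being
restriction of scalars along R_i → R). Then M is flat as an R-module. -/
theorem result {ι : Type u} [Preorder ι] [Nonempty ι] [IsDirectedOrder ι]
    (G : ι → Type u) [∀ i, CommRing (G i)] (f : ∀ i j, i ≤ j → G i →+* G j)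
    [DirectedSystem G fun i j h => f i j h]
    (M : Type u) [AddCommGroup M] [Module (Ring.DirectLimit G fun i j h => f i j h) M]
    (hflat : ∀ i, letI : Module (G i) M := Module.compHom M (Ring.DirectLimit.of G (fun i j h => f i j h) i);
      Module.Flat (G i) M) :
    Module.Flat (Ring.DirectLimit G fun i j h => f i j h) M := by
  apply Module.Flat.of_forall_isTrivialRelation
  intro l g x hgx
  -- choose representatives
  have hex : ∀ i : Fin l, ∃ (j : ι) (y : G j), Ring.DirectLimit.of G (fun i j h => f i j h) j y = g i :=
    fun i => Ring.DirectLimit.exists_of (g i)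
  choose idx y hy using hex
  obtain ⟨j, hj⟩ := Finite.exists_le idx
  let g' : Fin l → G j := fun i => f (idx i) j (hj i) (y i)
  have hg' : ∀ i, Ring.DirectLimit.of G (fun i j h => f i j h) j (g' i) = g i := by
    intro i
    rw [← hy i]
    exact Ring.DirectLimit.of_f (hj i) (y i)
  letI : Module (G j) M := Module.compHom M (Ring.DirectLimit.of G (fun i j h => f i j h) j)
  have hfl : Module.Flat (G j) M := hflat j
  have hsum : ∑ i, g' i • x i = 0 := by
    rw [← hgx]
    apply Finset.sum_congr rfl
    intro i _
    rw [← hg' i]
    rfl
  obtain ⟨k, a, z, hxz, haz⟩ := Module.Flat.isTrivialRelation_of_sum_smul_eq_zero hsum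
  refine ⟨k, fun i t => Ring.DirectLimit.of G (fun i j h => f i j h) j (a i t), z, ?_, ?_⟩
  · intro i
    rw [hxz i]
    rfl
  · intro t
    have := congrArg (Ring.DirectLimit.of G (fun i j h => f i j h) j) (haz t)
    rw [map_zero, map_sum] at this
    rw [← this]
    apply Finset.sum_congr rfl
    intro i _
    rw [map_mul, hg' i]

end Groth.Agent.S12209
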