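import Groth.Statements.S12211
import Mathlib.RingTheory.Filtration
import Mathlib.RingTheory.HopkinsLevitzki
import Mathlib.RingTheory.Length
import Mathlib.RingTheory.KrullDimension.Basic
import Mathlib.Analysis.SpecificLimits.Basic
import Mathlib.Tactic

set_option autoImplicit false
universe u
open IntMult

open IsLocalRing Filter Topology

namespace Groth.Agent.S12211

section Alg
variable {A : Type u} [CommRing A] [IsNoetherianRing A] [IsLocalRing A]

theorem isArtinianRing_quot (J : Ideal A) (k : ℕ) (hk : maximalIdeal A ^ k ≤ J) :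
    IsArtinianRing (A ⧸ J) := by
  rw [isArtinianRing_iff_krullDimLE_zero]
  apply Ring.KrullDimLE.mk₀
  intro P hP
  have hp : (P.comap (Ideal.Quotient.mk J)).IsPrime := Ideal.comap_isPrime _ P
  have hJ : J ≤ P.comap (Ideal.Quotient.mk J) := by
    intro x hx
    rw [Ideal.mem_comap, Ideal.Quotient.eq_zero_iff_mem.mpr hx]
    exact zero_mem _
  have hm : maximalIdeal A ≤ P.comap (Ideal.Quotient.mk J) := hp.le_of_pow_le (le_trans hk hJ)
  have heq : P.comap (Ideal.Quotient.mk J) = maximalIdeal A :=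
    le_antisymm (le_maximalIdeal hp.ne_top) hm
  have hmax : (P.comap (Ideal.Quotient.mk J)).IsMaximal := heq ▸ maximalIdeal.isMaximal A
  rw [← Ideal.map_comap_of_surjective (Ideal.Quotient.mk J) Ideal.Quotient.mk_surjective P]
  exact Ideal.IsMaximal.map_of_surjective_of_ker_le Ideal.Quotient.mk_surjective
    (by rw [Ideal.mk_ker]; exact hJ)

theorem length_ne_top (I : Ideal A) (n : ℕ) (hn : maximalIdeal A ^ n ≤ I)
    (N : Type u) [AddCommGroup N] [Module A N] [Module.Finite A N] (t : ℕ) :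
    Module.length A (N ⧸ (I ^ t • (⊤ : Submodule A N))) ≠ ⊤ := by
  have : IsArtinianRing (A ⧸ I ^ t) := isArtinianRing_quot (I ^ t) (n * t)
    (by rw [pow_mul]; exact Ideal.pow_right_mono hn t)
  rw [Module.length_eq_of_surjective (R := A ⧸ I ^ t) (S := A) Ideal.Quotient.mk_surjective]
  have : Module.Finite (A ⧸ I ^ t) (N ⧸ (I ^ t • (⊤ : Submodule A N))) :=
    Module.Finite.of_restrictScalars_finite A _ _
  exact Module.length_ne_top

end Alg


section Exact
variable {A : Type u} [CommRing A]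
  {M' M M'' : Type u} [AddCommGroup M'] [Module A M'] [AddCommGroup M] [Module A M]
  [AddCommGroup M''] [Module A M'']
  (I : Ideal A) (f : M' →ₗ[A] M) (g : M →ₗ[A] M'')

/-- the submodule `f⁻¹(I^t M)` of `M'` -/
def P (t : ℕ) : Submodule A M' := Submodule.comap f (I ^ t • ⊤)

theorem length_add (hg : Function.Surjective g)
    (hfg : LinearMap.range f = LinearMap.ker g) (t : ℕ) :
    Module.length A (M ⧸ (I ^ t • ⊤ : Submodule A M)) =
      Module.length A (M' ⧸ P I f t) + Module.length A (M'' ⧸ (I ^ t • ⊤ : Submodule A M'')) := by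
  let φ : (M' ⧸ P I f t) →ₗ[A] (M ⧸ (I ^ t • ⊤ : Submodule A M)) :=
    Submodule.mapQ _ _ f le_rfl
  let ψ : (M ⧸ (I ^ t • ⊤ : Submodule A M)) →ₗ[A] (M'' ⧸ (I ^ t • ⊤ : Submodule A M'')) :=
    Submodule.mapQ _ _ g (Submodule.smul_top_le_comap_smul_top _ g)
  apply Module.length_eq_add_of_exact φ ψ
  · rw [injective_iff_map_eq_zero]
    intro x hx
    obtain ⟨x, rfl⟩ := Submodule.Quotient.mk_surjective _ x
    rw [Submodule.mapQ_apply, Submodule.Quotient.mk_eq_zero] at hx
    rw [Submodule.Quotient.mk_eq_zero]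
    exact hx
  · intro y
    obtain ⟨y, rfl⟩ := Submodule.Quotient.mk_surjective _ y
    obtain ⟨x, rfl⟩ := hg y
    exact ⟨Submodule.Quotient.mk x, rfl⟩
  · rw [LinearMap.exact_iff]
    apply le_antisymm
    · intro y hy
      obtain ⟨y, rfl⟩ := Submodule.Quotient.mk_surjective _ y
      rw [LinearMap.mem_ker, Submodule.mapQ_apply, Submodule.Quotient.mk_eq_zero] at hy
      have h1 : (I ^ t • ⊤ : Submodule A M'') = Submodule.map g (I ^ t • ⊤) := by
        rw [Submodule.map_smul'', Submodule.map_top, LinearMap.range_eq_top.mpr hg]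
      rw [h1] at hy
      obtain ⟨z, hz, hzy⟩ := hy
      have h2 : y - z ∈ LinearMap.ker g := by
        rw [LinearMap.mem_ker, map_sub, hzy, sub_self]
      rw [← hfg] at h2
      obtain ⟨x, hx⟩ := h2
      refine ⟨Submodule.Quotient.mk x, ?_⟩
      rw [Submodule.mapQ_apply, hx, Submodule.Quotient.mk_sub, sub_eq_self,
        Submodule.Quotient.mk_eq_zero]
      exact hz
    · rintro _ ⟨x, rfl⟩
      obtain ⟨x, rfl⟩ := Submodule.Quotient.mk_surjective _ x
      rw [LinearMap.mem_ker, Submodule.mapQ_apply, Submodule.mapQ_apply]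
      have : g (f x) = 0 := by
        have : f x ∈ LinearMap.ker g := hfg ▸ LinearMap.mem_range_self f x
        exact this
      rw [this, Submodule.Quotient.mk_zero]

theorem length_P_le (t : ℕ) :
    Module.length A (M' ⧸ P I f t) ≤ Module.length A (M' ⧸ (I ^ t • ⊤ : Submodule A M')) :=
  Module.length_le_of_surjective
    (Submodule.factor (Submodule.smul_top_le_comap_smul_top (I ^ t) f))
    (Submodule.factor_surjective _)

theorem le_length_P [IsNoetherianRing A] [Module.Finite A M] (hf : Function.Injective f) :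
    ∃ c : ℕ, ∀ t ≥ c,
      Module.length A (M' ⧸ (I ^ (t - c) • ⊤ : Submodule A M')) ≤ Module.length A (M' ⧸ P I f t) := by
  obtain ⟨c, hc⟩ := Ideal.exists_pow_inf_eq_pow_smul I (LinearMap.range f)
  refine ⟨c, fun t ht => ?_⟩
  have hle : P I f t ≤ (I ^ (t - c) • ⊤ : Submodule A M') := by
    intro x hx
    have h1 : f x ∈ (I ^ t • ⊤ ⊓ LinearMap.range f : Submodule A M) :=
      ⟨hx, LinearMap.mem_range_self f x⟩
    rw [hc t ht] at h1
    have h2 : (I ^ (t - c) • (I ^ c • ⊤ ⊓ LinearMap.range f) : Submodule A M) ≤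
        Submodule.map f (I ^ (t - c) • ⊤) := by
      rw [Submodule.map_smul'', Submodule.map_top]
      exact Submodule.smul_mono le_rfl inf_le_right
    obtain ⟨y, hy, hyx⟩ := h2 h1
    rw [← hf hyx]
    exact hy
  exact Module.length_le_of_surjective (Submodule.factor hle) (Submodule.factor_surjective _)

end Exact


theorem squeeze_lemma (d c : ℕ) (a q : ℕ → ℝ) (e' : ℝ)
    (ha : Tendsto (fun t : ℕ => (d.factorial : ℝ) * a t / (t : ℝ) ^ d) atTop (nhds e'))
    (h1 : ∀ t ≥ c, a (t - c) ≤ q t) (h2 : ∀ t, q t ≤ a t) :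
    Tendsto (fun t : ℕ => (d.factorial : ℝ) * q t / (t : ℝ) ^ d) atTop (nhds e') := by
  have hF : Tendsto (fun t : ℕ => (d.factorial : ℝ) * a (t - c) / ((t - c : ℕ) : ℝ) ^ d) atTop
      (nhds e') := ha.comp (tendsto_sub_atTop_nat c)
  have hr : Tendsto (fun t : ℕ => (((t - c : ℕ) : ℝ) / (t : ℝ)) ^ d) atTop (nhds 1) := by
    have h0 : Tendsto (fun t : ℕ => (1 : ℝ) - (c : ℝ) / (t : ℝ)) atTop (nhds 1) := by
      have := (tendsto_const_div_atTop_nhds_zero_nat (c : ℝ)).const_sub 1
      simpa using this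
    have h0' : Tendsto (fun t : ℕ => ((t - c : ℕ) : ℝ) / (t : ℝ)) atTop (nhds 1) := by
      refine h0.congr' ?_
      filter_upwards [eventually_gt_atTop c] with t ht
      have htpos : (0 : ℝ) < t := by exact_mod_cast (lt_of_le_of_lt (Nat.zero_le c) ht)
      rw [Nat.cast_sub ht.le]
      field_simp
    have := h0'.pow d
    simpa using this
  have hL : Tendsto (fun t : ℕ => (d.factorial : ℝ) * a (t - c) / (t : ℝ) ^ d) atTop (nhds e') := by
    have hprod := hF.mul hr
    rw [mul_one] at hprod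
    refine hprod.congr' ?_
    filter_upwards [eventually_gt_atTop c] with t ht
    have htpos : (0 : ℝ) < t := by exact_mod_cast (lt_of_le_of_lt (Nat.zero_le c) ht)
    have htc : (0 : ℝ) < ((t - c : ℕ) : ℝ) := by exact_mod_cast Nat.sub_pos_of_lt ht
    rw [div_pow]
    field_simp
  refine tendsto_of_tendsto_of_tendsto_of_le_of_le' hL ha ?_ ?_
  · filter_upwards [eventually_ge_atTop c] with t ht
    have : (0 : ℝ) ≤ (t : ℝ) ^ d := by positivity
    exact div_le_div_of_nonneg_right (mul_le_mul_of_nonneg_left (h1 t ht) (by positivity)) this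
  · filter_upwards with t
    have : (0 : ℝ) ≤ (t : ℝ) ^ d := by positivity
    exact div_le_div_of_nonneg_right (mul_le_mul_of_nonneg_left (h2 t) (by positivity)) this

/-- Suppose A is a local Noetherian ring and I ⊆ A is an ideal of definition. Given a short exact
sequence 0 → M' → M → M'' → 0 of finite A-modules and a number d with dim Supp(M) ≤ d, we have
e_I(M, d) = e_I(M', d) + e_I(M'', d), where e_I(N, d) denotes the limit as t → ∞ of d! ·
length_A(N/I^t N)/t^d. Concretely: whenever these limits for M' and M'' exist and equal e' and e'',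
the corresponding limit for M exists and equals e' + e''. -/
theorem result (A : Type u) [CommRing A] [IsNoetherianRing A] [IsLocalRing A]
    (I : Ideal A) (hI : I ≤ IsLocalRing.maximalIdeal A ∧ ∃ n : ℕ, IsLocalRing.maximalIdeal A ^ n ≤ I)
    {M' M M'' : Type u} [AddCommGroup M'] [Module A M'] [AddCommGroup M] [Module A M]
    [AddCommGroup M''] [Module A M''] [Module.Finite A M'] [Module.Finite A M] [Module.Finite A M'']
    (f : M' →ₗ[A] M) (g : M →ₗ[A] M'') (hf : Function.Injective f) (hg : Function.Surjective g)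
    (hfg : LinearMap.range f = LinearMap.ker g)
    (d : ℕ) (hd : Module.supportDim A M ≤ d) (e' e'' : ℝ)
    (h' : Filter.Tendsto (fun t : ℕ => (d.factorial : ℝ) * ((Module.length A (M' ⧸ (I ^ t • (⊤ : Submodule A M')))).toNat : ℝ) / (t : ℝ) ^ d) Filter.atTop (nhds e'))
    (h'' : Filter.Tendsto (fun t : ℕ => (d.factorial : ℝ) * ((Module.length A (M'' ⧸ (I ^ t • (⊤ : Submodule A M'')))).toNat : ℝ) / (t : ℝ) ^ d) Filter.atTop (nhds e'')) :
    Filter.Tendsto (fun t : ℕ => (d.factorial : ℝ) * ((Module.length A (M ⧸ (I ^ t • (⊤ : Submodule A M)))).toNat : ℝ) / (t : ℝ) ^ d) Filter.atTop (nhds (e' + e'')) := by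
  obtain ⟨-, n, hn⟩ := hI
  obtain ⟨c, hc⟩ := le_length_P I f hf
  have hfin' : ∀ t, Module.length A (M' ⧸ (I ^ t • (⊤ : Submodule A M'))) ≠ ⊤ :=
    length_ne_top I n hn M'
  have hfin'' : ∀ t, Module.length A (M'' ⧸ (I ^ t • (⊤ : Submodule A M''))) ≠ ⊤ :=
    length_ne_top I n hn M''
  have hfinP : ∀ t, Module.length A (M' ⧸ P I f t) ≠ ⊤ := fun t =>
    ne_top_of_le_ne_top (hfin' t) (length_P_le I f t)
  have hq := squeeze_lemma d c
    (fun t => ((Module.length A (M' ⧸ (I ^ t • (⊤ : Submodule A M')))).toNat : ℝ))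
    (fun t => ((Module.length A (M' ⧸ P I f t)).toNat : ℝ)) e' h'
    (fun t ht => by exact_mod_cast ENat.toNat_le_toNat (hc t ht) (hfinP t))
    (fun t => by exact_mod_cast ENat.toNat_le_toNat (length_P_le I f t) (hfin' t))
  have hsum := hq.add h''
  refine hsum.congr ?_
  intro t
  rw [length_add I f g hg hfg t, ENat.toNat_add (hfinP t) (hfin'' t)]
  push_cast
  ring

end Groth.Agent.S12211
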