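import Groth.Statements.S12217
import Groth.Agent.Lib.Helper60.BE
import Groth.Agent.Lib.Helper29.AdicLocal
import Groth.Agent.Lib.Helper18.AdicQuot
import Groth.Agent.Lib.Helper29.DepthExt
import Groth.Agent.Lib.Helper29.ExtReg
import Mathlib

set_option autoImplicit false
universe u
open Curves

namespace Groth.Agent.S12217

open CategoryTheory CategoryTheory.Limits Abelian

section ExtLemma

variable {C : Type*} [Category C] [Abelian C] [HasExt C]

/-- the connecting map `Hom(K, S.X₃) → Ext¹(K, S.X₁)` is injective when `Hom(K, S.X₂) = 0`. -/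
lemma eq_zero_of_comp_extClass_eq_zero {S : ShortComplex C} (hS : S.ShortExact) {K : C}
    (h2 : ∀ h : K ⟶ S.X₂, h = 0) (g : K ⟶ S.X₃)
    (hz : (Ext.mk₀ g).comp hS.extClass (zero_add 1) = 0) : g = 0 := by
  obtain ⟨x₂, hx₂⟩ := Ext.covariant_sequence_exact₃ K hS (Ext.mk₀ g) (zero_add 1) hz
  obtain ⟨h, rfl⟩ := Ext.addEquiv₀.symm.surjective x₂
  rw [h2 h] at hx₂
  simp only [Ext.addEquiv₀_symm_apply, Ext.mk₀_zero, Ext.zero_comp] at hx₂
  have := congrArg Ext.addEquiv₀ hx₂
  simpa using this.symm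

/-- extension of maps along a monomorphism into the cokernel of a "regular" endomorphism. -/
lemma exists_extension {S : ShortComplex C} (hS : S.ShortExact) {K Q : C} (j : K ⟶ S.X₃)
    (π : S.X₃ ⟶ Q) (w : j ≫ π = 0) (hT : (ShortComplex.mk j π w).ShortExact)
    (h1 : ∀ e : Ext S.X₃ S.X₁ 1, e.comp (Ext.mk₀ S.f) (add_zero 1) = 0)
    (h2 : ∀ h : K ⟶ S.X₂, h = 0)
    (h3 : Subsingleton (Ext Q S.X₁ 2)) (g : K ⟶ S.X₃) :
    ∃ c : S.X₃ ⟶ S.X₃, j ≫ c = g := by
  let e := (Ext.mk₀ g).comp hS.extClass (zero_add 1)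
  obtain ⟨e', he'⟩ := Ext.contravariant_sequence_exact₁ hT S.X₁ e (rfl : 1 + 1 = 2)
    (Subsingleton.elim _ _)
  obtain ⟨α, hα⟩ := Ext.covariant_sequence_exact₁ S.X₃ hS e' (h1 e') (zero_add 1)
  obtain ⟨c, rfl⟩ := Ext.addEquiv₀.symm.surjective α
  refine ⟨c, ?_⟩
  have hz : (Ext.mk₀ (j ≫ c - g)).comp hS.extClass (zero_add 1) = 0 := by
    have h4 : (Ext.mk₀ (j ≫ c)).comp hS.extClass (zero_add 1) = e := by
      rw [← he', ← hα]
      simp only [Ext.addEquiv₀_symm_apply]
      rw [← Ext.mk₀_comp_mk₀, Ext.comp_assoc_of_second_deg_zero]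
    have h5 : Ext.mk₀ (j ≫ c - g) = Ext.mk₀ (j ≫ c) + - Ext.mk₀ g := by
      rw [sub_eq_add_neg, Ext.mk₀_add, Ext.mk₀_neg]
    rw [h5, Ext.add_comp, Ext.neg_comp, h4, add_neg_cancel]
  obtain ⟨x₂, hx₂⟩ := Ext.covariant_sequence_exact₃ K hS (Ext.mk₀ (j ≫ c - g)) (zero_add 1) hz
  obtain ⟨h, rfl⟩ := Ext.addEquiv₀.symm.surjective x₂
  rw [h2 h] at hx₂
  simp only [Ext.addEquiv₀_symm_apply, Ext.mk₀_zero, Ext.zero_comp] at hx₂
  have h6 : j ≫ c - g = 0 := by
    have := congrArg Ext.addEquiv₀ hx₂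
    simpa using this.symm
  exact sub_eq_zero.mp h6

end ExtLemma


section Soc

variable {A : Type u} [CommRing A] [IsLocalRing A] [IsNoetherianRing A]
open IsLocalRing

/-- the map `A/m → A/I`, `1 ↦ s`, for a socle element `s` modulo `I`. -/
noncomputable def socMap (I : Ideal A) (s : A) (h : ∀ a ∈ maximalIdeal A, a * s ∈ I) :
    (A ⧸ maximalIdeal A) →ₗ[A] (A ⧸ I) :=
  Submodule.liftQ (maximalIdeal A) (LinearMap.toSpanSingleton A (A ⧸ I) (Ideal.Quotient.mk I s))
    (fun a ha => by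
      rw [LinearMap.mem_ker, LinearMap.toSpanSingleton_apply]
      change a • (Ideal.Quotient.mk I s) = 0
      rw [Algebra.smul_def, Ideal.Quotient.algebraMap_eq, ← map_mul]
      exact Ideal.Quotient.eq_zero_iff_mem.mpr (h a ha))

omit [IsNoetherianRing A] in
lemma socMap_mk (I : Ideal A) (s : A) (h : ∀ a ∈ maximalIdeal A, a * s ∈ I) (a : A) :
    socMap I s h (Ideal.Quotient.mk _ a) = Ideal.Quotient.mk I (a * s) := by
  change (Submodule.liftQ _ _ _) (Submodule.Quotient.mk a) = _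
  rw [Submodule.liftQ_apply, LinearMap.toSpanSingleton_apply]
  change a • (Ideal.Quotient.mk I s) = _
  rw [Algebra.smul_def, Ideal.Quotient.algebraMap_eq, ← map_mul]

lemma exists_mul_sub_mem (hG : ∃ n : ℕ, HasInjectiveDimensionLT (ModuleCat.of A A) n) (x : A)
    (hxm : x ∈ maximalIdeal A) (hx : IsSMulRegular A x) (s₁ s₂ : A)
    (h₁ : ∀ a ∈ maximalIdeal A, a * s₁ ∈ Ideal.span {x})
    (h₂ : ∀ a ∈ maximalIdeal A, a * s₂ ∈ Ideal.span {x}) (hs₁ : s₁ ∉ Ideal.span {x}) :
    ∃ c : A, s₂ - c * s₁ ∈ Ideal.span {x} := by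
  set I : Ideal A := Ideal.span {x} with hI
  let S : ShortComplex (ModuleCat.{u} A) :=
    ShortComplex.mk (x • 𝟙 (ModuleCat.of A A)) (ModuleCat.ofHom (Submodule.mkQ I)) (by
      ext
      simp only [ModuleCat.hom_comp, ModuleCat.hom_smul, ModuleCat.hom_id, ModuleCat.hom_ofHom,
        LinearMap.coe_comp, Function.comp_apply, LinearMap.smul_apply, LinearMap.id_coe, id_eq,
        smul_eq_mul, mul_one, Submodule.mkQ_apply, ModuleCat.hom_zero, LinearMap.zero_apply]
      exact (Submodule.Quotient.mk_eq_zero I).mpr (Ideal.mem_span_singleton_self x))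
  have hS : S.ShortExact := by
    apply ModuleCat.shortComplex_shortExact
    · intro y
      change (Submodule.mkQ I y = 0) ↔ y ∈ Set.range (fun z : A => x • z)
      rw [Submodule.mkQ_apply, Submodule.Quotient.mk_eq_zero, hI, Ideal.mem_span_singleton']
      constructor
      · rintro ⟨a, rfl⟩; exact ⟨a, mul_comm _ _⟩
      · rintro ⟨a, rfl⟩; exact ⟨a, mul_comm _ _⟩
    · intro a b hab
      exact hx hab
    · exact Submodule.mkQ_surjective I
  let jl := socMap I s₁ h₁
  let gl := socMap I s₂ h₂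
  have hjinj : Function.Injective jl := by
    rw [← LinearMap.ker_eq_bot, LinearMap.ker_eq_bot']
    intro y hy
    obtain ⟨a, rfl⟩ := Ideal.Quotient.mk_surjective y
    rw [socMap_mk, Ideal.Quotient.eq_zero_iff_mem] at hy
    rw [Ideal.Quotient.eq_zero_iff_mem]
    by_contra ha
    have hu : IsUnit a := by
      by_contra hu
      exact ha ((IsLocalRing.mem_maximalIdeal a).mpr hu)
    obtain ⟨u, rfl⟩ := hu
    apply hs₁
    have := I.mul_mem_left (↑u⁻¹ : A) hy
    rwa [← mul_assoc, Units.inv_mul, one_mul] at this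
  let j : ModuleCat.of A (A ⧸ maximalIdeal A) ⟶ S.X₃ := ModuleCat.ofHom jl
  let g : ModuleCat.of A (A ⧸ maximalIdeal A) ⟶ S.X₃ := ModuleCat.ofHom gl
  let π : S.X₃ ⟶ ModuleCat.of A ((A ⧸ I) ⧸ LinearMap.range jl) :=
    ModuleCat.ofHom (LinearMap.range jl).mkQ
  have w : j ≫ π = 0 := by
    refine ModuleCat.hom_ext (LinearMap.ext fun y => ?_)
    simp [j, π]
  have hT : (ShortComplex.mk j π w).ShortExact := by
    apply ModuleCat.shortComplex_shortExact
    · exact LinearMap.exact_map_mkQ_range jl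
    · exact hjinj
    · exact (LinearMap.range jl).mkQ_surjective
  have h1 : ∀ e : Ext S.X₃ S.X₁ 1, e.comp (Ext.mk₀ S.f) (add_zero 1) = 0 := by
    intro e
    refine Groth.Agent.Lib.Helper29.ext_comp_smul_id_eq_zero ?_ e
    change x ∈ Module.annihilator A (A ⧸ I)
    rw [Ideal.annihilator_quotient]
    exact Ideal.mem_span_singleton_self x
  have h2 : ∀ h : ModuleCat.of A (A ⧸ maximalIdeal A) ⟶ S.X₂, h = 0 := by
    intro h
    refine ModuleCat.hom_ext (LinearMap.ext fun y => ?_)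
    change h.hom y = 0
    apply hx
    change x • h.hom y = x • 0
    rw [← map_smul, smul_zero]
    obtain ⟨a, rfl⟩ := Ideal.Quotient.mk_surjective y
    have : x • (Ideal.Quotient.mk (maximalIdeal A) a) = 0 := by
      rw [Algebra.smul_def, Ideal.Quotient.algebraMap_eq, ← map_mul]
      exact Ideal.Quotient.eq_zero_iff_mem.mpr (Ideal.mul_mem_right _ _ hxm)
    rw [this, map_zero]
  have hP : HasInjectiveDimensionLT (ModuleCat.of A A) 2 := by
    obtain ⟨t, ht, -, hPt⟩ := Groth.Agent.Lib.Helper60.gorenstein_data (A := A) hG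
    have ht1 : t ≤ 1 := by
      by_contra hlt
      push Not at hlt
      have h2t : ((2 : ℕ) : ℕ∞) ≤ LocCoh.idealDepth (maximalIdeal A) A := by
        have : LocCoh.idealDepth (maximalIdeal A) A = t := ht
        rw [this]; exact_mod_cast hlt
      have hsub := (Groth.Agent.Lib.Helper29.le_idealDepth_iff_ext' (maximalIdeal A) A 2).mp h2t 1
        (by norm_num)
      have hz : (Ext.mk₀ j).comp hS.extClass (zero_add 1) = 0 := Subsingleton.elim _ _
      have hj0 : j = 0 := eq_zero_of_comp_extClass_eq_zero hS h2 j hz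
      have h7 : jl (Ideal.Quotient.mk _ 1) = 0 := by
        have := congrArg (fun f => f.hom (Ideal.Quotient.mk (maximalIdeal A) 1)) hj0
        exact this
      rw [socMap_mk, one_mul, Ideal.Quotient.eq_zero_iff_mem] at h7
      exact hs₁ h7
    exact hasInjectiveDimensionLT_of_ge (ModuleCat.of A A) (t + 1) 2 (by omega)
  have h3 : Subsingleton (Ext (ModuleCat.of A ((A ⧸ I) ⧸ LinearMap.range jl)) S.X₁ 2) :=
    HasInjectiveDimensionLT.subsingleton _ 2 2 le_rfl _
  obtain ⟨c, hc⟩ := exists_extension hS j π w hT h1 h2 h3 g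
  obtain ⟨c₀, hc₀⟩ := Ideal.Quotient.mk_surjective (c.hom (Ideal.Quotient.mk I 1))
  refine ⟨c₀, ?_⟩
  have h4 := congrArg (fun f => f.hom (Ideal.Quotient.mk (maximalIdeal A) 1)) hc
  simp only [ModuleCat.hom_comp, LinearMap.coe_comp, Function.comp_apply] at h4
  change c.hom (jl (Ideal.Quotient.mk _ 1)) = gl (Ideal.Quotient.mk _ 1) at h4
  rw [socMap_mk, socMap_mk, one_mul, one_mul] at h4
  have h5 : (Ideal.Quotient.mk I s₁ : A ⧸ I) = s₁ • (Ideal.Quotient.mk I 1) := by
    rw [Algebra.smul_def, Ideal.Quotient.algebraMap_eq, ← map_mul, mul_one]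
  rw [h5, map_smul, ← hc₀, Algebra.smul_def, Ideal.Quotient.algebraMap_eq, ← map_mul] at h4
  rw [← Ideal.Quotient.eq_zero_iff_mem, map_sub, ← h4, mul_comm, sub_self]

end Soc


section MC

open PowerSeries

variable (k : Type u) [Field k] (n : ℕ)

/-- the multicross ring: tuples of power series with a common constant term. -/
def Bsub : Subring (Fin n → PowerSeries k) where
  carrier := {f | ∀ i j : Fin n, constantCoeff (f i) = constantCoeff (f j)}
  mul_mem' := fun {f g} hf hg i j => by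
    simp only [Pi.mul_apply, map_mul]; rw [hf i j, hg i j]
  one_mem' := fun i j => by simp
  add_mem' := fun {f g} hf hg i j => by
    simp only [Pi.add_apply, map_add]; rw [hf i j, hg i j]
  zero_mem' := fun i j => by simp
  neg_mem' := fun {f} hf i j => by
    simp only [Pi.neg_apply, map_neg]; rw [hf i j]

variable {k n}

lemma mem_Bsub {f : Fin n → PowerSeries k} :
    f ∈ Bsub k n ↔ ∀ i j : Fin n, constantCoeff (f i) = constantCoeff (f j) := Iff.rfl

lemma mem_Bsub_of_const_zero {f : Fin n → PowerSeries k} (h : ∀ i, constantCoeff (f i) = 0) :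
    f ∈ Bsub k n := fun i j => by rw [h i, h j]

/-- an element of the multicross ring with nonzero constant term is a unit there. -/
lemma exists_inv_of_const_ne_zero {f : Fin n → PowerSeries k} (hf : f ∈ Bsub k n)
    (h : ∀ i, constantCoeff (f i) ≠ 0) : ∃ g ∈ Bsub k n, f * g = 1 := by
  refine ⟨fun i => (f i)⁻¹, fun i j => ?_, ?_⟩
  · simp only [PowerSeries.constantCoeff_inv]
    rw [hf i j]
  · funext i
    simp only [Pi.mul_apply, Pi.one_apply]
    exact PowerSeries.mul_inv_cancel _ (h i)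

/-- divisibility by a high power of the uniformizer implies divisibility by `x` in the
multicross ring. -/
lemma exists_pow_dvd_imp (x : Fin n → PowerSeries k) (hx : ∀ i, x i ≠ 0) :
    ∃ N : ℕ, ∀ f : Fin n → PowerSeries k, (∀ i, (X : PowerSeries k) ^ N ∣ f i) →
      ∃ g ∈ Bsub k n, f = x * g := by
  have h1 : ∀ i, ∃ N : ℕ, x i ∣ (X : PowerSeries k) ^ N := by
    intro i
    obtain ⟨N, hN⟩ := IsDiscreteValuationRing.associated_pow_irreducible (hx i)
      (PowerSeries.X_prime.irreducible)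
    exact ⟨N, hN.dvd⟩
  choose N hN using h1
  refine ⟨(Finset.univ.sup N) + 1, fun f hf => ?_⟩
  have h2 : ∀ i, ∃ g : PowerSeries k, f i = x i * g ∧ constantCoeff g = 0 := by
    intro i
    have hle : N i + 1 ≤ Finset.univ.sup N + 1 :=
      Nat.succ_le_succ (Finset.le_sup (f := N) (Finset.mem_univ i))
    obtain ⟨h, hh⟩ := (pow_dvd_pow (X : PowerSeries k) hle).trans (hf i)
    obtain ⟨d, hd⟩ := hN i
    refine ⟨d * X * h, ?_, by simp⟩
    rw [hh, pow_succ, hd]; ring
  choose g hg hg0 using h2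
  exact ⟨g, mem_Bsub_of_const_zero hg0, funext fun i => hg i⟩

/-- the socle element supported at `i₀`. -/
lemma mul_single_eq (x f : Fin n → PowerSeries k) (i₀ : Fin n) :
    f * Pi.single i₀ (x i₀) = x * Pi.single i₀ (f i₀) := by
  funext i
  by_cases h : i = i₀
  · subst h; simp [mul_comm]
  · simp [Pi.single_eq_of_ne h]

lemma single_mem_Bsub (i₀ : Fin n) (a : PowerSeries k) (ha : constantCoeff a = 0) :
    Pi.single i₀ a ∈ Bsub k n := by
  apply mem_Bsub_of_const_zero
  intro i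
  by_cases h : i = i₀
  · subst h; simpa using ha
  · simp [Pi.single_eq_of_ne h]

lemma single_ne_mul (x : Fin n → PowerSeries k) (hx : ∀ i, x i ≠ 0) (i₀ i₁ : Fin n)
    (h01 : i₀ ≠ i₁) (g : Fin n → PowerSeries k) (hg : g ∈ Bsub k n) :
    Pi.single i₀ (x i₀) ≠ x * g := by
  intro h
  have h0 := congrFun h i₀
  have h1 := congrFun h i₁
  simp only [Pi.single_eq_same, Pi.mul_apply] at h0
  rw [Pi.single_eq_of_ne h01.symm, Pi.mul_apply] at h1
  have hg0 : g i₀ = 1 := by
    have : x i₀ * 1 = x i₀ * g i₀ := by rw [mul_one]; exact h0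
    exact (mul_left_cancel₀ (hx i₀) this).symm
  have hg1 : g i₁ = 0 := by
    rcases mul_eq_zero.mp h1.symm with h | h
    · exact absurd h (hx i₁)
    · exact h
  have := hg i₀ i₁
  rw [hg0, hg1] at this
  simp at this

lemma single_sub_ne_mul (x : Fin n → PowerSeries k) (hx : ∀ i, x i ≠ 0) (i₀ i₁ i₂ : Fin n)
    (h01 : i₀ ≠ i₁) (h02 : i₀ ≠ i₂) (h12 : i₁ ≠ i₂) (c g : Fin n → PowerSeries k)
    (hg : g ∈ Bsub k n) :
    Pi.single i₁ (x i₁) - c * Pi.single i₀ (x i₀) ≠ x * g := by
  intro h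
  have h1 := congrFun h i₁
  have h2 := congrFun h i₂
  simp only [Pi.sub_apply, Pi.mul_apply, Pi.single_eq_same] at h1
  rw [Pi.single_eq_of_ne h01.symm, mul_zero, sub_zero] at h1
  simp only [Pi.sub_apply, Pi.mul_apply] at h2
  rw [Pi.single_eq_of_ne h12.symm, Pi.single_eq_of_ne h02.symm, mul_zero, sub_zero] at h2
  have hg1 : g i₁ = 1 := by
    have : x i₁ * 1 = x i₁ * g i₁ := by rw [mul_one]; exact h1
    exact (mul_left_cancel₀ (hx i₁) this).symm
  have hg2 : g i₂ = 0 := by
    rcases mul_eq_zero.mp h2.symm with h | h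
    · exact absurd h (hx i₂)
    · exact h
  have := hg i₁ i₂
  rw [hg1, hg2] at this
  simp at this

end MC

/-- In this form A is the local ring of the curve at the point, and a Gorenstein scheme has Gorenstein
local rings. Let k be an algebraically closed field and A a Gorenstein local ring whose completion
with respect to its maximal ideal is isomorphic to the multicross ring with n ≥ 2 branches, the
subring of (k[[t]])^n consisting of the n-tuples of power series having a common constant term. Then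
n = 2: a Gorenstein multicross singularity is a node. The isomorphism is given as an injective ring
map from the completion to (k[[t]])^n with that subring as its range. -/
theorem result (k : Type u) [Field k] [IsAlgClosed k]
    (A : Type u) [CommRing A] [LocCoh.IsGorensteinLocalRing A] (n : ℕ) (hn : 2 ≤ n)
    (φ : AdicCompletion (IsLocalRing.maximalIdeal A) A →+* (Fin n → PowerSeries k))
    (hinj : Function.Injective φ)
    (hrange : Set.range φ = {f : Fin n → PowerSeries k | ∀ i j : Fin n, PowerSeries.constantCoeff (f i) = PowerSeries.constantCoeff (f j)}) :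
    n = 2 := by
  classical
  by_contra hne
  have hn3 : 3 ≤ n := by omega
  have hm : (IsLocalRing.maximalIdeal A) ≠ ⊤ := Ideal.IsPrime.ne_top'
  have hlocC : IsLocalRing (AdicCompletion (IsLocalRing.maximalIdeal A) A) :=
    Groth.Agent.Lib.Helper29.isLocalRing_adicCompletion A (IsLocalRing.maximalIdeal A) hm
  have hmaxC := Groth.Agent.Lib.Helper29.maximalIdeal_adicCompletion_eq_map A (IsLocalRing.maximalIdeal A) hm
  have hlh : IsLocalHom (algebraMap A (AdicCompletion (IsLocalRing.maximalIdeal A) A)) :=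
    Groth.Agent.Lib.Helper29.isLocalHom_algebraMap_adicCompletion A (IsLocalRing.maximalIdeal A) hm
  have hff : Module.FaithfullyFlat A (AdicCompletion (IsLocalRing.maximalIdeal A) A) :=
    Module.FaithfullyFlat.of_flat_of_isLocalHom
  have hιinj : Function.Injective (algebraMap A (AdicCompletion (IsLocalRing.maximalIdeal A) A)) :=
    FaithfulSMul.algebraMap_injective A (AdicCompletion (IsLocalRing.maximalIdeal A) A)
  set ι := algebraMap A (AdicCompletion (IsLocalRing.maximalIdeal A) A) with hι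
  set ψ : A →+* (Fin n → PowerSeries k) := φ.comp ι with hψ
  have hψinj : Function.Injective ψ := hinj.comp hιinj
  -- membership in the multicross ring
  have hφB : ∀ a, φ a ∈ Bsub k n := by
    intro a
    have : φ a ∈ Set.range φ := ⟨a, rfl⟩
    rw [hrange] at this
    exact this
  have hBφ : ∀ f ∈ Bsub k n, ∃ a, φ a = f := by
    intro f hf
    have : f ∈ Set.range φ := by rw [hrange]; exact hf
    exact this
  have hψB : ∀ a, ψ a ∈ Bsub k n := fun a => hφB (ι a)
  -- (F1) elements of the maximal ideal have zero constant terms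
  have hF1 : ∀ a ∈ (IsLocalRing.maximalIdeal A), ∀ i, PowerSeries.constantCoeff (ψ a i) = 0 := by
    intro a ha i
    by_contra hc
    have hall : ∀ j, PowerSeries.constantCoeff (ψ a j) ≠ 0 := fun j => by
      rw [hψB a j i]; exact hc
    obtain ⟨g, hg, hfg⟩ := exists_inv_of_const_ne_zero (hψB a) hall
    obtain ⟨b, rfl⟩ := hBφ g hg
    have h1 : φ (ι a * b) = φ 1 := by rw [map_mul, map_one]; exact hfg
    have h2 : ι a * b = 1 := hinj h1
    have hu : IsUnit (ι a) := IsUnit.of_mul_eq_one _ h2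
    have hua : IsUnit a := hlh.map_nonunit a hu
    exact (IsLocalRing.mem_maximalIdeal a).mp ha hua
  -- the diagonal uniformizer
  let T : Fin n → PowerSeries k := fun _ => PowerSeries.X
  have hTB : T ∈ Bsub k n := fun i j => rfl
  -- (F2) a regular element
  have hex : ∃ x ∈ (IsLocalRing.maximalIdeal A), ∀ i, ψ x i ≠ 0 := by
    let P : Fin n → Ideal A := fun i => RingHom.ker ((Pi.evalRingHom (fun _ => PowerSeries k) i).comp ψ)
    have hPprime : ∀ i, (P i).IsPrime := fun i => RingHom.ker_isPrime _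
    have hnot : ¬ (((IsLocalRing.maximalIdeal A) : Set A) ⊆ ⋃ i ∈ ((Finset.univ : Finset (Fin n)) : Set (Fin n)), (P i : Set A)) := by
      rw [Ideal.subset_union_prime (⟨0, by omega⟩ : Fin n) (⟨0, by omega⟩ : Fin n) (fun i _ _ _ => hPprime i)]
      rintro ⟨i, -, hle⟩
      obtain ⟨τ, hτ⟩ := hBφ T hTB
      have hτm : τ ∈ IsLocalRing.maximalIdeal (AdicCompletion (IsLocalRing.maximalIdeal A) A) := by
        rw [IsLocalRing.mem_maximalIdeal]
        intro hu
        have hu2 : IsUnit (φ τ) := hu.map φ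
        rw [hτ] at hu2
        have hu3 : IsUnit (T i) := hu2.map (Pi.evalRingHom (fun _ => PowerSeries k) i)
        exact PowerSeries.X_prime.not_isUnit hu3
      rw [hmaxC] at hτm
      have hle2 : (IsLocalRing.maximalIdeal A).map ι ≤ Ideal.comap φ (RingHom.ker (Pi.evalRingHom (fun _ => PowerSeries k) i)) := by
        rw [Ideal.map_le_iff_le_comap]
        intro a ha
        have := hle ha
        simpa [P, RingHom.mem_ker, ψ] using this
      have := hle2 hτm
      rw [Ideal.mem_comap, RingHom.mem_ker, hτ] at this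
      exact PowerSeries.X_ne_zero this
    rw [Set.not_subset] at hnot
    obtain ⟨x, hxm, hx⟩ := hnot
    refine ⟨x, hxm, fun i hi => hx ?_⟩
    simp only [Set.mem_iUnion, Finset.coe_univ, Set.mem_univ, exists_prop, true_and, SetLike.mem_coe]
    exact ⟨i, by simpa [P, RingHom.mem_ker] using hi⟩
  obtain ⟨x, hxm, hxne⟩ := hex
  have hxreg : IsSMulRegular A x := by
    intro a b hab
    have h1 : ψ x * ψ (a - b) = 0 := by
      rw [← map_mul, mul_sub]
      have : x * a = x * b := hab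
      rw [this, sub_self, map_zero]
    have h2 : ψ (a - b) = 0 := by
      funext i
      have := congrFun h1 i
      simp only [Pi.mul_apply, Pi.zero_apply] at this
      rcases mul_eq_zero.mp this with h | h
      · exact absurd h (hxne i)
      · exact h
    have h3 : a - b = 0 := hψinj (by rw [h2, map_zero])
    exact sub_eq_zero.mp h3
  -- (F3) contraction of the principal ideal
  have hF3 : ∀ a, (∃ g ∈ Bsub k n, ψ a = ψ x * g) → a ∈ Ideal.span {x} := by
    rintro a ⟨g, hg, hag⟩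
    obtain ⟨b, rfl⟩ := hBφ g hg
    have h1 : ι a = ι x * b := hinj (by rw [map_mul]; exact hag)
    have h2 : ι a ∈ (Ideal.span {x}).map ι := by
      rw [h1]
      exact Ideal.mul_mem_right _ _ (Ideal.mem_map_of_mem _ (Ideal.mem_span_singleton_self x))
    have h3 : a ∈ ((Ideal.span {x}).map ι).comap ι := h2
    rwa [Ideal.comap_map_eq_self_of_faithfullyFlat] at h3
  -- (F4) approximation modulo x
  obtain ⟨N, hN⟩ := exists_pow_dvd_imp (fun i => ψ x i) hxne
  have hmT : (IsLocalRing.maximalIdeal A).map ψ ≤ Ideal.span {T} := by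
    rw [Ideal.map_le_iff_le_comap]
    intro a ha
    rw [Ideal.mem_comap, Ideal.mem_span_singleton']
    have h1 : ∀ i, ∃ h : PowerSeries k, h * PowerSeries.X = ψ a i := by
      intro i
      obtain ⟨h, hh⟩ := PowerSeries.X_dvd_iff.mpr (hF1 a ha i)
      exact ⟨h, by rw [hh, mul_comm]⟩
    choose h hh using h1
    exact ⟨h, funext fun i => hh i⟩
  have hF4 : ∀ σ ∈ Bsub k n, ∃ a : A, ∃ g ∈ Bsub k n, σ - ψ a = ψ x * g := by
    intro σ hσ
    obtain ⟨σ', rfl⟩ := hBφ σ hσ
    obtain ⟨a, ha⟩ := Ideal.Quotient.mk_surjective (AdicCompletion.evalₐ (IsLocalRing.maximalIdeal A) N σ')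
    have hker : σ' - ι a ∈ RingHom.ker (AdicCompletion.evalₐ (IsLocalRing.maximalIdeal A) N).toRingHom := by
      rw [RingHom.mem_ker, map_sub, sub_eq_zero]
      change AdicCompletion.evalₐ (IsLocalRing.maximalIdeal A) N σ' = AdicCompletion.evalₐ (IsLocalRing.maximalIdeal A) N (algebraMap A _ a)
      rw [AlgHom.commutes, ← ha]
      rfl
    rw [Groth.Agent.Lib.Helper18.ker_evalₐ_eq_map_pow (IsLocalRing.maximalIdeal A) (Ideal.fg_of_isNoetherianRing (IsLocalRing.maximalIdeal A)) N] at hker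
    have h1 : φ (σ' - ι a) ∈ (((IsLocalRing.maximalIdeal A).map ι) ^ N).map φ := Ideal.mem_map_of_mem _ hker
    rw [Ideal.map_pow, Ideal.map_map] at h1
    have h2 : φ (σ' - ι a) ∈ Ideal.span {T ^ N} := by
      rw [← Ideal.span_singleton_pow]
      exact Ideal.pow_right_mono hmT N h1
    rw [Ideal.mem_span_singleton'] at h2
    obtain ⟨h, hh⟩ := h2
    have h3 : ∀ i, (PowerSeries.X : PowerSeries k) ^ N ∣ (φ σ' - ψ a) i := by
      intro i
      refine ⟨h i, ?_⟩
      have := congrFun hh i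
      simp only [Pi.mul_apply, Pi.pow_apply, map_sub] at this
      rw [mul_comm]
      exact this.symm
    obtain ⟨g, hg, hfg⟩ := hN _ h3
    exact ⟨a, g, hg, hfg⟩
  -- the three indices
  let i₀ : Fin n := ⟨0, by omega⟩
  let i₁ : Fin n := ⟨1, by omega⟩
  let i₂ : Fin n := ⟨2, by omega⟩
  have h01 : i₀ ≠ i₁ := by simp [i₀, i₁, Fin.ext_iff]
  have h02 : i₀ ≠ i₂ := by simp [i₀, i₂, Fin.ext_iff]
  have h12 : i₁ ≠ i₂ := by simp [i₁, i₂, Fin.ext_iff]
  have hσB : ∀ i, Pi.single i (ψ x i) ∈ Bsub k n := fun i =>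
    single_mem_Bsub i _ (hF1 x hxm i)
  obtain ⟨s₁, g₁, hg₁, hs₁⟩ := hF4 _ (hσB i₀)
  obtain ⟨s₂, g₂, hg₂, hs₂⟩ := hF4 _ (hσB i₁)
  -- socle conditions
  have hsoc : ∀ (i : Fin n) (s : A) (g : Fin n → PowerSeries k), g ∈ Bsub k n →
      Pi.single i (ψ x i) - ψ s = ψ x * g → ∀ a ∈ (IsLocalRing.maximalIdeal A), a * s ∈ Ideal.span {x} := by
    intro i s g hg hs a ha
    apply hF3
    refine ⟨Pi.single i (ψ a i) - ψ a * g, ?_, ?_⟩
    · exact Subring.sub_mem _ (single_mem_Bsub i _ (hF1 a ha i)) (Subring.mul_mem _ (hψB a) hg)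
    · have h1 : ψ s = Pi.single i (ψ x i) - ψ x * g := by rw [← hs]; ring
      rw [map_mul, h1, mul_sub, mul_single_eq (fun j => ψ x j) (ψ a) i]
      ring
  have hh₁ := hsoc i₀ s₁ g₁ hg₁ hs₁
  have hh₂ := hsoc i₁ s₂ g₂ hg₂ hs₂
  have hs₁' : s₁ ∉ Ideal.span {x} := by
    intro hmem
    rw [Ideal.mem_span_singleton'] at hmem
    obtain ⟨b, hb⟩ := hmem
    refine single_ne_mul (fun j => ψ x j) hxne i₀ i₁ h01 (ψ b + g₁)
      (Subring.add_mem _ (hψB b) hg₁) ?_
    have h1 : ψ s₁ = ψ b * ψ x := by rw [← map_mul, hb]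
    have h2 : Pi.single i₀ (ψ x i₀) = ψ s₁ + ψ x * g₁ := by rw [← hs₁]; ring
    rw [h2, h1]
    change ψ b * ψ x + ψ x * g₁ = ψ x * (ψ b + g₁)
    ring
  have hG : ∃ d : ℕ, HasInjectiveDimensionLT (ModuleCat.of A A) d :=
    LocCoh.IsGorensteinLocalRing.exists_hasInjectiveDimensionLT
  obtain ⟨c, hc⟩ := exists_mul_sub_mem hG x hxm hxreg s₁ s₂ hh₁ hh₂ hs₁'
  rw [Ideal.mem_span_singleton'] at hc
  obtain ⟨b, hb⟩ := hc
  refine single_sub_ne_mul (fun j => ψ x j) hxne i₀ i₁ i₂ h01 h02 h12 (ψ c)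
    (ψ b + g₂ - ψ c * g₁)
    (Subring.sub_mem _ (Subring.add_mem _ (hψB b) hg₂) (Subring.mul_mem _ (hψB c) hg₁)) ?_
  have h1 : ψ s₂ - ψ c * ψ s₁ = ψ b * ψ x := by rw [← map_mul, ← map_mul, ← map_sub, hb]
  have h2 : Pi.single i₁ (ψ x i₁) = ψ s₂ + ψ x * g₂ := by rw [← hs₂]; ring
  have h3 : Pi.single i₀ (ψ x i₀) = ψ s₁ + ψ x * g₁ := by rw [← hs₁]; ring
  rw [h2, h3]
  change ψ s₂ + ψ x * g₂ - ψ c * (ψ s₁ + ψ x * g₁) = ψ x * (ψ b + g₂ - ψ c * g₁)
  have h4 : ψ s₂ = ψ c * ψ s₁ + ψ b * ψ x := by rw [← h1]; ring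
  rw [h4]
  ring

end Groth.Agent.S12217
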