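import Groth.Statements.S12226
import Groth.Agent.Lib.Helper80.UnitIsoDepth
import Groth.Agent.Lib.Helper80.ModHartogsConv

set_option autoImplicit false
universe u
open CategoryTheory CategoryTheory.Limits AlgebraicGeometry TopologicalSpace
open LocCoh

namespace Groth.Agent.S12226


/-- Let j : U → X be the inclusion of an open subscheme of a Noetherian scheme X and F a coherent
O_X-module such that F' = j_*(F|_U) is coherent. Then (a) for every point x of X outside U the stalk
F'_x has depth at least 2 over O_{X,x}, and (b) F → F' is the unique map with these properties: for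
every coherent O_X-module G and every map φ : F → G whose restriction to U is an isomorphism and
such that depth(G_x) ≥ 2 for all x outside U, there is exactly one map ψ : G → F' whose composite
with φ is the canonical map F → j_*(F|_U), and this ψ is an isomorphism. (The compatibility of this
construction with flat base change is not part of this statement.) -/
theorem result (X : Scheme.{u}) [IsNoetherian X] (U : X.Opens)
    (F : X.Modules) (hF : Coh.IsCoh F) (hF' : Coh.IsCoh ((Coh.push U.ι).obj (F.restrict U.ι))) :
    (∀ x : ↥X, x ∉ U → (2 : ℕ∞) ≤ LocCoh.depth (X.presheaf.stalk x)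
        (((Coh.push U.ι).obj (F.restrict U.ι)).presheaf.stalk x)) ∧
    ∀ (G : X.Modules) (hG : Coh.IsCoh G) (φ : F ⟶ G),
      IsIso ((Scheme.Modules.restrictFunctor U.ι).map φ) →
      (∀ x : ↥X, x ∉ U → (2 : ℕ∞) ≤ LocCoh.depth (X.presheaf.stalk x) (G.presheaf.stalk x)) →
        (∃! ψ : G ⟶ (Coh.push U.ι).obj (F.restrict U.ι),
            φ ≫ ψ = (Scheme.Modules.restrictAdjunction U.ι).unit.app F) ∧
          ∀ ψ : G ⟶ (Coh.push U.ι).obj (F.restrict U.ι),
            φ ≫ ψ = (Scheme.Modules.restrictAdjunction U.ι).unit.app F → IsIso ψ := by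
  refine ⟨fun x hx => ?_, ?_⟩
  · refine Groth.Agent.Lib.Helper80.two_le_depth_of_res_bijective _ hF' U (fun V => ?_) x hx
    refine Groth.Agent.Lib.Helper49.ZClosure.map_bijective_of_eq F
      (U.ι.opensFunctor.map ((TopologicalSpace.Opens.map U.ι.base).map
        (homOfLE (inf_le_left : V ⊓ U ≤ V)))) ?_
    change U.ι ''ᵁ U.ι ⁻¹ᵁ (V ⊓ U) = U.ι ''ᵁ U.ι ⁻¹ᵁ V
    rw [ZClos.ι_image_preimage, ZClos.ι_image_preimage, ← inf_assoc, inf_comm U V, inf_assoc,
      inf_idem]
  · intro G hG φ hφ hdepth
    haveI := hφ
    haveI hη : IsIso ((Scheme.Modules.restrictAdjunction U.ι).unit.app G) :=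
      Groth.Agent.Lib.Helper80.isIso_unit_of_depth G hG U hdepth
    have key : ∀ ψ : G ⟶ (Coh.push U.ι).obj (F.restrict U.ι),
        φ ≫ ψ = (Scheme.Modules.restrictAdjunction U.ι).unit.app F ↔
          ψ = (Scheme.Modules.restrictAdjunction U.ι).unit.app G ≫
            (Scheme.Modules.pushforward U.ι).map
              (inv ((Scheme.Modules.restrictFunctor U.ι).map φ)) := by
      intro ψ
      constructor
      · intro h
        have h1 : ψ = (Scheme.Modules.restrictAdjunction U.ι).homEquiv _ _
            (((Scheme.Modules.restrictAdjunction U.ι).homEquiv _ _).symm ψ) :=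
          (Equiv.apply_symm_apply _ _).symm
        have h2 : (Scheme.Modules.restrictFunctor U.ι).map φ ≫
            ((Scheme.Modules.restrictAdjunction U.ι).homEquiv _ _).symm ψ = 𝟙 _ := by
          apply ((Scheme.Modules.restrictAdjunction U.ι).homEquiv _ _).injective
          rw [Adjunction.homEquiv_naturality_left, Equiv.apply_symm_apply, h,
            Adjunction.homEquiv_unit, CategoryTheory.Functor.map_id]
          exact (Category.comp_id _).symm
        have h3 : ((Scheme.Modules.restrictAdjunction U.ι).homEquiv _ _).symm ψ =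
            inv ((Scheme.Modules.restrictFunctor U.ι).map φ) := by
          rw [← cancel_epi ((Scheme.Modules.restrictFunctor U.ι).map φ), h2, IsIso.hom_inv_id]
        rw [h1, h3, Adjunction.homEquiv_unit]
      · rintro rfl
        have hnat := (Scheme.Modules.restrictAdjunction U.ι).unit.naturality φ
        simp only [Functor.id_obj, Functor.id_map, Functor.comp_obj, Functor.comp_map] at hnat
        rw [← Category.assoc, hnat, Category.assoc, ← CategoryTheory.Functor.map_comp, IsIso.hom_inv_id,
          CategoryTheory.Functor.map_id]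
        exact Category.comp_id _
    refine ⟨⟨_, (key _).mpr rfl, fun ψ hψ => (key ψ).mp hψ⟩, fun ψ hψ => ?_⟩
    rw [(key ψ).mp hψ]
    infer_instance

end Groth.Agent.S12226
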