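import Groth.Statements.S12228
import Mathlib.Algebra.Homology.DerivedCategory.Fractions
-- import your own Groth.Agent.* helpers here

set_option autoImplicit false
universe w v u
open CategoryTheory CategoryTheory.Limits
open CohDer

namespace Groth.Agent.S12228

section helpers

set_option backward.isDefEq.respectTransparency false in
open HomologicalComplex in
lemma isIso_πTruncGE_f {ι ι' : Type*} {c : ComplexShape ι} {c' : ComplexShape ι'}
    {C : Type*} [Category C] [HasZeroMorphisms C] [HasZeroObject C]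
    (K : HomologicalComplex C c') (e : c.Embedding c') [e.IsTruncGE]
    [∀ i', K.HasHomology i'] (i : ι) (hi : ¬ e.BoundaryGE i) :
    IsIso ((K.πTruncGE e).f (e.f i)) := by
  dsimp [HomologicalComplex.πTruncGE]
  rw [e.isIso_liftExtend_f_iff _ _ rfl]
  exact K.isIso_restrictionToTruncGE' e i hi

open HomologicalComplex in
lemma isIso_ιTruncLE_f {ι ι' : Type*} {c : ComplexShape ι} {c' : ComplexShape ι'}
    {C : Type*} [Category C] [HasZeroMorphisms C] [HasZeroObject C]
    (K : HomologicalComplex C c') (e : c.Embedding c') [e.IsTruncLE]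
    [∀ i', K.HasHomology i'] (i : ι) (hi : ¬ e.BoundaryLE i) :
    IsIso ((K.ιTruncLE e).f (e.f i)) := by
  have h1 : IsIso ((K.op.πTruncGE e.op).f (e.f i)) := isIso_πTruncGE_f K.op e.op i (by simpa)
  exact inferInstanceAs (IsIso ((K.op.πTruncGE e.op).f (e.f i)).unop)

lemma isIso_cochain_ιTruncLE_f {C : Type*} [Category C] [Abelian C]
    (K : CochainComplex C ℤ) (n i : ℤ) (hi : i < n) :
    IsIso ((K.ιTruncLE n).f i) := by
  have h1 : (ComplexShape.embeddingUpIntLE n).f (n - i).natAbs = i := by
    show n - ((n - i).natAbs : ℤ) = i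
    rw [Int.natAbs_of_nonneg (by lia), sub_sub_cancel]
  have := isIso_ιTruncLE_f K (ComplexShape.embeddingUpIntLE n) (n - i).natAbs (fun h => by
    rw [ComplexShape.boundaryLE_embeddingUpIntLE_iff, Int.natAbs_eq_zero] at h
    lia)
  rw [h1] at this
  exact this

/-- Lifting a homotopy through a degreewise monomorphism. -/
noncomputable def liftHomotopy {C : Type*} [Category C] [Preadditive C]
    {K Z' Z : CochainComplex C ℤ} (ι : Z' ⟶ Z) [∀ i, Mono (ι.f i)] (g₁ g₂ : K ⟶ Z')
    (h : Homotopy (g₁ ≫ ι) (g₂ ≫ ι))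
    (H : ∀ i, IsZero (K.X (i + 1)) ∨ IsIso (ι.f i)) : Homotopy g₁ g₂ := by
  classical
  let hom : ∀ i j, K.X i ⟶ Z'.X j := fun i j =>
    if hij : j + 1 = i ∧ IsIso (ι.f j) then
      haveI := hij.2
      h.hom i j ≫ inv (ι.f j)
    else 0
  have key : ∀ i j, j + 1 = i → hom i j ≫ ι.f j = h.hom i j := by
    intro i j hij
    by_cases hiso : IsIso (ι.f j)
    · simp only [hom, dif_pos (And.intro hij hiso)]
      simp
    · have hz : IsZero (K.X i) := by
        rcases H j with hz | hz
        · rw [← hij]; exact hz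
        · exact absurd hz hiso
      exact hz.eq_of_src _ _
  refine ⟨hom, ?_, ?_⟩
  · intro i j hij
    simp only [hom]
    rw [dif_neg]
    intro h'
    exact hij h'.1
  · intro i
    rw [← cancel_mono (ι.f i)]
    have hc := h.comm i
    rw [dNext_eq _ (show (ComplexShape.up ℤ).Rel i (i + 1) from rfl),
      prevD_eq _ (show (ComplexShape.up ℤ).Rel (i - 1) i by simp)] at hc ⊢
    simp only [HomologicalComplex.comp_f] at hc
    rw [hc]
    simp only [Preadditive.add_comp, Category.assoc]
    rw [key (i + 1) i rfl, ← ι.comm (i - 1) i, ← Category.assoc (hom i (i - 1)),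
      key i (i - 1) (by simp)]

end helpers

/-- Full faithfulness of Kᵇ(A)[Qis⁻¹] → Dᵇ(A), written in terms of roofs. Let A be an abelian category
and K, L bounded complexes (zero outside a finite range of degrees), viewed in the homotopy
category. Then every morphism Qh(K) → Qh(L) in the derived category is Qh(f) ≫ Qh(t)⁻¹ for some map
f : K → L' and quasi-isomorphism t : L → L' of K(A) with L' again bounded; and two maps f₁, f₂ : K →
L of K(A) become equal in D(A) only if f₁ ≫ t = f₂ ≫ t for some quasi-isomorphism t : L → L' with L'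
bounded. -/
theorem result {A : Type u} [Category.{v} A] [Abelian A] [HasDerivedCategory.{w} A]
    (K L : HomotopyCategory A (ComplexShape.up ℤ)) (a b a' b' : ℤ) [CochainComplex.IsStrictlyGE K.as a] [CochainComplex.IsStrictlyLE K.as b]
    [CochainComplex.IsStrictlyGE L.as a'] [CochainComplex.IsStrictlyLE L.as b'] :
    (∀ φ : DerivedCategory.Qh.obj K ⟶ DerivedCategory.Qh.obj L,
      ∃ (L' : HomotopyCategory A (ComplexShape.up ℤ)) (m n : ℤ) (_ : CochainComplex.IsStrictlyGE L'.as m) (_ : CochainComplex.IsStrictlyLE L'.as n) (f : K ⟶ L') (t : L ⟶ L'),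
        HomotopyCategory.quasiIso A (ComplexShape.up ℤ) t ∧ φ ≫ DerivedCategory.Qh.map t = DerivedCategory.Qh.map f) ∧
    (∀ f₁ f₂ : K ⟶ L, DerivedCategory.Qh.map f₁ = DerivedCategory.Qh.map f₂ →
      ∃ (L' : HomotopyCategory A (ComplexShape.up ℤ)) (m n : ℤ) (_ : CochainComplex.IsStrictlyGE L'.as m) (_ : CochainComplex.IsStrictlyLE L'.as n) (t : L ⟶ L'),
        HomotopyCategory.quasiIso A (ComplexShape.up ℤ) t ∧ f₁ ≫ t = f₂ ≫ t) := by
  have hKb : CochainComplex.IsStrictlyLE K.as (max b b') :=
    CochainComplex.isStrictlyLE_of_le K.as b _ (le_max_left _ _)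
  have hLb : CochainComplex.IsStrictlyLE L.as (max b b') :=
    CochainComplex.isStrictlyLE_of_le L.as b' _ (le_max_right _ _)
  obtain ⟨K, rfl⟩ := HomotopyCategory.quotient_obj_surjective K
  obtain ⟨L, rfl⟩ := HomotopyCategory.quotient_obj_surjective L
  have hK1 : CochainComplex.IsStrictlyLE K (max b b') := hKb
  have hL1 : CochainComplex.IsStrictlyLE L (max b b') := hLb
  have hL2 : CochainComplex.IsStrictlyGE L a' := ‹_›
  constructor
  · intro φ
    obtain ⟨Y', hY'1, hY'2, g, s, hs, hfac⟩ :=
      DerivedCategory.left_fac_of_isStrictlyLE_of_isStrictlyGE (X := K) (Y := L) a' (max b b') φ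
    refine ⟨(HomotopyCategory.quotient _ _).obj Y', a', max b b', hY'1, hY'2,
      (HomotopyCategory.quotient _ _).map g, (HomotopyCategory.quotient _ _).map s, ?_, ?_⟩
    · rw [HomotopyCategory.quotient_map_mem_quasiIso_iff, HomologicalComplex.mem_quasiIso_iff]
      exact (DerivedCategory.isIso_Q_map_iff_quasiIso (φ := s)).1 hs
    · rw [hfac]
      exact (Category.assoc _ _ _).trans ((IsIso.inv_hom_id (DerivedCategory.Q.map s)) ▸
        Category.comp_id _)
  · intro f₁ f₂ h
    obtain ⟨Z, s, hs, hfac⟩ := (MorphismProperty.map_eq_iff_postcomp DerivedCategory.Qh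
      (HomotopyCategory.quasiIso A (ComplexShape.up ℤ)) f₁ f₂).1 h
    obtain ⟨Z, rfl⟩ := HomotopyCategory.quotient_obj_surjective Z
    obtain ⟨s, rfl⟩ := (HomotopyCategory.quotient _ _).map_surjective s
    obtain ⟨f₁, rfl⟩ := (HomotopyCategory.quotient _ _).map_surjective f₁
    obtain ⟨f₂, rfl⟩ := (HomotopyCategory.quotient _ _).map_surjective f₂
    rw [HomotopyCategory.quotient_map_mem_quasiIso_iff, HomologicalComplex.mem_quasiIso_iff] at hs
    rw [← Functor.map_comp, ← Functor.map_comp] at hfac
    have h0 : Homotopy (f₁ ≫ s) (f₂ ≫ s) := HomotopyCategory.homotopyOfEq _ _ hfac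
    -- truncate below
    let Z1 := CochainComplex.truncGE Z a'
    let s1 : L ⟶ Z1 := s ≫ CochainComplex.πTruncGE Z a'
    have hs1 : QuasiIso s1 := by
      have h1 : QuasiIso (CochainComplex.truncGEMap s a') := by
        rw [CochainComplex.quasiIso_truncGEMap_iff]
        intro i _
        infer_instance
      have : s1 = CochainComplex.πTruncGE L a' ≫ CochainComplex.truncGEMap s a' :=
        (CochainComplex.πTruncGE_naturality s a').symm
      rw [this]
      infer_instance
    have h1 : Homotopy (f₁ ≫ s1) (f₂ ≫ s1) :=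
      (Homotopy.ofEq (Category.assoc _ _ _).symm).trans
        ((h0.compRight (CochainComplex.πTruncGE Z a')).trans (Homotopy.ofEq (Category.assoc _ _ _)))
    have hZ1 : CochainComplex.IsStrictlyGE Z1 a' := inferInstanceAs
      (CochainComplex.IsStrictlyGE (CochainComplex.truncGE Z a') a')
    -- truncate above
    let B := max b b'
    let L' := CochainComplex.truncLE Z1 B
    let ι : L' ⟶ Z1 := CochainComplex.ιTruncLE Z1 B
    let t : L ⟶ L' := inv (CochainComplex.ιTruncLE L B) ≫ CochainComplex.truncLEMap s1 B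
    have htι : t ≫ ι = s1 := by
      simp only [t, ι, Category.assoc]
      rw [CochainComplex.ιTruncLE_naturality, IsIso.inv_hom_id_assoc]
    have ht : QuasiIso t := by
      have : QuasiIso (CochainComplex.truncLEMap s1 B) := by
        rw [CochainComplex.quasiIso_truncLEMap_iff]
        intro i _
        infer_instance
      simp only [t]
      infer_instance
    have h2 : Homotopy ((f₁ ≫ t) ≫ ι) ((f₂ ≫ t) ≫ ι) := by
      refine (Homotopy.ofEq ?_).trans (h1.trans (Homotopy.ofEq ?_))
      · rw [Category.assoc, htι]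
      · rw [Category.assoc, htι]
    have h3 : Homotopy (f₁ ≫ t) (f₂ ≫ t) := by
      haveI : ∀ i, Mono (ι.f i) := fun i => inferInstanceAs
        (Mono ((HomologicalComplex.ιTruncLE Z1 (ComplexShape.embeddingUpIntLE B)).f i))
      refine liftHomotopy ι _ _ h2 ?_
      intro i
      by_cases hi : i < B
      · exact Or.inr (isIso_cochain_ιTruncLE_f Z1 B i hi)
      · exact Or.inl (CochainComplex.isZero_of_isStrictlyLE K B (i + 1) (by lia))
    refine ⟨(HomotopyCategory.quotient _ _).obj L', a', B,
      inferInstanceAs (CochainComplex.IsStrictlyGE (CochainComplex.truncLE Z1 B) a'),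
      inferInstanceAs (CochainComplex.IsStrictlyLE (CochainComplex.truncLE Z1 B) B),
      (HomotopyCategory.quotient _ _).map t, ?_, ?_⟩
    · rw [HomotopyCategory.quotient_map_mem_quasiIso_iff, HomologicalComplex.mem_quasiIso_iff]
      exact ht
    · rw [← Functor.map_comp, ← Functor.map_comp]
      exact HomotopyCategory.eq_of_homotopy _ _ h3

end Groth.Agent.S12228
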