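import Groth.Statements.S12229
import Groth.Agent.S1123
import Mathlib.Algebra.Homology.DerivedCategory.ShortExact
import Mathlib.CategoryTheory.Abelian.Exact

set_option autoImplicit false
universe w w' v v' u u'
open CategoryTheory CategoryTheory.Limits
open CohDer

namespace Groth.Agent.S12229

theorem comp_eq_zero_of_kernel_eq_image {A : Type*} [Category A] [Abelian A] {X Y Z : A}
    (f : X ⟶ Y) (g : Y ⟶ Z) (h : kernelSubobject g = imageSubobject f) : f ≫ g = 0 := by
  rw [← imageSubobject_arrow_comp f, Category.assoc]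
  have : (imageSubobject f).arrow = Subobject.ofLE _ _ h.ge ≫ (kernelSubobject g).arrow :=
    (Subobject.ofLE_arrow _).symm
  rw [this, Category.assoc, kernelSubobject_arrow_comp, comp_zero, comp_zero]

theorem exact_transport {A : Type*} [Category A] [Abelian A] {X₁ X₂ X₃ Y₁ Y₂ Y₃ : A}
    (f : X₁ ⟶ X₂) (g : X₂ ⟶ X₃) (f' : Y₁ ⟶ Y₂) (g' : Y₂ ⟶ Y₃) (w : f ≫ g = 0)
    (hex : (ShortComplex.mk f g w).Exact) (e₁ : X₁ ≅ Y₁) (e₂ : X₂ ≅ Y₂) (e₃ : X₃ ≅ Y₃)
    (c₁ : f ≫ e₂.hom = e₁.hom ≫ f') (c₂ : g ≫ e₃.hom = e₂.hom ≫ g') :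
    kernelSubobject g' = imageSubobject f' := by
  have w' : f' ≫ g' = 0 := by
    have h1 : f' = e₁.inv ≫ f ≫ e₂.hom := by rw [c₁, Iso.inv_hom_id_assoc]
    have h2 : g' = e₂.inv ≫ g ≫ e₃.hom := by rw [c₂, Iso.inv_hom_id_assoc]
    rw [h1, h2]
    simp only [Category.assoc, Iso.hom_inv_id_assoc]
    rw [reassoc_of% w]
    simp
  have hiso : ShortComplex.mk f g w ≅ ShortComplex.mk f' g' w' :=
    ShortComplex.isoMk e₁ e₂ e₃ c₁.symm c₂.symm
  have hex' : (ShortComplex.mk f' g' w').Exact := ShortComplex.exact_of_iso hiso hex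
  exact ((ShortComplex.exact_iff_image_eq_kernel _).mp hex').symm

section
variable {C : Type u} [Category.{v} C] [Abelian C] [HasDerivedCategory.{w} C]
    [EnoughInjectives C] {D : Type u'} [Category.{v'} D] [Abelian D] [HasDerivedCategory.{w'} D]
    (F : C ⥤ D) [F.Additive]

theorem isIso_unit_of_injective (K : CochainComplex.Plus C) (hK : ∀ k, Injective (K.obj.X k)) :
    IsIso (F.rightDerivedFunctorPlusUnit.app ((HomotopyCategory.Plus.quotient C).obj K)) := by
  obtain ⟨K0, n, hn⟩ := K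
  let L' : CochainComplex (InjectiveObject C) ℤ := HomologicalComplex.liftObjectProperty _ K0 hK
  have hL' : L'.IsStrictlyGE n := by
    rwa [← CochainComplex.isStrictlyGE_mapHomologicalComplex_obj_iff _ (InjectiveObject.ι _)]
  let L : CochainComplex.Plus (InjectiveObject C) := ⟨L', n, hL'⟩
  have : IsIso (F.rightDerivedFunctorPlusUnit.app ((HomotopyCategory.Plus.quotient C).obj
      ((InjectiveObject.ι C).mapCochainComplexPlus.obj L))) := inferInstance
  exact this

/-- the object `RF(K)` in `D(D)` -/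
noncomputable abbrev objA (K : CochainComplex.Plus C) : DerivedCategory D :=
  DerivedCategory.Plus.ι.obj (F.rightDerivedFunctorPlus.obj
    (DerivedCategory.Plus.Qh.obj ((HomotopyCategory.Plus.quotient C).obj K)))

noncomputable abbrev mapA {K K' : CochainComplex.Plus C} (h : K ⟶ K') : objA F K ⟶ objA F K' :=
  DerivedCategory.Plus.ι.map (F.rightDerivedFunctorPlus.map
    (DerivedCategory.Plus.Qh.map ((HomotopyCategory.Plus.quotient C).map h)))

/-- the naive object `F(K)` in `D(D)` -/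
noncomputable abbrev objB (K : CochainComplex.Plus C) : DerivedCategory D :=
  DerivedCategory.Q.obj ((F.mapHomologicalComplex (ComplexShape.up ℤ)).obj K.obj)

noncomputable abbrev mapB {K K' : CochainComplex.Plus C} (h : K ⟶ K') : objB F K ⟶ objB F K' :=
  DerivedCategory.Q.map ((F.mapHomologicalComplex (ComplexShape.up ℤ)).map h.hom)

/-- the comparison `F(K) ⟶ RF(K)` -/
noncomputable def cmp (K : CochainComplex.Plus C) : objB F K ⟶ objA F K :=
  (DerivedCategory.quotientCompQhIso D).inv.app _ ≫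
    DerivedCategory.Plus.ι.map (F.rightDerivedFunctorPlusUnit.app ((HomotopyCategory.Plus.quotient C).obj K))

theorem cmp_naturality {K K' : CochainComplex.Plus C} (h : K ⟶ K') :
    mapB F h ≫ cmp F K' = cmp F K ≫ mapA F h := by
  have h1 := (DerivedCategory.quotientCompQhIso D).inv.naturality
    ((F.mapHomologicalComplex (ComplexShape.up ℤ)).map h.hom)
  have h2 := congrArg (DerivedCategory.Plus.ι (C := D)).map
    (F.rightDerivedFunctorPlusUnit.naturality ((HomotopyCategory.Plus.quotient C).map h))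
  rw [Functor.map_comp, Functor.map_comp] at h2
  unfold cmp
  rw [← Category.assoc, h1, Category.assoc, Category.assoc]
  congr 1

theorem isIso_cmp (K : CochainComplex.Plus C) (hK : ∀ k, Injective (K.obj.X k)) :
    IsIso (cmp F K) := by
  have h0 := isIso_unit_of_injective F K hK
  have h1 : IsIso ((DerivedCategory.Plus.ι (C := D)).map
      (F.rightDerivedFunctorPlusUnit.app ((HomotopyCategory.Plus.quotient C).obj K))) :=
    Functor.map_isIso _ _
  unfold cmp
  exact IsIso.comp_isIso' inferInstance h1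

theorem isIso_mapA {K K' : CochainComplex.Plus C} (h : K ⟶ K') (hh : QuasiIso h.hom) :
    IsIso (mapA F h) := by
  have h1 : HomotopyCategory.Plus.quasiIso C ((HomotopyCategory.Plus.quotient C).map h) := by
    rw [HomotopyCategory.Plus.quasiIso_iff]
    exact (HomotopyCategory.quotient_map_mem_quasiIso_iff _).mpr
      ((HomologicalComplex.mem_quasiIso_iff _).mpr hh)
  have h2 : IsIso (DerivedCategory.Plus.Qh.map ((HomotopyCategory.Plus.quotient C).map h)) :=
    Localization.inverts DerivedCategory.Plus.Qh (HomotopyCategory.Plus.quasiIso C) _ h1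
  unfold mapA
  infer_instance

theorem mapA_comp {K K' K'' : CochainComplex.Plus C} (h : K ⟶ K') (h' : K' ⟶ K'') :
    mapA F (h ≫ h') = mapA F h ≫ mapA F h' := by
  simp [mapA]

omit [HasDerivedCategory.{w} C] [EnoughInjectives C] [HasDerivedCategory.{w'} D] in
theorem shortExact_map_of_injective (T : ShortComplex (CochainComplex C ℤ)) (hT : T.ShortExact)
    (hinj : ∀ k, Injective (T.X₁.X k)) :
    (T.map (F.mapHomologicalComplex (ComplexShape.up ℤ))).ShortExact := by
  apply HomologicalComplex.shortExact_of_degreewise_shortExact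
  intro k
  have hk : (T.map (HomologicalComplex.eval C (ComplexShape.up ℤ) k)).ShortExact :=
    (HomologicalComplex.shortExact_iff_degreewise_shortExact T).mp hT k
  have : Injective (T.map (HomologicalComplex.eval C (ComplexShape.up ℤ) k)).X₁ := hinj k
  let s := hk.splittingOfInjective
  exact (s.map F).shortExact

end

/-- Let F : C → D be a left exact functor between abelian categories with C having enough injectives,
and let 0 → X₁ → X₂ → X₃ → 0 be a short exact sequence of bounded below complexes of C (maps f, g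
with f a monomorphism, g an epimorphism and ker g = im f, degreewise). Then there is a long exact
cohomology sequence … → H^i(RF X₁) → H^i(RF X₂) → H^i(RF X₃) → H^{i+1}(RF X₁) → …: for every i the
induced sequence is exact at H^i(RF X₂), and there is a connecting morphism H^i(RF X₃) → H^{i+1}(RF
X₁) with exactness at H^i(RF X₃) and at H^{i+1}(RF X₁). Here RF is the right derived functor on the
bounded below derived category and H^i is computed in D(D); exactness is expressed as equality of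
kernel and image subobjects. Existence of such a connecting morphism only; the canonical one coming
from the distinguished triangle of the short exact sequence is not named. -/
theorem result {C : Type u} [Category.{v} C] [Abelian C] [HasDerivedCategory.{w} C]
    [EnoughInjectives C] {D : Type u'} [Category.{v'} D] [Abelian D] [HasDerivedCategory.{w'} D]
    (F : C ⥤ D) [F.Additive] [PreservesFiniteLimits F]
    {X₁ X₂ X₃ : CochainComplex.Plus C} (f : X₁ ⟶ X₂) (g : X₂ ⟶ X₃)
    (hf : Mono ((CochainComplex.Plus.ι C).map f)) (hg : Epi ((CochainComplex.Plus.ι C).map g))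
    (hex : kernelSubobject ((CochainComplex.Plus.ι C).map g) = imageSubobject ((CochainComplex.Plus.ι C).map f))
    (i : ℤ) :
    let Φ := HomotopyCategory.Plus.quotient C ⋙ DerivedCategory.Plus.Qh ⋙ F.rightDerivedFunctorPlus ⋙
      DerivedCategory.Plus.ι ⋙ DerivedCategory.homologyFunctor D i
    let Ψ := HomotopyCategory.Plus.quotient C ⋙ DerivedCategory.Plus.Qh ⋙ F.rightDerivedFunctorPlus ⋙
      DerivedCategory.Plus.ι ⋙ DerivedCategory.homologyFunctor D (i + 1)
    kernelSubobject (Φ.map g) = imageSubobject (Φ.map f) ∧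
      ∃ δ : Φ.obj X₃ ⟶ Ψ.obj X₁,
        kernelSubobject δ = imageSubobject (Φ.map g) ∧ kernelSubobject (Ψ.map f) = imageSubobject δ := by
  intro Φ Ψ
  have w : (CochainComplex.Plus.ι C).map f ≫ (CochainComplex.Plus.ι C).map g = 0 :=
    comp_eq_zero_of_kernel_eq_image _ _ hex
  let S : ShortComplex (CochainComplex C ℤ) := ShortComplex.mk _ _ w
  have hSex : S.Exact := (ShortComplex.exact_iff_image_eq_kernel S).mpr hex.symm
  have hS : S.ShortExact := { exact := hSex, mono_f := hf, epi_g := hg }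
  obtain ⟨n₁, h₁⟩ := X₁.property
  obtain ⟨n₂, h₂⟩ := X₂.property
  obtain ⟨n₃, h₃⟩ := X₃.property
  let n := min n₁ (min n₂ n₃)
  have hb1 : S.X₁.IsStrictlyGE n :=
    CochainComplex.isStrictlyGE_of_ge X₁.obj n n₁ (min_le_left _ _)
  have hb2 : S.X₂.IsStrictlyGE n :=
    CochainComplex.isStrictlyGE_of_ge X₂.obj n n₂ ((min_le_right _ _).trans (min_le_left _ _))
  have hb3 : S.X₃.IsStrictlyGE n :=
    CochainComplex.isStrictlyGE_of_ge X₃.obj n n₃ ((min_le_right _ _).trans (min_le_right _ _))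
  obtain ⟨T, φ, hT, hT1, hT2, hT3, hinj, hq1, hq2, hq3⟩ := Groth.Agent.S1123.result S hS n
  let T₁ : CochainComplex.Plus C := ⟨T.X₁, n, hT1⟩
  let T₂ : CochainComplex.Plus C := ⟨T.X₂, n, hT2⟩
  let T₃ : CochainComplex.Plus C := ⟨T.X₃, n, hT3⟩
  let tf : T₁ ⟶ T₂ := ObjectProperty.homMk T.f
  let tg : T₂ ⟶ T₃ := ObjectProperty.homMk T.g
  let φ₁ : X₁ ⟶ T₁ := ObjectProperty.homMk φ.τ₁
  let φ₂ : X₂ ⟶ T₂ := ObjectProperty.homMk φ.τ₂
  let φ₃ : X₃ ⟶ T₃ := ObjectProperty.homMk φ.τ₃
  have c12 : φ₁ ≫ tf = f ≫ φ₂ := by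
    ext : 1
    exact φ.comm₁₂
  have c23 : φ₂ ≫ tg = g ≫ φ₃ := by
    ext : 1
    exact φ.comm₂₃
  have hFT := shortExact_map_of_injective F T hT (fun k => (hinj k).1)
  have i1 : IsIso (mapA F φ₁) := isIso_mapA F φ₁ hq1
  have i2 : IsIso (mapA F φ₂) := isIso_mapA F φ₂ hq2
  have i3 : IsIso (mapA F φ₃) := isIso_mapA F φ₃ hq3
  have j1 : IsIso (cmp F T₁) := isIso_cmp F T₁ (fun k => (hinj k).1)
  have j2 : IsIso (cmp F T₂) := isIso_cmp F T₂ (fun k => (hinj k).2.1)
  have j3 : IsIso (cmp F T₃) := isIso_cmp F T₃ (fun k => (hinj k).2.2)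
  let θ₁ : objB F T₁ ≅ objA F X₁ := asIso (cmp F T₁) ≪≫ (asIso (mapA F φ₁)).symm
  let θ₂ : objB F T₂ ≅ objA F X₂ := asIso (cmp F T₂) ≪≫ (asIso (mapA F φ₂)).symm
  let θ₃ : objB F T₃ ≅ objA F X₃ := asIso (cmp F T₃) ≪≫ (asIso (mapA F φ₃)).symm
  have d12 : mapB F tf ≫ θ₂.hom = θ₁.hom ≫ mapA F f := by
    dsimp only [θ₁, θ₂, Iso.trans_hom, Iso.symm_hom, asIso_hom, asIso_inv]
    rw [← Category.assoc, cmp_naturality, Category.assoc, Category.assoc]
    congr 1
    rw [IsIso.comp_inv_eq, Category.assoc, ← mapA_comp, ← c12, mapA_comp, IsIso.inv_hom_id_assoc]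
  have d23 : mapB F tg ≫ θ₃.hom = θ₂.hom ≫ mapA F g := by
    dsimp only [θ₂, θ₃, Iso.trans_hom, Iso.symm_hom, asIso_hom, asIso_inv]
    rw [← Category.assoc, cmp_naturality, Category.assoc, Category.assoc]
    congr 1
    rw [IsIso.comp_inv_eq, Category.assoc, ← mapA_comp, ← c23, mapA_comp, IsIso.inv_hom_id_assoc]
  let Tri := DerivedCategory.triangleOfSES hFT
  have hTri : Tri ∈ Pretriangulated.distinguishedTriangles := DerivedCategory.triangleOfSES_distinguished hFT
  let H := DerivedCategory.homologyFunctor D i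
  let H' := DerivedCategory.homologyFunctor D (i + 1)
  let δ₀ := DerivedCategory.HomologySequence.δ Tri i (i + 1) rfl
  let δ' : Φ.obj X₃ ⟶ Ψ.obj X₁ := (H.mapIso θ₃).inv ≫ δ₀ ≫ (H'.mapIso θ₁).hom
  refine ⟨?_, δ', ?_, ?_⟩
  · refine exact_transport (H.map Tri.mor₁) (H.map Tri.mor₂) (Φ.map f) (Φ.map g) _
      (DerivedCategory.HomologySequence.exact₂ Tri hTri i) (H.mapIso θ₁) (H.mapIso θ₂) (H.mapIso θ₃) ?_ ?_
    · show H.map (mapB F tf) ≫ H.map θ₂.hom = H.map θ₁.hom ≫ H.map (mapA F f)
      rw [← H.map_comp, ← H.map_comp, d12]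
    · show H.map (mapB F tg) ≫ H.map θ₃.hom = H.map θ₂.hom ≫ H.map (mapA F g)
      rw [← H.map_comp, ← H.map_comp, d23]
  · refine exact_transport (H.map Tri.mor₂) δ₀ (Φ.map g) δ' _
      (DerivedCategory.HomologySequence.exact₃ Tri hTri i (i + 1) rfl)
      (H.mapIso θ₂) (H.mapIso θ₃) (H'.mapIso θ₁) ?_ ?_
    · show H.map (mapB F tg) ≫ H.map θ₃.hom = H.map θ₂.hom ≫ H.map (mapA F g)
      rw [← H.map_comp, ← H.map_comp, d23]
    · exact (Iso.hom_inv_id_assoc (H.mapIso θ₃) (δ₀ ≫ (H'.mapIso θ₁).hom)).symm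
  · refine exact_transport δ₀ (H'.map Tri.mor₁) δ' (Ψ.map f) _
      (DerivedCategory.HomologySequence.exact₁ Tri hTri i (i + 1) rfl)
      (H.mapIso θ₃) (H'.mapIso θ₁) (H'.mapIso θ₂) ?_ ?_
    · exact (Iso.hom_inv_id_assoc (H.mapIso θ₃) (δ₀ ≫ (H'.mapIso θ₁).hom)).symm
    · show H'.map (mapB F tf) ≫ H'.map θ₂.hom = H'.map θ₁.hom ≫ H'.map (mapA F f)
      rw [← H'.map_comp, ← H'.map_comp, d12]

end Groth.Agent.S12229
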