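import Groth.Statements.S1223
import Groth.Agent.Lib.Helper31.GeomIntPure

set_option autoImplicit false
universe u
open FlatMor

namespace Groth.Agent.S1223

/-- Ring form, X = Spec B affine: a finite type, flat A-algebra B with geometrically integral fibres is
universally pure relative to Spec A. -/
theorem result {A B : Type u} [CommRing A] [CommRing B] [Algebra A B] [Algebra.FiniteType A B] [Module.Flat A B]
    (h : FlatCA.GeomIntegralFibres A B) : FlatCA.IsUnivPure A B B := by
  open Groth.Agent.Lib.Helper31.GeomIntPure TensorProduct in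
  intro p _ A' B' N' _ _ _ _ _ _ _ _ _ _ _ _ _ _ f t' t _ _ P _ himp
  obtain ⟨hpo, hbc, hle, hlo, hPlo, hass, hno⟩ := himp
  have hpo' : Algebra.IsPushout A A' B B' := hpo.symm
  letI : Algebra B' (t'.Fiber B') := Algebra.TensorProduct.rightAlgebra
  have hflat : Module.Flat A' B' := Module.Flat.isBaseChange A A' B _ hpo'.out
  have hdom' := isDomain_fiber h A' B' hpo t'
  have hdom := isDomain_fiber h A' B' hpo t
  -- the associated prime is zero
  have hbot : FlatCA.fiberIdeal t' P = ⊥ := by
    apply eq_bot_of_mem_associatedPrimes_self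
    have e : FlatCA.fiberMod t' B' N' ≃ₗ[t'.Fiber B'] t'.Fiber B' :=
      fiberModEquiv f hbc (t'.Fiber B')
    rw [← LinearEquiv.AssociatedPrimes.eq e]
    exact hass
  -- so `P ≤ t' B'`
  have hP : ∀ b ∈ P, b ∈ (t' • ⊤ : Submodule A' B') := by
    intro b hb
    apply Groth.Agent.Lib.Helper31.FiberAss.mem_smul_top_of_tmul_one_eq_zero B' t' b
    have h1 : (Algebra.TensorProduct.includeRight (R := A') (A := t'.ResidueField) (B := B')) b
        ∈ FlatCA.fiberIdeal t' P := Ideal.mem_map_of_mem _ hb
    rw [hbot, Ideal.mem_bot] at h1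
    have h2 := congrArg (TensorProduct.comm A' t'.ResidueField B') h1
    rw [map_zero] at h2
    exact h2
  obtain ⟨Q, hQp, hQ⟩ := exists_liesOver_of_nontrivial_fiber (B' := B') t
  refine hno Q ?_ hQ
  intro b hb
  have hb' := hP b hb
  refine Submodule.smul_induction_on hb' ?_ ?_
  · intro a ha n _
    rw [Algebra.smul_def]
    apply Ideal.mul_mem_right
    have : a ∈ Q.under A' := by
      rw [← hQ.over]
      exact hle ha
    exact this
  · intro x y hx hy
    exact Q.add_mem hx hy

end Groth.Agent.S1223
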