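import Groth.Statements.S1224
import Mathlib
import Groth.Agent.Lib.Helper6.FiberIdeal

set_option autoImplicit false
universe u
open FlatMor

namespace Groth.Agent.S1224

/-- Ring form, X = Spec B affine, where proper support means finite support: let B be a finite type
A-algebra and N a finite B-module such that B modulo the annihilator of N is finite over A. Then N
is universally pure relative to Spec A. -/
theorem result {A B : Type u} [CommRing A] [CommRing B] [Algebra A B] [Algebra.FiniteType A B]
    (N : Type u) [AddCommGroup N] [Module B N] [Module A N] [IsScalarTower A B N] [Module.Finite B N]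
    [Module.Finite A (B ⧸ Module.annihilator B N)] : FlatCA.IsUnivPure A B N := by
  intro p _ A' B' N' _ _ _ _ _ _ _ _ _ _ _ _ _ _ f t' t _ _ P _
  rintro ⟨hpush, hbc, hle, htp, hPt', hass, hno⟩
  -- the ideal generated by the annihilator
  set I := Module.annihilator B N with hI
  set J := I.map (algebraMap B B') with hJ
  -- (1) `J ≤ P`
  have hann : ∀ b ∈ I, ∀ n' : N', (algebraMap B B' b) • n' = 0 := by
    intro b hb n'
    refine hbc.inductionOn n' (fun n' => (algebraMap B B' b) • n' = 0) (by simp) ?_ ?_ ?_
    · intro n
      rw [algebraMap_smul, ← f.map_smul, Module.mem_annihilator.mp hb n, map_zero]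
    · intro s n' h
      rw [smul_comm, h, smul_zero]
    · intro n₁ n₂ h₁ h₂
      rw [smul_add, h₁, h₂, add_zero]
  have hJP : J ≤ P := by
    rw [hJ, Ideal.map_le_iff_le_comap]
    intro b hb
    rw [Ideal.mem_comap]
    -- `1 ⊗ b'` annihilates the fibre module, hence lies in the associated prime
    have h1 := Lib.Helper6.includeRight_mem_annihilator_fiberMod t' N' (algebraMap B B' b) (hann b hb)
    have h2 : Module.annihilator (t'.Fiber B') (FlatCA.fiberMod t' B' N') ≤ FlatCA.fiberIdeal t' P := by
      have := IsAssociatedPrime.annihilator_le hass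
      rwa [Submodule.annihilator_top] at this
    have h3 := h2 h1
    have h4 := Lib.Helper6.comap_fiberIdeal t' P
    rw [← h4]
    exact h3
  -- (2) `B' ⧸ J` is integral over `A'`
  have hIJ : I ≤ J.comap (algebraMap B B') := Ideal.le_comap_map
  have hcomp : (algebraMap A' (B' ⧸ J)).comp (algebraMap A A') =
      (Ideal.quotientMap J (algebraMap B B') hIJ).comp (algebraMap A (B ⧸ I)) := by
    ext a
    change Ideal.Quotient.mk J (algebraMap A' B' (algebraMap A A' a)) =
      Ideal.quotientMap J (algebraMap B B') hIJ (Ideal.Quotient.mk I (algebraMap A B a))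
    rw [Ideal.quotientMap_mk, ← IsScalarTower.algebraMap_apply A A' B',
      ← IsScalarTower.algebraMap_apply A B B']
  have hint : Algebra.IsIntegral A' (B' ⧸ J) := by
    have : Algebra.IsIntegral A (B ⧸ I) := Algebra.IsIntegral.of_finite A (B ⧸ I)
    constructor
    intro x
    obtain ⟨x, rfl⟩ := Ideal.Quotient.mk_surjective x
    refine hpush.symm.out.inductionOn x (fun x => IsIntegral A' (Ideal.Quotient.mk J x)) ?_ ?_ ?_ ?_
    · rw [map_zero]; exact isIntegral_zero
    · intro b
      have hb : IsIntegral A (Ideal.Quotient.mk I b) := Algebra.IsIntegral.isIntegral _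
      have := IsIntegral.map_of_comp_eq (algebraMap A A')
        (Ideal.quotientMap J (algebraMap B B') hIJ) hcomp hb
      rwa [Ideal.quotientMap_mk] at this
    · intro a' x hx
      have : Ideal.Quotient.mk J (a' • x) = a' • Ideal.Quotient.mk J x := rfl
      rw [this]
      exact hx.smul a'
    · intro x y hx hy
      rw [map_add]
      exact hx.add hy
  -- (3) going up
  have hker : RingHom.ker (Ideal.Quotient.mk J) ≤ P := by rwa [Ideal.mk_ker]
  have hPJ : (P.map (Ideal.Quotient.mk J)).IsPrime :=
    Ideal.map_isPrime_of_surjective Ideal.Quotient.mk_surjective hker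
  have halg : algebraMap A' (B' ⧸ J) = (Ideal.Quotient.mk J).comp (algebraMap A' B') := rfl
  have hcm : (P.map (Ideal.Quotient.mk J)).comap (algebraMap A' (B' ⧸ J)) ≤ t := by
    rw [halg, ← Ideal.comap_comap, Ideal.comap_map_of_surjective _ Ideal.Quotient.mk_surjective,
      ← RingHom.ker_eq_comap_bot, sup_eq_left.mpr hker]
    have : t' = P.comap (algebraMap A' B') := hPt'.over
    rw [← this]
    exact hle
  obtain ⟨Q, hQge, hQprime, hQ⟩ :=
    Ideal.exists_ideal_over_prime_of_isIntegral_of_isPrime t (P.map (Ideal.Quotient.mk J)) hcm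
  have : (Q.comap (Ideal.Quotient.mk J)).IsPrime := Ideal.comap_isPrime _ _
  refine hno (Q.comap (Ideal.Quotient.mk J)) (Ideal.map_le_iff_le_comap.mp hQge) ⟨?_⟩
  rw [Ideal.under, Ideal.comap_comap, ← halg, hQ]

end Groth.Agent.S1224
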