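import Groth.Statements.S12244
import Groth.Agent.Lib.Helper64.CDAtBase

set_option autoImplicit false
universe u
open FlatMor

namespace Groth.Agent.S12244

attribute [local instance] FlatCA.CompleteDevissageAt.hqB FlatCA.CompleteDevissageAt.hqA
  FlatCA.CompleteDevissageAt.overB FlatCA.CompleteDevissageAt.overA

open TensorProduct in
/-- All schemes are affine. Let R → S be of finite type, N a finite S-module, p ⊆ R and q ⊆ S primes, 𝒟
a complete dévissage of N/S/R over p in the prelude's algebraic form and 𝒜 a datum making it a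
complete dévissage at q (primes qB_i ⊆ B_i over p with purely transcendental residue fields, unique
primes qA_i ⊆ A_i over them, threaded through q and through the maps B_i → A_{i+1}, relative
dimensions d_i of R → B_i equal to the local dimension of the fibre support of M_i at qB_i). Let R →
R' be a ring map and p' a prime over p with κ(p) → κ(p') bijective, S' the base change of S, N' = N
⊗_S S', and q' a prime of S' over q and over p'. Let 𝒟' be a complete dévissage of N'/S'/R' over p'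
of the same length whose rings A'_i, B'_i (i below the length) are base changes of A_i, B_i along R
→ R' compatibly with B_i → A_i, B_i → A_{i+1}, S → A_0 and S' → A'_0, and whose modules M'_i are
base changes of M_i along A_i → A'_i compatibly with N ≅ M_0 and N' ≅ M'_0. Assume moreover that at
every index at or beyond the length the ring B'_i has a prime over p' and A'_i a prime over that one
(the structure's families run over all natural numbers and constrain nothing at those indices, while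
a datum at a point asks for such primes at every index; the condition touches only this
unconstrained tail and holds, for instance, when the tail repeats the last genuine step — without it
the zero ring could sit there and no datum would exist). Then 𝒟' is a complete dévissage at q' with
the same relative dimensions: there is a datum 𝒜' for (𝒟', q') with d' = d whose primes qB'_i, qA'_i
lie over qB_i, qA_i for every step i below the length. -/
theorem result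
    (R S : Type u) [CommRing R] [CommRing S] [Algebra R S] [Algebra.FiniteType R S]
    (N : Type u) [AddCommGroup N] [Module S N] [Module.Finite S N]
    (p : Ideal R) [p.IsPrime] (q : Ideal S) [q.IsPrime] (𝒟 : FlatCA.CompleteDevissage R S N p)
    (𝒜 : FlatCA.CompleteDevissageAt R S N p q 𝒟)
    (R' : Type u) [CommRing R'] [Algebra R R'] (p' : Ideal R') [p'.IsPrime] [hp' : p'.LiesOver p]
    (hκ : Function.Bijective (Ideal.ResidueField.mapₐ p p' (Algebra.ofId R R') hp'.over))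
    (S' : Type u) [CommRing S'] [Algebra R' S'] [Algebra R S'] [Algebra S S'] [IsScalarTower R R' S']
    [IsScalarTower R S S'] [Algebra.IsPushout R R' S S']
    (N' : Type u) [AddCommGroup N'] [Module S' N'] [Module S N'] [IsScalarTower S S' N']
    (f : N →ₗ[S] N') (hf : IsBaseChange S' f)
    (q' : Ideal S') [q'.IsPrime] [q'.LiesOver q] [q'.LiesOver p']
    (𝒟' : FlatCA.CompleteDevissage R' S' N' p') (hn : 𝒟'.n = 𝒟.n)
    (htail : ∀ i, 𝒟.n ≤ i → ∃ (Q : Ideal (𝒟'.B i)) (P : Ideal (𝒟'.A i)),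
      Q.IsPrime ∧ P.IsPrime ∧ Q.LiesOver p' ∧ P.LiesOver Q)
    [aA : ∀ i : Fin 𝒟.n, Algebra (𝒟.A i) (𝒟'.A i)] [rA : ∀ i : Fin 𝒟.n, Algebra R (𝒟'.A i)]
      [∀ i : Fin 𝒟.n, IsScalarTower R (R') (𝒟'.A i)] [∀ i : Fin 𝒟.n, IsScalarTower R (𝒟.A i) (𝒟'.A i)]
      [aB : ∀ i : Fin 𝒟.n, Algebra (𝒟.B i) (𝒟'.B i)] [rB : ∀ i : Fin 𝒟.n, Algebra R (𝒟'.B i)]
      [∀ i : Fin 𝒟.n, IsScalarTower R (R') (𝒟'.B i)] [∀ i : Fin 𝒟.n, IsScalarTower R (𝒟.B i) (𝒟'.B i)]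
      [bA : ∀ i : Fin 𝒟.n, Algebra (𝒟.B i) (𝒟'.A i)] [∀ i : Fin 𝒟.n, IsScalarTower (𝒟.B i) (𝒟.A i) (𝒟'.A i)]
      [∀ i : Fin 𝒟.n, IsScalarTower (𝒟.B i) (𝒟'.B i) (𝒟'.A i)]
      [bA' : ∀ i : Fin 𝒟.n, Algebra (𝒟.B i) (𝒟'.A (i + 1))]
      [∀ i : Fin 𝒟.n, IsScalarTower (𝒟.B i) (𝒟'.B i) (𝒟'.A (i + 1))]
      [sA : Algebra S (𝒟'.A 0)] [IsScalarTower S (S') (𝒟'.A 0)]
      [mA : ∀ i : Fin 𝒟.n, Module (𝒟.A i) (𝒟'.M i)] [∀ i : Fin 𝒟.n, IsScalarTower (𝒟.A i) (𝒟'.A i) (𝒟'.M i)]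
      (gM : ∀ i : Fin 𝒟.n, 𝒟.M i →ₗ[𝒟.A i] 𝒟'.M i)
    (hbc : (letI := aA ⟨0, 𝒟.pos⟩; IsScalarTower S (𝒟.A 0) (𝒟'.A 0)) ∧
      (∀ x : N, 𝒟'.isoN (f x) = gM ⟨0, 𝒟.pos⟩ (𝒟.isoN x)) ∧
      (∀ (i : Fin 𝒟.n) (h : (i : ℕ) + 1 < 𝒟.n),
        letI := aA ⟨i + 1, h⟩; IsScalarTower (𝒟.B i) (𝒟.A (i + 1)) (𝒟'.A (i + 1))) ∧
      ∀ i : Fin 𝒟.n,
        Algebra.IsPushout R R' (𝒟.A i) (𝒟'.A i) ∧ Algebra.IsPushout R R' (𝒟.B i) (𝒟'.B i) ∧
        IsBaseChange (𝒟'.A i) (gM i)) :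
    ∃ 𝒜' : FlatCA.CompleteDevissageAt R' S' N' p' q' 𝒟', 𝒜'.d = 𝒜.d ∧
      ∀ i : Fin 𝒟.n, (𝒜'.qB i).LiesOver (𝒜.qB i) ∧ (𝒜'.qA i).LiesOver (𝒜.qA i) := by
  classical
  open Groth.Agent.S12239 Groth.Agent.Lib.Helper64.CDAtBase in
  obtain ⟨hS0, -, hstep, hpo⟩ := hbc
  -- existence of the primes
  have key : ∀ i : ℕ, ∃ (QB : Ideal (𝒟'.B i)) (QA : Ideal (𝒟'.A i)), QB.IsPrime ∧ QA.IsPrime ∧
      QB.LiesOver p' ∧ QA.LiesOver QB ∧ ∀ h : i < 𝒟.n,
        QB.comap (@algebraMap (𝒟.B i) (𝒟'.B i) _ _ (aB ⟨i, h⟩)) = 𝒜.qB i ∧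
        QA.comap (@algebraMap (𝒟.A i) (𝒟'.A i) _ _ (aA ⟨i, h⟩)) = 𝒜.qA i := by
    intro i
    by_cases h : i < 𝒟.n
    · let j : Fin 𝒟.n := ⟨i, h⟩
      have hPA : Algebra.IsPushout R R' (𝒟.A j) (𝒟'.A j) := (hpo j).1
      have hPB : Algebra.IsPushout R R' (𝒟.B j) (𝒟'.B j) := (hpo j).2.1
      have hqAp : (𝒜.qA j).LiesOver p := Ideal.LiesOver.trans (𝒜.qA j) (𝒜.qB j) p
      obtain ⟨QB, hQB, hQBq, hQBp⟩ := exists_prime_over p p' (T := 𝒟.B j) (T' := 𝒟'.B j) hκ (𝒜.qB j)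
      obtain ⟨QA, hQA, hQAq, hQAp⟩ := exists_prime_over p p' (T := 𝒟.A j) (T' := 𝒟'.A j) hκ (𝒜.qA j)
      have hQAB : QA.comap (algebraMap (𝒟'.B j) (𝒟'.A j)) = QB := by
        refine prime_eq_of_comap_eq p p' (𝒟.B j) (𝒟'.B j) hκ.2 _ QB ?_ hQBp.over.symm ?_
        · rw [comap_tower R' (𝒟'.B j) (𝒟'.A j)]
          exact hQAp.over.symm
        · have e1 : QA.comap (algebraMap (𝒟.A j) (𝒟'.A j)) = 𝒜.qA j := hQAq.over.symm
          have e2 : (𝒜.qA j).comap (algebraMap (𝒟.B j) (𝒟.A j)) = 𝒜.qB j := (𝒜.overA j).over.symm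
          have e3 : QB.comap (algebraMap (𝒟.B j) (𝒟'.B j)) = 𝒜.qB j := hQBq.over.symm
          rw [comap_tower (𝒟.B j) (𝒟'.B j) (𝒟'.A j), ← comap_tower (𝒟.B j) (𝒟.A j) (𝒟'.A j),
            e1, e2, e3]
      exact ⟨QB, QA, hQB, hQA, hQBp, ⟨hQAB.symm⟩, fun _ => ⟨hQBq.over.symm, hQAq.over.symm⟩⟩
    · obtain ⟨Q, P, hQ, hP, hQp, hPQ⟩ := htail i (not_lt.mp h)
      exact ⟨Q, P, hQ, hP, hQp, hPQ, fun h' => absurd h' h⟩
  choose qB' qA' hqB' hqA' hBp hAB hgood using key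
  have hBq : ∀ j : Fin 𝒟.n, (qB' j).LiesOver (𝒜.qB j) := fun j => ⟨(hgood j j.2).1.symm⟩
  have hAq : ∀ j : Fin 𝒟.n, (qA' j).LiesOver (𝒜.qA j) := fun j => ⟨(hgood j j.2).2.symm⟩
  have hAp : ∀ i : ℕ, (qA' i).LiesOver p' := fun i => Ideal.LiesOver.trans (qA' i) (qB' i) p'
  -- derived facts
  have P1 : ∀ j : Fin 𝒟.n, FlatCA.PurelyTranscendental p' (qB' j) := by
    intro j
    have hPB : Algebra.IsPushout R R' (𝒟.B j) (𝒟'.B j) := (hpo j).2.1
    exact purelyTranscendental_baseChange p p' hκ (𝒜.qB j) (qB' j) (𝒜.pureTrans j j.2)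
  have P2 : ∀ j : Fin 𝒟.n, ∀ (Q : Ideal (𝒟'.A j)) [Q.IsPrime], Q.LiesOver (qB' j) → Q = qA' j := by
    intro j Q _ hQ
    have hPA : Algebra.IsPushout R R' (𝒟.A j) (𝒟'.A j) := (hpo j).1
    have hQp : Q.LiesOver p' := Ideal.LiesOver.trans Q (qB' j) p'
    refine prime_eq_of_comap_eq p p' (𝒟.A j) (𝒟'.A j) hκ.2 Q (qA' j) hQp.over.symm
      (hAp j).over.symm ?_
    have h1 : (Q.comap (algebraMap (𝒟.A j) (𝒟'.A j))).LiesOver (𝒜.qB j) := by
      constructor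
      change _ = (Q.comap (algebraMap (𝒟.A j) (𝒟'.A j))).comap (algebraMap (𝒟.B j) (𝒟.A j))
      rw [comap_tower (𝒟.B j) (𝒟.A j) (𝒟'.A j), ← comap_tower (𝒟.B j) (𝒟'.B j) (𝒟'.A j)]
      have : Q.comap (algebraMap (𝒟'.B j) (𝒟'.A j)) = qB' j := hQ.over.symm
      rw [this]
      exact (hBq j).over
    rw [𝒜.uniq j j.2 _ h1]
    exact (hAq j).over
  have P3 : (qA' 0).comap (algebraMap S' (𝒟'.A 0)) = q' := by
    have hPS : Algebra.IsPushout R R' S S' := inferInstance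
    refine prime_eq_of_comap_eq p p' S S' hκ.2 _ q' ?_ (Ideal.LiesOver.over (P := q') (p := p')).symm ?_
    · rw [comap_tower R' S' (𝒟'.A 0)]
      exact (hAp 0).over.symm
    · have hq : q'.comap (algebraMap S S') = q := (Ideal.LiesOver.over (P := q') (p := q)).symm
      rw [hq, comap_tower S S' (𝒟'.A 0)]
      have := hS0
      let _ : Algebra (𝒟.A 0) (𝒟'.A 0) := aA ⟨0, 𝒟.pos⟩
      rw [← comap_tower S (𝒟.A 0) (𝒟'.A 0), (hgood 0 𝒟.pos).2]
      exact 𝒜.q0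
  have P4 : ∀ (j : Fin 𝒟.n) (h : (j : ℕ) + 1 < 𝒟.n),
      (qA' (j + 1)).comap (algebraMap (𝒟'.B j) (𝒟'.A (j + 1))) = qB' j := by
    intro j h
    have hPB : Algebra.IsPushout R R' (𝒟.B j) (𝒟'.B j) := (hpo j).2.1
    refine prime_eq_of_comap_eq p p' (𝒟.B j) (𝒟'.B j) hκ.2 _ (qB' j) ?_ (hBp j).over.symm ?_
    · rw [comap_tower R' (𝒟'.B j) (𝒟'.A (j + 1))]
      exact (hAp (j + 1)).over.symm
    · rw [comap_tower (𝒟.B j) (𝒟'.B j) (𝒟'.A (j + 1))]
      have := hstep j h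
      let _ : Algebra (𝒟.A (j + 1)) (𝒟'.A (j + 1)) := aA ⟨j + 1, h⟩
      rw [← comap_tower (𝒟.B j) (𝒟.A (j + 1)) (𝒟'.A (j + 1)), (hgood (j + 1) h).2,
        𝒜.qStep j h]
      exact (hBq j).over
  have P5 : ∀ j : Fin 𝒟.n, FlatCA.SmoothRelDim (𝒜.d j) R' (𝒟'.B j) := by
    intro j
    have hPB : Algebra.IsPushout R R' (𝒟.B j) (𝒟'.B j) := (hpo j).2.1
    have : Algebra.IsPushout R (𝒟.B j) R' (𝒟'.B j) := Algebra.IsPushout.symm inferInstance
    have hpb := AlgebraicGeometry.isPullback_SpecMap_of_isPushout _ _ _ _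
      (CommRingCat.isPushout_of_isPushout R (𝒟.B j) R' (𝒟'.B j))
    have := AlgebraicGeometry.smoothOfRelativeDimension_isStableUnderBaseChange (n := 𝒜.d j)
    exact CategoryTheory.MorphismProperty.of_isPullback
      (P := @AlgebraicGeometry.SmoothOfRelativeDimension (𝒜.d j)) hpb (𝒜.relDim j j.2)
  have P6 : ∀ j : Fin 𝒟.n, ∃ (x : PrimeSpectrum (p'.Fiber (𝒟'.B j)))
      (hx : x ∈ Module.support (p'.Fiber (𝒟'.B j)) (FlatCA.fiberMod p' (𝒟'.B j) (𝒟'.M j))),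
      x.asIdeal = FlatCA.fiberIdeal p' (qB' j) ∧
      FlatMor.localDim (Module.support (p'.Fiber (𝒟'.B j))
        (FlatCA.fiberMod p' (𝒟'.B j) (𝒟'.M j))) ⟨x, hx⟩ = 𝒜.d j := by
    intro j
    have hPA : Algebra.IsPushout R R' (𝒟.A j) (𝒟'.A j) := (hpo j).1
    have hPB : Algebra.IsPushout R R' (𝒟.B j) (𝒟'.B j) := (hpo j).2.1
    have : Module.Finite (𝒟.B j) (𝒟.A j) := 𝒟.finiteBA j j.2
    have : Module.Finite (𝒟.A j) (𝒟.M j) := 𝒟.finiteM j j.2
    have : Module.Finite (𝒟.B j) (𝒟.M j) := Module.Finite.trans (𝒟.A j) (𝒟.M j)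
    exact locDim_baseChange p p' (gM j) (hpo j).2.2 hκ (𝒜.qB j) (qB' j) (𝒜.d j) (𝒜.locDim j j.2)
  refine ⟨{ qB := qB', qA := qA', hqB := hqB', hqA := hqA', overB := hBp, overA := hAB,
            pureTrans := fun i h => P1 ⟨i, lt_of_lt_of_eq h hn⟩
            uniq := fun i h Q _ hQ => P2 ⟨i, lt_of_lt_of_eq h hn⟩ Q hQ
            q0 := P3
            qStep := fun i h => P4 ⟨i, Nat.lt_of_succ_lt (lt_of_lt_of_eq h hn)⟩ (lt_of_lt_of_eq h hn)
            d := 𝒜.d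
            relDim := fun i h => P5 ⟨i, lt_of_lt_of_eq h hn⟩
            locDim := fun i h => P6 ⟨i, lt_of_lt_of_eq h hn⟩ }, rfl, fun j => ⟨hBq j, hAq j⟩⟩

end Groth.Agent.S12244
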