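import Groth.Statements.S12249
import Mathlib.LinearAlgebra.Dual.Lemmas
import Mathlib.RingTheory.Nakayama
import Mathlib.RingTheory.Ideal.Quotient.Operations

set_option autoImplicit false
universe u v
open CategoryTheory
open Deform

namespace Groth.Agent.S12249

section aux

variable {k : Type u} [Field k] {R : Type u} [CommRing R] [Algebra k R] [IsLocalRing R]

theorem mem_max_iff (res : R →ₐ[k] k) (hres : Function.Surjective res) (r : R) :
    r ∈ IsLocalRing.maximalIdeal R ↔ res r = 0 := by
  have hmax : (RingHom.ker (res : R →+* k)).IsMaximal :=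
    RingHom.ker_isMaximal_of_surjective (res : R →+* k) hres
  rw [← IsLocalRing.eq_maximalIdeal hmax, RingHom.mem_ker]
  rfl

theorem sub_mem_max (res : R →ₐ[k] k) (hres : Function.Surjective res) (r : R) :
    r - algebraMap k R (res r) ∈ IsLocalRing.maximalIdeal R := by
  rw [mem_max_iff res hres, map_sub, AlgHom.commutes]
  simp

/-- the `k`-linear map `r ↦ λ (r - res r mod m²)` -/
noncomputable def Dmap (res : R →ₐ[k] k)
    (lam : (R ⧸ (IsLocalRing.maximalIdeal R) ^ 2) →ₗ[k] k) : R →ₗ[k] k where
  toFun r := lam (Ideal.Quotient.mk _ (r - algebraMap k R (res r)))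
  map_add' r r' := by
    rw [← map_add, ← map_add]
    congr 2
    rw [map_add, map_add]
    ring
  map_smul' c r := by
    rw [RingHom.id_apply, ← map_smul]
    congr 1
    rw [map_smul, smul_eq_mul, map_mul, Algebra.smul_def, ← mul_sub, ← Algebra.smul_def]
    rfl

theorem Dmap_mul (res : R →ₐ[k] k) (hres : Function.Surjective res)
    (lam : (R ⧸ (IsLocalRing.maximalIdeal R) ^ 2) →ₗ[k] k) (r r' : R) :
    Dmap res lam (r * r') = res r * Dmap res lam r' + res r' * Dmap res lam r := by
  have h1 : r * r' - algebraMap k R (res (r * r')) =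
      algebraMap k R (res r) * (r' - algebraMap k R (res r')) +
      algebraMap k R (res r') * (r - algebraMap k R (res r)) +
      (r - algebraMap k R (res r)) * (r' - algebraMap k R (res r')) := by
    rw [map_mul, map_mul]; ring
  have h2 : (r - algebraMap k R (res r)) * (r' - algebraMap k R (res r')) ∈
      (IsLocalRing.maximalIdeal R) ^ 2 := by
    rw [pow_two]
    exact Ideal.mul_mem_mul (sub_mem_max res hres r) (sub_mem_max res hres r')
  show lam _ = res r * lam _ + res r' * lam _
  rw [h1, map_add (Ideal.Quotient.mk _), Ideal.Quotient.eq_zero_iff_mem.mpr h2, add_zero,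
    map_add (Ideal.Quotient.mk _), map_add lam]
  congr 1
  · rw [← smul_eq_mul (a := res r), ← map_smul]
    congr 1
    rw [Algebra.smul_def]
    rfl
  · rw [← smul_eq_mul (a := res r'), ← map_smul]
    congr 1
    rw [Algebra.smul_def]
    rfl

theorem Dmap_one (res : R →ₐ[k] k)
    (lam : (R ⧸ (IsLocalRing.maximalIdeal R) ^ 2) →ₗ[k] k) : Dmap res lam 1 = 0 := by
  show lam _ = 0
  rw [map_one, map_one, sub_self, map_zero, map_zero]

/-- the algebra map `R → k[ε]` attached to a functional on `R/m²` -/
noncomputable def dualHom (res : R →ₐ[k] k) (hres : Function.Surjective res)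
    (lam : (R ⧸ (IsLocalRing.maximalIdeal R) ^ 2) →ₗ[k] k) : R →ₐ[k] DualNumber k :=
  AlgHom.ofLinearMap
    { toFun := fun r => TrivSqZeroExt.inl (res r) + TrivSqZeroExt.inr (Dmap res lam r)
      map_add' := by
        intro r r'
        ext <;> simp
      map_smul' := by
        intro c r
        ext <;> simp }
    (by
      ext
      · simp
      · simp [Dmap_one])
    (by
      intro r r'
      ext
      · simp
      · simp [Dmap_mul res hres]
        ring)

theorem fst_dualHom (res : R →ₐ[k] k) (hres : Function.Surjective res)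
    (lam : (R ⧸ (IsLocalRing.maximalIdeal R) ^ 2) →ₗ[k] k) (r : R) :
    (dualHom res hres lam r).fst = res r := by
  simp [dualHom]

theorem snd_dualHom (res : R →ₐ[k] k) (hres : Function.Surjective res)
    (lam : (R ⧸ (IsLocalRing.maximalIdeal R) ^ 2) →ₗ[k] k) (r : R) :
    (dualHom res hres lam r).snd = Dmap res lam r := by
  simp [dualHom]

end aux

/-- Let k be an algebraically closed field and F a set-valued functor on local Artinian k-algebras with
residue field k such that F(k) is a single point. If F has a semiuniversal formal element and its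
tangent space F(k[ε]) is reduced to one element, then F(A) consists of exactly one element for every
A: F is the constant one-point functor h_k. -/
theorem result
    {k : Type u} [Field k] [IsAlgClosed k]
    (F : ArtFun.Art k k ⥤ Type v) (h0 : ArtFun.H0 F) (hF : ArtFun.HasHull F)
    (ht : Subsingleton (ArtFun.TangentSpace F)) (A : ArtFun.Art k k) :
    Nonempty (F.obj A) ∧ Subsingleton (F.obj A) := by
  obtain ⟨⟨R, ξ, ⟨hver, hbij⟩⟩⟩ := hF
  have hsub : Subsingleton (ArtFun.HomSet R.carrier R.res (ArtFun.Art.dual k k)) :=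
    @Function.Injective.subsingleton _ _ _ hbij.injective ht
  -- the maximal ideal of R is contained in its square
  have hle : IsLocalRing.maximalIdeal R.carrier ≤ (IsLocalRing.maximalIdeal R.carrier) ^ 2 := by
    intro x hx
    rw [← Ideal.Quotient.eq_zero_iff_mem, ← Module.forall_dual_apply_eq_zero_iff k]
    intro lam
    let φ : ArtFun.HomSet R.carrier R.res (ArtFun.Art.dual k k) :=
      ⟨dualHom R.res R.res_surjective lam, by
        apply AlgHom.ext
        intro r
        exact fst_dualHom R.res R.res_surjective lam r⟩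
    let φ0 : ArtFun.HomSet R.carrier R.res (ArtFun.Art.dual k k) :=
      ⟨dualHom R.res R.res_surjective 0, by
        apply AlgHom.ext
        intro r
        exact fst_dualHom R.res R.res_surjective 0 r⟩
    have heq : φ = φ0 := Subsingleton.elim _ _
    have h1a : dualHom R.res R.res_surjective lam x = dualHom R.res R.res_surjective 0 x := by
      have := congrArg (fun ψ : ArtFun.HomSet R.carrier R.res (ArtFun.Art.dual k k) => ψ.1 x) heq
      exact this
    have h1 := congrArg TrivSqZeroExt.snd h1a
    rw [snd_dualHom, snd_dualHom] at h1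
    have hx0 : R.res x = 0 := (mem_max_iff R.res R.res_surjective x).mp hx
    have h2 : Dmap R.res lam x = lam (Ideal.Quotient.mk _ x) := by
      show lam _ = _
      rw [hx0, map_zero, sub_zero]
    have h3 : Dmap R.res (0 : (R.carrier ⧸ (IsLocalRing.maximalIdeal R.carrier) ^ 2) →ₗ[k] k) x = 0 := rfl
    rw [h2, h3] at h1
    exact h1
  have hm : IsLocalRing.maximalIdeal R.carrier = ⊥ := by
    have hfg : (IsLocalRing.maximalIdeal R.carrier).FG := IsNoetherian.noetherian _
    apply Submodule.eq_bot_of_le_smul_of_le_jacobson_bot (IsLocalRing.maximalIdeal R.carrier) _ hfg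
    · rw [smul_eq_mul, ← pow_two]; exact hle
    · exact (IsLocalRing.maximalIdeal_le_jacobson _)
  -- every element of R is a scalar
  have hscal : ∀ r : R.carrier, r = algebraMap k R.carrier (R.res r) := by
    intro r
    have := sub_mem_max R.res R.res_surjective r
    rw [hm, Ideal.mem_bot, sub_eq_zero] at this
    exact this
  have hsubA : ∀ B : ArtFun.Art k k, Subsingleton (ArtFun.HomSet R.carrier R.res B) := by
    intro B
    refine ⟨fun φ φ' => ?_⟩
    apply Subtype.ext
    apply AlgHom.ext
    intro r
    rw [hscal r, AlgHom.commutes, AlgHom.commutes]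
  have hneA : ∀ B : ArtFun.Art k k, Nonempty (ArtFun.HomSet R.carrier R.res B) := by
    intro B
    refine ⟨⟨(Algebra.ofId k B).comp R.res, ?_⟩⟩
    apply AlgHom.ext
    intro r
    simp only [AlgHom.comp_apply]
    rw [Algebra.ofId_apply, AlgHom.commutes]
    rfl
  -- surjectivity of ξ.app A
  have hsurj : Function.Surjective (ξ.app A) := by
    intro y
    obtain ⟨φ⟩ := hneA (ArtFun.Art.base k k)
    have hy : F.map (ArtFun.Art.toBase A) y = ξ.app (ArtFun.Art.base k k) φ :=
      @Subsingleton.elim _ h0.2 _ _
    obtain ⟨ψ, -, hψ⟩ := hver (ArtFun.Art.toBase A) A.res_surjective φ y hy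
    exact ⟨ψ, hψ⟩
  obtain ⟨ψ⟩ := hneA A
  refine ⟨⟨ξ.app A ψ⟩, ⟨fun y y' => ?_⟩⟩
  obtain ⟨a, rfl⟩ := hsurj y
  obtain ⟨a', rfl⟩ := hsurj y'
  rw [@Subsingleton.elim _ (hsubA A) a a']

end Groth.Agent.S12249
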