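import Groth.Statements.S12250
import Mathlib.RingTheory.Artinian.Ring

set_option autoImplicit false
universe u v
open CategoryTheory
open Deform

namespace Groth.Agent.S12250

section aux

open ArtFun ArtFun.Art

variable {Λ : Type u} {k : Type u} [CommRing Λ] [Field k] [Algebra Λ k]

/-- an augmented map to an Artinian local algebra kills a power of the maximal ideal -/
theorem exists_kill (R : CRing Λ k) {A : Art Λ k} (φ : HomSet R.carrier R.res A) :
    ∃ n : ℕ, ∀ a ∈ CRing.mpow R n, φ.1 a = 0 := by
  have hloc : ∀ a ∈ IsLocalRing.maximalIdeal R.carrier, φ.1 a ∈ IsLocalRing.maximalIdeal A := by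
    intro a ha
    rw [Art.mem_maximalIdeal_iff]
    have h1 : A.res (φ.1 a) = R.res a := by
      have := φ.2
      exact AlgHom.congr_fun this a
    rw [h1]
    exact (CRing.mem_maximalIdeal_iff R a).mp ha
  obtain ⟨n, hn⟩ : IsNilpotent (IsLocalRing.maximalIdeal A) :=
    isArtinianRing_iff_isNilpotent_maximalIdeal A |>.mp inferInstance
  refine ⟨n, ?_⟩
  intro a ha
  have h2 : (IsLocalRing.maximalIdeal R.carrier).map (φ.1 : R.carrier →+* A) ≤ IsLocalRing.maximalIdeal A := by
    rw [Ideal.map_le_iff_le_comap]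
    intro a ha
    exact hloc a ha
  have h3 : (CRing.mpow R n).map (φ.1 : R.carrier →+* A) ≤ (IsLocalRing.maximalIdeal A) ^ (n + 1) := by
    rw [CRing.mpow, Ideal.map_pow]
    exact Ideal.pow_right_mono h2 _
  have h4 : (IsLocalRing.maximalIdeal A) ^ (n + 1) = ⊥ := by
    rw [pow_succ, hn, Ideal.zero_eq_bot, Ideal.bot_mul]
  have h5 : φ.1 a ∈ (CRing.mpow R n).map (φ.1 : R.carrier →+* A) := Ideal.mem_map_of_mem _ ha
  have h6 := h3 h5
  rw [h4] at h6
  exact h6

/-- the factorization of an augmented map through a truncation -/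
noncomputable def factor (R : CRing Λ k) {A : Art Λ k} (φ : HomSet R.carrier R.res A) (n : ℕ)
    (h : ∀ a ∈ CRing.mpow R n, φ.1 a = 0) : CRing.trunc R n ⟶ A :=
  ⟨Ideal.Quotient.liftₐ (CRing.mpow R n) φ.1 h, by
    apply AlgHom.ext
    intro x
    obtain ⟨a, rfl⟩ := Ideal.Quotient.mk_surjective x
    exact AlgHom.congr_fun φ.2 a⟩

theorem map_factor (R : CRing Λ k) {A : Art Λ k} (φ : HomSet R.carrier R.res A) (n : ℕ)
    (h : ∀ a ∈ CRing.mpow R n, φ.1 a = 0) :
    HomSet.map (factor R φ n h) (CRing.truncHom R n) = φ :=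
  Subtype.ext (AlgHom.ext fun _ => rfl)

/-- general transition maps -/
noncomputable def truncLE (R : CRing Λ k) {n n' : ℕ} (h : n ≤ n') : CRing.trunc R n' ⟶ CRing.trunc R n :=
  factor R (CRing.truncHom R n) n' (fun a ha =>
    Ideal.Quotient.eq_zero_iff_mem.2 (Ideal.pow_le_pow_right (Nat.succ_le_succ h) ha))

theorem hom_ext_trunc (R : CRing Λ k) {A : Art Λ k} {n : ℕ} (g g' : CRing.trunc R n ⟶ A)
    (h : HomSet.map g (CRing.truncHom R n) = HomSet.map g' (CRing.truncHom R n)) : g = g' := by
  apply Art.hom_ext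
  apply AlgHom.ext
  intro x
  obtain ⟨a, rfl⟩ := Ideal.Quotient.mk_surjective x
  have := congrArg (fun ψ : HomSet R.carrier R.res A => ψ.1 a) h
  exact this

theorem homSet_map_comp {R : CRing Λ k} {A B C : Art Λ k} (f : A ⟶ B) (g : B ⟶ C)
    (φ : HomSet R.carrier R.res A) : HomSet.map (f ≫ g) φ = HomSet.map g (HomSet.map f φ) :=
  Subtype.ext (AlgHom.ext fun _ => rfl)

theorem homSet_map_id {R : CRing Λ k} {A : Art Λ k}
    (φ : HomSet R.carrier R.res A) : HomSet.map (𝟙 A) φ = φ :=
  Subtype.ext (AlgHom.ext fun _ => rfl)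

theorem truncLE_refl (R : CRing Λ k) (n : ℕ) : truncLE R (le_refl n) = 𝟙 _ := by
  apply hom_ext_trunc
  rw [truncLE, map_factor, homSet_map_id]

theorem truncLE_succ (R : CRing Λ k) {n n' : ℕ} (h : n ≤ n') :
    truncLE R (Nat.le_succ_of_le h) = CRing.truncMap R n' ≫ truncLE R h := by
  apply hom_ext_trunc
  rw [homSet_map_comp, CRing.truncMap_truncHom, truncLE, truncLE, map_factor, map_factor]

theorem formal_compat_le (R : CRing Λ k) {F : Art Λ k ⥤ Type v} (u : FormalElt F R) {n n' : ℕ}
    (h : n ≤ n') : F.map (truncLE R h) (u.elt n') = u.elt n := by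
  induction n', h using Nat.le_induction with
  | base =>
    rw [truncLE_refl]
    exact F.map_id_apply _ _
  | succ m hm ih =>
    rw [truncLE_succ R hm, F.map_comp_apply, u.compat, ih]

theorem wd_le (R : CRing Λ k) {F : Art Λ k ⥤ Type v} (u : FormalElt F R) {A : Art Λ k} {n n' : ℕ}
    (hnn : n ≤ n') (g : CRing.trunc R n ⟶ A) (g' : CRing.trunc R n' ⟶ A)
    (h : HomSet.map g (CRing.truncHom R n) = HomSet.map g' (CRing.truncHom R n')) :
    F.map g (u.elt n) = F.map g' (u.elt n') := by
  have hg' : g' = truncLE R hnn ≫ g := by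
    apply hom_ext_trunc
    rw [← h, homSet_map_comp, truncLE, map_factor]
  rw [hg', F.map_comp_apply, formal_compat_le R u hnn]

theorem wd (R : CRing Λ k) {F : Art Λ k ⥤ Type v} (u : FormalElt F R) {A : Art Λ k} {n n' : ℕ}
    (g : CRing.trunc R n ⟶ A) (g' : CRing.trunc R n' ⟶ A)
    (h : HomSet.map g (CRing.truncHom R n) = HomSet.map g' (CRing.truncHom R n')) :
    F.map g (u.elt n) = F.map g' (u.elt n') := by
  rcases le_total n n' with hnn | hnn
  · exact wd_le R u hnn g g' h
  · exact (wd_le R u hnn g' g h.symm).symm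

/-- the family attached to a formal element -/
noncomputable def ofFormal (R : CRing Λ k) {F : Art Λ k ⥤ Type v} (u : FormalElt F R) :
    Family R.carrier R.res F where
  app A φ := F.map (factor R φ (Classical.choose (exists_kill R φ))
    (Classical.choose_spec (exists_kill R φ))) (u.elt _)
  natural := by
    intro A B f φ
    rw [← F.map_comp_apply]
    apply wd
    rw [map_factor, homSet_map_comp, map_factor]

end aux

/-- Let k be an algebraically closed field, Λ a complete local Noetherian k-algebra with residue field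
k, R a complete local Noetherian Λ-algebra with residue field k and F a set-valued functor on local
Artinian Λ-algebras with residue field k. Then the map sending a morphism of functors h_R → F to its
formal element (the compatible sequence of its values on the quotient maps R → R/m^(n+1), n ≥ 0) is
a bijection between morphisms h_R → F and formal elements of F over R. -/
theorem result
    {k Λ : Type u} [Field k] [IsAlgClosed k] [CommRing Λ] [IsLocalRing Λ] [IsNoetherianRing Λ]
    [IsAdicComplete (IsLocalRing.maximalIdeal Λ) Λ] [Algebra k Λ] [Algebra Λ k] [IsScalarTower k Λ k]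
    (R : ArtFun.CRing Λ k) (F : ArtFun.Art Λ k ⥤ Type v) :
    Function.Bijective (fun ξ : ArtFun.Family R.carrier R.res F => ξ.toFormalElt) := by
  constructor
  · intro ξ ξ' h
    have h' : ∀ n, ξ.app _ (R.truncHom n) = ξ'.app _ (R.truncHom n) := by
      intro n
      have := congrArg (fun u : ArtFun.FormalElt F R => u.elt n) h
      exact this
    have happ : ξ.app = ξ'.app := by
      funext A φ
      obtain ⟨n, hn⟩ := exists_kill R φ
      rw [← map_factor R φ n hn, ξ.natural, ξ'.natural, h' n]
    cases ξ; cases ξ'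
    simp only at happ
    subst happ
    rfl
  · intro u
    refine ⟨ofFormal R u, ?_⟩
    apply ArtFun.FormalElt.ext'
    intro m
    show F.map _ (u.elt _) = u.elt m
    have h1 : u.elt m = F.map (𝟙 (R.trunc m)) (u.elt m) := (F.map_id_apply _ _).symm
    rw [h1]
    apply wd
    rw [map_factor, homSet_map_id]

end Groth.Agent.S12250
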