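import Groth.Statements.S12252
import Groth.Agent.S12250
import Mathlib.RingTheory.AdicCompletion.RingHom

set_option autoImplicit false
universe u v
open CategoryTheory
open Deform

namespace Groth.Agent.S12252

section aux

open ArtFun ArtFun.Art Groth.Agent.S12250

variable {Λ : Type u} {k : Type u} [CommRing Λ] [Field k] [Algebra Λ k]

/-- the augmented map `R → S → S/m^(n+1)` as an element of `h_R(S/m^(n+1))` -/
noncomputable def truncComp (R S : CRing Λ k) (g : R.carrier →ₐ[Λ] S.carrier)
    (hg : S.res.comp g = R.res) (n : ℕ) : HomSet R.carrier R.res (CRing.trunc S n) :=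
  ⟨(CRing.truncHom S n).1.comp g, by
    rw [← AlgHom.comp_assoc, (CRing.truncHom S n).2, hg]⟩

theorem along_app_truncHom (R S : CRing Λ k) {F : Art Λ k ⥤ Type v}
    (ξ : Family R.carrier R.res F) (g : R.carrier →ₐ[Λ] S.carrier)
    (hg : S.res.comp g = R.res) (n : ℕ) :
    (ξ.along g hg).app _ (CRing.truncHom S n) = ξ.app _ (truncComp R S g hg n) := rfl

/-- two augmented maps into a complete ring which agree modulo all powers are equal -/
theorem algHom_ext_trunc (R S : CRing Λ k) (g₁ g₂ : R.carrier →ₐ[Λ] S.carrier)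
    (h : ∀ n : ℕ, (CRing.truncHom S n).1.comp g₁ = (CRing.truncHom S n).1.comp g₂) : g₁ = g₂ := by
  have := S.isAdicComplete
  apply IsAdicComplete.algHom_ext (IsLocalRing.maximalIdeal S.carrier)
  intro n
  apply AlgHom.ext
  intro x
  have h1 : (Ideal.Quotient.mk (IsLocalRing.maximalIdeal S.carrier ^ (n + 1))) (g₁ x) =
      (Ideal.Quotient.mk (IsLocalRing.maximalIdeal S.carrier ^ (n + 1))) (g₂ x) :=
    AlgHom.congr_fun (h n) x
  simp only [AlgHom.comp_apply, Ideal.Quotient.mkₐ_eq_mk]
  rw [Ideal.Quotient.eq] at h1 ⊢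
  exact Ideal.pow_le_pow_right (Nat.le_succ n) h1

/-- (U) -/
theorem along_injective (R S : CRing Λ k) {F : Art Λ k ⥤ Type v}
    (ξ : Family R.carrier R.res F) (hξ : IsUniversal ξ) (g₁ g₂ : R.carrier →ₐ[Λ] S.carrier)
    (h₁ : S.res.comp g₁ = R.res) (h₂ : S.res.comp g₂ = R.res)
    (h : ξ.along g₁ h₁ = ξ.along g₂ h₂) : g₁ = g₂ := by
  apply algHom_ext_trunc
  intro n
  have h3 : (ξ.along g₁ h₁).app _ (CRing.truncHom S n) = (ξ.along g₂ h₂).app _ (CRing.truncHom S n) := by
    rw [h]
  rw [along_app_truncHom, along_app_truncHom] at h3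
  have h4 := (hξ _).injective h3
  exact congrArg Subtype.val h4

theorem truncLE_mk (S : CRing Λ k) {m n : ℕ} (h : m ≤ n) (y : S.carrier) :
    (truncLE S h).toAlgHom (Ideal.Quotient.mk _ y) = Ideal.Quotient.mk _ y := rfl

theorem truncLE_apply (S : CRing Λ k) {m n : ℕ} (h : m ≤ n)
    (z : S.carrier ⧸ IsLocalRing.maximalIdeal S.carrier ^ (n + 1)) :
    (truncLE S h).toAlgHom z =
      Ideal.Quotient.factor (Ideal.pow_le_pow_right (Nat.succ_le_succ h)) z := by
  obtain ⟨y, rfl⟩ := Ideal.Quotient.mk_surjective z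
  rfl

theorem toFormalElt_inj (R : CRing Λ k) (F : Art Λ k ⥤ Type v) (ξ ξ' : Family R.carrier R.res F)
    (h : ξ.toFormalElt = ξ'.toFormalElt) : ξ = ξ' := by
  have h' : ∀ n, ξ.app _ (R.truncHom n) = ξ'.app _ (R.truncHom n) := by
    intro n
    have := congrArg (fun u : ArtFun.FormalElt F R => u.elt n) h
    exact this
  have happ : ξ.app = ξ'.app := by
    funext A φ
    obtain ⟨n, hn⟩ := exists_kill R φ
    rw [← map_factor R φ n hn, ξ.natural, ξ'.natural, h' n]
  cases ξ; cases ξ'
  simp only at happ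
  subst happ
  rfl

/-- (E) -/
theorem exists_along_eq (R S : CRing Λ k) {F : Art Λ k ⥤ Type v}
    (ξ : Family R.carrier R.res F) (hξ : IsUniversal ξ) (η : Family S.carrier S.res F) :
    ∃ (g : R.carrier →ₐ[Λ] S.carrier) (hg : S.res.comp g = R.res), ξ.along g hg = η := by
  have := S.isAdicComplete
  -- the compatible system φ_n
  have hex : ∀ n : ℕ, ∃ φ : HomSet R.carrier R.res (CRing.trunc S n),
      ξ.app _ φ = η.app _ (CRing.truncHom S n) := fun n => (hξ _).surjective _
  choose φ hφ using hex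
  have hcompat : ∀ {m n : ℕ} (h : m ≤ n), HomSet.map (truncLE S h) (φ n) = φ m := by
    intro m n h
    apply (hξ _).injective
    rw [ξ.natural, hφ, hφ, ← η.natural, truncLE, map_factor]
  set I := IsLocalRing.maximalIdeal S.carrier with hI
  let ψ : (n : ℕ) → R.carrier →ₐ[Λ] (S.carrier ⧸ I ^ (n + 1)) := fun n => (φ n).1
  have hψ : ∀ {m n : ℕ} (hle : m ≤ n) (x : R.carrier),
      Ideal.Quotient.factor (Ideal.pow_le_pow_right (Nat.succ_le_succ hle)) (ψ n x) = ψ m x := by
    intro m n hle x
    have h1 : ψ m x = (truncLE S hle).toAlgHom (ψ n x) := by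
      have := congrArg (fun ψ' : HomSet R.carrier R.res (CRing.trunc S m) => ψ'.1 x) (hcompat hle)
      exact this.symm
    rw [h1]
    exact (truncLE_apply S hle (ψ n x)).symm
  let f : (n : ℕ) → R.carrier →ₐ[Λ] S.carrier ⧸ I ^ n := fun n =>
    (Ideal.Quotient.factorₐ Λ (Ideal.pow_le_pow_right (Nat.le_succ n))).comp (ψ n)
  have hf : ∀ {m n : ℕ} (hle : m ≤ n),
      (Ideal.Quotient.factorₐ Λ (Ideal.pow_le_pow_right hle)).comp (f n) = f m := by
    intro m n hle
    apply AlgHom.ext
    intro x
    simp only [f, AlgHom.comp_apply, Ideal.Quotient.factorₐ_apply]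
    rw [← hψ hle x]
    obtain ⟨y, hy⟩ := Ideal.Quotient.mk_surjective (ψ n x)
    rw [← hy]
    rfl
  let g : R.carrier →ₐ[Λ] S.carrier := IsAdicComplete.liftAlgHom I f hf
  have hgφ : ∀ n : ℕ, (CRing.truncHom S n).1.comp g = (φ n).1 := by
    intro n
    apply AlgHom.ext
    intro x
    have h1 : Ideal.Quotient.mk (I ^ (n + 1)) (g x) = f (n + 1) x :=
      IsAdicComplete.mk_liftAlgHom I f hf (n + 1) x
    have h2 : f (n + 1) x = ψ n x := by
      simp only [f, AlgHom.comp_apply, Ideal.Quotient.factorₐ_apply]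
      rw [← hψ (Nat.le_succ n) x]
    exact h1.trans h2
  have hg : S.res.comp g = R.res := by
    have h0 := hgφ 0
    have h1 : (CRing.trunc S 0).res.comp ((CRing.truncHom S 0).1.comp g) = R.res := by
      rw [h0]; exact (φ 0).2
    rw [← AlgHom.comp_assoc, (CRing.truncHom S 0).2] at h1
    exact h1
  refine ⟨g, hg, ?_⟩
  apply toFormalElt_inj S F
  apply FormalElt.ext'
  intro n
  show (ξ.along g hg).app _ (CRing.truncHom S n) = η.app _ (CRing.truncHom S n)
  rw [along_app_truncHom, ← hφ]
  congr 1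
  exact Subtype.ext (hgφ n)

theorem along_along (R S T : CRing Λ k) {F : Art Λ k ⥤ Type v}
    (ξ : Family R.carrier R.res F) (g : R.carrier →ₐ[Λ] S.carrier) (hg : S.res.comp g = R.res)
    (g' : S.carrier →ₐ[Λ] T.carrier) (hg' : T.res.comp g' = S.res) :
    (ξ.along g hg).along g' hg' = ξ.along (g'.comp g) (by rw [← AlgHom.comp_assoc, hg', hg]) := rfl

theorem along_id (R : CRing Λ k) {F : Art Λ k ⥤ Type v}
    (ξ : Family R.carrier R.res F) :
    ξ.along (AlgHom.id Λ R.carrier) (AlgHom.comp_id _) = ξ := rfl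

end aux

/-- Let k be an algebraically closed field, Λ a complete local Noetherian k-algebra with residue field k
and F a set-valued functor on local Artinian Λ-algebras with residue field k. If (R, u) and (S, v)
both prorepresent F (complete local Noetherian Λ-algebras with residue field k carrying universal
families), then there is a unique isomorphism of Λ-algebras R ≅ S, compatible with the augmentations
to k, along which the universal family of R is transported to that of S. -/
theorem result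
    {k Λ : Type u} [Field k] [IsAlgClosed k] [CommRing Λ] [IsLocalRing Λ] [IsNoetherianRing Λ]
    [IsAdicComplete (IsLocalRing.maximalIdeal Λ) Λ] [Algebra k Λ] [Algebra Λ k] [IsScalarTower k Λ k]
    {F : ArtFun.Art Λ k ⥤ Type v} (P Q : ArtFun.ProRep F) :
    ∃! e : P.ring.carrier ≃ₐ[Λ] Q.ring.carrier,
      ∃ he : Q.ring.res.comp e.toAlgHom = P.ring.res, P.family.along e.toAlgHom he = Q.family := by
  obtain ⟨g, hg, hgQ⟩ := exists_along_eq P.ring Q.ring P.family P.universal Q.family
  obtain ⟨g', hg', hgP⟩ := exists_along_eq Q.ring P.ring Q.family Q.universal P.family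
  have h1 : g'.comp g = AlgHom.id Λ P.ring.carrier := by
    apply along_injective P.ring P.ring P.family P.universal _ _
      (by rw [← AlgHom.comp_assoc, hg', hg]) (AlgHom.comp_id _)
    rw [← along_along P.ring Q.ring P.ring P.family g hg g' hg', hgQ, hgP, along_id]
  have h2 : g.comp g' = AlgHom.id Λ Q.ring.carrier := by
    apply along_injective Q.ring Q.ring Q.family Q.universal _ _
      (by rw [← AlgHom.comp_assoc, hg, hg']) (AlgHom.comp_id _)
    rw [← along_along Q.ring P.ring Q.ring Q.family g' hg' g hg, hgP, hgQ, along_id]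
  refine ⟨AlgEquiv.ofAlgHom g g' h2 h1, ⟨hg, hgQ⟩, ?_⟩
  rintro e ⟨he, heQ⟩
  apply AlgEquiv.coe_toAlgHom_injective
  apply along_injective P.ring Q.ring P.family P.universal _ _ he hg
  rw [heQ]
  exact hgQ.symm

end Groth.Agent.S12252
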