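import Groth.Statements.S12257
import Mathlib.CategoryTheory.Limits.Types.Pullbacks
import Mathlib.CategoryTheory.Limits.Shapes.Pullback.IsPullback.Basic
import Mathlib.CategoryTheory.Limits.Preserves.Shapes.Pullbacks

set_option autoImplicit false
universe u v
open CategoryTheory CategoryTheory.Limits
open Deform

namespace Groth.Agent.S12257

/-- Let k be an algebraically closed field, Λ a complete local Noetherian k-algebra with residue field
k, and F, G, H set-valued functors on local Artinian Λ-algebras with residue field k, each with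
one-point value at k. If F → G is a smooth morphism of functors and H → G is any morphism, then the
second projection F ×_G H → H of the fibre product of functors is smooth. -/
theorem result
    {k Λ : Type u} [Field k] [IsAlgClosed k] [CommRing Λ] [IsLocalRing Λ] [IsNoetherianRing Λ]
    [IsAdicComplete (IsLocalRing.maximalIdeal Λ) Λ] [Algebra k Λ] [Algebra Λ k] [IsScalarTower k Λ k]
    {F G H : ArtFun.Art Λ k ⥤ Type v} (η : F ⟶ G) (θ : H ⟶ G)
    (hF : ArtFun.H0 F) (hG : ArtFun.H0 G) (hH : ArtFun.H0 H) (hη : ArtFun.IsSmooth η) :
    ArtFun.IsSmooth (pullback.snd η θ) := by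
  intro B A μ hμ y
  obtain ⟨⟨p, h⟩, hy⟩ := y
  -- pullback squares evaluated at A and B
  have sqA : IsPullback ((pullback.fst η θ).app A) ((pullback.snd η θ).app A) (η.app A) (θ.app A) :=
    (IsPullback.of_hasPullback η θ).map ((evaluation _ _).obj A)
  have sqB : IsPullback ((pullback.fst η θ).app B) ((pullback.snd η θ).app B) (η.app B) (θ.app B) :=
    (IsPullback.of_hasPullback η θ).map ((evaluation _ _).obj B)
  change (pullback.snd η θ).app A p = H.map μ h at hy
  set x := (pullback.fst η θ).app A p with hx
  have hxη : η.app A x = G.map μ (θ.app B h) := by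
    have h1 : η.app A x = θ.app A ((pullback.snd η θ).app A p) := ConcreteCategory.congr_hom sqA.w p
    rw [h1, hy]
    exact NatTrans.naturality_apply θ μ h
  obtain ⟨w, hw⟩ := hη μ hμ ⟨(x, θ.app B h), hxη⟩
  have hw1 : F.map μ w = x := congrArg (fun t => t.1.1) hw
  have hw2 : η.app B w = θ.app B h := congrArg (fun t => t.1.2) hw
  obtain ⟨q, hq1, hq2⟩ := Limits.Types.exists_of_isPullback sqB w h hw2
  refine ⟨q, ?_⟩
  apply Subtype.ext
  refine Prod.ext ?_ hq2
  change (pullback η θ).map μ q = p
  apply Limits.Types.ext_of_isPullback sqA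
  · have := NatTrans.naturality_apply (pullback.fst η θ) μ q
    rw [this, hq1, hw1]
  · have := NatTrans.naturality_apply (pullback.snd η θ) μ q
    rw [this, hq2, hy]

end Groth.Agent.S12257
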