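import Groth.Statements.S12258
import Mathlib.CategoryTheory.Limits.Types.Products
import Mathlib.CategoryTheory.Limits.Preserves.Shapes.BinaryProducts

set_option autoImplicit false
universe u v
open CategoryTheory CategoryTheory.Limits
open Deform

namespace Groth.Agent.S12258

/-- Let k be an algebraically closed field, Λ a complete local Noetherian k-algebra with residue field
k, and F, G set-valued functors on local Artinian Λ-algebras with residue field k, each with
one-point value at k. If F and G are smooth functors, i.e. F(B) → F(A) and G(B) → G(A) are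
surjective for every surjection B → A, then the product functor F × G is smooth. -/
theorem result
    {k Λ : Type u} [Field k] [IsAlgClosed k] [CommRing Λ] [IsLocalRing Λ] [IsNoetherianRing Λ]
    [IsAdicComplete (IsLocalRing.maximalIdeal Λ) Λ] [Algebra k Λ] [Algebra Λ k] [IsScalarTower k Λ k]
    {F G : ArtFun.Art Λ k ⥤ Type v}
    (hF : ArtFun.H0 F) (hG : ArtFun.H0 G) (sF : ArtFun.IsSmoothFunctor F) (sG : ArtFun.IsSmoothFunctor G) :
    ArtFun.IsSmoothFunctor (F ⨯ G) := by
  intro B A μ hμ z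
  -- evaluated binary fans are limits
  have key : ∀ X : ArtFun.Art Λ k, IsLimit (BinaryFan.mk ((prod.fst : F ⨯ G ⟶ F).app X)
      ((prod.snd : F ⨯ G ⟶ G).app X)) := fun X =>
    (isLimitMapConeBinaryFanEquiv ((evaluation _ _).obj X) (prod.fst : F ⨯ G ⟶ F) prod.snd)
      (isLimitOfPreserves ((evaluation _ _).obj X) (prodIsProd F G))
  obtain ⟨x, hx⟩ := sF μ hμ ((prod.fst : F ⨯ G ⟶ F).app A z)
  obtain ⟨y, hy⟩ := sG μ hμ ((prod.snd : F ⨯ G ⟶ G).app A z)
  -- existence of w over (x, y)
  let s : BinaryFan (F.obj B) (G.obj B) :=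
    BinaryFan.mk (P := PUnit.{v+1}) (↾fun _ => x) (↾fun _ => y)
  let w : (F ⨯ G).obj B := (key B).lift s PUnit.unit
  have hw1 : (prod.fst : F ⨯ G ⟶ F).app B w = x :=
    ConcreteCategory.congr_hom ((key B).fac s ⟨WalkingPair.left⟩) PUnit.unit
  have hw2 : (prod.snd : F ⨯ G ⟶ G).app B w = y :=
    ConcreteCategory.congr_hom ((key B).fac s ⟨WalkingPair.right⟩) PUnit.unit
  refine ⟨w, ?_⟩
  -- uniqueness at A
  have h1 : (prod.fst : F ⨯ G ⟶ F).app A ((F ⨯ G).map μ w) = (prod.fst : F ⨯ G ⟶ F).app A z := by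
    have := NatTrans.naturality_apply (prod.fst : F ⨯ G ⟶ F) μ w
    rw [this, hw1, hx]
  have h2 : (prod.snd : F ⨯ G ⟶ G).app A ((F ⨯ G).map μ w) = (prod.snd : F ⨯ G ⟶ G).app A z := by
    have := NatTrans.naturality_apply (prod.snd : F ⨯ G ⟶ G) μ w
    rw [this, hw2, hy]
  have hext : (↾fun _ : PUnit.{v+1} => (F ⨯ G).map μ w : PUnit.{v+1} ⟶ (F ⨯ G).obj A) =
      ↾fun _ : PUnit.{v+1} => z := by
    apply BinaryFan.IsLimit.hom_ext (key A)
    · ext u
      exact h1
    · ext u
      exact h2
  exact ConcreteCategory.congr_hom hext PUnit.unit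

end Groth.Agent.S12258
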