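import Groth.Statements.S1227
import Mathlib

set_option autoImplicit false
universe u
open FlatMor

namespace Groth.Agent.S1227

open TensorProduct in
/-- Let u be a surjective linear map from a projective A-module M to an A-module N. Then there is an
ideal I of A such that for every A-algebra B, the base change u ⊗ 1 from B ⊗ M to B ⊗ N is bijective
if and only if the image of I in B is zero. -/
theorem result {A : Type u} [CommRing A] {M N : Type u} [AddCommGroup M] [Module A M] [Module.Projective A M]
    [AddCommGroup N] [Module A N] (u : M →ₗ[A] N) (hu : Function.Surjective u) :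
    ∃ I : Ideal A, ∀ (B : Type u) [CommRing B] [Algebra A B],
      Function.Bijective (u.baseChange B) ↔ I.map (algebraMap A B) = ⊥ := by
  obtain ⟨i, hi⟩ := Module.projective_def'.mp (inferInstance : Module.Projective A M)
  let S : Set A := {a | ∃ k ∈ LinearMap.ker u, ∃ m : M, a = i k m}
  refine ⟨Ideal.span S, fun B _ _ => ?_⟩
  have hmap : (Ideal.span S).map (algebraMap A B) = ⊥ ↔
      ∀ k ∈ LinearMap.ker u, ∀ m : M, algebraMap A B (i k m) = 0 := by
    rw [Ideal.map_span, Ideal.span_eq_bot]
    constructor
    · intro h k hk m
      exact h _ ⟨_, ⟨k, hk, m, rfl⟩, rfl⟩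
    · rintro h _ ⟨_, ⟨k, hk, m, rfl⟩, rfl⟩
      exact h k hk m
  rw [hmap]
  have hsurj : Function.Surjective (u.baseChange B) := by
    rw [LinearMap.baseChange_eq_ltensor]
    exact LinearMap.lTensor_surjective B hu
  have hk : ∀ k : M, k = (i k).sum fun m a => a • m := by
    intro k
    have := congr($hi k)
    simp only [LinearMap.coe_comp, Function.comp_apply, LinearMap.id_coe, id_eq] at this
    rw [Finsupp.linearCombination_apply] at this
    simpa using this.symm
  constructor
  · intro hbij k hk' m
    have h1 : u.baseChange B (1 ⊗ₜ k) = 0 := by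
      rw [LinearMap.baseChange_tmul, LinearMap.mem_ker.mp hk', tmul_zero]
    have h2 : (1 : B) ⊗ₜ[A] k = 0 := hbij.1 (by rw [h1, map_zero])
    have h3 := congr((TensorProduct.rid A B) (LinearMap.lTensor B ((Finsupp.lapply m) ∘ₗ i) $h2))
    simpa [Algebra.smul_def] using h3
  · intro h
    refine ⟨?_, hsurj⟩
    have hzero : LinearMap.lTensor B (LinearMap.ker u).subtype = 0 := by
      ext b k
      simp only [AlgebraTensorModule.curry_apply, curry_apply, LinearMap.coe_restrictScalars,
        LinearMap.lTensor_tmul, Submodule.subtype_apply, LinearMap.zero_apply]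
      have hk1 := hk k.1
      rw [hk1, Finsupp.sum, tmul_sum]
      refine Finset.sum_eq_zero fun m _ => ?_
      rw [tmul_smul, smul_tmul', Algebra.smul_def, h k.1 k.2 m, zero_mul, zero_tmul]
    have hex : Function.Exact (LinearMap.lTensor B (LinearMap.ker u).subtype) (LinearMap.lTensor B u) :=
      lTensor_exact B (LinearMap.exact_subtype_ker_map u) hu
    rw [← LinearMap.ker_eq_bot, eq_bot_iff]
    intro z hz
    rw [LinearMap.mem_ker, LinearMap.baseChange_eq_ltensor] at hz
    obtain ⟨w, rfl⟩ := (hex z).mp hz
    simp [hzero]

end Groth.Agent.S1227
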