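import Groth.Statements.S12286
import Groth.Agent.Lib.Helper59.CotTExact

set_option autoImplicit false
universe u w m
open scoped TensorProduct
open DefT

namespace Groth.Agent.S12286

/-- Let A → B be a ring homomorphism, P a presentation of B over A and M a B-module. The canonical
B-linear map from the A-derivations Der_A(B, M) = Hom_B(Ω_{B/A}, M) to T^0(B/A, M) (the kernel of
Hom_B(L₀, M) → Hom_B(L₁, M), L₀ = B ⊗_R Ω_{R/A}), sending a derivation D to b ⊗ dr ↦ b·D(r̄), is
bijective. -/
theorem result
    (A B : Type u) [CommRing A] [CommRing B] [Algebra A B] (ι σ : Type w) (P : Algebra.Presentation A B ι σ)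
    (M : Type m) [AddCommGroup M] [Module B M] [Module A M] [IsScalarTower A B M] :
    Function.Bijective (CotT.derToT0 P M) := by
  constructor
  · rw [← LinearMap.ker_eq_bot, LinearMap.ker_eq_bot']
    intro D hD
    have h0 : CotT.derLift P M D = 0 := congrArg Subtype.val hD
    ext b
    obtain ⟨r, rfl⟩ := P.toExtension.algebraMap_surjective b
    have := CotT.derLift_tmul_D P M D 1 r
    rw [h0, one_smul] at this
    exact this.symm
  · rintro ⟨φ, hφ⟩
    rw [LinearMap.mem_ker, CotT.d1Star_apply] at hφ
    have hcc : φ ∘ₗ P.toExtension.cotangentComplex = 0 := by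
      apply Groth.Agent.Lib.Helper59.comp_toCot_injective P
      rw [LinearMap.zero_comp, LinearMap.comp_assoc]
      exact hφ
    have hk : LinearMap.ker P.toExtension.toKaehler ≤ LinearMap.ker φ := by
      rw [LinearMap.exact_iff.mp P.toExtension.exact_cotangentComplex_toKaehler]
      rintro _ ⟨z, rfl⟩
      exact LinearMap.congr_fun hcc z
    let φbar : Ω[B⁄A] →ₗ[B] M := (Submodule.liftQ _ φ hk) ∘ₗ
      (P.toExtension.toKaehler.quotKerEquivOfSurjective P.toExtension.toKaehler_surjective).symm.toLinearMap
    have hφbar : ∀ x, φbar (P.toExtension.toKaehler x) = φ x := by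
      intro x
      have : (P.toExtension.toKaehler.quotKerEquivOfSurjective
          P.toExtension.toKaehler_surjective).symm (P.toExtension.toKaehler x) =
          Submodule.Quotient.mk x := by
        rw [LinearEquiv.symm_apply_eq]
        rfl
      simp only [φbar, LinearMap.coe_comp, LinearEquiv.coe_coe, Function.comp_apply]
      rw [this, Submodule.liftQ_apply]
    refine ⟨φbar.compDer (KaehlerDifferential.D A B), ?_⟩
    apply Subtype.ext
    change CotT.derLift P M _ = φ
    refine (P.cotangentSpaceBasis).ext fun i => ?_
    rw [CotT.derLift_basis, ← hφbar, Algebra.Generators.toKaehler_cotangentSpaceBasis]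
    rfl

end Groth.Agent.S12286
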