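import Groth.Statements.S12297
import Groth.Agent.Lib.Helper59.LocPres
import Groth.Agent.Lib.Helper59.CotTRegIff
import Groth.Agent.Lib.Helper59.NineE
import Groth.Agent.S2116

set_option autoImplicit false
universe u w m
open scoped TensorProduct
open DefT

namespace Groth.Agent.S12297

/-- Let k be an algebraically closed field, B a finitely generated k-algebra, m a maximal ideal of B and
B_m the localization, a local k-algebra with residue field k. Then B_m is a regular local ring if
and only if T^1(B_m/k, M) = 0 for all B_m-modules M, and in that case T^2(B_m/k, M) = 0 for all M as
well; the T^i are computed from the choice-free presentation of B_m over k. (The published statement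
is for a local k-algebra with residue field k, k algebraically closed, proved by localization from
the finitely generated case; this row states it for the localizations of finitely generated
k-algebras at maximal ideals, the case that proof covers.) -/
theorem result
    (k B : Type u) [Field k] [IsAlgClosed k] [CommRing B] [Algebra k B] [Algebra.FiniteType k B]
    (m : Ideal B) [m.IsMaximal] :
    (IsRegularLocalRing (Localization.AtPrime m) ↔
      ∀ (M : Type u) [AddCommGroup M] [Module (Localization.AtPrime m) M],
        Subsingleton (CotT.T1 (CotT.canon k (Localization.AtPrime m)) M)) ∧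
    (IsRegularLocalRing (Localization.AtPrime m) →
      ∀ (M : Type u) [AddCommGroup M] [Module (Localization.AtPrime m) M],
        Subsingleton (CotT.T2 (CotT.canon k (Localization.AtPrime m)) M)) := by
  have h1 : IsRegularLocalRing (Localization.AtPrime m) ↔
      Algebra.FormallySmooth k (Localization.AtPrime m) := Groth.Agent.S2116.result m
  refine ⟨h1.trans (Groth.Agent.Lib.Helper59.CotTRegIff.formallySmooth_iff_T1 k _), ?_⟩
  intro hreg M _ _
  have : Algebra.FinitePresentation k B :=
    Algebra.FinitePresentation.of_finiteType.mp inferInstance
  have hs : Algebra.IsSmoothAt k m := h1.mp hreg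
  obtain ⟨f, hf, hsm⟩ := Algebra.IsSmoothAt.exists_notMem_smooth k m
  have : Algebra.FormallySmooth k (Localization.Away f) := hsm.1
  have : Algebra.FinitePresentation k (Localization.Away f) := hsm.2
  have : Algebra.FiniteType k (Localization.Away f) := inferInstance
  have hle : Submonoid.powers f ≤ m.primeCompl := by
    rw [Submonoid.powers_le]
    exact hf
  let : Algebra (Localization.Away f) (Localization.AtPrime m) :=
    IsLocalization.localizationAlgebraOfSubmonoidLe (Localization.Away f) (Localization.AtPrime m)
      (Submonoid.powers f) m.primeCompl hle
  have : IsScalarTower B (Localization.Away f) (Localization.AtPrime m) :=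
    IsLocalization.localization_isScalarTower_of_submonoid_le (Localization.Away f)
      (Localization.AtPrime m) (Submonoid.powers f) m.primeCompl hle
  have : IsScalarTower k (Localization.Away f) (Localization.AtPrime m) :=
    IsScalarTower.of_algebraMap_eq' (by
      rw [IsScalarTower.algebraMap_eq k B (Localization.AtPrime m),
        IsScalarTower.algebraMap_eq B (Localization.Away f) (Localization.AtPrime m),
        RingHom.comp_assoc, ← IsScalarTower.algebraMap_eq k B (Localization.Away f)])
  have hloc : IsLocalization (m.primeCompl.map (algebraMap B (Localization.Away f)))
      (Localization.AtPrime m) :=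
    IsLocalization.isLocalization_of_submonoid_le (Localization.Away f) (Localization.AtPrime m)
      (Submonoid.powers f) m.primeCompl hle
  let : Module (Localization.Away f) M :=
    Module.compHom M (algebraMap (Localization.Away f) (Localization.AtPrime m))
  have : IsScalarTower (Localization.Away f) (Localization.AtPrime m) M := ⟨fun a b x => by
    change (a • b) • x = algebraMap (Localization.Away f) (Localization.AtPrime m) a • (b • x)
    rw [Algebra.smul_def, mul_smul]⟩
  have hT2f : Subsingleton (CotT.T2 (CotT.canon k (Localization.Away f)) M) :=
    Groth.Agent.Lib.Helper59.CotTRegIff.T2_canon_subsingleton k (Localization.Away f)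
      (fun p _ => Groth.Agent.Lib.Helper59.CotTRegIff.regular_of_formallySmooth k
        (Localization.Away f) p) M
  have hT2loc : Subsingleton
      (CotT.T2 (CotT.canon (Localization.Away f) (Localization.AtPrime m)) M) :=
    Groth.Agent.Lib.Helper59.LocPres.T2_canon_subsingleton (Localization.Away f)
      (m.primeCompl.map (algebraMap B (Localization.Away f))) (Localization.AtPrime m) M
  have H := Groth.Agent.Lib.Helper59.NineE.nine_canon k (Localization.Away f)
    (Localization.AtPrime m) M
  obtain ⟨-, -, -, hE2, -⟩ := H
  have hx : ∀ x : CotT.T2 (CotT.canon k (Localization.AtPrime m)) M, x = 0 := by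
    intro x
    obtain ⟨y, hy⟩ := (hE2 x).mp (Subsingleton.elim _ _)
    have hy0 : y = 0 := Subsingleton.elim _ _
    exact hy.symm.trans ((congrArg _ hy0).trans (map_zero _))
  exact ⟨fun x y => by rw [hx x, hx y]⟩

end Groth.Agent.S12297
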