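import Groth.Statements.S12304
-- import your own Groth.Agent.* helpers here
import Groth.Agent.Lib.Helper58.LocalFunctorRep

set_option autoImplicit false
universe u
open CategoryTheory CategoryTheory.Limits AlgebraicGeometry
open ArtFun

namespace Groth.Agent.S12304

/-- Let k be an algebraically closed field, M a locally Noetherian k-scheme and x₀ : Spec k → M a
k-rational point. For a local Artinian k-algebra A with residue field k consider the k-morphisms
Spec A → M whose restriction along the closed point Spec k → Spec A is x₀ (the local functor of M at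
x₀, a morphism A → B acting by composition with Spec B → Spec A). This functor is pro-representable:
there are a complete local Noetherian k-algebra R with residue field k and bijections, natural in A,
between the augmentation-compatible k-algebra maps R → A and these morphisms. (The published
statement is phrased for the fine moduli scheme M of a moduli problem, whose local functor at the
point of a given object is this one; M is taken locally Noetherian here so that the coefficient ring
is Noetherian.) -/
theorem result
    {k : Type u} [Field k] [IsAlgClosed k] (M : Scheme.{u}) (m : M ⟶ Spec (CommRingCat.of k))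
    [IsLocallyNoetherian M] (x₀ : Spec (CommRingCat.of k) ⟶ M) (hx₀ : x₀ ≫ m = 𝟙 _) :
    ∃ (R : ArtFun.CRing k k)
      (e : ∀ A : ArtFun.Art k k, ArtFun.HomSet R.carrier R.res A ≃
        {g : ArtFun.Art.spec A ⟶ M // g ≫ m = ArtFun.Art.specMap (ArtFun.Art.ofBase A) ∧ ArtFun.Art.specRes A ≫ g = x₀}),
      ∀ (A B : ArtFun.Art k k) (h : A ⟶ B) (φ : ArtFun.HomSet R.carrier R.res A),
        ((e B) (ArtFun.HomSet.map h φ)).1 = ArtFun.Art.specMap h ≫ ((e A) φ).1 := by
  classical
  let R := Groth.Agent.Lib.Helper58.LocalFunctorRep.ring M m x₀ hx₀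
  let F : ∀ A : ArtFun.Art k k, ArtFun.HomSet R.carrier R.res A →
      {g : ArtFun.Art.spec A ⟶ M // g ≫ m = ArtFun.Art.specMap (ArtFun.Art.ofBase A) ∧
        ArtFun.Art.specRes A ≫ g = x₀} := fun A φ =>
    ⟨Groth.Agent.Lib.Helper58.LocalFunctorRep.fwd M m x₀ hx₀ A φ,
      Groth.Agent.Lib.Helper58.LocalFunctorRep.fwd_m M m x₀ hx₀ A φ,
      Groth.Agent.Lib.Helper58.LocalFunctorRep.specRes_fwd M m x₀ hx₀ A φ⟩
  have hbij : ∀ A, Function.Bijective (F A) := by
    intro A
    constructor
    · intro φ₁ φ₂ h
      exact Groth.Agent.Lib.Helper58.LocalFunctorRep.fwd_injective M m x₀ hx₀ A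
        (congrArg Subtype.val h)
    · rintro ⟨g, hg1, hg2⟩
      obtain ⟨φ, hφ⟩ := Groth.Agent.Lib.Helper58.LocalFunctorRep.fwd_surjective M m x₀ hx₀ A g hg1 hg2
      exact ⟨φ, Subtype.ext hφ⟩
  refine ⟨R, fun A => Equiv.ofBijective (F A) (hbij A), ?_⟩
  intro A B h φ
  exact Groth.Agent.Lib.Helper58.LocalFunctorRep.fwd_natural M m x₀ hx₀ h φ

end Groth.Agent.S12304
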