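import Groth.Statements.S12306
import Groth.Agent.Lib.Helper59.RigidNoSmooth
import Groth.Agent.Lib.Helper59.SmoothAwayT1
import Groth.Agent.Lib.Helper59.PointsOfFT
import Groth.Agent.Lib.Helper58.ExalBasic
import Groth.Agent.S12292

set_option autoImplicit false
universe u
open CotT

namespace Groth.Agent.S12306

/-- Let k be an algebraically closed field and B₀ a finitely generated k-algebra which is not smooth
over k and is rigid, in the sense that the cotangent module T¹(B₀/k, B₀) (from the choice-free
presentation) vanishes. Let A be a finitely generated k-algebra which is a domain, smooth over k of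
Krull dimension one, t ∈ A an element generating a maximal ideal, and B a finitely generated flat
A-algebra, a k-algebra compatibly with A, whose fibre B/tB is k-isomorphic to B₀. Then this family
does not smooth Spec B₀: there is a prime of B not containing t at which B is not smooth over A.
(The published statement asserts that a singular rigid scheme admits no smoothing by any flat
family; this row states it for flat families with affine total space over an affine nonsingular
curve whose point is cut out by one equation.) -/
theorem result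
    {k : Type u} [Field k] [IsAlgClosed k] (B₀ : Type u) [CommRing B₀] [Algebra k B₀] [Algebra.FiniteType k B₀]
    (hsing : ¬ Algebra.Smooth k B₀) (hrigid : Subsingleton (CotT.T1 (CotT.canon k B₀) B₀))
    (A B : Type u) [CommRing A] [CommRing B] [IsDomain A] [Algebra k A] [Algebra.FiniteType k A]
    [Algebra.Smooth k A] (hdim : ringKrullDim A = 1) (t : A) (ht : (Ideal.span {t}).IsMaximal)
    [Algebra A B] [Algebra.FiniteType A B] [Module.Flat A B] [Algebra k B] [IsScalarTower k A B]
    (e : (B ⧸ Ideal.span {algebraMap A B t}) ≃ₐ[k] B₀) :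
    ∃ q : PrimeSpectrum B, algebraMap A B t ∉ q.asIdeal ∧ q ∉ Algebra.smoothLocus A B := by
  classical
  by_contra hcon
  have hall : ∀ q : PrimeSpectrum B, algebraMap A B t ∉ q.asIdeal →
      q ∈ Algebra.smoothLocus A B := by
    intro q hq
    by_contra h
    exact hcon ⟨q, hq, h⟩
  have : IsNoetherianRing A := Algebra.FiniteType.isNoetherianRing k A
  have : IsNoetherianRing B := Algebra.FiniteType.isNoetherianRing A B
  have : Algebra.FinitePresentation A B :=
    Algebra.FinitePresentation.of_finiteType.mp inferInstance
  have hsub : ↑(PrimeSpectrum.basicOpen (algebraMap A B t)) ⊆ Algebra.smoothLocus A B :=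
    fun q hq => hall q hq
  rw [Groth.Agent.Lib.Helper59.SmoothAwayT1.smooth_away_iff] at hsub
  obtain ⟨n, ψ, hψ⟩ := hsub
  have := ht
  obtain ⟨x, hx⟩ := Groth.Agent.Lib.Helper59.exists_algHom_ker_eq_of_isMaximal k A (Ideal.span {t})
  have ht0 : t ≠ 0 := by
    intro h0
    have hbot : (⊥ : Ideal A).IsMaximal := by
      have h1 : Ideal.span {t} = ⊥ := by rw [h0]; exact Ideal.span_singleton_eq_bot.mpr rfl
      rw [← h1]; exact ht
    have hfield : IsField A := Ring.isField_iff_maximal_bot.mpr hbot
    have h2 := ringKrullDim_eq_zero_of_isField hfield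
    rw [hdim] at h2
    exact one_ne_zero h2
  have htu : ¬ IsUnit t := fun h => ht.ne_top (Ideal.span_singleton_eq_top.mpr h)
  have hn : t ^ n ∉ Ideal.span {t ^ (n + 1)} := by
    intro h
    obtain ⟨a, ha⟩ := Ideal.mem_span_singleton'.mp h
    have h1 : t ^ n * (a * t - 1) = 0 := by
      have h3 : t ^ n * (a * t - 1) = a * t ^ (n + 1) - t ^ n := by ring
      rw [h3, ha, sub_self]
    rcases mul_eq_zero.mp h1 with h2 | h2
    · exact ht0 (eq_zero_of_pow_eq_zero h2)
    · exact htu (IsUnit.of_mul_eq_one a (by rw [mul_comm]; exact sub_eq_zero.mp h2))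
  have hT : ∀ E : Exal.Ext k B₀ B₀, E.IsTrivial := by
    obtain ⟨eq, -⟩ := Groth.Agent.S12292.result k B₀ B₀
    have : Subsingleton (Exal.Exalcom k B₀ B₀) := eq.subsingleton_congr.mpr hrigid
    intro E
    have h : (Exal.Ext.trivial k B₀ B₀).cl = E.cl := Subsingleton.elim _ _
    obtain ⟨θ⟩ : Nonempty (Exal.Ext.Equiv (Exal.Ext.trivial k B₀ B₀) E) := Quotient.exact h
    exact Groth.Agent.Lib.Helper58.ExalB.isTrivial_of_equiv θ Groth.Agent.Lib.Helper58.ExalB.trivial_isTrivial
  have hFS := Groth.Agent.Lib.Helper59.RigidNoSmooth.formallySmooth_of_rigid B₀ hT t x hx n hn e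
    (Algebra.Presentation.ofFinitePresentation A B).toGenerators ψ
    (by rw [map_pow]; exact hψ)
  exact hsing ⟨hFS, Algebra.FinitePresentation.of_finiteType.mp inferInstance⟩

end Groth.Agent.S12306
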