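import Groth.Statements.S12314
-- import your own Groth.Agent.* helpers here

set_option autoImplicit false
universe u
open CategoryTheory CategoryTheory.Limits AlgebraicGeometry MonObj
open SGA7

namespace Groth.Agent.S12314

section aux

variable {S : Scheme.{u}} {A C : Over S} [GrpObj A] [IsCommMonObj A] [GrpObj C] [IsCommMonObj C]
  {T : Over S} {l : ℕ}

/-- the composite of the Tate maps of `u` and `v` when `u ≫ v = n` -/
theorem tateMap_tateMap_component (u : C ⟶ A) [IsMonHom u] (v : A ⟶ C) [IsMonHom v] (n : ℕ)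
    (huv : u ≫ v = (𝟙 C) ^ n) (z : AbDual.TateMod C l T) (m : ℕ) :
    AbDual.TateMod.component C l T m (AbDual.tateMap v (AbDual.tateMap u z)) =
      n • AbDual.TateMod.component C l T m z := by
  have h1 : (AbDual.TateMod.component C l T m (AbDual.tateMap v (AbDual.tateMap u z))).toMul =
      ((AbDual.TateMod.component C l T m z).toMul ≫ u) ≫ v := rfl
  have h2 : ((AbDual.TateMod.component C l T m z).toMul ≫ u) ≫ v =
      (AbDual.TateMod.component C l T m z).toMul ^ n := by
    rw [Category.assoc, huv, MonObj.comp_pow, Category.comp_id]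
  apply Additive.toMul.injective
  rw [h1, h2, toMul_nsmul]

/-- the Tate module has no `n`-torsion for `n > 0` -/
theorem tate_eq_zero_of_nsmul (hl : l.Prime) (n : ℕ) (hn : 0 < n) (z : AbDual.TateMod C l T)
    (h : ∀ m, n • AbDual.TateMod.component C l T m z = 0) : z = 0 := by
  -- write `n = l ^ a * n'` with `n'` prime to `l`
  obtain ⟨a, n', hn', rfl⟩ := Nat.exists_eq_pow_mul_and_not_dvd hn.ne' l hl.ne_one
  have hcop : Nat.Coprime n' l := (Nat.Coprime.symm ((Nat.Prime.coprime_iff_not_dvd hl).mpr hn'))
  apply AbDual.TateMod.ext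
  intro m
  change AbDual.TateMod.component C l T m z = 0
  -- `z_m = l ^ a • z_{m+a}`
  have hstep : ∀ (b : ℕ) (m : ℕ), (l ^ b) • AbDual.TateMod.component C l T (m + b) z =
      AbDual.TateMod.component C l T m z := by
    intro b
    induction b with
    | zero => intro m; simp
    | succ b ih =>
      intro m
      have hc : l • AbDual.TateMod.component C l T (m + b + 1) z =
          AbDual.TateMod.component C l T (m + b) z := z.compat (m + b)
      rw [pow_succ', mul_nsmul, ← add_assoc, hc, ih]
  rw [← hstep a m]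
  -- the order of `z_{m+a}` divides `l ^ a * n'` and `l ^ (m + a)`
  set y := AbDual.TateMod.component C l T (m + a) z with hy
  have h1 : (l ^ a * n') • y = 0 := h (m + a)
  have h2 : (l ^ (m + a)) • y = 0 := z.torsion (m + a)
  have hd1 : addOrderOf y ∣ l ^ a * n' := addOrderOf_dvd_of_nsmul_eq_zero h1
  have hd2 : addOrderOf y ∣ l ^ (m + a) := addOrderOf_dvd_of_nsmul_eq_zero h2
  have hd3 : addOrderOf y ∣ l ^ a := by
    have hc : Nat.Coprime (addOrderOf y) n' :=
      Nat.Coprime.coprime_dvd_left hd2 (Nat.Coprime.pow_left _ hcop.symm)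
    exact hc.dvd_of_dvd_mul_right hd1
  exact addOrderOf_dvd_iff_nsmul_eq_zero.mp hd3

end aux

/-- Let R be a henselian discrete valuation ring with fraction field K and residue field k, Ω a
separable closure of K, W a valuation subring of Ω lying over R, A and C abelian varieties over K
(proper, geometrically integral commutative group schemes), and u : C → A an isogeny, in the form:
there are a homomorphism v : A → C and an integer n > 0 with v ∘ u = n and u ∘ v = n. Let ℓ be a
prime invertible in k and consider the ℓ-adic Tate modules of the Ω-points of C and A; call an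
element fixed when all its components are fixed by the inertia group at W (for such ℓ the fixed part
is the inertia invariants). Then T_ℓ(u) maps the fixed part of T_ℓ(C) into the fixed part of T_ℓ(A)
and induces an isogeny between them: T_ℓ(u) is injective, and n times every fixed element of T_ℓ(A)
is the image of a fixed element of T_ℓ(C). (The case of a prime equal to the residue characteristic,
where the fixed part is defined through the Néron model, is not stated.) -/
theorem result (R K Ω : Type u) [CommRing R] [IsDomain R] [IsDiscreteValuationRing R] [HenselianLocalRing R]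
    [Field K] [Algebra R K] [IsFractionRing R K] [Field Ω] [Algebra K Ω] [IsSepClosure K Ω]
    (W : ValuationSubring Ω) (hW : SGA7.LiesOver K R W)
    (A C : Over (Spec (CommRingCat.of K))) [GrpObj A] [IsCommMonObj A] [IsProper A.hom] [GeometricallyIntegral A.hom]
    [GrpObj C] [IsCommMonObj C] [IsProper C.hom] [GeometricallyIntegral C.hom]
    (u : C ⟶ A) [IsMonHom u] (v : A ⟶ C) [IsMonHom v] (n : ℕ) (hn : 0 < n)
    (huv : u ≫ v = (𝟙 C) ^ n) (hvu : v ≫ u = (𝟙 A) ^ n)
    (l : ℕ) (hl : l.Prime) (hlp : (l : IsLocalRing.ResidueField R) ≠ 0) :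
    (∀ z : AbDual.TateMod C l (SGA7.pt Ω),
      (∀ (τ : Ω ≃ₐ[K] Ω) (m : ℕ), SGA7.IsInertia W τ →
        SGA7.galAct τ (AbDual.TateMod.component C l (SGA7.pt Ω) m z).toMul =
          (AbDual.TateMod.component C l (SGA7.pt Ω) m z).toMul) →
      (∀ (τ : Ω ≃ₐ[K] Ω) (m : ℕ), SGA7.IsInertia W τ →
        SGA7.galAct τ (AbDual.TateMod.component A l (SGA7.pt Ω) m (AbDual.tateMap u z)).toMul =
          (AbDual.TateMod.component A l (SGA7.pt Ω) m (AbDual.tateMap u z)).toMul)) ∧
    (∀ z : AbDual.TateMod C l (SGA7.pt Ω), AbDual.tateMap (l := l) (T := SGA7.pt Ω) u z = 0 → z = 0) ∧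
    (∀ y : AbDual.TateMod A l (SGA7.pt Ω),
      (∀ (τ : Ω ≃ₐ[K] Ω) (m : ℕ), SGA7.IsInertia W τ →
        SGA7.galAct τ (AbDual.TateMod.component A l (SGA7.pt Ω) m y).toMul =
          (AbDual.TateMod.component A l (SGA7.pt Ω) m y).toMul) →
      ∃ z : AbDual.TateMod C l (SGA7.pt Ω),
        (∀ (τ : Ω ≃ₐ[K] Ω) (m : ℕ), SGA7.IsInertia W τ →
        SGA7.galAct τ (AbDual.TateMod.component C l (SGA7.pt Ω) m z).toMul =
          (AbDual.TateMod.component C l (SGA7.pt Ω) m z).toMul) ∧
        AbDual.tateMap (l := l) (T := SGA7.pt Ω) u z = n • y) := by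
  -- equivariance of Tate maps
  have hequiv : ∀ {X Y : Over (Spec (CommRingCat.of K))} [GrpObj X] [IsCommMonObj X] [GrpObj Y]
      [IsCommMonObj Y] (f : X ⟶ Y) [IsMonHom f] (z : AbDual.TateMod X l (SGA7.pt Ω)),
      (∀ (τ : Ω ≃ₐ[K] Ω) (m : ℕ), SGA7.IsInertia W τ →
        SGA7.galAct τ (AbDual.TateMod.component X l (SGA7.pt Ω) m z).toMul =
          (AbDual.TateMod.component X l (SGA7.pt Ω) m z).toMul) →
      (∀ (τ : Ω ≃ₐ[K] Ω) (m : ℕ), SGA7.IsInertia W τ →
        SGA7.galAct τ (AbDual.TateMod.component Y l (SGA7.pt Ω) m (AbDual.tateMap f z)).toMul =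
          (AbDual.TateMod.component Y l (SGA7.pt Ω) m (AbDual.tateMap f z)).toMul) := by
    intro X Y _ _ _ _ f _ z hz τ m hτ
    rw [AbDual.tateMap_component]
    have := hz τ m hτ
    unfold SGA7.galAct at this ⊢
    rw [← Category.assoc, this]
  refine ⟨hequiv u, ?_, ?_⟩
  · intro z hz
    apply tate_eq_zero_of_nsmul hl n hn z
    intro m
    rw [← tateMap_tateMap_component u v n huv z m, hz, map_zero, map_zero]
  · intro y hy
    refine ⟨AbDual.tateMap v y, hequiv v y hy, ?_⟩
    apply AbDual.TateMod.ext
    intro m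
    change AbDual.TateMod.component A l (SGA7.pt Ω) m (AbDual.tateMap u (AbDual.tateMap v y)) =
      AbDual.TateMod.component A l (SGA7.pt Ω) m (n • y)
    rw [tateMap_tateMap_component v u n hvu y m, map_nsmul]

end Groth.Agent.S12314
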