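import Groth.Statements.S12315
import Groth.Agent.S12716
import Groth.Agent.Lib.Helper65.CRingTangent
import Groth.Agent.Lib.Helper65.NoethEndo

set_option autoImplicit false
universe u v
open CategoryTheory
open SGA7

namespace Groth.Agent.S12315

/-- Let Λ be a complete Noetherian local ring with residue field k (the map Λ → k surjective), and
consider functors on the category of local Artinian Λ-algebras with residue field k. Let F be such a
functor, R a complete local Noetherian Λ-algebra with residue field k, and ξ a family of F over R (a
morphism h_R → F) which is injective on k[ε]: distinct augmented Λ-algebra maps R → k[ε] give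
distinct elements of F(k[ε]). Then every endomorphism of the pair (R, ξ), that is every Λ-algebra
map α : R → R compatible with the augmentation such that transporting ξ along α gives back ξ, is an
automorphism of R. (The published statement is for formal objects of a cofibred groupoid; this row
is the case of a set-valued functor.) -/
theorem result (Λ k : Type u) [CommRing Λ] [IsLocalRing Λ] [IsNoetherianRing Λ]
    [IsAdicComplete (IsLocalRing.maximalIdeal Λ) Λ] [Field k] [Algebra Λ k]
    (hk : Function.Surjective (algebraMap Λ k))
    (F : ArtFun.Art Λ k ⥤ Type v) (R : ArtFun.CRing Λ k) (ξ : ArtFun.Family R.carrier R.res F)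
    (hinj : Function.Injective (ξ.app (ArtFun.Art.dual Λ k)))
    (α : R.carrier →ₐ[Λ] R.carrier) (hα : R.res.comp α = R.res) (hξ : ξ.along α hα = ξ) :
    Function.Bijective α := by
  open Groth.Agent.Lib.Helper65 in
  have : Module.Finite Λ k := Module.Finite.of_surjective (Algebra.linearMap Λ k) hk
  let _ : Algebra R.carrier k := R.res.toRingHom.toAlgebra
  have : IsAdicComplete (IsLocalRing.maximalIdeal R.carrier) R.carrier := R.isAdicComplete
  have : IsScalarTower Λ R.carrier k := IsScalarTower.of_algebraMap_eq (fun r => by
    change algebraMap Λ k r = R.res (algebraMap Λ R.carrier r)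
    rw [AlgHom.commutes])
  have hres : ∀ s, R.res s = algebraMap R.carrier k s := fun s => rfl
  -- every tangent vector is fixed by precomposition with α
  have hfix : ∀ u : ArtFun.HomSet R.carrier R.res (ArtFun.Art.dual Λ k),
      (⟨u.1.comp α, by rw [← AlgHom.comp_assoc, u.2, hα]⟩ :
        ArtFun.HomSet R.carrier R.res (ArtFun.Art.dual Λ k)) = u := by
    intro u
    apply hinj
    have h1 : (ξ.along α hα).app (ArtFun.Art.dual Λ k) u = ξ.app (ArtFun.Art.dual Λ k) u := by
      rw [hξ]
    exact h1
  have hD : ∀ (D : Derivation Λ R.carrier k) (r : R.carrier), D (α r) = D r := by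
    intro D r
    have h1 := hfix (homOfDer R.res hres D)
    have h2 := congrArg (fun u : ArtFun.HomSet R.carrier R.res (ArtFun.Art.dual Λ k) =>
      (TrivSqZeroExt.snd (u.1 r : TrivSqZeroExt k k) : k)) h1
    exact h2
  have hsurj : Function.Surjective α := by
    refine Groth.Agent.S12716.result R R.carrier R.res_surjective α ?_ ?_
    · exact hα
    · intro D₁ D₂ h
      ext r
      rw [← hD D₁ r, ← hD D₂ r]
      exact h r
  exact ⟨ringHom_injective_of_surjective_endo α.toRingHom hsurj, hsurj⟩

end Groth.Agent.S12315
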