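import Groth.Statements.S12316
import Groth.Agent.S12719
import Groth.Agent.S12755
import Groth.Agent.S12756
import Groth.Agent.Lib.Helper65.ArtTorsor2

set_option autoImplicit false
universe u v
open CategoryTheory
open SGA7

namespace Groth.Agent.S12316

open ArtFun ArtFun.Art Groth.Agent.Lib.Helper65 in
/-- Freeness of the tangent action for a semi-homogeneous source and homogeneous target. -/
theorem torsor_injective' {Λ k : Type u} [CommRing Λ] [Field k] [Algebra Λ k]
    [IsNoetherianRing Λ] [Module.Finite Λ k] {G H : Art Λ k ⥤ Type v}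
    (hG1 : S1 G) (hG2 : Heps G)
    (hH : ∀ ⦃B A A' A'' : Art Λ k⦄ (p' : B ⟶ A') (p'' : B ⟶ A'') (f' : A' ⟶ A) (f'' : A'' ⟶ A)
        (h : IsFibreProd p' p'' f' f''), Function.Surjective f'' → Function.Bijective (cmp H h))
    (ψ : G ⟶ H) (hdinj : Function.Injective (ψ.app (dual Λ k)))
    {A B : Art Λ k} (μ : B ⟶ A) (hμ : IsSmallExt μ) (x₁ x₂ : G.obj B)
    (hμx : G.map μ x₁ = G.map μ x₂) (h : ψ.app B x₁ = ψ.app B x₂) : x₁ = x₂ := by
  obtain ⟨P, q₁, q₂, τ, h₁, h₂⟩ := exists_torsor_square μ hμ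
  obtain ⟨wF, hwF⟩ := hG1 q₁ q₂ μ μ h₁ hμ.1 ⟨(x₁, x₂), hμx⟩
  have hwF1 : G.map q₁ wF = x₁ := congrArg (fun t => t.1.1) hwF
  have hwF2 : G.map q₂ wF = x₂ := congrArg (fun t => t.1.2) hwF
  obtain ⟨δ, hδ1, hδ2⟩ := isFibreProd_lift_hom h₁ (𝟙 B) (𝟙 B) rfl
  have hw'1 : G.map q₁ (G.map δ x₁) = x₁ := by
    rw [← FunctorToTypes.map_comp_apply, hδ1, FunctorToTypes.map_id_apply]
  have hw'2 : G.map q₂ (G.map δ x₁) = x₁ := by
    rw [← FunctorToTypes.map_comp_apply, hδ2, FunctorToTypes.map_id_apply]
  have hφw : ψ.app P wF = ψ.app P (G.map δ x₁) := by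
    apply (hH q₁ q₂ μ μ h₁ hμ.1).1
    apply FibProd.ext
    · change H.map q₁ (ψ.app P wF) = H.map q₁ (ψ.app P (G.map δ x₁))
      rw [← NatTrans.naturality_apply ψ q₁, ← NatTrans.naturality_apply ψ q₁, hwF1, hw'1]
    · change H.map q₂ (ψ.app P wF) = H.map q₂ (ψ.app P (G.map δ x₁))
      rw [← NatTrans.naturality_apply ψ q₂, ← NatTrans.naturality_apply ψ q₂, hwF2, hw'2, h]
  have hη : G.map τ wF = G.map τ (G.map δ x₁) := by
    apply hdinj
    rw [NatTrans.naturality_apply ψ τ, NatTrans.naturality_apply ψ τ, hφw]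
  have hww : wF = G.map δ x₁ := by
    apply (hG2 q₁ τ h₂).1
    apply FibProd.ext
    · change G.map q₁ wF = G.map q₁ (G.map δ x₁)
      rw [hwF1, hw'1]
    · exact hη
  rw [← hwF2, hww, hw'2]

/-- Suppose Λ is a Noetherian local ring, complete for its maximal ideal, whose residue field is k (so Λ
→ k is surjective), and work with functors defined on the category of local Artinian Λ-algebras
having residue field k. Take morphisms φ : F → G and ψ : G → H of such functors. Assume that each of
F(k), G(k), H(k) consists of a single point; that for G the comparison map on fibre products A₁ ×_A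
A₂ is surjective as soon as A₂ → A is surjective, and is bijective for products of the form A' ×_k
k[ε]; that for H the comparison map is bijective on every fibre product A₁ ×_A A₂ with A₂ → A
surjective; and that the induced map on tangent spaces G(k[ε]) → H(k[ε]) coming from ψ is injective.
Under these assumptions, φ ≫ ψ is smooth if and only if both φ and ψ are smooth. (The published
statement is for functors of cofibred groupoids with G semi-homogeneous and H homogeneous; this row
is the case of set-valued functors.) -/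
theorem result (Λ k : Type u) [CommRing Λ] [IsLocalRing Λ] [IsNoetherianRing Λ]
    [IsAdicComplete (IsLocalRing.maximalIdeal Λ) Λ] [Field k] [Algebra Λ k]
    (hk : Function.Surjective (algebraMap Λ k))
    {F G H : ArtFun.Art Λ k ⥤ Type v} (φ : F ⟶ G) (ψ : G ⟶ H)
    (hF : ArtFun.H0 F) (hG : ArtFun.H0 G ∧ ArtFun.S1 G ∧ ArtFun.Heps G) (hH0 : ArtFun.H0 H)
    (hH : ∀ ⦃B A A' A'' : ArtFun.Art Λ k⦄ (p' : B ⟶ A') (p'' : B ⟶ A'') (f' : A' ⟶ A) (f'' : A'' ⟶ A)
      (h : ArtFun.Art.IsFibreProd p' p'' f' f''), Function.Surjective f'' → Function.Bijective (ArtFun.cmp H h))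
    (hψ : Function.Injective (ArtFun.TangentSpace.map ψ)) :
    ArtFun.IsSmooth (φ ≫ ψ) ↔ (ArtFun.IsSmooth φ ∧ ArtFun.IsSmooth ψ) := by
  have : Module.Finite Λ k := Module.Finite.of_surjective (Algebra.linearMap Λ k) hk
  constructor
  · intro hs
    have hφ : ArtFun.IsSmooth φ := by
      apply Groth.Agent.Lib.Helper65.isSmooth_of_small
      intro A B μ hμ
      rintro ⟨⟨x, g⟩, hxg⟩
      change φ.app A x = G.map μ g at hxg
      obtain ⟨x', hx'⟩ := hs μ hμ.1 ⟨(x, ψ.app B g), by
        change (φ ≫ ψ).app A x = H.map μ (ψ.app B g)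
        rw [NatTrans.comp_app, types_comp_apply, hxg]
        exact NatTrans.naturality_apply ψ μ g⟩
      have hx'1 : F.map μ x' = x := congrArg (fun t => t.1.1) hx'
      have hx'2 : ψ.app B (φ.app B x') = ψ.app B g := congrArg (fun t => t.1.2) hx'
      have heq : φ.app B x' = g := by
        apply torsor_injective' hG.2.1 hG.2.2 hH ψ hψ μ hμ
        · rw [← NatTrans.naturality_apply φ μ, hx'1, hxg]
        · exact hx'2
      refine ⟨x', ?_⟩
      apply Subtype.ext
      apply Prod.ext
      · exact hx'1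
      · exact heq
    refine ⟨hφ, ?_⟩
    have h0 : Function.Surjective (φ.app (ArtFun.Art.base Λ k)) := by
      intro y
      obtain ⟨x⟩ := hF.1
      exact ⟨x, hG.1.2.elim _ _⟩
    exact Groth.Agent.S12756.result φ ψ (fun A => Groth.Agent.S12719.result φ hφ h0 A) hs
  · rintro ⟨hφ, hψ'⟩
    exact Groth.Agent.S12755.result φ ψ hφ hψ'

end Groth.Agent.S12316
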