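import Groth.Statements.S12320
import Groth.Agent.Lib.Helper44.ArtDualSmall

set_option autoImplicit false
universe u v
open CategoryTheory
open SGA7

namespace Groth.Agent.S12320

/-- Suppose Λ is a Noetherian local ring, complete for its maximal ideal, whose residue field is k (so
that Λ → k is onto), and work with functors defined on the category of local Artinian Λ-algebras
having residue field k. Take such a functor F for which F(k) is a singleton, for which the
comparison map F(A₁ ×_A A₂) → F(A₁) ×_{F(A)} F(A₂) is surjective as soon as A₂ → A is surjective,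
and for which this map is bijective in the case A' ×_k k[ε]. Call an element a ∈ F(R) versal for
small prolongations of the base point when, given any object R₀ whose augmentation R₀ → k is a small
extension and any b ∈ F(R₀), some morphism R → R₀ sends a to b. Assume a ∈ F(R) has this versality
property, that π₁ : R₁ → R is a small extension together with a₁ ∈ F(R₁) whose image is a, and that
g : R' → R is a morphism together with a' ∈ F(R') whose image is a. Then a morphism f : R' → R₁
satisfying f ≫ π₁ = g and sending a' to a₁ exists exactly when some morphism f : R' → R₁ satisfying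
f ≫ π₁ = g exists at all. (The published statement concerns semi-homogeneous cofibred groupoids;
this row treats only the set-valued functor case.) -/
theorem result (Λ k : Type u) [CommRing Λ] [IsLocalRing Λ] [IsNoetherianRing Λ]
    [IsAdicComplete (IsLocalRing.maximalIdeal Λ) Λ] [Field k] [Algebra Λ k]
    (hk : Function.Surjective (algebraMap Λ k))
    (F : ArtFun.Art Λ k ⥤ Type v) (hF : ArtFun.H0 F ∧ ArtFun.S1 F ∧ ArtFun.Heps F)
    {R R₁ R' : ArtFun.Art Λ k} (π₁ : R₁ ⟶ R) (hπ : ArtFun.Art.IsSmallExt π₁) (g : R' ⟶ R)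
    (a : F.obj R) (a₁ : F.obj R₁) (a' : F.obj R') (h₁ : F.map π₁ a₁ = a) (h' : F.map g a' = a)
    (hvers : ∀ (R₀ : ArtFun.Art Λ k), ArtFun.Art.IsSmallExt (ArtFun.Art.toBase R₀) →
      ∀ b : F.obj R₀, ∃ φ : R ⟶ R₀, F.map φ a = b) :
    (∃ f : R' ⟶ R₁, f ≫ π₁ = g ∧ F.map f a' = a₁) ↔ (∃ f : R' ⟶ R₁, f ≫ π₁ = g) := by
  open ArtFun ArtFun.Art Groth.Agent.Lib.Helper65 Groth.Agent.Lib.Helper44 in
  have : Module.Finite Λ k := Module.Finite.of_surjective (Algebra.linearMap Λ k) hk
  constructor
  · rintro ⟨f, hf, -⟩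
    exact ⟨f, hf⟩
  · rintro ⟨f, hf⟩
    obtain ⟨P, q₁, q₂, τ, hP₁, hP₂⟩ := exists_torsor_square π₁ hπ
    -- the two lifts `F(f)(a')` and `a₁` of `a`
    have hb : F.map π₁ (F.map f a') = F.map π₁ a₁ := by
      rw [← FunctorToTypes.map_comp_apply, hf, h', h₁]
    obtain ⟨w, hw⟩ := hF.2.1 q₁ q₂ π₁ π₁ hP₁ hπ.1 ⟨(F.map f a', a₁), hb⟩
    have hw1 : F.map q₁ w = F.map f a' := congrArg (fun t => t.1.1) hw
    have hw2 : F.map q₂ w = a₁ := congrArg (fun t => t.1.2) hw
    obtain ⟨φ, hφ⟩ := hvers (dual Λ k) isSmallExt_toBase_dual (F.map τ w)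
    obtain ⟨h, hh1, hh2⟩ := isFibreProd_lift_hom hP₂ f (g ≫ φ)
      (by rw [eq_toBase (f ≫ toBase R₁), eq_toBase ((g ≫ φ) ≫ toBase (dual Λ k))])
    have hha : F.map h a' = w := by
      apply (hF.2.2 q₁ τ hP₂).1
      apply FibProd.ext
      · change F.map q₁ (F.map h a') = F.map q₁ w
        rw [← FunctorToTypes.map_comp_apply, hh1, hw1]
      · change F.map τ (F.map h a') = F.map τ w
        rw [← FunctorToTypes.map_comp_apply, hh2, FunctorToTypes.map_comp_apply, h', hφ]
    refine ⟨h ≫ q₂, ?_, ?_⟩
    · rw [Category.assoc, ← hP₁.w, ← Category.assoc, hh1, hf]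
    · rw [FunctorToTypes.map_comp_apply, hha, hw2]

end Groth.Agent.S12320
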