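import Groth.Statements.S12321
import Groth.Agent.Lib.Helper44.SchlStep

set_option autoImplicit false
universe u v
open CategoryTheory
open SGA7

namespace Groth.Agent.S12321

open IsLocalRing ArtFun ArtFun.Art Groth.Agent.Lib.Helper65 Groth.Agent.Lib.Helper58.Schl
  Groth.Agent.Lib.Helper58 Groth.Agent.Lib.Helper44

/-- Suppose Λ is a Noetherian local ring that is complete, and k is its residue field, so the map Λ → k
is surjective. We look at functors on the category of local Artinian Λ-algebras whose residue field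
is k. Take such a functor F for which F(k) is a single point, the comparison map F(A₁ ×_A A₂) →
F(A₁) ×_{F(A)} F(A₂) is surjective whenever A₂ → A is surjective, and this map is bijective for A'
×_k k[ε]. Call an element a ∈ F(R) versal for small prolongations of the base point when, for each
object R₀ whose augmentation R₀ → k is a small extension and each b ∈ F(R₀), some morphism R → R₀
sends a to b. Assume a ∈ F(R) has this property. Then one can find an object R', a morphism q : R' →
R and an element a' ∈ F(R') whose image is a, satisfying the following. First, q is surjective and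
the maximal ideal annihilates its kernel. Second, q induces an isomorphism m_{R'}/(m_{R'}² + m_Λ R')
→ m_R/(m_R² + m_Λ R) between relative cotangent spaces (only injectivity is stated; surjectivity
comes for free). Third, a' is versal for small prolongations of a: given any small extension π₁ : R₁
→ R and any a₁ ∈ F(R₁) with image a, there is f : R' → R₁ satisfying f ≫ π₁ = q and sending a' to
a₁. (The published statement concerns semi-homogeneous cofibred groupoids; this row treats the case
of set-valued functors.) -/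
theorem result (Λ k : Type u) [CommRing Λ] [IsLocalRing Λ] [IsNoetherianRing Λ]
    [IsAdicComplete (IsLocalRing.maximalIdeal Λ) Λ] [Field k] [Algebra Λ k]
    (hk : Function.Surjective (algebraMap Λ k))
    (F : ArtFun.Art Λ k ⥤ Type v) (hF : ArtFun.H0 F ∧ ArtFun.S1 F ∧ ArtFun.Heps F)
    (R : ArtFun.Art Λ k) (a : F.obj R)
    (hvers : ∀ (R₀ : ArtFun.Art Λ k), ArtFun.Art.IsSmallExt (ArtFun.Art.toBase R₀) →
      ∀ b : F.obj R₀, ∃ φ : R ⟶ R₀, F.map φ a = b) :
    ∃ (R' : ArtFun.Art Λ k) (q : R' ⟶ R) (a' : F.obj R'), F.map q a' = a ∧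
      ArtFun.Art.IsSemismallExt q ∧
      (∀ x' : R', x' ∈ IsLocalRing.maximalIdeal (R' : Type u) →
        q x' ∈ (IsLocalRing.maximalIdeal (R : Type u)) ^ 2 ⊔ (IsLocalRing.maximalIdeal Λ).map (algebraMap Λ R) →
        x' ∈ (IsLocalRing.maximalIdeal (R' : Type u)) ^ 2 ⊔ (IsLocalRing.maximalIdeal Λ).map (algebraMap Λ R')) ∧
      ∀ (R₁ : ArtFun.Art Λ k) (π₁ : R₁ ⟶ R), ArtFun.Art.IsSmallExt π₁ →
        ∀ a₁ : F.obj R₁, F.map π₁ a₁ = a → ∃ f : R' ⟶ R₁, f ≫ π₁ = q ∧ F.map f a' = a₁ := by
  obtain ⟨-, h1, h2⟩ := hF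
  haveI : Module.Finite Λ k := moduleFinite_of_surjective hk
  obtain ⟨r, w, hwsurj, hwres, hwmin⟩ := exists_min_presentation hk R
  let σ : Stage Λ k r F := { C := R, w := w, surj := hwsurj, comp_res := hwres, x := a }
  obtain ⟨τ, hnτ, hle, hx, hmin⟩ := exists_next hk h1 σ
  have hq : ∀ b, (τ.factor σ hle).toAlgHom (τ.w b) = w b := fun b => Stage.factor_apply τ σ hle b
  refine ⟨τ.C, τ.factor σ hle, τ.x, hx, ⟨?_, ?_⟩, ?_, ?_⟩
  · exact factorHom_surjective _ _ _ _ _ _ σ.surj
  · rw [← le_bot_iff, Ideal.mul_le]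
    intro x hx' y hy
    obtain ⟨b, rfl⟩ := τ.surj x
    obtain ⟨c, rfl⟩ := τ.surj y
    have hb : b ∈ maximalIdeal (PS Λ r) := (τ.w_mem_maximalIdeal hk b).mp hx'
    have hc : c ∈ σ.K := by
      rw [σ.mem_K]
      have := RingHom.mem_ker.mp hy
      rw [hq] at this
      exact this
    rw [Ideal.mem_bot, ← map_mul, ← τ.mem_K]
    exact hnτ (Ideal.mul_mem_mul hb hc)
  · intro x' hx' hqx'
    obtain ⟨b, rfl⟩ := τ.surj x'
    have hb : b ∈ maximalIdeal (PS Λ r) := (τ.w_mem_maximalIdeal hk b).mp hx'
    have hqb : w b ∈ maximalIdeal (R : Type u) ^ 2 ⊔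
        (maximalIdeal Λ).map (algebraMap Λ R) := by
      have := hqx'
      change (τ.factor σ hle).toAlgHom (τ.w b) ∈ _ at this
      rw [hq] at this
      exact this
    have hbmem := hwmin b hb hqb
    -- push forward along `τ.w`
    have hmap : (maximalIdeal (PS Λ r) ^ 2 ⊔
        (maximalIdeal Λ).map (algebraMap Λ (PS Λ r))).map (τ.w : PS Λ r →+* τ.C) ≤
        maximalIdeal (τ.C : Type u) ^ 2 ⊔ (maximalIdeal Λ).map (algebraMap Λ τ.C) := by
      rw [Ideal.map_sup]
      apply sup_le_sup
      · rw [Ideal.map_le_iff_le_comap]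
        intro f hf
        exact ps_map_sq_mem hk τ.w τ.comp_res hf
      · rw [Ideal.map_map]
        have : (τ.w : PS Λ r →+* τ.C).comp (algebraMap Λ (PS Λ r)) = algebraMap Λ τ.C :=
          τ.w.comp_algebraMap
        rw [this]
    exact hmap (Ideal.mem_map_of_mem (τ.w : PS Λ r →+* τ.C) hbmem)
  · intro R₁ π₁ hπ₁ a₁ ha₁
    exact stage_step_versal hk h1 h2 σ τ hle hx hmin
      (fun b => hvers (dual Λ k) isSmallExt_toBase_dual b) π₁ hπ₁ a₁ ha₁

end Groth.Agent.S12321
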