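import Groth.Statements.S12417
-- import your own Groth.Agent.* helpers here

set_option autoImplicit false
universe u
open CategoryTheory AlgebraicGeometry
open Props

namespace Groth.Agent.S12417

/-- Let X be a quasi-compact quasi-separated scheme and P a property of opens of X such that (a) P holds
for every affine open, and (b) whenever a quasi-compact open U has a finite affine open covering U =
V_1 ∪ … ∪ V_n with P holding for every intersection V_i ∩ V_j, P holds for U. Then P holds for every
quasi-compact open of X. -/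
theorem result (X : Scheme.{u}) [CompactSpace X] [QuasiSeparatedSpace X]
    (P : X.Opens → Prop) (ha : ∀ U : X.Opens, IsAffineOpen U → P U)
    (hb : ∀ (U : X.Opens) (n : ℕ) (V : Fin n → X.Opens), IsCompact (U : Set X) →
      (∀ i, IsAffineOpen (V i)) → ⨆ i, V i = U → (∀ i j, P (V i ⊓ V j)) → P U)
    (U : X.Opens) (hU : IsCompact (U : Set X)) : P U := by
  classical
  -- finite-index version of (b)
  have hb' : ∀ (U : X.Opens) (ι : Type u) [Finite ι] (V : ι → X.Opens), IsCompact (U : Set X) →
      (∀ i, IsAffineOpen (V i)) → ⨆ i, V i = U → (∀ i j, P (V i ⊓ V j)) → P U := by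
    intro U ι _ V hU hV hsup hP
    obtain ⟨n, ⟨e⟩⟩ := Finite.exists_equiv_fin ι
    refine hb U n (fun i => V (e.symm i)) hU (fun i => hV _) ?_ (fun i j => hP _ _)
    rw [← hsup]
    exact e.symm.iSup_comp (g := V)
  -- Step 1: compact opens inside an affine open
  have step1 : ∀ (W : X.Opens), IsAffineOpen W → ∀ U : X.Opens, U ≤ W →
      IsCompact (U : Set X) → P U := by
    intro W hW U hUW hU
    have hex : ∀ x : U, ∃ f : Γ(X, W), X.basicOpen f ≤ U ∧ (x : X) ∈ X.basicOpen f :=
      fun x => hW.exists_basicOpen_le x (hUW x.2)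
    choose f hf1 hf2 using hex
    obtain ⟨t, ht⟩ := hU.elim_finite_subcover (fun x : U => ((X.basicOpen (f x) : X.Opens) : Set X))
      (fun x => (X.basicOpen (f x)).isOpen) (fun x hx => Set.mem_iUnion.mpr ⟨⟨x, hx⟩, hf2 ⟨x, hx⟩⟩)
    refine hb' U t (fun i => X.basicOpen (f i.1)) hU (fun i => hW.basicOpen _) ?_ ?_
    · apply le_antisymm
      · exact iSup_le fun i => hf1 i.1
      · intro x hx
        have := ht hx
        simp only [Set.mem_iUnion] at this
        obtain ⟨i, hi, hxi⟩ := this
        exact TopologicalSpace.Opens.mem_iSup.mpr ⟨⟨i, hi⟩, hxi⟩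
    · intro i j
      rw [← Scheme.basicOpen_mul]
      exact ha _ (hW.basicOpen _)
  -- Step 2: general compact opens
  obtain ⟨s, hs, hUs⟩ := isCompact_iff_finite_and_eq_biUnion_affineOpens.mp hU
  have : Finite s := hs.to_subtype
  refine hb' U s (fun i => (i.1 : X.Opens)) hU (fun i => i.1.2) ?_ ?_
  · rw [hUs, iSup_subtype']
  · intro i j
    refine step1 i.1.1 i.1.2 _ inf_le_left ?_
    exact QuasiSeparatedSpace.inter_isCompact _ _ i.1.1.isOpen i.1.2.isCompact
      j.1.1.isOpen j.1.2.isCompact

end Groth.Agent.S12417
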