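import Groth.Statements.S12424
import Mathlib
import Groth.Agent.Lib.Helper95.CubicPlane
-- import your own Groth.Agent.* helpers here

set_option autoImplicit false
universe u
open Cubic MvPolynomial Groth.Agent.Lib.Helper95

namespace Groth.Agent.S12424

/-- Let k be an algebraically closed field of characteristic zero and S = V_+(f) ⊂ P^3_k a smooth cubic
surface, f a nonzero homogeneous cubic in four variables with the Jacobian condition at every
nonzero zero. For every hyperplane H of P^3_k the scheme-theoretic intersection S ∩ H is reduced;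
concretely, for every 4 × 3 matrix A of rank 3 over k (a linear parametrisation of H), the ternary
cubic obtained from f by substituting X_i ↦ Σ_j A_{ij} Y_j is squarefree. -/
theorem result (k : Type u) [Field k] [IsAlgClosed k] [CharZero k]
    (f : MvPolynomial (Fin 4) k) (hf : f.IsHomogeneous 3) (hf0 : f ≠ 0)
    (hsm : ∀ v : Fin 4 → k, v ≠ 0 → MvPolynomial.eval v f = 0 →
      ∃ i : Fin 4, MvPolynomial.eval v (MvPolynomial.pderiv i f) ≠ 0)
    (A : Matrix (Fin 4) (Fin 3) k) (hA : A.rank = 3) :
    Squarefree (MvPolynomial.aeval (fun i : Fin 4 => ∑ j : Fin 3, MvPolynomial.C (A i j) * MvPolynomial.X j) f) := by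
  classical
  set g := aeval (fun i : Fin 4 => ∑ j : Fin 3, C (A i j) * X j) f with hgdef
  -- evaluation
  have key : ∀ y : Fin 3 → k, eval y g = eval (A.mulVec y) f := by
    intro y
    have h := comp_aeval_apply (R := k) (f := fun i : Fin 4 => ∑ j : Fin 3, C (A i j) * X j)
      (MvPolynomial.aeval y : MvPolynomial (Fin 3) k →ₐ[k] k) f
    simp only [aeval_eq_eval] at h
    rw [hgdef, h]
    congr 2
    funext i
    simp [Matrix.mulVec, dotProduct]
  have hg : g.IsHomogeneous 3 := by
    have := hf.aeval (fun i : Fin 4 => ∑ j : Fin 3, C (A i j) * X j) (n := 1) (fun i =>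
      IsHomogeneous.sum _ _ _ fun j _ => isHomogeneous_C_mul_X _ _)
    rw [one_mul] at this
    exact this
  -- A injective
  have hrank : Module.finrank k (LinearMap.range A.mulVecLin) = 3 := hA
  have hinj : Function.Injective A.mulVecLin := by
    rw [← LinearMap.ker_eq_bot]
    have := LinearMap.finrank_range_add_finrank_ker A.mulVecLin
    rw [hrank, Module.finrank_fintype_fun_eq_card, Fintype.card_fin] at this
    have h0 : Module.finrank k (LinearMap.ker A.mulVecLin) = 0 := by omega
    exact Submodule.finrank_eq_zero.mp h0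
  -- ℓ
  have hlt : LinearMap.range A.mulVecLin < ⊤ := by
    rw [lt_top_iff_ne_top]
    intro h
    rw [h, finrank_top, Module.finrank_fintype_fun_eq_card, Fintype.card_fin] at hrank
    omega
  obtain ⟨ℓ, hℓ0, hle⟩ := Submodule.exists_le_ker_of_lt_top _ hlt
  have hker : LinearMap.range A.mulVecLin = LinearMap.ker ℓ := by
    apply Submodule.eq_of_le_of_finrank_eq hle
    have := Module.Dual.finrank_ker_add_one_of_ne_zero hℓ0
    rw [Module.finrank_fintype_fun_eq_card, Fintype.card_fin] at this
    omega
  have hsurj : ∀ t, ℓ t = 0 → ∃ z, A.mulVec z = t := by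
    intro t ht
    have : t ∈ LinearMap.range A.mulVecLin := by rw [hker]; exact ht
    obtain ⟨z, hz⟩ := this
    exact ⟨z, hz⟩
  -- g ≠ 0
  have hg0 : g ≠ 0 := by
    intro h0
    obtain ⟨p, hp0, hFp, hdp⟩ := hyperplane_singular hf ℓ hℓ0 (fun u hu => by
      obtain ⟨z, rfl⟩ := hsurj u hu
      rw [← key, h0, map_zero])
    obtain ⟨i, hi⟩ := hsm p hp0 hFp
    exact hi (hdp i)
  -- squarefree
  intro h hdvd
  by_contra hu
  obtain ⟨η, ν, hη0, hην⟩ := square_factor_linear hg hg0 hdvd hu
  have hfr : Module.finrank k (LinearMap.ker η) = 2 := by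
    have := Module.Dual.finrank_ker_add_one_of_ne_zero hη0
    rw [Module.finrank_fintype_fun_eq_card, Fintype.card_fin] at this
    omega
  obtain ⟨y1, hy1⟩ : ∃ x : LinearMap.ker η, x ≠ 0 := by
    have : 0 < Module.finrank k (LinearMap.ker η) := by omega
    exact Module.finrank_pos_iff_exists_ne_zero.mp this
  obtain ⟨y2, hy12⟩ := exists_linearIndependent_pair_of_one_lt_finrank (R := k)
    (show 1 < Module.finrank k (LinearMap.ker η) by omega) hy1
  have hli : LinearIndependent k ![A.mulVec y1.1, A.mulVec y2.1] := by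
    have h1 := hy12.map' (LinearMap.ker η).subtype (Submodule.ker_subtype _)
    have h2 := h1.map' A.mulVecLin (LinearMap.ker_eq_bot.mpr hinj)
    have e : (![A.mulVec y1.1, A.mulVec y2.1] : Fin 2 → Fin 4 → k) =
        ⇑A.mulVecLin ∘ ⇑(LinearMap.ker η).subtype ∘ ![y1, y2] := by
      funext i; fin_cases i <;> rfl
    rw [e]; exact h2
  suffices hT : ∀ a b : k, eval (a • A.mulVec y1.1 + b • A.mulVec y2.1) f = 0 ∧
      ∀ t, ℓ t = 0 → phi f (a • A.mulVec y1.1 + b • A.mulVec y2.1)
        (a • A.mulVec y1.1 + b • A.mulVec y2.1) t = 0 by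
    obtain ⟨p, hp0, hFp, hdp⟩ := singular_of_pair hf ℓ hℓ0 hli hT
    obtain ⟨i, hi⟩ := hsm p hp0 hFp
    exact hi (hdp i)
  intro a b
  · have hy0 : η (a • y1.1 + b • y2.1) = 0 := by
      rw [map_add, map_smul, map_smul, LinearMap.mem_ker.mp y1.2, LinearMap.mem_ker.mp y2.2]
      simp
    have hA0 : a • A.mulVec y1.1 + b • A.mulVec y2.1 = A.mulVec (a • y1.1 + b • y2.1) := by
      rw [Matrix.mulVec_add, Matrix.mulVec_smul, Matrix.mulVec_smul]
    rw [hA0]
    generalize a • y1.1 + b • y2.1 = y0 at hy0
    have hexp : ∀ (z : Fin 3 → k) (t : k),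
        eval (A.mulVec y0) f + t * (3 * phi f (A.mulVec z) (A.mulVec y0) (A.mulVec y0))
          + t ^ 2 * (3 * phi f (A.mulVec z) (A.mulVec z) (A.mulVec y0))
          + t ^ 3 * eval (A.mulVec z) f = t ^ 2 * (η z) ^ 2 * (ν y0 + t * ν z) := by
      intro z t
      rw [← eval_add_smul hf, ← Matrix.mulVec_smul, ← Matrix.mulVec_add, ← key, hην, map_add,
        map_smul, hy0, map_add, map_smul]
      simp only [smul_eq_mul]; ring
    constructor
    · have := hexp 0 0
      simpa using this
    · intro t ht
      obtain ⟨z, rfl⟩ := hsurj t ht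
      have e0 := hexp z 0
      have e1 := hexp z 1
      have e2 := hexp z (-1)
      have e3 := hexp z 2
      rw [phi_comm13 f _ _ (A.mulVec z)]
      linear_combination (-1/6 : k) * e0 + (1/3 : k) * e1 - (1/9 : k) * e2 - (1/18 : k) * e3

end Groth.Agent.S12424
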