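import Groth.Statements.S12430
import Groth.Agent.Lib.Helper67.SmCurve16
import Groth.Agent.Lib.Helper67.HomFin
import Groth.Agent.Lib.Helper11.InvDual
import Groth.Agent.S7637

set_option autoImplicit false
universe u
open CategoryTheory CategoryTheory.Limits AlgebraicGeometry
open Curves

namespace Groth.Agent.S12430

/-- Let C be a curve over an algebraically closed field k (integral, proper over k, of dimension one,
all local rings regular) and E a locally free O_C-module of rank 2 which is normalized — H^0(C, E) ≠
0 while H^0(C, E ⊗ M) = 0 for every invertible O_C-module M of negative degree. Then for every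
nonzero morphism s : O_C → E the cokernel of s is an invertible O_C-module (so E is an extension of
an invertible module by O_C). -/
theorem result (k : Type u) [Field k] [IsAlgClosed k] (C : Scheme.{u}) [C.Over (Spec (CommRingCat.of k))]
    [IsIntegral C] [IsProper (C ↘ (Spec (CommRingCat.of k)))] (hdimC : topologicalKrullDim C = 1)
    (hregC : ∀ x : C, IsRegularLocalRing (C.presheaf.stalk x))
    (E : C.Modules) (hE : FlatMod.IsFinLocFreeOfRank 2 E)
    (hE0 : Nontrivial (Coh.HH C E 0))
    (hEneg : ∀ M : C.Modules, PicF.IsInvertible M → Curv2.deg k C M 1 < 0 → Subsingleton (Coh.HH C (CohB1.tensorMod E M) 0))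
    (s : Coh.structureModule C ⟶ E) (hs : s ≠ 0) :
    PicF.IsInvertible (cokernel s) := by
  have hO1 : FlatMod.IsFinLocFreeOfRank 1 (Coh.structureModule C) :=
    Groth.Agent.Lib.Helper67.CurveTors.rank_one_of_isInvertible
      (Groth.Agent.Lib.Helper11.GenLocus.isInvertible_structureModule C)
  have hdegO : Curv2.deg k C (Coh.structureModule C) 1 = 0 := by
    unfold Curv2.deg
    simp
  -- `s` is a monomorphism
  obtain ⟨K, I, u, t, a₀, b₀, -, -, hK, hI, hrk, ht, -, -, hmono, -⟩ :=
    Groth.Agent.Lib.Helper67.SmCurve.exists_ker_im k C hregC hdimC.le hO1 hE s hs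
  haveI : Mono s := hmono (by omega)
  obtain ⟨G', j, a, hj, haj, hG', hcok, -, -, hdle, hiso⟩ :=
    Groth.Agent.Lib.Helper67.SmCurve.exists_saturation k C hregC hdimC.le hE hO1 s
  haveI := hj
  rw [hdegO] at hdle hiso
  have hG'inv := Groth.Agent.Lib.Helper67.SmCurve.isInvertible_of_rank_one hG'
  -- `deg G' ≤ 0`
  have hle : Curv2.deg k C G' 1 ≤ 0 := by
    by_contra hpos
    push_neg at hpos
    have hNinv := Groth.Agent.Lib.Helper11.InvDual.isInvertible_dual hG'inv
    have hN1 := Groth.Agent.Lib.Helper67.CurveTors.rank_one_of_isInvertible hNinv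
    have h1 := Groth.Agent.S7637.result k C hdimC.le 1 1 G' (RefHull.dual G') hG' hN1
    have h2 := Groth.Agent.Lib.Helper67.SmCurve.deg_eq_of_iso k C
      (Groth.Agent.Lib.Helper11.InvDual.tensorDualIso hG'inv) 1
    rw [hdegO] at h2
    have h3 : Curv2.deg k C (CohB1.tensorMod G' (RefHull.dual G')) (1 * 1) =
        Curv2.deg k C (CohB1.tensorMod G' (RefHull.dual G')) 1 := by rw [Nat.mul_one]
    rw [h3, h2] at h1
    have hNneg : Curv2.deg k C (RefHull.dual G') 1 < 0 := by
      push_cast at h1
      linarith
    haveI := hEneg (RefHull.dual G') hNinv hNneg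
    have hinj := Groth.Agent.Lib.Helper67.HomFin.homToHH_injective k
      (Groth.Agent.Lib.Helper11.FinFreeAdj.dualPairOfFinLocFree
        (Groth.Agent.Lib.Helper67.CurveDeg.isFinLocFree_of_rank hG')).symm E
    have hj0 : j = 0 := hinj (Subsingleton.elim _ _)
    have hs0 : s = 0 := by rw [← haj, hj0, comp_zero]
    exact hs hs0
  haveI : IsIso a := hiso (le_antisymm hdle hle)
  let e : cokernel s ≅ cokernel j := cokernelIsoOfEq haj.symm ≪≫ cokernelEpiComp a j
  exact Groth.Agent.Lib.Helper67.SmCurve.isInvertible_of_rank_one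
    (Groth.Agent.Lib.Helper18.LimFinLocFree.isFinLocFreeOfRank_of_iso e.symm hcok)

end Groth.Agent.S12430
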