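import Groth.Statements.S12443
import Mathlib.CategoryTheory.Monad.Adjunction
-- import your own Groth.Agent.* helpers here

set_option autoImplicit false
universe u
open CategoryTheory TopologicalSpace
open ShSp

namespace Groth.Agent.S12443

/-- Let j : U → X be the inclusion of an open subset (an open embedding) and F a sheaf of sets on U.
Then the counit j⁻¹ j_* F → F is an isomorphism, i.e. j⁻¹ j_* is the identity on sheaves on U. -/
theorem result {U X : TopCat.{u}} (j : U ⟶ X) (hj : Topology.IsOpenEmbedding j)
    (F : U.Sheaf (Type u)) :
    IsIso ((TopCat.Sheaf.pullbackPushforwardAdjunction (Type u) j).counit.app F) := by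
  -- iso of functors on opens
  let e : hj.functor ⋙ Opens.map j ≅ 𝟭 (Opens U) :=
    NatIso.ofComponents (fun V => eqToIso (Opens.map_functor_eq' j hj V))
      (fun _ => Subsingleton.elim _ _)
  have := Topology.IsOpenEmbedding.functor_isContinuous hj
  -- natural iso `pushforward ⋙ sheafPullback ≅ 𝟭`
  let i1 : TopCat.Sheaf.pushforward (Type u) j ⋙ hj.sheafPullback (Type u) ≅ 𝟭 _ :=
    Functor.sheafPushforwardContinuousComp' (F := hj.functor) (G := Opens.map j) e (Type u)
      (Opens.grothendieckTopology U) (Opens.grothendieckTopology X) (Opens.grothendieckTopology U)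
      ≪≫ Functor.sheafPushforwardContinuousId _ _
  let i2 := Functor.isoWhiskerLeft (TopCat.Sheaf.pushforward (Type u) j)
    (hj.sheafPullbackIso (Type u)) ≪≫ i1
  have := (TopCat.Sheaf.pullbackPushforwardAdjunction (Type u) j).isIso_counit_of_iso i2
  infer_instance

end Groth.Agent.S12443
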