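import Groth.Statements.S12450
-- import your own Groth.Agent.* helpers here

set_option autoImplicit false
universe u
open CategoryTheory CategoryTheory.Limits
open ModSite

namespace Groth.Agent.S12450

/-- For a small ringed site (C, O) the forgetful functor Mod(O) → Ab(C) commutes with colimits, i.e.
preserves all small colimits. (Existence of limits and colimits in Mod(O) and commutation of the
forgetful functor with limits hold by construction; exactness of filtered colimits is a separate
statement.) -/
theorem result {C : Type u} [SmallCategory C] {J : GrothendieckTopology C}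
    (O : Sheaf J CommRingCat.{u}) :
    PreservesColimitsOfSize.{u, u} (SheafOfModules.toSheaf.{u} (ModSite.ringSh O) : ModSite.Mod O ⥤ Sheaf J AddCommGrpCat.{u}) := by
  constructor
  intro K _
  constructor
  intro F
  let R := ModSite.ringSh O
  let L := PresheafOfModules.sheafification.{u} (𝟙 R.obj)
  let adj := PresheafOfModules.sheafificationAdjunction.{u} (𝟙 R.obj)
  let D : K ⥤ PresheafOfModules.{u} R.obj :=
    F ⋙ (SheafOfModules.forget.{u} R ⋙ PresheafOfModules.restrictScalars (𝟙 R.obj))
  let e : F ≅ D ⋙ L := Functor.isoWhiskerLeft F (asIso adj.counit).symm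
  have hc : IsColimit (colimit.cocone D) := colimit.isColimit D
  have h1 : IsColimit (L.mapCocone (colimit.cocone D)) := isColimitOfPreserves L hc
  have : PreservesColimitsOfSize.{u, u} (L ⋙ SheafOfModules.toSheaf.{u} R) :=
    inferInstanceAs (PreservesColimitsOfSize.{u, u}
      (PresheafOfModules.toPresheaf R.obj ⋙ presheafToSheaf J AddCommGrpCat.{u}))
  have h2 : IsColimit ((L ⋙ SheafOfModules.toSheaf.{u} R).mapCocone (colimit.cocone D)) :=
    isColimitOfPreserves (L ⋙ SheafOfModules.toSheaf.{u} R) hc
  have h3 : PreservesColimit (D ⋙ L) (SheafOfModules.toSheaf.{u} R) :=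
    preservesColimit_of_preserves_colimit_cocone h1 h2
  exact preservesColimit_of_iso_diagram _ e.symm

end Groth.Agent.S12450
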