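import Groth.Statements.S12452
import Mathlib.Topology.Sheaves.SheafCondition.Sites
import Mathlib.Topology.Sheaves.SheafCondition.UniqueGluing

set_option autoImplicit false
universe u
open CategoryTheory TopologicalSpace Opposite
open ShSp

namespace Groth.Agent.S12452

theorem cover_of_basis {X : TopCat.{u}} {BX : Set (Opens X)} (hBX : Opens.IsBasis BX) (W : Opens X) :
    W ≤ ⨆ (U : {U : BX // (U : Opens X) ≤ W}), ((U.1 : BX) : Opens X) := by
  intro x hx
  obtain ⟨U', hU', hxU', hle⟩ := Opens.isBasis_iff_nbhd.mp hBX hx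
  exact Opens.mem_iSup.mpr ⟨⟨⟨U', hU'⟩, hle⟩, hxU'⟩

theorem key {X Y : TopCat.{u}} (f : X ⟶ Y) (F : X.Sheaf (Type u)) (G : Y.Sheaf (Type u))
    {BX : Set (Opens X)} (hBX : Opens.IsBasis BX) {BY : Set (Opens Y)}
    (φ : ∀ (V : BY) (U : BX), (U : Opens X) ≤ (Opens.map f).obj V →
      (G.presheaf.obj (op (V : Opens Y)) → F.presheaf.obj (op (U : Opens X))))
    (hφ : ∀ (V V' : BY) (U U' : BX) (hUV : (U : Opens X) ≤ (Opens.map f).obj V)
      (hU'V' : (U' : Opens X) ≤ (Opens.map f).obj V') (hV : (V' : Opens Y) ≤ V) (hU : (U' : Opens X) ≤ U)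
      (s : G.presheaf.obj (op (V : Opens Y))),
      F.presheaf.map (homOfLE hU).op (φ V U hUV s) = φ V' U' hU'V' (G.presheaf.map (homOfLE hV).op s))
    (V : BY) (s : G.presheaf.obj (op (V : Opens Y))) :
    ∃! t : F.presheaf.obj (op ((Opens.map f).obj V)),
      ∀ (U : BX) (hUV : (U : Opens X) ≤ (Opens.map f).obj V),
        F.presheaf.map (homOfLE hUV).op t = φ V U hUV s := by
  have h := F.existsUnique_gluing'
    (fun U : {U : BX // (U : Opens X) ≤ (Opens.map f).obj V} => ((U.1 : BX) : Opens X))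
    ((Opens.map f).obj V) (fun U => homOfLE U.2) (cover_of_basis hBX _)
    (fun U => φ V U.1 U.2 s) (by
      intro U1 U2
      refine F.eq_of_locally_eq'
        (fun U : {U : BX // (U : Opens X) ≤ (U1.1 : Opens X) ⊓ (U2.1 : Opens X)} => ((U.1 : BX) : Opens X))
        _ (fun U => homOfLE U.2) (cover_of_basis hBX _) _ _ ?_
      intro U3
      have h1 : ((U3.1 : BX) : Opens X) ≤ U1.1 := le_trans U3.2 inf_le_left
      have h2 : ((U3.1 : BX) : Opens X) ≤ U2.1 := le_trans U3.2 inf_le_right
      have e1 := hφ V V U1.1 U3.1 U1.2 (le_trans h1 U1.2) le_rfl h1 s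
      have e2 := hφ V V U2.1 U3.1 U2.2 (le_trans h2 U2.2) le_rfl h2 s
      rw [← ConcreteCategory.comp_apply, ← ConcreteCategory.comp_apply, ← F.1.map_comp,
        ← F.1.map_comp]
      exact e1.trans e2.symm)
  obtain ⟨t, ht, htu⟩ := h
  refine ⟨t, fun U hUV => ht ⟨U, hUV⟩, fun t' ht' => htu t' (fun U => ht' U.1 U.2)⟩

/-- For sheaves of sets, let f : X → Y be a continuous map, F a sheaf of sets on X, G a sheaf of sets on
Y, and B_X, B_Y bases for the topologies of X and Y. Suppose given, for every V in B_Y and U in B_X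
with U ⊆ f⁻¹V, a map φ_V^U : G(V) → F(U), compatibly with restrictions. Then there is exactly one
morphism of sheaves ψ : G → f_*F (an f-map G → F) such that G(V) → F(f⁻¹V) → F(U) equals φ_V^U for
every such pair. -/
theorem result {X Y : TopCat.{u}} (f : X ⟶ Y) (F : X.Sheaf (Type u)) (G : Y.Sheaf (Type u))
    {BX : Set (Opens X)} (hBX : Opens.IsBasis BX) {BY : Set (Opens Y)} (hBY : Opens.IsBasis BY)
    (φ : ∀ (V : BY) (U : BX), (U : Opens X) ≤ (Opens.map f).obj V →
      (G.presheaf.obj (op (V : Opens Y)) → F.presheaf.obj (op (U : Opens X))))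
    (hφ : ∀ (V V' : BY) (U U' : BX) (hUV : (U : Opens X) ≤ (Opens.map f).obj V)
      (hU'V' : (U' : Opens X) ≤ (Opens.map f).obj V') (hV : (V' : Opens Y) ≤ V) (hU : (U' : Opens X) ≤ U)
      (s : G.presheaf.obj (op (V : Opens Y))),
      F.presheaf.map (homOfLE hU).op (φ V U hUV s) = φ V' U' hU'V' (G.presheaf.map (homOfLE hV).op s)) :
    ∃! ψ : G ⟶ (TopCat.Sheaf.pushforward (Type u) f).obj F,
      ∀ (V : BY) (U : BX) (hUV : (U : Opens X) ≤ (Opens.map f).obj V) (s : G.presheaf.obj (op (V : Opens Y))),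
        F.presheaf.map (homOfLE hUV).op (ψ.1.app (op (V : Opens Y)) s) = φ V U hUV s := by
  classical
  let B : BY → Opens Y := Subtype.val
  have hB : Opens.IsBasis (Set.range B) := by
    rw [Subtype.range_coe]; exact hBY
  let a : ∀ V : BY, G.presheaf.obj (op (V : Opens Y)) → F.presheaf.obj (op ((Opens.map f).obj V)) :=
    fun V s => (key f F G hBX φ hφ V s).choose
  have ha : ∀ (V : BY) (s : G.presheaf.obj (op (V : Opens Y))) (U : BX)
      (hUV : (U : Opens X) ≤ (Opens.map f).obj V),
      F.presheaf.map (homOfLE hUV).op (a V s) = φ V U hUV s :=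
    fun V s => (key f F G hBX φ hφ V s).choose_spec.1
  have ha_uniq : ∀ (V : BY) (s : G.presheaf.obj (op (V : Opens Y)))
      (t : F.presheaf.obj (op ((Opens.map f).obj V))),
      (∀ (U : BX) (hUV : (U : Opens X) ≤ (Opens.map f).obj V),
        F.presheaf.map (homOfLE hUV).op t = φ V U hUV s) → t = a V s :=
    fun V s t ht => (key f F G hBX φ hφ V s).choose_spec.2 t ht
  let α : (inducedFunctor B).op ⋙ G.1 ⟶
      (inducedFunctor B).op ⋙ ((TopCat.Sheaf.pushforward (Type u) f).obj F).1 :=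
    { app := fun V => ↾ (a V.unop)
      naturality := by
        intro V V' g
        ext s
        have hV : B V'.unop ≤ B V.unop :=
          ((inducedFunctor B).map g.unop).le
        change a V'.unop (G.presheaf.map (homOfLE hV).op s) =
          F.presheaf.map ((Opens.map f).map (homOfLE hV)).op (a V.unop s)
        symm
        apply ha_uniq
        intro U hUV
        have e := hφ V.unop V'.unop U U (le_trans hUV ((Opens.map f).map (homOfLE hV)).le) hUV hV
          le_rfl s
        have e2 := ha V.unop s U (le_trans hUV ((Opens.map f).map (homOfLE hV)).le)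
        rw [← e, ← e2, ← ConcreteCategory.comp_apply, ← ConcreteCategory.comp_apply,
          ← F.1.map_comp, ← F.1.map_comp]
        rfl }
  let ψ0 := TopCat.Sheaf.restrictHomEquivHom G.1 ((TopCat.Sheaf.pushforward (Type u) f).obj F) hB α
  have hψ0 : ∀ V : BY, ψ0.app (op (V : Opens Y)) = ↾ (a V) := fun V =>
    TopCat.Sheaf.extend_hom_app G.1 ((TopCat.Sheaf.pushforward (Type u) f).obj F) hB α V
  refine ⟨⟨ψ0⟩, ?_, ?_⟩
  · intro V U hUV s
    change F.presheaf.map (homOfLE hUV).op (ψ0.app (op (V : Opens Y)) s) = φ V U hUV s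
    rw [hψ0 V]
    exact ha V s U hUV
  · intro ψ' hψ'
    apply Sheaf.hom_ext
    apply TopCat.Sheaf.hom_ext G.1 ((TopCat.Sheaf.pushforward (Type u) f).obj F) hB
    intro V
    ext s
    change ψ'.1.app (op (V : Opens Y)) s = ψ0.app (op (V : Opens Y)) s
    rw [hψ0 V]
    exact ha_uniq V s _ (fun U hUV => hψ' V U hUV s)

end Groth.Agent.S12452
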