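import Groth.Statements.S12460
import Mathlib

set_option autoImplicit false
universe u
open CategoryTheory AlgebraicGeometry
open Props

namespace Groth.Agent.S12460

open TopologicalSpace Topology

/-- regular locus of a scheme -/
def Reg (Y : Scheme.{u}) : Set Y := {y : Y | IsRegularLocalRing (Y.presheaf.stalk y)}

theorem isRegular_stalk_fromSpec_iff {Y : Scheme.{u}} {V : Y.Opens} (hV : IsAffineOpen V)
    (p : PrimeSpectrum Γ(Y, V)) :
    IsRegularLocalRing (Y.presheaf.stalk (hV.fromSpec p)) ↔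
      IsRegularLocalRing (Localization.AtPrime p.asIdeal) := by
  have hy : hV.fromSpec p ∈ V := by
    rw [← SetLike.mem_coe, ← hV.range_fromSpec]
    exact ⟨p, rfl⟩
  let _ : Algebra Γ(Y, V) (Y.presheaf.stalk (hV.fromSpec p)) :=
    TopCat.Presheaf.algebra_section_stalk Y.presheaf ⟨_, hy⟩
  have hloc : IsLocalization.AtPrime (Y.presheaf.stalk (hV.fromSpec p)) p.asIdeal :=
    hV.isLocalization_stalk' p hy
  have e : Localization.AtPrime p.asIdeal ≃ₐ[Γ(Y, V)] Y.presheaf.stalk (hV.fromSpec p) :=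
    IsLocalization.algEquiv p.asIdeal.primeCompl _ _
  exact ⟨fun h => IsRegularLocalRing.of_ringEquiv e.symm.toRingEquiv,
    fun h => IsRegularLocalRing.of_ringEquiv e.toRingEquiv⟩

theorem reg_inter_eq {Y : Scheme.{u}} {V : Y.Opens} (hV : IsAffineOpen V) :
    Reg Y ∩ V = hV.fromSpec '' (EGA4.regLocus Γ(Y, V)) := by
  ext y
  constructor
  · rintro ⟨hy, hyV⟩
    have : y ∈ Set.range hV.fromSpec := by rw [hV.range_fromSpec]; exact hyV
    obtain ⟨p, rfl⟩ := this
    exact ⟨p, (isRegular_stalk_fromSpec_iff hV p).mp hy, rfl⟩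
  · rintro ⟨p, hp, rfl⟩
    refine ⟨(isRegular_stalk_fromSpec_iff hV p).mpr hp, ?_⟩
    rw [← hV.range_fromSpec]
    exact ⟨p, rfl⟩

theorem isOpen_reg_inter {Y : Scheme.{u}} {V : Y.Opens} (hV : IsAffineOpen V)
    (h : IsOpen (EGA4.regLocus Γ(Y, V))) : IsOpen (Reg Y ∩ V) := by
  rw [reg_inter_eq hV]
  exact hV.fromSpec.isOpenEmbedding.isOpenMap _ h

theorem regLocus_eq_reg (B : Type u) [CommRing B] :
    EGA4.regLocus B = Reg (Spec (CommRingCat.of B)) := by
  ext p
  let _ : Algebra B ((Spec (CommRingCat.of B)).presheaf.stalk p) :=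
    StructureSheaf.stalkAlgebra B p
  have hloc : IsLocalization.AtPrime ((Spec (CommRingCat.of B)).presheaf.stalk p) p.asIdeal :=
    StructureSheaf.IsLocalization.to_stalk B p
  have e : Localization.AtPrime p.asIdeal ≃ₐ[B] (Spec (CommRingCat.of B)).presheaf.stalk p :=
    IsLocalization.algEquiv p.asIdeal.primeCompl _ _
  constructor
  · intro h
    have : IsRegularLocalRing (Localization.AtPrime p.asIdeal) := h
    exact IsRegularLocalRing.of_ringEquiv (R := Localization.AtPrime p.asIdeal) e.toRingEquiv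
  · intro h
    have : IsRegularLocalRing ((Spec (CommRingCat.of B)).presheaf.stalk p) := h
    exact IsRegularLocalRing.of_ringEquiv
      (R := (Spec (CommRingCat.of B)).presheaf.stalk p) e.symm.toRingEquiv

/-- (1) ⇔ (3) ⇔ (4): let X be a locally Noetherian scheme. Then X is J-2 — for every morphism Y → X
locally of finite type the set of points y with O_{Y,y} a regular local ring is open in Y — if and
only if for every affine open U of X the ring Γ(X, U) is J-2 (every finite type algebra over it has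
open regular locus), if and only if every point of X lies in such an affine open. (Schemes Y over X
are taken in the universe of X.) -/
theorem result (X : Scheme.{u}) [IsLocallyNoetherian X] :
    ((∀ (Y : Scheme.{u}) (g : Y ⟶ X), LocallyOfFiniteType g →
        IsOpen {y : Y | IsRegularLocalRing (Y.presheaf.stalk y)}) ↔
      ∀ U : X.affineOpens, EGA4.IsJ2 Γ(X, U)) ∧
    ((∀ (Y : Scheme.{u}) (g : Y ⟶ X), LocallyOfFiniteType g →
        IsOpen {y : Y | IsRegularLocalRing (Y.presheaf.stalk y)}) ↔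
      ∀ x : X, ∃ U : X.affineOpens, x ∈ (U : X.Opens) ∧ EGA4.IsJ2 Γ(X, U)) := by
  have h1 : (∀ (Y : Scheme.{u}) (g : Y ⟶ X), LocallyOfFiniteType g → IsOpen (Reg Y)) →
      ∀ U : X.affineOpens, EGA4.IsJ2 Γ(X, U) := by
    rintro h ⟨U, hU⟩ B _ _ hB
    let g : Spec (CommRingCat.of B) ⟶ X :=
      Spec.map (CommRingCat.ofHom (algebraMap Γ(X, U) B)) ≫ hU.fromSpec
    have hg : LocallyOfFiniteType g := by
      have h1 : LocallyOfFiniteType (Spec.map (CommRingCat.ofHom (algebraMap Γ(X, U) B))) := by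
        rw [HasRingHomProperty.Spec_iff (P := @LocallyOfFiniteType)]
        exact (RingHom.finiteType_algebraMap (A := Γ(X, U)) (B := B)).mpr hB
      infer_instance
    rw [regLocus_eq_reg]
    exact h _ g hg
  have h2 : (∀ U : X.affineOpens, EGA4.IsJ2 Γ(X, U)) →
      ∀ x : X, ∃ U : X.affineOpens, x ∈ (U : X.Opens) ∧ EGA4.IsJ2 Γ(X, U) := by
    intro h s
    obtain ⟨_, ⟨U, hU, rfl⟩, hsU, -⟩ := X.isBasis_affineOpens.exists_subset_of_mem_open
      (Set.mem_univ s) isOpen_univ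
    exact ⟨⟨U, hU⟩, hsU, h ⟨U, hU⟩⟩
  have h3 : (∀ x : X, ∃ U : X.affineOpens, x ∈ (U : X.Opens) ∧ EGA4.IsJ2 Γ(X, U)) →
      ∀ (Y : Scheme.{u}) (g : Y ⟶ X), LocallyOfFiniteType g → IsOpen (Reg Y) := by
    intro h Y g hg
    rw [isOpen_iff_forall_mem_open]
    intro y hy
    obtain ⟨⟨U, hU⟩, hxU, hJ⟩ := h (g y)
    obtain ⟨_, ⟨V, hV, rfl⟩, hyV, hVU⟩ := Y.isBasis_affineOpens.exists_subset_of_mem_open
      (show y ∈ ((g ⁻¹ᵁ U : Y.Opens) : Set Y) from hxU) (g ⁻¹ᵁ U).isOpen
    have e : V ≤ g ⁻¹ᵁ U := hVU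
    let _ : Algebra Γ(X, U) Γ(Y, V) := (g.appLE U V e).hom.toAlgebra
    have hft : Algebra.FiniteType Γ(X, U) Γ(Y, V) := g.finiteType_appLE hU hV e
    have hopen : IsOpen (EGA4.regLocus Γ(Y, V)) := hJ Γ(Y, V) hft
    exact ⟨Reg Y ∩ V, Set.inter_subset_left, isOpen_reg_inter hV hopen, hy, hyV⟩
  exact ⟨⟨h1, fun h => h3 (h2 h)⟩, ⟨fun h => h2 (h1 h), h3⟩⟩

end Groth.Agent.S12460
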