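import Groth.Statements.S12461
import Groth.Agent.Lib.Helper19.Gabber
import Groth.Agent.Lib.Helper19.ClosedColim

set_option autoImplicit false
universe u
open CategoryTheory AlgebraicGeometry
open QCohSub

namespace Groth.Agent.S12461

/-- Let i : Z → X be a closed immersion of schemes. The functor i_* : QCoh(O_Z) → QCoh(O_X) has a right
adjoint i^! : QCoh(O_X) → QCoh(O_Z). Stated as: there is a functor L between the full subcategories
of quasi-coherent modules which agrees with i_* after the inclusion into all O_X-modules (this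
determines L up to isomorphism, the inclusion being fully faithful) and which is a left adjoint. -/
theorem result {Z X : Scheme.{u}} (i : Z ⟶ X) [IsClosedImmersion i] :
    ∃ L : QCohCat.QCoh Z ⥤ QCohCat.QCoh X,
      Nonempty (L ⋙ (QCohCat.isQCoh X).ι ≅ (QCohCat.isQCoh Z).ι ⋙ Coh.push i) ∧ L.IsLeftAdjoint := by
  have hq : ∀ M : QCohCat.QCoh Z,
      (QCohCat.isQCoh X) (((QCohCat.isQCoh Z).ι ⋙ Coh.push i).obj M) := by
    intro M
    have : M.obj.IsQuasicoherent := M.property
    exact Groth.Agent.Lib.Helper49.isQuasicoherent_pushforward M.obj i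
  let L : QCohCat.QCoh Z ⥤ QCohCat.QCoh X :=
    (QCohCat.isQCoh X).lift ((QCohCat.isQCoh Z).ι ⋙ Coh.push i) hq
  let e : L ⋙ (QCohCat.isQCoh X).ι ≅ (QCohCat.isQCoh Z).ι ⋙ Coh.push i :=
    (QCohCat.isQCoh X).liftCompιIso _ hq
  refine ⟨L, ⟨e⟩, ?_⟩
  have h1 : Limits.PreservesColimitsOfSize.{u, u} (Coh.push i) :=
    Groth.Agent.Helper19.ClosedColim.preservesColimits_pushforward_of_isClosedImmersion i
  have h2 : Limits.PreservesColimitsOfSize.{u, u} ((QCohCat.isQCoh Z).ι ⋙ Coh.push i) :=
    inferInstance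
  have h3 : Limits.PreservesColimitsOfSize.{u, u} (L ⋙ (QCohCat.isQCoh X).ι) :=
    Limits.preservesColimits_of_natIso e.symm
  have h4 : Limits.PreservesColimitsOfSize.{u, u} L :=
    Limits.preservesColimits_of_reflects_of_preserves L (QCohCat.isQCoh X).ι
  exact Groth.Agent.Helper19.Gabber.isLeftAdjoint_of_preservesColimits Z L

end Groth.Agent.S12461
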