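import Groth.Statements.S12462
import Groth.Agent.Lib.Helper37.Spectral
import Groth.Agent.Lib.Helper37.SpectralSierpinski
import Mathlib

set_option autoImplicit false
universe u
open CategoryTheory CategoryTheory.Limits
open SpecSp

namespace Groth.Agent.S12462

open CategoryTheory CategoryTheory.Limits Opposite TopologicalSpace Topology

/-- finite spaces are quasi-sober -/
theorem quasiSober_of_finite (Y : Type*) [TopologicalSpace Y] [Finite Y] : QuasiSober Y where
  sober {S} hS hcl := by
    classical
    have hfin : S.Finite := Set.toFinite S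
    have key := (isIrreducible_iff_sUnion_isClosed.mp hS)
      (hfin.toFinset.image fun y => closure ({y} : Set Y))
      (by
        intro z hz
        simp only [Finset.mem_image] at hz
        obtain ⟨y, _, rfl⟩ := hz
        exact isClosed_closure)
      (by
        intro y hy
        simp only [Finset.coe_image, Set.sUnion_image, Set.mem_iUnion]
        exact ⟨y, by simpa using hy, subset_closure rfl⟩)
    obtain ⟨z, hz, hSz⟩ := key
    simp only [Finset.mem_image] at hz
    obtain ⟨y, hy, rfl⟩ := hz
    have hyS : y ∈ S := by simpa using hy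
    refine ⟨y, ?_⟩
    rw [isGenericPoint_def]
    exact le_antisymm (hcl.closure_subset_iff.mpr (Set.singleton_subset_iff.mpr hyS)) hSz

section
variable (X : Type u) [TopologicalSpace X]

/-- compact opens -/
abbrev K := {U : Set X // IsOpen U ∧ IsCompact U}

/-- signature map -/
def sig (A : Finset (K X)) (x : X) : (A → Prop) := fun U => x ∈ U.1.1

theorem continuous_sig (A : Finset (K X)) : Continuous (sig X A) :=
  continuous_pi fun U => continuous_Prop.mpr U.1.2.1

/-- the finite quotient -/
abbrev Q (A : Finset (K X)) : Set (A → Prop) := Set.range (sig X A)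

/-- restriction maps -/
def res {A B : Finset (K X)} (h : A ≤ B) : Q X B → Q X A := fun q =>
  ⟨fun U => q.1 ⟨U.1, h U.2⟩, by
    obtain ⟨x, hx⟩ := q.2
    exact ⟨x, by rw [← hx]; rfl⟩⟩

theorem continuous_res {A B : Finset (K X)} (h : A ≤ B) : Continuous (res X h) := by
  refine Continuous.subtype_mk (f := fun q : Q X B => fun U : A => q.1 ⟨U.1, h U.2⟩) ?_ _
  exact continuous_pi fun U => (continuous_apply (⟨U.1, h U.2⟩ : B)).comp continuous_subtype_val

/-- the diagram -/
def F : (Finset (K X))ᵒᵖ ⥤ TopCat.{u} where
  obj A := TopCat.of (Q X A.unop)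
  map {A B} f := TopCat.ofHom ⟨res X (leOfHom f.unop), continuous_res X _⟩
  map_id := by intros; ext; rfl
  map_comp := by intros; ext; rfl

/-- the cone -/
def c : Cone (F X) where
  pt := TopCat.of X
  π :=
    { app := fun A => TopCat.ofHom ⟨fun x => ⟨sig X A.unop x, x, rfl⟩,
        (continuous_sig X _).subtype_mk _⟩
      naturality := by intros; ext; rfl }

end

section
variable (X : Type u) [TopologicalSpace X] [SpectralSpace X]

open Groth.Agent.Lib.Helper37 in
theorem exists_point (s : ∀ A : Finset (K X), Q X A)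
    (hs : ∀ {A B : Finset (K X)} (h : A ≤ B), res X h (s B) = s A) :
    ∃ x : X, ∀ A, sig X A x = (s A).1 := by
  classical
  let p : K X → Prop := fun U => (s {U}).1 ⟨U, Finset.mem_singleton_self U⟩
  have hp : ∀ (A : Finset (K X)) (U : K X) (hU : U ∈ A), (s A).1 ⟨U, hU⟩ = p U := by
    intro A U hU
    have h : ({U} : Finset (K X)) ≤ A := Finset.singleton_subset_iff.mpr hU
    have h2 := hs h
    show _ = (s {U}).1 ⟨U, Finset.mem_singleton_self U⟩
    rw [← h2]
    rfl
  let C : K X → Set X := fun U => {x | x ∈ U.1 ↔ p U}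
  have hC : ∀ U, IsClosed[constructibleTopology X] (C U) := by
    intro U
    have hcl := isClopen_constructibleTopology_of_isCompact_isOpen U.2.2 U.2.1
    by_cases hU : p U
    · have : C U = U.1 := by
        ext x; simp only [C, Set.mem_ofPred_eq, hU, iff_true]
      rw [this]; exact hcl.1
    · have : C U = U.1ᶜ := by
        ext x; simp only [C, Set.mem_ofPred_eq, hU, iff_false, Set.mem_compl_iff]
      rw [this]
      exact (@isClosed_compl_iff X (constructibleTopology X) U.1).mpr hcl.2
  have hfin : ∀ A : Finset (K X), (Set.univ ∩ ⋂ U ∈ A, C U).Nonempty := by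
    intro A
    obtain ⟨x, hx⟩ := (s A).2
    refine ⟨x, Set.mem_univ _, ?_⟩
    simp only [Set.mem_iInter]
    intro U hU
    show x ∈ U.1 ↔ p U
    rw [← hp A U hU, ← hx]
    rfl
  have hcomp : @CompactSpace X (constructibleTopology X) := compactSpace_constructibleTopology
  obtain ⟨x, -, hx⟩ := @IsCompact.inter_iInter_nonempty X (constructibleTopology X) Set.univ
    (K X) (@isCompact_univ X (constructibleTopology X) hcomp) C hC hfin
  refine ⟨x, fun A => ?_⟩
  funext U
  have h1 : x ∈ U.1.1 ↔ p U.1 := Set.mem_iInter.mp hx U.1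
  have h2 := hp A U.1 U.2
  show (x ∈ U.1.1) = (s A).1 U
  rw [show (s A).1 U = p U.1 from h2]
  exact propext h1

theorem sig_injective (x y : X) (h : ∀ A, sig X A x = sig X A y) : x = y := by
  by_contra hne
  have key : ∀ V : Set X, IsOpen V → IsCompact V → (x ∈ V ↔ y ∈ V) := by
    intro V hVo hVc
    have := congrFun (h {⟨V, hVo, hVc⟩}) ⟨⟨V, hVo, hVc⟩, Finset.mem_singleton_self _⟩
    rw [← eq_iff_iff]; exact this
  obtain ⟨U, hU, hxU⟩ := exists_isOpen_xor_mem hne
  rcases hxU with ⟨hx, hy⟩ | ⟨hy, hx⟩
  · obtain ⟨V, ⟨hVo, hVc⟩, hxV, hVU⟩ :=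
      PrespectralSpace.isTopologicalBasis.exists_subset_of_mem_open hx hU
    exact hy (hVU ((key V hVo hVc).mp hxV))
  · obtain ⟨V, ⟨hVo, hVc⟩, hyV, hVU⟩ :=
      PrespectralSpace.isTopologicalBasis.exists_subset_of_mem_open hy hU
    exact hx (hVU ((key V hVo hVc).mpr hyV))

theorem top_eq : (c X).pt.str =
    ⨅ A : (Finset (K X))ᵒᵖ, ((F X).obj A).str.induced ((c X).π.app A) := by
  apply le_antisymm
  · exact le_iInf fun A => continuous_iff_le_induced.mp ((c X).π.app A).hom.continuous
  · have hb : (c X).pt.str = generateFrom {U : Set X | IsOpen U ∧ IsCompact U} :=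
      (PrespectralSpace.isTopologicalBasis (X := X)).eq_generateFrom
    rw [hb]
    refine le_generateFrom ?_
    rintro U ⟨hUo, hUc⟩
    let U' : K X := ⟨U, hUo, hUc⟩
    have hle := iInf_le (fun A : (Finset (K X))ᵒᵖ => ((F X).obj A).str.induced ((c X).π.app A))
      (op {U'})
    refine TopologicalSpace.le_def.mp hle U ?_
    rw [isOpen_induced_iff]
    let V : Set (Q X {U'}) := {q | q.1 ⟨U', Finset.mem_singleton_self _⟩}
    have hV : IsOpen V :=
      continuous_Prop.mp ((continuous_apply (⟨U', Finset.mem_singleton_self _⟩ :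
        ({U'} : Finset (K X)))).comp continuous_subtype_val)
    exact ⟨V, hV, rfl⟩

theorem isLimit_forget : Nonempty (IsLimit ((forget TopCat).mapCone (c X))) := by
  rw [Types.isLimit_iff]
  intro s hs
  obtain ⟨x, hx⟩ := exists_point X (fun A => s (op A)) (fun {A B} h => hs (homOfLE h).op)
  refine ⟨x, fun A => Subtype.ext (hx A.unop), fun y hy => sig_injective X y x fun A => ?_⟩
  rw [hx A]
  exact congrArg Subtype.val (hy (op A))

end

open Groth.Agent.Lib.Helper37 in

/-- A spectral space is a directed inverse limit of finite sober topological spaces. Precisely: for X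
spectral there exist a nonempty directed preordered index set J, a functor from the opposite of J to
topological spaces whose values are finite sober (T0, every irreducible closed subset has a generic
point) spaces, and a limit cone of it whose vertex is isomorphic to X. -/
theorem result (X : Type u) [TopologicalSpace X] [SpectralSpace X] :
    ∃ (J : Type u) (_ : Preorder J) (_ : Nonempty J) (_ : IsDirected J (· ≤ ·)) (F : Jᵒᵖ ⥤ TopCat.{u})
      (c : Cone F), Nonempty (IsLimit c) ∧
        (∀ j : Jᵒᵖ, Finite (F.obj j) ∧ T0Space (F.obj j) ∧ QuasiSober (F.obj j)) ∧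
        Nonempty (c.pt ≅ TopCat.of X) := by
  classical
  refine ⟨Finset (K X), inferInstance, ⟨∅⟩, inferInstance, F X, c X, ?_, ?_, ⟨Iso.refl _⟩⟩
  · exact (TopCat.nonempty_isLimit_iff_eq_induced (c X) (isLimit_forget X).some).mpr (top_eq X)
  · intro A
    have h1 : Finite (Q X A.unop) := inferInstance
    have h0 := t0Space_Prop
    have h2 : T0Space (Q X A.unop) := inferInstance
    exact ⟨h1, h2, @quasiSober_of_finite (Q X A.unop) _ h1⟩

end Groth.Agent.S12462
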