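import Groth.Statements.S12463
import Mathlib
import Groth.Agent.Lib.Helper98.WedgeDVR
import Groth.Agent.Lib.Helper98.DeltaBaseChangeC
import Groth.Agent.Lib.Helper98.NormalizationSemilocalA
import Groth.Agent.Lib.Helper38.Delta
import Groth.Agent.Lib.Helper38.Branch2

set_option autoImplicit false
universe u
open Variety

namespace Groth.Agent.S12463

/-- Let (A, m) be a strictly henselian reduced Nagata local ring of dimension one with δ-invariant equal
to the number of geometric branches minus one, and A' the integral closure of A in its total ring of
fractions. Then A is a wedge of discrete valuation rings: for every maximal ideal m' of A' the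
localization A'_{m'} is a discrete valuation ring whose residue field is the image of A, and A
consists exactly of the elements of A' congruent to an element of A modulo every maximal ideal of A'
(the displayed inclusion; the reverse inclusion is trivial). (The inequality δ ≥ branches − 1 of the
published statement holds for every reduced Nagata local ring of dimension one and is not restated.) -/
theorem result (A : Type u) [CommRing A] [HenselianLocalRing A]
    [IsSepClosed (IsLocalRing.ResidueField A)] [IsReduced A] (hN : CAlg.IsNagata A) (hdim : ringKrullDim A = 1)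
    (heq : Curv2.deltaInv A + 1 = Brnch.numGeomBranches A) :
    (∀ m' : MaximalSpectrum ↥(integralClosure A (FractionRing A)),
        (∃ _ : IsDomain (Localization.AtPrime m'.asIdeal), IsDiscreteValuationRing (Localization.AtPrime m'.asIdeal)) ∧
        Function.Surjective (⇑(IsLocalRing.residue (Localization.AtPrime m'.asIdeal)) ∘
          ⇑(algebraMap ↥(integralClosure A (FractionRing A)) (Localization.AtPrime m'.asIdeal)) ∘
          ⇑(algebraMap A ↥(integralClosure A (FractionRing A))))) ∧
    ∀ a' : ↥(integralClosure A (FractionRing A)),
      (∃ a : A, ∀ m' : MaximalSpectrum ↥(integralClosure A (FractionRing A)),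
          a' - algebraMap A _ a ∈ m'.asIdeal) →
      a' ∈ (algebraMap A ↥(integralClosure A (FractionRing A))).range := by
  classical
  haveI : IsNoetherianRing A := hN.1
  have hfin : Module.Finite A (integralClosure A (FractionRing A)) :=
    Groth.Agent.Lib.Helper38.finite_integralClosure_of_isNagata A hN
  haveI := hfin
  haveI : Finite (MaximalSpectrum (integralClosure A (FractionRing A))) :=
    Groth.Agent.Lib.Helper98.NormalizationSemilocal.finite_maximalSpectrum_integralClosure A
  haveI : Fintype (MaximalSpectrum (integralClosure A (FractionRing A))) := Fintype.ofFinite _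
  have hfinmin : (minimalPrimes A).Finite := minimalPrimes.finite_of_isNoetherianRing A
  -- the delta invariant is finite
  have hδfin : Curv2.deltaInv A ≠ ⊤ :=
    Module.length_ne_top_iff.mpr
      (Groth.Agent.Lib.Helper38.isFiniteLength_quotient_range (K := FractionRing A) hdim.le
        (integralClosure A (FractionRing A)))
  -- the number of geometric branches is at most the number of maximal ideals
  have hG : Brnch.numGeomBranches A ≤
      Fintype.card (MaximalSpectrum (integralClosure A (FractionRing A))) := by
    unfold Brnch.numGeomBranches
    rw [if_pos hfinmin]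
    have hbij : Function.Bijective (Ideal.Quotient.mk (nilradical A)) := by
      refine ⟨?_, Ideal.Quotient.mk_surjective⟩
      rw [RingHom.injective_iff_ker_eq_bot, Ideal.mk_ker, nilradical_eq_zero]
      rfl
    let e : A ≃+* CAlg2.red A := RingEquiv.ofBijective (Ideal.Quotient.mk (nilradical A)) hbij
    obtain ⟨ψ, hψsurj, -⟩ := Groth.Agent.Lib.Helper38.exists_ringHom_integralClosure_of_ringEquiv e
    have h1 : ENat.card (Σ m' : MaximalSpectrum (CAlg2.normRed A), Brnch.Emb A m') ≤
        ENat.card (MaximalSpectrum (CAlg2.normRed A)) := by
      refine ENat.card_le_card_of_injective (f := Sigma.fst) ?_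
      rintro ⟨m1, σ1⟩ ⟨m2, σ2⟩ h
      obtain rfl : m1 = m2 := h
      haveI := Groth.Agent.Lib.Helper98.WedgeDVR.subsingleton_emb A m1
      rw [Subsingleton.elim σ1 σ2]
    have h2 : ENat.card (MaximalSpectrum (CAlg2.normRed A)) ≤
        ENat.card (MaximalSpectrum (integralClosure A (FractionRing A))) := by
      refine ENat.card_le_card_of_injective
        (f := fun N : MaximalSpectrum (CAlg2.normRed A) =>
          (⟨N.asIdeal.comap ψ, Ideal.comap_isMaximal_of_surjective ψ hψsurj⟩ :
            MaximalSpectrum (integralClosure A (FractionRing A)))) ?_
      intro N1 N2 h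
      have h' : N1.asIdeal.comap ψ = N2.asIdeal.comap ψ := congrArg MaximalSpectrum.asIdeal h
      exact MaximalSpectrum.ext (Ideal.comap_injective_of_surjective ψ hψsurj h')
    rw [← ENat.card_eq_coe_fintype_card]
    exact h1.trans h2
  -- the Jacobson radical of the normalization
  have hJ : (IsLocalRing.maximalIdeal A).map
      (algebraMap A (integralClosure A (FractionRing A))) ≤
      ⨅ m' : MaximalSpectrum (integralClosure A (FractionRing A)), m'.asIdeal := by
    rw [Ideal.map_le_iff_le_comap]
    intro a ha
    rw [Ideal.mem_comap, Ideal.mem_iInf]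
    intro m'
    haveI := m'.isMaximal
    have h := Groth.Agent.Lib.Helper98.DeltaBaseChange.comap_eq_maximalIdeal_of_isMaximal A m'.asIdeal
    rw [← h] at ha
    exact ha
  have hle1 := Groth.Agent.Lib.Helper98.WedgeDVR.length_quotient_le (A := A)
    (⨅ m' : MaximalSpectrum (integralClosure A (FractionRing A)), m'.asIdeal) hJ
  have hsum := Groth.Agent.Lib.Helper98.WedgeDVR.length_quotient_iInf (A := A)
    (B := integralClosure A (FractionRing A))
  have hge1 : ∀ m' : MaximalSpectrum (integralClosure A (FractionRing A)),
      1 ≤ Module.length A (integralClosure A (FractionRing A) ⧸ m'.asIdeal) := by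
    intro m'
    haveI : Nontrivial (integralClosure A (FractionRing A) ⧸ m'.asIdeal) :=
      Ideal.Quotient.nontrivial_iff.mpr m'.isMaximal.ne_top
    exact Order.one_le_iff_pos.mpr Module.length_pos
  have hδ : Curv2.deltaInv A = Module.length A (integralClosure A (FractionRing A) ⧸
      LinearMap.range (Algebra.linearMap A (integralClosure A (FractionRing A)))) := rfl
  have hchain : ∑ m' : MaximalSpectrum (integralClosure A (FractionRing A)),
      Module.length A (integralClosure A (FractionRing A) ⧸ m'.asIdeal) ≤
      Fintype.card (MaximalSpectrum (integralClosure A (FractionRing A))) := by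
    rw [← hsum]
    calc _ ≤ Curv2.deltaInv A + 1 := hle1
      _ = Brnch.numGeomBranches A := heq
      _ ≤ _ := hG
  have hone := Groth.Agent.Lib.Helper98.WedgeDVR.forall_eq_one_of_sum_le _ hge1 hchain
  have hge : Module.length A (integralClosure A (FractionRing A) ⧸
      LinearMap.range (Algebra.linearMap A (integralClosure A (FractionRing A)))) + 1 ≤
      Module.length A (integralClosure A (FractionRing A) ⧸
        (⨅ m' : MaximalSpectrum (integralClosure A (FractionRing A)),
          m'.asIdeal).restrictScalars A) := by
    rw [← hδ, heq, hsum]
    calc Brnch.numGeomBranches A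
        ≤ Fintype.card (MaximalSpectrum (integralClosure A (FractionRing A))) := hG
      _ = ∑ _m' : MaximalSpectrum (integralClosure A (FractionRing A)), (1 : ℕ∞) := by simp
      _ ≤ _ := Finset.sum_le_sum (fun i _ => hge1 i)
  have hJle := Groth.Agent.Lib.Helper98.WedgeDVR.le_range_of_length_le (A := A)
    (⨅ m' : MaximalSpectrum (integralClosure A (FractionRing A)), m'.asIdeal) hJ hδfin hge
  refine ⟨fun m' => ⟨?_, ?_⟩, ?_⟩
  · haveI := m'.isMaximal
    exact Groth.Agent.Lib.Helper98.DeltaBaseChange.isDiscreteValuationRing_localization_integralClosure
      A hdim hfin m'.asIdeal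
  · haveI := m'.isMaximal
    have hs := Groth.Agent.Lib.Helper98.WedgeDVR.surjective_of_length_eq_one (A := A)
      m'.asIdeal (hone m')
    intro y
    obtain ⟨a, ha⟩ := hs ((IsLocalization.AtPrime.equivQuotMaximalIdeal m'.asIdeal
      (Localization.AtPrime m'.asIdeal)).symm y)
    refine ⟨a, ?_⟩
    have h2 := congrArg (IsLocalization.AtPrime.equivQuotMaximalIdeal m'.asIdeal
      (Localization.AtPrime m'.asIdeal)) ha
    rw [RingEquiv.apply_symm_apply] at h2
    rw [← h2]
    rfl
  · rintro a' ⟨a, ha⟩
    have hmem : a' - algebraMap A _ a ∈
        (⨅ m' : MaximalSpectrum (integralClosure A (FractionRing A)),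
          m'.asIdeal).restrictScalars A := by
      show a' - algebraMap A _ a ∈
        (⨅ m' : MaximalSpectrum (integralClosure A (FractionRing A)), m'.asIdeal)
      rw [Ideal.mem_iInf]
      exact ha
    obtain ⟨b, hb⟩ := hJle hmem
    refine ⟨a + b, ?_⟩
    rw [map_add]
    have hb' : algebraMap A (integralClosure A (FractionRing A)) b = a' - algebraMap A _ a := hb
    rw [hb']
    ring

end Groth.Agent.S12463
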