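import Groth.Statements.S12464
-- import your own Groth.Agent.* helpers here

set_option autoImplicit false
universe v' u' u
open CategoryTheory AlgebraicGeometry
open BigSite

namespace Groth.Agent.S12464


open Limits in
/-- Beck–Chevalley isomorphism of functors on slice categories for a cartesian square. -/
noncomputable def bcIso {C : Type*} [Category C] [HasPullbacks C] {S T S' T' : C} (f : T ⟶ S)
    (g : S' ⟶ S) (g' : T' ⟶ T) (f' : T' ⟶ S') (hsq : IsPullback g' f' f g) :
    Over.pullback f' ⋙ Over.map g' ≅ Over.map g ⋙ Over.pullback f :=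
  NatIso.ofComponents (fun V => Over.isoMk
    ((IsPullback.paste_horiz (IsPullback.of_hasPullback V.hom f').flip hsq).flip.isoPullback)
    (by simp)) (by
      intro V W φ
      ext
      apply pullback.hom_ext
      · simp
        rw [pullback.lift_fst]
        erw [pullback.lift_fst]
        simp
      · simp
        rw [pullback.lift_snd_assoc]
        erw [pullback.lift_snd]
        simp)

/-- The base change isomorphism for any precoverage. -/
theorem bc_gen (K : Precoverage Scheme.{u}) {S T S' T' : Scheme.{u}} (f : T ⟶ S) (g : S' ⟶ S)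
    (g' : T' ⟶ T) (f' : T' ⟶ S') (hsq : IsPullback g' f' f g)
    (A : Type u') [Category.{v'} A] :
    Nonempty (BigSite.pushBig K f A ⋙ BigSite.pullBig K g A ≅
        BigSite.pullBig K g' A ⋙ BigSite.pushBig K f' A) := by
  have : (Over.map g ⋙ Over.pullback f).IsContinuous (QuotSh.J K S') (QuotSh.J K T) :=
    Functor.isContinuous_comp _ _ _ (QuotSh.J K S) _
  exact ⟨Functor.sheafPushforwardContinuousComp' (Iso.refl (Over.map g ⋙ Over.pullback f)) A
      (QuotSh.J K S') (QuotSh.J K S) (QuotSh.J K T) ≪≫
    (Functor.sheafPushforwardContinuousComp' (bcIso f g g' f' hsq) A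
      (QuotSh.J K S') (QuotSh.J K T') (QuotSh.J K T)).symm⟩

/-- Let g' : T' → T, f' : T' → S', f : T → S, g : S' → S be a cartesian square of schemes. Then g_big⁻¹
∘ f_big,* ≅ f'_big,* ∘ g'_big⁻¹ as functors from sheaves on Sch/T to sheaves on Sch/S', both for the
big Zariski sites and for the big étale sites. (Existence of natural isomorphisms; the published one
sends both sides to U' ↦ F(U' ×_{S'} T').) -/
theorem result {S T S' T' : Scheme.{u}} (f : T ⟶ S) (g : S' ⟶ S) (g' : T' ⟶ T) (f' : T' ⟶ S') (hsq : IsPullback g' f' f g)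
    (A : Type u') [Category.{v'} A] :
    Nonempty (BigSite.pushBig Scheme.zariskiPrecoverage f A ⋙ BigSite.pullBig Scheme.zariskiPrecoverage g A ≅
        BigSite.pullBig Scheme.zariskiPrecoverage g' A ⋙ BigSite.pushBig Scheme.zariskiPrecoverage f' A) ∧
      Nonempty (BigSite.pushBig Scheme.etalePrecoverage f A ⋙ BigSite.pullBig Scheme.etalePrecoverage g A ≅
        BigSite.pullBig Scheme.etalePrecoverage g' A ⋙ BigSite.pushBig Scheme.etalePrecoverage f' A) := by
  exact ⟨bc_gen _ f g g' f' hsq A, bc_gen _ f g g' f' hsq A⟩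

end Groth.Agent.S12464
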