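import Groth.Statements.S12465
import Groth.Agent.S12464

set_option autoImplicit false
universe u
open CategoryTheory AlgebraicGeometry
open BigSite

namespace Groth.Agent.S12465

/-- On the big étale sites, for a cartesian square g' : T' → T, f' : T' → S', f : T → S, g : S' → S of
schemes, i_g⁻¹ ∘ f_big,* ≅ f'_small,* ∘ i_{g'}⁻¹ as functors from abelian sheaves on (Sch/T)_ét to
abelian sheaves on the small étale site of S'. (Existence of a natural isomorphism; both sides send
F to U' ↦ F(U' ×_{S'} T'). The binder BCCont f' holds for every morphism.) -/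
theorem result {S T S' T' : Scheme.{u}} (f : T ⟶ S) (g : S' ⟶ S) (g' : T' ⟶ T)
    (f' : T' ⟶ S') (hsq : IsPullback g' f' f g) [EtCoh.BCCont f'] :
    Nonempty (BigSite.pushBig Scheme.etalePrecoverage f AddCommGrpCat.{u + 1} ⋙
        BigSite.resEtAlong Scheme.etalePrecoverage g ≅
      BigSite.resEtAlong Scheme.etalePrecoverage g' ⋙ EtCoh.push f') := by
  have c12 : (EtFppf.a S' ⋙ Over.map g).IsContinuous S'.smallEtaleTopology
      (QuotSh.J Scheme.etalePrecoverage S) :=
    Functor.isContinuous_comp _ _ _ (QuotSh.J Scheme.etalePrecoverage S') _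
  have cL : ((EtFppf.a S' ⋙ Over.map g) ⋙ Over.pullback f).IsContinuous S'.smallEtaleTopology
      (QuotSh.J Scheme.etalePrecoverage T) :=
    Functor.isContinuous_comp _ _ _ (QuotSh.J Scheme.etalePrecoverage S) _
  have c23 : (EtFppf.a T' ⋙ Over.map g').IsContinuous T'.smallEtaleTopology
      (QuotSh.J Scheme.etalePrecoverage T) :=
    Functor.isContinuous_comp _ _ _ (QuotSh.J Scheme.etalePrecoverage T') _
  let eFG : EtCoh.bc f' ⋙ (EtFppf.a T' ⋙ Over.map g') ≅
      (EtFppf.a S' ⋙ Over.map g) ⋙ Over.pullback f :=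
    (Functor.associator _ _ _).symm ≪≫
      Functor.isoWhiskerRight
        (MorphismProperty.Over.pullbackCompForgetIso (P := EtCoh.etaleMP) (Q := ⊤) f') (Over.map g') ≪≫
      Functor.associator _ _ _ ≪≫
      Functor.isoWhiskerLeft (EtFppf.a S') (Groth.Agent.S12464.bcIso f g g' f' hsq) ≪≫
      (Functor.associator _ _ _).symm
  let eL : BigSite.pushBig Scheme.etalePrecoverage f AddCommGrpCat.{u + 1} ⋙
        BigSite.resEtAlong Scheme.etalePrecoverage g ≅
      ((EtFppf.a S' ⋙ Over.map g) ⋙ Over.pullback f).sheafPushforwardContinuous AddCommGrpCat.{u + 1}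
        S'.smallEtaleTopology (QuotSh.J Scheme.etalePrecoverage T) :=
    Functor.isoWhiskerLeft (BigSite.pushBig Scheme.etalePrecoverage f AddCommGrpCat.{u + 1})
      (Functor.sheafPushforwardContinuousComp' (Iso.refl (EtFppf.a S' ⋙ Over.map g))
        AddCommGrpCat.{u + 1} S'.smallEtaleTopology (QuotSh.J Scheme.etalePrecoverage S')
        (QuotSh.J Scheme.etalePrecoverage S)) ≪≫
    Functor.sheafPushforwardContinuousComp' (Iso.refl ((EtFppf.a S' ⋙ Over.map g) ⋙ Over.pullback f))
        AddCommGrpCat.{u + 1} S'.smallEtaleTopology (QuotSh.J Scheme.etalePrecoverage S)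
        (QuotSh.J Scheme.etalePrecoverage T)
  let eR : BigSite.resEtAlong Scheme.etalePrecoverage g' ⋙ EtCoh.push f' ≅
      ((EtFppf.a S' ⋙ Over.map g) ⋙ Over.pullback f).sheafPushforwardContinuous AddCommGrpCat.{u + 1}
        S'.smallEtaleTopology (QuotSh.J Scheme.etalePrecoverage T) :=
    Functor.isoWhiskerRight
      (Functor.sheafPushforwardContinuousComp' (Iso.refl (EtFppf.a T' ⋙ Over.map g'))
        AddCommGrpCat.{u + 1} T'.smallEtaleTopology (QuotSh.J Scheme.etalePrecoverage T')
        (QuotSh.J Scheme.etalePrecoverage T)) (EtCoh.push f') ≪≫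
    Functor.sheafPushforwardContinuousComp' eFG
        AddCommGrpCat.{u + 1} S'.smallEtaleTopology T'.smallEtaleTopology
        (QuotSh.J Scheme.etalePrecoverage T)
  exact ⟨eL ≪≫ eR.symm⟩

end Groth.Agent.S12465
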