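import Groth.Statements.S12472
import Mathlib
import Groth.Agent.Lib.Helper63.O1SymInv
import Groth.Agent.Lib.Helper42.RelTwistExists
import Groth.Agent.Lib.Helper42.RelProjGlue
import Groth.Agent.Lib.Helper42.SymGrAlg
-- import your own Groth.Agent.* helpers here

set_option autoImplicit false
universe u
open CategoryTheory CategoryTheory.Limits AlgebraicGeometry TopologicalSpace Opposite
open scoped HomogeneousIdeal
open EGA2

namespace Groth.Agent.S12472

/-- Let Y be a scheme and L an invertible O_Y-module. Then L is very ample relative to the identity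
morphism of Y: there are a quasi-coherent O_Y-module E and a Y-immersion i of Y into the projective
bundle P(E) with L isomorphic to i^*O_{P(E)}(1). -/
theorem result (Y : Scheme.{u}) (L : Y.Modules) (hL : PicF.IsInvertible L) :
    RelProj.IsRelVeryAmple (𝟙 Y) L := by
  have hLq : Coh.IsQCoh L := Groth.Agent.Lib.Helper45.isQuasicoherent_of_isInvertible hL
  have hT : RelProj.IsGrSymAlg L (Groth.Agent.Lib.Helper42.SymGrAlg.symGrAlg L)
      (Groth.Agent.Lib.Helper18.SymQC.jHom L) := Groth.Agent.Lib.Helper42.SymGrAlg.isGrSymAlg L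
  obtain ⟨PL, pL, chartL, hPT⟩ : ∃ (PL : Scheme.{u}) (pL : PL ⟶ Y)
      (chartL : ∀ (U : Y.Opens) (hU : IsAffineOpen U), (((pL ⁻¹ᵁ U : PL.Opens) : Scheme.{u}) ≅
        Proj ((Groth.Agent.Lib.Helper42.SymGrAlg.symGrAlg L).deg U hU))),
      RelProj.IsRelProj (Groth.Agent.Lib.Helper42.SymGrAlg.symGrAlg L) pL chartL :=
    ⟨_, _, _, Groth.Agent.Lib.Helper42.RelProjGlue.isRelProj (Groth.Agent.Lib.Helper42.SymGrAlg.symGrAlg L)⟩
  obtain ⟨O1, lam, hO1⟩ := Groth.Agent.Lib.Helper42.RelTwistExists.exists_isRelTwist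
    (Groth.Agent.Lib.Helper42.SymGrAlg.symGrAlg L) pL chartL hPT 1
  have hiso : IsIso pL := Groth.Agent.Lib.Helper63.SymInv.isIso_pL L hLq
    (Groth.Agent.Lib.Helper42.SymGrAlg.symGrAlg L) (Groth.Agent.Lib.Helper18.SymQC.jHom L) hT pL chartL hPT hL
  obtain ⟨ε⟩ := Groth.Agent.Lib.Helper63.O1SymInv.nonempty_pullback_iso L hLq hL
    (Groth.Agent.Lib.Helper42.SymGrAlg.symGrAlg L) (Groth.Agent.Lib.Helper18.SymQC.jHom L) hT pL chartL hPT hO1
  refine ⟨L, hLq, Groth.Agent.Lib.Helper42.SymGrAlg.symGrAlg L, Groth.Agent.Lib.Helper18.SymQC.jHom L, hT,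
    PL, pL, chartL, hPT, O1, lam, hO1, inv pL, inferInstance, IsIso.inv_hom_id pL, ⟨?_⟩⟩
  exact ((Scheme.Modules.pullbackId (X := Y)).app L).symm ≪≫
    (Scheme.Modules.pullbackCongr (IsIso.inv_hom_id pL).symm).app L ≪≫
    ((Scheme.Modules.pullbackComp (inv pL) pL).app L).symm ≪≫
    (Scheme.Modules.pullback (inv pL)).mapIso ε


end Groth.Agent.S12472
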