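import Groth.Statements.S12476
import Mathlib
import Groth.Agent.Lib.Helper63.VeryAmpleBC
-- import your own Groth.Agent.* helpers here

set_option autoImplicit false
universe u
open CategoryTheory CategoryTheory.Limits AlgebraicGeometry TopologicalSpace Opposite
open scoped HomogeneousIdeal
open EGA2

namespace Groth.Agent.S12476

/-- Let f : X → Y and g : Y → Z be morphisms of schemes and L an invertible O_X-module which is very
ample relative to the composite X → Y → Z (isomorphic to the inverse image of O(1) along a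
Z-immersion of X into the projective bundle of a quasi-coherent O_Z-module). Then L is very ample
relative to f. -/
theorem result {X Y Z : Scheme.{u}} (f : X ⟶ Y) (g : Y ⟶ Z) (L : X.Modules)
    (hL : PicF.IsInvertible L) (hva : RelProj.IsRelVeryAmple (f ≫ g) L) : RelProj.IsRelVeryAmple f L := by
  obtain ⟨E, hE, 𝒮, j, hj, P, p, chart, hP, O1, lam, hO1, i, hi, hip, ⟨eL⟩⟩ := hva
  obtain ⟨E', hE', 𝒮', j', hj', P', p', chart', hP', O1', lam', hO1', h, hpb, ⟨ε⟩⟩ :=
    Groth.Agent.Lib.Helper63.VeryAmpleBC.exists_baseChange g E hE 𝒮 j hj p chart hP O1 lam hO1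
  obtain ⟨i', hi'1, hi'2⟩ : ∃ i' : X ⟶ P', i' ≫ h = i ∧ i' ≫ p' = f :=
    ⟨hpb.lift i f hip, hpb.lift_fst _ _ _, hpb.lift_snd _ _ _⟩
  have himm : IsImmersion i' := by
    have : IsImmersion (i' ≫ h) := hi'1 ▸ hi
    exact IsImmersion.of_comp i' h
  refine ⟨E', hE', 𝒮', j', hj', P', p', chart', hP', O1', lam', hO1', i', himm, hi'2, ⟨?_⟩⟩
  exact eL ≪≫ (Scheme.Modules.pullbackCongr hi'1.symm).app O1 ≪≫
    ((Scheme.Modules.pullbackComp i' h).app O1).symm ≪≫ (Scheme.Modules.pullback i').mapIso ε


end Groth.Agent.S12476
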