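import Groth.Statements.S12491
import Groth.Agent.Lib.Helper73.Syzygy
import Groth.Agent.S0563
import Groth.Agent.S0564

set_option maxSynthPendingDepth 3

set_option autoImplicit false
universe u
open VBPn

namespace Groth.Agent.S12491

/-- Let A be a regular local ring, k ≥ 0, and N_0, N_1, … A-modules with N_0 finitely generated and N_1,
…, N_k finitely generated and free, with linear maps d_i : N_i → N_{i+1} such that d_0 is injective
and the sequence 0 → N_0 → N_1 → ⋯ → N_k is exact. Then for every prime ideal p of A of height at
most k the localization of N_0 at p is a free module over A_p. The published statement is for a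
coherent analytic sheaf on a complex manifold that is locally a k-th syzygy sheaf and says its set
of non-free stalks has codimension greater than k; this row is the statement at one stalk, over any
regular local ring. -/
theorem result (A : Type u) [CommRing A] [IsRegularLocalRing A]
    (k : ℕ) (N : ℕ → Type u) [∀ i, AddCommGroup (N i)] [∀ i, Module A (N i)] [Module.Finite A (N 0)]
    (hfree : ∀ i, 1 ≤ i → i ≤ k → Module.Free A (N i) ∧ Module.Finite A (N i))
    (d : ∀ i, N i →ₗ[A] N (i + 1)) (hinj : Function.Injective (d 0))
    (hex : ∀ i, i + 1 < k → LinearMap.range (d i) = LinearMap.ker (d (i + 1)))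
    (p : Ideal A) [p.IsPrime] (hp : p.height ≤ k) :
    Module.Free (Localization.AtPrime p) (LocalizedModule p.primeCompl (N 0)) := by
  classical
  haveI : IsRegularLocalRing (Localization.AtPrime p) := Groth.Agent.S0564.result A p
  -- global dimension of `A_p` is at most `k`
  obtain ⟨h, hh⟩ : ∃ h : ℕ, p.height = h := by
    have : p.height ≠ ⊤ := by
      intro htop
      rw [htop] at hp
      exact absurd hp (by simp)
    exact ⟨p.height.toNat, (ENat.coe_toNat this).symm⟩
  have hhk : h ≤ k := by
    rw [hh] at hp
    exact_mod_cast hp
  have hdim : ringKrullDim (Localization.AtPrime p) = h := by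
    rw [IsLocalization.AtPrime.ringKrullDim_eq_height p (Localization.AtPrime p), hh]
    rfl
  have hgl : ∀ (M : Type u) [AddCommGroup M] [Module (Localization.AtPrime p) M],
      CategoryTheory.HasProjectiveDimensionLT (ModuleCat.of (Localization.AtPrime p) M) (k + 1) := by
    intro M _ _
    have := Groth.Agent.S0563.result (Localization.AtPrime p) h hdim M
    exact CategoryTheory.hasProjectiveDimensionLT_of_ge _ (h + 1) (k + 1) (by omega)
  have hproj : ∀ i, 1 ≤ i → i ≤ k →
      Module.Projective (Localization.AtPrime p) (LocalizedModule p.primeCompl (N i)) := by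
    intro i h1 h2
    obtain ⟨hf, hfin⟩ := hfree i h1 h2
    exact Module.projective_of_isLocalizedModule p.primeCompl
      (LocalizedModule.mkLinearMap p.primeCompl (N i))
  have hinj' : Function.Injective (LocalizedModule.map p.primeCompl (d 0)) :=
    LocalizedModule.map_injective _ _ hinj
  have hex' : ∀ i, i + 1 < k → LinearMap.range (LocalizedModule.map p.primeCompl (d i)) =
      LinearMap.ker (LocalizedModule.map p.primeCompl (d (i + 1))) := by
    intro i hi
    have h1 : Function.Exact (d i) (d (i + 1)) := by
      rw [LinearMap.exact_iff]
      exact (hex i hi).symm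
    have h2 := LocalizedModule.map_exact p.primeCompl (d i) (d (i + 1)) h1
    have h3 : Function.Exact (LocalizedModule.map p.primeCompl (d i))
        (LocalizedModule.map p.primeCompl (d (i + 1))) := h2
    rw [LinearMap.exact_iff] at h3
    exact h3.symm
  haveI := Groth.Agent.Lib.Helper73.Syzygy.projective_of_syzygy (R := Localization.AtPrime p) k hgl
    (fun i => LocalizedModule p.primeCompl (N i)) hproj
    (fun i => LocalizedModule.map p.primeCompl (d i)) hinj' hex'
  exact Module.free_of_flat_of_isLocalRing

end Groth.Agent.S12491
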