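import Groth.Statements.S12498
import Groth.Agent.Lib.Helper58.SmallExtFlat

set_option autoImplicit false
universe u
open Deform

namespace Groth.Agent.S12498



section Helpers

open IsLocalRing Groth.Agent.Lib.Helper58.SmallExtFlat

variable {k : Type u} [Field k] {A : Type u} [CommRing A] [Algebra k A] [IsLocalRing A]
  {B : Type u} [CommRing B] [Algebra A B] [Algebra k B] [IsScalarTower k A B]

omit [IsLocalRing A] in
lemma mk_t_mul (t : A) (w : B) :
    Ideal.Quotient.mk (Ideal.span {algebraMap A B t}) (algebraMap A B t * w) = 0 := by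
  rw [Ideal.Quotient.eq_zero_iff_mem]
  exact Ideal.mul_mem_right _ _ (Ideal.subset_span rfl)

lemma mk_algebraMap_eq (a : A) (c : k) (hc : a - algebraMap k A c ∈ maximalIdeal A) :
    Ideal.Quotient.mk ((maximalIdeal A).map (algebraMap A B)) (algebraMap A B a) =
      algebraMap k (B ⧸ (maximalIdeal A).map (algebraMap A B)) c := by
  rw [← Ideal.Quotient.mk_algebraMap, IsScalarTower.algebraMap_apply k A B, Ideal.Quotient.eq,
    ← map_sub]
  exact Ideal.mem_map_of_mem _ hc

theorem exists_eta [Module.Flat A B]
    (hres : ∀ a : A, ∃ c : k, a - algebraMap k A c ∈ maximalIdeal A)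
    (t : A) (ht : t ∈ maximalIdeal A) (ht0 : t ≠ 0)
    (htm : ∀ a ∈ maximalIdeal A, a * t = 0)
    (σ : (B ⧸ Ideal.span {algebraMap A B t}) ≃ₐ[A] (B ⧸ Ideal.span {algebraMap A B t}))
    (τ : B ≃ₐ[A] B)
    (hτ : ∀ b : B, Ideal.Quotient.mk (Ideal.span {algebraMap A B t}) (τ b) =
      σ (Ideal.Quotient.mk (Ideal.span {algebraMap A B t}) b))
    (hτ0 : ∀ b : B, τ b - b ∈ (maximalIdeal A).map (algebraMap A B))
    (d : Derivation k (B ⧸ (maximalIdeal A).map (algebraMap A B))
        (B ⧸ (maximalIdeal A).map (algebraMap A B))) :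
    ∃ η : B ≃ₐ[A] B, (∀ b : B, Ideal.Quotient.mk (Ideal.span {algebraMap A B t}) (η b) =
        σ (Ideal.Quotient.mk (Ideal.span {algebraMap A B t}) b)) ∧
      ∀ b b' : B, Ideal.Quotient.mk ((maximalIdeal A).map (algebraMap A B)) b' =
          d (Ideal.Quotient.mk ((maximalIdeal A).map (algebraMap A B)) b) →
        η b = τ b + algebraMap A B t * b' := by
  -- notation
  have hmk : Function.Surjective (Ideal.Quotient.mk ((maximalIdeal A).map (algebraMap A B))) :=
    Ideal.Quotient.mk_surjective
  have hcongr : ∀ b b' : B, Ideal.Quotient.mk ((maximalIdeal A).map (algebraMap A B)) b =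
      Ideal.Quotient.mk ((maximalIdeal A).map (algebraMap A B)) b' →
      algebraMap A B t * b = algebraMap A B t * b' :=
    fun b b' h => (mul_eq_mul_iff t ht0 htm b b').mpr h
  have hτmk : ∀ b : B, Ideal.Quotient.mk ((maximalIdeal A).map (algebraMap A B)) (τ b) =
      Ideal.Quotient.mk ((maximalIdeal A).map (algebraMap A B)) b := fun b =>
    Ideal.Quotient.eq.mpr (hτ0 b)
  have htmk : Ideal.Quotient.mk ((maximalIdeal A).map (algebraMap A B)) (algebraMap A B t) = 0 :=
    Ideal.Quotient.eq_zero_iff_mem.mpr (algebraMap_mem_map t ht)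
  have hsq : algebraMap A B t * algebraMap A B t = 0 := algebraMap_sq t ht htm
  -- the lift of `d`
  let w : B → B := fun b => Function.surjInv hmk
    (d (Ideal.Quotient.mk ((maximalIdeal A).map (algebraMap A B)) b))
  have hw : ∀ b, Ideal.Quotient.mk ((maximalIdeal A).map (algebraMap A B)) (w b) =
      d (Ideal.Quotient.mk ((maximalIdeal A).map (algebraMap A B)) b) :=
    fun b => Function.surjInv_eq hmk _
  let eta0 : B → B := fun b => τ b + algebraMap A B t * w b
  have hkey : ∀ b b' : B, Ideal.Quotient.mk ((maximalIdeal A).map (algebraMap A B)) b' =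
      d (Ideal.Quotient.mk ((maximalIdeal A).map (algebraMap A B)) b) →
      eta0 b = τ b + algebraMap A B t * b' := by
    intro b b' h
    change τ b + algebraMap A B t * w b = _
    rw [hcongr (w b) b' ((hw b).trans h.symm)]
  have hmketa : ∀ b, Ideal.Quotient.mk ((maximalIdeal A).map (algebraMap A B)) (eta0 b) =
      Ideal.Quotient.mk ((maximalIdeal A).map (algebraMap A B)) b := by
    intro b
    change Ideal.Quotient.mk _ (τ b + algebraMap A B t * w b) = _
    rw [map_add, map_mul, htmk, zero_mul, add_zero, hτmk]
  let etaHom : B →ₐ[A] B :=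
    { toFun := eta0
      map_one' := by
        rw [hkey 1 0 (by rw [map_zero, map_one, Derivation.map_one_eq_zero]), mul_zero, add_zero,
          map_one]
      map_mul' := fun b c => by
        rw [hkey (b * c) (b * w c + c * w b) (by
          rw [map_add, map_mul, map_mul, hw, hw, map_mul, Derivation.leibniz, smul_eq_mul,
            smul_eq_mul])]
        change _ = (τ b + algebraMap A B t * w b) * (τ c + algebraMap A B t * w c)
        have h1 : algebraMap A B t * (τ b * w c) = algebraMap A B t * (b * w c) :=
          hcongr _ _ (by rw [map_mul, map_mul, hτmk])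
        have h2 : algebraMap A B t * (τ c * w b) = algebraMap A B t * (c * w b) :=
          hcongr _ _ (by rw [map_mul, map_mul, hτmk])
        have e : (τ b + algebraMap A B t * w b) * (τ c + algebraMap A B t * w c) =
            τ b * τ c + (algebraMap A B t * (τ b * w c) + algebraMap A B t * (τ c * w b)) +
              (algebraMap A B t * algebraMap A B t) * (w b * w c) := by ring
        rw [e, h1, h2, hsq, zero_mul, add_zero, map_mul, mul_add]
      map_zero' := by
        rw [hkey 0 0 (by rw [map_zero, map_zero]), mul_zero, add_zero, map_zero]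
      map_add' := fun b c => by
        rw [hkey (b + c) (w b + w c) (by rw [map_add, map_add, hw, hw, map_add])]
        change _ = (τ b + algebraMap A B t * w b) + (τ c + algebraMap A B t * w c)
        rw [map_add, mul_add]; ring
      commutes' := fun a => by
        obtain ⟨c, hc⟩ := hres a
        rw [hkey (algebraMap A B a) 0 (by
          rw [map_zero, mk_algebraMap_eq a c hc, Derivation.map_algebraMap]), mul_zero, add_zero,
          AlgEquiv.commutes] }
  have hetaHom : ∀ b, etaHom b = eta0 b := fun b => rfl
  have hbij : Function.Bijective etaHom := by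
    constructor
    · rw [injective_iff_map_eq_zero]
      intro b hb
      rw [hetaHom] at hb
      have h1 : Ideal.Quotient.mk ((maximalIdeal A).map (algebraMap A B)) b = 0 := by
        rw [← hmketa, hb, map_zero]
      have h2 := hkey b 0 (by rw [h1, map_zero, map_zero])
      rw [hb, mul_zero, add_zero] at h2
      exact (map_eq_zero_iff τ τ.injective).mp h2.symm
    · intro c
      refine ⟨τ.symm (c - algebraMap A B t * w (τ.symm c)), ?_⟩
      rw [hetaHom]
      have h1 : Ideal.Quotient.mk ((maximalIdeal A).map (algebraMap A B))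
          (τ.symm (c - algebraMap A B t * w (τ.symm c))) =
          Ideal.Quotient.mk ((maximalIdeal A).map (algebraMap A B)) (τ.symm c) := by
        rw [map_sub, map_sub, map_mul, AlgEquiv.commutes, map_mul, htmk, zero_mul, sub_zero]
      rw [hkey _ (w (τ.symm c)) (by rw [h1, hw]), AlgEquiv.apply_symm_apply]
      ring
  refine ⟨AlgEquiv.ofBijective etaHom hbij, ?_, ?_⟩
  · intro b
    change Ideal.Quotient.mk _ (τ b + algebraMap A B t * w b) = _
    rw [map_add, mk_t_mul, add_zero, hτ]
  · intro b b' h
    exact hkey b b' h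

end Helpers




section Helpers2

open IsLocalRing Groth.Agent.Lib.Helper58.SmallExtFlat

variable {k : Type u} [Field k] {A : Type u} [CommRing A] [Algebra k A] [IsLocalRing A]
  {B : Type u} [CommRing B] [Algebra A B] [Algebra k B] [IsScalarTower k A B]

omit [IsLocalRing A] in
/-- two elements with the same class modulo `t` differ by a multiple of `t` -/
lemma exists_add_mul (t : A) (x y : B)
    (h : Ideal.Quotient.mk (Ideal.span {algebraMap A B t}) x =
      Ideal.Quotient.mk (Ideal.span {algebraMap A B t}) y) :
    ∃ w : B, x = y + algebraMap A B t * w := by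
  rw [Ideal.Quotient.eq, Ideal.mem_span_singleton'] at h
  obtain ⟨w, hw⟩ := h
  exact ⟨w, by rw [mul_comm, hw]; ring⟩

theorem existsUnique_der [Module.Flat A B]
    (t : A) (ht : t ∈ maximalIdeal A) (ht0 : t ≠ 0)
    (htm : ∀ a ∈ maximalIdeal A, a * t = 0)
    (σ : (B ⧸ Ideal.span {algebraMap A B t}) ≃ₐ[A] (B ⧸ Ideal.span {algebraMap A B t}))
    (τ : B ≃ₐ[A] B)
    (hτ : ∀ b : B, Ideal.Quotient.mk (Ideal.span {algebraMap A B t}) (τ b) =
      σ (Ideal.Quotient.mk (Ideal.span {algebraMap A B t}) b))
    (hτ0 : ∀ b : B, τ b - b ∈ (maximalIdeal A).map (algebraMap A B))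
    (η : B ≃ₐ[A] B)
    (hη : ∀ b : B, Ideal.Quotient.mk (Ideal.span {algebraMap A B t}) (η b) =
        σ (Ideal.Quotient.mk (Ideal.span {algebraMap A B t}) b)) :
    ∃! d : Derivation k (B ⧸ (maximalIdeal A).map (algebraMap A B))
          (B ⧸ (maximalIdeal A).map (algebraMap A B)),
        ∀ b b' : B, Ideal.Quotient.mk ((maximalIdeal A).map (algebraMap A B)) b' =
            d (Ideal.Quotient.mk ((maximalIdeal A).map (algebraMap A B)) b) →
          η b = τ b + algebraMap A B t * b' := by
  have hmk : Function.Surjective (Ideal.Quotient.mk ((maximalIdeal A).map (algebraMap A B))) :=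
    Ideal.Quotient.mk_surjective
  have hcongr : ∀ b b' : B, Ideal.Quotient.mk ((maximalIdeal A).map (algebraMap A B)) b =
      Ideal.Quotient.mk ((maximalIdeal A).map (algebraMap A B)) b' →
      algebraMap A B t * b = algebraMap A B t * b' :=
    fun b b' h => (mul_eq_mul_iff t ht0 htm b b').mpr h
  have hinj : ∀ b b' : B, algebraMap A B t * b = algebraMap A B t * b' →
      Ideal.Quotient.mk ((maximalIdeal A).map (algebraMap A B)) b =
      Ideal.Quotient.mk ((maximalIdeal A).map (algebraMap A B)) b' :=
    fun b b' h => (mul_eq_mul_iff t ht0 htm b b').mp h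
  have hτmk : ∀ b : B, Ideal.Quotient.mk ((maximalIdeal A).map (algebraMap A B)) (τ b) =
      Ideal.Quotient.mk ((maximalIdeal A).map (algebraMap A B)) b := fun b =>
    Ideal.Quotient.eq.mpr (hτ0 b)
  have hsq : algebraMap A B t * algebraMap A B t = 0 := algebraMap_sq t ht htm
  -- the difference
  have hex : ∀ b : B, ∃ w : B, η b = τ b + algebraMap A B t * w := fun b =>
    exists_add_mul t (η b) (τ b) ((hη b).trans (hτ b).symm)
  choose w hw using hex
  let δ : B → B ⧸ (maximalIdeal A).map (algebraMap A B) := fun b => Ideal.Quotient.mk _ (w b)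
  have hδ : ∀ b c : B, η b = τ b + algebraMap A B t * c →
      Ideal.Quotient.mk ((maximalIdeal A).map (algebraMap A B)) c = δ b := by
    intro b c h
    apply hinj
    have := (hw b).symm.trans h
    exact (add_left_cancel this).symm
  have hδ_add : ∀ b c, δ (b + c) = δ b + δ c := by
    intro b c
    rw [← hδ (b + c) (w b + w c) (by rw [map_add, map_add, hw b, hw c, mul_add]; ring), map_add]
  have hδ_mul : ∀ b c, δ (b * c) = Ideal.Quotient.mk _ b * δ c + Ideal.Quotient.mk _ c * δ b := by
    intro b c
    rw [← hδ (b * c) (τ b * w c + τ c * w b) (by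
      rw [map_mul, map_mul, hw b, hw c]
      have e : (τ b + algebraMap A B t * w b) * (τ c + algebraMap A B t * w c) =
          τ b * τ c + algebraMap A B t * (τ b * w c + τ c * w b) +
            (algebraMap A B t * algebraMap A B t) * (w b * w c) := by ring
      rw [e, hsq, zero_mul, add_zero])]
    rw [map_add, map_mul, map_mul, hτmk, hτmk]
  have hδ_alg : ∀ a : A, δ (algebraMap A B a) = 0 := by
    intro a
    rw [← hδ (algebraMap A B a) 0 (by rw [AlgEquiv.commutes, AlgEquiv.commutes, mul_zero, add_zero]),
      map_zero]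
  have hδ_zero : δ 0 = 0 := by
    have := hδ_alg 0
    rwa [map_zero] at this
  have hδ_mem : ∀ b ∈ (maximalIdeal A).map (algebraMap A B), δ b = 0 := by
    intro b hb
    rw [Ideal.map] at hb
    induction hb using Submodule.span_induction with
    | mem x hx =>
      obtain ⟨a, _, rfl⟩ := hx
      exact hδ_alg a
    | zero => exact hδ_zero
    | add x y _ _ hx hy => rw [hδ_add, hx, hy, add_zero]
    | smul c x hxm hx =>
      rw [smul_eq_mul, hδ_mul, hx, mul_zero, zero_add]
      have : Ideal.Quotient.mk ((maximalIdeal A).map (algebraMap A B)) x = 0 :=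
        Ideal.Quotient.eq_zero_iff_mem.mpr hxm
      rw [this, zero_mul]
  have hδ_neg : ∀ b, δ (-b) = -δ b := by
    intro b
    have := hδ_add b (-b)
    rw [add_neg_cancel, hδ_zero] at this
    exact (neg_eq_of_add_eq_zero_right this.symm).symm
  have hδ_congr : ∀ b c : B, Ideal.Quotient.mk ((maximalIdeal A).map (algebraMap A B)) b =
      Ideal.Quotient.mk ((maximalIdeal A).map (algebraMap A B)) c → δ b = δ c := by
    intro b c h
    have h1 := hδ_mem (b - c) (Ideal.Quotient.eq.mp h)
    rw [sub_eq_add_neg, hδ_add, hδ_neg, ← sub_eq_add_neg, sub_eq_zero] at h1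
    exact h1
  -- the induced map
  let dfun : (B ⧸ (maximalIdeal A).map (algebraMap A B)) →
      (B ⧸ (maximalIdeal A).map (algebraMap A B)) := fun x => δ (Function.surjInv hmk x)
  have hdfun : ∀ b : B, dfun (Ideal.Quotient.mk _ b) = δ b := fun b =>
    hδ_congr _ _ (Function.surjInv_eq hmk _)
  let d : Derivation k (B ⧸ (maximalIdeal A).map (algebraMap A B))
      (B ⧸ (maximalIdeal A).map (algebraMap A B)) :=
    { toFun := dfun
      map_add' := fun x y => by
        obtain ⟨b, rfl⟩ := hmk x
        obtain ⟨c, rfl⟩ := hmk y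
        rw [← map_add, hdfun, hdfun, hdfun, hδ_add]
      map_smul' := fun c x => by
        obtain ⟨b, rfl⟩ := hmk x
        rw [RingHom.id_apply, Algebra.smul_def, Algebra.smul_def, ← Ideal.Quotient.mk_algebraMap,
          ← map_mul, hdfun, hdfun, hδ_mul, IsScalarTower.algebraMap_apply k A B, hδ_alg, mul_zero,
          add_zero]
      map_one_eq_zero' := by
        change dfun 1 = 0
        rw [← map_one (Ideal.Quotient.mk _), hdfun]
        have := hδ_alg 1
        rwa [map_one] at this
      leibniz' := fun x y => by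
        obtain ⟨b, rfl⟩ := hmk x
        obtain ⟨c, rfl⟩ := hmk y
        change dfun (_ * _) = _ • dfun _ + _ • dfun _
        rw [← map_mul, hdfun, hdfun, hdfun, hδ_mul, smul_eq_mul, smul_eq_mul] }
  have hd : ∀ b : B, d (Ideal.Quotient.mk _ b) = δ b := hdfun
  refine ⟨d, ?_, ?_⟩
  · intro b b' h
    rw [hd] at h
    rw [hw b, hcongr b' (w b) h]
  · intro d₁ hd₁
    ext x
    obtain ⟨b, rfl⟩ := hmk x
    obtain ⟨b', hb'⟩ := hmk (d₁ (Ideal.Quotient.mk _ b))
    rw [hd, ← hb']
    exact hδ b b' (hd₁ b b' hb')

end Helpers2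


/-- Let k be an algebraically closed field, A a local Artinian k-algebra with residue field k, and t a
nonzero element of the maximal ideal m_A annihilated by m_A, so that A → A/tA is a small extension.
Let B be a flat A-algebra (a deformation over A of its closed fibre B_0 = B/m_A B), and σ an
A-algebra automorphism of B/tB inducing the identity on B_0. Fix an A-algebra automorphism τ of B
inducing σ (so τ induces the identity on B_0). Then the A-algebra automorphisms η of B inducing σ
correspond bijectively to the k-derivations d of B_0 through the rule η = τ + t·d, meaning η(b) =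
τ(b) + t b′ for all b ∈ B and all b′ ∈ B lifting d applied to the image of b in B_0: every such η
determines a unique d, and every d comes from some such η. (The published statement phrases the
conclusion as a free and transitive action of Der_k(B_0, B_0) on the nonempty set of lifts of σ; the
condition that σ induces the identity on B_0 is expressed here through the chosen lift τ.) -/
theorem result
    {k : Type u} [Field k] [IsAlgClosed k]
    {A : Type u} [CommRing A] [Algebra k A] [IsLocalRing A] [IsArtinianRing A]
    (hres : ∀ a : A, ∃ c : k, a - algebraMap k A c ∈ IsLocalRing.maximalIdeal A)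
    (t : A) (ht : t ∈ IsLocalRing.maximalIdeal A) (ht0 : t ≠ 0)
    (htm : ∀ a ∈ IsLocalRing.maximalIdeal A, a * t = 0)
    {B : Type u} [CommRing B] [Algebra A B] [Module.Flat A B] [Algebra k B] [IsScalarTower k A B]
    (σ : (B ⧸ Ideal.span {algebraMap A B t}) ≃ₐ[A] (B ⧸ Ideal.span {algebraMap A B t}))
    (τ : B ≃ₐ[A] B)
    (hτ : ∀ b : B, Ideal.Quotient.mk (Ideal.span {algebraMap A B t}) (τ b) =
      σ (Ideal.Quotient.mk (Ideal.span {algebraMap A B t}) b))
    (hτ0 : ∀ b : B, τ b - b ∈ (IsLocalRing.maximalIdeal A).map (algebraMap A B)) :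
    (∀ η : B ≃ₐ[A] B, (∀ b : B, Ideal.Quotient.mk (Ideal.span {algebraMap A B t}) (η b) =
        σ (Ideal.Quotient.mk (Ideal.span {algebraMap A B t}) b)) →
      ∃! d : Derivation k (B ⧸ (IsLocalRing.maximalIdeal A).map (algebraMap A B))
          (B ⧸ (IsLocalRing.maximalIdeal A).map (algebraMap A B)),
        ∀ b b' : B, Ideal.Quotient.mk ((IsLocalRing.maximalIdeal A).map (algebraMap A B)) b' =
            d (Ideal.Quotient.mk ((IsLocalRing.maximalIdeal A).map (algebraMap A B)) b) →
          η b = τ b + algebraMap A B t * b') ∧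
    (∀ d : Derivation k (B ⧸ (IsLocalRing.maximalIdeal A).map (algebraMap A B))
        (B ⧸ (IsLocalRing.maximalIdeal A).map (algebraMap A B)),
      ∃ η : B ≃ₐ[A] B, (∀ b : B, Ideal.Quotient.mk (Ideal.span {algebraMap A B t}) (η b) =
          σ (Ideal.Quotient.mk (Ideal.span {algebraMap A B t}) b)) ∧
        ∀ b b' : B, Ideal.Quotient.mk ((IsLocalRing.maximalIdeal A).map (algebraMap A B)) b' =
            d (Ideal.Quotient.mk ((IsLocalRing.maximalIdeal A).map (algebraMap A B)) b) →
          η b = τ b + algebraMap A B t * b') := by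
  refine ⟨fun η hη => existsUnique_der t ht ht0 htm σ τ hτ hτ0 η hη,
    fun d => exists_eta hres t ht ht0 htm σ τ hτ hτ0 d⟩

end Groth.Agent.S12498
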