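import Groth.Statements.S1250
import Groth.Agent.Lib.Helper64.ElemDevFlat

set_option autoImplicit false
universe u
open FlatMor

namespace Groth.Agent.S1250

/-- Given an elementary dévissage E of N at q over p in dimension n, the following are equivalent: N_q
is flat over R; G_z is flat over R'; G_y (G viewed as a D-module) is flat over R'. Also equivalent
to each other: N becomes flat over R on some basic open D(g) ∋ q of Spec S; G becomes flat over R'
on some basic open of Spec C containing z; G as a D-module becomes flat over R' on some basic open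
of Spec D containing y. -/
theorem result {R S : Type u} [CommRing R] [CommRing S] [Algebra R S] [Algebra.FiniteType R S]
    (N : Type u) [AddCommGroup N] [Module S N] [Module R N] [IsScalarTower R S N] [Module.Finite S N]
    (p : Ideal R) [p.IsPrime] (q : Ideal S) [q.IsPrime] [q.LiesOver p] (n : ℕ) (E : FlatCA.ElemDevissage R S N p q n) :
    [FlatCA.FlatAt R q N, FlatCA.FlatAt E.R' E.z E.G, FlatCA.FlatAt E.R' E.y E.G].TFAE ∧
    [∃ g : S, g ∉ q ∧ Module.Flat R (LocalizedModule (Submonoid.powers g) N),
     ∃ g : E.C, g ∉ E.z ∧ Module.Flat E.R' (LocalizedModule (Submonoid.powers g) E.G),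
     ∃ g : E.D, g ∉ E.y ∧ Module.Flat E.R' (LocalizedModule (Submonoid.powers g) E.G)].TFAE := by
  have hR : Algebra.Etale R E.R' := E.etaleR.1
  have hS : Algebra.Etale S E.S' := E.etaleS.1
  have hq : E.q'.LiesOver q := E.etaleS.2.choose
  have hfin : Module.Finite E.D E.C := E.finiteDC
  exact Groth.Agent.Lib.Helper64.FlatLoc.core (R := R) (S := S) (R' := E.R') (S' := E.S')
    (C := E.C) (D := E.D) (N := N) (N' := E.N') (G := E.G) q E.q' E.z E.y E.isBaseChange
    E.surjC E.iso E.uniq

end Groth.Agent.S1250
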