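import Groth.Statements.S1251
import Groth.Agent.Lib.Helper64.ElemDevFP

set_option autoImplicit false
universe u
open FlatMor

namespace Groth.Agent.S1251

/-- Given an elementary dévissage E of N at q over p in dimension n, with S of finite presentation over
R: the finite map D → C is of finite presentation; the following are equivalent: N_q is a finitely
presented S_q-module; G_z is a finitely presented C_z-module; G_y is a finitely presented
D_y-module. Also equivalent to each other: N is finitely presented on some basic open of Spec S
containing q; G is finitely presented on some basic open of Spec C containing z; G as a D-module is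
finitely presented on some basic open of Spec D containing y. -/
theorem result {R S : Type u} [CommRing R] [CommRing S] [Algebra R S] [Algebra.FinitePresentation R S]
    (N : Type u) [AddCommGroup N] [Module S N] [Module R N] [IsScalarTower R S N] [Module.Finite S N]
    (p : Ideal R) [p.IsPrime] (q : Ideal S) [q.IsPrime] [q.LiesOver p] (n : ℕ) (E : FlatCA.ElemDevissage R S N p q n) :
    Algebra.FinitePresentation E.D E.C ∧
    [Module.FinitePresentation (Localization.AtPrime q) (LocalizedModule q.primeCompl N),
     Module.FinitePresentation (Localization.AtPrime E.z) (LocalizedModule E.z.primeCompl E.G),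
     Module.FinitePresentation (Localization.AtPrime E.y) (LocalizedModule E.y.primeCompl E.G)].TFAE ∧
    [∃ g : S, g ∉ q ∧ Module.FinitePresentation (Localization.Away g) (LocalizedModule (Submonoid.powers g) N),
     ∃ g : E.C, g ∉ E.z ∧ Module.FinitePresentation (Localization.Away g) (LocalizedModule (Submonoid.powers g) E.G),
     ∃ g : E.D, g ∉ E.y ∧ Module.FinitePresentation (Localization.Away g) (LocalizedModule (Submonoid.powers g) E.G)].TFAE := by
  have hR : Algebra.Etale R E.R' := E.etaleR.1
  have hS : Algebra.Etale S E.S' := E.etaleS.1
  have hq : E.q'.LiesOver q := E.etaleS.2.choose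
  have hfin : Module.Finite E.D E.C := E.finiteDC
  have hfpC : Algebra.FinitePresentation E.S' E.C := E.fpC
  have hftD : Algebra.FiniteType E.R' E.D := by
    have hsm' : AlgebraicGeometry.SmoothOfRelativeDimension n
        (AlgebraicGeometry.Spec.map (CommRingCat.ofHom (algebraMap E.R' E.D))) := E.smooth
    have : AlgebraicGeometry.Smooth
        (AlgebraicGeometry.Spec.map (CommRingCat.ofHom (algebraMap E.R' E.D))) :=
      AlgebraicGeometry.SmoothOfRelativeDimension.smooth n _
    have h2 : AlgebraicGeometry.LocallyOfFinitePresentation
        (AlgebraicGeometry.Spec.map (CommRingCat.ofHom (algebraMap E.R' E.D))) := inferInstance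
    have h3 := (AlgebraicGeometry.HasRingHomProperty.Spec_iff
      (P := @AlgebraicGeometry.LocallyOfFinitePresentation)).mp h2
    have h4 : (algebraMap E.R' E.D).FinitePresentation := h3
    have h5 : Algebra.FinitePresentation E.R' E.D := RingHom.finitePresentation_algebraMap.mp h4
    infer_instance
  refine ⟨Groth.Agent.Lib.Helper64.FPLoc.fpDC (R := R) (S := S) (R' := E.R') (S' := E.S')
    (C := E.C) (D := E.D), ?_⟩
  exact Groth.Agent.Lib.Helper64.FPLoc.coreFP (R := R) (S := S) (R' := E.R') (S' := E.S')
    (C := E.C) (D := E.D) (N := N) (N' := E.N') (G := E.G) q E.q' E.z E.y E.isBaseChange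
    E.surjC E.iso E.uniq

end Groth.Agent.S1251
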