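import Groth.Statements.S12515
import Mathlib.FieldTheory.IntermediateField.Adjoin.Basic
import Mathlib.FieldTheory.Separable
-- import your own Groth.Agent.* helpers here

set_option autoImplicit false
open FunFld

namespace Groth.Agent.S12515

/-- Every nonzero polynomial over a field is a square times a squarefree polynomial. -/
theorem exists_sq_mul_squarefree {k : Type*} [Field k] :
    ∀ (n : ℕ) (h : Polynomial k), h.natDegree = n → h ≠ 0 →
      ∃ s f : Polynomial k, h = s ^ 2 * f ∧ Squarefree f := by
  intro n
  induction n using Nat.strong_induction_on with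
  | _ n ih =>
    intro h hn h0
    by_cases hsq : Squarefree h
    · exact ⟨1, h, by simp, hsq⟩
    · unfold Squarefree at hsq
      push Not at hsq
      obtain ⟨q, ⟨r, hr⟩, hq⟩ := hsq
      have hq0 : q ≠ 0 := by
        rintro rfl
        simp at hr
        exact h0 hr
      have hr0 : r ≠ 0 := by
        rintro rfl
        simp at hr
        exact h0 hr
      have hqdeg : 0 < q.natDegree := by
        rw [Polynomial.natDegree_pos_iff_degree_pos]
        rw [Polynomial.isUnit_iff_degree_eq_zero] at hq
        exact lt_of_le_of_ne (Polynomial.zero_le_degree_iff.mpr hq0) (Ne.symm hq)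
      have hdeg : h.natDegree = q.natDegree + q.natDegree + r.natDegree := by
        rw [hr, Polynomial.natDegree_mul (mul_ne_zero hq0 hq0) hr0, Polynomial.natDegree_mul hq0 hq0]
      obtain ⟨s, f, hsf, hf⟩ := ih r.natDegree (by omega) r rfl hr0
      exact ⟨q * s, f, by rw [hr, hsf]; ring, hf⟩


/-- If `char k ≠ 2` and `K` has degree `2` over the rational function field `k(x)`, then `K = k(x)(y)`
for some `y` with `y² = f(x)`, `f` a squarefree polynomial over `k`. -/
theorem result (k K : Type*) [Field k] [Field K] (h2 : ringChar k ≠ 2)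
    [Algebra (RatFunc k) K] (hdeg : Module.finrank (RatFunc k) K = 2) :
    ∃ (y : K) (f : Polynomial k), Squarefree f ∧
      y ^ 2 = algebraMap (RatFunc k) K (algebraMap (Polynomial k) (RatFunc k) f) ∧
      IntermediateField.adjoin (RatFunc k) ({y} : Set K) = ⊤ := by
  classical
  have hfd : FiniteDimensional (RatFunc k) K := Module.finite_of_finrank_pos (by rw [hdeg]; norm_num)
  have h2k : (2 : k) ≠ 0 := by
    intro h
    apply h2
    have : (ringChar k) ∣ 2 := (ringChar.spec k 2).mp (by exact_mod_cast h)
    rcases (Nat.dvd_prime Nat.prime_two).mp this with h1 | h1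
    · exact absurd h1 (CharP.ringChar_ne_one)
    · exact h1
  have h2F : (2 : RatFunc k) ≠ 0 := by
    have : (2 : RatFunc k) = algebraMap k (RatFunc k) 2 := (map_ofNat _ 2).symm
    rw [this, Ne, map_eq_zero]; exact h2k
  have h2K : (2 : K) ≠ 0 := by
    have : (2 : K) = algebraMap (RatFunc k) K 2 := (map_ofNat _ 2).symm
    rw [this, Ne, map_eq_zero]; exact h2F
  have hso : IsSimpleOrder (IntermediateField (RatFunc k) K) :=
    IntermediateField.isSimpleOrder_of_finrank_prime (RatFunc k) K (by rw [hdeg]; exact Nat.prime_two)
  obtain ⟨z, hz⟩ : ∃ z : K, z ∉ (⊥ : IntermediateField (RatFunc k) K) := by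
    by_contra hcon
    push Not at hcon
    have : (⊥ : IntermediateField (RatFunc k) K) = ⊤ := by
      rw [eq_top_iff]; intro x _; exact hcon x
    exact bot_ne_top this
  have hztop : IntermediateField.adjoin (RatFunc k) ({z} : Set K) = ⊤ := by
    rcases hso.eq_bot_or_eq_top (IntermediateField.adjoin (RatFunc k) ({z} : Set K)) with h | h
    · exact absurd (IntermediateField.adjoin_simple_eq_bot_iff.mp h) hz
    · exact h
  have hzint : IsIntegral (RatFunc k) z := Algebra.IsIntegral.isIntegral z
  have hdeg2 : (minpoly (RatFunc k) z).natDegree = 2 := by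
    rw [← IntermediateField.adjoin.finrank hzint, hztop, IntermediateField.finrank_top', hdeg]
  set p := minpoly (RatFunc k) z with hp
  have hmonic : p.Monic := minpoly.monic hzint
  set b := p.coeff 1 with hb
  set c := p.coeff 0 with hc
  have hpform : p = Polynomial.X ^ 2 + Polynomial.C b * Polynomial.X + Polynomial.C c := by
    rw [p.as_sum_range' 3 (by rw [hdeg2]; norm_num)]
    simp only [Finset.sum_range_succ, Finset.sum_range_zero, zero_add]
    have h2c : p.coeff 2 = 1 := by
      have := hmonic.coeff_natDegree
      rwa [hdeg2] at this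
    rw [h2c]
    simp only [← Polynomial.C_mul_X_pow_eq_monomial, map_one, one_mul]
    ring
  have hroot : z ^ 2 + algebraMap (RatFunc k) K b * z + algebraMap (RatFunc k) K c = 0 := by
    have := minpoly.aeval (RatFunc k) z
    rw [← hp, hpform] at this
    simpa using this
  -- complete the square
  set w : K := z + algebraMap (RatFunc k) K (b / 2) with hw
  set g : RatFunc k := b ^ 2 / 4 - c with hg
  have hwg : w ^ 2 = algebraMap (RatFunc k) K g := by
    rw [hw, hg, map_sub, map_div₀, map_div₀, map_pow]
    have h4 : (algebraMap (RatFunc k) K) 4 = 4 := map_ofNat _ 4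
    have h2' : (algebraMap (RatFunc k) K) 2 = 2 := map_ofNat _ 2
    rw [h4, h2']
    have h4K : (4 : K) ≠ 0 := by
      have : (4 : K) = 2 * 2 := by norm_num
      rw [this]; exact mul_ne_zero h2K h2K
    field_simp
    linear_combination 16 * hroot
  have hwbot : w ∉ (⊥ : IntermediateField (RatFunc k) K) := by
    intro hcon
    apply hz
    have h1 : algebraMap (RatFunc k) K (b / 2) ∈ (⊥ : IntermediateField (RatFunc k) K) :=
      IntermediateField.algebraMap_mem _ _
    have := sub_mem hcon h1
    rwa [hw, add_sub_cancel_right] at this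
  have hg0 : g ≠ 0 := by
    intro hg0
    rw [hg0, map_zero] at hwg
    have : w = 0 := by simpa using hwg
    exact hwbot (this ▸ zero_mem _)
  -- clear denominators
  set u := g.num with hu
  set v := g.denom with hv
  have hv0 : v ≠ 0 := RatFunc.denom_ne_zero g
  have hu0 : u ≠ 0 := by
    rw [hu, Ne, RatFunc.num_eq_zero_iff]; exact hg0
  have hguv : algebraMap (Polynomial k) (RatFunc k) u / algebraMap (Polynomial k) (RatFunc k) v = g :=
    RatFunc.num_div_denom g
  obtain ⟨s, f, hsf, hf⟩ := exists_sq_mul_squarefree (u * v).natDegree (u * v) rfl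
    (mul_ne_zero hu0 hv0)
  have hs0 : s ≠ 0 := by
    rintro rfl
    simp at hsf
    rcases hsf with h | h
    · exact hu0 h
    · exact hv0 h
  let ι : Polynomial k →+* K := (algebraMap (RatFunc k) K).comp (algebraMap (Polynomial k) (RatFunc k))
  have hι : ∀ q : Polynomial k, q ≠ 0 → ι q ≠ 0 := by
    intro q hq
    simp only [ι, RingHom.comp_apply, Ne, map_eq_zero]
    exact (map_ne_zero_iff _ (RatFunc.algebraMap_injective k)).mpr hq
  have hιbot : ∀ q : Polynomial k, ι q ∈ (⊥ : IntermediateField (RatFunc k) K) := fun q =>
    IntermediateField.algebraMap_mem _ _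
  refine ⟨ι v * w / ι s, f, hf, ?_, ?_⟩
  · have hgK : algebraMap (RatFunc k) K g = ι u / ι v := by
      rw [← hguv, map_div₀]; rfl
    have : ι (u * v) = ι s ^ 2 * ι f := by rw [hsf, map_mul, map_pow]
    rw [map_mul] at this
    change _ = ι f
    rw [div_pow, mul_pow, hwg, hgK]
    have hv' := hι v hv0
    have hs' := hι s hs0
    field_simp
    linear_combination this
  · rcases hso.eq_bot_or_eq_top
      (IntermediateField.adjoin (RatFunc k) ({ι v * w / ι s} : Set K)) with h | h
    · exfalso
      apply hwbot
      have h1 := IntermediateField.adjoin_simple_eq_bot_iff.mp h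
      have h3 := div_mem (mul_mem h1 (hιbot s)) (hιbot v)
      have hv' := hι v hv0
      have hs' := hι s hs0
      have : ι v * w / ι s * ι s / ι v = w := by field_simp
      rwa [this] at h3
    · exact h

end Groth.Agent.S12515
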