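import Groth.Statements.S12516
import Groth.Agent.FunFld.Quadratic
import Groth.Agent.FunFld.RatFuncPlaces
import Groth.Agent.FunFld.ConormDeg

set_option autoImplicit false
open FunFld

namespace Groth.Agent.S12516

/-- Let `char k ≠ 2`, `K` of degree `2` over `k(x)`, `y ∈ K` with `y² = f(x)` for a squarefree
polynomial `f` of degree `≥ 1`, and `P∞` the place of `k(x)` at which `x` has a pole. If `deg f` is
odd there is a unique place of `K` above `P∞`; it has ramification index `2` and degree `1`. If `deg
f` is even, every place of `K` above `P∞` is unramified and the conorm of `P∞` has degree `2` (so it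
is one place of degree `2` or the sum of two places of degree `1`). -/
theorem result (k K : Type*) [Field k] [Field K] (h2 : ringChar k ≠ 2) [Algebra k K]
    [Algebra (RatFunc k) K] [IsScalarTower k (RatFunc k) K]
    (hdeg : Module.finrank (RatFunc k) K = 2) (y : K) (f : Polynomial k) (hf : Squarefree f)
    (hd : 1 ≤ f.natDegree)
    (heq : y ^ 2 = algebraMap (RatFunc k) K (algebraMap (Polynomial k) (RatFunc k) f))
    (Pinf : FunFld.Place k (RatFunc k)) (hinf : Pinf.ord (RatFunc.X : RatFunc k) < 0) :
    (Odd f.natDegree → (∃! P : FunFld.Place k K, FunFld.IsOver P Pinf) ∧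
      ∀ P : FunFld.Place k K, FunFld.IsOver P Pinf → FunFld.IsOverWith P Pinf 2 ∧ P.deg = 1) ∧
    (Even f.natDegree → (FunFld.conorm K (Finsupp.single Pinf 1)).deg = 2 ∧
      ∀ P : FunFld.Place k K, FunFld.IsOver P Pinf → FunFld.IsOverWith P Pinf 1) := by
  haveI : FiniteDimensional (RatFunc k) K := FiniteDimensional.of_finrank_pos (by rw [hdeg]; norm_num)
  have hK := Groth.Agent.FF.isFunctionField_ratFunc k
  have hX0 : (RatFunc.X : RatFunc k) ≠ 0 := RatFunc.X_ne_zero
  have hX : 1 < Pinf.1 (RatFunc.X : RatFunc k) := by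
    by_contra hcon
    push Not at hcon
    rw [Groth.Agent.FF.val_le_one_iff Pinf hX0] at hcon
    omega
  have hf0 : f ≠ 0 := hf.ne_zero
  have hιf0 : algebraMap (Polynomial k) (RatFunc k) f ≠ 0 :=
    Groth.Agent.FF.ratFunc_algebraMap_ne_zero hf0
  have hordX := Groth.Agent.FF.ratFunc_ord_X_of_one_lt Pinf hX
  have hordf : Pinf.ord (algebraMap (Polynomial k) (RatFunc k) f) = -(f.natDegree : ℤ) := by
    rw [Groth.Agent.FF.ratFunc_ord_poly_of_one_lt Pinf hX hf0, hordX]
    ring
  have hdegP := Groth.Agent.FF.ratFunc_deg_of_one_lt Pinf hX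
  have hkey : ∀ (Q : FunFld.Place k K) (e : ℕ), FunFld.IsOverWith Q Pinf e →
      2 * Q.ord y = -((e : ℤ) * f.natDegree) := by
    intro Q e he
    have h1 := Groth.Agent.FF.Ext.ord_eq he (algebraMap (Polynomial k) (RatFunc k) f)
    rw [← heq, Groth.Agent.FF.ord_pow, hordf] at h1
    push_cast at h1
    linarith
  refine ⟨?_, ?_⟩
  · intro hodd
    have h := Groth.Agent.FF.Ext.quadratic_ramified hK hdeg Pinf (by
      intro Q e he
      have h1 := hkey Q e he
      have heven : Even ((e : ℤ) * f.natDegree) := ⟨-Q.ord y, by linarith⟩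
      rcases Int.even_mul.mp heven with h | h
      · exact (Int.even_coe_nat e).mp h
      · exact absurd ((Int.even_coe_nat _).mp h) (Nat.not_even_iff_odd.mpr hodd))
    refine ⟨h.1, fun P hP => ?_⟩
    have := h.2 P hP
    rw [hdegP] at this
    exact this
  · intro heven
    refine ⟨?_, ?_⟩
    · rw [Groth.Agent.FF.Ext.deg_conorm hK, hdeg, Groth.Agent.FF.deg_single, hdegP]
      norm_num
    · rintro Q ⟨e, he⟩
      obtain ⟨m, hm⟩ := heven
      have h2k : (2 : k) ≠ 0 := Ring.two_ne_zero h2
      -- `y` is not in `k(x)`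
      have hy : y ∉ Set.range (algebraMap (RatFunc k) K) := by
        rintro ⟨w, rfl⟩
        rw [← map_pow] at heq
        have hw := (algebraMap (RatFunc k) K).injective heq
        have hint : IsIntegral (Polynomial k) w := by
          refine ⟨Polynomial.X ^ 2 - Polynomial.C f, ?_, ?_⟩
          · exact Polynomial.monic_X_pow_sub_C f (by norm_num)
          · simp [hw]
        obtain ⟨g, hg⟩ := IsIntegrallyClosed.isIntegral_iff.mp hint
        rw [← hg, ← map_pow] at hw
        have hgf := RatFunc.algebraMap_injective k hw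
        have hgu : IsUnit g := hf g ⟨1, by rw [mul_one, ← hgf, pow_two]⟩
        have hfu : IsUnit f := by rw [← hgf]; exact hgu.pow 2
        have := Polynomial.natDegree_eq_zero_of_isUnit hfu
        omega
      set y' : K := y / algebraMap (RatFunc k) K (RatFunc.X ^ m) with hy'
      set u : RatFunc k := algebraMap (Polynomial k) (RatFunc k) f / RatFunc.X ^ (2 * m) with hu
      have hXm : algebraMap (RatFunc k) K (RatFunc.X ^ m) ≠ 0 :=
        (map_ne_zero_iff _ (algebraMap (RatFunc k) K).injective).mpr (pow_ne_zero _ hX0)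
      have hy'sq : y' ^ 2 = algebraMap (RatFunc k) K u := by
        rw [hy', hu, div_pow, heq, map_div₀, ← map_pow, ← pow_mul, mul_comm m 2]
      have hu1 : Pinf.1 u = 1 := by
        have hu0 : u ≠ 0 := div_ne_zero hιf0 (pow_ne_zero _ hX0)
        rw [Groth.Agent.FF.val_eq_one_iff Pinf hu0, hu,
          Groth.Agent.FF.ord_div Pinf hιf0 (pow_ne_zero _ hX0), hordf, Groth.Agent.FF.ord_pow, hordX,
          hm]
        push_cast
        ring
      have hy'1 : Q.1 y' = 1 := by
        have h3 : Q.1 y' ^ 2 = 1 := by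
          rw [← map_pow, hy'sq, he u, hu1, one_pow]
        apply le_antisymm
        · exact (pow_le_one_iff (by norm_num : (2 : ℕ) ≠ 0)).mp h3.le
        · exact (one_le_pow_iff (by norm_num : (2 : ℕ) ≠ 0)).mp h3.ge
      have hy'r : y' ∉ Set.range (algebraMap (RatFunc k) K) := by
        rintro ⟨w, hw⟩
        apply hy
        refine ⟨w * RatFunc.X ^ m, ?_⟩
        rw [map_mul, hw, hy', div_mul_cancel₀ _ hXm]
      have heq' : y' ^ 2 + algebraMap (RatFunc k) K 0 * y' + algebraMap (RatFunc k) K (-u) = 0 := by
        rw [map_zero, zero_mul, add_zero, map_neg, hy'sq]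
        ring
      have hunit : Q.1 (2 * y' + algebraMap (RatFunc k) K 0) = 1 := by
        rw [map_zero, add_zero, map_mul, hy'1, mul_one]
        have h : (2 : K) = algebraMap k K 2 := (map_ofNat (algebraMap k K) 2).symm
        rw [h]
        exact Groth.Agent.FF.val_algebraMap Q h2k
      have he1 := Groth.Agent.FF.Ext.quadratic_unramified hdeg he hy'r heq' hy'1.le hunit
      rw [← he1]
      exact he

end Groth.Agent.S12516
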