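import Groth.Statements.S12517
import Mathlib.FieldTheory.IntermediateField.Adjoin.Basic
import Mathlib.FieldTheory.Separable
-- import your own Groth.Agent.* helpers here

set_option autoImplicit false
open FunFld

namespace Groth.Agent.S12517

/-- If `k` is perfect of characteristic `2` and `K` is a separable extension of degree `2` of the
rational function field `k(x)`, then `K = k(x)(y)` for some `y` with `y² + y = f(x)`, `f ∈ k(x)`.
The correspondence between such extensions and cosets of `{a² + a}` in `k(x)` is not stated. -/
theorem result (k K : Type*) [Field k] [Field K] [PerfectField k]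
    (h2 : ringChar k = 2) [Algebra (RatFunc k) K] (hdeg : Module.finrank (RatFunc k) K = 2)
    [Algebra.IsSeparable (RatFunc k) K] :
    ∃ (y : K) (f : RatFunc k), y ^ 2 + y = algebraMap (RatFunc k) K f ∧
      IntermediateField.adjoin (RatFunc k) ({y} : Set K) = ⊤ := by
  classical
  have hfd : FiniteDimensional (RatFunc k) K := Module.finite_of_finrank_pos (by rw [hdeg]; norm_num)
  have : CharP k 2 := by rw [← h2]; exact ringChar.charP k
  have : CharP (RatFunc k) 2 := inferInstance
  have : CharP K 2 := charP_of_injective_algebraMap (algebraMap (RatFunc k) K).injective 2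
  have hso : IsSimpleOrder (IntermediateField (RatFunc k) K) :=
    IntermediateField.isSimpleOrder_of_finrank_prime (RatFunc k) K (by rw [hdeg]; exact Nat.prime_two)
  -- an element outside the base field
  obtain ⟨z, hz⟩ : ∃ z : K, z ∉ (⊥ : IntermediateField (RatFunc k) K) := by
    by_contra hcon
    push Not at hcon
    have : (⊥ : IntermediateField (RatFunc k) K) = ⊤ := by
      rw [eq_top_iff]; intro x _; exact hcon x
    exact bot_ne_top this
  have hztop : IntermediateField.adjoin (RatFunc k) ({z} : Set K) = ⊤ := by
    rcases hso.eq_bot_or_eq_top (IntermediateField.adjoin (RatFunc k) ({z} : Set K)) with h | h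
    · exact absurd (IntermediateField.adjoin_simple_eq_bot_iff.mp h) hz
    · exact h
  have hzint : IsIntegral (RatFunc k) z := Algebra.IsIntegral.isIntegral z
  have hdeg2 : (minpoly (RatFunc k) z).natDegree = 2 := by
    rw [← IntermediateField.adjoin.finrank hzint, hztop, IntermediateField.finrank_top', hdeg]
  set p := minpoly (RatFunc k) z with hp
  have hmonic : p.Monic := minpoly.monic hzint
  set b := p.coeff 1 with hb
  set c := p.coeff 0 with hc
  have hpform : p = Polynomial.X ^ 2 + Polynomial.C b * Polynomial.X + Polynomial.C c := by
    rw [p.as_sum_range' 3 (by rw [hdeg2]; norm_num)]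
    simp only [Finset.sum_range_succ, Finset.sum_range_zero, zero_add]
    have h2c : p.coeff 2 = 1 := by
      have := hmonic.coeff_natDegree
      rwa [hdeg2] at this
    rw [h2c]
    simp only [← Polynomial.C_mul_X_pow_eq_monomial, map_one, one_mul]
    ring
  have hroot : z ^ 2 + algebraMap (RatFunc k) K b * z + algebraMap (RatFunc k) K c = 0 := by
    have := minpoly.aeval (RatFunc k) z
    rw [← hp, hpform] at this
    simpa using this
  -- separability gives b ≠ 0
  have hsep : p.Separable := Algebra.IsSeparable.isSeparable (RatFunc k) z
  have hb0 : b ≠ 0 := by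
    intro hb0
    have hder : Polynomial.derivative p = 0 := by
      rw [hpform, hb0]
      simp only [map_zero, zero_mul, add_zero, Polynomial.derivative_add, Polynomial.derivative_C,
        Polynomial.derivative_X_pow, Nat.cast_ofNat, Polynomial.C_ofNat]
      have : (2 : Polynomial (RatFunc k)) = 0 := by
        have := CharP.cast_eq_zero (Polynomial (RatFunc k)) 2
        exact_mod_cast this
      rw [this, zero_mul]
    rw [Polynomial.separable_def, hder, isCoprime_zero_right] at hsep
    have := Polynomial.natDegree_eq_zero_of_isUnit hsep
    rw [hdeg2] at this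
    exact absurd this (by norm_num)
  have hbK : algebraMap (RatFunc k) K b ≠ 0 := by
    rw [Ne, map_eq_zero]; exact hb0
  -- the Artin–Schreier generator
  refine ⟨z / algebraMap (RatFunc k) K b, c / b ^ 2, ?_, ?_⟩
  · rw [map_div₀, map_pow]
    have h2 : (2 : K) = 0 := by
      have := CharP.cast_eq_zero K 2
      exact_mod_cast this
    have hneg : algebraMap (RatFunc k) K c = -algebraMap (RatFunc k) K c := by
      have : algebraMap (RatFunc k) K c + algebraMap (RatFunc k) K c = 0 := by
        rw [← two_mul, h2, zero_mul]
      exact eq_neg_of_add_eq_zero_left this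
    field_simp
    have : z ^ 2 + algebraMap (RatFunc k) K b * z = -algebraMap (RatFunc k) K c := by
      rw [← add_eq_zero_iff_eq_neg]; exact hroot
    rw [← hneg] at this
    linear_combination this
  · rcases hso.eq_bot_or_eq_top
      (IntermediateField.adjoin (RatFunc k) ({z / algebraMap (RatFunc k) K b} : Set K)) with h | h
    · exfalso
      apply hz
      have h1 := IntermediateField.adjoin_simple_eq_bot_iff.mp h
      have h2 : algebraMap (RatFunc k) K b ∈ (⊥ : IntermediateField (RatFunc k) K) :=
        IntermediateField.algebraMap_mem _ b
      have := mul_mem h1 h2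
      rwa [div_mul_cancel₀ _ hbK] at this
    · exact h

end Groth.Agent.S12517
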