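import Groth.Statements.S12518
import Groth.Agent.S12517
import Groth.Agent.FunFld.RatFuncPlaces
import Mathlib

set_option autoImplicit false
open FunFld

namespace Groth.Agent.S12518

open FunFld WithZero Polynomial Groth.Agent.FF

section Measure

variable {k K : Type*} [Field k] [Field K] [Algebra k K]

/-- the pole order -/
def npole (P : Place k K) (f : K) : ℕ := (-(P.ord f)).toNat

lemma one_lt_val_iff (P : Place k K) {f : K} (hf : f ≠ 0) : 1 < P.1 f ↔ P.ord f < 0 := by
  rw [← not_le, val_le_one_iff P hf, not_le]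

lemma ne_zero_of_ord_neg (P : Place k K) {f : K} (h : P.ord f < 0) : f ≠ 0 := by
  rintro rfl
  rw [ord_zero] at h
  exact lt_irrefl _ h

lemma npole_le_of_val_le (P : Place k K) {f f₁ : K} (h : P.1 f₁ ≤ max (P.1 f) 1) :
    npole P f₁ ≤ npole P f := by
  unfold npole
  by_cases h0 : f₁ = 0
  · subst h0; rw [ord_zero]; simp
  by_cases h1 : P.1 f₁ ≤ 1
  · rw [val_le_one_iff P h0] at h1
    have : (-(P.ord f₁)).toNat = 0 := by omega
    omega
  · push Not at h1
    have h2 : P.1 f₁ ≤ P.1 f := by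
      rcases le_max_iff.mp h with h | h
      · exact h
      · exact absurd h (not_le.mpr h1)
    have hf0 : f ≠ 0 := by
      rintro rfl
      rw [map_zero] at h2
      exact absurd (h1.trans_le h2) (by simp)
    rw [val_eq_exp_neg_ord P h0, val_eq_exp_neg_ord P hf0, exp_le_exp] at h2
    omega

lemma npole_lt_of_val_lt (P : Place k K) {f f₁ : K} (hf : 1 < P.1 f) (h : P.1 f₁ < P.1 f) :
    npole P f₁ < npole P f := by
  unfold npole
  have hf0 : f ≠ 0 := by
    rintro rfl
    rw [map_zero] at hf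
    exact absurd hf (by simp)
  have hordf : P.ord f < 0 := (one_lt_val_iff P hf0).mp hf
  by_cases h0 : f₁ = 0
  · subst h0; rw [ord_zero]; omega
  by_cases h1 : P.1 f₁ ≤ 1
  · rw [val_le_one_iff P h0] at h1
    omega
  · rw [val_eq_exp_neg_ord P h0, val_eq_exp_neg_ord P hf0, exp_lt_exp] at h
    omega

/-- the total pole order -/
noncomputable def M (hK : IsFunctionField k K) (f : K) : ℕ :=
  ∑ P ∈ (finite_support_ord hK f).toFinset, npole P f

lemma M_eq_sum (hK : IsFunctionField k K) (f : K) (S : Finset (Place k K))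
    (hS : (finite_support_ord hK f).toFinset ⊆ S) : M hK f = ∑ P ∈ S, npole P f := by
  unfold M
  apply Finset.sum_subset hS
  intro P _ hP
  rw [Set.Finite.mem_toFinset, Function.mem_support, not_not] at hP
  unfold npole
  rw [hP]; simp

lemma M_lt (hK : IsFunctionField k K) {f f₁ : K} (P₀ : Place k K) (h0 : 1 < P₀.1 f)
    (hlt : P₀.1 f₁ < P₀.1 f) (hle : ∀ P : Place k K, P.1 f₁ ≤ max (P.1 f) 1) :
    M hK f₁ < M hK f := by
  classical
  set S := (finite_support_ord hK f).toFinset ∪ (finite_support_ord hK f₁).toFinset with hS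
  rw [M_eq_sum hK f S Finset.subset_union_left, M_eq_sum hK f₁ S Finset.subset_union_right]
  apply Finset.sum_lt_sum
  · intro P _
    exact npole_le_of_val_le P (hle P)
  · refine ⟨P₀, ?_, npole_lt_of_val_lt P₀ h0 hlt⟩
    apply Finset.mem_union_left
    rw [Set.Finite.mem_toFinset, Function.mem_support]
    have hf0 : f ≠ 0 := by
      rintro rfl
      rw [map_zero] at h0
      exact absurd h0 (by simp)
    have := (one_lt_val_iff P₀ hf0).mp h0
    omega

end Measure

section RatFunc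

variable {k : Type*} [Field k]

local notation "ι" => algebraMap (Polynomial k) (RatFunc k)

lemma exists_irreducible_of_finite (P : Place k (RatFunc k)) (hX : P.1 RatFunc.X ≤ 1) :
    ∃ p : k[X], Irreducible p ∧ P.1 (ι p) < 1 := by
  obtain ⟨t, ht⟩ := exists_uniformizer P
  have ht0 : t ≠ 0 := by
    rintro rfl
    rw [map_zero] at ht
    exact exp_ne_zero ht.symm
  have hnum : t.num ≠ 0 := RatFunc.num_ne_zero ht0
  have hden : ι t.denom ≠ 0 := ratFunc_algebraMap_ne_zero (RatFunc.denom_ne_zero t)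
  have hnd : ι t.num = t * ι t.denom := by
    have := RatFunc.num_div_denom t
    rw [div_eq_iff hden] at this
    exact this
  have hlt : P.1 (ι t.num) < 1 := by
    rw [hnd, map_mul, ht]
    calc exp (-1 : ℤ) * P.1 (ι t.denom) ≤ exp (-1 : ℤ) * 1 :=
          mul_le_mul' le_rfl (ratFunc_val_poly_le_one P hX _)
      _ = exp (-1 : ℤ) := mul_one _
      _ < 1 := by rw [← exp_zero, exp_lt_exp]; norm_num
  obtain ⟨p, hp, -, hpP⟩ := ratFunc_exists_irreducible_factor P hX hnum hlt
  exact ⟨p, hp, hpP⟩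

lemma val_poly_lt_one_of_dvd (P : Place k (RatFunc k)) (hX : P.1 RatFunc.X ≤ 1) {p q : k[X]}
    (hpP : P.1 (ι p) < 1) (h : p ∣ q) : P.1 (ι q) < 1 := by
  obtain ⟨r, rfl⟩ := h
  rw [map_mul, map_mul]
  calc P.1 (ι p) * P.1 (ι r) ≤ P.1 (ι p) * 1 :=
        mul_le_mul' le_rfl (ratFunc_val_poly_le_one P hX r)
    _ = P.1 (ι p) := mul_one _
    _ < 1 := hpP

/-- final step common to both cases -/
lemma val_add_le_of_val_le_one (P : Place k (RatFunc k)) (f g : RatFunc k) (hg : P.1 g ≤ 1) :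
    P.1 (f + g ^ 2 + g) ≤ max (P.1 f) 1 := by
  have hg2 : P.1 (g ^ 2) ≤ 1 := by rw [map_pow]; exact pow_le_one' hg 2
  refine (P.1.map_add _ _).trans (max_le ((P.1.map_add _ _).trans (max_le (le_max_left _ _) ?_)) ?_)
  · exact hg2.trans (le_max_right _ _)
  · exact hg.trans (le_max_right _ _)

lemma step_finite [PerfectField k] [CharP k 2] (P : Place k (RatFunc k))
    (hX : P.1 RatFunc.X ≤ 1) (f : RatFunc k) (hf0 : f ≠ 0) (m : ℕ) (hm : 0 < m)
    (hord : P.ord f = -(2 * m : ℤ)) :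
    ∃ g : RatFunc k, P.1 (f + g ^ 2 + g) < P.1 f ∧
      ∀ P' : Place k (RatFunc k), P'.1 (f + g ^ 2 + g) ≤ max (P'.1 f) 1 := by
  classical
  obtain ⟨p, hp, hpP⟩ := exists_irreducible_of_finite P hX
  have hp0 : ι p ≠ 0 := ratFunc_algebraMap_ne_zero hp.ne_zero
  have hordp := ratFunc_ord_irreducible P hp hpP
  have hpm0 : (ι p) ^ (2 * m) ≠ 0 := pow_ne_zero _ hp0
  set u : RatFunc k := f * (ι p) ^ (2 * m) with hu_def
  have hu0 : u ≠ 0 := mul_ne_zero hf0 hpm0
  have hu1 : P.1 u = 1 := by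
    rw [val_eq_one_iff P hu0, hu_def, ord_mul P hf0 hpm0, ord_pow, hord, hordp]
    push_cast
    ring
  set n := u.num with hn_def
  set d := u.denom with hd_def
  have hd0 : d ≠ 0 := RatFunc.denom_ne_zero u
  have hιd0 : ι d ≠ 0 := ratFunc_algebraMap_ne_zero hd0
  have hu : u = ι n / ι d := (RatFunc.num_div_denom u).symm
  have hcop : IsCoprime n d := RatFunc.isCoprime_num_denom u
  have hmul : P.1 u * P.1 (ι d) = P.1 (ι n) := by
    rw [← map_mul, hu, div_mul_cancel₀ _ hιd0]
  have hpd : ¬ p ∣ d := by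
    intro hdvd
    have hpn : ¬ p ∣ n := fun hn => hp.not_isUnit (hcop.isUnit_of_dvd' hn hdvd)
    have h1 : P.1 (ι n) = 1 := ratFunc_val_eq_one_of_not_dvd P hp hX hpP hpn
    have h2 : P.1 (ι d) < 1 := val_poly_lt_one_of_dvd P hX hpP hdvd
    rw [hu1, one_mul, h1] at hmul
    exact absurd hmul h2.ne
  have hpn : ¬ p ∣ n := by
    intro hdvd
    have h1 : P.1 (ι d) = 1 := ratFunc_val_eq_one_of_not_dvd P hp hX hpP hpd
    have h2 : P.1 (ι n) < 1 := val_poly_lt_one_of_dvd P hX hpP hdvd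
    rw [hu1, one_mul, h1] at hmul
    exact absurd hmul.symm h2.ne
  -- the square root in `k[X]/(p)`
  have hfact : Fact (Irreducible p) := ⟨hp⟩
  have hfin : FiniteDimensional k (AdjoinRoot p) := (AdjoinRoot.powerBasis hp.ne_zero).finite
  have halg : Algebra.IsAlgebraic k (AdjoinRoot p) := Algebra.IsAlgebraic.of_finite k _
  have hperf : PerfectField (AdjoinRoot p) := Algebra.IsAlgebraic.perfectField k
  have hchar : CharP (AdjoinRoot p) 2 :=
    charP_of_injective_algebraMap (algebraMap k (AdjoinRoot p)).injective 2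
  have hexp : ExpChar (AdjoinRoot p) 2 := ExpChar.prime Nat.prime_two
  have hpr : PerfectRing (AdjoinRoot p) 2 := PerfectField.toPerfectRing 2
  have hdF : AdjoinRoot.mk p d ≠ 0 := by
    rw [Ne, AdjoinRoot.mk_eq_zero]; exact hpd
  obtain ⟨s, hs⟩ := surjective_frobenius (AdjoinRoot p) 2 (AdjoinRoot.mk p n / AdjoinRoot.mk p d)
  rw [frobenius_def] at hs
  obtain ⟨v₁, rfl⟩ := AdjoinRoot.mk_surjective s
  set v := v₁ % p with hv_def
  have hvmk : AdjoinRoot.mk p v = AdjoinRoot.mk p v₁ := by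
    rw [AdjoinRoot.mk_eq_mk]
    refine ⟨-(v₁ / p), ?_⟩
    have := EuclideanDomain.mod_add_div v₁ p
    rw [hv_def]
    linear_combination this
  have hdvd : p ∣ n + v ^ 2 * d := by
    rw [← AdjoinRoot.mk_eq_zero, map_add, map_mul, map_pow, hvmk, hs, div_mul_cancel₀ _ hdF]
    exact CharTwo.add_self_eq_zero _
  have hvdeg : v.natDegree < p.natDegree :=
    Polynomial.natDegree_mod_lt v₁ hp.natDegree_pos.ne'
  have hchar' : CharP (RatFunc k) 2 := inferInstance
  refine ⟨ι v / (ι p) ^ m, ?_⟩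
  set g : RatFunc k := ι v / (ι p) ^ m with hg_def
  have hpm0' : (ι p) ^ m ≠ 0 := pow_ne_zero _ hp0
  -- identities
  have hfg : f + g ^ 2 = (u + ι v ^ 2) / (ι p) ^ (2 * m) := by
    rw [hg_def, hu_def]
    field_simp
    ring
  have huv : u + ι v ^ 2 = ι (n + v ^ 2 * d) / ι d := by
    rw [hu, map_add, map_mul, map_pow]
    field_simp
  -- the class of `p`
  have hclass : ∀ P' : Place k (RatFunc k), P'.1 (ι p) < 1 →
      P'.1 (f + g ^ 2 + g) < P'.1 f := by
    intro P' hpP'
    have hX' := ratFunc_val_X_le_one P' hp.ne_zero hpP'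
    have hπ0 : 0 < P'.1 (ι p) := by
      rw [zero_lt_iff]; exact (Valuation.ne_zero_iff P'.1).mpr hp0
    have hn1 : P'.1 (ι n) = 1 := ratFunc_val_eq_one_of_not_dvd P' hp hX' hpP' hpn
    have hd1 : P'.1 (ι d) = 1 := ratFunc_val_eq_one_of_not_dvd P' hp hX' hpP' hpd
    have hu1' : P'.1 u = 1 := by rw [hu, map_div₀, hn1, hd1, div_one]
    have hfval : P'.1 f = (P'.1 (ι p) ^ (2 * m))⁻¹ := by
      have : f = u / (ι p) ^ (2 * m) := by rw [hu_def, mul_div_cancel_right₀ _ hpm0]
      rw [this, map_div₀, hu1', map_pow, one_div]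
    have hπ2 : 0 < P'.1 (ι p) ^ (2 * m) := pow_pos hπ0 _
    have h1 : P'.1 (u + ι v ^ 2) < 1 := by
      rw [huv, map_div₀, hd1, div_one]
      exact val_poly_lt_one_of_dvd P' hX' hpP' hdvd
    have h2 : P'.1 (f + g ^ 2) < P'.1 f := by
      rw [hfg, map_div₀, map_pow, hfval, div_eq_mul_inv]
      calc P'.1 (u + ι v ^ 2) * (P'.1 (ι p) ^ (2 * m))⁻¹ < 1 * (P'.1 (ι p) ^ (2 * m))⁻¹ :=
            mul_lt_mul_of_pos_right h1 (inv_pos.mpr hπ2)
        _ = _ := one_mul _
    have h3 : P'.1 g < P'.1 f := by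
      rw [hg_def, map_div₀, map_pow, hfval, div_eq_mul_inv]
      have hπm : 0 < P'.1 (ι p) ^ m := pow_pos hπ0 _
      have hπm1 : P'.1 (ι p) ^ m < 1 := pow_lt_one₀ hπ0.le hpP' hm.ne'
      calc P'.1 (ι v) * (P'.1 (ι p) ^ m)⁻¹ ≤ 1 * (P'.1 (ι p) ^ m)⁻¹ :=
            mul_le_mul' (ratFunc_val_poly_le_one P' hX' v) le_rfl
        _ = (P'.1 (ι p) ^ m)⁻¹ := one_mul _
        _ < (P'.1 (ι p) ^ (2 * m))⁻¹ := by
          rw [inv_lt_inv₀ hπm hπ2, two_mul, pow_add]
          calc P'.1 (ι p) ^ m * P'.1 (ι p) ^ m < P'.1 (ι p) ^ m * 1 :=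
                mul_lt_mul_of_pos_left hπm1 hπm
            _ = _ := mul_one _
    exact lt_of_le_of_lt (P'.1.map_add _ _) (max_lt h2 h3)
  refine ⟨hclass P hpP, fun P' => ?_⟩
  by_cases hpP' : P'.1 (ι p) < 1
  · exact (hclass P' hpP').le.trans (le_max_left _ _)
  · apply val_add_le_of_val_le_one
    push Not at hpP'
    by_cases hX' : P'.1 RatFunc.X ≤ 1
    · have h1 : P'.1 (ι p) = 1 := le_antisymm (ratFunc_val_poly_le_one P' hX' p) hpP'
      rw [hg_def, map_div₀, map_pow, h1, one_pow, div_one]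
      exact ratFunc_val_poly_le_one P' hX' v
    · push Not at hX'
      by_cases hv0 : v = 0
      · rw [hg_def, hv0, map_zero, zero_div, map_zero]; exact zero_le
      · rw [hg_def, map_div₀, map_pow, ratFunc_val_poly_of_one_lt P' hX' hv0,
          ratFunc_val_poly_of_one_lt P' hX' hp.ne_zero, ← pow_mul]
        have hpos : 0 < P'.1 RatFunc.X ^ (p.natDegree * m) := pow_pos (zero_lt_one.trans hX') _
        rw [div_le_one₀ hpos]
        apply pow_le_pow_right₀ hX'.le
        calc v.natDegree ≤ p.natDegree := hvdeg.le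
          _ = p.natDegree * 1 := (mul_one _).symm
          _ ≤ p.natDegree * m := Nat.mul_le_mul_left _ hm

lemma step_infinite [PerfectField k] [CharP k 2] (P : Place k (RatFunc k))
    (hX : 1 < P.1 RatFunc.X) (f : RatFunc k) (hf0 : f ≠ 0) (m : ℕ) (hm : 0 < m)
    (hord : P.ord f = -(2 * m : ℤ)) :
    ∃ g : RatFunc k, P.1 (f + g ^ 2 + g) < P.1 f ∧
      ∀ P' : Place k (RatFunc k), P'.1 (f + g ^ 2 + g) ≤ max (P'.1 f) 1 := by
  classical
  have hX0 : (RatFunc.X : RatFunc k) ≠ 0 := RatFunc.X_ne_zero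
  have hXm0 : (RatFunc.X : RatFunc k) ^ (2 * m) ≠ 0 := pow_ne_zero _ hX0
  have hordX := ratFunc_ord_X_of_one_lt P hX
  set u : RatFunc k := f / RatFunc.X ^ (2 * m) with hu_def
  have hu0 : u ≠ 0 := div_ne_zero hf0 hXm0
  have hordu : P.ord u = 0 := by
    rw [hu_def, ord_div P hf0 hXm0, ord_pow, hord, hordX]
    push_cast
    ring
  set n := u.num with hn_def
  set d := u.denom with hd_def
  have hd0 : d ≠ 0 := RatFunc.denom_ne_zero u
  have hn0 : n ≠ 0 := RatFunc.num_ne_zero hu0
  have hιd0 : ι d ≠ 0 := ratFunc_algebraMap_ne_zero hd0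
  have hιn0 : ι n ≠ 0 := ratFunc_algebraMap_ne_zero hn0
  have hu : u = ι n / ι d := (RatFunc.num_div_denom u).symm
  have hdeg : n.natDegree = d.natDegree := by
    have h1 := ratFunc_ord_poly_of_one_lt P hX hn0
    have h2 := ratFunc_ord_poly_of_one_lt P hX hd0
    rw [hu, ord_div P hιn0 hιd0, h1, h2, hordX] at hordu
    omega
  -- the square root of the quotient of leading coefficients
  have hexp : ExpChar k 2 := ExpChar.prime Nat.prime_two
  have hpr : PerfectRing k 2 := PerfectField.toPerfectRing 2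
  obtain ⟨c, hc⟩ := surjective_frobenius k 2 (n.leadingCoeff / d.leadingCoeff)
  rw [frobenius_def] at hc
  have hlcd : d.leadingCoeff ≠ 0 := leadingCoeff_ne_zero.mpr hd0
  have hlcn : n.leadingCoeff ≠ 0 := leadingCoeff_ne_zero.mpr hn0
  have hc0 : c ^ 2 ≠ 0 := by rw [hc]; exact div_ne_zero hlcn hlcd
  set q : k[X] := n + C (c ^ 2) * d with hq_def
  have hqdeg : q.degree < d.degree := by
    have hd' : n.degree = (C (c ^ 2) * d).degree := by
      rw [degree_C_mul hc0, degree_eq_natDegree hn0, degree_eq_natDegree hd0, hdeg]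
    have hlc : n.leadingCoeff = (C (c ^ 2) * d).leadingCoeff := by
      rw [leadingCoeff_mul, leadingCoeff_C, hc, div_mul_cancel₀ _ hlcd]
    have := degree_sub_lt_left hd' hn0 hlc
    rw [CharTwo.sub_eq_add] at this
    have hnd : n.degree = d.degree := by
      rw [degree_eq_natDegree hn0, degree_eq_natDegree hd0, hdeg]
    rw [hq_def, ← hnd]
    exact this
  have hchar' : CharP (RatFunc k) 2 := inferInstance
  set g : RatFunc k := ι (C c * X ^ m) with hg_def
  have hgX : g = algebraMap k (RatFunc k) c * RatFunc.X ^ m := by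
    rw [hg_def, map_mul, map_pow, RatFunc.algebraMap_X, Polynomial.C_eq_algebraMap,
      ← IsScalarTower.algebraMap_apply]
  refine ⟨g, ?_⟩
  have hfg : f + g ^ 2 = (u + algebraMap k (RatFunc k) (c ^ 2)) * RatFunc.X ^ (2 * m) := by
    rw [hgX, hu_def, map_pow]
    field_simp
    ring
  have huc : u + algebraMap k (RatFunc k) (c ^ 2) = ι q / ι d := by
    rw [hu, hq_def, map_add, map_mul, Polynomial.C_eq_algebraMap,
      ← IsScalarTower.algebraMap_apply]
    field_simp
  have hclass : ∀ P' : Place k (RatFunc k), 1 < P'.1 RatFunc.X →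
      P'.1 (f + g ^ 2 + g) < P'.1 f := by
    intro P' hX'
    have hx0 : 0 < P'.1 RatFunc.X := zero_lt_one.trans hX'
    have hn1 := ratFunc_val_poly_of_one_lt P' hX' hn0
    have hd1 := ratFunc_val_poly_of_one_lt P' hX' hd0
    have hdpos : 0 < P'.1 (ι d) := by rw [hd1]; exact pow_pos hx0 _
    have hu1' : P'.1 u = 1 := by
      rw [hu, map_div₀, hn1, hd1, hdeg, div_self (pow_pos hx0 _).ne']
    have hfval : P'.1 f = P'.1 RatFunc.X ^ (2 * m) := by
      have : f = u * RatFunc.X ^ (2 * m) := by rw [hu_def, div_mul_cancel₀ _ hXm0]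
      rw [this, map_mul, hu1', map_pow, one_mul]
    have hx2 : 0 < P'.1 RatFunc.X ^ (2 * m) := pow_pos hx0 _
    have h1 : P'.1 (u + algebraMap k (RatFunc k) (c ^ 2)) < 1 := by
      rw [huc, map_div₀, div_lt_one₀ hdpos]
      by_cases hq0 : q = 0
      · rw [hq0, map_zero, map_zero]; exact hdpos
      · rw [ratFunc_val_poly_of_one_lt P' hX' hq0, hd1]
        apply pow_lt_pow_right₀ hX'
        exact natDegree_lt_natDegree hq0 hqdeg
    have h2 : P'.1 (f + g ^ 2) < P'.1 f := by
      have hxpow : P'.1 (RatFunc.X ^ (2 * m)) = P'.1 RatFunc.X ^ (2 * m) := map_pow _ _ _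
      rw [hfg, map_mul, hxpow, hfval]
      calc P'.1 (u + algebraMap k (RatFunc k) (c ^ 2)) * P'.1 RatFunc.X ^ (2 * m)
          < 1 * P'.1 RatFunc.X ^ (2 * m) := mul_lt_mul_of_pos_right h1 hx2
        _ = _ := one_mul _
    have h3 : P'.1 g < P'.1 f := by
      rw [hgX, map_mul, map_pow, hfval]
      have hxm : 0 < P'.1 RatFunc.X ^ m := pow_pos hx0 _
      calc P'.1 (algebraMap k (RatFunc k) c) * P'.1 RatFunc.X ^ m ≤ 1 * P'.1 RatFunc.X ^ m :=
            mul_le_mul' (P'.2.1 c) le_rfl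
        _ = P'.1 RatFunc.X ^ m := one_mul _
        _ < P'.1 RatFunc.X ^ (2 * m) := by
          apply pow_lt_pow_right₀ hX'
          omega
    exact lt_of_le_of_lt (P'.1.map_add _ _) (max_lt h2 h3)
  refine ⟨hclass P hX, fun P' => ?_⟩
  by_cases hX' : 1 < P'.1 RatFunc.X
  · exact (hclass P' hX').le.trans (le_max_left _ _)
  · apply val_add_le_of_val_le_one
    push Not at hX'
    exact ratFunc_val_poly_le_one P' hX' _

lemma step [PerfectField k] [CharP k 2] (P : Place k (RatFunc k)) (f : RatFunc k)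
    (hpole : P.ord f < 0) (heven : Even (P.ord f)) :
    ∃ g : RatFunc k, P.1 (f + g ^ 2 + g) < P.1 f ∧
      ∀ P' : Place k (RatFunc k), P'.1 (f + g ^ 2 + g) ≤ max (P'.1 f) 1 := by
  have hf0 : f ≠ 0 := ne_zero_of_ord_neg P hpole
  obtain ⟨r, hr⟩ := heven
  have hm : 0 < (-r).toNat := by omega
  have hord : P.ord f = -(2 * ((-r).toNat : ℕ) : ℤ) := by
    rw [Int.toNat_of_nonneg (by omega)]
    omega
  by_cases hX : P.1 RatFunc.X ≤ 1
  · exact step_finite P hX f hf0 _ hm hord
  · push Not at hX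
    exact step_infinite P hX f hf0 _ hm hord

lemma exists_odd [PerfectField k] [CharP k 2] (N : ℕ) :
    ∀ f : RatFunc k, M (isFunctionField_ratFunc k) f ≤ N →
      ∃ g : RatFunc k, ∀ P : Place k (RatFunc k),
        P.ord (f + g ^ 2 + g) < 0 → Odd (P.ord (f + g ^ 2 + g)) := by
  induction N with
  | zero =>
    intro f hf
    by_cases h : ∀ P : Place k (RatFunc k), P.ord f < 0 → Odd (P.ord f)
    · exact ⟨0, by simpa using h⟩
    · push Not at h
      obtain ⟨P, hP, hodd⟩ := h
      rw [Int.not_odd_iff_even] at hodd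
      obtain ⟨g₁, hg₁, hle⟩ := step P f hP hodd
      have h1 : 1 < P.1 f := (one_lt_val_iff P (ne_zero_of_ord_neg P hP)).mpr hP
      have := M_lt (isFunctionField_ratFunc k) P h1 hg₁ hle
      omega
  | succ N ih =>
    intro f hf
    by_cases h : ∀ P : Place k (RatFunc k), P.ord f < 0 → Odd (P.ord f)
    · exact ⟨0, by simpa using h⟩
    · push Not at h
      obtain ⟨P, hP, hodd⟩ := h
      rw [Int.not_odd_iff_even] at hodd
      obtain ⟨g₁, hg₁, hle⟩ := step P f hP hodd
      have h1 : 1 < P.1 f := (one_lt_val_iff P (ne_zero_of_ord_neg P hP)).mpr hP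
      have hM := M_lt (isFunctionField_ratFunc k) P h1 hg₁ hle
      obtain ⟨g₂, hg₂⟩ := ih (f + g₁ ^ 2 + g₁) (by omega)
      have hchar' : CharP (RatFunc k) 2 := inferInstance
      refine ⟨g₁ + g₂, ?_⟩
      have : f + (g₁ + g₂) ^ 2 + (g₁ + g₂) = f + g₁ ^ 2 + g₁ + g₂ ^ 2 + g₂ := by
        rw [CharTwo.add_sq]; ring
      rw [this]
      exact hg₂

end RatFunc

/-- If `k` is perfect of characteristic `2` and `K` is a separable extension of degree `2` of `k(x)`,
then `K = k(x)(y)` for some `y` with `y² + y = f(x)` such that every pole of `f`, at any place of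
`k(x)/k` including the infinite one, has odd order. -/
theorem result (k K : Type*) [Field k] [Field K] [PerfectField k] (h2 : ringChar k = 2)
    [Algebra k K] [Algebra (RatFunc k) K] [IsScalarTower k (RatFunc k) K]
    (hdeg : Module.finrank (RatFunc k) K = 2) [Algebra.IsSeparable (RatFunc k) K] :
    ∃ (y : K) (f : RatFunc k), y ^ 2 + y = algebraMap (RatFunc k) K f ∧
      IntermediateField.adjoin (RatFunc k) ({y} : Set K) = ⊤ ∧
      ∀ P : FunFld.Place k (RatFunc k), P.ord f < 0 → Odd (P.ord f) := by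

  classical
  have hchar : CharP k 2 := by rw [← h2]; exact ringChar.charP k
  have hcharR : CharP (RatFunc k) 2 := inferInstance
  have hcharK : CharP K 2 := charP_of_injective_algebraMap (algebraMap (RatFunc k) K).injective 2
  obtain ⟨y, f₀, hy, hadj⟩ := Groth.Agent.S12517.result k K h2 hdeg
  obtain ⟨g, hg⟩ := exists_odd (M (isFunctionField_ratFunc k) f₀) f₀ le_rfl
  refine ⟨y + algebraMap (RatFunc k) K g, f₀ + g ^ 2 + g, ?_, ?_, hg⟩
  · rw [CharTwo.add_sq, map_add, map_add, map_pow, ← hy]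
    ring
  · rw [eq_top_iff, ← hadj, IntermediateField.adjoin_le_iff, Set.singleton_subset_iff]
    have h1 : y + algebraMap (RatFunc k) K g ∈
        IntermediateField.adjoin (RatFunc k) ({y + algebraMap (RatFunc k) K g} : Set K) :=
      IntermediateField.mem_adjoin_simple_self _ _
    have h2 : algebraMap (RatFunc k) K g ∈
        IntermediateField.adjoin (RatFunc k) ({y + algebraMap (RatFunc k) K g} : Set K) :=
      IntermediateField.algebraMap_mem _ g
    have := sub_mem h1 h2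
    rwa [add_sub_cancel_right] at this

end Groth.Agent.S12518
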