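import Groth.Statements.S12519
import Groth.Agent.FunFld.Quadratic
import Groth.Agent.FunFld.RatFuncPlaces

set_option autoImplicit false
open FunFld

namespace Groth.Agent.S12519

/-- Let `k` be perfect of characteristic `2`, `K` separable of degree `2` over `k(x)`, and `y ∈ K \
k(x)` with `y² + y = f(x)`. At a place `p` of `k(x)/k` where `f` has a pole of odd order there is a
unique place `P` of `K` above `p`, with `e(P|p) = 2` and `deg P = deg p` (residue degree `1`); at a
place where `f` has no pole, every place of `K` above it is unramified. The different is not stated. -/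
theorem result (k K : Type*) [Field k] [Field K] [PerfectField k] (h2 : ringChar k = 2)
    [Algebra k K] [Algebra (RatFunc k) K] [IsScalarTower k (RatFunc k) K]
    (hdeg : Module.finrank (RatFunc k) K = 2) [Algebra.IsSeparable (RatFunc k) K]
    (y : K) (hy : y ∉ Set.range (algebraMap (RatFunc k) K))
    (f : RatFunc k) (heq : y ^ 2 + y = algebraMap (RatFunc k) K f)
    (P₀ : FunFld.Place k (RatFunc k)) :
    ((P₀.ord f < 0 ∧ Odd (P₀.ord f)) → (∃! P : FunFld.Place k K, FunFld.IsOver P P₀) ∧
      ∀ P : FunFld.Place k K, FunFld.IsOver P P₀ → FunFld.IsOverWith P P₀ 2 ∧ P.deg = P₀.deg) ∧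
    (0 ≤ P₀.ord f → ∀ P : FunFld.Place k K, FunFld.IsOver P P₀ → FunFld.IsOverWith P P₀ 1) := by
  haveI : FiniteDimensional (RatFunc k) K := FiniteDimensional.of_finrank_pos (by rw [hdeg]; norm_num)
  have hK := Groth.Agent.FF.isFunctionField_ratFunc k
  have h2k : (2 : k) = 0 := by
    have hc := ringChar.charP k
    rw [h2] at hc
    exact_mod_cast CharP.cast_eq_zero k 2
  have h2K : (2 : K) = 0 := by
    have h : (2 : K) = algebraMap k K 2 := (map_ofNat (algebraMap k K) 2).symm
    rw [h, h2k, map_zero]
  -- if `y` has a pole at `Q` then `v(f) = v(y)^2`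
  have hpole : ∀ Q : FunFld.Place k K, 1 < Q.1 y →
      Q.1 (algebraMap (RatFunc k) K f) = Q.1 y ^ 2 := by
    intro Q hQ
    rw [← heq]
    have hlt : Q.1 y < Q.1 (y ^ 2) := by
      rw [map_pow, pow_two]
      have h0 : (0 : WithZero (Multiplicative ℤ)) < Q.1 y := lt_trans zero_lt_one hQ
      calc Q.1 y = Q.1 y * 1 := (mul_one _).symm
        _ < Q.1 y * Q.1 y := by
          apply mul_lt_mul_of_pos_left hQ h0
    rw [Q.1.map_add_eq_of_lt_left hlt, map_pow]
  refine ⟨?_, ?_⟩
  · rintro ⟨hneg, hodd⟩
    refine Groth.Agent.FF.Ext.quadratic_ramified hK hdeg P₀ ?_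
    intro Q e he
    have hf0 : f ≠ 0 := by
      rintro rfl
      rw [Groth.Agent.FF.ord_zero] at hneg
      exact lt_irrefl _ hneg
    have hιf0 : algebraMap (RatFunc k) K f ≠ 0 :=
      (map_ne_zero_iff _ (algebraMap (RatFunc k) K).injective).mpr hf0
    have h1 := Groth.Agent.FF.Ext.ord_eq he f
    have hepos := Groth.Agent.FF.Ext.e_pos he
    have hneg' : Q.ord (algebraMap (RatFunc k) K f) < 0 := by
      rw [h1]
      exact mul_neg_of_pos_of_neg (by exact_mod_cast hepos) hneg
    have hy1 : 1 < Q.1 y := by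
      by_contra hcon
      push Not at hcon
      have h3 : Q.1 (algebraMap (RatFunc k) K f) ≤ 1 := by
        rw [← heq]
        apply Q.1.map_add_le _ hcon
        rw [map_pow]
        exact pow_le_one' hcon 2
      rw [Groth.Agent.FF.val_le_one_iff Q hιf0] at h3
      omega
    have h4 : Q.ord (algebraMap (RatFunc k) K f) = 2 * Q.ord y := by
      have h5 := hpole Q hy1
      rw [← map_pow] at h5
      have h6 : Q.ord (algebraMap (RatFunc k) K f) = Q.ord (y ^ 2) := by
        unfold FunFld.Place.ord
        rw [h5]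
      rw [h6, Groth.Agent.FF.ord_pow]
      push_cast
      ring
    rw [h4] at h1
    have heven : Even ((e : ℤ) * P₀.ord f) := ⟨Q.ord y, by rw [← h1]; ring⟩
    rcases Int.even_mul.mp heven with h | h
    · exact (Int.even_coe_nat e).mp h
    · exact absurd h (Int.not_even_iff_odd.mpr hodd)
  · intro hnn Q hQ
    obtain ⟨e, he⟩ := hQ
    have hfP : P₀.1 f ≤ 1 := by
      by_cases hf0 : f = 0
      · rw [hf0, map_zero]
        exact zero_le
      · rwa [Groth.Agent.FF.val_le_one_iff P₀ hf0]
    have hy1 : Q.1 y ≤ 1 := by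
      by_contra hcon
      push Not at hcon
      have h5 := hpole Q hcon
      have h6 : Q.1 (algebraMap (RatFunc k) K f) ≤ 1 :=
        (Groth.Agent.FF.Ext.le_one_iff he f).mpr hfP
      rw [h5] at h6
      have h7 : (1 : WithZero (Multiplicative ℤ)) < Q.1 y ^ 2 := one_lt_pow₀ hcon (by norm_num)
      exact absurd h6 (not_le.mpr h7)
    have heq' : y ^ 2 + algebraMap (RatFunc k) K 1 * y + algebraMap (RatFunc k) K (-f) = 0 := by
      rw [map_one, one_mul, map_neg, heq]
      ring
    have hunit : Q.1 (2 * y + algebraMap (RatFunc k) K 1) = 1 := by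
      rw [h2K, zero_mul, zero_add, map_one, map_one]
    have he1 := Groth.Agent.FF.Ext.quadratic_unramified hdeg he hy heq' hy1 hunit
    rw [← he1]
    exact he

end Groth.Agent.S12519
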