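import Groth.Statements.S12524
import Mathlib.RingTheory.PowerSeries.Trunc
import Mathlib.RingTheory.PowerSeries.Order
import Mathlib.RingTheory.Polynomial.Basic
import Mathlib.Algebra.Polynomial.Div
import Mathlib.RingTheory.LocalRing.ResidueField.Basic

set_option autoImplicit false
universe u v
open CAlg

namespace Groth.Agent.S12524

open IsLocalRing PowerSeries

section
variable {K : Type u} {A : Type v} [Field K] [CommRing A] [Algebra K A] (x : A)

/-- partial sums -/
noncomputable def ps (f : PowerSeries K) (n : ℕ) : A := Polynomial.aeval x (trunc n f)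

theorem ps_eq (f : PowerSeries K) (n : ℕ) :
    ps x f n = (Finset.range n).sum (fun i => algebraMap K A (PowerSeries.coeff i f) * x ^ i) := by
  rw [ps, Polynomial.aeval_def, eval₂_trunc_eq_sum_range]

theorem aeval_sub_mem (P Q : Polynomial K) (n : ℕ) (h : ∀ d < n, P.coeff d = Q.coeff d) :
    Polynomial.aeval x P - Polynomial.aeval x Q ∈ Ideal.span {x} ^ n := by
  have hdvd : (Polynomial.X : Polynomial K) ^ n ∣ P - Q := by
    rw [Polynomial.X_pow_dvd_iff]
    intro d hd
    rw [Polynomial.coeff_sub, h d hd, sub_self]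
  obtain ⟨R, hR⟩ := hdvd
  rw [← map_sub, hR, map_mul, map_pow, Polynomial.aeval_X, Ideal.span_singleton_pow]
  exact Ideal.mul_mem_right _ _ (Ideal.mem_span_singleton_self _)

/-- `L` is the limit of the partial sums of `f` -/
def IsLim (f : PowerSeries K) (L : A) : Prop := ∀ n, L - ps x f n ∈ Ideal.span {x} ^ n

theorem isLim_add {f g : PowerSeries K} {L L' : A} (h : IsLim x f L) (h' : IsLim x g L') :
    IsLim x (f + g) (L + L') := by
  intro n
  have : L + L' - ps x (f + g) n = (L - ps x f n) + (L' - ps x g n) := by
    simp only [ps, map_add]; ring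
  rw [this]
  exact Ideal.add_mem _ (h n) (h' n)

theorem isLim_mul {f g : PowerSeries K} {L L' : A} (h : IsLim x f L) (h' : IsLim x g L') :
    IsLim x (f * g) (L * L') := by
  intro n
  have key : ps x f n * ps x g n - ps x (f * g) n ∈ Ideal.span {x} ^ n := by
    rw [ps, ps, ps, ← map_mul]
    apply aeval_sub_mem
    intro d hd
    rw [coeff_trunc, if_pos hd, coeff_mul_eq_coeff_trunc_mul_trunc f g hd, ← Polynomial.coe_mul,
      Polynomial.coeff_coe]
  have : L * L' - ps x (f * g) n = (L - ps x f n) * L' + ps x f n * (L' - ps x g n)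
      + (ps x f n * ps x g n - ps x (f * g) n) := by ring
  rw [this]
  exact Ideal.add_mem _ (Ideal.add_mem _ (Ideal.mul_mem_right _ _ (h n))
    (Ideal.mul_mem_left _ _ (h' n))) key

theorem isLim_coe (P : Polynomial K) : IsLim x (P : PowerSeries K) (Polynomial.aeval x P) := by
  intro n
  rw [ps]
  apply aeval_sub_mem
  intro d hd
  rw [coeff_trunc, if_pos hd, Polynomial.coeff_coe]

theorem isLim_unique [IsHausdorff (Ideal.span {x}) A] {f : PowerSeries K} {L L' : A}
    (h : IsLim x f L) (h' : IsLim x f L') : L = L' := by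
  rw [← sub_eq_zero]
  apply IsHausdorff.haus' (I := Ideal.span {x}) (L - L')
  intro n
  rw [SModEq.zero, smul_eq_mul, Ideal.mul_top]
  have : L - L' = (L - ps x f n) - (L' - ps x f n) := by ring
  rw [this]
  exact Ideal.sub_mem _ (h n) (h' n)

theorem exists_isLim [IsPrecomplete (Ideal.span {x}) A] (f : PowerSeries K) : ∃ L, IsLim x f L := by
  obtain ⟨L, hL⟩ := IsPrecomplete.prec' (I := Ideal.span {x}) (ps x f) (by
    intro m n hmn
    rw [SModEq.sub_mem, smul_eq_mul, Ideal.mul_top, ps, ps]
    apply aeval_sub_mem
    intro d hd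
    rw [coeff_trunc, coeff_trunc, if_pos hd, if_pos (lt_of_lt_of_le hd hmn)])
  refine ⟨L, fun n => ?_⟩
  have := hL n
  rw [SModEq.sub_mem, smul_eq_mul, Ideal.mul_top] at this
  have h2 : L - ps x f n = -(ps x f n - L) := by ring
  rw [h2]
  exact Ideal.neg_mem_iff _ |>.mpr this

end

section main
variable {K : Type u} {A : Type v} [Field K] [CommRing A] [Algebra K A] (x : A)

noncomputable def φfun [IsPrecomplete (Ideal.span {x}) A] (f : PowerSeries K) : A :=
  (exists_isLim x f).choose

theorem φfun_spec [IsPrecomplete (Ideal.span {x}) A] (f : PowerSeries K) : IsLim x f (φfun x f) :=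
  (exists_isLim x f).choose_spec

theorem φfun_eq [IsAdicComplete (Ideal.span {x}) A] {f : PowerSeries K} {L : A} (h : IsLim x f L) :
    φfun x f = L := isLim_unique x (φfun_spec x f) h

noncomputable def φ [IsAdicComplete (Ideal.span {x}) A] : PowerSeries K →ₐ[K] A where
  toFun := φfun x
  map_one' := by
    have := isLim_coe (K := K) x (1 : Polynomial K)
    rw [Polynomial.coe_one, map_one] at this
    exact φfun_eq x this
  map_mul' f g := φfun_eq x (isLim_mul x (φfun_spec x f) (φfun_spec x g))
  map_zero' := by
    have := isLim_coe (K := K) x (0 : Polynomial K)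
    rw [Polynomial.coe_zero, map_zero] at this
    exact φfun_eq x this
  map_add' f g := φfun_eq x (isLim_add x (φfun_spec x f) (φfun_spec x g))
  commutes' a := by
    have := isLim_coe (K := K) x (Polynomial.C a)
    rw [Polynomial.coe_C, Polynomial.aeval_C] at this
    exact φfun_eq x this

theorem φ_apply [IsAdicComplete (Ideal.span {x}) A] (f : PowerSeries K) :
    φ x f = φfun x f := rfl

theorem φ_X [IsAdicComplete (Ideal.span {x}) A] : φ (K := K) x PowerSeries.X = x := by
  have := isLim_coe (K := K) x (Polynomial.X)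
  rw [Polynomial.coe_X, Polynomial.aeval_X] at this
  exact φfun_eq x this

theorem exists_isLim_of_surj
    [IsLocalRing A] (hs : Function.Surjective ((residue A).comp (algebraMap K A)))
    (hx : maximalIdeal A = Ideal.span {x}) (y : A) : ∃ f : PowerSeries K, IsLim x f y := by
  have step : ∀ z : A, ∃ (a : K) (z' : A), z = algebraMap K A a + z' * x := by
    intro z
    obtain ⟨a, ha⟩ := hs (residue A z)
    have hmem : z - algebraMap K A a ∈ maximalIdeal A := by
      rw [← IsLocalRing.residue_eq_zero_iff, map_sub, sub_eq_zero]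
      exact ha.symm
    rw [hx, Ideal.mem_span_singleton'] at hmem
    obtain ⟨z', hz'⟩ := hmem
    exact ⟨a, z', by rw [hz']; ring⟩
  choose a nxt hstep using step
  let r : ℕ → A := fun n => nxt^[n] y
  let f : PowerSeries K := PowerSeries.mk (fun n => a (r n))
  refine ⟨f, ?_⟩
  have claim : ∀ n, y = ps x f n + r n * x ^ n := by
    intro n
    induction n with
    | zero => simp [ps_eq, r]
    | succ n ih =>
      have h1 : r n = algebraMap K A (a (r n)) + r (n + 1) * x := by
        have := hstep (r n)
        simpa [r, Function.iterate_succ_apply'] using this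
      have h2 : ps x f (n + 1) = ps x f n + algebraMap K A (a (r n)) * x ^ n := by
        rw [ps_eq, ps_eq, Finset.sum_range_succ, coeff_mk]
      rw [h2]
      calc y = ps x f n + r n * x ^ n := ih
        _ = ps x f n + (algebraMap K A (a (r n)) + r (n + 1) * x) * x ^ n := by rw [← h1]
        _ = _ := by ring
  intro n
  have h := claim n
  have h3 : y - ps x f n = r n * x ^ n := by
    rw [sub_eq_iff_eq_add']
    exact h
  rw [h3, Ideal.span_singleton_pow]
  exact Ideal.mul_mem_left _ _ (Ideal.mem_span_singleton_self _)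

theorem eq_zero_of_isLim_zero [IsDomain A] [IsLocalRing A]
    (hi : Function.Injective ((residue A).comp (algebraMap K A)))
    (hx : maximalIdeal A = Ideal.span {x}) (hx0 : x ≠ 0) (f : PowerSeries K) (h : IsLim x f 0) :
    f = 0 := by
  by_contra hf
  have hex : ∃ n, PowerSeries.coeff n f ≠ 0 := by
    by_contra hcon
    push Not at hcon
    apply hf
    ext n
    simpa using hcon n
  classical
  let d := Nat.find hex
  have hd : PowerSeries.coeff d f ≠ 0 := Nat.find_spec hex
  have hlt : ∀ i < d, PowerSeries.coeff i f = 0 := fun i hi => by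
    have := Nat.find_min hex hi
    push Not at this
    exact this
  have hps : ps x f (d + 1) = algebraMap K A (PowerSeries.coeff d f) * x ^ d := by
    rw [ps_eq, Finset.sum_range_succ, Finset.sum_eq_zero, zero_add]
    intro i hi
    rw [hlt i (Finset.mem_range.mp hi), map_zero, zero_mul]
  have h1 := h (d + 1)
  rw [hps, zero_sub, Ideal.neg_mem_iff, Ideal.span_singleton_pow, Ideal.mem_span_singleton'] at h1
  obtain ⟨c, hc⟩ := h1
  have h2 : x ^ d * (c * x - algebraMap K A (PowerSeries.coeff d f)) = 0 := by
    rw [mul_sub, sub_eq_zero]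
    have : x ^ d * algebraMap K A (PowerSeries.coeff d f) = c * x ^ (d + 1) := by
      rw [hc]; ring
    rw [this]
    ring
  rcases mul_eq_zero.mp h2 with h3 | h3
  · exact (hx0 (eq_zero_of_pow_eq_zero h3)).elim
  · have h4 : algebraMap K A (PowerSeries.coeff d f) ∈ maximalIdeal A := by
      rw [hx, Ideal.mem_span_singleton']
      exact ⟨c, sub_eq_zero.mp h3⟩
    rw [← IsLocalRing.residue_eq_zero_iff] at h4
    apply hd
    apply hi
    rw [map_zero]
    exact h4

end main

open IsLocalRing in
/-- Let `A` be a complete discrete valuation ring with maximal ideal `m`, containing a field `K` such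
that `K → A → A/m` is bijective (a coefficient field), and let `x` be any generator of `m`. Then the
`K`-algebra map `K[X] → A`, `X ↦ x`, extends to a bijective `K`-algebra map `φ : K⟦X⟧ → A`,
characterised by `φ(∑ aᵢ Xⁱ) ≡ ∑_{i<n} aᵢ xⁱ (mod mⁿ)` for every `n`. -/
theorem result (K : Type u) (A : Type v) [Field K]
    [CommRing A] [IsDomain A] [IsDiscreteValuationRing A] [Algebra K A]
    [IsAdicComplete (maximalIdeal A) A]
    (hK : Function.Bijective ((residue A).comp (algebraMap K A)))
    (x : A) (hx : maximalIdeal A = Ideal.span {x}) :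
    ∃ φ : PowerSeries K →ₐ[K] A, φ PowerSeries.X = x ∧ Function.Bijective φ ∧
      ∀ (f : PowerSeries K) (n : ℕ),
        φ f - (Finset.range n).sum (fun i => algebraMap K A (PowerSeries.coeff i f) * x ^ i) ∈
          maximalIdeal A ^ n := by
  have hcomp : IsAdicComplete (Ideal.span {x}) A := hx ▸ inferInstance
  have hx0 : x ≠ 0 := by
    rintro rfl
    apply IsDiscreteValuationRing.not_a_field A
    rw [hx]
    simp
  refine ⟨φ x, φ_X x, ⟨?_, ?_⟩, ?_⟩
  · rw [injective_iff_map_eq_zero]
    intro f hf
    apply eq_zero_of_isLim_zero x hK.1 hx hx0 f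
    rw [← hf]
    exact φfun_spec x f
  · intro y
    obtain ⟨f, hf⟩ := exists_isLim_of_surj x hK.2 hx y
    exact ⟨f, φfun_eq x hf⟩
  · intro f n
    rw [hx, ← ps_eq]
    exact φfun_spec x f n

end Groth.Agent.S12524
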