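import Groth.Statements.S12526
import Groth.Agent.FunFld.NonsingRes
import Mathlib

set_option autoImplicit false
universe u v
open FunFld

namespace Groth.Agent.S12526

open FunFld WithZero TensorProduct Groth.Agent.FF Groth.Agent.FF.Ext

section

variable {k : Type u} {K : Type v} [Field k] [Field K] [Algebra k K]

lemma val_le_exp_neg_one_of_lt_one (P : Place k K) {x : K} (hx : P.1 x < 1) :
    P.1 x ≤ exp (-1 : ℤ) := by
  by_cases h0 : x = 0
  · subst h0; simp
  · rw [val_lt_one_iff P h0] at hx
    rw [val_le_exp_iff P h0]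
    omega

/-- `O_P ⊆ U + t · O_P` for a finite-dimensional `U`. -/
lemma exists_fd_step (hK : IsFunctionField k K) (P : Place k K) (t : K) (ht : P.1 t = exp (-1 : ℤ)) :
    ∃ U : Submodule k K, FiniteDimensional k U ∧ (∀ u ∈ U, P.1 u ≤ 1) ∧
      ∀ o : K, P.1 o ≤ 1 → ∃ u ∈ U, ∃ o' : K, P.1 o' ≤ 1 ∧ o = u + t * o' := by
  have hfin := finite_residueField hK P
  let B := Module.finBasis k (IsLocalRing.ResidueField P.O)
  have hlift : ∀ j, ∃ s : P.O, res P s = B j := fun j => IsLocalRing.residue_surjective (B j)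
  choose s hs using hlift
  have ht0 : t ≠ 0 := by
    rw [← P.1.ne_zero_iff, ht]; exact exp_ne_zero
  refine ⟨Submodule.span k (Set.range fun j => (s j : K)), ?_, ?_, ?_⟩
  · exact FiniteDimensional.span_of_finite k (Set.finite_range _)
  · intro u hu
    induction hu using Submodule.span_induction with
    | mem x hx => obtain ⟨j, rfl⟩ := hx; exact (s j).2
    | zero => simp
    | add x y _ _ hx hy => exact (P.1.map_add x y).trans (max_le hx hy)
    | smul c x _ hx => exact (val_smul_le P c x).trans hx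
  · intro o ho
    let ob : P.O := ⟨o, ho⟩
    let c := B.repr (res P ob)
    let ub : P.O := ∑ j, c j • s j
    have hres : res P (ob - ub) = 0 := by
      rw [map_sub, sub_eq_zero]
      conv_lhs => rw [← B.sum_repr (res P ob)]
      simp only [ub, map_sum]
      refine Finset.sum_congr rfl fun j _ => ?_
      change c j • B j = _
      rw [Algebra.smul_def (c j) (s j), map_mul, hs]
      change _ = algebraMap k (IsLocalRing.ResidueField P.O) (c j) * B j
      rw [← Algebra.smul_def]
    rw [res_eq_zero_iff] at hres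
    have hub : ((ub : P.O) : K) = ∑ j, c j • (s j : K) := by
      simp only [ub]
      rw [AddSubmonoidClass.coe_finsetSum]
      refine Finset.sum_congr rfl fun j _ => ?_
      rw [Algebra.smul_def, Algebra.smul_def]
      rfl
    refine ⟨(ub : K), ?_, (o - (ub : K)) / t, ?_, ?_⟩
    · rw [hub]
      exact Submodule.sum_mem _ fun j _ => Submodule.smul_mem _ _ (Submodule.subset_span ⟨j, rfl⟩)
    · have h1 : P.1 (o - (ub : K)) ≤ exp (-1 : ℤ) := val_le_exp_neg_one_of_lt_one P hres
      rw [map_div₀, ht]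
      rw [div_le_iff₀ (by exact exp_pos), one_mul]
      exact h1
    · field_simp
      ring

/-- `O_P ⊆ V + t ^ N · O_P` for a finite-dimensional `V`. -/
lemma exists_fd_pow (hK : IsFunctionField k K) (P : Place k K) (t : K) (ht : P.1 t = exp (-1 : ℤ))
    (N : ℕ) :
    ∃ V : Submodule k K, FiniteDimensional k V ∧
      ∀ o : K, P.1 o ≤ 1 → ∃ v ∈ V, ∃ o' : K, P.1 o' ≤ 1 ∧ o = v + t ^ N * o' := by
  obtain ⟨U, hUfin, hU1, hU⟩ := exists_fd_step hK P t ht
  induction N with
  | zero => exact ⟨⊥, inferInstance, fun o ho => ⟨0, Submodule.zero_mem _, o, ho, by simp⟩⟩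
  | succ N ih =>
    obtain ⟨V, hVfin, hV⟩ := ih
    refine ⟨V ⊔ U.map (LinearMap.mulLeft k (t ^ N)), inferInstance, ?_⟩
    intro o ho
    obtain ⟨v, hv, o', ho', rfl⟩ := hV o ho
    obtain ⟨u, hu, o'', ho'', rfl⟩ := hU o' ho'
    refine ⟨v + t ^ N * u, Submodule.add_mem_sup hv (Submodule.mem_map.mpr ⟨u, hu, rfl⟩),
      o'', ho'', ?_⟩
    ring

/-- `O_P ⊆ V + c · O_P` for a finite-dimensional `V`, for any nonzero `c ∈ O_P`. -/
lemma exists_fd_mul (hK : IsFunctionField k K) (P : Place k K) (c : K) (hc0 : c ≠ 0)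
    (hc : P.1 c ≤ 1) :
    ∃ V : Submodule k K, FiniteDimensional k V ∧
      ∀ o : K, P.1 o ≤ 1 → ∃ v ∈ V, ∃ o' : K, P.1 o' ≤ 1 ∧ o = v + c * o' := by
  obtain ⟨t, ht⟩ := exists_uniformizer P
  have ht0 : t ≠ 0 := by
    rw [← P.1.ne_zero_iff, ht]; exact exp_ne_zero
  have hord : 0 ≤ P.ord c := (val_le_one_iff P hc0).mp hc
  obtain ⟨N, hN⟩ := Int.eq_ofNat_of_zero_le hord
  obtain ⟨V, hVfin, hV⟩ := exists_fd_pow hK P t ht N
  refine ⟨V, hVfin, fun o ho => ?_⟩
  obtain ⟨v, hv, o', ho', rfl⟩ := hV o ho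
  refine ⟨v, hv, t ^ N * o' / c, ?_, ?_⟩
  · rw [map_div₀, map_mul, map_pow, ht, val_eq_exp_neg_ord P hc0, hN]
    rw [div_le_iff₀ (by exact exp_pos), one_mul, ← exp_nsmul]
    have : (N : ℕ) • (-1 : ℤ) = -(N : ℤ) := by simp
    rw [this]
    calc exp (-(N : ℤ)) * P.1 o' ≤ exp (-(N : ℤ)) * 1 := by gcongr
      _ = exp (-(N : ℤ)) := mul_one _
  · field_simp

end

section Main

variable {k k' : Type u} {K K' : Type v} [Field k] [Field k'] [Field K] [Field K']
    [Algebra k k'] [Algebra k K] [Algebra K K'] [Algebra k' K'] [Algebra k K']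
    [IsScalarTower k k' K'] [IsScalarTower k K K']

lemma algebraMap_O_eq (P : FunFld.Place k K) [Algebra P.O K'] [IsScalarTower P.O K K'] (o : P.O) :
    algebraMap P.O K' o = algebraMap K K' (o : K) :=
  IsScalarTower.algebraMap_apply P.O K K' o

lemma algebraMap_mem_adjoin (P : FunFld.Place k K) [Algebra P.O K'] [IsScalarTower P.O K K']
    {d : K} (hd : P.1 d ≤ 1) :
    algebraMap K K' d ∈ Algebra.adjoin P.O (Set.range (algebraMap k' K')) := by
  have := (Algebra.adjoin P.O (Set.range (algebraMap k' K'))).algebraMap_mem ⟨d, hd⟩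
  rwa [algebraMap_O_eq] at this

/-- clearing denominators into `O_P[k']` -/
lemma exists_denominator
    (h : Function.Surjective (Algebra.TensorProduct.productMap
      (IsScalarTower.toAlgHom k k' K') (IsScalarTower.toAlgHom k K K')))
    (P : FunFld.Place k K) [Algebra P.O K'] [IsScalarTower P.O K K'] (x : K') :
    ∃ d : K, d ≠ 0 ∧ P.1 d ≤ 1 ∧
      algebraMap K K' d * x ∈ Algebra.adjoin P.O (Set.range (algebraMap k' K')) := by
  obtain ⟨z, rfl⟩ := h x
  induction z using TensorProduct.induction_on with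
  | zero => exact ⟨1, one_ne_zero, by simp, by simp⟩
  | tmul a y =>
    rw [Algebra.TensorProduct.productMap_apply_tmul]
    change ∃ d : K, d ≠ 0 ∧ P.1 d ≤ 1 ∧
      algebraMap K K' d * (algebraMap k' K' a * algebraMap K K' y) ∈ _
    by_cases hy : P.1 y ≤ 1
    · refine ⟨1, one_ne_zero, by simp, ?_⟩
      rw [map_one, one_mul]
      exact Subalgebra.mul_mem _ (Algebra.subset_adjoin ⟨a, rfl⟩) (algebraMap_mem_adjoin P hy)
    · have hy0 : y ≠ 0 := by
        rintro rfl; simp at hy
      refine ⟨y⁻¹, inv_ne_zero hy0, ?_, ?_⟩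
      · rw [map_inv₀]
        exact inv_le_one_of_one_le₀ (le_of_lt (not_le.mp hy))
      · have : algebraMap K K' y⁻¹ * (algebraMap k' K' a * algebraMap K K' y) = algebraMap k' K' a := by
          rw [mul_comm (algebraMap k' K' a), ← mul_assoc, ← map_mul, inv_mul_cancel₀ hy0, map_one,
            one_mul]
        rw [this]
        exact Algebra.subset_adjoin ⟨a, rfl⟩
  | add z₁ z₂ h₁ h₂ =>
    obtain ⟨d₁, hd₁0, hd₁, hm₁⟩ := h₁
    obtain ⟨d₂, hd₂0, hd₂, hm₂⟩ := h₂
    refine ⟨d₁ * d₂, mul_ne_zero hd₁0 hd₂0, ?_, ?_⟩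
    · rw [map_mul]; exact mul_le_one' hd₁ hd₂
    · rw [map_add, mul_add, map_mul]
      refine Subalgebra.add_mem _ ?_ ?_
      · rw [mul_comm (algebraMap K K' d₁), mul_assoc]
        exact Subalgebra.mul_mem _ (algebraMap_mem_adjoin P hd₂) hm₁
      · rw [mul_assoc]
        exact Subalgebra.mul_mem _ (algebraMap_mem_adjoin P hd₁) hm₂

/-- a common denominator for a finite family -/
lemma exists_common_denominator
    (h : Function.Surjective (Algebra.TensorProduct.productMap
      (IsScalarTower.toAlgHom k k' K') (IsScalarTower.toAlgHom k K K')))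
    (P : FunFld.Place k K) [Algebra P.O K'] [IsScalarTower P.O K K'] {m : ℕ} (x : Fin m → K') :
    ∃ d : K, d ≠ 0 ∧ P.1 d ≤ 1 ∧
      ∀ j, algebraMap K K' d * x j ∈ Algebra.adjoin P.O (Set.range (algebraMap k' K')) := by
  classical
  choose dd hdd0 hdd1 hddm using fun j => exists_denominator h P (x j)
  refine ⟨∏ j, dd j, Finset.prod_ne_zero_iff.mpr fun j _ => hdd0 j, ?_, fun j => ?_⟩
  · rw [map_prod]
    exact Finset.prod_le_one' fun j _ => hdd1 j
  · rw [← Finset.mul_prod_erase Finset.univ dd (Finset.mem_univ j), map_mul,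
      mul_comm (algebraMap K K' (dd j)), mul_assoc]
    refine Subalgebra.mul_mem _ (algebraMap_mem_adjoin P ?_) (hddm j)
    rw [map_prod]
    exact Finset.prod_le_one' fun i _ => hdd1 i

end Main

/-- Let `K/k` be a geometric function field of one variable, `P` a place of `K`, `k'/k` finite and `K' =
k' ⊗_k K`; let `R` be the integral closure of `O_P` in `K'` and `R̃ = k' ⊗_k O_P = O_P[k']`. Then
`R/R̃` is finite-dimensional over `k`, and `R̃` contains a nonzero ideal of `R`. -/
theorem result (k k' : Type u) (K K' : Type v) [Field k] [Field k'] [Field K] [Field K']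
    [Algebra k k'] [FiniteDimensional k k'] [Algebra k K] [Algebra K K'] [Algebra k' K'] [Algebra k K']
    [IsScalarTower k k' K'] [IsScalarTower k K K']
    (h : Function.Bijective (Algebra.TensorProduct.productMap
      (IsScalarTower.toAlgHom k k' K') (IsScalarTower.toAlgHom k K K')))
    (hK : FunFld.IsFunctionField k K) (hg : FunFld.IsGeometric k K)
    (P : FunFld.Place k K) [Algebra P.O K'] [IsScalarTower P.O K K'] :
    (∃ V : Submodule k K', FiniteDimensional k V ∧ ∀ r ∈ integralClosure P.O K',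
        ∃ s ∈ Algebra.adjoin P.O (Set.range (algebraMap k' K')), r - s ∈ V) ∧
    (∃ c ∈ integralClosure P.O K', c ≠ 0 ∧ ∀ r ∈ integralClosure P.O K',
        c * r ∈ Algebra.adjoin P.O (Set.range (algebraMap k' K'))) := by
  classical
  have hfd : FiniteDimensional K K' := finiteDimensional_of_productMap_surjective h.2
  have hfinR : Module.Finite P.O (integralClosure P.O K') := finite_integralClosure hK P
  obtain ⟨m, g, hg⟩ := Module.Finite.exists_fin (R := P.O) (M := integralClosure P.O K')
  obtain ⟨c0, hc00, hc01, hc0m⟩ := exists_common_denominator h.2 P (fun j => ((g j : integralClosure P.O K') : K'))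
  -- every element of the integral closure is a combination of the generators
  have hrepr : ∀ r ∈ integralClosure P.O K', ∃ o : Fin m → P.O,
      r = ∑ j, algebraMap K K' ((o j : P.O) : K) * (g j : K') := by
    intro r hr
    have hmem : (⟨r, hr⟩ : integralClosure P.O K') ∈ Submodule.span P.O (Set.range g) := by
      rw [hg]; exact Submodule.mem_top
    obtain ⟨o, ho⟩ := (Submodule.mem_span_range_iff_exists_fun P.O).mp hmem
    refine ⟨o, ?_⟩
    have := congrArg (fun z : integralClosure P.O K' => (z : K')) ho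
    simp only at this
    rw [← this, AddSubmonoidClass.coe_finsetSum]
    refine Finset.sum_congr rfl fun j _ => ?_
    rw [← algebraMap_O_eq P (o j), ← Algebra.smul_def]
    rfl
  have hcmem : ∀ r ∈ integralClosure P.O K',
      algebraMap K K' c0 * r ∈ Algebra.adjoin P.O (Set.range (algebraMap k' K')) := by
    intro r hr
    obtain ⟨o, rfl⟩ := hrepr r hr
    rw [Finset.mul_sum]
    refine Subalgebra.sum_mem _ fun j _ => ?_
    rw [mul_left_comm]
    exact Subalgebra.mul_mem _ (algebraMap_mem_adjoin P (o j).2) (hc0m j)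
  have hcint : algebraMap K K' c0 ∈ integralClosure P.O K' := by
    have := (integralClosure P.O K').algebraMap_mem ⟨c0, hc01⟩
    rwa [algebraMap_O_eq] at this
  refine ⟨?_, algebraMap K K' c0, hcint, ?_, hcmem⟩
  · obtain ⟨V0, hV0fin, hV0⟩ := exists_fd_mul hK P c0 hc00 hc01
    let ι : K →ₗ[k] K' := (IsScalarTower.toAlgHom k K K').toLinearMap
    refine ⟨⨆ j : Fin m, V0.map ((LinearMap.mulRight k ((g j : integralClosure P.O K') : K')) ∘ₗ ι),
      inferInstance, ?_⟩
    intro r hr
    obtain ⟨o, rfl⟩ := hrepr r hr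
    choose v hv o' ho' hoeq using fun j => hV0 ((o j : P.O) : K) (o j).2
    refine ⟨algebraMap K K' c0 * ∑ j, algebraMap K K' (o' j) * (g j : K'), ?_, ?_⟩
    · apply hcmem
      refine Subalgebra.sum_mem _ fun j _ => ?_
      refine Subalgebra.mul_mem _ ?_ (g j).2
      have := (integralClosure P.O K').algebraMap_mem ⟨o' j, ho' j⟩
      rwa [algebraMap_O_eq] at this
    · have : ∑ j, algebraMap K K' ((o j : P.O) : K) * (g j : K') -
          algebraMap K K' c0 * ∑ j, algebraMap K K' (o' j) * (g j : K') =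
          ∑ j, algebraMap K K' (v j) * (g j : K') := by
        rw [Finset.mul_sum, ← Finset.sum_sub_distrib]
        refine Finset.sum_congr rfl fun j _ => ?_
        rw [hoeq j, map_add, map_mul]
        ring
      rw [this]
      refine Submodule.sum_mem _ fun j _ => ?_
      refine Submodule.mem_iSup_of_mem j (Submodule.mem_map.mpr ⟨v j, hv j, ?_⟩)
      rfl
  · intro h0
    exact hc00 ((map_eq_zero (algebraMap K K')).mp h0)

end Groth.Agent.S12526
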