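import Groth.Statements.S12534
import Groth.Agent.FunFld.NonsingRes
import Groth.Agent.FunFld.ScalarExt
import Groth.Agent.FunFld.ConstField
import Groth.Agent.FunFld.Approx
import Groth.Agent.FunFld.RelFundIneq
import Mathlib

set_option autoImplicit false
universe u v
open FunFld

namespace Groth.Agent.S12534

open FunFld WithZero TensorProduct Groth.Agent.FF Groth.Agent.FF.Ext

section Conv

variable {k K K' : Type*} [Field k] [Field K] [Field K'] [Algebra k K] [Algebra K K']
  [Algebra k K'] [IsScalarTower k K K']

/-- membership in the integral closure of the image of `O_P`, in terms of places -/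
lemma mem_integralClosure_map_iff [FiniteDimensional K K'] (hK : IsFunctionField k K)
    (P : Place k K) (w : K') :
    w ∈ integralClosure (P.O.toSubring.map (algebraMap K K')) K' ↔
      ∀ Q : Place k K', IsOver Q P → Q.1 w ≤ 1 := by
  constructor
  · intro hw Q hQ
    obtain ⟨e, he⟩ := hQ
    have hw' : IsIntegral (P.O.toSubring.map (algebraMap K K')) w := hw
    have hle : P.O.toSubring.map (algebraMap K K') ≤ Q.O.toSubring := by
      rintro _ ⟨x, hx, rfl⟩
      exact (le_one_iff he x).mpr hx
    have hQint : Q.1.Integers Q.O := Valuation.valuationSubring.integers Q.1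
    have hint : IsIntegral Q.O w := by
      have := IsIntegral.map_of_comp_eq (Subring.inclusion hle) (RingHom.id K')
        (by ext x; rfl) hw'
      exact this
    exact hQint.mem_of_integral hint
  · intro hw
    let _ : Algebra P.O K' := ((algebraMap K K').comp (algebraMap P.O K)).toAlgebra
    have : IsScalarTower P.O K K' := IsScalarTower.of_algebraMap_eq (fun _ => rfl)
    have h1 : IsIntegral P.O w := isIntegral_of_val_le_one hK P hw
    let φ : P.O →+* (P.O.toSubring.map (algebraMap K K')) :=
      { toFun := fun x => ⟨algebraMap K K' x, ⟨x, x.2, rfl⟩⟩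
        map_one' := by ext; simp
        map_mul' := fun x y => by ext; simp
        map_zero' := by ext; simp
        map_add' := fun x y => by ext; simp }
    have := IsIntegral.map_of_comp_eq φ (RingHom.id K') (by ext x; rfl) h1
    exact this

/-- nonsingularity in terms of places -/
lemma integralClosure_eq_adjoin_iff [FiniteDimensional K K'] (hK : IsFunctionField k K)
    (P : Place k K) {k' : Type*} [Field k'] [Algebra k' K']
    (hint : ∀ (c : k') (Q : Place k K'), IsOver Q P → Q.1 (algebraMap k' K' c) ≤ 1) :
    integralClosure (P.O.toSubring.map (algebraMap K K')) K' =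
        Algebra.adjoin (P.O.toSubring.map (algebraMap K K')) (Set.range (algebraMap k' K')) ↔
      ∀ w : K', (∀ Q : Place k K', IsOver Q P → Q.1 w ≤ 1) →
        w ∈ Algebra.adjoin (P.O.toSubring.map (algebraMap K K')) (Set.range (algebraMap k' K')) := by
  constructor
  · intro h w hw
    rw [← h]
    exact (mem_integralClosure_map_iff hK P w).mpr hw
  · intro h
    apply le_antisymm
    · intro w hw
      exact h w ((mem_integralClosure_map_iff hK P w).mp hw)
    · apply Algebra.adjoin_le
      rintro _ ⟨c, rfl⟩
      exact (mem_integralClosure_map_iff hK P _).mpr (hint c)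

/-- membership in `O_P[k']` in coordinates -/
lemma mem_adjoin_iff_coord (P : Place k K) {k' : Type*} [Field k'] [Algebra k' K']
    {I : Type*} [Fintype I] (B : Module.Basis I K K')
    (hB : ∀ i, B i ∈ Set.range (algebraMap k' K'))
    (hrepr : ∀ (c : k') (i : I), P.1 (B.repr (algebraMap k' K' c) i) ≤ 1) (w : K') :
    w ∈ Algebra.adjoin (P.O.toSubring.map (algebraMap K K')) (Set.range (algebraMap k' K')) ↔
      ∀ i, P.1 (B.repr w i) ≤ 1 := by
  constructor
  · intro hw
    rw [← Subalgebra.mem_toSubmodule, Algebra.adjoin_eq_span] at hw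
    induction hw using Submodule.span_induction with
    | mem x hx =>
      have hx' : x ∈ Set.range (algebraMap k' K') := by
        induction hx using Submonoid.closure_induction with
        | mem y hy => exact hy
        | one => exact ⟨1, map_one _⟩
        | mul a b _ _ ha hb =>
          obtain ⟨a', rfl⟩ := ha
          obtain ⟨b', rfl⟩ := hb
          exact ⟨a' * b', map_mul _ _ _⟩
      obtain ⟨c, rfl⟩ := hx'
      exact hrepr c
    | zero => intro i; simp
    | add x y _ _ hx hy =>
      intro i
      rw [map_add, Finsupp.add_apply]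
      exact (P.1.map_add _ _).trans (max_le (hx i) (hy i))
    | smul o x _ hx =>
      intro i
      obtain ⟨o, y, hy, rfl⟩ := o
      have : (⟨algebraMap K K' y, ⟨y, hy, rfl⟩⟩ : P.O.toSubring.map (algebraMap K K')) • x =
          y • x := by
        rw [Algebra.smul_def y x]; rfl
      rw [this, map_smul, Finsupp.smul_apply, smul_eq_mul, map_mul]
      exact mul_le_one' hy (hx i)
  · intro hw
    rw [← B.sum_repr w]
    apply Subalgebra.sum_mem
    intro i _
    rw [Algebra.smul_def]
    apply Subalgebra.mul_mem
    · exact Subalgebra.algebraMap_mem _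
        (⟨algebraMap K K' (B.repr w i), ⟨B.repr w i, hw i, rfl⟩⟩ :
          P.O.toSubring.map (algebraMap K K'))
    · exact Algebra.subset_adjoin (hB i)

end Conv

section ConstBasis

variable {k k' K K' : Type*} [Field k] [Field k'] [Field K] [Field K']
  [Algebra k k'] [Algebra k K] [Algebra K K'] [Algebra k' K'] [Algebra k K']
  [IsScalarTower k k' K'] [IsScalarTower k K K']

/-- the `K`-linear product map -/
noncomputable def prodK : K ⊗[k] k' →ₐ[K] K' :=
  Algebra.TensorProduct.productLeftAlgHom (Algebra.ofId K K') (IsScalarTower.toAlgHom k k' K')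

lemma prodK_comm (t : k' ⊗[k] K) :
    (prodK : K ⊗[k] k' →ₐ[K] K') (TensorProduct.comm k k' K t) =
      Algebra.TensorProduct.productMap (IsScalarTower.toAlgHom k k' K')
        (IsScalarTower.toAlgHom k K K') t := by
  induction t using TensorProduct.induction_on with
  | zero => simp
  | tmul a c =>
    rw [TensorProduct.comm_tmul, Algebra.TensorProduct.productMap_apply_tmul]
    show (Algebra.ofId K K') c * (IsScalarTower.toAlgHom k k' K') a = _
    rw [mul_comm]
    rfl
  | add s t hs ht => rw [map_add, map_add, map_add, hs, ht]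

lemma prodK_bijective
    (h : Function.Bijective (Algebra.TensorProduct.productMap
      (IsScalarTower.toAlgHom k k' K') (IsScalarTower.toAlgHom k K K'))) :
    Function.Bijective (prodK : K ⊗[k] k' →ₐ[K] K') := by
  have hcomp : (prodK : K ⊗[k] k' →ₐ[K] K') ∘ (TensorProduct.comm k k' K) =
      Algebra.TensorProduct.productMap (IsScalarTower.toAlgHom k k' K')
        (IsScalarTower.toAlgHom k K K') := funext prodK_comm
  have h2 : Function.Bijective ((prodK : K ⊗[k] k' →ₐ[K] K') ∘ (TensorProduct.comm k k' K)) := by
    rw [hcomp]; exact h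
  have h3 := h2.comp (TensorProduct.comm k k' K).symm.bijective
  have h4 : ((prodK : K ⊗[k] k' →ₐ[K] K') ∘ (TensorProduct.comm k k' K)) ∘
      (TensorProduct.comm k k' K).symm = (prodK : K ⊗[k] k' →ₐ[K] K') := by
    ext x; simp
  rwa [h4] at h3

/-- the basis of `K'/K` induced by a basis of `k'/k` -/
noncomputable def constBasis
    (h : Function.Bijective (Algebra.TensorProduct.productMap
      (IsScalarTower.toAlgHom k k' K') (IsScalarTower.toAlgHom k K K')))
    {I : Type*} (b : Module.Basis I k k') : Module.Basis I K K' :=
  (Algebra.TensorProduct.basis K b).map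
    (LinearEquiv.ofBijective (prodK : K ⊗[k] k' →ₐ[K] K').toLinearMap (prodK_bijective h))

lemma constBasis_apply
    (h : Function.Bijective (Algebra.TensorProduct.productMap
      (IsScalarTower.toAlgHom k k' K') (IsScalarTower.toAlgHom k K K')))
    {I : Type*} (b : Module.Basis I k k') (i : I) :
    constBasis h b i = algebraMap k' K' (b i) := by
  simp [constBasis, prodK]

lemma constBasis_repr_algebraMap
    (h : Function.Bijective (Algebra.TensorProduct.productMap
      (IsScalarTower.toAlgHom k k' K') (IsScalarTower.toAlgHom k K K')))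
    {I : Type*} [Fintype I] (b : Module.Basis I k k') (c : k') (i : I) :
    (constBasis h b).repr (algebraMap k' K' c) i = algebraMap k K (b.repr c i) := by
  have hc : algebraMap k' K' c = ∑ i, (algebraMap k K (b.repr c i)) • (constBasis h b) i := by
    conv_lhs => rw [← b.sum_repr c]
    rw [map_sum]
    refine Finset.sum_congr rfl fun i _ => ?_
    rw [constBasis_apply, Algebra.smul_def (b.repr c i) (b i), map_mul,
      ← IsScalarTower.algebraMap_apply k k' K', IsScalarTower.algebraMap_apply k K K',
      Algebra.smul_def]
  rw [hc, Module.Basis.repr_sum_self]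

end ConstBasis

section UpDown

variable {F F' L : Type*} [Field F] [Field F'] [Field L] [Algebra F F'] [Algebra F L]
  [Algebra F' L] [IsScalarTower F F' L]

/-- a place over `F` as a place over an algebraic extension `F'` -/
def up [Algebra.IsAlgebraic F F'] (Q : Place F L) : Place F' L :=
  ⟨Q.1, ⟨fun c => val_le_one_of_isAlgebraic Q
    ((Algebra.IsAlgebraic.isAlgebraic (R := F) c).algebraMap), Q.2.2⟩⟩

/-- a place over `F'` as a place over `F` -/
def down (R : Place F' L) : Place F L :=
  ⟨R.1, ⟨fun c => by
    rw [IsScalarTower.algebraMap_apply F F' L]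
    exact R.2.1 _, R.2.2⟩⟩

end UpDown

section Tower

variable {k K K' K'' : Type*} [Field k] [Field K] [Field K'] [Field K'']
  [Algebra k K] [Algebra K K'] [Algebra k K'] [Algebra K' K''] [Algebra K K''] [Algebra k K'']
  [IsScalarTower k K K'] [IsScalarTower K K' K''] [IsScalarTower k K K''] [IsScalarTower k K' K'']

lemma isOverWith_trans {P : Place k K} {Q : Place k K'} {R : Place k K''} {e₁ e₂ : ℕ}
    (h₁ : IsOverWith R Q e₁) (h₂ : IsOverWith Q P e₂) : IsOverWith R P (e₂ * e₁) := by
  intro x
  rw [IsScalarTower.algebraMap_apply K K' K'', h₁, h₂, pow_mul]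

lemma isOver_trans {P : Place k K} {Q : Place k K'} {R : Place k K''}
    (h₁ : IsOver R Q) (h₂ : IsOver Q P) : IsOver R P := by
  obtain ⟨e₁, h₁⟩ := h₁
  obtain ⟨e₂, h₂⟩ := h₂
  exact ⟨_, isOverWith_trans h₁ h₂⟩

lemma exists_between [Algebra.IsAlgebraic K K'] [Algebra.IsAlgebraic K' K'']
    {P : Place k K} {R : Place k K''} (h : IsOver R P) :
    ∃ (Q : Place k K') (e : ℕ), IsOverWith R Q e ∧ IsOver Q P := by
  obtain ⟨Q, e₁, h₁⟩ := exists_isOverWith_below (K := K') R
  obtain ⟨P₀, e₂, h₂⟩ := exists_isOverWith_below (K := K) Q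
  have h3 : IsOver R P₀ := ⟨_, isOverWith_trans h₁ h₂⟩
  have hP : P = P₀ := unique_below h h3
  subst hP
  exact ⟨Q, e₁, h₁, ⟨e₂, h₂⟩⟩

end Tower

/-- Let `K/k` be a geometric function field of one variable, `P` a place of `K`, and `k ⊆ k' ⊆ k''`
finite extensions, `K' = k' ⊗_k K`, `K'' = k'' ⊗_{k'} K'`. Then `P` is nonsingular with respect to
`k''` if and only if `P` is nonsingular with respect to `k'` and every place `Q` of `K'` above `P`
is nonsingular with respect to `k''`. Here 'nonsingular with respect to `k'`' means that the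
integral closure of the valuation ring in `K'` is the ring generated over it by `k'`, both taken
inside `K'` over the image of the valuation ring. -/
theorem result (k k' k'' : Type u) (K K' K'' : Type v) [Field k] [Field k'] [Field k''] [Field K] [Field K'] [Field K'']
    [Algebra k k'] [Algebra k' k''] [Algebra k k''] [IsScalarTower k k' k'']
    [FiniteDimensional k k'] [FiniteDimensional k' k'']
    [Algebra k K] [Algebra K K'] [Algebra k' K'] [Algebra k K'] [IsScalarTower k k' K'] [IsScalarTower k K K']
    [Algebra K' K''] [Algebra k'' K''] [Algebra k' K''] [Algebra k K''] [Algebra K K'']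
    [IsScalarTower k' k'' K''] [IsScalarTower k' K' K''] [IsScalarTower K K' K''] [IsScalarTower k K K'']
    (h1 : Function.Bijective (Algebra.TensorProduct.productMap
      (IsScalarTower.toAlgHom k k' K') (IsScalarTower.toAlgHom k K K')))
    (h2 : Function.Bijective (Algebra.TensorProduct.productMap
      (IsScalarTower.toAlgHom k' k'' K'') (IsScalarTower.toAlgHom k' K' K'')))
    (hK : FunFld.IsFunctionField k K) (hg : FunFld.IsGeometric k K) (P : FunFld.Place k K) :
    (integralClosure (P.O.toSubring.map (algebraMap K K'')) K'' =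
        Algebra.adjoin (P.O.toSubring.map (algebraMap K K'')) (Set.range (algebraMap k'' K''))) ↔
      (integralClosure (P.O.toSubring.map (algebraMap K K')) K' =
          Algebra.adjoin (P.O.toSubring.map (algebraMap K K')) (Set.range (algebraMap k' K')) ∧
        ∀ Q : FunFld.Place k K', FunFld.IsOver Q P →
          integralClosure (Q.O.toSubring.map (algebraMap K' K'')) K'' =
            Algebra.adjoin (Q.O.toSubring.map (algebraMap K' K'')) (Set.range (algebraMap k'' K''))) := by

  classical
  have T1 : IsScalarTower k k' K'' := IsScalarTower.of_algebraMap_eq (fun c => by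
    rw [IsScalarTower.algebraMap_apply k K K'', IsScalarTower.algebraMap_apply K K' K'',
      ← IsScalarTower.algebraMap_apply k K K', IsScalarTower.algebraMap_apply k k' K',
      ← IsScalarTower.algebraMap_apply k' K' K''])
  have T2 : IsScalarTower k K' K'' := IsScalarTower.of_algebraMap_eq (fun c => by
    rw [IsScalarTower.algebraMap_apply k K K'', IsScalarTower.algebraMap_apply K K' K'',
      ← IsScalarTower.algebraMap_apply k K K'])
  have T3 : IsScalarTower k k'' K'' := IsScalarTower.of_algebraMap_eq (fun c => by
    rw [IsScalarTower.algebraMap_apply k k' K'', IsScalarTower.algebraMap_apply k' k'' K'',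
      ← IsScalarTower.algebraMap_apply k k' k''])
  have hfin'' : FiniteDimensional k k'' := Module.Finite.trans k' k''
  have hK' : IsFunctionField k' K' := isFunctionField_scalar_extension h1 hK hg
  have alg1 : Algebra.IsAlgebraic k k' := Algebra.IsAlgebraic.of_finite k k'
  have alg2 : Algebra.IsAlgebraic k k'' := Algebra.IsAlgebraic.of_finite k k''
  have alg3 : Algebra.IsAlgebraic k' k'' := Algebra.IsAlgebraic.of_finite k' k''
  let b := Module.finBasis k k'
  let c := Module.finBasis k' k''
  let B' : Module.Basis _ K K' := constBasis h1 b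
  let C : Module.Basis _ K' K'' := constBasis h2 c
  let D : Module.Basis _ K K'' := B'.smulTower C
  have fK' : FiniteDimensional K K' := Module.Finite.of_basis B'
  have fK'' : FiniteDimensional K' K'' := Module.Finite.of_basis C
  have fKK'' : FiniteDimensional K K'' := Module.Finite.of_basis D
  have aK' : Algebra.IsAlgebraic K K' := Algebra.IsAlgebraic.of_finite K K'
  have aK'' : Algebra.IsAlgebraic K' K'' := Algebra.IsAlgebraic.of_finite K' K''
  -- integrality of constants
  have hint1 : ∀ (x : k') (Q : Place k K'), Q.1 (algebraMap k' K' x) ≤ 1 :=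
    fun x Q => val_le_one_of_isAlgebraic Q
      ((Algebra.IsAlgebraic.isAlgebraic (R := k) x).algebraMap)
  have hint2 : ∀ (x : k'') (R : Place k K''), R.1 (algebraMap k'' K'' x) ≤ 1 :=
    fun x R => val_le_one_of_isAlgebraic R
      ((Algebra.IsAlgebraic.isAlgebraic (R := k) x).algebraMap)
  have hint3 : ∀ (x : k'') (R : Place k' K''), R.1 (algebraMap k'' K'' x) ≤ 1 :=
    fun x R => val_le_one_of_isAlgebraic R
      ((Algebra.IsAlgebraic.isAlgebraic (R := k') x).algebraMap)
  -- bases
  have hB' : ∀ i, B' i ∈ Set.range (algebraMap k' K') :=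
    fun i => ⟨b i, (constBasis_apply h1 b i).symm⟩
  have hreprB' : ∀ (x : k') i, P.1 (B'.repr (algebraMap k' K' x) i) ≤ 1 := by
    intro x i
    rw [constBasis_repr_algebraMap]
    exact P.2.1 _
  have hC : ∀ j, C j ∈ Set.range (algebraMap k'' K'') :=
    fun j => ⟨c j, (constBasis_apply h2 c j).symm⟩
  have hreprC : ∀ (Q : Place k K') (x : k'') j, Q.1 (C.repr (algebraMap k'' K'' x) j) ≤ 1 := by
    intro Q x j
    rw [constBasis_repr_algebraMap]
    exact hint1 _ Q
  have hDrepr : ∀ (w : K'') i j, D.repr w (i, j) = B'.repr (C.repr w j) i :=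
    fun w i j => Module.Basis.smulTower_repr B' C w (i, j)
  have hD : ∀ ij, D ij ∈ Set.range (algebraMap k'' K'') := by
    rintro ⟨i, j⟩
    refine ⟨algebraMap k' k'' (b i) * c j, ?_⟩
    have : D (i, j) = B' i • C j := Module.Basis.smulTower_apply B' C (i, j)
    rw [this, Algebra.smul_def, constBasis_apply, constBasis_apply, map_mul,
      ← IsScalarTower.algebraMap_apply k' K' K'', ← IsScalarTower.algebraMap_apply k' k'' K'']
  have hreprD : ∀ (x : k'') ij, P.1 (D.repr (algebraMap k'' K'' x) ij) ≤ 1 := by
    rintro x ⟨i, j⟩
    rw [hDrepr, constBasis_repr_algebraMap, constBasis_repr_algebraMap]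
    exact P.2.1 _
  -- the three translations
  have e1 := (integralClosure_eq_adjoin_iff (K' := K') hK P (k' := k')
      (fun x Q _ => hint1 x Q)).trans
    (forall_congr' fun w => imp_congr_right fun _ => mem_adjoin_iff_coord P B' hB' hreprB' w)
  have e2 := (integralClosure_eq_adjoin_iff (K' := K'') hK P (k' := k'')
      (fun x R _ => hint2 x R)).trans
    (forall_congr' fun w => imp_congr_right fun _ => mem_adjoin_iff_coord P D hD hreprD w)
  have e3 : ∀ Q : Place k K',
      (integralClosure (Q.O.toSubring.map (algebraMap K' K'')) K'' =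
        Algebra.adjoin (Q.O.toSubring.map (algebraMap K' K''))
          (Set.range (algebraMap k'' K'')) ↔
      ∀ z : K'', (∀ R : Place k' K'', IsOver R (up Q : Place k' K') → R.1 z ≤ 1) →
        ∀ j, Q.1 (C.repr z j) ≤ 1) := fun Q =>
    (integralClosure_eq_adjoin_iff (K' := K'') hK' (up Q : Place k' K') (k' := k'')
      (fun x R _ => hint3 x R)).trans
    (forall_congr' fun w => imp_congr_right fun _ =>
      mem_adjoin_iff_coord (up Q : Place k' K') C hC (hreprC Q) w)
  rw [e1, e2]
  simp only [e3]
  have memB' := fun w => mem_adjoin_iff_coord P B' hB' hreprB' w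
  constructor
  · intro hN''
    refine ⟨?_, ?_⟩
    · -- nonsingularity with respect to `k'`
      intro w hw
      have h1 : ∀ R : Place k K'', IsOver R P → R.1 (algebraMap K' K'' w) ≤ 1 := by
        intro R hR
        obtain ⟨Q, e, hRQ, hQP⟩ := exists_between (K' := K') hR
        rw [hRQ w]
        exact pow_le_one' (hw Q hQP) e
      have g2 := hN'' _ h1
      have hone : c.repr (1 : k'') ≠ 0 := (LinearEquiv.map_ne_zero_iff _).mpr one_ne_zero
      obtain ⟨j₀, hj₀⟩ : ∃ j, c.repr 1 j ≠ 0 := by
        by_contra hcon
        push Not at hcon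
        exact hone (Finsupp.ext fun j => by simpa using hcon j)
      have h3 : C.repr (algebraMap K' K'' w) j₀ = w * algebraMap k' K' (c.repr 1 j₀) := by
        have hw1 : algebraMap K' K'' w = w • (algebraMap k'' K'' 1) := by
          rw [map_one, Algebra.smul_def, mul_one]
        rw [hw1, map_smul, Finsupp.smul_apply, constBasis_repr_algebraMap h2 c 1 j₀, smul_eq_mul]
      have h4 : w * algebraMap k' K' (c.repr 1 j₀) ∈
          Algebra.adjoin (P.O.toSubring.map (algebraMap K K')) (Set.range (algebraMap k' K')) := by
        rw [memB']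
        intro i
        have := g2 (i, j₀)
        rwa [hDrepr, h3] at this
      have h5 : w ∈
          Algebra.adjoin (P.O.toSubring.map (algebraMap K K')) (Set.range (algebraMap k' K')) := by
        have hw2 : w = (w * algebraMap k' K' (c.repr 1 j₀)) * algebraMap k' K' (c.repr 1 j₀)⁻¹ := by
          rw [mul_assoc, ← map_mul, mul_inv_cancel₀ hj₀, map_one, mul_one]
        rw [hw2]
        exact Subalgebra.mul_mem _ h4 (Algebra.subset_adjoin ⟨_, rfl⟩)
      exact (memB' w).mp h5
    · -- nonsingularity of the places above `P`
      intro Q hQ z hz j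
      have hS : {Q' : Place k K' | IsOver Q' P}.Finite := finite_isOver P
      have hT : {R : Place k K'' | IsOver R P}.Finite := finite_isOver P
      have hbound : ∀ R : Place k K'', ∃ n : ℕ, R.1 z ≤ exp (n : ℤ) := by
        intro R
        by_cases hz0 : z = 0
        · exact ⟨0, by simp [hz0]⟩
        · refine ⟨(-R.ord z).toNat, ?_⟩
          rw [val_le_exp_iff R hz0]
          omega
      choose n hn using hbound
      set N := hT.toFinset.sup n with hNdef
      have hN : ∀ R : Place k K'', IsOver R P → R.1 z ≤ exp (N : ℤ) := by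
        intro R hR
        refine (hn R).trans (exp_le_exp.mpr ?_)
        have : n R ≤ N := Finset.le_sup (f := n) (hT.mem_toFinset.mpr hR)
        exact_mod_cast this
      have hfinS : Finite {Q' : Place k K' | IsOver Q' P} := hS.to_subtype
      obtain ⟨t, ht⟩ := weak_approx (fun i : {Q' : Place k K' | IsOver Q' P} => i.1)
        Subtype.val_injective (fun i => if i.1 = Q then 1 else 0) (-(N : ℤ))
      have hexp : exp (-(N : ℤ)) ≤ (1 : ℤᵐ⁰) := by
        rw [← exp_zero]; exact exp_le_exp.mpr (by omega)
      have htQ : Q.1 t = 1 := by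
        have h := ht ⟨Q, hQ⟩
        simp only [if_pos] at h
        have h' : Q.1 (t - 1) < 1 := h.trans_le hexp
        have : t = 1 + (t - 1) := by ring
        rw [this]
        exact Q.1.map_one_add_of_lt h'
      have htQ' : ∀ Q' : Place k K', IsOver Q' P → Q' ≠ Q → Q'.1 t ≤ exp (-(N : ℤ)) := by
        intro Q' hQ' hne
        have h := ht ⟨Q', hQ'⟩
        simp only [if_neg hne, sub_zero] at h
        exact h.le
      have hw : ∀ R : Place k K'', IsOver R P → R.1 (algebraMap K' K'' t * z) ≤ 1 := by
        intro R hR
        obtain ⟨Q₀, e, hRQ, hQP⟩ := exists_between (K' := K') hR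
        rw [map_mul, hRQ t]
        by_cases hQ₀ : Q₀ = Q
        · subst hQ₀
          rw [htQ, one_pow, one_mul]
          exact hz (up R) ⟨e, hRQ⟩
        · have he : 0 < e := e_pos hRQ
          have hle1 : Q₀.1 t ≤ 1 := (htQ' Q₀ hQP hQ₀).trans hexp
          have h1 : Q₀.1 t ^ e ≤ exp (-(N : ℤ)) := by
            calc Q₀.1 t ^ e ≤ Q₀.1 t ^ 1 := pow_le_pow_right_of_le_one' hle1 he
              _ = Q₀.1 t := pow_one _
              _ ≤ _ := htQ' Q₀ hQP hQ₀
          calc Q₀.1 t ^ e * R.1 z ≤ exp (-(N : ℤ)) * exp (N : ℤ) := mul_le_mul' h1 (hN R hR)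
            _ = 1 := by rw [← exp_add]; simp
      have g2 := hN'' _ hw
      have h3 : C.repr (algebraMap K' K'' t * z) j = t * C.repr z j := by
        rw [← Algebra.smul_def, map_smul, Finsupp.smul_apply, smul_eq_mul]
      have h4 : Q.1 (t * C.repr z j) ≤ 1 := by
        rw [← B'.sum_repr (t * C.repr z j)]
        apply Valuation.map_sum_le
        intro i _
        rw [Algebra.smul_def, map_mul]
        obtain ⟨e, he⟩ := hQ
        apply mul_le_one'
        · rw [le_one_iff he]
          have := g2 (i, j)
          rwa [hDrepr, h3] at this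
        · rw [constBasis_apply]
          exact hint1 _ Q
      rwa [map_mul, htQ, one_mul] at h4
  · rintro ⟨hN', hNQ⟩ w hw ⟨i, j⟩
    rw [hDrepr]
    apply hN' (C.repr w j)
    intro Q hQ
    apply hNQ Q hQ w
    intro R hR
    have hR' : IsOver (down R : Place k K'') Q := hR
    exact hw (down R) (isOver_trans hR' hQ)

end Groth.Agent.S12534
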