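import Groth.Statements.S12535
import Groth.Agent.FunFld.Quadratic
import Groth.Agent.FunFld.RatFuncPlaces

set_option autoImplicit false
open FunFld

namespace Groth.Agent.S12535

/-- Let `char k ≠ 2`, `K` of degree `2` over `k(x)`, and `y ∈ K` with `y² = f(x)`, `f` a squarefree
polynomial of degree `≥ 1`. Then a place `P` of `K` is a zero of `y` exactly when it lies over a
finite place of `k(x)` where `f` has a zero, and in that case `ord_P(y) = 1`: the divisor of zeros
of `y` is `Σ P_i`, one place over each irreducible factor of `f`, with multiplicity one. -/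
theorem result (k K : Type*) [Field k] [Field K] (h2 : ringChar k ≠ 2) [Algebra k K]
    [Algebra (RatFunc k) K] [IsScalarTower k (RatFunc k) K]
    (hdeg : Module.finrank (RatFunc k) K = 2) (y : K) (f : Polynomial k) (hf : Squarefree f)
    (hd : 1 ≤ f.natDegree)
    (heq : y ^ 2 = algebraMap (RatFunc k) K (algebraMap (Polynomial k) (RatFunc k) f)) (P : FunFld.Place k K) :
    (0 < P.ord y → P.ord y = 1) ∧
    (0 < P.ord y ↔ ∃ P₀ : FunFld.Place k (RatFunc k), FunFld.IsOver P P₀ ∧ 0 ≤ P₀.ord (RatFunc.X : RatFunc k) ∧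
      0 < P₀.ord (algebraMap (Polynomial k) (RatFunc k) f)) := by
  haveI : FiniteDimensional (RatFunc k) K := FiniteDimensional.of_finrank_pos (by rw [hdeg]; norm_num)
  have hf0 : f ≠ 0 := hf.ne_zero
  have hιf0 : algebraMap (Polynomial k) (RatFunc k) f ≠ 0 :=
    Groth.Agent.FF.ratFunc_algebraMap_ne_zero hf0
  have hX0 : (RatFunc.X : RatFunc k) ≠ 0 := RatFunc.X_ne_zero
  -- the key relation
  have hkey : ∀ (P₀ : FunFld.Place k (RatFunc k)) (e : ℕ), FunFld.IsOverWith P P₀ e →
      2 * P.ord y = e * P₀.ord (algebraMap (Polynomial k) (RatFunc k) f) := by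
    intro P₀ e he
    have h1 := Groth.Agent.FF.Ext.ord_eq he (algebraMap (Polynomial k) (RatFunc k) f)
    rw [← heq, Groth.Agent.FF.ord_pow] at h1
    push_cast at h1
    exact h1
  obtain ⟨P₀, e, he⟩ := Groth.Agent.FF.Ext.exists_isOverWith_below (K := RatFunc k) P
  have hepos := Groth.Agent.FF.Ext.e_pos he
  have hpos_iff : 0 < P.ord y → 0 < P₀.ord (algebraMap (Polynomial k) (RatFunc k) f) := by
    intro hy
    have h1 := hkey P₀ e he
    by_contra hcon
    push Not at hcon
    have : (e : ℤ) * P₀.ord (algebraMap (Polynomial k) (RatFunc k) f) ≤ 0 :=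
      mul_nonpos_of_nonneg_of_nonpos (by positivity) hcon
    omega
  refine ⟨fun hy => ?_, ⟨fun hy => ⟨P₀, ⟨e, he⟩, ?_, hpos_iff hy⟩, ?_⟩⟩
  · have hfP := hpos_iff hy
    rw [← Groth.Agent.FF.val_lt_one_iff P₀ hιf0] at hfP
    have h1 := hkey P₀ e he
    rw [Groth.Agent.FF.ratFunc_ord_squarefree' P₀ hf hfP] at h1
    have h2 := Groth.Agent.FF.Ext.ramIdx_le_two hdeg he
    omega
  · have hfP := hpos_iff hy
    rw [← Groth.Agent.FF.val_lt_one_iff P₀ hιf0] at hfP
    have hX := Groth.Agent.FF.ratFunc_val_X_le_one P₀ hf0 hfP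
    rwa [Groth.Agent.FF.val_le_one_iff P₀ hX0] at hX
  · rintro ⟨P₁, ⟨e₁, he₁⟩, -, hf1⟩
    have h1 := hkey P₁ e₁ he₁
    have he₁pos := Groth.Agent.FF.Ext.e_pos he₁
    have : (0 : ℤ) < (e₁ : ℤ) * P₁.ord (algebraMap (Polynomial k) (RatFunc k) f) :=
      mul_pos (by exact_mod_cast he₁pos) hf1
    omega

end Groth.Agent.S12535
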