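import Groth.Statements.S12540
import Groth.Agent.Lib.Helper41.FibreTriv
import Groth.Agent.Lib.Helper41.FiniteQuotient
import Groth.Agent.Lib.Helper41.HomFlat
import Groth.Agent.Lib.Helper41.ReducedLift
import Groth.Agent.Lib.Helper41.ClosedPointKPoint
import Groth.Agent.Lib.Helper1.AffineAndDescent
import Groth.Agent.S0021

set_option autoImplicit false
universe u
open CategoryTheory MonoidalCategory CartesianMonoidalCategory MonObj GrpObj AlgebraicGeometry
open AlgGrp

namespace Groth.Agent.S12540

/-- Over an algebraically closed field k, let G be an algebraic group (a smooth k-group scheme of finite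
type), h : H → G a closed subgroup scheme, and h' : H' → H a closed subgroup scheme of H which is
reduced with the same underlying space as H (the reduced subgroup scheme H_red; it is a subgroup of
G through h' ≫ h). Let X, with its G-action and base point, be the quotient G/H, and X' the quotient
G/H' (each locally of finite type over k, with flat surjective orbit map identifying G × H with G
×_X G, respectively G × H' with G ×_{X'} G). Then X is affine if and only if X' is affine. (The
published statement adds the same equivalence with the identity component of H_red; that clause is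
not stated here.) -/
theorem result (k : Type u) [Field k] [IsAlgClosed k]
    (G : Over (Spec (CommRingCat.of k))) [GrpObj G] [Smooth G.hom] [QuasiCompact G.hom]
    (H : Over (Spec (CommRingCat.of k))) [GrpObj H] (h : H ⟶ G) [IsMonHom h] [IsClosedImmersion h.left]
    (H' : Over (Spec (CommRingCat.of k))) [GrpObj H'] (h' : H' ⟶ H) [IsMonHom h'] [IsClosedImmersion h'.left]
    [Surjective h'.left] [IsReduced H'.left]
    (X : Over (Spec (CommRingCat.of k))) (a : AlgGrp.Action G X) (o : 𝟙_ (Over (Spec (CommRingCat.of k))) ⟶ X)
    (hX : AGF.IsQuotient h X a o)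
    (X' : Over (Spec (CommRingCat.of k))) (a' : AlgGrp.Action G X') (o' : 𝟙_ (Over (Spec (CommRingCat.of k))) ⟶ X')
    (hX' : AGF.IsQuotient (h' ≫ h) X' a' o') :
    IsAffine X.left ↔ IsAffine X'.left := by
  classical
  have hGlft : LocallyOfFiniteType G.hom := inferInstance
  have hXlft : LocallyOfFiniteType X.hom := hX.1
  have hX'lft : LocallyOfFiniteType X'.hom := hX'.1
  have hπflat : Flat (a.orbitMap o).left := hX.2.1
  have hπsurj : Surjective (a.orbitMap o).left := hX.2.2.1
  have hπ'surj : Surjective (a'.orbitMap o').left := hX'.2.2.1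
  -- the morphism `f : X' ⟶ X`
  obtain ⟨f, hfπ, -⟩ := Groth.Agent.Lib.Helper41.QuotientPoints.exists_desc hX' (a.orbitMap o) (by
    intro T g h₁
    rw [← Category.assoc h₁]
    exact Groth.Agent.Lib.Helper41.QuotientPoints.orbit_mul_right hX g (h₁ ≫ h'))
  have hfeq : a'.act ≫ f = (G ◁ f) ≫ a.act :=
    Groth.Agent.Lib.Helper41.QuotientTower.act_comp_eq hX' a o f hfπ
  -- the fibre of `f` over `o`
  let F : Over (Spec (CommRingCat.of k)) := Limits.pullback f o
  let j : F ⟶ X' := Limits.pullback.fst f o
  have hF : IsPullback j (toUnit F) f o := by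
    have := IsPullback.of_hasPullback f o
    rwa [toUnit_unique (Limits.pullback.snd f o) (toUnit F)] at this
  have hpb := Groth.Agent.Lib.Helper41.FibreTriv.isPullback_fibre a' a f hfeq o j hF
  have hjmono : Mono j := Groth.Agent.Lib.Helper41.FibreTriv.mono_of_isPullback_pt f o j hF
  -- `F` is locally of finite type over `k`
  have hjS : IsPullback j.left (toUnit F).left f.left o.left := hF.map (Over.forget _)
  have holft : LocallyOfFiniteType o.left := by
    have h1 : LocallyOfFiniteType (o.left ≫ X.hom) := by
      rw [Over.w o]
      change LocallyOfFiniteType (𝟙 _)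
      infer_instance
    exact locallyOfFiniteType_of_comp o.left X.hom
  have hjlft : LocallyOfFiniteType j.left :=
    MorphismProperty.of_isPullback (P := @LocallyOfFiniteType) hjS.flip holft
  have hFlft : LocallyOfFiniteType F.hom := by
    rw [← Over.w j]
    infer_instance
  -- every `k`-point of `F` is the base point
  let T : Over (Spec (CommRingCat.of k)) := Groth.Agent.Lib.Helper41.TransitiveFlat.SpK k k
  have hTred : IsReduced T.left := inferInstanceAs (IsReduced (Spec (CommRingCat.of k)))
  have hπ'lft : LocallyOfFiniteType (a'.orbitMap o').left := by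
    have h1 : LocallyOfFiniteType ((a'.orbitMap o').left ≫ X'.hom) := by
      rw [Over.w (a'.orbitMap o')]
      infer_instance
    exact locallyOfFiniteType_of_comp _ X'.hom
  have claimA : ∀ t : T ⟶ F, t ≫ j = toUnit T ≫ o' := by
    intro t
    have hy : (t ≫ j) ≫ f = toUnit T ≫ o := by
      rw [Category.assoc, hF.w, ← Category.assoc, toUnit_unique (t ≫ toUnit F) (toUnit T)]
    obtain ⟨g, hg⟩ := Groth.Agent.Lib.Helper41.HomFlat.exists_kpoint_lift_of_surjective k k
      (a'.orbitMap o') (t ≫ j)
    have hgπ : (1 : T ⟶ G) ≫ a.orbitMap o = g ≫ a.orbitMap o := by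
      rw [Groth.Agent.Lib.Helper41.QuotientPoints.one_orbit, ← hfπ, ← Category.assoc, hg, hy]
    obtain ⟨h₀, hh₀⟩ := Groth.Agent.Lib.Helper41.QuotientPoints.exists_of_orbit_eq hX 1 g hgπ
    rw [_root_.one_mul] at hh₀
    obtain ⟨h₁, hh₁⟩ := Groth.Agent.Lib.Helper41.ReducedLift.exists_over_lift_of_isReduced h' h₀
    rw [← hg, hh₀, ← hh₁, Category.assoc]
    exact Groth.Agent.Lib.Helper41.QuotientPoints.orbit_stab hX' h₁
  -- `F` has at most one point
  have hsub : Subsingleton F.left := by
    have hJ : JacobsonSpace F.left := LocallyOfFiniteType.jacobsonSpace (Y := Spec _) F.hom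
    let pt : T.left := IsLocalRing.closedPoint k
    have hcl : ∀ x y : F.left, x ∈ closedPoints F.left → y ∈ closedPoints F.left → x = y := by
      intro x y hx hy
      obtain ⟨tx, htx⟩ := Groth.Agent.Lib.Helper41.ClosedPointKPoint.exists_point_of_isClosed k k F x
        (mem_closedPoints_iff.mp hx)
      obtain ⟨ty, hty⟩ := Groth.Agent.Lib.Helper41.ClosedPointKPoint.exists_point_of_isClosed k k F y
        (mem_closedPoints_iff.mp hy)
      have hxy : tx = ty := by
        rw [← cancel_mono j]
        exact (claimA tx).trans (claimA ty).symm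
      rw [← htx pt, ← hty pt, hxy]
    refine ⟨fun p q => ?_⟩
    have h1 : closure (closedPoints F.left) = Set.univ := closure_closedPoints
    have hp : p ∈ closure (closedPoints F.left) := by rw [h1]; trivial
    obtain ⟨x, hx⟩ : (closedPoints F.left).Nonempty := by
      by_contra hne
      rw [Set.not_nonempty_iff_eq_empty] at hne
      rw [hne, closure_empty] at hp
      exact hp
    have hsing : closedPoints F.left = {x} :=
      Set.eq_singleton_iff_unique_mem.mpr ⟨hx, fun y hy => hcl y x hy hx⟩
    have hxcl : IsClosed ({x} : Set F.left) := mem_closedPoints_iff.mp hx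
    rw [hsing, hxcl.closure_eq] at h1
    have hp' : p ∈ ({x} : Set F.left) := by rw [h1]; trivial
    have hq' : q ∈ ({x} : Set F.left) := by rw [h1]; trivial
    rw [Set.mem_singleton_iff] at hp' hq'
    rw [hp', hq']
  have hFfin : Finite F.left := Finite.of_subsingleton
  have hFfinite : IsFinite F.hom := Groth.Agent.Lib.Helper41.FiniteQuotient.isFinite_of_finite F
  have hfstfin : IsFinite (fst G F).left := by
    rw [Over.fst_left]
    exact MorphismProperty.of_isPullback (P := @IsFinite)
      (IsPullback.of_hasPullback G.hom F.hom).flip hFfinite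
  -- descend finiteness along the orbit map
  have hGnoeth : IsLocallyNoetherian G.left := LocallyOfFiniteType.isLocallyNoetherian G.hom
  have hGc : CompactSpace G.left := QuasiCompact.compactSpace_of_compactSpace G.hom
  have hGn : IsNoetherian G.left := {}
  have hXnoeth : IsLocallyNoetherian X.left := LocallyOfFiniteType.isLocallyNoetherian X.hom
  have hπqc : QuasiCompact (a.orbitMap o).left := inferInstance
  have hQ : (@Surjective ⊓ @Flat ⊓ @QuasiCompact : MorphismProperty Scheme) (a.orbitMap o).left :=
    ⟨⟨hπsurj, hπflat⟩, hπqc⟩
  have hpbS : IsPullback ((G ◁ j) ≫ a'.act).left (fst G F).left f.left (a.orbitMap o).left :=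
    hpb.map (Over.forget _)
  have hdesc := Groth.Agent.Lib.Helper1.descendsAlong_isFinite_fpqc.{u}
  have hffin : IsFinite f.left :=
    MorphismProperty.of_isPullback_of_descendsAlong (P := @IsFinite)
      (Q := (@Surjective ⊓ @Flat ⊓ @QuasiCompact : MorphismProperty Scheme)) hpbS.flip hQ hfstfin
  have hfsurj : Surjective f.left := by
    have h1 : Surjective ((a'.orbitMap o').left ≫ f.left) := by
      rw [← Over.comp_left, hfπ]
      exact hπsurj
    exact Surjective.of_comp (f := (a'.orbitMap o').left) (g := f.left)
  have hXc : CompactSpace X.left := by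
    rw [← isCompact_univ_iff, ← (a.orbitMap o).left.surjective.range_eq]
    exact isCompact_range (a.orbitMap o).left.continuous
  have hXn : IsNoetherian X.left := {}
  constructor
  · intro hXaff
    exact isAffine_of_isAffineHom f.left
  · intro hX'aff
    exact Groth.Agent.S0021.result f.left

end Groth.Agent.S12540
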