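import Groth.Statements.S12549
import Mathlib
-- import your own Groth.Agent.* helpers here

set_option autoImplicit false
universe u
open GIT

namespace Groth.Agent.S12549

/-- trapezoid sum along a list of indices. -/
def trap (x r : ℕ → ℝ) : List ℕ → ℝ
  | [] => 0
  | [_] => 0
  | a :: b :: l => (x b - x a) * (r b + r a) + trap x r (b :: l)

/-- last element of `a :: l`. -/
def lst : ℕ → List ℕ → ℕ
  | a, [] => a
  | _, b :: l => lst b l

@[simp] lemma trap_single (x r : ℕ → ℝ) (a : ℕ) : trap x r [a] = 0 := by rw [trap]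
@[simp] lemma trap_cons_cons (x r : ℕ → ℝ) (a b : ℕ) (l : List ℕ) :
    trap x r (a :: b :: l) = (x b - x a) * (r b + r a) + trap x r (b :: l) := by rw [trap]
@[simp] lemma lst_nil (a : ℕ) : lst a [] = a := by rw [lst]
@[simp] lemma lst_cons (a b : ℕ) (l : List ℕ) : lst a (b :: l) = lst b l := by rw [lst]

lemma trap_sub (x y r : ℕ → ℝ) (l : List ℕ) :
    trap (fun i => x i - y i) r l = trap x r l - trap y r l := by
  induction l with
  | nil => simp [trap]
  | cons a l ih =>
    cases l with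
    | nil => simp
    | cons b l =>
      simp only [trap_cons_cons]
      rw [ih]
      ring

lemma trap_ge (D r : ℕ → ℝ) (hD : ∀ i, 0 ≤ D i) (hr : Antitone r) :
    ∀ (l : List ℕ) (a : ℕ), (a :: l).Pairwise (· < ·) →
      2 * (D (lst a l) * r (lst a l) - D a * r a) ≤ trap D r (a :: l) := by
  intro l
  induction l with
  | nil => intro a _; simp
  | cons b l ih =>
    intro a hp
    rw [List.pairwise_cons] at hp
    have hab : a < b := hp.1 b (by simp)
    have h1 := ih b hp.2
    have h2 : r b ≤ r a := hr hab.le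
    simp only [trap_cons_cons, lst_cons]
    nlinarith [mul_nonneg (add_nonneg (hD a) (hD b)) (sub_nonneg.mpr h2)]

lemma exists_fin_chain (x r : ℕ → ℝ) : ∀ (l : List ℕ) (a : ℕ), (a :: l).Pairwise (· < ·) →
    ∃ (μ : ℕ) (c : Fin (μ + 1) → ℕ), StrictMono c ∧ c 0 = a ∧ c (Fin.last μ) = lst a l ∧
      ∑ j : Fin μ, (x (c j.succ) - x (c j.castSucc)) * (r (c j.succ) + r (c j.castSucc)) =
        trap x r (a :: l) := by
  intro l
  induction l with
  | nil =>
    intro a _
    exact ⟨0, fun _ => a, Fin.strictMono_iff_lt_succ.mpr (fun i => i.elim0), rfl, rfl, by simp⟩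
  | cons b l ih =>
    intro a hp
    rw [List.pairwise_cons] at hp
    have hab : a < b := hp.1 b (by simp)
    obtain ⟨μ, c, hc, hc0, hcl, hsum⟩ := ih b hp.2
    refine ⟨μ + 1, (Fin.cons a c : Fin (μ + 1 + 1) → ℕ), ?_, ?_, ?_, ?_⟩
    · rw [Fin.strictMono_iff_lt_succ]
      intro i
      refine Fin.cases ?_ (fun j => ?_) i
      · simp [hc0, hab]
      · rw [← Fin.succ_castSucc, Fin.cons_succ, Fin.cons_succ]
        exact hc (Fin.castSucc_lt_succ (i := j))
    · simp
    · rw [← Fin.succ_last, Fin.cons_succ, hcl, lst_cons]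
    · rw [Fin.sum_univ_succ, trap_cons_cons, ← hsum]
      congr 1
      simp [hc0]

lemma sum_Ico_telescope (G : ℕ → ℝ) (a : ℕ) : ∀ b, a ≤ b →
    ∑ i ∈ Finset.Ico a b, (G (i + 1) - G i) = G b - G a := by
  intro b hab
  induction b, hab using Nat.le_induction with
  | base => simp
  | succ b hab ih => rw [Finset.sum_Ico_succ_top hab, ih]; ring

lemma hull (x r : ℕ → ℝ) (hx : StrictMono x) (n : ℕ) :
    ∀ (k a : ℕ), a + k = n → ∃ (l : List ℕ) (ρ : ℕ → ℝ),
      (a :: l).Pairwise (· < ·) ∧ lst a l = n ∧ ρ a = r a ∧ ρ n = r n ∧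
      (∀ i, a ≤ i → i ≤ n → ρ i ≤ r i) ∧
      (∀ i, a ≤ i → i + 2 ≤ n →
        (ρ (i + 1) - ρ i) * (x (i + 2) - x (i + 1)) ≤
          (ρ (i + 2) - ρ (i + 1)) * (x (i + 1) - x i)) ∧
      (∀ α β : ℝ, (∀ i, a ≤ i → i ≤ n → α + β * x i ≤ r i) →
        ∀ i, a ≤ i → i ≤ n → α + β * x i ≤ ρ i) ∧
      trap x r (a :: l) = ∑ i ∈ Finset.Ico a n, (x (i + 1) - x i) * (ρ (i + 1) + ρ i) := by
  intro k
  induction k using Nat.strong_induction_on with
  | _ k ih =>
    intro a hak
    rcases Nat.eq_zero_or_pos k with hk0 | hkpos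
    · have han : a = n := by omega
      subst han
      refine ⟨[], r, by simp, rfl, rfl, rfl, fun i _ _ => le_rfl, ?_, fun α β h => h, by simp⟩
      intro i h1 h2; omega
    · have han : a < n := by omega
      let σ : ℕ → ℝ := fun b => (r b - r a) / (x b - x a)
      have hne : (Finset.Ioc a n).Nonempty := ⟨n, Finset.mem_Ioc.mpr ⟨han, le_rfl⟩⟩
      obtain ⟨b, hb, hmin⟩ := Finset.exists_min_image (Finset.Ioc a n) σ hne
      rw [Finset.mem_Ioc] at hb
      obtain ⟨hab, hbn⟩ := hb
      obtain ⟨s₀, hs₀⟩ : ∃ s₀ : ℝ, s₀ = σ b := ⟨_, rfl⟩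
      have hxpos : ∀ i, a < i → 0 < x i - x a := fun i hi => sub_pos.mpr (hx hi)
      have hline : ∀ i, a < i → i ≤ n → r a + s₀ * (x i - x a) ≤ r i := by
        intro i hai hin
        have h1 : s₀ ≤ σ i := hs₀ ▸ hmin i (Finset.mem_Ioc.mpr ⟨hai, hin⟩)
        have h2 : σ i * (x i - x a) = r i - r a := div_mul_cancel₀ _ (hxpos i hai).ne'
        have h3 := mul_le_mul_of_nonneg_right h1 (hxpos i hai).le
        linarith
      have hlineb : r a + s₀ * (x b - x a) = r b := by
        have h2 : s₀ * (x b - x a) = r b - r a := by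
          rw [hs₀]; exact div_mul_cancel₀ _ (hxpos b hab).ne'
        linarith
      obtain ⟨l', ρ', hp', hl', hρb, hρn, hle', hconv', hmino', htrap'⟩ :=
        ih (n - b) (by omega) b (by omega)
      obtain ⟨line, hline_def⟩ : ∃ line : ℕ → ℝ, ∀ i, line i = r a + s₀ * (x i - x a) :=
        ⟨fun i => r a + s₀ * (x i - x a), fun i => rfl⟩
      obtain ⟨ρ, hρ_lt, hρ_ge⟩ : ∃ ρ : ℕ → ℝ, (∀ i, i < b → ρ i = line i) ∧
          (∀ i, b ≤ i → ρ i = ρ' i) :=
        ⟨fun i => if i < b then line i else ρ' i, fun i hi => if_pos hi,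
          fun i hi => if_neg (not_lt.mpr hi)⟩
      have hρ_b : ρ b = line b := by rw [hρ_ge b le_rfl, hρb, hline_def]; exact hlineb.symm
      have hρ_le : ∀ i, i ≤ b → ρ i = line i := by
        intro i hi
        rcases hi.lt_or_eq with h | h
        · exact hρ_lt i h
        · rw [h]; exact hρ_b
      refine ⟨b :: l', ρ, ?_, ?_, ?_, ?_, ?_, ?_, ?_, ?_⟩
      · rw [List.pairwise_cons]
        refine ⟨?_, hp'⟩
        intro c hc
        rcases List.mem_cons.mp hc with rfl | hc
        · exact hab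
        · exact hab.trans ((List.pairwise_cons.mp hp').1 c hc)
      · rw [lst_cons]; exact hl'
      · rw [hρ_lt a hab, hline_def]; ring
      · rw [hρ_ge n hbn]; exact hρn
      · intro i hai hin
        by_cases hib : i < b
        · rw [hρ_lt i hib, hline_def]
          rcases hai.lt_or_eq with h | h
          · exact hline i h hin
          · subst h; simp
        · rw [hρ_ge i (not_lt.mp hib)]
          exact hle' i (not_lt.mp hib) hin
      · intro i hai hin
        rcases Nat.lt_trichotomy (i + 1) b with h | h | h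
        · rw [hρ_le i (by omega), hρ_le (i+1) (by omega), hρ_le (i+2) (by omega)]
          simp only [hline_def]
          apply le_of_eq; ring
        · have hmin1 : line (i + 2) ≤ ρ' (i + 2) := by
            have := hmino' (r a - s₀ * x a) s₀ (fun j hbj hjn => by
              have := hline j (by omega) hjn
              linarith) (i + 2) (by omega) hin
            rw [hline_def]; linarith
          rw [hρ_le i (by omega), hρ_le (i+1) (by omega), hρ_ge (i+2) (by omega)]
          have hd1 : 0 < x (i + 1) - x i := sub_pos.mpr (hx (Nat.lt_succ_self i))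
          rw [hline_def] at hmin1
          simp only [hline_def]
          nlinarith [mul_nonneg (sub_nonneg.mpr hmin1) hd1.le]
        · rw [hρ_ge i (by omega), hρ_ge (i+1) (by omega), hρ_ge (i+2) (by omega)]
          exact hconv' i (by omega) hin
      · intro α β hαβ i hai hin
        by_cases hib : i < b
        · rw [hρ_lt i hib, hline_def]
          have ha' := hαβ a le_rfl han.le
          have hb' := hαβ b hab.le hbn
          have hu : x a ≤ x i := hx.monotone hai
          have hv : x i ≤ x b := hx.monotone hib.le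
          have hvu : 0 < x b - x a := hxpos b hab
          have key : (x b - x a) * (r a + s₀ * (x i - x a) - (α + β * x i)) =
              (x b - x i) * (r a - (α + β * x a)) +
              (x i - x a) * ((r a + s₀ * (x b - x a)) - (α + β * x b)) := by ring
          have hnn : 0 ≤ (x b - x a) * (r a + s₀ * (x i - x a) - (α + β * x i)) := by
            rw [key]
            apply add_nonneg
            · exact mul_nonneg (by linarith) (by linarith)
            · exact mul_nonneg (by linarith) (by rw [hlineb]; linarith)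
          by_contra hcon
          have := mul_neg_of_pos_of_neg hvu (sub_neg.mpr (not_le.mp hcon))
          linarith
        · rw [hρ_ge i (not_lt.mp hib)]
          exact hmino' α β (fun j hbj hjn => hαβ j (by omega) hjn) i (not_lt.mp hib) hin
      · rw [trap_cons_cons, htrap', ← Finset.sum_Ico_consecutive _ hab.le hbn]
        congr 1
        · obtain ⟨G, hGdef⟩ : ∃ G : ℕ → ℝ, ∀ j, G j =
              (2 * r a - 2 * s₀ * x a) * x j + s₀ * (x j) ^ 2 := ⟨_, fun _ => rfl⟩
          have hG : ∀ i ∈ Finset.Ico a b, (x (i + 1) - x i) * (ρ (i + 1) + ρ i) =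
              G (i + 1) - G i := by
            intro i hi
            rw [Finset.mem_Ico] at hi
            rw [hρ_le (i+1) (by omega), hρ_le i (by omega), hline_def, hline_def, hGdef, hGdef]
            ring
          rw [Finset.sum_congr rfl hG, sum_Ico_telescope G a b hab.le, hGdef, hGdef]
          have h3 : r b = r a + s₀ * (x b - x a) := by linarith
          rw [h3]; ring
        · refine Finset.sum_congr rfl (fun i hi => ?_)
          rw [Finset.mem_Ico] at hi
          rw [hρ_ge (i+1) (by omega), hρ_ge i hi.1]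


/-- the extremal gap function -/
noncomputable def EN (m g : ℕ) (i : ℕ) : ℝ := if i ≤ m then (i : ℝ) else (i : ℝ) + g

lemma EN_succ_sub (m g i : ℕ) :
    EN m g (i + 1) - EN m g i = if i = m then (g : ℝ) + 1 else 1 := by
  unfold EN
  by_cases h1 : i + 1 ≤ m
  · have h2 : i ≤ m := by omega
    have h3 : i ≠ m := by omega
    rw [if_pos h1, if_pos h2, if_neg h3]; push_cast; ring
  · by_cases h2 : i ≤ m
    · have h3 : i = m := by omega
      rw [if_neg h1, if_pos h2, if_pos h3]; push_cast; ring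
    · have h3 : i ≠ m := by omega
      rw [if_neg h1, if_neg h2, if_neg h3]; push_cast; ring

lemma EN_strictMono (m g : ℕ) : StrictMono (EN m g) := by
  apply strictMono_nat_of_lt_succ
  intro i
  have h := EN_succ_sub m g i
  have hpos : (0:ℝ) < if i = m then (g : ℝ) + 1 else 1 := by
    split_ifs
    · positivity
    · norm_num
  linarith

lemma sum_lin (c d : ℝ) : ∀ k : ℕ,
    ∑ i ∈ Finset.range k, (c - (i : ℝ) * d) = k * c - d * ((k : ℝ) * (k - 1) / 2) := by
  intro k
  induction k with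
  | zero => simp
  | succ k ih => rw [Finset.sum_range_succ, ih]; push_cast; ring

lemma final_arith (M G S P Q δ ρ0 ρn I : ℝ) (hG : 1 ≤ G) (hMG : G ≤ M) (hS : S ≤ 0)
    (hb : (M + 1) * P + δ * (M * (M + 1)) / 2 + G * Q - δ * (G * (G - 1)) / 2 ≤ S)
    (hc : I = 2 * S - ρ0 - ρn + G * (P + Q))
    (hd0 : P + M * δ ≤ ρ0) (hdn : Q - (G - 1) * δ ≤ ρn)
    (he : P - Q = (G + 1) * δ) (hδ : 0 ≤ δ) (hf : ρn < ρ0) : I < 0 := by
  have hP : P = Q + (G + 1) * δ := by linarith
  subst hP
  have hpos' : 0 < M + G + 1 := by linarith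
  rcases hδ.eq_or_lt with h0 | hpos
  · subst h0
    have hQ : (M + G + 1) * Q ≤ 0 := by nlinarith
    have hQ0 : Q ≤ 0 := by
      by_contra h
      have := mul_pos hpos' (not_le.mp h)
      linarith
    have h7 : 0 ≤ (G - 1) * (-Q) := mul_nonneg (by linarith) (by linarith)
    nlinarith
  · have hJ : I ≤ 2 * S + (G - 1) * ((Q + (G + 1) * δ) + Q) - (M - G + 1) * δ := by
      rw [hc]; nlinarith
    have h1 : 0 ≤ (G - 1) * (S - ((M + 1) * (Q + (G + 1) * δ) + δ * (M * (M + 1)) / 2 +
        G * Q - δ * (G * (G - 1)) / 2)) := mul_nonneg (by linarith) (by linarith)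
    have h2 : 0 ≤ (M + G + 1) * (-S) := mul_nonneg (by linarith) (by linarith)
    have h3 : 0 ≤ (G - 1) * (-S) := mul_nonneg (by linarith) (by linarith)
    have h4 : 0 ≤ (G - 1) * δ * (M * (M + 1) - G * (G - 1)) := by
      apply mul_nonneg (mul_nonneg (by linarith) hpos.le)
      nlinarith [mul_self_le_mul_self (by linarith : (0:ℝ) ≤ G) hMG]
    have h5 : 0 ≤ (G - 1) * (G + 1) * (M + 1 - G) * δ :=
      mul_nonneg (mul_nonneg (mul_nonneg (by linarith) (by linarith)) (by linarith)) hpos.le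
    have h6 : 0 < (M + G + 1) * (M - G + 1) * δ :=
      mul_pos (mul_pos (by linarith) (by linarith)) hpos
    have hJ' : (M + G + 1) * (2 * S + (G - 1) * ((Q + (G + 1) * δ) + Q) - (M - G + 1) * δ) < 0 := by
      nlinarith [h1, h2, h3, h4, h5, h6]
    have hJ'' : 2 * S + (G - 1) * ((Q + (G + 1) * δ) + Q) - (M - G + 1) * δ < 0 := by
      by_contra h
      have := mul_nonneg hpos'.le (not_lt.mp h)
      linarith
    linarith

lemma partD (m g : ℕ) (hg : 1 ≤ g) (hgm : g ≤ m) (ρ : ℕ → ℝ)
    (hconv : ∀ i, i + 2 ≤ m + g →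
      (ρ (i + 1) - ρ i) * (EN m g (i + 2) - EN m g (i + 1)) ≤
        (ρ (i + 2) - ρ (i + 1)) * (EN m g (i + 1) - EN m g i))
    (hmin : ∀ i, i ≤ m + g → ρ (m + g) ≤ ρ i)
    (hsum : ∑ i ∈ Finset.range (m + g + 1), ρ i ≤ 0)
    (hends : ρ (m + g) < ρ 0) :
    ∑ i ∈ Finset.Ico 0 (m + g), (EN m g (i + 1) - EN m g i) * (ρ (i + 1) + ρ i) < 0 := by
  obtain ⟨δ, hδ⟩ : ∃ δ : ℝ, δ = (ρ m - ρ (m + 1)) / (g + 1) := ⟨_, rfl⟩
  have hg1 : (0:ℝ) < (g:ℝ) + 1 := by positivity
  have hδ' : ρ m - ρ (m + 1) = (g + 1) * δ := by rw [hδ]; field_simp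
  -- slope comparisons
  have hc : ∀ i, i + 2 ≤ m + g →
      (ρ (i + 1) - ρ i) * (if i + 1 = m then (g:ℝ) + 1 else 1) ≤
        (ρ (i + 2) - ρ (i + 1)) * (if i = m then (g:ℝ) + 1 else 1) := by
    intro i hi
    have h := hconv i hi
    have e1 : EN m g (i + 2) - EN m g (i + 1) = if i + 1 = m then (g:ℝ) + 1 else 1 :=
      EN_succ_sub m g (i + 1)
    rw [e1, EN_succ_sub] at h
    exact h
  have D1 : ∀ i, i + 2 ≤ m → ρ (i + 1) - ρ (i + 2) ≤ ρ i - ρ (i + 1) := by
    intro i hi
    have h := hc i (by omega)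
    rw [if_neg (by omega), if_neg (by omega)] at h
    linarith
  have D2 : ∀ i, i + 1 = m → δ ≤ ρ i - ρ (i + 1) := by
    intro i hi
    have h := hc i (by omega)
    rw [if_pos hi, if_neg (by omega)] at h
    have e2 : ρ (i + 1) - ρ (i + 2) = (g + 1) * δ := by
      rw [← hδ', ← hi]
    by_contra hcon
    have := mul_lt_mul_of_pos_left (not_le.mp hcon) hg1
    nlinarith
  have D3 : m + 2 ≤ m + g → ρ (m + 1) - ρ (m + 2) ≤ δ := by
    intro hi
    have h := hc m hi
    rw [if_neg (by omega), if_pos rfl] at h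
    by_contra hcon
    have := mul_lt_mul_of_pos_left (not_le.mp hcon) hg1
    nlinarith
  have D4 : ∀ i, m < i → i + 2 ≤ m + g → ρ (i + 1) - ρ (i + 2) ≤ ρ i - ρ (i + 1) := by
    intro i hmi hi
    have h := hc i hi
    rw [if_neg (by omega), if_neg (by omega)] at h
    linarith
  have hlow : ∀ k i, i + k + 1 = m → δ ≤ ρ i - ρ (i + 1) := by
    intro k
    induction k with
    | zero => intro i hi; exact D2 i (by omega)
    | succ k ih =>
      intro i hi
      have h1 := ih (i + 1) (by omega)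
      have h2 := D1 i (by omega)
      linarith
  have hI : ∀ k i, i + k = m → ρ m + (k : ℝ) * δ ≤ ρ i := by
    intro k
    induction k with
    | zero => intro i hi; have : i = m := by omega
              subst this; simp
    | succ k ih =>
      intro i hi
      have h1 := ih (i + 1) (by omega)
      have h2 := hlow k i (by omega)
      push_cast
      linarith
  have hup : ∀ j, m + 1 + j + 1 ≤ m + g → ρ (m + 1 + j) - ρ (m + 1 + j + 1) ≤ δ := by
    intro j
    induction j with
    | zero => intro hj; exact D3 (by omega)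
    | succ j ih =>
      intro hj
      have h1 := ih (by omega)
      have h2 := D4 (m + 1 + j) (by omega) (by omega)
      have e3 : m + 1 + (j + 1) = m + 1 + j + 1 := by omega
      rw [e3]
      have h2' : ρ (m + 1 + j + 1) - ρ (m + 1 + j + 1 + 1) ≤
          ρ (m + 1 + j) - ρ (m + 1 + j + 1) := h2
      linarith
  have hII : ∀ j, m + 1 + j ≤ m + g → ρ (m + 1) - (j : ℝ) * δ ≤ ρ (m + 1 + j) := by
    intro j
    induction j with
    | zero => intro _; simp
    | succ j ih =>
      intro hj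
      have h1 := ih (by omega)
      have h2 := hup j (by omega)
      have e3 : m + 1 + (j + 1) = m + 1 + j + 1 := by omega
      rw [e3]
      push_cast
      linarith
  -- δ ≥ 0
  have hδ0 : 0 ≤ δ := by
    rcases Nat.eq_or_lt_of_le hg with h1 | h2
    · have h3 := hmin m (by omega)
      have e5 : m + g = m + 1 := by omega
      rw [e5] at h3
      have : 0 ≤ (g + 1 : ℝ) * δ := by linarith
      by_contra hcon
      have := mul_neg_of_pos_of_neg hg1 (not_le.mp hcon)
      linarith
    · obtain ⟨j, hj⟩ : ∃ j, g = j + 2 := ⟨g - 2, by omega⟩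
      have h3 := hup j (by omega)
      have h4 := hmin (m + 1 + j) (by omega)
      have e5 : m + 1 + j + 1 = m + g := by omega
      rw [e5] at h3
      linarith
  -- the sums
  have hS1 : (m + 1 : ℝ) * ρ m + δ * ((m : ℝ) * (m + 1)) / 2 ≤ ∑ i ∈ Finset.range (m + 1), ρ i := by
    have h1 : ∑ i ∈ Finset.range (m + 1), ((ρ m + (m : ℝ) * δ) - (i : ℝ) * δ) ≤
        ∑ i ∈ Finset.range (m + 1), ρ i := by
      apply Finset.sum_le_sum
      intro i hi
      rw [Finset.mem_range] at hi
      have h2 := hI (m - i) i (by omega)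
      rw [Nat.cast_sub (by omega)] at h2
      linarith
    rw [sum_lin] at h1
    push_cast at h1
    linarith
  have hS2 : (g : ℝ) * ρ (m + 1) - δ * ((g : ℝ) * (g - 1)) / 2 ≤
      ∑ i ∈ Finset.Ico (m + 1) (m + g + 1), ρ i := by
    rw [Finset.sum_Ico_eq_sum_range]
    have e6 : m + g + 1 - (m + 1) = g := by omega
    rw [e6]
    have h1 : ∑ j ∈ Finset.range g, (ρ (m + 1) - (j : ℝ) * δ) ≤
        ∑ j ∈ Finset.range g, ρ (m + 1 + j) := by
      apply Finset.sum_le_sum
      intro j hj
      rw [Finset.mem_range] at hj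
      exact hII j (by omega)
    rw [sum_lin] at h1
    linarith
  have hS : ∑ i ∈ Finset.range (m + 1), ρ i + ∑ i ∈ Finset.Ico (m + 1) (m + g + 1), ρ i =
      ∑ i ∈ Finset.range (m + g + 1), ρ i :=
    Finset.sum_range_add_sum_Ico _ (by omega)
  -- the trapezoid sum
  have hT : ∑ i ∈ Finset.Ico 0 (m + g), (EN m g (i + 1) - EN m g i) * (ρ (i + 1) + ρ i) =
      2 * (∑ i ∈ Finset.range (m + g + 1), ρ i) - ρ 0 - ρ (m + g) +
        (g : ℝ) * (ρ m + ρ (m + 1)) := by
    rw [Nat.Ico_zero_eq_range]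
    have h1 : ∀ i ∈ Finset.range (m + g), (EN m g (i + 1) - EN m g i) * (ρ (i + 1) + ρ i) =
        (ρ (i + 1) + ρ i) + (if i = m then (g : ℝ) * (ρ (i + 1) + ρ i) else 0) := by
      intro i _
      rw [EN_succ_sub]
      split_ifs <;> ring
    rw [Finset.sum_congr rfl h1, Finset.sum_add_distrib, Finset.sum_ite_eq' (Finset.range (m + g)) m,
      if_pos (Finset.mem_range.mpr (by omega)), Finset.sum_add_distrib]
    have h2 : ∑ i ∈ Finset.range (m + g + 1), ρ i = ∑ i ∈ Finset.range (m + g), ρ (i + 1) + ρ 0 :=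
      Finset.sum_range_succ' _ _
    have h3 : ∑ i ∈ Finset.range (m + g + 1), ρ i = ∑ i ∈ Finset.range (m + g), ρ i + ρ (m + g) :=
      Finset.sum_range_succ _ _
    linarith
  rw [hT]
  have hd0 := hI m 0 (by omega)
  have hdn := hII (g - 1) (by omega)
  have e7 : m + 1 + (g - 1) = m + g := by omega
  rw [e7, Nat.cast_sub hg] at hdn
  push_cast at hdn
  refine final_arith (m : ℝ) (g : ℝ) (∑ i ∈ Finset.range (m + g + 1), ρ i) (ρ m) (ρ (m + 1)) δ
    (ρ 0) (ρ (m + g)) _ (by exact_mod_cast hg) (by exact_mod_cast hgm) hsum ?_ rfl hd0 hdn hδ' hδ0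
    hends
  linarith

/-- Let g ≥ 1 and n ≥ 2g, and let e_0, …, e_n be natural numbers with e_0 = 0, e_n = n + g, e_0 ≤ … ≤
e_n, e_i ≤ i for i ≤ n − g and e_i ≤ i + g for all i. Then for all real r_0 ≥ r_1 ≥ … ≥ r_n with Σ
r_i = 0, not all zero, some chain 0 = c_0 < c_1 < … < c_μ = n has Σ_j (e_(c_(j+1)) − e_(c_j)) ·
(r_(c_(j+1)) + r_(c_j)) < 0. -/
theorem result (n g : ℕ) (hg : 1 ≤ g) (hn : 2 * g ≤ n)
    (e : Fin (n + 1) → ℕ) (he0 : e 0 = 0) (hen : e (Fin.last n) = n + g) (hmono : Monotone e)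
    (hle : ∀ i : Fin (n + 1), (i : ℕ) ≤ n - g → e i ≤ (i : ℕ)) (hle' : ∀ i : Fin (n + 1), e i ≤ (i : ℕ) + g)
    (r : Fin (n + 1) → ℝ) (hanti : Antitone r) (hsum : ∑ i, r i = 0) (hr : r ≠ 0) :
    ∃ (μ : ℕ) (c : Fin (μ + 1) → Fin (n + 1)), StrictMono c ∧ c 0 = 0 ∧ c (Fin.last μ) = Fin.last n ∧
      ∑ j : Fin μ, ((e (c j.succ) : ℝ) - (e (c j.castSucc) : ℝ)) * (r (c j.succ) + r (c j.castSucc)) < 0 := by
  obtain ⟨m, rfl⟩ : ∃ m, n = m + g := ⟨n - g, by omega⟩
  have hgm : g ≤ m := by omega
  have hmg : m + g - g = m := by omega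
  -- extensions to ℕ
  obtain ⟨idx, hidx_def⟩ : ∃ idx : ℕ → Fin (m + g + 1), ∀ i, (idx i : ℕ) = min i (m + g) :=
    ⟨fun i => ⟨min i (m + g), Nat.lt_succ_of_le (min_le_right _ _)⟩, fun _ => rfl⟩
  have hidx : ∀ i (h : i ≤ m + g), idx i = ⟨i, Nat.lt_succ_of_le h⟩ := by
    intro i h
    apply Fin.ext
    rw [hidx_def, min_eq_left h]
  have hidx_big : ∀ i, m + g ≤ i → idx i = Fin.last (m + g) := by
    intro i h
    apply Fin.ext
    rw [hidx_def, min_eq_right h, Fin.val_last]
  have hidx_mono : Monotone idx := by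
    intro i j hij
    rw [Fin.le_def, hidx_def, hidx_def]
    exact min_le_min_right _ hij
  obtain ⟨rN, hrN_def⟩ : ∃ rN : ℕ → ℝ, ∀ i, rN i = r (idx i) := ⟨fun i => r (idx i), fun _ => rfl⟩
  obtain ⟨eN, heN_def⟩ : ∃ eN : ℕ → ℝ, ∀ i, eN i = (e (idx i) : ℝ) :=
    ⟨fun i => (e (idx i) : ℝ), fun _ => rfl⟩
  have hrN : Antitone rN := by
    intro i j hij
    rw [hrN_def, hrN_def]
    exact hanti (hidx_mono hij)
  -- D = EN - eN
  have hD : ∀ i, 0 ≤ EN m g i - eN i := by
    intro i
    rw [heN_def, sub_nonneg]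
    by_cases hi : i ≤ m + g
    · rw [hidx i hi]
      unfold EN
      by_cases him : i ≤ m
      · rw [if_pos him]
        have := hle ⟨i, Nat.lt_succ_of_le hi⟩ (by rw [hmg]; exact him)
        exact_mod_cast this
      · rw [if_neg him]
        have := hle' ⟨i, Nat.lt_succ_of_le hi⟩
        exact_mod_cast this
    · rw [hidx_big i (by omega), hen]
      unfold EN
      rw [if_neg (by omega)]
      have : m + g ≤ i := by omega
      have h2 : ((m + g : ℕ) : ℝ) ≤ (i : ℝ) := by exact_mod_cast this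
      push_cast at h2 ⊢
      linarith
  have hD0 : EN m g 0 - eN 0 = 0 := by
    rw [heN_def, hidx 0 (by omega)]
    unfold EN
    rw [if_pos (by omega)]
    have : (⟨0, Nat.lt_succ_of_le (by omega : 0 ≤ m + g)⟩ : Fin (m + g + 1)) = 0 := rfl
    rw [this, he0]
    simp
  have hDn : EN m g (m + g) - eN (m + g) = 0 := by
    rw [heN_def, hidx_big (m + g) le_rfl, hen]
    unfold EN
    rw [if_neg (by omega)]
    push_cast
    ring
  -- the hull
  obtain ⟨l, ρ, hp, hl, hρ0, hρn, hle_ρ, hconv, hmino, htrap⟩ :=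
    hull (EN m g) rN (EN_strictMono m g) (m + g) (m + g) 0 (by omega)
  obtain ⟨μ, c, hc, hc0, hcl, hsum_c⟩ := exists_fin_chain eN rN l 0 hp
  have hcb : ∀ j, c j ≤ m + g := by
    intro j
    have := hc.monotone (Fin.le_last j)
    rw [hcl, hl] at this
    exact this
  -- endpoints
  have hr0n : r (Fin.last (m + g)) < r 0 := by
    by_contra hcon
    have hcon := not_lt.mp hcon
    have hall : ∀ i, r i = r 0 := by
      intro i
      apply le_antisymm (hanti (Fin.zero_le i))
      exact hcon.trans (hanti (Fin.le_last i))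
    have h1 : ∑ i : Fin (m + g + 1), r i = ((m + g + 1 : ℕ) : ℝ) * r 0 := by
      rw [Finset.sum_congr rfl (fun i _ => hall i)]
      simp
    have h2 : r 0 = 0 := by
      rw [hsum] at h1
      have h3 : ((m + g + 1 : ℕ) : ℝ) ≠ 0 := by positivity
      exact (mul_eq_zero.mp h1.symm).resolve_left h3
    apply hr
    funext i
    rw [hall i, h2]; rfl
  -- negativity of the hull trapezoid
  have hneg : ∑ i ∈ Finset.Ico 0 (m + g), (EN m g (i + 1) - EN m g i) * (ρ (i + 1) + ρ i) < 0 := by
    apply partD m g hg hgm ρ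
    · intro i hi; exact hconv i (Nat.zero_le i) hi
    · intro i hi
      have := hmino (rN (m + g)) 0 (fun j _ hj => by
        have := hrN hj
        linarith) i (Nat.zero_le i) hi
      rw [hρn]; linarith
    · have h1 : ∑ i ∈ Finset.range (m + g + 1), ρ i ≤ ∑ i ∈ Finset.range (m + g + 1), rN i := by
        apply Finset.sum_le_sum
        intro i hi
        rw [Finset.mem_range] at hi
        exact hle_ρ i (Nat.zero_le i) (by omega)
      have h2 : ∑ i ∈ Finset.range (m + g + 1), rN i = ∑ i : Fin (m + g + 1), r i := by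
        rw [Finset.sum_range]
        refine Finset.sum_congr rfl (fun i _ => ?_)
        rw [hrN_def, hidx i (by omega)]
      rw [h2, hsum] at h1
      exact h1
    · rw [hρn, hρ0, hrN_def, hrN_def, hidx_big (m + g) le_rfl, hidx 0 (by omega)]
      exact hr0n
  -- assemble
  refine ⟨μ, fun j => ⟨c j, Nat.lt_succ_of_le (hcb j)⟩, ?_, ?_, ?_, ?_⟩
  · intro i j hij
    exact Fin.lt_def.mpr (hc hij)
  · apply Fin.ext
    simp [hc0]
  · apply Fin.ext
    simp [hcl, hl]
  · have hterm : ∀ j : Fin μ,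
        ((e ⟨c j.succ, Nat.lt_succ_of_le (hcb j.succ)⟩ : ℝ) -
          (e ⟨c j.castSucc, Nat.lt_succ_of_le (hcb j.castSucc)⟩ : ℝ)) *
        (r ⟨c j.succ, Nat.lt_succ_of_le (hcb j.succ)⟩ +
          r ⟨c j.castSucc, Nat.lt_succ_of_le (hcb j.castSucc)⟩) =
        (eN (c j.succ) - eN (c j.castSucc)) * (rN (c j.succ) + rN (c j.castSucc)) := by
      intro j
      rw [heN_def, heN_def, hrN_def, hrN_def, hidx _ (hcb j.succ), hidx _ (hcb j.castSucc)]
    rw [Finset.sum_congr rfl (fun j _ => hterm j), hsum_c]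
    have h1 := trap_sub (EN m g) eN rN (0 :: l)
    have h2 := trap_ge (fun i => EN m g i - eN i) rN hD hrN l 0 hp
    rw [hl] at h2
    simp only [hD0, hDn] at h2
    rw [htrap] at h1
    linarith

end Groth.Agent.S12549
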