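import Groth.Statements.S12550
import Mathlib.LinearAlgebra.Dimension.Constructions
import Mathlib.LinearAlgebra.FiniteDimensional.Lemmas

set_option autoImplicit false
universe u
open GIT

namespace Groth.Agent.S12550

/-- Let V be a finite-dimensional vector space over a field K and x_0, …, x_m non-zero vectors, a
configuration of m + 1 points of the projective space P(V). If for every subspace L with 0 ≠ L ≠ V
the number of indices i with x_i ∈ L, multiplied by dim V, is less than dim L · (m + 1) (the
configuration is stable), then no two proper subspaces L', L'' with L' ∩ L'' = 0 contain between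
them all the x_i. -/
theorem result (K : Type u) [Field K]
    (V : Type u) [AddCommGroup V] [Module K V] [FiniteDimensional K V]
    (m : ℕ) (x : Fin (m + 1) → V) (hx : ∀ i, x i ≠ 0)
    (hst : ∀ L : Submodule K V, L ≠ ⊥ → L ≠ ⊤ →
      Set.ncard {i : Fin (m + 1) | x i ∈ L} * Module.finrank K V < Module.finrank K L * (m + 1)) :
    ¬ ∃ L' L'' : Submodule K V, L' ≠ ⊤ ∧ L'' ≠ ⊤ ∧ Disjoint L' L'' ∧ ∀ i, x i ∈ L' ∨ x i ∈ L'' := by
  rintro ⟨L', L'', hL', hL'', hdisj, hcov⟩
  -- the key counting fact
  have hcard : (m + 1) ≤ Set.ncard {i : Fin (m + 1) | x i ∈ L'} +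
      Set.ncard {i : Fin (m + 1) | x i ∈ L''} := by
    have hun : {i : Fin (m + 1) | x i ∈ L'} ∪ {i : Fin (m + 1) | x i ∈ L''} = Set.univ := by
      ext i
      simp only [Set.mem_union, Set.mem_setOf_eq, Set.mem_univ, iff_true]
      exact hcov i
    have h1 := Set.ncard_union_le {i : Fin (m + 1) | x i ∈ L'} {i : Fin (m + 1) | x i ∈ L''}
    rw [hun, Set.ncard_univ, Nat.card_eq_fintype_card, Fintype.card_fin] at h1
    exact h1
  have hdim : Module.finrank K L' + Module.finrank K L'' ≤ Module.finrank K V := by
    have h2 := Submodule.finrank_sup_add_finrank_inf_eq L' L''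
    rw [hdisj.eq_bot, finrank_bot, add_zero] at h2
    rw [← h2]
    exact Submodule.finrank_le _
  have hle' : Set.ncard {i : Fin (m + 1) | x i ∈ L'} ≤ m + 1 := by
    have := Set.ncard_le_card {i : Fin (m + 1) | x i ∈ L'}
    simpa using this
  have hle'' : Set.ncard {i : Fin (m + 1) | x i ∈ L''} ≤ m + 1 := by
    have := Set.ncard_le_card {i : Fin (m + 1) | x i ∈ L''}
    simpa using this
  by_cases hb' : L' = ⊥
  · by_cases hb'' : L'' = ⊥
    · rcases hcov 0 with h | h
      · rw [hb'] at h; exact hx 0 (by simpa using h)
      · rw [hb''] at h; exact hx 0 (by simpa using h)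
    · have h0 : Set.ncard {i : Fin (m + 1) | x i ∈ L'} = 0 := by
        rw [Set.ncard_eq_zero]
        ext i
        simp only [Set.mem_setOf_eq, Set.mem_empty_iff_false, iff_false]
        intro h
        rw [hb'] at h
        exact hx i (by simpa using h)
      have h2 := hst L'' hb'' hL''
      have h3 : Set.ncard {i : Fin (m + 1) | x i ∈ L''} = m + 1 := by omega
      rw [h3] at h2
      have h4 : Module.finrank K L'' ≤ Module.finrank K V := Submodule.finrank_le _
      nlinarith
  · by_cases hb'' : L'' = ⊥
    · have h0 : Set.ncard {i : Fin (m + 1) | x i ∈ L''} = 0 := by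
        rw [Set.ncard_eq_zero]
        ext i
        simp only [Set.mem_setOf_eq, Set.mem_empty_iff_false, iff_false]
        intro h
        rw [hb''] at h
        exact hx i (by simpa using h)
      have h2 := hst L' hb' hL'
      have h3 : Set.ncard {i : Fin (m + 1) | x i ∈ L'} = m + 1 := by omega
      rw [h3] at h2
      have h4 : Module.finrank K L' ≤ Module.finrank K V := Submodule.finrank_le _
      nlinarith
    · have h1 := hst L' hb' hL'
      have h2 := hst L'' hb'' hL''
      nlinarith

end Groth.Agent.S12550
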