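import Groth.Statements.S12570
import Groth.Agent.FunFld.LocResFF
import Groth.Agent.FunFld.SepVar
import Groth.Agent.FunFld.KaehlerFF
import Groth.Agent.S12571

set_option autoImplicit false
universe u v w
open FunFld

namespace Groth.Agent.S12570

/-- For a place `Q` of a finite separable extension `K'` of a geometric function field of one variable
`K/k`, lying over `P` with ramification index `e`, both places having Laurent expansions over `k` in
local parameters (separable places), and `x` with `dx` of finite order above and below: the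
different exponent `d(Q|P)`, computed on `dx`, is `e - 1` if `char K` does not divide `e`, and is `≥
e` otherwise. (The published statement allows any finite extension along which differentials of `K`
pull back injectively; this row takes `K'` separable over `K`.) -/
theorem result (k : Type u) (K K' : Type v) [Field k] [Field K] [Field K'] [Algebra k K] [Algebra K K'] [Algebra k K']
    [IsScalarTower k K K'] [FiniteDimensional K K'] [Algebra.IsSeparable K K']
    (hK : FunFld.IsFunctionField k K) (hg : FunFld.IsGeometric k K)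
    (F F' : Type w) [Field F] [Algebra k F] [Field F'] [Algebra k F']
    (P : FunFld.Place k K) (Q : FunFld.Place k K') (e : ℕ) (he : FunFld.IsOverWith Q P e)
    (φ : K →ₐ[k] LaurentSeries F) (hφ : LocRes.IsExpansionAt P.1 φ)
    (ψ : K' →ₐ[k] LaurentSeries F') (hψ : LocRes.IsExpansionAt Q.1 ψ)
    (x : K) (hx : LocRes.vDiff φ 1 x ≠ 0) (hx' : LocRes.vDiff ψ 1 (algebraMap K K' x) ≠ 0) :
    (¬ (ringChar K ∣ e) → LocRes.diffExp φ ψ e x = (e : ℤ) - 1) ∧
    (ringChar K ∣ e → (e : ℤ) ≤ LocRes.diffExp φ ψ e x) := by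
  classical
  obtain ⟨t, ht⟩ := hφ.2.2
  have he0 : e ≠ 0 := by
    rintro rfl
    have h0 := he 0
    rw [map_zero, map_zero, pow_zero] at h0
    exact zero_ne_one h0
  -- below
  have hφt : Valued.v (φ t) = (WithZero.exp (-(1 : ℤ)) : WithZero (Multiplicative ℤ)) := by
    rw [hφ.1 t, ht]
  have hvφ := Groth.Agent.FF.val_D_eq_of_cast_ne_zero hφt (by simp)
  have hvt : LocRes.vDiff φ 1 t = 1 := by
    unfold LocRes.vDiff
    rw [map_one, one_mul, hvφ]
    simp
  have hot : LocRes.ordDiff φ 1 t = 0 := by
    unfold LocRes.ordDiff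
    rw [hvt]
    simp
  have hvt0 : LocRes.vDiff φ 1 t ≠ 0 := by rw [hvt]; exact one_ne_zero
  -- rank one
  obtain ⟨x₀, hx₀, hsep₀⟩ := Groth.Agent.FF.exists_separating hK hg
  have hrank := Groth.Agent.FF.finrank_kaehler_eq_one_of_separating hx₀
  have hDt : KaehlerDifferential.D k K t ≠ 0 := by
    intro h0
    apply hvt0
    unfold LocRes.vDiff
    have h1 := Groth.Agent.FF.D_exp_of_D_eq_smul φ (x := t) (x' := t) (u := 0)
      (by rw [h0, smul_zero])
    rw [h1, map_zero, zero_mul, mul_zero, map_zero]
  obtain ⟨c, hc⟩ := (finrank_eq_one_iff_of_nonzero' (KaehlerDifferential.D k K t) hDt).mp hrank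
    (KaehlerDifferential.D k K x)
  let ψ' : K →ₐ[k] LaurentSeries F' := ψ.comp (IsScalarTower.toAlgHom k K K')
  have hψt0 : LocRes.vDiff ψ 1 (algebraMap K K' t) ≠ 0 := by
    intro h0
    apply hx'
    unfold LocRes.vDiff at h0 ⊢
    rw [map_one, one_mul] at h0 ⊢
    have h1 := Groth.Agent.FF.D_exp_of_D_eq_smul ψ' hc.symm
    have h2 : LocRes.D F' (ψ (algebraMap K K' x)) =
        ψ' c * LocRes.D F' (ψ (algebraMap K K' t)) := h1
    rw [h2, map_mul, h0, mul_zero]
  have hind := Groth.Agent.S12571.result k K K' hK hg F F' P Q e he φ hφ ψ hψ x hx hx' t hvt0 hψt0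
  have hdt : LocRes.diffExp φ ψ e t = LocRes.ordDiff ψ 1 (algebraMap K K' t) := by
    unfold LocRes.diffExp
    rw [hot, mul_zero, sub_zero]
  have hψt : Valued.v (ψ (algebraMap K K' t)) =
      (WithZero.exp (-(e : ℤ)) : WithZero (Multiplicative ℤ)) := by
    rw [hψ.1, he t, ht, ← WithZero.exp_nsmul]
    simp
  have hchar : ringChar K ∣ e ↔ (((e : ℤ) : F') = 0) := by
    rw [← ringChar.spec K e, Int.cast_natCast, ← map_natCast (algebraMap k K),
      ← map_natCast (algebraMap k F'), map_eq_zero, map_eq_zero]
  rw [hind, hdt]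
  constructor
  · intro hnd
    have hne : ((e : ℤ) : F') ≠ 0 := fun h => hnd (hchar.mpr h)
    have hv := Groth.Agent.FF.val_D_eq_of_cast_ne_zero hψt hne
    unfold LocRes.ordDiff LocRes.vDiff
    rw [map_one, one_mul, hv, WithZero.log_exp]
    ring
  · intro hd
    have hv := Groth.Agent.FF.val_D_le_of_cast_eq_zero hψt (hchar.mp hd)
    have h1 : WithZero.log (LocRes.vDiff ψ 1 (algebraMap K K' t)) ≤ -(e : ℤ) := by
      rw [WithZero.log_le_iff_le_exp hψt0]
      unfold LocRes.vDiff
      rw [map_one, one_mul]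
      exact hv
    unfold LocRes.ordDiff
    omega

end Groth.Agent.S12570
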