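import Groth.Statements.S12574
import Groth.Agent.H57.TraceDual

set_option autoImplicit false
universe u v w
open FunFld

namespace Groth.Agent.S12574

/-- Let `Q` be a place of a finite separable extension `K'` of a geometric function field of one
variable `K/k`, over `P` with ramification index `e` and residue degree `1`, both with Laurent
expansions over `k` in local parameters, and let `R^*` be the dual, under the trace form of `K'/K`,
of the integral closure of `O_P` in `K'`. Then `min_{y ∈ R^*} v_Q(y) = -d(Q|P)`: in multiplicative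
notation every `y ∈ R^*` has `v_Q(y) ≤ exp d(Q|P)` and equality is attained. -/
theorem result (k : Type u) (K K' : Type v) [Field k] [Field K] [Field K'] [Algebra k K] [Algebra K K'] [Algebra k K']
    [IsScalarTower k K K'] [FiniteDimensional K K'] [Algebra.IsSeparable K K']
    (hK : FunFld.IsFunctionField k K) (hg : FunFld.IsGeometric k K)
    (F F' : Type w) [Field F] [Algebra k F] [Field F'] [Algebra k F']
    (P : FunFld.Place k K) (Q : FunFld.Place k K') (e : ℕ) (he : FunFld.IsOverWith Q P e)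
    (φ : K →ₐ[k] LaurentSeries F) (hφ : LocRes.IsExpansionAt P.1 φ)
    (ψ : K' →ₐ[k] LaurentSeries F') (hψ : LocRes.IsExpansionAt Q.1 ψ)
    (x : K) (hx : LocRes.vDiff φ 1 x ≠ 0) (hx' : LocRes.vDiff ψ 1 (algebraMap K K' x) ≠ 0)
    [P.1.HasExtension Q.1]
    (hf : Function.Surjective (algebraMap (IsLocalRing.ResidueField P.O) (IsLocalRing.ResidueField Q.O)))
    [Algebra P.O K'] [IsScalarTower P.O K K'] :
    (∀ y : K', (∀ z : K', IsIntegral P.O z → P.1 (Algebra.trace K K' (y * z)) ≤ 1) →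
      Q.1 y ≤ WithZero.exp (LocRes.diffExp φ ψ e x)) ∧
    ∃ y : K', (∀ z : K', IsIntegral P.O z → P.1 (Algebra.trace K K' (y * z)) ≤ 1) ∧
      Q.1 y = WithZero.exp (LocRes.diffExp φ ψ e x) := by
  classical
  have hFfin : FiniteDimensional k F := Groth.Agent.FF.RH.finiteDimensional_coeffField hK P φ hφ
  have hFsep : Algebra.IsSeparable k F :=
    Groth.Agent.H57.ResW.isSeparable_coeffField hK hg P.1 φ hφ
  have hF'fin : FiniteDimensional k F' :=
    Groth.Agent.H57.TDual.finiteDimensional_above P Q he φ hφ ψ hψ hf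
  have hF'sep : Algebra.IsSeparable k F' :=
    Groth.Agent.H57.TDual.isSeparable_above P Q he φ hφ ψ hψ hf
  obtain ⟨t, ht⟩ := hφ.2.2
  obtain ⟨-, -, hDt, hV, hd⟩ :=
    Groth.Agent.FF.U.diffExp_uniformizer hK hg he φ hφ ψ hψ hx hx' ht
  have hQP : FunFld.IsOver Q P := ⟨e, he⟩
  have ht1 : P.1 t ≤ 1 := by
    rw [ht, ← WithZero.exp_zero, WithZero.exp_le_exp]; norm_num
  set V := Valued.v (LocRes.D F' (ψ (algebraMap K K' t))) with hVdef
  have hV0 : V ≠ 0 := (Valuation.ne_zero_iff _).2 hV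
  have hexp : WithZero.exp (LocRes.diffExp φ ψ e x) = V⁻¹ := by
    rw [hd, WithZero.exp_neg, WithZero.exp_log hV0]
  have hkey : ∀ y : K', Q.1 y * V ≤ 1 ↔ Q.1 y ≤ WithZero.exp (LocRes.diffExp φ ψ e x) := by
    intro y
    rw [hexp, ← one_div, le_div_iff₀ (zero_lt_iff.2 hV0)]
  refine ⟨fun y hy => ?_, ?_⟩
  · have hdual : Groth.Agent.H57.TDual.IsDual P y := fun z hz =>
      hy z (Groth.Agent.FF.Ext.isIntegral_of_val_le_one hK P hz)
    exact (hkey y).1
      (Groth.Agent.H57.TDual.val_le_of_isDual hK P Q hQP φ hφ ψ hψ ht1 hDt hV hdual)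
  · set Qs : Finset (FunFld.Place k K') :=
      (Groth.Agent.FF.Ext.finite_isOver (K' := K') P).toFinset with hQs
    have hQsmem : ∀ Q', Q' ∈ Qs ↔ FunFld.IsOver Q' P := fun Q' => by
      rw [hQs, Set.Finite.mem_toFinset]; rfl
    obtain ⟨y₀, hy₀⟩ := Groth.Agent.H57.Cond.exists_val_eq
      (fun i : ↥Qs => (i : FunFld.Place k K')) Subtype.val_injective
      (fun i => if (i : FunFld.Place k K') = Q then LocRes.diffExp φ ψ e x else 0)
    have hy₀Q : Q.1 y₀ = WithZero.exp (LocRes.diffExp φ ψ e x) := by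
      have := hy₀ ⟨Q, (hQsmem Q).2 hQP⟩
      simpa using this
    have hy₀other : ∀ Q' : FunFld.Place k K', FunFld.IsOver Q' P → Q' ≠ Q → Q'.1 y₀ ≤ 1 := by
      intro Q' hQ' hne
      have := hy₀ ⟨Q', (hQsmem Q').2 hQ'⟩
      simp only [if_neg hne, WithZero.exp_zero] at this
      exact this.le
    have hdual := Groth.Agent.H57.TDual.isDual_of_val_le hK P Q hQP φ hφ ψ hψ ht1 hDt
      ((hkey y₀).2 hy₀Q.le) hy₀other
    refine ⟨y₀, fun z hz => hdual z fun Q' hQ' => ?_, hy₀Q⟩
    obtain ⟨e', he'⟩ := hQ'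
    exact Groth.Agent.FF.Ext.val_le_one_of_isIntegral he' hz

end Groth.Agent.S12574
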