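import Groth.Statements.S12575
import Groth.Agent.S12574
import Groth.Agent.H57.Euler

set_option autoImplicit false
universe u v w
open FunFld

namespace Groth.Agent.S12575

/-- Let `Q` be a place of a finite separable extension `K' = K(y)` of a geometric function field of one
variable `K/k`, over `P` with ramification index `e` and residue degree `1`, both with Laurent
expansions over `k` in local parameters, with `y` integral over `O_P` and `g` its minimal polynomial
over `K`. Then `v_Q(g'(y)) ≥ d(Q|P)`, and when equality holds `O_Q` is the localisation of `O_P[y]`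
at `Q`. -/
theorem result (k : Type u) (K K' : Type v) [Field k] [Field K] [Field K'] [Algebra k K] [Algebra K K'] [Algebra k K']
    [IsScalarTower k K K'] [FiniteDimensional K K'] [Algebra.IsSeparable K K']
    (hK : FunFld.IsFunctionField k K) (hg : FunFld.IsGeometric k K)
    (F F' : Type w) [Field F] [Algebra k F] [Field F'] [Algebra k F']
    (P : FunFld.Place k K) (Q : FunFld.Place k K') (e : ℕ) (he : FunFld.IsOverWith Q P e)
    (φ : K →ₐ[k] LaurentSeries F) (hφ : LocRes.IsExpansionAt P.1 φ)
    (ψ : K' →ₐ[k] LaurentSeries F') (hψ : LocRes.IsExpansionAt Q.1 ψ)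
    (x : K) (hx : LocRes.vDiff φ 1 x ≠ 0) (hx' : LocRes.vDiff ψ 1 (algebraMap K K' x) ≠ 0)
    [P.1.HasExtension Q.1]
    (hf : Function.Surjective (algebraMap (IsLocalRing.ResidueField P.O) (IsLocalRing.ResidueField Q.O)))
    [Algebra P.O K'] [IsScalarTower P.O K K']
    (y : K') (hy : IntermediateField.adjoin K ({y} : Set K') = ⊤) (hyi : IsIntegral P.O y) :
    LocRes.diffExp φ ψ e x ≤ Q.ord (Polynomial.aeval y (Polynomial.derivative (minpoly K y))) ∧
    (Q.ord (Polynomial.aeval y (Polynomial.derivative (minpoly K y))) = LocRes.diffExp φ ψ e x →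
      ∀ z : K', Q.1 z ≤ 1 → ∃ a ∈ Algebra.adjoin P.O ({y} : Set K'), ∃ b ∈ Algebra.adjoin P.O ({y} : Set K'),
        Q.1 b = 1 ∧ z * b = a) := by
  classical
  obtain ⟨hA, y₀, hy₀dual, hy₀Q⟩ := Groth.Agent.S12574.result k K K' hK hg F F' P Q e he φ hφ ψ hψ
    x hx hx' hf
  have hQP : FunFld.IsOver Q P := ⟨e, he⟩
  have hgen : Algebra.adjoin K ({y} : Set K') = ⊤ := by
    have h1 := IntermediateField.adjoin_simple_toSubalgebra_of_isAlgebraic
      (Algebra.IsAlgebraic.isAlgebraic (R := K) y)
    rw [hy, IntermediateField.top_toSubalgebra] at h1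
    exact h1.symm
  have hδ := Groth.Agent.H57.Cond.delta_ne_zero (K₀ := K) y
  set δ := Polynomial.aeval y (Polynomial.derivative (minpoly K y)) with hδdef
  have hadjint : ∀ r ∈ Algebra.adjoin P.O ({y} : Set K'), IsIntegral P.O r := by
    intro r hr
    have hle : Algebra.adjoin P.O ({y} : Set K') ≤ integralClosure P.O K' :=
      Algebra.adjoin_le (Set.singleton_subset_iff.2 hyi)
    exact hle hr
  have hintval : ∀ r : K', IsIntegral P.O r → ∀ Q' : FunFld.Place k K', FunFld.IsOver Q' P →
      Q'.1 r ≤ 1 := by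
    rintro r hr Q' ⟨e', he'⟩
    exact Groth.Agent.FF.Ext.val_le_one_of_isIntegral he' hr
  -- multiples of `y₀` by integral elements, times `δ`, lie in `O_P[y]`
  have hmem : ∀ s : K', IsIntegral P.O s → y₀ * s * δ ∈ Algebra.adjoin P.O ({y} : Set K') := by
    intro s hs
    rw [Groth.Agent.H57.Euler.mul_delta_mem_adjoin_iff P y hyi hgen (y₀ * s)]
    intro r hr
    rw [mul_assoc]
    exact hy₀dual (s * r) (hs.mul (hadjint r hr))
  have hb₀ : y₀ * δ ∈ Algebra.adjoin P.O ({y} : Set K') := by
    have := hmem 1 isIntegral_one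
    rwa [mul_one] at this
  have hb₀Q : Q.1 (y₀ * δ) ≤ 1 := hintval _ (hadjint _ hb₀) Q hQP
  have hδQ : Q.1 δ ≠ 0 := (Valuation.ne_zero_iff _).2 hδ
  have hordδ : Q.1 δ = WithZero.exp (-(Q.ord δ)) := by
    unfold FunFld.Place.ord
    rw [neg_neg, WithZero.exp_log hδQ]
  have hprod : Q.1 (y₀ * δ) = WithZero.exp (LocRes.diffExp φ ψ e x - Q.ord δ) := by
    rw [map_mul, hy₀Q, hordδ, ← WithZero.exp_add, sub_eq_add_neg]
  refine ⟨?_, ?_⟩
  · rw [hprod, ← WithZero.exp_zero, WithZero.exp_le_exp] at hb₀Q
    omega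
  · intro heq z hz
    have hb₀1 : Q.1 (y₀ * δ) = 1 := by
      rw [hprod, heq, sub_self, WithZero.exp_zero]
    by_cases hz0 : z = 0
    · refine ⟨0, Subalgebra.zero_mem _, 1, Subalgebra.one_mem _, map_one _, ?_⟩
      rw [hz0, zero_mul]
    -- a denominator clearing the poles of `z` at the other places
    set Qs : Finset (FunFld.Place k K') :=
      (Groth.Agent.FF.Ext.finite_isOver (K' := K') P).toFinset with hQs
    have hQsmem : ∀ Q', Q' ∈ Qs ↔ FunFld.IsOver Q' P := fun Q' => by
      rw [hQs, Set.Finite.mem_toFinset]; rfl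
    obtain ⟨s, hs⟩ := Groth.Agent.H57.Cond.exists_val_eq
      (fun i : ↥Qs => (i : FunFld.Place k K')) Subtype.val_injective
      (fun i => if (i : FunFld.Place k K') = Q then 0
        else min 0 (-WithZero.log ((i : FunFld.Place k K').1 z)))
    have hsQ : Q.1 s = 1 := by
      have := hs ⟨Q, (hQsmem Q).2 hQP⟩
      simpa using this
    have hsother : ∀ Q' : FunFld.Place k K', FunFld.IsOver Q' P → Q' ≠ Q →
        Q'.1 s = WithZero.exp (min 0 (-WithZero.log (Q'.1 z))) := by
      intro Q' hQ' hne
      have := hs ⟨Q', (hQsmem Q').2 hQ'⟩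
      simpa only [if_neg hne] using this
    have hsint : IsIntegral P.O s := by
      apply Groth.Agent.FF.Ext.isIntegral_of_val_le_one hK P
      intro Q' hQ'
      by_cases hne : Q' = Q
      · rw [hne, hsQ]
      · rw [hsother Q' hQ' hne]
        calc WithZero.exp (min 0 (-WithZero.log (Q'.1 z))) ≤ WithZero.exp 0 :=
              WithZero.exp_le_exp.2 (min_le_left _ _)
          _ = 1 := WithZero.exp_zero
    have hzsint : IsIntegral P.O (z * s) := by
      apply Groth.Agent.FF.Ext.isIntegral_of_val_le_one hK P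
      intro Q' hQ'
      by_cases hne : Q' = Q
      · rw [hne, map_mul, hsQ, mul_one]; exact hz
      · have hz' : Q'.1 z ≠ 0 := (Valuation.ne_zero_iff _).2 hz0
        rw [map_mul, hsother Q' hQ' hne]
        calc Q'.1 z * WithZero.exp (min 0 (-WithZero.log (Q'.1 z)))
            = WithZero.exp (WithZero.log (Q'.1 z) + min 0 (-WithZero.log (Q'.1 z))) := by
              rw [WithZero.exp_add, WithZero.exp_log hz']
          _ ≤ WithZero.exp 0 := by
              rw [WithZero.exp_le_exp]
              have := min_le_right 0 (-WithZero.log (Q'.1 z))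
              omega
          _ = 1 := WithZero.exp_zero
    refine ⟨y₀ * (z * s) * δ, hmem _ hzsint, y₀ * s * δ, hmem _ hsint, ?_, ?_⟩
    · have : y₀ * s * δ = s * (y₀ * δ) := by ring
      rw [this, map_mul, hsQ, hb₀1, one_mul]
    · ring

end Groth.Agent.S12575
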