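import Groth.Statements.S12572
import Groth.Agent.S12575
import Groth.Agent.H57.LocalGen

set_option autoImplicit false
universe u v w
open FunFld

namespace Groth.Agent.S12572

/-- Let `Q` be a place of a finite separable extension `K'` of a geometric function field of one
variable `K/k`, over `P` with ramification index `e` and residue degree `1`, both places with
Laurent expansions over `k` in local parameters; if `s` with `v_Q(s) = 1` is a unit at every other
place of `K'` above `P`, then `K'` is generated over `K` by `s`, and `d(Q|P) = v_Q(f'(s))` for the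
minimal polynomial `f` of `s` over `K` (the different exponent computed on `dx`). -/
theorem result (k : Type u) (K K' : Type v) [Field k] [Field K] [Field K'] [Algebra k K] [Algebra K K'] [Algebra k K']
    [IsScalarTower k K K'] [FiniteDimensional K K'] [Algebra.IsSeparable K K']
    (hK : FunFld.IsFunctionField k K) (hg : FunFld.IsGeometric k K)
    (F F' : Type w) [Field F] [Algebra k F] [Field F'] [Algebra k F']
    (P : FunFld.Place k K) (Q : FunFld.Place k K') (e : ℕ) (he : FunFld.IsOverWith Q P e)
    (φ : K →ₐ[k] LaurentSeries F) (hφ : LocRes.IsExpansionAt P.1 φ)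
    (ψ : K' →ₐ[k] LaurentSeries F') (hψ : LocRes.IsExpansionAt Q.1 ψ)
    (x : K) (hx : LocRes.vDiff φ 1 x ≠ 0) (hx' : LocRes.vDiff ψ 1 (algebraMap K K' x) ≠ 0)
    [P.1.HasExtension Q.1]
    (hf : Function.Surjective (algebraMap (IsLocalRing.ResidueField P.O) (IsLocalRing.ResidueField Q.O)))
    (s : K') (hs : Q.1 s = WithZero.exp (-1))
    (hs' : ∀ Q' : FunFld.Place k K', FunFld.IsOver Q' P → Q' ≠ Q → Q'.1 s = 1) :
    IntermediateField.adjoin K ({s} : Set K') = ⊤ ∧
    Q.ord (Polynomial.aeval s (Polynomial.derivative (minpoly K s))) = LocRes.diffExp φ ψ e x := by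
  classical
  letI aO : Algebra P.O K' := ((algebraMap K K').comp P.O.subtype).toAlgebra
  haveI t1 : IsScalarTower P.O K K' := IsScalarTower.of_algebraMap_eq (fun _ => rfl)
  have hQP : FunFld.IsOver Q P := ⟨e, he⟩
  obtain ⟨b, hbA, hbQ, hbR⟩ :=
    Groth.Agent.H57.LGen.exists_conductor_unit hK P Q hQP hf s hs hs'
  have hb0 : b ≠ 0 := by
    intro h0
    rw [h0, map_zero] at hbQ
    exact zero_ne_one hbQ
  have hsint : ∀ Q' : FunFld.Place k K', FunFld.IsOver Q' P → Q'.1 s ≤ 1 := by
    intro Q' hQ'
    by_cases hne : Q' = Q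
    · rw [hne, hs]
      calc (WithZero.exp (-1 : ℤ) : WithZero (Multiplicative ℤ)) ≤ WithZero.exp 0 :=
            WithZero.exp_le_exp.2 (by norm_num)
        _ = 1 := WithZero.exp_zero
    · rw [hs' Q' hQ' hne]
  have hsI : IsIntegral P.O s := Groth.Agent.FF.Ext.isIntegral_of_val_le_one hK P hsint
  have hintval : ∀ r : K', IsIntegral P.O r → ∀ Q' : FunFld.Place k K', FunFld.IsOver Q' P →
      Q'.1 r ≤ 1 := by
    rintro r hr Q' ⟨e', he'⟩
    exact Groth.Agent.FF.Ext.val_le_one_of_isIntegral he' hr
  -- `O_P[s] ⊆ K(s)`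
  have hAle : ∀ r ∈ Algebra.adjoin P.O ({s} : Set K'),
      r ∈ IntermediateField.adjoin K ({s} : Set K') := by
    intro r hr
    induction hr using Algebra.adjoin_induction with
    | mem x hx =>
      rw [Set.mem_singleton_iff] at hx
      rw [hx]
      exact IntermediateField.mem_adjoin_simple_self K s
    | algebraMap c => exact IntermediateField.algebraMap_mem _ (c : K)
    | add x y _ _ hx hy => exact add_mem hx hy
    | mul x y _ _ hx hy => exact mul_mem hx hy
  have htop : IntermediateField.adjoin K ({s} : Set K') = ⊤ := by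
    rw [eq_top_iff]
    intro z _
    have hzalg : IsAlgebraic P.O z :=
      (IsFractionRing.isAlgebraic_iff P.O K K').2 (Algebra.IsAlgebraic.isAlgebraic z)
    obtain ⟨c, hc0, hcz⟩ := hzalg.exists_integral_multiple
    have hc0' : algebraMap K K' (c : K) ≠ 0 := by
      rw [Ne, map_eq_zero]
      exact fun h => hc0 (Subtype.ext h)
    have h1 : b * (c • z) ∈ IntermediateField.adjoin K ({s} : Set K') :=
      hAle _ (hbR _ (hintval _ hcz))
    have h2 : c • z = algebraMap K K' (c : K) * z := by
      rw [Algebra.smul_def]; rfl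
    have h3 : z = (b * (c • z)) * (b * algebraMap K K' (c : K))⁻¹ := by
      rw [h2]
      field_simp
    rw [h3]
    exact mul_mem h1 (inv_mem (mul_mem (hAle b hbA) (IntermediateField.algebraMap_mem _ _)))
  refine ⟨htop, ?_⟩
  have hgen : Algebra.adjoin K ({s} : Set K') = ⊤ := by
    have h1 := IntermediateField.adjoin_simple_toSubalgebra_of_isAlgebraic
      (Algebra.IsAlgebraic.isAlgebraic (R := K) s)
    rw [htop, IntermediateField.top_toSubalgebra] at h1
    exact h1.symm
  have hδ := Groth.Agent.H57.Cond.delta_ne_zero (K₀ := K) s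
  set δ := Polynomial.aeval s (Polynomial.derivative (minpoly K s)) with hδdef
  have hlower := (Groth.Agent.S12575.result k K K' hK hg F F' P Q e he φ hφ ψ hψ x hx hx' hf
    s htop hsI).1
  have hupper : Q.ord δ ≤ LocRes.diffExp φ ψ e x := by
    have hdual : ∀ z : K', IsIntegral P.O z →
        P.1 (Algebra.trace K K' (b * δ⁻¹ * z)) ≤ 1 := by
      intro z hz
      have h1 := (Groth.Agent.H57.Euler.mul_delta_mem_adjoin_iff P s hsI hgen δ⁻¹).1 (by
        rw [inv_mul_cancel₀ hδ]; exact Subalgebra.one_mem _) (b * z) (hbR z (hintval z hz))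
      have h2 : b * δ⁻¹ * z = δ⁻¹ * (b * z) := by ring
      rw [h2]
      exact h1
    have h3 := (Groth.Agent.S12574.result k K K' hK hg F F' P Q e he φ hφ ψ hψ x hx hx' hf).1
      (b * δ⁻¹) hdual
    have hδQ : Q.1 δ ≠ 0 := (Valuation.ne_zero_iff _).2 hδ
    have h4 : Q.1 (b * δ⁻¹) = WithZero.exp (Q.ord δ) := by
      rw [map_mul, hbQ, one_mul, map_inv₀]
      unfold FunFld.Place.ord
      rw [WithZero.exp_neg, WithZero.exp_log hδQ]
    rw [h4, WithZero.exp_le_exp] at h3
    exact h3
  exact le_antisymm hupper hlower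

end Groth.Agent.S12572
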