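import Groth.Statements.S12578
import Groth.Agent.H57.TateSum3
import Groth.Agent.FunFld.IntClosure

set_option autoImplicit false
universe u v w
open FunFld

namespace Groth.Agent.S12578

/-- For a geometric function field of one variable `K/k`, a finite separable extension `K'` with the
same constant field, a place `P` of `K` and `ω = y dx` with `y ∈ K'`, `x ∈ K`: `Res_P(tr_{K'/K}(y)
dx) = ∑_{Q | P} Res_Q(y dx)`; residues are read through Laurent expansions over `k` at `P` and at
every `Q` over `P` (so these places are separable). -/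
theorem result (k : Type u) (K K' : Type v) [Field k] [Field K] [Field K'] [Algebra k K] [Algebra K K'] [Algebra k K']
    [IsScalarTower k K K'] [FiniteDimensional K K'] [Algebra.IsSeparable K K']
    (hK : FunFld.IsFunctionField k K) (hg : FunFld.IsGeometric k K)
    (hK' : FunFld.IsFunctionField k K') (P : FunFld.Place k K)
    (F : Type w) [Field F] [Algebra k F] [FiniteDimensional k F]
    (φ : K →ₐ[k] LaurentSeries F) (hφ : LocRes.IsExpansionAt P.1 φ)
    (Qs : Finset (FunFld.Place k K')) (hQs : ∀ Q, Q ∈ Qs ↔ FunFld.IsOver Q P)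
    (F' : FunFld.Place k K' → Type w) [∀ Q, Field (F' Q)] [∀ Q, Algebra k (F' Q)] [∀ Q, FiniteDimensional k (F' Q)]
    (ψ : ∀ Q, K' →ₐ[k] LaurentSeries (F' Q)) (hψ : ∀ Q ∈ Qs, LocRes.IsExpansionAt Q.1 (ψ Q))
    (y : K') (x : K) :
    LocRes.locRes φ (Algebra.trace K K' y) x = ∑ Q ∈ Qs, LocRes.locRes (ψ Q) y (algebraMap K K' x) := by
  classical
  open Groth.Agent.H57.Tate Groth.Agent.FF Groth.Agent.FF.Ext in
  -- the place below
  obtain ⟨π, hπ, hπres⟩ := exists_isProj_fpTrace_eq P.1 φ hφ P.2.1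
  have hEP : ∀ u : K, InE (valSub P.1 P.2.1) (mulK k u) :=
    fun u => inE_mulK_valSub P.1 φ hφ P.2.1 u
  -- the places above
  have hexQ : ∀ Q : FunFld.Place k K', ∃ πQ : Module.End k K', Q ∈ Qs →
      (LinearMap.IsProj (valSub Q.1 Q.2.1) πQ ∧
        ∀ u v : K', fpTrace (theta πQ (mulK k u) (mulK k v)) = LocRes.locRes (ψ Q) u v) := by
    intro Q
    by_cases hQ : Q ∈ Qs
    · obtain ⟨πQ, h1, h2⟩ := exists_isProj_fpTrace_eq Q.1 (ψ Q) (hψ Q hQ) Q.2.1
      exact ⟨πQ, fun _ => ⟨h1, h2⟩⟩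
    · exact ⟨0, fun h => absurd h hQ⟩
  choose πQ hπQ using hexQ
  have hEQ : ∀ Q ∈ Qs, ∀ z : K', InE (valSub Q.1 Q.2.1) (mulK k z) :=
    fun Q hQ z => inE_mulK_valSub Q.1 (ψ Q) (hψ Q hQ) Q.2.1 z
  obtain ⟨hER, hsum⟩ := tres_iInf_eq_sum Qs y (algebraMap K K' x) hEQ πQ
    (fun Q hQ => (hπQ Q hQ).1)
  set R : Submodule k K' := ⨅ Q ∈ Qs, valSub Q.1 Q.2.1 with hR
  have hmemR : ∀ w : K', w ∈ R ↔ ∀ Q : FunFld.Place k K', FunFld.IsOver Q P → Q.1 w ≤ 1 := by
    intro w
    rw [hR, Submodule.mem_iInf]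
    constructor
    · intro h Q hQ
      have := h Q
      rw [Submodule.mem_iInf] at this
      exact this ((hQs Q).2 hQ)
    · intro h Q
      rw [Submodule.mem_iInf]
      intro hQ
      exact h Q ((hQs Q).1 hQ)
  -- the integral basis
  obtain ⟨yb, hyb1, hli, hyb3⟩ := exists_integral_basis (K' := K') hK P
  have hcard : Fintype.card (Fin (Module.finrank K K')) = Module.finrank K K' := Fintype.card_fin _
  have hne : Nonempty (Fin (Module.finrank K K')) := by
    rw [← Fintype.card_pos_iff, hcard]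
    exact Module.finrank_pos
  set b : Module.Basis (Fin (Module.finrank K K')) K K' :=
    basisOfLinearIndependentOfCardEqFinrank hli hcard with hb
  have hbp : ∀ p, b p = yb p := fun p => by
    rw [hb, coe_basisOfLinearIndependentOfCardEqFinrank]
  have h1 : ∀ p, ∀ a ∈ valSub (k := k) P.1 P.2.1, a • b p ∈ R := by
    intro p a ha
    rw [hmemR]
    intro Q hQ
    obtain ⟨e, he⟩ := hQ
    rw [Algebra.smul_def, map_mul, he a, hbp]
    have ha' : P.1 a ≤ 1 := ha
    calc P.1 a ^ e * Q.1 (yb p) ≤ 1 * 1 :=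
          mul_le_mul' (pow_le_one' ha' e) (hyb1 Q ⟨e, he⟩ p)
      _ = 1 := one_mul _
  have h2 : ∀ w ∈ R, ∀ p, b.repr w p ∈ valSub (k := k) P.1 P.2.1 := by
    intro w hw p
    obtain ⟨g, hg1, hwg⟩ := hyb3 w ((hmemR w).1 hw)
    have hrepr : b.repr w = Finsupp.equivFunOnFinite.symm g := by
      have hw' : w = ∑ q, g q • b q := by
        rw [hwg]
        refine Finset.sum_congr rfl fun q _ => ?_
        rw [Algebra.smul_def, hbp]
      rw [hw']
      ext q
      rw [map_sum, Finset.sum_apply']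
      simp only [map_smul, Module.Basis.repr_self, Finsupp.smul_apply, smul_eq_mul,
        Finsupp.single_apply, mul_ite, mul_one, mul_zero]
      rw [Finset.sum_ite_eq' Finset.univ q, if_pos (Finset.mem_univ q)]
      rfl
    rw [hrepr]
    exact hg1 p
  have hπR := isProj_blockProj b hπ h1 h2
  have hblock := tres_blockProj b hπ h1 h2 hEP y x
  have hsumR := hsum (blockProj b π) hπR
  rw [← hπres]
  change tres π (mulK k (Algebra.trace K K' y)) (mulK k x) = _
  rw [← hblock, hsumR]
  refine Finset.sum_congr rfl fun Q hQ => ?_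
  exact (hπQ Q hQ).2 y (algebraMap K K' x)

end Groth.Agent.S12578
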