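import Groth.Statements.S12590
import Groth.Agent.H57.ResLocal
import Groth.Agent.H57.ResSep

set_option autoImplicit false
universe u v w
open FunFld

namespace Groth.Agent.S12590

/-- At a place `P` of a geometric function field of one variable `K/k` and for a separating variable
`x`, the local residue `Res_P(y dx)` is nonzero for some `y`; stated at a separable place through a
Laurent expansion over `k`, with `y` found in `K` itself. (The companion assertion on the largest
finite extension of `k` inside the completion is not stated.) -/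
theorem result (k : Type u) (K : Type v) [Field k] [Field K] [Algebra k K] (hK : FunFld.IsFunctionField k K) (hg : FunFld.IsGeometric k K)
    (P : FunFld.Place k K) (F : Type w) [Field F] [Algebra k F] [FiniteDimensional k F]
    (φ : K →ₐ[k] LaurentSeries F) (hφ : LocRes.IsExpansionAt P.1 φ)
    (x : K) (hx : KaehlerDifferential.D k K x ≠ 0) :
    ∃ y : K, LocRes.locRes φ y x ≠ 0 := by
  open Groth.Agent.H57.ResW WithZero in
  have hD : LocRes.D F (φ x) ≠ 0 := D_expansion_ne_zero_of_D_ne_zero hK hg hx P.1 φ hφ
  have hsep : Algebra.IsSeparable k F := isSeparable_coeffField hK hg P.1 φ hφ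
  obtain ⟨β, hβ⟩ := Algebra.trace_surjective k F 1
  have hv0 : Valued.v (LocRes.D F (φ x)) ≠ (0 : ℤᵐ⁰) := (Valuation.ne_zero_iff _).2 hD
  have hg' : Valued.v (LocRes.D F (φ x)) =
      (exp (-(-(log (Valued.v (LocRes.D F (φ x)))))) : ℤᵐ⁰) := by
    rw [neg_neg, exp_log hv0]
  obtain ⟨a, -, ha⟩ := exists_coeff_eq P.1 φ hφ _ _ hg' β
  refine ⟨a, ?_⟩
  unfold LocRes.locRes LocRes.resExp
  rw [LocRes.res_apply, ha, hβ]
  exact one_ne_zero

end Groth.Agent.S12590
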