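import Groth.Statements.S12602
import Groth.Agent.H57.Jumps


set_option autoImplicit false
open FunFld

namespace Groth.Agent.S12602

/-- Over an algebraically closed constant field, for a birational projective map `φ = (φ₀, …, φₙ)`, `n ≥
1`, with orders `j₁ < ⋯ < jₙ`, and `τ ≠ 1`, the `τ`-orders of `φ` are `(0, j₁, …, j_{m-1}, j_{m+1},
…, jₙ)` for some `m`: the jump indices of `[τ(φ) | D^(0) φ | D^(1) φ | ⋯]` after the leading column
are `0` and the `jₗ` with `l ≠ m`. -/
theorem result
    (k K : Type*) [Field k] [IsAlgClosed k] [Field K] [Algebra k K]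
    (hK : FunFld.IsFunctionField k K) {n : ℕ} (hn : 0 < n) (φ : Fin (n + 1) → K) (hφ : LinearIndependent k φ)
    (h0 : φ 0 ≠ 0) (hbir : IntermediateField.adjoin k (Set.range fun i => φ i / φ 0) = ⊤)
    (τ : K →ₐ[k] K) (hτ : τ ≠ AlgHom.id k K) (s : K) (H : K →ₐ[k] PowerSeries K) (hH : LocRes.IsHasseFamily s H)
    (J : Fin n → ℕ) (hJ : FunFld.IsOrders K (FunFld.hcol (AlgHom.id k K) H φ) J) :
    ∃ m : Fin n, ∀ j : ℕ,
      FunFld.IsJump K (FunFld.hcol τ H φ) (j + 1) ↔ (j = 0 ∨ ∃ l, l ≠ m ∧ J l = j) := by
  classical
  set c := hcol (AlgHom.id k K) H φ with hc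
  set c' := hcol τ H φ with hc'
  have hcc' : ∀ j, c' (j + 1) = c (j + 1) := fun j => rfl
  have h01 : c 1 = c 0 := by
    funext i
    change LocRes.hasseD H 0 (φ i) = φ i
    rw [LocRes.hasseD_apply, PowerSeries.coeff_zero_eq_constantCoeff_apply]
    exact hH.2 _
  have hv0 : c' 0 ≠ 0 := by
    intro h
    have h1 := congrFun h 0
    change τ (φ 0) = 0 at h1
    exact h0 ((map_eq_zero τ).1 h1)
  have hc0 : c 0 ≠ 0 := by
    intro h
    have h1 := congrFun h 0
    exact h0 h1
  have hv : c' 0 ∉ Submodule.span K {c 0} := by
    intro hmem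
    rw [Submodule.mem_span_singleton] at hmem
    obtain ⟨lam, hlam⟩ := hmem
    have hlam' : ∀ i, τ (φ i) = lam * φ i := by
      intro i
      have := congrFun hlam i
      exact this.symm
    have hlam0 : lam ≠ 0 := by
      rintro rfl
      have := hlam' 0
      rw [zero_mul] at this
      exact h0 ((map_eq_zero τ).1 this)
    apply hτ
    let F : IntermediateField k K :=
      { toSubalgebra := AlgHom.equalizer τ (AlgHom.id k K)
        inv_mem' := fun x hx => by
          change τ x⁻¹ = x⁻¹
          have hx' : τ x = x := hx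
          rw [map_inv₀, hx'] }
    have hF : IntermediateField.adjoin k (Set.range fun i => φ i / φ 0) ≤ F := by
      rw [IntermediateField.adjoin_le_iff]
      rintro _ ⟨i, rfl⟩
      change τ (φ i / φ 0) = φ i / φ 0
      rw [map_div₀, hlam' i, hlam' 0, mul_div_mul_left _ _ hlam0]
    rw [hbir] at hF
    ext x
    have : x ∈ F := hF IntermediateField.mem_top
    exact this
  obtain ⟨hJmono, hJrange⟩ := hJ
  have htop : ∃ N, c' 0 ∈ Submodule.span K (c '' Set.Iio N) := by
    set idx : Fin (n + 1) → ℕ := fun i => Fin.cases (motive := fun _ => ℕ) 0 (fun l => J l + 1) i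
      with hidx
    have hidxmono : StrictMono idx := by
      intro a b hab
      induction a using Fin.cases with
      | zero =>
        induction b using Fin.cases with
        | zero => exact absurd hab (lt_irrefl _)
        | succ b => simp [idx]
      | succ a =>
        induction b using Fin.cases with
        | zero => exact absurd hab (Fin.not_lt_zero _)
        | succ b =>
          simp only [idx, Fin.cases_succ]
          have := hJmono (Fin.succ_lt_succ_iff.1 hab)
          omega
    have hjumps : ∀ i, IsJump K c (idx i) := by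
      intro i
      induction i using Fin.cases with
      | zero =>
        simp only [idx, Fin.cases_zero]
        unfold IsJump
        have hI0 : Set.Iio (0 : ℕ) = ∅ := by
          ext j; simp
        rw [hI0, Set.image_empty, Submodule.span_empty, Submodule.mem_bot]
        exact hc0
      | succ l =>
        simp only [idx, Fin.cases_succ]
        exact (hJrange (J l)).1 ⟨l, rfl⟩
    have hli := Groth.Agent.H57.linearIndependent_of_isJump c idx hidxmono hjumps
    have hspan := hli.span_eq_top_of_card_eq_finrank' (by simp)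
    refine ⟨idx (Fin.last n) + 1, ?_⟩
    have hmem : c' 0 ∈ Submodule.span K (Set.range fun i => c (idx i)) := by
      rw [hspan]; exact Submodule.mem_top
    refine Submodule.span_mono ?_ hmem
    rintro _ ⟨i, rfl⟩
    refine ⟨idx i, ?_, rfl⟩
    have := hidxmono.monotone (Fin.le_last i)
    simp only [Set.mem_Iio]
    omega
  exact Groth.Agent.H57.exists_orders_replace_leading c c' hcc' h01 hv0 hv hc0 htop J
    ⟨hJmono, hJrange⟩

end Groth.Agent.S12602
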