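import Groth.Statements.S12610
import Groth.Agent.H57.WDivPos
import Groth.Agent.H57.OrdersExist
import Groth.Agent.S12595
import Groth.Agent.S12614

set_option autoImplicit false
open FunFld

namespace Groth.Agent.S12610

/-- Over an algebraically closed constant field, for a birational projective map `φ`, a `k`-endomorphism
`τ ≠ 1` and a place `P` fixed by `τ`, the place `P` is a Weierstrass point of `φ` with respect to
`τ`: the Weierstrass divisor `W(φ, τ) = [w_s(φ, τ)] + [τ(φ)] + n[φ] + j(φ, τ)[ds]` has positive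
coefficient at `P` (the divisor of `ds` read through a family of Laurent expansions). -/
theorem result
    (k K : Type*) [Field k] [IsAlgClosed k] [Field K] [Algebra k K]
    (hK : FunFld.IsFunctionField k K) {n : ℕ} (φ : Fin (n + 1) → K) (hφ : LinearIndependent k φ)
    (h0 : φ 0 ≠ 0) (hbir : IntermediateField.adjoin k (Set.range fun i => φ i / φ 0) = ⊤)
    (τ : K →ₐ[k] K) (hτ : τ ≠ AlgHom.id k K) (P : FunFld.Place k K) (hP : FunFld.IsFixedPt τ P)
    (s : K) (H : K →ₐ[k] PowerSeries K) (hH : LocRes.IsHasseFamily s H)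
    (J : Fin n → ℕ) (hJ : FunFld.IsOrders K (FunFld.hcol τ H φ) J)
    (Φ : FunFld.Place k K → (K →ₐ[k] LaurentSeries k))
    (hΦ : ∀ P : FunFld.Place k K, LocRes.IsExpansionAt P.1 (Φ P)) :
    0 < FunFld.wDiv τ H Φ s φ J P := by
  classical
  open Groth.Agent.H57 Groth.Agent.FF in
  -- a local parameter at `P` with its Hasse family
  obtain ⟨t, ht⟩ := P.2.2 (WithZero.exp (-1 : ℤ))
  obtain ⟨Ht, hHt⟩ := exists_local_hasse hK s H hH P (Φ P) (hΦ P) t ht
  -- normalization at `P`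
  obtain ⟨i₀, hi₀⟩ := Finite.exists_max (fun i => P.1 (φ i))
  have hφ0 : ∀ i, φ i ≠ 0 := fun i => hφ.ne_zero i
  set y : K := (φ i₀)⁻¹ with hy
  have hy0 : y ≠ 0 := inv_ne_zero (hφ0 i₀)
  set φ' : Fin (n + 1) → K := y • φ with hφ'def
  have hφ'A : ∀ i, φ' i = y * ∑ j, (1 : Matrix (Fin (n + 1)) (Fin (n + 1)) k) i j • φ j := by
    intro i
    simp [Matrix.one_apply, hφ'def]
  have hinv := Groth.Agent.S12614.result k K hK φ hφ τ s H hH t Ht hHt J hJ 1
    (by rw [Matrix.det_one]; exact one_ne_zero) y hy0 φ' hφ'A Φ hΦ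
  rw [← hinv]
  have hnorm : ∀ i, P.1 (φ' i) ≤ 1 := by
    intro i
    change P.1 (y * φ i) ≤ 1
    rw [hy, map_mul, map_inv₀, inv_mul_le_iff₀ (zero_lt_iff.2 ((P.1.ne_zero_iff).2 (hφ0 i₀))),
      mul_one]
    exact hi₀ i
  have heff : (1 : K) ∈ Submodule.span k (Set.range φ') := by
    apply Submodule.subset_span
    refine ⟨i₀, ?_⟩
    change y * φ i₀ = 1
    rw [hy, inv_mul_cancel₀ (hφ0 i₀)]
  rw [wDiv_apply_of_fixedPt hK P τ hP φ' heff hnorm t ht Ht J Φ (hΦ P)]
  -- `J` is the order sequence for the new data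
  have hJt : FunFld.IsOrders K (FunFld.hcol τ Ht φ) J :=
    ((Groth.Agent.S12598.result k K hK φ hφ τ s H hH t Ht hHt).1 J).2 hJ
  have hJt' : FunFld.IsOrders K (FunFld.hcol τ Ht φ') J :=
    ((Groth.Agent.S12597.result k K hK φ hφ τ t Ht hHt y hy0).1 J).2 hJt
  have hc0 : FunFld.hcol τ Ht φ' 0 ≠ 0 := by
    intro h
    have h1 := congrFun h i₀
    change τ (y * φ i₀) = 0 at h1
    rw [hy, inv_mul_cancel₀ (hφ0 i₀), map_one] at h1
    exact one_ne_zero h1
  have hdet0 : (FunFld.wrMat τ Ht φ' J).det ≠ 0 :=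
    det_wrMat_ne_zero_of_isOrders τ Ht φ' J hJt' hc0
  -- `0` is a `τ`-order
  have hjump : FunFld.IsJump K (FunFld.hcol τ H φ) (0 + 1) := by
    by_contra hcon
    exact hτ ((Groth.Agent.S12595.result k K hK φ h0 hbir τ s H hH).1 hcon)
  obtain ⟨l₀, hl₀⟩ := (hJ.2 0).2 hjump
  rw [← val_lt_one_iff P hdet0]
  exact val_det_wrMat_lt_one hK P τ hP φ' hnorm t ht Ht hHt J l₀ hl₀

end Groth.Agent.S12610
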