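import Groth.Statements.S12611
import Groth.Agent.H57.Classical
import Groth.Agent.S12597
import Groth.Agent.S12598
import Groth.Agent.S12605
import Groth.Agent.S12607

set_option autoImplicit false
open FunFld

namespace Groth.Agent.S12611

/-- Over an algebraically closed constant field of characteristic `0` or greater than `deg φ`, a
birational projective map `φ = (φ₀, …, φₙ)` is classical: its orders are `(1, 2, …, n)`, and for a
`k`-endomorphism `τ ≠ 1` its `τ`-orders are `(0, 1, …, n-1)`. (The published statement has no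
fixed-point hypothesis for `τ ≠ 1` and is false without one: on a smooth plane cubic in
characteristic `0`, pulling back along multiplication by `-2` gives `τ`-orders `(0, 2)`. This row
assumes `τ` has a strong fixed point — a place whose maximal ideal `τ` maps into its square — which
is what the proof uses, through the equality criterion for Wronskian orders at such a point.) -/
theorem result
    (k K : Type*) [Field k] [IsAlgClosed k] [Field K] [Algebra k K]
    (hK : FunFld.IsFunctionField k K) {n : ℕ} (φ : Fin (n + 1) → K) (hφ : LinearIndependent k φ)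
    (h0 : φ 0 ≠ 0) (hbir : IntermediateField.adjoin k (Set.range fun i => φ i / φ 0) = ⊤)
    (hchar : ringChar k = 0 ∨ (FunFld.mapDiv k φ).deg < ringChar k)
    (τ : K →ₐ[k] K) (s : K) (H : K →ₐ[k] PowerSeries K) (hH : LocRes.IsHasseFamily s H) :
    (τ = AlgHom.id k K → FunFld.IsOrders K (FunFld.hcol τ H φ) (fun l : Fin n => (l : ℕ) + 1)) ∧
    (τ ≠ AlgHom.id k K → (∃ P : FunFld.Place k K, FunFld.IsStrongFixedPt τ P) →
      FunFld.IsOrders K (FunFld.hcol τ H φ) (fun l : Fin n => (l : ℕ))) := by
  classical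
  open Groth.Agent.H57 Groth.Agent.FF in
  have hφ0 : ∀ i, φ i ≠ 0 := fun i => hφ.ne_zero i
  set N : ℕ := ((FunFld.mapDiv k φ).deg).toNat with hNdef
  have hN : ringChar k = 0 ∨ N < ringChar k := by
    rcases hchar with h | h
    · exact Or.inl h
    · by_cases h0 : ringChar k = 0
      · exact Or.inl h0
      · right
        omega
  -- the key construction at a fixed point `P` of `τ`
  have key : ∀ (τ : K →ₐ[k] K) (P : FunFld.Place k K) (_ : FunFld.IsFixedPt τ P) (I : Fin n → ℕ)
      (_ : StrictMono I) (_ : (∀ l, 0 < I l) ∨ FunFld.IsStrongFixedPt τ P)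
      (_ : ∀ J' : Fin n → ℕ, StrictMono J' → (∀ l, 0 < J' l) → (∀ l, J' l ≤ N) →
        (FunFld.binomMat k J' I).det ≠ 0),
      ∃ (t : K) (Ht : K →ₐ[k] PowerSeries K) (y : K), LocRes.IsHasseFamily t Ht ∧ y ≠ 0 ∧
        (FunFld.wrMat τ Ht (y • φ) I).det ≠ 0 := by
    intro τ P hP I hI hcond hbin
    obtain ⟨t, ht⟩ := P.2.2 (WithZero.exp (-1 : ℤ))
    obtain ⟨Ht, hHt⟩ := exists_local_hasse' hK s H hH P t ht
    obtain ⟨i₀, hi₀⟩ := Finite.exists_max (fun i => P.1 (φ i))
    set y : K := (φ i₀)⁻¹ with hy
    have hy0 : y ≠ 0 := inv_ne_zero (hφ0 i₀)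
    set φ' : Fin (n + 1) → K := y • φ with hφ'def
    have hφ'li : LinearIndependent k φ' := by
      have hker : LinearMap.ker (LinearMap.mulLeft k y) = ⊥ := by
        rw [LinearMap.ker_eq_bot]
        intro a b hab
        exact mul_left_cancel₀ hy0 hab
      exact hφ.map' (LinearMap.mulLeft k y) hker
    have hnorm : ∀ i, P.1 (φ' i) ≤ 1 := by
      intro i
      change P.1 (y * φ i) ≤ 1
      rw [hy, map_mul, map_inv₀, inv_mul_le_iff₀ (zero_lt_iff.2 ((P.1.ne_zero_iff).2 (hφ0 i₀))),
        mul_one]
      exact hi₀ i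
    have hone : φ' i₀ = 1 := by
      change y * φ i₀ = 1
      rw [hy, inv_mul_cancel₀ (hφ0 i₀)]
    have heff : (1 : K) ∈ Submodule.span k (Set.range φ') :=
      Submodule.subset_span ⟨i₀, hone⟩
    have hunit : P.1 (φ' i₀) = 1 := by rw [hone, map_one]
    obtain ⟨J', hJ'⟩ := exists_isOrders_hcolAt hK P φ' hφ'li hnorm i₀ hunit t ht Ht hHt
    have h607 := (Groth.Agent.S12607.result k K hK P φ' hφ'li heff hnorm t ht Ht hHt J' hJ').2
    have hpos : ∀ l, 0 < J' l := by
      intro l
      by_contra h
      have h0 : J' l = 0 := by omega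
      have hj := (hJ'.2 0).1 ⟨l, h0⟩
      apply hj
      rw [zero_add, ← hcolAt_zero_eq_one P t φ' Ht hHt]
      exact Submodule.subset_span ⟨0, by simp, rfl⟩
    have hmapP : FunFld.mapDiv k φ' P = 0 := mapDiv_apply_eq_zero φ' P hnorm ⟨i₀, hunit⟩
    have hbound : ∀ l, J' l ≤ N := by
      intro l
      obtain ⟨f, hf, hfv⟩ := (h607 (J' l)).1 (Or.inr ⟨l, rfl⟩)
      have hf0 : f ≠ 0 := by
        rintro rfl
        rw [map_zero] at hfv
        exact WithZero.exp_ne_zero hfv.symm
      have hord : P.ord f = J' l := by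
        unfold FunFld.Place.ord
        rw [hfv, WithZero.log_exp, neg_neg]
      have h1 := ord_le_deg_mapDiv hK φ' P hmapP f hf hf0
      rw [hord, hφ'def, deg_mapDiv_smul hK φ hφ0 y hy0] at h1
      omega
    have hdetbin := hbin J' hJ'.1 hpos hbound
    have h605 := (Groth.Agent.S12605.result k K hK τ P hP φ' hφ'li heff hnorm t ht Ht hHt J' hJ'
      I hI).2 hcond
    have hval := h605.2 hdetbin
    refine ⟨t, Ht, y, hHt, hy0, ?_⟩
    intro h0
    rw [h0, map_zero] at hval
    exact WithZero.exp_ne_zero hval.symm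
  -- injectivity of the casts
  have hinj : ∀ J' : Fin n → ℕ, StrictMono J' → (∀ l, J' l ≤ N) →
      Function.Injective fun l => (J' l : k) := by
    intro J' hmono hle a b hab
    exact hmono.injective (natCast_inj_of_le hN (hle a) (hle b) hab)
  -- transfer of order sequences
  have transfer : ∀ (τ : K →ₐ[k] K) (t : K) (Ht : K →ₐ[k] PowerSeries K) (y : K)
      (_ : LocRes.IsHasseFamily t Ht) (_ : y ≠ 0) (I : Fin n → ℕ),
      FunFld.IsOrders K (FunFld.hcol τ Ht (y • φ)) I → FunFld.IsOrders K (FunFld.hcol τ H φ) I := by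
    intro τ t Ht y hHt hy0 I hI
    have h1 := ((Groth.Agent.S12597.result k K hK φ hφ τ t Ht hHt y hy0).1 I).1 hI
    exact ((Groth.Agent.S12598.result k K hK φ hφ τ s H hH t Ht hHt).1 I).1 h1
  have hfin : Module.finrank K (Fin (n + 1) → K) = n + 1 := Module.finrank_fin_fun K
  constructor
  · -- orders
    intro hτ
    subst hτ
    obtain ⟨P⟩ := exists_place hK
    have hI : StrictMono (fun l : Fin n => (l : ℕ) + 1) := fun a b hab => by
      change (a : ℕ) + 1 < (b : ℕ) + 1
      have : (a : ℕ) < b := hab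
      omega
    obtain ⟨t, Ht, y, hHt, hy0, hdet⟩ := key (AlgHom.id k K) P (fun z hz => hz)
      (fun l : Fin n => (l : ℕ) + 1) hI (Or.inl fun l => Nat.succ_pos _) (by
        intro J' hmono hpos hle
        have hv := hinj J' hmono hle
        have hv0 : ∀ i, (J' i : k) ≠ 0 := by
          intro i h0
          have : J' i = 0 := natCast_inj_of_le hN (hle i) (Nat.zero_le N) (by rw [h0, Nat.cast_zero])
          have := hpos i
          omega
        exact det_choose_succ_ne_zero J' hv hv0)
    apply transfer (AlgHom.id k K) t Ht y hHt hy0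
    have hli := linearIndependent_hcol_of_det_wrMat_ne_zero (AlgHom.id k K) Ht (y • φ) _ hdet
    refine isOrders_of_linearIndependent _ hfin _ hI hli ?_
    intro j hjr hjl
    obtain ⟨l, hl⟩ := hjl
    have hj0 : j = 0 := by
      by_contra hne
      apply hjr
      refine ⟨⟨j - 1, ?_⟩, ?_⟩
      · have := l.2
        change j < (l : ℕ) + 1 at hl
        omega
      · change j - 1 + 1 = j
        omega
    subst hj0
    intro hjump
    apply hjump
    have h10 : FunFld.hcol (AlgHom.id k K) Ht (y • φ) (0 + 1) =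
        FunFld.hcol (AlgHom.id k K) Ht (y • φ) 0 := by
      funext i
      change LocRes.hasseD Ht 0 ((y • φ) i) = (y • φ) i
      rw [LocRes.hasseD_apply, PowerSeries.coeff_zero_eq_constantCoeff_apply]
      exact hHt.2 _
    rw [h10]
    exact Submodule.subset_span ⟨0, by simp, rfl⟩
  · -- τ-orders
    intro _ hex
    obtain ⟨P, hstrong⟩ := hex
    have hP : FunFld.IsFixedPt τ P := fun z hz => (hstrong z hz).trans_lt exp_neg_two_lt_one
    have hI : StrictMono (fun l : Fin n => (l : ℕ)) := fun a b hab => hab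
    obtain ⟨t, Ht, y, hHt, hy0, hdet⟩ := key τ P hP (fun l : Fin n => (l : ℕ)) hI (Or.inr hstrong)
      (by
        intro J' hmono hpos hle
        exact det_choose_ne_zero J' (hinj J' hmono hle))
    apply transfer τ t Ht y hHt hy0
    have hli := linearIndependent_hcol_of_det_wrMat_ne_zero τ Ht (y • φ) _ hdet
    refine isOrders_of_linearIndependent _ hfin _ hI hli ?_
    intro j hjr hjl
    obtain ⟨l, hl⟩ := hjl
    exfalso
    apply hjr
    exact ⟨⟨j, lt_trans hl l.2⟩, rfl⟩

end Groth.Agent.S12611
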