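import Groth.Statements.S12612
import Groth.Agent.H57.MvChain
import Mathlib.Tactic.LinearCombination
import Mathlib.Tactic.FieldSimp
import Mathlib.Tactic.Module
import Mathlib.Tactic.Ring
import Mathlib.Tactic.FinCases
import Mathlib.LinearAlgebra.Matrix.Determinant.Basic


set_option autoImplicit false
open FunFld

namespace Groth.Agent.S12612

theorem alg_id {K : Type*} [Field K] (s1 u0 a01 a02 a11 a12 h1 h2 x det g2 : K) (hh2 : h2 ≠ 0)
    (hx : x = u0 * s1)
    (hkey : (a11 - x * a01) * h2 - (a12 - x * a02) * h1 = det * u0 * g2) :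
    s1 * (-(u0 * u0)) * (a01 + a02 * (-(h1 / h2))) + u0 * (a11 + a12 * (-(h1 / h2))) =
      det * u0 ^ 2 * g2 / h2 := by
  rw [eq_div_iff hh2]
  field_simp
  linear_combination u0 * hkey + u0 * (a01 * h2 - a02 * h1) * hx

/-- For a plane curve given by a homogeneous `f` of degree `e` with `f(1, x, y) = 0` and a change of
projective coordinates `X = AX'` (`A` invertible over `k`), with new affine coordinates `x' =
u₁/u₀`, `y' = u₂/u₀`, `z = 1/u₀ = X₀/X₀'` where `u = A⁻¹(1, x, y)ᵗ`, and `f'(X') = f(AX')`, the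
differentials satisfy `dx/f̂_y = det(A) z^(e-3) dx'/f̂'_{y'}`, where `f̂_y = (∂f/∂X₂)(1, x, y)` and
`f̂'_{y'} = (∂f'/∂X₂')(1, x', y')` are assumed nonzero. (Stated for any field `K` over `k`
containing such `x`, `y`; the published setting is a plane model of a function field over an
algebraically closed field, and the computation uses only the relation `f(1, x, y) = 0`.) -/
theorem result
    (k K : Type*) [Field k] [Field K] [Algebra k K]
    (f : MvPolynomial (Fin 3) k) (e : ℕ) (hf : f.IsHomogeneous e)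
    (x y : K) (hfxy : MvPolynomial.aeval ![(1 : K), x, y] f = 0)
    (A : Matrix (Fin 3) (Fin 3) k) (hA : A.det ≠ 0)
    (u : Fin 3 → K) (hu : ∀ i, ∑ j, algebraMap k K (A i j) * u j = ![(1 : K), x, y] i)
    (hu0 : u 0 ≠ 0)
    (hfy : MvPolynomial.aeval ![(1 : K), x, y] (MvPolynomial.pderiv 2 f) ≠ 0)
    (hfy' : MvPolynomial.aeval ![(1 : K), u 1 / u 0, u 2 / u 0]
      (MvPolynomial.pderiv 2
        (MvPolynomial.aeval (fun i : Fin 3 => ∑ j, MvPolynomial.C (A i j) * MvPolynomial.X j) f)) ≠ 0) :
    (MvPolynomial.aeval ![(1 : K), x, y] (MvPolynomial.pderiv 2 f))⁻¹ • KaehlerDifferential.D k K x =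
      (algebraMap k K A.det * (u 0)⁻¹ ^ ((e : ℤ) - 3) *
        (MvPolynomial.aeval ![(1 : K), u 1 / u 0, u 2 / u 0]
          (MvPolynomial.pderiv 2
            (MvPolynomial.aeval (fun i : Fin 3 => ∑ j, MvPolynomial.C (A i j) * MvPolynomial.X j) f)))⁻¹) •
        KaehlerDifferential.D k K (u 1 / u 0) := by
  classical
  set P : Fin 3 → K := ![(1 : K), x, y] with hP
  set W : Fin 3 → K := ![(1 : K), u 1 / u 0, u 2 / u 0] with hW
  set z : K := (u 0)⁻¹ with hz
  set L : Fin 3 → MvPolynomial (Fin 3) k := fun i => ∑ j, MvPolynomial.C (A i j) * MvPolynomial.X j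
    with hL
  set f' : MvPolynomial (Fin 3) k := MvPolynomial.aeval L f with hf'
  set a : Fin 3 → Fin 3 → K := fun i j => algebraMap k K (A i j) with ha
  set g : Fin 3 → K := fun i => MvPolynomial.aeval P (MvPolynomial.pderiv i f) with hg
  set g' : Fin 3 → K := fun j => MvPolynomial.aeval W (MvPolynomial.pderiv j f') with hg'
  have hz0 : z ≠ 0 := inv_ne_zero hu0
  -- W j = u j * z
  have hWu : ∀ j, W j = z * u j := by
    intro j
    fin_cases j
    · simp [W, z, hu0]
    · change u 1 / u 0 = (u 0)⁻¹ * u 1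
      rw [div_eq_mul_inv, mul_comm]
    · change u 2 / u 0 = (u 0)⁻¹ * u 2
      rw [div_eq_mul_inv, mul_comm]
  -- (a) aeval W (L i) = z * P i
  have hWL : ∀ i, MvPolynomial.aeval W (L i) = z * P i := by
    intro i
    simp only [L, map_sum, map_mul, MvPolynomial.aeval_C, MvPolynomial.aeval_X]
    rw [← hu i, Finset.mul_sum]
    refine Finset.sum_congr rfl fun j _ => ?_
    rw [hWu j]
    ring
  -- (b) evaluation of a composite
  have hcomp : ∀ q : MvPolynomial (Fin 3) k,
      MvPolynomial.aeval W (MvPolynomial.aeval L q) = MvPolynomial.aeval (fun i => z * P i) q := by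
    intro q
    rw [MvPolynomial.comp_aeval_apply]
    have hfun : (fun i => MvPolynomial.aeval W (L i)) = fun i => z * P i := funext hWL
    rw [hfun]
  -- e ≥ 1
  have he : e ≠ 0 := by
    rintro rfl
    apply hfy
    have := hf.pderiv (i := (2 : Fin 3))
    rw [← MvPolynomial.totalDegree_zero_iff_isHomogeneous,
      MvPolynomial.totalDegree_eq_zero_iff_eq_C] at hf
    rw [hf, MvPolynomial.pderiv_C, map_zero]
  obtain ⟨e', rfl⟩ : ∃ e', e = e' + 1 := ⟨e - 1, by omega⟩
  -- (c) pderiv of the composite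
  have hpd : ∀ j, MvPolynomial.pderiv j f' =
      ∑ i, MvPolynomial.aeval L (MvPolynomial.pderiv i f) * MvPolynomial.C (A i j) := by
    intro j
    have := Groth.Agent.H57.derivation_aeval (MvPolynomial.pderiv (R := k) j) L f
    rw [hf', this]
    refine Finset.sum_congr rfl fun i _ => ?_
    rw [smul_eq_mul]
    congr 1
    simp only [L, map_sum, MvPolynomial.pderiv_C_mul, MvPolynomial.pderiv_X, Pi.single_apply]
    simp
  -- (d) the new partial derivatives
  have hg'eq : ∀ j, g' j = z ^ e' * ∑ i, a i j * g i := by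
    intro j
    simp only [g', hpd, map_sum, map_mul, MvPolynomial.aeval_C, hcomp]
    rw [Finset.mul_sum]
    refine Finset.sum_congr rfl fun i _ => ?_
    have hh := (hf.pderiv (i := i))
    rw [Groth.Agent.H57.aeval_smul_of_isHomogeneous _ _ hh]
    simp only [Nat.add_sub_cancel, a, g]
    ring
  -- (e) Euler
  have hEuler : g 0 + x * g 1 + y * g 2 = 0 := by
    have h1 := congrArg (MvPolynomial.aeval P) hf.sum_X_mul_pderiv
    simp only [map_sum, map_mul, MvPolynomial.aeval_X, map_nsmul, hfxy, smul_zero,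
      Fin.sum_univ_three] at h1
    simpa [P, g] using h1
  -- (f) differential of the relation
  have hD1 : g 1 • KaehlerDifferential.D k K x + g 2 • KaehlerDifferential.D k K y = 0 := by
    have h1 := Groth.Agent.H57.derivation_aeval (KaehlerDifferential.D k K) P f
    rw [hfxy, map_zero, Fin.sum_univ_three] at h1
    simpa [P, g] using h1.symm
  -- (g) the relation in the new coordinates
  have hfW : MvPolynomial.aeval W f' = 0 := by
    rw [hf', hcomp, Groth.Agent.H57.aeval_smul_of_isHomogeneous _ _ hf, hfxy, mul_zero]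
  have hD2 : g' 1 • KaehlerDifferential.D k K (u 1 / u 0) +
      g' 2 • KaehlerDifferential.D k K (u 2 / u 0) = 0 := by
    have h1 := Groth.Agent.H57.derivation_aeval (KaehlerDifferential.D k K) W f'
    rw [hfW, map_zero, Fin.sum_univ_three] at h1
    simpa [W, g'] using h1.symm
  -- (h) differentials of x and 1 in terms of the new coordinates
  set x' := u 1 / u 0 with hx'
  set y' := u 2 / u 0 with hy'
  have hu1 : u 1 = u 0 * x' := by rw [hx']; field_simp
  have hu2 : u 2 = u 0 * y' := by rw [hy']; field_simp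
  have hrel : ∀ i, P i = u 0 * (a i 0 + a i 1 * x' + a i 2 * y') := by
    intro i
    rw [← hu i, Fin.sum_univ_three, hu1, hu2]
    simp only [a]
    ring
  have hone : (1 : K) = u 0 * (a 0 0 + a 0 1 * x' + a 0 2 * y') := hrel 0
  have hxrel : x = u 0 * (a 1 0 + a 1 1 * x' + a 1 2 * y') := hrel 1
  have hDa : ∀ i j, KaehlerDifferential.D k K (a i j) = 0 := by
    intro i j
    exact (KaehlerDifferential.D k K).map_algebraMap (A i j)
  have hDlin : ∀ i, KaehlerDifferential.D k K (a i 0 + a i 1 * x' + a i 2 * y') =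
      a i 1 • KaehlerDifferential.D k K x' + a i 2 • KaehlerDifferential.D k K y' := by
    intro i
    simp only [map_add, Derivation.leibniz, hDa, smul_zero, zero_add, add_zero]
  have hM2 : (0 : Ω[K⁄k]) = (a 0 0 + a 0 1 * x' + a 0 2 * y') • KaehlerDifferential.D k K (u 0) +
      u 0 • (a 0 1 • KaehlerDifferential.D k K x' + a 0 2 • KaehlerDifferential.D k K y') := by
    have h1 := congrArg (KaehlerDifferential.D k K) hone
    rw [Derivation.leibniz, hDlin, Derivation.map_one_eq_zero] at h1
    rw [h1]; abel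
  have hM1 : KaehlerDifferential.D k K x =
      (a 1 0 + a 1 1 * x' + a 1 2 * y') • KaehlerDifferential.D k K (u 0) +
      u 0 • (a 1 1 • KaehlerDifferential.D k K x' + a 1 2 • KaehlerDifferential.D k K y') := by
    have h1 := congrArg (KaehlerDifferential.D k K) hxrel
    rw [Derivation.leibniz, hDlin] at h1
    rw [h1]; abel
  have hg2 : g 2 ≠ 0 := hfy
  have hg'2 : g' 2 ≠ 0 := hfy'
  set h : Fin 3 → K := fun j => ∑ i, a i j * g i with hh
  have hh2 : h 2 ≠ 0 := by
    intro h0
    apply hg'2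
    rw [hg'eq 2]
    change z ^ e' * h 2 = 0
    rw [h0, mul_zero]
  have hratio : g' 1 / g' 2 = h 1 / h 2 := by
    rw [hg'eq 1, hg'eq 2]
    exact mul_div_mul_left _ _ (pow_ne_zero _ hz0)
  -- Cramer + Euler
  have hkey : (a 1 1 - x * a 0 1) * h 2 - (a 1 2 - x * a 0 2) * h 1 =
      algebraMap k K A.det * u 0 * g 2 := by
    have e0 := hu 0
    have e1 := hu 1
    have e2 := hu 2
    rw [Fin.sum_univ_three] at e0 e1 e2
    simp only [P, Matrix.cons_val_zero, Matrix.cons_val_one, Matrix.cons_val] at e0 e1 e2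
    rw [Matrix.det_fin_three]
    simp only [map_sub, map_add, map_mul, hh, Fin.sum_univ_three]
    simp only [a] at *
    linear_combination
      (-(algebraMap k K (A 0 1) * algebraMap k K (A 1 2) -
          algebraMap k K (A 0 2) * algebraMap k K (A 1 1))) * hEuler
      - g 2 * (algebraMap k K (A 1 1) * algebraMap k K (A 2 2) -
          algebraMap k K (A 1 2) * algebraMap k K (A 2 1)) * e0
      + g 2 * (algebraMap k K (A 0 1) * algebraMap k K (A 2 2) -
          algebraMap k K (A 0 2) * algebraMap k K (A 2 1)) * e1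
      - g 2 * (algebraMap k K (A 0 1) * algebraMap k K (A 1 2) -
          algebraMap k K (A 0 2) * algebraMap k K (A 1 1)) * e2
  -- solve for the differentials
  have hDy : KaehlerDifferential.D k K y' = (-(g' 1 / g' 2)) • KaehlerDifferential.D k K x' := by
    have h2 : g' 2 • KaehlerDifferential.D k K y' = -(g' 1 • KaehlerDifferential.D k K x') :=
      eq_neg_of_add_eq_zero_right hD2
    calc KaehlerDifferential.D k K y'
        = (g' 2)⁻¹ • (g' 2 • KaehlerDifferential.D k K y') := by
          rw [smul_smul, inv_mul_cancel₀ hg'2, one_smul]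
      _ = _ := by
          rw [h2, smul_neg, smul_smul, neg_smul]
          congr 2
          rw [div_eq_mul_inv, mul_comm]
  have hDu0 : KaehlerDifferential.D k K (u 0) =
      (-(u 0 * u 0)) • (a 0 1 • KaehlerDifferential.D k K x' +
        a 0 2 • KaehlerDifferential.D k K y') := by
    have hs0 : (a 0 0 + a 0 1 * x' + a 0 2 * y') • KaehlerDifferential.D k K (u 0) =
        -(u 0 • (a 0 1 • KaehlerDifferential.D k K x' + a 0 2 • KaehlerDifferential.D k K y')) :=
      eq_neg_of_add_eq_zero_left hM2.symm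
    calc KaehlerDifferential.D k K (u 0)
        = (u 0 * (a 0 0 + a 0 1 * x' + a 0 2 * y')) • KaehlerDifferential.D k K (u 0) := by
          rw [← hone, one_smul]
      _ = u 0 • ((a 0 0 + a 0 1 * x' + a 0 2 * y') • KaehlerDifferential.D k K (u 0)) := by
          rw [mul_smul]
      _ = _ := by rw [hs0]; module
  set κ : K := (a 1 0 + a 1 1 * x' + a 1 2 * y') * (-(u 0 * u 0)) *
      (a 0 1 + a 0 2 * (-(g' 1 / g' 2))) + u 0 * (a 1 1 + a 1 2 * (-(g' 1 / g' 2))) with hκ
  have hDx : KaehlerDifferential.D k K x = κ • KaehlerDifferential.D k K x' := by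
    rw [hM1, hDu0, hDy, hκ]
    module
  have hκval : κ = algebraMap k K A.det * u 0 ^ 2 * g 2 / h 2 := by
    rw [hκ, hratio]
    exact alg_id _ _ _ _ _ _ _ _ _ _ _ hh2 hxrel hkey
  have hzpow : z ^ (((e' + 1 : ℕ) : ℤ) - 3) = z ^ e' * u 0 ^ 2 := by
    have : (((e' + 1 : ℕ) : ℤ) - 3) = (e' : ℤ) + (-2) := by push_cast; ring
    rw [this, zpow_add₀ hz0, zpow_natCast, zpow_neg]
    congr 1
    rw [hz, inv_zpow, inv_inv]
    norm_cast
  rw [hDx, smul_smul, hzpow, hκval]
  congr 1
  change (g 2)⁻¹ * (algebraMap k K A.det * u 0 ^ 2 * g 2 / h 2) =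
    algebraMap k K A.det * (z ^ e' * u 0 ^ 2) * (g' 2)⁻¹
  rw [hg'eq 2]
  change _ = algebraMap k K A.det * (z ^ e' * u 0 ^ 2) * (z ^ e' * h 2)⁻¹
  have hze : z ^ e' ≠ 0 := pow_ne_zero _ hz0
  field_simp

end Groth.Agent.S12612
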