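import Groth.Statements.S12613
import Groth.Agent.H57.PlaneAdjoint

set_option autoImplicit false
open FunFld

namespace Groth.Agent.S12613

/-- Over an algebraically closed constant field, for a birational plane map `φ = (1 : x : y)` of degree
`e` with irreducible relation `f̂(x, y) = 0`, the adjoint divisor `Δ(φ) = (e - 3)[φ] - [dx/f̂_y]`
has nonnegative coefficient at every place `Q`, and the coefficient is `0` exactly when `φ` is
nonsingular at `Q`. The order of `dx/f̂_y` at `Q` is read through a Laurent expansion at `Q`,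
through which that differential is assumed nonzero. -/
theorem result
    (k K : Type*) [Field k] [IsAlgClosed k] [Field K] [Algebra k K]
    (hK : FunFld.IsFunctionField k K) (x y : K) (hxy : IntermediateField.adjoin k ({x, y} : Set K) = ⊤)
    (f : MvPolynomial (Fin 2) k) (hf : Irreducible f) (hfxy : MvPolynomial.aeval ![x, y] f = 0)
    (Q : FunFld.Place k K) (ΦQ : K →ₐ[k] LaurentSeries k) (hΦQ : LocRes.IsExpansionAt Q.1 ΦQ)
    (hne : LocRes.vDiff ΦQ (MvPolynomial.aeval ![x, y] (MvPolynomial.pderiv 1 f))⁻¹ x ≠ 0) :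
    0 ≤ ((FunFld.mapDiv k ![(1 : K), x, y]).deg - 3) * FunFld.mapDiv k ![(1 : K), x, y] Q -
        LocRes.ordDiff ΦQ (MvPolynomial.aeval ![x, y] (MvPolynomial.pderiv 1 f))⁻¹ x ∧
    (((FunFld.mapDiv k ![(1 : K), x, y]).deg - 3) * FunFld.mapDiv k ![(1 : K), x, y] Q -
        LocRes.ordDiff ΦQ (MvPolynomial.aeval ![x, y] (MvPolynomial.pderiv 1 f))⁻¹ x = 0 ↔
      FunFld.IsNonsingularAt ![(1 : K), x, y] Q) := by
  have hf0 : f ≠ 0 := hf.ne_zero
  have hF := Groth.Agent.H57.Plane.homog_isHomogeneous f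
  have hF0 : Groth.Agent.H57.Plane.homog f ≠ 0 := by
    intro h0
    apply hf0
    rw [← Groth.Agent.H57.Plane.dehom_homog f, h0, map_zero]
  have hFxy : MvPolynomial.aeval ![(1 : K), x, y] (Groth.Agent.H57.Plane.homog f) = 0 := by
    rw [Groth.Agent.H57.Plane.aeval_homog_one, hfxy]
  have he := Groth.Agent.H57.Plane.deg_mapDiv_eq_totalDegree hK x y hxy f hf hfxy
  have hfyeq := Groth.Agent.H57.Plane.aeval_pderiv_homog f x y
  have hfy : MvPolynomial.aeval ![x, y] (MvPolynomial.pderiv 1 f) ≠ 0 := by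
    intro h0
    apply hne
    unfold LocRes.vDiff
    rw [h0, inv_zero, map_zero, zero_mul, map_zero]
  have hdx : KaehlerDifferential.D k K x ≠ 0 := by
    intro hD0
    apply hne
    have h := Groth.Agent.FF.D_exp_of_D_eq_smul ΦQ (x := (1 : K)) (x' := x) (u := (0 : K))
      (by rw [hD0, zero_smul])
    unfold LocRes.vDiff
    rw [h, map_zero, zero_mul, mul_zero, map_zero]
  have hmain := Groth.Agent.H57.Plane.adjoint_hom hK x y hxy (Groth.Agent.H57.Plane.homog f) hF hF0
    hFxy he hdx (by rw [hfyeq]; exact hfy) Q ΦQ hΦQ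
  rw [hfyeq] at hmain
  rw [he]
  exact hmain

end Groth.Agent.S12613
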