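import Groth.Statements.S12616
import Groth.Agent.H57.PlaneInvar

set_option autoImplicit false
open FunFld

namespace Groth.Agent.S12616

/-- Over an algebraically closed constant field, the adjoint divisor `Δ(φ) = (e - 3)[φ] - [dx/f̂_y]` of
an effective plane map `φ = (1 : x : y)` of degree `e`, with a homogeneous relation `f` of the same
degree `e` satisfying `f(1, x, y) = 0`, depends only on the equivalence class of `φ`: it is
unchanged under a change of projective coordinates `X = AX'`, with `x' = u₁/u₀`, `y' = u₂/u₀`, `u =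
A⁻¹(1, x, y)ᵗ`, `f'(X') = f(AX')`. Here `dx ≠ 0`, both `f̂_y` and `f̂'_{y'}` are nonzero, and
divisors of differentials are read through a family of Laurent expansions. (The published statement
takes `f` to be the minimal relation of `x` and `y` for a plane model `K = k(x, y)`, where the
degree of the map equals the degree of `f`; this row assumes only that `f` is homogeneous of degree
equal to the degree of the map, which is all the change-of-coordinates computation uses — when the
two degrees differ the two sides differ by a multiple of the divisor of `u₀`.) -/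
theorem result
    (k K : Type*) [Field k] [IsAlgClosed k] [Field K] [Algebra k K]
    (hK : FunFld.IsFunctionField k K) (f : MvPolynomial (Fin 3) k) (e : ℕ) (hf : f.IsHomogeneous e)
    (x y : K) (hfxy : MvPolynomial.aeval ![(1 : K), x, y] f = 0)
    (hdx : KaehlerDifferential.D k K x ≠ 0)
    (he : (FunFld.mapDiv k ![(1 : K), x, y]).deg = e)
    (A : Matrix (Fin 3) (Fin 3) k) (hA : A.det ≠ 0)
    (u : Fin 3 → K) (hu : ∀ i, ∑ j, algebraMap k K (A i j) * u j = ![(1 : K), x, y] i)
    (hu0 : u 0 ≠ 0)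
    (hfy : (MvPolynomial.aeval ![(1 : K), x, y] (MvPolynomial.pderiv 2 f)) ≠ 0)
    (hfy' : (MvPolynomial.aeval ![(1 : K), u 1 / u 0, u 2 / u 0] (MvPolynomial.pderiv 2 (MvPolynomial.aeval (fun i : Fin 3 => ∑ j, MvPolynomial.C (A i j) * MvPolynomial.X j) f))) ≠ 0)
    (Φ : FunFld.Place k K → (K →ₐ[k] LaurentSeries k))
    (hΦ : ∀ P : FunFld.Place k K, LocRes.IsExpansionAt P.1 (Φ P)) :
    ((FunFld.mapDiv k ![(1 : K), x, y]).deg - 3) • FunFld.mapDiv k ![(1 : K), x, y] -
        FunFld.divDiff Φ (MvPolynomial.aeval ![(1 : K), x, y] (MvPolynomial.pderiv 2 f))⁻¹ x =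
      ((FunFld.mapDiv k ![(1 : K), u 1 / u 0, u 2 / u 0]).deg - 3) •
          FunFld.mapDiv k ![(1 : K), u 1 / u 0, u 2 / u 0] -
        FunFld.divDiff Φ (MvPolynomial.aeval ![(1 : K), u 1 / u 0, u 2 / u 0] (MvPolynomial.pderiv 2 (MvPolynomial.aeval (fun i : Fin 3 => ∑ j, MvPolynomial.C (A i j) * MvPolynomial.X j) f)))⁻¹ (u 1 / u 0) := by
  have hgeo : FunFld.IsGeometric k K := Groth.Agent.FF.isGeometric_of_perfectField hK
  have hF' : (MvPolynomial.aeval (fun i : Fin 3 => ∑ j, MvPolynomial.C (A i j) * MvPolynomial.X j) f) =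
      Groth.Agent.H57.Plane.transf A f := rfl
  rw [hF'] at hfy' ⊢
  have hG : MvPolynomial.aeval u (MvPolynomial.pderiv 2 (Groth.Agent.H57.Plane.transf A f)) ≠ 0 := by
    intro h0
    apply hfy'
    rw [Groth.Agent.H57.Plane.aeval_normalize _
      (Groth.Agent.H57.Plane.transf_isHomogeneous A f hf).pderiv u hu0, h0, mul_zero]
  have hdx' := Groth.Agent.H57.Plane.D_new_ne_zero A hA f hf x y u hu hfxy hu0 hfy hdx hG
  have hdeg := Groth.Agent.H57.Plane.deg_mapDiv_new A hA x y u hu hK hu0
  ext P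
  rw [Finsupp.sub_apply, Finsupp.sub_apply, Finsupp.smul_apply, Finsupp.smul_apply,
    Groth.Agent.H57.Plane.divDiff_apply hK Φ hΦ _ x (inv_ne_zero hfy) hdx P,
    Groth.Agent.H57.Plane.divDiff_apply hK Φ hΦ _ (u 1 / u 0) (inv_ne_zero hfy') hdx' P,
    (Groth.Agent.H57.Plane.ordDiff_new A hA f hf x y u hu hfxy hu0 hfy hfy' P (Φ P) (hΦ P)
      (Groth.Agent.H57.Plane.vDiff_ne_zero hK P (Φ P) (hΦ P) _ x (inv_ne_zero hfy) hdx)).2,
    Groth.Agent.H57.Plane.mapDiv_new_apply A hA x y u hu hK hu0 P, hdeg, he]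
  simp only [smul_eq_mul]
  ring

end Groth.Agent.S12616
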