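import Groth.Statements.S12617
import Groth.Agent.H57.OrdersAt
import Groth.Agent.S11066


set_option autoImplicit false
open FunFld

namespace Groth.Agent.S12617

/-- Over an algebraically closed constant field, if the effective projective map `φ = (φ₀, …, φₙ)`, `n ≥
1`, normalized at `P`, is nonsingular at `P`, then its first order at `P` is `1`. -/
theorem result
    (k K : Type*) [Field k] [IsAlgClosed k] [Field K] [Algebra k K]
    (hK : FunFld.IsFunctionField k K) (P : FunFld.Place k K) {n : ℕ} (hn : 0 < n) (φ : Fin (n + 1) → K)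
    (hφ : LinearIndependent k φ)
    (heff : (1 : K) ∈ Submodule.span k (Set.range φ)) (hnorm : ∀ i, P.1 (φ i) ≤ 1) (hns : FunFld.IsNonsingularAt φ P)
    (t : K) (ht : P.1 t = WithZero.exp (-1))
    (Ht : K →ₐ[k] PowerSeries K) (hHt : LocRes.IsHasseFamily t Ht)
    (J' : Fin n → ℕ) (hJ' : FunFld.IsOrders (IsLocalRing.ResidueField P.O) (FunFld.hcolAt P Ht φ) J') :
    J' ⟨0, hn⟩ = 1 := by
  open Groth.Agent.H57 Groth.Agent.FF in
  classical
  have hnot1 : ¬ FunFld.IsJump (IsLocalRing.ResidueField P.O) (FunFld.hcolAt P Ht φ) (0 + 1) := by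
    intro h
    apply h
    rw [zero_add, ← hcolAt_zero_eq_one P t φ Ht hHt]
    exact Submodule.subset_span ⟨0, by simp, rfl⟩
  have hJpos : ∀ l, 1 ≤ J' l := by
    intro l
    have hjump := (hJ'.2 (J' l)).1 ⟨l, rfl⟩
    rcases Nat.eq_zero_or_pos (J' l) with h0 | h
    · rw [h0] at hjump
      exact absurd hjump hnot1
    · exact h
  have htle : P.1 t ≤ 1 := by
    rw [ht, ← WithZero.exp_zero, WithZero.exp_le_exp]; norm_num
  have h1 := (Groth.Agent.S11066.result k K hK φ P heff hnorm).1 ⟨t, hns t htle, ht⟩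
  have h2 : ∃ f ∈ Submodule.span k (Set.range φ), P.1 f = WithZero.exp (-((1 : ℕ) : ℤ)) := by
    simpa using h1
  have h3 := (isJump_hcolAt_succ_iff hK P t ht φ hnorm Ht hHt 1 le_rfl).2 h2
  obtain ⟨l, hl⟩ := (hJ'.2 1).2 h3
  have h4 : J' ⟨0, hn⟩ ≤ J' l := hJ'.1.monotone (Fin.mk_le_of_le_val (Nat.zero_le _))
  have := hJpos ⟨0, hn⟩
  omega

end Groth.Agent.S12617
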