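import Groth.Statements.S12618
import Groth.Agent.H57.AutFin9

set_option autoImplicit false
open FunFld

namespace Groth.Agent.S12618

/-- Over an algebraically closed constant field of characteristic `0` or greater than `2g - 2`, let `K`
have genus `g > 1` and let the Weierstrass points of `K` be the support of the Weierstrass divisor
`W(φ)` of the canonical map `φ` (a basis of `L(C)`, `C` canonical; the divisor of `ds` in `W` read
through a family of Laurent expansions). Then either the number of Weierstrass points exceeds `2g +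
2` and the automorphism group of `K/k` acts faithfully on them, or that number is exactly `2g + 2`
and the automorphisms fixing all of them are exactly those fixing some `x` with `[K : k(x)] = 2`. -/
theorem result
    (k K : Type*) [Field k] [IsAlgClosed k] [Field K] [Algebra k K]
    (hK : FunFld.IsFunctionField k K) (hg : 1 < FunFld.genus k K)
    (hchar : ringChar k = 0 ∨ 2 * FunFld.genus k K - 2 < ringChar k)
    (C : FunFld.Divisor k K) (hC : FunFld.IsCanonical k K C)
    {n : ℕ} (φ : Fin (n + 1) → K) (hφ : LinearIndependent k φ)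
    (hspan : Submodule.span k (Set.range φ) = FunFld.L C)
    (s : K) (H : K →ₐ[k] PowerSeries K) (hH : LocRes.IsHasseFamily s H)
    (J : Fin n → ℕ) (hJ : FunFld.IsOrders K (FunFld.hcol (AlgHom.id k K) H φ) J)
    (Φ : FunFld.Place k K → (K →ₐ[k] LaurentSeries k))
    (hΦ : ∀ P : FunFld.Place k K, LocRes.IsExpansionAt P.1 (Φ P)) :
    (2 * FunFld.genus k K + 2 < Set.ncard {P : FunFld.Place k K | FunFld.wDiv (AlgHom.id k K) H Φ s φ J P ≠ 0} ∧
      ∀ σ : K ≃ₐ[k] K, (∀ P : FunFld.Place k K, FunFld.wDiv (AlgHom.id k K) H Φ s φ J P ≠ 0 →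
        FunFld.IsFixedPt (σ : K →ₐ[k] K) P) → σ = AlgEquiv.refl) ∨
    (Set.ncard {P : FunFld.Place k K | FunFld.wDiv (AlgHom.id k K) H Φ s φ J P ≠ 0} = 2 * FunFld.genus k K + 2 ∧
      ∃ x : K, Module.finrank (IntermediateField.adjoin k ({x} : Set K)) K = 2 ∧
        ∀ σ : K ≃ₐ[k] K, (∀ P : FunFld.Place k K, FunFld.wDiv (AlgHom.id k K) H Φ s φ J P ≠ 0 →
          FunFld.IsFixedPt (σ : K →ₐ[k] K) P) ↔ σ x = x) := by
  classical
  open Groth.Agent.H57 Groth.Agent.FF in
  have hgen := genus_eq_of_canonical_basis hK hC φ hφ hspan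
  have hn0 : 0 < n := by omega
  have hchar' : ringChar k = 0 ∨ 2 * n < ringChar k := by
    rcases hchar with h | h
    · exact Or.inl h
    · right; omega
  have hmd := mapDiv_canonical hK hC φ hφ hspan
  have hdegC : (FunFld.mapDiv k φ).deg = 2 * (n : ℤ) := by
    rw [hmd, deg_canonical hK hC, hgen]; push_cast; ring
  have hchar'' : ringChar k = 0 ∨ (FunFld.mapDiv k φ).deg < ringChar k := by
    rcases hchar' with h | h
    · exact Or.inl h
    · right; rw [hdegC]; exact_mod_cast h
  have hJc := isOrders_classical hK φ hφ hchar'' s H hH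
  have hJeq : J = fun l : Fin n => (l : ℕ) + 1 := isOrders_unique _ J _ hJ hJc
  subst hJeq
  set W := FunFld.wDiv (AlgHom.id k K) H Φ s φ (fun l : Fin n => (l : ℕ) + 1) with hW
  set T : Finset (FunFld.Place k K) := W.support with hT
  have hset : {P : FunFld.Place k K | W P ≠ 0} = ↑T := by
    ext P
    simp [hT, Finsupp.mem_support_iff]
  rw [hset, Set.ncard_coe_finset]
  obtain ⟨hcard, hsharp⟩ :=
    card_support_canon_wDiv_sharp hK hC hn0 φ hφ hspan hchar' s H hH Φ hΦ
  have hfixtwist : ∀ σ : K ≃ₐ[k] K,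
      (∀ P : FunFld.Place k K, W P ≠ 0 → FunFld.IsFixedPt (σ : K →ₐ[k] K) P) →
      ∀ P ∈ T, twist P σ = P := by
    intro σ h P hP
    exact twist_eq_of_fixed P σ (h P (Finsupp.mem_support_iff.1 hP))
  by_cases hbig : 2 * FunFld.genus k K + 2 < T.card
  · left
    refine ⟨hbig, fun σ hσ => ?_⟩
    have := algEquiv_eq_one_of_fixed hK σ T (hfixtwist σ hσ) hbig
    rw [this]; rfl
  · right
    have hTc : T.card = 2 * n + 4 := by
      have : 2 * n + 4 ≤ T.card := hcard
      omega
    refine ⟨by omega, ?_⟩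
    have hng := hsharp hTc
    obtain ⟨P₁, hP₁⟩ : T.Nonempty := Finset.card_pos.1 (by omega)
    have h2P₁ := hng P₁ hP₁
    obtain ⟨x, hxL, hx0, hord⟩ := exists_ord_eq_neg_of_not_isGapAt P₁ 2 h2P₁
    simp only [Nat.cast_ofNat] at hxL hord
    have hxr : x ∉ Set.range (algebraMap k K) := by
      rintro ⟨c, rfl⟩
      rw [ord_algebraMap] at hord
      omega
    have hg0 : FunFld.genus k K ≠ 0 := by omega
    have hell2 : FunFld.ell (Finsupp.single P₁ (2 : ℤ) : FunFld.Divisor k K) = 2 := by
      have h1 := ell_add_gapCount hK P₁ 2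
      simp only [Nat.cast_ofNat] at h1
      have hc0 : gapCount (IsGapAt P₁) 0 = 0 := by unfold gapCount; simp
      have hc1 : gapCount (IsGapAt P₁) 1 = 1 := by
        rw [gapCount_succ_of_gap _ (N := 0) (isGapAt_one hK hg0 P₁), hc0]
      have hc2 : gapCount (IsGapAt P₁) 2 = 1 := by
        rw [gapCount_succ_of_not_gap _ (N := 1) h2P₁, hc1]
      omega
    have hD0 : (0 : FunFld.Divisor k K) ≤ Finsupp.single P₁ (2 : ℤ) := by
      intro Q
      rw [Finsupp.zero_apply, Finsupp.single_apply]
      split_ifs <;> norm_num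
    have hsp := exists_pair_of_ell_eq_two hK _ hD0 hell2 x hxL hxr
    refine ⟨x, finrank_adjoin_of_double_pole hK P₁ x hxL hx0 hord, fun σ => ⟨fun hσ => ?_, fun hσ => ?_⟩⟩
    · exact apply_eq_of_fixes hK P₁ 2 x hxr (by simpa using hxL) (by simpa using hsp) T hP₁
        (by omega) σ (hfixtwist σ hσ)
    · intro P hP
      have hPT : P ∈ T := Finsupp.mem_support_iff.2 hP
      have htw : twist P σ = P := by
        by_cases hne : P = P₁
        · rw [hne]
          exact twist_pole_eq_of_apply_eq P₁ x hxL hx0 hord σ hσ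
        · exact twist_eq_of_apply_eq hK (by omega) P₁ P hne h2P₁ (hng P hPT) x hxL hxr σ hσ
      intro z hz
      have : P.1 ((σ : K →ₐ[k] K) z) = (twist P σ).1 z := rfl
      rw [this, htw]
      exact hz

end Groth.Agent.S12618
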