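import Groth.Statements.S12620
import Groth.Agent.H57.Laurent

set_option autoImplicit false
universe u v w
open LocRes

namespace Groth.Agent.S12620

/-- Let `K` be a field with a valuation `w` into `ℤ ∪ {0}` and `φ : K → F((X))` a `k`-algebra expansion
at `w` in a local parameter (valuation-compatible, valuation ring onto the coefficient field `F`,
`w` normalised). Then for every nonzero `f` the residue of the logarithmic differential `f⁻¹ df`
read through `φ` — the `X⁻¹`-coefficient of `φ(f)⁻¹ · (φ f)′` — is the order of `f` at `w` (the
integer `n` with `w f = exp (-n)`), viewed in `F`. (The published statement is for a complete field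
with a perfect coefficient field and its intrinsic residue; read through an expansion neither
completeness nor perfectness plays a role.) -/
theorem result {k : Type u} {K : Type v} {F : Type w} [CommRing k] [Field K] [Field F]
    [Algebra k K] [Algebra k F]
    (w : Valuation K (WithZero (Multiplicative ℤ))) (φ : K →ₐ[k] LaurentSeries F)
    (hφ : LocRes.IsExpansionAt w φ) (f : K) (hf : f ≠ 0) :
    LocRes.resExp φ f⁻¹ f = ((-WithZero.log (w f) : ℤ) : F) := by
  have hg : φ f ≠ 0 := by
    rw [Ne, map_eq_zero_iff φ φ.toRingHom.injective]
    exact hf
  have h1 := Groth.Agent.H57.laurent_res_zpow_mul_D (φ f) hg 0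
  rw [if_pos rfl, zero_sub, zpow_neg_one] at h1
  unfold LocRes.resExp
  rw [map_inv₀, h1]
  have h2 := hφ.1 f
  rw [Groth.Agent.H57.laurent_valued_eq_exp_neg_order _ hg] at h2
  rw [← h2, WithZero.log_exp, neg_neg]

end Groth.Agent.S12620
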