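import Groth.Statements.S12628
import Groth.Agent.H57.ResCanon
import Groth.Agent.FunFld.WeilDim

set_option autoImplicit false
universe u v w
open FunFld

namespace Groth.Agent.S12628

/-- Let `K/k` be a geometric function field of one variable all of whose places carry a Laurent
expansion over `k` in a local parameter (valuation-compatible, valuation ring onto a
finite-dimensional coefficient field, normalised — so every place is separable), and let `v ∈ K`
have `dv ≠ 0`. Then every Weil differential — a `k`-linear form on the repartition space vanishing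
on some `A(D) + K` — is of the form `a ↦ ∑_P Res_P(a_P · u dv)` for exactly one `u ∈ K`, the local
residue being the trace to `k` of the `X⁻¹`-coefficient read through the expansion; i.e. the residue
pairing maps the Kähler differentials ONTO the Weil differentials. (The published statement is over
an algebraically closed field, where every place is rational; this row is the form for any constant
field under the stated separability of all places.) -/
theorem result (k : Type u) (K : Type v) [Field k] [Field K] [Algebra k K]
    (hK : FunFld.IsFunctionField k K) (hg : FunFld.IsGeometric k K)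
    (F : FunFld.Place k K → Type w) [∀ P, Field (F P)] [∀ P, Algebra k (F P)] [∀ P, FiniteDimensional k (F P)]
    (φ : ∀ P, K →ₐ[k] LaurentSeries (F P)) (hφ : ∀ P, LocRes.IsExpansionAt P.1 (φ P))
    (v : K) (hv : KaehlerDifferential.D k K v ≠ 0)
    (ω : Module.Dual k (FunFld.adele k K)) (hω : FunFld.IsWeil ω) :
    ∃! u : K, ∀ a : FunFld.adele k K,
      (Function.support fun P => LocRes.locRes (φ P) ((a : FunFld.Place k K → K) P * u) v).Finite ∧
        ω a = ∑ᶠ P, LocRes.locRes (φ P) ((a : FunFld.Place k K → K) P * u) v := by
  open Groth.Agent.H57.ResW Groth.Agent.FF WithZero in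
  have hD : ∀ P, LocRes.D (F P) (φ P v) ≠ 0 := fun P =>
    D_expansion_ne_zero_of_D_ne_zero hK hg hv P.1 (φ P) (hφ P)
  have hT := exists_trace_ne_zero hK hg F φ hφ
  have hsm := fun x : K => adele_smul_mem hK x
  have hW1 : FunFld.IsWeil (resW hK F φ hφ 1 v) := isWeil_resW hK F φ hφ 1 v one_ne_zero hD
  have hne1 : resW hK F φ hφ 1 v ≠ 0 := resW_ne_zero hK F φ hφ 1 v one_ne_zero hD hT
  obtain ⟨x, hx⟩ := exists_mulW_eq hK hsm _ ω hW1 hne1 hω
  refine ⟨x, fun a => ⟨finite_support_locRes hK F φ hφ x v a, ?_⟩, ?_⟩
  · rw [← hx]
    change resW hK F φ hφ 1 v ⟨x • (a : FunFld.Place k K → K), _⟩ = _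
    rw [resW_apply]
    apply finsum_congr
    intro P
    change LocRes.locRes (φ P) (x * (a : FunFld.Place k K → K) P * 1) v = _
    rw [mul_one, mul_comm]
  · intro u' hu'
    by_contra hne
    have hsub : u' - x ≠ 0 := sub_ne_zero.2 hne
    apply resW_ne_zero hK F φ hφ (u' - x) v hsub hD hT
    apply LinearMap.ext
    intro a
    rw [LinearMap.zero_apply, resW_apply]
    have h1 := (hu' a).2
    have h2 : ω a = ∑ᶠ P, LocRes.locRes (φ P) ((a : FunFld.Place k K → K) P * x) v := by
      rw [← hx]
      change resW hK F φ hφ 1 v ⟨x • (a : FunFld.Place k K → K), _⟩ = _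
      rw [resW_apply]
      apply finsum_congr
      intro P
      change LocRes.locRes (φ P) (x * (a : FunFld.Place k K → K) P * 1) v = _
      rw [mul_one, mul_comm]
    have h3 : ∀ P, LocRes.locRes (φ P) ((a : FunFld.Place k K → K) P * (u' - x)) v =
        LocRes.locRes (φ P) ((a : FunFld.Place k K → K) P * u') v -
          LocRes.locRes (φ P) ((a : FunFld.Place k K → K) P * x) v := by
      intro P
      have := locRes_add (φ P) ((a : FunFld.Place k K → K) P * (u' - x))
        ((a : FunFld.Place k K → K) P * x) v
      rw [← mul_add, sub_add_cancel] at this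
      rw [this, add_sub_cancel_right]
    simp only [h3]
    rw [finsum_sub_distrib (hu' a).1 (finite_support_locRes hK F φ hφ x v a), ← h1, ← h2, sub_self]

end Groth.Agent.S12628
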