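import Groth.Statements.S12630
import Mathlib
import Groth.Agent.Lib.Helper90.PSUniv

set_option autoImplicit false
universe u v
open CAlg

namespace Groth.Agent.S12630.Aux

set_option autoImplicit false
universe w2 w3

open Groth.Agent.Lib.Helper90

theorem main (K : Type w2) (A : Type w3) [Field K]
    [CommRing A] [IsDomain A] [IsDiscreteValuationRing A]
    [IsAdicComplete (IsLocalRing.maximalIdeal A) A]
    [Algebra K A] (hK : Function.Bijective (algebraMap K (IsLocalRing.ResidueField A)))
    (x : A) (hx : IsLocalRing.maximalIdeal A = Ideal.span {x}) :
    ∃ e : PowerSeries K ≃ₐ[K] A, e PowerSeries.X = x := by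
  have hx0 : x ≠ 0 := by
    intro h
    rw [h, Ideal.span_singleton_zero] at hx
    exact IsDiscreteValuationRing.not_a_field A hx
  have hnzd : x ∈ nonZeroDivisors A := mem_nonZeroDivisors_of_ne_zero hx0
  have : IsAdicComplete (Ideal.span {x}) A := hx ▸ inferInstance
  have hbij : Function.Bijective
      ((Ideal.Quotient.mk (Ideal.span {x})).comp (algebraMap K A)) := by
    have h : Function.Bijective
        ((Ideal.Quotient.mk (IsLocalRing.maximalIdeal A)).comp (algebraMap K A)) := hK
    have key : ∀ (I J : Ideal A), I = J →
        Function.Bijective ((Ideal.Quotient.mk I).comp (algebraMap K A)) →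
        Function.Bijective ((Ideal.Quotient.mk J).comp (algebraMap K A)) := by
      rintro I J rfl h; exact h
    exact key _ _ hx h
  obtain ⟨e, he, -⟩ := PSUniv.exists_algEquiv_powerSeries (B := K) x hnzd hbij
  exact ⟨e, he⟩

end Groth.Agent.S12630.Aux

namespace Groth.Agent.S12630

/-- Let `A` be a complete discrete valuation ring containing a field `K` that maps bijectively onto the
residue field (a coefficient field). Then for every generator `x` of the maximal ideal there is a
`K`-algebra isomorphism from the formal power series ring `K[[t]]` onto `A` sending `t` to `x`; it
extends the evaluation map `K[t] → A`, `t ↦ x`, and is the only `K`-algebra map `K[[t]] → A` with `t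
↦ x` since `A` is separated. (The first assertion, the mere existence of an isomorphism with a power
series ring, is the one-variable case of the structure of complete regular local rings with a
coefficient field and is not restated.) -/
theorem result (K : Type u) (A : Type v) [Field K]
    [CommRing A] [IsDomain A] [IsDiscreteValuationRing A] [IsAdicComplete (IsLocalRing.maximalIdeal A) A]
    [Algebra K A] (hK : Function.Bijective (algebraMap K (IsLocalRing.ResidueField A)))
    (x : A) (hx : IsLocalRing.maximalIdeal A = Ideal.span {x}) :
    ∃ e : PowerSeries K ≃ₐ[K] A, e PowerSeries.X = x := by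
  exact Aux.main K A hK x hx

end Groth.Agent.S12630
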