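import Groth.Statements.S12631
import Groth.Agent.H57.ResCanon
import Groth.Agent.FunFld.RR
import Groth.Agent.FunFld.LFinite

set_option autoImplicit false
universe u v w
open FunFld

namespace Groth.Agent.S12631

/-- Let `K/k` be a geometric function field of one variable of genus one all of whose places carry a
Laurent expansion over `k` in a local parameter (so every place is separable), and `v ∈ K` with `dv
≠ 0`. Then there is a nonzero `u ∈ K` whose differential `u dv` has divisor zero — the order of
`φ_P(u) · (φ_P v)′` is `0` at every place `P` — and such a `u` is unique up to a factor from `k`.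
(The published statement concerns elliptic curves over algebraically closed fields; this row is the
form for any constant field under the stated separability of all places.) -/
theorem result (k : Type u) (K : Type v) [Field k] [Field K] [Algebra k K]
    (hK : FunFld.IsFunctionField k K) (hg : FunFld.IsGeometric k K) (h1 : FunFld.genus k K = 1)
    (F : FunFld.Place k K → Type w) [∀ P, Field (F P)] [∀ P, Algebra k (F P)] [∀ P, FiniteDimensional k (F P)]
    (φ : ∀ P, K →ₐ[k] LaurentSeries (F P)) (hφ : ∀ P, LocRes.IsExpansionAt P.1 (φ P))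
    (v : K) (hv : KaehlerDifferential.D k K v ≠ 0) :
    (∃ u : K, u ≠ 0 ∧ ∀ P, LocRes.vDiff (φ P) u v = 1) ∧
      ∀ u u' : K, u ≠ 0 → (∀ P, LocRes.vDiff (φ P) u v = 1) → (∀ P, LocRes.vDiff (φ P) u' v = 1) →
        ∃ c : k, u' = c • u := by
  open Groth.Agent.H57.ResW Groth.Agent.FF WithZero in
  obtain ⟨C, hC, hcan, -, -⟩ := exists_divisor_dv hK hg F φ hφ v hv
  have hell : FunFld.ell C = 1 := by rw [ell_canonical hK hcan, h1]
  have hdeg : C.deg = 0 := by rw [deg_canonical hK hcan, h1]; norm_num
  have hvd : ∀ (y : K) (P : FunFld.Place k K),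
      LocRes.vDiff (φ P) y v = P.1 y * exp (-(C P)) := by
    intro y P
    rw [vDiff_eq hK hg F φ hφ v hv y P, hC P]
  refine ⟨?_, ?_⟩
  · have hfr : Module.finrank k (FunFld.L C) = 1 := hell
    have hnt : Nontrivial (FunFld.L C) := Module.nontrivial_of_finrank_pos (R := k) (by omega)
    obtain ⟨⟨u, huL⟩, hu0⟩ := exists_ne (0 : FunFld.L C)
    have hu0' : u ≠ 0 := fun h => hu0 (Subtype.ext h)
    refine ⟨u, hu0', fun P => ?_⟩
    have hsum := eq_neg_div_of_deg_zero hK hdeg hu0' huL
    have hP := congrArg (fun E : FunFld.Divisor k K => E P) hsum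
    simp only [Finsupp.add_apply, Finsupp.zero_apply] at hP
    rw [div_apply hK] at hP
    rw [hvd, val_eq_exp_neg_ord P hu0', ← exp_add]
    have : -P.ord u + -C P = 0 := by omega
    rw [this, exp_zero]
  · intro u u' hu0 hu hu'
    obtain ⟨P₀⟩ := exists_place hK
    have hu'0 : u' ≠ 0 := by
      rintro rfl
      have := hu' P₀
      rw [hvd, map_zero, zero_mul] at this
      exact zero_ne_one this
    have hval : ∀ P : FunFld.Place k K, P.1 (u' / u) = 1 := by
      intro P
      have h1' := hu P
      have h2' := hu' P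
      rw [hvd] at h1' h2'
      rw [map_div₀]
      have hne : exp (-(C P)) ≠ (0 : ℤᵐ⁰) := exp_ne_zero
      have : P.1 u' = P.1 u := mul_right_cancel₀ hne (h2'.trans h1'.symm)
      rw [this, div_self ((P.1.ne_zero_iff).2 hu0)]
    have hmem : u' / u ∈ FunFld.L (0 : FunFld.Divisor k K) := by
      intro P
      rw [Finsupp.zero_apply, exp_zero, hval P]
    rw [L_zero_eq hK, Submodule.mem_one] at hmem
    obtain ⟨c, hc⟩ := hmem
    refine ⟨c, ?_⟩
    rw [Algebra.smul_def, hc, div_mul_cancel₀ _ hu0]

end Groth.Agent.S12631
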