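import Groth.Statements.S1265
import Groth.Agent.H34.ArtinFlattening

set_option autoImplicit false
universe u
open FlatMor

namespace Groth.Agent.S1265

/-- Ring form, stated for X = Spec B affine: let A be an Artinian ring, B an A-algebra and N a B-module.
Then there is an ideal I of A such that for every A-algebra A', with B' = B ⊗_A A' and N' the base
change of N (any models), N' is flat over A' if and only if IA' = 0. -/
theorem result {A B : Type u} [CommRing A] [IsArtinianRing A] [CommRing B] [Algebra A B]
    (N : Type u) [AddCommGroup N] [Module B N] [Module A N] [IsScalarTower A B N] :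
    ∃ I : Ideal A, ∀ (A' B' N' : Type u) [CommRing A'] [CommRing B'] [Algebra A A'] [Algebra B B'] [Algebra A' B'] [Algebra A B']
      [IsScalarTower A B B'] [IsScalarTower A A' B'] [Algebra.IsPushout A B A' B']
      [AddCommGroup N'] [Module B' N'] [Module B N'] [IsScalarTower B B' N'] [Module A' N'] [IsScalarTower A' B' N']
      (f : N →ₗ[B] N'), IsBaseChange B' f →
      (Module.Flat A' N' ↔ I.map (algebraMap A A') = ⊥) := by
  obtain ⟨I, hI, hmin⟩ := Groth.Agent.H34.ArtinFlattening.exists_least (A := A) N
  refine ⟨I, ?_⟩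
  intro A' B' N' _ _ _ _ _ _ _ _ _ _ _ _ _ _ _ f hf
  haveI : Algebra.IsPushout A A' B B' := Algebra.IsPushout.symm inferInstance
  let e3 : TensorProduct B B' N ≃ₗ[A'] TensorProduct A A' N :=
    Algebra.IsPushout.cancelBaseChange A A' B B' N
  let e4 : TensorProduct B B' N ≃ₗ[A'] N' := hf.equiv.restrictScalars A'
  constructor
  · intro hflat
    haveI : Module.Flat A' (TensorProduct A A' N) := Module.Flat.of_linearEquiv (e3.symm ≪≫ₗ e4)
    rw [Ideal.map_eq_bot_iff_le_ker]
    exact Groth.Agent.H34.ArtinFlattening.le_ker_of_flat N I hmin (A' := A')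
  · intro hbot
    haveI := Groth.Agent.H34.ArtinFlattening.flat_of_map_eq_bot N I hI hbot
    exact Module.Flat.of_linearEquiv (e4.symm ≪≫ₗ e3)

end Groth.Agent.S1265
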