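import Groth.Statements.S12679
import Mathlib
import Groth.Agent.Lib.Helper63.SymInvAmpleRes
-- import your own Groth.Agent.* helpers here

set_option autoImplicit false
universe u
open CategoryTheory CategoryTheory.Limits AlgebraicGeometry TopologicalSpace Opposite
open scoped HomogeneousIdeal
noncomputable section
open EGA2

namespace Groth.Agent.S12679

/-- Let f : X → Y be a quasi-compact morphism, L an invertible O_X-module with graded symmetric algebra
𝒮L = ⊕_{n≥0} L^{⊗n} (whose relative Proj PL, given with its charts, is identified with X by its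
structure morphism), 𝒜 a quasi-coherent graded O_Y-algebra given with a graded f-morphism u : 𝒜 →
f_*𝒮L which is bijective on sections over every affine open of Y — so that 𝒜 is the graded algebra
⊕_{n≥0} f_*(L^{⊗n}) and u is adjoint to the canonical σ : f^*𝒜 → ⊕ L^{⊗n} — P = Proj(𝒜) → Y its
relative homogeneous spectrum with its charts, and r = r_{L,σ} : G(σ) → P the induced morphism on
its open of definition G(σ) ⊆ PL. If L is ample relative to f, then r is everywhere defined (G(σ) is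
all of PL) and r is an open immersion with dense image. (The published statement also asserts that
⊕_{n≥0} f_*(L^{⊗n}) is quasi-coherent; this row presupposes it through the datum 𝒜.) -/
theorem result {X Y P PL : Scheme.{u}} (f : X ⟶ Y) [QuasiCompact f]
    (L : X.Modules) (hL : PicF.IsInvertible L) (hLq : Coh.IsQCoh L)
    (𝒮L : RelProj.QCGrAlg X) (jL : L ⟶ 𝒮L.toModule) (hjL : RelProj.IsGrSymAlg L 𝒮L jL)
    (pL : PL ⟶ X) (chartL : ∀ (U : X.Opens) (hU : IsAffineOpen U), (((pL ⁻¹ᵁ U : PL.Opens) : Scheme.{u}) ≅ Proj (𝒮L.deg U hU)))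
    (hPL : RelProj.IsRelProj 𝒮L pL chartL)
    (𝒜 : RelProj.QCGrAlg Y) (u : RelProj.QGrHom f 𝒜 𝒮L)
    (p : P ⟶ Y) (chart : ∀ (U : Y.Opens) (hU : IsAffineOpen U), (((p ⁻¹ᵁ U : P.Opens) : Scheme.{u}) ≅ Proj (𝒜.deg U hU)))
    (hP : RelProj.IsRelProj 𝒜 p chart)
    (r : ((RelProj.domQ u pL chartL : PL.Opens) : Scheme.{u}) ⟶ P)
    (hr : RelProj.IsProjQMapOn u p chart pL chartL (RelProj.domQ u pL chartL) r)
    (hu : ∀ (U : Y.Opens), IsAffineOpen U → Function.Bijective (u.app U).hom)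
    (h : RelAmple.IsRelAmple f L) :
    RelProj.domQ u pL chartL = ⊤ ∧ IsOpenImmersion r ∧ IsDominant r := by
  have H : ∀ x : X, ∃ (U : Y.Opens) (_ : IsAffineOpen U) (n : ℕ) (_ : 0 < n)
      (σ : 𝒮L.presheaf.obj (op (f ⁻¹ᵁ U))), Function.Bijective (u.app U).hom ∧
        Groth.Agent.Lib.Helper63.SymInvDom.HomogOn 𝒮L σ n ∧
        x ∈ Groth.Agent.Lib.Helper63.SymInvImmGen.Xσ σ n ∧
        IsAffineOpen (Groth.Agent.Lib.Helper63.SymInvImmGen.Xσ σ n) ∧
        IsCompact ((f ⁻¹ᵁ U : X.Opens) : Set X) ∧ IsQuasiSeparated ((f ⁻¹ᵁ U : X.Opens) : Set X) := by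
    intro x
    obtain ⟨U, hU, hxU, -⟩ := (TopologicalSpace.Opens.isBasis_iff_nbhd.mp Y.isBasis_affineOpens)
      (TopologicalSpace.Opens.mem_top (f.base x))
    have hU : IsAffineOpen U := hU
    have hamp := h.2 ⟨U, hU⟩
    obtain ⟨n, hn, σ, hσ, hxσ, haff⟩ :=
      Groth.Agent.Lib.Helper63.SymInvAmpleRes.exists_local_of_isAmple_restrict L hL hLq 𝒮L jL hjL
        (f ⁻¹ᵁ U) hamp x hxU
    exact ⟨U, hU, n, hn, σ, hu U hU, hσ, hxσ, haff,
      Groth.Agent.Lib.Helper63.SymInvAmpleRes.isCompact_of_isAmple_restrict L _ hamp,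
      Groth.Agent.Lib.Helper63.SymInvAmpleRes.isQuasiSeparated_of_isAmple_restrict L _ hamp⟩
  obtain ⟨h1, h2⟩ := Groth.Agent.Lib.Helper63.SymInvAmple.openImmersion_of_local u L hL hLq jL hjL
    p chart hP pL chartL hPL r hr H
  exact ⟨h1, h2, Groth.Agent.Lib.Helper63.SymInvAmple.dominant_of_injective u L hL hLq jL hjL p chart
    pL chartL hPL r hr (fun U hU => (hu U hU).1)
    (fun U hU => Groth.Agent.Lib.Helper63.SymInvAmpleRes.isCompact_of_isAmple_restrict L _ (h.2 ⟨U, hU⟩))⟩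


end Groth.Agent.S12679
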