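import Groth.Statements.S12691
import Mathlib
import Groth.Agent.Lib.Helper63.VeryAmpleOfR
import Groth.Agent.Lib.Helper42.RelTwistExists
-- import your own Groth.Agent.* helpers here

set_option autoImplicit false
universe u
open CategoryTheory CategoryTheory.Limits AlgebraicGeometry TopologicalSpace Opposite
open scoped HomogeneousIdeal
noncomputable section
open Mor

namespace Groth.Agent.S12691

/-- Let f : X → Y be a quasi-compact morphism, L an invertible O_X-module with graded symmetric algebra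
𝒮L = ⊕_{n≥0} L^{⊗n} (whose relative Proj PL, given with its charts, is identified with X by its
structure morphism), 𝒜 a quasi-coherent graded O_Y-algebra generated in degree one over O_Y (its
degree-zero part is the image of O_Y and degrees zero and one generate it), u : 𝒜 → f_*𝒮L a graded
f-morphism (adjoint to a homomorphism of graded algebras ψ : f^*𝒜 → ⊕ L^{⊗n}) whose degree-one part
f^*𝒜_1 → L is surjective — every point of X has an affine neighbourhood V over which the image of a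
single degree-one section of 𝒜 generates L — P = Proj(𝒜) → Y with its charts, and r = r_{L,ψ} : U(ψ)
→ P the induced morphism on its open of definition U(ψ) ⊆ PL. If r is an immersion, then L is very
ample relative to f (isomorphic to the inverse image of O(1) along a Y-immersion into the projective
bundle of a quasi-coherent O_Y-module). -/
theorem result {X Y P PL : Scheme.{u}} (f : X ⟶ Y) [QuasiCompact f]
    (L : X.Modules) (hL : PicF.IsInvertible L) (hLq : Coh.IsQCoh L)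
    (𝒮L : RelProj.QCGrAlg X) (jL : L ⟶ 𝒮L.toModule) (hjL : RelProj.IsGrSymAlg L 𝒮L jL)
    (pL : PL ⟶ X) (chartL : ∀ (U : X.Opens) (hU : IsAffineOpen U), (((pL ⁻¹ᵁ U : PL.Opens) : Scheme.{u}) ≅ Proj (𝒮L.deg U hU)))
    (hPL : RelProj.IsRelProj 𝒮L pL chartL)
    (𝒜 : RelProj.QCGrAlg Y) (h1 : 𝒜.IsGenDegOne)
    (h0 : ∀ (U : Y.Opens) (hU : IsAffineOpen U),
      ((𝒜.deg U hU 0 : AddSubgroup (𝒜.presheaf.obj (op U))) : Set (𝒜.presheaf.obj (op U))) = Set.range (𝒜.str.app (op U)).hom)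
    (u : RelProj.QGrHom f 𝒜 𝒮L)
    (hsurj : ∀ x : X, ∃ (U : Y.Opens) (hU : IsAffineOpen U) (e : 𝒜.presheaf.obj (op U)) (_ : e ∈ 𝒜.deg U hU 1)
        (V : X.Opens) (hV : IsAffineOpen V) (hVU : V ≤ f ⁻¹ᵁ U), x ∈ V ∧
          ((𝒮L.deg V hV 1 : AddSubgroup (𝒮L.presheaf.obj (op V))) : Set (𝒮L.presheaf.obj (op V))) ⊆
            (Ideal.span {(u.appLE U V hVU).hom e} : Set (𝒮L.presheaf.obj (op V))))
    (p : P ⟶ Y) (chart : ∀ (U : Y.Opens) (hU : IsAffineOpen U), (((p ⁻¹ᵁ U : P.Opens) : Scheme.{u}) ≅ Proj (𝒜.deg U hU)))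
    (hP : RelProj.IsRelProj 𝒜 p chart)
    (r : ((RelProj.domQ u pL chartL : PL.Opens) : Scheme.{u}) ⟶ P)
    (hr : RelProj.IsProjQMapOn u p chart pL chartL (RelProj.domQ u pL chartL) r)
    (himm : IsImmersion r) :
    RelProj.IsRelVeryAmple f L := by
  have hgenL : 𝒮L.IsGenDegOne :=
    Groth.Agent.Lib.Helper42.VeryAmpleOfProj.isGenDegOne_of_isGrSymAlg L hLq 𝒮L jL hjL
  have hdom : RelProj.domQ u pL chartL = ⊤ :=
    Groth.Agent.Lib.Helper63.VeryAmpleOfR.domQ_eq_top_of_surj u hgenL hsurj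
  obtain ⟨h, hh, hιh⟩ := Groth.Agent.Lib.Helper63.VeryAmpleOfR.isProjQMap_of_isProjQMapOn u hdom r hr
  have hisoι : IsIso (RelProj.domQ u pL chartL).ι := Groth.Agent.Lib.Helper42.isIso_ι_of_eq_top _ hdom
  have himmh : IsImmersion h := by
    have h2 : h = inv (RelProj.domQ u pL chartL).ι ≫ r := by rw [← hιh, IsIso.inv_hom_id_assoc]
    rw [h2]
    infer_instance
  obtain ⟨O1, lam, hO1⟩ := Groth.Agent.Lib.Helper42.RelTwistExists.exists_isRelTwist 𝒜 p chart hP 1
  obtain ⟨OL, lamL, hOL⟩ := Groth.Agent.Lib.Helper42.RelTwistExists.exists_isRelTwist 𝒮L pL chartL hPL 1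
  obtain ⟨ε₁⟩ := Groth.Agent.Lib.Helper63.PullO1.nonempty_pullback_iso hP hPL h1 hh hO1 hOL
  obtain ⟨ε₂⟩ := Groth.Agent.Lib.Helper63.O1SymInv.nonempty_pullback_iso L hLq hL 𝒮L jL hjL pL chartL hPL hOL
  have hpL : IsIso pL := Groth.Agent.Lib.Helper63.SymInv.isIso_pL L hLq 𝒮L jL hjL pL chartL hPL hL
  have hcomp : h ≫ p = pL ≫ f := Groth.Agent.Lib.Helper63.PullO1.comp_p hP hPL hh
  have hi : (inv pL ≫ h) ≫ p = f := by
    rw [Category.assoc, hcomp, IsIso.inv_hom_id_assoc]
  have : IsImmersion (inv pL ≫ h) := inferInstance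
  refine Groth.Agent.Lib.Helper42.VeryAmpleOfProj.isRelVeryAmple_of_immersion 𝒜 f L h1 p chart hP O1 lam hO1
    (inv pL ≫ h) hi ?_
  exact ((Scheme.Modules.pullbackId (X := X)).app L).symm ≪≫
    (Scheme.Modules.pullbackCongr (IsIso.inv_hom_id pL).symm).app L ≪≫
    ((Scheme.Modules.pullbackComp (inv pL) pL).app L).symm ≪≫
    (Scheme.Modules.pullback (inv pL)).mapIso (ε₂ ≪≫ ε₁.symm) ≪≫
    (Scheme.Modules.pullbackComp (inv pL) h).app O1


end Groth.Agent.S12691
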