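import Groth.Statements.S12709
import Groth.Agent.Lib.Helper65.ArtCotangent

set_option autoImplicit false
universe u v
open CategoryTheory
open ArtFun ArtFun.Art

namespace Groth.Agent.S12709

open Groth.Agent.Lib.Helper65

theorem result {Λ : Type u} {k : Type u} [CommRing Λ] [Field k] [Algebra Λ k]
    [IsNoetherianRing Λ] [Module.Finite Λ k]
    {A B : ArtFun.Art Λ k} (f : A ⟶ B) :
    List.TFAE [Function.Surjective f,
      Ideal.map f.toAlgHom (IsLocalRing.maximalIdeal A) ⊔ IsLocalRing.maximalIdeal B ^ 2 = IsLocalRing.maximalIdeal B,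
      Ideal.map (algebraMap Λ B) (RingHom.ker (algebraMap Λ k)) ⊔ Ideal.map f.toAlgHom (IsLocalRing.maximalIdeal A) ⊔
        IsLocalRing.maximalIdeal B ^ 2 = IsLocalRing.maximalIdeal B] := by
  have hΛ : Ideal.map (algebraMap Λ B) (RingHom.ker (algebraMap Λ k)) ⊔
      Ideal.map f.toAlgHom (IsLocalRing.maximalIdeal A) = Ideal.map f.toAlgHom (IsLocalRing.maximalIdeal A) :=
    sup_eq_right.2 (art_map_kerΛ_le f)
  tfae_have 1 → 2 := by
    intro hf
    rw [art_map_maximalIdeal_eq_of_surjective f hf]
    apply le_antisymm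
    · exact sup_le le_rfl (Ideal.pow_le_self two_ne_zero)
    · exact le_sup_left
  tfae_have 2 → 3 := by
    intro h
    rw [hΛ]; exact h
  tfae_have 3 → 1 := by
    intro h
    rw [hΛ] at h
    exact art_surjective_of_cotangent f h
  tfae_finish

end Groth.Agent.S12709
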