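import Groth.Statements.S12717
import Groth.Agent.Lib.Helper65.ArtBasic

set_option autoImplicit false
universe u v
open CategoryTheory
open ArtFun

namespace Groth.Agent.S12717

theorem result {Λ : Type u} {k : Type u} [CommRing Λ] [Field k] [Algebra Λ k]
    [IsNoetherianRing Λ] [Module.Finite Λ k]
    {F G : ArtFun.Art Λ k ⥤ Type v} (η : F ⟶ G)
    (h : ∀ ⦃B A : ArtFun.Art Λ k⦄ (μ : B ⟶ A), ArtFun.Art.IsSmallExt μ →
      Function.Surjective (ArtFun.relCmp η μ)) :
    ArtFun.IsSmooth η := by
  intro B A μ hμ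
  refine Groth.Agent.Lib.Helper65.art_surjective_induction
    (fun A B μ => Function.Surjective (ArtFun.relCmp η μ)) ?_ (fun A B p hp => h p hp) ?_ μ hμ
  · -- isomorphisms
    intro A B e he y
    obtain ⟨⟨x, g⟩, hxg⟩ := y
    -- x : F A, g : G B, η x = G.map e g
    refine ⟨F.map (inv e) x, Subtype.ext (Prod.ext ?_ ?_)⟩
    · change F.map e (F.map (inv e) x) = x
      rw [← FunctorToTypes.map_comp_apply, IsIso.inv_hom_id, FunctorToTypes.map_id_apply]
    · change η.app B (F.map (inv e) x) = g
      rw [NatTrans.naturality_apply η (inv e) x]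
      have hxg' : η.app A x = G.map e g := hxg
      rw [hxg', ← FunctorToTypes.map_comp_apply, IsIso.hom_inv_id, FunctorToTypes.map_id_apply]
  · -- composition
    intro A B C p q hp hq y
    obtain ⟨⟨x, g⟩, hxg⟩ := y
    -- x : F A, g : G C, η x = G.map (p ≫ q) g
    have hxg' : η.app A x = G.map q (G.map p g) := by
      have : η.app A x = G.map (p ≫ q) g := hxg
      rw [this, FunctorToTypes.map_comp_apply]
    obtain ⟨z, hz⟩ := hq ⟨(x, G.map p g), hxg'⟩
    have hz1 : F.map q z = x := congrArg (fun t => t.1.1) hz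
    have hz2 : η.app B z = G.map p g := congrArg (fun t => t.1.2) hz
    obtain ⟨w, hw⟩ := hp ⟨(z, g), hz2⟩
    have hw1 : F.map p w = z := congrArg (fun t => t.1.1) hw
    have hw2 : η.app C w = g := congrArg (fun t => t.1.2) hw
    refine ⟨w, Subtype.ext (Prod.ext ?_ hw2)⟩
    change F.map (p ≫ q) w = x
    rw [FunctorToTypes.map_comp_apply, hw1, hz1]

end Groth.Agent.S12717
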