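import Groth.Statements.S12721
import Groth.Agent.Lib.Helper65.ArtSub
import Groth.Agent.Lib.Helper65.CRingTangent

set_option autoImplicit false
universe u v
open CategoryTheory
open ArtFun

namespace Groth.Agent.S12721

/-- (1) ⇔ (2): for R a complete local Noetherian Λ-algebra with residue field k, the functor h_R on
Artinian local Λ-algebras with residue field k is smooth (surjective along every surjection) if and
only if Λ → R is formally smooth for the m_R-adic topology. -/
theorem result {Λ : Type u} {k : Type u} [CommRing Λ] [Field k] [Algebra Λ k]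
    [IsNoetherianRing Λ] [Module.Finite Λ k]
    (R : ArtFun.CRing Λ k) :
    ArtFun.IsSmoothFunctor (ArtFun.hR R.carrier R.res) ↔
      CAlgX.IsAdicFormallySmooth Λ R.carrier (IsLocalRing.maximalIdeal R.carrier) := by
  classical
  open Groth.Agent.Lib.Helper65 in
  constructor
  · -- smooth functor ⇒ formally smooth
    intro hsm A' _ _ J hJ ψ ⟨n, hn⟩
    have hkill : ∀ a ∈ CRing.mpow R n, ψ a = 0 := fun a ha =>
      hn a (Ideal.pow_le_pow_right (Nat.le_succ n) ha)
    let ψ' : (R.trunc n).carrier →ₐ[Λ] A' ⧸ J := Ideal.Quotient.liftₐ (CRing.mpow R n) ψ hkill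
    obtain ⟨B, μ, ι, hμ, hι⟩ := exists_art_sub (R.trunc n) J hJ ψ'
    obtain ⟨χ', hχ'⟩ := hsm μ hμ (R.truncHom n)
    have hχ'' : ∀ r, μ.toAlgHom (χ'.1 r) = (R.truncHom n).1 r := fun r =>
      congrArg (fun t : HomSet R.carrier R.res (R.trunc n) => t.1 r) hχ'
    refine ⟨ι.comp χ'.1, ?_⟩
    apply AlgHom.ext
    intro r
    change Ideal.Quotient.mk J (ι (χ'.1 r)) = ψ r
    rw [hι, hχ'']
    rfl
  · -- formally smooth ⇒ smooth functor
    intro hfs
    have key : ∀ ⦃A B : Art Λ k⦄ (μ : B ⟶ A), Function.Surjective μ →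
        ∀ φ : HomSet R.carrier R.res A, ∃ ψ : HomSet R.carrier R.res B, HomSet.map μ ψ = φ := by
      intro A B μ hμ
      refine art_surjective_induction
        (P := fun A B μ => ∀ φ : HomSet R.carrier R.res A, ∃ ψ : HomSet R.carrier R.res B, HomSet.map μ ψ = φ)
        ?_ ?_ ?_ μ hμ
      · intro A B e he φ
        refine ⟨HomSet.map (inv e) φ, ?_⟩
        apply Subtype.ext
        apply AlgHom.ext
        intro r
        change (inv e ≫ e).toAlgHom (φ.1 r) = φ.1 r
        rw [IsIso.inv_hom_id]
        rfl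
      · intro A B p hp φ
        -- kernel squares to zero
        have hJ : RingHom.ker p.toAlgHom ^ 2 = ⊥ := by
          rw [eq_bot_iff, pow_two, ← hp.2.2.2]
          exact Ideal.mul_mono_left (art_ker_le_maximalIdeal p)
        let e : (B.carrier ⧸ RingHom.ker p.toAlgHom) ≃ₐ[Λ] A.carrier :=
          Ideal.quotientKerAlgEquivOfSurjective hp.1
        let ψ₀ : R.carrier →ₐ[Λ] B.carrier ⧸ RingHom.ker p.toAlgHom :=
          (e.symm : A.carrier →ₐ[Λ] _).comp φ.1
        obtain ⟨N, hN⟩ := art_maximalIdeal_nilpotent A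
        have hle : Ideal.map φ.1 (IsLocalRing.maximalIdeal R.carrier) ≤ IsLocalRing.maximalIdeal A := by
          rw [Ideal.map_le_iff_le_comap]
          intro a ha
          rw [Ideal.mem_comap, Art.mem_maximalIdeal_iff]
          have : A.res (φ.1 a) = R.res a := congrArg (fun t : R.carrier →ₐ[Λ] k => t a) φ.2
          rw [this]
          exact (CRing.mem_maximalIdeal_iff R a).1 ha
        have hkill : ∃ m : ℕ, ∀ x ∈ IsLocalRing.maximalIdeal R.carrier ^ m, ψ₀ x = 0 := by
          refine ⟨N, fun x hx => ?_⟩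
          have h2 : φ.1 x ∈ Ideal.map φ.1 (IsLocalRing.maximalIdeal R.carrier ^ N) :=
            Ideal.mem_map_of_mem _ hx
          rw [Ideal.map_pow] at h2
          have h3 := Ideal.pow_right_mono hle N h2
          rw [hN, Ideal.mem_bot] at h3
          change e.symm (φ.1 x) = 0
          rw [h3, map_zero]
        obtain ⟨χ, hχ⟩ := hfs B.carrier (RingHom.ker p.toAlgHom) hJ ψ₀ hkill
        have hpχ : ∀ r, p.toAlgHom (χ r) = φ.1 r := by
          intro r
          have h1 : Ideal.Quotient.mk _ (χ r) = e.symm (φ.1 r) :=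
            congrArg (fun t : R.carrier →ₐ[Λ] B.carrier ⧸ RingHom.ker p.toAlgHom => t r) hχ
          have h2 : e (Ideal.Quotient.mk _ (χ r)) = p.toAlgHom (χ r) := rfl
          rw [← h2, h1, e.apply_symm_apply]
        refine ⟨⟨χ, ?_⟩, ?_⟩
        · apply AlgHom.ext
          intro r
          change B.res (χ r) = R.res r
          rw [← Art.res_app p]
          change A.res (p.toAlgHom (χ r)) = R.res r
          rw [hpχ]
          exact congrArg (fun t : R.carrier →ₐ[Λ] k => t r) φ.2
        · apply Subtype.ext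
          apply AlgHom.ext
          intro r
          exact hpχ r
      · intro A B C p q hp hq φ
        obtain ⟨ψ₁, hψ₁⟩ := hq φ
        obtain ⟨ψ₂, hψ₂⟩ := hp ψ₁
        refine ⟨ψ₂, ?_⟩
        rw [← hψ₁, ← hψ₂]
        rfl
    intro B A μ hμ φ
    obtain ⟨ψ, hψ⟩ := key μ hμ φ
    exact ⟨ψ, hψ⟩

end Groth.Agent.S12721
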