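import Groth.Statements.S12722
-- import your own Groth.Agent.* helpers here
import Groth.Agent.Lib.Helper58.PSRel

set_option autoImplicit false
universe u v
open CategoryTheory
open ArtFun

namespace Groth.Agent.S12722

/-- the base ring as a coefficient ring -/
noncomputable abbrev baseRing (Λ : Type u) (k : Type u) [CommRing Λ] [Field k] [Algebra Λ k]
    [IsNoetherianRing Λ] [IsLocalRing Λ] [IsAdicComplete (IsLocalRing.maximalIdeal Λ) Λ]
    (hk : Function.Surjective (algebraMap Λ k)) : ArtFun.CRing Λ k :=
  { carrier := Λ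
    res := Algebra.ofId Λ k
    res_surjective := hk
    isAdicComplete := inferInstance }

theorem homSet_base_subsingleton {Λ : Type u} {k : Type u} [CommRing Λ] [Field k] [Algebra Λ k]
    (res : Λ →ₐ[Λ] k) (A : ArtFun.Art Λ k) (a b : ArtFun.HomSet Λ res A) : a = b := by
  apply Subtype.ext
  apply AlgHom.ext
  intro l
  have h1 := a.1.commutes l
  have h2 := b.1.commutes l
  rw [Algebra.algebraMap_self_apply] at h1 h2
  rw [h1, h2]

/-- (1) ⇔ (5): let Λ be a complete local Noetherian ring with residue field k. For a complete local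
Noetherian Λ-algebra R with residue field k, the functor h_R on Artinian local Λ-algebras with
residue field k is smooth if and only if R is isomorphic over Λ to a power series ring Λ[[x₁, …,
xₙ]] for some n. -/
theorem result {Λ : Type u} {k : Type u} [CommRing Λ] [Field k] [Algebra Λ k]
    [IsNoetherianRing Λ] [Module.Finite Λ k]
    [IsLocalRing Λ] [IsAdicComplete (IsLocalRing.maximalIdeal Λ) Λ]
    (hk : Function.Surjective (algebraMap Λ k)) (R : ArtFun.CRing Λ k) :
    ArtFun.IsSmoothFunctor (ArtFun.hR R.carrier R.res) ↔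
      ∃ n : ℕ, Nonempty (R.carrier ≃ₐ[Λ] MvPowerSeries (Fin n) Λ) := by
  have hRS : R.res.comp (IsScalarTower.toAlgHom Λ (baseRing Λ k hk).carrier R.carrier) =
      (baseRing Λ k hk).res := by
    apply AlgHom.ext
    intro l
    change R.res (algebraMap Λ R.carrier l) = algebraMap Λ k l
    rw [AlgHom.commutes]
  have key : ArtFun.IsSmoothFunctor (ArtFun.hR R.carrier R.res) ↔
      ArtFun.IsVersal ((ArtFun.Family.self (baseRing Λ k hk).carrier (baseRing Λ k hk).res).along
        (IsScalarTower.toAlgHom Λ (baseRing Λ k hk).carrier R.carrier) hRS) := by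
    constructor
    · intro hs B A μ hμ φ y hy
      obtain ⟨ψ, hψ⟩ := hs μ hμ φ
      exact ⟨ψ, hψ, homSet_base_subsingleton _ B _ _⟩
    · intro hv B A μ hμ φ
      let y : ArtFun.HomSet (baseRing Λ k hk).carrier (baseRing Λ k hk).res B :=
        ⟨Algebra.ofId Λ B.carrier, by
          apply AlgHom.ext
          intro l
          change B.res (algebraMap Λ B.carrier l) = algebraMap Λ k l
          rw [AlgHom.commutes]⟩
      obtain ⟨ψ, hψ, -⟩ := hv μ hμ φ y (homSet_base_subsingleton _ A _ _)
      exact ⟨ψ, hψ⟩
  rw [key]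
  constructor
  · intro hv
    exact Groth.Agent.Lib.Helper58.PSRel.exists_algEquiv_of_isVersal (baseRing Λ k hk) R hRS hv
  · rintro ⟨n, ⟨e⟩⟩
    exact Groth.Agent.Lib.Helper58.PSRel.isVersal_of_algEquiv (baseRing Λ k hk) R hRS n e

end Groth.Agent.S12722
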