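import Mathlib
import Groth.Statements.S12725
import Groth.Agent.Lib.Helper65.ArtFibre
import Groth.Agent.Lib.Helper65.ArtFinite
import Groth.Agent.Lib.Helper65.ArtBasic
import Groth.Agent.Lib.Helper58.MinVersalTangent

set_option autoImplicit false
universe u v
open CategoryTheory
open ArtFun

namespace Groth.Agent.S12725

open ArtFun.Art Groth.Agent.Lib.Helper65 IsLocalRing

variable {Λ : Type u} {k : Type u} [CommRing Λ] [Field k] [Algebra Λ k]
  (F : Art Λ k ⥤ Type v)

theorem map_comp_apply' {X Y Z : Art Λ k} (f : X ⟶ Y) (g : Y ⟶ Z) (x : F.obj X) :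
    F.map (f ≫ g) x = F.map g (F.map f x) := by
  rw [F.map_comp]; rfl

/-- horizontal composition step -/
theorem cmp_bijective_step {B A E E' B' : Art Λ k} {p' : B ⟶ A} {p'' : B ⟶ E}
    (h : IsFibreProd p' p'' (toBase A) (toBase E))
    {q' : E ⟶ E'} {q'' : E ⟶ dual Λ k} (hE : IsFibreProd q' q'' (toBase E') (toBase (dual Λ k)))
    {r' : B' ⟶ A} {r'' : B' ⟶ E'} (h' : IsFibreProd r' r'' (toBase A) (toBase E'))
    (hF : Heps F) (hb : Function.Bijective (cmp F h')) : Function.Bijective (cmp F h) := by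
  obtain ⟨s, hs1, hs2⟩ := isFibreProd_lift_hom h' p' (p'' ≫ q')
    (by rw [eq_toBase (p' ≫ toBase A), eq_toBase ((p'' ≫ q') ≫ toBase E')])
  have hs1' : ∀ b : B, r' (s b) = p' b := fun b => by rw [← Art.comp_apply, hs1]
  have hs2' : ∀ b : B, r'' (s b) = q' (p'' b) := fun b => by rw [← Art.comp_apply, hs2, Art.comp_apply]
  have h'' : IsFibreProd s (p'' ≫ q'') (toBase B') (toBase (dual Λ k)) := by
    refine ⟨?_, ?_, ?_⟩
    · rw [eq_toBase (s ≫ toBase B'), eq_toBase ((p'' ≫ q'') ≫ toBase (dual Λ k))]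
    · intro b₁ b₂ e1 e2
      rw [Art.comp_apply, Art.comp_apply] at e2
      have e3 : p' b₁ = p' b₂ := by rw [← hs1', ← hs1', e1]
      have e4 : q' (p'' b₁) = q' (p'' b₂) := by rw [← hs2', ← hs2', e1]
      exact h.inj b₁ b₂ e3 (hE.inj _ _ e4 e2)
    · intro b' d hbd
      have e1 : toBase E' (r'' b') = toBase (dual Λ k) d := by
        rw [← hbd, ← Art.comp_apply, eq_toBase (r'' ≫ toBase E')]
      obtain ⟨e, he1, he2⟩ := hE.surj (r'' b') d e1
      have e2 : toBase A (r' b') = toBase E e := by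
        rw [← Art.comp_apply, eq_toBase (r' ≫ toBase A), hbd, ← he2, ← Art.comp_apply,
          eq_toBase (q'' ≫ toBase (dual Λ k))]
      obtain ⟨b, hb1, hb2⟩ := h.surj (r' b') e e2
      refine ⟨b, ?_, ?_⟩
      · apply h'.inj
        · rw [hs1', hb1]
        · rw [hs2', hb2, he1]
      · rw [Art.comp_apply, hb2, he2]
  have hb'' := hF s (p'' ≫ q'') h''
  have hbE := hF q' q'' hE
  constructor
  · intro z₁ z₂ hz
    have e1 : F.map p' z₁ = F.map p' z₂ := congrArg (fun t => t.1.1) hz
    have e2 : F.map p'' z₁ = F.map p'' z₂ := congrArg (fun t => t.1.2) hz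
    apply hb''.1
    apply Subtype.ext
    apply Prod.ext
    · change F.map s z₁ = F.map s z₂
      apply hb.1
      apply Subtype.ext
      apply Prod.ext
      · change F.map r' (F.map s z₁) = F.map r' (F.map s z₂)
        rw [← map_comp_apply', ← map_comp_apply', hs1, e1]
      · change F.map r'' (F.map s z₁) = F.map r'' (F.map s z₂)
        rw [← map_comp_apply', ← map_comp_apply', hs2, map_comp_apply', map_comp_apply', e2]
    · change F.map (p'' ≫ q'') z₁ = F.map (p'' ≫ q'') z₂
      rw [map_comp_apply', map_comp_apply', e2]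
  · rintro ⟨⟨a, e⟩, hae⟩
    have hae' : F.map (toBase A) a = F.map (toBase E) e := hae
    have e1 : F.map (toBase A) a = F.map (toBase E') (F.map q' e) := by
      rw [hae', ← map_comp_apply', eq_toBase (q' ≫ toBase E')]
    obtain ⟨b', hb'⟩ := hb.2 ⟨(a, F.map q' e), e1⟩
    have hb'1 : F.map r' b' = a := congrArg (fun t => t.1.1) hb'
    have hb'2 : F.map r'' b' = F.map q' e := congrArg (fun t => t.1.2) hb'
    have e2 : F.map (toBase B') b' = F.map (toBase (dual Λ k)) (F.map q'' e) := by
      rw [← map_comp_apply' F q'', eq_toBase (q'' ≫ toBase (dual Λ k)), ← hae',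
        ← hb'1, ← map_comp_apply', eq_toBase (r' ≫ toBase A)]
    obtain ⟨z, hz⟩ := hb''.2 ⟨(b', F.map q'' e), e2⟩
    have hz1 : F.map s z = b' := congrArg (fun t => t.1.1) hz
    have hz2 : F.map (p'' ≫ q'') z = F.map q'' e := congrArg (fun t => t.1.2) hz
    refine ⟨z, ?_⟩
    apply Subtype.ext
    apply Prod.ext
    · change F.map p' z = a
      rw [← hs1, map_comp_apply', hz1, hb'1]
    · change F.map p'' z = e
      apply hbE.1
      apply Subtype.ext
      apply Prod.ext
      · change F.map q' (F.map p'' z) = F.map q' e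
        rw [← map_comp_apply', ← hs2, map_comp_apply', hz1, hb'2]
      · change F.map q'' (F.map p'' z) = F.map q'' e
        rw [← map_comp_apply', hz2]


/-- the section as a ring map from `k` -/
def secHom {E : Art Λ k} (σ : base Λ k ⟶ E) : k →+* E.carrier := σ.toAlgHom.toRingHom

theorem res_secHom {E : Art Λ k} (σ : base Λ k ⟶ E) (c : k) : E.res (secHom σ c) = c :=
  Art.res_app σ c

theorem secHom_algebraMap {E : Art Λ k} (σ : base Λ k ⟶ E) (a : Λ) :
    secHom σ (algebraMap Λ k a) = algebraMap Λ E.carrier a := σ.toAlgHom.commutes a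

theorem sub_secHom_mem {E : Art Λ k} (σ : base Λ k ⟶ E) (x : E.carrier) :
    x - secHom σ (E.res x) ∈ maximalIdeal E.carrier := by
  rw [Art.mem_maximalIdeal_iff, map_sub, res_secHom, sub_self]

theorem exists_form (E : Art Λ k) (σ : base Λ k ⟶ E) (t : E.carrier)
    (ht : t ∈ maximalIdeal E.carrier) (ht0 : t ≠ 0) :
    ∃ ℓ : E.carrier →+ k,
      (∀ (c : k) x, ℓ (secHom σ c * x) = c * ℓ x) ∧ ℓ 1 = 0 ∧ ℓ t = 1 := by
  letI : Module k E.carrier := Module.compHom E.carrier (secHom σ)
  have hsmul : ∀ (c : k) (x : E.carrier), c • x = secHom σ c * x := fun _ _ => rfl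
  have hnot : t ∉ Submodule.span k ({1} : Set E.carrier) := by
    intro hmem
    rw [Submodule.mem_span_singleton] at hmem
    obtain ⟨c, hc⟩ := hmem
    rw [hsmul, mul_one] at hc
    have h1 : E.res t = c := by rw [← hc, res_secHom]
    rw [(Art.mem_maximalIdeal_iff E t).1 ht] at h1
    rw [← h1, map_zero] at hc
    exact ht0 hc.symm
  obtain ⟨f, hf1, hf2⟩ := Submodule.exists_dual_map_eq_bot_of_notMem hnot inferInstance
  have hf0 : f 1 = 0 := by
    have : f 1 ∈ (Submodule.span k ({1} : Set E.carrier)).map f :=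
      Submodule.mem_map_of_mem (Submodule.subset_span rfl)
    rw [hf2] at this
    exact this
  refine ⟨{ toFun := fun x => (f t)⁻¹ * f x
            map_zero' := by rw [map_zero, mul_zero]
            map_add' := fun x y => by rw [map_add, mul_add] }, fun c x => ?_, ?_, ?_⟩
  · change (f t)⁻¹ * f (secHom σ c * x) = c * ((f t)⁻¹ * f x)
    rw [← hsmul, map_smul, smul_eq_mul]; ring
  · change (f t)⁻¹ * f 1 = 0
    rw [hf0, mul_zero]
  · exact inv_mul_cancel₀ hf1


section Dual

open Groth.Agent.Lib.Helper58.MinVT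

/-- element of the dual numbers with given coordinates -/
def mkD (a b : k) : (dual Λ k).carrier :=
  (TrivSqZeroExt.inl a + TrivSqZeroExt.inr b : TrivSqZeroExt k k)

theorem res_mkD (a b : k) : (dual Λ k).res (mkD (Λ := Λ) a b) = a := by
  change TrivSqZeroExt.fst (TrivSqZeroExt.inl a + TrivSqZeroExt.inr b : TrivSqZeroExt k k) = a
  simp

theorem sndD_mkD (a b : k) : sndD Λ k (mkD (Λ := Λ) a b) = b := by
  change TrivSqZeroExt.snd (TrivSqZeroExt.inl a + TrivSqZeroExt.inr b : TrivSqZeroExt k k) = b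
  simp

variable (E : Art Λ k) (σ : base Λ k ⟶ E)
  (hE2 : ∀ x ∈ maximalIdeal E.carrier, ∀ y ∈ maximalIdeal E.carrier, x * y = 0)
  (ℓ : E.carrier →+ k) (hsm : ∀ (c : k) x, ℓ (secHom σ c * x) = c * ℓ x) (h1 : ℓ 1 = 0)

include hsm h1 in
theorem form_secHom (c : k) : ℓ (secHom σ c) = 0 := by
  have := hsm c 1
  rwa [mul_one, h1, mul_zero] at this

include hE2 hsm h1 in
theorem form_mul (x y : E.carrier) : ℓ (x * y) = E.res x * ℓ y + E.res y * ℓ x := by
  have hx := sub_secHom_mem σ x
  have hy := sub_secHom_mem σ y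
  have e1 : x * y = secHom σ (E.res x) * y + secHom σ (E.res y) * (x - secHom σ (E.res x)) +
      (x - secHom σ (E.res x)) * (y - secHom σ (E.res y)) := by ring
  rw [e1, hE2 _ hx _ hy, add_zero, map_add, hsm, hsm, map_sub, form_secHom E σ ℓ hsm h1, sub_zero]

include hE2 hsm h1 in
/-- the map to the dual numbers attached to a linear form on the maximal ideal -/
theorem exists_toDual : ∃ q'' : E ⟶ dual Λ k, ∀ x, sndD Λ k (q'' x) = ℓ x := by
  refine ⟨⟨{ toFun := fun x => mkD (E.res x) (ℓ x)
             map_one' := ?_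
             map_mul' := fun x y => ?_
             map_zero' := ?_
             map_add' := fun x y => ?_
             commutes' := fun a => ?_ }, ?_⟩, fun x => sndD_mkD _ _⟩
  · apply dual_ext
    · rw [res_mkD, map_one, map_one]
    · rw [sndD_mkD, sndD_one, h1]
  · apply dual_ext
    · rw [res_mkD, map_mul, map_mul, res_mkD, res_mkD]
    · rw [sndD_mkD, sndD_mul, res_mkD, res_mkD, sndD_mkD, sndD_mkD, form_mul E σ hE2 ℓ hsm h1]
  · apply dual_ext
    · rw [res_mkD, map_zero, map_zero]
    · rw [sndD_mkD, sndD_zero, map_zero]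
  · apply dual_ext
    · rw [res_mkD, map_add, map_add, res_mkD, res_mkD]
    · rw [sndD_mkD, sndD_add, sndD_mkD, sndD_mkD, map_add]
  · apply dual_ext
    · change (dual Λ k).res (mkD _ _) = _
      rw [res_mkD, AlgHom.commutes, AlgHom.commutes]
    · change sndD Λ k (mkD _ _) = _
      rw [sndD_mkD, sndD_algebraMap, ← secHom_algebraMap σ a, form_secHom E σ ℓ hsm h1]
  · apply AlgHom.ext
    intro x
    exact res_mkD (Λ := Λ) _ _

include hE2 hsm h1 in
theorem isFibreProd_decomp (t : E.carrier) (ht : t ∈ maximalIdeal E.carrier) (ht1 : ℓ t = 1)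
    (hle : Ideal.span {t} ≤ maximalIdeal E.carrier) (q'' : E ⟶ dual Λ k)
    (hq'' : ∀ x, sndD Λ k (q'' x) = ℓ x) :
    IsFibreProd (quotMk E (Ideal.span {t}) hle) q'' (toBase (quot E (Ideal.span {t}) hle))
      (toBase (dual Λ k)) := by
  have hrest : E.res t = 0 := (Art.mem_maximalIdeal_iff E t).1 ht
  refine ⟨?_, ?_, ?_⟩
  · rw [eq_toBase (quotMk E _ hle ≫ toBase _), eq_toBase (q'' ≫ toBase _)]
  · intro x y e1 e2
    have e1' : x - y ∈ Ideal.span {t} := (quotMk_eq_iff E hle x y).1 e1
    obtain ⟨e, he⟩ := Ideal.mem_span_singleton'.1 e1'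
    have e3 : e * t = secHom σ (E.res e) * t := by
      have := hE2 _ (sub_secHom_mem σ e) _ ht
      rw [sub_mul, sub_eq_zero] at this
      exact this
    have e4 : ℓ (x - y) = 0 := by
      rw [map_sub, ← hq'', ← hq'', e2, sub_self]
    rw [← he, e3, hsm, ht1, mul_one] at e4
    rw [e3, e4, map_zero, zero_mul] at he
    exact sub_eq_zero.1 he.symm
  · intro x' d hxd
    have hxd' : (quot E (Ideal.span {t}) hle).res x' = (dual Λ k).res d := hxd
    obtain ⟨x₀, rfl⟩ := quotMk_toAlgHom_surjective E hle x'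
    refine ⟨x₀ + secHom σ (sndD Λ k d - ℓ x₀) * t, ?_, ?_⟩
    · change (quotMk E _ hle).toAlgHom (x₀ + secHom σ (sndD Λ k d - ℓ x₀) * t) = _
      rw [map_add, (quotMk_eq_zero_iff E hle _).2
        (Ideal.mul_mem_left _ _ (Ideal.subset_span (Set.mem_singleton t))), add_zero]
    · apply dual_ext
      · rw [Art.res_app, map_add, map_mul, hrest, mul_zero, add_zero, ← hxd', Art.res_app]
      · rw [hq'', map_add, hsm, ht1, mul_one]; ring

end Dual

section Main

variable [IsNoetherianRing Λ] [Module.Finite Λ k]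

theorem main (hF : Heps F) : ∀ (n : ℕ) (E : Art Λ k) (σ : base Λ k ⟶ E)
    (hE2 : ∀ x ∈ maximalIdeal E.carrier, ∀ y ∈ maximalIdeal E.carrier, x * y = 0)
    (s : Fin n → E.carrier) (hs1 : ∀ i, s i ∈ maximalIdeal E.carrier)
    (hs2 : maximalIdeal E.carrier ≤ Ideal.span (Set.range s))
    ⦃B A : Art Λ k⦄ (p' : B ⟶ A) (p'' : B ⟶ E)
    (h : IsFibreProd p' p'' (toBase A) (toBase E)), Function.Bijective (cmp F h)
  | 0, E, σ, hE2, s, hs1, hs2, B, A, p', p'', h => by
    have hbot : maximalIdeal E.carrier = ⊥ := by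
      rw [eq_bot_iff]
      refine hs2.trans ?_
      rw [Ideal.span_le]
      rintro _ ⟨i, rfl⟩
      exact i.elim0
    have hbij : Function.Bijective (toBase E) := by
      constructor
      · intro x y hxy
        have hxy' : E.res x = E.res y := hxy
        have : x - y ∈ maximalIdeal E.carrier := by
          rw [Art.mem_maximalIdeal_iff, map_sub, hxy', sub_self]
        rw [hbot] at this
        exact sub_eq_zero.1 this
      · exact E.res_surjective
    exact cmp_bijective_of_isIso F h (art_isIso_of_bijective _ hbij)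
  | n + 1, E, σ, hE2, s, hs1, hs2, B, A, p', p'', h => by
    by_cases ht0 : s (Fin.last n) = 0
    · refine main hF n E σ hE2 (fun i => s i.castSucc) (fun i => hs1 _) ?_ p' p'' h
      refine hs2.trans (Ideal.span_le.2 ?_)
      rintro _ ⟨i, rfl⟩
      refine Fin.lastCases ?_ (fun j => ?_) i
      · rw [ht0]; exact zero_mem _
      · exact Ideal.subset_span ⟨j, rfl⟩
    · have ht := hs1 (Fin.last n)
      have hle : Ideal.span {s (Fin.last n)} ≤ maximalIdeal E.carrier :=
        (Ideal.span_singleton_le_iff_mem _).2 ht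
      obtain ⟨ℓ, hsm, h1, ht1⟩ := exists_form E σ _ ht ht0
      obtain ⟨q'', hq''⟩ := exists_toDual E σ hE2 ℓ hsm h1
      have hEfp := isFibreProd_decomp E σ hE2 ℓ hsm h1 _ ht ht1 hle q'' hq''
      obtain ⟨B', r', r'', h'⟩ := art_exists_isFibreProd (toBase A)
        (toBase (quot E (Ideal.span {s (Fin.last n)}) hle))
        (quot E (Ideal.span {s (Fin.last n)}) hle).res_surjective
      refine cmp_bijective_step F h hEfp h' hF ?_
      refine main hF n (quot E (Ideal.span {s (Fin.last n)}) hle) (σ ≫ quotMk E _ hle) ?_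
        (fun i => (quotMk E _ hle).toAlgHom (s i.castSucc)) ?_ ?_ r' r'' h'
      · intro x hx y hy
        obtain ⟨m, hm, rfl⟩ := quot_maximalIdeal_lift E hle x hx
        obtain ⟨m', hm', rfl⟩ := quot_maximalIdeal_lift E hle y hy
        rw [← map_mul, hE2 m hm m' hm', map_zero]
      · intro i
        rw [Art.mem_maximalIdeal_iff]
        exact (Art.res_app (quotMk E _ hle) _).trans ((Art.mem_maximalIdeal_iff _ _).1 (hs1 _))
      · intro y hy
        obtain ⟨m, hm, rfl⟩ := quot_maximalIdeal_lift E hle y hy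
        have h3 : Ideal.span (Set.range s) ≤ Ideal.comap (quotMk E _ hle).toAlgHom
            (Ideal.span (Set.range fun i : Fin n => (quotMk E _ hle).toAlgHom (s i.castSucc))) := by
          rw [Ideal.span_le]
          rintro _ ⟨i, rfl⟩
          rw [SetLike.mem_coe, Ideal.mem_comap]
          refine Fin.lastCases ?_ (fun j => ?_) i
          · rw [(quotMk_eq_zero_iff E hle _).2 (Ideal.subset_span (Set.mem_singleton _))]
            exact zero_mem _
          · exact Ideal.subset_span ⟨j, rfl⟩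
        exact h3 (hs2 hm)

end Main


/-- For functors, if F satisfies (S2) (bijectivity of F(A ×_k k[ε]) → F(A) ×_{F(k)} F(k[ε])), then for
every object E which is a square-zero extension k ⊕ V of k by a finite-dimensional vector space —
equivalently, m_E² = 0 and the augmentation E → k has a section in the category — and every fibre
product square B = A ×_k E, the map F(B) → F(A) ×_{F(k)} F(E) is bijective. -/
theorem result {Λ : Type u} {k : Type u} [CommRing Λ] [Field k] [Algebra Λ k]
    [IsNoetherianRing Λ] [Module.Finite Λ k]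
    {F : ArtFun.Art Λ k ⥤ Type v} (hF : ArtFun.Heps F)
    {E : ArtFun.Art Λ k} (hσ : Nonempty (ArtFun.Art.base Λ k ⟶ E))
    (hE : IsLocalRing.maximalIdeal E ^ 2 = ⊥)
    ⦃B A : ArtFun.Art Λ k⦄ (p' : B ⟶ A) (p'' : B ⟶ E)
    (h : ArtFun.Art.IsFibreProd p' p'' (ArtFun.Art.toBase A) (ArtFun.Art.toBase E)) :
    Function.Bijective (ArtFun.cmp F h) := by
  obtain ⟨σ⟩ := hσ
  haveI : IsNoetherianRing E.carrier := inferInstance
  obtain ⟨n, s, hs⟩ := Submodule.fg_iff_exists_fin_generating_family.1
    (IsNoetherian.noetherian (maximalIdeal E.carrier))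
  have hs' : Ideal.span (Set.range s) = maximalIdeal E.carrier := hs
  refine main F hF n E σ (fun x hx y hy => ?_) s (fun i => ?_) hs'.ge p' p'' h
  · have : x * y ∈ maximalIdeal E.carrier ^ 2 := by
      rw [pow_two]; exact Ideal.mul_mem_mul hx hy
    rw [hE] at this
    exact this
  · rw [← hs']
    exact Ideal.subset_span ⟨i, rfl⟩

end Groth.Agent.S12725
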