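import Groth.Statements.S12727
import Groth.Agent.Lib.Helper65.ArtFibre

set_option autoImplicit false
universe u v
open CategoryTheory
open ArtFun

namespace Groth.Agent.S12727

theorem result {Λ : Type u} {k : Type u} [CommRing Λ] [Field k] [Algebra Λ k]
    [IsNoetherianRing Λ] [Module.Finite Λ k]
    (F : ArtFun.Art Λ k ⥤ Type v) (h0 : ArtFun.H0 F) (hv : ArtFun.HasVersal F) :
    ArtFun.S1 F := by
  obtain ⟨V⟩ := hv
  exact Groth.Agent.Lib.Helper65.s1_of_versal h0 V.family V.versal

end Groth.Agent.S12727
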