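import Groth.Statements.S12733
import Groth.Agent.Lib.Helper65.ArtTorsor
import Groth.Agent.S12719

set_option autoImplicit false
universe u v
open CategoryTheory
open ArtFun

namespace Groth.Agent.S12733

open Groth.Agent.Lib.Helper65 ArtFun.Art

theorem result {Λ : Type u} {k : Type u} [CommRing Λ] [Field k] [Algebra Λ k]
    [IsNoetherianRing Λ] [Module.Finite Λ k]
    {F G : ArtFun.Art Λ k ⥤ Type v}
    (hF0 : ArtFun.H0 F) (hF : (∀ ⦃B A A' A'' : ArtFun.Art Λ k⦄ (p' : B ⟶ A') (p'' : B ⟶ A'') (f' : A' ⟶ A) (f'' : A'' ⟶ A)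
        (h : ArtFun.Art.IsFibreProd p' p'' f' f''), Function.Surjective f'' → Function.Bijective (ArtFun.cmp F h)))
    (hG0 : ArtFun.H0 G) (hG : (∀ ⦃B A A' A'' : ArtFun.Art Λ k⦄ (p' : B ⟶ A') (p'' : B ⟶ A'') (f' : A' ⟶ A) (f'' : A'' ⟶ A)
        (h : ArtFun.Art.IsFibreProd p' p'' f' f''), Function.Surjective f'' → Function.Bijective (ArtFun.cmp G h)))
    (φ : F ⟶ G) (hφ : ArtFun.IsSmooth φ) (hd : Function.Bijective (ArtFun.TangentSpace.map φ))
    (A : ArtFun.Art Λ k) : Function.Bijective (φ.app A) := by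
  have hsurj0 : Function.Surjective (φ.app (base Λ k)) := by
    intro g
    obtain ⟨x0⟩ := hF0.1
    exact ⟨x0, hG0.2.elim _ _⟩
  refine ⟨?_, Groth.Agent.S12719.result φ hφ hsurj0 A⟩
  have hdinj : ∀ η η' : F.obj (dual Λ k), φ.app (dual Λ k) η = φ.app (dual Λ k) η' → η = η' :=
    fun η η' h => hd.1 h
  have key := art_surjective_induction (Λ := Λ) (k := k)
    (fun A B _ => Function.Injective (φ.app A) → Function.Injective (φ.app B)) ?_ ?_ ?_
    (toBase A) A.res_surjective
  · apply key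
    intro x y _
    exact hF0.2.elim _ _
  · intro A B e he hA x₁ x₂ h
    have h1 : F.map e x₁ = F.map e x₂ := by
      apply hA
      rw [NatTrans.naturality_apply φ e x₁, NatTrans.naturality_apply φ e x₂, h]
    have := congrArg (F.map (inv e)) h1
    simp only [← FunctorToTypes.map_comp_apply, IsIso.hom_inv_id, FunctorToTypes.map_id_apply] at this
    exact this
  · intro A B μ hμ hA x₁ x₂ h
    obtain ⟨P, q₁, q₂, τ, h₁, h₂⟩ := exists_torsor_square μ hμ
    have hμx : F.map μ x₁ = F.map μ x₂ := by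
      apply hA
      rw [NatTrans.naturality_apply φ μ x₁, NatTrans.naturality_apply φ μ x₂, h]
    obtain ⟨wF, hwF⟩ := (hF q₁ q₂ μ μ h₁ hμ.1).2 ⟨(x₁, x₂), hμx⟩
    have hwF1 : F.map q₁ wF = x₁ := congrArg (fun t => t.1.1) hwF
    have hwF2 : F.map q₂ wF = x₂ := congrArg (fun t => t.1.2) hwF
    obtain ⟨δ, hδ1, hδ2⟩ := isFibreProd_lift_hom h₁ (𝟙 B) (𝟙 B) rfl
    have hw'1 : F.map q₁ (F.map δ x₁) = x₁ := by
      rw [← FunctorToTypes.map_comp_apply, hδ1, FunctorToTypes.map_id_apply]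
    have hw'2 : F.map q₂ (F.map δ x₁) = x₁ := by
      rw [← FunctorToTypes.map_comp_apply, hδ2, FunctorToTypes.map_id_apply]
    -- φ wF = φ (F δ x₁)
    have hφw : φ.app P wF = φ.app P (F.map δ x₁) := by
      apply (hG q₁ q₂ μ μ h₁ hμ.1).1
      apply FibProd.ext
      · change G.map q₁ (φ.app P wF) = G.map q₁ (φ.app P (F.map δ x₁))
        rw [← NatTrans.naturality_apply φ q₁, ← NatTrans.naturality_apply φ q₁, hwF1, hw'1]
      · change G.map q₂ (φ.app P wF) = G.map q₂ (φ.app P (F.map δ x₁))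
        rw [← NatTrans.naturality_apply φ q₂, ← NatTrans.naturality_apply φ q₂, hwF2, hw'2, h]
    have hη : F.map τ wF = F.map τ (F.map δ x₁) := by
      apply hdinj
      rw [NatTrans.naturality_apply φ τ, NatTrans.naturality_apply φ τ, hφw]
    have hww : wF = F.map δ x₁ := by
      apply (hF q₁ τ (toBase B) (toBase (dual Λ k)) h₂ (dual Λ k).res_surjective).1
      apply FibProd.ext
      · change F.map q₁ wF = F.map q₁ (F.map δ x₁)
        rw [hwF1, hw'1]
      · exact hη
    rw [← hwF2, hww, hw'2]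
  · intro A B C p q hp hq hA
    exact hp (hq hA)

end Groth.Agent.S12733
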