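import Groth.Statements.S12734
import Groth.Agent.Lib.Helper58.MinRetract
import Groth.Agent.Lib.Helper58.MinVersalTangent2
import Groth.Agent.Lib.Helper65.ArtTorsor
import Groth.Agent.Lib.Helper65.CRingTangent
import Groth.Agent.S12730
import Groth.Agent.S12731

set_option autoImplicit false
universe u v
open CategoryTheory
open ArtFun

namespace Groth.Agent.S12734

open Groth.Agent.Lib.Helper65 Groth.Agent.Lib.Helper58 ArtFun.Art

section Aux

variable {Λ : Type u} {k : Type u} [CommRing Λ] [Field k] [Algebra Λ k]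
  [IsNoetherianRing Λ] [Module.Finite Λ k] {F : ArtFun.Art Λ k ⥤ Type v}

theorem map_comp_homSet {R : ArtFun.CRing Λ k} {A B C : ArtFun.Art Λ k} (f : A ⟶ B) (g : B ⟶ C)
    (φ : ArtFun.HomSet R.carrier R.res A) :
    ArtFun.HomSet.map (f ≫ g) φ = ArtFun.HomSet.map g (ArtFun.HomSet.map f φ) :=
  Subtype.ext (AlgHom.ext fun _ => rfl)

/-- a family of an (RS) functor which is injective on tangent spaces is injective -/
theorem family_injective
    (hF : ∀ ⦃B A A' A'' : ArtFun.Art Λ k⦄ (p' : B ⟶ A') (p'' : B ⟶ A'') (f' : A' ⟶ A) (f'' : A'' ⟶ A)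
        (h : ArtFun.Art.IsFibreProd p' p'' f' f''), Function.Surjective f'' →
        Function.Bijective (ArtFun.cmp F h))
    {R : ArtFun.CRing Λ k} (ξ : ArtFun.Family R.carrier R.res F)
    (hdinj : Function.Injective (ξ.app (dual Λ k))) (A : ArtFun.Art Λ k) :
    Function.Injective (ξ.app A) := by
  have key := art_surjective_induction (Λ := Λ) (k := k)
    (fun A B _ => Function.Injective (ξ.app A) → Function.Injective (ξ.app B)) ?_ ?_ ?_
    (toBase A) A.res_surjective
  · apply key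
    intro x y _
    rw [homSet_base_unique x, homSet_base_unique y]
  · intro A B e he hA ψ₁ ψ₂ h
    have h1 : ArtFun.HomSet.map e ψ₁ = ArtFun.HomSet.map e ψ₂ := by
      apply hA
      rw [ξ.natural, ξ.natural, h]
    have h2 := congrArg (ArtFun.HomSet.map (inv e)) h1
    rw [← map_comp_homSet, ← map_comp_homSet, IsIso.hom_inv_id] at h2
    have h3 : ∀ ψ : ArtFun.HomSet R.carrier R.res B, ArtFun.HomSet.map (𝟙 B) ψ = ψ := fun ψ =>
      Subtype.ext (AlgHom.ext fun _ => rfl)
    rw [h3, h3] at h2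
    exact h2
  · intro A B μ hμ hA ψ₁ ψ₂ h
    obtain ⟨P, q₁, q₂, τ, h₁, h₂⟩ := exists_torsor_square μ hμ
    have hμψ : ArtFun.HomSet.map μ ψ₁ = ArtFun.HomSet.map μ ψ₂ := by
      apply hA
      rw [ξ.natural, ξ.natural, h]
    obtain ⟨w, hw1, hw2⟩ := isFibreProd_lift h₁ ψ₁ ψ₂ hμψ
    obtain ⟨w', hw'1, hw'2⟩ := isFibreProd_lift h₁ ψ₁ ψ₁ rfl
    have hξw : ξ.app P w = ξ.app P w' := by
      apply (hF q₁ q₂ μ μ h₁ hμ.1).1
      apply ArtFun.FibProd.ext
      · change F.map q₁ (ξ.app P w) = F.map q₁ (ξ.app P w')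
        rw [← ξ.natural, ← ξ.natural, hw1, hw'1]
      · change F.map q₂ (ξ.app P w) = F.map q₂ (ξ.app P w')
        rw [← ξ.natural, ← ξ.natural, hw2, hw'2, h]
    have hτ : ArtFun.HomSet.map τ w = ArtFun.HomSet.map τ w' := by
      apply hdinj
      rw [ξ.natural, ξ.natural, hξw]
    have hww : w = w' := isFibreProd_homSet_ext h₂ w w' (by rw [hw1, hw'1]) hτ
    rw [← hw2, hww, hw'2]
  · intro A B C p q hp hq hA
    exact hp (hq hA)

/-- a prorepresentable functor satisfies (RS) -/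
theorem rs_of_isUniversal {R : ArtFun.CRing Λ k} (ξ : ArtFun.Family R.carrier R.res F)
    (hξ : ArtFun.IsUniversal ξ)
    ⦃B A A' A'' : ArtFun.Art Λ k⦄ (p' : B ⟶ A') (p'' : B ⟶ A'') (f' : A' ⟶ A) (f'' : A'' ⟶ A)
    (h : ArtFun.Art.IsFibreProd p' p'' f' f'') : Function.Bijective (ArtFun.cmp F h) := by
  constructor
  · intro x y hxy
    obtain ⟨ψ₁, rfl⟩ := (hξ B).2 x
    obtain ⟨ψ₂, rfl⟩ := (hξ B).2 y
    have e1 : F.map p' (ξ.app B ψ₁) = F.map p' (ξ.app B ψ₂) := congrArg (fun t => t.1.1) hxy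
    have e2 : F.map p'' (ξ.app B ψ₁) = F.map p'' (ξ.app B ψ₂) := congrArg (fun t => t.1.2) hxy
    rw [← ξ.natural, ← ξ.natural] at e1 e2
    rw [isFibreProd_homSet_ext h ψ₁ ψ₂ ((hξ A').1 e1) ((hξ A'').1 e2)]
  · rintro ⟨⟨a', a''⟩, ha⟩
    obtain ⟨φ', rfl⟩ := (hξ A').2 a'
    obtain ⟨φ'', rfl⟩ := (hξ A'').2 a''
    have ha' : F.map f' (ξ.app A' φ') = F.map f'' (ξ.app A'' φ'') := ha
    rw [← ξ.natural, ← ξ.natural] at ha'
    obtain ⟨ψ, hψ1, hψ2⟩ := isFibreProd_lift h φ' φ'' ((hξ A).1 ha')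
    refine ⟨ξ.app B ψ, ?_⟩
    apply ArtFun.FibProd.ext
    · change F.map p' (ξ.app B ψ) = ξ.app A' φ'
      rw [← ξ.natural, hψ1]
    · change F.map p'' (ξ.app B ψ) = ξ.app A'' φ''
      rw [← ξ.natural, hψ2]

end Aux

/-- A functor F on Artinian local Λ-algebras with residue field k is prorepresentable if and only if (a)
F(k) is a point and F satisfies (RS): F(A₁ ×_A A₂) → F(A₁) ×_{F(A)} F(A₂) is bijective whenever A₂ →
A is surjective; (b) its tangent space is finite-dimensional; and (c) the map from morphisms k →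
k[ε] of the category (the Λ-derivations of k) to the tangent space, σ ↦ F(σ)(x₀), is injective.
Condition (c) is empty when k is separable over the image of Λ in k. -/
theorem result {Λ : Type u} {k : Type u} [CommRing Λ] [Field k] [Algebra Λ k]
    [IsNoetherianRing Λ] [Module.Finite Λ k]
    (F : ArtFun.Art Λ k ⥤ Type v) [ArtFun.TangentStr F] :
    ArtFun.IsProrepresentable F ↔
      ((ArtFun.H0 F ∧ (∀ ⦃B A A' A'' : ArtFun.Art Λ k⦄ (p' : B ⟶ A') (p'' : B ⟶ A'') (f' : A' ⟶ A) (f'' : A'' ⟶ A)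
        (h : ArtFun.Art.IsFibreProd p' p'' f' f''), Function.Surjective f'' → Function.Bijective (ArtFun.cmp F h))) ∧
        ArtFun.Hfin F ∧
        ∀ x₀ : F.obj (ArtFun.Art.base Λ k),
          Function.Injective (fun σ : ArtFun.Art.base Λ k ⟶ ArtFun.Art.dual Λ k => F.map σ x₀)) := by
  classical
  constructor
  · rintro ⟨P⟩
    have h0 : ArtFun.H0 F := h0_of_isUniversal P.family P.universal
    refine ⟨⟨h0, fun B A A' A'' p' p'' f' f'' h _ => rs_of_isUniversal P.family P.universal p' p'' f' f'' h⟩,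
      ?_, ?_⟩
    · have hull : ArtFun.HasHull F :=
        ⟨⟨P.ring, P.family, isVersal_of_isUniversal P.family P.universal, P.universal _⟩⟩
      exact (Groth.Agent.S12731.result F h0 hull).2.2
    · intro x₀ σ σ' hσ
      have hσ' : F.map σ x₀ = F.map σ' x₀ := hσ
      obtain ⟨r₀, rfl⟩ := (P.universal (base Λ k)).2 x₀
      rw [← P.family.natural, ← P.family.natural] at hσ'
      have h1 := (P.universal (dual Λ k)).1 hσ'
      apply ArtFun.Art.hom_ext
      apply AlgHom.ext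
      intro c
      obtain ⟨a, ha⟩ := P.ring.res_surjective c
      have h2 : (base Λ k).res (r₀.1 a) = P.ring.res a :=
        congrArg (fun t : P.ring.carrier →ₐ[Λ] k => t a) r₀.2
      have h3 : r₀.1 a = c := by rw [← ha]; exact h2
      have h4 := congrArg (fun t : ArtFun.HomSet P.ring.carrier P.ring.res (dual Λ k) => t.1 a) h1
      change σ (r₀.1 a) = σ' (r₀.1 a) at h4
      rw [h3] at h4
      exact h4
  · rintro ⟨⟨h0, hRS⟩, hfin, hc⟩
    have hS1 : ArtFun.S1 F := fun B A A' A'' p' p'' f' f'' h hs => (hRS p' p'' f' f'' h hs).2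
    have hHeps : ArtFun.Heps F := fun B A' p' p'' h =>
      hRS p' p'' _ _ h (dual Λ k).res_surjective
    obtain ⟨V⟩ := Groth.Agent.S12730.result F h0 hS1 hHeps hfin
    obtain ⟨R', g, hg, ρ, hρ, hρg, hinv, hmin⟩ :=
      MinRet.exists_minimal_retract h0 V.ring V.family V.versal
    have hmini : ArtFun.IsMiniversal (V.family.along ρ hρ) := by
      apply MinVT2.isMiniversal_of_isMinimalVersal_of_inj h0 hHeps _ hmin
      intro σ hσ
      exact hc _ hσ
    refine ⟨⟨R', V.family.along ρ hρ, fun A => ⟨?_, ?_⟩⟩⟩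
    · exact family_injective hRS _ hmini.2.1 A
    · exact versal_app_surjective h0 _ hmini.1 A

end Groth.Agent.S12734
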