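import Groth.Statements.S12735
import Groth.Agent.S12716
import Groth.Agent.S12720
import Groth.Agent.Lib.Helper65.CRingTangent
import Groth.Agent.Lib.Helper65.NoethEndo

set_option autoImplicit false
universe u v
open CategoryTheory
open ArtFun

namespace Groth.Agent.S12735

/-- Let U be a prorepresentable functor on Artinian local Λ-algebras with residue field k and φ : U → U
an endomorphism of functors which is bijective on the tangent space U(k[ε]). Then φ is an
isomorphism: every component is bijective. -/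
theorem result {Λ : Type u} {k : Type u} [CommRing Λ] [Field k] [Algebra Λ k]
    [IsNoetherianRing Λ] [Module.Finite Λ k]
    {U : ArtFun.Art Λ k ⥤ Type v} (hU : ArtFun.IsProrepresentable U)
    (φ : U ⟶ U) (hd : Function.Bijective (ArtFun.TangentSpace.map φ)) (A : ArtFun.Art Λ k) :
    Function.Bijective (φ.app A) := by
  classical
  open Groth.Agent.Lib.Helper65 in
  obtain ⟨⟨R, ξ, huniv⟩⟩ := hU
  have h0 : H0 U := h0_of_isUniversal ξ huniv
  have hvers : IsVersal ξ := isVersal_of_isUniversal ξ huniv
  obtain ⟨g, hg, hgη⟩ := Groth.Agent.S12720.result h0 R ξ hvers R (ξ.push φ).toFormalElt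
  have hfam : ∀ (A : Art Λ k) (ψ : HomSet R.carrier R.res A),
      ξ.app A ⟨ψ.1.comp g, by rw [← AlgHom.comp_assoc, ψ.2, hg]⟩ = φ.app A (ξ.app A ψ) :=
    fun A ψ => family_ext_of_toFormalElt R (ξ.along g hg) (ξ.push φ) hgη A ψ
  -- `g` is surjective
  letI : Algebra R.carrier k := R.res.toRingHom.toAlgebra
  haveI : IsScalarTower Λ R.carrier k := IsScalarTower.of_algebraMap_eq (fun r => (R.res.commutes r).symm)
  haveI := R.isAdicComplete
  have hgs : Function.Surjective g := by
    refine Groth.Agent.S12716.result R R.carrier R.res_surjective g ?_ ?_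
    · apply AlgHom.ext
      intro r
      exact congrArg (fun t : R.carrier →ₐ[Λ] k => t r) hg
    · intro D₁ D₂ hD
      let ψ₁ := homOfDer R.res (fun _ => rfl) D₁
      let ψ₂ := homOfDer R.res (fun _ => rfl) D₂
      have hcomp : ψ₁.1.comp g = ψ₂.1.comp g := by
        apply AlgHom.ext
        intro r
        apply TrivSqZeroExt.ext
        · change R.res (g r) = R.res (g r)
          rfl
        · exact hD r
      have h1 : φ.app _ (ξ.app _ ψ₁) = φ.app _ (ξ.app _ ψ₂) := by
        rw [← hfam, ← hfam]
        congr 1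
        exact Subtype.ext hcomp
      have h2 : ψ₁ = ψ₂ := (huniv _).1 (hd.1 h1)
      ext s
      have := congrArg (fun t : HomSet R.carrier R.res (Art.dual Λ k) => TrivSqZeroExt.snd (t.1 s : TrivSqZeroExt k k)) h2
      exact this
  have hgi : Function.Injective g :=
    ringHom_injective_of_surjective_endo (g : R.carrier →+* R.carrier) hgs
  constructor
  · intro x₁ x₂ hx
    obtain ⟨ψ₁, rfl⟩ := (huniv A).2 x₁
    obtain ⟨ψ₂, rfl⟩ := (huniv A).2 x₂
    rw [← hfam, ← hfam] at hx
    have h1 := (huniv A).1 hx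
    have h2 : ψ₁.1.comp g = ψ₂.1.comp g := congrArg Subtype.val h1
    congr 1
    apply Subtype.ext
    apply AlgHom.ext
    intro r
    obtain ⟨r', rfl⟩ := hgs r
    exact congrArg (fun t : R.carrier →ₐ[Λ] A => t r') h2
  · intro y
    obtain ⟨ψ, rfl⟩ := (huniv A).2 y
    let e : R.carrier ≃ₐ[Λ] R.carrier := AlgEquiv.ofBijective g ⟨hgi, hgs⟩
    have he : ∀ r, g (e.symm r) = r := fun r => e.apply_symm_apply r
    let ψ' : HomSet R.carrier R.res A := ⟨ψ.1.comp (e.symm : R.carrier →ₐ[Λ] R.carrier), by
      apply AlgHom.ext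
      intro r
      have h1 : A.res (ψ.1 (e.symm r)) = R.res (e.symm r) :=
        congrArg (fun t : R.carrier →ₐ[Λ] k => t (e.symm r)) ψ.2
      have h2 : R.res (g (e.symm r)) = R.res (e.symm r) :=
        congrArg (fun t : R.carrier →ₐ[Λ] k => t (e.symm r)) hg
      rw [he] at h2
      exact h1.trans h2.symm⟩
    refine ⟨ξ.app A ψ', ?_⟩
    rw [← hfam]
    congr 1
    apply Subtype.ext
    apply AlgHom.ext
    intro r
    change ψ.1 (e.symm (g r)) = ψ.1 r
    have : e.symm (g r) = r := e.symm_apply_apply r
    rw [this]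

end Groth.Agent.S12735
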