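import Groth.Statements.S12736

set_option autoImplicit false
universe u v
open CategoryTheory
open ArtFun

namespace Groth.Agent.S12736

theorem result {Λ : Type u} {k : Type u} [CommRing Λ] [Field k] [Algebra Λ k]
    [IsNoetherianRing Λ] [Module.Finite Λ k]
    {F G : ArtFun.Art Λ k ⥤ Type v} [ArtFun.TangentStr F] [ArtFun.TangentStr G]
    (hF0 : ArtFun.H0 F) (hF2 : ArtFun.Heps F) (hG0 : ArtFun.H0 G) (hG2 : ArtFun.Heps G) (φ : F ⟶ G) :
    ∃ f : ArtFun.TangentSpace F →ₗ[k] ArtFun.TangentSpace G, ⇑f = ArtFun.TangentSpace.map φ := by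
  have hsmulF : ∀ (c : k) (x : ArtFun.TangentSpace F),
      c • x = TangentSpace.mk (F.map (ArtFun.Art.scale c) x.val) :=
    fun c x => ArtFun.TangentStr.smul_eq c x
  have hsmulG : ∀ (c : k) (x : ArtFun.TangentSpace G),
      c • x = TangentSpace.mk (G.map (ArtFun.Art.scale c) x.val) :=
    fun c x => ArtFun.TangentStr.smul_eq c x
  have haddF : ∀ z : F.obj (ArtFun.Art.dual2 Λ k),
      TangentSpace.mk (F.map ArtFun.Art.pr₁ z) + TangentSpace.mk (F.map ArtFun.Art.pr₂ z)
        = TangentSpace.mk (F.map ArtFun.Art.plus z) :=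
    fun z => ArtFun.TangentStr.add_eq z
  have haddG : ∀ z : G.obj (ArtFun.Art.dual2 Λ k),
      TangentSpace.mk (G.map ArtFun.Art.pr₁ z) + TangentSpace.mk (G.map ArtFun.Art.pr₂ z)
        = TangentSpace.mk (G.map ArtFun.Art.plus z) :=
    fun z => ArtFun.TangentStr.add_eq z
  refine ⟨{ toFun := ArtFun.TangentSpace.map φ, map_add' := ?_, map_smul' := ?_ }, rfl⟩
  · intro x y
    -- find z in F(dual2) with projections x and y
    have hxy : F.map (ArtFun.Art.toBase (ArtFun.Art.dual Λ k)) x.val =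
        F.map (ArtFun.Art.toBase (ArtFun.Art.dual Λ k)) y.val := hF0.2.elim _ _
    obtain ⟨z, hz⟩ := (hF2 _ _ ArtFun.Art.isFibreProd_dual2).2 ⟨(x.val, y.val), hxy⟩
    have hz1 : F.map ArtFun.Art.pr₁ z = x.val := congrArg (fun t => t.1.1) hz
    have hz2 : F.map ArtFun.Art.pr₂ z = y.val := congrArg (fun t => t.1.2) hz
    have e1 : x + y = TangentSpace.mk (F.map ArtFun.Art.plus z) := by
      rw [← haddF z, hz1, hz2]; rfl
    rw [e1]
    have e2 : TangentSpace.map φ (TangentSpace.mk (F.map ArtFun.Art.plus z)) =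
        TangentSpace.mk (G.map ArtFun.Art.plus (φ.app _ z)) :=
      NatTrans.naturality_apply φ ArtFun.Art.plus z
    rw [e2, ← haddG (φ.app _ z)]
    have e3 : G.map ArtFun.Art.pr₁ (φ.app _ z) = φ.app _ x.val := by
      rw [← hz1]; exact (NatTrans.naturality_apply φ ArtFun.Art.pr₁ z).symm
    have e4 : G.map ArtFun.Art.pr₂ (φ.app _ z) = φ.app _ y.val := by
      rw [← hz2]; exact (NatTrans.naturality_apply φ ArtFun.Art.pr₂ z).symm
    rw [e3, e4]; rfl
  · intro c x
    simp only [RingHom.id_apply]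
    rw [hsmulF c x, hsmulG c]
    exact NatTrans.naturality_apply φ (ArtFun.Art.scale c) x.val

end Groth.Agent.S12736
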