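import Groth.Statements.S12740
-- import your own Groth.Agent.* helpers here
import Groth.Agent.Lib.Helper58.CRingCoprod

set_option autoImplicit false
universe u v
open CategoryTheory
open ArtFun ArtFun.CRing

namespace Groth.Agent.S12740

/-- The category of complete local Noetherian Λ-algebras with residue field k (Λ Noetherian, Λ → k
finite; morphisms the Λ-algebra maps compatible with the augmentations) admits pushouts: for R → S₁
and R → S₂ there is an object P with morphisms from S₁ and S₂ agreeing on R, through which every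
compatible pair S₁ → T ← S₂ agreeing on R factors by a unique morphism P → T. -/
theorem result {Λ : Type u} {k : Type u} [CommRing Λ] [Field k] [Algebra Λ k]
    [IsNoetherianRing Λ] [Module.Finite Λ k]
    (R S₁ S₂ : ArtFun.CRing Λ k)
    (f₁ : R.carrier →ₐ[Λ] S₁.carrier) (hf₁ : S₁.res.comp f₁ = R.res)
    (f₂ : R.carrier →ₐ[Λ] S₂.carrier) (hf₂ : S₂.res.comp f₂ = R.res) :
    ∃ (P : ArtFun.CRing Λ k) (i₁ : S₁.carrier →ₐ[Λ] P.carrier) (i₂ : S₂.carrier →ₐ[Λ] P.carrier),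
      P.res.comp i₁ = S₁.res ∧ P.res.comp i₂ = S₂.res ∧ i₁.comp f₁ = i₂.comp f₂ ∧
      ∀ (T : ArtFun.CRing Λ k) (g₁ : S₁.carrier →ₐ[Λ] T.carrier) (g₂ : S₂.carrier →ₐ[Λ] T.carrier),
        T.res.comp g₁ = S₁.res → T.res.comp g₂ = S₂.res → g₁.comp f₁ = g₂.comp f₂ →
          ∃! h : P.carrier →ₐ[Λ] T.carrier, T.res.comp h = P.res ∧ h.comp i₁ = g₁ ∧ h.comp i₂ = g₂ := by
  open Groth.Agent.Lib.Helper58 in
  obtain ⟨C, j₁, j₂, hj₁, hj₂, huniv⟩ := Coprod.exists_coproduct S₁ S₂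
  have hj₁' : ∀ s, C.res (j₁ s) = S₁.res s := fun s =>
    congrArg (fun u : S₁.carrier →ₐ[Λ] k => u s) hj₁
  have hj₂' : ∀ s, C.res (j₂ s) = S₂.res s := fun s =>
    congrArg (fun u : S₂.carrier →ₐ[Λ] k => u s) hj₂
  have hf₁' : ∀ r, S₁.res (f₁ r) = R.res r := fun r =>
    congrArg (fun u : R.carrier →ₐ[Λ] k => u r) hf₁
  have hf₂' : ∀ r, S₂.res (f₂ r) = R.res r := fun r =>
    congrArg (fun u : R.carrier →ₐ[Λ] k => u r) hf₂
  let K : Ideal C.carrier := Ideal.span (Set.range (fun r : R.carrier => j₁ (f₁ r) - j₂ (f₂ r)))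
  have hK : K ≤ IsLocalRing.maximalIdeal C.carrier := by
    rw [Ideal.span_le]
    rintro _ ⟨r, rfl⟩
    change j₁ (f₁ r) - j₂ (f₂ r) ∈ IsLocalRing.maximalIdeal C.carrier
    rw [ArtFun.CRing.mem_maximalIdeal_iff, map_sub, hj₁', hj₂', hf₁', hf₂', sub_self]
  let mk := CRQ.quotMk C K hK
  have hmk : (CRQ.quot C K hK).res.comp mk = C.res := CRQ.quotMk_res C K hK
  refine ⟨CRQ.quot C K hK, mk.comp j₁, mk.comp j₂, ?_, ?_, ?_, ?_⟩
  · rw [← AlgHom.comp_assoc, hmk, hj₁]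
  · rw [← AlgHom.comp_assoc, hmk, hj₂]
  · apply AlgHom.ext
    intro r
    change mk (j₁ (f₁ r)) = mk (j₂ (f₂ r))
    rw [← sub_eq_zero, ← map_sub, CRQ.quotMk_eq_zero_iff]
    exact Ideal.subset_span ⟨r, rfl⟩
  · intro T g₁ g₂ hg₁ hg₂ hg
    obtain ⟨h₀, ⟨hh₀res, hh₀1, hh₀2⟩, hh₀u⟩ := huniv T g₁ g₂ hg₁ hg₂
    have hkill : ∀ a ∈ K, h₀ a = 0 := by
      have : K ≤ RingHom.ker (h₀ : C.carrier →+* T.carrier) := by
        rw [Ideal.span_le]
        rintro _ ⟨r, rfl⟩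
        rw [SetLike.mem_coe, RingHom.mem_ker]
        change h₀ (j₁ (f₁ r) - j₂ (f₂ r)) = 0
        rw [map_sub, sub_eq_zero]
        have e1 : h₀ (j₁ (f₁ r)) = g₁ (f₁ r) := AlgHom.congr_fun hh₀1 (f₁ r)
        have e2 : h₀ (j₂ (f₂ r)) = g₂ (f₂ r) := AlgHom.congr_fun hh₀2 (f₂ r)
        rw [e1, e2]
        exact AlgHom.congr_fun hg r
      exact fun a ha => this ha
    obtain ⟨h, hhres, hhmk⟩ := CRQ.exists_lift C K hK T h₀ hh₀res hkill
    refine ⟨h, ⟨hhres, ?_, ?_⟩, ?_⟩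
    · rw [← AlgHom.comp_assoc, hhmk, hh₀1]
    · rw [← AlgHom.comp_assoc, hhmk, hh₀2]
    · rintro h' ⟨hh'res, hh'1, hh'2⟩
      apply CRQ.hom_ext C K hK
      have e : h'.comp (CRQ.quotMk C K hK) = h₀ := by
        apply hh₀u
        refine ⟨?_, ?_, ?_⟩
        · rw [← AlgHom.comp_assoc, hh'res]; exact hmk
        · rw [AlgHom.comp_assoc]; exact hh'1
        · rw [AlgHom.comp_assoc]; exact hh'2
      rw [e, hhmk]

end Groth.Agent.S12740
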