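import Groth.Statements.S12742
import Groth.Agent.Lib.Helper65.ArtTorsor
import Groth.Agent.S12717

set_option autoImplicit false
universe u v
open CategoryTheory
open ArtFun

namespace Groth.Agent.S12742

open Groth.Agent.Lib.Helper65 ArtFun.Art

theorem result {Λ : Type u} {k : Type u} [CommRing Λ] [Field k] [Algebra Λ k]
    [IsNoetherianRing Λ] [Module.Finite Λ k]
    {F G : ArtFun.Art Λ k ⥤ Type v}
    (hF0 : ArtFun.H0 F) (hF : (∀ ⦃B A A' A'' : ArtFun.Art Λ k⦄ (p' : B ⟶ A') (p'' : B ⟶ A'') (f' : A' ⟶ A) (f'' : A'' ⟶ A)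
        (h : ArtFun.Art.IsFibreProd p' p'' f' f''), Function.Surjective f'' → Function.Bijective (ArtFun.cmp F h)))
    (hG0 : ArtFun.H0 G) (hG : (∀ ⦃B A A' A'' : ArtFun.Art Λ k⦄ (p' : B ⟶ A') (p'' : B ⟶ A'') (f' : A' ⟶ A) (f'' : A'' ⟶ A)
        (h : ArtFun.Art.IsFibreProd p' p'' f' f''), Function.Surjective f'' → Function.Bijective (ArtFun.cmp G h)))
    (f : F ⟶ G) :
    ArtFun.IsSmooth f ↔
      (Function.Surjective (ArtFun.TangentSpace.map f) ∧
        ∀ ⦃A' A : ArtFun.Art Λ k⦄ (μ : A' ⟶ A), ArtFun.Art.IsSmallExt μ → ∀ x : F.obj A,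
          (∃ y' : G.obj A', G.map μ y' = f.app A x) → ∃ x' : F.obj A', F.map μ x' = x) := by
  constructor
  · intro hs
    refine ⟨?_, ?_⟩
    · intro g
      obtain ⟨x0⟩ := hF0.1
      obtain ⟨z, hz⟩ := hs (toBase (dual Λ k)) (dual Λ k).res_surjective
        ⟨(x0, g), hG0.2.elim _ _⟩
      exact ⟨z, congrArg (fun t => t.1.2) hz⟩
    · intro A' A μ hμ x ⟨y', hy'⟩
      obtain ⟨z, hz⟩ := hs μ hμ.1 ⟨(x, y'), hy'.symm⟩
      exact ⟨z, congrArg (fun t => t.1.1) hz⟩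
  · rintro ⟨hd, hl⟩
    apply Groth.Agent.S12717.result
    intro B A μ hμ
    rintro ⟨⟨x, y'⟩, hxy⟩
    have hxy' : f.app A x = G.map μ y' := hxy
    obtain ⟨P, q₁, q₂, τ, h₁, h₂⟩ := exists_torsor_square μ hμ
    obtain ⟨x', hx'⟩ := hl μ hμ x ⟨y', hxy'.symm⟩
    have e0 : G.map μ (f.app B x') = G.map μ y' := by
      rw [← NatTrans.naturality_apply f μ x', hx', hxy']
    obtain ⟨wG, hwG⟩ := (hG q₁ q₂ μ μ h₁ hμ.1).2 ⟨(f.app B x', y'), e0⟩
    have hwG1 : G.map q₁ wG = f.app B x' := congrArg (fun t => t.1.1) hwG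
    have hwG2 : G.map q₂ wG = y' := congrArg (fun t => t.1.2) hwG
    obtain ⟨η, hη⟩ := hd (G.map τ wG)
    have hη' : f.app (dual Λ k) η = G.map τ wG := hη
    obtain ⟨wF, hwF⟩ := (hF q₁ τ (toBase B) (toBase (dual Λ k)) h₂ (dual Λ k).res_surjective).2
      ⟨(x', η), hF0.2.elim _ _⟩
    have hwF1 : F.map q₁ wF = x' := congrArg (fun t => t.1.1) hwF
    have hwF2 : F.map τ wF = η := congrArg (fun t => t.1.2) hwF
    have hfw : f.app P wF = wG := by
      apply (hG q₁ τ (toBase B) (toBase (dual Λ k)) h₂ (dual Λ k).res_surjective).1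
      apply FibProd.ext
      · change G.map q₁ (f.app P wF) = G.map q₁ wG
        rw [← NatTrans.naturality_apply f q₁ wF, hwF1, hwG1]
      · change G.map τ (f.app P wF) = G.map τ wG
        rw [← NatTrans.naturality_apply f τ wF, hwF2, hη']
    refine ⟨F.map q₂ wF, Subtype.ext (Prod.ext ?_ ?_)⟩
    · change F.map μ (F.map q₂ wF) = x
      rw [← FunctorToTypes.map_comp_apply, ← h₁.w, FunctorToTypes.map_comp_apply, hwF1, hx']
    · change f.app B (F.map q₂ wF) = y'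
      rw [NatTrans.naturality_apply f q₂ wF, hfw, hwG2]

end Groth.Agent.S12742
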