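import Groth.Statements.S12743
import Groth.Agent.S12742

set_option autoImplicit false
universe u v
open CategoryTheory
open ArtFun

namespace Groth.Agent.S12743

theorem result {Λ : Type u} {k : Type u} [CommRing Λ] [Field k] [Algebra Λ k]
    [IsNoetherianRing Λ] [Module.Finite Λ k]
    {F G H : ArtFun.Art Λ k ⥤ Type v}
    (hF0 : ArtFun.H0 F) (hF : (∀ ⦃B A A' A'' : ArtFun.Art Λ k⦄ (p' : B ⟶ A') (p'' : B ⟶ A'') (f' : A' ⟶ A) (f'' : A'' ⟶ A)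
        (h : ArtFun.Art.IsFibreProd p' p'' f' f''), Function.Surjective f'' → Function.Bijective (ArtFun.cmp F h)))
    (hG0 : ArtFun.H0 G) (hG : (∀ ⦃B A A' A'' : ArtFun.Art Λ k⦄ (p' : B ⟶ A') (p'' : B ⟶ A'') (f' : A' ⟶ A) (f'' : A'' ⟶ A)
        (h : ArtFun.Art.IsFibreProd p' p'' f' f''), Function.Surjective f'' → Function.Bijective (ArtFun.cmp G h)))
    (φ : F ⟶ G) (ψ : G ⟶ H) (hd : Function.Surjective (ArtFun.TangentSpace.map φ))
    (hs : ArtFun.IsSmooth (φ ≫ ψ)) : ArtFun.IsSmooth φ := by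
  rw [Groth.Agent.S12742.result hF0 hF hG0 hG φ]
  refine ⟨hd, ?_⟩
  intro A' A μ hμ x ⟨y', hy'⟩
  have e : (φ ≫ ψ).app A x = H.map μ (ψ.app A' y') := by
    rw [← NatTrans.naturality_apply ψ μ y', hy']
    rfl
  obtain ⟨z, hz⟩ := hs μ hμ.1 ⟨(x, ψ.app A' y'), e⟩
  exact ⟨z, congrArg (fun t => t.1.1) hz⟩

end Groth.Agent.S12743
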