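import Groth.Statements.S12744
import Groth.Agent.S12719

set_option autoImplicit false
universe u v
open CategoryTheory
open ArtFun

namespace Groth.Agent.S12744

theorem truncMap_surjective {Λ : Type u} {k : Type u} [CommRing Λ] [Field k] [Algebra Λ k]
    (R : ArtFun.CRing Λ k) (n : ℕ) : Function.Surjective (R.truncMap n) := by
  intro y
  obtain ⟨a, rfl⟩ := Ideal.Quotient.mk_surjective y
  exact ⟨Ideal.Quotient.mk _ a, rfl⟩

theorem result {Λ : Type u} {k : Type u} [CommRing Λ] [Field k] [Algebra Λ k]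
    [IsNoetherianRing Λ] [Module.Finite Λ k]
    {F G : ArtFun.Art Λ k ⥤ Type v} (η : F ⟶ G) (hη : ArtFun.IsSmooth η)
    (h0 : Function.Surjective (η.app (ArtFun.Art.base Λ k))) (R : ArtFun.CRing Λ k) :
    Function.Surjective (fun u : ArtFun.FormalElt F R => u.map η) := by
  intro v
  have hbase : ∃ u₀ : F.obj (R.trunc 0), η.app _ u₀ = v.elt 0 :=
    Groth.Agent.S12719.result η hη h0 (R.trunc 0) (v.elt 0)
  have hstep : ∀ (n : ℕ) (u : {u : F.obj (R.trunc n) // η.app _ u = v.elt n}),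
      ∃ u' : {u' : F.obj (R.trunc (n + 1)) // η.app _ u' = v.elt (n + 1)},
        F.map (R.truncMap n) u'.1 = u.1 := by
    intro n u
    have e : η.app _ u.1 = G.map (R.truncMap n) (v.elt (n + 1)) := by
      rw [u.2, v.compat]
    obtain ⟨z, hz⟩ := hη (R.truncMap n) (truncMap_surjective R n) ⟨(u.1, v.elt (n + 1)), e⟩
    exact ⟨⟨z, congrArg (fun t => t.1.2) hz⟩, congrArg (fun t => t.1.1) hz⟩
  let s : ∀ n : ℕ, {u : F.obj (R.trunc n) // η.app _ u = v.elt n} :=
    fun n => Nat.rec ⟨hbase.choose, hbase.choose_spec⟩ (fun n u => (hstep n u).choose) n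
  have hs : ∀ n, F.map (R.truncMap n) (s (n + 1)).1 = (s n).1 := fun n => (hstep n (s n)).choose_spec
  refine ⟨⟨fun n => (s n).1, hs⟩, ?_⟩
  apply FormalElt.ext'
  intro n
  exact (s n).2

end Groth.Agent.S12744
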