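import Groth.Statements.S12745
import Groth.Agent.Lib.Helper65.ArtFibre

set_option autoImplicit false
universe u v
open CategoryTheory
open ArtFun

namespace Groth.Agent.S12745

open Groth.Agent.Lib.Helper65

theorem result {Λ : Type u} {k : Type u} [CommRing Λ] [Field k] [Algebra Λ k]
    [IsNoetherianRing Λ] [Module.Finite Λ k]
    {F : ArtFun.Art Λ k ⥤ Type v} (h2 : ArtFun.Heps F)
    {B A : ArtFun.Art Λ k} (p' : B ⟶ A) (p'' : B ⟶ ArtFun.Art.dual Λ k)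
    (h : ArtFun.Art.IsFibreProd p' p'' (ArtFun.Art.toBase A) (ArtFun.Art.toBase (ArtFun.Art.dual Λ k)))
    (y : F.obj B) :
    (∃ σ : A ⟶ B, σ ≫ p' = 𝟙 A ∧ F.map σ (F.map p' y) = y) ↔
      ∃ τ : A ⟶ ArtFun.Art.dual Λ k, F.map τ (F.map p' y) = F.map p'' y := by
  constructor
  · rintro ⟨σ, hσ, hy⟩
    refine ⟨σ ≫ p'', ?_⟩
    rw [FunctorToTypes.map_comp_apply, hy]
  · rintro ⟨τ, hτ⟩
    have e : 𝟙 A ≫ ArtFun.Art.toBase A = τ ≫ ArtFun.Art.toBase (ArtFun.Art.dual Λ k) := by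
      rw [ArtFun.Art.eq_toBase (𝟙 A ≫ ArtFun.Art.toBase A), ArtFun.Art.eq_toBase (τ ≫ _)]
    obtain ⟨σ, hσ1, hσ2⟩ := isFibreProd_lift_hom h (𝟙 A) τ e
    refine ⟨σ, hσ1, ?_⟩
    apply (h2 p' p'' h).1
    apply FibProd.ext
    · change F.map p' (F.map σ (F.map p' y)) = F.map p' y
      rw [← FunctorToTypes.map_comp_apply, hσ1, FunctorToTypes.map_id_apply]
    · change F.map p'' (F.map σ (F.map p' y)) = F.map p'' y
      rw [← FunctorToTypes.map_comp_apply, hσ2, hτ]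

end Groth.Agent.S12745
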