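import Groth.Statements.S12746
import Mathlib.CategoryTheory.Limits.Types.Pullbacks
import Mathlib.CategoryTheory.Limits.FunctorCategory.Basic
import Mathlib.CategoryTheory.Limits.Shapes.Pullback.IsPullback.Basic

set_option autoImplicit false
universe u v
open CategoryTheory
open ArtFun

namespace Groth.Agent.S12746

open CategoryTheory.Limits in
/-- The pullback square of functors evaluated at an object is a pullback square of types. -/
theorem isPullback_app {Λ : Type u} {k : Type u} [CommRing Λ] [Field k] [Algebra Λ k]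
    {F G H : ArtFun.Art Λ k ⥤ Type v} (f : H ⟶ F) (g : G ⟶ F) (A : ArtFun.Art Λ k) :
    IsPullback ((pullback.fst f g).app A) ((pullback.snd f g).app A) (f.app A) (g.app A) :=
  (IsPullback.of_hasPullback f g).map ((evaluation _ _).obj A)

theorem result {Λ : Type u} {k : Type u} [CommRing Λ] [Field k] [Algebra Λ k]
    [IsNoetherianRing Λ] [Module.Finite Λ k]
    {F G H : ArtFun.Art Λ k ⥤ Type v} (f : H ⟶ F) (g : G ⟶ F)
    (hF : (∀ ⦃B A A' A'' : ArtFun.Art Λ k⦄ (p' : B ⟶ A') (p'' : B ⟶ A'') (f' : A' ⟶ A) (f'' : A'' ⟶ A)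
        (h : ArtFun.Art.IsFibreProd p' p'' f' f''), Function.Surjective f'' → Function.Bijective (ArtFun.cmp F h))) (hG : (∀ ⦃B A A' A'' : ArtFun.Art Λ k⦄ (p' : B ⟶ A') (p'' : B ⟶ A'') (f' : A' ⟶ A) (f'' : A'' ⟶ A)
        (h : ArtFun.Art.IsFibreProd p' p'' f' f''), Function.Surjective f'' → Function.Bijective (ArtFun.cmp G h))) (hH : (∀ ⦃B A A' A'' : ArtFun.Art Λ k⦄ (p' : B ⟶ A') (p'' : B ⟶ A'') (f' : A' ⟶ A) (f'' : A'' ⟶ A)
        (h : ArtFun.Art.IsFibreProd p' p'' f' f''), Function.Surjective f'' → Function.Bijective (ArtFun.cmp H h))) :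
    (∀ ⦃B A A' A'' : ArtFun.Art Λ k⦄ (p' : B ⟶ A') (p'' : B ⟶ A'') (f' : A' ⟶ A) (f'' : A'' ⟶ A)
        (h : ArtFun.Art.IsFibreProd p' p'' f' f''), Function.Surjective f'' → Function.Bijective (ArtFun.cmp (CategoryTheory.Limits.pullback f g) h)) := by
  intro B A A' A'' p' p'' f' f'' h hsurj
  set P := CategoryTheory.Limits.pullback f g with hP
  set π₁ := CategoryTheory.Limits.pullback.fst f g with hπ₁
  set π₂ := CategoryTheory.Limits.pullback.snd f g with hπ₂
  have nat₁ : ∀ {X Y : ArtFun.Art Λ k} (m : X ⟶ Y) (z : P.obj X),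
      π₁.app Y (P.map m z) = H.map m (π₁.app X z) := fun m z => NatTrans.naturality_apply π₁ m z
  have nat₂ : ∀ {X Y : ArtFun.Art Λ k} (m : X ⟶ Y) (z : P.obj X),
      π₂.app Y (P.map m z) = G.map m (π₂.app X z) := fun m z => NatTrans.naturality_apply π₂ m z
  have natf : ∀ {X Y : ArtFun.Art Λ k} (m : X ⟶ Y) (z : H.obj X),
      f.app Y (H.map m z) = F.map m (f.app X z) := fun m z => NatTrans.naturality_apply f m z
  have natg : ∀ {X Y : ArtFun.Art Λ k} (m : X ⟶ Y) (z : G.obj X),
      g.app Y (G.map m z) = F.map m (g.app X z) := fun m z => NatTrans.naturality_apply g m z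
  have sq : ∀ (X : ArtFun.Art Λ k) (z : P.obj X), f.app X (π₁.app X z) = g.app X (π₂.app X z) :=
    fun X z => ConcreteCategory.congr_hom ((isPullback_app f g X).w) z
  constructor
  · intro z w hzw
    have e1 : P.map p' z = P.map p' w := congrArg (fun t => t.1.1) hzw
    have e2 : P.map p'' z = P.map p'' w := congrArg (fun t => t.1.2) hzw
    apply CategoryTheory.Limits.Types.ext_of_isPullback (isPullback_app f g B)
    · apply (hH p' p'' f' f'' h hsurj).1
      apply FibProd.ext
      · change H.map p' (π₁.app B z) = H.map p' (π₁.app B w)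
        rw [← nat₁, ← nat₁, e1]
      · change H.map p'' (π₁.app B z) = H.map p'' (π₁.app B w)
        rw [← nat₁, ← nat₁, e2]
    · apply (hG p' p'' f' f'' h hsurj).1
      apply FibProd.ext
      · change G.map p' (π₂.app B z) = G.map p' (π₂.app B w)
        rw [← nat₂, ← nat₂, e1]
      · change G.map p'' (π₂.app B z) = G.map p'' (π₂.app B w)
        rw [← nat₂, ← nat₂, e2]
  · rintro ⟨⟨x', x''⟩, hx⟩
    have hx' : P.map f' x' = P.map f'' x'' := hx
    obtain ⟨hB, hhB⟩ := (hH p' p'' f' f'' h hsurj).2 ⟨(π₁.app A' x', π₁.app A'' x''), by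
      change H.map f' (π₁.app A' x') = H.map f'' (π₁.app A'' x'')
      rw [← nat₁, ← nat₁, hx']⟩
    have hhB1 : H.map p' hB = π₁.app A' x' := congrArg (fun t => t.1.1) hhB
    have hhB2 : H.map p'' hB = π₁.app A'' x'' := congrArg (fun t => t.1.2) hhB
    obtain ⟨gB, hgB⟩ := (hG p' p'' f' f'' h hsurj).2 ⟨(π₂.app A' x', π₂.app A'' x''), by
      change G.map f' (π₂.app A' x') = G.map f'' (π₂.app A'' x'')
      rw [← nat₂, ← nat₂, hx']⟩
    have hgB1 : G.map p' gB = π₂.app A' x' := congrArg (fun t => t.1.1) hgB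
    have hgB2 : G.map p'' gB = π₂.app A'' x'' := congrArg (fun t => t.1.2) hgB
    have hcompat : f.app B hB = g.app B gB := by
      apply (hF p' p'' f' f'' h hsurj).1
      apply FibProd.ext
      · change F.map p' (f.app B hB) = F.map p' (g.app B gB)
        rw [← natf, ← natg, hhB1, hgB1, sq]
      · change F.map p'' (f.app B hB) = F.map p'' (g.app B gB)
        rw [← natf, ← natg, hhB2, hgB2, sq]
    obtain ⟨z, hz1, hz2⟩ := CategoryTheory.Limits.Types.exists_of_isPullback (isPullback_app f g B) hB gB hcompat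
    refine ⟨z, Subtype.ext (Prod.ext ?_ ?_)⟩
    · change P.map p' z = x'
      apply CategoryTheory.Limits.Types.ext_of_isPullback (isPullback_app f g A')
      · rw [nat₁]
        change H.map p' (π₁.app B z) = _
        rw [show π₁.app B z = hB from hz1, hhB1]
      · rw [nat₂]
        change G.map p' (π₂.app B z) = _
        rw [show π₂.app B z = gB from hz2, hgB1]
    · change P.map p'' z = x''
      apply CategoryTheory.Limits.Types.ext_of_isPullback (isPullback_app f g A'')
      · rw [nat₁]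
        change H.map p'' (π₁.app B z) = _
        rw [show π₁.app B z = hB from hz1, hhB2]
      · rw [nat₂]
        change G.map p'' (π₂.app B z) = _
        rw [show π₂.app B z = gB from hz2, hgB2]

end Groth.Agent.S12746
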