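import Groth.Statements.S12747
import Groth.Agent.Lib.Helper65.ArtTorsor
import Groth.Agent.S12717
import Mathlib.CategoryTheory.Limits.Types.Pullbacks
import Mathlib.CategoryTheory.Limits.FunctorCategory.Basic
import Mathlib.CategoryTheory.Limits.Shapes.Pullback.IsPullback.Basic

set_option autoImplicit false
universe u v
open CategoryTheory
open ArtFun

namespace Groth.Agent.S12747

open Groth.Agent.Lib.Helper65 ArtFun.Art

open CategoryTheory.Limits in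
/-- The pullback square of functors evaluated at an object is a pullback square of types. -/
theorem isPullback_app' {Λ : Type u} {k : Type u} [CommRing Λ] [Field k] [Algebra Λ k]
    {F G H : ArtFun.Art Λ k ⥤ Type v} (f : H ⟶ F) (g : G ⟶ F) (A : ArtFun.Art Λ k) :
    IsPullback ((pullback.fst f g).app A) ((pullback.snd f g).app A) (f.app A) (g.app A) :=
  (IsPullback.of_hasPullback f g).map ((evaluation _ _).obj A)

theorem aux {Λ : Type u} {k : Type u} [CommRing Λ] [Field k] [Algebra Λ k]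
    [IsNoetherianRing Λ] [Module.Finite Λ k]
    {F G H₁ H₂ P₁ P₂ : ArtFun.Art Λ k ⥤ Type v} (p₁ : H₁ ⟶ G) (p₂ : H₂ ⟶ G) (q : G ⟶ F)
    (hF : (∀ ⦃B A A' A'' : ArtFun.Art Λ k⦄ (p' : B ⟶ A') (p'' : B ⟶ A'') (f' : A' ⟶ A) (f'' : A'' ⟶ A)
        (h : ArtFun.Art.IsFibreProd p' p'' f' f''), Function.Surjective f'' → Function.Bijective (ArtFun.cmp F h)))
    (hG : (∀ ⦃B A A' A'' : ArtFun.Art Λ k⦄ (p' : B ⟶ A') (p'' : B ⟶ A'') (f' : A' ⟶ A) (f'' : A'' ⟶ A)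
        (h : ArtFun.Art.IsFibreProd p' p'' f' f''), Function.Surjective f'' → Function.Bijective (ArtFun.cmp G h)))
    (hq : Function.Injective (ArtFun.TangentSpace.map q))
    (π₁ : P₁ ⟶ H₁) (π₂ : P₁ ⟶ H₂) (ρ₁ : P₂ ⟶ H₁) (ρ₂ : P₂ ⟶ H₂) (Φ : P₁ ⟶ P₂)
    (hΦ1 : Φ ≫ ρ₁ = π₁) (hΦ2 : Φ ≫ ρ₂ = π₂)
    (pb₁ : ∀ X, IsPullback (π₁.app X) (π₂.app X) (p₁.app X) (p₂.app X))
    (pb₂ : ∀ X, IsPullback (ρ₁.app X) (ρ₂.app X) ((p₁ ≫ q).app X) ((p₂ ≫ q).app X)) :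
    ArtFun.IsSmooth Φ := by
  apply Groth.Agent.S12717.result
  intro B A μ hμ
  have hΦ1' : ∀ (X : Art Λ k) (z : P₁.obj X), ρ₁.app X (Φ.app X z) = π₁.app X z := by
    intro X z
    have := congrArg (fun t : P₁ ⟶ H₁ => t.app X z) hΦ1
    exact this
  have hΦ2' : ∀ (X : Art Λ k) (z : P₁.obj X), ρ₂.app X (Φ.app X z) = π₂.app X z := by
    intro X z
    have := congrArg (fun t : P₁ ⟶ H₂ => t.app X z) hΦ2
    exact this
  have sq₁ : ∀ (X : Art Λ k) (z : P₁.obj X), p₁.app X (π₁.app X z) = p₂.app X (π₂.app X z) :=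
    fun X z => ConcreteCategory.congr_hom ((pb₁ X).w) z
  have sq₂ : ∀ (X : Art Λ k) (z : P₂.obj X),
      q.app X (p₁.app X (ρ₁.app X z)) = q.app X (p₂.app X (ρ₂.app X z)) :=
    fun X z => ConcreteCategory.congr_hom ((pb₂ X).w) z
  rintro ⟨⟨x, y'⟩, hxy⟩
  have hxy' : Φ.app A x = P₂.map μ y' := hxy
  -- the two elements of G(B)
  have hg1 : G.map μ (p₁.app B (ρ₁.app B y')) = p₁.app A (π₁.app A x) := by
    rw [← NatTrans.naturality_apply p₁ μ, ← NatTrans.naturality_apply ρ₁ μ, ← hxy', hΦ1']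
  have hg2 : G.map μ (p₂.app B (ρ₂.app B y')) = p₂.app A (π₂.app A x) := by
    rw [← NatTrans.naturality_apply p₂ μ, ← NatTrans.naturality_apply ρ₂ μ, ← hxy', hΦ2']
  have hgg : p₁.app B (ρ₁.app B y') = p₂.app B (ρ₂.app B y') := by
    apply torsor_injective hG hF q hq μ hμ
    · rw [hg1, hg2, sq₁]
    · exact sq₂ B y'
  obtain ⟨z, hz1, hz2⟩ := CategoryTheory.Limits.Types.exists_of_isPullback (pb₁ B)
    (ρ₁.app B y') (ρ₂.app B y') hgg
  have hz1' : π₁.app B z = ρ₁.app B y' := hz1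
  have hz2' : π₂.app B z = ρ₂.app B y' := hz2
  refine ⟨z, Subtype.ext (Prod.ext ?_ ?_)⟩
  · change P₁.map μ z = x
    apply CategoryTheory.Limits.Types.ext_of_isPullback (pb₁ A)
    · change π₁.app A (P₁.map μ z) = π₁.app A x
      rw [NatTrans.naturality_apply π₁ μ, hz1', ← NatTrans.naturality_apply ρ₁ μ, ← hxy', hΦ1']
    · change π₂.app A (P₁.map μ z) = π₂.app A x
      rw [NatTrans.naturality_apply π₂ μ, hz2', ← NatTrans.naturality_apply ρ₂ μ, ← hxy', hΦ2']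
  · change Φ.app B z = y'
    apply CategoryTheory.Limits.Types.ext_of_isPullback (pb₂ B)
    · change ρ₁.app B (Φ.app B z) = ρ₁.app B y'
      rw [hΦ1', hz1']
    · change ρ₂.app B (Φ.app B z) = ρ₂.app B y'
      rw [hΦ2', hz2']

theorem result {Λ : Type u} {k : Type u} [CommRing Λ] [Field k] [Algebra Λ k]
    [IsNoetherianRing Λ] [Module.Finite Λ k]
    {F G H₁ H₂ : ArtFun.Art Λ k ⥤ Type v} (p₁ : H₁ ⟶ G) (p₂ : H₂ ⟶ G) (q : G ⟶ F)
    (hF0 : ArtFun.H0 F) (hF : (∀ ⦃B A A' A'' : ArtFun.Art Λ k⦄ (p' : B ⟶ A') (p'' : B ⟶ A'') (f' : A' ⟶ A) (f'' : A'' ⟶ A)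
        (h : ArtFun.Art.IsFibreProd p' p'' f' f''), Function.Surjective f'' → Function.Bijective (ArtFun.cmp F h)))
    (hG0 : ArtFun.H0 G) (hG : (∀ ⦃B A A' A'' : ArtFun.Art Λ k⦄ (p' : B ⟶ A') (p'' : B ⟶ A'') (f' : A' ⟶ A) (f'' : A'' ⟶ A)
        (h : ArtFun.Art.IsFibreProd p' p'' f' f''), Function.Surjective f'' → Function.Bijective (ArtFun.cmp G h)))
    (hq : Function.Injective (ArtFun.TangentSpace.map q)) :
    ArtFun.IsSmooth (CategoryTheory.Limits.pullback.map p₁ p₂ (p₁ ≫ q) (p₂ ≫ q) (𝟙 H₁) (𝟙 H₂) q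
      (CategoryTheory.Category.id_comp _).symm (CategoryTheory.Category.id_comp _).symm) := by
  refine aux p₁ p₂ q hF hG hq (CategoryTheory.Limits.pullback.fst p₁ p₂)
    (CategoryTheory.Limits.pullback.snd p₁ p₂) (CategoryTheory.Limits.pullback.fst (p₁ ≫ q) (p₂ ≫ q))
    (CategoryTheory.Limits.pullback.snd (p₁ ≫ q) (p₂ ≫ q)) _ ?_ ?_
    (fun X => isPullback_app' p₁ p₂ X) (fun X => isPullback_app' (p₁ ≫ q) (p₂ ≫ q) X)
  · rw [CategoryTheory.Limits.pullback.map, CategoryTheory.Limits.pullback.lift_fst, Category.comp_id]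
  · rw [CategoryTheory.Limits.pullback.map, CategoryTheory.Limits.pullback.lift_snd, Category.comp_id]

end Groth.Agent.S12747
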