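import Groth.Statements.S12750
import Groth.Agent.S12709
import Groth.Agent.Lib.Helper65.ArtCotangent
import Groth.Agent.Lib.Helper65.ArtFinite
-- import your own Groth.Agent.* helpers here

set_option autoImplicit false
universe u v
open CategoryTheory
open ArtFun ArtFun.Art

namespace Groth.Agent.S12750

open Groth.Agent.Lib.Helper65

section aux

variable {Λ : Type u} {k : Type u} [CommRing Λ] [Field k] [Algebra Λ k]
  [IsNoetherianRing Λ] [Module.Finite Λ k]

/-- A morphism `h : P → A` is surjective as soon as its composite with the quotient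
`A → A/(m_Λ A + m_A²)` is. -/
theorem surjective_of_comp_quot {P A A' : ArtFun.Art Λ k} (h : P ⟶ A)
    (qA : A ⟶ A')
    (hkA : RingHom.ker qA.toAlgHom = Ideal.map (algebraMap Λ A) (RingHom.ker (algebraMap Λ k)) ⊔ IsLocalRing.maximalIdeal A ^ 2)
    (hs : Function.Surjective (h ≫ qA)) : Function.Surjective h := by
  have tfae := Groth.Agent.S12709.result h
  refine (tfae.out 0 2).2 ?_
  apply le_antisymm
  · refine sup_le (sup_le ?_ (art_map_maximalIdeal_le h)) ?_
    · exact (art_map_kerΛ_le h).trans (art_map_maximalIdeal_le h)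
    · rw [pow_two]; exact Ideal.mul_le_right
  · intro a ha
    obtain ⟨x, hx⟩ := hs (qA.toAlgHom a)
    have hx' : qA.toAlgHom (h.toAlgHom x) = qA.toAlgHom a := hx
    have hxm : x ∈ IsLocalRing.maximalIdeal P := by
      rw [Art.mem_maximalIdeal_iff, ← Art.res_app h, ← Art.res_app qA]
      change A'.res (qA.toAlgHom (h.toAlgHom x)) = 0
      rw [hx']
      change A'.res (qA (a)) = 0
      rw [Art.res_app qA]
      exact (Art.mem_maximalIdeal_iff A a).1 ha
    have hker : a - h.toAlgHom x ∈ RingHom.ker qA.toAlgHom := by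
      rw [RingHom.mem_ker, map_sub, hx', sub_self]
    rw [hkA] at hker
    obtain ⟨u, hu, v, hv, huv⟩ := Submodule.mem_sup.1 hker
    have : a = u + h.toAlgHom x + v := by
      have : a = (a - h.toAlgHom x) + h.toAlgHom x := by ring
      rw [this, ← huv]; ring
    rw [this]
    refine Submodule.add_mem _ (Submodule.add_mem _ ?_ ?_) ?_
    · exact (le_sup_left : _ ≤ _ ⊔ Ideal.map h.toAlgHom (IsLocalRing.maximalIdeal P) ⊔ _)
        ((le_sup_left : _ ≤ _ ⊔ Ideal.map h.toAlgHom (IsLocalRing.maximalIdeal P)) hu)
    · apply (le_sup_left : _ ≤ _ ⊔ IsLocalRing.maximalIdeal A ^ 2)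
      apply (le_sup_right : _ ≤ Ideal.map (algebraMap Λ A) (RingHom.ker (algebraMap Λ k)) ⊔ _)
      exact Ideal.mem_map_of_mem _ hxm
    · exact (le_sup_right : _ ≤ _ ⊔ IsLocalRing.maximalIdeal A ^ 2) hv

theorem surjective_comp {X Y Z : ArtFun.Art Λ k} (f : X ⟶ Y) (g : Y ⟶ Z)
    (hf : Function.Surjective f) (hg : Function.Surjective g) : Function.Surjective (f ≫ g) :=
  hg.comp hf

theorem surjective_of_comp {X Y Z : ArtFun.Art Λ k} (f : X ⟶ Y) (g : Y ⟶ Z)
    (h : Function.Surjective (f ≫ g)) : Function.Surjective g :=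
  Function.Surjective.of_comp (g := f) h

end aux

/-- (1) ⇔ (3): let f : B → A be a morphism in the category of Artinian local Λ-algebras with residue
field k, and let q_B : B → B', q_A : A → A' be the quotients by m_Λ B + m_B² and m_Λ A + m_A² (m_Λ
the kernel of Λ → k), realised as surjective morphisms with these kernels, with f' : B' → A' the
induced morphism. Then f is an essential surjection — surjective, and every morphism g into B whose
composite with f is surjective is itself surjective — if and only if f' is. (The intermediate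
equivalence with the map B/m_B² → A/m_A² is the special case Λ-structure trivialised and follows by
applying this one twice.) -/
theorem result {Λ : Type u} {k : Type u} [CommRing Λ] [Field k] [Algebra Λ k]
    [IsNoetherianRing Λ] [Module.Finite Λ k]
    {A B A' B' : ArtFun.Art Λ k} (f : B ⟶ A)
    (qB : B ⟶ B') (hqB : Function.Surjective qB)
    (hkB : RingHom.ker qB.toAlgHom = Ideal.map (algebraMap Λ B) (RingHom.ker (algebraMap Λ k)) ⊔ IsLocalRing.maximalIdeal B ^ 2)
    (qA : A ⟶ A') (hqA : Function.Surjective qA)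
    (hkA : RingHom.ker qA.toAlgHom = Ideal.map (algebraMap Λ A) (RingHom.ker (algebraMap Λ k)) ⊔ IsLocalRing.maximalIdeal A ^ 2)
    (f' : B' ⟶ A') (hf' : qB ≫ f' = f ≫ qA) :
    (Function.Surjective f ∧ ∀ (C : ArtFun.Art Λ k) (g : C ⟶ B), Function.Surjective (g ≫ f) → Function.Surjective g) ↔ (Function.Surjective f' ∧ ∀ (C : ArtFun.Art Λ k) (g : C ⟶ B'), Function.Surjective (g ≫ f') → Function.Surjective g) := by
  constructor
  · rintro ⟨hf, hess⟩
    refine ⟨?_, ?_⟩
    · apply surjective_of_comp qB f'
      rw [hf']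
      exact surjective_comp f qA hf hqA
    · intro C g hg
      obtain ⟨P, π₁, π₂, hP⟩ := art_exists_isFibreProd g qB hqB
      have hπ₁ : Function.Surjective π₁ := by
        intro c
        obtain ⟨b, hb⟩ := hqB (g c)
        obtain ⟨x, hx1, _⟩ := hP.surj c b hb.symm
        exact ⟨x, hx1⟩
      have h1 : Function.Surjective ((π₂ ≫ f) ≫ qA) := by
        rw [Category.assoc, ← hf', ← Category.assoc, ← hP.w, Category.assoc]
        exact surjective_comp π₁ (g ≫ f') hπ₁ hg
      have h2 : Function.Surjective (π₂ ≫ f) := surjective_of_comp_quot (π₂ ≫ f) qA hkA h1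
      have h3 : Function.Surjective π₂ := hess P π₂ h2
      have h4 : Function.Surjective (π₁ ≫ g) := by
        rw [hP.w]
        exact surjective_comp π₂ qB h3 hqB
      exact surjective_of_comp π₁ g h4
  · rintro ⟨hf, hess⟩
    refine ⟨?_, ?_⟩
    · apply surjective_of_comp_quot f qA hkA
      rw [← hf']
      exact surjective_comp qB f' hqB hf
    · intro C g hg
      apply surjective_of_comp_quot g qB hkB
      apply hess C (g ≫ qB)
      rw [Category.assoc, hf', ← Category.assoc]
      exact surjective_comp (g ≫ f) qA hg hqA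

end Groth.Agent.S12750
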