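import Groth.Statements.S12751
import Groth.Agent.Lib.Helper65.ArtCotangent
import Groth.Agent.Lib.Helper65.ArtFinite
import Mathlib.RingTheory.Unramified.LocalRing
import Mathlib.RingTheory.LocalRing.Module
-- import your own Groth.Agent.* helpers here

set_option autoImplicit false
universe u v
open CategoryTheory
open scoped TensorProduct
open ArtFun ArtFun.Art

namespace Groth.Agent.S12751

open Groth.Agent.Lib.Helper65

/-- A morphism f : B → A in the category of Artinian local Λ-algebras with residue field k is surjective
if and only if Ω_{B/Λ} ⊗_B k → Ω_{A/Λ} ⊗_A k is surjective; by right exactness of the sequence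
Ω_{B/Λ} ⊗_B A → Ω_{A/Λ} → Ω_{A/B} → 0 this surjectivity is the vanishing of Ω_{A/B} ⊗_A k, which is
how it is written here (A a B-algebra through f, k an A-module through the augmentation). -/
theorem result {Λ : Type u} {k : Type u} [CommRing Λ] [Field k] [Algebra Λ k]
    [IsNoetherianRing Λ] [Module.Finite Λ k]
    {A B : ArtFun.Art Λ k} (f : B ⟶ A) :
    letI : Algebra B A := f.toAlgHom.toRingHom.toAlgebra
    letI : Algebra A k := A.res.toRingHom.toAlgebra
    Function.Surjective f ↔ Subsingleton (k ⊗[A] Ω[A⁄B]) := by
  letI : Algebra B A := f.toAlgHom.toRingHom.toAlgebra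
  letI : Algebra A k := A.res.toRingHom.toAlgebra
  constructor
  · intro hf
    have hs : Function.Surjective (algebraMap B A) := hf
    haveI : Subsingleton Ω[A⁄B] := KaehlerDifferential.subsingleton_of_surjective B A hs
    infer_instance
  · intro hsub
    have hres : Function.Surjective (Algebra.linearMap A k) := A.res_surjective
    have hker : LinearMap.ker (Algebra.linearMap A k) = IsLocalRing.maximalIdeal A := by
      ext a
      rw [LinearMap.mem_ker, Art.mem_maximalIdeal_iff]
      rfl
    let e : (A ⧸ IsLocalRing.maximalIdeal A) ≃ₗ[A] k :=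
      (Submodule.quotEquivOfEq _ _ hker.symm).trans ((Algebra.linearMap A k).quotKerEquivOfSurjective hres)
    have h1 : Subsingleton ((IsLocalRing.ResidueField A) ⊗[A] Ω[A⁄B]) :=
      (TensorProduct.congr e (LinearEquiv.refl A Ω[A⁄B])).injective.subsingleton
    haveI : IsScalarTower Λ B A := IsScalarTower.of_algebraMap_eq (fun r => (f.toAlgHom.commutes r).symm)
    haveI : Module.Finite Λ A := art_moduleFinite A
    haveI : Module.Finite B A := Module.Finite.of_restrictScalars_finite Λ B A
    have h2 : Subsingleton Ω[A⁄B] := IsLocalRing.subsingleton_tensorProduct.mp h1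
    haveI : Algebra.FormallyUnramified B A := ⟨h2⟩
    haveI : IsLocalHom (algebraMap B A) := ⟨fun a ha => (Art.isLocalHom f).map_nonunit a ha⟩
    have h3 := Algebra.FormallyUnramified.map_maximalIdeal (R := B) (S := A)
    apply art_surjective_of_cotangent f
    apply le_antisymm
    · refine sup_le (art_map_maximalIdeal_le f) ?_
      rw [pow_two]; exact Ideal.mul_le_right
    · refine le_trans ?_ le_sup_left
      exact h3.ge

end Groth.Agent.S12751
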