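import Groth.Statements.S12752
import Groth.Agent.S12751
import Groth.Agent.S12715
import Groth.Agent.S12709
import Groth.Agent.Lib.Helper65.ArtDer
import Groth.Agent.Lib.Helper65.ArtHensel
import Groth.Agent.Lib.Helper65.CRingDer

set_option autoImplicit false
universe u v
open CategoryTheory
open scoped TensorProduct
open ArtFun ArtFun.Art

namespace Groth.Agent.S12752

/-- (a) ⇔ (c): a morphism f : B → A in the category of Artinian local Λ-algebras with residue field k is
an essential surjection (surjective, and any morphism g into B with g followed by f surjective is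
surjective) if and only if the map Ω_{B/Λ} ⊗_B k → Ω_{A/Λ} ⊗_A k is an isomorphism of k-vector
spaces. These spaces are finite-dimensional, so the isomorphism condition is written as: the map is
surjective (that is, Ω_{A/B} ⊗_A k = 0) and the two spaces have equal dimension. -/
theorem result {Λ : Type u} {k : Type u} [CommRing Λ] [Field k] [Algebra Λ k]
    [IsNoetherianRing Λ] [Module.Finite Λ k]
    {A B : ArtFun.Art Λ k} (f : B ⟶ A) :
    letI : Algebra B A := f.toAlgHom.toRingHom.toAlgebra
    letI : Algebra A k := A.res.toRingHom.toAlgebra
    letI : Algebra B k := B.res.toRingHom.toAlgebra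
    (Function.Surjective f ∧ ∀ (C : ArtFun.Art Λ k) (g : C ⟶ B), Function.Surjective (g ≫ f) → Function.Surjective g) ↔
      (Subsingleton (k ⊗[A] Ω[A⁄B]) ∧
        Module.finrank k (k ⊗[B] Ω[B⁄Λ]) = Module.finrank k (k ⊗[A] Ω[A⁄Λ])) := by
  classical
  open Groth.Agent.Lib.Helper65 in
  letI : Algebra B A := f.toAlgHom.toRingHom.toAlgebra
  letI : Algebra A k := A.res.toRingHom.toAlgebra
  letI : Algebra B k := B.res.toRingHom.toAlgebra
  haveI : IsScalarTower Λ A.carrier k := artRes_isScalarTower A
  haveI : IsScalarTower Λ B.carrier k := artRes_isScalarTower B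
  have h51 : Function.Surjective f ↔ Subsingleton (k ⊗[A] Ω[A⁄B]) := Groth.Agent.S12751.result f
  rw [finrank_tensor_kaehler_eq (S := B.carrier), finrank_tensor_kaehler_eq (S := A.carrier)]
  constructor
  · rintro ⟨hf, hess⟩
    refine ⟨h51.1 hf, ?_⟩
    have hsurj : Function.Surjective (derRestrict f) := by
      intro D
      apply der_factor f hf D
      intro x hx
      by_contra hDx
      obtain ⟨C, g, hg1, hg2⟩ := exists_proper_subobject_of_der f hf D x hx hDx
      exact hg1 (hess C g hg2)
    exact (LinearEquiv.ofBijective (derRestrict f) ⟨derRestrict_injective f hf, hsurj⟩).finrank_eq.symm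
  · rintro ⟨hsub, hrank⟩
    have hf : Function.Surjective f := h51.2 hsub
    refine ⟨hf, ?_⟩
    haveI := art_isAdicComplete A
    haveI := art_isAdicComplete B
    haveI : Module.Finite k (Derivation Λ A.carrier k) :=
      Groth.Agent.S12715.result A.carrier A.res_surjective
    haveI : Module.Finite k (Derivation Λ B.carrier k) :=
      Groth.Agent.S12715.result B.carrier B.res_surjective
    have hsurj : Function.Surjective (derRestrict f) :=
      (LinearMap.injective_iff_surjective_of_finrank_eq_finrank hrank.symm).1 (derRestrict_injective f hf)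
    intro C g hg
    by_contra hng
    have hne : Ideal.map g.toAlgHom (RingHom.ker C.res) ⊔ IsLocalRing.maximalIdeal B.carrier ^ 2 ≠
        IsLocalRing.maximalIdeal B.carrier := by
      intro h
      apply hng
      refine ((Groth.Agent.S12709.result g).out 0 1).2 ?_
      have hker : RingHom.ker C.res = IsLocalRing.maximalIdeal C.carrier := by
        ext c
        rw [RingHom.mem_ker, Art.mem_maximalIdeal_iff]
      rw [← hker]
      exact h
    obtain ⟨D, hD0, hDne⟩ := exists_derivation_of_cotangent_ne C.res C.res_surjective B.res_surjective
      g.toAlgHom (fun r => Art.res_app g r) hne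
    obtain ⟨D', rfl⟩ := hsurj D
    apply hDne
    have : D' = 0 := by
      ext a
      obtain ⟨c, rfl⟩ := hg a
      exact hD0 c
    rw [this, map_zero]

end Groth.Agent.S12752
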