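import Groth.Statements.S12753
import Groth.Agent.S12709
import Groth.Agent.Lib.Helper65.ArtCoeffField
import Groth.Agent.Lib.Helper65.Hyperplane
import Groth.Agent.Lib.Helper65.ArtFinite
import Groth.Agent.Lib.Helper65.ArtCotangent

set_option autoImplicit false
universe u v
open CategoryTheory
open ArtFun ArtFun.Art

namespace Groth.Agent.S12753

/-- Suppose k is separable over the image of Λ → k. A morphism f : B → A in the category of Artinian
local Λ-algebras with residue field k is an essential surjection (surjective, and any morphism g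
into B with g followed by f surjective is surjective) if and only if the map of cotangent spaces
relative to Λ, m_B/(m_Λ B + m_B²) → m_A/(m_Λ A + m_A²), is an isomorphism; surjectivity and
injectivity are written out in terms of ideals, m_Λ being the kernel of Λ → k. -/
theorem result {Λ : Type u} {k : Type u} [CommRing Λ] [Field k] [Algebra Λ k]
    [IsNoetherianRing Λ] [Module.Finite Λ k]
    [Algebra.IsSeparable (↥(algebraMap Λ k).range) k]
    {A B : ArtFun.Art Λ k} (f : B ⟶ A) :
    (Function.Surjective f ∧ ∀ (C : ArtFun.Art Λ k) (g : C ⟶ B), Function.Surjective (g ≫ f) → Function.Surjective g) ↔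
      (Ideal.map (algebraMap Λ A) (RingHom.ker (algebraMap Λ k)) ⊔ Ideal.map f.toAlgHom (IsLocalRing.maximalIdeal B) ⊔ IsLocalRing.maximalIdeal A ^ 2 =
          IsLocalRing.maximalIdeal A ∧
        ∀ b ∈ IsLocalRing.maximalIdeal B, f b ∈ Ideal.map (algebraMap Λ A) (RingHom.ker (algebraMap Λ k)) ⊔ IsLocalRing.maximalIdeal A ^ 2 →
          b ∈ Ideal.map (algebraMap Λ B) (RingHom.ker (algebraMap Λ k)) ⊔ IsLocalRing.maximalIdeal B ^ 2) := by
  classical
  open Groth.Agent.Lib.Helper65 in
  constructor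
  · rintro ⟨hf, hess⟩
    refine ⟨((Groth.Agent.S12709.result f).out 0 2).1 hf, ?_⟩
    intro b hb hfb
    by_contra hbI
    -- the ideal `I_B`
    have hIB : IsLocalRing.maximalIdeal B.carrier ^ 2 ≤
        Ideal.map (algebraMap Λ B) (RingHom.ker (algebraMap Λ k)) ⊔ IsLocalRing.maximalIdeal B ^ 2 := le_sup_right
    obtain ⟨J₁, hJJ₁, hbJ₁, hJ₁m, hdec⟩ := exists_hyperplane_ideal _ hIB b hb hbI
    -- the quotient and its section
    have hX : ∀ r : Λ, algebraMap Λ k r = 0 → algebraMap Λ (Art.quot B J₁ hJ₁m).carrier r = 0 := by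
      intro r hr
      have h1 : algebraMap Λ B.carrier r ∈ J₁ := by
        apply hJJ₁
        apply (le_sup_left : Ideal.map (algebraMap Λ B) (RingHom.ker (algebraMap Λ k)) ≤ _)
        exact Ideal.mem_map_of_mem _ hr
      have h2 : (Art.quotMk B J₁ hJ₁m).toAlgHom (algebraMap Λ B.carrier r) = 0 :=
        (quotMk_eq_zero_iff B hJ₁m _).2 h1
      rw [AlgHom.commutes] at h2
      exact h2
    obtain ⟨σ, hσ⟩ := art_exists_section (Art.quot B J₁ hJ₁m) hX
    -- fibre product
    obtain ⟨P, p₁, p₂, hP⟩ := art_exists_isFibreProd σ (Art.quotMk B J₁ hJ₁m) (Art.quotMk_surjective B J₁ hJ₁m)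
    -- `p₂ ≫ f` is surjective
    have hsurj : Function.Surjective (p₂ ≫ f) := by
      refine ((Groth.Agent.S12709.result (p₂ ≫ f)).out 0 2).2 ?_
      apply le_antisymm
      · refine sup_le (sup_le ?_ (art_map_maximalIdeal_le _)) ?_
        · exact (art_map_kerΛ_le (p₂ ≫ f)).trans (art_map_maximalIdeal_le _)
        · rw [pow_two]; exact Ideal.mul_le_right
      · intro a ha
        obtain ⟨y, rfl⟩ := hf a
        have hy : y ∈ IsLocalRing.maximalIdeal B.carrier := by
          rw [Art.mem_maximalIdeal_iff, ← Art.res_app f]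
          exact (Art.mem_maximalIdeal_iff A _).1 ha
        obtain ⟨j, hj, t, rfl⟩ := hdec y hy
        have hj0 : (Art.quotMk B J₁ hJ₁m).toAlgHom j = 0 := (quotMk_eq_zero_iff B hJ₁m j).2 hj
        obtain ⟨x, hx1, hx2⟩ := hP.surj (0 : k) j (by
          change σ.toAlgHom 0 = (Art.quotMk B J₁ hJ₁m).toAlgHom j
          rw [map_zero, hj0])
        have hxm : x ∈ IsLocalRing.maximalIdeal P.carrier := by
          rw [Art.mem_maximalIdeal_iff, ← Art.res_app p₁]
          change (Art.base Λ k).res (p₁ x) = 0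
          rw [hx1]
          rfl
        have e : f (j + t * b) = (p₂ ≫ f).toAlgHom x + f.toAlgHom t * f.toAlgHom b := by
          change f.toAlgHom (j + t * b) = f.toAlgHom (p₂.toAlgHom x) + _
          have : p₂.toAlgHom x = j := hx2
          rw [this, map_add, map_mul]
        rw [e]
        have h1 : (p₂ ≫ f).toAlgHom x ∈ Ideal.map (p₂ ≫ f).toAlgHom (IsLocalRing.maximalIdeal P.carrier) :=
          Ideal.mem_map_of_mem _ hxm
        have h2 : f.toAlgHom t * f.toAlgHom b ∈
            Ideal.map (algebraMap Λ A) (RingHom.ker (algebraMap Λ k)) ⊔ IsLocalRing.maximalIdeal A ^ 2 :=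
          Ideal.mul_mem_left _ _ hfb
        refine Submodule.add_mem _ ?_ ?_
        · exact (le_sup_left : _ ≤ _ ⊔ IsLocalRing.maximalIdeal A.carrier ^ 2)
            ((le_sup_right : _ ≤ Ideal.map (algebraMap Λ A) (RingHom.ker (algebraMap Λ k)) ⊔ _) h1)
        · obtain ⟨u, hu, v, hv, huv⟩ := Submodule.mem_sup.1 h2
          rw [← huv]
          refine Submodule.add_mem _ ?_ ?_
          · exact (le_sup_left : _ ≤ _ ⊔ IsLocalRing.maximalIdeal A.carrier ^ 2)
              ((le_sup_left : _ ≤ _ ⊔ Ideal.map (p₂ ≫ f).toAlgHom (IsLocalRing.maximalIdeal P.carrier)) hu)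
          · exact (le_sup_right : _ ≤ _ ⊔ IsLocalRing.maximalIdeal A.carrier ^ 2) hv
    -- but `p₂` is not surjective
    have hp₂ : Function.Surjective p₂ := hess P p₂ hsurj
    obtain ⟨x, hx⟩ := hp₂ b
    have h1 : σ.toAlgHom (p₁.toAlgHom x) = (Art.quotMk B J₁ hJ₁m).toAlgHom b := by
      have := hP.w_apply x
      rw [hx] at this
      exact this
    have h2 : (Art.quot B J₁ hJ₁m).res ((Art.quotMk B J₁ hJ₁m).toAlgHom b) = 0 := by
      have := Art.res_app (Art.quotMk B J₁ hJ₁m) b
      rw [(Art.mem_maximalIdeal_iff B b).1 hb] at this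
      exact this
    rw [← h1, hσ] at h2
    have h3 : (Art.quotMk B J₁ hJ₁m).toAlgHom b = 0 := by
      rw [← h1, h2]
      exact map_zero σ.toAlgHom
    exact hbJ₁ ((quotMk_eq_zero_iff B hJ₁m b).1 h3)
  · rintro ⟨h1, h2⟩
    have hf : Function.Surjective f := ((Groth.Agent.S12709.result f).out 0 2).2 h1
    refine ⟨hf, ?_⟩
    intro C g hg
    refine ((Groth.Agent.S12709.result g).out 0 2).2 ?_
    apply le_antisymm
    · refine sup_le (sup_le ?_ (art_map_maximalIdeal_le _)) ?_
      · exact (art_map_kerΛ_le g).trans (art_map_maximalIdeal_le _)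
      · rw [pow_two]; exact Ideal.mul_le_right
    · intro b hb
      obtain ⟨c, hc⟩ := hg (f b)
      have hc' : f.toAlgHom (g.toAlgHom c) = f.toAlgHom b := hc
      have hcm : c ∈ IsLocalRing.maximalIdeal C.carrier := by
        rw [Art.mem_maximalIdeal_iff, ← Art.res_app g, ← Art.res_app f]
        change A.res (f.toAlgHom (g.toAlgHom c)) = 0
        rw [hc']
        change A.res (f b) = 0
        rw [Art.res_app f]
        exact (Art.mem_maximalIdeal_iff B b).1 hb
      have hgc : g.toAlgHom c ∈ IsLocalRing.maximalIdeal B.carrier := art_map_maximalIdeal_le g (Ideal.mem_map_of_mem _ hcm)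
      have hdiff : b - g.toAlgHom c ∈ Ideal.map (algebraMap Λ B) (RingHom.ker (algebraMap Λ k)) ⊔ IsLocalRing.maximalIdeal B ^ 2 := by
        apply h2 _ (Ideal.sub_mem _ hb hgc)
        change f.toAlgHom (b - g.toAlgHom c) ∈ _
        rw [map_sub, hc', sub_self]
        exact Ideal.zero_mem _
      have : b = g.toAlgHom c + (b - g.toAlgHom c) := by ring
      rw [this]
      refine Submodule.add_mem _ ?_ ?_
      · exact (le_sup_left : _ ≤ _ ⊔ IsLocalRing.maximalIdeal B.carrier ^ 2)
          ((le_sup_right : _ ≤ Ideal.map (algebraMap Λ B) (RingHom.ker (algebraMap Λ k)) ⊔ _) (Ideal.mem_map_of_mem _ hcm))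
      · obtain ⟨u, hu, v, hv, huv⟩ := Submodule.mem_sup.1 hdiff
        rw [← huv]
        refine Submodule.add_mem _ ?_ ?_
        · exact (le_sup_left : _ ≤ _ ⊔ IsLocalRing.maximalIdeal B.carrier ^ 2)
            ((le_sup_left : _ ≤ _ ⊔ Ideal.map g.toAlgHom (IsLocalRing.maximalIdeal C.carrier)) hu)
        · exact (le_sup_right : _ ≤ _ ⊔ IsLocalRing.maximalIdeal B.carrier ^ 2) hv

end Groth.Agent.S12753
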