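import Groth.Statements.S12754
-- import your own Groth.Agent.* helpers here
import Mathlib

set_option autoImplicit false
universe u
open CategoryTheory
open ArtFun

namespace Groth.Agent.S12754

open MonoidalCategory TensorProduct

section Aux

variable {K : Type u} [Field K]

/-- the morphism `K → V`, `1 ↦ v` -/
noncomputable def fv (V : FGModuleCat.{u} K) (v : V) : FGModuleCat.of K K ⟶ V :=
  ObjectProperty.homMk (ModuleCat.ofHom (LinearMap.toSpanSingleton K V v))

theorem fv_apply (V : FGModuleCat.{u} K) (v : V) (c : K) : (fv V v).hom.hom c = c • v := rfl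

theorem fv_add (V : FGModuleCat.{u} K) (v w : V) : fv V (v + w) = fv V v + fv V w := by
  apply FGModuleCat.hom_ext
  apply LinearMap.ext
  intro c
  change c • (v + w) = c • v + c • w
  rw [smul_add]

theorem fv_smul (V : FGModuleCat.{u} K) (a : K) (v : V) : fv V (a • v) = a • fv V v := by
  apply FGModuleCat.hom_ext
  apply LinearMap.ext
  intro c
  change c • (a • v) = a • (c • v)
  rw [smul_comm]

theorem sum_hom {ι : Type*} (s : Finset ι) {V W : FGModuleCat.{u} K} (g : ι → (V ⟶ W)) (v : V) :
    (∑ i ∈ s, g i).hom.hom v = ∑ i ∈ s, (g i).hom.hom v := by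
  have h1 : (∑ i ∈ s, g i).hom = ∑ i ∈ s, (g i).hom :=
    Functor.map_sum (forget₂ (FGModuleCat.{u} K) (ModuleCat.{u} K)) g s
  rw [h1, ModuleCat.hom_sum, LinearMap.sum_apply]

theorem fv_comp {V W : FGModuleCat.{u} K} (g : V ⟶ W) (v : V) :
    fv V v ≫ g = fv W (g.hom.hom v) := by
  apply FGModuleCat.hom_ext
  apply LinearMap.ext
  intro c
  change g.hom.hom (c • v) = c • g.hom.hom v
  rw [map_smul]

end Aux

section Main

variable {K : Type u} [Field K] (L : FGModuleCat.{u} K ⥤ ModuleCat.{u} K) [L.Additive]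
  [Functor.Linear K L]

/-- the comparison map `L(K) ⊗ V → L(V)` -/
noncomputable def eta (V : FGModuleCat.{u} K) :
    (L.obj (FGModuleCat.of K K)) ⊗[K] V →ₗ[K] L.obj V :=
  TensorProduct.lift (LinearMap.mk₂ K (fun x v => (L.map (fv V v)).hom x)
    (fun x y v => map_add _ x y)
    (fun c x v => map_smul _ c x)
    (fun x v w => by rw [fv_add, L.map_add]; rfl)
    (fun c x v => by rw [fv_smul, L.map_smul]; rfl))

theorem eta_tmul (V : FGModuleCat.{u} K) (x : L.obj (FGModuleCat.of K K)) (v : V) :
    eta L V (x ⊗ₜ v) = (L.map (fv V v)).hom x := rfl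

/-- the coordinate morphisms of a basis -/
noncomputable def ci (V : FGModuleCat.{u} K) (i : Fin (Module.finrank K V)) :
    V ⟶ FGModuleCat.of K K :=
  ObjectProperty.homMk (ModuleCat.ofHom ((Module.finBasis K V).coord i))

theorem ci_apply (V : FGModuleCat.{u} K) (i : Fin (Module.finrank K V)) (v : V) :
    (ci V i).hom.hom v = (Module.finBasis K V).repr v i := rfl

theorem sum_ci_fv (V : FGModuleCat.{u} K) :
    ∑ i, ci V i ≫ fv V (Module.finBasis K V i) = 𝟙 V := by
  apply FGModuleCat.hom_ext
  apply LinearMap.ext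
  intro v
  rw [sum_hom]
  change ∑ i, ((Module.finBasis K V).repr v i) • (Module.finBasis K V i) = v
  exact (Module.finBasis K V).sum_repr v

theorem fv_ci (V : FGModuleCat.{u} K) (v : V) (i : Fin (Module.finrank K V)) :
    fv V v ≫ ci V i = ((Module.finBasis K V).repr v i) • 𝟙 (FGModuleCat.of K K) := by
  apply FGModuleCat.hom_ext
  apply LinearMap.ext
  intro c
  change (Module.finBasis K V).repr (c • v) i = ((Module.finBasis K V).repr v i) • c
  rw [map_smul, Finsupp.smul_apply, smul_eq_mul, smul_eq_mul, mul_comm]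

/-- the inverse comparison map -/
noncomputable def theta (V : FGModuleCat.{u} K) :
    L.obj V →ₗ[K] (L.obj (FGModuleCat.of K K)) ⊗[K] V :=
  ∑ i, ((TensorProduct.mk K (L.obj (FGModuleCat.of K K)) V).flip (Module.finBasis K V i)).comp
    (L.map (ci V i)).hom

omit [L.Additive] [Functor.Linear K L] in
theorem theta_apply (V : FGModuleCat.{u} K) (y : L.obj V) :
    theta L V y = ∑ i, (L.map (ci V i)).hom y ⊗ₜ[K] (Module.finBasis K V i) := by
  rw [theta, LinearMap.sum_apply]
  rfl

theorem eta_theta (V : FGModuleCat.{u} K) (y : L.obj V) : eta L V (theta L V y) = y := by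
  rw [theta_apply, map_sum]
  simp_rw [eta_tmul]
  have h1 : ∀ i, (L.map (fv V (Module.finBasis K V i))).hom ((L.map (ci V i)).hom y) =
      (L.map (ci V i ≫ fv V (Module.finBasis K V i))).hom y := by
    intro i
    rw [L.map_comp]
    rfl
  simp_rw [h1]
  have h2 : ∑ i, (L.map (ci V i ≫ fv V (Module.finBasis K V i))).hom y =
      (L.map (∑ i, ci V i ≫ fv V (Module.finBasis K V i))).hom y := by
    rw [Functor.map_sum, ModuleCat.hom_sum, LinearMap.sum_apply]
  rw [h2, sum_ci_fv, L.map_id]
  rfl

theorem theta_eta (V : FGModuleCat.{u} K) (z : (L.obj (FGModuleCat.of K K)) ⊗[K] V) :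
    theta L V (eta L V z) = z := by
  induction z using TensorProduct.induction_on with
  | zero => rw [map_zero, map_zero]
  | add a b ha hb => rw [map_add, map_add, ha, hb]
  | tmul x v =>
    rw [eta_tmul, theta_apply]
    have h1 : ∀ i, (L.map (ci V i)).hom ((L.map (fv V v)).hom x) =
        ((Module.finBasis K V).repr v i) • x := by
      intro i
      have h2 : (L.map (ci V i)).hom ((L.map (fv V v)).hom x) =
          (L.map (fv V v ≫ ci V i)).hom x := by
        rw [L.map_comp]
        rfl
      rw [h2, fv_ci, L.map_smul, L.map_id]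
      rfl
    simp_rw [h1, TensorProduct.smul_tmul]
    rw [← TensorProduct.tmul_sum, (Module.finBasis K V).sum_repr v]

end Main

/-- A K-linear functor L from finite-dimensional K-vector spaces to K-vector spaces (K a field) is
isomorphic to the functor V ↦ L(K) ⊗_K V. (Existence of an isomorphism of functors, which is how the
published statement reads; the natural choice sends x ⊗ v to L(f_v)(x) with f_v : K → V, 1 ↦ v.) -/
theorem result (K : Type u) [Field K]
    (L : FGModuleCat.{u} K ⥤ ModuleCat.{u} K) [L.Additive] [Functor.Linear K L] :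
    Nonempty (L ≅ (ModuleCat.isFG.{u} K).ι ⋙ MonoidalCategory.tensorLeft (L.obj (FGModuleCat.of K K))) := by
  classical
  let e : ∀ V : FGModuleCat.{u} K,
      ((L.obj (FGModuleCat.of K K)) ⊗[K] V) ≃ₗ[K] L.obj V := fun V =>
    LinearEquiv.ofLinearMap (eta L V) (theta L V) (LinearMap.ext (eta_theta L V))
      (LinearMap.ext (theta_eta L V))
  have he : ∀ V z, e V z = eta L V z := fun V z => rfl
  refine ⟨(NatIso.ofComponents (fun V => (e V).toModuleIso) ?_).symm⟩
  intro V W g
  apply ModuleCat.hom_ext
  apply TensorProduct.ext'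
  intro x v
  change eta L W (x ⊗ₜ g.hom.hom v) = (L.map g).hom (eta L V (x ⊗ₜ v))
  rw [eta_tmul, eta_tmul, ← fv_comp, L.map_comp]
  rfl

end Groth.Agent.S12754
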