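import Groth.Statements.S12757
import Groth.Agent.S12716
import Groth.Agent.Lib.Helper65.CRingMinVersal

set_option autoImplicit false
universe u v
open CategoryTheory
open ArtFun

namespace Groth.Agent.S12757

/-- For functors, let F be a functor on Artinian local Λ-algebras with residue field k with F(k) a
point. A versal family of F over a complete local Noetherian R with residue field k which is
bijective on tangent spaces (a hull; bijectivity implies bijectivity on orbits of the derivations of
k) is minimal: every morphism of coefficient rings R' → R along which some formal element over R'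
pushes forward to the formal element of the family is surjective. -/
theorem result {Λ : Type u} {k : Type u} [CommRing Λ] [Field k] [Algebra Λ k]
    [IsNoetherianRing Λ] [Module.Finite Λ k]
    {F : ArtFun.Art Λ k ⥤ Type v} (h0 : ArtFun.H0 F) (P : ArtFun.Hull F) :
    P.family.IsMinimalVersal := by
  classical
  open Groth.Agent.Lib.Helper65 in
  obtain ⟨R, ξ, hvers, htan⟩ := P
  refine ⟨hvers, ?_⟩
  intro R' u f hf hu
  letI : Algebra R.carrier k := R.res.toRingHom.toAlgebra
  haveI : IsScalarTower Λ R.carrier k := IsScalarTower.of_algebraMap_eq (fun r => (R.res.commutes r).symm)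
  haveI := R.isAdicComplete
  refine Groth.Agent.S12716.result R' R.carrier R.res_surjective f ?_ ?_
  · apply AlgHom.ext
    intro r
    exact congrArg (fun t : R'.carrier →ₐ[Λ] k => t r) hf
  · intro D₁ D₂ hD
    let ψ₁ := homOfDer R.res (fun _ => rfl) D₁
    let ψ₂ := homOfDer R.res (fun _ => rfl) D₂
    have hcomp : ψ₁.1.comp f = ψ₂.1.comp f := by
      apply AlgHom.ext
      intro r
      apply TrivSqZeroExt.ext
      · rfl
      · exact hD r
    have h1 : ξ.app _ ψ₁ = ξ.app _ ψ₂ := app_eq_of_push_eq ξ u f hf hu _ ψ₁ ψ₂ hcomp
    have h2 : ψ₁ = ψ₂ := htan.1 h1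
    ext s
    exact congrArg (fun t : HomSet R.carrier R.res (Art.dual Λ k) => TrivSqZeroExt.snd (t.1 s : TrivSqZeroExt k k)) h2

end Groth.Agent.S12757
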