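import Groth.Statements.S12758
import Groth.Agent.S12720
import Groth.Agent.Lib.Helper65.CRingMinVersal
import Groth.Agent.Lib.Helper65.NoethEndo

set_option autoImplicit false
universe u v
open CategoryTheory
open ArtFun

namespace Groth.Agent.S12758

/-- For functors, two minimal versal families of a functor F on Artinian local Λ-algebras with residue
field k with F(k) a point — over complete local Noetherian coefficient rings R₁, R₂ with residue
field k — are isomorphic: there is an isomorphism R₁ ≅ R₂ over Λ, compatible with the augmentations,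
along which the formal element of the first family pushes forward to that of the second. -/
theorem result {Λ : Type u} {k : Type u} [CommRing Λ] [Field k] [Algebra Λ k]
    [IsNoetherianRing Λ] [Module.Finite Λ k]
    {F : ArtFun.Art Λ k ⥤ Type v} (h0 : ArtFun.H0 F) {R₁ R₂ : ArtFun.CRing Λ k}
    (ξ₁ : ArtFun.Family R₁.carrier R₁.res F) (ξ₂ : ArtFun.Family R₂.carrier R₂.res F)
    (h₁ : ξ₁.IsMinimalVersal) (h₂ : ξ₂.IsMinimalVersal) :
    ∃ (e : R₁.carrier ≃ₐ[Λ] R₂.carrier) (he : R₂.res.comp (e : R₁.carrier →ₐ[Λ] R₂.carrier) = R₁.res),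
      (ξ₁.along (e : R₁.carrier →ₐ[Λ] R₂.carrier) he).toFormalElt = ξ₂.toFormalElt := by
  classical
  open Groth.Agent.Lib.Helper65 in
  obtain ⟨g₁, hg₁, hη₁⟩ := Groth.Agent.S12720.result h0 R₁ ξ₁ h₁.1 R₂ ξ₂.toFormalElt
  obtain ⟨g₂, hg₂, hη₂⟩ := Groth.Agent.S12720.result h0 R₂ ξ₂ h₂.1 R₁ ξ₁.toFormalElt
  have hs₁ : Function.Surjective g₁ :=
    h₂.2 R₁ ξ₁.toFormalElt g₁ hg₁ (by rw [← along_toFormalElt]; exact hη₁)
  have hs₂ : Function.Surjective g₂ :=
    h₁.2 R₂ ξ₂.toFormalElt g₂ hg₂ (by rw [← along_toFormalElt]; exact hη₂)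
  have hinj : Function.Injective (g₂.comp g₁) :=
    ringHom_injective_of_surjective_endo ((g₂.comp g₁ : R₁.carrier →ₐ[Λ] R₁.carrier) : R₁.carrier →+* R₁.carrier)
      (hs₂.comp hs₁)
  have hi₁ : Function.Injective g₁ := Function.Injective.of_comp (f := g₂) hinj
  let e : R₁.carrier ≃ₐ[Λ] R₂.carrier := AlgEquiv.ofBijective g₁ ⟨hi₁, hs₁⟩
  have hee : (e : R₁.carrier →ₐ[Λ] R₂.carrier) = g₁ := AlgHom.ext fun _ => rfl
  have key : ∀ (g' : R₁.carrier →ₐ[Λ] R₂.carrier) (hg' : R₂.res.comp g' = R₁.res), g' = g₁ →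
      (ξ₁.along g' hg').toFormalElt = ξ₂.toFormalElt := by
    intro g' hg' h
    subst h
    exact hη₁
  exact ⟨e, by rw [hee]; exact hg₁, key _ _ hee⟩

end Groth.Agent.S12758
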