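import Groth.Statements.S1276
import Groth.Agent.S6284

set_option autoImplicit false
universe u
open FlatMor

namespace Groth.Agent.S1276

attribute [local instance] Algebra.TensorProduct.rightAlgebra

theorem aux {A B : Type u} [CommRing A] [CommRing B] [Algebra A B] [Algebra.FiniteType A B]
    (N : Type u) [AddCommGroup N] [Module B N] [Module.Finite B N]
    (p : Ideal A) [p.IsPrime] :
    ∃ J : Ideal B, J.FG ∧ J ≤ Module.annihilator B N ∧
      ∀ x : PrimeSpectrum (p.Fiber B), J.map (algebraMap B (p.Fiber B)) ≤ x.asIdeal ↔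
        x ∈ Module.support (p.Fiber B) (TensorProduct B (p.Fiber B) N) := by
  classical
  haveI : Algebra.FiniteType p.ResidueField (p.Fiber B) := inferInstance
  haveI : IsNoetherianRing (p.Fiber B) := Algebra.FiniteType.isNoetherianRing p.ResidueField _
  set 𝔞 : Ideal B := Module.annihilator B N with h𝔞
  have hfg : (𝔞.map (algebraMap B (p.Fiber B))).FG := IsNoetherian.noetherian _
  obtain ⟨T, hT, hspan⟩ := (Submodule.fg_span_iff_fg_span_finset_subset
    ((algebraMap B (p.Fiber B)) '' (𝔞 : Set B))).mp hfg
  have hlift : ∀ y : T, ∃ b : B, b ∈ 𝔞 ∧ algebraMap B (p.Fiber B) b = y.1 := fun y => hT y.2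
  choose b hb1 hb2 using hlift
  let T₀ : Finset B := Finset.univ.image b
  refine ⟨Ideal.span (T₀ : Set B), ⟨T₀, rfl⟩, ?_, ?_⟩
  · rw [Ideal.span_le]
    intro c hc
    simp only [T₀, Finset.coe_image, Finset.coe_univ, Set.image_univ, Set.mem_range] at hc
    obtain ⟨y, rfl⟩ := hc
    exact hb1 y
  · intro x
    have hmap : (Ideal.span (T₀ : Set B)).map (algebraMap B (p.Fiber B)) =
        𝔞.map (algebraMap B (p.Fiber B)) := by
      apply le_antisymm
      · apply Ideal.map_mono
        rw [Ideal.span_le]
        intro c hc
        simp only [T₀, Finset.coe_image, Finset.coe_univ, Set.image_univ, Set.mem_range] at hc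
        obtain ⟨y, rfl⟩ := hc
        exact hb1 y
      · change Submodule.span _ _ ≤ _
        rw [hspan, Submodule.span_le]
        intro y hy
        have : y = algebraMap B (p.Fiber B) (b ⟨y, hy⟩) := (hb2 ⟨y, hy⟩).symm
        rw [this]
        apply Ideal.mem_map_of_mem
        apply Ideal.subset_span
        simp only [T₀, Finset.coe_image, Finset.coe_univ, Set.image_univ, Set.mem_range]
        exact ⟨⟨y, hy⟩, rfl⟩
    rw [hmap, Groth.Agent.S6284.result, Set.mem_preimage, Module.support_eq_zeroLocus,
      PrimeSpectrum.mem_zeroLocus, Ideal.map_le_iff_le_comap]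
    rfl

/-- Let B be a finite type A-algebra, N a finite B-module and p a prime of A. Then there is a finitely
generated ideal J of B annihilating N (so N is a module on the finitely presented closed subscheme
V(J) of Spec B) such that a point of the fibre Spec(κ(p) ⊗ B) lies in V(J) if and only if it lies in
the support of the fibre module of N. -/
theorem result {A B : Type u} [CommRing A] [CommRing B] [Algebra A B] [Algebra.FiniteType A B]
    (N : Type u) [AddCommGroup N] [Module B N] [Module A N] [IsScalarTower A B N] [Module.Finite B N] (p : Ideal A) [p.IsPrime] :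
    ∃ J : Ideal B, J.FG ∧ J ≤ Module.annihilator B N ∧
      ∀ x : PrimeSpectrum (p.Fiber B), FlatCA.fiberIdeal p J ≤ x.asIdeal ↔ x ∈ Module.support (p.Fiber B) (FlatCA.fiberMod p B N) := by
  obtain ⟨J, h1, h2, h3⟩ := aux (A := A) (B := B) N p
  exact ⟨J, h1, h2, fun x => h3 x⟩

end Groth.Agent.S1276
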