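import Groth.Statements.S12775
import Groth.Agent.Lib.Helper65.RepPsh
import Groth.Agent.S9874

set_option autoImplicit false
open CategoryTheory AlgebraicGeometry
universe u
open AlgSt

namespace Groth.Agent.S12775

/-- If `𝒳` and `𝒴` are categories fibred in groupoids over `(Sch/S)` that are both representable by
algebraic spaces, then every 1-morphism `f : 𝒳 ⟶ 𝒴` is representable by algebraic spaces. -/
theorem result {S : Scheme.{u}} {𝒳 𝒴 : AlgSt.Cat S}
    (h𝒳 : FibCat.IsFibGrpd 𝒳.p) (h𝒴 : FibCat.IsFibGrpd 𝒴.p)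
    (hX : AlgSt.RepByAlgSp 𝒳) (hY : AlgSt.RepByAlgSp 𝒴) (f : 𝒳 ⥤ᵇ 𝒴) :
    AlgSt.RepByAlgSp1 f := by
  open Groth.Agent.Lib.Helper65 FibCat in
  have key : ∀ {F G : AlgSp.Space S} (a : F.obj ⟶ G.obj), AlgSp.RepBySp a.hom := by
    intro F G a
    rw [AlgSp.repBySp_hom_iff]
    intro U ξ F' fst snd sq
    exact Groth.Agent.S9874.result S G.obj G.property.diag F
      ⟨(AlgSp.yon S).obj U, AlgSp.IsAlgSpace.yon_obj U⟩ a ξ F' fst snd sq
  open Groth.Agent.Lib.Helper65 FibCat in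
  obtain ⟨F, eX, heX⟩ := hX
  open Groth.Agent.Lib.Helper65 FibCat in
  obtain ⟨G, eY, heY⟩ := hY
  open Groth.Agent.Lib.Helper65 FibCat in
  obtain ⟨eY', heY', ⟨i1⟩, ⟨i2⟩⟩ := exists_inverse_equivOver eY heY
  open Groth.Agent.Lib.Helper65 FibCat in
  let f' : AlgSt.ofSp F.obj ⥤ᵇ AlgSt.ofSp G.obj := BasedFunctor.comp (BasedFunctor.comp eX f) eY'
  open Groth.Agent.Lib.Helper65 FibCat in
  let a : F.obj.obj ⟶ G.obj.obj := pshMapOf f'
  open Groth.Agent.Lib.Helper65 FibCat in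
  have h1 : AlgSt.RepByAlgSp1 (Stk.ofPshMap a) :=
    repByAlgSp1_of_repBySp a (key (F := F) (G := G) (ObjectProperty.homMk a))
  open Groth.Agent.Lib.Helper65 FibCat in
  have e : BasedFunctor.comp (Stk.ofPshMap a) eY ≅ BasedFunctor.comp eX f :=
    bWhiskerRightIso (isoOfPshMap f').symm eY ≪≫
      bWhiskerLeftIso (BasedFunctor.comp eX f) i2
  rw [repByAlgSp1_iff_top] at h1 ⊢
  exact repByAlgSpWith_of_square' ⊤ f (Stk.ofPshMap a) eX eY heX heY e h1

end Groth.Agent.S12775
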