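import Groth.Statements.S1278
import Groth.Agent.Lib.Helper12.FlatAtFinite
open TensorProduct

set_option autoImplicit false
universe u
open FlatMor

namespace Groth.Agent.S1278

open IsLocalRing in
/-- Let A be a local ring and B → C a finite local homomorphism of local A-algebras (A → B local), and N
a C-module, viewed also as a B-module. For every local homomorphism of local rings A → A', with base
changes B', C' of B, C and base changes M' (of N over B') and N' (of N over C'): M' is flat over A'
at every prime of B' containing 𝔪_{A'}B' + 𝔪_B B' if and only if N' is flat over A' at every prime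
of C' containing 𝔪_{A'}C' + 𝔪_C C'. -/
theorem result {A B C : Type u} [CommRing A] [IsLocalRing A] [CommRing B] [IsLocalRing B] [CommRing C] [IsLocalRing C]
    [Algebra A B] [IsLocalHom (algebraMap A B)] [Algebra B C] [IsLocalHom (algebraMap B C)] [Algebra A C] [IsScalarTower A B C] [Module.Finite B C]
    (N : Type u) [AddCommGroup N] [Module C N] [Module B N] [IsScalarTower B C N]
    (A' : Type u) [CommRing A'] [IsLocalRing A'] [Algebra A A'] [IsLocalHom (algebraMap A A')]
    (B' M' : Type u) [CommRing B'] [Algebra B B'] [Algebra A' B'] [Algebra A B'] [IsScalarTower A B B'] [IsScalarTower A A' B']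
        [Algebra.IsPushout A B A' B']
        [AddCommGroup M'] [Module B' M'] [Module B M'] [IsScalarTower B B' M'] [Module A' M'] [IsScalarTower A' B' M']
        (fB : N →ₗ[B] M') (hfB : IsBaseChange B' fB)
    (C' N' : Type u) [CommRing C'] [Algebra C C'] [Algebra A' C'] [Algebra A C'] [IsScalarTower A C C'] [IsScalarTower A A' C']
        [Algebra.IsPushout A C A' C']
        [AddCommGroup N'] [Module C' N'] [Module C N'] [IsScalarTower C C' N'] [Module A' N'] [IsScalarTower A' C' N']
        (fC : N →ₗ[C] N') (hfC : IsBaseChange C' fC) :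
    FlatCA.FlatAboveClosedPoints B A' B' M' ↔ FlatCA.FlatAboveClosedPoints C A' C' N' := by
  classical
  -- algebra structures
  letI algBC' : Algebra B C' := ((algebraMap C C').comp (algebraMap B C)).toAlgebra
  haveI : IsScalarTower B C C' := IsScalarTower.of_algebraMap_eq' rfl
  haveI : IsScalarTower A B C' := IsScalarTower.of_algebraMap_eq (fun a => by
    rw [IsScalarTower.algebraMap_apply A C C', IsScalarTower.algebraMap_apply A B C]; rfl)
  let φ : B' →ₐ[A] C' := Algebra.pushoutDesc B' (IsScalarTower.toAlgHom A B C')
    (IsScalarTower.toAlgHom A A' C') (fun x y => mul_comm _ _)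
  letI algB'C' : Algebra B' C' := φ.toRingHom.toAlgebra
  have hφl : ∀ b, φ (algebraMap B B' b) = algebraMap B C' b :=
    fun b => Algebra.pushoutDesc_left B' _ _ _ b
  have hφr : ∀ a, φ (algebraMap A' B' a) = algebraMap A' C' a :=
    fun a => Algebra.pushoutDesc_right B' _ _ _ a
  haveI : IsScalarTower B B' C' := IsScalarTower.of_algebraMap_eq (fun b => (hφl b).symm)
  haveI : IsScalarTower A' B' C' := IsScalarTower.of_algebraMap_eq (fun a => (hφr a).symm)
  haveI : IsScalarTower A B' C' := IsScalarTower.of_algebraMap_eq (fun a => (φ.commutes a).symm)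
  have hpo : Algebra.IsPushout B C B' C' :=
    (Algebra.IsPushout.comp_iff (R := A) (S := B) (T := C) (R' := A') (S' := B') (T' := C')).mp
      inferInstance
  haveI hpo' : Algebra.IsPushout B B' C C' := hpo.symm
  haveI : Algebra.IsIntegral B' C' := Algebra.IsPushout.isIntegral B B' C C'
  -- module structures
  letI : Module B N' := Module.compHom N' (algebraMap B C)
  haveI : IsScalarTower B C N' := ⟨fun b c n => by
    change (b • c) • n = algebraMap B C b • (c • n)
    rw [Algebra.smul_def, mul_smul]⟩
  letI : Module B' N' := Module.compHom N' (algebraMap B' C')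
  haveI : IsScalarTower B' C' N' := ⟨fun b c n => by
    change (b • c) • n = algebraMap B' C' b • (c • n)
    rw [Algebra.smul_def, mul_smul]⟩
  haveI : IsScalarTower A' B' N' := IsScalarTower.of_algebraMap_smul (fun a n => by
    change algebraMap B' C' (algebraMap A' B' a) • n = a • n
    rw [← IsScalarTower.algebraMap_apply A' B' C', algebraMap_smul])
  let e₁ : C' ⊗[C] N ≃ₗ[B'] B' ⊗[B] N := Algebra.IsPushout.cancelBaseChange B B' C C' N
  let e : M' ≃ₗ[B'] N' := hfB.equiv.symm ≪≫ₗ e₁.symm ≪≫ₗ (hfC.equiv.restrictScalars B')
  have hmBC : (maximalIdeal B).map (algebraMap B C) ≤ maximalIdeal C :=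
    ((IsLocalRing.local_hom_TFAE (algebraMap B C)).out 0 2).mp
      (inferInstance : IsLocalHom (algebraMap B C))
  have hBB'C' : (algebraMap B' C').comp (algebraMap B B') =
      (algebraMap C C').comp (algebraMap B C) := by
    rw [← IsScalarTower.algebraMap_eq B B' C']; rfl
  have h1 : ((maximalIdeal A').map (algebraMap A' B') ⊔
      (maximalIdeal B).map (algebraMap B B')).map (algebraMap B' C') ≤
      (maximalIdeal A').map (algebraMap A' C') ⊔ (maximalIdeal C).map (algebraMap C C') := by
    rw [Ideal.map_sup, Ideal.map_map, Ideal.map_map, ← IsScalarTower.algebraMap_eq A' B' C',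
      hBB'C', ← Ideal.map_map]
    exact sup_le_sup le_rfl (Ideal.map_mono hmBC)
  have h2 : ∀ (Q : Ideal C') [Q.IsPrime], ((maximalIdeal A').map (algebraMap A' B') ⊔
      (maximalIdeal B).map (algebraMap B B')).map (algebraMap B' C') ≤ Q →
      (maximalIdeal A').map (algebraMap A' C') ⊔ (maximalIdeal C).map (algebraMap C C') ≤ Q := by
    intro Q _ hQ
    rw [Ideal.map_sup, Ideal.map_map, Ideal.map_map, ← IsScalarTower.algebraMap_eq A' B' C',
      hBB'C', sup_le_iff] at hQ
    refine sup_le hQ.1 ?_
    rw [Ideal.map_le_iff_le_comap]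
    set P := Q.comap (algebraMap C C') with hP
    have hPB : maximalIdeal B ≤ P.comap (algebraMap B C) := by
      rw [hP, Ideal.comap_comap, ← Ideal.map_le_iff_le_comap]
      exact hQ.2
    have hPB' : P.comap (algebraMap B C) = maximalIdeal B :=
      ((IsLocalRing.maximalIdeal.isMaximal B).eq_of_le (Ideal.IsPrime.ne_top inferInstance)
        hPB).symm
    haveI : Algebra.IsIntegral B C := inferInstance
    have hPmax : P.IsMaximal := Ideal.isMaximal_of_isIntegral_of_isMaximal_comap P
      (by rw [hPB']; exact IsLocalRing.maximalIdeal.isMaximal B)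
    exact (IsLocalRing.eq_maximalIdeal hPmax).ge
  have key := Groth.Agent.Lib.Helper12.FlatAtFinite.forall_flatAt_iff_of_integral
    (A' := A') (B' := B') (C' := C') M' N' e _ _ h1 h2
  exact key

end Groth.Agent.S1278
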