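import Groth.Statements.S1279
import Groth.Agent.Lib.Helper93.FiniteTypeExtend
import Groth.Agent.Lib.Helper93.BlowUpSeparate
import Groth.Agent.Lib.Helper93.ConstructibleCompact
import Groth.Agent.Lib.Helper93.BlowUpExists

set_option autoImplicit false
universe u
open FlatMor

namespace Groth.Agent.S1279

open AlgebraicGeometry CategoryTheory Limits Topology in
/-- Let X be a quasi-compact and quasi-separated scheme, U ⊆ X a quasi-compact open, and T₁, T₂ ⊆ U
disjoint subsets which are closed and constructible in U. Then there is a U-admissible blow-up b :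
X' → X such that the closures in X' of the preimages of T₁ and T₂ are disjoint. (Part (1), about
strict transforms of closed subschemes, is not stated.) -/
theorem result {X : Scheme.{u}} [CompactSpace X] [QuasiSeparatedSpace X]
    (U : X.Opens) (hU : IsCompact (U : Set X)) (T₁ T₂ : Set U)
    (h₁ : IsClosed T₁) (h₂ : IsClosed T₂) (c₁ : IsConstructible T₁) (c₂ : IsConstructible T₂) (hd : Disjoint T₁ T₂) :
    ∃ (𝓘 : X.IdealSheafData) (X' : Scheme.{u}) (b : X' ⟶ X), BlowUp.IsBlowUp b 𝓘 ∧ BlowUp.IsAdmissibleFor U 𝓘 ∧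
      Disjoint (closure (b.base ⁻¹' (Subtype.val '' T₁))) (closure (b.base ⁻¹' (Subtype.val '' T₂))) := by
  classical
  have hcU : CompactSpace (U : Scheme.{u}) := isCompact_iff_compactSpace.mp hU
  have hqU : QuasiSeparatedSpace (U : Scheme.{u}) := U.ι.isOpenEmbedding.quasiSeparatedSpace
  have key : ∀ T : Set U, IsClosed T → IsConstructible T →
      ∃ 𝓙 : X.IdealSheafData, BlowUp.IsFiniteTypeIdeal 𝓙 ∧
        (𝓙.support : Set X) ∩ (U : Set X) = Subtype.val '' T := by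
    intro T hT cT
    have hc : IsCompact (Tᶜ : Set U) :=
      Groth.Agent.Lib.Helper93.ConstructibleCompact.isCompact_of_isConstructible
        (Y := (U : Scheme.{u})) cT.compl
    have hc' : IsCompact (Subtype.val '' Tᶜ : Set X) := hc.image continuous_subtype_val
    have ho : IsOpen (Subtype.val '' Tᶜ : Set X) :=
      U.2.isOpenEmbedding_subtypeVal.isOpenMap _ hT.isOpen_compl
    obtain ⟨𝓙, h1, h2⟩ :=
      Groth.Agent.Lib.Helper93.FiniteTypeExtend.exists_isFiniteTypeIdeal_support_eq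
        (Subtype.val '' Tᶜ : Set X)ᶜ ho.isClosed_compl (by rwa [compl_compl])
    refine ⟨𝓙, h1, ?_⟩
    rw [h2]
    ext x
    constructor
    · rintro ⟨hx1, hxU⟩
      by_contra hx
      exact hx1 ⟨⟨x, hxU⟩, fun h => hx ⟨⟨x, hxU⟩, h, rfl⟩, rfl⟩
    · rintro ⟨y, hy, rfl⟩
      refine ⟨?_, y.2⟩
      rintro ⟨z, hz, hzy⟩
      exact hz (Subtype.val_injective hzy ▸ hy)
  obtain ⟨𝓙₁, f1, s1⟩ := key T₁ h₁ c₁
  obtain ⟨𝓙₂, f2, s2⟩ := key T₂ h₂ c₂
  obtain ⟨X', b, hb⟩ := Groth.Agent.Lib.Helper93.BlowUpExists.exists_isBlowUp (𝓙₁ ⊔ 𝓙₂)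
  have hdisj : Disjoint (((𝓙₁ ⊔ 𝓙₂).support : Set X)) (U : Set X) := by
    rw [Set.disjoint_left]
    intro x hx hxU
    rw [Scheme.IdealSheafData.support_sup] at hx
    have hx1 : x ∈ Subtype.val '' T₁ := s1 ▸ ⟨hx.1, hxU⟩
    have hx2 : x ∈ Subtype.val '' T₂ := s2 ▸ ⟨hx.2, hxU⟩
    obtain ⟨y1, hy1, e1⟩ := hx1
    obtain ⟨y2, hy2, e2⟩ := hx2
    have : y1 = y2 := Subtype.ext (e1.trans e2.symm)
    exact Set.disjoint_left.mp hd hy1 (this ▸ hy2)
  have hTU : ∀ T : Set U, Disjoint (Subtype.val '' T : Set X) ((𝓙₁ ⊔ 𝓙₂).support : Set X) := by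
    intro T
    rw [Set.disjoint_left]
    rintro _ ⟨y, _, rfl⟩ hy
    exact Set.disjoint_left.mp hdisj hy y.2
  refine ⟨𝓙₁ ⊔ 𝓙₂, X', b, hb, ⟨?_, hdisj⟩, ?_⟩
  · intro W
    rw [Scheme.IdealSheafData.ideal_sup]
    exact Submodule.FG.sup (f1 W) (f2 W)
  · exact Groth.Agent.Lib.Helper93.BlowUpSeparate.disjoint_closure_preimage b 𝓙₁ 𝓙₂ hb.1
      (Subtype.val '' T₁) (Subtype.val '' T₂) (s1 ▸ Set.inter_subset_left)
      (s2 ▸ Set.inter_subset_left) (hTU T₁) (hTU T₂)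

end Groth.Agent.S1279
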