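import Groth.Statements.S6405
import Groth.Agent.Lib.Helper31.FibCat

set_option autoImplicit false
open CategoryTheory
universe v u
open FibCat

namespace Groth.Agent.S6405

open Functor in
/-- (2) ⇒ (1): if `𝒳` is fibred in groupoids over `C` and the canonical functor `I_𝒳 ⟶ 𝒳` from its
inertia is an equivalence over `C`, then `𝒳` is fibred in setoids. (The published statement is an
equivalence; this row states only that the inertia condition implies that `𝒳` is fibred in setoids.) -/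
theorem result {C : Type u} [Category.{v} C] {𝒳 : BasedCategory.{v, max u v} C} (h𝒳 : FibCat.IsFibGrpd 𝒳.p)
    (h : FibCat.IsEquivOver (FibCat.inertiaToBase (FibCat.toSelf 𝒳))) : FibCat.IsFibSetoid 𝒳.p := by
  refine ⟨h𝒳, ?_⟩
  have hE : (FibCat.inertiaToBase (FibCat.toSelf 𝒳)).toFunctor.IsEquivalence :=
    Groth.Agent.Lib.Helper31.isEquivalence_of_isEquivOver _ h
  -- every automorphism over an identity is trivial
  have key : ∀ (y : 𝒳.obj) (α : y ≅ y), 𝒳.p.map α.hom = 𝟙 (𝒳.p.obj y) → α.hom = 𝟙 y := by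
    intro y α hα
    let A : (FibCat.inertia (FibCat.toSelf 𝒳)).obj := ⟨y, α, hα⟩
    let B : (FibCat.inertia (FibCat.toSelf 𝒳)).obj := ⟨y, Iso.refl y, (FibCat.toSelf 𝒳).map_id y⟩
    let g : (FibCat.inertiaToBase (FibCat.toSelf 𝒳)).toFunctor.obj A ⟶
        (FibCat.inertiaToBase (FibCat.toSelf 𝒳)).toFunctor.obj B := 𝟙 y
    let f : A ⟶ B := (FibCat.inertiaToBase (FibCat.toSelf 𝒳)).toFunctor.preimage g
    have hf : f.hom = 𝟙 y := (FibCat.inertiaToBase (FibCat.toSelf 𝒳)).toFunctor.map_preimage g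
    have := f.comm
    rw [hf] at this
    simpa [A, B] using this
  intro U a b
  constructor
  intro φ ψ
  apply Fiber.hom_ext
  have hφ : 𝒳.p.IsHomLift (𝟙 U) φ.1 := φ.2
  have hψ : 𝒳.p.IsHomLift (𝟙 U) ψ.1 := ψ.2
  have e1 : 𝒳.p.map φ.1 = 𝒳.p.map ψ.1 := by
    rw [IsHomLift.fac' 𝒳.p (𝟙 U) φ.1, IsHomLift.fac' 𝒳.p (𝟙 U) ψ.1]
  have hisoψ : IsIso (𝒳.p.map ψ.1) := by
    rw [IsHomLift.fac' 𝒳.p (𝟙 U) ψ.1]; infer_instance
  have hisoφ : IsIso (𝒳.p.map φ.1) := by rw [e1]; exact hisoψ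
  have i1 : IsIso ψ.1 := Groth.Agent.Lib.Helper31.isIso_of_isFibGrpd 𝒳.p h𝒳 ψ.1
  have i2 : IsIso φ.1 := Groth.Agent.Lib.Helper31.isIso_of_isFibGrpd 𝒳.p h𝒳 φ.1
  let α : b.1 ≅ b.1 := (asIso ψ.1).symm ≪≫ asIso φ.1
  have hα : 𝒳.p.map α.hom = 𝟙 (𝒳.p.obj b.1) := by
    simp only [α, Iso.trans_hom, Iso.symm_hom, asIso_inv, asIso_hom, Functor.map_comp,
      Functor.map_inv, e1]
    simp
  have := key b.1 α hα
  simp only [α, Iso.trans_hom, Iso.symm_hom, asIso_inv, asIso_hom, IsIso.inv_comp_eq,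
    Category.comp_id] at this
  exact this

end Groth.Agent.S6405
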