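import Groth.Statements.S12791
import Groth.Agent.Lib.Helper66.SmBoot10
import Groth.Agent.Lib.Helper66.InertiaSetoid
import Groth.Agent.Lib.Helper65.StkBasic
import Groth.Agent.S6405

set_option autoImplicit false
open CategoryTheory AlgebraicGeometry
universe u
open AlgSt

namespace Groth.Agent.S12791

/-- (2) ⇔ (3): for an algebraic stack `𝒳` over `S`, the canonical 1-morphism `I_𝒳 ⟶ 𝒳` from the inertia
is an equivalence over `(Sch/S)` if and only if `𝒳` is representable by an algebraic space. -/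
theorem result {S : Scheme.{u}} {𝒳 : AlgSt.Cat S}
    (h𝒳 : AlgSt.IsAlgStack Scheme.fppfPrecoverage 𝒳) :
    FibCat.IsEquivOver (FibCat.inertiaToBase (FibCat.toSelf 𝒳)) ↔ AlgSt.RepByAlgSp 𝒳 := by
  constructor
  · intro h
    exact Groth.Agent.Lib.Helper66.SmBoot.repByAlgSp_of_isAlgStack_of_isFibSetoid h𝒳
      (Groth.Agent.S6405.result h𝒳.isStack.1 h)
  · rintro ⟨F, e, he⟩
    exact Groth.Agent.Lib.Helper66.InertiaSetoid.inertiaToBase_isEquivOver_of_isFibSetoid
      (Groth.Agent.Lib.Helper65.isFibSetoid_of_equivOver e he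
        (Groth.Agent.Lib.Helper65.isFibSetoid_ofPsh F.obj.obj))

end Groth.Agent.S12791
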