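import Groth.Statements.S12803
import Groth.Agent.Lib.Helper65.FibTop

set_option autoImplicit false
open CategoryTheory
universe v₂ u₂ v u
open Stk

namespace Groth.Agent.S12803

/-- Let `p : 𝒳 ⥤ C` make `𝒳` fibred in groupoids over `C`, let `J` be a topology on `C` and `x` an
object of `𝒳`. The functor `𝒳/x ⥤ C/p(x)` induced by `p` is an equivalence of categories, and it
identifies the localisation at `x` of the topology on `𝒳` inherited from `J` with the localisation
of `J` at `p x`: a sieve on an object of `𝒳/x` covers if and only if its image covers. -/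
theorem result {C : Type u} [Category.{v} C] {𝒳 : Type u₂} [Category.{v₂} 𝒳] (p : 𝒳 ⥤ C)
    (hp : FibCat.IsFibGrpd p) (J : GrothendieckTopology C) (x : 𝒳) :
    (Over.post p : Over x ⥤ Over (p.obj x)).IsEquivalence ∧
      ∀ (a : Over x) (S : Sieve a), S ∈ (p.restrictedTopology J).over x a ↔
        S.functorPushforward (Over.post p) ∈ (J.over (p.obj x)) ((Over.post p).obj a) := by
  refine ⟨?_, ?_⟩
  · have hfaith : (Over.post p : Over x ⥤ Over (p.obj x)).Faithful := by
      constructor
      intro a a' f f' hff
      have h1 : p.map f.left = p.map f'.left := congrArg CommaMorphism.left hff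
      apply Over.OverMorphism.ext
      refine Groth.Agent.Lib.Helper65.FibTop.factor_ext' p hp a'.hom _ _ h1 ?_
      rw [Over.w f, Over.w f']
    have hfull : (Over.post p : Over x ⥤ Over (p.obj x)).Full := by
      constructor
      intro a a' g
      have hg : p.map a.hom = g.left ≫ p.map a'.hom := (Over.w g).symm
      obtain ⟨χ, hχ, hχ'⟩ := Groth.Agent.Lib.Helper65.FibTop.exists_factor' p hp a'.hom a.hom g.left hg
      refine ⟨Over.homMk χ hχ', ?_⟩
      apply Over.OverMorphism.ext
      exact hχ
    have hess : (Over.post p : Over x ⥤ Over (p.obj x)).EssSurj := by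
      constructor
      intro b
      obtain ⟨y, φ, hφ⟩ := hp.exists_lift (x := x) b.hom
      have hdom : p.obj y = b.left := IsHomLift.domain_eq p b.hom φ
      refine ⟨Over.mk φ, ⟨Over.isoMk (eqToIso hdom) ?_⟩⟩
      have := IsHomLift.fac' p b.hom φ
      change eqToHom hdom ≫ b.hom = p.map φ
      rw [this]
      simp
    exact { }
  · intro a S
    rw [GrothendieckTopology.mem_over_iff, GrothendieckTopology.mem_over_iff,
      Groth.Agent.Lib.Helper65.FibTop.mem_iff p hp J]
    change (S.functorPushforward (Over.forget x)).functorPushforward p ∈ _ ↔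
      (S.functorPushforward (Over.post p)).functorPushforward (Over.forget (p.obj x)) ∈ _
    rw [← Sieve.functorPushforward_comp, ← Sieve.functorPushforward_comp]
    rfl

end Groth.Agent.S12803
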