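import Groth.Statements.S12809
import Groth.Agent.Lib.Helper65.RelStackOver

set_option autoImplicit false
open CategoryTheory
universe v u
open Stk

namespace Groth.Agent.S12809

/-- Let `F : 𝒮 ⟶ 𝒯` be a functor over `C` between categories fibred in groupoids, with `𝒯` a stack in
groupoids for the topology `J` and the underlying functor of `F` faithful. Assume that for every
object `U` and every `y : C/U ⟶ 𝒯` over `C`, the 2-fibre product `(C/U) ×_𝒯 𝒮`, viewed as a category
over `C/U` through its first projection, is a stack for the topology on `C/U` induced by `J`. Then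
`𝒮` is a stack in groupoids for `J`. (The published statement asks `F` to be faithful on fibre
categories, which for categories fibred in groupoids is faithfulness of `F`, and phrases the last
hypothesis as the sheaf property, on `C/U`, of the presheaf of isomorphism classes of pairs `(x, F x
≅ y|_V)`; that presheaf is the presheaf of isomorphism classes of this 2-fibre product, which is
fibred in setoids over `C/U`.) -/
theorem result {C : Type u} [Category.{v} C] (J : GrothendieckTopology C) {𝒮 𝒯 : BasedCategory.{v, max u v} C}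
    (h𝒮 : FibCat.IsFibGrpd 𝒮.p) (h𝒯 : Stk.IsStack J 𝒯) (F : 𝒮 ⥤ᵇ 𝒯) [F.toFunctor.Faithful]
    (h3 : ∀ (U : C) (y : FibCat.overCat U ⥤ᵇ 𝒯),
      Stk.IsStack (J.over U) (BasedCategory.ofFunctor ((FibCat.fpFst y F).toFunctor : (FibCat.fp y F).obj ⥤ Over U))) :
    Stk.IsStack J 𝒮 := by
  refine ⟨h𝒮, ?_⟩
  intro U R hR
  have h1 : (Stk.restr (Stk.sieveIncl R) 𝒯).IsEquivalence := h𝒯.2 R hR
  apply Groth.Agent.Lib.Helper65.RelStackOver.restr_isEquivalence_of_fp' (Stk.sieveIncl R) F h𝒯.1 h1
  intro y
  have hO : FibCat.IsFibGrpd (FibCat.overCat U).p := Groth.Agent.Lib.Helper31.isFibGrpd_overForget U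
  have hu : (FibCat.overCat U).p.IsHomLift (𝟙 U) (𝟙 (Over.mk (𝟙 U))) :=
    IsHomLift.id (p := (FibCat.overCat U).p) rfl
  obtain ⟨c⟩ := Groth.Agent.Lib.Helper65.StackOverStack.exists_c (𝒳 := FibCat.overCat U)
    (Over.mk (𝟙 U)) rfl (BasedFunctor.id (FibCat.overCat U)) (𝟙 _) (hu := hu)
  have hcov : Groth.Agent.Lib.Helper65.OverPostEq.sievePull (𝒳 := FibCat.overCat U)
      (Over.mk (𝟙 U)) rfl R ∈ (J.over U) (Over.mk (𝟙 U)) := by
    have key : Sieve.overEquiv (Over.mk (𝟙 U)) (Groth.Agent.Lib.Helper65.OverPostEq.sievePull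
        (𝒳 := FibCat.overCat U) (Over.mk (𝟙 U)) rfl R) ∈ J U := by
      refine J.superset_covering ?_ hR
      intro W g hg
      refine (Sieve.overEquiv_iff (Y := Over.mk (𝟙 U)) _ (show W ⟶ (Over.mk (𝟙 U)).left from g)).2 ?_
      change R (g ≫ eqToHom rfl)
      rw [eqToHom_refl, Category.comp_id]
      exact hg
    exact key
  exact (Groth.Agent.Lib.Helper65.StackOverStack.isStackFor_iff (𝒳 := FibCat.overCat U)
    (𝒴 := BasedCategory.ofFunctor ((FibCat.fpFst y F).toFunctor : (FibCat.fp y F).obj ⥤ Over U))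
    (Over.mk (𝟙 U)) rfl R (BasedFunctor.id _) c (h3 U y).1).1 ((h3 U y).2 _ hcov)

end Groth.Agent.S12809
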