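import Groth.Statements.S12814
import Groth.Agent.Lib.Helper65.UpFib

set_option autoImplicit false
open CategoryTheory CategoryTheory.Limits
universe v₃ u₃ v₂ u₂ v u
open Stk

namespace Groth.Agent.S12814

/-- Let `u : C ⥤ D` be a functor, where `C` has all nonempty finite limits and `u` preserves them, and
let `𝒮` be fibred in groupoids over `C`. Then the localisation `u_p 𝒮 = R⁻¹ (u_pp 𝒮)`, with the
functor to `D` induced by `(x, V, φ) ↦ V`, is fibred in groupoids over `D`. (The published statement
takes `R` with `D`-component an identity, which has the same localisation.) -/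
theorem result {C : Type u} [Category.{v} C] {D : Type u₂} [Category.{v₂} D] (u : C ⥤ D)
    (𝒮 : BasedCategory.{v₃, u₃} C) (h𝒮 : FibCat.IsFibGrpd 𝒮.p)
    (hC : ∀ (I : Type) [SmallCategory I] [FinCategory I], Nonempty I → HasLimitsOfShape I C)
    (hu : ∀ (I : Type) [SmallCategory I] [FinCategory I], Nonempty I → PreservesLimitsOfShape I u) :
    FibCat.IsFibGrpd (Stk.up u 𝒮).p := by
  haveI : HasPullbacks C := hC WalkingCospan ⟨WalkingCospan.one⟩
  haveI : HasEqualizers C := hC WalkingParallelPair ⟨WalkingParallelPair.zero⟩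
  haveI : PreservesLimitsOfShape WalkingCospan u := hu WalkingCospan ⟨WalkingCospan.one⟩
  haveI : PreservesLimitsOfShape WalkingParallelPair u := hu WalkingParallelPair ⟨WalkingParallelPair.zero⟩
  haveI : 𝒮.p.IsFibered := Groth.Agent.Lib.Helper31.isFibered_of_isFibGrpd 𝒮.p h𝒮
  haveI := Groth.Agent.Lib.Helper65.UppFrac.hasRightCalculusOfFractions u 𝒮
  exact Groth.Agent.Lib.Helper65.UpFib.isFibGrpd h𝒮

end Groth.Agent.S12814
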