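import Groth.Statements.S12819
import Groth.Agent.Lib.Helper65.StSurj

set_option autoImplicit false
universe u
open CategoryTheory AlgebraicGeometry
open AlgSt

namespace Groth.Agent.S12819

/-- For a morphism `f : 𝒳 ⟶ 𝒴` of algebraic stacks over `S` that is representable by algebraic spaces,
the map `|f| : |𝒳| → |𝒴|` is surjective if and only if every base change of `f` to a scheme is a
surjective morphism of algebraic spaces. -/
theorem result {S : Scheme.{u}} {𝒳 𝒴 : AlgSt.Cat S}
    (h𝒳 : AlgSt.IsAlgStack Scheme.fppfPrecoverage 𝒳) (h𝒴 : AlgSt.IsAlgStack Scheme.fppfPrecoverage 𝒴)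
    (f : 𝒳 ⥤ᵇ 𝒴) (hf : AlgSt.RepByAlgSp1 f) :
    AlgSt.IsSurjective f ↔ AlgSt.RepByAlgSpWith AlgSp.IsSurjectiveMor f := by
  constructor
  · intro h
    exact Groth.Agent.Lib.Helper65.repByAlgSpWith_isSurjectiveMor_of_isSurjective h𝒳.isStack.1 h𝒴.isStack.1
      f hf h
  · intro h
    exact Groth.Agent.Lib.Helper65.isSurjective_of_repByAlgSpWith h𝒳.isStack.1 h𝒴.isStack.1 f h

end Groth.Agent.S12819
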