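import Groth.Statements.S12835
import Groth.Agent.Lib.Helper65.SpectralPts

set_option autoImplicit false
universe u
open CategoryTheory AlgebraicGeometry
open AlgSt

namespace Groth.Agent.S12835

/-- Let `𝒳` be an algebraic stack over `S` whose diagonal is quasi-compact (for instance `𝒳`
quasi-separated). Then `|𝒳|` has an open covering by spectral spaces; in particular `|𝒳|` is sober.
Here the diagonal is `𝒳 ⟶ 𝒳 ×_S 𝒳` over the base and `S` is taken quasi-separated, under which this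
agrees with the absolute condition of the published statement. -/
theorem result {S : Scheme.{u}} [QuasiSeparatedSpace S]
    {𝒳 : AlgSt.Cat S} (h𝒳 : AlgSt.IsAlgStack Scheme.fppfPrecoverage 𝒳)
    (hΔ : AlgSt.RepByAlgSpWith AlgSp.IsQuasiCompactMor (FibCat.diag (FibCat.toSelf 𝒳))) :
    (∀ x : AlgSt.Points 𝒳, ∃ U : Set (AlgSt.Points 𝒳), IsOpen U ∧ x ∈ U ∧ SpectralSpace ↥U) ∧
      QuasiSober (AlgSt.Points 𝒳) ∧ T0Space (AlgSt.Points 𝒳) := by
  have hfib := h𝒳.isStack.1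
  have key : ∀ x : AlgSt.Points 𝒳, ∃ U : Set (AlgSt.Points 𝒳), IsOpen U ∧ x ∈ U ∧ SpectralSpace ↥U := by
    intro x₀
    obtain ⟨X₀, a₀, ha1, ha2⟩ := h𝒳.atlas
    obtain ⟨v, rfl⟩ := Groth.Agent.Lib.Helper65.ofChart_surjective hfib a₀ ha2 x₀
    obtain ⟨O, hO, hvO, -⟩ :=
      TopologicalSpace.Opens.isBasis_iff_nbhd.1 X₀.left.isBasis_affineOpens (U := ⊤) (x := v) trivial
    let U : Over S := Over.mk (Scheme.Opens.ι O ≫ X₀.hom)
    let ι : U ⟶ X₀ := Over.homMk (Scheme.Opens.ι O) rfl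
    let x : FibCat.overCat U ⥤ᵇ 𝒳 := BasedFunctor.comp (AlgSt.overMap ι) a₀
    have hUaff : IsAffine U.left := hO
    have hfun : AlgSt.Points.ofChart x = AlgSt.Points.ofChart a₀ ∘ (Scheme.Opens.ι O).base := by
      funext t
      exact Groth.Agent.Lib.Helper65.ofChart_overMap_comp ι a₀ t
    have hopen : IsOpenMap (AlgSt.Points.ofChart x) := by
      rw [hfun]
      exact (Groth.Agent.Lib.Helper65.isOpenMap_ofChart_smooth hfib a₀ ha1).comp
        (Scheme.Opens.ι O).isOpenEmbedding.isOpenMap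
    refine ⟨Set.range (AlgSt.Points.ofChart x), hopen.isOpen_range, ?_,
      Groth.Agent.Lib.Helper65.SpectralPts.spectralSpace_range_ofChart h𝒳 hΔ U x hopen⟩
    refine ⟨⟨v, hvO⟩, ?_⟩
    rw [hfun]
    rfl
  refine ⟨key, ?_, ?_⟩
  · let 𝒮 : Set (Set (AlgSt.Points 𝒳)) := {W | IsOpen W ∧ SpectralSpace ↥W}
    have h1 : ∀ s : 𝒮, IsOpen (s : Set (AlgSt.Points 𝒳)) := fun s => s.2.1
    have h2 : ∀ s : 𝒮, QuasiSober s := fun s => by
      have := s.2.2
      infer_instance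
    refine quasiSober_of_open_cover 𝒮 h1 ?_
    apply Set.eq_univ_of_forall
    intro x₀
    obtain ⟨W, hW, hxW, hsp⟩ := key x₀
    exact Set.mem_sUnion.2 ⟨W, ⟨hW, hsp⟩, hxW⟩
  · refine T0Space.of_open_cover fun x₀ => ?_
    obtain ⟨W, hW, hxW, hsp⟩ := key x₀
    exact ⟨W, hxW, hW, inferInstance⟩

end Groth.Agent.S12835
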