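import Groth.Statements.S12842
import Groth.Agent.Lib.Helper66.FppfEssSurj
import Groth.Agent.Lib.Helper66.InertiaSetoid
import Groth.Agent.Lib.Helper65.StkBasic
import Groth.Agent.S12762

set_option autoImplicit false
open CategoryTheory AlgebraicGeometry
universe u
open AlgSt

namespace Groth.Agent.S12842

/-- (2) ⇒ (1): let `f : 𝒳 ⟶ 𝒴` be a 1-morphism of algebraic stacks over `S`, `W` an algebraic space over
`S` and `w : W ⟶ 𝒴` surjective, flat and locally of finite presentation. If the 2-fibre product `W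
×_𝒴 𝒳` is representable by an algebraic space, then `f` is representable by algebraic spaces. -/
theorem result {S : Scheme.{u}} {𝒳 𝒴 : AlgSt.Cat S}
    (h𝒳 : AlgSt.IsAlgStack Scheme.fppfPrecoverage 𝒳) (h𝒴 : AlgSt.IsAlgStack Scheme.fppfPrecoverage 𝒴)
    (f : 𝒳 ⥤ᵇ 𝒴) (W : AlgSp.Space S) (w : AlgSt.ofSp W.obj ⥤ᵇ 𝒴)
    (hw₁ : AlgSt.RepByAlgSpWith (AlgSp.LocP @Flat) w)
    (hw₂ : AlgSt.RepByAlgSpWith (AlgSp.LocP @LocallyOfFinitePresentation) w)
    (hw₃ : AlgSt.RepByAlgSpWith AlgSp.IsSurjectiveMor w)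
    (h : AlgSt.RepByAlgSp (FibCat.fp w f)) : AlgSt.RepByAlgSp1 f := by
  have hfibW : FibCat.IsFibGrpd (AlgSt.ofSp W.obj).p := Stk.isFibGrpd_ofPsh _
  have hset : FibCat.IsFibSetoid (FibCat.fp w f).p := by
    obtain ⟨F, e, he⟩ := h
    exact Groth.Agent.Lib.Helper65.isFibSetoid_of_equivOver e he
      (Groth.Agent.Lib.Helper65.isFibSetoid_ofPsh F.obj.obj)
  have hp : (FibCat.fp w f).p.Faithful :=
    Groth.Agent.Lib.Helper66.InertiaSetoid.faithful_p_of_isFibSetoid hset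
  have hfaith' : (FibCat.fpFst w f).toFunctor.Faithful := by
    constructor
    intro a b φ ψ hφψ
    apply hp.map_injective
    have h1 := Functor.congr_hom (FibCat.fpFst w f).w φ
    have h2 := Functor.congr_hom (FibCat.fpFst w f).w ψ
    have h3 : ((FibCat.fpFst w f).toFunctor ⋙ (AlgSt.ofSp W.obj).p).map φ =
        ((FibCat.fpFst w f).toFunctor ⋙ (AlgSt.ofSp W.obj).p).map ψ := by
      change (AlgSt.ofSp W.obj).p.map ((FibCat.fpFst w f).toFunctor.map φ) =
        (AlgSt.ofSp W.obj).p.map ((FibCat.fpFst w f).toFunctor.map ψ)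
      exact congrArg _ hφψ
    have h4 := h1.symm.trans (h3.trans h2)
    rw [cancel_epi, cancel_mono] at h4
    exact h4
  have hless := Groth.Agent.Lib.Helper66.FppfEssSurj.locallyEssSurj_of_fppf h𝒴.isStack.1 hfibW w
    hw₁ hw₂ hw₃
  have hpre : ∀ ⦃U : Over S⦄ (R : Sieve U), R ∈ AlgSp.J S U → (Stk.resSieve R 𝒳).Faithful := by
    intro U R hR
    have hE : (Stk.resSieve R 𝒳).IsEquivalence := h𝒳.isStack.2 R hR
    exact hE.faithful
  have hf : f.toFunctor.Faithful :=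
    Groth.Agent.Lib.Helper65.faithful_of_fpFst_faithful (AlgSp.J S) h𝒴.isStack.1 h𝒳.isStack.1 hpre
      w f hless hfaith'
  exact (Groth.Agent.S12762.result h𝒳 h𝒴 f).1 hf

end Groth.Agent.S12842
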