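import Groth.Statements.S12867
import Groth.Agent.Lib.Helper65.RedSubSt

set_option autoImplicit false
open CategoryTheory AlgebraicGeometry
universe u
open AlgSt

namespace Groth.Agent.S12867

/-- Let `𝒳` be an algebraic stack over `S` and `T ⊂ |𝒳|` a closed subset. Then there is a reduced closed
substack `𝒵 ⊂ 𝒳` with `|𝒵| = T`. (The published statement also asserts uniqueness of such a
substack, whose proof is not given there; only existence is stated here.) -/
theorem result {S : Scheme.{u}} {𝒳 : AlgSt.Cat S}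
    (h𝒳 : AlgSt.IsAlgStack Scheme.fppfPrecoverage 𝒳) (T : Set (AlgSt.Points 𝒳)) (hT : IsClosed T) :
    ∃ Q : 𝒳.obj → Prop, AlgSt.IsClosedSubstack 𝒳 Q Scheme.fppfPrecoverage ∧ Set.range (AlgSt.Points.map (AlgSt.subIncl 𝒳 Q)) = T ∧
      AlgSt.SmoothLocally (fun X => IsReduced X) (AlgSt.fullSub 𝒳 Q) := by
  obtain ⟨U₀, u, hu1, hu2⟩ := h𝒳.atlas
  have hcl : IsClosed (AlgSt.Points.ofChart u ⁻¹' T) := by
    rw [← isOpen_compl_iff, ← Set.preimage_compl]
    exact (AlgSt.Points.isOpen_iff.1 hT.isOpen_compl) U₀ u hu1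
  let E : TopologicalSpace.Closeds ↥U₀.left := ⟨AlgSt.Points.ofChart u ⁻¹' T, hcl⟩
  exact ⟨Groth.Agent.Lib.Helper65.RedSubSt.QE u E,
    Groth.Agent.Lib.Helper65.RedSubSt.main u E h𝒳 hu1 hu2 T rfl⟩

end Groth.Agent.S12867
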