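import Groth.Statements.S12887
import Mathlib
import Groth.Agent.Lib.Helper30.RDerNat
import Groth.Agent.Lib.Helper30.ModEpi
import Groth.Agent.Lib.Helper30.ExtZeroFlat

set_option autoImplicit false
universe u
open CategoryTheory CategoryTheory.Limits
open ModSite

namespace Groth.Agent.S12887

/-- On a small ringed site (C, J, O) with O commutative, let X be an object of C, M an O-module and q ≥
0. The formation of the local Ext sheaves ℰxt^q_O(M, -) (right derived functors of the internal Hom
ℋom_O(M, -)) commutes with localisation: the functor N ↦ ℰxt^q_O(M, N)|_X is isomorphic to N ↦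
ℰxt^q_{O|_X}(M|_X, N|_X). (Existence of an isomorphism of functors only. The internal Hom functors
of M and of M|_X and injective resolutions of modules on C and on C/X are the stated instance
hypotheses, all true.) -/
theorem result {C : Type u} [SmallCategory C] {J : GrothendieckTopology C}
    (O : Sheaf J CommRingCat.{u}) (X : C) (M : ModSite.Mod O)
    [ModSite.HasSheafHom M] [ModSite.HasSheafHom ((ModSite.restr O X).obj M)]
    [HasInjectiveResolutions (ModSite.Mod O)] [HasInjectiveResolutions (ModSite.Mod (O.over X))] (q : ℕ) :
    Nonempty (ModSite.extSh M q ⋙ ModSite.restr O X ≅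
      ModSite.restr O X ⋙ ModSite.extSh ((ModSite.restr O X).obj M) q) := by
  open Groth.Agent.Lib.Helper30.RDerNat Groth.Agent.Lib.Helper30.ModEpi
    Groth.Agent.Lib.Helper30.ExtZero in
  -- exactness of restriction and preservation of injectives
  have hadd : (ModSite.restr O X).Additive := restr_additive O X
  have hcolim : PreservesFiniteColimits (ModSite.restr O X) := restr_preservesFiniteColimits O X
  have hlim : PreservesFiniteLimits (ModSite.restr O X) := inferInstance
  have hboth : PreservesFiniteLimits (ModSite.restr O X) ∧
      PreservesFiniteColimits (ModSite.restr O X) := ⟨hlim, hcolim⟩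
  have hhom : (ModSite.restr O X).PreservesHomology :=
    ((Functor.exact_tfae (ModSite.restr O X)).out 3 2).mp hboth
  have hmono : (ModSite.extZero O X).PreservesMonomorphisms := jS_preservesMono O X
  have hinj : (ModSite.restr O X).PreservesInjectiveObjects :=
    Functor.preservesInjectiveObjects_of_adjunction_of_preservesMonomorphisms
      (ModSite.extZeroAdj O X)
  -- the isomorphism in degree zero
  let adj₁ := (ModSite.extZeroAdj O X).comp (ModSite.sheafHomAdj M)
  let adj₂ := (ModSite.sheafHomAdj ((ModSite.restr O X).obj M)).comp (ModSite.extZeroAdj O X)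
  let e₀ := conjugateIsoEquiv adj₁ adj₂ (projIsoP O X M)
  have e₁ := rightDerivedCompExact (ModSite.sheafHom M) (ModSite.restr O X) q
  have e₃ := exactCompRightDerived (ModSite.restr O X)
    (ModSite.sheafHom ((ModSite.restr O X).obj M)) q
  have e₂ := rightDerivedMapIso e₀ q
  exact ⟨e₁.symm ≪≫ e₂ ≪≫ e₃⟩

end Groth.Agent.S12887
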