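import Groth.Statements.S12890
import Groth.Agent.Lib.Helper5.ExtZeroSub
import Groth.Agent.Lib.Helper33.LocCohLES
import Groth.Agent.Lib.Helper33.DeltaPrecomp
import Groth.Agent.Lib.Helper30.ModEpi
import Groth.Agent.Lib.Helper30.ExtZeroFlat

set_option autoImplicit false
universe u
open CategoryTheory CategoryTheory.Limits
open ModSite

namespace Groth.Agent.S12890

/-- On a small ringed site (C, J, O) with O commutative, let U be a subterminal object (every object has
at most one morphism to U), Z its closed complement and j_{U*} the direct image of modules along the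
localisation C/U → C. Then ℋ^1_Z is isomorphic to the cokernel of the unit M → j_{U*}(M|_U) (so that
0 → ℋ^0_Z(M) → M → j_{U*}(M|_U) → ℋ^1_Z(M) → 0 is exact), and for every q ≥ 1 the functor ℋ^{q+1}_Z
is isomorphic to M ↦ R^q j_{U*}(M|_U). (Existence of isomorphisms of functors only. The direct image
j_{U*} with its additivity and injective resolutions of modules on C and on C/U are the stated
instance hypotheses, all true.) -/
theorem result {C : Type u} [SmallCategory C] {J : GrothendieckTopology C}
    (O : Sheaf J CommRingCat.{u}) (U : C)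
    (hU : ∀ V : C, Subsingleton (V ⟶ U)) [ModSite.HasPushOver O U] [(ModSite.pushOver O U).Additive]
    [HasInjectiveResolutions (ModSite.Mod O)] [HasInjectiveResolutions (ModSite.Mod (O.over U))] :
    Nonempty (ModSite.HZsh O U 1 ≅ cokernel (ModSite.restrPushOverAdj O U).unit) ∧
      ∀ q : ℕ, 1 ≤ q →
        Nonempty (ModSite.HZsh O U (q + 1) ≅ ModSite.restr O U ⋙ (ModSite.pushOver O U).rightDerived q) := by
  open Groth.Agent.Lib.Helper30.ModEpi Groth.Agent.Lib.Helper30.ExtZero
    Groth.Agent.Lib.Helper33.FunctorLES Groth.Agent.Lib.Helper33.ExtDelta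
    Groth.Agent.Lib.Helper5.ExtZeroSub in
  have hadd : (ModSite.restr O U).Additive := restr_additive O U
  have hcolim : PreservesFiniteColimits (ModSite.restr O U) := restr_preservesFiniteColimits O U
  have hmono : (ModSite.extZero O U).PreservesMonomorphisms := jS_preservesMono O U
  have hinj : (ModSite.restr O U).PreservesInjectiveObjects :=
    Functor.preservesInjectiveObjects_of_adjunction_of_preservesMonomorphisms
      (ModSite.extZeroAdj O U)
  have hlim₁ : PreservesFiniteLimits (ModSite.restr O U) :=
    have := (ModSite.extZeroAdj O U).rightAdjoint_preservesLimits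
    inferInstance
  have hlim₂ : PreservesFiniteLimits (ModSite.pushOver O U) :=
    have := (ModSite.restrPushOverAdj O U).rightAdjoint_preservesLimits
    inferInstance
  have hlim₃ : PreservesFiniteLimits (ModSite.restr O U ⋙ ModSite.pushOver O U) := inferInstance
  have hlim₀ : PreservesFiniteLimits (𝟭 (ModSite.Mod O)) := inferInstance
  have w : ModSite.sectOnι O U ≫ (ModSite.restrPushOverAdj O U).unit = 0 := by
    apply NatTrans.ext
    funext F
    exact kernel.condition ((ModSite.restrPushOverAdj O U).unit.app F)
  have hex : ExactOnInjectives (ModSite.sectOnι O U) (ModSite.restrPushOverAdj O U).unit w := by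
    intro I hI
    have hepi : Epi ((ModSite.restrPushOverAdj O U).unit.app I) :=
      epi_unit_app_of_injective O U hU I
    exact
      { exact := ShortComplex.exact_kernel ((ModSite.restrPushOverAdj O U).unit.app I)
        mono_f := inferInstanceAs (Mono (kernel.ι ((ModSite.restrPushOverAdj O U).unit.app I)))
        epi_g := hepi }
  refine ⟨?_, ?_⟩
  · exact nonempty_rightDerived_one_iso_cokernel hex
      (fun X => isZero_rightDerived_id_succ 0 X)
  · intro q hq
    obtain ⟨q', rfl⟩ : ∃ q', q = q' + 1 := ⟨q - 1, by omega⟩
    obtain ⟨e₁⟩ := nonempty_iso_of_isZero hex (q' + 1)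
      (fun X => isZero_rightDerived_id_succ q' X) (fun X => isZero_rightDerived_id_succ (q' + 1) X)
    obtain ⟨e₂⟩ := nonempty_rightDerived_exact_comp_iso (ModSite.restr O U)
      (ModSite.pushOver O U) (q' + 1)
    exact ⟨e₁.symm ≪≫ e₂⟩

end Groth.Agent.S12890
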