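import Mathlib
import Groth.Statements.S12903
import Groth.Agent.Lib.Helper45.ModulesExact

set_option autoImplicit false
universe u
open CategoryTheory CategoryTheory.Limits AlgebraicGeometry Opposite
open Coherent

namespace Groth.Agent.S12903

/-- sections of the kernel of `u` over `V` are the sections killed by `u`. -/
theorem kernel_app_exact {X : Scheme.{u}} {F G : X.Modules} (u : F ⟶ G) (V : X.Opens) :
    Function.Exact ((kernel.ι u).app V) (u.app V) := by
  let S : ShortComplex X.Modules := ShortComplex.mk (kernel.ι u) u (kernel.condition u)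
  have hS : S.Exact := ShortComplex.exact_of_f_is_kernel _ (kernelIsKernel u)
  have hm : Mono S.f := inferInstanceAs (Mono (kernel.ι u))
  have h := hS.map_of_mono_of_preservesKernel (Groth.Agent.Lib.Helper45.sectionsFunctor X V) hm
    inferInstance
  exact (ShortComplex.ab_exact_iff_function_exact _).mp h

/-- Let X be a scheme, j : U → X a quasi-compact open immersion with closed complement Z, F a
quasi-coherent O_X-module, V an affine open of X and I a finitely generated ideal of Γ(V, O_X)
cutting out Z ∩ V (a point of V lies outside U if and only if it lies in no basic open X_f with f ∈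
I). Then a section s of F over V belongs to the subsheaf Γ_Z(F) of sections supported in Z (the
kernel of F → j_*(F|_U)) if and only if I^n s = 0 for some n. -/
theorem result {U X : Scheme.{u}} (j : U ⟶ X) [IsOpenImmersion j] [QuasiCompact j]
    (F : X.Modules) (hF : Coh.IsQCoh F) (V : X.Opens) (hV : IsAffineOpen V)
    (I : Ideal (X.ringCatSheaf.obj.obj (op V))) (hI : I.FG)
    (hZ : ∀ x : X, x ∈ V → (x ∉ Set.range j.base ↔ ∀ f ∈ I, x ∉ X.basicOpen (f : Γ(X, V))))
    (s : F.val.obj (op V)) :
    s ∈ Set.range ((((CxOX.gammaZι j).app F).val.app (op V)).hom) ↔ ∃ n : ℕ, ∀ a ∈ I ^ n, a • s = 0 := by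
  have hq : F.IsQuasicoherent := hF
  let u := (Scheme.Modules.restrictAdjunction j).unit.app F
  have hex := kernel_app_exact u V
  have hmem : s ∈ Set.range ((((CxOX.gammaZι j).app F).val.app (op V)).hom) ↔
      F.presheaf.map (homOfLE (j.image_preimage_le V)).op s = 0 := by
    have h1 := hex s
    rw [Scheme.Modules.restrictAdjunction_unit_app_app] at h1
    exact h1.symm
  rw [hmem]
  have hD : ∀ f ∈ I, X.basicOpen (f : Γ(X, V)) ≤ j ''ᵁ j ⁻¹ᵁ V := by
    intro f hf x hx
    have hxV : x ∈ V := X.basicOpen_le _ hx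
    have hxU : x ∈ Set.range j.base := by
      by_contra hxU
      exact ((hZ x hxV).mp hxU) f hf hx
    obtain ⟨y, rfl⟩ := hxU
    exact ⟨y, hxV, rfl⟩
  constructor
  · intro hs
    let J : Ideal Γ(X, V) := (⊥ : Submodule Γ(X, V) Γ(F, V)).colon {(s : Γ(F, V))}
    have hJ : ∀ a : Γ(X, V), a ∈ J ↔ a • (s : Γ(F, V)) = 0 := fun a =>
      Submodule.mem_colon_singleton.trans (Submodule.mem_bot _)
    let I' : Ideal Γ(X, V) := I
    have hI' : I'.FG := hI
    have hle : I' ≤ J.radical := by
      intro f hf
      have h0 : F.presheaf.map (homOfLE (X.basicOpen_le (f : Γ(X, V)))).op s = 0 := by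
        have h2 : F.presheaf.map (homOfLE (hD f hf)).op
            (F.presheaf.map (homOfLE (j.image_preimage_le V)).op s) = 0 := by
          rw [hs, map_zero]
        rw [← h2, ← ConcreteCategory.comp_apply, ← Functor.map_comp]
        rfl
      obtain ⟨n, hn⟩ := Groth.Agent.Lib.Helper45.exists_pow_smul_eq_zero_of_restrict_eq_zero hV F
        (f : Γ(X, V)) s h0
      exact ⟨n, (hJ _).mpr hn⟩
    obtain ⟨n, hn⟩ := Ideal.exists_pow_le_of_le_radical_of_fg hle hI'
    exact ⟨n, fun a ha => (hJ a).mp (hn (show (a : Γ(X, V)) ∈ I' ^ n from ha))⟩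
  · rintro ⟨n, hn⟩
    refine Groth.Agent.Lib.Helper45.section_ext_germ F _ _ 0 fun x hx => ?_
    rw [map_zero, TopCat.Presheaf.germ_res_apply]
    obtain ⟨y, hyV, rfl⟩ := hx
    have hxV : j.base y ∈ V := hyV
    have hex' : ∃ f ∈ I, j.base y ∈ X.basicOpen (f : Γ(X, V)) := by
      by_contra hcon
      push Not at hcon
      exact ((hZ _ hxV).mpr hcon) ⟨y, rfl⟩
    obtain ⟨f, hf, hxf⟩ := hex'
    have h1 : (f ^ n) • s = 0 := hn _ (Ideal.pow_mem_pow hf n)
    have h2 := (congrArg (F.presheaf.germ V (j.base y) hxV) h1).trans (map_zero _)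
    have h3 : F.presheaf.germ V (j.base y) hxV ((f ^ n : Γ(X, V)) • (s : Γ(F, V))) =
        X.presheaf.germ V (j.base y) hxV (f ^ n : Γ(X, V)) • F.presheaf.germ V (j.base y) hxV s :=
      Groth.Agent.Lib.Helper45.germ_smul F (j.base y) V hxV _ _
    have hu : IsUnit (X.presheaf.germ V (j.base y) hxV (f ^ n : Γ(X, V))) := by
      have hpow : X.presheaf.germ V (j.base y) hxV (f ^ n : Γ(X, V)) =
          (X.presheaf.germ V (j.base y) hxV (f : Γ(X, V))) ^ n := map_pow _ _ _
      rw [hpow]
      exact ((X.mem_basicOpen (f : Γ(X, V)) (j.base y) hxV).mp hxf).pow n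
    have h4 : X.presheaf.germ V (j.base y) hxV (f ^ n : Γ(X, V)) •
        F.presheaf.germ V (j.base y) hxV s = 0 := h3.symm.trans h2
    obtain ⟨w, hw⟩ := hu
    have h5 := congrArg (fun z => (↑w⁻¹ : X.presheaf.stalk (j.base y)) • z) h4
    simp only [smul_zero] at h5
    rw [← hw, smul_smul, Units.inv_mul, one_smul] at h5
    exact h5

end Groth.Agent.S12903
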