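import Groth.Statements.S12905
import Groth.Agent.Lib.Helper38.SerreVanishPn
import Groth.Agent.Lib.Helper17.ProjSpaceProper
import Groth.Agent.Lib.Helper11.SupportTensor
import Groth.Agent.Lib.Helper1.HHTools
import Groth.Agent.S1526
import Groth.Agent.S9514

set_option autoImplicit false
universe u
open CategoryTheory CategoryTheory.Limits AlgebraicGeometry
open Variety

namespace Groth.Agent.S12905

/-- Let k be a field and φ : F' → F a monomorphism of coherent modules on P^n_k whose cokernel has
support of Krull dimension at most zero (a finite set of closed points, possibly empty). If F' is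
m-regular then F is m-regular. (The published statement is the case of an ideal sheaf contained in
the ideal sheaf of a curve with quotient supported at finitely many points, phrased as an inequality
of regularities; the argument gives the form stated here.) -/
theorem result (k : Type u) [Field k] (n : ℕ)
    (F' F : (CohB1.ProjSpace n k).Modules) (hF' : Coh.IsCoh F') (hF : Coh.IsCoh F) (φ : F' ⟶ F) [Mono φ]
    (hsupp : topologicalKrullDim (CohB1.support (cokernel φ)) ≤ 0) (m : ℤ)
    (h : Curv2.IsMRegular k n F' m) : Curv2.IsMRegular k n F m := by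
  intro i hi1 hin
  haveI : IsProper ((CohB1.ProjSpace n k) ↘ (Spec (CommRingCat.of k))) :=
    Groth.Agent.Lib.Helper17.ProjSpaceProper.isProper_toSpec n k
  haveI : IsLocallyNoetherian (CohB1.ProjSpace n k) := by
    haveI : LocallyOfFiniteType ((CohB1.ProjSpace n k) ↘ (Spec (CommRingCat.of k))) := inferInstance
    exact LocallyOfFiniteType.isLocallyNoetherian ((CohB1.ProjSpace n k) ↘ (Spec (CommRingCat.of k)))
  have hQ : Coh.IsCoh (cokernel φ) := (Groth.Agent.S9514.result _ hF' hF φ).2
  have hS : (ShortComplex.mk φ (cokernel.π φ) (cokernel.condition φ)).ShortExact :=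
    { exact := ShortComplex.exact_of_g_is_cokernel _ (cokernelIsCokernel φ)
      mono_f := inferInstanceAs (Mono φ)
      epi_g := inferInstanceAs (Epi (cokernel.π φ)) }
  have hSd := Groth.Agent.Lib.Helper38.SerreVanishPn.shortExact_tw n k (m - i) hS
  have hO := Groth.Agent.Lib.Helper17.FinCoh.isCoh_twist n k (m - i)
  haveI : (cokernel φ).IsQuasicoherent := hQ.1
  haveI : (Twist.twistProjSpace n k (m - i)).IsQuasicoherent := hO.1
  have hT := Groth.Agent.Lib.Helper11.TildeTensor.isQuasicoherent_tensorMod (cokernel φ)
    (Twist.twistProjSpace n k (m - i))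
  have hQd : Coh.IsCoh (CohB1.tensorMod (cokernel φ) (Twist.twistProjSpace n k (m - i))) :=
    ⟨hT.1, hT.2 hQ.2 hO.2⟩
  have hsuppd : topologicalKrullDim
      (CohB1.support (CohB1.tensorMod (cokernel φ) (Twist.twistProjSpace n k (m - i)))) ≤ 0 := by
    rw [Groth.Agent.Lib.Helper11.SupportTensor.support_tensorMod _ _ hQ.2 hO.2]
    refine le_trans ?_ hsupp
    exact (Topology.IsEmbedding.inclusion Set.inter_subset_left).isInducing.topologicalKrullDim_le
  have h3 : Subsingleton (Coh.HH (CohB1.ProjSpace n k)
      (CohB1.tensorMod (cokernel φ) (Twist.twistProjSpace n k (m - i))) i) :=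
    Groth.Agent.S1526.result k (CohB1.ProjSpace n k) _ hQd hsuppd i hi1
  have h1 : Subsingleton (Coh.HH (CohB1.ProjSpace n k)
      (CohB1.tensorMod F' (Twist.twistProjSpace n k (m - i))) i) := h i hi1 hin
  exact Groth.Agent.Lib.Helper1.subsingleton_HH_of_shortExact hSd i h1 h3

end Groth.Agent.S12905
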