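import Groth.Statements.S12910
import Groth.Agent.Lib.Helper38.RegComplex

set_option autoImplicit false
universe u
open CategoryTheory CategoryTheory.Limits AlgebraicGeometry
open Variety

namespace Groth.Agent.S12910

open Groth.Agent.Lib.Helper38.RegComplex

/-- Let k be a field, d an integer, and E a bounded chain complex ⋯ → E_2 → E_1 → E_0 of coherent
modules on P^n_k (E_s = 0 for s large) such that E_s is (d + s)-regular for every s and, for every i
> 0, the homology sheaf H_i(E) has support of Krull dimension at most 1. Then the cokernel of E_1 →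
E_0 is d-regular and the image of E_1 → E_0 is (d + 1)-regular. -/
theorem result (k : Type u) [Field k] (n : ℕ)
    (E : ChainComplex ((CohB1.ProjSpace n k).Modules) ℕ) (t : ℕ) (hbdd : ∀ s : ℕ, t < s → IsZero (E.X s))
    (hcoh : ∀ s : ℕ, Coh.IsCoh (E.X s)) (d : ℤ)
    (hreg : ∀ s : ℕ, Curv2.IsMRegular k n (E.X s) (d + s))
    (hsupp : ∀ i : ℕ, 0 < i → topologicalKrullDim (CohB1.support (E.homology i)) ≤ 1) :
    Curv2.IsMRegular k n (cokernel (E.d 1 0)) d ∧
      Curv2.IsMRegular k n (Abelian.image (E.d 1 0)) (d + 1) := by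
  have hsc : ∀ s : ℕ, topologicalKrullDim (CohB1.support (cokernel (kernel.lift
      (E.sc' (s + 2) (s + 1) s).g (E.sc' (s + 2) (s + 1) s).f (E.sc' (s + 2) (s + 1) s).zero))) ≤ 1 := by
    intro s
    have e : E.homology (s + 1) ≅ cokernel (kernel.lift
        (E.sc' (s + 2) (s + 1) s).g (E.sc' (s + 2) (s + 1) s).f (E.sc' (s + 2) (s + 1) s).zero) :=
      E.homologyIsoSc' (s + 2) (s + 1) s (by simp) (by simp) ≪≫
        (E.sc' (s + 2) (s + 1) s).homologyIsoCokernelLift
    rw [← support_eq_of_iso e]
    exact hsupp (s + 1) (by omega)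
  have key : ∀ r s : ℕ, t ≤ s + r → Reg (Abelian.image (E.d (s + 1) s)) (d + s + 1) := by
    intro r
    induction r with
    | zero =>
      intro s hs
      apply reg_of_isZero
      have hz : IsZero (E.X (s + 1)) := hbdd (s + 1) (by omega)
      exact IsZero.of_epi (Abelian.factorThruImage (E.d (s + 1) s)) hz
    | succ r ih =>
      intro s hs
      have hB := ih (s + 1) (by omega)
      have hX := reg_of_isMRegular (hcoh (s + 1)) (hreg (s + 1))
      have e1 : d + ((s + 1 : ℕ) : ℤ) + 1 = d + s + 1 + 1 := by push_cast; ring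
      have e2 : d + ((s + 1 : ℕ) : ℤ) = d + s + 1 := by push_cast; ring
      rw [e1] at hB
      rw [e2] at hX
      exact reg_image_step (E.sc' (s + 2) (s + 1) s) (hcoh _) (hcoh _) (hcoh _) (hsc s)
        (d + s + 1) hB hX
  have hP0 := key t 0 (by omega)
  have e0 : d + ((0 : ℕ) : ℤ) + 1 = d + 1 := by simp
  rw [e0] at hP0
  have hX0 := reg_of_isMRegular (hcoh 0) (hreg 0)
  have e0' : d + ((0 : ℕ) : ℤ) = d := by simp
  rw [e0'] at hX0
  exact ⟨isMRegular_of_reg (reg_cokernel (E.d 1 0) d hP0 hX0), isMRegular_of_reg hP0⟩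

end Groth.Agent.S12910
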