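import Groth.Statements.S12914
import Groth.Agent.H34.PointsP2

set_option autoImplicit false
universe u
open CAlgX

namespace Groth.Agent.S12914

/-- Let k be a field, Z a finite set of nonzero vectors in k^3, regarded as points of the projective
plane, and I the homogeneous vanishing ideal of Z in k[x_0, x_1, x_2]: a polynomial belongs to I
exactly when every one of its homogeneous components vanishes at every vector of Z. If Z lies on a
curve of degree d, that is I contains a nonzero homogeneous form of degree d, then I is generated by
at most d + 1 elements. -/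
theorem result (k : Type u) [Field k]
    (Z : Finset (Fin 3 → k)) (hZ : ∀ p ∈ Z, p ≠ 0) (I : Ideal (MvPolynomial (Fin 3) k))
    (hI : ∀ f : MvPolynomial (Fin 3) k, f ∈ I ↔
      ∀ p ∈ Z, ∀ j : ℕ, MvPolynomial.eval p (MvPolynomial.homogeneousComponent j f) = 0)
    (d : ℕ) (hf : ∃ f ∈ I, MvPolynomial.IsHomogeneous f d ∧ f ≠ 0) :
    Submodule.spanFinrank I ≤ d + 1 := by
  rcases Z.eq_empty_or_nonempty with hZe | hne
  · have hItop : I = ⊤ := by
      rw [Ideal.eq_top_iff_one, hI]
      intro p hp
      rw [hZe] at hp
      simp at hp
    have h1 : Submodule.spanFinrank I ≤ 1 := by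
      rw [hItop, ← Ideal.span_singleton_one]
      have := Submodule.spanFinrank_span_le_ncard_of_finite
        (R := MvPolynomial (Fin 3) k) (Set.finite_singleton (1 : MvPolynomial (Fin 3) k))
      simpa using this
    omega
  · exact Groth.Agent.H34.PointsP2.main Z hZ I hI hne d hf

end Groth.Agent.S12914
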