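import Groth.Statements.S12917
import Groth.Agent.H34.PointsP2b

set_option autoImplicit false
universe u
open CAlgX

namespace Groth.Agent.S12917

/-- Let k be a field, Z a finite set of nonzero vectors in k^3, regarded as points of the projective
plane, and I the homogeneous vanishing ideal of Z in S = k[x_0, x_1, x_2]: a polynomial belongs to I
exactly when each of its homogeneous components vanishes at every vector of Z. Then I has a free
resolution of length one: for some t there are a (t+1) × t matrix Ψ over S, injective as a map S^t →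
S^{t+1}, and an S-linear map π : S^{t+1} → S with ker π = im Ψ and im π = I. (The published
statement speaks of the minimal free resolution of I having length 1; stated here as the existence
of such a resolution.) -/
theorem result (k : Type u) [Field k]
    (Z : Finset (Fin 3 → k)) (hZ : ∀ p ∈ Z, p ≠ 0) (I : Ideal (MvPolynomial (Fin 3) k))
    (hI : ∀ f : MvPolynomial (Fin 3) k, f ∈ I ↔
      ∀ p ∈ Z, ∀ j : ℕ, MvPolynomial.eval p (MvPolynomial.homogeneousComponent j f) = 0) :
    ∃ (t : ℕ) (Ψ : Matrix (Fin (t + 1)) (Fin t) (MvPolynomial (Fin 3) k)) (π : (Fin (t + 1) → MvPolynomial (Fin 3) k) →ₗ[MvPolynomial (Fin 3) k] MvPolynomial (Fin 3) k),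
      LinearMap.ker Ψ.mulVecLin = ⊥ ∧ LinearMap.ker π = LinearMap.range Ψ.mulVecLin ∧ LinearMap.range π = I := by
  rcases Z.eq_empty_or_nonempty with hZe | hne
  · have hItop : I = ⊤ := by
      rw [Ideal.eq_top_iff_one, hI]
      intro p hp
      rw [hZe] at hp
      simp at hp
    refine ⟨0, Matrix.of (fun _ j => Fin.elim0 j), LinearMap.proj 0, ?_, ?_, ?_⟩
    · rw [LinearMap.ker_eq_bot']
      intro v _
      exact Subsingleton.elim _ _
    · have h1 : LinearMap.range
          (Matrix.of (fun (_ : Fin (0 + 1)) (j : Fin 0) =>
            (Fin.elim0 j : MvPolynomial (Fin 3) k))).mulVecLin = ⊥ := by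
        rw [eq_bot_iff]
        rintro _ ⟨v, rfl⟩
        rw [Submodule.mem_bot, Subsingleton.elim v 0, map_zero]
      rw [h1, eq_bot_iff]
      intro v hv
      rw [Submodule.mem_bot]
      funext i
      have hi : i = 0 := Fin.ext (by have := i.2; omega)
      rw [hi]
      exact hv
    · rw [hItop, eq_top_iff]
      intro x _
      exact ⟨fun _ => x, rfl⟩
  · exact Groth.Agent.H34.PointsP2.main2 Z hZ I hI hne

end Groth.Agent.S12917
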