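import Groth.Statements.S12918
import Groth.Agent.Lib.Helper66.Integral

set_option autoImplicit false
universe u v w
open HopfRep

namespace Groth.Agent.S12918

/-- Let `k` be a commutative ring, `A` a commutative Hopf algebra over `k`, flat as a `k`-module and `B`
a commutative `k`-algebra with a coaction `ρ : B → B ⊗ A` that is an algebra map (an action of the
affine group scheme `Spec A` on `Spec B`). Then the action admits a total integral — a comodule map
`α : A → B`, for the regular coaction on `A`, with `α 1 = 1` — if and only if `ρ` has a left inverse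
`B ⊗ A → B` which is a comodule map for the coaction `id ⊗ Δ` on `B ⊗ A`. -/
theorem result
    (k : Type u) [CommRing k] (A : Type v) [CommRing A] [HopfAlgebra k A] [Module.Flat k A]
    (B : Type w) [CommRing B] [Algebra k B] [HopfRep.Comod k A B] [GLin.IsCoactAlg k A B] :
    (∃ α : A →ₗ[k] B, Hoch.IsComodHom A α ∧ α 1 = 1) ↔
      ∃ lam : Hoch.Ind k A B →ₗ[k] B, Hoch.IsComodHom A lam ∧ lam ∘ₗ Hoch.toInd k A B = LinearMap.id := by
  open TensorProduct in
  constructor
  · rintro ⟨α, hα, hα1⟩
    refine ⟨(Groth.Agent.Lib.Helper66.retr k A B α : B ⊗[k] A →ₗ[k] B), ?_, ?_⟩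
    · unfold Hoch.IsComodHom
      rw [Hoch.Ind.coact_eq]
      change HopfRep.Comod.coact (k := k) (A := A) ∘ₗ Groth.Agent.Lib.Helper66.retr k A B α =
        (Groth.Agent.Lib.Helper66.retr k A B α).rTensor A ∘ₗ Hoch.Ind.coactAux k A B
      refine TensorProduct.ext' fun b a => ?_
      rw [LinearMap.comp_apply, LinearMap.comp_apply, Hoch.Ind.coactAux_tmul]
      exact Groth.Agent.Lib.Helper66.coact_retr k A B α hα b a
    · ext b
      exact Groth.Agent.Lib.Helper66.retr_coact k A B α hα1 b
  · rintro ⟨lam, hlam, hret⟩
    let lam' : B ⊗[k] A →ₗ[k] B := lam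
    refine ⟨lam' ∘ₗ TensorProduct.mk k B A 1, ?_, ?_⟩
    · unfold Hoch.IsComodHom
      ext a
      have h := LinearMap.congr_fun hlam ((1 : B) ⊗ₜ[k] a)
      rw [Hoch.Ind.coact_eq] at h
      simp only [LinearMap.comp_apply, TensorProduct.mk_apply] at h ⊢
      refine h.trans ?_
      change (LinearMap.rTensor A lam') (Hoch.Ind.coactAux k A B ((1 : B) ⊗ₜ[k] a)) = _
      rw [Hoch.Ind.coactAux_tmul]
      change _ = (LinearMap.rTensor A (lam' ∘ₗ (TensorProduct.mk k B A) 1)) (Coalgebra.comul (R := k) a)
      generalize Coalgebra.comul (R := k) a = w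
      induction w using TensorProduct.induction_on with
      | zero => simp
      | tmul a₁ a₂ => simp
      | add w₁ w₂ h₁ h₂ => simp only [TensorProduct.tmul_add, map_add, h₁, h₂]
    · have h := LinearMap.congr_fun hret (1 : B)
      simp only [LinearMap.comp_apply, LinearMap.id_apply] at h
      unfold Hoch.toInd at h
      rw [LinearMap.comp_apply, GLin.IsCoactAlg.coact_one (k := k) (A := A) (R := B),
        Algebra.TensorProduct.one_def] at h
      exact h

end Groth.Agent.S12918
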