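import Groth.Statements.S1292
import Groth.Agent.Lib.Helper6.TAAscent
import Groth.Agent.Lib.Helper9.Hens.EtaleModuleFlat

set_option autoImplicit false
universe u
open CategoryTheory
attribute [local instance] HasDerivedCategory.standard
open FlatMor

namespace Groth.Agent.S1292

/-- an étale-covered algebra: `R`-flat modules are flat. -/
lemma hasc_of_covered {R S : Type u} [CommRing R] [CommRing S] [Algebra R S]
    (hS : Lib.Helper9.IsEtaleCoveredFin R S) (N : ModuleCat.{u} S)
    (h : Module.Flat R ((ModuleCat.restrictScalars (algebraMap R S)).obj N)) : Module.Flat S N := by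
  let T : Type u := ((ModuleCat.restrictScalars (algebraMap R S)).obj N)
  let _ : Module S T := (inferInstance : Module S N)
  have : IsScalarTower R S T := ⟨fun a b x => by
    change (a • b) • (show N from x) = (algebraMap R S a) • (b • (show N from x))
    rw [Algebra.smul_def, mul_smul]⟩
  have hT : Module.Flat R T := h
  have := hS.flat_module T
  exact this

/-- transitivity of the ascent property. -/
lemma hasc_trans {R S S' : Type u} [CommRing R] [CommRing S] [CommRing S'] [Algebra R S]
    [Algebra R S'] [Algebra S S'] [IsScalarTower R S S'] [Module.Flat R S]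
    (h' : ∀ N : ModuleCat.{u} S', Module.Flat R ((ModuleCat.restrictScalars (algebraMap R S')).obj N) →
      Module.Flat S' N)
    (N : ModuleCat.{u} S')
    (h : Module.Flat S ((ModuleCat.restrictScalars (algebraMap S S')).obj N)) : Module.Flat S' N := by
  apply h'
  let T : Type u := ((ModuleCat.restrictScalars (algebraMap R S')).obj N)
  let _ : Module S T :=
    (inferInstance : Module S ((ModuleCat.restrictScalars (algebraMap S S')).obj N))
  have : IsScalarTower R S T := ⟨fun a b x => by
    change (algebraMap S S' (a • b)) • (show N from x) =
      (algebraMap R S' a) • ((algebraMap S S' b) • (show N from x))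
    rw [Algebra.smul_def, map_mul, mul_smul, ← IsScalarTower.algebraMap_apply R S S']⟩
  have hT : Module.Flat S T := h
  have : Module.Flat R T := Module.Flat.trans R S T
  exact this

open IsLocalRing in
/-- Let A be a ring, p a prime ideal of A, Ah a henselization and Ash a strict henselization of the
local ring A_p, with Ash an Ah-algebra compatibly with the structure maps from A_p, and a, b
integers. Tor amplitude is meant in the flat-representative form: an object of the derived category
of a ring has tor amplitude in [a, b] when it is isomorphic to a complex of flat modules vanishing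
outside degrees [a, b]. For K in D(Ash) the following are equivalent: K with scalars restricted to
A_p has tor amplitude in [a, b]; K with scalars restricted to Ah has tor amplitude in [a, b]; K has
tor amplitude in [a, b] over Ash. Moreover, for L in D(Ah): L with scalars restricted to A_p has tor
amplitude in [a, b] if and only if L has tor amplitude in [a, b] over Ah. (The published statement
is for a general scheme S; this is the case S = Spec A.) -/
theorem result {A : Type u} [CommRing A] (p : Ideal A) [p.IsPrime]
    (Ah Ash : Type u) [CommRing Ah] [IsLocalRing Ah] [CommRing Ash] [IsLocalRing Ash]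
    [Algebra (Localization.AtPrime p) Ah] [IsLocalHom (algebraMap (Localization.AtPrime p) Ah)] [Hensel.IsHenselization (Localization.AtPrime p) Ah]
    [Algebra (Localization.AtPrime p) Ash] [IsLocalHom (algebraMap (Localization.AtPrime p) Ash)] [Hensel.IsStrictHenselization (Localization.AtPrime p) Ash]
    [Algebra Ah Ash] [IsScalarTower (Localization.AtPrime p) Ah Ash]
    (a b : ℤ) (K : Dual.D Ash) (L : Dual.D Ah) :
    [DRing.HasTorAmplitudeIn (Localization.AtPrime p) a b ((DRing.restrictD (algebraMap (Localization.AtPrime p) Ash)).obj K),
     DRing.HasTorAmplitudeIn Ah a b ((DRing.restrictD (algebraMap Ah Ash)).obj K),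
     DRing.HasTorAmplitudeIn Ash a b K].TFAE ∧
    (DRing.HasTorAmplitudeIn (Localization.AtPrime p) a b ((DRing.restrictD (algebraMap (Localization.AtPrime p) Ah)).obj L) ↔
      DRing.HasTorAmplitudeIn Ah a b L) := by
  have hc1 := Lib.Helper9.isEtaleCoveredFin_of_isHenselization (Localization.AtPrime p) Ah
  have hc2 := Lib.Helper9.isEtaleCoveredFin_of_isStrictHenselization (Localization.AtPrime p) Ash
  have hf1 : Module.Flat (Localization.AtPrime p) Ah :=
    Lib.Helper9.Hens.flat_of_isHenselization (Localization.AtPrime p) Ah
  have hf2 : Module.Flat (Localization.AtPrime p) Ash :=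
    Lib.Helper9.HensK.flat_of_isStrictHenselization (Localization.AtPrime p) Ash
  have hf3 : Module.Flat Ah Ash := hc1.flat Ash
  have ha1 := hasc_of_covered hc1
  have ha2 := hasc_of_covered hc2
  have ha3 : ∀ N : ModuleCat.{u} Ash,
      Module.Flat Ah ((ModuleCat.restrictScalars (algebraMap Ah Ash)).obj N) → Module.Flat Ash N :=
    fun N hN => hasc_trans (R := Localization.AtPrime p) ha2 N hN
  refine ⟨?_, ⟨fun h => Lib.Helper6.TAAscent.TAmp_ascent ha1 L a b h,
    fun h => Lib.Helper6.TAAscent.TAmp_restrict L a b h⟩⟩
  tfae_have 3 → 2 := fun h => Lib.Helper6.TAAscent.TAmp_restrict K a b h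
  tfae_have 2 → 3 := fun h => Lib.Helper6.TAAscent.TAmp_ascent ha3 K a b h
  tfae_have 3 → 1 := fun h => Lib.Helper6.TAAscent.TAmp_restrict K a b h
  tfae_have 1 → 3 := fun h => Lib.Helper6.TAAscent.TAmp_ascent ha2 K a b h
  tfae_finish

end Groth.Agent.S1292
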