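import Groth.Statements.S12925

set_option autoImplicit false
universe u v w
open HopfRep

namespace Groth.Agent.S12925

open TensorProduct in
/-- Let `k` be a commutative ring, `M` a commutative group and `B` a commutative `k`-algebra with a
coaction of the group algebra `k[M]` that is an algebra map (an action of the diagonalizable group
scheme `D(M) = Spec k[M]` on `Spec B`). Then the action is tame: there is a comodule map `α : k[M] →
B`, for the regular coaction on `k[M]`, with `α 1 = 1`. -/
theorem result
    (k : Type u) [CommRing k] (M : Type u) [CommGroup M]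
    (B : Type w) [CommRing B] [Algebra k B] [HopfRep.Comod k (MonoidAlgebra k M) B]
    [GLin.IsCoactAlg k (MonoidAlgebra k M) B] :
    ∃ α : MonoidAlgebra k M →ₗ[k] B, Hoch.IsComodHom (MonoidAlgebra k M) α ∧ α 1 = 1 := by
  classical
  -- evaluation at the identity of `M`
  let ev : MonoidAlgebra k M →ₗ[k] k :=
    (Finsupp.lapply 1) ∘ₗ (MonoidAlgebra.coeffLinearEquiv k).toLinearMap
  have hev : ∀ (m : M) (r : k), ev (MonoidAlgebra.single m r) = if m = 1 then r else 0 := by
    intro m r
    simp [ev, Finsupp.single_apply]
  let α : MonoidAlgebra k M →ₗ[k] B := (Algebra.linearMap k B) ∘ₗ ev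
  have hα : ∀ (m : M) (r : k), α (MonoidAlgebra.single m r) = if m = 1 then r • (1 : B) else 0 := by
    intro m r
    change algebraMap k B (ev (MonoidAlgebra.single m r)) = _
    rw [hev]
    split_ifs
    · rw [Algebra.algebraMap_eq_smul_one]
    · rw [map_zero]
  refine ⟨α, ?_, ?_⟩
  · unfold Hoch.IsComodHom
    apply MonoidAlgebra.lhom_ext'
    intro m
    ext
    change HopfRep.Comod.coact (k := k) (A := MonoidAlgebra k M) (α (MonoidAlgebra.single m 1)) =
      α.rTensor (MonoidAlgebra k M) (Coalgebra.comul (R := k) (MonoidAlgebra.single m (1 : k)))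
    have hR : α.rTensor (MonoidAlgebra k M) (Coalgebra.comul (R := k) (MonoidAlgebra.single m (1 : k))) =
        α (MonoidAlgebra.single m 1) ⊗ₜ[k] MonoidAlgebra.single m 1 := by
      rw [MonoidAlgebra.comul_single, CommSemiring.comul_apply, TensorProduct.map_tmul,
        LinearMap.rTensor_tmul]
      rfl
    rw [hR, hα]
    split_ifs with h
    · subst h
      rw [one_smul, GLin.IsCoactAlg.coact_one (k := k) (A := MonoidAlgebra k M) (R := B),
        Algebra.TensorProduct.one_def, MonoidAlgebra.one_def]
    · rw [map_zero, TensorProduct.zero_tmul]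
  · rw [MonoidAlgebra.one_def, hα, if_pos rfl, one_smul]

end Groth.Agent.S12925
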