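import Groth.Statements.S12926
import Mathlib.LinearAlgebra.Projection

set_option autoImplicit false
universe u v
open HopfRep

namespace Groth.Agent.S12926

open TensorProduct in
/-- Let `k` be a commutative ring and `A` a commutative bialgebra over `k`, flat as a `k`-module. If the
submodule `k · 1` of the regular comodule `A` has a complement `H` which is a subcomodule — the case
used when `A` is cosemisimple, i.e. every subcomodule of every comodule is a direct summand as a
comodule — then the trivial action of `Spec A` on `Spec k` is tame: there is a comodule map `α : A →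
k`, for the regular coaction on `A` and the trivial coaction `r ↦ r ⊗ 1` on `k`, with `α 1 = 1`. -/
theorem result
    (k : Type u) [CommRing k] (A : Type v) [CommRing A] [Bialgebra k A] [Module.Flat k A]
    (H : Submodule k A) (hH : HopfRep.IsSubcomod (k := k) (A := A) H)
    (hc : IsCompl (Submodule.span k {(1 : A)}) H) :
    ∃ α : A →ₗ[k] k, @Hoch.IsComodHom k _ A _ _ _ A _ _ _ k _ _ (HopfRep.Comod.trivial k A k) α ∧ α 1 = 1 := by
  let α : A →ₗ[k] k :=
    LinearMap.ofIsCompl hc ((Coalgebra.counit (R := k) (A := A)) ∘ₗ (Submodule.span k {(1 : A)}).subtype) 0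
  have h1mem : (1 : A) ∈ Submodule.span k {(1 : A)} := Submodule.subset_span rfl
  have hα1 : α 1 = 1 := by
    have := LinearMap.ofIsCompl_apply_left hc
      (φ := (Coalgebra.counit (R := k) (A := A)) ∘ₗ (Submodule.span k {(1 : A)}).subtype)
      (ψ := (0 : H →ₗ[k] k)) ⟨1, h1mem⟩
    change α 1 = _ at this
    rw [this]
    simp
  have hαH : α ∘ₗ H.subtype = 0 := by
    ext h
    have := LinearMap.ofIsCompl_apply_right hc
      (φ := (Coalgebra.counit (R := k) (A := A)) ∘ₗ (Submodule.span k {(1 : A)}).subtype)
      (ψ := (0 : H →ₗ[k] k)) h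
    exact this
  refine ⟨α, ?_, hα1⟩
  unfold Hoch.IsComodHom
  ext a
  change α a ⊗ₜ[k] (1 : A) = α.rTensor A (Coalgebra.comul (R := k) a)
  obtain ⟨u, v, rfl, -⟩ := Submodule.existsUnique_add_of_isCompl hc a
  obtain ⟨r, hr⟩ := Submodule.mem_span_singleton.mp u.2
  have hv : α.rTensor A (Coalgebra.comul (R := k) (v : A)) = 0 := by
    obtain ⟨y, hy⟩ := hH v.1 v.2
    change H.subtype.rTensor A y = Coalgebra.comul (R := k) (v : A) at hy
    rw [← hy, ← LinearMap.comp_apply, ← LinearMap.rTensor_comp, hαH, LinearMap.rTensor_zero,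
      LinearMap.zero_apply]
  have hαv : α (v : A) = 0 := LinearMap.congr_fun hαH v
  rw [map_add, map_add, map_add, hv, hαv, add_zero, add_zero, ← hr, map_smul, map_smul, map_smul,
    Bialgebra.comul_one, Algebra.TensorProduct.one_def, LinearMap.rTensor_tmul, hα1,
    TensorProduct.smul_tmul']

end Groth.Agent.S12926
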