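import Groth.Statements.S12928
import Mathlib
import Groth.Agent.Lib.Helper68.TotalIntegralExact

set_option autoImplicit false
universe u
open HopfRep

namespace Groth.Agent.S12928

open TensorProduct Groth.Agent.Lib.Helper84.LDual Groth.Agent.Lib.Helper84.ComodHomDual Groth.Agent.Lib.Helper68.TotalIntegralExact

/-- Let `k` be a commutative ring, `A` a commutative Hopf algebra over `k` which is finite locally free
(finite projective, in particular flat) as a `k`-module, `B` a commutative `k`-algebra with a
coaction of `A` that is an algebra map, and `C = B^A` the ring of invariants; assume `C` Noetherian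
and `B` finite and flat over `C`. If taking invariants is exact on `(B, A)`-modules — for
`B`-modules `M`, `N` with compatible `A`-coactions (in the universe of `k`, `A`, `B`) every
surjective `B`-linear comodule map `M → N` maps `M^A` onto `N^A` — then the action is tame: there is
a comodule map `α : A → B` with `α 1 = 1`. Together with the converse (a total integral makes
invariants exact) this says that tameness of the action is the exactness of invariants. (The
published statement does not assume `B` finite over `C`; its proof uses that finiteness, which is
assumed here.) -/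
theorem result
    (k : Type u) [CommRing k] (A : Type u) [CommRing A] [HopfAlgebra k A] [Module.Flat k A]
    [Module.Finite k A] [Module.Projective k A]
    (B : Type u) [CommRing B] [Algebra k B] [HopfRep.Comod k A B] [GLin.IsCoactAlg k A B]
    [IsNoetherianRing (GLin.invariants k A B)] [Module.Finite (GLin.invariants k A B) B] [Module.Flat (GLin.invariants k A B) B]
    (hexact : ∀ (M N : Type u) [AddCommGroup M] [Module k M] [Module B M] [IsScalarTower k B M]
      [HopfRep.Comod k A M] [TameAct.IsHopfMod k A B M]
      [AddCommGroup N] [Module k N] [Module B N] [IsScalarTower k B N]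
      [HopfRep.Comod k A N] [TameAct.IsHopfMod k A B N] (f : M →ₗ[B] N),
      Hoch.IsComodHom A (f.restrictScalars k) → Function.Surjective f →
      ∀ n ∈ HopfRep.fixedPts k A N, ∃ m ∈ HopfRep.fixedPts k A M, f m = n) :
    ∃ α : A →ₗ[k] B, Hoch.IsComodHom A α ∧ α 1 = 1 := by
  classical
  haveI : Module.FinitePresentation k A := Module.finitePresentation_of_projective k A
  obtain ⟨d, hd⟩ := exists_isDual (k := k) (A := A) (HopfRep.Comod.regular k A)
  letI cM : HopfRep.Comod k A (TensorProduct k B (Module.Dual k A)) :=
    ComodTens.Comod.tensor (inferInstance : HopfRep.Comod k A B) d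
  haveI : TameAct.IsHopfMod k A B (TensorProduct k B (Module.Dual k A)) := isHopfMod_tensor k A B d
  have h1 : (1 : B) ∈ HopfRep.fixedPts k A B := by
    change HopfRep.Comod.coact (k := k) (A := A) (1 : B) = (1 : B) ⊗ₜ[k] (1 : A)
    rw [GLin.IsCoactAlg.coact_one (k := k) (A := A) (R := B), Algebra.TensorProduct.one_def]
  obtain ⟨x, hx, hx1⟩ := hexact (TensorProduct k B (Module.Dual k A)) B (evOne k A B)
    (evOne_isComodHom k A B d hd) (evOne_surjective k A B) 1 h1
  refine ⟨Theta x, ?_, ?_⟩
  · exact (mem_fixedPts_iff' (inferInstance : HopfRep.Comod k A B) (HopfRep.Comod.regular k A) d hd x).mp hx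
  · rw [Theta_apply, ← evOne_apply, hx1]

end Groth.Agent.S12928
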