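import Groth.Statements.S12929

set_option autoImplicit false
universe u v w w'
open HopfRep

namespace Groth.Agent.S12929

open TensorProduct

section
variable (k : Type u) [CommRing k] (A : Type v) [CommRing A] [HopfAlgebra k A]
  (M : Type w) [AddCommGroup M] [Module k M] [HopfRep.Comod k A M]
  (N : Type w') [AddCommGroup N] [Module k N]

/-- naturality of the associator. -/
theorem assoc_symm_rTensor (h : M →ₗ[k] N) :
    (TensorProduct.assoc k N A A).symm.toLinearMap ∘ₗ h.rTensor (A ⊗[k] A) =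
      (h.rTensor A).rTensor A ∘ₗ (TensorProduct.assoc k M A A).symm.toLinearMap := by
  refine TensorProduct.ext' fun m x => ?_
  induction x using TensorProduct.induction_on with
  | zero => simp
  | tmul a b => simp
  | add x y hx hy =>
    rw [TensorProduct.tmul_add, map_add, map_add, hx, hy]

/-- the coaction of `Ind N` composed with `h ⊗ id`. -/
theorem coactAux_comp_rTensor (h : M →ₗ[k] N) :
    Hoch.Ind.coactAux k A N ∘ₗ h.rTensor A =
      (h.rTensor A).rTensor A ∘ₗ Hoch.Ind.coactAux k A M := by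
  unfold Hoch.Ind.coactAux
  rw [LinearMap.comp_assoc, ← LinearMap.comp_assoc _ _ ((h.rTensor A).rTensor A),
    ← assoc_symm_rTensor, LinearMap.comp_assoc]
  congr 1
  refine TensorProduct.ext' fun m a => ?_
  simp

/-- The map `id_N ⊗ ε : N ⊗ A → N`. -/
noncomputable def idCounit : N ⊗[k] A →ₗ[k] N :=
  (TensorProduct.rid k N).toLinearMap ∘ₗ (Coalgebra.counit (R := k) (A := A)).lTensor N

@[simp] theorem idCounit_tmul (n : N) (a : A) :
    idCounit k A N (n ⊗ₜ[k] a) = Coalgebra.counit (R := k) a • n := by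
  simp [idCounit]

/-- `(id ⊗ ε ⊗ id) ∘ coactAux = id` on `N ⊗ A`. -/
theorem counit_coactAux :
    (idCounit k A N).rTensor A ∘ₗ Hoch.Ind.coactAux k A N = LinearMap.id := by
  refine TensorProduct.ext' fun n a => ?_
  -- two linear maps `A ⊗ A → N ⊗ A`
  let L : A ⊗[k] A →ₗ[k] N ⊗[k] A :=
    (idCounit k A N).rTensor A ∘ₗ (TensorProduct.assoc k N A A).symm.toLinearMap ∘ₗ
      TensorProduct.mk k N (A ⊗[k] A) n
  let R : A ⊗[k] A →ₗ[k] N ⊗[k] A :=
    TensorProduct.mk k N A n ∘ₗ (TensorProduct.lid k A).toLinearMap ∘ₗ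
      (Coalgebra.counit (R := k) (A := A)).rTensor A
  have hLR : L = R := by
    refine TensorProduct.ext' fun a b => ?_
    simp [L, R, TensorProduct.smul_tmul]
  change L (Coalgebra.comul (R := k) a) = n ⊗ₜ[k] a
  rw [hLR]
  simp [R, Coalgebra.rTensor_counit_comul]

/-- `(id ⊗ ε) ∘ ρ = id` on a comodule. -/
theorem idCounit_coact :
    idCounit k A M ∘ₗ HopfRep.Comod.coact (k := k) (A := A) = LinearMap.id := by
  unfold idCounit
  rw [LinearMap.comp_assoc, HopfRep.Comod.counit_comp]
  ext m
  simp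

end

/-- Let `k` be a commutative ring, `A` a commutative Hopf algebra over `k`, `M` a right `A`-comodule and
`N` a `k`-module; give `N ⊗ A` the coaction `id ⊗ Δ`. Then for every `k`-linear map `h : M → N` the
composite `(h ⊗ id_A) ∘ ρ_M : M → N ⊗ A` is a comodule map, and every comodule map `f : M → N ⊗ A`
is of this form for exactly one `h` (which is `(id_N ⊗ ε) ∘ f`): comodule maps `M → N ⊗ A`
correspond bijectively to linear maps `M → N`. -/
theorem result
    (k : Type u) [CommRing k] (A : Type v) [CommRing A] [HopfAlgebra k A]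
    (M : Type w) [AddCommGroup M] [Module k M] [HopfRep.Comod k A M]
    (N : Type w') [AddCommGroup N] [Module k N] :
    (∀ h : M →ₗ[k] N, Hoch.IsComodHom A
        ((Hoch.Ind.equiv k A N).toLinearMap ∘ₗ h.rTensor A ∘ₗ HopfRep.Comod.coact (k := k) (A := A))) ∧
      ∀ f : M →ₗ[k] Hoch.Ind k A N, Hoch.IsComodHom A f →
        ∃! h : M →ₗ[k] N,
          f = (Hoch.Ind.equiv k A N).toLinearMap ∘ₗ h.rTensor A ∘ₗ HopfRep.Comod.coact (k := k) (A := A) := by
  constructor
  · intro h
    unfold Hoch.IsComodHom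
    rw [Hoch.Ind.coact_eq]
    change Hoch.Ind.coactAux k A N ∘ₗ (h.rTensor A ∘ₗ HopfRep.Comod.coact (k := k) (A := A)) =
      (h.rTensor A ∘ₗ HopfRep.Comod.coact (k := k) (A := A)).rTensor A ∘ₗ
        HopfRep.Comod.coact (k := k) (A := A)
    rw [← LinearMap.comp_assoc, coactAux_comp_rTensor, LinearMap.rTensor_comp,
      LinearMap.comp_assoc, LinearMap.comp_assoc]
    congr 1
    -- coassociativity
    have hco := HopfRep.Comod.coassoc (k := k) (A := A) (V := M)
    unfold Hoch.Ind.coactAux
    rw [LinearMap.comp_assoc, ← hco]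
    ext m
    simp
  · intro f hf
    -- `f` as a map to `N ⊗ A`
    let f' : M →ₗ[k] N ⊗[k] A := f
    have hf' : Hoch.Ind.coactAux k A N ∘ₗ f' =
        f'.rTensor A ∘ₗ HopfRep.Comod.coact (k := k) (A := A) := hf
    refine ⟨idCounit k A N ∘ₗ f', ?_, ?_⟩
    · change f' = (idCounit k A N ∘ₗ f').rTensor A ∘ₗ HopfRep.Comod.coact (k := k) (A := A)
      rw [LinearMap.rTensor_comp, LinearMap.comp_assoc, ← hf', ← LinearMap.comp_assoc,
        counit_coactAux, LinearMap.id_comp]
    · intro h hh
      have hh' : f' = h.rTensor A ∘ₗ HopfRep.Comod.coact (k := k) (A := A) := hh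
      rw [hh', ← LinearMap.comp_assoc]
      have : idCounit k A N ∘ₗ h.rTensor A = h ∘ₗ idCounit k A M := by
        refine TensorProduct.ext' fun m a => ?_
        simp
      rw [this, LinearMap.comp_assoc, idCounit_coact, LinearMap.comp_id]

end Groth.Agent.S12929
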