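import Groth.Statements.S12932
import Groth.Agent.Lib.Helper66.TraceTame

set_option autoImplicit false
universe u v
open scoped BigOperators
open InvTh

namespace Groth.Agent.S12932

/-- Let `B` be a commutative ring with an action of a finite group `Γ` by ring automorphisms, and call a
prime ideal `P` of `B` tame when the order of its inertia group `{γ | γ • x - x ∈ P for all x}` is
not divisible by the characteristic of `B/P` (its ramification group is trivial). Then every prime
of `B` is tame if and only if the trace `b ↦ Σ_γ γ • b`, which takes values in the invariant ring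
`B^Γ` and is `B^Γ`-linear, is onto `B^Γ` — equivalently, some element of `B` has trace `1`. -/
theorem result
    (B : Type u) [CommRing B] (Γ : Type v) [Group Γ] [Fintype Γ] [MulSemiringAction Γ B] :
    (∃ b : B, ∑ γ : Γ, γ • b = 1) ↔
      ∀ P : Ideal B, P.IsPrime → ((Nat.card (P.inertia Γ) : ℕ) : B ⧸ P) ≠ 0 := by
  classical
  constructor
  · rintro ⟨b, hb⟩ P hP hzero
    have h := Groth.Agent.Lib.Helper66.TraceTame.mk_trace (Γ := Γ) P b
    rw [hb, hzero, zero_mul, map_one] at h
    have : Nontrivial (B ⧸ P) := Ideal.Quotient.nontrivial_iff.mpr hP.ne_top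
    exact one_ne_zero h
  · intro h
    by_contra hcon
    push Not at hcon
    obtain ⟨P, hPprime, hPtr⟩ :=
      Groth.Agent.Lib.Helper66.TraceTame.exists_prime_of_forall_trace_ne_one (Γ := Γ) hcon
    have hT := h P hPprime
    have hli := linearIndependent_monoidHom B (B ⧸ P)
    rw [linearIndependent_iff'] at hli
    have key : ∀ b : B, ∑ ψ ∈ Finset.univ.image
        (Groth.Agent.Lib.Helper66.TraceTame.psi (Γ := Γ) P), ψ b = 0 := by
      intro b
      have h2 := Groth.Agent.Lib.Helper66.TraceTame.mk_trace (Γ := Γ) P b
      rw [Ideal.Quotient.eq_zero_iff_mem.mpr (hPtr b)] at h2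
      exact (mul_eq_zero.mp h2.symm).resolve_left hT
    have h3 := hli (Finset.univ.image (Groth.Agent.Lib.Helper66.TraceTame.psi (Γ := Γ) P))
      (fun _ => 1) (by ext b; simp [key b])
      (Groth.Agent.Lib.Helper66.TraceTame.psi P 1)
      (Finset.mem_image_of_mem _ (Finset.mem_univ _))
    exact one_ne_zero h3

end Groth.Agent.S12932
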