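import Groth.Statements.S12933
import Mathlib.LinearAlgebra.TensorProduct.Pi
import Mathlib.RingTheory.Flat.Basic
import Mathlib.Algebra.Exact.Basic

set_option autoImplicit false
universe u v w w'
open TensorProduct
open InvTh

namespace Groth.Agent.S12933

/-- Let `R` be a commutative ring, `B` a commutative `R`-algebra with an action of a finite group `Γ` by
`R`-algebra automorphisms, and `R'` a flat commutative `R`-algebra; let `Γ` act on `R' ⊗_R B`
through the factor `B`. Then an element of `R' ⊗_R B` is fixed by every element of `Γ` if and only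
if it lies in the `R'`-submodule spanned by the tensors `1 ⊗ b` with `b ∈ B^Γ`: taking invariants
commutes with flat base change (the map `R' ⊗_R B^Γ → R' ⊗_R B` being moreover injective by
flatness). -/
theorem result
    (R : Type u) [CommRing R] (B : Type v) [CommRing B] [Algebra R B]
    (Γ : Type w) [Group Γ] [Finite Γ] [MulSemiringAction Γ B] [SMulCommClass Γ R B]
    (R' : Type w') [CommRing R'] [Algebra R R'] [Module.Flat R R']
    (x : R' ⊗[R] B) :
    (∀ γ : Γ, Algebra.TensorProduct.map (AlgHom.id R R') (MulSemiringAction.toAlgHom R B γ) x = x) ↔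
      x ∈ Submodule.span R' ((fun b : B => (1 : R') ⊗ₜ[R] b) '' {b : B | ∀ γ : Γ, γ • b = b}) := by
  classical
  cases nonempty_fintype Γ
  constructor
  · intro hx
    -- the map whose kernel is the ring of invariants
    let ψ : B →ₗ[R] (Γ → B) :=
      LinearMap.pi fun γ => (MulSemiringAction.toAlgHom R B γ).toLinearMap - LinearMap.id
    have hex : Function.Exact ((LinearMap.ker ψ).subtype.lTensor R') (ψ.lTensor R') :=
      Module.Flat.lTensor_exact R' (LinearMap.exact_subtype_ker_map ψ)
    have hcomp : ∀ γ : Γ, (LinearMap.proj γ : (Γ → R' ⊗[R] B) →ₗ[R] R' ⊗[R] B) ∘ₗ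
        ((TensorProduct.piRight R R R' (fun _ : Γ => B)).toLinearMap ∘ₗ ψ.lTensor R') =
        (Algebra.TensorProduct.map (AlgHom.id R R') (MulSemiringAction.toAlgHom R B γ)).toLinearMap
          - LinearMap.id := by
      intro γ
      refine TensorProduct.ext' fun r b => ?_
      simp [ψ, TensorProduct.piRight_apply, tmul_sub]
    have hzero : ψ.lTensor R' x = 0 := by
      apply (TensorProduct.piRight R R R' (fun _ : Γ => B)).injective
      rw [map_zero]
      funext γ
      have := LinearMap.congr_fun (hcomp γ) x
      simp only [LinearMap.comp_apply, LinearMap.proj_apply, LinearEquiv.coe_coe,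
        LinearMap.sub_apply, AlgHom.toLinearMap_apply, LinearMap.id_apply] at this
      rw [this, hx γ, sub_self]
      rfl
    have key : ∀ y : R' ⊗[R] LinearMap.ker ψ, (LinearMap.ker ψ).subtype.lTensor R' y ∈
        Submodule.span R' ((fun b : B => (1 : R') ⊗ₜ[R] b) '' {b : B | ∀ γ : Γ, γ • b = b}) := by
      intro y
      induction y using TensorProduct.induction_on with
      | zero => simp
      | tmul r c =>
        have hc : ∀ γ : Γ, γ • (c : B) = c := by
          intro γ
          have h := c.2
          rw [LinearMap.mem_ker] at h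
          have := congrFun h γ
          simpa [ψ, sub_eq_zero] using this
        have : (LinearMap.ker ψ).subtype.lTensor R' (r ⊗ₜ[R] c) = r • ((1 : R') ⊗ₜ[R] (c : B)) := by
          simp [TensorProduct.smul_tmul']
        rw [this]
        exact Submodule.smul_mem _ _ (Submodule.subset_span ⟨c, hc, rfl⟩)
      | add y₁ y₂ h₁ h₂ =>
        rw [map_add]
        exact Submodule.add_mem _ h₁ h₂
    obtain ⟨y, rfl⟩ := (hex x).mp hzero
    exact key y
  · intro hx γ
    induction hx using Submodule.span_induction with
    | mem y hy =>
      obtain ⟨b, hb, rfl⟩ := hy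
      simp [hb γ]
    | zero => simp
    | add y z _ _ hy hz => rw [map_add, hy, hz]
    | smul r y _ hy =>
      rw [Algebra.smul_def, map_mul, hy]
      congr 1
      simp [Algebra.TensorProduct.algebraMap_apply]

end Groth.Agent.S12933
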