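import Groth.Statements.S12935
import Mathlib.RingTheory.Invariant.Basic

set_option autoImplicit false
universe u v
open InvTh

namespace Groth.Agent.S12935

open scoped Pointwise

section
variable {B : Type u} [CommRing B] {Γ : Type v} [Group Γ] [Finite Γ] [MulSemiringAction Γ B]
  (Ω : Subgroup Γ)

instance isInvariant_fixedPoints :
    Algebra.IsInvariant (FixedPoints.subring B Ω) B Ω where
  isInvariant b hb := ⟨⟨b, hb⟩, rfl⟩

theorem mem_fixedPoints_iff (x : B) :
    x ∈ FixedPoints.subring B Ω ↔ ∀ ω ∈ Ω, ω • x = x := by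
  constructor
  · intro h ω hω
    exact h ⟨ω, hω⟩
  · intro h ω
    exact h ω.1 ω.2

/-- transitivity: if `P` and `γ⁻¹P` have the same contraction to `B^Ω`, then `γω` stabilises `P`
for some `ω ∈ Ω`. -/
theorem decomp_aux (P : Ideal B) [P.IsPrime] (γ : Γ)
    (h : ∀ x : B, (∀ ω ∈ Ω, ω • x = x) → (x ∈ P ↔ γ • x ∈ P)) :
    ∃ ω ∈ Ω, ∀ x : B, x ∈ P ↔ (γ * ω) • x ∈ P := by
  let A := FixedPoints.subring B Ω
  let P' : Ideal B := P.comap (MulSemiringAction.toRingHom Γ B γ)
  have hP' : P'.IsPrime := Ideal.comap_isPrime _ _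
  have hunder : P.under A = P'.under A := by
    ext a
    simp only [Ideal.under_def, Ideal.mem_comap]
    exact h a.1 ((mem_fixedPoints_iff Ω a.1).mp a.2)
  obtain ⟨g, hg⟩ := Algebra.IsInvariant.exists_smul_of_under_eq A B Ω P P' hunder
  refine ⟨g.1, g.2, fun x => ?_⟩
  rw [mul_smul]
  change x ∈ P ↔ (g • x) ∈ P'
  rw [hg, Ideal.smul_mem_pointwise_smul_iff]

end

/-- Let `B` be a commutative ring with an action of a finite group `Γ` by ring automorphisms, `Ω` a
normal subgroup of `Γ`, `B^Ω` the subring of `Ω`-invariants (stable under `Γ`, with the induced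
action of `Γ/Ω`), and `P` a prime ideal of `B`. Then (decomposition groups) an element `γ` maps `P ∩
B^Ω` onto itself if and only if `γω` maps `P` onto itself for some `ω ∈ Ω`; and (inertia groups) `γ`
fixes `B^Ω` modulo `P ∩ B^Ω` if and only if `γω` fixes `B` modulo `P` for some `ω ∈ Ω`. In other
words the decomposition and inertia groups of `P ∩ B^Ω` under `Γ/Ω` are the images of those of `P`.
(The published statement also asserts the same for the ramification groups, the Sylow subgroups of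
the inertia groups at the residue characteristic; that clause is not included here.) -/
theorem result
    (B : Type u) [CommRing B] (Γ : Type v) [Group Γ] [Finite Γ] [MulSemiringAction Γ B]
    (Ω : Subgroup Γ) [Ω.Normal] (P : Ideal B) [P.IsPrime] (γ : Γ) :
    ((∀ x : B, (∀ ω ∈ Ω, ω • x = x) → (x ∈ P ↔ γ • x ∈ P)) ↔
        ∃ ω ∈ Ω, ∀ x : B, x ∈ P ↔ (γ * ω) • x ∈ P) ∧
      ((∀ x : B, (∀ ω ∈ Ω, ω • x = x) → γ • x - x ∈ P) ↔
        ∃ ω ∈ Ω, ∀ x : B, (γ * ω) • x - x ∈ P) := by
  refine ⟨⟨decomp_aux Ω P γ, ?_⟩, ⟨?_, ?_⟩⟩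
  · rintro ⟨ω, hω, h⟩ x hx
    have := h x
    rwa [mul_smul, hx ω hω] at this
  · intro h
    -- `γ` stabilises `P ∩ B^Ω`
    have h1 : ∀ x : B, (∀ ω ∈ Ω, ω • x = x) → (x ∈ P ↔ γ • x ∈ P) := by
      intro x hx
      constructor
      · intro hxP
        have : γ • x = (γ • x - x) + x := by ring
        rw [this]
        exact add_mem (h x hx) hxP
      · intro hxP
        have : x = γ • x - (γ • x - x) := by ring
        rw [this]
        exact sub_mem hxP (h x hx)
    obtain ⟨ω₁, hω₁, hδ⟩ := decomp_aux Ω P γ h1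
    set δ : Γ := γ * ω₁ with hδdef
    let A := FixedPoints.subring B Ω
    let p : Ideal A := P.under A
    -- the automorphism of `B ⧸ P` induced by `δ`
    have hmap : P = P.map ((MulSemiringAction.toRingEquiv Γ B δ : B ≃+* B) : B →+* B) := by
      apply le_antisymm
      · intro x hx
        have hx' : δ⁻¹ • x ∈ P := by
          rw [hδ (δ⁻¹ • x), smul_inv_smul]; exact hx
        have := Ideal.mem_map_of_mem ((MulSemiringAction.toRingEquiv Γ B δ : B ≃+* B) : B →+* B) hx'
        simpa using this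
      · rw [Ideal.map_le_iff_le_comap]
        intro x hx
        exact (hδ x).mp hx
    let δbar : (B ⧸ P) ≃ₐ[A ⧸ p] (B ⧸ P) :=
      { Ideal.quotientEquiv P P (MulSemiringAction.toRingEquiv Γ B δ) hmap with
        commutes' := by
          rintro ⟨a⟩
          change Ideal.Quotient.mk P (δ • (a : B)) = Ideal.Quotient.mk P (a : B)
          rw [Ideal.Quotient.eq, hδdef, mul_smul,
            (mem_fixedPoints_iff Ω a.1).mp a.2 ω₁ hω₁]
          exact h a.1 ((mem_fixedPoints_iff Ω a.1).mp a.2) }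
    obtain ⟨σ, hσ⟩ := Ideal.Quotient.stabilizerHom_surjective Ω p P δbar
    have hσδ : ∀ x : B, δ • x - (σ.1 : Γ) • x ∈ P := by
      intro x
      have := congrArg (fun f => f (Ideal.Quotient.mk P x)) hσ
      simp only [Ideal.Quotient.stabilizerHom_apply] at this
      rw [← Ideal.Quotient.eq]
      exact this.symm
    refine ⟨ω₁ * (σ.1 : Γ)⁻¹, Ω.mul_mem hω₁ (Ω.inv_mem σ.1.2), fun x => ?_⟩
    have := hσδ ((σ.1 : Γ)⁻¹ • x)
    rw [smul_inv_smul] at this
    rw [← mul_assoc, mul_smul]
    exact this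
  · rintro ⟨ω, hω, h⟩ x hx
    have := h x
    rwa [mul_smul, hx ω hω] at this

end Groth.Agent.S12935
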