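import Groth.Statements.S12936
import Mathlib.RingTheory.Ideal.Maps
import Mathlib.RingTheory.Ideal.Quotient.Operations
import Mathlib.Algebra.BigOperators.GroupWithZero.Action
import Mathlib.Algebra.Ring.Action.Group

set_option autoImplicit false
universe u v
open InvTh

namespace Groth.Agent.S12936

section
variable {B : Type u} [CommRing B] {Γ : Type v} [Group Γ] [MulSemiringAction Γ B]

/-- The decomposition group of an ideal, as a subgroup. -/
def decomp (P : Ideal B) : Subgroup Γ where
  carrier := {γ | ∀ y : B, y ∈ P ↔ γ • y ∈ P}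
  one_mem' := by intro y; simp
  mul_mem' := by
    intro a b ha hb y
    rw [mul_smul]
    exact (hb y).trans (ha _)
  inv_mem' := by
    intro a ha y
    have := ha (a⁻¹ • y)
    rw [smul_inv_smul] at this
    exact this.symm

theorem mem_decomp (P : Ideal B) (γ : Γ) :
    γ ∈ decomp (Γ := Γ) P ↔ ∀ y : B, y ∈ P ↔ γ • y ∈ P := Iff.rfl

/-- the sum over the orbit of an element is invariant. -/
theorem smul_sum_orbit [Fintype Γ] [DecidableEq B] (y : B) (γ : Γ) :
    γ • (∑ b ∈ (Finset.univ.image fun g : Γ => g • y), b) =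
      ∑ b ∈ (Finset.univ.image fun g : Γ => g • y), b := by
  rw [Finset.smul_sum]
  have hinj : Set.InjOn (fun b : B => γ • b) ((Finset.univ.image fun g : Γ => g • y) : Set B) :=
    fun a _ b _ h => MulAction.injective γ h
  rw [← Finset.sum_image (f := fun b => b) hinj, Finset.image_image]
  congr 1
  ext b
  simp only [Finset.mem_image, Finset.mem_univ, true_and, Function.comp_apply]
  constructor
  · rintro ⟨g, rfl⟩
    exact ⟨γ * g, mul_smul _ _ _⟩
  · rintro ⟨g, rfl⟩
    exact ⟨γ⁻¹ * g, by rw [← mul_smul, mul_inv_cancel_left]⟩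

end

/-- Let `B` be a commutative ring with an action of a finite group `Γ` by ring automorphisms and `P` a
maximal ideal of `B`, with decomposition group `D_P = {γ | γP = P}` and decomposition ring `D =
B^{D_P}`. Then `D = B^Γ + (P ∩ D)`: every element of `B` fixed by `D_P` is congruent modulo `P` to a
`Γ`-invariant element. Hence the residue field of `D` at `P ∩ D` is that of `B^Γ` at `P ∩ B^Γ`; for
an arbitrary prime `P` the same equality of residue fields follows by localising at `P ∩ B^Γ`. (The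
published statement prints this residue field as `k(P)`; the proof establishes the equality with the
residue field of `B^Γ` stated here.) -/
theorem result
    (B : Type u) [CommRing B] (Γ : Type v) [Group Γ] [Finite Γ] [MulSemiringAction Γ B]
    (P : Ideal B) [P.IsMaximal] (x : B)
    (hx : ∀ γ : Γ, (∀ y : B, y ∈ P ↔ γ • y ∈ P) → γ • x = x) :
    ∃ c : B, (∀ γ : Γ, γ • c = c) ∧ x - c ∈ P := by
  classical
  cases nonempty_fintype Γ
  have hPprime : P.IsPrime := Ideal.IsMaximal.isPrime inferInstance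
  set D : Subgroup Γ := decomp (Γ := Γ) P with hD
  -- Step 1: for `γ ∉ D` an element `a γ ∉ P` with `γ • a γ ∈ P`
  have hex : ∀ γ : Γ, γ ∉ D → ∃ a : B, γ • a ∈ P ∧ a ∉ P := by
    intro γ hγ
    by_contra hcon
    push Not at hcon
    -- then `P_γ ⊆ P`
    let Pγ : Ideal B := P.comap (MulSemiringAction.toRingHom Γ B γ)
    have hle : Pγ ≤ P := fun a ha => hcon a ha
    have hmax : Pγ.IsMaximal :=
      Ideal.comap_isMaximal_of_surjective _ (MulAction.surjective γ)
    have heq : Pγ = P := hmax.eq_of_le (Ideal.IsMaximal.ne_top inferInstance) hle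
    apply hγ
    intro y
    have h1 : y ∈ Pγ ↔ γ • y ∈ P := Iff.rfl
    rw [← h1, heq]
  choose! a ha1 ha2 using hex
  set S : Finset Γ := Finset.univ.filter (fun γ => γ ∉ D) with hS
  set a₀ : B := ∏ γ ∈ S, a γ with ha₀
  have ha₀P : a₀ ∉ P := by
    rw [ha₀, hPprime.prod_mem_iff]
    rintro ⟨γ, hγ, h⟩
    exact ha2 γ (Finset.mem_filter.mp hγ).2 h
  have ha₀γ : ∀ γ, γ ∉ D → γ • a₀ ∈ P := by
    intro γ hγ
    rw [ha₀, Finset.smul_prod']
    exact Ideal.prod_mem P (Finset.mem_filter.mpr ⟨Finset.mem_univ _, hγ⟩) (ha1 γ hγ)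
  obtain ⟨b, i, hi, hbi⟩ := Ideal.IsMaximal.exists_inv (inferInstance : P.IsMaximal) ha₀P
  set e : B := b * a₀ with he
  have he1 : e - 1 ∈ P := by
    have : e - 1 = -i := by rw [he, ← hbi]; ring
    rw [this]
    exact neg_mem hi
  have heγ : ∀ γ, γ ∉ D → γ • e ∈ P := by
    intro γ hγ
    rw [he, smul_mul']
    exact Ideal.mul_mem_left _ _ (ha₀γ γ hγ)
  -- Step 2: the `D`-invariant version
  set e' : B := ∏ δ : D, (δ : Γ) • e with he'
  have he'D : ∀ δ : Γ, δ ∈ D → δ • e' = e' := by
    intro δ hδ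
    have := Finset.smul_prod_perm (G := D) e ⟨δ, hδ⟩
    simpa [Subgroup.smul_def] using this
  have he'1 : e' - 1 ∈ P := by
    rw [← Ideal.Quotient.eq, he', map_prod, map_one]
    apply Finset.prod_eq_one
    intro δ _
    rw [← map_one (Ideal.Quotient.mk P), Ideal.Quotient.eq]
    have hδ : (δ : Γ) ∈ D := δ.2
    have := ((mem_decomp P _).mp hδ (e - 1)).mp he1
    rwa [smul_sub, smul_one] at this
  have he'γ : ∀ γ, γ ∉ D → γ • e' ∈ P := by
    intro γ hγ
    rw [he', Finset.smul_prod']
    refine Ideal.prod_mem P (Finset.mem_univ (1 : D)) ?_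
    simpa using heγ γ hγ
  -- Step 3: `y = x e'`
  set y : B := x * e' with hy
  have hyD : ∀ δ : Γ, δ ∈ D → δ • y = y := by
    intro δ hδ
    rw [hy, smul_mul', he'D δ hδ, hx δ ((mem_decomp P δ).mp hδ)]
  have hyx : x - y ∈ P := by
    have : x - y = -(x * (e' - 1)) := by rw [hy]; ring
    rw [this]
    exact neg_mem (Ideal.mul_mem_left _ _ he'1)
  have hyγ : ∀ γ, γ ∉ D → γ • y ∈ P := by
    intro γ hγ
    rw [hy, smul_mul']
    exact Ideal.mul_mem_left _ _ (he'γ γ hγ)
  -- Step 4: the orbit sum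
  set O : Finset B := Finset.univ.image fun g : Γ => g • y with hO
  refine ⟨∑ b ∈ O, b, fun γ => smul_sum_orbit y γ, ?_⟩
  have hyO : y ∈ O := Finset.mem_image.mpr ⟨1, Finset.mem_univ _, one_smul _ _⟩
  have hrest : ∑ b ∈ O.erase y, b ∈ P := by
    refine sum_mem fun b hb => ?_
    obtain ⟨hne, hbO⟩ := Finset.mem_erase.mp hb
    obtain ⟨g, -, rfl⟩ := Finset.mem_image.mp hbO
    apply hyγ
    intro hg
    exact hne (hyD g hg)
  have : x - ∑ b ∈ O, b = (x - y) - ∑ b ∈ O.erase y, b := by
    rw [← Finset.add_sum_erase O (fun b => b) hyO]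
    ring
  rw [this]
  exact sub_mem hyx hrest

end Groth.Agent.S12936
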