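import Groth.Statements.S12941
import Groth.Agent.Lib.Helper66.AlgStBridge

set_option autoImplicit false
universe u
open CategoryTheory AlgebraicGeometry
open AlgSt

namespace Groth.Agent.S12941

/-- If a morphism f of algebraic stacks is representable by algebraic spaces, then its diagonal is a
monomorphism (representable by algebraic spaces, and a monomorphism of sheaves after every base
change to a scheme). -/
theorem result
    (S : Scheme.{u}) (𝒳 : AlgSt.Cat S) (𝒴 : AlgSt.Cat S)
    (h𝒳 : AlgSt.IsAlgStack Scheme.fppfPrecoverage 𝒳)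
    (h𝒴 : AlgSt.IsAlgStack Scheme.fppfPrecoverage 𝒴)
    (f : 𝒳 ⥤ᵇ 𝒴)
    (hf : AlgSt.RepByAlgSp1 f) :
    AlgSt.IsMono (FibCat.diag f) := by
  have hf' := (Groth.Agent.Lib.Helper65.repByAlgSp1_iff_top f).1 hf
  refine Groth.Agent.Lib.Helper66.AlgStBridge.repByAlgSpWith_diag_of_rep
    (MorphismProperty.monomorphisms _) ⊤ ?_ f hf' ?_
  · intro X₁ Y₁ X₂ Y₂ _ _ _ _ a b a' b' sq ha
    exact MorphismProperty.of_isPullback (P := MorphismProperty.monomorphisms _) sq ha
  · intro V T a _
    exact (inferInstance : Mono (Limits.pullback.diagonal a))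

end Groth.Agent.S12941
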