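import Groth.Statements.S12943
import Groth.Agent.Lib.Helper66.AlgStBridgeConv
import Groth.Agent.Lib.Helper66.AlgStPFacts
import Groth.Agent.Lib.Helper66.AlgStImmFacts
import Groth.Agent.Lib.Helper65.LocalProps
import Groth.Agent.S10280
import Groth.Agent.S10521

set_option autoImplicit false
universe u
open CategoryTheory AlgebraicGeometry
open AlgSt

namespace Groth.Agent.S12943

/-- For a morphism f of algebraic stacks that is representable by algebraic spaces, the following are
equivalent: f is separated (every base change to a scheme is a separated morphism of algebraic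
spaces); the diagonal of f is a closed immersion; the diagonal of f is proper; the diagonal of f is
universally closed. -/
theorem result
    (S : Scheme.{u}) (𝒳 : AlgSt.Cat S) (𝒴 : AlgSt.Cat S)
    (h𝒳 : AlgSt.IsAlgStack Scheme.fppfPrecoverage 𝒳)
    (h𝒴 : AlgSt.IsAlgStack Scheme.fppfPrecoverage 𝒴)
    (f : 𝒳 ⥤ᵇ 𝒴)
    (hf : AlgSt.RepByAlgSp1 f) :
    [AlgSt.RepByAlgSpWith AlgSp.IsSeparatedMor f, AlgSt.IsClosedImm (FibCat.diag f),
      AlgSt.IsSeparatedMor f, AlgSt.RepByAlgSpWith AlgSp.IsUnivClosedMor (FibCat.diag f)].TFAE := by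
  have hf' := (Groth.Agent.Lib.Helper65.repByAlgSp1_iff_top f).1 hf
  tfae_have 1 → 2 := fun h =>
    Groth.Agent.Lib.Helper66.AlgStBridge.repByAlgSpWith_diag_of_rep (AlgSp.RepWith @IsClosedImmersion)
      AlgSp.IsSeparatedMor (Groth.Agent.Lib.Helper66.AlgStImmFacts.stableBC_repWith _) f h
      (fun V T a ha => ha)
  tfae_have 1 → 3 := fun h =>
    Groth.Agent.Lib.Helper66.AlgStBridge.repByAlgSpWith_diag_of_rep AlgSp.IsProperMor
      AlgSp.IsSeparatedMor Groth.Agent.Lib.Helper66.AlgStPFacts.stableBC_isProperMor f h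
      (fun V T a ha => ((Groth.Agent.S10280.result (X := V)
        (Y := ⟨(AlgSp.yon S).obj T, AlgSp.IsAlgSpace.yon_obj T⟩) (ObjectProperty.homMk a)).2).1 ha)
  tfae_have 3 → 4 := fun h =>
    Groth.Agent.Lib.Helper65.repByAlgSpWith_mono (fun _ _ _ h => h.2.2) _ h
  tfae_have 4 → 1 := fun h U y => by
    obtain ⟨V, e, he⟩ := hf U y
    refine ⟨V, e, he, ?_⟩
    have h4 := Groth.Agent.Lib.Helper66.AlgStBridgeConv.prop_diagonal_of_repByAlgSpWith_diag
      AlgSp.IsUnivClosedMor (Groth.Agent.Lib.Helper66.AlgStBridgeConv.stableBC_univSp _)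
      (Groth.Agent.Lib.Helper66.RepWithPDet.detected_of_isLocalOnBase _
        (Groth.Agent.Lib.Helper66.AlgStPFacts.isLocalOnBase_fppf_of_fpqc _ (Groth.Agent.S10521.result S)))
      f h U y V e he
    exact ((Groth.Agent.S10280.result (X := V)
      (Y := ⟨(AlgSp.yon S).obj U, AlgSp.IsAlgSpace.yon_obj U⟩) (ObjectProperty.homMk _)).1).2 h4
  tfae_have 2 → 1 := fun h U y => by
    obtain ⟨V, e, he⟩ := hf U y
    exact ⟨V, e, he, Groth.Agent.Lib.Helper66.AlgStBridgeConv.prop_diagonal_of_repByAlgSpWith_diag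
      (AlgSp.RepWith @IsClosedImmersion) (Groth.Agent.Lib.Helper66.AlgStImmFacts.stableBC_repWith _)
      (Groth.Agent.Lib.Helper66.AlgStImmFacts.detected_repWith _) f h U y V e he⟩
  tfae_finish

end Groth.Agent.S12943
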