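import Groth.Statements.S12944
import Groth.Agent.Lib.Helper66.AlgStBridgeQS
import Groth.Agent.Lib.Helper65.LocalProps

set_option autoImplicit false
universe u
open CategoryTheory AlgebraicGeometry
open AlgSt

namespace Groth.Agent.S12944

/-- For a morphism f of algebraic stacks that is representable by algebraic spaces, these three
conditions coincide: f is quasi-separated (every base change to a scheme is a quasi-separated
morphism of algebraic spaces); the diagonal of f is quasi-compact; the diagonal of f is of finite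
type. -/
theorem result
    (S : Scheme.{u}) (𝒳 : AlgSt.Cat S) (𝒴 : AlgSt.Cat S)
    (h𝒳 : AlgSt.IsAlgStack Scheme.fppfPrecoverage 𝒳)
    (h𝒴 : AlgSt.IsAlgStack Scheme.fppfPrecoverage 𝒴)
    (f : 𝒳 ⥤ᵇ 𝒴)
    (hf : AlgSt.RepByAlgSp1 f) :
    [AlgSt.RepByAlgSpWith AlgSp.IsQuasiSeparatedMor f,
      AlgSt.RepByAlgSpWith AlgSp.IsQuasiCompactMor (FibCat.diag f),
      AlgSt.RepByAlgSpWith AlgSp.IsFiniteTypeMor (FibCat.diag f)].TFAE := by
  tfae_have 1 → 3 := fun h =>
    Groth.Agent.Lib.Helper66.AlgStBridge.repByAlgSpWith_diag_of_rep AlgSp.IsFiniteTypeMor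
      AlgSp.IsQuasiSeparatedMor Groth.Agent.Lib.Helper66.AlgStBridgeQS.stableBC_isFiniteTypeMor f h
      (fun V T a ha =>
        ⟨Groth.Agent.Lib.Helper66.AlgStBridgeQS.locP_lft_diagonal (V := V)
          (Y := ⟨(AlgSp.yon S).obj T, AlgSp.IsAlgSpace.yon_obj T⟩) (ObjectProperty.homMk a),
        Groth.Agent.H52.isQuasiCompactMor_of_repWith_quasiCompact _ ha⟩)
  tfae_have 3 → 2 := fun h =>
    Groth.Agent.Lib.Helper65.repByAlgSpWith_mono (fun _ _ _ h => h.2) _ h
  tfae_have 2 → 1 := fun h U y => by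
    obtain ⟨V, e, he⟩ := hf U y
    refine ⟨V, e, he, ?_⟩
    have h4 := Groth.Agent.Lib.Helper66.AlgStBridgeConv.prop_diagonal_of_repByAlgSpWith_diag
      AlgSp.IsQuasiCompactMor Groth.Agent.Lib.Helper66.AlgStBridgeQS.stableBC_isQuasiCompactMor
      Groth.Agent.Lib.Helper66.AlgStBridgeQS.detected_isQuasiCompactMor f h U y V e he
    exact (Groth.Agent.Lib.Helper66.AlgStBridgeQS.repWith_quasiCompact_diagonal_iff (V := V)
      (Y := ⟨(AlgSp.yon S).obj U, AlgSp.IsAlgSpace.yon_obj U⟩) (ObjectProperty.homMk _)).2 h4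
  tfae_finish

end Groth.Agent.S12944
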