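import Groth.Statements.S12945
import Groth.Agent.Lib.Helper66.AlgStBridgeQS

set_option autoImplicit false
universe u
open CategoryTheory AlgebraicGeometry
open AlgSt

namespace Groth.Agent.S12945

/-- For a morphism f of algebraic stacks that is representable by algebraic spaces, f is quasi-separated
in the sense of stacks (diagonal quasi-compact and quasi-separated) if and only if every base change
of f to a scheme is a quasi-separated morphism of algebraic spaces. (For such f the diagonal is
separated, so the two notions of quasi-separated agree.) -/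
theorem result
    (S : Scheme.{u}) (𝒳 : AlgSt.Cat S) (𝒴 : AlgSt.Cat S)
    (h𝒳 : AlgSt.IsAlgStack Scheme.fppfPrecoverage 𝒳)
    (h𝒴 : AlgSt.IsAlgStack Scheme.fppfPrecoverage 𝒴)
    (f : 𝒳 ⥤ᵇ 𝒴)
    (hf : AlgSt.RepByAlgSp1 f) :
    AlgSt.IsQuasiSeparatedMor f ↔ AlgSt.RepByAlgSpWith AlgSp.IsQuasiSeparatedMor f := by
  constructor
  · intro h U y
    obtain ⟨V, e, he⟩ := hf U y
    refine ⟨V, e, he, ?_⟩
    have h4 := Groth.Agent.Lib.Helper66.AlgStBridgeConv.prop_diagonal_of_repByAlgSpWith_diag
      (AlgSp.IsQuasiCompactMor ⊓ AlgSp.IsQuasiSeparatedMor)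
      Groth.Agent.Lib.Helper66.AlgStPFacts.stableBC_qcqs
      (Groth.Agent.Lib.Helper66.RepWithPDet.detected_of_isLocalOnBase _
        Groth.Agent.Lib.Helper66.AlgStPFacts.isLocalOnBase_fppf_qcqs) f h U y V e he
    exact (Groth.Agent.Lib.Helper66.AlgStBridgeQS.repWith_quasiCompact_diagonal_iff (V := V)
      (Y := ⟨(AlgSp.yon S).obj U, AlgSp.IsAlgSpace.yon_obj U⟩) (ObjectProperty.homMk _)).2 h4.1
  · intro h
    exact Groth.Agent.Lib.Helper66.AlgStBridge.repByAlgSpWith_diag_of_rep
      (AlgSp.IsQuasiCompactMor ⊓ AlgSp.IsQuasiSeparatedMor)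
      AlgSp.IsQuasiSeparatedMor Groth.Agent.Lib.Helper66.AlgStPFacts.stableBC_qcqs f h
      (fun V T a ha => by
        refine ⟨Groth.Agent.H52.isQuasiCompactMor_of_repWith_quasiCompact _ ha, ?_⟩
        have : IsIso (Limits.pullback.diagonal (Limits.pullback.diagonal a)) :=
          (Limits.pullback.isIso_diagonal_iff _).mpr inferInstance
        exact Groth.Agent.H52.repWith_of_isIso _ _)

end Groth.Agent.S12945
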