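import Groth.Statements.S12964
import Groth.Agent.Lib.Helper66.AlgStDiagLft2
import Groth.Agent.Lib.Helper66.AlgStSect

set_option autoImplicit false
universe u
open CategoryTheory AlgebraicGeometry
open AlgSt

namespace Groth.Agent.S12964

/-- A section s : 𝒯 → 𝒳 of a morphism f : 𝒳 → 𝒯 of algebraic stacks (f ∘ s is 2-isomorphic to the
identity) is representable by algebraic spaces and locally of finite type. -/
theorem result
    (S : Scheme.{u}) (𝒳 : AlgSt.Cat S) (𝒯 : AlgSt.Cat S)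
    (h𝒳 : AlgSt.IsAlgStack Scheme.fppfPrecoverage 𝒳)
    (h𝒯 : AlgSt.IsAlgStack Scheme.fppfPrecoverage 𝒯)
    (f : 𝒳 ⥤ᵇ 𝒯) (s : 𝒯 ⥤ᵇ 𝒳) (e : BasedFunctor.comp s f ≅ BasedFunctor.id 𝒯) :
    AlgSt.RepByAlgSpWith (AlgSp.LocP @LocallyOfFiniteType) s := by
  exact Groth.Agent.Lib.Helper66.AlgStSect.repByAlgSpWith_section _ f s e
    (Groth.Agent.Lib.Helper66.AlgStDiagLft2.repByAlgSpWith_lft_diag h𝒳.isStack.1 h𝒯.isStack.1
      h𝒳.diag h𝒯.diag h𝒳.atlas f)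

end Groth.Agent.S12964
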