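import Groth.Statements.S12971
import Groth.Agent.Lib.Helper66.AlgStBridgeUnram
import Groth.Agent.S10280

set_option autoImplicit false
universe u
open CategoryTheory AlgebraicGeometry
open AlgSt

namespace Groth.Agent.S12971

/-- A monomorphism of algebraic stacks (representable by algebraic spaces and a monomorphism) is
separated and DM. -/
theorem result
    (S : Scheme.{u}) (𝒳 : AlgSt.Cat S) (𝒴 : AlgSt.Cat S)
    (h𝒳 : AlgSt.IsAlgStack Scheme.fppfPrecoverage 𝒳)
    (h𝒴 : AlgSt.IsAlgStack Scheme.fppfPrecoverage 𝒴)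
    (f : 𝒳 ⥤ᵇ 𝒴) :
    AlgSt.IsMono f → AlgSt.IsSeparatedMor f ∧ AlgSt.IsDMMor f := by
  intro hmono
  have hrep : AlgSt.RepByAlgSp1 f := fun U y => by
    obtain ⟨F, e, he, -⟩ := hmono U y
    exact ⟨F, e, he⟩
  refine ⟨?_, Groth.Agent.Lib.Helper66.AlgStBridgeUnram.isDMMor_of_repByAlgSp1 f hrep⟩
  exact Groth.Agent.Lib.Helper66.AlgStBridge.repByAlgSpWith_diag_of_rep AlgSp.IsProperMor
    (MorphismProperty.monomorphisms _) Groth.Agent.Lib.Helper66.AlgStPFacts.stableBC_isProperMor f hmono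
    (fun V T a ha => by
      have : Mono a := ha
      have hsep : AlgSp.IsSeparatedMor a := Groth.Agent.H52.isSeparatedMor_of_repWith_mono a
      exact ((Groth.Agent.S10280.result (X := V)
        (Y := ⟨(AlgSp.yon S).obj T, AlgSp.IsAlgSpace.yon_obj T⟩) (ObjectProperty.homMk a)).2).1 hsep)

end Groth.Agent.S12971
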