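import Groth.Statements.S12972
import Groth.Agent.Lib.Helper66.AlgStInertia
import Groth.Agent.Lib.Helper66.AlgStImmFacts

set_option autoImplicit false
universe u
open CategoryTheory AlgebraicGeometry
open AlgSt

namespace Groth.Agent.S12972

/-- For a morphism f : 𝒳 → 𝒴 of algebraic stacks the following are equivalent: the relative inertia
𝓘_{𝒳/𝒴} → 𝒳 is separated; the diagonal of f is separated; the neutral section 𝒳 → 𝓘_{𝒳/𝒴} (the
second diagonal) is a closed immersion. All three morphisms are representable by algebraic spaces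
and the properties are the ones of such morphisms. -/
theorem result
    (S : Scheme.{u}) (𝒳 : AlgSt.Cat S) (𝒴 : AlgSt.Cat S)
    (h𝒳 : AlgSt.IsAlgStack Scheme.fppfPrecoverage 𝒳)
    (h𝒴 : AlgSt.IsAlgStack Scheme.fppfPrecoverage 𝒴)
    (f : 𝒳 ⥤ᵇ 𝒴) :
    [AlgSt.RepByAlgSpWith AlgSp.IsSeparatedMor (FibCat.inertiaToBase f),
      AlgSt.RepByAlgSpWith AlgSp.IsSeparatedMor (FibCat.diag f),
      AlgSt.IsClosedImm (FibCat.inertiaNeutral f)].TFAE := by
  have hdiag : AlgSt.RepByAlgSp1 (FibCat.diag f) :=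
    Groth.Agent.Lib.Helper66.AlgStDiagRep.repByAlgSp1_diag h𝒳.isStack.1 h𝒴.isStack.1 h𝒳.diag h𝒴.diag f
  tfae_have 2 → 1 := fun h =>
    Groth.Agent.Lib.Helper66.AlgStInertia.repByAlgSpWith_inertiaToBase _ f h
  tfae_have 1 → 3 := fun h =>
    Groth.Agent.Lib.Helper66.AlgStInertia.repByAlgSpWith_inertiaNeutral_of_diag _ f
      (Groth.Agent.Lib.Helper66.AlgStBridge.repByAlgSpWith_diag_of_rep (AlgSp.RepWith @IsClosedImmersion)
        AlgSp.IsSeparatedMor (Groth.Agent.Lib.Helper66.AlgStImmFacts.stableBC_repWith _) _ h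
        (fun V T a ha => ha))
  tfae_have 3 → 2 := fun h U y => by
    have h2 := (Groth.Agent.Lib.Helper66.AlgStInertia.repByAlgSpWith_inertiaNeutral_iff _ f).2 h
    obtain ⟨V, e, he⟩ := hdiag U y
    exact ⟨V, e, he, Groth.Agent.Lib.Helper66.AlgStBridgeConv.prop_diagonal_of_repByAlgSpWith_diag
      (AlgSp.RepWith @IsClosedImmersion) (Groth.Agent.Lib.Helper66.AlgStImmFacts.stableBC_repWith _)
      (Groth.Agent.Lib.Helper66.AlgStImmFacts.detected_repWith _) (FibCat.diag f) h2 U y V e he⟩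
  tfae_finish

end Groth.Agent.S12972
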