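import Groth.Statements.S12973
import Groth.Agent.Lib.Helper66.AlgStInertia

set_option autoImplicit false
universe u
open CategoryTheory AlgebraicGeometry
open AlgSt

namespace Groth.Agent.S12973

/-- For a morphism f : 𝒳 → 𝒴 of algebraic stacks the following are equivalent: the relative inertia
𝓘_{𝒳/𝒴} → 𝒳 is quasi-separated; the diagonal of f is quasi-separated; the neutral section 𝒳 →
𝓘_{𝒳/𝒴} is quasi-compact. All three morphisms are representable by algebraic spaces and the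
properties are the ones of such morphisms. -/
theorem result
    (S : Scheme.{u}) (𝒳 : AlgSt.Cat S) (𝒴 : AlgSt.Cat S)
    (h𝒳 : AlgSt.IsAlgStack Scheme.fppfPrecoverage 𝒳)
    (h𝒴 : AlgSt.IsAlgStack Scheme.fppfPrecoverage 𝒴)
    (f : 𝒳 ⥤ᵇ 𝒴) :
    [AlgSt.RepByAlgSpWith AlgSp.IsQuasiSeparatedMor (FibCat.inertiaToBase f),
      AlgSt.RepByAlgSpWith AlgSp.IsQuasiSeparatedMor (FibCat.diag f),
      AlgSt.RepByAlgSpWith AlgSp.IsQuasiCompactMor (FibCat.inertiaNeutral f)].TFAE := by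
  have hdiag : AlgSt.RepByAlgSp1 (FibCat.diag f) :=
    Groth.Agent.Lib.Helper66.AlgStDiagRep.repByAlgSp1_diag h𝒳.isStack.1 h𝒴.isStack.1 h𝒳.diag h𝒴.diag f
  tfae_have 2 → 1 := fun h =>
    Groth.Agent.Lib.Helper66.AlgStInertia.repByAlgSpWith_inertiaToBase _ f h
  tfae_have 1 → 3 := fun h =>
    Groth.Agent.Lib.Helper66.AlgStInertia.repByAlgSpWith_inertiaNeutral_of_diag _ f
      (Groth.Agent.Lib.Helper66.AlgStBridge.repByAlgSpWith_diag_of_rep AlgSp.IsQuasiCompactMor
        AlgSp.IsQuasiSeparatedMor Groth.Agent.Lib.Helper66.AlgStBridgeQS.stableBC_isQuasiCompactMor _ h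
        (fun V T a ha => Groth.Agent.H52.isQuasiCompactMor_of_repWith_quasiCompact _ ha))
  tfae_have 3 → 2 := fun h U y => by
    have h2 := (Groth.Agent.Lib.Helper66.AlgStInertia.repByAlgSpWith_inertiaNeutral_iff _ f).2 h
    obtain ⟨V, e, he⟩ := hdiag U y
    refine ⟨V, e, he, ?_⟩
    have h4 := Groth.Agent.Lib.Helper66.AlgStBridgeConv.prop_diagonal_of_repByAlgSpWith_diag
      AlgSp.IsQuasiCompactMor Groth.Agent.Lib.Helper66.AlgStBridgeQS.stableBC_isQuasiCompactMor
      Groth.Agent.Lib.Helper66.AlgStBridgeQS.detected_isQuasiCompactMor (FibCat.diag f) h2 U y V e he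
    exact (Groth.Agent.Lib.Helper66.AlgStBridgeQS.repWith_quasiCompact_diagonal_iff (V := V)
      (Y := ⟨(AlgSp.yon S).obj U, AlgSp.IsAlgSpace.yon_obj U⟩) (ObjectProperty.homMk _)).2 h4
  tfae_finish

end Groth.Agent.S12973
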