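import Groth.Statements.S12974
import Groth.Agent.Lib.Helper66.AlgStInertia
import Groth.Agent.Lib.Helper66.AlgStDiagLft2
import Groth.Agent.Lib.Helper66.AlgStBridgeConv
import Groth.Agent.Lib.Helper66.AlgStImmFacts
import Groth.Agent.S10262

set_option autoImplicit false
universe u
open CategoryTheory AlgebraicGeometry
open AlgSt

namespace Groth.Agent.S12974

/-- For a morphism f : 𝒳 → 𝒴 of algebraic stacks, the relative inertia 𝓘_{𝒳/𝒴} → 𝒳 is unramified if and
only if f is DM. -/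
theorem result
    (S : Scheme.{u}) (𝒳 : AlgSt.Cat S) (𝒴 : AlgSt.Cat S)
    (h𝒳 : AlgSt.IsAlgStack Scheme.fppfPrecoverage 𝒳)
    (h𝒴 : AlgSt.IsAlgStack Scheme.fppfPrecoverage 𝒴)
    (f : 𝒳 ⥤ᵇ 𝒴) :
    AlgSt.RepByAlgSpWith (AlgSp.LocP (@LocallyOfFiniteType ⊓ @FormallyUnramified)) (FibCat.inertiaToBase f) ↔
      AlgSt.IsDMMor f := by
  constructor
  · intro h
    have h1 : AlgSt.RepByAlgSpWith (AlgSp.RepWith @IsOpenImmersion)
        (FibCat.diag (FibCat.inertiaToBase f)) :=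
      Groth.Agent.Lib.Helper66.AlgStBridge.repByAlgSpWith_diag_of_rep (AlgSp.RepWith @IsOpenImmersion)
        (AlgSp.LocP (@LocallyOfFiniteType ⊓ @FormallyUnramified))
        (Groth.Agent.Lib.Helper66.AlgStImmFacts.stableBC_repWith _) _ h
        (fun V T a ha => (Groth.Agent.S10262.result (X := V)
          (Y := ⟨(AlgSp.yon S).obj T, AlgSp.IsAlgSpace.yon_obj T⟩) (ObjectProperty.homMk a)).1 ha)
    have h2 := Groth.Agent.Lib.Helper66.AlgStInertia.repByAlgSpWith_inertiaNeutral_of_diag _ f h1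
    have h3 := (Groth.Agent.Lib.Helper66.AlgStInertia.repByAlgSpWith_inertiaNeutral_iff _ f).2 h2
    have hlft := Groth.Agent.Lib.Helper66.AlgStDiagLft2.repByAlgSpWith_lft_diag h𝒳.isStack.1 h𝒴.isStack.1
      h𝒳.diag h𝒴.diag h𝒳.atlas f
    intro U y
    obtain ⟨V, e, he, hl⟩ := hlft U y
    refine ⟨V, e, he, ?_⟩
    have h4 := Groth.Agent.Lib.Helper66.AlgStBridgeConv.prop_diagonal_of_repByAlgSpWith_diag
      (AlgSp.RepWith @IsOpenImmersion) (Groth.Agent.Lib.Helper66.AlgStImmFacts.stableBC_repWith _)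
      (Groth.Agent.Lib.Helper66.AlgStImmFacts.detected_repWith _) (FibCat.diag f) h3 U y V e he
    exact (Groth.Agent.S10262.result (X := V)
      (Y := ⟨(AlgSp.yon S).obj U, AlgSp.IsAlgSpace.yon_obj U⟩) (ObjectProperty.homMk _)).2 hl h4
  · intro h
    exact Groth.Agent.Lib.Helper66.AlgStInertia.repByAlgSpWith_inertiaToBase _ f h

end Groth.Agent.S12974
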