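import Groth.Statements.S12975
import Groth.Agent.Lib.Helper65.SelfBC
import Groth.Agent.Lib.Helper66.AlgStInertia
import Groth.Agent.Lib.Helper66.AlgStDiagLft2

set_option autoImplicit false
universe u
open CategoryTheory AlgebraicGeometry
open AlgSt

namespace Groth.Agent.S12975

/-- For a morphism f : 𝒳 → 𝒴 of algebraic stacks, the relative inertia 𝓘_{𝒳/𝒴} → 𝒳 is locally
quasi-finite if and only if f is quasi-DM. -/
theorem result
    (S : Scheme.{u}) (𝒳 : AlgSt.Cat S) (𝒴 : AlgSt.Cat S)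
    (h𝒳 : AlgSt.IsAlgStack Scheme.fppfPrecoverage 𝒳)
    (h𝒴 : AlgSt.IsAlgStack Scheme.fppfPrecoverage 𝒴)
    (f : 𝒳 ⥤ᵇ 𝒴) :
    AlgSt.RepByAlgSpWith (AlgSp.LocP (@LocallyQuasiFinite ⊓ @LocallyOfFiniteType)) (FibCat.inertiaToBase f) ↔
      AlgSt.IsQuasiDMMor f := by
  constructor
  · intro h
    have H1 : AlgSt.RepByAlgSpWith (AlgSp.LocP (@LocallyQuasiFinite ⊓ @LocallyOfFiniteType))
        (FibCat.fpFst (FibCat.diag f) (FibCat.diag f)) :=
      Groth.Agent.Lib.Helper65.repByAlgSpWith_of_square' _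
        (FibCat.fpFst (FibCat.diag f) (FibCat.diag f)) (FibCat.inertiaToBase f)
        (Groth.Agent.Lib.Helper31.InertiaFP.toFP f) (BasedFunctor.id _)
        (Groth.Agent.Lib.Helper31.InertiaFP.toFP_isEquivOver f)
        (Groth.Agent.Lib.Helper65.isEquivOver_id _) (Iso.refl _) h
    have hlft := Groth.Agent.Lib.Helper66.AlgStDiagLft2.repByAlgSpWith_lft_diag h𝒳.isStack.1 h𝒴.isStack.1
      h𝒳.diag h𝒴.diag h𝒳.atlas f
    intro U y
    obtain ⟨V, e, he, hl⟩ := hlft U y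
    refine ⟨V, e, he, ?_⟩
    have H5 := Groth.Agent.Lib.Helper65.SelfBC.repByAlgSpWith_fpFst_self
      (AlgSp.LocP (@LocallyQuasiFinite ⊓ @LocallyOfFiniteType)) (FibCat.diag f) y H1
    have H9 := Groth.Agent.Lib.Helper65.SelfBC.prop_pullback_fst_of_equiv
      (AlgSp.LocP (@LocallyQuasiFinite ⊓ @LocallyOfFiniteType))
      (Groth.Agent.Lib.Helper66.AlgStPFacts.stableBC_locP _ Groth.Agent.Lib.Helper66.AlgStPFacts.listed_lqf)
      (Groth.Agent.Lib.Helper66.RepWithPDet.detected_of_isLocalOnBase _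
        Groth.Agent.Lib.Helper66.AlgStPFacts.isLocalOnBase_fppf_lqf)
      V e he (FibCat.fpFst y (FibCat.diag f)) H5
    exact Groth.Agent.Lib.Helper65.SelfBC.locP_lqf_of_pullback_fst V.property _ hl H9
  · intro h
    exact Groth.Agent.Lib.Helper66.AlgStInertia.repByAlgSpWith_inertiaToBase _ f h

end Groth.Agent.S12975
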