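import Groth.Statements.S1298
import Groth.Agent.Lib.Helper69.SchDenseFibre
import Groth.Agent.Lib.Helper19.Subscheme

set_option autoImplicit false
universe u
open FlatMor

namespace Groth.Agent.S1298
open AlgebraicGeometry CategoryTheory Limits TensorProduct
open Groth.Agent.Lib.Helper69 Groth.Agent.Lib.Helper13.GenFibre

/-- density of a preimage under an inducing map only depends on the range. -/
theorem dense_preimage_iff {A X : Type*} [TopologicalSpace A] [TopologicalSpace X] {a : A → X}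
    (ha : Topology.IsInducing a) (U : Set X) :
    Dense (a ⁻¹' U) ↔ Set.range a ⊆ closure (U ∩ Set.range a) := by
  rw [ha.dense_iff, Set.image_preimage_eq_inter_range]
  constructor
  · rintro h x ⟨y, rfl⟩
    exact h y
  · intro h x
    exact h ⟨x, rfl⟩

theorem isReduced_fiber_of_nilradical {A B : Type u} [CommRing A] [CommRing B] [Algebra A B]
    (P : Ideal A) [P.IsPrime] (hP : P = nilradical A) [IsReduced B] : IsReduced (P.Fiber B) := by
  have hPB : P.map (algebraMap A B) = ⊥ := by
    rw [eq_bot_iff, Ideal.map_le_iff_le_comap]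
    intro a ha
    rw [hP] at ha
    have h1 : IsNilpotent (algebraMap A B a) := (mem_nilradical.mp ha).map _
    rw [Ideal.mem_comap, Ideal.mem_bot]
    exact h1.eq_zero
  constructor
  rintro t ⟨n, hn⟩
  obtain ⟨r, hr, s, e⟩ := Ideal.Fiber.exists_smul_eq_one_tmul P t
  have h1 : ((1 : P.ResidueField) ⊗ₜ[A] (s ^ n) : P.Fiber B) = 0 := by
    have h0 : (r • t) ^ n = 0 := by rw [smul_pow, hn, smul_zero]
    rw [e, Algebra.TensorProduct.tmul_pow, one_pow] at h0
    exact h0
  rw [one_tmul_eq_zero_iff, hPB] at h1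
  obtain ⟨t', ht', hm⟩ := h1
  rw [Ideal.mem_bot] at hm
  have h2 : algebraMap A B t' * s = 0 := by
    have h3 : (algebraMap A B t' * s) ^ (n + 1) = 0 := by
      have : (algebraMap A B t' * s) ^ (n + 1) =
          (algebraMap A B t' * s ^ n) * (algebraMap A B t' ^ n * s) := by ring
      rw [this, hm, zero_mul]
    exact IsReduced.eq_zero _ ⟨n + 1, h3⟩
  have h3 : ((1 : P.ResidueField) ⊗ₜ[A] s : P.Fiber B) = 0 := by
    rw [one_tmul_eq_zero_iff]
    exact ⟨t', ht', by rw [h2]; exact zero_mem _⟩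
  rw [h3] at e
  have h4 : algebraMap A P.ResidueField r ≠ 0 := by
    rw [Ne, Ideal.algebraMap_residueField_eq_zero]
    exact hr
  have h5 : algebraMap A P.ResidueField r • t = 0 := by
    rw [algebraMap_smul]
    exact e
  exact (smul_eq_zero.mp h5).resolve_left h4

open AlgebraicGeometry CategoryTheory Limits in
/-- Let f be of finite type with irreducible target and let Z be a closed subset of the source whose
trace on the generic fibre is nowhere dense there. Then over some nonempty open of the target every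
fibre of Z is nowhere dense in the corresponding fibre of f. -/
theorem result {X Y : Scheme.{u}} (f : X ⟶ Y) [IrreducibleSpace ↑Y] [LocallyOfFiniteType f] [QuasiCompact f]
    (Z : Set ↑X) (hZ : IsClosed Z) (h : IsNowhereDense ((f.fiberι (genericPoint ↑Y)) ⁻¹' Z)) :
    ∃ V : Y.Opens, (V : Set ↑Y).Nonempty ∧ ∀ y ∈ V, IsNowhereDense ((f.fiberι y) ⁻¹' Z) := by
  classical
  set U : X.Opens := ⟨Zᶜ, hZ.isOpen_compl⟩ with hU
  have key : ∀ y, IsNowhereDense ((f.fiberι y) ⁻¹' Z) ↔
      Dense ((f.fiberι y) ⁻¹' (U : Set X)) := by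
    intro y
    rw [(hZ.preimage (f.fiberι y).continuous).isNowhereDense_iff,
      interior_eq_empty_iff_dense_compl]
    rfl
  simp only [key] at h ⊢
  -- the reduced structure
  let I : X.IdealSheafData := Scheme.IdealSheafData.vanishingIdeal ⊤
  have hredX : IsReduced I.subscheme := Groth.Agent.Lib.Helper19.isReduced_subscheme_vanishingIdeal ⊤
  have hsurj : Function.Surjective I.subschemeι := by
    rw [← Set.range_eq_univ, Scheme.IdealSheafData.range_subschemeι,
      Scheme.IdealSheafData.coe_support_vanishingIdeal]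
    rfl
  have hhomeo : IsHomeomorph I.subschemeι :=
    isHomeomorph_iff_isEmbedding_surjective.mpr ⟨I.subschemeι.isEmbedding, hsurj⟩
  set ι : I.subscheme ⟶ X := I.subschemeι with hι
  set f' : I.subscheme ⟶ Y := ι ≫ f with hf'
  -- transfer of density between fibres of f and f'
  have tr : ∀ y, Dense ((f'.fiberι y) ⁻¹' ((ι ⁻¹ᵁ U : I.subscheme.Opens) : Set I.subscheme)) ↔
      Dense ((f.fiberι y) ⁻¹' (U : Set X)) := by
    intro y
    rw [dense_preimage_iff (f'.fiberι y).isEmbedding.isInducing,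
      dense_preimage_iff (f.fiberι y).isEmbedding.isInducing, f'.range_fiberι, f.range_fiberι]
    have e1 : (f' ⁻¹' {y} : Set I.subscheme) = ι ⁻¹' (f ⁻¹' {y}) := rfl
    have e2 : (((ι ⁻¹ᵁ U : I.subscheme.Opens) : Set I.subscheme) ∩ f' ⁻¹' {y}) =
        ι ⁻¹' ((U : Set X) ∩ f ⁻¹' {y}) := rfl
    rw [e2, e1, ← hhomeo.isOpenMap.preimage_closure_eq_closure_preimage hhomeo.continuous,
      hsurj.preimage_subset_preimage_iff]
  -- the generic fibre of f' is reduced
  have hred : IsReduced (f'.fiber (genericPoint ↑Y)) := by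
    obtain ⟨W, hW, hηW, -⟩ := exists_isAffineOpen_mem_and_subset
      (x := genericPoint ↑Y) (U := ⊤) trivial
    have hηr : genericPoint ↑Y ∈ Set.range hW.fromSpec := by
      rw [hW.range_fromSpec]; exact hηW
    obtain ⟨z₀, hz₀⟩ := hηr
    have hnil : z₀.asIdeal = nilradical Γ(Y, W) :=
      asIdeal_eq_nilradical_of_fromSpec_eq hW z₀ hz₀
    rw [← hz₀]
    refine isReduced_fiber_of_charts f' hW z₀ fun Ui hUi e => ?_
    rw [isReduced_chart_iff f' hW hUi e z₀]
    let _ : Algebra Γ(Y, W) Γ(I.subscheme, Ui) := (f'.appLE W Ui e).hom.toAlgebra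
    exact isReduced_fiber_of_nilradical z₀.asIdeal hnil
  have hstd : IsSchemeTheoreticallyDominant
      ((f'.fiberι (genericPoint ↑Y)) ⁻¹ᵁ (ι ⁻¹ᵁ U)).ι := by
    have hd : IsDominant ((f'.fiberι (genericPoint ↑Y)) ⁻¹ᵁ (ι ⁻¹ᵁ U)).ι := by
      rw [isDominant_iff, DenseRange, Scheme.Opens.range_ι]
      exact (tr _).mpr h
    exact IsSchemeTheoreticallyDominant.of_isDominant _
  obtain ⟨V, hV, hVy⟩ := exists_open_forall_isSchemeTheoreticallyDominant_fiber f' (ι ⁻¹ᵁ U) hstd
  refine ⟨V, hV, fun y hy => (tr y).mp ?_⟩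
  have h1 := hVy y hy
  have h2 : IsDominant ((f'.fiberι y) ⁻¹ᵁ (ι ⁻¹ᵁ U)).ι := inferInstance
  have h3 := ((f'.fiberι y) ⁻¹ᵁ (ι ⁻¹ᵁ U)).ι.denseRange
  rw [DenseRange, Scheme.Opens.range_ι] at h3
  exact h3

end Groth.Agent.S1298
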