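import Groth.Statements.S12980
import Groth.Agent.Lib.Helper66.AlgStBridgeQS
import Groth.Agent.Lib.Helper65.SourceLocal
import Groth.Agent.Lib.Helper65.LocalProps

set_option autoImplicit false
universe u
open CategoryTheory AlgebraicGeometry
open AlgSt

namespace Groth.Agent.S12980

/-- A morphism f of algebraic stacks is quasi-separated if and only if its first and second diagonals
are both quasi-compact (as morphisms representable by algebraic spaces). -/
theorem result
    (S : Scheme.{u}) (𝒳 : AlgSt.Cat S) (𝒴 : AlgSt.Cat S)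
    (h𝒳 : AlgSt.IsAlgStack Scheme.fppfPrecoverage 𝒳)
    (h𝒴 : AlgSt.IsAlgStack Scheme.fppfPrecoverage 𝒴)
    (f : 𝒳 ⥤ᵇ 𝒴) :
    AlgSt.IsQuasiSeparatedMor f ↔
      AlgSt.RepByAlgSpWith AlgSp.IsQuasiCompactMor (FibCat.diag f) ∧
        AlgSt.RepByAlgSpWith AlgSp.IsQuasiCompactMor (FibCat.diag (FibCat.diag f)) := by
  constructor
  · intro h
    have h1 : AlgSt.RepByAlgSpWith AlgSp.IsQuasiCompactMor (FibCat.diag f) :=
      Groth.Agent.Lib.Helper65.repByAlgSpWith_mono (fun _ _ _ h => h.1) _ h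
    have h2 : AlgSt.RepByAlgSpWith AlgSp.IsQuasiSeparatedMor (FibCat.diag f) :=
      Groth.Agent.Lib.Helper65.repByAlgSpWith_mono (fun _ _ _ h => h.2) _ h
    refine ⟨h1, ?_⟩
    exact Groth.Agent.Lib.Helper66.AlgStBridge.repByAlgSpWith_diag_of_rep AlgSp.IsQuasiCompactMor
      AlgSp.IsQuasiSeparatedMor Groth.Agent.Lib.Helper66.AlgStBridgeQS.stableBC_isQuasiCompactMor _ h2
      (fun V T a ha => Groth.Agent.H52.isQuasiCompactMor_of_repWith_quasiCompact _ ha)
  · rintro ⟨h1, h2⟩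
    have h3 : AlgSt.RepByAlgSpWith AlgSp.IsQuasiSeparatedMor (FibCat.diag f) := fun U y => by
      obtain ⟨V, e, he, -⟩ := h1 U y
      refine ⟨V, e, he, ?_⟩
      have h4 := Groth.Agent.Lib.Helper66.AlgStBridgeConv.prop_diagonal_of_repByAlgSpWith_diag
        AlgSp.IsQuasiCompactMor Groth.Agent.Lib.Helper66.AlgStBridgeQS.stableBC_isQuasiCompactMor
        Groth.Agent.Lib.Helper66.AlgStBridgeQS.detected_isQuasiCompactMor (FibCat.diag f) h2 U y V e he
      exact (Groth.Agent.Lib.Helper66.AlgStBridgeQS.repWith_quasiCompact_diagonal_iff (V := V)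
        (Y := ⟨(AlgSp.yon S).obj U, AlgSp.IsAlgSpace.yon_obj U⟩) (ObjectProperty.homMk _)).2 h4
    exact Groth.Agent.Lib.Helper65.repByAlgSpWith_and
      (fun _ _ _ _ _ _ _ _ _ _ _ _ sq ha =>
        Groth.Agent.H52.repWith_diagonal_of_isPullback @QuasiCompact sq ha) _ h1 h3

end Groth.Agent.S12980
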