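import Groth.Statements.S12983
import Groth.Agent.Lib.Helper66.AlgStEquiv
import Groth.Agent.S12763

set_option autoImplicit false
universe u
open CategoryTheory AlgebraicGeometry
open AlgSt

namespace Groth.Agent.S12983

/-- The composition of two quasi-compact morphisms of algebraic stacks is quasi-compact. -/
theorem result
    (S : Scheme.{u}) (𝒳 : AlgSt.Cat S) (𝒴 : AlgSt.Cat S) (𝒵 : AlgSt.Cat S)
    (h𝒳 : AlgSt.IsAlgStack Scheme.fppfPrecoverage 𝒳)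
    (h𝒴 : AlgSt.IsAlgStack Scheme.fppfPrecoverage 𝒴)
    (h𝒵 : AlgSt.IsAlgStack Scheme.fppfPrecoverage 𝒵)
    (f : 𝒳 ⥤ᵇ 𝒴) (g : 𝒴 ⥤ᵇ 𝒵) :
    AlgSt.IsQuasiCompactMor Scheme.fppfPrecoverage f → AlgSt.IsQuasiCompactMor Scheme.fppfPrecoverage g → AlgSt.IsQuasiCompactMor Scheme.fppfPrecoverage (BasedFunctor.comp f g) := by
  intro hf hg 𝒯 h𝒯 hqc h
  have h1 : AlgSt.IsQuasiCompact (FibCat.fp h g) := hg 𝒯 h𝒯 hqc h
  have h2 : AlgSt.IsAlgStack Scheme.fppfPrecoverage (FibCat.fp h g) :=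
    Groth.Agent.S12763.result h𝒵.isStack h𝒵.diag h𝒯 h𝒴 h g
  have h3 : AlgSt.IsQuasiCompact (FibCat.fp (FibCat.fpSnd h g) f) := hf _ h2 h1 (FibCat.fpSnd h g)
  exact Groth.Agent.Lib.Helper66.AlgStEquiv.isQuasiCompact_of_equivOver
    (Groth.Agent.Lib.Helper65.fpPasteSnd h g f) (Groth.Agent.Lib.Helper65.fpPasteSnd_isEquivOver h g f) h3

end Groth.Agent.S12983
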