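import Groth.Statements.S12984
import Groth.Agent.Lib.Helper66.AlgStQC
import Groth.Agent.H53.Proper

set_option autoImplicit false
universe u
open CategoryTheory AlgebraicGeometry
open AlgSt

namespace Groth.Agent.S12984

/-- A closed immersion of algebraic stacks is quasi-compact. -/
theorem result
    (S : Scheme.{u}) (𝒳 : AlgSt.Cat S) (𝒴 : AlgSt.Cat S)
    (h𝒳 : AlgSt.IsAlgStack Scheme.fppfPrecoverage 𝒳)
    (h𝒴 : AlgSt.IsAlgStack Scheme.fppfPrecoverage 𝒴)
    (f : 𝒳 ⥤ᵇ 𝒴) :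
    AlgSt.IsClosedImm f → AlgSt.IsQuasiCompactMor Scheme.fppfPrecoverage f := by
  intro h 𝒯 h𝒯 hqc g
  have h' : AlgSt.RepByAlgSpWith AlgSp.IsQuasiCompactMor f :=
    Groth.Agent.Lib.Helper65.repByAlgSpWith_mono (fun X Y a ha =>
      Groth.Agent.H52.isQuasiCompactMor_of_repWith_quasiCompact a
        (Groth.Agent.H53.repWith_of_le (fun A B φ hφ => by
          have : IsClosedImmersion φ := hφ
          exact (inferInstance : QuasiCompact φ)) ha)) f h
  exact Groth.Agent.Lib.Helper66.AlgStQC.isQuasiCompact_fp_of_repByAlgSpWith h𝒳.isStack.1 h𝒴.isStack.1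
    h𝒯.isStack.1 f h' hqc g

end Groth.Agent.S12984
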