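import Groth.Statements.S12985
import Groth.Agent.Lib.Helper66.AlgStEquiv
import Groth.Agent.Lib.Helper65.StQC
import Groth.Agent.S12763
import Groth.Agent.S12825

set_option autoImplicit false
universe u
open CategoryTheory AlgebraicGeometry
open AlgSt

namespace Groth.Agent.S12985

/-- In a 2-commutative triangle of algebraic stacks f : 𝒳 → 𝒴, p : 𝒳 → 𝒵, q : 𝒴 → 𝒵 with q ∘ f
2-isomorphic to p, if f is surjective (on points) and p is quasi-compact then q is quasi-compact. -/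
theorem result
    (S : Scheme.{u}) (𝒳 : AlgSt.Cat S) (𝒴 : AlgSt.Cat S) (𝒵 : AlgSt.Cat S)
    (h𝒳 : AlgSt.IsAlgStack Scheme.fppfPrecoverage 𝒳)
    (h𝒴 : AlgSt.IsAlgStack Scheme.fppfPrecoverage 𝒴)
    (h𝒵 : AlgSt.IsAlgStack Scheme.fppfPrecoverage 𝒵)
    (f : 𝒳 ⥤ᵇ 𝒴) (p : 𝒳 ⥤ᵇ 𝒵) (q : 𝒴 ⥤ᵇ 𝒵) (e : BasedFunctor.comp f q ≅ p) :
    AlgSt.IsSurjective f → AlgSt.IsQuasiCompactMor Scheme.fppfPrecoverage p → AlgSt.IsQuasiCompactMor Scheme.fppfPrecoverage q := by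
  intro hf hp 𝒯 h𝒯 hqc h
  open Groth.Agent.Lib.Helper65 FibCat in
  have hA : AlgSt.IsAlgStack Scheme.fppfPrecoverage (fp h q) :=
    Groth.Agent.S12763.result h𝒵.isStack h𝒵.diag h𝒯 h𝒴 h q
  open Groth.Agent.Lib.Helper65 FibCat in
  have hB : AlgSt.IsAlgStack Scheme.fppfPrecoverage (fp (fpSnd h q) f) :=
    Groth.Agent.S12763.result h𝒴.isStack h𝒴.diag hA h𝒳 (fpSnd h q) f
  have h1 : AlgSt.IsQuasiCompact (FibCat.fp h p) := hp 𝒯 h𝒯 hqc h
  open Groth.Agent.Lib.Helper65 FibCat in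
  let Φ : fp h p ⥤ᵇ fp h (BasedFunctor.comp f q) :=
    fpMap (F := h) (G := p) (F' := h) (G' := BasedFunctor.comp f q) (BasedFunctor.id _)
      (BasedFunctor.id _) (BasedFunctor.id _) (Iso.refl _) e.symm
  open Groth.Agent.Lib.Helper65 FibCat in
  have hΦ : IsEquivOver Φ :=
    fpMap_isEquivOver _ _ _ _ _ (isEquivOver_id _) (isEquivOver_id _) (isEquivOver_id _)
  open Groth.Agent.Lib.Helper65 FibCat in
  obtain ⟨Ψ, hΨ, -, -⟩ := exists_inverse_equivOver (fpPasteSnd h q f) (fpPasteSnd_isEquivOver h q f)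
  have h2 : AlgSt.IsQuasiCompact (FibCat.fp (FibCat.fpSnd h q) f) :=
    Groth.Agent.Lib.Helper66.AlgStEquiv.isQuasiCompact_of_equivOver Ψ hΨ
      (Groth.Agent.Lib.Helper66.AlgStEquiv.isQuasiCompact_of_equivOver Φ hΦ h1)
  exact Groth.Agent.Lib.Helper65.isQuasiCompact_of_isSurjective hB.isStack.1 hB.atlas hA.isStack.1
    hA.atlas (FibCat.fpFst (FibCat.fpSnd h q) f)
    (Groth.Agent.S12825.result h𝒳 h𝒴 hA f (FibCat.fpSnd h q) hf) h2

end Groth.Agent.S12985
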