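import Groth.Statements.S12986
import Groth.Agent.Lib.Helper66.AlgStQC
import Groth.Agent.Lib.Helper66.AlgStCmp
import Groth.Agent.Lib.Helper65.LocalEss
import Groth.Agent.Lib.Helper65.LocalProps
import Groth.Agent.S12763

set_option autoImplicit false
universe u
open CategoryTheory AlgebraicGeometry
open AlgSt

namespace Groth.Agent.S12986

/-- If the composite of f : 𝒳 → 𝒴 and g : 𝒴 → 𝒵 (morphisms of algebraic stacks) is quasi-compact and g
is quasi-separated, then f is quasi-compact. -/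
theorem result
    (S : Scheme.{u}) (𝒳 : AlgSt.Cat S) (𝒴 : AlgSt.Cat S) (𝒵 : AlgSt.Cat S)
    (h𝒳 : AlgSt.IsAlgStack Scheme.fppfPrecoverage 𝒳)
    (h𝒴 : AlgSt.IsAlgStack Scheme.fppfPrecoverage 𝒴)
    (h𝒵 : AlgSt.IsAlgStack Scheme.fppfPrecoverage 𝒵)
    (f : 𝒳 ⥤ᵇ 𝒴) (g : 𝒴 ⥤ᵇ 𝒵) :
    AlgSt.IsQuasiCompactMor Scheme.fppfPrecoverage (BasedFunctor.comp f g) → AlgSt.IsQuasiSeparatedMor g → AlgSt.IsQuasiCompactMor Scheme.fppfPrecoverage f := by
  intro hgf hg 𝒯 h𝒯 hqc h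
  open Groth.Agent.Lib.Helper65 FibCat in
  let e : BasedFunctor.comp (fpFst h f) (BasedFunctor.comp h g) ≅
      BasedFunctor.comp (fpSnd h f) (BasedFunctor.comp f g) := bWhiskerRightIso (fpIso h f) g
  have hc : AlgSt.RepByAlgSpWith (AlgSp.IsQuasiCompactMor ⊓ AlgSp.IsQuasiSeparatedMor)
      (FibCat.fpLift (FibCat.fpFst h f) (FibCat.fpSnd h f) e) :=
    Groth.Agent.Lib.Helper66.AlgStCmp.repByAlgSpWith_fpComparison _ h f g e (fun _ => rfl) hg
  have hc' : AlgSt.RepByAlgSpWith AlgSp.IsQuasiCompactMor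
      (FibCat.fpLift (FibCat.fpFst h f) (FibCat.fpSnd h f) e) :=
    Groth.Agent.Lib.Helper65.repByAlgSpWith_mono (fun _ _ _ hh => hh.1) _ hc
  have h1 : AlgSt.IsQuasiCompact (FibCat.fp (BasedFunctor.comp h g) (BasedFunctor.comp f g)) :=
    hgf 𝒯 h𝒯 hqc (BasedFunctor.comp h g)
  have hA : AlgSt.IsAlgStack Scheme.fppfPrecoverage
      (FibCat.fp (BasedFunctor.comp h g) (BasedFunctor.comp f g)) :=
    Groth.Agent.S12763.result h𝒵.isStack h𝒵.diag h𝒯 h𝒳 _ _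
  have hB : AlgSt.IsAlgStack Scheme.fppfPrecoverage (FibCat.fp h f) :=
    Groth.Agent.S12763.result h𝒴.isStack h𝒴.diag h𝒯 h𝒳 _ _
  have h2 := Groth.Agent.Lib.Helper66.AlgStQC.isQuasiCompact_fp_of_repByAlgSpWith hB.isStack.1
    hA.isStack.1 hA.isStack.1 _ hc' h1 (BasedFunctor.id _)
  exact Groth.Agent.Lib.Helper66.AlgStEquiv.isQuasiCompact_of_equivOver _
    (Groth.Agent.Lib.Helper65.fpSnd_isEquivOver _ _ (Groth.Agent.Lib.Helper65.isEquivOver_id _)) h2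

end Groth.Agent.S12986
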