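import Groth.Statements.S12987
import Groth.Agent.Lib.Helper66.AlgStQC3
import Groth.Agent.Lib.Helper66.AlgStCmp
import Groth.Agent.Lib.Helper65.LocalEss
import Groth.Agent.S12763

set_option autoImplicit false
universe u
open CategoryTheory AlgebraicGeometry
open AlgSt

namespace Groth.Agent.S12987

/-- Over a quasi-separated base scheme, a morphism from a quasi-compact algebraic stack to an algebraic
stack that is quasi-separated over the base scheme is quasi-compact. (The published statement
assumes the target quasi-separated over the integers and puts no condition on the base scheme; this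
row assumes the base scheme quasi-separated and the target quasi-separated over it, which together
imply the published hypothesis. Without quasi-separatedness of the base the relative form fails: for
the base glued from two copies of infinite-dimensional affine space along the complement of the
origin, the open immersion of one copy is a morphism from a quasi-compact stack to the base, which
is quasi-separated over itself, and it is not quasi-compact.) -/
theorem result
    (S : Scheme.{u}) [QuasiSeparatedSpace S] (𝒳 : AlgSt.Cat S) (𝒴 : AlgSt.Cat S)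
    (h𝒳 : AlgSt.IsAlgStack Scheme.fppfPrecoverage 𝒳)
    (h𝒴 : AlgSt.IsAlgStack Scheme.fppfPrecoverage 𝒴)
    (f : 𝒳 ⥤ᵇ 𝒴) :
    AlgSt.IsQuasiCompact 𝒳 → AlgSt.IsQuasiSeparatedOver 𝒴 → AlgSt.IsQuasiCompactMor Scheme.fppfPrecoverage f := by
  intro hX hY 𝒯 h𝒯 hqc h
  open Groth.Agent.Lib.Helper65 FibCat in
  let e : BasedFunctor.comp (fpFst h f) (BasedFunctor.comp h (toSelf 𝒴)) ≅
      BasedFunctor.comp (fpSnd h f) (BasedFunctor.comp f (toSelf 𝒴)) :=
    bWhiskerRightIso (fpIso h f) (toSelf 𝒴)
  have hc : AlgSt.RepByAlgSpWith (AlgSp.IsQuasiCompactMor ⊓ AlgSp.IsQuasiSeparatedMor)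
      (FibCat.fpLift (FibCat.fpFst h f) (FibCat.fpSnd h f) e) :=
    Groth.Agent.Lib.Helper66.AlgStCmp.repByAlgSpWith_fpComparison _ h f (FibCat.toSelf 𝒴) e
      (fun _ => rfl) hY
  have hc' : AlgSt.RepByAlgSpWith AlgSp.IsQuasiCompactMor
      (FibCat.fpLift (FibCat.fpFst h f) (FibCat.fpSnd h f) e) :=
    Groth.Agent.Lib.Helper65.repByAlgSpWith_mono (fun _ _ _ hh => hh.1) _ hc
  have h1 : AlgSt.IsQuasiCompact (FibCat.fp (BasedFunctor.comp h (FibCat.toSelf 𝒴))
      (BasedFunctor.comp f (FibCat.toSelf 𝒴))) :=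
    Groth.Agent.Lib.Helper66.AlgStQC3.isQuasiCompact_prod h𝒯.isStack.1 h𝒳.isStack.1 h f hqc hX
  have hS : FibCat.IsFibGrpd (FibCat.selfOver (Over S)).p := Groth.Agent.Lib.Helper65.isFibGrpd_selfOver
  have hA : FibCat.IsFibGrpd (FibCat.fp (BasedFunctor.comp h (FibCat.toSelf 𝒴))
      (BasedFunctor.comp f (FibCat.toSelf 𝒴))).p :=
    Groth.Agent.Lib.Helper65.isFibGrpd_fp _ _ h𝒯.isStack.1 h𝒳.isStack.1 hS
  have hB : FibCat.IsFibGrpd (FibCat.fp h f).p :=
    Groth.Agent.Lib.Helper65.isFibGrpd_fp _ _ h𝒯.isStack.1 h𝒳.isStack.1 h𝒴.isStack.1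
  have h2 := Groth.Agent.Lib.Helper66.AlgStQC.isQuasiCompact_fp_of_repByAlgSpWith hB hA hA _ hc' h1
    (BasedFunctor.id _)
  exact Groth.Agent.Lib.Helper66.AlgStEquiv.isQuasiCompact_of_equivOver _
    (Groth.Agent.Lib.Helper65.fpSnd_isEquivOver _ _ (Groth.Agent.Lib.Helper65.isEquivOver_id _)) h2

end Groth.Agent.S12987
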