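import Groth.Statements.S1299
import Groth.Agent.Lib.Helper13.GenFibre

set_option autoImplicit false
universe u
open FlatMor

namespace Groth.Agent.S1299

open AlgebraicGeometry CategoryTheory Limits in
/-- Let f : X → Y be a morphism of finite type (locally of finite type and quasi-compact) with Y
irreducible, and let Z_1, …, Z_n be finitely many closed subsets of the generic fibre of f which
together cover it. For each i let T_i ⊆ X be the closure in X of the image of Z_i. Then there is a
nonempty open subset V ⊆ Y such that for every y ∈ V the fibre X_y is covered by the preimages of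
T_1, …, T_n. -/
theorem result {X Y : Scheme.{u}} (f : X ⟶ Y) [IrreducibleSpace ↑Y] [LocallyOfFiniteType f] [QuasiCompact f]
    {ι : Type} [Finite ι] (Z : ι → Set ↑(f.fiber (genericPoint ↑Y))) (hZ : ∀ i, IsClosed (Z i)) (hcov : ⋃ i, Z i = Set.univ) :
    ∃ V : Y.Opens, (V : Set ↑Y).Nonempty ∧ ∀ y ∈ V, ⋃ i, (f.fiberι y) ⁻¹' closure ((f.fiberι (genericPoint ↑Y)) '' Z i) = Set.univ := by
  obtain ⟨V, hηV, hV⟩ := Groth.Agent.Lib.Helper13.GenFibre.exists_preimage_subset_closure_fibre f
  refine ⟨V, ⟨_, hηV⟩, fun y hy => ?_⟩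
  rw [Set.eq_univ_iff_forall]
  intro x
  have hx : f.fiberι y x ∈ (f ⁻¹ᵁ V : Set ↑X) := by
    have h1 : f.fiberι y x ∈ Set.range (f.fiberι y) := ⟨x, rfl⟩
    rw [f.range_fiberι y] at h1
    have h2 : f (f.fiberι y x) = y := h1
    show f (f.fiberι y x) ∈ V
    rw [h2]; exact hy
  have h3 := hV hx
  rw [← f.range_fiberι (genericPoint ↑Y), ← Set.image_univ, ← hcov, Set.image_iUnion,
    closure_iUnion_of_finite] at h3
  obtain ⟨i, hi⟩ := Set.mem_iUnion.mp h3
  exact Set.mem_iUnion.mpr ⟨i, hi⟩

end Groth.Agent.S1299
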