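import Groth.Statements.S13001
import Groth.Agent.Lib.Helper66.LocQFppfDesc
import Groth.Agent.Lib.Helper66.AlgStLocQLft

set_option autoImplicit false
universe u
open CategoryTheory AlgebraicGeometry
open AlgSt

namespace Groth.Agent.S13001

/-- Let 𝒳 → 𝒴 → 𝒵 be morphisms of algebraic stacks with 𝒳 → 𝒵 locally of finite type and with 𝒳 → 𝒴
flat, surjective, locally of finite presentation and representable by algebraic spaces. In this
situation 𝒴 → 𝒵 is also locally of finite type. -/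
theorem result
    (S : Scheme.{u}) (𝒳 : AlgSt.Cat S) (𝒴 : AlgSt.Cat S) (𝒵 : AlgSt.Cat S)
    (h𝒳 : AlgSt.IsAlgStack Scheme.fppfPrecoverage 𝒳)
    (h𝒴 : AlgSt.IsAlgStack Scheme.fppfPrecoverage 𝒴)
    (h𝒵 : AlgSt.IsAlgStack Scheme.fppfPrecoverage 𝒵)
    (f : 𝒳 ⥤ᵇ 𝒴) (g : 𝒴 ⥤ᵇ 𝒵)
    (hf₁ : AlgSt.RepByAlgSpWith (AlgSp.LocP @Flat) f)
    (hf₂ : AlgSt.RepByAlgSpWith (AlgSp.LocP @LocallyOfFinitePresentation) f)
    (hf₃ : AlgSt.RepByAlgSpWith AlgSp.IsSurjectiveMor f) :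
    AlgSt.LocQ (AlgSp.LocP @LocallyOfFiniteType) (BasedFunctor.comp f g) → AlgSt.LocQ (AlgSp.LocP @LocallyOfFiniteType) g := by
  intro hfg
  have hLF : Groth.Agent.Lib.Helper66.AlgStPFacts.Listed (@Flat : MorphismProperty Scheme.{u}) :=
    Or.inr (Or.inr (Or.inl rfl))
  have hLP : Groth.Agent.Lib.Helper66.AlgStPFacts.Listed
      (@LocallyOfFinitePresentation : MorphismProperty Scheme.{u}) := Or.inr (Or.inl rfl)
  have h1 : AlgSt.LocQ (AlgSp.LocP @Flat) f :=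
    Groth.Agent.Lib.Helper66.AlgStLocQSq.locQ_of_repByAlgSpWith' _
      (Groth.Agent.Lib.Helper66.AlgStPFacts.stableBC_locP _ hLF)
      (fun X Y Z a b ha hb => Groth.Agent.Lib.Helper54.locP_precomp_isEtaleMor ha hb)
      h𝒳.isStack.1 h𝒴.isStack.1 h𝒴.atlas f hf₁
  have h2 : AlgSt.LocQ (AlgSp.LocP @LocallyOfFinitePresentation) f :=
    Groth.Agent.Lib.Helper66.AlgStLocQSq.locQ_of_repByAlgSpWith' _
      (Groth.Agent.Lib.Helper66.AlgStPFacts.stableBC_locP _ hLP)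
      (fun X Y Z a b ha hb => Groth.Agent.Lib.Helper54.locP_precomp_isEtaleMor ha hb)
      h𝒳.isStack.1 h𝒴.isStack.1 h𝒴.atlas f hf₂
  have h3 : AlgSt.IsSurjective f :=
    Groth.Agent.Lib.Helper65.isSurjective_of_repByAlgSpWith h𝒳.isStack.1 h𝒴.isStack.1 f hf₃
  exact Groth.Agent.Lib.Helper66.LocQFppfDesc.locQ_of_comp_fppf _
    Groth.Agent.Lib.Helper66.AlgSpSmLocalLft.isSmoothLocalST_locP_lft
    (fun h k h1 h2 h3 h4 => Groth.Agent.Lib.Helper66.LocQFppfDesc.locP_lft_yon_of_comp h k h1 h2 h3 h4)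
    h𝒳 h𝒴 h𝒵 f g h1 h2 h3 hfg

end Groth.Agent.S13001
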