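import Groth.Statements.S1302
import Groth.Agent.Lib.Helper18.ThickAffine

set_option autoImplicit false
universe u
open FlatMor

namespace Groth.Agent.S1302

open AlgebraicGeometry CategoryTheory Limits in
/-- If `iX : X ⟶ X'` is a thickening and `V'` is an open of `X'` whose preimage in `X` is affine, then `V'` is affine. -/
theorem isAffineOpen_of_thickening {X X' : Scheme.{u}} (iX : X ⟶ X') [IsClosedImmersion iX]
    (hs : Function.Surjective iX) (V' : X'.Opens) (hV : IsAffineOpen (iX ⁻¹ᵁ V')) :
    IsAffineOpen V' := by
  have h1 : IsClosedImmersion (iX ∣_ V') := inferInstance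
  have h2 : Function.Surjective (iX ∣_ V') := by
    rintro ⟨y, hy⟩
    obtain ⟨x, rfl⟩ := hs y
    refine ⟨⟨x, hy⟩, ?_⟩
    apply Subtype.ext
    exact morphismRestrict_base_coe iX V' ⟨x, hy⟩
  have h3 : IsAffine (iX ⁻¹ᵁ V').toScheme := hV
  exact Groth.Agent.Lib.Helper18.ThickAffine.isAffine_of_isClosedImmersion_of_surjective (iX ∣_ V') h2

open AlgebraicGeometry CategoryTheory Limits in
theorem isAffineHom_thick_of_thin {X X' S S' : Scheme.{u}} (iX : X ⟶ X') (iS : S ⟶ S') (f : X ⟶ S)
    (f' : X' ⟶ S') (hX : MoreMor.IsThickening iX) (hS : MoreMor.IsThickening iS)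
    (w : iX ≫ f' = f ≫ iS) [IsAffineHom f] : IsAffineHom f' := by
  have := hX.1
  have := hS.1
  refine ⟨fun U' hU' => ?_⟩
  apply isAffineOpen_of_thickening iX hX.2.surj
  rw [← Scheme.Hom.comp_preimage, w, Scheme.Hom.comp_preimage]
  exact (hU'.preimage iS).preimage f

open AlgebraicGeometry CategoryTheory Limits in
/-- For a morphism of thickenings, that is a commutative square whose horizontal maps are thickenings
(closed immersions that are surjective on points), the morphism between the thin schemes is affine
if and only if the morphism between the thick ones is. -/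
theorem result {X X' S S' : Scheme.{u}} (iX : X ⟶ X') (iS : S ⟶ S') (f : X ⟶ S) (f' : X' ⟶ S')
    (hX : MoreMor.IsThickening iX) (hS : MoreMor.IsThickening iS) (w : iX ≫ f' = f ≫ iS) :
    IsAffineHom f ↔ IsAffineHom f' := by
  have := hX.1
  have := hS.1
  constructor
  · intro hf
    exact isAffineHom_thick_of_thin iX iS f f' hX hS w
  · intro hf'
    have h1 : IsAffineHom (f ≫ iS) := by
      rw [← w]; infer_instance
    exact IsAffineHom.of_comp f iS

end Groth.Agent.S1302
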