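import Groth.Statements.S13022
import Groth.Agent.Lib.Helper65.FppfLift

set_option autoImplicit false
universe u
open CategoryTheory AlgebraicGeometry
open AlgSt

namespace Groth.Agent.S13022

/-- Let f_j : 𝒳_j → 𝒳 be a family of flat, locally finitely presented morphisms of algebraic stacks
which is jointly surjective on points. Then, given any scheme U and any object x of 𝒳 lying over U,
one can find an fppf covering {U_i → U}, indices j(i) and objects x_i of 𝒳_{j(i)} over U_i with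
f_{j(i)}(x_i) ≅ x|_{U_i}. -/
theorem result
    (S : Scheme.{u}) (𝒳 : AlgSt.Cat S)
    (h𝒳 : AlgSt.IsAlgStack Scheme.fppfPrecoverage 𝒳)
    (J : Type u) (𝒳' : J → AlgSt.Cat S) (h𝒳' : ∀ j, AlgSt.IsAlgStack Scheme.fppfPrecoverage (𝒳' j))
    (f : ∀ j, 𝒳' j ⥤ᵇ 𝒳)
    (hf₁ : ∀ j, AlgSt.LocQ (AlgSp.LocP @Flat) (f j)) (hf₂ : ∀ j, AlgSt.LocQ (AlgSp.LocP @LocallyOfFinitePresentation) (f j))
    (hf₃ : ∀ p : AlgSt.Points 𝒳, ∃ j, p ∈ Set.range (AlgSt.Points.map (f j)))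
    (U : Over S) (x : FibCat.overCat U ⥤ᵇ 𝒳) :
    ∃ (ι : Type u) (V : ι → Over S) (g : ∀ i, V i ⟶ U) (c : ι → J),
      (Presieve.ofArrows (fun i ↦ (V i).left) fun i ↦ (g i).left) ∈ Scheme.fppfPrecoverage U.left ∧
      ∀ i, ∃ x' : FibCat.overCat (V i) ⥤ᵇ 𝒳' (c i),
        Nonempty (BasedFunctor.comp x' (f (c i)) ≅ BasedFunctor.comp (AlgSt.overMap (g i)) x) := by
  classical
  have hcov : ∀ j, ∃ (𝒲 : AlgSt.Cat S) (_ : AlgSt.IsAlgStack Scheme.fppfPrecoverage 𝒲) (p : 𝒲 ⥤ᵇ 𝒳' j),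
      AlgSt.RepByAlgSpWith (AlgSp.LocP @Smooth) p ∧ AlgSt.RepByAlgSpWith AlgSp.IsSurjectiveMor p ∧
      AlgSt.RepByAlgSpWith (AlgSp.LocP @Flat) (BasedFunctor.comp p (f j)) ∧
      AlgSt.RepByAlgSpWith (AlgSp.LocP @LocallyOfFinitePresentation) (BasedFunctor.comp p (f j)) := fun j =>
    Groth.Agent.Lib.Helper66.AlgStLocQCover2.exists_smooth_cover_of_locQ @Flat @LocallyOfFinitePresentation
      (Or.inr (Or.inr (Or.inl rfl))) (Or.inr (Or.inl rfl)) Groth.Agent.Lib.Helper65.smooth_le_flat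
      Groth.Agent.Lib.Helper65.smooth_le_lfp
      Groth.Agent.Lib.Helper65.isLocalOnBase_fppf_locP_flat Groth.Agent.Lib.Helper65.isLocalOnBase_fppf_locP_lfp
      (h𝒳' j) (f j) (hf₁ j) (hf₂ j)
  choose 𝒲 h𝒲 p hp1 hp2 hp3 hp4 using hcov
  have hlift := fun j => Groth.Agent.Lib.Helper65.FppfLift.exists_chart_lift h𝒳.isStack.1 (h𝒲 j).isStack.1
    (BasedFunctor.comp (p j) (f j)) (hp3 j) (hp4 j) U x
  choose V g x' hiso hflat hlfp hpts using hlift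
  refine ⟨J, V, g, id, ?_, fun j => ⟨BasedFunctor.comp (x' j) (p j), hiso j⟩⟩
  rw [Scheme.fppfPrecoverage, Scheme.ofArrows_mem_precoverage_iff]
  refine ⟨fun u => ?_, fun j => ⟨hflat j, hlfp j⟩⟩
  obtain ⟨z', hz'⟩ := (Groth.Agent.Lib.Helper65.overPts_bijective U).2 (AlgSp.Points.schemeHomeo U u)
  obtain ⟨j, q, hq⟩ := hf₃ (AlgSt.Points.map x z')
  obtain ⟨r, rfl⟩ := Groth.Agent.Lib.Helper65.isSurjective_of_repByAlgSpWith (h𝒲 j).isStack.1
    (h𝒳' j).isStack.1 (p j) (hp2 j) q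
  obtain ⟨v, hv⟩ := hpts j z' ⟨r, by rw [Groth.Agent.Lib.Helper65.points_map_comp]; exact hq.symm⟩
  refine ⟨j, v, ?_⟩
  rw [hz'] at hv
  simpa using hv

end Groth.Agent.S13022
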