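import Groth.Statements.S13041

set_option autoImplicit false
universe u
open MaxMod

namespace Groth.Agent.S13041

open TensorProduct in
/-- Let R be a domain with fraction field K, let A → B be a homomorphism of commutative R-algebras that
are flat over R, with B module-finite over A, such that the induced map K ⊗_R A → K ⊗_R B is
bijective. If the A-linear map Hom_A(B, A) → A evaluating at 1 is surjective, then A → B is
bijective. (The published statement concerns a finite morphism of flat schemes over a discrete
valuation ring, with locally free relative dualizing sheaves, that is an isomorphism over a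
schematically dense open and whose trace map on dualizing sheaves is surjective; this row is the
statement about rings to which the printed proof reduces it and which that proof establishes, and
the argument uses only that R is a domain.) -/
theorem result
    (R K A B : Type u) [CommRing R] [IsDomain R] [Field K] [Algebra R K] [IsFractionRing R K]
    [CommRing A] [CommRing B] [Algebra R A] [Algebra R B] [Algebra A B] [IsScalarTower R A B]
    [Module.Flat R A] [Module.Flat R B] [Module.Finite A B]
    (hK : Function.Bijective
      (Algebra.TensorProduct.map (AlgHom.id R K) (IsScalarTower.toAlgHom R A B)))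
    (htr : Function.Surjective (fun u : B →ₗ[A] A => u 1)) :
    Function.Bijective (algebraMap A B) := by
  obtain ⟨u, hu⟩ := htr 1
  have hu1 : u 1 = 1 := hu
  -- `u` is a retraction of `A → B`
  have hret : ∀ a : A, u (algebraMap A B a) = a := by
    intro a
    rw [Algebra.algebraMap_eq_smul_one, map_smul, hu1, smul_eq_mul, mul_one]
  refine ⟨Function.LeftInverse.injective hret, ?_⟩
  -- `u` as an `R`-linear map and its base change to `K`
  let uR : B →ₗ[R] A := u.restrictScalars R
  let uK : K ⊗[R] B →ₗ[R] K ⊗[R] A := uR.lTensor K
  have huK : ∀ y : K ⊗[R] A,
      uK (Algebra.TensorProduct.map (AlgHom.id R K) (IsScalarTower.toAlgHom R A B) y) = y := by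
    intro y
    induction y using TensorProduct.induction_on with
    | zero => simp
    | tmul k a =>
      simp only [Algebra.TensorProduct.map_tmul, AlgHom.coe_id, id_eq, IsScalarTower.coe_toAlgHom',
        uK, LinearMap.lTensor_tmul, uR, LinearMap.coe_restrictScalars, hret]
    | add y z hy hz => rw [map_add, map_add, hy, hz]
  -- `B → K ⊗ B` is injective
  have hinj : Function.Injective (fun b : B => (1 : K) ⊗ₜ[R] b) := by
    have h1 : Function.Injective ((Algebra.linearMap R K).rTensor B) :=
      Module.Flat.rTensor_preserves_injective_linearMap _ (IsFractionRing.injective R K)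
    have h2 : (fun b : B => (1 : K) ⊗ₜ[R] b) =
        (Algebra.linearMap R K).rTensor B ∘ (TensorProduct.lid R B).symm := by
      funext b
      simp
    rw [h2]
    exact h1.comp (TensorProduct.lid R B).symm.injective
  intro b
  refine ⟨u b, ?_⟩
  apply hinj
  change (1 : K) ⊗ₜ[R] algebraMap A B (u b) = (1 : K) ⊗ₜ[R] b
  obtain ⟨y, hy⟩ := hK.2 ((1 : K) ⊗ₜ[R] (b - algebraMap A B (u b)))
  have hy0 : y = 0 := by
    rw [← huK y, hy]
    simp [uK, uR, hret]
  rw [hy0, map_zero] at hy
  have := hy.symm
  rw [TensorProduct.tmul_sub, sub_eq_zero] at this
  exact this.symm

end Groth.Agent.S13041
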