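import Groth.Statements.S13042
import Mathlib.Algebra.CharP.Lemmas
import Mathlib.Algebra.MvPolynomial.Expand

set_option autoImplicit false
universe u
open MaxMod

namespace Groth.Agent.S13042

open MvPolynomial

section
variable (p : ℕ) [hp : Fact p.Prime] (R : Type u) [CommRing R] [CharP R p] (lam f w : R)

/-- upstairs map `W₁ ↦ x + W + λ x W`, `W₂ ↦ W`. -/
noncomputable def Phi : MvPolynomial (Fin 2) R →ₐ[R] MvPolynomial (Fin 2) R :=
  aeval ![X 0 + X 1 + C lam * X 0 * X 1, X 1]

/-- upstairs inverse `x ↦ (W₁ - W₂) w (1 + λ W₂)^(p-1)`, `W ↦ W₂`. -/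
noncomputable def Psi : MvPolynomial (Fin 2) R →ₐ[R] MvPolynomial (Fin 2) R :=
  aeval ![(X 0 - X 1) * C w * (1 + C lam * X 1) ^ (p - 1), X 1]

theorem pow_p_identity :
    ((1 : MvPolynomial (Fin 2) R) + C lam * X 1) ^ p =
      C (1 + lam ^ p * f) + C (lam ^ p) * (X 1 ^ p - C f) := by
  rw [add_pow_char, mul_pow, one_pow]
  simp only [map_add, map_mul, map_pow, map_one]
  ring

end

open MvPolynomial in
/-- Let p be a prime, R a local ring of characteristic p, λ an element of the maximal ideal of R and f ∈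
R. Then there is an isomorphism of R-algebras R[W₁, W₂]/(W₁^p − f, W₂^p − f) ≅ R[x, W]/(x^p, W^p −
f) with W₁ ↦ x + W + λ·x·W and W₂ ↦ W; that is, Spec R[W]/(W^p − f) with the action w ↦ x + w + λxw
is a torsor under the group scheme Spec R[x]/(x^p) with law x₁ ∘ x₂ = x₁ + x₂ + λx₁x₂. (The
published statement is over a complete discrete valuation ring of characteristic p with λ a nonzero
nonunit, and also asserts that for f in the fraction field with negative valuation v(f) > −p·v(λ)
the torsor W^p = f extends to a torsor over R, using the coordinate 1/W; that second case fails: for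
p = 2, λ = π a uniformizer and f = 1/π, every model is Spec R[π^a t] with t² = π, and none of these
is a torsor since the coaction sends t to t − π(1 + t)x. Only the case f ∈ R is stated, and the
argument there uses only that R is local of characteristic p.) -/
theorem result
    (p : ℕ) [Fact p.Prime] (R : Type u) [CommRing R] [IsLocalRing R] [CharP R p]
    (lam f : R) (hlam : lam ∈ IsLocalRing.maximalIdeal R) :
    ∃ e : (MvPolynomial (Fin 2) R ⧸ Ideal.span {(X 0 ^ p - C f : MvPolynomial (Fin 2) R), X 1 ^ p - C f}) ≃ₐ[R]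
        (MvPolynomial (Fin 2) R ⧸ Ideal.span {(X 0 ^ p : MvPolynomial (Fin 2) R), X 1 ^ p - C f}),
      e (Ideal.Quotient.mk _ (X 0)) = Ideal.Quotient.mk _ (X 0 + X 1 + C lam * X 0 * X 1) ∧
      e (Ideal.Quotient.mk _ (X 1)) = Ideal.Quotient.mk _ (X 1) := by
  have hp : p.Prime := Fact.out
  have hp1 : p - 1 + 1 = p := Nat.sub_add_cancel hp.one_le
  set I1 : Ideal (MvPolynomial (Fin 2) R) := Ideal.span {X 0 ^ p - C f, X 1 ^ p - C f} with hI1
  set I2 : Ideal (MvPolynomial (Fin 2) R) := Ideal.span {X 0 ^ p, X 1 ^ p - C f} with hI2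
  have g1a : (X 0 ^ p - C f : MvPolynomial (Fin 2) R) ∈ I1 := Ideal.subset_span (by simp)
  have g1b : (X 1 ^ p - C f : MvPolynomial (Fin 2) R) ∈ I1 := Ideal.subset_span (by simp)
  have g2a : (X 0 ^ p : MvPolynomial (Fin 2) R) ∈ I2 := Ideal.subset_span (by simp)
  have g2b : (X 1 ^ p - C f : MvPolynomial (Fin 2) R) ∈ I2 := Ideal.subset_span (by simp)
  -- the unit `v = 1 + λ^p f`
  have hv : IsUnit (1 + lam ^ p * f) := by
    have hmem : -(lam ^ p * f) ∈ IsLocalRing.maximalIdeal R :=
      neg_mem (Ideal.mul_mem_right _ _ (Ideal.pow_mem_of_mem _ hlam p hp.pos))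
    have := IsLocalRing.isUnit_one_sub_self_of_mem_nonunits _ hmem
    simpa using this
  obtain ⟨v, hv'⟩ := hv
  set w : R := ((v⁻¹ : Rˣ) : R) with hw
  have hwv : w * (1 + lam ^ p * f) = 1 := by
    rw [← hv', hw]; exact Units.inv_mul v
  -- values of the two maps on the variables
  have hPhi0 : Phi R lam (X 0) = X 0 + X 1 + C lam * X 0 * X 1 := by simp [Phi]
  have hPhi1 : Phi R lam (X 1) = X 1 := by simp [Phi]
  have hPsi0 : Psi p R lam w (X 0) = (X 0 - X 1) * C w * (1 + C lam * X 1) ^ (p - 1) := by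
    simp [Psi]
  have hPsi1 : Psi p R lam w (X 1) = X 1 := by simp [Psi]
  have hPhiC : ∀ r : R, Phi R lam (C r) = C r := by
    intro r; simp [Phi, MvPolynomial.algebraMap_eq]
  have hPsiC : ∀ r : R, Psi p R lam w (C r) = C r := by
    intro r; simp [Psi, MvPolynomial.algebraMap_eq]
  -- Φ maps I1 into I2
  have hΦ : I1 ≤ I2.comap (Phi R lam) := by
    rw [hI1, Ideal.span_le]
    intro x hx
    rcases hx with rfl | hx
    · change Phi R lam (X 0 ^ p - C f) ∈ I2
      rw [map_sub, map_pow, hPhi0, hPhiC, add_pow_char, add_pow_char]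
      have : (X 0 ^ p + X 1 ^ p + (C lam * X 0 * X 1) ^ p - C f :
          MvPolynomial (Fin 2) R) =
          (1 + C lam ^ p * X 1 ^ p) * X 0 ^ p + (X 1 ^ p - C f) := by
        ring
      rw [this]
      exact I2.add_mem (I2.mul_mem_left _ g2a) g2b
    · rw [Set.mem_singleton_iff] at hx
      subst hx
      change Phi R lam (X 1 ^ p - C f) ∈ I2
      rw [map_sub, map_pow, hPhi1, hPhiC]
      exact g2b
  -- Ψ maps I2 into I1
  have hΨ : I2 ≤ I1.comap (Psi p R lam w) := by
    rw [hI2, Ideal.span_le]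
    intro x hx
    rcases hx with rfl | hx
    · change Psi p R lam w (X 0 ^ p) ∈ I1
      rw [map_pow, hPsi0, mul_pow, mul_pow, sub_pow_char]
      have : (X 0 ^ p - X 1 ^ p : MvPolynomial (Fin 2) R) = (X 0 ^ p - C f) - (X 1 ^ p - C f) := by
        ring
      rw [this, mul_assoc]
      exact I1.mul_mem_right _ (I1.sub_mem g1a g1b)
    · rw [Set.mem_singleton_iff] at hx
      subst hx
      change Psi p R lam w (X 1 ^ p - C f) ∈ I1
      rw [map_sub, map_pow, hPsi1, hPsiC]
      exact g1b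
  -- key computation
  have hkey : (X 0 - X 1 : MvPolynomial (Fin 2) R) * C w * (1 + C lam * X 1) ^ (p - 1) *
      (1 + C lam * X 1) = (X 0 - X 1) + (X 0 - X 1) * C w * C (lam ^ p) * (X 1 ^ p - C f) := by
    rw [mul_assoc, ← pow_succ, hp1, pow_p_identity p R lam f]
    have : (C w * C (1 + lam ^ p * f) : MvPolynomial (Fin 2) R) = 1 := by
      rw [← C_mul, hwv, C_1]
    calc (X 0 - X 1 : MvPolynomial (Fin 2) R) * C w * (C (1 + lam ^ p * f) + C (lam ^ p) * (X 1 ^ p - C f))
        = (X 0 - X 1) * (C w * C (1 + lam ^ p * f)) +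
            (X 0 - X 1) * C w * C (lam ^ p) * (X 1 ^ p - C f) := by ring
      _ = _ := by rw [this, mul_one]
  have hkey2 : (X 0 : MvPolynomial (Fin 2) R) * C w * (1 + C lam * X 1) ^ (p - 1) *
      (1 + C lam * X 1) = X 0 + X 0 * C w * C (lam ^ p) * (X 1 ^ p - C f) := by
    rw [mul_assoc, ← pow_succ, hp1, pow_p_identity p R lam f]
    have : (C w * C (1 + lam ^ p * f) : MvPolynomial (Fin 2) R) = 1 := by
      rw [← C_mul, hwv, C_1]
    calc (X 0 : MvPolynomial (Fin 2) R) * C w * (C (1 + lam ^ p * f) + C (lam ^ p) * (X 1 ^ p - C f))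
        = X 0 * (C w * C (1 + lam ^ p * f)) +
            X 0 * C w * C (lam ^ p) * (X 1 ^ p - C f) := by ring
      _ = _ := by rw [this, mul_one]
  let φ := Ideal.quotientMapₐ I2 (Phi R lam) hΦ
  let ψ := Ideal.quotientMapₐ I1 (Psi p R lam w) hΨ
  have h12 : φ.comp ψ = AlgHom.id R _ := by
    apply Ideal.Quotient.algHom_ext
    apply MvPolynomial.algHom_ext
    intro i
    change Ideal.Quotient.mk I2 (Phi R lam (Psi p R lam w (X i))) = Ideal.Quotient.mk I2 (X i)
    rw [Ideal.Quotient.eq]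
    fin_cases i
    · change Phi R lam (Psi p R lam w (X 0)) - X 0 ∈ I2
      rw [hPsi0, map_mul, map_mul, map_sub, map_pow, map_add, map_mul, map_one, hPhi0, hPhi1,
        hPhiC, hPhiC]
      have : (X 0 + X 1 + C lam * X 0 * X 1 - X 1 : MvPolynomial (Fin 2) R) * C w *
          (1 + C lam * X 1) ^ (p - 1) - X 0 =
          X 0 * C w * (1 + C lam * X 1) ^ (p - 1) * (1 + C lam * X 1) - X 0 := by ring
      rw [this, hkey2, add_sub_cancel_left]
      exact I2.mul_mem_left _ g2b
    · change Phi R lam (Psi p R lam w (X 1)) - X 1 ∈ I2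
      rw [hPsi1, hPhi1, sub_self]
      exact I2.zero_mem
  have h21 : ψ.comp φ = AlgHom.id R _ := by
    apply Ideal.Quotient.algHom_ext
    apply MvPolynomial.algHom_ext
    intro i
    change Ideal.Quotient.mk I1 (Psi p R lam w (Phi R lam (X i))) = Ideal.Quotient.mk I1 (X i)
    rw [Ideal.Quotient.eq]
    fin_cases i
    · change Psi p R lam w (Phi R lam (X 0)) - X 0 ∈ I1
      rw [hPhi0, map_add, map_add, map_mul, map_mul, hPsi0, hPsi1, hPsiC]
      have : ((X 0 - X 1 : MvPolynomial (Fin 2) R) * C w * (1 + C lam * X 1) ^ (p - 1) + X 1 +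
          C lam * ((X 0 - X 1) * C w * (1 + C lam * X 1) ^ (p - 1)) * X 1 - X 0) =
          (X 0 - X 1) * C w * (1 + C lam * X 1) ^ (p - 1) * (1 + C lam * X 1) - (X 0 - X 1) := by
        ring
      rw [this, hkey, add_sub_cancel_left]
      exact I1.mul_mem_left _ g1b
    · change Psi p R lam w (Phi R lam (X 1)) - X 1 ∈ I1
      rw [hPhi1, hPsi1, sub_self]
      exact I1.zero_mem
  refine ⟨AlgEquiv.ofAlgHom φ ψ h12 h21, ?_, ?_⟩
  · change Ideal.Quotient.mk I2 (Phi R lam (X 0)) = _
    rw [hPhi0]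
  · change Ideal.Quotient.mk I2 (Phi R lam (X 1)) = _
    rw [hPhi1]

end Groth.Agent.S13042
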