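import Groth.Statements.S13043
import Groth.Agent.Lib.Helper61.AffOpens1
import Groth.Agent.Lib.Helper64.AffineComplement

set_option autoImplicit false
universe u
open CoPerf

namespace Groth.Agent.S13043

open AlgebraicGeometry in
/-- For a Noetherian scheme S that is separated, and a dense open subset U ⊆ S that is not empty, only
finitely many open subsets V ⊇ U have an affine inclusion morphism V → S, and among them there is
one contained in all the others (a least element for inclusion). -/
theorem result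
    (S : Scheme.{u}) [IsNoetherian S] [S.IsSeparated] (U : S.Opens)
    (hne : (U : Set S).Nonempty) (hU : Dense (U : Set S)) :
    Set.Finite {V : S.Opens | U ≤ V ∧ IsAffineHom V.ι} ∧
      ∃ V₀ : S.Opens, (U ≤ V₀ ∧ IsAffineHom V₀.ι) ∧
        ∀ V : S.Opens, U ≤ V → IsAffineHom V.ι → V₀ ≤ V := by
  classical
  have hfinM := (Groth.Agent.Lib.Helper61.AffOpens.maxPts_finite_and_cover
    (T := S) (C := ((U : Set S))ᶜ) U.2.isClosed_compl).1
  -- maximal points of the complement of a member are maximal points of the complement of `U`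
  have hsub : ∀ V : S.Opens, U ≤ V → IsAffineHom V.ι →
      Groth.Agent.Lib.Helper61.AffOpens.maxPts ((V : Set S))ᶜ ⊆
        Groth.Agent.Lib.Helper61.AffOpens.maxPts ((U : Set S))ᶜ := by
    intro V hUV hV ξ hξ
    obtain ⟨hξV, hξmax⟩ := hξ
    have hξU : ξ ∉ U := fun h => hξV (hUV h)
    refine ⟨hξU, fun y hyU hy => ?_⟩
    by_contra hne'
    have hdim : ringKrullDim (S.presheaf.stalk ξ) ≤ 1 :=
      Groth.Agent.Lib.Helper64.AffineComplement.ringKrullDim_stalk_le_one S V ξ hξV
        (fun η hη hηξ => hξmax η hη hηξ)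
    obtain ⟨w, hwU, hwy⟩ :=
      Groth.Agent.Lib.Helper64.AffineComplement.exists_specializes_of_mem_closure_scheme S U y
        (hU y)
    have hwy' : w ≠ y := fun h => hyU (h ▸ hwU)
    have h2 := Groth.Agent.Lib.Helper61.AffOpens.two_le_ringKrullDim_stalk hy hwy hne' hwy'
    have h3 : (2 : WithBot ℕ∞) ≤ 1 := h2.trans hdim
    exact absurd h3 (by decide)
  have hinj : Set.InjOn (fun V : S.Opens => Groth.Agent.Lib.Helper61.AffOpens.maxPts ((V : Set S))ᶜ)
      {V : S.Opens | U ≤ V ∧ IsAffineHom V.ι} := by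
    intro V _ W _ hVW
    have := Groth.Agent.Lib.Helper61.AffOpens.eq_of_maxPts_eq V.2.isClosed_compl
      W.2.isClosed_compl hVW
    exact SetLike.coe_injective (compl_injective this)
  have hfin : Set.Finite {V : S.Opens | U ≤ V ∧ IsAffineHom V.ι} := by
    apply Set.Finite.of_finite_image _ hinj
    apply (hfinM.finite_subsets).subset
    rintro _ ⟨V, ⟨hUV, hV⟩, rfl⟩
    exact hsub V hUV hV
  refine ⟨hfin, hfin.toFinset.inf id, ⟨?_, ?_⟩, ?_⟩
  · apply Finset.le_inf
    intro V hV
    exact ((Set.Finite.mem_toFinset hfin).mp hV).1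
  · apply Finset.inf_induction (p := fun V : S.Opens => IsAffineHom V.ι)
    · exact Groth.Agent.Lib.Helper61.AffOpens.isAffineHom_ι_top
    · intro V hV W hW
      exact Groth.Agent.Lib.Helper61.AffOpens.isAffineHom_ι_inf hV hW
    · intro V hV
      exact ((Set.Finite.mem_toFinset hfin).mp hV).2
  · intro V hUV hV
    exact Finset.inf_le (f := id) ((Set.Finite.mem_toFinset hfin).mpr ⟨hUV, hV⟩)

end Groth.Agent.S13043
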