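import Groth.Statements.S13046
import Groth.Agent.Lib.Helper66.TensorPi

set_option autoImplicit false
universe u
open FrobAlg

namespace Groth.Agent.S13046

open TensorProduct in
/-- Let p be a prime, R a commutative ring of characteristic p and A a commutative R-algebra of
characteristic p, with Frobenius twists A^{p^i/R} = R ⊗_{F^i,R} A, relative Frobenius maps F_i :
A^{p^{i+1}/R} → A^{p^i/R} and preperfection A^{p^∞/R} = lim_i A^{p^i/R} ⊆ Π_i A^{p^i/R}. For every
finitely generated projective R-module M, a sequence y ∈ Π_i (M ⊗_R A^{p^i/R}) lies in the image of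
the natural map M ⊗_R A^{p^∞/R} → Π_i (M ⊗_R A^{p^i/R}), m ⊗ x ↦ (m ⊗ x_i)_i, if and only if (M ⊗
F_i)(y_{i+1}) = y_i for all i: the image is exactly the module of compatible sequences. Together
with the injectivity of that map, which holds for every projective M, this says that the base change
map M ⊗_R lim_i A^{p^i/R} → lim_i (M ⊗_R A^{p^i/R}) is an isomorphism. (The published statement is
phrased for a finite locally free R-algebra R′ in place of M and identifies the target with the
preperfection of A ⊗_R R′ over R′; the printed argument is the module statement given here, and that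
identification is not part of this row; the injectivity half is stated separately for all projective
M.) -/
theorem result
    (p : ℕ) [Fact p.Prime] (R : Type u) [CommRing R] [CharP R p]
    (A : Type u) [CommRing A] [Algebra R A] [CharP A p]
    (M : Type u) [AddCommGroup M] [Module R M] [Module.Finite R M] [Module.Projective R M]
    (y : Π i : ℕ, M ⊗[R] W4c1imperftorsors.Twist p R A i) :
    y ∈ LinearMap.range
        (LinearMap.pi fun i : ℕ =>
        LinearMap.lTensor M
          (((Pi.evalAlgHom R (fun k => W4c1imperftorsors.Twist p R A k) i).comp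
            (W4c1imperftorsors.prePerf p R A).val).toLinearMap) :
        M ⊗[R] ↥(W4c1imperftorsors.prePerf p R A) →ₗ[R] (Π i : ℕ, M ⊗[R] W4c1imperftorsors.Twist p R A i)) ↔
      ∀ i : ℕ, LinearMap.lTensor M (W4c1imperftorsors.relFrob p R A i).toLinearMap (y (i + 1)) = y i := by
  let φ : ∀ i : ℕ, W4c1imperftorsors.Twist p R A (i + 1) →ₗ[R] W4c1imperftorsors.Twist p R A i :=
    fun i => (W4c1imperftorsors.relFrob p R A i).toLinearMap
  let g : ∀ i : ℕ, ↥(W4c1imperftorsors.prePerf p R A) →ₗ[R] W4c1imperftorsors.Twist p R A i :=
    fun i => (((Pi.evalAlgHom R (fun k => W4c1imperftorsors.Twist p R A k) i).comp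
        (W4c1imperftorsors.prePerf p R A).val).toLinearMap)
  have hcompat : ∀ i : ℕ, φ i ∘ₗ g (i + 1) = g i := by
    intro i
    ext x
    have hx := x.2
    unfold W4c1imperftorsors.prePerf at hx
    rw [Algebra.mem_iInf] at hx
    exact hx i
  have hsurj : ∀ t : ∀ i, W4c1imperftorsors.Twist p R A i, (∀ i, φ i (t (i + 1)) = t i) →
      ∃ x : ↥(W4c1imperftorsors.prePerf p R A), ∀ i, g i x = t i := by
    intro t ht
    refine ⟨⟨t, ?_⟩, fun i => rfl⟩
    unfold W4c1imperftorsors.prePerf
    rw [Algebra.mem_iInf]
    intro i
    exact ht i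
  change y ∈ LinearMap.range (LinearMap.pi fun i : ℕ => LinearMap.lTensor M (g i)) ↔
    ∀ i : ℕ, LinearMap.lTensor M (φ i) (y (i + 1)) = y i
  constructor
  · rintro ⟨x, rfl⟩ i
    exact Groth.Agent.Lib.Helper66.compat_of_mem_range φ g hcompat M x i
  · intro hy
    obtain ⟨x, hx⟩ := Groth.Agent.Lib.Helper66.exists_of_compat φ g hsurj M y hy
    exact ⟨x, funext hx⟩

end Groth.Agent.S13046
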