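import Groth.Statements.S13048
import Mathlib
-- import your own Groth.Agent.* helpers here

set_option autoImplicit false
universe u
open FrobAlg

namespace Groth.Agent.S13048

/-- Let k be an algebraically closed field of characteristic p > 0 and let A be a reduced finitely
generated commutative k-algebra with connected spectrum (A ≠ 0 and 0, 1 are its only idempotents).
If x ∈ A is a p^n-th power in A for every n ≥ 0, then x lies in the image of k; that is, ⋂_n A^{p^n}
= k. (The published statement is: for an artinian local ring R of characteristic p and a flat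
R-algebra A of finite type, the maps A^ét → O(π₀(A)) → A^{p^∞/R} from the largest étale subalgebra
to the preperfection are isomorphisms. This row is the case R = k algebraically closed and A reduced
with connected spectrum, where A^ét = k and the preperfection is ⋂_n A^{p^n}; the printed proof
reduces to this case and its last step proves it.) -/
theorem result
    (p : ℕ) [Fact p.Prime] (k : Type u) [Field k] [IsAlgClosed k] [CharP k p]
    (A : Type u) [CommRing A] [Algebra k A] [Algebra.FiniteType k A] [IsReduced A] [Nontrivial A]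
    (hconn : ∀ e : A, IsIdempotentElem e → e = 0 ∨ e = 1)
    (x : A) (hx : ∀ n : ℕ, ∃ a : A, a ^ p ^ n = x) :
    x ∈ (algebraMap k A).range := by
  classical
  haveI : CharP A p := charP_of_injective_algebraMap (algebraMap k A).injective p
  haveI : IsNoetherianRing A := Algebra.FiniteType.isNoetherianRing k A
  let I : k → Ideal A := fun c =>
    { carrier := {s | s * (x - algebraMap k A c) = 0}
      add_mem' := by
        intro a b ha hb
        simp only [Set.mem_setOf_eq] at *
        rw [add_mul, ha, hb, add_zero]
      zero_mem' := by simp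
      smul_mem' := by
        intro r a ha
        simp only [Set.mem_setOf_eq, smul_eq_mul] at *
        rw [mul_assoc, ha, mul_zero] }
  have hI : ∀ c s, s ∈ I c ↔ s * (x - algebraMap k A c) = 0 := fun c s => Iff.rfl
  have step1 : ∀ m : Ideal A, m.IsMaximal → ∃ c : k, ¬ (I c ≤ m) := by
    intro m hm
    letI : Field (A ⧸ m) := Ideal.Quotient.field m
    haveI : Module.Finite k (A ⧸ m) := finite_of_finite_type_of_isJacobsonRing k (A ⧸ m)
    have hbij : Function.Bijective (algebraMap k (A ⧸ m)) :=
      IsAlgClosed.algebraMap_bijective_of_isIntegral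
    have hval : ∀ a : A, ∃ c : k, a - algebraMap k A c ∈ m := by
      intro a
      obtain ⟨c, hc⟩ := hbij.2 (Ideal.Quotient.mk m a)
      refine ⟨c, ?_⟩
      rw [← Ideal.Quotient.eq_zero_iff_mem, map_sub, ← hc]
      exact sub_eq_zero.2 rfl
    obtain ⟨c, hc⟩ := hval x
    refine ⟨c, ?_⟩
    have hmem : ∀ n : ℕ, x - algebraMap k A c ∈ m ^ n := by
      intro n
      obtain ⟨a, ha⟩ := hx n
      obtain ⟨d, hd⟩ := hval a
      have h2 : (a - algebraMap k A d) ^ p ^ n = x - algebraMap k A (d ^ p ^ n) := by
        rw [sub_pow_char_pow, ha, map_pow]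
      have h3 : d ^ p ^ n = c := by
        by_contra hne
        have h5 : algebraMap k A (d ^ p ^ n - c) ∈ m := by
          have h4 : (a - algebraMap k A d) ^ p ^ n ∈ m :=
            Ideal.pow_mem_of_mem _ hd _ (pow_pos (Fact.out : p.Prime).pos n)
          rw [h2] at h4
          have h6 := m.sub_mem hc h4
          convert h6 using 1
          rw [map_sub]; ring
        exact hm.ne_top (Ideal.eq_top_of_isUnit_mem _ h5
          ((IsUnit.mk0 _ (sub_ne_zero.2 hne)).map _))
      rw [← h3, ← h2]
      exact Ideal.pow_le_pow_right (Nat.lt_pow_self (Fact.out : p.Prime).one_lt).le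
        (Ideal.pow_mem_pow hd _)
    have hinf : x - algebraMap k A c ∈ (⨅ i : ℕ, m ^ i • ⊤ : Submodule A A) := by
      simp only [Submodule.mem_iInf]
      intro n
      simpa using hmem n
    obtain ⟨r, hr⟩ := (Ideal.mem_iInf_smul_pow_eq_bot_iff m _).1 hinf
    intro hle
    have h7 : (1 - (r : A)) ∈ I c := by
      rw [hI, sub_mul, one_mul, ← smul_eq_mul (r : A), hr, sub_self]
    have h8 := hle h7
    exact hm.ne_top ((Ideal.eq_top_iff_one _).2 (by simpa using m.add_mem h8 r.2))
  have horth : ∀ c c', c ≠ c' → ∀ s ∈ I c, ∀ t ∈ I c', s * t = 0 := by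
    intro c c' hne s hs t ht
    have h1 : s * t * (algebraMap k A c' - algebraMap k A c) = 0 := by
      have e1 : algebraMap k A c' - algebraMap k A c
          = (x - algebraMap k A c) - (x - algebraMap k A c') := by ring
      rw [e1, mul_sub,
        show s * t * (x - algebraMap k A c) = t * (s * (x - algebraMap k A c)) by ring,
        (hI c s).1 hs,
        show s * t * (x - algebraMap k A c') = s * (t * (x - algebraMap k A c')) by ring,
        (hI c' t).1 ht]
      simp
    have hu : IsUnit (algebraMap k A c' - algebraMap k A c) := by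
      rw [← map_sub]
      exact (IsUnit.mk0 _ (sub_ne_zero.2 hne.symm)).map _
    exact (hu.mul_left_eq_zero).1 h1
  obtain ⟨m0, hm0⟩ := Ideal.exists_maximal A
  obtain ⟨c0, hc0⟩ := step1 m0 hm0
  let J : Ideal A := ⨆ c : {c : k // c ≠ c0}, I c
  have hIJ : I c0 ⊔ J = ⊤ := by
    by_contra hne
    obtain ⟨m, hm, hle⟩ := Ideal.exists_le_maximal _ hne
    obtain ⟨c, hc⟩ := step1 m hm
    apply hc
    by_cases h : c = c0
    · subst h
      exact le_sup_left.trans hle
    · exact (le_trans (le_iSup (fun c : {c : k // c ≠ c0} => I c) ⟨c, h⟩) le_sup_right).trans hle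
  have hJ0 : ∀ t ∈ J, ∀ s ∈ I c0, s * t = 0 := by
    intro t ht s hs
    refine Submodule.iSup_induction _ (motive := fun t => s * t = 0) ht ?_ ?_ ?_
    · intro c t ht
      exact horth c0 c c.2.symm s hs t ht
    · simp
    · intro a b ha hb
      rw [mul_add, ha, hb, add_zero]
  obtain ⟨e, he, f, hf, hef⟩ :=
    Submodule.mem_sup.1 (hIJ ▸ Submodule.mem_top : (1 : A) ∈ I c0 ⊔ J)
  have hef0 : e * f = 0 := hJ0 f hf e he
  have hidem : IsIdempotentElem e := by
    show e * e = e
    calc e * e = e * (e + f) - e * f := by ring
      _ = e := by rw [hef, hef0]; simp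
  rcases hconn e hidem with h0 | h1
  · exfalso
    have hf1 : f = 1 := by
      rw [h0, zero_add] at hef
      exact hef
    apply hc0
    intro s hs
    have h9 : s = 0 := by
      have := hJ0 f hf s hs
      rwa [hf1, mul_one] at this
    rw [h9]
    exact m0.zero_mem
  · refine ⟨c0, ?_⟩
    have h10 := (hI c0 e).1 he
    rw [h1, one_mul, sub_eq_zero] at h10
    exact h10.symm

end Groth.Agent.S13048
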