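import Groth.Statements.S13049
import Mathlib.Algebra.CharP.Lemmas
import Mathlib.Algebra.CharP.Frobenius

set_option autoImplicit false
universe u
open FrobAlg

namespace Groth.Agent.S13049

/-- In characteristic `p`, if `a - b` is killed by the `e`-th iterate of Frobenius then
`a ^ p ^ e = b ^ p ^ e`. -/
theorem pow_eq_pow_of_sub_pow_eq_zero (p : ℕ) [Fact p.Prime] (A : Type u) [CommRing A] [CharP A p]
    (e : ℕ) (a b : A) (h : (a - b) ^ p ^ e = 0) : a ^ p ^ e = b ^ p ^ e := by
  rw [sub_pow_char_pow] at h
  exact sub_eq_zero.mp h

/-- Let p be a prime and A a commutative ring of characteristic p whose nilradical N satisfies x^(p^e) =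
0 for all x ∈ N and some fixed e (for instance A Noetherian). Then the map between the inverse-limit
perfections along the absolute Frobenius, lim (⋯ → A → A) → lim (⋯ → A/N → A/N), induced by the
projection A → A/N, is bijective. (The published argument takes A of finite type over a field, where
the nilradical is finitely generated; this row assumes only that the nilradical is killed by one
fixed iterate of Frobenius, which is all that argument uses.) -/
theorem result
    (p : ℕ) [Fact p.Prime] (A : Type u) [CommRing A] [CharP A p]
    [CharP (A ⧸ nilradical A) p] (e : ℕ) (he : ∀ x ∈ nilradical A, x ^ p ^ e = 0) :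
    Function.Bijective (Perfection.map p (Ideal.Quotient.mk (nilradical A))) := by
  constructor
  · intro f g hfg
    apply Perfection.ext
    intro n
    have h1 : Ideal.Quotient.mk (nilradical A) (Perfection.coeff A p (n + e) f) =
        Ideal.Quotient.mk (nilradical A) (Perfection.coeff A p (n + e) g) := by
      have := congrArg (Perfection.coeff (A ⧸ nilradical A) p (n + e)) hfg
      simpa using this
    have h2 : Perfection.coeff A p (n + e) f - Perfection.coeff A p (n + e) g ∈ nilradical A :=
      Ideal.Quotient.eq.mp h1
    have h3 := pow_eq_pow_of_sub_pow_eq_zero p A e _ _ (he _ h2)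
    rw [← map_pow, ← map_pow] at h3
    have key : ∀ h : Perfection A p, Perfection.coeff A p (n + e) (h ^ p ^ e) =
        Perfection.coeff A p n h := by
      intro h
      have := Perfection.coeff_iterate_frobenius h n e
      rwa [iterate_frobenius] at this
    rwa [key, key] at h3
  · intro b
    -- choose lifts of the coefficients
    have hsurj : Function.Surjective (Ideal.Quotient.mk (nilradical A)) :=
      Ideal.Quotient.mk_surjective
    choose a ha using fun n => hsurj (Perfection.coeff (A ⧸ nilradical A) p n b)
    have hcompat : ∀ n, (a (n + 1 + e) ^ p) ^ p ^ e = a (n + e) ^ p ^ e := by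
      intro n
      apply pow_eq_pow_of_sub_pow_eq_zero
      apply he
      apply Ideal.Quotient.eq.mp
      rw [map_pow, ha, ha]
      have := Perfection.coeff_pow_p' b (n + e)
      rwa [show n + e + 1 = n + 1 + e by omega] at this
    refine ⟨⟨fun n => a (n + e) ^ p ^ e, ?_⟩, ?_⟩
    · intro n
      change (a (n + 1 + e) ^ p ^ e) ^ p = a (n + e) ^ p ^ e
      rw [← hcompat n, ← pow_mul, ← pow_mul, mul_comm]
    · apply Perfection.ext
      intro n
      rw [Perfection.coeff_map]
      change Ideal.Quotient.mk (nilradical A) (a (n + e) ^ p ^ e) = _
      rw [map_pow, ha, ← map_pow]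
      have := Perfection.coeff_iterate_frobenius b n e
      rwa [iterate_frobenius] at this

end Groth.Agent.S13049
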