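import Groth.Statements.S1305
import Groth.Agent.S1302

set_option autoImplicit false
universe u
open FlatMor

namespace Groth.Agent.S1305

open AlgebraicGeometry CategoryTheory Limits in
/-- For a morphism of thickenings, that is a commutative square whose horizontal maps are thickenings
(closed immersions that are surjective on points), the morphism between the thin schemes is integral
if and only if the morphism between the thick ones is. -/
theorem result {X X' S S' : Scheme.{u}} (iX : X ⟶ X') (iS : S ⟶ S') (f : X ⟶ S) (f' : X' ⟶ S')
    (hX : MoreMor.IsThickening iX) (hS : MoreMor.IsThickening iS) (w : iX ≫ f' = f ≫ iS) :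
    IsIntegralHom f ↔ IsIntegralHom f' := by
  have := hX.1
  have := hS.1
  have := hX.2
  constructor
  · intro hf
    have haff : IsAffineHom f' := (Groth.Agent.S1302.result iX iS f f' hX hS w).mp inferInstance
    rw [IsIntegralHom.iff_universallyClosed_and_isAffineHom]
    refine ⟨?_, haff⟩
    have h1 : UniversallyClosed (iX ≫ f') := by
      rw [w]; infer_instance
    exact UniversallyClosed.of_comp_surjective iX f'
  · intro hf'
    have h1 : IsIntegralHom (f ≫ iS) := by
      rw [← w]; infer_instance
    exact IsIntegralHom.of_comp f iS

end Groth.Agent.S1305
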