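import Groth.Statements.S13051
import Groth.Agent.Lib.Helper66.LogDeriv
import Groth.Agent.S13055

set_option autoImplicit false
universe u
open CategoryTheory AlgebraicGeometry
open Zeta

namespace Groth.Agent.S13051

section Generic
open Groth.Agent.Lib.Helper66 PowerSeries

/-- `1 + X^r + X^{2r} + ⋯` over any commutative ring -/
noncomputable def geomR (R : Type) [CommRing R] (r : ℕ) : R⟦X⟧ :=
  PowerSeries.mk fun m => if r ∣ m then (1 : R) else 0

theorem geomR_mul (R : Type) [CommRing R] (r : ℕ) (hr : 1 ≤ r) : geomR R r * (1 - X ^ r) = 1 := by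
  ext m
  rw [mul_sub, mul_one, map_sub, mul_comm, coeff_X_pow_mul', geomR, coeff_mk, coeff_one]
  rcases Nat.eq_zero_or_pos m with rfl | hm0
  · have : ¬ r ≤ 0 := by omega
    simp [this]
  · rw [if_neg (by omega : ¬ m = 0)]
    by_cases hm : r ≤ m
    · rw [if_pos hm, coeff_mk]
      have : r ∣ m - r ↔ r ∣ m := by
        constructor
        · intro h
          have := Nat.dvd_add h (dvd_refl r)
          rwa [Nat.sub_add_cancel hm] at this
        · intro h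
          exact Nat.dvd_sub h (dvd_refl r)
      simp [this]
    · rw [if_neg hm]
      have : ¬ r ∣ m := fun h => hm (Nat.le_of_dvd hm0 h)
      simp [this]

theorem map_geomR (r : ℕ) : PowerSeries.map (Int.castRingHom ℚ) (geomR ℤ r) = geomR ℚ r := by
  ext m
  simp only [geomR, coeff_map, coeff_mk]
  split_ifs <;> simp

theorem inv_one_sub_X_pow (r : ℕ) (hr : 1 ≤ r) : (1 - X ^ r : ℚ⟦X⟧)⁻¹ = geomR ℚ r := by
  symm
  rw [PowerSeries.eq_inv_iff_mul_eq_one]
  · exact geomR_mul ℚ r hr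
  · have : r ≠ 0 := by omega
    simp [this]

theorem coeff_dlog_one_sub_X_pow (r : ℕ) (hr : 1 ≤ r) (m : ℕ) :
    coeff m (d⁄dX ℚ (1 - X ^ r : ℚ⟦X⟧) * (1 - X ^ r : ℚ⟦X⟧)⁻¹) =
      if r ∣ m + 1 then -(r : ℚ) else 0 := by
  have h1 : d⁄dX ℚ (1 - X ^ r : ℚ⟦X⟧) = - (C (r : ℚ) * X ^ (r - 1)) := by
    rw [map_sub, derivative_pow, derivative_X, derivative_one, zero_sub, mul_one]
    congr 2
  rw [h1, inv_one_sub_X_pow r hr, neg_mul, map_neg, mul_assoc, coeff_C_mul, coeff_X_pow_mul', geomR]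
  have key : (r - 1 ≤ m ∧ r ∣ m - (r - 1)) ↔ r ∣ m + 1 := by
    constructor
    · rintro ⟨h1, h2⟩
      have := Nat.dvd_add h2 (dvd_refl r)
      have e : m - (r - 1) + r = m + 1 := by omega
      rwa [e] at this
    · intro h
      have hle : r ≤ m + 1 := Nat.le_of_dvd (Nat.succ_pos m) h
      refine ⟨by omega, ?_⟩
      have e : m - (r - 1) = m + 1 - r := by omega
      rw [e]
      exact Nat.dvd_sub h (dvd_refl r)
  by_cases hd : r ∣ m + 1
  · obtain ⟨h1', h2'⟩ := key.mpr hd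
    rw [if_pos h1', coeff_mk, if_pos h2', if_pos hd, mul_one]
  · rw [if_neg hd]
    by_cases hle : r - 1 ≤ m
    · rw [if_pos hle, coeff_mk, if_neg (fun h => hd (key.mp ⟨hle, h⟩))]
      simp
    · rw [if_neg hle]; simp


/-- `N m = Σ_{e ∣ m} e * a e` -/
def Npts (a : ℕ → ℕ) (m : ℕ) : ℕ := ∑ e ∈ m.divisors, e * a e

/-- the product `∏_{r=1}^{n} (1 - X^r)^{a r}` -/
noncomputable def Qn (a : ℕ → ℕ) (n : ℕ) : ℚ⟦X⟧ := ∏ r ∈ Finset.Icc 1 n, (1 - X ^ r) ^ a r

/-- `Z · ∏_{r=1}^{n} (1 - X^r)^{a r}` -/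
noncomputable def Fn (a : ℕ → ℕ) (n : ℕ) : ℚ⟦X⟧ :=
  (exp ℚ).subst (Groth.Agent.S13055.logSeries (Npts a)) * Qn a n

/-- the logarithmic derivative of `Fn` -/
noncomputable def Dn (a : ℕ → ℕ) (n : ℕ) : ℚ⟦X⟧ :=
  d⁄dX ℚ (Groth.Agent.S13055.logSeries (Npts a)) +
    ∑ r ∈ Finset.Icc 1 n, a r • (d⁄dX ℚ (1 - X ^ r : ℚ⟦X⟧) * (1 - X ^ r : ℚ⟦X⟧)⁻¹)

theorem isLogDeriv_Fn (a : ℕ → ℕ) (n : ℕ) : IsLogDeriv (Fn a n) (Dn a n) := by
  refine (isLogDeriv_exp_subst _ (Groth.Agent.S13055.constantCoeff_logSeries _)).mul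
    (IsLogDeriv.prod _ _ _ fun r hr => IsLogDeriv.pow ?_ (a r))
  have hr1 : r ≠ 0 := by
    have := (Finset.mem_Icc.mp hr).1
    omega
  exact isLogDeriv_of_constantCoeff_ne_zero _ (by simp [hr1])

theorem constantCoeff_Fn (a : ℕ → ℕ) (n : ℕ) : constantCoeff (Fn a n) = 1 := by
  rw [Fn, map_mul, constantCoeff_exp_subst _ (Groth.Agent.S13055.constantCoeff_logSeries _), one_mul,
    Qn, map_prod]
  apply Finset.prod_eq_one
  intro r hr
  have hr1 : r ≠ 0 := by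
    have := (Finset.mem_Icc.mp hr).1
    omega
  simp [hr1]

theorem coeff_Dn (a : ℕ → ℕ) (n m : ℕ) (hm : m < n) : coeff m (Dn a n) = 0 := by
  rw [Dn, map_add, Groth.Agent.S13055.coeff_derivative_logSeries, map_sum]
  have h1 : ∀ r ∈ Finset.Icc 1 n, coeff m (a r • (d⁄dX ℚ (1 - X ^ r : ℚ⟦X⟧) * (1 - X ^ r : ℚ⟦X⟧)⁻¹)) =
      if r ∣ m + 1 then -((r : ℚ) * a r) else 0 := by
    intro r hr
    rw [map_nsmul, coeff_dlog_one_sub_X_pow r (Finset.mem_Icc.mp hr).1]
    split_ifs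
    · rw [nsmul_eq_mul]; ring
    · simp
  rw [Finset.sum_congr rfl h1, ← Finset.sum_filter]
  have h2 : (Finset.Icc 1 n).filter (fun r => r ∣ m + 1) = (m + 1).divisors := by
    ext r
    rw [Finset.mem_filter, Finset.mem_Icc, Nat.mem_divisors]
    constructor
    · rintro ⟨_, h⟩
      exact ⟨h, Nat.succ_ne_zero m⟩
    · rintro ⟨h, _⟩
      have h3 := Nat.le_of_dvd (Nat.succ_pos m) h
      have h4 := Nat.pos_of_dvd_of_pos h (Nat.succ_pos m)
      exact ⟨⟨h4, by omega⟩, h⟩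
  rw [h2, Finset.sum_neg_distrib, Npts]
  push_cast
  ring

theorem coeff_succ_eq_zero_of_isLogDeriv {F D : ℚ⟦X⟧} (h : IsLogDeriv F D) (n : ℕ)
    (hD : ∀ i < n, coeff i D = 0) : ∀ m < n, coeff (m + 1) F = 0 := by
  intro m hm
  have h1 : coeff m (d⁄dX ℚ F) = coeff m (D * F) := by rw [h]
  rw [coeff_derivative, coeff_mul] at h1
  have h2 : ∑ p ∈ Finset.antidiagonal m, coeff p.1 D * coeff p.2 F = 0 := by
    apply Finset.sum_eq_zero
    intro p hp
    have := Finset.mem_antidiagonal.mp hp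
    rw [hD p.1 (by omega), zero_mul]
  rw [h2] at h1
  have hne : ((m : ℚ) + 1) ≠ 0 := by exact_mod_cast Nat.succ_ne_zero m
  exact (mul_eq_zero.mp h1).resolve_right hne

theorem coeff_Fn (a : ℕ → ℕ) (n m : ℕ) (hm : m < n) : coeff (m + 1) (Fn a n) = 0 :=
  coeff_succ_eq_zero_of_isLogDeriv (isLogDeriv_Fn a n) n (fun i hi => coeff_Dn a n i hi) m hm

theorem trunc_Fn (a : ℕ → ℕ) (n : ℕ) : trunc (n + 1) (Fn a n) = 1 := by
  ext m
  rw [coeff_trunc, Polynomial.coeff_one]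
  rcases Nat.eq_zero_or_pos m with rfl | hm0
  · simp [constantCoeff_Fn]
  · obtain ⟨m', rfl⟩ := Nat.exists_eq_succ_of_ne_zero (by omega : m ≠ 0)
    rw [if_neg (Nat.succ_ne_zero m')]
    split_ifs with h
    · exact coeff_Fn a n m' (by omega)
    · rfl

/-- the integral inverse of `Qn` -/
noncomputable def Wn (a : ℕ → ℕ) (n : ℕ) : ℤ⟦X⟧ := ∏ r ∈ Finset.Icc 1 n, (geomR ℤ r) ^ a r

theorem map_Wn_mul_Qn (a : ℕ → ℕ) (n : ℕ) :
    PowerSeries.map (Int.castRingHom ℚ) (Wn a n) * Qn a n = 1 := by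
  rw [Wn, Qn, map_prod, ← Finset.prod_mul_distrib]
  apply Finset.prod_eq_one
  intro r hr
  rw [map_pow, map_geomR, ← mul_pow, geomR_mul ℚ r (Finset.mem_Icc.mp hr).1, one_pow]

theorem coeff_zeta_int (a : ℕ → ℕ) (n : ℕ) :
    ∃ z : ℤ, coeff n ((exp ℚ).subst (Groth.Agent.S13055.logSeries (Npts a))) = (z : ℚ) := by
  refine ⟨coeff n (Wn a n), ?_⟩
  have h1 : (exp ℚ).subst (Groth.Agent.S13055.logSeries (Npts a)) =
      Fn a n * PowerSeries.map (Int.castRingHom ℚ) (Wn a n) := by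
    rw [Fn, mul_assoc, mul_comm (Qn a n), map_Wn_mul_Qn, mul_one]
  rw [h1, coeff_mul, Finset.sum_eq_single (0, n)]
  · rw [coeff_zero_eq_constantCoeff_apply, constantCoeff_Fn, one_mul, coeff_map]
    rfl
  · rintro ⟨i, j⟩ hp hne
    have hij := Finset.mem_antidiagonal.mp hp
    simp only at hij
    have hi : i ≠ 0 := by
      rintro rfl
      apply hne
      simp at hij
      rw [hij]
    obtain ⟨i', rfl⟩ := Nat.exists_eq_succ_of_ne_zero hi
    rw [coeff_Fn a n i' (by omega), zero_mul]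
  · intro h
    exact absurd (Finset.mem_antidiagonal.mpr (zero_add n)) h

end Generic

/-- For a scheme X of finite type over a finite field k, Z(X, t) = ∏ over the closed points x of (1 −
t^{deg x})^{−1}, that is ∏_{r ≥ 1} (1 − t^r)^{−a_r} with a_r the number of closed points of residue
degree r; equivalently, for every n the product Z(X, t) · ∏_{r = 1}^{n} (1 − t^r)^{a_r} is ≡ 1
modulo t^{n+1}. In particular Z(X, t) has integer coefficients. (Stated for any scheme of finite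
type over k; reducedness plays no role.) -/
theorem result {k : Type u} [Field k] [Finite k] {X : Scheme.{u}}
    (f : X ⟶ Spec (CommRingCat.of k)) [LocallyOfFiniteType f] [QuasiCompact f] :
    (∀ n : ℕ, PowerSeries.trunc (n + 1)
        (Zeta.zetaFun f * ∏ r ∈ Finset.Icc 1 n, (1 - PowerSeries.X ^ r) ^ Zeta.degCount f r) = 1) ∧
      ∀ n : ℕ, ∃ z : ℤ, PowerSeries.coeff n (Zeta.zetaFun f) = (z : ℚ) := by
  exact ⟨fun n => trunc_Fn (Zeta.degCount f) n, fun n => coeff_zeta_int (Zeta.degCount f) n⟩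

end Groth.Agent.S13051
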