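import Groth.Statements.S13057
import Mathlib.RingTheory.PowerSeries.Trunc
import Mathlib.LinearAlgebra.Dual.Lemmas
import Mathlib.LinearAlgebra.Pi
import Mathlib.Algebra.Polynomial.Eval.Degree

set_option autoImplicit false
universe u
open Zeta

namespace Groth.Agent.S13057

open Polynomial in
/-- The polynomial `∑_j c_j X^(N-j)` attached to a vector `c ∈ L^(N+1)`. -/
noncomputable def revPoly {L : Type u} [Field L] (N : ℕ) (c : Fin (N + 1) → L) : Polynomial L :=
  ∑ j : Fin (N + 1), Polynomial.C (c j) * Polynomial.X ^ (N - (j : ℕ))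

theorem coeff_revPoly {L : Type u} [Field L] (N : ℕ) (c : Fin (N + 1) → L) (j : Fin (N + 1)) :
    (revPoly N c).coeff (N - (j : ℕ)) = c j := by
  classical
  unfold revPoly
  rw [Polynomial.finsetSum_coeff, Finset.sum_eq_single j]
  · simp
  · intro b _ hb
    rw [Polynomial.coeff_C_mul_X_pow, if_neg]
    intro h
    apply hb
    have hb' := b.2
    have hj' := j.2
    exact Fin.ext (by omega)
  · intro h; exact absurd (Finset.mem_univ _) h

theorem coeff_mul_revPoly {L : Type u} [Field L] (f : PowerSeries L) (N : ℕ)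
    (c : Fin (N + 1) → L) (i : ℕ) :
    PowerSeries.coeff (i + N) (f * ((revPoly N c : Polynomial L) : PowerSeries L)) =
      ∑ j : Fin (N + 1), c j * PowerSeries.coeff (i + (j : ℕ)) f := by
  unfold revPoly
  have hsum : ((∑ j : Fin (N + 1), Polynomial.C (c j) * Polynomial.X ^ (N - (j : ℕ)) :
      Polynomial L) : PowerSeries L) =
      ∑ j : Fin (N + 1), ((Polynomial.C (c j) * Polynomial.X ^ (N - (j : ℕ)) : Polynomial L) :
        PowerSeries L) := by
    simp only [← Polynomial.coeToPowerSeries.ringHom_apply]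
    exact map_sum (Polynomial.coeToPowerSeries.ringHom (R := L)) _ _
  rw [hsum, Finset.mul_sum, map_sum]
  refine Finset.sum_congr rfl fun j _ => ?_
  rw [Polynomial.coe_mul, Polynomial.coe_C, Polynomial.coe_pow, Polynomial.coe_X,
    ← mul_assoc, PowerSeries.coeff_mul_X_pow', if_pos (by omega), PowerSeries.coeff_mul_C, mul_comm]
  have hj := j.2
  have : i + N - (N - (j : ℕ)) = i + (j : ℕ) := by omega
  rw [this]

/-- every polynomial of degree `≤ N` is a `revPoly`. -/
theorem eq_revPoly {L : Type u} [Field L] (Q : Polynomial L) (N : ℕ) (hN : Q.natDegree ≤ N) :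
    Q = revPoly N (fun j : Fin (N + 1) => Q.coeff (N - (j : ℕ))) := by
  ext n
  unfold revPoly
  rw [Polynomial.finsetSum_coeff]
  by_cases hn : n ≤ N
  · rw [Finset.sum_eq_single (⟨N - n, by omega⟩ : Fin (N + 1))]
    · simp only [Polynomial.coeff_C_mul_X_pow]
      rw [if_pos (by omega)]
      congr 1
      omega
    · intro b _ hb
      rw [Polynomial.coeff_C_mul_X_pow, if_neg]
      intro h
      apply hb
      have hb' := b.2
      exact Fin.ext (by simp only; omega)
    · intro h; exact absurd (Finset.mem_univ _) h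
  · rw [Polynomial.coeff_eq_zero_of_natDegree_lt (by omega)]
    symm
    apply Finset.sum_eq_zero
    intro b _
    rw [Polynomial.coeff_C_mul_X_pow, if_neg]
    omega

/-- A power series f = ∑_{m ≥ 0} a_m t^m over a field L lies in L(t), i.e. f · Q = P for some
polynomials P, Q with Q ≠ 0, if and only if there are natural numbers M, N such that the vectors
(a_i, a_{i+1}, …, a_{i+N}) ∈ L^{N+1}, i ≥ M, span a proper subspace. -/
theorem result {L : Type u} [Field L]
    (f : PowerSeries L) :
    (∃ P Q : Polynomial L, Q ≠ 0 ∧ f * (Q : PowerSeries L) = (P : PowerSeries L)) ↔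
      ∃ M N : ℕ, Submodule.span L
          {v : Fin (N + 1) → L | ∃ i : ℕ, M ≤ i ∧ v = fun j : Fin (N + 1) => PowerSeries.coeff (i + (j : ℕ)) f} ≠ ⊤ := by
  classical
  constructor
  · rintro ⟨P, Q, hQ, hPQ⟩
    refine ⟨P.natDegree + 1, Q.natDegree, ?_⟩
    set N := Q.natDegree with hN
    set c : Fin (N + 1) → L := fun j => Q.coeff (N - (j : ℕ)) with hc
    have hQc : Q = revPoly N c := eq_revPoly Q N le_rfl
    -- the functional `v ↦ ∑ c_j v_j`
    let φ : (Fin (N + 1) → L) →ₗ[L] L :=
      ∑ j : Fin (N + 1), c j • (LinearMap.proj j : (Fin (N + 1) → L) →ₗ[L] L)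
    have hφ : ∀ v, φ v = ∑ j, c j * v j := by
      intro v
      simp [φ, LinearMap.sum_apply]
    intro htop
    have hle : Submodule.span L
          {v : Fin (N + 1) → L | ∃ i : ℕ, P.natDegree + 1 ≤ i ∧
            v = fun j : Fin (N + 1) => PowerSeries.coeff (i + (j : ℕ)) f} ≤ LinearMap.ker φ := by
      rw [Submodule.span_le]
      rintro v ⟨i, hi, rfl⟩
      rw [SetLike.mem_coe, LinearMap.mem_ker, hφ, ← coeff_mul_revPoly, ← hQc, hPQ,
        Polynomial.coeff_coe]
      exact Polynomial.coeff_eq_zero_of_natDegree_lt (by omega)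
    rw [htop, top_le_iff] at hle
    have h0 : φ (Pi.single 0 1) = 0 := by
      have : (Pi.single 0 1 : Fin (N + 1) → L) ∈ LinearMap.ker φ := by rw [hle]; trivial
      exact this
    rw [hφ, Finset.sum_eq_single (0 : Fin (N + 1))] at h0
    · simp only [Pi.single_eq_same, mul_one, hc, Fin.val_zero, Nat.sub_zero] at h0
      exact hQ (Polynomial.leadingCoeff_eq_zero.mp h0)
    · intro b _ hb
      simp [Pi.single_apply, hb]
    · intro h; exact absurd (Finset.mem_univ _) h
  · rintro ⟨M, N, hspan⟩
    obtain ⟨φ, hφ0, hφ⟩ := Submodule.exists_le_ker_of_lt_top _ (lt_top_iff_ne_top.mpr hspan)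
    set c : Fin (N + 1) → L := fun j => φ (Pi.single j 1) with hc
    have hφc : ∀ v, φ v = ∑ j, c j * v j := by
      intro v
      rw [LinearMap.pi_apply_eq_sum_univ φ v]
      refine Finset.sum_congr rfl fun j _ => ?_
      rw [smul_eq_mul, mul_comm]
      congr 2
      funext j'
      simp [Pi.single_apply, eq_comm]
    have hcne : c ≠ 0 := by
      intro h0
      apply hφ0
      refine LinearMap.ext fun v => ?_
      rw [hφc]
      simp [h0]
    have hQne : revPoly N c ≠ 0 := by
      intro h0
      apply hcne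
      funext j
      rw [← coeff_revPoly N c j, h0]
      simp
    refine ⟨PowerSeries.trunc (M + N) (f * ((revPoly N c : Polynomial L) : PowerSeries L)),
      revPoly N c, hQne, ?_⟩
    ext n
    rw [Polynomial.coeff_coe, PowerSeries.coeff_trunc]
    split_ifs with hn
    · rfl
    · obtain ⟨i, rfl⟩ : ∃ i, n = i + N := ⟨n - N, by omega⟩
      rw [coeff_mul_revPoly, ← hφc]
      have : (fun j : Fin (N + 1) => PowerSeries.coeff (i + (j : ℕ)) f) ∈ LinearMap.ker φ :=
        hφ (Submodule.subset_span ⟨i, by omega, rfl⟩)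
      exact this

end Groth.Agent.S13057
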