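import Groth.Statements.S13058
import Groth.Agent.S13057
import Mathlib.Algebra.Polynomial.AlgebraMap

set_option autoImplicit false
universe u v
open Zeta

namespace Groth.Agent.S13058

/-- If L'/L is a field extension, a power series f ∈ L⟦t⟧ belongs to L(t) exactly when it belongs to
L'(t); here membership in L(t) means f · Q = P for polynomials P, Q over the field in question with
Q ≠ 0. -/
theorem result {L : Type u} {L' : Type v} [Field L] [Field L']
    [Algebra L L'] (f : PowerSeries L) :
    (∃ P Q : Polynomial L', Q ≠ 0 ∧
        PowerSeries.map (algebraMap L L') f * (Q : PowerSeries L') = (P : PowerSeries L')) ↔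
      ∃ P Q : Polynomial L, Q ≠ 0 ∧ f * (Q : PowerSeries L) = (P : PowerSeries L) := by
  classical
  constructor
  · intro h
    rw [Groth.Agent.S13057.result] at h ⊢
    obtain ⟨M, N, hspan⟩ := h
    refine ⟨M, N, fun htop => hspan ?_⟩
    -- every standard basis vector of `L'^(N+1)` is in the `L'`-span of the windows
    rw [eq_top_iff]
    -- the `L`-linear map `L^(N+1) → L'^(N+1)`
    let ι : (Fin (N + 1) → L) →ₗ[L] (Fin (N + 1) → L') :=
      LinearMap.pi fun j => (Algebra.linearMap L L') ∘ₗ LinearMap.proj j
    set W' : Submodule L' (Fin (N + 1) → L') := Submodule.span L'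
      {v : Fin (N + 1) → L' | ∃ i : ℕ, M ≤ i ∧
        v = fun j : Fin (N + 1) => PowerSeries.coeff (i + (j : ℕ))
          (PowerSeries.map (algebraMap L L') f)} with hW'
    have hmap : ∀ v ∈ Submodule.span L
        {v : Fin (N + 1) → L | ∃ i : ℕ, M ≤ i ∧
          v = fun j : Fin (N + 1) => PowerSeries.coeff (i + (j : ℕ)) f}, ι v ∈ W' := by
      intro v hv
      induction hv using Submodule.span_induction with
      | mem y hy =>
        obtain ⟨i, hi, rfl⟩ := hy
        apply Submodule.subset_span
        refine ⟨i, hi, ?_⟩
        funext j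
        simp [ι]
      | zero => rw [map_zero]; exact W'.zero_mem
      | add y z _ _ hy hz => rw [map_add]; exact W'.add_mem hy hz
      | smul r y _ hy =>
        rw [map_smul, ← algebraMap_smul L' r (ι y)]
        exact W'.smul_mem _ hy
    intro w _
    have hw : w = ∑ j, w j • ι (Pi.single j 1) := by
      funext j'
      simp [ι, Finset.sum_apply, Pi.single_apply]
    rw [hw]
    refine Submodule.sum_mem _ fun j _ => Submodule.smul_mem _ _ (hmap _ ?_)
    rw [htop]
    trivial
  · rintro ⟨P, Q, hQ, hPQ⟩
    refine ⟨P.map (algebraMap L L'), Q.map (algebraMap L L'),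
      (Polynomial.map_ne_zero_iff (algebraMap L L').injective).mpr hQ, ?_⟩
    rw [Polynomial.polynomial_map_coe, Polynomial.polynomial_map_coe, ← map_mul, hPQ]

end Groth.Agent.S13058
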