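import Groth.Statements.S1306
import Groth.Agent.Lib.Helper6.Thickening

set_option autoImplicit false
universe u
open FlatMor

namespace Groth.Agent.S1306

open AlgebraicGeometry CategoryTheory Limits in
/-- For a morphism of thickenings, that is a commutative square whose horizontal maps are thickenings
(closed immersions that are surjective on points), the morphism between the thin schemes is
quasi-separated if and only if the morphism between the thick ones is. -/
theorem result {X X' S S' : Scheme.{u}} (iX : X ⟶ X') (iS : S ⟶ S') (f : X ⟶ S) (f' : X' ⟶ S')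
    (hX : MoreMor.IsThickening iX) (hS : MoreMor.IsThickening iS) (w : iX ≫ f' = f ≫ iS) :
    QuasiSeparated f ↔ QuasiSeparated f' := by
  have hiX := Lib.Helper6.thick_isHomeomorph hX
  have := hX.1; have := hX.2; have := hS.1; have := hS.2
  constructor
  · intro h
    have hc : QuasiSeparated (iX ≫ f') := by rw [w]; infer_instance
    rw [HasAffineProperty.eq_targetAffineLocally (P := @QuasiSeparated)]
    intro U
    show QuasiSeparatedSpace ↥(f' ⁻¹ᵁ U.1)
    refine (isQuasiSeparated_iff_quasiSeparatedSpace _ (f' ⁻¹ᵁ U.1).2).mp ?_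
    have h1 : IsQuasiSeparated ((iX ≫ f') ⁻¹ᵁ U.1 : Set X) :=
      (iX ≫ f').isQuasiSeparated_preimage U.2.isQuasiSeparated
    have h2 : (f' ⁻¹ᵁ U.1 : Set X') = iX '' ((iX ≫ f') ⁻¹ᵁ U.1 : Set X) := by
      ext x'
      obtain ⟨x, rfl⟩ := hiX.surjective x'
      simp only [Scheme.Hom.comp_base, TopologicalSpace.Opens.map_comp_obj,
        TopologicalSpace.Opens.map_coe, Set.mem_preimage, SetLike.mem_coe, Set.mem_image]
      constructor
      · intro hx; exact ⟨x, hx, rfl⟩
      · rintro ⟨y, hy, hxy⟩
        rwa [← hiX.injective hxy]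
    show IsQuasiSeparated (f' ⁻¹ᵁ U.1 : Set X')
    rw [h2]
    exact h1.image_of_isEmbedding hiX.isEmbedding
  · intro h
    have : QuasiSeparated (f ≫ iS) := by rw [← w]; infer_instance
    exact QuasiSeparated.of_comp f iS

end Groth.Agent.S1306
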