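import Groth.Statements.S13062
import Groth.Agent.Lib.Helper67.PointCount
import Mathlib.AlgebraicGeometry.Morphisms.FiniteType
import Mathlib.AlgebraicGeometry.Morphisms.QuasiCompact
import Mathlib.AlgebraicGeometry.ResidueField
import Mathlib.Topology.KrullDimension
import Mathlib.FieldTheory.Finiteness

set_option autoImplicit false
universe u
open CategoryTheory AlgebraicGeometry
open Zeta

namespace Groth.Agent.S13062

/-- If X is a variety of dimension r over a finite field k with q elements, there is a constant c_X > 0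
with #X(F_{q^e}) ≤ c_X q^{re} for every e ≥ 1. Stated for any scheme of finite type over k of
dimension at most r, with a natural-number constant. -/
theorem result {k : Type u} [Field k] [Finite k] {X : Scheme.{u}}
    (f : X ⟶ Spec (CommRingCat.of k)) [LocallyOfFiniteType f] [QuasiCompact f] (r : ℕ)
    (hr : topologicalKrullDim X ≤ r) :
    ∃ c : ℕ, ∀ (k' : Type u) [Field k'] [Algebra k k'] [Finite k'],
      SgaExt.pointCount f k' ≤ c * Nat.card k ^ (r * Module.finrank k k') := by
  classical
  haveI : CompactSpace X := QuasiCompact.compactSpace_of_compactSpace f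
  let 𝒰 := X.affineCover.finiteSubcover
  -- rings and open immersions
  let Rg : 𝒰.I₀ → CommRingCat.{u} := fun i => Γ(𝒰.X i, ⊤)
  let j : ∀ i, Spec (Rg i) ⟶ X := fun i => (𝒰.X i).isoSpec.inv ≫ 𝒰.f i
  have hjrange : ∀ i, Set.range (j i).base = Set.range (𝒰.f i).base := by
    intro i
    simp only [j, Scheme.Hom.comp_base, TopCat.coe_comp]
    rw [Set.range_comp]
    have : Set.range ((𝒰.X i).isoSpec.inv.base) = Set.univ :=
      Set.range_eq_univ.mpr (𝒰.X i).isoSpec.inv.surjective
    rw [this, Set.image_univ]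
  have hcov : ∀ x : X, ∃ i, x ∈ Set.range (j i).base := by
    intro x
    obtain ⟨i, hi⟩ := 𝒰.exists_eq x
    exact ⟨i, by rw [hjrange]; exact hi⟩
  -- algebra structures
  let φ : ∀ i, CommRingCat.of k ⟶ Rg i := fun i => Spec.preimage (j i ≫ f)
  let alg : ∀ i, Algebra k (Rg i) := fun i => (φ i).hom.toAlgebra
  have hft : ∀ i, @Algebra.FiniteType k (Rg i) _ _ (alg i) := by
    intro i
    have h1 : LocallyOfFiniteType (Spec.map (φ i)) := by
      simp only [φ, Spec.map_preimage]
      infer_instance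
    exact (HasRingHomProperty.Spec_iff (P := @LocallyOfFiniteType)).mp h1
  have hdim : ∀ i, ringKrullDim (Rg i) ≤ r := by
    intro i
    rw [← PrimeSpectrum.topologicalKrullDim_eq_ringKrullDim]
    exact ((j i).isOpenEmbedding.isInducing.topologicalKrullDim_le).trans hr
  -- the constants
  have hN : ∀ i, ∃ N : ℕ, ∀ (k' : Type u) [Field k'] [Algebra k k'] [Finite k'],
      Finite (@AlgHom k (Rg i) k' _ _ _ (alg i) _) ∧
        Nat.card (@AlgHom k (Rg i) k' _ _ _ (alg i) _) ≤ N * Nat.card k' ^ r := by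
    intro i
    letI := alg i
    haveI := hft i
    exact Groth.Agent.Lib.Helper67.exists_card_algHom_le (k := k) (Rg i) r (hdim i)
  choose N hN using hN
  refine ⟨∑ i, N i, ?_⟩
  intro k' _ _ _
  -- the comparison map
  let G := { g : Spec (CommRingCat.of k') ⟶ X //
    g ≫ f = Spec.map (CommRingCat.ofHom (algebraMap k k')) }
  let Tgt := Σ i : 𝒰.I₀, @AlgHom k (Rg i) k' _ _ _ (alg i) _
  have hfinT : ∀ i, Finite (@AlgHom k (Rg i) k' _ _ _ (alg i) _) := fun i => (hN i k').1
  let pt : Spec (CommRingCat.of k') := default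
  have hsub : ∀ (g : G), ∃ i, Set.range g.1.base ⊆ Set.range (j i).base := by
    intro g
    obtain ⟨i, hi⟩ := hcov (g.1.base pt)
    refine ⟨i, ?_⟩
    rintro _ ⟨y, rfl⟩
    rw [Subsingleton.elim y pt]
    exact hi
  choose ig hig using hsub
  let lft : ∀ g : G, Spec (CommRingCat.of k') ⟶ Spec (Rg (ig g)) :=
    fun g => IsOpenImmersion.lift (j (ig g)) g.1 (hig g)
  have hlft : ∀ g : G, lft g ≫ j (ig g) = g.1 := fun g => IsOpenImmersion.lift_fac _ _ _
  let ψ : ∀ g : G, Rg (ig g) ⟶ CommRingCat.of k' := fun g => Spec.preimage (lft g)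
  have hψ : ∀ g : G, φ (ig g) ≫ ψ g = CommRingCat.ofHom (algebraMap k k') := by
    intro g
    apply Spec.map_injective
    rw [Spec.map_comp]
    simp only [φ, ψ, Spec.map_preimage]
    rw [← Category.assoc, hlft g, g.2]
  let Θ : G → Tgt := fun g => ⟨ig g,
    letI := alg (ig g)
    { (ψ g).hom with
      commutes' := fun c => by
        have := congrArg (fun h => h.hom c) (hψ g)
        exact this }⟩
  let Λ : Tgt → (Spec (CommRingCat.of k') ⟶ X) := fun t =>
    letI := alg t.1
    Spec.map (CommRingCat.ofHom (t.2 : Rg t.1 →+* k')) ≫ j t.1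
  have hΛΘ : ∀ g : G, Λ (Θ g) = g.1 := by
    intro g
    have h1 : Spec.map (ψ g) = lft g := Spec.map_preimage _
    show Spec.map (CommRingCat.ofHom ((ψ g).hom)) ≫ j (ig g) = g.1
    rw [CommRingCat.ofHom_hom, h1, hlft g]
  have hΘinj : Function.Injective Θ := by
    intro g1 g2 h
    apply Subtype.ext
    rw [← hΛΘ g1, ← hΛΘ g2, h]
  haveI : Finite Tgt := inferInstance
  have h1 : Nat.card G ≤ Nat.card Tgt := Nat.card_le_card_of_injective Θ hΘinj
  have h2 : Nat.card Tgt = ∑ i, Nat.card (@AlgHom k (Rg i) k' _ _ _ (alg i) _) := by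
    haveI := fun i => Fintype.ofFinite (@AlgHom k (Rg i) k' _ _ _ (alg i) _)
    rw [Nat.card_eq_fintype_card, Fintype.card_sigma]
    simp only [Nat.card_eq_fintype_card]
  have h3 : Nat.card k' = Nat.card k ^ Module.finrank k k' := by
    haveI : Module.Finite k k' := Module.Finite.of_finite
    exact Module.natCard_eq_pow_finrank
  have h4 : ∀ i, Nat.card (@AlgHom k (Rg i) k' _ _ _ (alg i) _) ≤
      N i * Nat.card k ^ (r * Module.finrank k k') := by
    intro i
    have := (hN i k').2
    rwa [h3, ← pow_mul, mul_comm (Module.finrank k k') r] at this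
  show Nat.card G ≤ _
  calc Nat.card G ≤ Nat.card Tgt := h1
    _ = ∑ i, Nat.card (@AlgHom k (Rg i) k' _ _ _ (alg i) _) := h2
    _ ≤ ∑ i, N i * Nat.card k ^ (r * Module.finrank k k') := Finset.sum_le_sum fun i _ => h4 i
    _ = (∑ i, N i) * Nat.card k ^ (r * Module.finrank k k') := by rw [Finset.sum_mul]

end Groth.Agent.S13062
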