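-- Statement S13065
import Groth.Statements.S13065
import Groth.Agent.Lib.Helper67.FiniteFieldSums

set_option autoImplicit false
universe u
open Zeta

namespace Groth.Agent.S13065

open MvPolynomial in
/-- the number of zeros, as an element of `k` -/
theorem card_zeros_cast {k : Type u} [Field k] [Fintype k] (N : ℕ)
    (f : MvPolynomial (Fin N) k) (hN : 0 < N) :
    ((Nat.card {a : Fin N → k // MvPolynomial.eval a f = 0} : ℕ) : k) =
      -∑ x : Fin N → k, eval x (f ^ (Fintype.card k - 1)) := by
  classical
  have hq : 0 < Fintype.card k - 1 := by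
    have := Fintype.one_lt_card (α := k)
    omega
  have h1 : ∀ x : Fin N → k, (1 : k) - eval x (f ^ (Fintype.card k - 1)) =
      if eval x f = 0 then 1 else 0 := by
    intro x
    rw [map_pow]
    split_ifs with hx
    · rw [hx, zero_pow hq.ne', sub_zero]
    · rw [FiniteField.pow_card_sub_one_eq_one _ hx, sub_self]
  have h2 : ((Nat.card {a : Fin N → k // MvPolynomial.eval a f = 0} : ℕ) : k) =
      ∑ x : Fin N → k, if eval x f = 0 then (1 : k) else 0 := by
    rw [Nat.card_eq_fintype_card, Fintype.card_subtype, Finset.card_eq_sum_ones, Nat.cast_sum,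
      Finset.sum_filter]
    simp
  rw [h2, ← Finset.sum_congr rfl fun x _ => h1 x, Finset.sum_sub_distrib, Finset.sum_const,
    Finset.card_univ, nsmul_eq_mul, mul_one]
  have h3 : ((Fintype.card (Fin N → k) : ℕ) : k) = 0 := by
    rw [Fintype.card_fun, Fintype.card_fin, Nat.cast_pow, FiniteField.cast_card_eq_zero,
      zero_pow hN.ne']
  rw [h3, zero_sub]

/-- Let k be a finite field with q elements and characteristic p, n ≥ 2, and f ∈ k[x_0, …, x_n]
homogeneous of degree n + 1, defining the hypersurface Z ⊂ P^n_k. Then #Z(F_q) ≢ 1 (mod p) if and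
only if the coefficient of (x_0 ⋯ x_n)^{q−1} in f^{q−1} is nonzero. Stated through the affine count:
#Z(F_q) ≡ 1 (mod p) exactly when p divides the number of zeros of f in k^{n+1} (as (q − 1) #Z(F_q) +
1 is that number). -/
theorem result {k : Type u} [Field k] [Finite k] (p : ℕ)
    [CharP k p] (n : ℕ) (hn : 2 ≤ n) (f : MvPolynomial (Fin (n + 1)) k)
    (hf : f.IsHomogeneous (n + 1)) :
    p ∣ Nat.card {a : Fin (n + 1) → k // MvPolynomial.eval a f = 0} ↔
      MvPolynomial.coeff (Finsupp.equivFunOnFinite.symm fun _ : Fin (n + 1) => Nat.card k - 1)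
        (f ^ (Nat.card k - 1)) = 0 := by
  classical
  have := Fintype.ofFinite k
  rw [Nat.card_eq_fintype_card (α := k)]
  have hdeg : (f ^ (Fintype.card k - 1)).totalDegree ≤ (Fintype.card k - 1) * (n + 1) := by
    have h := (hf.pow (Fintype.card k - 1)).totalDegree_le
    rwa [mul_comm] at h
  have hsum := Groth.Agent.Lib.Helper67.sum_eval_eq_coeff (f ^ (Fintype.card k - 1)) hdeg
  rw [← CharP.cast_eq_zero_iff k p, card_zeros_cast (n + 1) f (Nat.succ_pos n), hsum, neg_eq_zero,
    mul_eq_zero]
  constructor
  · rintro (h | h)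
    · exact absurd h (pow_ne_zero _ (neg_ne_zero.mpr one_ne_zero))
    · exact h
  · exact Or.inr

end Groth.Agent.S13065
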