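-- Statement S13066
import Groth.Statements.S13066
import Mathlib.Tactic
import Mathlib.RingTheory.MvPolynomial.Expand
import Mathlib.RingTheory.MvPolynomial.Homogeneous
import Mathlib.FieldTheory.Finite.Basic

set_option autoImplicit false
universe u
open Zeta

namespace Groth.Agent.S13066

open MvPolynomial

/-- the constant exponent vector -/
noncomputable def cst (N c : ℕ) : Fin N →₀ ℕ := Finsupp.equivFunOnFinite.symm fun _ : Fin N => c

@[simp] theorem cst_apply (N c : ℕ) (i : Fin N) : cst N c i = c := rfl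

/-- if all entries are at least `c` and the sum is at most `N c`, the vector is constant -/
theorem eq_cst_of_le {N c : ℕ} (b : Fin N →₀ ℕ) (h1 : ∀ i, c ≤ b i) (h2 : ∑ i, b i ≤ N * c) :
    b = cst N c := by
  have hsum : ∑ i : Fin N, (b i - c) = 0 := by
    have h3 : ∑ i : Fin N, b i = ∑ i : Fin N, ((b i - c) + c) :=
      Finset.sum_congr rfl fun i _ => (Nat.sub_add_cancel (h1 i)).symm
    rw [Finset.sum_add_distrib, Finset.sum_const, Finset.card_univ, Fintype.card_fin,
      smul_eq_mul] at h3
    omega
  ext i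
  have := (Finset.sum_eq_zero_iff.mp hsum) i (Finset.mem_univ _)
  have h4 := h1 i
  rw [cst_apply]
  omega

/-- one step: the coefficient for `pQ` from the coefficients for `Q` and `p`. -/
theorem coeff_step {k : Type u} [Field k] (p : ℕ) [hp : Fact p.Prime] [CharP k p] (N : ℕ)
    (f : MvPolynomial (Fin N) k) (hf : f.IsHomogeneous N) (Q : ℕ) (hQ : 0 < Q) :
    coeff (cst N (p * Q - 1)) (f ^ (p * Q - 1)) =
      coeff (cst N (Q - 1)) (f ^ (Q - 1)) ^ p * coeff (cst N (p - 1)) (f ^ (p - 1)) := by
  classical
  have hp1 : 1 ≤ p := hp.out.one_le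
  have hpow : f ^ (p * Q - 1) = (f ^ (Q - 1)) ^ p * f ^ (p - 1) := by
    rw [← pow_mul, ← pow_add]
    congr 1
    have : p * Q = p * (Q - 1) + p := by
      conv_lhs => rw [← Nat.sub_add_cancel hQ]
      ring
    rw [mul_comm (Q - 1) p]
    omega
  have hG : (f ^ (Q - 1)) ^ p = map (frobenius k p) (expand p (f ^ (Q - 1))) :=
    (map_frobenius_expand p).symm
  have hh : (f ^ (p - 1)).IsHomogeneous (N * (p - 1)) := hf.pow _
  rw [hpow, coeff_mul]
  rw [Finset.sum_eq_single (p • cst N (Q - 1), cst N (p - 1))]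
  · congr 1
    rw [hG, coeff_map, coeff_expand_smul p hp.out.ne_zero, frobenius_def]
  · rintro ⟨a, b⟩ hab hne
    rw [Finset.mem_antidiagonal] at hab
    simp only at hab
    by_contra hterm
    have ha : coeff a ((f ^ (Q - 1)) ^ p) ≠ 0 := left_ne_zero_of_mul hterm
    have hb : coeff b (f ^ (p - 1)) ≠ 0 := right_ne_zero_of_mul hterm
    -- `p` divides all entries of `a`
    have hdvd : ∀ i, p ∣ a i := by
      intro i
      by_contra hnd
      apply ha
      rw [hG, coeff_map, coeff_expand_of_not_dvd _ hnd, map_zero]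
    -- the degree of `b`
    have hbdeg : ∑ i, b i = N * (p - 1) := by
      by_contra hd
      apply hb
      apply hh.coeff_eq_zero
      rwa [Finsupp.degree_eq_sum]
    have hbi : ∀ i, p - 1 ≤ b i := by
      intro i
      have h1 : a i + b i = p * Q - 1 := by
        have := DFunLike.congr_fun hab i
        simpa using this
      obtain ⟨c, hc⟩ := hdvd i
      have h2 : p * Q = a i + b i + 1 := by
        have : 1 ≤ p * Q := Nat.mul_pos (by omega) hQ
        omega
      rw [hc] at h2
      -- b i + 1 = p * (Q - c)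
      have h3 : p ∣ b i + 1 := by
        have : b i + 1 = p * Q - p * c := by omega
        rw [this, ← Nat.mul_sub]
        exact dvd_mul_right _ _
      exact Nat.sub_le_of_le_add (Nat.le_of_dvd (Nat.succ_pos _) h3)
    have hbeq : b = cst N (p - 1) := eq_cst_of_le b hbi hbdeg.le
    apply hne
    have haeq : a = p • cst N (Q - 1) := by
      ext i
      have h1 : a i + b i = p * Q - 1 := by
        have := DFunLike.congr_fun hab i
        simpa using this
      rw [hbeq, cst_apply] at h1
      simp only [Finsupp.coe_smul, Pi.smul_apply, cst_apply, smul_eq_mul]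
      have : p * Q = p * (Q - 1) + p := by
        conv_lhs => rw [← Nat.sub_add_cancel hQ]
        ring
      omega
    rw [haeq, hbeq]
  · intro hnot
    exfalso
    apply hnot
    rw [Finset.mem_antidiagonal]
    ext i
    simp only [Finsupp.coe_add, Finsupp.coe_smul, Pi.add_apply, Pi.smul_apply, cst_apply,
      smul_eq_mul]
    have : p * Q = p * (Q - 1) + p := by
      conv_lhs => rw [← Nat.sub_add_cancel hQ]
      ring
    omega

theorem coeff_pow_ne_zero_iff {k : Type u} [Field k] (p : ℕ) [hp : Fact p.Prime] [CharP k p]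
    (N : ℕ) (f : MvPolynomial (Fin N) k) (hf : f.IsHomogeneous N) (e : ℕ) (he : 0 < e) :
    coeff (cst N (p ^ e - 1)) (f ^ (p ^ e - 1)) ≠ 0 ↔
      coeff (cst N (p - 1)) (f ^ (p - 1)) ≠ 0 := by
  induction e with
  | zero => exact absurd he (lt_irrefl 0)
  | succ e ih =>
    rw [pow_succ', coeff_step p N f hf (p ^ e) (pow_pos hp.out.pos e)]
    rcases Nat.eq_zero_or_pos e with h0 | hpos
    · subst h0
      simp only [pow_zero, Nat.sub_self]
      have : coeff (cst N 0) (1 : MvPolynomial (Fin N) k) = 1 := by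
        have h0 : cst N 0 = 0 := by ext i; simp
        rw [h0, coeff_zero_one]
      rw [this, one_pow, one_mul]
    · rw [mul_ne_zero_iff, pow_ne_zero_iff hp.out.ne_zero, ih hpos]
      tauto

/-- Let k be a finite field with q elements and characteristic p, n ≥ 2, and f ∈ k[x_0, …, x_n]
homogeneous of degree n + 1. Then the coefficient of (x_0 ⋯ x_n)^{q−1} in f^{q−1} is nonzero if and
only if the coefficient of (x_0 ⋯ x_n)^{p−1} in f^{p−1} is nonzero. -/
theorem result {k : Type u} [Field k] [Finite k]
    (p : ℕ) [CharP k p] (n : ℕ) (hn : 2 ≤ n) (f : MvPolynomial (Fin (n + 1)) k)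
    (hf : f.IsHomogeneous (n + 1)) :
    MvPolynomial.coeff (Finsupp.equivFunOnFinite.symm fun _ : Fin (n + 1) => Nat.card k - 1)
        (f ^ (Nat.card k - 1)) ≠ 0 ↔
      MvPolynomial.coeff (Finsupp.equivFunOnFinite.symm fun _ : Fin (n + 1) => p - 1)
        (f ^ (p - 1)) ≠ 0 := by
  have := Fintype.ofFinite k
  obtain ⟨e, hpp, hcard⟩ := FiniteField.card k p
  have : Fact p.Prime := ⟨hpp⟩
  rw [Nat.card_eq_fintype_card, hcard]
  exact coeff_pow_ne_zero_iff p (n + 1) f hf e e.pos

end Groth.Agent.S13066
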