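import Groth.Statements.S13070
import Groth.Agent.Lib.Helper67.ArithCount

set_option autoImplicit false
universe u
open CategoryTheory AlgebraicGeometry
open Zeta

namespace Groth.Agent.S13070

/-- For an arithmetic scheme X (of finite type over ℤ) of dimension r there are c_X > 0 and p₀ such that
#X(F_{p^m}) ≤ c_X p^{m(r−1)} for all primes p ≥ p₀ and m ≥ 1, and #X(F_{p^m}) ≤ c_X p^{mr} for p <
p₀ and m ≥ 1. Here #X(F) is the number of morphisms Spec F → X, and the dimension is only assumed ≤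
r. -/
theorem result {X : Scheme.{u}}
    (f : X ⟶ Spec (CommRingCat.of (ULift.{u} ℤ))) [LocallyOfFiniteType f] [QuasiCompact f] (r : ℕ)
    (hr : topologicalKrullDim X ≤ r) :
    ∃ (c : ℝ) (p₀ : ℕ), 0 < c ∧ ∀ (p m : ℕ), p.Prime → 1 ≤ m →
      ∀ (F : Type u) [Field F], Nat.card F = p ^ m →
        (p₀ ≤ p → (Nat.card (Spec (CommRingCat.of F) ⟶ X) : ℝ) ≤
            c * (p : ℝ) ^ ((m : ℝ) * ((r : ℝ) - 1))) ∧
        (p < p₀ → (Nat.card (Spec (CommRingCat.of F) ⟶ X) : ℝ) ≤ c * (p : ℝ) ^ ((m : ℝ) * r)) := by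
  classical
  haveI : CompactSpace X := QuasiCompact.compactSpace_of_compactSpace f
  let 𝒰 := X.affineCover.finiteSubcover
  -- rings and open immersions
  let Rg : 𝒰.I₀ → CommRingCat.{u} := fun i => Γ(𝒰.X i, ⊤)
  let j : ∀ i, Spec (Rg i) ⟶ X := fun i => (𝒰.X i).isoSpec.inv ≫ 𝒰.f i
  have hjrange : ∀ i, Set.range (j i).base = Set.range (𝒰.f i).base := by
    intro i
    simp only [j, Scheme.Hom.comp_base, TopCat.coe_comp]
    rw [Set.range_comp]
    have : Set.range ((𝒰.X i).isoSpec.inv.base) = Set.univ :=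
      Set.range_eq_univ.mpr (𝒰.X i).isoSpec.inv.surjective
    rw [this, Set.image_univ]
  have hcov : ∀ x : X, ∃ i, x ∈ Set.range (j i).base := by
    intro x
    obtain ⟨i, hi⟩ := 𝒰.exists_eq x
    exact ⟨i, by rw [hjrange]; exact hi⟩
  let φ : ∀ i, CommRingCat.of (ULift.{u} ℤ) ⟶ Rg i := fun i => Spec.preimage (j i ≫ f)
  have hft : ∀ i, Algebra.FiniteType ℤ (Rg i) := by
    intro i
    have h1 : LocallyOfFiniteType (Spec.map (φ i)) := by
      simp only [φ, Spec.map_preimage]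
      infer_instance
    have h2 : (φ i).hom.FiniteType :=
      (HasRingHomProperty.Spec_iff (P := @LocallyOfFiniteType)).mp h1
    have h3 : ((φ i).hom.comp
        ((ULift.ringEquiv.symm : ℤ ≃+* ULift.{u} ℤ) : ℤ →+* ULift.{u} ℤ)).FiniteType :=
      h2.comp (RingHom.FiniteType.of_surjective _ (RingEquiv.surjective _))
    have h4 : (φ i).hom.comp
        ((ULift.ringEquiv.symm : ℤ ≃+* ULift.{u} ℤ) : ℤ →+* ULift.{u} ℤ) =
        algebraMap ℤ (Rg i) := Subsingleton.elim _ _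
    rw [h4] at h3
    exact RingHom.finiteType_algebraMap.mp h3
  have hdim : ∀ i, ringKrullDim (Rg i) ≤ r := by
    intro i
    rw [← PrimeSpectrum.topologicalKrullDim_eq_ringKrullDim]
    exact ((j i).isOpenEmbedding.isInducing.topologicalKrullDim_le).trans hr
  -- the constants
  have hZ2 : ∀ i, ∃ (N C : ℕ), N ≠ 0 ∧ ∀ (F : Type u) [Field F] [Finite F], (N : F) ≠ 0 →
      Nat.card (Rg i →+* F) * Nat.card F ≤ C * Nat.card F ^ r := by
    intro i
    haveI := hft i
    exact Groth.Agent.Lib.Helper67.exists_card_ringHom_mul_le.{u, u} (B := Rg i) r (hdim i)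
  choose N₂ C₂ hN₂ hC₂ using hZ2
  have hZ1 : ∀ i (p : ℕ), ∃ C : ℕ, p.Prime → ∀ (F : Type u) [Field F] [Finite F], CharP F p →
      Nat.card (Rg i →+* F) ≤ C * Nat.card F ^ r := by
    intro i p
    haveI := hft i
    by_cases hp : p.Prime
    · obtain ⟨C, hC⟩ := Groth.Agent.Lib.Helper67.exists_card_ringHom_le_of_charP.{u, u}
        (B := Rg i) r (hdim i) p hp
      exact ⟨C, fun _ => hC⟩
    · exact ⟨0, fun h => absurd h hp⟩
  choose C₁ hC₁ using hZ1
  let p₀ : ℕ := (∑ i, N₂ i) + 1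
  let c : ℕ := (∑ i, (C₂ i + ∑ p ∈ Finset.range p₀, C₁ i p)) + 1
  refine ⟨(c : ℝ), p₀, by positivity, ?_⟩
  intro p m hp hm F _ hcard
  haveI : Finite F := Nat.finite_of_card_ne_zero (by rw [hcard]; exact pow_ne_zero _ hp.ne_zero)
  have hchar : CharP F p := by
    obtain ⟨p', hp'⟩ := CharP.exists F
    haveI := hp'
    haveI := Fintype.ofFinite F
    obtain ⟨n, hp'prime, hn⟩ := FiniteField.card F p'
    rw [← Nat.card_eq_fintype_card, hcard] at hn
    have h1 : p ∣ p' ^ (n : ℕ) := by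
      rw [← hn]
      exact dvd_pow_self p (by omega)
    have h2 : p ∣ p' := hp.dvd_of_dvd_pow h1
    have h3 : p = p' := (Nat.prime_dvd_prime_iff_eq hp hp'prime).mp h2
    rw [h3]
    exact hp'
  haveI := hchar
  -- the comparison map
  let G := Spec (CommRingCat.of F) ⟶ X
  let Tgt := Σ i : 𝒰.I₀, (Rg i →+* F)
  have hfinT : ∀ i, Finite (Rg i →+* F) := fun i => by
    haveI := hft i
    exact Groth.Agent.Lib.Helper67.finite_ringHom_of_finiteType (Rg i) F
  let pt : Spec (CommRingCat.of F) := default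
  have hsub : ∀ (g : G), ∃ i, Set.range g.base ⊆ Set.range (j i).base := by
    intro g
    obtain ⟨i, hi⟩ := hcov (g.base pt)
    refine ⟨i, ?_⟩
    rintro _ ⟨y, rfl⟩
    rw [Subsingleton.elim y pt]
    exact hi
  choose ig hig using hsub
  let lft : ∀ g : G, Spec (CommRingCat.of F) ⟶ Spec (Rg (ig g)) :=
    fun g => IsOpenImmersion.lift (j (ig g)) g (hig g)
  have hlft : ∀ g : G, lft g ≫ j (ig g) = g := fun g => IsOpenImmersion.lift_fac _ _ _
  let ψ : ∀ g : G, Rg (ig g) ⟶ CommRingCat.of F := fun g => Spec.preimage (lft g)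
  let Θ : G → Tgt := fun g => ⟨ig g, (ψ g).hom⟩
  let Λ : Tgt → G := fun t => Spec.map (CommRingCat.ofHom t.2) ≫ j t.1
  have hΛΘ : ∀ g : G, Λ (Θ g) = g := by
    intro g
    have h1 : Spec.map (ψ g) = lft g := Spec.map_preimage _
    show Spec.map (CommRingCat.ofHom ((ψ g).hom)) ≫ j (ig g) = g
    rw [CommRingCat.ofHom_hom, h1, hlft g]
  have hΘinj : Function.Injective Θ := by
    intro g1 g2 h
    rw [← hΛΘ g1, ← hΛΘ g2, h]
  haveI : Finite Tgt := inferInstance
  have h1 : Nat.card G ≤ Nat.card Tgt := Nat.card_le_card_of_injective Θ hΘinj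
  have h2 : Nat.card Tgt = ∑ i, Nat.card (Rg i →+* F) := by
    haveI := fun i => Fintype.ofFinite (Rg i →+* F)
    rw [Nat.card_eq_fintype_card, Fintype.card_sigma]
    simp only [Nat.card_eq_fintype_card]
  have hmain : Nat.card (Spec (CommRingCat.of F) ⟶ X) ≤ ∑ i, Nat.card (Rg i →+* F) :=
    h1.trans h2.le
  have hq : Nat.card F = p ^ m := hcard
  have hqpos : 0 < Nat.card F := Nat.card_pos
  have hpR : (0 : ℝ) ≤ (p : ℝ) := Nat.cast_nonneg _
  have hqR : ((Nat.card F : ℕ) : ℝ) = (p : ℝ) ^ m := by rw [hq]; push_cast; rfl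
  constructor
  · intro hp₀
    -- large characteristic
    have hNi : ∀ i, ((N₂ i : ℕ) : F) ≠ 0 := by
      intro i h
      rw [CharP.cast_eq_zero_iff F p] at h
      have hlt : N₂ i < p := by
        have : N₂ i ≤ ∑ i, N₂ i := Finset.single_le_sum (fun _ _ => Nat.zero_le _) (Finset.mem_univ i)
        omega
      exact Nat.not_dvd_of_pos_of_lt (Nat.pos_of_ne_zero (hN₂ i)) hlt h
    have hnat : Nat.card (Spec (CommRingCat.of F) ⟶ X) * Nat.card F ≤ c * Nat.card F ^ r := by
      calc Nat.card (Spec (CommRingCat.of F) ⟶ X) * Nat.card F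
          ≤ (∑ i, Nat.card (Rg i →+* F)) * Nat.card F := Nat.mul_le_mul_right _ hmain
        _ = ∑ i, Nat.card (Rg i →+* F) * Nat.card F := Finset.sum_mul _ _ _
        _ ≤ ∑ i, C₂ i * Nat.card F ^ r := Finset.sum_le_sum fun i _ => hC₂ i F (hNi i)
        _ = (∑ i, C₂ i) * Nat.card F ^ r := (Finset.sum_mul _ _ _).symm
        _ ≤ c * Nat.card F ^ r := by
            apply Nat.mul_le_mul_right
            show ∑ i, C₂ i ≤ (∑ i, (C₂ i + ∑ p ∈ Finset.range p₀, C₁ i p)) + 1
            have : ∑ i, C₂ i ≤ ∑ i, (C₂ i + ∑ p ∈ Finset.range p₀, C₁ i p) :=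
              Finset.sum_le_sum fun i _ => Nat.le_add_right _ _
            omega
    have hreal : (Nat.card (Spec (CommRingCat.of F) ⟶ X) : ℝ) * (Nat.card F : ℝ) ≤
        (c : ℝ) * (Nat.card F : ℝ) ^ r := by exact_mod_cast hnat
    have hqR0 : ((Nat.card F : ℕ) : ℝ) ≠ 0 := by
      have : (0 : ℝ) < (Nat.card F : ℝ) := by exact_mod_cast hqpos
      exact this.ne'
    have hpow : (p : ℝ) ^ ((m : ℝ) * ((r : ℝ) - 1)) = (Nat.card F : ℝ) ^ r / (Nat.card F : ℝ) := by
      rw [Real.rpow_mul hpR, Real.rpow_natCast, ← hqR, Real.rpow_sub_one hqR0, Real.rpow_natCast]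
    rw [hpow, ← mul_div_assoc, le_div_iff₀ (by exact_mod_cast hqpos)]
    exact hreal
  · intro hp₀
    have hnat : Nat.card (Spec (CommRingCat.of F) ⟶ X) ≤ c * Nat.card F ^ r := by
      calc Nat.card (Spec (CommRingCat.of F) ⟶ X)
          ≤ ∑ i, Nat.card (Rg i →+* F) := hmain
        _ ≤ ∑ i, C₁ i p * Nat.card F ^ r := Finset.sum_le_sum fun i _ => hC₁ i p hp F hchar
        _ = (∑ i, C₁ i p) * Nat.card F ^ r := (Finset.sum_mul _ _ _).symm
        _ ≤ c * Nat.card F ^ r := by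
            apply Nat.mul_le_mul_right
            show ∑ i, C₁ i p ≤ (∑ i, (C₂ i + ∑ p ∈ Finset.range p₀, C₁ i p)) + 1
            have : ∑ i, C₁ i p ≤ ∑ i, (C₂ i + ∑ p ∈ Finset.range p₀, C₁ i p) := by
              apply Finset.sum_le_sum
              intro i _
              have : C₁ i p ≤ ∑ p ∈ Finset.range p₀, C₁ i p :=
                Finset.single_le_sum (f := fun p => C₁ i p) (fun _ _ => Nat.zero_le _)
                  (Finset.mem_range.mpr hp₀)
              omega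
            omega
    have hreal : (Nat.card (Spec (CommRingCat.of F) ⟶ X) : ℝ) ≤
        (c : ℝ) * (Nat.card F : ℝ) ^ r := by exact_mod_cast hnat
    have hpow : (p : ℝ) ^ ((m : ℝ) * (r : ℝ)) = (Nat.card F : ℝ) ^ r := by
      rw [Real.rpow_mul hpR, Real.rpow_natCast, Real.rpow_natCast, ← hqR]
    rw [hpow]
    exact hreal

end Groth.Agent.S13070
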