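-- Statement S13075
import Groth.Statements.S13075
import Mathlib.Tactic
import Mathlib.RingTheory.PowerSeries.Log

set_option autoImplicit false
open Zeta

namespace Groth.Agent.S13075

open PowerSeries

/-- the geometric series `1 - X + X^2 - ...` -/
noncomputable def geo : PowerSeries ℚ := PowerSeries.mk fun n => (-1 : ℚ) ^ n

theorem geo_mul : geo * (1 + X) = 1 := by
  ext n
  rw [mul_add, mul_one, map_add]
  cases n with
  | zero => simp [geo]
  | succ n =>
    rw [coeff_succ_mul_X]
    simp [geo, pow_succ]

theorem deriv_log_eq : d⁄dX ℚ (log ℚ) = geo := by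
  rw [deriv_log]
  ext n
  simp [geo]

theorem subst_one' {a : PowerSeries ℚ} (ha : HasSubst a) : subst a (1 : PowerSeries ℚ) = 1 := by
  rw [← coe_substAlgHom ha, map_one]

theorem deriv_geo : d⁄dX ℚ geo = -geo ^ 2 := by
  have h := congrArg (d⁄dX ℚ) geo_mul
  rw [Derivation.leibniz, map_add, derivative_X, derivative_one] at h
  simp only [zero_add, smul_eq_mul, mul_one] at h
  -- h : geo + (1 + X) * d geo = 0
  have h2 : d⁄dX ℚ geo = d⁄dX ℚ geo * (geo * (1 + X)) := by rw [geo_mul, mul_one]
  rw [h2]
  linear_combination geo * h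

/-- For the formal power series exp(t) = ∑_{m ≥ 0} t^m / m! and log(1 + t) = ∑_{m ≥ 1} (−1)^{m+1} t^m /
m over ℚ, log(exp(u)) = u and exp(log(1 + u)) = 1 + u for every u ∈ tℚ⟦t⟧; stated for u = t (the
general case is obtained by substitution): substituting exp(t) − 1 into log(1 + ·) gives t, and
substituting log(1 + t) into exp gives 1 + t. -/
theorem result :
    PowerSeries.subst (PowerSeries.exp ℚ - 1)
        (PowerSeries.mk fun m : ℕ => if m = 0 then (0 : ℚ) else (-1) ^ (m + 1) / (m : ℚ)) =
      PowerSeries.X ∧
    PowerSeries.subst (PowerSeries.mk fun m : ℕ => if m = 0 then (0 : ℚ) else (-1) ^ (m + 1) / (m : ℚ))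
        (PowerSeries.exp ℚ) = 1 + PowerSeries.X := by
  have hL : (PowerSeries.mk fun m : ℕ => if m = 0 then (0 : ℚ) else (-1) ^ (m + 1) / (m : ℚ)) =
      log ℚ := by
    ext n
    simp [coeff_log]
  rw [hL]
  have hsE : HasSubst (exp ℚ - 1) := HasSubst.exp_sub_one
  have hsL : HasSubst (log ℚ) := HasSubst.log
  constructor
  · apply derivative.ext
    · rw [derivative_subst hsE, deriv_log_eq, derivative_X, map_sub, derivative_exp,
        derivative_one, sub_zero]
      have h := congrArg (subst (exp ℚ - 1)) geo_mul
      rw [subst_mul hsE, subst_add hsE, subst_X hsE, subst_one' hsE] at h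
      have h' : 1 + (exp ℚ - 1) = exp ℚ := by ring
      rw [h'] at h
      exact h
    · have h1 : constantCoeff (logOf (exp ℚ)) = 0 := constantCoeff_logOf (constantCoeff_exp)
      rw [logOf_eq] at h1
      rw [h1, constantCoeff_X]
  · set H := subst (log ℚ) (exp ℚ) with hH
    have hH' : d⁄dX ℚ H = H * geo := by
      rw [hH, derivative_subst hsL, derivative_exp, deriv_log_eq]
    have hcH : constantCoeff H = 1 := by
      have h1 : exp ℚ = 1 + (exp ℚ - 1) := by ring
      rw [hH, h1, subst_add hsL, subst_one' hsL, map_add, map_one]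
      have h0 : MvPowerSeries.constantCoeff (log ℚ : PowerSeries ℚ) = 0 := constantCoeff_log
      have h2 := constantCoeff_subst_eq_zero h0 (exp ℚ - 1)
        (by rw [map_sub, constantCoeff_exp, map_one, sub_self])
      change constantCoeff (subst (log ℚ) (exp ℚ - 1)) = 0 at h2
      rw [h2, add_zero]
    have hHG : H * geo = 1 := by
      apply derivative.ext
      · rw [Derivation.leibniz, hH', deriv_geo, derivative_one]
        simp only [smul_eq_mul]
        ring
      · rw [map_mul, hcH, map_one, one_mul]
        simp [geo, ← coeff_zero_eq_constantCoeff_apply]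
    calc H = (H * geo) * (1 + X) := by rw [mul_assoc, geo_mul, mul_one]
      _ = 1 + X := by rw [hHG, one_mul]

end Groth.Agent.S13075
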