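import Groth.Statements.S13079
import Groth.Agent.Lib.Helper69.QuotFlat
import Groth.Agent.Lib.Helper69.QuotComp

set_option autoImplicit false
universe u
open CategoryTheory AlgebraicGeometry Limits
open Zeta

namespace Groth.Agent.S13079
open Groth.Agent.Lib.Helper69

theorem flat_over_field {k : Type u} [Field k] {X : Scheme.{u}} (f : X ⟶ Spec (CommRingCat.of k)) :
    Flat f := by
  haveI : Subsingleton (Spec (CommRingCat.of k)) :=
    inferInstanceAs (Subsingleton (PrimeSpectrum k))
  infer_instance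

/-- the action `id × σ` on `XG ×ₖ Y` -/
noncomputable def τ₀ {S XG Y : Scheme.{u}} {H : Type u} [Group H] (gX : XG ⟶ S) (fY : Y ⟶ S)
    (σ : H →* Aut Y) (hσ : ∀ h, (σ h).hom ≫ fY = fY) : H →* End (pullback gX fY) where
  toFun h := pullback.map gX fY gX fY (𝟙 _) (σ h).hom (𝟙 _) (by simp) (by simp [hσ h])
  map_one' := by
    have h1 : (σ 1).hom = 𝟙 Y := by rw [map_one]; rfl
    apply pullback.hom_ext
    · simp only [End.one_def, pullback.lift_fst, Category.comp_id, Category.id_comp]
    · simp only [End.one_def, pullback.lift_snd, Category.id_comp]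
      rw [h1, Category.comp_id]
  map_mul' h₁ h₂ := by
    have h12 : (σ (h₁ * h₂)).hom = (σ h₂).hom ≫ (σ h₁).hom := by rw [map_mul]; rfl
    apply pullback.hom_ext
    · simp only [End.mul_def, pullback.lift_fst, Category.comp_id, Category.assoc]
    · simp only [End.mul_def, pullback.lift_snd, Category.assoc]
      rw [pullback.lift_snd_assoc, h12, Category.assoc]

noncomputable def τ {S XG Y : Scheme.{u}} {H : Type u} [Group H] (gX : XG ⟶ S) (fY : Y ⟶ S)
    (σ : H →* Aut Y) (hσ : ∀ h, (σ h).hom ≫ fY = fY) : H →* Aut (pullback gX fY) :=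
  (Aut.unitsEndEquivAut _).toMonoidHom.comp (τ₀ gX fY σ hσ).toHomUnits

theorem τ_hom {S XG Y : Scheme.{u}} {H : Type u} [Group H] (gX : XG ⟶ S) (fY : Y ⟶ S)
    (σ : H →* Aut Y) (hσ : ∀ h, (σ h).hom ≫ fY = fY) (h : H) :
    (τ gX fY σ hσ h).hom =
      pullback.map gX fY gX fY (𝟙 _) (σ h).hom (𝟙 _) (by simp) (by simp [hσ h]) := rfl

theorem τ_fst {S XG Y : Scheme.{u}} {H : Type u} [Group H] (gX : XG ⟶ S) (fY : Y ⟶ S)
    (σ : H →* Aut Y) (hσ : ∀ h, (σ h).hom ≫ fY = fY) (h : H) :
    (τ gX fY σ hσ h).hom ≫ pullback.fst gX fY = pullback.fst gX fY := by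
  rw [τ_hom]
  exact (pullback.lift_fst _ _ _).trans (Category.comp_id _)

theorem τ_snd {S XG Y : Scheme.{u}} {H : Type u} [Group H] (gX : XG ⟶ S) (fY : Y ⟶ S)
    (σ : H →* Aut Y) (hσ : ∀ h, (σ h).hom ≫ fY = fY) (h : H) :
    (τ gX fY σ hσ h).hom ≫ pullback.snd gX fY = pullback.snd gX fY ≫ (σ h).hom := by
  rw [τ_hom]
  exact pullback.lift_snd _ _ _

/-- Suppose the finite groups G and H act by algebraic k-automorphisms on schemes X and Y of finite type
over k, both admitting quotients X → X/G and Y → Y/H (equivalently, covered by invariant affine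
opens). Then X × Y has the same property for the product action of G × H and (X × Y)/(G × H) ≅ X/G ×
Y/H: the morphism X ×_k Y → X/G ×_k Y/H with components the two quotient maps is a quotient for the
product action. The product action θ and that morphism π are pinned by their composites with the
projections. -/
theorem result {k : Type u} [Field k] {G H : Type u} [Group G] [Finite G] [Group H]
    [Finite H] {X Y XG YH : Scheme.{u}} (fX : X ⟶ Spec (CommRingCat.of k))
    (fY : Y ⟶ Spec (CommRingCat.of k)) [LocallyOfFiniteType fX] [QuasiCompact fX]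
    [LocallyOfFiniteType fY] [QuasiCompact fY] (gX : XG ⟶ Spec (CommRingCat.of k))
    (gY : YH ⟶ Spec (CommRingCat.of k)) (ρ : G →* Aut X) (σ : H →* Aut Y)
    (hρ : ∀ g, (ρ g).hom ≫ fX = fX) (hσ : ∀ h, (σ h).hom ≫ fY = fY)
    (p : X ⟶ XG) (hp : p ≫ gX = fX) (q : Y ⟶ YH) (hq : q ≫ gY = fY)
    (hP : SGA1.IsQuot ρ p) (hQ : SGA1.IsQuot σ q)
    (θ : G × H →* Aut (pullback fX fY))
    (hθ1 : ∀ gh : G × H, (θ gh).hom ≫ pullback.fst fX fY = pullback.fst fX fY ≫ (ρ gh.1).hom)
    (hθ2 : ∀ gh : G × H, (θ gh).hom ≫ pullback.snd fX fY = pullback.snd fX fY ≫ (σ gh.2).hom)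
    (π : pullback fX fY ⟶ pullback gX gY) (hπ1 : π ≫ pullback.fst gX gY = pullback.fst fX fY ≫ p)
    (hπ2 : π ≫ pullback.snd gX gY = pullback.snd fX fY ≫ q) :
    SGA1.IsQuot θ π := by
  haveI : Flat fY := flat_over_field fY
  haveI : Flat gX := flat_over_field gX
  let π₁ : pullback fX fY ⟶ pullback gX fY :=
    pullback.map fX fY gX fY p (𝟙 Y) (𝟙 _) (by simp [hp]) (by simp)
  let π₂ : pullback gX fY ⟶ pullback gX gY :=
    pullback.map gX fY gX gY (𝟙 XG) q (𝟙 _) (by simp) (by simp [hq])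
  have hπ₁fst : π₁ ≫ pullback.fst gX fY = pullback.fst fX fY ≫ p := pullback.lift_fst _ _ _
  have hπ₁snd : π₁ ≫ pullback.snd gX fY = pullback.snd fX fY :=
    (pullback.lift_snd _ _ _).trans (Category.comp_id _)
  have hπ₂fst : π₂ ≫ pullback.fst gX gY = pullback.fst gX fY :=
    (pullback.lift_fst _ _ _).trans (Category.comp_id _)
  have hπ₂snd : π₂ ≫ pullback.snd gX gY = pullback.snd gX fY ≫ q := pullback.lift_snd _ _ _
  have hπ : π = π₁ ≫ π₂ := by
    apply pullback.hom_ext
    · rw [hπ1, Category.assoc, hπ₂fst, hπ₁fst]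
    · rw [hπ2, Category.assoc, hπ₂snd, ← Category.assoc, hπ₁snd]
  -- first square
  have sq1 : IsPullback (pullback.fst fX fY) π₁ p (pullback.fst gX fY) := by
    have t' : IsPullback (pullback.snd gX fY) (pullback.fst gX fY) fY gX :=
      (IsPullback.of_hasPullback gX fY).flip
    have t : IsPullback (π₁ ≫ pullback.snd gX fY) (pullback.fst fX fY) fY (p ≫ gX) := by
      rw [hπ₁snd, hp]
      exact (IsPullback.of_hasPullback fX fY).flip
    exact (IsPullback.of_right t hπ₁fst t').flip
  -- second square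
  have sq2 : IsPullback (pullback.snd gX fY) π₂ q (pullback.snd gX gY) := by
    have t' : IsPullback (pullback.fst gX gY) (pullback.snd gX gY) gX gY :=
      IsPullback.of_hasPullback gX gY
    have t : IsPullback (π₂ ≫ pullback.fst gX gY) (pullback.snd gX fY) gX (q ≫ gY) := by
      rw [hπ₂fst, hq]
      exact IsPullback.of_hasPullback gX fY
    exact (IsPullback.of_right t hπ₂snd t').flip
  -- first quotient
  have h1 : SGA1.IsQuot (θ.comp (MonoidHom.inl G H)) π₁ := by
    refine isQuot_of_isPullback_of_flat ρ p hP (pullback.fst gX fY) (pullback.fst fX fY) π₁ sq1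
      _ ?_ ?_
    · intro g
      exact hθ1 (g, 1)
    · intro g
      apply pullback.hom_ext
      · rw [Category.assoc, hπ₁fst, ← Category.assoc]
        change ((θ (g, 1)).hom ≫ _) ≫ _ = _
        rw [hθ1, Category.assoc, hP.inv]
      · rw [Category.assoc, hπ₁snd]
        change (θ (g, 1)).hom ≫ _ = _
        rw [hθ2]
        have h1 : (σ (1 : H)).hom = 𝟙 Y := by rw [map_one]; rfl
        change _ ≫ (σ (1 : H)).hom = _
        rw [h1, Category.comp_id]
  have h2 : SGA1.IsQuot (τ gX fY σ hσ) π₂ := by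
    refine isQuot_of_isPullback_of_flat σ q hQ (pullback.snd gX gY) (pullback.snd gX fY) π₂ sq2
      _ ?_ ?_
    · intro h
      exact τ_snd gX fY σ hσ h
    · intro h
      apply pullback.hom_ext
      · rw [Category.assoc, hπ₂fst, τ_fst]
      · rw [Category.assoc, hπ₂snd, ← Category.assoc, τ_snd, Category.assoc, hQ.inv]
  rw [hπ]
  refine isQuot_comp θ (MonoidHom.inl G H) (MonoidHom.snd G H) (fun h => ⟨(1, h), rfl⟩) π₁ π₂
    (τ gX fY σ hσ) h1 h2 ?_
  intro γ
  apply pullback.hom_ext
  · rw [Category.assoc, hπ₁fst, ← Category.assoc, hθ1, Category.assoc, hP.inv, Category.assoc]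
    change _ = _ ≫ (τ gX fY σ hσ γ.2).hom ≫ _
    rw [τ_fst, hπ₁fst]
  · rw [Category.assoc, hπ₁snd, hθ2, Category.assoc]
    change _ = _ ≫ (τ gX fY σ hσ γ.2).hom ≫ _
    rw [τ_snd, ← Category.assoc, hπ₁snd]

end Groth.Agent.S13079
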