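import Groth.Statements.S13080
import Groth.Agent.Lib.Helper69.QuotCoset

set_option autoImplicit false
universe u
open CategoryTheory AlgebraicGeometry Limits
open Zeta

namespace Groth.Agent.S13080
open Groth.Agent.Lib.Helper69 TopologicalSpace

/-- Let G be a finite group acting by algebraic automorphisms over k on a scheme X of finite type over k
admitting a quotient p : X → X/G, H ⊆ G a subgroup and Y ⊆ X an open subset preserved by H such that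
X is the disjoint union of the translates Y g over the cosets of G mod H. Then the natural morphism
Y/H → X/G is an isomorphism: Y → X/G is a quotient of Y by H. The action of H on Y is pinned by
compatibility with the inclusion Y → X; the coset condition is stated as: the translates of Y cover
X, and g(Y) is disjoint from Y for g ∉ H. -/
theorem result {k : Type u} [Field k] {G : Type u} [Group G]
    [Finite G] {X XG : Scheme.{u}} (fX : X ⟶ Spec (CommRingCat.of k)) [LocallyOfFiniteType fX]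
    [QuasiCompact fX] (ρ : G →* Aut X) (hρ : ∀ g, (ρ g).hom ≫ fX = fX) (p : X ⟶ XG)
    (hP : SGA1.IsQuot ρ p) (H : Subgroup G) (Y : X.Opens)
    (hcov : ∀ x : X, ∃ g : G, x ∈ (ρ g).hom.base '' (Y : Set X))
    (hdisj : ∀ g : G, g ∉ H → Disjoint ((ρ g).hom.base '' (Y : Set X)) (Y : Set X))
    (ρY : H →* Aut (Y : Scheme.{u})) (hρY : ∀ h : H, (ρY h).hom ≫ Y.ι = Y.ι ≫ (ρ (h : G)).hom) :
    SGA1.IsQuot ρY (Y.ι ≫ p) := by
  classical
  have hinv := hP.inv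
  -- (A) multiplication
  have hmul : ∀ g g' : G, (ρ (g * g')).hom = (ρ g').hom ≫ (ρ g).hom := fun g g' => by
    rw [map_mul]; rfl
  have hone : (ρ 1).hom = 𝟙 X := by rw [map_one]; rfl
  have hmul_pt : ∀ (g g' : G) (x : X), (ρ (g * g')).hom x = (ρ g).hom ((ρ g').hom x) := by
    intro g g' x
    rw [hmul, Scheme.Hom.comp_apply]
  have hone_pt : ∀ x : X, (ρ 1).hom x = x := fun x => by rw [hone]; rfl
  have hp_pt : ∀ (g : G) (x : X), p ((ρ g).hom x) = p x := fun g x => by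
    rw [← Scheme.Hom.comp_apply, hinv]
  -- (B)
  have hB : ∀ (h : H) (y : Y), (ρ (h : G)).hom (Y.ι y) = Y.ι ((ρY h).hom y) := by
    intro h y
    rw [← Scheme.Hom.comp_apply, ← Scheme.Hom.comp_apply, hρY]
  -- the translated inclusions
  let φ : G → ((Y : Scheme.{u}) ⟶ X) := fun g => Y.ι ≫ (ρ g).hom
  have hφ_pt : ∀ (g : G) (y : Y), φ g y = (ρ g).hom (Y.ι y) := fun g y => rfl
  have hφ_mul : ∀ (g : G) (h : H), φ (g * h) = (ρY h).hom ≫ φ g := by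
    intro g h
    change Y.ι ≫ (ρ (g * h)).hom = (ρY h).hom ≫ Y.ι ≫ (ρ g).hom
    rw [hmul, ← Category.assoc, ← hρY, Category.assoc]
  have hφ_act : ∀ g g' : G, φ g ≫ (ρ g').hom = φ (g' * g) := by
    intro g g'
    change (Y.ι ≫ (ρ g).hom) ≫ (ρ g').hom = Y.ι ≫ (ρ (g' * g)).hom
    rw [hmul, Category.assoc]
  have hφ_p : ∀ g : G, φ g ≫ p = Y.ι ≫ p := by
    intro g
    change (Y.ι ≫ (ρ g).hom) ≫ p = _
    rw [Category.assoc, hinv]
  -- (D) disjointness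
  have hD : ∀ g g' : G, g⁻¹ * g' ∉ H → Disjoint (Set.range (φ g)) (Set.range (φ g')) := by
    intro g g' hgg'
    rw [Set.disjoint_left]
    rintro x ⟨y, rfl⟩ ⟨y', hy'⟩
    have h1 : (ρ (g⁻¹ * g')).hom (Y.ι y') = Y.ι y := by
      rw [hmul_pt]
      have : (ρ g').hom (Y.ι y') = (ρ g).hom (Y.ι y) := hy'
      rw [this, ← hmul_pt, inv_mul_cancel, hone_pt]
    exact Set.disjoint_left.mp (hdisj _ hgg') ⟨Y.ι y', y'.2, h1⟩ y.2
  -- Y is closed
  have hYclosed : IsClosed (Y : Set X) := by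
    have hcompl : ((Y : Set X))ᶜ = ⋃ g : {g : G // g ∉ H}, Set.range (φ g.1) := by
      ext x
      simp only [Set.mem_compl_iff, SetLike.mem_coe, Set.mem_iUnion]
      constructor
      · intro hx
        obtain ⟨g, y, hy, rfl⟩ := hcov x
        by_cases hg : g ∈ H
        · exfalso
          apply hx
          have := hB ⟨g, hg⟩ ⟨y, hy⟩
          change (ρ g).hom y ∈ Y
          have h2 : (ρ g).hom y = Y.ι ((ρY ⟨g, hg⟩).hom ⟨y, hy⟩) := this
          rw [h2]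
          exact ((ρY ⟨g, hg⟩).hom ⟨y, hy⟩).2
        · exact ⟨⟨g, hg⟩, ⟨⟨y, hy⟩, rfl⟩⟩
      · rintro ⟨⟨g, hg⟩, y, rfl⟩ hx
        exact Set.disjoint_left.mp (hdisj g hg) ⟨Y.ι y, y.2, rfl⟩ hx
    rw [← isOpen_compl_iff, hcompl]
    exact isOpen_iUnion fun g => (φ g.1).isOpenEmbedding.isOpen_range
  haveI : IsClosedImmersion Y.ι := by
    apply IsClosedImmersion.of_isPreimmersion
    rw [Scheme.Opens.range_ι]
    exact hYclosed
  haveI := hP.affine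
  have hinvY : ∀ h : H, (ρY h).hom ≫ Y.ι ≫ p = Y.ι ≫ p := by
    intro h
    rw [← Category.assoc, hρY, Category.assoc, hinv]
  -- coset representatives
  let T : G ⧸ H → G := fun c => Quotient.out c
  have hT : ∀ g : G, ∃ h : H, g = T (QuotientGroup.mk g) * h := by
    intro g
    obtain ⟨h, hh⟩ := QuotientGroup.mk_out_eq_mul H g
    refine ⟨h⁻¹, ?_⟩
    change g = Quotient.out (QuotientGroup.mk g : G ⧸ H) * ((h⁻¹ : H) : G)
    rw [hh]
    simp
  have hTne : ∀ c c' : G ⧸ H, c ≠ c' → (T c)⁻¹ * T c' ∉ H := by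
    intro c c' hcc' hmem
    apply hcc'
    have := (QuotientGroup.eq (s := H) (a := T c) (b := T c')).mpr hmem
    rwa [QuotientGroup.out_eq', QuotientGroup.out_eq'] at this
  refine isQuot_of_basis ρY (Y.ι ≫ p) hinvY Set.univ
    (Opens.isBasis_iff_nbhd.mpr fun {U x} hx => ⟨U, trivial, hx, le_rfl⟩) ?_ ?_
  · -- injectivity
    rintro U - a a' haa'
    have hle : ∀ g : G, (Y.ι ≫ p) ⁻¹ᵁ U ≤ (φ g) ⁻¹ᵁ (p ⁻¹ᵁ U) := by
      intro g y hy
      change p ((ρ g).hom (Y.ι y)) ∈ U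
      rw [hp_pt]
      exact hy
    have hF1 : ∀ g : G, p.app U ≫ (φ g).appLE (p ⁻¹ᵁ U) ((Y.ι ≫ p) ⁻¹ᵁ U) (hle g) =
        (Y.ι ≫ p).app U := by
      intro g
      rw [← Scheme.Hom.appLE_eq_app, Scheme.Hom.appLE_comp_appLE, ← Scheme.Hom.appLE_eq_app]
      exact appLE_congr_hom (hφ_p g) _ _ _ _
    have hcovP : ∀ x ∈ p ⁻¹ᵁ U, ∃ c : G ⧸ H, ∃ y ∈ (Y.ι ≫ p) ⁻¹ᵁ U, φ (T c) y = x := by
      intro x hx
      obtain ⟨g, y, hy, rfl⟩ := hcov x
      obtain ⟨h, hh⟩ := hT g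
      refine ⟨QuotientGroup.mk g, (ρY h).hom ⟨y, hy⟩, ?_, ?_⟩
      · change p (Y.ι ((ρY h).hom ⟨y, hy⟩)) ∈ U
        rw [← hB, hp_pt]
        have : p ((ρ g).hom y) ∈ U := hx
        rw [hp_pt] at this
        exact this
      · rw [hφ_pt, ← hB, ← hmul_pt, ← hh]
        rfl
    obtain ⟨G1, -⟩ := glue_disjoint (fun c : G ⧸ H => φ (T c)) (p ⁻¹ᵁ U) ((Y.ι ≫ p) ⁻¹ᵁ U)
      (fun c => hle (T c)) (fun c c' hcc' => hD _ _ (hTne c c' hcc')) hcovP
    apply hP.injective U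
    apply G1
    intro c
    have e1 := congrArg (fun f => f.hom a) (hF1 (T c))
    have e2 := congrArg (fun f => f.hom a') (hF1 (T c))
    simp only [CommRingCat.hom_comp, RingHom.comp_apply] at e1 e2
    rw [e1, e2, haa']
  · -- range
    rintro U - s hs
    have hle : ∀ g : G, (Y.ι ≫ p) ⁻¹ᵁ U ≤ (φ g) ⁻¹ᵁ (p ⁻¹ᵁ U) := by
      intro g y hy
      change p ((ρ g).hom (Y.ι y)) ∈ U
      rw [hp_pt]
      exact hy
    have hF1 : ∀ g : G, p.app U ≫ (φ g).appLE (p ⁻¹ᵁ U) ((Y.ι ≫ p) ⁻¹ᵁ U) (hle g) =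
        (Y.ι ≫ p).app U := by
      intro g
      rw [← Scheme.Hom.appLE_eq_app, Scheme.Hom.appLE_comp_appLE, ← Scheme.Hom.appLE_eq_app]
      exact appLE_congr_hom (hφ_p g) _ _ _ _
    have hF2 : ∀ g g' : G, (ρ g').hom.appLE (p ⁻¹ᵁ U) (p ⁻¹ᵁ U)
        (SGA1.preimage_le_of_inv ρ p hinv g' U) ≫
          (φ g).appLE (p ⁻¹ᵁ U) ((Y.ι ≫ p) ⁻¹ᵁ U) (hle g) =
        (φ (g' * g)).appLE (p ⁻¹ᵁ U) ((Y.ι ≫ p) ⁻¹ᵁ U) (hle (g' * g)) := by
      intro g g'
      rw [Scheme.Hom.appLE_comp_appLE]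
      exact appLE_congr_hom (hφ_act g g') _ _ _ _
    have hF3 : ∀ (g : G) (h : H), (φ g).appLE (p ⁻¹ᵁ U) ((Y.ι ≫ p) ⁻¹ᵁ U) (hle g) ≫
        (ρY h).hom.appLE ((Y.ι ≫ p) ⁻¹ᵁ U) ((Y.ι ≫ p) ⁻¹ᵁ U)
          (SGA1.preimage_le_of_inv ρY (Y.ι ≫ p) hinvY h U) =
        (φ (g * h)).appLE (p ⁻¹ᵁ U) ((Y.ι ≫ p) ⁻¹ᵁ U) (hle (g * h)) := by
      intro g h
      rw [Scheme.Hom.appLE_comp_appLE]
      exact appLE_congr_hom (hφ_mul g h).symm _ _ _ _
    have hcovP : ∀ x ∈ p ⁻¹ᵁ U, ∃ c : G ⧸ H, ∃ y ∈ (Y.ι ≫ p) ⁻¹ᵁ U, φ (T c) y = x := by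
      intro x hx
      obtain ⟨g, y, hy, rfl⟩ := hcov x
      obtain ⟨h, hh⟩ := hT g
      refine ⟨QuotientGroup.mk g, (ρY h).hom ⟨y, hy⟩, ?_, ?_⟩
      · change p (Y.ι ((ρY h).hom ⟨y, hy⟩)) ∈ U
        rw [← hB, hp_pt]
        have : p ((ρ g).hom y) ∈ U := hx
        rw [hp_pt] at this
        exact this
      · rw [hφ_pt, ← hB, ← hmul_pt, ← hh]
        rfl
    obtain ⟨G1, G2⟩ := glue_disjoint (fun c : G ⧸ H => φ (T c)) (p ⁻¹ᵁ U) ((Y.ι ≫ p) ⁻¹ᵁ U)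
      (fun c => hle (T c)) (fun c c' hcc' => hD _ _ (hTne c c' hcc')) hcovP
    obtain ⟨b, hb⟩ := G2 (fun _ => s)
    -- r g b = s for all g
    have hbg : ∀ g : G, ((φ g).appLE (p ⁻¹ᵁ U) ((Y.ι ≫ p) ⁻¹ᵁ U) (hle g)).hom b = s := by
      intro g
      obtain ⟨h, hh⟩ := hT g
      have e := congrArg (fun f => f.hom b) (hF3 (T (QuotientGroup.mk g)) h)
      simp only [CommRingCat.hom_comp, RingHom.comp_apply] at e
      have e' : ((φ g).appLE (p ⁻¹ᵁ U) ((Y.ι ≫ p) ⁻¹ᵁ U) (hle g)).hom b =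
          ((φ (T (QuotientGroup.mk g) * h)).appLE (p ⁻¹ᵁ U) ((Y.ι ≫ p) ⁻¹ᵁ U)
            (hle (T (QuotientGroup.mk g) * h))).hom b := by
        congr 2
        exact appLE_congr_hom (congrArg φ hh) _ _ _ _
      rw [e', ← e, hb (QuotientGroup.mk g)]
      exact hs h
    -- b is invariant
    have hbinv : ∀ g' : G, ((ρ g').hom.appLE (p ⁻¹ᵁ U) (p ⁻¹ᵁ U)
        (SGA1.preimage_le_of_inv ρ p hinv g' U)).hom b = b := by
      intro g'
      apply G1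
      intro c
      have e := congrArg (fun f => f.hom b) (hF2 (T c) g')
      simp only [CommRingCat.hom_comp, RingHom.comp_apply] at e
      rw [e, hbg, hbg]
    obtain ⟨a, ha⟩ := (hP.range_iff U b).mpr hbinv
    refine ⟨a, ?_⟩
    have e1 := congrArg (fun f => f.hom a) (hF1 1)
    simp only [CommRingCat.hom_comp, RingHom.comp_apply] at e1
    rw [← e1, ha, hbg]

end Groth.Agent.S13080
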