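import Groth.Statements.S13081
import Groth.Agent.Lib.Helper69.Quot4
import Groth.Agent.Lib.Helper69.Descent

set_option autoImplicit false
universe u
open CategoryTheory AlgebraicGeometry Limits
open Zeta
open Groth.Agent.Lib.Helper69

namespace Groth.Agent.S13081

/-- Let G be a finite group acting by algebraic automorphisms over k on a scheme X of finite type over k
admitting a quotient X → X/G, and H a normal subgroup of G. Then X/H carries an induced action of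
G/H and its quotient by this action is X/G: the induced morphism r : X/H → X/G is a quotient of X/H
by G/H. The induced action ρ̄ is pinned by p_H ≫ ρ̄(ḡ) = ρ(g) ≫ p_H and r by p_H ≫ r = p. -/
theorem result {k : Type u} [Field k] {G : Type u} [Group G]
    [Finite G] {X XG XH : Scheme.{u}} (fX : X ⟶ Spec (CommRingCat.of k)) [LocallyOfFiniteType fX]
    [QuasiCompact fX] (ρ : G →* Aut X) (hρ : ∀ g, (ρ g).hom ≫ fX = fX) (p : X ⟶ XG)
    (hP : SGA1.IsQuot ρ p) (H : Subgroup G) [H.Normal] (pH : X ⟶ XH)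
    (hPH : SGA1.IsQuot (ρ.comp H.subtype) pH) (ρbar : G ⧸ H →* Aut XH)
    (hρbar : ∀ g : G, pH ≫ (ρbar (QuotientGroup.mk g)).hom = (ρ g).hom ≫ pH)
    (r : XH ⟶ XG) (hr : pH ≫ r = p) :
    SGA1.IsQuot ρbar r := by
  subst hr
  obtain ⟨hsH, -, -⟩ := Groth.Agent.S2908.result (ρ.comp H.subtype) pH hPH
  have hepi : ∀ {Z : Scheme.{u}} (v₁ v₂ : XH ⟶ Z), pH ≫ v₁ = pH ≫ v₂ → v₁ = v₂ := fun v₁ v₂ e =>
    hom_ext_of_surjective_of_injective pH hsH hPH.injective v₁ v₂ e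
  have hinv : ∀ gb : G ⧸ H, (ρbar gb).hom ≫ r = r := by
    intro gb
    obtain ⟨g, rfl⟩ := QuotientGroup.mk_surjective gb
    apply hepi
    rw [← Category.assoc, hρbar g, Category.assoc, hP.inv g]
  have haff : IsAffineHom r := by
    refine ⟨fun U hU => ?_⟩
    have := hP.affine
    have h1 : IsAffineOpen ((pH ≫ r) ⁻¹ᵁ U) := hU.preimage (pH ≫ r)
    exact isAffineOpen_of_isAffineOpen_preimage (ρ.comp H.subtype) pH hPH (r ⁻¹ᵁ U) h1
  refine ⟨haff, hinv, ?_, ?_⟩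
  · intro U
    have h1 : (pH ≫ r).app U = r.app U ≫ pH.app (r ⁻¹ᵁ U) := Scheme.Hom.comp_app pH r U
    have h2 := hP.injective U
    rw [h1] at h2
    exact Function.Injective.of_comp (f := (pH.app (r ⁻¹ᵁ U)).hom) h2
  · intro U s
    constructor
    · rintro ⟨a, rfl⟩ gb
      have key : ∀ (a' : XH ⟶ XG) (_ : a' = r) (e' : r ⁻¹ᵁ U ≤ a' ⁻¹ᵁ U),
          a'.appLE U (r ⁻¹ᵁ U) e' = r.app U := by
        rintro a' rfl _; exact Scheme.Hom.appLE_eq_app a'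
      have e2 := Scheme.Hom.appLE_comp_appLE (ρbar gb).hom r U (r ⁻¹ᵁ U) (r ⁻¹ᵁ U) le_rfl
        (SGA1.preimage_le_of_inv ρbar r hinv gb U)
      rw [key _ (hinv gb), Scheme.Hom.appLE_eq_app] at e2
      exact congrArg (fun f => f.hom a) e2
    · intro hs
      have hcomp : (pH ≫ r).app U = r.app U ≫ pH.app (r ⁻¹ᵁ U) := Scheme.Hom.comp_app pH r U
      let t : Γ(X, (pH ≫ r) ⁻¹ᵁ U) := (pH.app (r ⁻¹ᵁ U)).hom s
      have ht : t ∈ Set.range ((pH ≫ r).app U).hom := by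
        refine (hP.range_iff U t).mpr ?_
        intro g
        have key : ∀ (a' : X ⟶ XH) (_ : a' = pH ≫ (ρbar (QuotientGroup.mk g)).hom)
            (e' : (pH ≫ r) ⁻¹ᵁ U ≤ a' ⁻¹ᵁ (r ⁻¹ᵁ U))
            (e'' : (pH ≫ r) ⁻¹ᵁ U ≤ (pH ≫ (ρbar (QuotientGroup.mk g)).hom) ⁻¹ᵁ (r ⁻¹ᵁ U)),
            a'.appLE (r ⁻¹ᵁ U) ((pH ≫ r) ⁻¹ᵁ U) e' =
              (pH ≫ (ρbar (QuotientGroup.mk g)).hom).appLE (r ⁻¹ᵁ U) ((pH ≫ r) ⁻¹ᵁ U) e'' := by
          rintro _ rfl _ _; rfl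
        have e1 := Scheme.Hom.appLE_comp_appLE (ρ g).hom pH (r ⁻¹ᵁ U) ((pH ≫ r) ⁻¹ᵁ U)
          ((pH ≫ r) ⁻¹ᵁ U) le_rfl (SGA1.preimage_le_of_inv ρ (pH ≫ r) hP.inv g U)
        have e2 := Scheme.Hom.appLE_comp_appLE pH (ρbar (QuotientGroup.mk g)).hom (r ⁻¹ᵁ U)
          (r ⁻¹ᵁ U) ((pH ≫ r) ⁻¹ᵁ U)
          (SGA1.preimage_le_of_inv ρbar r hinv (QuotientGroup.mk g) U) le_rfl
        rw [key _ (hρbar g).symm _ (by rw [hρbar g]; exact
          (SGA1.preimage_le_of_inv ρ (pH ≫ r) hP.inv g U)), ← e2] at e1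
        have hpH : pH.appLE (r ⁻¹ᵁ U) ((pH ≫ r) ⁻¹ᵁ U) le_rfl = pH.app (r ⁻¹ᵁ U) :=
          Scheme.Hom.appLE_eq_app pH
        have hpH' : (pH.appLE (r ⁻¹ᵁ U) ((pH ≫ r) ⁻¹ᵁ U) le_rfl).hom s = t :=
          congrArg (fun f => f.hom s) hpH
        have e3 := congrArg (fun f => f.hom s) e1
        simp only [CommRingCat.hom_comp, RingHom.coe_comp, Function.comp_apply] at e3
        rw [hs (QuotientGroup.mk g), hpH'] at e3
        exact e3
      obtain ⟨a, ha⟩ := ht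
      refine ⟨a, hPH.injective (r ⁻¹ᵁ U) ?_⟩
      exact (congrArg (fun f => f.hom a) hcomp).symm.trans ha

end Groth.Agent.S13081
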