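import Groth.Statements.S13082
import Groth.Agent.Lib.Helper69.Quot3

set_option autoImplicit false
universe u
open CategoryTheory AlgebraicGeometry Limits
open Zeta
open Groth.Agent.Lib.Helper69

namespace Groth.Agent.S13082

/-- Let X be a scheme of finite type over k with an action of a finite group G by algebraic
automorphisms over k admitting a quotient π : X → X/G, and W a locally closed subscheme of X on
which G induces an action. Then the canonical morphism W/G → π(W) is radicial and surjective: the
induced morphism φ : W/G → X/G is universally injective with set-theoretic image π(W). The action on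
W is pinned along the immersion j : W → X, φ by p_W ≫ φ = j ≫ π for a quotient p_W : W → W/G. -/
theorem result {k : Type u} [Field k] {G : Type u}
    [Group G] [Finite G] {X XG W WG : Scheme.{u}} (fX : X ⟶ Spec (CommRingCat.of k))
    [LocallyOfFiniteType fX] [QuasiCompact fX] (ρ : G →* Aut X) (hρ : ∀ g, (ρ g).hom ≫ fX = fX)
    (p : X ⟶ XG) (hP : SGA1.IsQuot ρ p) (j : W ⟶ X) [IsImmersion j] (ρW : G →* Aut W)
    (hρW : ∀ g, (ρW g).hom ≫ j = j ≫ (ρ g).hom) (pW : W ⟶ WG) (hPW : SGA1.IsQuot ρW pW)
    (φ : WG ⟶ XG) (hφ : pW ≫ φ = j ≫ p) :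
    UniversallyInjective φ ∧ Set.range φ.base = p.base '' Set.range j.base := by
  obtain ⟨hsW, horbW, -⟩ := Groth.Agent.S2908.result ρW pW hPW
  obtain ⟨hsX, horbX, -⟩ := Groth.Agent.S2908.result ρ p hP
  have hjinj : Function.Injective j.base := j.isEmbedding.injective
  have hcomm : ∀ w : W, φ.base (pW.base w) = p.base (j.base w) := fun w => by
    have := congrArg (fun f => f.base w) hφ
    simpa using this
  have hact : ∀ (g : G) (w : W), j.base ((ρW g).hom.base w) = (ρ g).hom.base (j.base w) :=
    fun g w => by
      have := congrArg (fun f => f.base w) (hρW g)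
      simpa using this
  have hinj : Function.Injective φ.base := by
    intro w1' w2' h12
    obtain ⟨w1, rfl⟩ := hsW w1'
    obtain ⟨w2, rfl⟩ := hsW w2'
    rw [hcomm, hcomm] at h12
    obtain ⟨g, hg⟩ := (horbX _ _).mp h12
    rw [← hact] at hg
    exact (horbW _ _).mpr ⟨g, hjinj hg⟩
  refine ⟨?_, ?_⟩
  · rw [((tfae_universallyInjective φ).out 0 2 :)]
    refine ⟨hinj, ?_⟩
    intro w'
    obtain ⟨w, rfl⟩ := hsW w'
    let a := φ.residueFieldMap (pW.base w)
    let b := pW.residueFieldMap w
    let K' := XG.residueField (φ.base (pW.base w))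
    let F := WG.residueField (pW.base w)
    let N := W.residueField w
    let _ : Algebra K' F := a.hom.toAlgebra
    let _ : Algebra F N := b.hom.toAlgebra
    let _ : Algebra K' N := (a ≫ b).hom.toAlgebra
    have : IsScalarTower K' F N := .of_algebraMap_eq' rfl
    have hιiso : IsIso (j.residueFieldMap w) := isIso_residueFieldMap_of_isPreimmersion j w
    have hab : (pW ≫ φ).residueFieldMap w = a ≫ b := Scheme.residueFieldMap_comp pW φ w
    have hnorm : Normal K' N := by
      let _ : Algebra (XG.residueField (p.base (j.base w))) (X.residueField (j.base w)) :=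
        (p.residueFieldMap (j.base w)).hom.toAlgebra
      have h0 : Normal (XG.residueField (p.base (j.base w))) (X.residueField (j.base w)) :=
        (Groth.Agent.S13597.result ρ p hP (j.base w)).1
      let cg := XG.residueFieldCongr (hcomm w).symm
      have hcg : cg.hom ≫ (a ≫ b) = p.residueFieldMap (j.base w) ≫ j.residueFieldMap w := by
        have e1 : (pW ≫ φ).base w = (j ≫ p).base w := by rw [hφ]
        have h1 := Scheme.Hom.residueFieldMap_congr hφ w
        have h3 : (XG.residueFieldCongr e1.symm).hom ≫ (pW ≫ φ).residueFieldMap w =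
            (j ≫ p).residueFieldMap w := by
          rw [h1, Scheme.residueFieldCongr_trans_hom_assoc]
          exact Category.id_comp _
        exact ((congrArg (fun q => (XG.residueFieldCongr e1.symm).hom ≫ q) hab.symm).trans h3).trans
          (Scheme.residueFieldMap_comp j p w)
      refine Normal.of_equiv_equiv (F := XG.residueField (p.base (j.base w)))
        (E := X.residueField (j.base w)) (f := cg.commRingCatIsoToRingEquiv)
        (g := (asIso (j.residueFieldMap w)).commRingCatIsoToRingEquiv) ?_
      ext t
      exact congrArg (fun f => f.hom t) hcg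
    change IsPurelyInseparable K' F
    apply isPurelyInseparable_of_fixed (N := N)
    intro τ t
    let τc : N ≅ N := (τ : N ≃+* N).toCommRingCatIso
    have hb : W.fromSpecResidueField w ≫ pW =
        Spec.map b ≫ WG.fromSpecResidueField (pW.base w) :=
      (Scheme.Hom.SpecMap_residueFieldMap_fromSpecResidueField pW w).symm
    have ha : WG.fromSpecResidueField (pW.base w) ≫ φ =
        Spec.map a ≫ XG.fromSpecResidueField (φ.base (pW.base w)) :=
      (Scheme.Hom.SpecMap_residueFieldMap_fromSpecResidueField φ (pW.base w)).symm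
    have hι : W.fromSpecResidueField w ≫ j =
        Spec.map (j.residueFieldMap w) ≫ X.fromSpecResidueField (j.base w) :=
      (Scheme.Hom.SpecMap_residueFieldMap_fromSpecResidueField j w).symm
    have hc : (a ≫ b) ≫ τc.hom = a ≫ b := by
      ext t
      exact τ.commutes t
    have hτ1 : Spec.map τc.hom ≫ W.fromSpecResidueField w ≫ j ≫ p =
        W.fromSpecResidueField w ≫ j ≫ p := by
      rw [← hφ, reassoc_of% hb, ha, ← Spec.map_comp_assoc, ← Spec.map_comp_assoc,
        ← Spec.map_comp_assoc, ← hc]
      simp only [Category.assoc]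
    let ι := j.residueFieldMap w
    let τX : X.residueField (j.base w) ≅ X.residueField (j.base w) :=
      asIso ι ≪≫ τc ≪≫ (asIso ι).symm
    have hτXι : Spec.map ι ≫ Spec.map τX.hom = Spec.map τc.hom ≫ Spec.map ι := by
      rw [← Spec.map_comp, ← Spec.map_comp]
      congr 1
      simp [τX]
    have hτX : Spec.map τX.hom ≫ X.fromSpecResidueField (j.base w) ≫ p =
        X.fromSpecResidueField (j.base w) ≫ p := by
      have : IsIso (Spec.map ι) := inferInstance
      rw [← cancel_epi (Spec.map ι), reassoc_of% hτXι, ← reassoc_of% hι, hτ1, reassoc_of% hι]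
    obtain ⟨g, hg⟩ := exists_specMap_comp_fromSpecResidueField ρ p hP (j.base w) τX hτX
    have hτW : Spec.map τc.hom ≫ W.fromSpecResidueField w =
        W.fromSpecResidueField w ≫ (ρW g).hom := by
      rw [← cancel_mono j, Category.assoc, Category.assoc, hρW g, hι, ← reassoc_of% hτXι, hg,
        reassoc_of% hι]
    have hτb : b ≫ τc.hom = b := by
      apply Spec.map_injective
      rw [← cancel_mono (WG.fromSpecResidueField (pW.base w)), Spec.map_comp, Category.assoc,
        ← hb, reassoc_of% hτW, hPW.inv g]
    exact congrArg (fun f => f.hom t) hτb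
  · ext y
    constructor
    · rintro ⟨w', rfl⟩
      obtain ⟨w, rfl⟩ := hsW w'
      exact ⟨j.base w, ⟨w, rfl⟩, (hcomm w).symm⟩
    · rintro ⟨_, ⟨w, rfl⟩, rfl⟩
      exact ⟨pW.base w, hcomm w⟩

end Groth.Agent.S13082
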