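import Groth.Statements.S13087
import Groth.Agent.Lib.Helper67.Lie3Basic
import Mathlib

set_option autoImplicit false
universe u
open Lie3Mod

namespace Groth.Agent.S13087.Aux

open Polynomial

namespace L3R

/-- `x` is a nonzerodivisor modulo `J`. -/
def Nzd {T : Type*} [CommRing T] (x : T) (J : Ideal T) : Prop := ∀ y, x * y ∈ J → y ∈ J

lemma poly_core {R : Type*} [CommRing R] (I : Ideal R) (u v : R) (hu : Nzd u I) (q : R[X])
    (hq : (C u * X + C v) * q ∈ I.map (C : R →+* R[X])) : q ∈ I.map (C : R →+* R[X]) := by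
  have key : I.map (C : R →+* R[X]) =
      RingHom.ker (Polynomial.mapRingHom (Ideal.Quotient.mk I)) := by
    rw [Polynomial.ker_mapRingHom, Ideal.mk_ker]
  rw [key, RingHom.mem_ker] at hq ⊢
  rw [map_mul] at hq
  by_cases hub : Ideal.Quotient.mk I u = 0
  · -- then `1 ∈ I`
    have h1 : (1 : R) ∈ I := hu 1 (by rw [mul_one]; exact Ideal.Quotient.eq_zero_iff_mem.mp hub)
    have : I = ⊤ := (Ideal.eq_top_iff_one I).mpr h1
    haveI : Subsingleton (R ⧸ I) := by
      rw [this]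
      exact Ideal.Quotient.subsingleton_iff.mpr rfl
    exact Subsingleton.elim _ _
  · have hp : Polynomial.mapRingHom (Ideal.Quotient.mk I) (C u * X + C v) =
        C (Ideal.Quotient.mk I u) * X + C (Ideal.Quotient.mk I v) := by
      simp
    rw [hp] at hq
    have hlc : (C (Ideal.Quotient.mk I u) * X + C (Ideal.Quotient.mk I v)).leadingCoeff =
        Ideal.Quotient.mk I u := Polynomial.leadingCoeff_linear hub
    have hmem : (C (Ideal.Quotient.mk I u) * X + C (Ideal.Quotient.mk I v)) ∈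
        nonZeroDivisors (R ⧸ I)[X] := by
      apply Polynomial.mem_nonZeroDivisors_of_leadingCoeff
      rw [hlc, mem_nonZeroDivisors_iff]
      constructor
      all_goals
        intro z hz
        obtain ⟨z, rfl⟩ := Ideal.Quotient.mk_surjective z
        rw [← map_mul, Ideal.Quotient.eq_zero_iff_mem] at hz
        rw [Ideal.Quotient.eq_zero_iff_mem]
        first
          | exact hu z hz
          | exact hu z (by rwa [mul_comm])
    exact (mem_nonZeroDivisors_iff.mp hmem).1 _ hq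
  
/-- swap lemma -/
lemma Nzd.swap {T : Type*} [CommRing T] {J : Ideal T} {x y : T} (hx : Nzd x J)
    (hyx : Nzd y (J ⊔ Ideal.span {x})) : Nzd x (J ⊔ Ideal.span {y}) := by
  intro r hr
  obtain ⟨j, hj, t, ht, hjt⟩ := Submodule.mem_sup.mp hr
  obtain ⟨s, rfl⟩ := Ideal.mem_span_singleton'.mp ht
  -- x r = j + s y, so y s ∈ J + (x)
  have h1 : y * s ∈ J ⊔ Ideal.span {x} := by
    have : y * s = x * r - j := by rw [← hjt]; ring
    rw [this]
    exact Ideal.sub_mem _ (Ideal.mem_sup_right (Ideal.mul_mem_right _ _ (Ideal.mem_span_singleton_self x)))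
      (Ideal.mem_sup_left hj)
  have h2 := hyx s h1
  obtain ⟨j', hj', t', ht', hjt'⟩ := Submodule.mem_sup.mp h2
  obtain ⟨s', rfl⟩ := Ideal.mem_span_singleton'.mp ht'
  -- s = j' + s' x; x r = j + (j' + s' x) y ⇒ x (r - s' y) = j + j' y ∈ J
  have h3 : x * (r - s' * y) ∈ J := by
    have : x * (r - s' * y) = j + j' * y := by
      have : x * r = j + (j' + s' * x) * y := by rw [← hjt, hjt']
      linear_combination this
    rw [this]
    exact Ideal.add_mem _ hj (Ideal.mul_mem_right _ _ hj')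
  have h4 := hx _ h3
  have : r = (r - s' * y) + s' * y := by ring
  rw [this]
  exact Ideal.add_mem _ (Ideal.mem_sup_left h4)
    (Ideal.mem_sup_right (Ideal.mul_mem_left _ _ (Ideal.mem_span_singleton_self y)))

end L3R

namespace L3R

section VarLemma

open MvPolynomial

variable {A : Type*} [CommRing A] {σ : Type*} [DecidableEq σ] (j : σ)

/-- the isomorphism singling out the variable `j` -/
noncomputable def Φ : MvPolynomial σ A ≃ₐ[A] Polynomial (MvPolynomial {k // k ≠ j} A) :=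
  (MvPolynomial.renameEquiv A (Equiv.optionSubtypeNe j).symm).trans
    (MvPolynomial.optionEquivLeft A {k // k ≠ j})

lemma Φ_X_self : Φ (A := A) j (X j) = Polynomial.X := by
  simp [Φ]

lemma Φ_X_ne (k : σ) (hk : k ≠ j) : Φ (A := A) j (X k) = Polynomial.C (X ⟨k, hk⟩) := by
  simp [Φ, Equiv.optionSubtypeNe_symm_of_ne hk]

/-- the inclusion of the polynomials not involving `X j` -/
noncomputable def ι : MvPolynomial {k // k ≠ j} A →ₐ[A] MvPolynomial σ A :=
  MvPolynomial.rename Subtype.val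

lemma Φ_ι (p : MvPolynomial {k // k ≠ j} A) : Φ j (ι j p) = Polynomial.C p := by
  have : ((Φ (A := A) j : MvPolynomial σ A →ₐ[A] _).comp (ι j)) =
      (Polynomial.CAlgHom : MvPolynomial {k // k ≠ j} A →ₐ[MvPolynomial {k // k ≠ j} A] _).restrictScalars A := by
    apply MvPolynomial.algHom_ext
    intro k
    simp [ι, Φ_X_ne j k.1 k.2]
  exact DFunLike.congr_fun this p

omit [DecidableEq σ] in
lemma exists_of_mem_supported {p : MvPolynomial σ A} (hp : p ∈ supported A {k | k ≠ j}) :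
    ∃ p' : MvPolynomial {k // k ≠ j} A, ι j p' = p := by
  rw [MvPolynomial.supported_eq_range_rename] at hp
  obtain ⟨p', hp'⟩ := hp
  exact ⟨p', hp'⟩

theorem nzd_linear (u v : MvPolynomial σ A) (hu : u ∈ supported A {k | k ≠ j})
    (hv : v ∈ supported A {k | k ≠ j}) (G : Set (MvPolynomial σ A))
    (hG : G ⊆ supported A {k | k ≠ j}) (h : Nzd u (Ideal.span G)) :
    Nzd (u * X j + v) (Ideal.span G) := by
  obtain ⟨u', rfl⟩ := exists_of_mem_supported j hu
  obtain ⟨v', rfl⟩ := exists_of_mem_supported j hv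
  set G' : Set (MvPolynomial {k // k ≠ j} A) := (ι j) ⁻¹' G with hG'
  set I' : Ideal (MvPolynomial {k // k ≠ j} A) := Ideal.span G' with hI'
  have hGG' : G = (ι j) '' G' := by
    rw [hG', Set.image_preimage_eq_of_subset]
    intro g hg
    obtain ⟨g', hg'⟩ := exists_of_mem_supported j (hG hg)
    exact ⟨g', hg'⟩
  have hspan : Ideal.span G = I'.map (ι (A := A) j).toRingHom := by
    rw [hI', Ideal.map_span, hGG']
    rfl
  let φ : MvPolynomial σ A →+* Polynomial (MvPolynomial {k // k ≠ j} A) :=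
    (Φ (A := A) j).toRingEquiv.toRingHom
  let ψ : Polynomial (MvPolynomial {k // k ≠ j} A) →+* MvPolynomial σ A :=
    (Φ (A := A) j).symm.toRingEquiv.toRingHom
  have hψφ : ψ.comp φ = RingHom.id _ := RingHom.ext (fun x => (Φ (A := A) j).symm_apply_apply x)
  have hc : φ.comp (ι (A := A) j).toRingHom = Polynomial.C := RingHom.ext (fun p => Φ_ι j p)
  have hmap : (Ideal.span G).map φ =
      I'.map (Polynomial.C : _ →+* Polynomial (MvPolynomial {k // k ≠ j} A)) := by
    rw [hspan, Ideal.map_map, hc]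
  have hiff : ∀ p : MvPolynomial σ A, p ∈ Ideal.span G ↔
      Φ j p ∈ I'.map (Polynomial.C : _ →+* Polynomial (MvPolynomial {k // k ≠ j} A)) := by
    intro p
    rw [← hmap]
    constructor
    · intro hp
      exact Ideal.mem_map_of_mem φ hp
    · intro hp
      have h1 := Ideal.mem_map_of_mem ψ hp
      rw [Ideal.map_map, hψφ, Ideal.map_id] at h1
      have h2 : ψ (Φ j p) = p := (Φ (A := A) j).symm_apply_apply p
      rwa [h2] at h1
  -- `u'` is a nonzerodivisor modulo `I'`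
  have hu' : Nzd u' I' := by
    intro r' hr'
    have h1 : ι j u' * ι j r' ∈ Ideal.span G := by
      rw [hspan, ← map_mul]
      exact Ideal.mem_map_of_mem _ hr'
    have h2 := (hiff _).mp (h _ h1)
    rw [Φ_ι, Ideal.mem_map_C_iff] at h2
    simpa using h2 0
  intro y hy
  rw [hiff] at hy ⊢
  rw [map_mul, map_add, map_mul, Φ_ι, Φ_ι, Φ_X_self] at hy
  exact poly_core I' u' v' hu' _ hy

end VarLemma

end L3R

namespace L3R

section Assemble

variable {T : Type*} [CommRing T]

lemma isSMulRegular_of_nzd {w : T} {N : Submodule T T} (h : ∀ y, w * y ∈ N → y ∈ N) :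
    IsSMulRegular (T ⧸ N) w := by
  intro a b hab
  induction a using Submodule.Quotient.induction_on with
  | H a =>
  induction b using Submodule.Quotient.induction_on with
  | H b =>
  change w • Submodule.Quotient.mk a = w • Submodule.Quotient.mk b at hab
  rw [← Submodule.Quotient.mk_smul, ← Submodule.Quotient.mk_smul, Submodule.Quotient.eq] at hab
  rw [Submodule.Quotient.eq]
  apply h
  have : w * (a - b) = w • a - w • b := by simp [mul_sub]
  rw [this]
  exact hab

lemma isRegular_three (x y z : T) (h1 : Nzd x ⊥) (h2 : Nzd y (Ideal.span {x}))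
    (h3 : Nzd z (Ideal.span {x} ⊔ Ideal.span {y}))
    (hne : Ideal.span {x} ⊔ (Ideal.span {y} ⊔ Ideal.span {z}) ≠ ⊤) :
    RingTheory.Sequence.IsRegular T [x, y, z] := by
  refine ⟨⟨?_⟩, ?_⟩
  · intro i hi
    have hi' : i < 3 := hi
    interval_cases i
    · apply isSMulRegular_of_nzd
      intro t ht
      have : (Ideal.ofList ([x, y, z].take 0) • (⊤ : Submodule T T)) = (⊥ : Ideal T) := by
        simp
      rw [this] at ht ⊢
      exact h1 t ht
    · apply isSMulRegular_of_nzd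
      intro t ht
      have : (Ideal.ofList ([x, y, z].take 1) • (⊤ : Submodule T T)) = Ideal.span {x} := by
        simp [Ideal.ofList_cons]
      rw [this] at ht ⊢
      exact h2 t ht
    · apply isSMulRegular_of_nzd
      intro t ht
      have : (Ideal.ofList ([x, y, z].take 2) • (⊤ : Submodule T T)) =
          Ideal.span {x} ⊔ Ideal.span {y} := by
        simp [Ideal.ofList_cons]
      rw [this] at ht ⊢
      exact h3 t ht
  · intro h
    apply hne
    have : (Ideal.ofList [x, y, z] • (⊤ : Submodule T T)) =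
        Ideal.span {x} ⊔ (Ideal.span {y} ⊔ Ideal.span {z}) := by
      simp [Ideal.ofList_cons]
    rw [this] at h
    exact h.symm

end Assemble

end L3R

namespace L3R

section Concrete

open MvPolynomial Lie3Mod

set_option linter.unusedSectionVars false

variable (A : Type u) [CommRing A] [Nontrivial A]

noncomputable abbrev u1 : D A := -(X 5 + X 1)
noncomputable abbrev v1 : D A := X 0 * X 7 + X 3 * X 8
noncomputable abbrev u2 : D A := X 8 - X 0
noncomputable abbrev v2 : D A := X 1 * X 3 - X 5 * X 7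
noncomputable abbrev u3 : D A := X 7 + X 3
noncomputable abbrev v3 : D A := -(X 0 * X 5 + X 1 * X 8)

lemma Q1_eq : Q1 A = u1 A * X 6 + v1 A := by
  unfold Q1 va vh vd vi vf vg vb
  ring

lemma Q2_eq : Q2 A = u2 A * X 4 + v2 A := by
  unfold Q2 va vh vd vi vf ve vb
  ring

lemma Q3_eq : Q3 A = u3 A * X 2 + v3 A := by
  unfold Q3 va vh vd vi vf vc vb
  ring

lemma u1_eq : u1 A = (-1) * X 1 + (-X 5) := by ring
lemma u2_eq : u2 A = (-1) * X 0 + X 8 := by ring
lemma u3_eq : u3 A = 1 * X 3 + X 7 := by ring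
lemma L1_eq : L1 A = 1 * X 0 + (-X 8) := by
  unfold L1 va vi
  ring
lemma L2_eq : L2 A = 1 * X 1 + X 5 := by
  unfold L2 vb vf
  ring
lemma L3_eq : L3 A = 1 * X 3 + X 7 := by
  unfold L3 vd vh
  ring

lemma nzd_one {T : Type*} [CommRing T] (J : Ideal T) : Nzd (1 : T) J := by
  intro y hy
  rwa [one_mul] at hy

lemma nzd_neg_one {T : Type*} [CommRing T] (J : Ideal T) : Nzd (-1 : T) J := by
  intro y hy
  have : y = -((-1) * y) := by ring
  rw [this]
  exact J.neg_mem hy

/-- wrapper around `nzd_linear` -/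
lemma nzd_lin (j : Fin 9) (w u v : D A) (hw : w = u * X j + v)
    (hu : u ∈ supported A {k | k ≠ j}) (hv : v ∈ supported A {k | k ≠ j}) (G : Set (D A))
    (hG : G ⊆ supported A {k | k ≠ j}) (h : Nzd u (Ideal.span G)) : Nzd w (Ideal.span G) := by
  rw [hw]
  exact nzd_linear j u v hu hv G hG h

lemma span_pair (x y : D A) : Ideal.span ({x, y} : Set (D A)) = Ideal.span {x} ⊔ Ideal.span {y} :=
  Ideal.span_insert x {y}

-- membership in the subalgebras of polynomials not involving a given variable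
lemma supp6 : u1 A ∈ supported A {k | k ≠ (6 : Fin 9)} ∧ v1 A ∈ supported A {k | k ≠ (6 : Fin 9)} ∧
    u2 A ∈ supported A {k | k ≠ (6 : Fin 9)} ∧ u3 A ∈ supported A {k | k ≠ (6 : Fin 9)} := by
  refine ⟨?_, ?_, ?_, ?_⟩
  all_goals
    repeat' (first
      | exact Subalgebra.one_mem _
      | apply Subalgebra.add_mem
      | apply Subalgebra.sub_mem
      | apply Subalgebra.mul_mem
      | apply Subalgebra.neg_mem
      | exact (MvPolynomial.X_mem_supported).2 (by decide))

lemma supp4 : u2 A ∈ supported A {k | k ≠ (4 : Fin 9)} ∧ v2 A ∈ supported A {k | k ≠ (4 : Fin 9)} ∧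
    Q1 A ∈ supported A {k | k ≠ (4 : Fin 9)} ∧ u3 A ∈ supported A {k | k ≠ (4 : Fin 9)} := by
  rw [Q1_eq]
  refine ⟨?_, ?_, ?_, ?_⟩
  all_goals
    repeat' (first
      | exact Subalgebra.one_mem _
      | apply Subalgebra.add_mem
      | apply Subalgebra.sub_mem
      | apply Subalgebra.mul_mem
      | apply Subalgebra.neg_mem
      | exact (MvPolynomial.X_mem_supported).2 (by decide))

lemma supp2 : u3 A ∈ supported A {k | k ≠ (2 : Fin 9)} ∧ v3 A ∈ supported A {k | k ≠ (2 : Fin 9)} ∧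
    Q1 A ∈ supported A {k | k ≠ (2 : Fin 9)} ∧ Q2 A ∈ supported A {k | k ≠ (2 : Fin 9)} := by
  rw [Q1_eq, Q2_eq]
  refine ⟨?_, ?_, ?_, ?_⟩
  all_goals
    repeat' (first
      | exact Subalgebra.one_mem _
      | apply Subalgebra.add_mem
      | apply Subalgebra.sub_mem
      | apply Subalgebra.mul_mem
      | apply Subalgebra.neg_mem
      | exact (MvPolynomial.X_mem_supported).2 (by decide))

lemma supp1 : (-1 : D A) ∈ supported A {k | k ≠ (1 : Fin 9)} ∧
    (-X 5 : D A) ∈ supported A {k | k ≠ (1 : Fin 9)} ∧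
    u2 A ∈ supported A {k | k ≠ (1 : Fin 9)} ∧ u3 A ∈ supported A {k | k ≠ (1 : Fin 9)} ∧
    (1 : D A) ∈ supported A {k | k ≠ (1 : Fin 9)} ∧ (X 5 : D A) ∈ supported A {k | k ≠ (1 : Fin 9)} ∧
    L1 A ∈ supported A {k | k ≠ (1 : Fin 9)} := by
  rw [L1_eq]
  refine ⟨?_, ?_, ?_, ?_, ?_, ?_, ?_⟩
  all_goals
    repeat' (first
      | exact Subalgebra.one_mem _
      | apply Subalgebra.add_mem
      | apply Subalgebra.sub_mem
      | apply Subalgebra.mul_mem
      | apply Subalgebra.neg_mem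
      | exact (MvPolynomial.X_mem_supported).2 (by decide))

lemma supp0 : (-1 : D A) ∈ supported A {k | k ≠ (0 : Fin 9)} ∧
    (X 8 : D A) ∈ supported A {k | k ≠ (0 : Fin 9)} ∧
    u3 A ∈ supported A {k | k ≠ (0 : Fin 9)} ∧
    (1 : D A) ∈ supported A {k | k ≠ (0 : Fin 9)} ∧ (-X 8 : D A) ∈ supported A {k | k ≠ (0 : Fin 9)} := by
  refine ⟨?_, ?_, ?_, ?_, ?_⟩
  all_goals
    repeat' (first
      | exact Subalgebra.one_mem _
      | apply Subalgebra.add_mem
      | apply Subalgebra.sub_mem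
      | apply Subalgebra.mul_mem
      | apply Subalgebra.neg_mem
      | exact (MvPolynomial.X_mem_supported).2 (by decide))

lemma supp3 : (1 : D A) ∈ supported A {k | k ≠ (3 : Fin 9)} ∧
    (X 7 : D A) ∈ supported A {k | k ≠ (3 : Fin 9)} ∧
    L1 A ∈ supported A {k | k ≠ (3 : Fin 9)} ∧ L2 A ∈ supported A {k | k ≠ (3 : Fin 9)} := by
  rw [L1_eq, L2_eq]
  refine ⟨?_, ?_, ?_, ?_⟩
  all_goals
    repeat' (first
      | exact Subalgebra.one_mem _
      | apply Subalgebra.add_mem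
      | apply Subalgebra.sub_mem
      | apply Subalgebra.mul_mem
      | apply Subalgebra.neg_mem
      | exact (MvPolynomial.X_mem_supported).2 (by decide))

lemma pair_subset {s : Set (D A)} {x y : D A} (hx : x ∈ s) (hy : y ∈ s) : ({x, y} : Set (D A)) ⊆ s :=
  Set.insert_subset_iff.mpr ⟨hx, Set.singleton_subset_iff.mpr hy⟩

-- base facts
lemma B1 : Nzd (u1 A) (Ideal.span ∅) :=
  nzd_lin A 1 _ (-1) (-X 5) (u1_eq A) (supp1 A).1 (supp1 A).2.1 ∅ (Set.empty_subset _) (nzd_neg_one _)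

lemma B2 : Nzd (u2 A) (Ideal.span ∅) :=
  nzd_lin A 0 _ (-1) (X 8) (u2_eq A) (supp0 A).1 (supp0 A).2.1 ∅ (Set.empty_subset _) (nzd_neg_one _)

lemma B3 : Nzd (u3 A) (Ideal.span ∅) :=
  nzd_lin A 3 _ 1 (X 7) (u3_eq A) (supp3 A).1 (supp3 A).2.1 ∅ (Set.empty_subset _) (nzd_one _)

lemma B4 : Nzd (u1 A) (Ideal.span {u2 A}) :=
  nzd_lin A 1 _ (-1) (-X 5) (u1_eq A) (supp1 A).1 (supp1 A).2.1 {u2 A}
    (Set.singleton_subset_iff.mpr (supp1 A).2.2.1) (nzd_neg_one _)

lemma B5 : Nzd (u1 A) (Ideal.span {u3 A}) :=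
  nzd_lin A 1 _ (-1) (-X 5) (u1_eq A) (supp1 A).1 (supp1 A).2.1 {u3 A}
    (Set.singleton_subset_iff.mpr (supp1 A).2.2.2.1) (nzd_neg_one _)

lemma B6 : Nzd (u2 A) (Ideal.span {u3 A}) :=
  nzd_lin A 0 _ (-1) (X 8) (u2_eq A) (supp0 A).1 (supp0 A).2.1 {u3 A}
    (Set.singleton_subset_iff.mpr (supp0 A).2.2.1) (nzd_neg_one _)

lemma B7 : Nzd (u1 A) (Ideal.span {u3 A, u2 A}) :=
  nzd_lin A 1 _ (-1) (-X 5) (u1_eq A) (supp1 A).1 (supp1 A).2.1 {u3 A, u2 A}
    (pair_subset A (supp1 A).2.2.2.1 (supp1 A).2.2.1) (nzd_neg_one _)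

-- facts about `Q1`
lemma F1 : Nzd (Q1 A) (Ideal.span ∅) :=
  nzd_lin A 6 _ (u1 A) (v1 A) (Q1_eq A) (supp6 A).1 (supp6 A).2.1 ∅ (Set.empty_subset _) (B1 A)

lemma C1 : Nzd (Q1 A) (Ideal.span {u2 A}) :=
  nzd_lin A 6 _ (u1 A) (v1 A) (Q1_eq A) (supp6 A).1 (supp6 A).2.1 {u2 A}
    (Set.singleton_subset_iff.mpr (supp6 A).2.2.1) (B4 A)

lemma C2 : Nzd (Q1 A) (Ideal.span {u3 A}) :=
  nzd_lin A 6 _ (u1 A) (v1 A) (Q1_eq A) (supp6 A).1 (supp6 A).2.1 {u3 A}
    (Set.singleton_subset_iff.mpr (supp6 A).2.2.2) (B5 A)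

lemma C3 : Nzd (Q1 A) (Ideal.span {u3 A, u2 A}) :=
  nzd_lin A 6 _ (u1 A) (v1 A) (Q1_eq A) (supp6 A).1 (supp6 A).2.1 {u3 A, u2 A}
    (pair_subset A (supp6 A).2.2.2 (supp6 A).2.2.1) (B7 A)

lemma S1 : Nzd (u2 A) (Ideal.span {Q1 A}) := by
  have h := Nzd.swap (J := (⊥ : Ideal (D A))) (x := u2 A) (y := Q1 A)
    (by rw [← Ideal.span_empty]; exact B2 A) (by rw [bot_sup_eq]; exact C1 A)
  rwa [bot_sup_eq] at h

lemma F2 : Nzd (Q2 A) (Ideal.span {Q1 A}) :=
  nzd_lin A 4 _ (u2 A) (v2 A) (Q2_eq A) (supp4 A).1 (supp4 A).2.1 {Q1 A}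
    (Set.singleton_subset_iff.mpr (supp4 A).2.2.1) (S1 A)

lemma S2 : Nzd (u3 A) (Ideal.span {Q1 A}) := by
  have h := Nzd.swap (J := (⊥ : Ideal (D A))) (x := u3 A) (y := Q1 A)
    (by rw [← Ideal.span_empty]; exact B3 A) (by rw [bot_sup_eq]; exact C2 A)
  rwa [bot_sup_eq] at h

lemma S3 : Nzd (u2 A) (Ideal.span {Q1 A, u3 A}) := by
  have h := Nzd.swap (J := Ideal.span {u3 A}) (x := u2 A) (y := Q1 A) (B6 A)
    (by rw [← span_pair]; exact C3 A)
  rw [sup_comm, ← span_pair] at h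
  exact h

lemma C4 : Nzd (Q2 A) (Ideal.span {Q1 A, u3 A}) :=
  nzd_lin A 4 _ (u2 A) (v2 A) (Q2_eq A) (supp4 A).1 (supp4 A).2.1 {Q1 A, u3 A}
    (pair_subset A (supp4 A).2.2.1 (supp4 A).2.2.2) (S3 A)

lemma S4 : Nzd (u3 A) (Ideal.span {Q1 A, Q2 A}) := by
  have h := Nzd.swap (J := Ideal.span {Q1 A}) (x := u3 A) (y := Q2 A) (S2 A)
    (by rw [← span_pair]; exact C4 A)
  rw [← span_pair] at h
  exact h

lemma F3 : Nzd (Q3 A) (Ideal.span {Q1 A, Q2 A}) :=
  nzd_lin A 2 _ (u3 A) (v3 A) (Q3_eq A) (supp2 A).1 (supp2 A).2.1 {Q1 A, Q2 A}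
    (pair_subset A (supp2 A).2.2.1 (supp2 A).2.2.2) (S4 A)

-- the linear forms
lemma G1 : Nzd (L1 A) (Ideal.span ∅) :=
  nzd_lin A 0 _ 1 (-X 8) (L1_eq A) (supp0 A).2.2.2.1 (supp0 A).2.2.2.2 ∅ (Set.empty_subset _) (nzd_one _)

lemma G2 : Nzd (L2 A) (Ideal.span {L1 A}) :=
  nzd_lin A 1 _ 1 (X 5) (L2_eq A) (supp1 A).2.2.2.2.1 (supp1 A).2.2.2.2.2.1 {L1 A}
    (Set.singleton_subset_iff.mpr (supp1 A).2.2.2.2.2.2) (nzd_one _)

lemma G3 : Nzd (L3 A) (Ideal.span {L1 A, L2 A}) :=
  nzd_lin A 3 _ 1 (X 7) (L3_eq A) (supp3 A).1 (supp3 A).2.1 {L1 A, L2 A}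
    (pair_subset A (supp3 A).2.2.1 (supp3 A).2.2.2) (nzd_one _)

lemma span_triple (x y z : D A) : Ideal.span ({x, y, z} : Set (D A)) =
    Ideal.span {x} ⊔ (Ideal.span {y} ⊔ Ideal.span {z}) := by
  rw [Ideal.span_insert, Ideal.span_insert]

lemma idL_ne_top : idL A ≠ ⊤ := by
  intro h
  have h1 : (1 : D A) ∈ idL A := by rw [h]; trivial
  rw [← Groth.Agent.Lib.Helper67.Lie3.ker_phiL, RingHom.mem_ker, map_one] at h1
  exact one_ne_zero h1

theorem main : RingTheory.Sequence.IsRegular (D A) [L1 A, L2 A, L3 A] ∧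
    RingTheory.Sequence.IsRegular (D A) [Q1 A, Q2 A, Q3 A] := by
  constructor
  · apply isRegular_three
    · rw [← Ideal.span_empty]; exact G1 A
    · exact G2 A
    · rw [← span_pair]; exact G3 A
    · rw [← span_triple]
      exact idL_ne_top A
  · apply isRegular_three
    · rw [← Ideal.span_empty]; exact F1 A
    · exact F2 A
    · rw [← span_pair]; exact F3 A
    · rw [← span_triple]
      intro h
      apply idL_ne_top A
      rw [eq_top_iff, ← h]
      exact Groth.Agent.Lib.Helper67.Lie3.idI_le_idL A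

end Concrete

end L3R

end Groth.Agent.S13087.Aux

namespace Groth.Agent.S13087

/-- Let A be a nontrivial commutative ring and D = A[a,b,c,d,e,f,g,h,i] the polynomial ring in nine
variables. Then the linear forms a − i, b + f, d + h form a regular sequence on D, and so do the
three Jacobi polynomials Q1 = ah + di − fg − bg, Q2 = ie + bd − fh − ae, Q3 = hc + dc − af − bi
(each term is a non-zero-divisor on the quotient of D by the preceding terms, and the quotient by
all three is non-zero). (The published statement is made with a regular base ring in force; the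
printed argument does not use that hypothesis, and the statement is given here over every nontrivial
commutative base ring.) -/
theorem result (A : Type u) [CommRing A] [Nontrivial A] :
    RingTheory.Sequence.IsRegular (Lie3Mod.D A) [Lie3Mod.L1 A, Lie3Mod.L2 A, Lie3Mod.L3 A] ∧
      RingTheory.Sequence.IsRegular (Lie3Mod.D A) [Lie3Mod.Q1 A, Lie3Mod.Q2 A, Lie3Mod.Q3 A] := by
  exact Aux.L3R.main A

end Groth.Agent.S13087
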