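import Groth.Statements.S13094
import Groth.Agent.Lib.Helper67.Lie3Prime

set_option autoImplicit false
open Lie3Mod

namespace Groth.Agent.S13094

/-- The second component of the moduli scheme of based three-dimensional Lie algebras is flat over the
integers: the ring Z[a,b,c,d,e,f,g,h,i]/J, where J = (Q1, Q2, Q3, det M) with Q1 = ah + di − fg −
bg, Q2 = ie + bd − fh − ae, Q3 = hc + dc − af − bi and det M = −ch² + gbf + ei² − gec + hbi − ihf,
is a flat Z-module. -/
theorem result :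
    Module.Flat ℤ (Lie3Mod.D ℤ ⧸ Lie3Mod.idJ ℤ) := by
  open Groth.Agent.Lib.Helper67.Lie3 in
  rw [Module.Flat.flat_iff_torsion_eq_bot_of_isBezout, eq_bot_iff]
  rintro m ⟨⟨n, hn⟩, h⟩
  obtain ⟨P, rfl⟩ := Ideal.Quotient.mk_surjective m
  have hn0 : n ≠ 0 := nonZeroDivisors.ne_zero hn
  have h1 : (MvPolynomial.C n : D ℤ) * P ∈ idJ ℤ := by
    rw [← Ideal.Quotient.eq_zero_iff_mem, map_mul]
    have : (n : ℤ) • (Ideal.Quotient.mk (idJ ℤ) P) = 0 := h
    rw [← this, ← map_mul, MvPolynomial.C_mul', map_zsmul]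
  have hp := idJ_isPrime ℤ
  rcases hp.mem_or_mem h1 with h2 | h2
  · exact absurd ((C_mem_idJ_iff ℤ n).1 h2) hn0
  · simp only [Submodule.mem_bot]
    exact Ideal.Quotient.eq_zero_iff_mem.2 h2

end Groth.Agent.S13094
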