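import Groth.Statements.S13095
import Groth.Agent.Lib.Helper67.Lie3Prime

set_option autoImplicit false
open Lie3Mod

namespace Groth.Agent.S13095

/-- The moduli scheme of based three-dimensional Lie algebras is flat over the integers and reduced:
with I = (Q1, Q2, Q3) the Jacobi ideal of Z[a,b,c,d,e,f,g,h,i] (Q1 = ah + di − fg − bg, Q2 = ie + bd
− fh − ae, Q3 = hc + dc − af − bi), the ring Z[a,b,c,d,e,f,g,h,i]/I is a flat Z-module and I is a
radical ideal. -/
theorem result :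
    Module.Flat ℤ (Lie3Mod.D ℤ ⧸ Lie3Mod.idI ℤ) ∧ (Lie3Mod.idI ℤ).IsRadical := by
  open Groth.Agent.Lib.Helper67.Lie3 in
  constructor
  · rw [Module.Flat.flat_iff_torsion_eq_bot_of_isBezout, eq_bot_iff]
    rintro m ⟨⟨n, hn⟩, h⟩
    obtain ⟨P, rfl⟩ := Ideal.Quotient.mk_surjective m
    have hn0 : n ≠ 0 := nonZeroDivisors.ne_zero hn
    have h1 : (MvPolynomial.C n : D ℤ) * P ∈ idI ℤ := by
      rw [← Ideal.Quotient.eq_zero_iff_mem, map_mul]
      have : (n : ℤ) • (Ideal.Quotient.mk (idI ℤ) P) = 0 := h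
      rw [← this, ← map_mul, MvPolynomial.C_mul', map_zsmul]
    have hJ := idJ_isPrime ℤ
    have hL := idL_isPrime ℤ
    have h2 : P ∈ idJ ℤ :=
      (hJ.mem_or_mem (idI_le_idJ ℤ h1)).resolve_left (fun h => hn0 ((C_mem_idJ_iff ℤ n).1 h))
    have h3 : P ∈ idL ℤ :=
      (hL.mem_or_mem (idI_le_idL ℤ h1)).resolve_left (fun h => hn0 ((C_mem_idL_iff ℤ n).1 h))
    simp only [Submodule.mem_bot]
    refine Ideal.Quotient.eq_zero_iff_mem.2 ?_
    rw [idI_eq_inf]
    exact ⟨h2, h3⟩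
  · rw [idI_eq_inf]
    exact (idJ_isPrime ℤ).isRadical.inf (idL_isPrime ℤ).isRadical

end Groth.Agent.S13095
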