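import Groth.Statements.S13096
import Groth.Agent.Lib.Helper67.SurjEndo
import Mathlib.RingTheory.Polynomial.Basic
import Mathlib.Tactic

set_option autoImplicit false
universe u v
open CAlg

namespace Groth.Agent.S13096

open Groth.Agent.Lib.Helper67 MvPolynomial

/-- Let R be a commutative ring and R' a commutative R-algebra of finite presentation. Then every
surjective R-algebra endomorphism α : R' → R' is bijective (an automorphism). -/
theorem result (R : Type u) [CommRing R]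
    (R' : Type v) [CommRing R'] [Algebra R R'] [Algebra.FinitePresentation R R']
    (α : R' →ₐ[R] R') (hα : Function.Surjective α) : Function.Bijective α := by
  classical
  refine ⟨?_, hα⟩
  obtain ⟨n, π, hπ, hfg⟩ := Algebra.FinitePresentation.out (R := R) (A := R')
  obtain ⟨s, hs⟩ := hfg
  -- lift of α to the polynomial ring
  choose p hp using fun i : Fin n => hπ (α (π (X i)))
  let A : MvPolynomial (Fin n) R →ₐ[R] MvPolynomial (Fin n) R := bind₁ p
  have hA : ∀ f, π (A f) = α (π f) := by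
    have : π.comp A = α.comp π := by
      apply MvPolynomial.algHom_ext
      intro i
      simp [A, hp]
    exact fun f => DFunLike.congr_fun this f
  have hmem : ∀ f, π f = 0 →
      ∃ c : MvPolynomial (Fin n) R → MvPolynomial (Fin n) R, f = ∑ r ∈ s, c r * r := by
    intro f hf
    have : f ∈ Ideal.span (s : Set (MvPolynomial (Fin n) R)) := by
      rw [hs]
      exact hf
    obtain ⟨c, hc⟩ := (Submodule.mem_span_finset).mp this
    exact ⟨c, hc.2.symm⟩
  have hsker : ∀ r ∈ s, π r = 0 := by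
    intro r hr
    have : r ∈ Ideal.span (s : Set (MvPolynomial (Fin n) R)) := Ideal.subset_span hr
    rw [hs] at this
    exact this
  -- witnesses of surjectivity
  have hq' : ∀ i : Fin n, ∃ q : MvPolynomial (Fin n) R, α (π q) = π (X i) := by
    intro i
    obtain ⟨y, hy⟩ := hα (π (X i))
    obtain ⟨q, rfl⟩ := hπ y
    exact ⟨q, hy⟩
  choose q hq using hq'
  have hg' : ∀ i : Fin n, ∃ c : MvPolynomial (Fin n) R → MvPolynomial (Fin n) R,
      A (q i) - X i = ∑ r ∈ s, c r * r := fun i =>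
    hmem _ (by rw [map_sub, hA, hq, sub_self])
  choose g hg using hg'
  have hh' : ∀ r ∈ s, ∃ c : MvPolynomial (Fin n) R → MvPolynomial (Fin n) R,
      A r = ∑ r' ∈ s, c r' * r' := fun r hr =>
    hmem _ (by rw [hA, hsker r hr, map_zero])
  choose! h hh using hh'
  rw [injective_iff_map_eq_zero]
  intro x hx
  obtain ⟨ξ, rfl⟩ := hπ x
  obtain ⟨w, hw⟩ := hmem (A ξ) (by rw [hA, hx])
  -- the finite family of polynomials to descend
  let 𝓕 : Finset (MvPolynomial (Fin n) R) :=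
    s ∪ Finset.univ.image p ∪ Finset.univ.image q ∪
      (Finset.univ ×ˢ s).image (fun ir => g ir.1 ir.2) ∪
      (s ×ˢ s).image (fun rr => h rr.1 rr.2) ∪ {ξ} ∪ s.image w
  have hs𝓕 : ∀ r ∈ s, r ∈ 𝓕 := fun r hr => by
    simp only [𝓕, Finset.mem_union]; tauto
  have hp𝓕 : ∀ i, p i ∈ 𝓕 := fun i => by
    have : p i ∈ Finset.univ.image p := Finset.mem_image_of_mem p (Finset.mem_univ i)
    simp only [𝓕, Finset.mem_union]; tauto
  have hq𝓕 : ∀ i, q i ∈ 𝓕 := fun i => by
    have : q i ∈ Finset.univ.image q := Finset.mem_image_of_mem q (Finset.mem_univ i)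
    simp only [𝓕, Finset.mem_union]; tauto
  have hg𝓕 : ∀ i, ∀ r ∈ s, g i r ∈ 𝓕 := fun i r hr => by
    have : g i r ∈ (Finset.univ ×ˢ s).image (fun ir => g ir.1 ir.2) :=
      Finset.mem_image.mpr ⟨(i, r), Finset.mem_product.mpr ⟨Finset.mem_univ i, hr⟩, rfl⟩
    simp only [𝓕, Finset.mem_union]; tauto
  have hh𝓕 : ∀ r ∈ s, ∀ r' ∈ s, h r r' ∈ 𝓕 := fun r hr r' hr' => by
    have : h r r' ∈ (s ×ˢ s).image (fun rr => h rr.1 rr.2) :=
      Finset.mem_image.mpr ⟨(r, r'), Finset.mem_product.mpr ⟨hr, hr'⟩, rfl⟩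
    simp only [𝓕, Finset.mem_union]; tauto
  have hξ𝓕 : ξ ∈ 𝓕 := by
    have : ξ ∈ ({ξ} : Finset _) := Finset.mem_singleton_self ξ
    simp only [𝓕, Finset.mem_union]; tauto
  have hw𝓕 : ∀ r ∈ s, w r ∈ 𝓕 := fun r hr => by
    have : w r ∈ s.image w := Finset.mem_image_of_mem w hr
    simp only [𝓕, Finset.mem_union]; tauto
  let Cf : Finset R := 𝓕.biUnion MvPolynomial.coeffs
  let R₀ : Subalgebra ℤ R := Algebra.adjoin ℤ (Cf : Set R)
  haveI : Algebra.FiniteType ℤ R₀ := Algebra.FiniteType.adjoin_of_finite Cf.finite_toSet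
  haveI : IsNoetherianRing R₀ := Algebra.FiniteType.isNoetherianRing ℤ R₀
  let ι : R₀ →+* R := R₀.val.toRingHom
  have hι : Function.Injective ι := Subtype.val_injective
  have hmapinj : Function.Injective (MvPolynomial.map (σ := Fin n) ι) :=
    MvPolynomial.map_injective ι hι
  have hlift : ∀ f ∈ 𝓕, ∃ f₀ : MvPolynomial (Fin n) R₀, MvPolynomial.map ι f₀ = f := by
    intro f hf
    have : f ∈ Set.range (MvPolynomial.map (σ := Fin n) ι) := by
      rw [MvPolynomial.mem_range_map_iff_coeffs_subset]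
      intro a ha
      exact ⟨⟨a, Algebra.subset_adjoin (Finset.mem_coe.mpr
        (Finset.mem_biUnion.mpr ⟨f, hf, ha⟩))⟩, rfl⟩
    exact this
  choose! L hL using hlift
  let I₀ : Ideal (MvPolynomial (Fin n) R₀) := Ideal.span ((s.image L : Finset _) : Set _)
  let A₀ : MvPolynomial (Fin n) R₀ →ₐ[R₀] MvPolynomial (Fin n) R₀ := bind₁ (fun i => L (p i))
  have hA₀ : ∀ f₀, MvPolynomial.map ι (A₀ f₀) = A (MvPolynomial.map ι f₀) := by
    intro f₀
    simp only [A₀, A]
    rw [MvPolynomial.map_bind₁]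
    congr 2
    funext i
    exact hL _ (hp𝓕 i)
  have hLmem : ∀ r ∈ s, L r ∈ I₀ := fun r hr =>
    Ideal.subset_span (Finset.mem_coe.mpr (Finset.mem_image_of_mem L hr))
  -- a general way to show membership in `I₀`
  have hsumI₀ : ∀ (f₀ : MvPolynomial (Fin n) R₀) (c : MvPolynomial (Fin n) R → MvPolynomial (Fin n) R),
      (∀ r ∈ s, c r ∈ 𝓕) → MvPolynomial.map ι f₀ = ∑ r ∈ s, c r * r → f₀ ∈ I₀ := by
    intro f₀ c hc hf
    have : f₀ = ∑ r ∈ s, L (c r) * L r := by
      apply hmapinj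
      rw [hf, map_sum]
      refine Finset.sum_congr rfl fun r hr => ?_
      rw [map_mul, hL _ (hc r hr), hL _ (hs𝓕 r hr)]
    rw [this]
    exact I₀.sum_mem fun r hr => I₀.mul_mem_left _ (hLmem r hr)
  have hI₀ : I₀ ≤ I₀.comap A₀.toRingHom := by
    rw [Ideal.span_le]
    intro f₀ hf₀
    obtain ⟨r, hr, rfl⟩ := Finset.mem_image.mp (Finset.mem_coe.mp hf₀)
    change A₀ (L r) ∈ I₀
    apply hsumI₀ _ (h r) (fun r' hr' => hh𝓕 r hr r' hr')
    rw [hA₀, hL r (hs𝓕 r hr), hh r hr]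
  let α₀ : (MvPolynomial (Fin n) R₀ ⧸ I₀) →+* (MvPolynomial (Fin n) R₀ ⧸ I₀) :=
    Ideal.quotientMap I₀ A₀.toRingHom hI₀
  have hα₀mk : ∀ f₀, α₀ (Ideal.Quotient.mk I₀ f₀) = Ideal.Quotient.mk I₀ (A₀ f₀) := fun f₀ =>
    Ideal.quotientMap_mk
  have hα₀ : Function.Surjective α₀ := by
    intro y
    obtain ⟨f₀, rfl⟩ := Ideal.Quotient.mk_surjective y
    induction f₀ using MvPolynomial.induction_on with
    | C a =>
      refine ⟨Ideal.Quotient.mk I₀ (C a), ?_⟩
      rw [hα₀mk]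
      simp [A₀]
    | add f g hf hg =>
      obtain ⟨a, ha⟩ := hf
      obtain ⟨b, hb⟩ := hg
      exact ⟨a + b, by rw [map_add, ha, hb, map_add]⟩
    | mul_X f i hf =>
      obtain ⟨a, ha⟩ := hf
      refine ⟨a * Ideal.Quotient.mk I₀ (L (q i)), ?_⟩
      rw [map_mul, ha, map_mul]
      congr 1
      rw [hα₀mk, Ideal.Quotient.eq]
      apply hsumI₀ _ (g i) (fun r hr => hg𝓕 i r hr)
      rw [map_sub, hA₀, hL _ (hq𝓕 i), MvPolynomial.map_X, hg]
  haveI : IsNoetherianRing (MvPolynomial (Fin n) R₀) := MvPolynomial.isNoetherianRing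
  haveI : IsNoetherianRing (MvPolynomial (Fin n) R₀ ⧸ I₀) :=
    Ideal.Quotient.isNoetherianRing I₀
  have hinj₀ : Function.Injective α₀ :=
    ringEnd_injective_of_surjective (S := MvPolynomial (Fin n) R₀ ⧸ I₀) α₀ hα₀
  have h3 : A₀ (L ξ) ∈ I₀ := by
    apply hsumI₀ _ w (fun r hr => hw𝓕 r hr)
    rw [hA₀, hL _ hξ𝓕, hw]
  have h4 : Ideal.Quotient.mk I₀ (L ξ) = 0 := by
    apply hinj₀
    rw [map_zero, hα₀mk, Ideal.Quotient.eq_zero_iff_mem]
    exact h3
  have h5 : L ξ ∈ I₀ := Ideal.Quotient.eq_zero_iff_mem.mp h4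
  have h6 : ∀ f₀ ∈ I₀, π (MvPolynomial.map ι f₀) = 0 := by
    intro f₀ hf₀
    induction hf₀ using Submodule.span_induction with
    | mem f₀ hf₀ =>
      obtain ⟨r, hr, rfl⟩ := Finset.mem_image.mp (Finset.mem_coe.mp hf₀)
      rw [hL r (hs𝓕 r hr)]
      exact hsker r hr
    | zero => simp
    | add a b _ _ ha hb => rw [map_add, map_add, ha, hb, add_zero]
    | smul a b _ hb => rw [smul_eq_mul, map_mul, map_mul, hb, mul_zero]
  have h7 := h6 _ h5
  rw [hL ξ hξ𝓕] at h7
  exact h7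

end Groth.Agent.S13096
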