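-- Statement S13098
import Groth.Statements.S13098
import Mathlib.Tactic
import Mathlib.LinearAlgebra.BilinearMap
import Mathlib.LinearAlgebra.Basis.Defs

set_option autoImplicit false
universe u v
open Lie3Mod

namespace Groth.Agent.S13098

section
variable {R : Type u} [CommRing R] {M : Type v} [AddCommGroup M] [Module R M]
  (B : M →ₗ[R] M →ₗ[R] M)

/-- the Jacobi expression -/
def jac (u v w : M) : M := B u (B v w) + B v (B w u) + B w (B u v)

theorem anti (halt : ∀ m : M, B m m = 0) (u v : M) : B u v = -B v u := by
  have h := halt (u + v)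
  simp only [map_add, LinearMap.add_apply, halt, zero_add, add_zero] at h
  exact eq_neg_of_add_eq_zero_right h

theorem jac_cyc (u v w : M) : jac B u v w = jac B v w u := by
  unfold jac; abel

theorem jac_swap (halt : ∀ m : M, B m m = 0) (u v w : M) : jac B u v w = -jac B v u w := by
  unfold jac
  rw [anti B halt u w, anti B halt v w, anti B halt u v]
  simp only [map_neg]
  abel

theorem jac_self (halt : ∀ m : M, B m m = 0) (u w : M) : jac B u u w = 0 := by
  unfold jac
  rw [halt u, map_zero, add_zero, anti B halt w u, map_neg]
  abel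

/-- the Jacobi expression as a trilinear map -/
def jacLin : M →ₗ[R] M →ₗ[R] M →ₗ[R] M :=
  let T : M →ₗ[R] M →ₗ[R] M →ₗ[R] M := ((LinearMap.llcomp R M M M).comp B).compl₂ B
  T + ((LinearMap.lflip (R := R) (M := M) (N := M) (P := M)).comp T).flip +
    (LinearMap.lflip (R := R) (M := M) (N := M) (P := M)).comp T.flip

theorem jacLin_apply (u v w : M) : jacLin B u v w = jac B u v w := rfl

end

/-- Let R be a commutative ring, M an R-module with a basis x = bs 0, y = bs 1, z = bs 2 indexed by Fin
3, and B an R-bilinear alternating map on M (B m m = 0) with B x y = a x + b y + c z, B x z = d x +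
e y + f z and B y z = g x + h y + i z. Then B satisfies the Jacobi identity for all triples if and
only if the three Jacobi polynomials vanish: ah + di − fg − bg = 0, ie + bd − fh − ae = 0 and hc +
dc − af − bi = 0. (This is the statement that Lie brackets on a based free module of rank 3 are the
points of the closed subscheme of affine 9-space defined by these three equations.) -/
theorem result (R : Type u) [CommRing R] (M : Type v) [AddCommGroup M] [Module R M]
    (bs : Module.Basis (Fin 3) R M) (B : M →ₗ[R] M →ₗ[R] M) (halt : ∀ m : M, B m m = 0)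
    (a b c d e f g h i : R)
    (hxy : B (bs 0) (bs 1) = a • bs 0 + b • bs 1 + c • bs 2)
    (hxz : B (bs 0) (bs 2) = d • bs 0 + e • bs 1 + f • bs 2)
    (hyz : B (bs 1) (bs 2) = g • bs 0 + h • bs 1 + i • bs 2) :
    (∀ u v w : M, B u (B v w) + B v (B w u) + B w (B u v) = 0) ↔
      (a * h + d * i - f * g - b * g = 0 ∧ i * e + b * d - f * h - a * e = 0 ∧
        h * c + d * c - a * f - b * i = 0) := by
  have hyx : B (bs 1) (bs 0) = -(a • bs 0 + b • bs 1 + c • bs 2) := by
    rw [anti B halt, hxy]
  have hzx : B (bs 2) (bs 0) = -(d • bs 0 + e • bs 1 + f • bs 2) := by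
    rw [anti B halt, hxz]
  have hzy : B (bs 2) (bs 1) = -(g • bs 0 + h • bs 1 + i • bs 2) := by
    rw [anti B halt, hyz]
  have hmain : jac B (bs 0) (bs 1) (bs 2) =
      (a * h + d * i - f * g - b * g) • bs 0 + (i * e + b * d - f * h - a * e) • bs 1 +
        (h * c + d * c - a * f - b * i) • bs 2 := by
    unfold jac
    rw [hyz, hzx, hxy]
    simp only [map_add, map_smul, map_neg, halt, hxy, hxz, hyz, hyx, hzx, hzy]
    module
  constructor
  · intro hJ
    have h0 := hJ (bs 0) (bs 1) (bs 2)
    change jac B (bs 0) (bs 1) (bs 2) = 0 at h0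
    rw [hmain] at h0
    have h1 := congrArg (fun m => bs.repr m) h0
    simp only [map_add, map_smul, Module.Basis.repr_self, map_zero] at h1
    refine ⟨?_, ?_, ?_⟩
    · have := DFunLike.congr_fun h1 0
      simpa using this
    · have := DFunLike.congr_fun h1 1
      simpa using this
    · have := DFunLike.congr_fun h1 2
      simpa using this
  · rintro ⟨h1, h2, h3⟩
    have h012 : jac B (bs 0) (bs 1) (bs 2) = 0 := by
      rw [hmain, h1, h2, h3]; simp
    have key : jacLin B = 0 := by
      apply bs.ext; intro i'
      apply bs.ext; intro j'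
      apply bs.ext; intro k'
      rw [jacLin_apply]
      simp only [LinearMap.zero_apply]
      fin_cases i' <;> fin_cases j' <;> fin_cases k' <;>
        simp only [Fin.zero_eta, Fin.mk_one, Fin.reduceFinMk] <;>
        first
        | exact jac_self B halt _ _
        | (rw [jac_cyc]; exact jac_self B halt _ _)
        | (rw [jac_cyc, jac_cyc]; exact jac_self B halt _ _)
        | exact h012
        | (rw [jac_cyc]; exact h012)
        | (rw [jac_cyc, jac_cyc]; exact h012)
        | (rw [jac_swap B halt, h012, neg_zero])
        | (rw [jac_cyc, jac_swap B halt, h012, neg_zero])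
        | (rw [jac_cyc, jac_cyc, jac_swap B halt, h012, neg_zero])
    intro u v w
    have := congrArg (fun J => J u v w) key
    simpa [jacLin_apply, jac] using this

end Groth.Agent.S13098
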