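import Groth.Statements.S13099
import Mathlib

set_option autoImplicit false
universe u
open GrpSch

namespace Groth.Agent.S13099

section helpers
open Polynomial


variable {A : Type u} [CommRing A]

/-- the exponent vector of `Y^i Z^j` -/
noncomputable def mm (i j : ℕ) : Fin 2 →₀ ℕ := Finsupp.single 0 i + Finsupp.single 1 j

theorem mm_inj {i j i' j' : ℕ} : mm i j = mm i' j' ↔ i = i' ∧ j = j' := by
  constructor
  · intro h
    have h0 := DFunLike.congr_fun h 0
    have h1 := DFunLike.congr_fun h 1
    simp [mm] at h0 h1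
    exact ⟨h0, h1⟩
  · rintro ⟨rfl, rfl⟩; rfl

theorem coeff_add_pow (i j n : ℕ) :
    MvPolynomial.coeff (mm i j)
      ((MvPolynomial.X 0 + MvPolynomial.X 1 : MvPolynomial (Fin 2) A) ^ n) =
      if i + j = n then (n.choose i : A) else 0 := by
  classical
  rw [add_pow, MvPolynomial.coeff_sum]
  have key : ∀ k ∈ Finset.range (n + 1), MvPolynomial.coeff (mm i j)
      ((MvPolynomial.X 0 : MvPolynomial (Fin 2) A) ^ k * MvPolynomial.X 1 ^ (n - k) *
        (n.choose k : MvPolynomial (Fin 2) A)) =
      if k = i then (if i + j = n then (n.choose i : A) else 0) else 0 := by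
    intro k hk
    have hk' : k ≤ n := Nat.lt_succ_iff.mp (Finset.mem_range.mp hk)
    rw [MvPolynomial.X_pow_eq_monomial, MvPolynomial.X_pow_eq_monomial, MvPolynomial.monomial_mul,
      one_mul, ← map_natCast (MvPolynomial.C (σ := Fin 2) (R := A)), mul_comm,
      MvPolynomial.coeff_C_mul, MvPolynomial.coeff_monomial]
    change (n.choose k : A) * (if mm k (n - k) = mm i j then 1 else 0) = _
    simp only [mm_inj]
    by_cases h1 : k = i
    · subst h1
      by_cases h2 : n - k = j
      · have : k + j = n := by omega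
        simp [h2, this]
      · have : ¬ (k + j = n) := by omega
        simp [h2, this]
    · simp [h1]
  rw [Finset.sum_congr rfl key]
  rw [Finset.sum_ite_eq']
  by_cases h : i + j = n
  · have : i ∈ Finset.range (n + 1) := by rw [Finset.mem_range]; omega
    simp [this, h]
  · simp [h]

theorem coeff_X0_pow (i j n : ℕ) :
    MvPolynomial.coeff (mm i j) ((MvPolynomial.X 0 : MvPolynomial (Fin 2) A) ^ n) =
      if i = n ∧ j = 0 then 1 else 0 := by
  classical
  rw [MvPolynomial.coeff_X_pow]
  have : (Finsupp.single (0 : Fin 2) n = mm i j) ↔ (i = n ∧ j = 0) := by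
    have : Finsupp.single (0 : Fin 2) n = mm n 0 := by simp [mm]
    rw [this, mm_inj]
    constructor
    · rintro ⟨rfl, rfl⟩; exact ⟨rfl, rfl⟩
    · rintro ⟨rfl, rfl⟩; exact ⟨rfl, rfl⟩
  simp only [this]

theorem coeff_X1_pow (i j n : ℕ) :
    MvPolynomial.coeff (mm i j) ((MvPolynomial.X 1 : MvPolynomial (Fin 2) A) ^ n) =
      if i = 0 ∧ j = n then 1 else 0 := by
  classical
  rw [MvPolynomial.coeff_X_pow]
  have : (Finsupp.single (1 : Fin 2) n = mm i j) ↔ (i = 0 ∧ j = n) := by
    have : Finsupp.single (1 : Fin 2) n = mm 0 n := by simp [mm]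
    rw [this, mm_inj]
    constructor
    · rintro ⟨rfl, rfl⟩; exact ⟨rfl, rfl⟩
    · rintro ⟨rfl, rfl⟩; exact ⟨rfl, rfl⟩
  simp only [this]

theorem coeff_eq_zero_of_mem (P : ℕ) (D : MvPolynomial (Fin 2) A)
    (hD : D ∈ Ideal.span ({MvPolynomial.X 0 ^ P, MvPolynomial.X 1 ^ P} :
      Set (MvPolynomial (Fin 2) A)))
    (i j : ℕ) (hi : i < P) (hj : j < P) : MvPolynomial.coeff (mm i j) D = 0 := by
  classical
  obtain ⟨a, b, rfl⟩ := Ideal.mem_span_pair.mp hD
  rw [MvPolynomial.coeff_add, MvPolynomial.X_pow_eq_monomial, MvPolynomial.X_pow_eq_monomial,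
    MvPolynomial.coeff_mul_monomial', MvPolynomial.coeff_mul_monomial']
  have h0 : ¬ (Finsupp.single (0 : Fin 2) P ≤ mm i j) := by
    intro h
    have := h 0
    simp [mm] at this
    omega
  have h1 : ¬ (Finsupp.single (1 : Fin 2) P ≤ mm i j) := by
    intro h
    have := h 1
    simp [mm] at this
    omega
  simp [h0, h1]




theorem coeff_D (q : A[X]) (P : ℕ) (hq : q.natDegree < P) (i j : ℕ) :
    MvPolynomial.coeff (mm i j)
      (Polynomial.aeval (MvPolynomial.X 0 + MvPolynomial.X 1 : MvPolynomial (Fin 2) A) q -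
        Polynomial.aeval (MvPolynomial.X 0 : MvPolynomial (Fin 2) A) q -
        Polynomial.aeval (MvPolynomial.X 1 : MvPolynomial (Fin 2) A) q) =
    ∑ n ∈ Finset.range P, q.coeff n * ((if i + j = n then (n.choose i : A) else 0) -
      (if i = n ∧ j = 0 then 1 else 0) - (if i = 0 ∧ j = n then 1 else 0)) := by
  rw [Polynomial.aeval_eq_sum_range' hq, Polynomial.aeval_eq_sum_range' hq,
    Polynomial.aeval_eq_sum_range' hq]
  simp only [MvPolynomial.coeff_sub, MvPolynomial.coeff_sum, MvPolynomial.coeff_smul, smul_eq_mul,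
    coeff_add_pow, coeff_X0_pow, coeff_X1_pow]
  rw [← Finset.sum_sub_distrib, ← Finset.sum_sub_distrib]
  refine Finset.sum_congr rfl fun n _ => by ring

theorem part1_forward (p : ℕ) [hp : Fact p.Prime] [CharP A p] (q : A[X]) (hq : q.natDegree < p ^ 2)
    (hD : Polynomial.aeval (MvPolynomial.X 0 + MvPolynomial.X 1 : MvPolynomial (Fin 2) A) q -
            Polynomial.aeval (MvPolynomial.X 0 : MvPolynomial (Fin 2) A) q -
            Polynomial.aeval (MvPolynomial.X 1 : MvPolynomial (Fin 2) A) q ∈
          Ideal.span ({MvPolynomial.X 0 ^ p ^ 2, MvPolynomial.X 1 ^ p ^ 2} :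
            Set (MvPolynomial (Fin 2) A))) :
    ∃ a₁ ap : A, q = Polynomial.C a₁ * X + Polynomial.C ap * X ^ p := by
  classical
  have hp2 : 2 ≤ p := hp.out.two_le
  have hpp : 0 < p ^ 2 := by positivity
  have key : ∀ i j, i < p ^ 2 → j < p ^ 2 →
      ∑ n ∈ Finset.range (p ^ 2), q.coeff n * ((if i + j = n then (n.choose i : A) else 0) -
      (if i = n ∧ j = 0 then 1 else 0) - (if i = 0 ∧ j = n then 1 else 0)) = 0 := by
    intro i j hi hj
    rw [← coeff_D q (p ^ 2) hq i j]
    exact coeff_eq_zero_of_mem (p ^ 2) _ hD i j hi hj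
  -- constant coefficient
  have hc0 : q.coeff 0 = 0 := by
    have h := key 0 0 hpp hpp
    rw [Finset.sum_eq_single 0] at h
    · simpa using h
    · intro n _ hn
      have : ¬ (0 = n) := fun h => hn h.symm
      simp [this]
    · intro h0
      exact absurd (Finset.mem_range.mpr hpp) h0
  have hmain : ∀ i j, 1 ≤ i → 1 ≤ j → i + j < p ^ 2 →
      q.coeff (i + j) * ((i + j).choose i : A) = 0 := by
    intro i j hi hj hij
    have h := key i j (by omega) (by omega)
    rw [Finset.sum_eq_single (i + j)] at h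
    · have h1 : ¬ (j = 0) := by omega
      have h2 : ¬ (i = 0) := by omega
      simpa [h1, h2] using h
    · intro n _ hn
      have h0 : ¬ (i + j = n) := fun h => hn h.symm
      have h1 : ¬ (i = n ∧ j = 0) := by omega
      have h2 : ¬ (i = 0 ∧ j = n) := by omega
      simp [h0, h1, h2]
    · intro h0
      exact absurd (Finset.mem_range.mpr hij) h0
  have hzero : ∀ n, 2 ≤ n → n < p ^ 2 → n ≠ p → q.coeff n = 0 := by
    intro n hn2 hnp2 hnp
    by_cases hdvd : p ∣ n
    · obtain ⟨b, rfl⟩ := hdvd
      have hb2 : 2 ≤ b := by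
        rcases b with _ | _ | b
        · omega
        · omega
        · omega
      have hbp : b < p := by
        by_contra h
        push Not at h
        have : p * p ≤ p * b := Nat.mul_le_mul_left p h
        nlinarith
      have h := hmain p (p * (b - 1)) (by omega) (Nat.mul_pos (by omega) (by omega)) (by
        have : p + p * (b - 1) = p * b := by
          obtain ⟨c, rfl⟩ : ∃ c, b = c + 1 := ⟨b - 1, by omega⟩
          simp; ring
        rw [this]; exact hnp2)
      have e1 : p + p * (b - 1) = p * b := by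
        obtain ⟨c, rfl⟩ : ∃ c, b = c + 1 := ⟨b - 1, by omega⟩
        simp; ring
      rw [e1] at h
      have hL : (p * b).choose (p * 1) ≡ b.choose 1 [MOD p] := Choose.choose_mul_mul_modEq_choose_nat
      rw [mul_one, Nat.choose_one_right] at hL
      have hcast : (((p * b).choose p : ℕ) : A) = (b : A) := (CharP.natCast_eq_natCast A p).mpr hL
      rw [hcast] at h
      have hu : IsUnit (b : A) := (CharP.isUnit_natCast_iff hp.out).mpr (by
        intro hd
        have := Nat.le_of_dvd (by omega) hd
        omega)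
      exact (hu.mul_left_eq_zero).mp h
    · have h := hmain 1 (n - 1) le_rfl (by omega) (by omega)
      have e1 : 1 + (n - 1) = n := by omega
      rw [e1, Nat.choose_one_right] at h
      have hu : IsUnit (n : A) := (CharP.isUnit_natCast_iff hp.out).mpr hdvd
      exact (hu.mul_left_eq_zero).mp h
  refine ⟨q.coeff 1, q.coeff p, ?_⟩
  ext n
  rw [Polynomial.coeff_add, Polynomial.coeff_C_mul, Polynomial.coeff_C_mul, Polynomial.coeff_X,
    Polynomial.coeff_X_pow]
  by_cases h1 : n = 1
  · subst h1
    have : ¬ (1 = p) := by omega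
    simp [this]
  · by_cases hnp : n = p
    · subst hnp
      have : ¬ (1 = n) := fun h => h1 h.symm
      simp [this]
    · have h1' : ¬ (1 = n) := fun h => h1 h.symm
      simp only [h1', hnp, if_false, mul_zero, add_zero]
      by_cases hn0 : n = 0
      · subst hn0; exact hc0
      · by_cases hlt : n < p ^ 2
        · exact hzero n (by omega) hlt hnp
        · exact Polynomial.coeff_eq_zero_of_natDegree_lt (by omega)




theorem part1_backward (p : ℕ) [hp : Fact p.Prime] [CharP A p] (a₁ ap : A) :
    Polynomial.aeval (MvPolynomial.X 0 + MvPolynomial.X 1 : MvPolynomial (Fin 2) A)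
        (Polynomial.C a₁ * X + Polynomial.C ap * X ^ p) -
      Polynomial.aeval (MvPolynomial.X 0 : MvPolynomial (Fin 2) A)
        (Polynomial.C a₁ * X + Polynomial.C ap * X ^ p) -
      Polynomial.aeval (MvPolynomial.X 1 : MvPolynomial (Fin 2) A)
        (Polynomial.C a₁ * X + Polynomial.C ap * X ^ p) ∈
    Ideal.span ({MvPolynomial.X 0 ^ p ^ 2, MvPolynomial.X 1 ^ p ^ 2} :
      Set (MvPolynomial (Fin 2) A)) := by
  have : Polynomial.aeval (MvPolynomial.X 0 + MvPolynomial.X 1 : MvPolynomial (Fin 2) A)
        (Polynomial.C a₁ * X + Polynomial.C ap * X ^ p) -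
      Polynomial.aeval (MvPolynomial.X 0 : MvPolynomial (Fin 2) A)
        (Polynomial.C a₁ * X + Polynomial.C ap * X ^ p) -
      Polynomial.aeval (MvPolynomial.X 1 : MvPolynomial (Fin 2) A)
        (Polynomial.C a₁ * X + Polynomial.C ap * X ^ p) = 0 := by
    simp only [map_add, map_mul, aeval_C, aeval_X, map_pow]
    rw [add_pow_char]
    ring
  rw [this]
  exact Ideal.zero_mem _

section part2

variable (p : ℕ) [hp : Fact p.Prime] [CharP A p]

local notation "I" => Ideal.span ({(X : A[X]) ^ p ^ 2} : Set A[X])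

theorem phi_mk (a₁ ap : A) (φ : (A[X] ⧸ I) →ₐ[A] (A[X] ⧸ I))
    (hφ : φ (Ideal.Quotient.mk I X) = Ideal.Quotient.mk I (Polynomial.C a₁ * X + Polynomial.C ap * X ^ p))
    (r : A[X]) :
    φ (Ideal.Quotient.mk I r) =
      Ideal.Quotient.mk I (r.comp (Polynomial.C a₁ * X + Polynomial.C ap * X ^ p)) := by
  have h1 : ∀ s : A[X], Ideal.Quotient.mk I s = Polynomial.aeval (Ideal.Quotient.mk I X) s := by
    intro s
    have := Polynomial.aeval_algHom_apply (Ideal.Quotient.mkₐ A I) (X : A[X]) s
    rw [Polynomial.aeval_X_left_apply] at this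
    exact this.symm
  rw [h1 r, ← Polynomial.aeval_algHom_apply, hφ, comp_eq_aeval]
  have := Polynomial.aeval_algHom_apply (Ideal.Quotient.mkₐ A I)
    (Polynomial.C a₁ * X + Polynomial.C ap * X ^ p) r
  exact this

theorem part2 (a₁ ap : A) (φ : (A[X] ⧸ I) →ₐ[A] (A[X] ⧸ I))
    (hφ : φ (Ideal.Quotient.mk I X) = Ideal.Quotient.mk I (Polynomial.C a₁ * X + Polynomial.C ap * X ^ p)) :
    Function.Bijective φ ↔ IsUnit a₁ := by
  have hp2 : 2 ≤ p := hp.out.two_le
  constructor
  · rintro ⟨-, hsurj⟩
    obtain ⟨z, hz⟩ := hsurj (Ideal.Quotient.mk I X)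
    obtain ⟨r, rfl⟩ := Ideal.Quotient.mk_surjective z
    rw [phi_mk p a₁ ap φ hφ r, Ideal.Quotient.eq, Ideal.mem_span_singleton] at hz
    obtain ⟨t, ht⟩ := hz
    have hd := congrArg (fun s => Polynomial.eval 0 (Polynomial.derivative s)) ht
    simp only [Polynomial.derivative_sub, Polynomial.derivative_comp, Polynomial.derivative_X,
      Polynomial.eval_sub, Polynomial.eval_mul, Polynomial.eval_one, Polynomial.derivative_mul,
      Polynomial.derivative_X_pow, Polynomial.eval_add, Polynomial.eval_pow, Polynomial.eval_X,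
      Polynomial.derivative_add, Polynomial.derivative_C, Polynomial.eval_C, zero_mul,
      Polynomial.eval_zero, zero_add] at hd
    have h0 : (0 : A) ^ (p ^ 2) = 0 := zero_pow (by positivity)
    have h1 : (0 : A) ^ (p ^ 2 - 1) = 0 := zero_pow (by
      have : 4 ≤ p ^ 2 := by nlinarith
      omega)
    have h2 : (0 : A) ^ (p - 1) = 0 := zero_pow (by omega)
    rw [h0, h1, h2] at hd
    simp only [mul_zero, zero_mul, add_zero, Polynomial.eval_natCast] at hd
    rw [mul_one] at hd; exact IsUnit.of_mul_eq_one _ (sub_eq_zero.mp hd)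
  · intro hu
    obtain ⟨u, hu1⟩ := hu.exists_right_inv
    have hsurj : Function.Surjective φ := by
      -- `X` is in the range
      let s : A[X] := Polynomial.C u * X - Polynomial.C (u * ap * u ^ p) * X ^ p
      have hs : φ (Ideal.Quotient.mk I s) = Ideal.Quotient.mk I X := by
        rw [phi_mk p a₁ ap φ hφ s, Ideal.Quotient.eq, Ideal.mem_span_singleton]
        refine ⟨- Polynomial.C (u * ap * u ^ p * ap ^ p), ?_⟩
        simp only [s, Polynomial.sub_comp, Polynomial.mul_comp, Polynomial.C_comp, Polynomial.X_comp,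
          Polynomial.pow_comp]
        rw [add_pow_char, mul_pow, mul_pow, ← pow_mul, ← Polynomial.C_pow, ← Polynomial.C_pow]
        have e1 : Polynomial.C u * Polynomial.C a₁ = (1 : A[X]) := by
          rw [← Polynomial.C_mul, mul_comm, hu1, Polynomial.C_1]
        have e2 : Polynomial.C (u ^ p) * Polynomial.C (a₁ ^ p) = (1 : A[X]) := by
          rw [← Polynomial.C_mul, ← mul_pow, mul_comm, hu1, one_pow, Polynomial.C_1]
        have e3 : p * p = p ^ 2 := by ring
        rw [e3]
        simp only [Polynomial.C_mul, Polynomial.C_pow] at e2 ⊢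
        linear_combination (X : A[X]) * e1 - (Polynomial.C u * Polynomial.C ap * X ^ p) * e2
      intro z
      obtain ⟨r, rfl⟩ := Ideal.Quotient.mk_surjective z
      have h1 : Ideal.Quotient.mk I r = Polynomial.aeval (Ideal.Quotient.mk I X) r := by
        have := Polynomial.aeval_algHom_apply (Ideal.Quotient.mkₐ A I) (X : A[X]) r
        rw [Polynomial.aeval_X_left_apply] at this
        exact this.symm
      refine ⟨Polynomial.aeval (Ideal.Quotient.mk I s) r, ?_⟩
      rw [← Polynomial.aeval_algHom_apply, hs, ← h1]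
    haveI : Module.Finite A (A[X] ⧸ I) := (Polynomial.monic_X_pow (p ^ 2)).finite_quotient
    exact ⟨OrzechProperty.injective_of_surjective_endomorphism φ.toLinearMap hsurj, hsurj⟩

end part2


end helpers

open Polynomial in
/-- Let p be a prime and A a commutative ring of characteristic p, and consider the infinitesimal group
scheme Spec A[X]/(X^{p²}) with the additive group law. In coordinates: (1) a polynomial q ∈ A[X] of
degree less than p² satisfies q(Y + Z) − q(Y) − q(Z) ∈ (Y^{p²}, Z^{p²}) in A[Y, Z] (that is, X ↦ q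
respects the comultiplication) if and only if q = a₁ X + a_p X^p for some a₁, a_p ∈ A; (2) an
A-algebra endomorphism of A[X]/(X^{p²}) that sends the class of X to the class of a₁ X + a_p X^p is
bijective if and only if a₁ is a unit of A. (The printed statement is that the automorphism group
scheme of this group scheme is the semidirect product of the additive group by the multiplicative
group, v acting on u by v^{p−1}u; this row records the two computations it consists of, in
coordinates.) -/
theorem result (p : ℕ) [Fact p.Prime] (A : Type u) [CommRing A] [CharP A p] :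
    (∀ q : A[X], q.natDegree < p ^ 2 →
      (Polynomial.aeval (MvPolynomial.X 0 + MvPolynomial.X 1 : MvPolynomial (Fin 2) A) q -
            Polynomial.aeval (MvPolynomial.X 0 : MvPolynomial (Fin 2) A) q -
            Polynomial.aeval (MvPolynomial.X 1 : MvPolynomial (Fin 2) A) q ∈
          Ideal.span ({MvPolynomial.X 0 ^ p ^ 2, MvPolynomial.X 1 ^ p ^ 2} : Set (MvPolynomial (Fin 2) A)) ↔
        ∃ a₁ ap : A, q = Polynomial.C a₁ * X + Polynomial.C ap * X ^ p)) ∧
    (∀ (a₁ ap : A) (φ : (A[X] ⧸ Ideal.span ({X ^ p ^ 2} : Set A[X])) →ₐ[A] (A[X] ⧸ Ideal.span ({X ^ p ^ 2} : Set A[X]))),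
      φ (Ideal.Quotient.mk (Ideal.span ({X ^ p ^ 2} : Set A[X])) X) =
          Ideal.Quotient.mk (Ideal.span ({X ^ p ^ 2} : Set A[X])) (Polynomial.C a₁ * X + Polynomial.C ap * X ^ p) →
        (Function.Bijective φ ↔ IsUnit a₁)) := by
  refine ⟨fun q hq => ⟨fun h => part1_forward p q hq h, ?_⟩, fun a₁ ap φ hφ => part2 p a₁ ap φ hφ⟩
  rintro ⟨a₁, ap, rfl⟩
  exact part1_backward p a₁ ap

end Groth.Agent.S13099
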