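-- Statement S13100
import Groth.Statements.S13100
import Mathlib.Tactic
import Mathlib.RingTheory.Henselian
import Mathlib.RingTheory.AdicCompletion.Completeness

set_option autoImplicit false
universe u
open GrpSch

namespace Groth.Agent.S13100

open Polynomial in
/-- a power series with non-zero constant coefficient over an algebraically closed field of
characteristic not 2 is a square -/
theorem isSquare_powerSeries (k : Type u) [Field k] [IsAlgClosed k] (h2 : (2 : k) ≠ 0)
    (φ : PowerSeries k) (hφ : PowerSeries.constantCoeff φ ≠ 0) : IsSquare φ := by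
  obtain ⟨s, hs⟩ := IsAlgClosed.exists_pow_nat_eq (PowerSeries.constantCoeff φ) (n := 2) (by norm_num)
  have hs0 : s ≠ 0 := by
    rintro rfl
    apply hφ
    rw [← hs]; ring
  have hH : HenselianRing (PowerSeries k) (Ideal.span {PowerSeries.X}) := inferInstance
  have hmonic : (X ^ 2 - C φ : (PowerSeries k)[X]).Monic := monic_X_pow_sub_C φ (by norm_num)
  have h1 : (X ^ 2 - C φ : (PowerSeries k)[X]).eval (PowerSeries.C s) ∈
      Ideal.span {(PowerSeries.X : PowerSeries k)} := by
    rw [eval_sub, eval_pow, eval_X, eval_C, Ideal.mem_span_singleton, PowerSeries.X_dvd_iff,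
      map_sub, map_pow, PowerSeries.constantCoeff_C, hs, sub_self]
  have h3 : IsUnit (Ideal.Quotient.mk (Ideal.span {(PowerSeries.X : PowerSeries k)})
      ((X ^ 2 - C φ : (PowerSeries k)[X]).derivative.eval (PowerSeries.C s))) := by
    apply IsUnit.map
    rw [derivative_sub, derivative_C, sub_zero, derivative_X_pow, eval_mul, eval_pow, eval_X,
      eval_C]
    have : IsUnit (PowerSeries.C (2 * s) : PowerSeries k) :=
      (IsUnit.mk0 _ (mul_ne_zero h2 hs0)).map PowerSeries.C
    convert this using 1
    rw [map_mul, map_ofNat]
    simp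
  obtain ⟨a, ha, -⟩ := hH.is_henselian (X ^ 2 - C φ) hmonic (PowerSeries.C s) h1 h3
  refine ⟨a, ?_⟩
  rw [IsRoot.def, eval_sub, eval_pow, eval_X, eval_C, sub_eq_zero] at ha
  rw [← ha, sq]

/-- Let k be an algebraically closed field of characteristic different from 2 and K = k((t)) the field
of Laurent series over k. Then a non-zero Laurent series f is a square in K if and only if its order
in t is even; consequently the group Kˣ/Kˣ² of non-zero elements modulo squares has exactly two
elements, represented by 1 and t. -/
theorem result (k : Type u) [Field k] [IsAlgClosed k] (h2 : (2 : k) ≠ 0)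
    (f : LaurentSeries k) (hf : f ≠ 0) : IsSquare f ↔ Even f.order := by
  constructor
  · rintro ⟨g, rfl⟩
    have hg : g ≠ 0 := fun h => hf (by rw [h, mul_zero])
    rw [HahnSeries.order_mul hg hg]
    exact ⟨_, rfl⟩
  · rintro ⟨m, hm⟩
    have hc : PowerSeries.constantCoeff f.powerSeriesPart ≠ 0 := by
      rw [← PowerSeries.coeff_zero_eq_constantCoeff_apply, LaurentSeries.powerSeriesPart_coeff,
        Nat.cast_zero, add_zero]
      exact fun h => hf (HahnSeries.coeff_order_eq_zero.mp h)
    obtain ⟨a, ha⟩ := isSquare_powerSeries k h2 _ hc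
    refine ⟨HahnSeries.single m 1 * (a : LaurentSeries k), ?_⟩
    conv_lhs => rw [← LaurentSeries.single_order_mul_powerSeriesPart f, ha, hm]
    rw [PowerSeries.coe_mul, ← one_mul (1 : k), ← HahnSeries.single_mul_single, one_mul]
    ring

end Groth.Agent.S13100
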