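import Groth.Statements.S13101
import Mathlib.Tactic
import Mathlib.LinearAlgebra.Determinant
import Mathlib.LinearAlgebra.Matrix.Determinant.Basic

set_option autoImplicit false
universe u v
open GrpSch

namespace Groth.Agent.S13101

/-- Let A be a commutative ring in which 2 is a unit, and L a Lie algebra over A, free as a module with
basis x = bs 0, y = bs 1, z = bs 2 and brackets [x,y] = y, [x,z] = y + z, [y,z] = 0. Then for every
Lie algebra automorphism φ of L over A there are b, c, h ∈ A and a unit i of A with φ(x) = x + b y +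
c z, φ(y) = i y and φ(z) = h y + i z. Only the form of an automorphism is stated, not that every map
of this form is one. (The published statement identifies the automorphism group scheme with a
semidirect product of two additive groups by the product of the multiplicative and additive group,
for algebras over a field of Laurent series of characteristic not 2, and deduces the vanishing of
its first cohomology; this row records the determination of the automorphisms, over any base ring
with 2 invertible; the cohomological consequence is not restated.) -/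
theorem result (A : Type u) [CommRing A] (h2 : IsUnit (2 : A))
    (L : Type v) [LieRing L] [LieAlgebra A L] (bs : Module.Basis (Fin 3) A L)
    (hxy : ⁅bs 0, bs 1⁆ = bs 1) (hxz : ⁅bs 0, bs 2⁆ = bs 1 + bs 2) (hyz : ⁅bs 1, bs 2⁆ = 0)
    (φ : L ≃ₗ⁅A⁆ L) :
    ∃ b c h i : A, IsUnit i ∧ φ (bs 0) = bs 0 + b • bs 1 + c • bs 2 ∧ φ (bs 1) = i • bs 1 ∧
      φ (bs 2) = h • bs 1 + i • bs 2 := by
  have hyx : ⁅bs 1, bs 0⁆ = -bs 1 := by rw [← lie_skew, hxy]
  have hzx : ⁅bs 2, bs 0⁆ = -(bs 1 + bs 2) := by rw [← lie_skew, hxz]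
  have hzy : ⁅bs 2, bs 1⁆ = 0 := by rw [← lie_skew, hyz, neg_zero]
  obtain ⟨a, b, c, hx⟩ : ∃ a b c : A, φ (bs 0) = a • bs 0 + b • bs 1 + c • bs 2 := by
    refine ⟨bs.repr (φ (bs 0)) 0, bs.repr (φ (bs 0)) 1, bs.repr (φ (bs 0)) 2, ?_⟩
    have := bs.sum_repr (φ (bs 0)); rw [Fin.sum_univ_three] at this; exact this.symm
  obtain ⟨d, e, f, hy⟩ : ∃ a b c : A, φ (bs 1) = a • bs 0 + b • bs 1 + c • bs 2 := by
    refine ⟨bs.repr (φ (bs 1)) 0, bs.repr (φ (bs 1)) 1, bs.repr (φ (bs 1)) 2, ?_⟩
    have := bs.sum_repr (φ (bs 1)); rw [Fin.sum_univ_three] at this; exact this.symm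
  obtain ⟨g, h, i, hz⟩ : ∃ a b c : A, φ (bs 2) = a • bs 0 + b • bs 1 + c • bs 2 := by
    refine ⟨bs.repr (φ (bs 2)) 0, bs.repr (φ (bs 2)) 1, bs.repr (φ (bs 2)) 2, ?_⟩
    have := bs.sum_repr (φ (bs 2)); rw [Fin.sum_univ_three] at this; exact this.symm
  have e1 : φ ⁅bs 0, bs 1⁆ = ⁅φ (bs 0), φ (bs 1)⁆ := LieEquiv.map_lie φ _ _
  have e2 : φ ⁅bs 0, bs 2⁆ = ⁅φ (bs 0), φ (bs 2)⁆ := LieEquiv.map_lie φ _ _
  rw [hxy, hx, hy] at e1
  rw [hxz, map_add, hy, hz, hx] at e2
  have h01 : (0 : Fin 3) ≠ 1 := by decide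
  have h02 : (0 : Fin 3) ≠ 2 := by decide
  have h12 : (1 : Fin 3) ≠ 2 := by decide
  have e10 := congrArg (fun v => bs.repr v 0) e1
  have e11 := congrArg (fun v => bs.repr v 1) e1
  have e12 := congrArg (fun v => bs.repr v 2) e1
  have e20 := congrArg (fun v => bs.repr v 0) e2
  have e21 := congrArg (fun v => bs.repr v 1) e2
  have e22 := congrArg (fun v => bs.repr v 2) e2
  simp [lie_add, add_lie, lie_smul, smul_lie, hxy, hxz, hyz, hyx, hzx, hzy,
    Finsupp.single_apply, h01, h02, h12, h01.symm, h02.symm, h12.symm] at e10 e11 e12 e20 e21 e22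
  subst e10
  have hg : g = 0 := by simpa using e20
  subst hg
  have hdet := LinearEquiv.isUnit_det (φ : L ≃ₗ[A] L) bs bs
  rw [Matrix.det_fin_three] at hdet
  simp only [LinearMap.toMatrix_apply] at hdet
  have hx' : (φ : L ≃ₗ[A] L) (bs 0) = a • bs 0 + b • bs 1 + c • bs 2 := hx
  have hy' : (φ : L ≃ₗ[A] L) (bs 1) = (0 : A) • bs 0 + e • bs 1 + f • bs 2 := hy
  have hz' : (φ : L ≃ₗ[A] L) (bs 2) = (0 : A) • bs 0 + h • bs 1 + i • bs 2 := hz
  simp only [LinearEquiv.coe_coe, hx', hy', hz'] at hdet
  simp [h01, h02, h12, h01.symm, h02.symm, h12.symm] at hdet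
  have F1 : (a - 1) * f = 0 := by linear_combination (-1) * e12
  have F2 : (a - 1) * e + f * a = 0 := by linear_combination (-1) * e11
  have F3 : f - (a - 1) * i = 0 := by linear_combination e22
  have F4 : e - (a - 1) * h - a * i = 0 := by linear_combination e21
  obtain ⟨u', hu'⟩ := hdet.exists_right_inv
  obtain ⟨t, ht⟩ := h2.exists_right_inv
  have S1 : (a - 1) ^ 2 * (a * e * i - a * h * f) = 0 := by
    linear_combination (a * (a - 1) * i) * F2 + (-a ^ 2 * i - a * h * (a - 1)) * F1
  have hn2 : (a - 1) ^ 2 = 0 := by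
    linear_combination (-(a - 1) ^ 2) * hu' + u' * S1
  have S2 : 2 * a * (a - 1) * i = 0 := by
    linear_combination F2 - (a - 1) * F4 - a * F3 - h * hn2
  have ha' : a * ((e * i - h * f) * u') = 1 := by linear_combination hu'
  have hni : (a - 1) * i = 0 := by
    linear_combination (t * ((e * i - h * f) * u')) * S2 - ((a - 1) * i) * ht
      - (2 * t * (a - 1) * i) * ha'
  have hf : f = 0 := by linear_combination F3 + hni
  have S3 : (a - 1) * (a * e * i - a * h * f) = 0 := by
    linear_combination (a * i) * F2 + (-a ^ 2 * i - a * h * (a - 1)) * hf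
  have hn : a - 1 = 0 := by
    linear_combination (-(a - 1)) * hu' + u' * S3
  have ha1 : a = 1 := by linear_combination hn
  have hei : e = i := by linear_combination F4 + (h + i) * hn
  have hi : IsUnit i := by
    have : a * e * i - a * h * f = i * i := by
      rw [ha1, hei, hf]; ring
    rw [this] at hdet
    exact isUnit_of_mul_isUnit_left hdet
  refine ⟨b, c, h, i, hi, ?_, ?_, ?_⟩
  · rw [hx, ha1, one_smul]
  · rw [hy, hei, hf, zero_smul, zero_smul, zero_add, add_zero]
  · rw [hz, zero_smul, zero_add]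
end Groth.Agent.S13101
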