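import Groth.Statements.S13102
import Mathlib.Tactic
import Mathlib.LinearAlgebra.Determinant
import Mathlib.LinearAlgebra.Matrix.Determinant.Basic

set_option autoImplicit false
universe u v w
open GrpSch

namespace Groth.Agent.S13102

/-- Let K be a field, α ∈ K, A a commutative K-algebra and L a Lie algebra over A which is free as an
A-module with basis x = bs 0, y = bs 1, z = bs 2 and brackets [x,y] = y, [x,z] = α z, [y,z] = 0. If
α² ≠ 1 then every Lie algebra automorphism φ of L over A satisfies φ(x) = x + b y + c z, φ(y) = e y,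
φ(z) = i z for some b, c ∈ A and units e, i of A. If α = 1 then every such φ satisfies φ(x) = x + b
y + c z, φ(y) = e y + f z, φ(z) = h y + i z with e i − f h a unit of A. (The printed statement
identifies the automorphism group schemes with the corresponding semidirect products, treats also α
= −1 in characteristic not 2, and computes first cohomology over a field of Laurent series; those
clauses are not restated here.) -/
theorem result (K : Type u) [Field K] (α : K) (A : Type v) [CommRing A] [Algebra K A]
    (L : Type w) [LieRing L] [LieAlgebra A L] (bs : Module.Basis (Fin 3) A L)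
    (hxy : ⁅bs 0, bs 1⁆ = bs 1) (hxz : ⁅bs 0, bs 2⁆ = algebraMap K A α • bs 2) (hyz : ⁅bs 1, bs 2⁆ = 0)
    (φ : L ≃ₗ⁅A⁆ L) :
    (α ^ 2 ≠ 1 → ∃ b c e i : A, IsUnit e ∧ IsUnit i ∧ φ (bs 0) = bs 0 + b • bs 1 + c • bs 2 ∧
        φ (bs 1) = e • bs 1 ∧ φ (bs 2) = i • bs 2) ∧
    (α = 1 → ∃ b c e f h i : A, IsUnit (e * i - f * h) ∧ φ (bs 0) = bs 0 + b • bs 1 + c • bs 2 ∧
        φ (bs 1) = e • bs 1 + f • bs 2 ∧ φ (bs 2) = h • bs 1 + i • bs 2) := by
  have hyx : ⁅bs 1, bs 0⁆ = -bs 1 := by rw [← lie_skew, hxy]
  have hzx : ⁅bs 2, bs 0⁆ = -(algebraMap K A α • bs 2) := by rw [← lie_skew, hxz]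
  have hzy : ⁅bs 2, bs 1⁆ = 0 := by rw [← lie_skew, hyz, neg_zero]
  obtain ⟨a, b, c, hx⟩ : ∃ a b c : A, φ (bs 0) = a • bs 0 + b • bs 1 + c • bs 2 := by
    refine ⟨bs.repr (φ (bs 0)) 0, bs.repr (φ (bs 0)) 1, bs.repr (φ (bs 0)) 2, ?_⟩
    have := bs.sum_repr (φ (bs 0)); rw [Fin.sum_univ_three] at this; exact this.symm
  obtain ⟨d, e, f, hy⟩ : ∃ a b c : A, φ (bs 1) = a • bs 0 + b • bs 1 + c • bs 2 := by
    refine ⟨bs.repr (φ (bs 1)) 0, bs.repr (φ (bs 1)) 1, bs.repr (φ (bs 1)) 2, ?_⟩
    have := bs.sum_repr (φ (bs 1)); rw [Fin.sum_univ_three] at this; exact this.symm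
  obtain ⟨g, h, i, hz⟩ : ∃ a b c : A, φ (bs 2) = a • bs 0 + b • bs 1 + c • bs 2 := by
    refine ⟨bs.repr (φ (bs 2)) 0, bs.repr (φ (bs 2)) 1, bs.repr (φ (bs 2)) 2, ?_⟩
    have := bs.sum_repr (φ (bs 2)); rw [Fin.sum_univ_three] at this; exact this.symm
  have e1 : φ ⁅bs 0, bs 1⁆ = ⁅φ (bs 0), φ (bs 1)⁆ := LieEquiv.map_lie φ _ _
  have e2 : φ ⁅bs 0, bs 2⁆ = ⁅φ (bs 0), φ (bs 2)⁆ := LieEquiv.map_lie φ _ _
  have e3 : φ ⁅bs 1, bs 2⁆ = ⁅φ (bs 1), φ (bs 2)⁆ := LieEquiv.map_lie φ _ _
  rw [hxy, hx, hy] at e1
  rw [hxz, map_smul, hz, hx] at e2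
  rw [hyz, map_zero, hy, hz] at e3
  have h01 : (0 : Fin 3) ≠ 1 := by decide
  have h02 : (0 : Fin 3) ≠ 2 := by decide
  have h12 : (1 : Fin 3) ≠ 2 := by decide
  have e10 := congrArg (fun v => bs.repr v 0) e1
  have e11 := congrArg (fun v => bs.repr v 1) e1
  have e12 := congrArg (fun v => bs.repr v 2) e1
  have e20 := congrArg (fun v => bs.repr v 0) e2
  have e21 := congrArg (fun v => bs.repr v 1) e2
  have e22 := congrArg (fun v => bs.repr v 2) e2
  have e31 := congrArg (fun v => bs.repr v 1) e3
  have e32 := congrArg (fun v => bs.repr v 2) e3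
  generalize hα' : algebraMap K A α = α' at *
  simp [lie_add, add_lie, lie_smul, smul_lie, hxy, hxz, hyz, hyx, hzx, hzy,
    h01, h02, h12, h01.symm, h02.symm, h12.symm] at e10 e11 e12 e20 e21 e22 e31 e32
  subst e10
  have hdet := LinearEquiv.isUnit_det (φ : L ≃ₗ[A] L) bs bs
  rw [Matrix.det_fin_three] at hdet
  simp only [LinearMap.toMatrix_apply] at hdet
  have hx' : (φ : L ≃ₗ[A] L) (bs 0) = a • bs 0 + b • bs 1 + c • bs 2 := hx
  have hy' : (φ : L ≃ₗ[A] L) (bs 1) = (0 : A) • bs 0 + e • bs 1 + f • bs 2 := hy
  have hz' : (φ : L ≃ₗ[A] L) (bs 2) = g • bs 0 + h • bs 1 + i • bs 2 := hz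
  simp only [LinearEquiv.coe_coe, hx', hy', hz'] at hdet
  simp [h01, h02, h12, h01.symm, h02.symm, h12.symm] at hdet
  have E11 : e * (a - 1) = 0 := by linear_combination (-1) * e11
  have E12 : f = f * a * α' := by linear_combination e12
  have E20 : α' * g = 0 := e20
  have E21 : α' * h = -(g * b) + h * a := by linear_combination e21
  have E22 : α' * i = -(g * c * α') + i * a * α' := by linear_combination e22
  have E31 : g * e = 0 := by linear_combination e31
  refine ⟨?_, ?_⟩
  · intro hα2
    by_cases hα : α = 0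
    · have hα0 : α' = 0 := by rw [← hα', hα, map_zero]
      have hf : f = 0 := by rw [E12, hα0, mul_zero]
      have hdet' : IsUnit (e * (a * i - g * c)) := by
        have : a * e * i - a * h * f + g * b * f - g * e * c = e * (a * i - g * c) := by
          rw [hf]; ring
        rwa [this] at hdet
      have he : IsUnit e := isUnit_of_mul_isUnit_left hdet'
      have hg : g = 0 := (he.mul_left_eq_zero).mp E31
      have hai : IsUnit (a * i) := by
        have h1 := isUnit_of_mul_isUnit_right hdet'
        rwa [hg, zero_mul, sub_zero] at h1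
      have ha1 : a = 1 := by
        have := (he.mul_right_eq_zero).mp E11
        linear_combination this
      have hh : h = 0 := by
        have := E21
        rw [hα0, hg, ha1] at this
        linear_combination (-1) * this
      have hi : IsUnit i := isUnit_of_mul_isUnit_right hai
      refine ⟨b, c, e, i, he, hi, ?_, ?_, ?_⟩
      · rw [hx, ha1, one_smul]
      · rw [hy, hf, zero_smul, zero_smul, zero_add, add_zero]
      · rw [hz, hg, hh, zero_smul, zero_smul, zero_add, zero_add]
    · have hαu : IsUnit α' := hα' ▸ (IsUnit.mk0 α hα).map (algebraMap K A)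
      have hα1 : α ≠ 1 := by
        rintro rfl
        exact hα2 (one_pow 2)
      have hαu1 : IsUnit (1 - α') := by
        have : IsUnit (1 - α) := IsUnit.mk0 _ (sub_ne_zero.mpr (Ne.symm hα1))
        have := this.map (algebraMap K A)
        rwa [map_sub, map_one, hα'] at this
      have hαu2 : IsUnit (1 - α' ^ 2) := by
        have : IsUnit (1 - α ^ 2) := IsUnit.mk0 _ (sub_ne_zero.mpr (Ne.symm hα2))
        have := this.map (algebraMap K A)
        rwa [map_sub, map_one, map_pow, hα'] at this
      have hg : g = 0 := (hαu.mul_right_eq_zero).mp E20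
      have hdet' : IsUnit (a * (e * i - h * f)) := by
        have : a * e * i - a * h * f + g * b * f - g * e * c = a * (e * i - h * f) := by
          rw [hg]; ring
        rwa [this] at hdet
      have ha : IsUnit a := isUnit_of_mul_isUnit_left hdet'
      have hD : IsUnit (e * i - h * f) := isUnit_of_mul_isUnit_right hdet'
      have E21' : α' * h = h * a := by rw [E21, hg]; ring
      have hhf : h * f = 0 := by
        have : (1 - α' ^ 2) * (h * f) = 0 := by
          linear_combination h * E12 - (f * α') * E21'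
        exact (hαu2.mul_right_eq_zero).mp this
      have ha1 : a = 1 := by
        have : (e * i - h * f) * (a - 1) = 0 := by
          linear_combination i * E11 - (a - 1) * hhf
        have := (hD.mul_right_eq_zero).mp this
        linear_combination this
      have hf : f = 0 := by
        have : (1 - α') * f = 0 := by
          have := E12
          rw [ha1] at this
          linear_combination this
        exact (hαu1.mul_right_eq_zero).mp this
      have hh : h = 0 := by
        have : (1 - α') * h = 0 := by
          have := E21'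
          rw [ha1] at this
          linear_combination (-1) * this
        exact (hαu1.mul_right_eq_zero).mp this
      have hei : IsUnit (e * i) := by
        have := hD
        rwa [hh, zero_mul, sub_zero] at this
      refine ⟨b, c, e, i, isUnit_of_mul_isUnit_left hei, isUnit_of_mul_isUnit_right hei, ?_, ?_, ?_⟩
      · rw [hx, ha1, one_smul]
      · rw [hy, hf, zero_smul, zero_smul, zero_add, add_zero]
      · rw [hz, hg, hh, zero_smul, zero_smul, zero_add, zero_add]
  · intro hα
    have hα1 : α' = 1 := by rw [← hα', hα, map_one]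
    have hg : g = 0 := by
      have := E20
      rwa [hα1, one_mul] at this
    have hdet' : IsUnit (a * (e * i - f * h)) := by
      have : a * e * i - a * h * f + g * b * f - g * e * c = a * (e * i - f * h) := by
        rw [hg]; ring
      rwa [this] at hdet
    have hD : IsUnit (e * i - f * h) := isUnit_of_mul_isUnit_right hdet'
    have ha1 : a = 1 := by
      have : (e * i - f * h) * (a - 1) = 0 := by
        have h2 := E21
        rw [hα1, hg] at h2
        linear_combination i * E11 + f * h2
      have := (hD.mul_right_eq_zero).mp this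
      linear_combination this
    refine ⟨b, c, e, f, h, i, hD, ?_, ?_, ?_⟩
    · rw [hx, ha1, one_smul]
    · rw [hy, zero_smul, zero_add]
    · rw [hz, hg, zero_smul, zero_add]
end Groth.Agent.S13102
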