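import Groth.Statements.S13104
import Groth.Agent.Lib.Helper67.SpecEpi
import Mathlib.Tactic

set_option autoImplicit false
universe u
open GrpSch

namespace Groth.Agent.S13104

open CategoryTheory AlgebraicGeometry Groth.Agent.Lib.Helper67 TrivSqZeroExt

section aux

variable (B : Type u) [CommRing B]
    (ψ : DualNumber B →+* DualNumber (DualNumber B))
    (hψB : ∀ b : B, ψ (algebraMap B (DualNumber B) b) = algebraMap B (DualNumber (DualNumber B)) b)
    (hψ : ψ DualNumber.eps = algebraMap (DualNumber B) (DualNumber (DualNumber B)) DualNumber.eps * DualNumber.eps)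

include hψB hψ in
lemma psi_eq (x : DualNumber B) :
    ψ x = inl (inl x.fst) + inr (inr x.snd) := by
  have hx : x = algebraMap B (DualNumber B) x.fst +
      algebraMap B (DualNumber B) x.snd * DualNumber.eps := by
    ext
    · simp only [fst_add, fst_mul, DualNumber.fst_eps, mul_zero, add_zero,
        TrivSqZeroExt.algebraMap_eq_inl, fst_inl]
    · simp only [snd_add, snd_mul, DualNumber.snd_eps, DualNumber.fst_eps,
        TrivSqZeroExt.algebraMap_eq_inl, fst_inl, snd_inl]
      simp
  conv_lhs => rw [hx]
  rw [map_add, map_mul, hψB, hψB, hψ]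
  have h1 : ∀ b : B, algebraMap B (DualNumber (DualNumber B)) b = inl (inl b) := fun _ => rfl
  have h2 : ∀ y : DualNumber B, algebraMap (DualNumber B) (DualNumber (DualNumber B)) y = inl y :=
    fun _ => rfl
  rw [h1, h1, h2]
  congr 1
  ext
  · simp only [fst_mul, fst_inl, DualNumber.fst_eps, mul_zero, fst_inr]
  · simp only [fst_mul, fst_inl, DualNumber.fst_eps, mul_zero, fst_inr]
  · simp only [fst_mul, fst_inl, DualNumber.fst_eps, mul_zero, fst_inr, snd_mul, snd_inl,
      DualNumber.snd_eps, snd_inr]
    simp
  · simp only [fst_mul, fst_inl, DualNumber.fst_eps, mul_zero, fst_inr, snd_mul, snd_inl,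
      DualNumber.snd_eps, snd_inr]
    simp

end aux

open CategoryTheory AlgebraicGeometry in
/-- Let B be a commutative ring, B[ε] the ring of dual numbers (ε² = 0) and B[α, β]/(α², β²) the double
dual numbers, realised as dual numbers over the dual numbers with α the inner and β the outer
generator, and let ψ : B[ε] → B[α, β]/(α², β²) be the B-algebra homomorphism with ψ(ε) = αβ. Then
for every scheme G the map u ↦ Spec(ψ) ≫ u from morphisms Spec B[ε] → G to morphisms Spec
B[α,β]/(α²,β²) → G is injective. (The printed statement is its consequence for a group scheme G: the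
map Lie(G)(B) → G(B[α,β]/(α²,β²)), x ↦ exp(αβ x), is injective; the injectivity on all B[ε]-points
stated here is what the printed argument establishes.) -/
theorem result (B : Type u) [CommRing B]
    (ψ : DualNumber B →+* DualNumber (DualNumber B))
    (hψB : ∀ b : B, ψ (algebraMap B (DualNumber B) b) = algebraMap B (DualNumber (DualNumber B)) b)
    (hψ : ψ DualNumber.eps = algebraMap (DualNumber B) (DualNumber (DualNumber B)) DualNumber.eps * DualNumber.eps)
    (G : Scheme.{u}) :
    Function.Injective (fun u : Spec (CommRingCat.of (DualNumber B)) ⟶ G =>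
      Spec.map (CommRingCat.ofHom (R := DualNumber B) (S := DualNumber (DualNumber B)) ψ) ≫ u) := by
  have hpsi := psi_eq B ψ hψB hψ
  -- square-zero elements lie in every prime
  have hnilR : ∀ (P : Ideal (DualNumber B)) [P.IsPrime] (m : B), (inr m : DualNumber B) ∈ P := by
    intro P _ m
    apply Ideal.IsPrime.mem_of_pow_mem ‹P.IsPrime› 2
    rw [pow_two, inr_mul_inr]
    exact P.zero_mem
  have hnilS : ∀ (Q : Ideal (DualNumber (DualNumber B))) [Q.IsPrime] (m : DualNumber B),
      (inr m : DualNumber (DualNumber B)) ∈ Q := by
    intro Q _ m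
    apply Ideal.IsPrime.mem_of_pow_mem ‹Q.IsPrime› 2
    rw [pow_two, inr_mul_inr]
    exact Q.zero_mem
  have hnilS' : ∀ (Q : Ideal (DualNumber (DualNumber B))) [Q.IsPrime] (m : B),
      (inl (inr m) : DualNumber (DualNumber B)) ∈ Q := by
    intro Q _ m
    apply Ideal.IsPrime.mem_of_pow_mem ‹Q.IsPrime› 2
    rw [pow_two, ← inl_mul, inr_mul_inr, inl_zero]
    exact Q.zero_mem
  have hepi : Epi (Spec.map (CommRingCat.ofHom (R := DualNumber B)
      (S := DualNumber (DualNumber B)) ψ)) := by
    apply epi_Spec_map
    · -- surjectivity on points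
      intro P
      let aug : DualNumber (DualNumber B) →+* B :=
        (fstHom B B B).toRingHom.comp
          (fstHom (DualNumber B) (DualNumber B) (DualNumber B)).toRingHom
      refine ⟨PrimeSpectrum.comap aug (PrimeSpectrum.comap (algebraMap B (DualNumber B)) P), ?_⟩
      apply PrimeSpectrum.ext
      ext x
      change algebraMap B (DualNumber B) (aug (ψ x)) ∈ P.asIdeal ↔ x ∈ P.asIdeal
      have haug : aug (ψ x) = x.fst := by
        rw [hpsi]
        simp [aug]
      rw [haug]
      have hx : x = inl x.fst + inr x.snd := (inl_fst_add_inr_snd_eq x).symm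
      have hin : (inr x.snd : DualNumber B) ∈ P.asIdeal := hnilR P.asIdeal x.snd
      constructor
      · intro h
        rw [hx]
        exact P.asIdeal.add_mem h hin
      · intro h
        have : (inl x.fst : DualNumber B) = x - inr x.snd := by
          rw [eq_sub_iff_add_eq]
          exact inl_fst_add_inr_snd_eq x
        change (inl x.fst : DualNumber B) ∈ P.asIdeal
        rw [this]
        exact P.asIdeal.sub_mem h hin
    · intro q
      apply localRingHom_injective
      rintro x ⟨t, htq, ht⟩
      change t * ψ x = 0 at ht
      rw [hpsi] at ht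
      have e1 := congrArg (fun z : DualNumber (DualNumber B) => z.fst.fst) ht
      have e2 := congrArg (fun z : DualNumber (DualNumber B) => z.snd.snd) ht
      simp only [fst_mul, snd_mul, fst_add, snd_add, fst_inl, snd_inl, fst_inr, snd_inr,
        smul_eq_mul, MulOpposite.smul_eq_mul_unop, MulOpposite.unop_op, fst_zero, snd_zero,
        mul_zero, zero_mul, add_zero, zero_add] at e1 e2
      refine ⟨inl (t.fst.fst ^ 2), ?_, ?_⟩
      · -- not in the prime
        change ψ (inl (t.fst.fst ^ 2)) ∉ q.asIdeal
        rw [hpsi]
        simp only [fst_inl, snd_inl, inr_zero, add_zero]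
        intro hmem
        rw [← inl_pow, ← inl_pow] at hmem
        have hmem' := Ideal.IsPrime.mem_of_pow_mem q.isPrime 2 hmem
        apply htq
        have ht' : t = inl (inl t.fst.fst) + inl (inr t.fst.snd) + inr t.snd := by
          rw [← inl_add, inl_fst_add_inr_snd_eq, inl_fst_add_inr_snd_eq]
        rw [ht']
        exact q.asIdeal.add_mem (q.asIdeal.add_mem hmem' (hnilS' q.asIdeal _))
          (hnilS q.asIdeal _)
      · ext
        · simp only [fst_mul, fst_inl, fst_zero]
          linear_combination t.fst.fst * e1
        · simp only [snd_mul, fst_inl, snd_inl, smul_eq_mul, MulOpposite.smul_eq_mul_unop,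
            MulOpposite.unop_op, snd_zero, mul_zero, zero_mul, add_zero]
          linear_combination t.fst.fst * e2 - t.snd.snd * e1
  intro u₁ u₂ h
  exact (cancel_epi _).mp h

end Groth.Agent.S13104
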