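import Groth.Statements.S13106
import Mathlib.AlgebraicGeometry.Morphisms.Separated
import Mathlib.AlgebraicGeometry.Morphisms.ClosedImmersion
import Mathlib.AlgebraicGeometry.IdealSheaf.Basic
import Mathlib.Tactic

set_option autoImplicit false
universe u
open GrpSch

namespace Groth.Agent.S13106

open CategoryTheory AlgebraicGeometry Limits

/-- The inclusion of a schematically dense open has trivial kernel. -/
lemma ker_ι_eq_bot {Y : Scheme.{u}} (U : Y.Opens) (hU : CInt.IsSchematicallyDense U) :
    U.ι.ker = ⊥ := by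
  rw [eq_bot_iff]
  intro V
  refine (U.ι.ideal_ker_le V).trans ?_
  intro s hs
  rw [RingHom.mem_ker, Scheme.Opens.ι_app] at hs
  have heq : U.ι ''ᵁ U.ι ⁻¹ᵁ V.1 = V.1 ⊓ U := by
    ext x
    simp only [Scheme.Hom.coe_image, Scheme.Hom.coe_preimage, Set.image_preimage_eq_inter_range,
      Scheme.Opens.range_ι, TopologicalSpace.Opens.coe_inf]
  have h1 : Y.presheaf.map (homOfLE (inf_le_left : V.1 ⊓ U ≤ V.1)).op s = 0 := by
    have h2 : Y.presheaf.map (homOfLE (inf_le_left : V.1 ⊓ U ≤ V.1)).op =
        Y.presheaf.map (homOfLE (x := U.ι ''ᵁ U.ι ⁻¹ᵁ V.1)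
          (Set.image_preimage_subset _ _)).op ≫
          Y.presheaf.map (eqToHom heq.symm).op := by
      rw [← Functor.map_comp]
      rfl
    rw [h2]
    have h3 := congrArg (Y.presheaf.map (eqToHom heq.symm).op).hom hs
    exact h3.trans (map_zero _)
  have := hU V.1 (h1.trans (map_zero _).symm)
  simpa using this

open CategoryTheory AlgebraicGeometry in
/-- Let f : X → Y be a morphism of schemes and U ⊆ Y a schematically dense open subscheme (for every
open V of Y, restriction of functions from V to V ∩ U is injective) such that the restriction f⁻¹(U)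
→ U of f is an isomorphism. Then two morphisms from Y to a scheme separated over a base T that agree
after composing with f and have the same composite to T are equal: if Z → T is separated and v₁, v₂
: Y → Z satisfy v₁ ≫ (Z → T) = v₂ ≫ (Z → T) and f ≫ v₁ = f ≫ v₂, then v₁ = v₂. (The published
statement is the case of a morphism between two prolongations over A[[t]] of a finite group scheme
over A((t)), where U is the generic fibre, schematically dense by flatness; uniqueness of
prolongation maps follows.) -/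
theorem result {X Y Z T : Scheme.{u}} (f : X ⟶ Y)
    (U : Y.Opens) (hU : CInt.IsSchematicallyDense U) [IsIso (f ∣_ U)]
    (z : Z ⟶ T) [IsSeparated z] (v₁ v₂ : Y ⟶ Z) (hz : v₁ ≫ z = v₂ ≫ z) (h : f ≫ v₁ = f ≫ v₂) :
    v₁ = v₂ := by
  -- `U.ι` equalizes `v₁`, `v₂`
  have hUι : U.ι ≫ v₁ = U.ι ≫ v₂ := by
    have h1 : U.ι = inv (f ∣_ U) ≫ (f ⁻¹ᵁ U).ι ≫ f := by
      rw [IsIso.eq_inv_comp, morphismRestrict_ι]
    rw [h1]
    simp only [Category.assoc]
    rw [h]
  let X' : Over T := Over.mk (v₁ ≫ z)
  let Y' : Over T := Over.mk z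
  let U' : Over T := Over.mk (U.ι ≫ v₁ ≫ z)
  let f' : X' ⟶ Y' := Over.homMk v₁
  let g' : X' ⟶ Y' := Over.homMk v₂ hz.symm
  let ι' : U' ⟶ X' := Over.homMk U.ι
  have hsep : IsSeparated Y'.hom := ‹_›
  have hι' : ι' ≫ f' = ι' ≫ g' := by
    ext1
    exact hUι
  have hfac : (equalizer.lift ι' hι').left ≫ (equalizer.ι f' g').left = U.ι := by
    rw [← Over.comp_left, equalizer.lift_ι]
    rfl
  have hker : (equalizer.ι f' g').left.ker = ⊥ := by
    rw [eq_bot_iff, ← ker_ι_eq_bot U hU, ← hfac]
    exact Scheme.Hom.le_ker_comp _ _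
  have hiso : IsIso (equalizer.ι f' g').left := IsClosedImmersion.isIso_iff_ker_eq_bot.mpr hker
  rw [← cancel_epi (equalizer.ι f' g').left]
  exact congr($(equalizer.condition f' g').left)

end Groth.Agent.S13106
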