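import Groth.Statements.S13107
import Mathlib.Tactic
import Mathlib.LinearAlgebra.Determinant
import Mathlib.LinearAlgebra.Matrix.Determinant.Basic
import Mathlib.RingTheory.LaurentSeries

set_option autoImplicit false
universe u v w
open GrpSch

namespace Groth.Agent.S13107

theorem single_one_mul_sq_ne_one (k : Type u) [Field k] (a : LaurentSeries k) :
    (HahnSeries.single 1 (1 : k) : LaurentSeries k) * a ^ 2 ≠ 1 := by
  intro h
  have ha : a ≠ 0 := by
    rintro rfl
    simp at h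
  have hT : (HahnSeries.single 1 (1 : k) : LaurentSeries k) ≠ 0 := by
    intro h0
    rw [h0, zero_mul] at h
    exact zero_ne_one h
  have h1 := congrArg HahnSeries.order h
  rw [HahnSeries.order_mul hT (pow_ne_zero 2 ha), pow_two, HahnSeries.order_mul ha ha,
    HahnSeries.order_single one_ne_zero, HahnSeries.order_one] at h1
  omega

/-- Let k be a field, K = k((t)) the field of Laurent series over k, F a Lie algebra over K with a basis
x' = bF 0, y' = bF 1, z' = bF 2 and brackets [x',y'] = z', [x',z'] = t y', [y',z'] = 0, and L a Lie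
algebra over K with a basis x = bL 0, y = bL 1, z = bL 2 and brackets [x,y] = y, [x,z] = −z, [y,z] =
0. Then there is no K-linear isomorphism of Lie algebras between L and F: F is a non-trivial form of
L over K. (The published result is the classification of three-dimensional Lie algebras over k((t))
for k algebraically closed of characteristic not 2, with F its only non-split entry; this row states
the non-isomorphism of F and L over k((t)) for every field k.) -/
theorem result (k : Type u) [Field k]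
    (F : Type v) [LieRing F] [LieAlgebra (LaurentSeries k) F] (bF : Module.Basis (Fin 3) (LaurentSeries k) F)
    (hF01 : ⁅bF 0, bF 1⁆ = bF 2) (hF02 : ⁅bF 0, bF 2⁆ = (HahnSeries.single 1 (1 : k) : LaurentSeries k) • bF 1)
    (hF12 : ⁅bF 1, bF 2⁆ = 0)
    (L : Type w) [LieRing L] [LieAlgebra (LaurentSeries k) L] (bL : Module.Basis (Fin 3) (LaurentSeries k) L)
    (hL01 : ⁅bL 0, bL 1⁆ = bL 1) (hL02 : ⁅bL 0, bL 2⁆ = -bL 2) (hL12 : ⁅bL 1, bL 2⁆ = 0) :
    IsEmpty (L ≃ₗ⁅LaurentSeries k⁆ F) := by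
  refine ⟨fun φ => ?_⟩
  have hT := single_one_mul_sq_ne_one k
  generalize (HahnSeries.single 1 (1 : k) : LaurentSeries k) = T at *
  have hF10 : ⁅bF 1, bF 0⁆ = -bF 2 := by rw [← lie_skew, hF01]
  have hF20 : ⁅bF 2, bF 0⁆ = -(T • bF 1) := by rw [← lie_skew, hF02]
  have hF21 : ⁅bF 2, bF 1⁆ = 0 := by rw [← lie_skew, hF12, neg_zero]
  have n01 : (0 : Fin 3) ≠ 1 := by decide
  have n02 : (0 : Fin 3) ≠ 2 := by decide
  have n12 : (1 : Fin 3) ≠ 2 := by decide
  obtain ⟨a, b, c, hx⟩ : ∃ a b c : LaurentSeries k, φ (bL 0) = a • bF 0 + b • bF 1 + c • bF 2 := by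
    refine ⟨bF.repr (φ (bL 0)) 0, bF.repr (φ (bL 0)) 1, bF.repr (φ (bL 0)) 2, ?_⟩
    have := bF.sum_repr (φ (bL 0)); rw [Fin.sum_univ_three] at this; exact this.symm
  obtain ⟨d, e, f, hy⟩ : ∃ a b c : LaurentSeries k, φ (bL 1) = a • bF 0 + b • bF 1 + c • bF 2 := by
    refine ⟨bF.repr (φ (bL 1)) 0, bF.repr (φ (bL 1)) 1, bF.repr (φ (bL 1)) 2, ?_⟩
    have := bF.sum_repr (φ (bL 1)); rw [Fin.sum_univ_three] at this; exact this.symm
  obtain ⟨g, h, i, hz⟩ : ∃ a b c : LaurentSeries k, φ (bL 2) = a • bF 0 + b • bF 1 + c • bF 2 := by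
    refine ⟨bF.repr (φ (bL 2)) 0, bF.repr (φ (bL 2)) 1, bF.repr (φ (bL 2)) 2, ?_⟩
    have := bF.sum_repr (φ (bL 2)); rw [Fin.sum_univ_three] at this; exact this.symm
  have e1 : φ ⁅bL 0, bL 1⁆ = ⁅φ (bL 0), φ (bL 1)⁆ := LieEquiv.map_lie φ _ _
  have e2 : φ ⁅bL 0, bL 2⁆ = ⁅φ (bL 0), φ (bL 2)⁆ := LieEquiv.map_lie φ _ _
  rw [hL01, hx, hy] at e1
  rw [hL02, map_neg, hz, hx] at e2
  have e10 := congrArg (fun v => bF.repr v 0) e1
  have e11 := congrArg (fun v => bF.repr v 1) e1
  have e12 := congrArg (fun v => bF.repr v 2) e1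
  have e20 := congrArg (fun v => bF.repr v 0) e2
  have e21 := congrArg (fun v => bF.repr v 1) e2
  have e22 := congrArg (fun v => bF.repr v 2) e2
  simp [lie_add, add_lie, lie_smul, smul_lie, hF01, hF02, hF12, hF10, hF20, hF21,
    n01, n02, n12, n01.symm, n02.symm, n12.symm] at e10 e11 e12 e20 e21 e22
  subst e10
  subst e20
  have hdet := LinearEquiv.isUnit_det (φ : L ≃ₗ[LaurentSeries k] F) bL bF
  rw [Matrix.det_fin_three] at hdet
  simp only [LinearMap.toMatrix_apply] at hdet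
  have hx' : (φ : L ≃ₗ[LaurentSeries k] F) (bL 0) = a • bF 0 + b • bF 1 + c • bF 2 := hx
  have hy' : (φ : L ≃ₗ[LaurentSeries k] F) (bL 1) =
      (0 : LaurentSeries k) • bF 0 + e • bF 1 + f • bF 2 := hy
  have hz' : (φ : L ≃ₗ[LaurentSeries k] F) (bL 2) =
      (0 : LaurentSeries k) • bF 0 + h • bF 1 + i • bF 2 := hz
  simp only [LinearEquiv.coe_coe, hx', hy', hz'] at hdet
  simp [n01, n02, n12, n01.symm, n02.symm, n12.symm] at hdet
  have hne : T * a ^ 2 - 1 ≠ 0 := sub_ne_zero.mpr (hT a)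
  have E1 : e * (T * a ^ 2 - 1) = 0 := by
    linear_combination (-1) * e11 - (a * T) * e12
  have E2 : h * (T * a ^ 2 - 1) = 0 := by
    linear_combination e21 - (a * T) * e22
  have he : e = 0 := (mul_eq_zero.mp E1).resolve_right hne
  have hh : h = 0 := (mul_eq_zero.mp E2).resolve_right hne
  apply hdet
  rw [he, hh]
  ring
end Groth.Agent.S13107
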