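import Groth.Statements.S13108
import Groth.Agent.Lib.Helper67.LieBasis
import Mathlib.Tactic
import Mathlib.LinearAlgebra.Determinant
import Mathlib.LinearAlgebra.Matrix.Determinant.Basic

set_option autoImplicit false
universe u v w
open GrpSch

namespace Groth.Agent.S13108

/-- Let k be a field and t, t' ∈ k both non-zero; let L be a Lie algebra over k with a basis x = b 0, y
= b 1, z = b 2 and brackets [x,y] = y, [x,z] = t z, [y,z] = 0, and L' a Lie algebra over k with a
basis x' = b' 0, y' = b' 1, z' = b' 2 and brackets [x',y'] = y', [x',z'] = t' z', [y',z'] = 0. Then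
L and L' are isomorphic Lie algebras over k if and only if t' = t or t' = t⁻¹. -/
theorem result (k : Type u) [Field k] (t t' : k) (ht : t ≠ 0) (ht' : t' ≠ 0)
    (L : Type v) [LieRing L] [LieAlgebra k L] (b : Module.Basis (Fin 3) k L)
    (h01 : ⁅b 0, b 1⁆ = b 1) (h02 : ⁅b 0, b 2⁆ = t • b 2) (h12 : ⁅b 1, b 2⁆ = 0)
    (L' : Type w) [LieRing L'] [LieAlgebra k L'] (b' : Module.Basis (Fin 3) k L')
    (h01' : ⁅b' 0, b' 1⁆ = b' 1) (h02' : ⁅b' 0, b' 2⁆ = t' • b' 2) (h12' : ⁅b' 1, b' 2⁆ = 0) :
    Nonempty (L ≃ₗ⁅k⁆ L') ↔ (t' = t ∨ t' = t⁻¹) := by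
  have h10 : ⁅b 1, b 0⁆ = -b 1 := by rw [← lie_skew, h01]
  have h20 : ⁅b 2, b 0⁆ = -(t • b 2) := by rw [← lie_skew, h02]
  have h21 : ⁅b 2, b 1⁆ = 0 := by rw [← lie_skew, h12, neg_zero]
  have h10' : ⁅b' 1, b' 0⁆ = -b' 1 := by rw [← lie_skew, h01']
  have h20' : ⁅b' 2, b' 0⁆ = -(t' • b' 2) := by rw [← lie_skew, h02']
  have h21' : ⁅b' 2, b' 1⁆ = 0 := by rw [← lie_skew, h12', neg_zero]
  have n01 : (0 : Fin 3) ≠ 1 := by decide
  have n02 : (0 : Fin 3) ≠ 2 := by decide
  have n12 : (1 : Fin 3) ≠ 2 := by decide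
  constructor
  · rintro ⟨φ⟩
    obtain ⟨a, bb, c, hx⟩ : ∃ a bb c : k, φ (b 0) = a • b' 0 + bb • b' 1 + c • b' 2 := by
      refine ⟨b'.repr (φ (b 0)) 0, b'.repr (φ (b 0)) 1, b'.repr (φ (b 0)) 2, ?_⟩
      have := b'.sum_repr (φ (b 0)); rw [Fin.sum_univ_three] at this; exact this.symm
    obtain ⟨d, e, f, hy⟩ : ∃ a bb c : k, φ (b 1) = a • b' 0 + bb • b' 1 + c • b' 2 := by
      refine ⟨b'.repr (φ (b 1)) 0, b'.repr (φ (b 1)) 1, b'.repr (φ (b 1)) 2, ?_⟩
      have := b'.sum_repr (φ (b 1)); rw [Fin.sum_univ_three] at this; exact this.symm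
    obtain ⟨g, h, i, hz⟩ : ∃ a bb c : k, φ (b 2) = a • b' 0 + bb • b' 1 + c • b' 2 := by
      refine ⟨b'.repr (φ (b 2)) 0, b'.repr (φ (b 2)) 1, b'.repr (φ (b 2)) 2, ?_⟩
      have := b'.sum_repr (φ (b 2)); rw [Fin.sum_univ_three] at this; exact this.symm
    have e1 : φ ⁅b 0, b 1⁆ = ⁅φ (b 0), φ (b 1)⁆ := LieEquiv.map_lie φ _ _
    have e2 : φ ⁅b 0, b 2⁆ = ⁅φ (b 0), φ (b 2)⁆ := LieEquiv.map_lie φ _ _
    rw [h01, hx, hy] at e1
    rw [h02, map_smul, hz, hx] at e2
    have e10 := congrArg (fun v => b'.repr v 0) e1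
    have e11 := congrArg (fun v => b'.repr v 1) e1
    have e12 := congrArg (fun v => b'.repr v 2) e1
    have e20 := congrArg (fun v => b'.repr v 0) e2
    have e21 := congrArg (fun v => b'.repr v 1) e2
    have e22 := congrArg (fun v => b'.repr v 2) e2
    simp [lie_add, add_lie, lie_smul, smul_lie, h01', h02', h12', h10', h20', h21',
      n01, n02, n12, n01.symm, n02.symm, n12.symm] at e10 e11 e12 e20 e21 e22
    subst e10
    have hg : g = 0 := by
      rcases e20 with h | h
      · exact absurd h ht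
      · exact h
    subst hg
    have hdet := LinearEquiv.isUnit_det (φ : L ≃ₗ[k] L') b b'
    rw [Matrix.det_fin_three] at hdet
    simp only [LinearMap.toMatrix_apply] at hdet
    have hx' : (φ : L ≃ₗ[k] L') (b 0) = a • b' 0 + bb • b' 1 + c • b' 2 := hx
    have hy' : (φ : L ≃ₗ[k] L') (b 1) = (0 : k) • b' 0 + e • b' 1 + f • b' 2 := hy
    have hz' : (φ : L ≃ₗ[k] L') (b 2) = (0 : k) • b' 0 + h • b' 1 + i • b' 2 := hz
    simp only [LinearEquiv.coe_coe, hx', hy', hz'] at hdet
    simp [n01, n02, n12, n01.symm, n02.symm, n12.symm] at hdet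
    have E11 : e * (a - 1) = 0 := by linear_combination (-1) * e11
    have E12 : f * (a * t' - 1) = 0 := by linear_combination (-1) * e12
    have E21 : h * (a - t) = 0 := by linear_combination (-1) * e21
    have E22 : i * (a * t' - t) = 0 := by linear_combination (-1) * e22
    by_cases hei : e * i = 0
    · have hhf : h * f ≠ 0 := by
        intro hhf
        apply hdet
        linear_combination a * hei - a * hhf
      have hh : h ≠ 0 := left_ne_zero_of_mul hhf
      have hf : f ≠ 0 := right_ne_zero_of_mul hhf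
      have ha : a = t := by
        have := (mul_eq_zero.mp E21).resolve_left hh
        linear_combination this
      have h1 : t * t' = 1 := by
        have := (mul_eq_zero.mp E12).resolve_left hf
        rw [ha] at this
        linear_combination this
      right
      exact eq_inv_of_mul_eq_one_right h1
    · have he : e ≠ 0 := left_ne_zero_of_mul hei
      have hi : i ≠ 0 := right_ne_zero_of_mul hei
      have ha : a = 1 := by
        have := (mul_eq_zero.mp E11).resolve_left he
        linear_combination this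
      left
      have := (mul_eq_zero.mp E22).resolve_left hi
      rw [ha] at this
      linear_combination this
  · rintro (rfl | rfl)
    · let e : L ≃ₗ[k] L' := b.equiv b' (Equiv.refl _)
      have he : ∀ i, e (b i) = b' i := fun i => by simp [e]
      refine ⟨Groth.Agent.Lib.Helper67.lieEquivOfBasis b e ?_⟩
      intro i j
      fin_cases i <;> fin_cases j <;>
        simp [he, h01, h02, h12, h10, h20, h21, h01', h02', h12', h10', h20', h21']
    · let F : L →ₗ[k] L' := b.constr k ![t • b' 0, b' 2, b' 1]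
      let G : L' →ₗ[k] L := b'.constr k ![t⁻¹ • b 0, b 2, b 1]
      have hF0 : F (b 0) = t • b' 0 := by simp [F]
      have hF1 : F (b 1) = b' 2 := by simp [F]
      have hF2 : F (b 2) = b' 1 := by simp [F]
      have hG0 : G (b' 0) = t⁻¹ • b 0 := by simp [G]
      have hG1 : G (b' 1) = b 2 := by simp [G]
      have hG2 : G (b' 2) = b 1 := by simp [G]
      let e : L ≃ₗ[k] L' := LinearEquiv.ofLinearMap F G
        (b'.ext fun i => by
          fin_cases i <;> simp [hF0, hF1, hF2, hG0, hG1, hG2, ht])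
        (b.ext fun i => by
          fin_cases i <;> simp [hF0, hF1, hF2, hG0, hG1, hG2, ht])
      have he0 : e (b 0) = t • b' 0 := hF0
      have he1 : e (b 1) = b' 2 := hF1
      have he2 : e (b 2) = b' 1 := hF2
      refine ⟨Groth.Agent.Lib.Helper67.lieEquivOfBasis b e ?_⟩
      intro i j
      fin_cases i <;> fin_cases j <;>
        simp [he0, he1, he2, h01, h02, h12, h10, h20, h21, h01', h02', h12', h10', h20', h21', ht]
end Groth.Agent.S13108
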