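import Groth.Statements.S1311
import Groth.Agent.S1310
import Groth.Agent.Lib.Helper18.SubschemeIncl

set_option autoImplicit false
universe u
open FlatMor

namespace Groth.Agent.S1311

open AlgebraicGeometry CategoryTheory Limits in
/-- Let S ⟶ S' be a finite order thickening and let X be the base change of a scheme X' over S' to S (so
X ⟶ X' is again a thickening). Then X ⟶ S is a monomorphism if and only if X' ⟶ S' is. -/
theorem result {X X' S S' : Scheme.{u}} (iX : X ⟶ X') (iS : S ⟶ S') (f : X ⟶ S) (f' : X' ⟶ S')
    (hS : MoreMor.IsFiniteOrderThickening iS) (hc : IsPullback iX f f' iS) :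
    Mono f ↔ Mono f' := by
  constructor
  · intro hmono
    have hunr : FormallyUnramified f := inferInstance
    have hunr' : FormallyUnramified f' := (Groth.Agent.S1310.result iX iS f f' hS hc).mp hunr
    obtain ⟨⟨hcl, hsurj⟩, m, hm⟩ := hS
    constructor
    intro T g₁ g₂ hg
    have hnilT : IsNilpotent (pullback.fst (g₁ ≫ f') iS).ker := by
      refine ⟨m, ?_⟩
      rw [Scheme.IdealSheafData.ker_fst_of_isClosedImmersion,
        ← Groth.Agent.Lib.Helper18.comap_pow, hm]
      exact Scheme.IdealSheafData.comap_bot _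
    have h1 : (pullback.fst (g₁ ≫ f') iS ≫ g₁) ≫ f' = pullback.snd (g₁ ≫ f') iS ≫ iS := by
      rw [Category.assoc]; exact pullback.condition
    have h2 : (pullback.fst (g₁ ≫ f') iS ≫ g₂) ≫ f' = pullback.snd (g₁ ≫ f') iS ≫ iS := by
      rw [Category.assoc, ← hg]; exact pullback.condition
    have e : hc.lift _ _ h1 = hc.lift _ _ h2 := by
      rw [← cancel_mono f, hc.lift_snd, hc.lift_snd]
    have hig : pullback.fst (g₁ ≫ f') iS ≫ g₁ = pullback.fst (g₁ ≫ f') iS ≫ g₂ := by
      have := congrArg (· ≫ iX) e
      simpa using this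
    exact FormallyUnramified.hom_ext (pullback.fst (g₁ ≫ f') iS) hnilT f' hig hg
  · intro hmono
    constructor
    intro T g₁ g₂ hg
    refine hc.hom_ext ?_ hg
    rw [← cancel_mono f', Category.assoc, Category.assoc, hc.w, ← Category.assoc, hg,
      Category.assoc]

end Groth.Agent.S1311
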