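import Groth.Statements.S13111
import Mathlib

set_option autoImplicit false
universe u
open HTop

namespace Groth.Agent.S13111

/-- In an integrally closed domain, `x ^ 3 = y ^ 2` has a solution `t ^ 2 = x`, `t * x = y`. -/
theorem exists_sq_of_cube_eq_sq {R : Type*} [CommRing R] [IsDomain R] [IsIntegrallyClosed R]
    (x y : R) (h : x ^ 3 = y ^ 2) : ∃ t : R, t ^ 2 = x ∧ t * x = y := by
  by_cases hx : x = 0
  · subst hx
    have hy : y = 0 := by
      have : y ^ 2 = 0 := by rw [← h]; ring
      exact pow_eq_zero_iff (two_ne_zero) |>.mp this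
    exact ⟨0, by simp, by simp [hy]⟩
  · let K := FractionRing R
    have hxK : algebraMap R K x ≠ 0 := by
      intro h0
      apply hx
      exact (IsFractionRing.injective R K) (by rw [h0, map_zero])
    let τ : K := algebraMap R K y / algebraMap R K x
    have hτ : τ ^ 2 = algebraMap R K x := by
      have h' : algebraMap R K x ^ 3 = algebraMap R K y ^ 2 := by
        rw [← map_pow, ← map_pow, h]
      simp only [τ]
      rw [div_pow, div_eq_iff (pow_ne_zero _ hxK), ← h']
      ring
    have hint : IsIntegral R (τ ^ 2) := by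
      rw [hτ]
      exact isIntegral_algebraMap
    obtain ⟨t, ht⟩ := IsIntegrallyClosed.exists_algebraMap_eq_of_isIntegral_pow (by norm_num) hint
    refine ⟨t, ?_, ?_⟩
    · apply IsFractionRing.injective R K
      rw [map_pow, ht, hτ]
    · apply IsFractionRing.injective R K
      rw [map_mul, ht]
      simp only [τ]
      rw [div_mul_cancel₀ _ hxK]

open AlgebraicGeometry W4c1hilbchowinc in
/-- Let A be a reduced Noetherian ring whose integral closure in its total ring of fractions is a finite
A-module. Suppose that any pointwise function on Spec A that is algebraic along every discrete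
valuation ring (for every discrete valuation ring R and every morphism Spec R → Spec A there is an
element of R whose values at the two points of Spec R are the images of the chosen values) is the
family of values of exactly one global section. Then A is seminormal: whenever x^3 = y^2 there is
exactly one a with x = a^2 and y = a^3. Test rings range over the universe of A. -/
theorem result
    (A : Type u) [CommRing A] [IsReduced A] [IsNoetherianRing A]
    (hfin : Module.Finite A (integralClosure A (FractionRing A)))
    (h : ∀ f : PtFun (Spec (CommRingCat.of A)), f.VariesAlongDVR →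
      ∃! a : Γ(Spec (CommRingCat.of A), ⊤), PtFun.ofSection (Spec (CommRingCat.of A)) a = f) :
    HTop.IsSeminormalRing A := by
  intro x y hxy
  classical
  let e : A ≃+* Γ(Spec (CommRingCat.of A), ⊤) :=
    (Scheme.ΓSpecIso (CommRingCat.of A)).symm.commRingCatIsoToRingEquiv
  obtain ⟨x', hx'⟩ : ∃ x' : Γ(Spec (CommRingCat.of A), ⊤), x' = e x := ⟨_, rfl⟩
  obtain ⟨y', hy'⟩ : ∃ y' : Γ(Spec (CommRingCat.of A), ⊤), y' = e y := ⟨_, rfl⟩
  have hxy' : x' ^ 3 = y' ^ 2 := by rw [hx', hy', ← map_pow, ← map_pow, hxy]
  -- the pointwise function `y / x`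
  let F : PtFun (Spec (CommRingCat.of A)) := fun z =>
    if (Spec (CommRingCat.of A)).Γevaluation z x' = 0 then 0
    else (Spec (CommRingCat.of A)).Γevaluation z y' / (Spec (CommRingCat.of A)).Γevaluation z x'
  have hF : F.VariesAlongDVR := by
    intro R _ _ _ g
    let eR : Γ(Spec (CommRingCat.of R), ⊤) ≃+* R :=
      (Scheme.ΓSpecIso (CommRingCat.of R)).commRingCatIsoToRingEquiv
    obtain ⟨x'', hx''⟩ : ∃ x'' : Γ(Spec (CommRingCat.of R), ⊤), x'' = g.appTop x' := ⟨_, rfl⟩
    obtain ⟨y'', hy''⟩ : ∃ y'' : Γ(Spec (CommRingCat.of R), ⊤), y'' = g.appTop y' := ⟨_, rfl⟩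
    have hxy'' : x'' ^ 3 = y'' ^ 2 := by rw [hx'', hy'', ← map_pow, ← map_pow, hxy']
    obtain ⟨tR, htR1, htR2⟩ := exists_sq_of_cube_eq_sq (eR x'') (eR y'')
      (by rw [← map_pow, ← map_pow, hxy''])
    obtain ⟨t, ht⟩ : ∃ t : Γ(Spec (CommRingCat.of R), ⊤), t = eR.symm tR := ⟨_, rfl⟩
    have ht1 : t ^ 2 = x'' := by
      apply eR.injective
      rw [map_pow, ht, RingEquiv.apply_symm_apply, htR1]
    have ht2 : t * x'' = y'' := by
      apply eR.injective
      rw [map_mul, ht, RingEquiv.apply_symm_apply, htR2]
    refine ⟨t, ?_⟩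
    funext w
    show (Spec (CommRingCat.of R)).Γevaluation w t = g.residueFieldMap w (F (g w))
    have hnx : g.residueFieldMap w ((Spec (CommRingCat.of A)).Γevaluation (g w) x') =
        (Spec (CommRingCat.of R)).Γevaluation w x'' := by
      rw [hx'']; exact Scheme.Γevaluation_naturality_apply g w x'
    have hny : g.residueFieldMap w ((Spec (CommRingCat.of A)).Γevaluation (g w) y') =
        (Spec (CommRingCat.of R)).Γevaluation w y'' := by
      rw [hy'']; exact Scheme.Γevaluation_naturality_apply g w y'
    have e1 : (Spec (CommRingCat.of R)).Γevaluation w t ^ 2 =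
        (Spec (CommRingCat.of R)).Γevaluation w x'' := by rw [← map_pow, ht1]
    have e2 : (Spec (CommRingCat.of R)).Γevaluation w t * (Spec (CommRingCat.of R)).Γevaluation w x'' =
        (Spec (CommRingCat.of R)).Γevaluation w y'' := by rw [← map_mul, ht2]
    simp only [F]
    split_ifs with hz
    · rw [map_zero]
      have : (Spec (CommRingCat.of R)).Γevaluation w x'' = 0 := by
        rw [← hnx, hz, map_zero]
      rw [this] at e1
      exact pow_eq_zero_iff (two_ne_zero) |>.mp e1
    · rw [map_div₀, hnx, hny]
      have hne : (Spec (CommRingCat.of R)).Γevaluation w x'' ≠ 0 := by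
        rw [← hnx]
        intro h0
        exact hz ((map_eq_zero _).mp h0)
      rw [eq_div_iff hne]
      exact e2
  obtain ⟨a, ha, -⟩ := h F hF
  have hev : ∀ z, (Spec (CommRingCat.of A)).Γevaluation z a = F z := fun z => congrFun ha z
  -- vanishing of sections on a reduced scheme
  have hzero : ∀ s : Γ(Spec (CommRingCat.of A), ⊤),
      (∀ z, (Spec (CommRingCat.of A)).Γevaluation z s = 0) → s = 0 := by
    intro s hs
    rw [← basicOpen_eq_bot_iff, Scheme.basicOpen_eq_bot_iff_forall_evaluation_eq_zero]
    intro z
    exact hs z.1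
  have hcube : ∀ z, (Spec (CommRingCat.of A)).Γevaluation z x' ^ 3 =
      (Spec (CommRingCat.of A)).Γevaluation z y' ^ 2 := by
    intro z
    rw [← map_pow, ← map_pow, hxy']
  have ha2 : a ^ 2 = x' := by
    rw [← sub_eq_zero]
    apply hzero
    intro z
    rw [map_sub, map_pow, hev z]
    simp only [F]
    split_ifs with hz
    · rw [hz]; ring
    · have h3 := hcube z
      field_simp
      linear_combination -h3
  have ha3 : a ^ 3 = y' := by
    rw [← sub_eq_zero]
    apply hzero
    intro z
    rw [map_sub, map_pow, hev z]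
    simp only [F]
    split_ifs with hz
    · have h3 := hcube z
      rw [hz] at h3
      have : (Spec (CommRingCat.of A)).Γevaluation z y' = 0 := by
        have : (Spec (CommRingCat.of A)).Γevaluation z y' ^ 2 = 0 := by rw [← h3]; ring
        exact pow_eq_zero_iff (two_ne_zero) |>.mp this
      rw [this]; ring
    · have h3 := hcube z
      field_simp
      linear_combination (-(Spec (CommRingCat.of A)).Γevaluation z y') * h3
  refine ⟨e.symm a, ⟨?_, ?_⟩, ?_⟩
  · apply e.injective
    rw [map_pow, RingEquiv.apply_symm_apply, ha2, hx']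
  · apply e.injective
    rw [map_pow, RingEquiv.apply_symm_apply, ha3, hy']
  · rintro b ⟨hb2, hb3⟩
    have h2 : b ^ 2 = (e.symm a) ^ 2 := by
      rw [← hb2]
      apply e.injective
      rw [map_pow, RingEquiv.apply_symm_apply, ha2, hx']
    have h3 : b ^ 3 = (e.symm a) ^ 3 := by
      rw [← hb3]
      apply e.injective
      rw [map_pow, RingEquiv.apply_symm_apply, ha3, hy']
    have hnil : (b - e.symm a) ^ 3 = 0 := by
      linear_combination 4 * h3 - (3 * e.symm a + 3 * b) * h2
    have : b - e.symm a = 0 := IsReduced.eq_zero _ ⟨3, hnil⟩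
    exact sub_eq_zero.mp this

end Groth.Agent.S13111
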