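import Groth.Statements.S13112
import Mathlib
import Groth.Agent.Lib.Helper70.SeminormalIso

set_option autoImplicit false
universe u
open HTop

namespace Groth.Agent.S13112

open Groth.Agent.Lib.Helper70 Groth.Agent.Lib.Helper2

open CategoryTheory CategoryTheory.Limits AlgebraicGeometry in
theorem isUnivHomeo_of_isProper_of_universallyInjective_of_surjective {P T : Scheme.{u}}
    (p : P ⟶ T) [IsProper p] [UniversallyInjective p] [Surjective p] :
    FlatMor.IsUnivHomeo p := by
  intro X' Y' i₁ i₂ p' H
  have h1 : IsProper p' := MorphismProperty.of_isPullback H.flip inferInstance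
  have h2 : Surjective p' := MorphismProperty.of_isPullback H.flip inferInstance
  have h3 : UniversallyInjective p' := MorphismProperty.of_isPullback H.flip inferInstance
  have hemb : Topology.IsClosedEmbedding (p' : X' → Y') :=
    Topology.IsClosedEmbedding.of_continuous_injective_isClosedMap p'.continuous p'.injective
      p'.isClosedMap
  exact isHomeomorph_iff_isEmbedding_surjective.mpr ⟨hemb.isEmbedding, p'.surjective⟩

open CategoryTheory CategoryTheory.Limits AlgebraicGeometry in
theorem isIso_residueFieldMap_of_section {P T : Scheme.{u}} (p : P ⟶ T) (t : T)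
    (s : Spec (T.residueField t) ⟶ P) (hs : s ≫ p = T.fromSpecResidueField t)
    (z : Spec (T.residueField t)) : IsIso (p.residueFieldMap (s z)) := by
  have h0 : IsIso ((s ≫ p).residueFieldMap z) := by
    rw [hs]
    exact SNIso.residueFieldsIso_of_isPreimmersion _ z
  rw [Scheme.residueFieldMap_comp] at h0
  have hb : Function.Bijective (p.residueFieldMap (s z) ≫ s.residueFieldMap z) :=
    @ConcreteCategory.bijective_of_isIso _ _ _ _ _ _ _ _ _ h0
  have hbi : IsIso (s.residueFieldMap z) := by
    apply (ConcreteCategory.isIso_iff_bijective _).mpr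
    refine ⟨(s.residueFieldMap z).hom.injective, ?_⟩
    intro y
    obtain ⟨w, hw⟩ := hb.2 y
    exact ⟨p.residueFieldMap (s z) w, hw⟩
  exact @IsIso.of_isIso_comp_right _ _ _ _ _ (p.residueFieldMap (s z)) (s.residueFieldMap z) hbi h0

open CategoryTheory AlgebraicGeometry in
/-- Let k be a field, T a seminormal scheme of finite type over k, and f : X → Y a proper universally
injective k-morphism of schemes locally of finite type over k. If a morphism of schemes g : T → Y
lifts through f at every point of T, i.e. for every t the composite Spec κ(t) → T → Y factors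
through f, then g itself factors through f. -/
theorem result
    {k : Type u} [Field k] {T X Y : Scheme.{u}}
    (sT : T ⟶ Spec (CommRingCat.of k)) (sX : X ⟶ Spec (CommRingCat.of k)) (sY : Y ⟶ Spec (CommRingCat.of k))
    [LocallyOfFiniteType sT] [QuasiCompact sT] [LocallyOfFiniteType sX] [LocallyOfFiniteType sY]
    (hT : HTop.IsSeminormal T)
    (f : X ⟶ Y) (hf : f ≫ sY = sX) [IsProper f] [UniversallyInjective f]
    (g : T ⟶ Y)
    (hlift : ∀ t : T, ∃ l : Spec (T.residueField t) ⟶ X, l ≫ f = T.fromSpecResidueField t ≫ g) :
    ∃ h : T ⟶ X, h ≫ f = g := by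
  let P := Limits.pullback f g
  let p : P ⟶ T := Limits.pullback.snd f g
  let q : P ⟶ X := Limits.pullback.fst f g
  have hpq : q ≫ f = p ≫ g := Limits.pullback.condition
  have hpinj : UniversallyInjective p := MorphismProperty.pullback_snd _ _ inferInstance
  have hpt : ∀ t : T, ∃ s : Spec (T.residueField t) ⟶ P, s ≫ p = T.fromSpecResidueField t := by
    intro t
    obtain ⟨l, hl⟩ := hlift t
    exact ⟨Limits.pullback.lift l (T.fromSpecResidueField t) hl, Limits.pullback.lift_snd _ _ _⟩
  have hz : ∀ t : T, Nonempty (Spec (T.residueField t)) := fun t => inferInstance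
  have hsurj : Surjective p := by
    constructor
    intro t
    obtain ⟨s, hs⟩ := hpt t
    obtain ⟨z⟩ := hz t
    refine ⟨s z, ?_⟩
    rw [← Scheme.Hom.comp_apply, hs, Scheme.fromSpecResidueField_apply]
  have hU : FlatMor.IsUnivHomeo p :=
    isUnivHomeo_of_isProper_of_universallyInjective_of_surjective p
  have hR : HTop.ResidueFieldsIso p := by
    intro x'
    obtain ⟨s, hs⟩ := hpt (p x')
    obtain ⟨z⟩ := hz (p x')
    have hsz : s z = x' := by
      apply p.injective
      rw [← Scheme.Hom.comp_apply, hs, Scheme.fromSpecResidueField_apply]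
    have := isIso_residueFieldMap_of_section p (p x') s hs z
    rw [← hsz]
    exact this
  let i : P.nilradical.subscheme ⟶ P := P.nilradical.subschemeι
  have hisurj : Surjective i := by
    constructor
    rw [← Set.range_eq_univ, Scheme.IdealSheafData.range_subschemeι, Scheme.support_nilradical]
    rfl
  have hiU : FlatMor.IsUnivHomeo i := IsUnivHomeo.of_isClosedImmersion_of_surjective i
  have hiR : HTop.ResidueFieldsIso i := SNIso.residueFieldsIso_of_isPreimmersion i
  have hπU : FlatMor.IsUnivHomeo (i ≫ p) := MorphismProperty.comp_mem _ _ _ hiU hU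
  have hπR := SNIso.residueFieldsIso_comp i p hiR hR
  have hiso : IsIso (i ≫ p) := SNIso.isIso_of_isSeminormal (i ≫ p) hπU hπR hT
  refine ⟨inv (i ≫ p) ≫ i ≫ q, ?_⟩
  rw [Category.assoc, Category.assoc, hpq, ← Category.assoc i, IsIso.inv_hom_id_assoc]

end Groth.Agent.S13112
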