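import Groth.Statements.S13114
import Mathlib.Tactic
import Mathlib.LinearAlgebra.Eigenspace.Zero
import Mathlib.RingTheory.Norm.Defs
import Mathlib.RingTheory.Artinian.Ring
import Mathlib.RingTheory.LocalRing.ResidueField.Basic
import Mathlib.FieldTheory.IsAlgClosed.Basic

set_option autoImplicit false
universe u
open HilbChow

namespace Groth.Agent.S13114

/-- Let k be an algebraically closed field, A a commutative local k-algebra of finite dimension n over k
and u a unit of A. Then the determinant of multiplication by u on the k-vector space A, mapped to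
the residue field of A, equals the n-th power of the residue class of u. -/
theorem result
    (k A : Type u) [Field k] [IsAlgClosed k] [CommRing A] [Algebra k A] [IsLocalRing A]
    [Module.Finite k A] (u : Aˣ) :
    algebraMap k (IsLocalRing.ResidueField A) (Algebra.norm k (u : A)) =
      IsLocalRing.residue A (u : A) ^ Module.finrank k A := by
  haveI : IsArtinianRing A := IsArtinianRing.of_finite k A
  -- the residue field is `k`
  haveI : Module.Finite k (IsLocalRing.ResidueField A) :=
    Module.Finite.of_surjective
      (IsScalarTower.toAlgHom k A (IsLocalRing.ResidueField A)).toLinearMap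
      IsLocalRing.residue_surjective
  haveI : Algebra.IsIntegral k (IsLocalRing.ResidueField A) := Algebra.IsIntegral.of_finite _ _
  have hsurj : Function.Surjective (algebraMap k (IsLocalRing.ResidueField A)) :=
    IsAlgClosed.algebraMap_bijective_of_isIntegral.2
  obtain ⟨c, hc⟩ := hsurj (IsLocalRing.residue A (u : A))
  set n : A := algebraMap k A c - (u : A) with hn
  have hnm : n ∈ IsLocalRing.maximalIdeal A := by
    rw [← IsLocalRing.residue_eq_zero_iff, hn, map_sub, ← hc]
    rw [sub_eq_zero]
    rfl
  have hnil : IsNilpotent n := by
    have h := IsArtinianRing.isNilpotent_jacobson_bot (R := A)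
    rw [IsLocalRing.jacobson_eq_maximalIdeal (⊥ : Ideal A) bot_ne_top] at h
    obtain ⟨N, hN⟩ := h
    refine ⟨N, ?_⟩
    have : n ^ N ∈ IsLocalRing.maximalIdeal A ^ N := Ideal.pow_mem_pow hnm N
    rw [hN] at this
    exact this
  have hφnil : IsNilpotent (Algebra.lmul k A n) := hnil.map (Algebra.lmul k A)
  have hu : Algebra.lmul k A (u : A) = algebraMap k (Module.End k A) c - Algebra.lmul k A n := by
    rw [hn, map_sub, AlgHom.commutes]
    abel
  rw [Algebra.norm_apply, hu, ← LinearMap.eval_charpoly, hφnil.charpoly_eq_X_pow_finrank,
    Polynomial.eval_pow, Polynomial.eval_X, map_pow, hc]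

end Groth.Agent.S13114
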