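import Mathlib
import Groth.Statements.S13115
import Groth.Agent.Lib.Helper96.SymTensorCoeff

set_option autoImplicit false
universe u
open scoped TensorProduct
open HilbChow

namespace Groth.Agent.S13115

open Helper96.SymTensorCoeff in
theorem main
    (k V : Type u) [Field k] [Infinite k] [AddCommGroup V] [Module k V] (m : ℕ)
    (x : ⨂[k] _ : Fin m, V)
    (hx : ∀ σ : Equiv.Perm (Fin m), PiTensorProduct.reindex k (fun _ : Fin m => V) σ x = x) :
    x ∈ Submodule.span k (Set.range fun v : V => PiTensorProduct.tprod k (fun _ : Fin m => v)) := by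
  classical
  by_contra hxW
  obtain ⟨φ, hφx, hφW⟩ := Submodule.exists_dual_map_eq_bot_of_notMem hxW inferInstance
  have hφ0 : ∀ v : V, φ (PiTensorProduct.tprod k (fun _ : Fin m => v)) = 0 := by
    intro v
    have h1 : φ (PiTensorProduct.tprod k (fun _ : Fin m => v)) ∈
        (Submodule.span k (Set.range fun v : V =>
          PiTensorProduct.tprod k (fun _ : Fin m => v))).map φ :=
      Submodule.mem_map_of_mem (Submodule.subset_span ⟨v, rfl⟩)
    rw [hφW] at h1
    exact (Submodule.mem_bot k).1 h1
  let b := Module.Basis.ofVectorSpace k V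
  let B := tBasis b m
  let c := B.repr x
  let J : Finset (Module.Basis.ofVectorSpaceIndex k V) :=
    c.support.biUnion (fun q => Finset.univ.image q)
  let T : Finset (Fin m → Module.Basis.ofVectorSpaceIndex k V) :=
    Fintype.piFinset (fun _ : Fin m => J)
  have hsupp : c.support ⊆ T := by
    intro q hq
    rw [Fintype.mem_piFinset]
    intro i
    exact Finset.mem_biUnion.2 ⟨q, hq, Finset.mem_image_of_mem _ (Finset.mem_univ i)⟩
  let P : MvPolynomial (Module.Basis.ofVectorSpaceIndex k V) k :=
    ∑ q ∈ T, MvPolynomial.monomial (mon q) (φ (B q))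
  have hP : P = 0 := by
    apply MvPolynomial.funext
    intro t
    rw [map_zero]
    have h1 : MvPolynomial.eval t P =
        φ (PiTensorProduct.tprod k (fun _ : Fin m => ∑ j ∈ J, t j • b j)) := by
      have h2 : PiTensorProduct.tprod k (fun _ : Fin m => ∑ j ∈ J, t j • b j) =
          ∑ r ∈ T, PiTensorProduct.tprod k (fun i => t (r i) • b (r i)) :=
        (PiTensorProduct.tprod k (s := fun _ : Fin m => V)).map_sum_finset
          (fun _ j => t j • b j) (fun _ => J)
      rw [h2, map_sum, map_sum]
      apply Finset.sum_congr rfl
      intro q _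
      rw [eval_monomial_mon, MultilinearMap.map_smul_univ, map_smul, smul_eq_mul, tBasis_apply,
        mul_comm]
    rw [h1, hφ0]
  have hcoef : ∀ μ, ∑ q ∈ T.filter (fun q => mon q = μ), φ (B q) = 0 := by
    intro μ
    have h1 := congrArg (MvPolynomial.coeff μ) hP
    simp only [P, MvPolynomial.coeff_sum, MvPolynomial.coeff_monomial,
      MvPolynomial.coeff_zero] at h1
    rw [Finset.sum_filter]
    exact h1
  apply hφx
  have hx_eq : x = ∑ q ∈ T, c q • B q := by
    conv_lhs => rw [← B.linearCombination_repr x]
    rw [Finsupp.linearCombination_apply, Finsupp.sum]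
    apply Finset.sum_subset hsupp
    intro q _ hq
    rw [Finsupp.notMem_support_iff.1 hq, zero_smul]
  rw [hx_eq, map_sum]
  simp only [map_smul, smul_eq_mul]
  rw [← Finset.sum_fiberwise_of_maps_to (g := mon) (t := T.image mon)
    (fun q hq => Finset.mem_image_of_mem _ hq)]
  apply Finset.sum_eq_zero
  intro μ hμ
  obtain ⟨q₀, _, rfl⟩ := Finset.mem_image.1 hμ
  have h3 : ∀ q ∈ T.filter (fun q => mon q = mon q₀), c q * φ (B q) = c q₀ * φ (B q) := by
    intro q hq
    have : c q = c q₀ := repr_eq_of_mon_eq b m x hx q q₀ (Finset.mem_filter.1 hq).2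
    rw [this]
  rw [Finset.sum_congr rfl h3, ← Finset.mul_sum, hcoef, mul_zero]


/-- Let k be an infinite field, V a k-vector space and m a natural number. Then every symmetric tensor
in the m-fold tensor power of V — one fixed by every permutation of the factors — is a k-linear
combination of pure powers v ⊗ ⋯ ⊗ v with v in V. (The published statement concerns the ring of
functions of an affine scheme over an infinite field, where it gives the uniqueness of the algebra
map defining the Hilbert-to-Chow morphism for zero-cycles; this row states it for any vector space.) -/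
theorem result
    (k V : Type u) [Field k] [Infinite k] [AddCommGroup V] [Module k V] (m : ℕ)
    (x : ⨂[k] _ : Fin m, V)
    (hx : ∀ σ : Equiv.Perm (Fin m), PiTensorProduct.reindex k (fun _ : Fin m => V) σ x = x) :
    x ∈ Submodule.span k (Set.range fun v : V => PiTensorProduct.tprod k (fun _ : Fin m => v)) := by
  exact main k V m x hx

end Groth.Agent.S13115
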