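import Groth.Statements.S13117
import Mathlib

set_option autoImplicit false
universe u
open HilbChow

namespace Groth.Agent.S13117

theorem det_blockDiagonal'_aux {o : Type*} [Fintype o] [DecidableEq o] {m' : o → Type*}
    [∀ i, Fintype (m' i)] [∀ i, DecidableEq (m' i)] {R : Type*} [CommRing R]
    (d : ∀ i, Matrix (m' i) (m' i) R) :
    (Matrix.blockDiagonal' d).det = ∏ i, (d i).det := by
  classical
  letI : LinearOrder o := LinearOrder.lift' (Fintype.equivFin o) (Fintype.equivFin o).injective
  rw [(Matrix.blockTriangular_blockDiagonal' d).det_fintype]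
  refine Finset.prod_congr rfl fun k _ => ?_
  have : (Matrix.blockDiagonal' d).toSquareBlock Sigma.fst k =
      (d k).submatrix (Equiv.sigmaSubtype k) (Equiv.sigmaSubtype k) := by
    ext ⟨⟨i, i'⟩, hi⟩ ⟨⟨j, j'⟩, hj⟩
    simp only at hi hj
    subst hi
    subst hj
    simp [Matrix.toSquareBlock_def, Matrix.blockDiagonal'_apply, Equiv.sigmaSubtype]
  rw [this, Matrix.det_submatrix_equiv_self]

open Module in
theorem norm_pi_dep (k : Type*) [Field k] {ι : Type*} [Fintype ι] [DecidableEq ι]
    (B : ι → Type*) [∀ i, CommRing (B i)] [∀ i, Algebra k (B i)] [∀ i, Module.Finite k (B i)]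
    (x : ∀ i, B i) : Algebra.norm k x = ∏ i, Algebra.norm k (x i) := by
  classical
  let b : ∀ i, Basis (Free.ChooseBasisIndex k (B i)) k (B i) := fun i => Free.chooseBasis k (B i)
  rw [Algebra.norm_eq_matrix_det (Pi.basis b) x]
  have : Algebra.leftMulMatrix (Pi.basis b) x =
      Matrix.blockDiagonal' (fun i => Algebra.leftMulMatrix (b i) (x i)) := by
    ext ⟨i, i'⟩ ⟨j, j'⟩
    rw [Algebra.leftMulMatrix_eq_repr_mul, Matrix.blockDiagonal'_apply]
    simp only [Pi.basis_apply, Pi.basis_repr]
    split_ifs with h
    · subst h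
      simp [Algebra.leftMulMatrix_eq_repr_mul]
    · simp [Pi.single_apply, h]
  rw [this, det_blockDiagonal'_aux]
  refine Finset.prod_congr rfl fun i _ => ?_
  rw [Algebra.norm_eq_matrix_det (b i)]

theorem local_norm (k B : Type*) [Field k] [CommRing B] [Algebra k B] [Module.Finite k B]
    (x : B) (c : k) (h : IsNilpotent (x - algebraMap k B c)) :
    Algebra.norm k x = c ^ Module.finrank k B := by
  have hN : IsNilpotent (Algebra.lmul k B (algebraMap k B c - x)) := by
    have : IsNilpotent (algebraMap k B c - x) := by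
      rw [← neg_sub]; exact h.neg
    exact this.map (Algebra.lmul k B)
  have h1 := LinearMap.eval_charpoly (Algebra.lmul k B (algebraMap k B c - x)) c
  rw [hN.charpoly_eq_X_pow_finrank, Polynomial.eval_pow, Polynomial.eval_X] at h1
  rw [h1, Algebra.norm_apply]
  congr 1
  ext y
  simp [Algebra.smul_def, sub_mul]

/-- Let k be an algebraically closed field, A a finite-dimensional commutative k-algebra (the coordinate
ring of a zero-dimensional subscheme Z of length dim_k A) and f ∈ A. Then the determinant of
multiplication by f on A is the product over the points x of Z — the k-algebra homomorphisms A → k —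
of the value f(x) raised to the length of the local ring of Z at x, that length being the
k-dimension of the localisation of A at the corresponding maximal ideal. This is the formula by
which the Hilbert-to-Chow morphism for zero-cycles sends Z to its fundamental cycle Σ ℓ(O_{Z,x})[x]. -/
theorem result
    (k A : Type u) [Field k] [IsAlgClosed k] [CommRing A] [Algebra k A] [Module.Finite k A] (f : A) :
    Algebra.norm k f =
      ∏ᶠ φ : A →ₐ[k] k, φ f ^ Module.finrank k (Localization.AtPrime (Ideal.comap φ ⊥)) := by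
  classical
  haveI : IsArtinianRing A := IsArtinianRing.of_finite k A
  haveI : Fintype (PrimeSpectrum A) := Fintype.ofFinite _
  have hfin : ∀ p : PrimeSpectrum A, Module.Finite k (Localization.AtPrime p.asIdeal) := fun p =>
    Module.Finite.of_surjective (Algebra.algHom k A (Localization.AtPrime p.asIdeal)).toLinearMap
      (IsArtinianRing.localization_surjective p.asIdeal.primeCompl _)
  -- Step A: the norm is the product of the local norms
  have hA : Algebra.norm k f = ∏ p : PrimeSpectrum A,
      Algebra.norm k (algebraMap A (Localization.AtPrime p.asIdeal) f) := by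
    let e : A ≃ₐ[k] PrimeSpectrum.PiLocalization A :=
      (PrimeSpectrum.toPiLocalizationEquiv A).restrictScalars k
    rw [← Algebra.norm_eq_of_algEquiv e f]
    exact norm_pi_dep k (fun p : PrimeSpectrum A => Localization.AtPrime p.asIdeal) (e f)
  -- Step B: points ↔ primes
  let Φ : (A →ₐ[k] k) → PrimeSpectrum A := fun φ => ⟨Ideal.comap φ ⊥, inferInstance⟩
  have hmem : ∀ (φ : A →ₐ[k] k) (a : A), a - algebraMap k A (φ a) ∈ Ideal.comap φ ⊥ := by
    intro φ a
    rw [Ideal.mem_comap, Ideal.mem_bot, map_sub, AlgHom.commutes]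
    simp
  have hΦinj : Function.Injective Φ := by
    intro φ ψ h
    have h' : Ideal.comap φ (⊥ : Ideal k) = Ideal.comap ψ ⊥ := congrArg PrimeSpectrum.asIdeal h
    ext a
    have h1 := hmem φ a
    rw [h', Ideal.mem_comap, Ideal.mem_bot, map_sub, AlgHom.commutes] at h1
    simp only [map_sub, AlgHom.commutes, Algebra.algebraMap_self, RingHom.id_apply] at h1
    exact (sub_eq_zero.mp h1).symm
  have hΦsurj : Function.Surjective Φ := by
    intro p
    haveI : p.asIdeal.IsMaximal := IsArtinianRing.isMaximal_of_isPrime p.asIdeal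
    letI : Field (A ⧸ p.asIdeal) := Ideal.Quotient.field p.asIdeal
    have hbij : Function.Bijective (algebraMap k (A ⧸ p.asIdeal)) :=
      IsAlgClosed.algebraMap_bijective_of_isIntegral
    let e : k ≃ₐ[k] (A ⧸ p.asIdeal) := AlgEquiv.ofBijective (Algebra.ofId k (A ⧸ p.asIdeal)) hbij
    refine ⟨(e.symm : (A ⧸ p.asIdeal) →ₐ[k] k).comp (Ideal.Quotient.mkₐ k p.asIdeal), ?_⟩
    apply PrimeSpectrum.ext
    ext a
    change a ∈ Ideal.comap _ ⊥ ↔ a ∈ p.asIdeal
    rw [Ideal.mem_comap, Ideal.mem_bot]
    simp only [AlgHom.comp_apply, AlgHom.coe_coe, Ideal.Quotient.mkₐ_eq_mk]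
    rw [← Ideal.Quotient.eq_zero_iff_mem]
    exact ⟨fun h => by simpa using congrArg e h, fun h => by rw [h, map_zero]⟩
  -- Step C: local norms
  have hC : ∀ φ : A →ₐ[k] k,
      Algebra.norm k (algebraMap A (Localization.AtPrime (Φ φ).asIdeal) f) =
        φ f ^ Module.finrank k (Localization.AtPrime (Ideal.comap φ ⊥)) := by
    intro φ
    haveI := hfin (Φ φ)
    haveI : IsArtinianRing (Localization.AtPrime (Φ φ).asIdeal) :=
      IsArtinianRing.of_finite k _
    refine local_norm k (Localization.AtPrime (Φ φ).asIdeal) _ (φ f) ?_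
    rw [IsScalarTower.algebraMap_apply k A (Localization.AtPrime (Φ φ).asIdeal), ← map_sub,
      Ring.KrullDimLE.isNilpotent_iff_mem_maximalIdeal,
      IsLocalization.AtPrime.to_map_mem_maximal_iff _ (Φ φ).asIdeal]
    exact hmem φ f
  haveI : Finite (A →ₐ[k] k) := Finite.of_injective Φ hΦinj
  haveI : Fintype (A →ₐ[k] k) := Fintype.ofFinite _
  rw [finprod_eq_prod_of_fintype, hA]
  symm
  exact Fintype.prod_bijective Φ ⟨hΦinj, hΦsurj⟩ _ _ (fun φ => (hC φ).symm)

end Groth.Agent.S13117
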