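import Mathlib
import Groth.Statements.S13118
import Groth.Agent.Lib.Helper96.NormLocal

set_option autoImplicit false
universe u
open scoped TensorProduct
open HilbChow

namespace Groth.Agent.S13118

section helpers
open Groth.Agent.Lib.Helper96.NormLocal

section defs

/-- multiplication by `c : B` as an `A`-linear endomorphism -/
def mulB (A B : Type u) [CommRing A] [CommRing B] [Algebra A B] (c : B) (M : Type u)
    [AddCommGroup M] [Module B M] [Module A M] [IsScalarTower A B M] :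
    M →ₗ[A] M where
  toFun x := c • x
  map_add' := smul_add c
  map_smul' a x := smul_comm c a x

variable (A : Type u) (B : Type u) [CommRing A] [CommRing B] [Algebra A B]

variable {M₁ : Type u} [AddCommGroup M₁] [Module B M₁] [Module A M₁] [IsScalarTower A B M₁]

/-- `b ↦ b • m` as an `A`-linear map -/
def rM (m : M₁) : B →ₗ[A] M₁ where
  toFun b := b • m
  map_add' := fun b b' => add_smul b b' m
  map_smul' a b := smul_assoc a b m

variable (M₂ : Type u) [AddCommGroup M₂] [Module B M₂] [Module A M₂] [IsScalarTower A B M₂]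

/-- `y ↦ m ⊗ y` as an `A`-linear map -/
def lM (m : M₁) : M₂ →ₗ[A] M₁ ⊗[B] M₂ := (TensorProduct.mk B M₁ M₂ m).restrictScalars A

/-- `m ⊗ y ↦ s m • y` as an `A`-linear map -/
def tM (s : M₁ →ₗ[B] B) : M₁ ⊗[B] M₂ →ₗ[A] M₂ :=
  (TensorProduct.lift ((LinearMap.lsmul B M₂) ∘ₗ s)).restrictScalars A

theorem lM_apply (m : M₁) (y : M₂) : lM A B M₂ m y = m ⊗ₜ[B] y := rfl

theorem tM_tmul (s : M₁ →ₗ[B] B) (m : M₁) (y : M₂) : tM A B M₂ s (m ⊗ₜ[B] y) = s m • y := rfl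

end defs

theorem L2 (A B : Type u) [CommRing A] [CommRing B] [Algebra A B] [Module.Finite A B]
    [Module.Projective A B] (n : ℕ)
    (hn : ∀ q : PrimeSpectrum A, Module.finrank (Localization.AtPrime q.asIdeal)
      (LocalizedModule q.asIdeal.primeCompl B) = n)
    (M₂ : Type u) [AddCommGroup M₂] [Module B M₂] [Module A M₂] [IsScalarTower A B M₂]
    [Module.Finite B M₂] [Module.Projective B M₂]
    (h₂ : ∀ q : PrimeSpectrum B, Module.finrank (Localization.AtPrime q.asIdeal)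
      (LocalizedModule q.asIdeal.primeCompl M₂) = 1)
    (c : B) :
    (exteriorPower.map n (mulB A B c B)).rTensor (⋀[A]^n M₂) =
      (exteriorPower.map n (mulB A B c M₂)).lTensor (⋀[A]^n B) := by
  refine LinearMap.ext fun w => ?_
  rw [← sub_eq_zero]
  apply eq_zero_of_local (A := A)
  intro 𝔭 _
  obtain ⟨g, σ, φ, hg, hφσ⟩ := exists_local_frame A B n 𝔭 (hn ⟨𝔭, inferInstance⟩)
  obtain ⟨f₂, e₂, s₂, hf₂, -, hs₂⟩ := exists_local_gen A B M₂ h₂ 𝔭
  refine ⟨(g ^ n) ^ 3 * f₂ ^ n, ?_, ?_⟩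
  · exact 𝔭.primeCompl.mul_mem (pow_mem (pow_mem hg n) 3) (pow_mem hf₂ n)
  · set T := exteriorPower.map n (mulB A B c B) with hT
    have hL1 := L1 n g σ φ hφσ T
    let r₂ : B →ₗ[A] M₂ := rM A B e₂
    let s₂A : M₂ →ₗ[A] B := s₂.restrictScalars A
    have h_rs : r₂ ∘ₗ s₂A = f₂ • LinearMap.id := by
      refine LinearMap.ext fun m => ?_
      show s₂ m • e₂ = f₂ • m
      rw [hs₂, algebraMap_smul]
    have h_comm : mulB A B c M₂ ∘ₗ r₂ = r₂ ∘ₗ mulB A B c B := by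
      refine LinearMap.ext fun b => ?_
      show c • (b • e₂) = (c • b) • e₂
      rw [smul_assoc]
    let ρ := (exteriorPower.map n r₂).lTensor (⋀[A]^n B)
    let τ := (exteriorPower.map n s₂A).lTensor (⋀[A]^n B)
    have hρτ : ρ ∘ₗ τ = f₂ ^ n • LinearMap.id := by
      rw [← LinearMap.lTensor_comp, ← exteriorPower.map_comp, h_rs, ep_map_smul_id,
        LinearMap.lTensor_smul, LinearMap.lTensor_id]
    have hA : T.rTensor (⋀[A]^n M₂) ∘ₗ ρ = ρ ∘ₗ T.rTensor (⋀[A]^n B) := by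
      rw [LinearMap.rTensor_comp_lTensor, LinearMap.lTensor_comp_rTensor]
    have hB : (exteriorPower.map n (mulB A B c M₂)).lTensor (⋀[A]^n B) ∘ₗ ρ =
        ρ ∘ₗ T.lTensor (⋀[A]^n B) := by
      rw [← LinearMap.lTensor_comp, ← LinearMap.lTensor_comp, ← exteriorPower.map_comp,
        ← exteriorPower.map_comp, h_comm]
    have hw : f₂ ^ n • w = ρ (τ w) := (LinearMap.congr_fun hρτ w).symm
    have hAz := LinearMap.congr_fun hA (τ w)
    have hBz := LinearMap.congr_fun hB (τ w)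
    have hL1z := LinearMap.congr_fun hL1 (τ w)
    simp only [LinearMap.comp_apply, LinearMap.smul_apply] at hAz hBz hL1z
    rw [mul_smul, smul_sub, ← map_smul, ← map_smul, hw, hAz, hBz, smul_sub]
    rw [← map_smul ρ, ← map_smul ρ, hL1z, sub_self]

section construction
variable (A B : Type u) [CommRing A] [CommRing B] [Algebra A B] (n : ℕ)
  (M₁ M₂ : Type u) [AddCommGroup M₁] [Module B M₁] [Module A M₁] [IsScalarTower A B M₁]
  [AddCommGroup M₂] [Module B M₂] [Module A M₂] [IsScalarTower A B M₂]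

/-- `∧ⁿ(b ↦ b m) ⊗ id` -/
noncomputable def Th1 (m : M₁) :
    (⋀[A]^n B) ⊗[A] (⋀[A]^n M₂) →ₗ[A] (⋀[A]^n M₁) ⊗[A] (⋀[A]^n M₂) :=
  (exteriorPower.map n (rM A B m)).rTensor (⋀[A]^n M₂)

/-- `id ⊗ ∧ⁿ(y ↦ m ⊗ y)` -/
noncomputable def Th2 (m : M₁) :
    (⋀[A]^n B) ⊗[A] (⋀[A]^n M₂) →ₗ[A] (⋀[A]^n B) ⊗[A] (⋀[A]^n (M₁ ⊗[B] M₂)) :=
  (exteriorPower.map n (lM A B M₂ m)).lTensor (⋀[A]^n B)

theorem key_tmul (f : A) (e : M₁) (s : M₁ →ₗ[B] B)
    (hse : ∀ m, s m • e = algebraMap A B f • m) (m : M₁) (y : M₂) :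
    e ⊗ₜ[B] (s m • y) = f • (m ⊗ₜ[B] y) := by
  rw [TensorProduct.tmul_smul, TensorProduct.smul_tmul', hse, TensorProduct.smul_tmul',
    algebraMap_smul]

theorem local_maps
    (hL2 : ∀ c : B, (exteriorPower.map n (mulB A B c B)).rTensor (⋀[A]^n M₂) =
      (exteriorPower.map n (mulB A B c M₂)).lTensor (⋀[A]^n B))
    (f : A) (e : M₁) (s : M₁ →ₗ[B] B) (hse : ∀ m, s m • e = algebraMap A B f • m) :
    ∃ (ψ : (⋀[A]^n M₁) ⊗[A] (⋀[A]^n M₂) →ₗ[A] (⋀[A]^n B) ⊗[A] (⋀[A]^n (M₁ ⊗[B] M₂)))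
      (ψ' : (⋀[A]^n B) ⊗[A] (⋀[A]^n (M₁ ⊗[B] M₂)) →ₗ[A] (⋀[A]^n M₁) ⊗[A] (⋀[A]^n M₂))
      (κ : (⋀[A]^n M₁) ⊗[A] (⋀[A]^n M₂) →ₗ[A] (⋀[A]^n B) ⊗[A] (⋀[A]^n M₂))
      (κ' : (⋀[A]^n B) ⊗[A] (⋀[A]^n (M₁ ⊗[B] M₂)) →ₗ[A] (⋀[A]^n B) ⊗[A] (⋀[A]^n M₂)),
      (∀ m, ψ ∘ₗ Th1 A B n M₁ M₂ m = f ^ n • Th2 A B n M₁ M₂ m) ∧
      (∀ m, ψ' ∘ₗ Th2 A B n M₁ M₂ m = f ^ n • Th1 A B n M₁ M₂ m) ∧
      Th1 A B n M₁ M₂ e ∘ₗ κ = f ^ n • LinearMap.id ∧
      Th2 A B n M₁ M₂ e ∘ₗ κ' = f ^ n • LinearMap.id := by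
  let sA : M₁ →ₗ[A] B := s.restrictScalars A
  let tA : M₁ ⊗[B] M₂ →ₗ[A] M₂ := tM A B M₂ s
  let κ : (⋀[A]^n M₁) ⊗[A] (⋀[A]^n M₂) →ₗ[A] (⋀[A]^n B) ⊗[A] (⋀[A]^n M₂) :=
    (exteriorPower.map n sA).rTensor (⋀[A]^n M₂)
  let κ' : (⋀[A]^n B) ⊗[A] (⋀[A]^n (M₁ ⊗[B] M₂)) →ₗ[A] (⋀[A]^n B) ⊗[A] (⋀[A]^n M₂) :=
    (exteriorPower.map n tA).lTensor (⋀[A]^n B)
  have i1 : rM A B e ∘ₗ sA = f • LinearMap.id := by
    refine LinearMap.ext fun m => ?_
    show s m • e = f • m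
    rw [hse, algebraMap_smul]
  have i2 : lM A B M₂ e ∘ₗ tA = f • LinearMap.id := by
    refine LinearMap.ext fun z => ?_
    induction z using TensorProduct.induction_on with
    | zero => simp
    | tmul m y => exact key_tmul A B M₁ M₂ f e s hse m y
    | add z z' hz hz' => rw [map_add, map_add, hz, hz']
  have i3 : ∀ m : M₁, sA ∘ₗ rM A B m = mulB A B (s m) B := by
    intro m
    refine LinearMap.ext fun b => ?_
    show s (b • m) = s m • b
    rw [map_smul, smul_eq_mul, smul_eq_mul, mul_comm]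
  have i4 : ∀ m : M₁, lM A B M₂ e ∘ₗ mulB A B (s m) M₂ = f • lM A B M₂ m := by
    intro m
    refine LinearMap.ext fun y => ?_
    exact key_tmul A B M₁ M₂ f e s hse m y
  have i5 : ∀ m : M₁, tA ∘ₗ lM A B M₂ m = mulB A B (s m) M₂ := by
    intro m
    refine LinearMap.ext fun y => ?_
    rfl
  have i6 : ∀ m : M₁, rM A B e ∘ₗ mulB A B (s m) B = f • rM A B m := by
    intro m
    refine LinearMap.ext fun b => ?_
    show (s m • b) • e = f • (b • m)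
    rw [smul_eq_mul, mul_comm, mul_smul, hse, algebraMap_smul, smul_comm]
  refine ⟨Th2 A B n M₁ M₂ e ∘ₗ κ, Th1 A B n M₁ M₂ e ∘ₗ κ', κ, κ', ?_, ?_, ?_, ?_⟩
  · intro m
    have e1 : κ ∘ₗ Th1 A B n M₁ M₂ m =
        (exteriorPower.map n (mulB A B (s m) M₂)).lTensor (⋀[A]^n B) := by
      show (exteriorPower.map n sA).rTensor (⋀[A]^n M₂) ∘ₗ
        (exteriorPower.map n (rM A B m)).rTensor (⋀[A]^n M₂) = _
      rw [← LinearMap.rTensor_comp, ← exteriorPower.map_comp, i3, hL2]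
    rw [LinearMap.comp_assoc, e1]
    show (exteriorPower.map n (lM A B M₂ e)).lTensor (⋀[A]^n B) ∘ₗ
      (exteriorPower.map n (mulB A B (s m) M₂)).lTensor (⋀[A]^n B) = _
    rw [← LinearMap.lTensor_comp, ← exteriorPower.map_comp, i4, ep_map_smul,
      LinearMap.lTensor_smul]
    rfl
  · intro m
    have e1 : κ' ∘ₗ Th2 A B n M₁ M₂ m =
        (exteriorPower.map n (mulB A B (s m) B)).rTensor (⋀[A]^n M₂) := by
      show (exteriorPower.map n tA).lTensor (⋀[A]^n B) ∘ₗ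
        (exteriorPower.map n (lM A B M₂ m)).lTensor (⋀[A]^n B) = _
      rw [← LinearMap.lTensor_comp, ← exteriorPower.map_comp, i5, hL2]
    rw [LinearMap.comp_assoc, e1]
    show (exteriorPower.map n (rM A B e)).rTensor (⋀[A]^n M₂) ∘ₗ
      (exteriorPower.map n (mulB A B (s m) B)).rTensor (⋀[A]^n M₂) = _
    rw [← LinearMap.rTensor_comp, ← exteriorPower.map_comp, i6, ep_map_smul,
      LinearMap.rTensor_smul]
    rfl
  · show (exteriorPower.map n (rM A B e)).rTensor (⋀[A]^n M₂) ∘ₗ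
      (exteriorPower.map n sA).rTensor (⋀[A]^n M₂) = _
    rw [← LinearMap.rTensor_comp, ← exteriorPower.map_comp, i1, ep_map_smul_id,
      LinearMap.rTensor_smul, LinearMap.rTensor_id]
  · show (exteriorPower.map n (lM A B M₂ e)).lTensor (⋀[A]^n B) ∘ₗ
      (exteriorPower.map n tA).lTensor (⋀[A]^n B) = _
    rw [← LinearMap.lTensor_comp, ← exteriorPower.map_comp, i2, ep_map_smul_id,
      LinearMap.lTensor_smul, LinearMap.lTensor_id]

end construction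

theorem main
    (A B : Type u) [CommRing A] [CommRing B] [Algebra A B] [Module.Finite A B] [Module.Projective A B]
    (n : ℕ) (hn : ∀ q : PrimeSpectrum A, Module.finrank (Localization.AtPrime q.asIdeal) (LocalizedModule q.asIdeal.primeCompl B) = n)
    (M₁ M₂ : Type u) [AddCommGroup M₁] [Module B M₁] [Module A M₁] [IsScalarTower A B M₁]
    [AddCommGroup M₂] [Module B M₂] [Module A M₂] [IsScalarTower A B M₂]
    [Module.Finite B M₁] [Module.Projective B M₁] [Module.Finite B M₂] [Module.Projective B M₂]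
    (h₁ : ∀ q : PrimeSpectrum B, Module.finrank (Localization.AtPrime q.asIdeal) (LocalizedModule q.asIdeal.primeCompl M₁) = 1)
    (h₂ : ∀ q : PrimeSpectrum B, Module.finrank (Localization.AtPrime q.asIdeal) (LocalizedModule q.asIdeal.primeCompl M₂) = 1) :
    Nonempty ((⋀[A]^n B) ⊗[A] (⋀[A]^n (M₁ ⊗[B] M₂)) ≃ₗ[A] (⋀[A]^n M₁) ⊗[A] (⋀[A]^n M₂)) := by
  classical
  have hL2 := fun c : B => L2 A B n hn M₂ h₂ c
  let Θ : (M₁ →₀ (⋀[A]^n B) ⊗[A] (⋀[A]^n M₂)) →ₗ[A] (⋀[A]^n M₁) ⊗[A] (⋀[A]^n M₂) :=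
    Finsupp.lsum ℕ (Th1 A B n M₁ M₂)
  let Θ' : (M₁ →₀ (⋀[A]^n B) ⊗[A] (⋀[A]^n M₂)) →ₗ[A]
      (⋀[A]^n B) ⊗[A] (⋀[A]^n (M₁ ⊗[B] M₂)) :=
    Finsupp.lsum ℕ (Th2 A B n M₁ M₂)
  have hΘs : ∀ m x, Θ (Finsupp.single m x) = Th1 A B n M₁ M₂ m x := fun m x =>
    Finsupp.lsum_single ℕ _ m x
  have hΘ's : ∀ m x, Θ' (Finsupp.single m x) = Th2 A B n M₁ M₂ m x := fun m x =>
    Finsupp.lsum_single ℕ _ m x
  have hloc : ∀ (𝔭 : Ideal A) [𝔭.IsPrime], ∃ (f : A) (e : M₁)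
      (ψ : (⋀[A]^n M₁) ⊗[A] (⋀[A]^n M₂) →ₗ[A] (⋀[A]^n B) ⊗[A] (⋀[A]^n (M₁ ⊗[B] M₂)))
      (ψ' : (⋀[A]^n B) ⊗[A] (⋀[A]^n (M₁ ⊗[B] M₂)) →ₗ[A] (⋀[A]^n M₁) ⊗[A] (⋀[A]^n M₂))
      (κ : (⋀[A]^n M₁) ⊗[A] (⋀[A]^n M₂) →ₗ[A] (⋀[A]^n B) ⊗[A] (⋀[A]^n M₂))
      (κ' : (⋀[A]^n B) ⊗[A] (⋀[A]^n (M₁ ⊗[B] M₂)) →ₗ[A] (⋀[A]^n B) ⊗[A] (⋀[A]^n M₂)),
      f ^ n ∉ 𝔭 ∧ ψ ∘ₗ Θ = f ^ n • Θ' ∧ ψ' ∘ₗ Θ' = f ^ n • Θ ∧
      (∀ p, Θ (Finsupp.single e (κ p)) = f ^ n • p) ∧
      (∀ q, Θ' (Finsupp.single e (κ' q)) = f ^ n • q) := by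
    intro 𝔭 _
    obtain ⟨f, e, s, hf, -, hse⟩ := exists_local_gen A B M₁ h₁ 𝔭
    obtain ⟨ψ, ψ', κ, κ', k1, k2, k3, k4⟩ := local_maps A B n M₁ M₂ hL2 f e s hse
    refine ⟨f, e, ψ, ψ', κ, κ', fun h => hf (Ideal.IsPrime.mem_of_pow_mem ‹_› n h),
      ?_, ?_, ?_, ?_⟩
    · apply Finsupp.lhom_ext
      intro m x
      rw [LinearMap.comp_apply, LinearMap.smul_apply, hΘs, hΘ's]
      exact LinearMap.congr_fun (k1 m) x
    · apply Finsupp.lhom_ext
      intro m x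
      rw [LinearMap.comp_apply, LinearMap.smul_apply, hΘs, hΘ's]
      exact LinearMap.congr_fun (k2 m) x
    · intro p
      rw [hΘs]
      exact LinearMap.congr_fun k3 p
    · intro q
      rw [hΘ's]
      exact LinearMap.congr_fun k4 q
  have hsurj : Function.Surjective Θ := by
    intro p
    have hp : p ∈ LinearMap.range Θ := by
      refine mem_of_local (A := A) (LinearMap.range Θ) p ?_
      intro 𝔭 _
      obtain ⟨f, e, ψ, ψ', κ, κ', hf, -, -, k3, -⟩ := hloc 𝔭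
      exact ⟨f ^ n, hf, ⟨_, k3 p⟩⟩
    exact hp
  have hsurj' : Function.Surjective Θ' := by
    intro q
    have hq : q ∈ LinearMap.range Θ' := by
      refine mem_of_local (A := A) (LinearMap.range Θ') q ?_
      intro 𝔭 _
      obtain ⟨f, e, ψ, ψ', κ, κ', hf, -, -, -, k4⟩ := hloc 𝔭
      exact ⟨f ^ n, hf, ⟨_, k4 q⟩⟩
    exact hq
  have heq : ∀ d d', Θ d = Θ d' ↔ Θ' d = Θ' d' := by
    intro d d'
    constructor
    · intro hd
      refine eq_of_local' (A := A) (Θ' d) (Θ' d') ?_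
      intro 𝔭 _
      obtain ⟨f, e, ψ, ψ', κ, κ', hf, k1, -, -, -⟩ := hloc 𝔭
      refine ⟨f ^ n, hf, ?_⟩
      have e1 := LinearMap.congr_fun k1 d
      have e2 := LinearMap.congr_fun k1 d'
      rw [LinearMap.comp_apply, LinearMap.smul_apply] at e1 e2
      rw [← e1, ← e2, hd]
    · intro hd
      refine eq_of_local' (A := A) (Θ d) (Θ d') ?_
      intro 𝔭 _
      obtain ⟨f, e, ψ, ψ', κ, κ', hf, -, k2, -, -⟩ := hloc 𝔭
      refine ⟨f ^ n, hf, ?_⟩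
      have e1 := LinearMap.congr_fun k2 d
      have e2 := LinearMap.congr_fun k2 d'
      rw [LinearMap.comp_apply, LinearMap.smul_apply] at e1 e2
      rw [← e1, ← e2, hd]
  exact nonempty_equiv_of_presentations Θ Θ' hsurj hsurj' heq

end helpers

/-- Let A → B be a ring homomorphism making B a finite locally free A-module of constant rank n, and let
M₁, M₂ be locally free B-modules of rank 1. Then, as A-modules, ∧ⁿ_A B ⊗_A ∧ⁿ_A(M₁ ⊗_B M₂) ≅ ∧ⁿ_A M₁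
⊗_A ∧ⁿ_A M₂. (The published statement gives a specific, canonical isomorphism and covers any finite
family M₁, …, M_r, with the (r−1)-st tensor power of ∧ⁿ_A B; this row asserts only that an
isomorphism exists, for two modules, the case from which the general one follows by induction.)
Locally free of rank r is expressed as finitely generated projective with all localisations at
primes of rank r. -/
theorem result
    (A B : Type u) [CommRing A] [CommRing B] [Algebra A B] [Module.Finite A B] [Module.Projective A B]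
    (n : ℕ) (hn : ∀ q : PrimeSpectrum A, Module.finrank (Localization.AtPrime q.asIdeal) (LocalizedModule q.asIdeal.primeCompl B) = n)
    (M₁ M₂ : Type u) [AddCommGroup M₁] [Module B M₁] [Module A M₁] [IsScalarTower A B M₁]
    [AddCommGroup M₂] [Module B M₂] [Module A M₂] [IsScalarTower A B M₂]
    [Module.Finite B M₁] [Module.Projective B M₁] [Module.Finite B M₂] [Module.Projective B M₂]
    (h₁ : ∀ q : PrimeSpectrum B, Module.finrank (Localization.AtPrime q.asIdeal) (LocalizedModule q.asIdeal.primeCompl M₁) = 1)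
    (h₂ : ∀ q : PrimeSpectrum B, Module.finrank (Localization.AtPrime q.asIdeal) (LocalizedModule q.asIdeal.primeCompl M₂) = 1) :
    Nonempty ((⋀[A]^n B) ⊗[A] (⋀[A]^n (M₁ ⊗[B] M₂)) ≃ₗ[A] (⋀[A]^n M₁) ⊗[A] (⋀[A]^n M₂)) := by
  exact main A B n hn M₁ M₂ h₁ h₂

end Groth.Agent.S13118
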