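import Mathlib
import Groth.Statements.S13119
import Groth.Agent.Lib.Helper96.NormStar
import Groth.Agent.Lib.Helper96.NormJ

set_option autoImplicit false
universe u
open scoped TensorProduct
open HilbChow

namespace Groth.Agent.S13119

section helpers
open Groth.Agent.Lib.Helper96.NormLocal

section defs
variable (A B : Type u) [CommRing A] [CommRing B] [Algebra A B] (n k' : ℕ)
  (M : Type u) [AddCommGroup M] [Module B M] [Module A M] [IsScalarTower A B M]

/-- generator of `⋀^k_B (B^k)` -/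
noncomputable def epsB (k : ℕ) : ⋀[B]^k (Fin k → B) :=
  exteriorPower.ιMulti B k (Pi.basisFun B (Fin k))

/-- `b ↦ b • ⋀^k(u) ε` -/
noncomputable def delta (u : (Fin (k' + 1) → B) →ₗ[B] M) : B →ₗ[A] ⋀[B]^(k' + 1) M :=
  (LinearMap.toSpanSingleton B (⋀[B]^(k' + 1) M)
    (exteriorPower.map (k' + 1) u (epsB B (k' + 1)))).restrictScalars A

theorem delta_apply (u : (Fin (k' + 1) → B) →ₗ[B] M) (b : B) :
    delta A B k' M u b = b • exteriorPower.map (k' + 1) u (epsB B (k' + 1)) := rfl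

/-- presentation of `⋀^{nk}_A M` -/
noncomputable def ThX (u : (Fin (k' + 1) → B) →ₗ[B] M) :
    (TensorPower A k' (⋀[A]^n B)) ⊗[A] (⋀[A]^n B) →ₗ[A] ⋀[A]^(n * (k' + 1)) M :=
  exteriorPower.map (n * (k' + 1)) (u.restrictScalars A) ∘ₗ
    Jmap n k' (fun j => LinearMap.single A (fun _ : Fin (k' + 1) => B) j)

/-- presentation of `L^{⊗(k-1)} ⊗ ⋀^n_A (⋀^k_B M)` -/
noncomputable def ThY (u : (Fin (k' + 1) → B) →ₗ[B] M) :
    (TensorPower A k' (⋀[A]^n B)) ⊗[A] (⋀[A]^n B) →ₗ[A]
      (TensorPower A k' (⋀[A]^n B)) ⊗[A] (⋀[A]^n (⋀[B]^(k' + 1) M)) :=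
  (exteriorPower.map n (delta A B k' M u)).lTensor (TensorPower A k' (⋀[A]^n B))

end defs

section monoidversions

theorem eq_of_local'' {A : Type*} [CommRing A] {X : Type*} [AddCommMonoid X] [Module A X]
    (x y : X) (h : ∀ (𝔭 : Ideal A) [𝔭.IsPrime], ∃ f : A, f ∉ 𝔭 ∧ f • x = f • y) : x = y := by
  let _ : AddCommGroup X := Module.addCommMonoidToAddCommGroup A
  exact eq_of_local' (A := A) x y h

theorem mem_of_local'' {A : Type*} [CommRing A] {X : Type*} [AddCommMonoid X] [Module A X]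
    (N : Submodule A X) (x : X)
    (h : ∀ (𝔭 : Ideal A) [𝔭.IsPrime], ∃ f : A, f ∉ 𝔭 ∧ f • x ∈ N) : x ∈ N := by
  let _ : AddCommGroup X := Module.addCommMonoidToAddCommGroup A
  exact mem_of_local (A := A) N x h

end monoidversions

section localdata
variable {A B : Type u} [CommRing A] [CommRing B] [Algebra A B] {n k' : ℕ}
  {M : Type u} [AddCommGroup M] [Module B M] [Module A M] [IsScalarTower A B M]

set_option maxHeartbeats 1600000 in
theorem local_data (𝔭 : Ideal A) [𝔭.IsPrime] (f : A) (hf : f ∉ 𝔭)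
    (ue : (Fin (k' + 1) → B) →ₗ[B] M) (s : M →ₗ[B] (Fin (k' + 1) → B))
    (hsu : s ∘ₗ ue = algebraMap A B f • LinearMap.id)
    (hus : ue ∘ₗ s = algebraMap A B f • LinearMap.id)
    (g₀ : A) (hg₀ : g₀ ∉ 𝔭) (σ : B →ₗ[A] (Fin n → A)) (φ : (Fin n → A) →ₗ[A] B)
    (hφσ : φ ∘ₗ σ = g₀ • LinearMap.id) (hσφ : σ ∘ₗ φ = g₀ • LinearMap.id) :
    ∃ (Ke : ⋀[A]^(n * (k' + 1)) M →ₗ[A] (TensorPower A k' (⋀[A]^n B)) ⊗[A] (⋀[A]^n B))
      (Ke' : (TensorPower A k' (⋀[A]^n B)) ⊗[A] (⋀[A]^n (⋀[B]^(k' + 1) M)) →ₗ[A]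
        (TensorPower A k' (⋀[A]^n B)) ⊗[A] (⋀[A]^n B)) (c c' : A), c ∉ 𝔭 ∧ c' ∉ 𝔭 ∧
      Ke ∘ₗ ThX A B n k' M ue = c • LinearMap.id ∧ ThX A B n k' M ue ∘ₗ Ke = c • LinearMap.id ∧
      Ke' ∘ₗ ThY A B n k' M ue = c' • LinearMap.id ∧
      ThY A B n k' M ue ∘ₗ Ke' = c' • LinearMap.id ∧
      ∀ u : (Fin (k' + 1) → B) →ₗ[B] M, ∃ H : A, H ∉ 𝔭 ∧ ∃ a : A,
        H • ThX A B n k' M u = a • ThX A B n k' M ue ∧
        H • ThY A B n k' M u = a • ThY A B n k' M ue := by
  classical
  have hsu' : ∀ x, s (ue x) = algebraMap A B f • x := fun x => LinearMap.congr_fun hsu x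
  have hus' : ∀ y, ue (s y) = algebraMap A B f • y := fun y => LinearMap.congr_fun hus y
  have hsuA : s.restrictScalars A ∘ₗ ue.restrictScalars A = f • LinearMap.id := by
    refine LinearMap.ext fun x => ?_
    show s (ue x) = f • x
    rw [hsu', algebraMap_smul]
  have husA : ue.restrictScalars A ∘ₗ s.restrictScalars A = f • LinearMap.id := by
    refine LinearMap.ext fun y => ?_
    show ue (s y) = f • y
    rw [hus', algebraMap_smul]
  obtain ⟨K, hK1, hK2⟩ := exists_J_local_inverse (A := A) n k' g₀ σ φ hφσ hσφ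
  let JB := Jmap n k' (fun j => LinearMap.single A (fun _ : Fin (k' + 1) => B) j)
  have hThX : ∀ u : (Fin (k' + 1) → B) →ₗ[B] M, ThX A B n k' M u =
      exteriorPower.map (n * (k' + 1)) (u.restrictScalars A) ∘ₗ JB := fun u => rfl
  have hThY : ∀ u : (Fin (k' + 1) → B) →ₗ[B] M, ThY A B n k' M u =
      (exteriorPower.map n (delta A B k' M u)).lTensor (TensorPower A k' (⋀[A]^n B)) :=
    fun u => rfl
  have hK1' : K ∘ₗ JB = g₀ ^ (n * (k' + 1)) • LinearMap.id := hK1
  have hK2' : JB ∘ₗ K = g₀ ^ (n * (k' + 1)) • LinearMap.id := hK2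
  let εB := epsB B (k' + 1)
  let bB := Pi.basisFun B (Fin (k' + 1))
  have hεB : εB = exteriorPower.ιMulti B (k' + 1) bB := rfl
  let te : ⋀[B]^(k' + 1) M →ₗ[A] B :=
    ((topCoord bB) ∘ₗ exteriorPower.map (k' + 1) s).restrictScalars A
  have hte : ∀ d, te d = topCoord bB (exteriorPower.map (k' + 1) s d) := fun d => rfl
  have hmapsu : ∀ z, exteriorPower.map (k' + 1) s (exteriorPower.map (k' + 1) ue z) =
      (algebraMap A B f) ^ (k' + 1) • z := by
    intro z
    rw [← LinearMap.comp_apply, ← exteriorPower.map_comp, hsu, ep_map_smul_id]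
    rfl
  have hmapus : ∀ d, exteriorPower.map (k' + 1) ue (exteriorPower.map (k' + 1) s d) =
      (algebraMap A B f) ^ (k' + 1) • d := by
    intro d
    rw [← LinearMap.comp_apply, ← exteriorPower.map_comp, hus, ep_map_smul_id]
    rfl
  have hpow : ∀ {X : Type u} [AddCommGroup X] [Module B X] [Module A X] [IsScalarTower A B X]
      (x : X), (algebraMap A B f) ^ (k' + 1) • x = f ^ (k' + 1) • x := by
    intro X _ _ _ _ x
    rw [← map_pow, algebraMap_smul]
  have h_td : te ∘ₗ delta A B k' M ue = f ^ (k' + 1) • LinearMap.id := by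
    refine LinearMap.ext fun b => ?_
    show te (delta A B k' M ue b) = f ^ (k' + 1) • b
    rw [hte, delta_apply, map_smul, map_smul, hmapsu, map_smul]
    show b • ((algebraMap A B f) ^ (k' + 1) • topCoord bB (exteriorPower.ιMulti B (k' + 1) bB)) = _
    rw [topCoord_self, smul_eq_mul, smul_eq_mul, mul_one, ← hpow b, smul_eq_mul, mul_comm]
  have h_dt : delta A B k' M ue ∘ₗ te = f ^ (k' + 1) • LinearMap.id := by
    refine LinearMap.ext fun d => ?_
    show delta A B k' M ue (te d) = f ^ (k' + 1) • d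
    rw [delta_apply, hte, ← map_smul]
    show exteriorPower.map (k' + 1) ue (topCoord bB (exteriorPower.map (k' + 1) s d) •
      exteriorPower.ιMulti B (k' + 1) bB) = _
    rw [← ep_top_cyclic bB, hmapus]
    exact hpow d
  refine ⟨K ∘ₗ exteriorPower.map (n * (k' + 1)) (s.restrictScalars A),
    (exteriorPower.map n te).lTensor (TensorPower A k' (⋀[A]^n B)),
    f ^ (n * (k' + 1)) * g₀ ^ (n * (k' + 1)), (f ^ (k' + 1)) ^ n, ?_, ?_, ?_, ?_, ?_, ?_, ?_⟩
  · exact 𝔭.primeCompl.mul_mem (pow_mem hf _) (pow_mem hg₀ _)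
  · show (f ^ (k' + 1)) ^ n ∈ 𝔭.primeCompl
    exact pow_mem (pow_mem (show f ∈ 𝔭.primeCompl from hf) _) _
  · calc (K ∘ₗ exteriorPower.map (n * (k' + 1)) (s.restrictScalars A)) ∘ₗ ThX A B n k' M ue
        = K ∘ₗ (exteriorPower.map (n * (k' + 1)) (s.restrictScalars A) ∘ₗ
            exteriorPower.map (n * (k' + 1)) (ue.restrictScalars A)) ∘ₗ JB := by
          rw [hThX]; simp only [LinearMap.comp_assoc]
      _ = (f ^ (n * (k' + 1)) * g₀ ^ (n * (k' + 1))) • LinearMap.id := by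
          rw [← exteriorPower.map_comp, hsuA, ep_map_smul_id, LinearMap.smul_comp,
            LinearMap.id_comp, LinearMap.comp_smul, hK1', smul_smul]
  · calc ThX A B n k' M ue ∘ₗ (K ∘ₗ exteriorPower.map (n * (k' + 1)) (s.restrictScalars A))
        = exteriorPower.map (n * (k' + 1)) (ue.restrictScalars A) ∘ₗ (JB ∘ₗ K) ∘ₗ
            exteriorPower.map (n * (k' + 1)) (s.restrictScalars A) := by
          rw [hThX]; simp only [LinearMap.comp_assoc]
      _ = (f ^ (n * (k' + 1)) * g₀ ^ (n * (k' + 1))) • LinearMap.id := by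
          rw [hK2', LinearMap.smul_comp, LinearMap.id_comp, LinearMap.comp_smul,
            ← exteriorPower.map_comp, husA, ep_map_smul_id, smul_smul]
          congr 1
          ring
  · rw [hThY, ← LinearMap.lTensor_comp, ← exteriorPower.map_comp, h_td, ep_map_smul_id,
      LinearMap.lTensor_smul, LinearMap.lTensor_id]
  · rw [hThY, ← LinearMap.lTensor_comp, ← exteriorPower.map_comp, h_dt, ep_map_smul_id,
      LinearMap.lTensor_smul, LinearMap.lTensor_id]
  · intro u
    let g := s ∘ₗ u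
    have hg : g = s ∘ₗ u := rfl
    obtain ⟨m, a, hm1, hm2⟩ := star hφσ hσφ g
    have hfu : f • u.restrictScalars A = ue.restrictScalars A ∘ₗ g.restrictScalars A := by
      refine LinearMap.ext fun x => ?_
      show f • u x = ue (s (u x))
      rw [hus', algebraMap_smul]
    have hgε : exteriorPower.map (k' + 1) g εB = LinearMap.det g • εB := by
      rw [ep_map_top bB g]; rfl
    have hD2 : f ^ (k' + 1) • delta A B k' M u =
        delta A B k' M ue ∘ₗ LinearMap.mulLeft A (LinearMap.det g) := by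
      refine LinearMap.ext fun b => ?_
      show f ^ (k' + 1) • delta A B k' M u b = delta A B k' M ue (LinearMap.det g * b)
      have h1 : exteriorPower.map (k' + 1) ue (exteriorPower.map (k' + 1) g εB) =
          (algebraMap A B f) ^ (k' + 1) • exteriorPower.map (k' + 1) u εB := by
        rw [← LinearMap.comp_apply, ← exteriorPower.map_comp, hg, ← LinearMap.comp_assoc, hus,
          LinearMap.smul_comp, LinearMap.id_comp, ep_map_smul]
        rfl
      rw [delta_apply, delta_apply]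
      show f ^ (k' + 1) • b • exteriorPower.map (k' + 1) u εB =
        (LinearMap.det g * b) • exteriorPower.map (k' + 1) ue εB
      rw [smul_comm, ← hpow (exteriorPower.map (k' + 1) u εB), ← h1, hgε, map_smul, smul_smul,
        mul_comm]
    refine ⟨g₀ ^ m * f ^ (n * (k' + 1)), 𝔭.primeCompl.mul_mem (pow_mem hg₀ _) (pow_mem hf _),
      a, ?_, ?_⟩
    · rw [hThX, hThX, mul_smul, ← LinearMap.smul_comp (f ^ (n * (k' + 1))), ← ep_map_smul, hfu,
        exteriorPower.map_comp, ← LinearMap.smul_comp, ← LinearMap.comp_smul, hm1,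
        LinearMap.comp_smul, LinearMap.comp_id, LinearMap.smul_comp]
    · rw [hThY, hThY]
      have hpw : f ^ (n * (k' + 1)) = (f ^ (k' + 1)) ^ n := by rw [← pow_mul, mul_comm]
      rw [mul_smul, hpw, ← LinearMap.lTensor_smul, ← ep_map_smul, hD2, exteriorPower.map_comp,
        ← LinearMap.lTensor_smul, ← LinearMap.comp_smul, hm2, LinearMap.comp_smul,
        LinearMap.comp_id, LinearMap.lTensor_smul]

end localdata

set_option maxHeartbeats 1600000 in
theorem main
    (A B : Type u) [CommRing A] [CommRing B] [Algebra A B] [Module.Finite A B] [Module.Projective A B]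
    (n : ℕ) (hn : ∀ q : PrimeSpectrum A, Module.finrank (Localization.AtPrime q.asIdeal) (LocalizedModule q.asIdeal.primeCompl B) = n)
    (M : Type u) [AddCommGroup M] [Module B M] [Module A M] [IsScalarTower A B M]
    [Module.Finite B M] [Module.Projective B M] (k' : ℕ)
    (hM : ∀ q : PrimeSpectrum B, Module.finrank (Localization.AtPrime q.asIdeal) (LocalizedModule q.asIdeal.primeCompl M) = k' + 1) :
    Nonempty ((⋀[A]^(n * (k' + 1)) M) ≃ₗ[A]
      (TensorPower A k' (⋀[A]^n B)) ⊗[A] (⋀[A]^n (⋀[B]^(k' + 1) M))) := by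
  classical
  let Θ : (((Fin (k' + 1) → B) →ₗ[B] M) →₀ (TensorPower A k' (⋀[A]^n B)) ⊗[A] (⋀[A]^n B)) →ₗ[A]
      ⋀[A]^(n * (k' + 1)) M := Finsupp.lsum ℕ (ThX A B n k' M)
  let Θ' : (((Fin (k' + 1) → B) →ₗ[B] M) →₀ (TensorPower A k' (⋀[A]^n B)) ⊗[A] (⋀[A]^n B)) →ₗ[A]
      (TensorPower A k' (⋀[A]^n B)) ⊗[A] (⋀[A]^n (⋀[B]^(k' + 1) M)) :=
    Finsupp.lsum ℕ (ThY A B n k' M)
  have hΘs : ∀ u x, Θ (Finsupp.single u x) = ThX A B n k' M u x := fun u x =>
    Finsupp.lsum_single ℕ _ u x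
  have hΘ's : ∀ u x, Θ' (Finsupp.single u x) = ThY A B n k' M u x := fun u x =>
    Finsupp.lsum_single ℕ _ u x
  have hloc : ∀ (𝔭 : Ideal A) [𝔭.IsPrime], ∃ (ue : (Fin (k' + 1) → B) →ₗ[B] M)
      (Ke : ⋀[A]^(n * (k' + 1)) M →ₗ[A] (TensorPower A k' (⋀[A]^n B)) ⊗[A] (⋀[A]^n B))
      (Ke' : (TensorPower A k' (⋀[A]^n B)) ⊗[A] (⋀[A]^n (⋀[B]^(k' + 1) M)) →ₗ[A]
        (TensorPower A k' (⋀[A]^n B)) ⊗[A] (⋀[A]^n B)) (c c' : A), c ∉ 𝔭 ∧ c' ∉ 𝔭 ∧
      Ke ∘ₗ ThX A B n k' M ue = c • LinearMap.id ∧ ThX A B n k' M ue ∘ₗ Ke = c • LinearMap.id ∧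
      Ke' ∘ₗ ThY A B n k' M ue = c' • LinearMap.id ∧
      ThY A B n k' M ue ∘ₗ Ke' = c' • LinearMap.id ∧
      ∀ d, ∃ H : A, H ∉ 𝔭 ∧ ∃ z, H • Θ d = ThX A B n k' M ue z ∧
        H • Θ' d = ThY A B n k' M ue z := by
    intro 𝔭 _
    obtain ⟨g₀, σ, φ, hg₀, hφσ, hσφ⟩ := exists_local_frame₂ A B n 𝔭 (hn ⟨𝔭, inferInstance⟩)
    obtain ⟨f, ue, s, hf, hsu, hus⟩ := exists_local_basis A B M (k' + 1) hM 𝔭
    obtain ⟨Ke, Ke', c, c', hc, hc', h1, h2, h3, h4, hcmp⟩ :=
      local_data (n := n) 𝔭 f hf ue s hsu hus g₀ hg₀ σ φ hφσ hσφ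
    refine ⟨ue, Ke, Ke', c, c', hc, hc', h1, h2, h3, h4, ?_⟩
    intro d
    induction d using Finsupp.induction_linear with
    | zero =>
      exact ⟨1, 𝔭.primeCompl.one_mem, 0, by simp, by simp⟩
    | add d₁ d₂ h₁ h₂ =>
      obtain ⟨H₁, hH₁, z₁, e₁, e₁'⟩ := h₁
      obtain ⟨H₂, hH₂, z₂, e₂, e₂'⟩ := h₂
      refine ⟨H₁ * H₂, 𝔭.primeCompl.mul_mem hH₁ hH₂, H₂ • z₁ + H₁ • z₂, ?_, ?_⟩
      · calc (H₁ * H₂) • Θ (d₁ + d₂) = H₂ • (H₁ • Θ d₁) + H₁ • (H₂ • Θ d₂) := by
              rw [map_add, smul_add, smul_smul, smul_smul, mul_comm H₂ H₁]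
          _ = ThX A B n k' M ue (H₂ • z₁ + H₁ • z₂) := by
              rw [e₁, e₂, map_add, map_smul, map_smul]
      · calc (H₁ * H₂) • Θ' (d₁ + d₂) = H₂ • (H₁ • Θ' d₁) + H₁ • (H₂ • Θ' d₂) := by
              rw [map_add, smul_add, smul_smul, smul_smul, mul_comm H₂ H₁]
          _ = ThY A B n k' M ue (H₂ • z₁ + H₁ • z₂) := by
              rw [e₁', e₂', map_add, map_smul, map_smul]
    | single u x =>
      obtain ⟨H, hH, a, ha1, ha2⟩ := hcmp u
      refine ⟨H, hH, a • x, ?_, ?_⟩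
      · rw [hΘs, map_smul]
        exact LinearMap.congr_fun ha1 x
      · rw [hΘ's, map_smul]
        exact LinearMap.congr_fun ha2 x
  have hsurj : Function.Surjective Θ := by
    intro p
    have hp : p ∈ LinearMap.range Θ := by
      refine mem_of_local'' (A := A) (LinearMap.range Θ) p ?_
      intro 𝔭 _
      obtain ⟨ue, Ke, Ke', c, c', hc, hc', h1, h2, h3, h4, -⟩ := hloc 𝔭
      refine ⟨c, hc, ⟨Finsupp.single ue (Ke p), ?_⟩⟩
      rw [hΘs]
      exact LinearMap.congr_fun h2 p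
    exact hp
  have hsurj' : Function.Surjective Θ' := by
    intro q
    have hq : q ∈ LinearMap.range Θ' := by
      refine mem_of_local'' (A := A) (LinearMap.range Θ') q ?_
      intro 𝔭 _
      obtain ⟨ue, Ke, Ke', c, c', hc, hc', h1, h2, h3, h4, -⟩ := hloc 𝔭
      refine ⟨c', hc', ⟨Finsupp.single ue (Ke' q), ?_⟩⟩
      rw [hΘ's]
      exact LinearMap.congr_fun h4 q
    exact hq
  have heq : ∀ d d', Θ d = Θ d' ↔ Θ' d = Θ' d' := by
    intro d d'
    constructor
    · intro hd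
      refine eq_of_local'' (A := A) (Θ' d) (Θ' d') ?_
      intro 𝔭 _
      obtain ⟨ue, Ke, Ke', c, c', hc, hc', h1, h2, h3, h4, hcl⟩ := hloc 𝔭
      obtain ⟨H, hH, z, ez, ez'⟩ := hcl d
      obtain ⟨H', hH', z', ez₂, ez₂'⟩ := hcl d'
      refine ⟨c * (H' * H), 𝔭.primeCompl.mul_mem hc (𝔭.primeCompl.mul_mem hH' hH), ?_⟩
      -- Θ_e (H' • z) = Θ_e (H • z')
      have e1 : ThX A B n k' M ue (H' • z) = ThX A B n k' M ue (H • z') := by
        rw [map_smul, map_smul, ← ez, ← ez₂, hd, smul_comm]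
      have e2 : c • (H' • z) = c • (H • z') := by
        have := congrArg Ke e1
        rwa [← LinearMap.comp_apply, ← LinearMap.comp_apply, h1] at this
      have e3 := congrArg (ThY A B n k' M ue) e2
      rw [map_smul, map_smul, map_smul, map_smul, ← ez', ← ez₂'] at e3
      calc (c * (H' * H)) • Θ' d = c • H' • H • Θ' d := by rw [mul_smul, mul_smul]
        _ = c • H • H' • Θ' d' := e3
        _ = (c * (H' * H)) • Θ' d' := by rw [mul_smul, mul_smul, smul_comm H H']
    · intro hd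
      refine eq_of_local'' (A := A) (Θ d) (Θ d') ?_
      intro 𝔭 _
      obtain ⟨ue, Ke, Ke', c, c', hc, hc', h1, h2, h3, h4, hcl⟩ := hloc 𝔭
      obtain ⟨H, hH, z, ez, ez'⟩ := hcl d
      obtain ⟨H', hH', z', ez₂, ez₂'⟩ := hcl d'
      refine ⟨c' * (H' * H), 𝔭.primeCompl.mul_mem hc' (𝔭.primeCompl.mul_mem hH' hH), ?_⟩
      have e1 : ThY A B n k' M ue (H' • z) = ThY A B n k' M ue (H • z') := by
        rw [map_smul, map_smul, ← ez', ← ez₂', hd, smul_comm]
      have e2 : c' • (H' • z) = c' • (H • z') := by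
        have := congrArg Ke' e1
        rwa [← LinearMap.comp_apply, ← LinearMap.comp_apply, h3] at this
      have e3 := congrArg (ThX A B n k' M ue) e2
      rw [map_smul, map_smul, map_smul, map_smul, ← ez, ← ez₂] at e3
      calc (c' * (H' * H)) • Θ d = c' • H' • H • Θ d := by rw [mul_smul, mul_smul]
        _ = c' • H • H' • Θ d' := e3
        _ = (c' * (H' * H)) • Θ d' := by rw [mul_smul, mul_smul, smul_comm H H']
  obtain ⟨E⟩ := nonempty_equiv_of_presentations Θ Θ' hsurj hsurj' heq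
  exact ⟨E.symm⟩

end helpers

/-- Let A → B be a ring homomorphism making B a finite locally free A-module of constant rank n, and
take a B-module M that is locally free of rank k, with k at least 1. Then, as A-modules, ∧^{nk}_A M
≅ (∧ⁿ_A B)^{⊗(k−1)} ⊗_A ∧ⁿ_A(∧^k_B M). (The published statement gives a specific, canonical
isomorphism, allows k = 0 with the exponent k − 1 read in the Picard group, and has a companion
formula for duals; this row asserts only that an isomorphism exists, for k ≥ 1, since with a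
natural-number exponent k = 0 would change the meaning, and omits the dual formula.) Locally free of
rank r is expressed as finitely generated projective with all localisations at primes of rank r. -/
theorem result
    (A B : Type u) [CommRing A] [CommRing B] [Algebra A B] [Module.Finite A B] [Module.Projective A B]
    (n : ℕ) (hn : ∀ q : PrimeSpectrum A, Module.finrank (Localization.AtPrime q.asIdeal) (LocalizedModule q.asIdeal.primeCompl B) = n)
    (M : Type u) [AddCommGroup M] [Module B M] [Module A M] [IsScalarTower A B M]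
    [Module.Finite B M] [Module.Projective B M] (k : ℕ) (hk : 1 ≤ k)
    (hM : ∀ q : PrimeSpectrum B, Module.finrank (Localization.AtPrime q.asIdeal) (LocalizedModule q.asIdeal.primeCompl M) = k) :
    Nonempty ((⋀[A]^(n * k) M) ≃ₗ[A]
      (TensorPower A (k - 1) (⋀[A]^n B)) ⊗[A] (⋀[A]^n (⋀[B]^k M))) := by
  obtain ⟨k', rfl⟩ : ∃ k', k = k' + 1 := ⟨k - 1, by omega⟩
  exact main A B n hn M k' hM

end Groth.Agent.S13119
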