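import Groth.Statements.S13120
import Groth.Agent.Lib.Helper99.Parity
-- import your own Groth.Agent.* helpers here

set_option autoImplicit false
universe u
open KumFam

namespace Groth.Agent.S13120

open MvPolynomial in
/-- Let R be a commutative ring of characteristic 2 and l0, l2, l4, s0, s2, s4, τ ∈ R with τ a unit.
Inside R[u, v] (u = X 0, v = X 1) let A = R[u², u³, v², v³] be the coordinate ring of the product of
two cuspidal curves, and let D be the R-derivation of R[u, v] with D(u) = v²(l0 u⁴ + τ u³ + l2 u² +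
l4) and D(v) = u²(s0 v⁴ + τ v³ + s2 v² + s4); D is u²v² times the rational vector field (l0 u² + τ u
+ l2 + l4 u⁻²) ∂_u + (s0 v² + τ v + s2 + s4 v⁻²) ∂_v, which maps A into itself, and u²v² is a
non-zero-divisor, so the kernel of that vector field on A is the set of a ∈ A with D(a) = 0. Then
for a ∈ A: D(a) = 0 if and only if a ∈ R[u², v², g], where g = (s0 v⁴ + s2 v² + s4) u³ + (l0 u⁴ + l2
u² + l4) v³ + τ u³ v³. (The published statement identifies this kernel with the ring of invariants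
of the corresponding action of the group scheme of square roots of unity; this row states the kernel
computation that is actually carried out.) -/
theorem result (R : Type u) [CommRing R] [CharP R 2]
    (l0 l2 l4 s0 s2 s4 τ : R) (hτ : IsUnit τ) (a : MvPolynomial (Fin 2) R)
    (ha : a ∈ Algebra.adjoin R
      ({X 0 ^ 2, X 0 ^ 3, X 1 ^ 2, X 1 ^ 3} : Set (MvPolynomial (Fin 2) R))) :
    MvPolynomial.mkDerivation R
        (![X 1 ^ 2 * (C l0 * X 0 ^ 4 + C τ * X 0 ^ 3 + C l2 * X 0 ^ 2 + C l4),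
          X 0 ^ 2 * (C s0 * X 1 ^ 4 + C τ * X 1 ^ 3 + C s2 * X 1 ^ 2 + C s4)] :
          Fin 2 → MvPolynomial (Fin 2) R) a = 0 ↔
      a ∈ Algebra.adjoin R
        ({X 0 ^ 2, X 1 ^ 2,
          (C s0 * X 1 ^ 4 + C s2 * X 1 ^ 2 + C s4) * X 0 ^ 3 +
            (C l0 * X 0 ^ 4 + C l2 * X 0 ^ 2 + C l4) * X 1 ^ 3 +
            C τ * X 0 ^ 3 * X 1 ^ 3} : Set (MvPolynomial (Fin 2) R)) := by
  open Groth.Agent.Lib.Helper99 in
  classical
  have h2 : (2 : R) = 0 := by
    have := CharP.cast_eq_zero R 2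
    exact_mod_cast this
  have h2T : (2 : MvPolynomial (Fin 2) R) = 0 := by
    have : (2 : MvPolynomial (Fin 2) R) = C (2 : R) := (map_ofNat C 2).symm
    rw [this, h2, map_zero]
  obtain ⟨tu, rfl⟩ := hτ
  set ti : MvPolynomial (Fin 2) R := C ((tu⁻¹ : Rˣ) : R) with hti_def
  have hti : ti * C (tu : R) = 1 := by
    rw [hti_def, ← map_mul, Units.inv_mul, map_one]
  set pt : MvPolynomial (Fin 2) R := C l0 * X 0 ^ 2 + C l2 * X 0 + C l4 with hpt
  set qt : MvPolynomial (Fin 2) R := C s0 * X 1 ^ 2 + C s2 * X 1 + C s4 with hqt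
  have hDu : (X 1 ^ 2 * (C l0 * X 0 ^ 4 + C (tu : R) * X 0 ^ 3 + C l2 * X 0 ^ 2 + C l4) :
      MvPolynomial (Fin 2) R) = X 1 ^ 2 * (expand 2 pt + C (tu : R) * X 0 ^ 3) := by
    simp only [hpt, map_add, map_mul, map_pow, expand_X, expand_C]
    ring
  have hDv : (X 0 ^ 2 * (C s0 * X 1 ^ 4 + C (tu : R) * X 1 ^ 3 + C s2 * X 1 ^ 2 + C s4) :
      MvPolynomial (Fin 2) R) = X 0 ^ 2 * (expand 2 qt + C (tu : R) * X 1 ^ 3) := by
    simp only [hqt, map_add, map_mul, map_pow, expand_X, expand_C]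
    ring
  have hg : ((C s0 * X 1 ^ 4 + C s2 * X 1 ^ 2 + C s4) * X 0 ^ 3 +
      (C l0 * X 0 ^ 4 + C l2 * X 0 ^ 2 + C l4) * X 1 ^ 3 + C (tu : R) * X 0 ^ 3 * X 1 ^ 3 :
      MvPolynomial (Fin 2) R) =
      expand 2 qt * X 0 ^ 3 + expand 2 pt * X 1 ^ 3 + C (tu : R) * X 0 ^ 3 * X 1 ^ 3 := by
    simp only [hpt, hqt, map_add, map_mul, map_pow, expand_X, expand_C]
    ring
  rw [hDu, hDv, hg]
  set g : MvPolynomial (Fin 2) R :=
    expand 2 qt * X 0 ^ 3 + expand 2 pt * X 1 ^ 3 + C (tu : R) * X 0 ^ 3 * X 1 ^ 3 with hg_def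
  set D := MvPolynomial.mkDerivation R
    (![X 1 ^ 2 * (expand 2 pt + C (tu : R) * X 0 ^ 3),
      X 0 ^ 2 * (expand 2 qt + C (tu : R) * X 1 ^ 3)] :
      Fin 2 → MvPolynomial (Fin 2) R) with hD
  have hDX0 : D (X 0) = X 1 ^ 2 * (expand 2 pt + C (tu : R) * X 0 ^ 3) := by
    rw [hD, mkDerivation_X]
    rfl
  have hDX1 : D (X 1) = X 0 ^ 2 * (expand 2 qt + C (tu : R) * X 1 ^ 3) := by
    rw [hD, mkDerivation_X]
    rfl
  have hDC : ∀ r : R, D (C r) = 0 := fun r => D.map_algebraMap r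
  have hDexp : ∀ A : MvPolynomial (Fin 2) R, D (expand 2 A) = 0 :=
    derivation_expand_two_eq_zero h2 D
  have hD3u : D (X 0 ^ 3) = X 0 ^ 2 * X 1 ^ 2 * (expand 2 pt + C (tu : R) * X 0 ^ 3) := by
    rw [Derivation.leibniz_pow, hDX0]
    simp only [smul_eq_mul, nsmul_eq_mul, Nat.cast_ofNat, Nat.add_one_sub_one]
    linear_combination (X 0 ^ 2 * X 1 ^ 2 * (expand 2 pt + C (tu : R) * X 0 ^ 3)) * h2T
  have hD3v : D (X 1 ^ 3) = X 0 ^ 2 * X 1 ^ 2 * (expand 2 qt + C (tu : R) * X 1 ^ 3) := by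
    rw [Derivation.leibniz_pow, hDX1]
    simp only [smul_eq_mul, nsmul_eq_mul, Nat.cast_ofNat, Nat.add_one_sub_one]
    linear_combination (X 0 ^ 2 * X 1 ^ 2 * (expand 2 qt + C (tu : R) * X 1 ^ 3)) * h2T
  have hDg : D g = 0 := by
    rw [hg_def]
    simp only [map_add, Derivation.leibniz, hDexp, hD3u, hD3v, hDC, smul_eq_mul, smul_zero,
      mul_zero, add_zero, zero_add]
    linear_combination (X 0 ^ 2 * X 1 ^ 2 * (expand 2 pt * expand 2 qt +
      C (tu : R) * X 0 ^ 3 * expand 2 qt + C (tu : R) * X 1 ^ 3 * expand 2 pt +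
      C (tu : R) * C (tu : R) * X 0 ^ 3 * X 1 ^ 3)) * h2T
  -- `expand 2 A` lies in the small subalgebra
  have hexp_mem : ∀ A : MvPolynomial (Fin 2) R, expand 2 A ∈ Algebra.adjoin R
      ({X 0 ^ 2, X 1 ^ 2, g} : Set (MvPolynomial (Fin 2) R)) := by
    intro A
    induction A using MvPolynomial.induction_on with
    | C r =>
      rw [expand_C]
      exact Subalgebra.algebraMap_mem _ r
    | add p q hp hq =>
      rw [map_add]
      exact Subalgebra.add_mem _ hp hq
    | mul_X p i hp =>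
      rw [map_mul, expand_X]
      refine Subalgebra.mul_mem _ hp (Algebra.subset_adjoin ?_)
      fin_cases i
      · simp
      · simp
  -- structure of elements of `R[u², u³, v², v³]`
  have hstruct : ∀ x ∈ Algebra.adjoin R
      ({X 0 ^ 2, X 0 ^ 3, X 1 ^ 2, X 1 ^ 3} : Set (MvPolynomial (Fin 2) R)),
      ∃ A B C' E : MvPolynomial (Fin 2) R,
        x = expand 2 A + expand 2 B * X 0 ^ 3 + expand 2 C' * X 1 ^ 3 +
          expand 2 E * (X 0 ^ 3 * X 1 ^ 3) := by
    intro x hx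
    induction hx using Algebra.adjoin_induction with
    | mem x hx =>
      simp only [Set.mem_insert_iff, Set.mem_singleton_iff] at hx
      rcases hx with rfl | rfl | rfl | rfl
      · exact ⟨X 0, 0, 0, 0, by simp⟩
      · exact ⟨0, 1, 0, 0, by simp⟩
      · exact ⟨X 1, 0, 0, 0, by simp⟩
      · exact ⟨0, 0, 1, 0, by simp⟩
    | algebraMap r => exact ⟨C r, 0, 0, 0, by simp [MvPolynomial.algebraMap_eq]⟩
    | add x y _ _ hx hy =>
      obtain ⟨A, B, C', E, rfl⟩ := hx
      obtain ⟨A', B', C'', E', rfl⟩ := hy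
      exact ⟨A + A', B + B', C' + C'', E + E', by simp only [map_add]; ring⟩
    | mul x y _ _ hx hy =>
      obtain ⟨A, B, C', E, rfl⟩ := hx
      obtain ⟨A', B', C'', E', rfl⟩ := hy
      refine ⟨A * A' + B * B' * X 0 ^ 3 + C' * C'' * X 1 ^ 3 + E * E' * (X 0 ^ 3 * X 1 ^ 3),
        A * B' + B * A' + (C' * E' + E * C'') * X 1 ^ 3,
        A * C'' + C' * A' + (B * E' + E * B') * X 0 ^ 3,
        A * E' + E * A' + B * C'' + C' * B', ?_⟩
      simp only [map_add, map_mul, map_pow, expand_X]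
      ring
  have hker : ∀ x ∈ Algebra.adjoin R
      ({X 0 ^ 2, X 1 ^ 2, g} : Set (MvPolynomial (Fin 2) R)), D x = 0 := by
    intro x hx
    induction hx using Algebra.adjoin_induction with
    | mem x hx =>
      simp only [Set.mem_insert_iff, Set.mem_singleton_iff] at hx
      rcases hx with rfl | rfl | rfl
      · rw [← expand_X, hDexp]
      · rw [← expand_X, hDexp]
      · exact hDg
    | algebraMap r => exact D.map_algebraMap r
    | add x y _ _ hx hy => rw [map_add, hx, hy, add_zero]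
    | mul x y _ _ hx hy => rw [Derivation.leibniz, hx, hy, smul_zero, smul_zero, add_zero]
  constructor
  · intro hDa
    obtain ⟨A, B, C', E, rfl⟩ := hstruct a ha
    have hDa' : D (expand 2 A + expand 2 B * X 0 ^ 3 + expand 2 C' * X 1 ^ 3 +
        expand 2 E * (X 0 ^ 3 * X 1 ^ 3)) =
        (expand 2 (B * pt + C' * qt) + expand 2 ((C (tu : R) * B + E * qt) * X 0) * X 0 +
          expand 2 ((C (tu : R) * C' + E * pt) * X 1) * X 1) * (X 0 ^ 2 * X 1 ^ 2) +
        2 * (expand 2 E * C (tu : R) * X 0 ^ 3 * X 1 ^ 3 * (X 0 ^ 2 * X 1 ^ 2)) := by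
      simp only [map_add, Derivation.leibniz, hDexp, hD3u, hD3v, smul_eq_mul, smul_zero,
        add_zero, zero_add, map_mul, expand_C, expand_X]
      ring
    have hmon : (X 0 ^ 2 * X 1 ^ 2 : MvPolynomial (Fin 2) R) =
        monomial (Finsupp.single 0 2 + Finsupp.single 1 2) 1 := by
      rw [X_pow_eq_monomial, X_pow_eq_monomial, monomial_mul, mul_one]
    have hBr : expand 2 (B * pt + C' * qt) + expand 2 ((C (tu : R) * B + E * qt) * X 0) * X 0 +
        expand 2 ((C (tu : R) * C' + E * pt) * X 1) * X 1 + expand 2 0 * (X 0 * X 1) = 0 := by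
      rw [map_zero, zero_mul, add_zero]
      apply eq_zero_of_mul_monomial_eq_zero _ (Finsupp.single 0 2 + Finsupp.single 1 2)
      rw [← hmon]
      rw [hDa'] at hDa
      linear_combination hDa - (expand 2 E * C (tu : R) * X 0 ^ 3 * X 1 ^ 3 * (X 0 ^ 2 * X 1 ^ 2)) * h2T
    obtain ⟨-, hB, hC, -⟩ := parity_unique _ _ _ _ hBr
    have hX0 : (X 0 : MvPolynomial (Fin 2) R) = monomial (Finsupp.single 0 1) 1 := rfl
    have hX1 : (X 1 : MvPolynomial (Fin 2) R) = monomial (Finsupp.single 1 1) 1 := rfl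
    have hB' : C (tu : R) * B + E * qt = 0 := by
      rw [hX0] at hB
      exact eq_zero_of_mul_monomial_eq_zero _ _ hB
    have hC' : C (tu : R) * C' + E * pt = 0 := by
      rw [hX1] at hC
      exact eq_zero_of_mul_monomial_eq_zero _ _ hC
    have hBeq : B = -(ti * E * qt) := by
      linear_combination ti * hB' - B * hti
    have hCeq : C' = -(ti * E * pt) := by
      linear_combination ti * hC' - C' * hti
    have hexpti : expand 2 ti = ti := by rw [hti_def, expand_C]
    have hfinal : expand 2 A + expand 2 B * X 0 ^ 3 + expand 2 C' * X 1 ^ 3 +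
        expand 2 E * (X 0 ^ 3 * X 1 ^ 3) = expand 2 A + expand 2 (ti * E) * g := by
      rw [hBeq, hCeq, hg_def]
      simp only [map_mul, map_neg, hexpti]
      linear_combination (-(ti * expand 2 E * expand 2 qt * X 0 ^ 3) -
        ti * expand 2 E * expand 2 pt * X 1 ^ 3) * h2T - (expand 2 E * X 0 ^ 3 * X 1 ^ 3) * hti
    rw [hfinal]
    refine Subalgebra.add_mem _ (hexp_mem A) (Subalgebra.mul_mem _ (hexp_mem _) ?_)
    exact Algebra.subset_adjoin (by simp)
  · intro ha'
    exact hker a ha'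
end Groth.Agent.S13120
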