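import Groth.Statements.S13121
import Groth.Agent.Lib.Helper99.Parity
-- import your own Groth.Agent.* helpers here

set_option autoImplicit false
universe u
open KumFam

namespace Groth.Agent.S13121

open MvPolynomial in
/-- Let R be a commutative ring of characteristic 2 and l0, l2, l4, s0, s2, s4, τ ∈ R with τ a unit. In
R[u, v] (u = X 0, v = X 1) put g = (s0 v⁴ + s2 v² + s4) u³ + (l0 u⁴ + l2 u² + l4) v³ + τ u³ v³. Then
the kernel of the R-algebra homomorphism R[a, b, c] → R[u, v] (a = X 0, b = X 1, c = X 2) with a ↦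
u², b ↦ v², c ↦ g is the ideal generated by c² + s0² a³ b⁴ + s2² a³ b² + s4² a³ + l0² a⁴ b³ + l2² a²
b³ + l4² b³ + τ² a³ b³; its image is the subalgebra R[u², v², g], which is therefore presented by
this one equation. -/
theorem result (R : Type u) [CommRing R] [CharP R 2]
    (l0 l2 l4 s0 s2 s4 τ : R) (hτ : IsUnit τ) :
    RingHom.ker (MvPolynomial.aeval (R := R) (S₁ := MvPolynomial (Fin 2) R)
        ![X 0 ^ 2, X 1 ^ 2,
          (C s0 * X 1 ^ 4 + C s2 * X 1 ^ 2 + C s4) * X 0 ^ 3 +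
            (C l0 * X 0 ^ 4 + C l2 * X 0 ^ 2 + C l4) * X 1 ^ 3 +
            C τ * X 0 ^ 3 * X 1 ^ 3]) =
      Ideal.span {(X 2 ^ 2 + C (s0 ^ 2) * X 0 ^ 3 * X 1 ^ 4 + C (s2 ^ 2) * X 0 ^ 3 * X 1 ^ 2 +
        C (s4 ^ 2) * X 0 ^ 3 + C (l0 ^ 2) * X 0 ^ 4 * X 1 ^ 3 + C (l2 ^ 2) * X 0 ^ 2 * X 1 ^ 3 +
        C (l4 ^ 2) * X 1 ^ 3 + C (τ ^ 2) * X 0 ^ 3 * X 1 ^ 3 : MvPolynomial (Fin 3) R)} := by
  open Groth.Agent.Lib.Helper99 in
  classical
  have h2 : (2 : R) = 0 := by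
    have := CharP.cast_eq_zero R 2
    exact_mod_cast this
  have h2T : (2 : MvPolynomial (Fin 2) R) = 0 := by
    have : (2 : MvPolynomial (Fin 2) R) = C (2 : R) := (map_ofNat C 2).symm
    rw [this, h2, map_zero]
  have key : ∀ x y : MvPolynomial (Fin 2) R, (x + y) ^ 2 = x ^ 2 + y ^ 2 := by
    intro x y
    linear_combination (x * y) * h2T
  set g : MvPolynomial (Fin 2) R := (C s0 * X 1 ^ 4 + C s2 * X 1 ^ 2 + C s4) * X 0 ^ 3 +
    (C l0 * X 0 ^ 4 + C l2 * X 0 ^ 2 + C l4) * X 1 ^ 3 + C τ * X 0 ^ 3 * X 1 ^ 3 with hg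
  set φ := MvPolynomial.aeval (R := R) (S₁ := MvPolynomial (Fin 2) R) ![X 0 ^ 2, X 1 ^ 2, g] with hφ
  let G' : MvPolynomial (Fin 2) R := C (s0 ^ 2) * X 0 ^ 3 * X 1 ^ 4 + C (s2 ^ 2) * X 0 ^ 3 * X 1 ^ 2 +
    C (s4 ^ 2) * X 0 ^ 3 + C (l0 ^ 2) * X 0 ^ 4 * X 1 ^ 3 + C (l2 ^ 2) * X 0 ^ 2 * X 1 ^ 3 +
    C (l4 ^ 2) * X 1 ^ 3 + C (τ ^ 2) * X 0 ^ 3 * X 1 ^ 3
  have hF : (X 2 ^ 2 + C (s0 ^ 2) * X 0 ^ 3 * X 1 ^ 4 + C (s2 ^ 2) * X 0 ^ 3 * X 1 ^ 2 +
      C (s4 ^ 2) * X 0 ^ 3 + C (l0 ^ 2) * X 0 ^ 4 * X 1 ^ 3 + C (l2 ^ 2) * X 0 ^ 2 * X 1 ^ 3 +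
      C (l4 ^ 2) * X 1 ^ 3 + C (τ ^ 2) * X 0 ^ 3 * X 1 ^ 3 : MvPolynomial (Fin 3) R) =
      X 2 ^ 2 + incl3 G' := by
    simp only [G', map_add, map_mul, map_pow, incl3_X0, incl3_X1, incl3_C]
    ring
  rw [hF]
  have hφX2 : φ (X 2) = g := by
    rw [hφ, aeval_X]
    rfl
  have hφF : φ (X 2 ^ 2 + incl3 G') = 0 := by
    rw [map_add, map_pow, hφX2, hφ, aeval_sq_incl3]
    have hg2 : g ^ 2 = expand 2 G' := by
      simp only [hg, G', key, mul_pow, map_add, map_mul, map_pow, expand_X, expand_C]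
      ring
    rw [hg2]
    linear_combination (expand 2 G') * h2T
  apply le_antisymm
  · intro P hP
    rw [RingHom.mem_ker] at hP
    obtain ⟨Q, P₁, P₀, rfl⟩ := exists_div_quadratic G' P
    have hP' : φ (Q * (X 2 ^ 2 + incl3 G') + incl3 P₁ * X 2 + incl3 P₀) = 0 := hP
    rw [map_add, map_add, map_mul, hφF, mul_zero, zero_add, map_mul, hφX2] at hP'
    rw [hφ, aeval_sq_incl3, aeval_sq_incl3] at hP'
    have hdec : expand 2 P₀ + expand 2 (P₁ * ((C s0 * X 1 ^ 2 + C s2 * X 1 + C s4) * X 0)) * X 0 +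
        expand 2 (P₁ * ((C l0 * X 0 ^ 2 + C l2 * X 0 + C l4) * X 1)) * X 1 +
        expand 2 (P₁ * (C τ * X 0 * X 1)) * (X 0 * X 1) = 0 := by
      rw [← hP', hg]
      simp only [map_add, map_mul, map_pow, expand_X, expand_C]
      ring
    obtain ⟨h0, -, -, h3⟩ := parity_unique _ _ _ _ hdec
    have hP₁ : P₁ = 0 := by
      obtain ⟨tu, rfl⟩ := hτ
      have h4 : P₁ * (X 0 * X 1) = 0 := by
        have : P₁ * (X 0 * X 1) = C ((tu⁻¹ : Rˣ) : R) * (P₁ * (C (tu : R) * X 0 * X 1)) := by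
          have hc : (C ((tu⁻¹ : Rˣ) : R) : MvPolynomial (Fin 2) R) * C (tu : R) = 1 := by
            rw [← map_mul, Units.inv_mul, map_one]
          linear_combination (-(P₁ * (X 0 * X 1))) * hc
        rw [this, h3, mul_zero]
      have hmon : (X 0 * X 1 : MvPolynomial (Fin 2) R) =
          monomial (Finsupp.single 0 1 + Finsupp.single 1 1) 1 := by
        rw [← mul_one (1 : R), ← monomial_mul]
        rfl
      rw [hmon] at h4
      exact eq_zero_of_mul_monomial_eq_zero _ _ h4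
    rw [hP₁, h0, map_zero, zero_mul, add_zero, add_zero]
    exact Ideal.mul_mem_left _ _ (Ideal.mem_span_singleton_self _)
  · rw [Ideal.span_le]
    intro P hP
    rw [Set.mem_singleton_iff] at hP
    rw [hP]
    exact hφF

end Groth.Agent.S13121
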