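import Groth.Statements.S13122
import Groth.Agent.Lib.Helper99.Parity
-- import your own Groth.Agent.* helpers here

set_option autoImplicit false
universe u
open KumFam

namespace Groth.Agent.S13122

open MvPolynomial in
/-- Let R be a commutative ring of characteristic 2 and l0, l2, l4, s0, s2, s4, τ ∈ R with τ a unit. On
R[x, y] (x = X 0, y = X 1; the coordinates u⁻¹, v⁻¹ of the smooth chart of the product of two
cuspidal curves) let D be the R-derivation with D(x) = l4 x⁴ + l2 x² + τ x + l0 and D(y) = s4 y⁴ +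
s2 y² + τ y + s0, and put h = (s4 y⁴ + s2 y² + s0) x + (l4 x⁴ + l2 x² + l0) y + τ x y. Then: (1) for
p ∈ R[x, y], D(p) = 0 if and only if p lies in the image of the R-algebra homomorphism R[a, b, c] →
R[x, y] (a = X 0, b = X 1, c = X 2) with a ↦ x², b ↦ y², c ↦ h; (2) the kernel of that homomorphism
is the ideal generated by c² + τ² a b + (s4² b⁴ + s2² b² + s0²) a + (l4² a⁴ + l2² a² + l0²) b. (The
published statement asserts that the ring of invariants of the action of the group scheme of square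
roots of unity given by this vector field is R[a, b, c] modulo this equation, by the same
computation as on the other chart; this row pins the generator h and states the kernel computation.) -/
theorem result (R : Type u) [CommRing R]
    [CharP R 2] (l0 l2 l4 s0 s2 s4 τ : R) (hτ : IsUnit τ) :
    (∀ p : MvPolynomial (Fin 2) R,
      MvPolynomial.mkDerivation R
          (![C l4 * X 0 ^ 4 + C l2 * X 0 ^ 2 + C τ * X 0 + C l0,
            C s4 * X 1 ^ 4 + C s2 * X 1 ^ 2 + C τ * X 1 + C s0] :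
            Fin 2 → MvPolynomial (Fin 2) R) p = 0 ↔
        p ∈ (MvPolynomial.aeval (R := R) (S₁ := MvPolynomial (Fin 2) R)
          ![X 0 ^ 2, X 1 ^ 2,
            (C s4 * X 1 ^ 4 + C s2 * X 1 ^ 2 + C s0) * X 0 +
              (C l4 * X 0 ^ 4 + C l2 * X 0 ^ 2 + C l0) * X 1 + C τ * X 0 * X 1]).range) ∧
    RingHom.ker (MvPolynomial.aeval (R := R) (S₁ := MvPolynomial (Fin 2) R)
        ![X 0 ^ 2, X 1 ^ 2,
          (C s4 * X 1 ^ 4 + C s2 * X 1 ^ 2 + C s0) * X 0 +
            (C l4 * X 0 ^ 4 + C l2 * X 0 ^ 2 + C l0) * X 1 + C τ * X 0 * X 1]) =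
      Ideal.span {(X 2 ^ 2 + C (τ ^ 2) * X 0 * X 1 +
        (C (s4 ^ 2) * X 1 ^ 4 + C (s2 ^ 2) * X 1 ^ 2 + C (s0 ^ 2)) * X 0 +
        (C (l4 ^ 2) * X 0 ^ 4 + C (l2 ^ 2) * X 0 ^ 2 + C (l0 ^ 2)) * X 1 : MvPolynomial (Fin 3) R)} := by
  open Groth.Agent.Lib.Helper99 in
  classical
  have h2 : (2 : R) = 0 := by
    have := CharP.cast_eq_zero R 2
    exact_mod_cast this
  have h2T : (2 : MvPolynomial (Fin 2) R) = 0 := by
    have : (2 : MvPolynomial (Fin 2) R) = C (2 : R) := (map_ofNat C 2).symm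
    rw [this, h2, map_zero]
  have key : ∀ x y : MvPolynomial (Fin 2) R, (x + y) ^ 2 = x ^ 2 + y ^ 2 := by
    intro x y
    linear_combination (x * y) * h2T
  obtain ⟨tu, rfl⟩ := hτ
  set ti : MvPolynomial (Fin 2) R := C ((tu⁻¹ : Rˣ) : R) with hti_def
  have hti : ti * C (tu : R) = 1 := by
    rw [hti_def, ← map_mul, Units.inv_mul, map_one]
  -- the polynomials `p̃`, `q̃` with `p₀ = expand 2 p̃`, `q₀ = expand 2 q̃`
  set pt : MvPolynomial (Fin 2) R := C l4 * X 0 ^ 2 + C l2 * X 0 + C l0 with hpt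
  set qt : MvPolynomial (Fin 2) R := C s4 * X 1 ^ 2 + C s2 * X 1 + C s0 with hqt
  have hDx : (C l4 * X 0 ^ 4 + C l2 * X 0 ^ 2 + C (tu : R) * X 0 + C l0 : MvPolynomial (Fin 2) R) =
      expand 2 pt + C (tu : R) * X 0 := by
    simp only [hpt, map_add, map_mul, map_pow, expand_X, expand_C]
    ring
  have hDy : (C s4 * X 1 ^ 4 + C s2 * X 1 ^ 2 + C (tu : R) * X 1 + C s0 : MvPolynomial (Fin 2) R) =
      expand 2 qt + C (tu : R) * X 1 := by
    simp only [hqt, map_add, map_mul, map_pow, expand_X, expand_C]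
    ring
  have hh : ((C s4 * X 1 ^ 4 + C s2 * X 1 ^ 2 + C s0) * X 0 +
      (C l4 * X 0 ^ 4 + C l2 * X 0 ^ 2 + C l0) * X 1 + C (tu : R) * X 0 * X 1 :
      MvPolynomial (Fin 2) R) =
      expand 2 qt * X 0 + expand 2 pt * X 1 + C (tu : R) * X 0 * X 1 := by
    simp only [hpt, hqt, map_add, map_mul, map_pow, expand_X, expand_C]
    ring
  rw [hDx, hDy, hh]
  set h : MvPolynomial (Fin 2) R := expand 2 qt * X 0 + expand 2 pt * X 1 + C (tu : R) * X 0 * X 1
    with hh_def
  set D := MvPolynomial.mkDerivation R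
    (![expand 2 pt + C (tu : R) * X 0, expand 2 qt + C (tu : R) * X 1] :
      Fin 2 → MvPolynomial (Fin 2) R) with hD
  set φ := MvPolynomial.aeval (R := R) (S₁ := MvPolynomial (Fin 2) R) ![X 0 ^ 2, X 1 ^ 2, h] with hφ
  have hDX0 : D (X 0) = expand 2 pt + C (tu : R) * X 0 := by
    rw [hD, mkDerivation_X]
    rfl
  have hDX1 : D (X 1) = expand 2 qt + C (tu : R) * X 1 := by
    rw [hD, mkDerivation_X]
    rfl
  have hDC : ∀ r : R, D (C r) = 0 := fun r => D.map_algebraMap r
  have hDexp : ∀ A : MvPolynomial (Fin 2) R, D (expand 2 A) = 0 :=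
    derivation_expand_two_eq_zero h2 D
  have hDh : D h = 0 := by
    rw [hh_def]
    simp only [map_add, Derivation.leibniz, hDexp, hDX0, hDX1, hDC, smul_eq_mul, smul_zero,
      mul_zero, add_zero, zero_add]
    linear_combination (expand 2 pt * expand 2 qt + C (tu : R) * X 0 * expand 2 qt +
      C (tu : R) * X 1 * expand 2 pt + C (tu : R) * C (tu : R) * X 0 * X 1) * h2T
  have hφX0 : φ (X 0) = X 0 ^ 2 := by rw [hφ, aeval_X]; rfl
  have hφX1 : φ (X 1) = X 1 ^ 2 := by rw [hφ, aeval_X]; rfl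
  have hφX2 : φ (X 2) = h := by rw [hφ, aeval_X]; rfl
  have hDφX : ∀ i : Fin 3, D (φ (X i)) = 0 := by
    intro i
    fin_cases i
    · show D (φ (X 0)) = 0
      rw [hφX0, ← expand_X, hDexp]
    · show D (φ (X 1)) = 0
      rw [hφX1, ← expand_X, hDexp]
    · show D (φ (X 2)) = 0
      rw [hφX2, hDh]
  have hDφ : ∀ P : MvPolynomial (Fin 3) R, D (φ P) = 0 := by
    intro P
    induction P using MvPolynomial.induction_on with
    | C r =>
      rw [hφ, aeval_C]
      exact D.map_algebraMap r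
    | add p q hp hq => rw [map_add, map_add, hp, hq, add_zero]
    | mul_X p i hp => rw [map_mul, Derivation.leibniz, hp, hDφX i, smul_zero, smul_zero, add_zero]
  refine ⟨?_, ?_⟩
  · intro p
    constructor
    · intro hp
      obtain ⟨A, B, C', E, rfl⟩ := parity_exists p
      have hDp' : D (expand 2 A + expand 2 B * X 0 + expand 2 C' * X 1 + expand 2 E * (X 0 * X 1)) =
          expand 2 (B * pt + C' * qt) + expand 2 (C (tu : R) * B + E * qt) * X 0 +
          expand 2 (C (tu : R) * C' + E * pt) * X 1 +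
          2 * (expand 2 E * C (tu : R) * X 0 * X 1) := by
        simp only [map_add, Derivation.leibniz, hDexp, hDX0, hDX1, smul_eq_mul, smul_zero,
          add_zero, zero_add, map_mul, expand_C]
        ring
      have hDp : expand 2 (B * pt + C' * qt) + expand 2 (C (tu : R) * B + E * qt) * X 0 +
          expand 2 (C (tu : R) * C' + E * pt) * X 1 + expand 2 0 * (X 0 * X 1) = 0 := by
        rw [hDp'] at hp
        rw [map_zero, zero_mul, add_zero]
        linear_combination hp - (expand 2 E * C (tu : R) * X 0 * X 1) * h2T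
      obtain ⟨-, hB, hC, -⟩ := parity_unique _ _ _ _ hDp
      have hBeq : B = -(ti * E * qt) := by
        linear_combination ti * hB - B * hti
      have hCeq : C' = -(ti * E * pt) := by
        linear_combination ti * hC - C' * hti
      refine ⟨incl3 A + incl3 (ti * E) * X 2, ?_⟩
      show φ (incl3 A + incl3 (ti * E) * X 2) = _
      rw [map_add, map_mul, hφX2, hφ, aeval_sq_incl3, aeval_sq_incl3, hBeq, hCeq, hh_def]
      have hexpti : expand 2 ti = ti := by rw [hti_def, expand_C]
      simp only [map_mul, map_neg, hexpti]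
      linear_combination (ti * expand 2 E * expand 2 qt * X 0 + ti * expand 2 E * expand 2 pt * X 1) * h2T +
        (expand 2 E * X 0 * X 1) * hti
    · rintro ⟨P, rfl⟩
      exact hDφ P
  · let G' : MvPolynomial (Fin 2) R := C ((tu : R) ^ 2) * X 0 * X 1 +
      (C (s4 ^ 2) * X 1 ^ 4 + C (s2 ^ 2) * X 1 ^ 2 + C (s0 ^ 2)) * X 0 +
      (C (l4 ^ 2) * X 0 ^ 4 + C (l2 ^ 2) * X 0 ^ 2 + C (l0 ^ 2)) * X 1
    have hF : (X 2 ^ 2 + C ((tu : R) ^ 2) * X 0 * X 1 +
        (C (s4 ^ 2) * X 1 ^ 4 + C (s2 ^ 2) * X 1 ^ 2 + C (s0 ^ 2)) * X 0 +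
        (C (l4 ^ 2) * X 0 ^ 4 + C (l2 ^ 2) * X 0 ^ 2 + C (l0 ^ 2)) * X 1 :
        MvPolynomial (Fin 3) R) = X 2 ^ 2 + incl3 G' := by
      simp only [G', map_add, map_mul, map_pow, incl3_X0, incl3_X1, incl3_C]
      ring
    rw [hF]
    have hφF : φ (X 2 ^ 2 + incl3 G') = 0 := by
      rw [map_add, map_pow, hφX2, hφ, aeval_sq_incl3]
      have hg2 : h ^ 2 = expand 2 G' := by
        simp only [hh_def, hpt, hqt, G', key, mul_pow, map_add, map_mul, map_pow, expand_X, expand_C]
        ring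
      rw [hg2]
      linear_combination (expand 2 G') * h2T
    apply le_antisymm
    · intro P hP
      rw [RingHom.mem_ker] at hP
      obtain ⟨Q, P₁, P₀, rfl⟩ := exists_div_quadratic G' P
      have hP' : φ (Q * (X 2 ^ 2 + incl3 G') + incl3 P₁ * X 2 + incl3 P₀) = 0 := hP
      rw [map_add, map_add, map_mul, hφF, mul_zero, zero_add, map_mul, hφX2] at hP'
      rw [hφ, aeval_sq_incl3, aeval_sq_incl3] at hP'
      have hdec : expand 2 P₀ + expand 2 (P₁ * qt) * X 0 + expand 2 (P₁ * pt) * X 1 +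
          expand 2 (P₁ * C (tu : R)) * (X 0 * X 1) = 0 := by
        rw [← hP', hh_def]
        simp only [map_mul, expand_C]
        ring
      obtain ⟨h0, -, -, h3⟩ := parity_unique _ _ _ _ hdec
      have hP₁ : P₁ = 0 := by
        linear_combination ti * h3 - P₁ * hti
      rw [hP₁, h0, map_zero, zero_mul, add_zero, add_zero]
      exact Ideal.mul_mem_left _ _ (Ideal.mem_span_singleton_self _)
    · rw [Ideal.span_le]
      intro P hP
      rw [Set.mem_singleton_iff] at hP
      rw [hP]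
      exact hφF

end Groth.Agent.S13122
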