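import Groth.Statements.S13124
import Mathlib.RingTheory.Localization.FractionRing
import Mathlib.Tactic

set_option autoImplicit false
universe u v w
open KumFam

namespace Groth.Agent.S13124

open TensorProduct

/-- Multiplication by `b ⊗ 1` on `R ⊗ A` is injective when `b` is a non-zero element of a domain
and `A` is flat. -/
lemma tmul_one_mul_injective (k : Type u) [CommRing k] (A : Type v) [CommRing A] [Algebra k A]
    [Module.Flat k A] (R : Type w) [CommRing R] [Algebra k R] [IsDomain R] (b : R) (hb : b ≠ 0)
    (z : R ⊗[k] A) (hz : (b ⊗ₜ[k] (1 : A)) * z = 0) : z = 0 := by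
  have hinj : Function.Injective (LinearMap.mulLeft k b) := mul_right_injective₀ hb
  have hinj' := Module.Flat.rTensor_preserves_injective_linearMap (M := A) _ hinj
  have key : ∀ z : R ⊗[k] A, (LinearMap.mulLeft k b).rTensor A z = (b ⊗ₜ[k] (1 : A)) * z := by
    intro z
    induction z using TensorProduct.induction_on with
    | zero => simp
    | tmul r a => simp [Algebra.TensorProduct.tmul_mul_tmul]
    | add x y hx hy => rw [map_add, hx, hy, mul_add]
  apply hinj'
  rw [key, hz, map_zero]

/-- Let k be a commutative ring, A a commutative k-bialgebra that is flat over k, and R a commutative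
k-algebra which is an integrally closed domain, with a coaction R → R ⊗ A that is an algebra
homomorphism. Then the ring of invariants (the elements f with coaction f ⊗ 1) is an integrally
closed domain. (The published statement is for a finite group scheme acting on a normal scheme whose
quotient is, locally, the spectrum of the ring of invariants; this row is the affine integral case
and allows any commutative bialgebra flat over k, flatness being automatic over a field.) -/
theorem result (k : Type u) [CommRing k]
    (A : Type v) [CommRing A] [Bialgebra k A] [Module.Flat k A]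
    (R : Type w) [CommRing R] [Algebra k R] [IsDomain R] [IsIntegrallyClosed R]
    [HopfRep.Comod k A R] [GLin.IsCoactAlg k A R] :
    IsIntegrallyClosed (GLin.invariants k A R) := by
  set S := GLin.invariants k A R with hS
  rw [isIntegrallyClosed_iff (FractionRing S)]
  intro x hx
  obtain ⟨a, b, hb, rfl⟩ := IsFractionRing.div_surjective (A := S) x
  have hb0 : b ≠ 0 := nonZeroDivisors.ne_zero hb
  have hbR : (b : R) ≠ 0 := fun h => hb0 (Subtype.ext h)
  -- map to the fraction field of R
  have hg : Function.Injective ((algebraMap R (FractionRing R)).comp S.val.toRingHom) :=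
    (IsFractionRing.injective R (FractionRing R)).comp Subtype.val_injective
  let φ : FractionRing S →+* FractionRing R := IsFractionRing.lift hg
  have hφ : (algebraMap R (FractionRing R)).comp S.val.toRingHom =
      φ.comp (algebraMap S (FractionRing S)) := by
    ext s
    simp [φ, IsFractionRing.lift_algebraMap]
  have hint : IsIntegral R (φ (algebraMap S (FractionRing S) a / algebraMap S (FractionRing S) b)) :=
    IsIntegral.map_of_comp_eq S.val.toRingHom φ hφ hx
  obtain ⟨c, hc⟩ := (isIntegrallyClosed_iff (FractionRing R)).mp inferInstance hint
  have hφa : φ (algebraMap S (FractionRing S) a) = algebraMap R (FractionRing R) (a : R) := by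
    simp [φ, IsFractionRing.lift_algebraMap]
  have hφb : φ (algebraMap S (FractionRing S) b) = algebraMap R (FractionRing R) (b : R) := by
    simp [φ, IsFractionRing.lift_algebraMap]
  have hbc : (b : R) * c = a := by
    apply IsFractionRing.injective R (FractionRing R)
    rw [map_mul, hc, map_div₀, hφa, hφb, mul_div_cancel₀]
    intro h0
    exact hbR ((map_eq_zero_iff _ (IsFractionRing.injective R (FractionRing R))).mp h0)
  -- `c` is invariant
  have hcS : c ∈ S := by
    rw [hS, GLin.mem_invariants_iff]
    have ha : HopfRep.Comod.coact (k := k) (A := A) (a : R) = (a : R) ⊗ₜ[k] (1 : A) := a.2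
    have hb' : HopfRep.Comod.coact (k := k) (A := A) (b : R) = (b : R) ⊗ₜ[k] (1 : A) := b.2
    have h1 : ((b : R) ⊗ₜ[k] (1 : A)) *
        (HopfRep.Comod.coact (k := k) (A := A) c - c ⊗ₜ[k] (1 : A)) = 0 := by
      rw [mul_sub, ← hb', ← GLin.IsCoactAlg.coact_mul, hbc, ha, hb',
        Algebra.TensorProduct.tmul_mul_tmul, hbc, mul_one, sub_self]
    exact sub_eq_zero.mp (tmul_one_mul_injective k A R b hbR _ h1)
  refine ⟨⟨c, hcS⟩, ?_⟩
  rw [eq_div_iff]
  · rw [← map_mul]
    congr 1
    apply Subtype.ext
    simp only [MulMemClass.coe_mul]
    rw [mul_comm]
    exact hbc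
  · intro h0
    exact hb0 ((map_eq_zero_iff _ (IsFractionRing.injective S (FractionRing S))).mp h0)

end Groth.Agent.S13124
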