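import Groth.Statements.S13125
import Mathlib.RingTheory.GradedAlgebra.Basic
-- import your own Groth.Agent.* helpers here

set_option autoImplicit false
universe u v
open KumFam

namespace Groth.Agent.S13125


section Helpers

variable {ι : Type u} [DecidableEq ι] [AddMonoid ι]
variable {A : Type v} [CommRing A] (𝒜 : ι → AddSubgroup A) [GradedRing 𝒜] (I : Ideal A)
variable (ℬ : ι → AddSubgroup (A ⧸ I))

/-- the quotient map as an additive map -/
abbrev πadd : A →+ A ⧸ I := (Ideal.Quotient.mk I : A →+* A ⧸ I).toAddMonoidHom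

/-- the componentwise maps `𝒜 i → ℬ i` induced by the quotient map -/
def compMap (hle : ∀ i, (𝒜 i).map (πadd I) ≤ ℬ i) (i : ι) : 𝒜 i →+ ℬ i where
  toFun y := ⟨Ideal.Quotient.mk I (y : A), hle i ⟨y, y.2, rfl⟩⟩
  map_zero' := by ext; simp
  map_add' x y := by ext; simp

theorem coe_map_compMap (hle : ∀ i, (𝒜 i).map (πadd I) ≤ ℬ i) (x : DirectSum ι fun i => 𝒜 i) :
    DirectSum.coeAddMonoidHom ℬ (DirectSum.map (compMap 𝒜 I ℬ hle) x) =
      Ideal.Quotient.mk I (DirectSum.coeAddMonoidHom 𝒜 x) := by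
  induction x using DirectSum.induction_on with
  | zero => simp
  | of i y =>
    rw [DirectSum.map_of, DirectSum.coeAddMonoidHom_of, DirectSum.coeAddMonoidHom_of]
    rfl
  | add x y hx hy => simp only [map_add, hx, hy]

end Helpers

/-- Let A be a commutative ring graded by an additive monoid ι (an abelian group in the published
statement) through additive subgroups 𝒜 i, and I an ideal of A. Then I is a homogeneous ideal if and
only if A/I carries a structure of ι-graded ring ℬ for which the quotient map sends 𝒜 i into ℬ i for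
all i. -/
theorem result (ι : Type u) [DecidableEq ι] [AddMonoid ι]
    (A : Type v) [CommRing A] (𝒜 : ι → AddSubgroup A) [GradedRing 𝒜] (I : Ideal A) :
    I.IsHomogeneous 𝒜 ↔
      ∃ ℬ : ι → AddSubgroup (A ⧸ I), Nonempty (GradedRing ℬ) ∧
        ∀ i : ι, (𝒜 i).map (Ideal.Quotient.mk I : A →+ A ⧸ I) ≤ ℬ i := by
  constructor
  · intro hI
    -- the image grading
    let ℬ : ι → AddSubgroup (A ⧸ I) := fun i => (𝒜 i).map (πadd I)
    have hle : ∀ i, (𝒜 i).map (πadd I) ≤ ℬ i := fun i => le_rfl
    refine ⟨ℬ, ?_, hle⟩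
    -- graded monoid structure
    have hgm : SetLike.GradedMonoid ℬ :=
      { one_mem := ⟨1, SetLike.GradedOne.one_mem, map_one (Ideal.Quotient.mk I)⟩
        mul_mem := by
          rintro i j _ _ ⟨a, ha, rfl⟩ ⟨b, hb, rfl⟩
          exact ⟨a * b, SetLike.GradedMul.mul_mem ha hb, map_mul (Ideal.Quotient.mk I) a b⟩ }
    -- the decomposition map on A
    let φ : A →+ DirectSum ι fun i => ℬ i :=
      (DirectSum.map (compMap 𝒜 I ℬ hle)).comp (DirectSum.decomposeAddEquiv 𝒜).toAddMonoidHom
    have hφ : ∀ a : A, φ a = DirectSum.map (compMap 𝒜 I ℬ hle) (DirectSum.decompose 𝒜 a) := fun a => rfl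
    have hker : (πadd I).ker ≤ φ.ker := by
      intro a ha
      rw [AddMonoidHom.mem_ker] at ha ⊢
      have haI : a ∈ I := Ideal.Quotient.eq_zero_iff_mem.1 ha
      rw [hφ]
      ext i
      rw [DirectSum.map_apply]
      simp only [DirectSum.zero_apply, ZeroMemClass.coe_zero]
      exact Ideal.Quotient.eq_zero_iff_mem.2 (hI i haI)
    have hsurj : Function.Surjective (πadd I) := Ideal.Quotient.mk_surjective
    let ψ : A ⧸ I →+ DirectSum ι fun i => ℬ i := (πadd I).liftOfSurjective hsurj ⟨φ, hker⟩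
    have hψ : ∀ a : A, ψ (Ideal.Quotient.mk I a) = φ a := fun a =>
      AddMonoidHom.liftOfRightInverse_comp_apply (πadd I) _ _ ⟨φ, hker⟩ a
    have hdec : DirectSum.Decomposition ℬ := by
      refine DirectSum.Decomposition.ofAddHom ℬ ψ ?_ ?_
      · ext x
        obtain ⟨a, rfl⟩ := Ideal.Quotient.mk_surjective x
        simp only [AddMonoidHom.comp_apply, AddMonoidHom.id_apply]
        rw [hψ, hφ, coe_map_compMap]
        congr 1
        exact DirectSum.Decomposition.left_inv a
      · refine DirectSum.addHom_ext fun i y => ?_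
        obtain ⟨b, a, ha, rfl⟩ := y
        simp only [AddMonoidHom.comp_apply, AddMonoidHom.id_apply, DirectSum.coeAddMonoidHom_of]
        change ψ (Ideal.Quotient.mk I a) = _
        rw [hψ, hφ, DirectSum.decompose_of_mem 𝒜 ha, DirectSum.map_of]
        rfl
    exact ⟨{ hgm, hdec with }⟩
  · rintro ⟨ℬ, ⟨hℬ⟩, hle⟩ i a ha
    have h1 := coe_map_compMap 𝒜 I ℬ hle (DirectSum.decompose 𝒜 a)
    have h2 : DirectSum.coeAddMonoidHom 𝒜 (DirectSum.decompose 𝒜 a) = a :=
      DirectSum.Decomposition.left_inv a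
    rw [h2, Ideal.Quotient.eq_zero_iff_mem.2 ha] at h1
    have hinj : Function.Injective (DirectSum.coeAddMonoidHom ℬ) :=
      (DirectSum.Decomposition.isInternal ℬ).injective
    have h3 : DirectSum.map (compMap 𝒜 I ℬ hle) (DirectSum.decompose 𝒜 a) = 0 :=
      hinj (by rw [h1, map_zero])
    have h4 := congrArg (fun x => ((x i : ℬ i) : A ⧸ I)) h3
    simp only [DirectSum.map_apply, DirectSum.zero_apply, ZeroMemClass.coe_zero] at h4
    exact Ideal.Quotient.eq_zero_iff_mem.1 h4

end Groth.Agent.S13125
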