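-- Statement S13126
import Groth.Statements.S13126
import Mathlib.Tactic
import Mathlib.RingTheory.Polynomial.Ideal
import Mathlib.RingTheory.Ideal.Quotient.Operations
import Mathlib.Algebra.Polynomial.Div
import Mathlib.Algebra.Polynomial.BigOperators

set_option autoImplicit false
universe u
open KumFam

namespace Groth.Agent.S13126

open Polynomial

/-- differences of distinct powers are units -/
theorem isUnit_pow_sub_pow {R : Type u} [CommRing R]
    (n : ℕ) (ζ : R) (hζ : ζ ^ n = 1)
    (hprim : ∀ i : ℕ, 0 < i → i < n → IsUnit (1 - ζ ^ i)) (i j : ℕ) (hij : i < j) (hj : j < n) :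
    IsUnit (ζ ^ i - ζ ^ j) := by
  have hn : 0 < n := by omega
  have hζu : IsUnit ζ := by
    refine IsUnit.of_mul_eq_one (ζ ^ (n - 1)) ?_
    rw [← pow_succ', Nat.sub_add_cancel hn, hζ]
  have h1 : ζ ^ i - ζ ^ j = ζ ^ i * (1 - ζ ^ (j - i)) := by
    rw [mul_sub, mul_one, ← pow_add, Nat.add_sub_cancel' hij.le]
  rw [h1]
  exact (hζu.pow i).mul (hprim (j - i) (by omega) (by omega))

theorem isUnit_pow_sub_pow' {R : Type u} [CommRing R]
    (n : ℕ) (ζ : R) (hζ : ζ ^ n = 1)
    (hprim : ∀ i : ℕ, 0 < i → i < n → IsUnit (1 - ζ ^ i)) (i j : Fin n) (hij : i ≠ j) :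
    IsUnit (ζ ^ (i : ℕ) - ζ ^ (j : ℕ)) := by
  have hne : (i : ℕ) ≠ (j : ℕ) := fun h => hij (Fin.ext h)
  rcases lt_or_gt_of_ne hne with h | h
  · exact isUnit_pow_sub_pow n ζ hζ hprim _ _ h j.2
  · have := isUnit_pow_sub_pow n ζ hζ hprim _ _ h i.2
    rw [← neg_sub]
    exact this.neg

theorem isCoprime_X_sub_C {R : Type u} [CommRing R] (a b : R) (h : IsUnit (a - b)) :
    IsCoprime (X - C a : R[X]) (X - C b) := by
  obtain ⟨u, hu⟩ := h
  refine ⟨-C (↑u⁻¹ : R), C (↑u⁻¹ : R), ?_⟩
  have : C (↑u⁻¹ : R) * C (a - b) = 1 := by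
    rw [← C_mul, ← hu, Units.inv_mul, C_1]
  rw [C_sub] at this
  linear_combination this

/-- Let R be a commutative ring, n a natural number which is a unit in R, and ζ ∈ R with ζ^n = 1 and 1 −
ζ^i a unit for 0 < i < n (a primitive n-th root of unity in the fibrewise sense: the powers ζ^0, …,
ζ^(n−1) are roots of X^n − 1 with pairwise unit differences; over an integral domain in which n is a
unit this is the same as ζ having multiplicative order n). Then the R-algebra homomorphism R[X] →
(Fin n → R) sending a polynomial to its values at ζ^0, …, ζ^(n−1) is surjective and its kernel is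
the ideal generated by X^n − 1; hence R[X]/(X^n − 1) ≅ R^n as R-algebras, i.e. the scheme of n-th
roots of unity over Spec R is the disjoint union of n copies of Spec R. (The published statement
asks that R contain a primitive n-th root of unity without defining the term; its Chinese-remainder
argument uses that the ideals (X − ζ^i), i < n, are pairwise comaximal, which is the unit-difference
condition taken as the hypothesis here, whereas under the reading 'ζ has multiplicative order n'
alone the surjectivity fails over a product of two fields. The published statement also asserts that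
the isomorphism respects the group-scheme structures of the n-th roots of unity and of the constant
group ℤ/n; this row does not state that.) -/
theorem result (R : Type u) [CommRing R]
    (n : ℕ) (hn : IsUnit (n : R)) (ζ : R) (hζ : ζ ^ n = 1)
    (hprim : ∀ i : ℕ, 0 < i → i < n → IsUnit (1 - ζ ^ i)) :
    Function.Surjective (AlgHom.pi (fun i : Fin n => Polynomial.aeval (R := R) (ζ ^ (i : ℕ)))) ∧
      RingHom.ker (AlgHom.pi (fun i : Fin n => Polynomial.aeval (R := R) (ζ ^ (i : ℕ)))) =
        Ideal.span {(X ^ n - 1 : R[X])} := by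
  classical
  rcases subsingleton_or_nontrivial R with hR | hR
  · constructor
    · intro v
      exact ⟨0, Subsingleton.elim _ _⟩
    · ext x
      have : x = 0 := Subsingleton.elim _ _
      simp [this]
  have hn0 : n ≠ 0 := by
    rintro rfl
    simp at hn
  have hcop : ∀ i j : Fin n, i ≠ j →
      IsCoprime (X - C (ζ ^ (i : ℕ)) : R[X]) (X - C (ζ ^ (j : ℕ))) := fun i j hij =>
    isCoprime_X_sub_C _ _ (isUnit_pow_sub_pow' n ζ hζ hprim i j hij)
  have hmem : ∀ (i : Fin n) (P : R[X]), P ∈ Ideal.span {(X - C (ζ ^ (i : ℕ)) : R[X])} ↔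
      P.eval (ζ ^ (i : ℕ)) = 0 := by
    intro i P
    rw [← Polynomial.ker_evalRingHom, RingHom.mem_ker, Polynomial.coe_evalRingHom]
  have hker : RingHom.ker (AlgHom.pi (fun i : Fin n => Polynomial.aeval (R := R) (ζ ^ (i : ℕ)))) =
      ⨅ i : Fin n, Ideal.span {(X - C (ζ ^ (i : ℕ)) : R[X])} := by
    ext P
    rw [RingHom.mem_ker, Ideal.mem_iInf]
    simp only [hmem]
    constructor
    · intro h i
      have := congrFun h i
      simpa [Polynomial.coe_aeval_eq_eval] using this
    · intro h
      funext i
      simpa [Polynomial.coe_aeval_eq_eval] using h i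
  constructor
  · intro v
    have hpc : Pairwise (Function.onFun IsCoprime
        (fun i : Fin n => Ideal.span {(X - C (ζ ^ (i : ℕ)) : R[X])})) := by
      intro i j hij
      exact (Ideal.isCoprime_span_singleton_iff _ _).mpr (hcop i j hij)
    obtain ⟨P, hP⟩ := Ideal.exists_forall_sub_mem_ideal hpc (fun i => C (v i))
    refine ⟨P, ?_⟩
    funext i
    have := (hmem i _).mp (hP i)
    rw [eval_sub, eval_C, sub_eq_zero] at this
    simpa [Polynomial.coe_aeval_eq_eval] using this
  · rw [hker, Ideal.iInf_span_singleton (fun i j hij => hcop i j hij)]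
    congr 1
    rw [Set.singleton_eq_singleton_iff]
    have hQm : (∏ i : Fin n, (X - C (ζ ^ (i : ℕ)) : R[X])).Monic :=
      monic_prod_of_monic _ _ fun i _ => monic_X_sub_C _
    have hQd : (∏ i : Fin n, (X - C (ζ ^ (i : ℕ)) : R[X])).natDegree = n := by
      rw [natDegree_prod_of_monic _ _ fun i _ => monic_X_sub_C _]
      simp only [natDegree_X_sub_C, Finset.sum_const, Finset.card_univ, Fintype.card_fin,
        smul_eq_mul, mul_one]
    have hXm : (X ^ n - 1 : R[X]).Monic := by
      have := monic_X_pow_sub_C (1 : R) hn0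
      simpa using this
    have hXd : (X ^ n - 1 : R[X]).natDegree = n := by
      have := natDegree_X_pow_sub_C (R := R) (n := n) (r := 1)
      simpa using this
    have hdvd : (∏ i : Fin n, (X - C (ζ ^ (i : ℕ)) : R[X])) ∣ X ^ n - 1 := by
      rw [← Ideal.mem_span_singleton, ← Ideal.iInf_span_singleton (fun i j hij => hcop i j hij),
        Ideal.mem_iInf]
      intro i
      rw [hmem]
      rw [eval_sub, eval_pow, eval_X, eval_one, ← pow_mul, mul_comm, pow_mul, hζ, one_pow, sub_self]
    exact (eq_of_monic_of_dvd_of_natDegree_le hQm hXm hdvd (by rw [hXd, hQd])).symm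

end Groth.Agent.S13126
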