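import Groth.Statements.S13127
import Groth.Agent.Lib.Helper99.MvPSAut2
-- import your own Groth.Agent.* helpers here

set_option autoImplicit false
universe u
open KumFam

namespace Groth.Agent.S13127

open MvPowerSeries in
/-- Let R be a commutative ring of characteristic 2 and l0, l2, l4, s0, s2, s4, τ, lam, sig ∈ R with l4,
s4, lam, sig units, and let κ₁, κ₂ ∈ R satisfy s4² κ₁³ = sig² and l4² κ₂³ = lam² (cube roots of
sig²/s4² and lam²/l4²). In the power series ring R[[a, b, c]] (a = X 0, b = X 1, c = X 2) put F = c²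
+ s0² a³ b⁴ + s2² a³ b² + s4² a³ + l0² a⁴ b³ + l2² a² b³ + l4² b³ + τ² a³ b³ and F₀ = c² + sig² a³ +
lam² b³. Then some R-algebra automorphism of R[[a, b, c]] maps F to F₀; consequently R[[a, b,
c]]/(F) ≅ R[[a, b, c]]/(F₀). (In the published statement lam, sig are the representatives in the
ground field of the residues of l4, s4 at a rational point, so that F₀ is the equation of the
special fibre made constant; this row takes them to be arbitrary units.) -/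
theorem result (R : Type u) [CommRing R] [CharP R 2]
    (l0 l2 l4 s0 s2 s4 τ lam sig κ₁ κ₂ : R) (hl4 : IsUnit l4) (hs4 : IsUnit s4) (hlam : IsUnit lam)
    (hsig : IsUnit sig) (h₁ : s4 ^ 2 * κ₁ ^ 3 = sig ^ 2) (h₂ : l4 ^ 2 * κ₂ ^ 3 = lam ^ 2) :
    ∃ φ : MvPowerSeries (Fin 3) R ≃ₐ[R] MvPowerSeries (Fin 3) R,
      φ ((X 2 ^ 2 + C (s0 ^ 2) * X 0 ^ 3 * X 1 ^ 4 + C (s2 ^ 2) * X 0 ^ 3 * X 1 ^ 2 +
          C (s4 ^ 2) * X 0 ^ 3 + C (l0 ^ 2) * X 0 ^ 4 * X 1 ^ 3 + C (l2 ^ 2) * X 0 ^ 2 * X 1 ^ 3 +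
          C (l4 ^ 2) * X 1 ^ 3 + C (τ ^ 2) * X 0 ^ 3 * X 1 ^ 3 : MvPowerSeries (Fin 3) R)) =
        (X 2 ^ 2 + C (sig ^ 2) * X 0 ^ 3 + C (lam ^ 2) * X 1 ^ 3 : MvPowerSeries (Fin 3) R) := by
  open Groth.Agent.Lib.Helper99 in
  classical
  obtain ⟨su, rfl⟩ := hsig
  obtain ⟨lu, rfl⟩ := hlam
  let U : MvPowerSeries (Fin 3) R := C (s0 ^ 2) * X 1 ^ 4 + C (s2 ^ 2) * X 1 ^ 2 + C (s4 ^ 2) +
    C (τ ^ 2) * X 1 ^ 3
  let V : MvPowerSeries (Fin 3) R := C (l0 ^ 2) * X 0 ^ 4 + C (l2 ^ 2) * X 0 ^ 2 + C (l4 ^ 2)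
  have hU0 : constantCoeff U = s4 ^ 2 := by simp [U]
  have hV0 : constantCoeff V = l4 ^ 2 := by simp [V]
  obtain ⟨u₁, hu₁, hu₁3⟩ := exists_cube_root_scaled U (su ^ 2) κ₁ (by
    rw [hU0, h₁]
    simp)
  obtain ⟨v₁, hv₁, hv₁3⟩ := exists_cube_root_scaled V (lu ^ 2) κ₂ (by
    rw [hV0, h₂]
    simp)
  let uu : Fin 3 → MvPowerSeries (Fin 3) R := ![u₁, v₁, 1]
  have huu : ∀ i, IsUnit (constantCoeff (uu i)) := by
    intro i
    fin_cases i
    · show IsUnit (constantCoeff u₁)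
      exact hu₁
    · show IsUnit (constantCoeff v₁)
      exact hv₁
    · show IsUnit (constantCoeff (1 : MvPowerSeries (Fin 3) R))
      rw [map_one]
      exact isUnit_one
  let ψ := substEquivXMul uu huu
  refine ⟨ψ.symm, ?_⟩
  rw [AlgEquiv.symm_apply_eq]
  have e : ψ (X 2 ^ 2 + C ((su : R) ^ 2) * X 0 ^ 3 + C ((lu : R) ^ 2) * X 1 ^ 3) =
      (X 2 * 1) ^ 2 + C ((su : R) ^ 2) * (X 0 * u₁) ^ 3 + C ((lu : R) ^ 2) * (X 1 * v₁) ^ 3 := by
    simp only [map_add, map_pow, map_mul, ψ, substEquivXMul_X, substEquivXMul_C]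
    rfl
  rw [e]
  have h1 : C ((su : R) ^ 2) * u₁ ^ 3 = U := by
    have := hu₁3
    simpa using this
  have h2 : C ((lu : R) ^ 2) * v₁ ^ 3 = V := by
    have := hv₁3
    simpa using this
  have h3 : (X 2 * 1 : MvPowerSeries (Fin 3) R) ^ 2 + C ((su : R) ^ 2) * (X 0 * u₁) ^ 3 +
      C ((lu : R) ^ 2) * (X 1 * v₁) ^ 3 = X 2 ^ 2 + X 0 ^ 3 * U + X 1 ^ 3 * V := by
    rw [← h1, ← h2]
    ring
  rw [h3]
  simp only [U, V]
  ring

end Groth.Agent.S13127
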