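import Groth.Statements.S13128
import Groth.Agent.Lib.Helper99.MvPSAut
-- import your own Groth.Agent.* helpers here

set_option autoImplicit false
universe u
open KumFam

namespace Groth.Agent.S13128

open MvPowerSeries in
/-- Let R be a commutative ring of characteristic 2, l0, l2, l4, s0, s2, s4, τ ∈ R with τ a unit, and α,
β ∈ R with l4² α⁴ + l2² α² + τ² α + l0² = 0 and s4² β⁴ + s2² β² + τ² β + s0² = 0. In characteristic
2 these relations give τ² α = (l4 α² + l2 α + l0)² and τ² β = (s4 β² + s2 β + s0)², so α = α′² and β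
= β′² with α′ = (l4 α² + l2 α + l0)/τ and β′ = (s4 β² + s2 β + s0)/τ. In R[[a, b, c]] (a = X 0, b =
X 1, c = X 2) put h = c² + τ² a b + (s4² b⁴ + s2² b²) a + (l4² a⁴ + l2² a²) b + l4² β a⁴ + l2² β a²
+ s4² α b⁴ + s2² α b²; this is the chart equation c² + τ² a b + (s4² b⁴ + s2² b² + s0²) a + (l4² a⁴
+ l2² a² + l0²) b after the substitution a ↦ a + α, b ↦ b + β, c ↦ c + τ α′ β′, which moves the
point (α, β, τ α′ β′) of that surface, where all partial derivatives vanish, to the origin. Then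
some R-algebra automorphism of R[[a, b, c]] maps h to c² + a b; consequently R[[a, b, c]]/(h) ≅
R[[a, b, c]]/(c² + a b), the completed local ring of an ordinary double point, constant over R. (The
published statement translates only a and b, so that its h carries the additional constant term τ² α
β; with that term h is a unit of R[[a, b, c]] whenever τ α β is a unit, for instance c² + a b + 1
over the field with two elements with l0 = s0 = τ = α = β = 1 and l2 = l4 = s2 = s4 = 0, and no ring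
automorphism carries a unit to c² + a b. The published proof begins by shifting c by a polynomial in
a, b whose constant term is τ α′ β′, a substitution of the polynomial ring which removes the term τ²
α β, and the rest of its argument takes place in R[[a, b, c]]; this row states the result for the
fully translated equation, which is what that argument proves.) -/
theorem result (R : Type u) [CommRing R] [CharP R 2]
    (l0 l2 l4 s0 s2 s4 τ α β : R) (hτ : IsUnit τ)
    (hα : l4 ^ 2 * α ^ 4 + l2 ^ 2 * α ^ 2 + τ ^ 2 * α + l0 ^ 2 = 0)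
    (hβ : s4 ^ 2 * β ^ 4 + s2 ^ 2 * β ^ 2 + τ ^ 2 * β + s0 ^ 2 = 0) :
    ∃ φ : MvPowerSeries (Fin 3) R ≃ₐ[R] MvPowerSeries (Fin 3) R,
      φ ((X 2 ^ 2 + C (τ ^ 2) * X 0 * X 1 + (C (s4 ^ 2) * X 1 ^ 4 + C (s2 ^ 2) * X 1 ^ 2) * X 0 +
          (C (l4 ^ 2) * X 0 ^ 4 + C (l2 ^ 2) * X 0 ^ 2) * X 1 + C (l4 ^ 2 * β) * X 0 ^ 4 +
          C (l2 ^ 2 * β) * X 0 ^ 2 + C (s4 ^ 2 * α) * X 1 ^ 4 + C (s2 ^ 2 * α) * X 1 ^ 2 :
          MvPowerSeries (Fin 3) R)) =
        (X 2 ^ 2 + X 0 * X 1 : MvPowerSeries (Fin 3) R) := by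
  open Groth.Agent.Lib.Helper99 in
  classical
  obtain ⟨tu, rfl⟩ := hτ
  set tinv : R := ((tu⁻¹ : Rˣ) : R) with htinv
  have ht : tinv * (tu : R) = 1 := Units.inv_mul tu
  have h2 : (2 : R) = 0 := by
    have := CharP.cast_eq_zero R 2
    exact_mod_cast this
  set α' : R := tinv * (l4 * α ^ 2 + l2 * α + l0) with hα'
  set β' : R := tinv * (s4 * β ^ 2 + s2 * β + s0) with hβ'
  have hα2 : α' ^ 2 = α := by
    rw [hα']
    linear_combination (tinv ^ 2) * hα +
      (tinv ^ 2 * (l4 * l2 * α ^ 3 + l4 * l0 * α ^ 2 + l2 * l0 * α - (tu : R) ^ 2 * α)) * h2 +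
      (α * (tinv * tu + 1)) * ht
  have hβ2 : β' ^ 2 = β := by
    rw [hβ']
    linear_combination (tinv ^ 2) * hβ +
      (tinv ^ 2 * (s4 * s2 * β ^ 3 + s4 * s0 * β ^ 2 + s2 * s0 * β - (tu : R) ^ 2 * β)) * h2 +
      (β * (tinv * tu + 1)) * ht
  have h2P : (2 : MvPowerSeries (Fin 3) R) = 0 := mvPowerSeries_two_eq_zero
  have key : ∀ x y : MvPowerSeries (Fin 3) R, (x + y) ^ 2 = x ^ 2 + y ^ 2 := by
    intro x y
    linear_combination (x * y) * h2P
  let W : MvPowerSeries (Fin 3) R := C ((tu : R) ^ 2) + C (s4 ^ 2) * X 1 ^ 3 + C (s2 ^ 2) * X 1 +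
    C (l4 ^ 2) * X 0 ^ 3 + C (l2 ^ 2) * X 0
  let Pol : MvPowerSeries (Fin 3) R := C β' * (C l4 * X 0 ^ 2 + C l2 * X 0) +
    C α' * (C s4 * X 1 ^ 2 + C s2 * X 1)
  let u₂ : Fin 3 → MvPowerSeries (Fin 3) R := ![W, 1, 1]
  have hu₂ : ∀ i, IsUnit (constantCoeff (u₂ i)) := by
    have h0 : constantCoeff (u₂ 0) = (tu : R) ^ 2 := by simp [u₂, W]
    have h1 : constantCoeff (u₂ 1) = 1 := by simp [u₂]
    have h2' : constantCoeff (u₂ 2) = 1 := by simp [u₂]
    intro i
    fin_cases i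
    · show IsUnit (constantCoeff (u₂ 0))
      rw [h0]
      exact (tu.isUnit).pow 2
    · show IsUnit (constantCoeff (u₂ 1))
      rw [h1]
      exact isUnit_one
    · show IsUnit (constantCoeff (u₂ 2))
      rw [h2']
      exact isUnit_one
  let θ₂ := substEquivXMul u₂ hu₂
  let b₁ : Fin 3 → MvPowerSeries (Fin 3) R := ![X 0, X 1, X 2 + Pol]
  have hb₁ : HasSubst b₁ := hasSubst_of_constantCoeff_zero (by
    intro s
    fin_cases s <;> simp [b₁, Pol])
  have hPol : substAlgHom (R := R) hb₁ Pol = Pol := by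
    simp only [Pol, map_add, map_mul, map_pow, substAlgHom_C_eq, substAlgHom_X]
    simp [b₁]
  have hinv : ∀ s, subst b₁ (b₁ s) = X s := by
    intro s
    fin_cases s
    · show subst b₁ (X 0) = X 0
      exact subst_X hb₁ 0
    · show subst b₁ (X 1) = X 1
      exact subst_X hb₁ 1
    · show subst b₁ (X 2 + Pol) = X 2
      rw [← substAlgHom_apply hb₁, map_add, substAlgHom_X, hPol]
      show X 2 + Pol + Pol = X 2
      linear_combination Pol * h2P
  let θ₁ := substEquivOfInvol hb₁ hinv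
  refine ⟨(θ₂.trans θ₁).symm, ?_⟩
  rw [AlgEquiv.symm_apply_eq, AlgEquiv.trans_apply]
  have e2 : θ₂ (X 2 ^ 2 + X 0 * X 1) = X 2 ^ 2 + X 0 * W * X 1 := by
    simp only [map_add, map_pow, map_mul, θ₂, substEquivXMul_X]
    simp [u₂]
  have hW : substAlgHom (R := R) hb₁ W = W := by
    simp only [W, map_add, map_mul, map_pow, substAlgHom_C_eq, substAlgHom_X]
    simp [b₁]
  have e1 : θ₁ (X 2 ^ 2 + X 0 * W * X 1) = (X 2 + Pol) ^ 2 + X 0 * W * X 1 := by
    simp only [θ₁, substEquivOfInvol_apply, map_add, map_pow, map_mul, substAlgHom_X, hW]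
    simp [b₁]
  rw [e2, e1]
  have hCα : (C α' : MvPowerSeries (Fin 3) R) ^ 2 = C α := by rw [← map_pow, hα2]
  have hCβ : (C β' : MvPowerSeries (Fin 3) R) ^ 2 = C β := by rw [← map_pow, hβ2]
  simp only [Pol, W, key, mul_pow, map_mul, map_pow]
  linear_combination (-(C l4 ^ 2 * X 0 ^ 4 + C l2 ^ 2 * X 0 ^ 2)) * hCβ -
    (C s4 ^ 2 * X 1 ^ 4 + C s2 ^ 2 * X 1 ^ 2) * hCα

end Groth.Agent.S13128
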