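-- Statement S13130
import Groth.Statements.S13130
import Mathlib.Tactic
import Mathlib.RingTheory.IntegralClosure.Algebra.Basic
import Mathlib.GroupTheory.OrderOfElement
import Mathlib.Algebra.MonoidAlgebra.Basic

set_option autoImplicit false
universe u v
open KumFam

namespace Groth.Agent.S13130

/-- Let R be a nontrivial commutative ring and M a commutative group, with group algebra R[M], the
coordinate ring of the diagonalizable group scheme D(M) over Spec R. Then D(M) is integral over Spec
R, i.e. R[M] is an integral R-algebra, if and only if M is a torsion group. (The published statement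
is over an arbitrary base scheme; the question is local and this row is the affine form, with R
nontrivial so that the elements of M are R-linearly independent.) -/
theorem result (R : Type u) [CommRing R] [Nontrivial R]
    (M : Type v) [CommGroup M] :
    Algebra.IsIntegral R (MonoidAlgebra R M) ↔ IsMulTorsion M := by
  classical
  constructor
  · intro h m
    by_contra hm
    have hinj := (injective_pow_iff_not_isOfFinOrder).mpr hm
    obtain ⟨P, hPm, hP⟩ := h.isIntegral (MonoidAlgebra.single m (1 : R))
    rw [Polynomial.eval₂_eq_sum_range] at hP
    have hterm : ∀ i : ℕ, algebraMap R (MonoidAlgebra R M) (P.coeff i) *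
        MonoidAlgebra.single m (1 : R) ^ i = MonoidAlgebra.single (m ^ i) (P.coeff i) := by
      intro i
      rw [MonoidAlgebra.single_pow, MonoidAlgebra.coe_algebraMap, Function.comp_apply,
        MonoidAlgebra.single_mul_single, one_mul, one_pow, Algebra.algebraMap_self,
        RingHom.id_apply, mul_one]
    simp only [hterm] at hP
    have h2 := congrArg (fun x => x.coeff (m ^ P.natDegree)) hP
    simp only [MonoidAlgebra.coeff_sum, MonoidAlgebra.coeff_single, Finsupp.coe_finset_sum,
      Finset.sum_apply, MonoidAlgebra.coeff_zero, Finsupp.coe_zero, Pi.zero_apply,
      Finsupp.single_apply] at h2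
    have h3 : ∀ i ∈ Finset.range (P.natDegree + 1),
        (if m ^ i = m ^ P.natDegree then P.coeff i else 0) =
        if i = P.natDegree then P.coeff i else 0 := by
      intro i _
      have : m ^ i = m ^ P.natDegree ↔ i = P.natDegree := ⟨fun h => hinj h, fun h => by rw [h]⟩
      simp only [this]
    rw [Finset.sum_congr rfl h3, Finset.sum_ite_eq' _ _ (fun i => P.coeff i)] at h2
    simp only [Finset.mem_range, Nat.lt_succ_self, if_true] at h2
    rw [Polynomial.coeff_natDegree, hPm.leadingCoeff] at h2
    exact one_ne_zero h2
  · intro h
    refine ⟨fun x => ?_⟩
    induction x using MonoidAlgebra.induction_on with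
    | of m =>
      obtain ⟨n, hn, hmn⟩ := (isOfFinOrder_iff_pow_eq_one).mp (h m)
      apply IsIntegral.of_pow hn
      rw [← map_pow, hmn, map_one]
      exact isIntegral_one
    | add x y hx hy => exact hx.add hy
    | smul r x hx => exact hx.smul r

end Groth.Agent.S13130
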