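import Groth.Statements.S13131
-- import your own Groth.Agent.* helpers here

set_option autoImplicit false
universe u
open CategoryTheory CategoryTheory.Limits AlgebraicGeometry
open KumFam

namespace Groth.Agent.S13131


/-- the index function of a morphism to the constant scheme -/
noncomputable def idx (S : Scheme.{u}) (M : Type u) {T : Scheme.{u}}
    (f : T ⟶ ∐ (fun _ : M => S)) (t : T) : M :=
  ((sigmaMk (fun _ : M => S)).symm (f.base t)).1

theorem idx_isLocallyConstant (S : Scheme.{u}) (M : Type u) {T : Scheme.{u}}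
    (f : T ⟶ ∐ (fun _ : M => S)) : IsLocallyConstant (idx S M f) := by
  intro s
  have h1 : IsOpen ((Sigma.fst : (Σ _ : M, S) → M) ⁻¹' s) := by
    rw [isOpen_sigma_iff]
    intro m
    by_cases hm : m ∈ s
    · convert isOpen_univ
      ext x
      simp [hm]
    · convert isOpen_empty
      ext x
      simp [hm]
  have h2 : Continuous (fun t : T => (sigmaMk (fun _ : M => S)).symm (f.base t)) :=
    (sigmaMk (fun _ : M => S)).symm.continuous.comp f.continuous
  exact h1.preimage h2

theorem idx_ι (S : Scheme.{u}) (M : Type u) (m : M) (x : S) :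
    ((sigmaMk (fun _ : M => S)).symm ((Sigma.ι (fun _ : M => S) m) x)).1 = m := by
  rw [← sigmaMk_mk (fun _ : M => S) m x, Homeomorph.symm_apply_apply]

/-- the fibres of a locally constant function as opens -/
def fibOpen {T : Scheme.{u}} {M : Type u} (c : T → M) (hc : IsLocallyConstant c) (m : M) :
    T.Opens := ⟨c ⁻¹' {m}, hc.isOpen_fiber m⟩

theorem fib_isColimit {T : Scheme.{u}} {M : Type u} (c : T → M) (hc : IsLocallyConstant c) :
    Nonempty (IsColimit <| Cofan.mk T (fun m => (fibOpen c hc m).ι)) := by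
  apply nonempty_isColimit_cofanMk_of
  · rw [eq_top_iff]
    intro t _
    rw [TopologicalSpace.Opens.mem_iSup]
    refine ⟨c t, ?_⟩
    rw [Scheme.Opens.opensRange_ι]
    exact (rfl : c t = c t)
  · intro m m' hmm'
    rw [Function.onFun, Scheme.Opens.opensRange_ι, Scheme.Opens.opensRange_ι, disjoint_iff]
    ext t
    constructor
    · rintro ⟨h1, h2⟩
      exact absurd ((h1 : c t = m).symm.trans (h2 : c t = m')) hmm'
    · intro h
      exact absurd h (by simp)

/-- key factorization: on the fibre over `m`, `f` is `p` followed by the `m`-th inclusion -/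
theorem fib_fac (S : Scheme.{u}) (M : Type u) {T : Scheme.{u}} (p : T ⟶ S)
    (f : T ⟶ ∐ (fun _ : M => S)) (hf : f ≫ Sigma.desc (fun _ : M => 𝟙 S) = p)
    (c : T → M) (hc : IsLocallyConstant c) (hcf : ∀ t, idx S M f t = c t) (m : M) :
    (fibOpen c hc m).ι ≫ f = (fibOpen c hc m).ι ≫ p ≫ Sigma.ι (fun _ : M => S) m := by
  have hrange : Set.range ((fibOpen c hc m).ι ≫ f) ⊆
      Set.range (Sigma.ι (fun _ : M => S) m) := by
    rintro _ ⟨t, rfl⟩
    have ht : c ((fibOpen c hc m).ι t) = m := t.2
    rw [← hcf] at ht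
    -- the point f(t) is sigmaMk ⟨idx, x⟩
    set y := (sigmaMk (fun _ : M => S)).symm (f.base ((fibOpen c hc m).ι t)) with hy
    have hy' : sigmaMk (fun _ : M => S) y = f.base ((fibOpen c hc m).ι t) :=
      Homeomorph.apply_symm_apply _ _
    have hy1 : y.1 = m := ht
    refine ⟨y.2, ?_⟩
    rw [Scheme.Hom.comp_apply]
    rw [← hy']
    obtain ⟨i, x⟩ := y
    subst hy1
    exact (sigmaMk_mk (fun _ : M => S) i x).symm
  have h1 := IsOpenImmersion.lift_fac (Sigma.ι (fun _ : M => S) m) ((fibOpen c hc m).ι ≫ f) hrange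
  have h2 : IsOpenImmersion.lift (Sigma.ι (fun _ : M => S) m) ((fibOpen c hc m).ι ≫ f) hrange =
      (fibOpen c hc m).ι ≫ p := by
    have := congrArg (· ≫ Sigma.desc (fun _ : M => 𝟙 S)) h1
    simp only [Category.assoc, Sigma.ι_desc, Category.comp_id, hf] at this
    exact this
  rw [← h1, h2, Category.assoc]

/-- Let S be a scheme, M a set and p : T → S a scheme over S. The S-morphisms T → ∐_{m ∈ M} S (the
constant S-scheme on M, with its structure map the codiagonal) are in bijection with the locally
constant maps T → M, a morphism f corresponding to the function sending t to the index of the copy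
of S containing f(t). (In the published statement M is a group and ∐_M S the constant group scheme;
the group structures play no role in this description of T-points.) -/
theorem result (S : Scheme.{u}) (M : Type u)
    (T : Scheme.{u}) (p : T ⟶ S) :
    ∃ e : {f : T ⟶ ∐ (fun _ : M => S) // f ≫ Sigma.desc (fun _ : M => 𝟙 S) = p} ≃
        LocallyConstant T M,
      ∀ (f : {f : T ⟶ ∐ (fun _ : M => S) // f ≫ Sigma.desc (fun _ : M => 𝟙 S) = p}) (t : T),
        e f t = ((sigmaMk (fun _ : M => S)).symm (f.1.base t)).1 := by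
  classical
  let F := {f : T ⟶ ∐ (fun _ : M => S) // f ≫ Sigma.desc (fun _ : M => 𝟙 S) = p}
  let e0 : F → LocallyConstant T M := fun f => ⟨idx S M f.1, idx_isLocallyConstant S M f.1⟩
  have hinj : Function.Injective e0 := by
    intro f f' hff'
    have hc : IsLocallyConstant (idx S M f.1) := idx_isLocallyConstant S M f.1
    have hcf' : ∀ t, idx S M f'.1 t = idx S M f.1 t := fun t =>
      (congrArg (fun c : LocallyConstant T M => c t) hff').symm
    obtain ⟨hcol⟩ := fib_isColimit (idx S M f.1) hc
    apply Subtype.ext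
    apply Cofan.IsColimit.hom_ext hcol
    intro m
    change (fibOpen _ hc m).ι ≫ f.1 = (fibOpen _ hc m).ι ≫ f'.1
    rw [fib_fac S M p f.1 f.2 _ hc (fun t => rfl) m, fib_fac S M p f'.1 f'.2 _ hc hcf' m]
  have hsurj : Function.Surjective e0 := by
    intro c
    obtain ⟨hcol⟩ := fib_isColimit c c.isLocallyConstant
    let f : T ⟶ ∐ (fun _ : M => S) := Cofan.IsColimit.desc hcol
      (fun m => (fibOpen c c.isLocallyConstant m).ι ≫ p ≫ Sigma.ι (fun _ : M => S) m)
    have hfm : ∀ m, (fibOpen c c.isLocallyConstant m).ι ≫ f =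
        (fibOpen c c.isLocallyConstant m).ι ≫ p ≫ Sigma.ι (fun _ : M => S) m := fun m =>
      Cofan.IsColimit.fac hcol _ m
    have hf : f ≫ Sigma.desc (fun _ : M => 𝟙 S) = p := by
      apply Cofan.IsColimit.hom_ext hcol
      intro m
      change (fibOpen c c.isLocallyConstant m).ι ≫ f ≫ _ = (fibOpen c c.isLocallyConstant m).ι ≫ p
      rw [← Category.assoc, hfm m]
      simp
    refine ⟨⟨f, hf⟩, ?_⟩
    ext t
    change idx S M f t = c t
    let t' : (fibOpen c c.isLocallyConstant (c t) : Scheme.{u}) := ⟨t, rfl⟩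
    have ht' : (fibOpen c c.isLocallyConstant (c t)).ι t' = t := rfl
    have h1 : f.base t = (Sigma.ι (fun _ : M => S) (c t)) (p t) := by
      have := congrArg (fun g : (fibOpen c c.isLocallyConstant (c t) : Scheme.{u}) ⟶ _ => g t')
        (hfm (c t))
      simp only [Scheme.Hom.comp_apply, ht'] at this
      exact this
    unfold idx
    rw [h1]
    exact idx_ι S M (c t) _
  refine ⟨Equiv.ofBijective e0 ⟨hinj, hsurj⟩, ?_⟩
  intro f t
  rfl

end Groth.Agent.S13131
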