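import Groth.Statements.S13132
import Groth.Agent.Lib.Helper67.FlatArtinLocal
import Mathlib.Tactic

set_option autoImplicit false
universe u v
open CAlg

namespace Groth.Agent.S13132

open Groth.Agent.Lib.Helper67

section aux

variable {A' : Type u} [CommRing A'] {S' : Type v} [CommRing S'] [Algebra A' S']

lemma mem_map_iff (J : Ideal A') (x : S') :
    x ∈ J.map (algebraMap A' S') ↔ x ∈ J • (⊤ : Submodule A' S') := by
  rw [Ideal.smul_top_eq_map]
  rfl

/-- `f'` is a non-zero-divisor modulo `J S'` iff multiplication by `f'` is regular modulo `J`. -/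
lemma mk_mem_nonZeroDivisors_iff (J : Ideal A') (f' : S') :
    Ideal.Quotient.mk (J.map (algebraMap A' S')) f' ∈
        nonZeroDivisors (S' ⧸ J.map (algebraMap A' S')) ↔
      RegMod (LinearMap.mulLeft A' f') J := by
  rw [mem_nonZeroDivisors_iff_left]
  constructor
  · intro h t ht
    rw [← mem_map_iff] at ht ⊢
    rw [LinearMap.mulLeft_apply] at ht
    have := h (Ideal.Quotient.mk _ t) (by
      rw [← map_mul]
      exact Ideal.Quotient.eq_zero_iff_mem.mpr ht)
    exact Ideal.Quotient.eq_zero_iff_mem.mp this
  · intro h x hx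
    obtain ⟨t, rfl⟩ := Ideal.Quotient.mk_surjective x
    rw [← map_mul, Ideal.Quotient.eq_zero_iff_mem] at hx
    rw [Ideal.Quotient.eq_zero_iff_mem, mem_map_iff]
    apply h
    rw [← mem_map_iff, LinearMap.mulLeft_apply]
    exact hx

lemma mem_nonZeroDivisors_iff_regMod_bot (f' : S') :
    f' ∈ nonZeroDivisors S' ↔ RegMod (LinearMap.mulLeft A' f') (⊥ : Ideal A') := by
  rw [mem_nonZeroDivisors_iff_left]
  simp only [RegMod, Submodule.bot_smul, Submodule.mem_bot, LinearMap.mulLeft_apply]

end aux

/-- Let A' be an Artinian local ring, I a proper ideal of A' and S' a flat A'-algebra. An element f' of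
S' is a non-zero-divisor exactly when its image in S'/IS' is one; and when f' is a non-zero-divisor,
the quotient S'/(f') is flat over A'. (The published statement is for local Artinian algebras with a
fixed residue field over a ring of Witt vectors and a surjection between two of them; the argument
uses only that A' is Artinian local and I is a proper ideal, which is the form taken here.) -/
theorem result
    {A' : Type u} [CommRing A'] [IsArtinianRing A'] [IsLocalRing A'] (I : Ideal A') (hI : I ≠ ⊤)
    {S' : Type v} [CommRing S'] [Algebra A' S'] [Module.Flat A' S'] (f' : S') :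
    (f' ∈ nonZeroDivisors S' ↔
      Ideal.Quotient.mk (I.map (algebraMap A' S')) f' ∈ nonZeroDivisors (S' ⧸ I.map (algebraMap A' S'))) ∧
    (f' ∈ nonZeroDivisors S' → Module.Flat A' (S' ⧸ Ideal.span {f'})) := by
  refine ⟨?_, ?_⟩
  · rw [mk_mem_nonZeroDivisors_iff, mem_nonZeroDivisors_iff_regMod_bot (A' := A')]
    exact regMod_iff_of_ne_top _ ⊥ I bot_ne_top hI
  · intro hf
    rw [mem_nonZeroDivisors_iff_regMod_bot (A' := A')] at hf
    have hreg : ∀ J : Ideal A', RegMod (LinearMap.mulLeft A' f') J := fun J =>
      regMod_of_regMod_maximalIdeal _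
        (regMod_maximalIdeal_of_regMod _ ⊥ bot_ne_top hf) J
    refine flat_of_regMod (LinearMap.mulLeft A' f')
      (Ideal.Quotient.mkₐ A' (Ideal.span {f'})).toLinearMap ?_ ?_ ?_ hreg
    · exact Ideal.Quotient.mk_surjective
    · intro s hs
      have hs' : Ideal.Quotient.mk (Ideal.span {f'}) s = 0 := hs
      rw [Ideal.Quotient.eq_zero_iff_mem, Ideal.mem_span_singleton'] at hs'
      obtain ⟨t, ht⟩ := hs'
      exact ⟨t, by rw [LinearMap.mulLeft_apply, ← ht, mul_comm]⟩
    · intro t
      change Ideal.Quotient.mk (Ideal.span {f'}) (f' * t) = 0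
      rw [Ideal.Quotient.eq_zero_iff_mem]
      exact Ideal.mul_mem_right _ _ (Ideal.mem_span_singleton_self f')

end Groth.Agent.S13132
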