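import Groth.Statements.S13133
import Groth.Agent.Lib.Helper67.RegSeqArtinLocal
import Mathlib.Tactic

set_option autoImplicit false
universe u v
open CAlg

namespace Groth.Agent.S13133

open Groth.Agent.Lib.Helper67 RingTheory.Sequence

/-- Regular sequences on the `S`-module `S ⧸ 𝔞 S` versus on the ring `S ⧸ 𝔞`. -/
lemma isRegular_quot_iff {S : Type v} [CommRing S] (𝔞 : Ideal S) (rs : List S) :
    IsRegular (S ⧸ (𝔞 • ⊤ : Submodule S S)) rs ↔
      IsRegular (S ⧸ 𝔞) (rs.map (Ideal.Quotient.mk 𝔞)) := by
  have h : (𝔞 • ⊤ : Submodule S S) = 𝔞 := by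
    rw [smul_eq_mul, Ideal.mul_top]
  let e : (S ⧸ (𝔞 • ⊤ : Submodule S S)) ≃ₗ[S] (S ⧸ 𝔞) := Submodule.quotEquivOfEq _ _ h
  refine e.toAddEquiv.isRegular_congr ?_
  refine List.forall₂_map_right_iff.mpr (List.forall₂_same.mpr fun r _ x => ?_)
  change e (r • x) = Ideal.Quotient.mk 𝔞 r • e x
  rw [map_smul]
  rfl

/-- Let A' be an Artinian local ring, I a proper ideal of A', S' a flat A'-algebra and f'_1, …, f'_n
elements of S' with n ≥ 1. A family f'_1, …, f'_n in S' is a regular sequence exactly when its
reduction modulo I·S' is a regular sequence of S'/IS'. (Regular sequences are defined in the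
published text over Noetherian rings; this row does not assume S' Noetherian, which the argument
does not use. The published statement is for a surjection of local Artinian algebras with a fixed
residue field over a ring of Witt vectors; only the Artinian local base and the proper ideal are
used, which is the form taken here.) -/
theorem result
    {A' : Type u} [CommRing A'] [IsArtinianRing A'] [IsLocalRing A'] (I : Ideal A') (hI : I ≠ ⊤)
    {S' : Type v} [CommRing S'] [Algebra A' S'] [Module.Flat A' S'] {n : ℕ} (hn : 1 ≤ n)
    (f' : Fin n → S') :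
    RingTheory.Sequence.IsRegular S' (List.ofFn f') ↔
      RingTheory.Sequence.IsRegular (S' ⧸ I.map (algebraMap A' S'))
        (List.ofFn fun i => Ideal.Quotient.mk (I.map (algebraMap A' S')) (f' i)) := by
  rw [(isRegular_iff_and_flat I hI (List.ofFn f') S').1, isRegular_quot_iff, List.map_ofFn]
  rfl

end Groth.Agent.S13133
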