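import Groth.Statements.S13134
import Groth.Agent.Lib.Helper67.FlatKer
import Mathlib.RingTheory.Polynomial.Quotient
import Mathlib.Tactic

set_option autoImplicit false
universe u v
open CAlg

namespace Groth.Agent.S13134

open Groth.Agent.Lib.Helper67

/-- Let A' be an Artinian local ring, I a proper ideal, A = A'/I and f_1, …, f_m ∈ A[x_1, …, x_n]. Every
flat A'-algebra B' equipped with a surjection π onto A[x]/(f_1, …, f_m) with kernel I·B', compatible
with A' → A, is a quotient of A'[x_1, …, x_n] by the ideal generated by some lifts f'_1, …, f'_m of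
the f_i, compatibly with π and with reduction of polynomials modulo I. (The published statement is
for a surjection of local Artinian algebras with a fixed residue field over a ring of Witt vectors;
only the Artinian local base and the proper ideal are used, which is the form taken here.) -/
theorem result
    {A' : Type u} [CommRing A'] [IsArtinianRing A'] [IsLocalRing A'] (I : Ideal A') (hI : I ≠ ⊤)
    {n m : ℕ} (f : Fin m → MvPolynomial (Fin n) (A' ⧸ I))
    {B' : Type v} [CommRing B'] [Algebra A' B'] [Module.Flat A' B']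
    (π : B' →+* MvPolynomial (Fin n) (A' ⧸ I) ⧸ Ideal.span (Set.range f))
    (hπ : Function.Surjective π) (hker : RingHom.ker π = I.map (algebraMap A' B'))
    (hcomp : π.comp (algebraMap A' B') =
      ((Ideal.Quotient.mk (Ideal.span (Set.range f))).comp MvPolynomial.C).comp (Ideal.Quotient.mk I)) :
    ∃ (f' : Fin m → MvPolynomial (Fin n) A') (ψ : MvPolynomial (Fin n) A' →ₐ[A'] B'),
      (∀ i, MvPolynomial.map (Ideal.Quotient.mk I) (f' i) = f i) ∧
      Function.Surjective ψ ∧ RingHom.ker ψ.toRingHom = Ideal.span (Set.range f') ∧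
      ∀ q, π (ψ q) = Ideal.Quotient.mk (Ideal.span (Set.range f)) (MvPolynomial.map (Ideal.Quotient.mk I) q) := by
  classical
  set ρ := MvPolynomial.map (σ := Fin n) (Ideal.Quotient.mk I) with hρ
  have hρsurj : Function.Surjective ρ := MvPolynomial.map_surjective _ Ideal.Quotient.mk_surjective
  set mkf := Ideal.Quotient.mk (Ideal.span (Set.range f)) with hmkf
  -- Step 1: the map ψ
  choose b hb using fun j : Fin n => hπ (mkf (MvPolynomial.X j))
  let ψ : MvPolynomial (Fin n) A' →ₐ[A'] B' := MvPolynomial.aeval b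
  have hπψ : ∀ q, π (ψ q) = mkf (ρ q) := by
    have : π.comp ψ.toRingHom = mkf.comp ρ := by
      apply MvPolynomial.ringHom_ext
      · intro a
        have h1 := congrArg (fun g => g a) hcomp
        simp only [RingHom.comp_apply] at h1
        simp only [RingHom.comp_apply, AlgHom.toRingHom_eq_coe, RingHom.coe_coe, ψ,
          MvPolynomial.aeval_C, hρ, MvPolynomial.map_C]
        exact h1
      · intro j
        simp only [RingHom.comp_apply, AlgHom.toRingHom_eq_coe, RingHom.coe_coe, ψ,
          MvPolynomial.aeval_X, hρ, MvPolynomial.map_X]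
        exact hb j
    intro q
    exact congrArg (fun g => g q) this
  have hkerπ : ∀ x : B', π x = 0 → x ∈ I • (⊤ : Submodule A' B') := by
    intro x hx
    rw [Ideal.smul_top_eq_map, Submodule.restrictScalars_mem, ← hker]
    exact hx
  -- Step 2: surjectivity of ψ
  have hψsurj : Function.Surjective ψ := by
    have hle : (⊤ : Submodule A' B') ≤ LinearMap.range ψ.toLinearMap ⊔ I • (⊤ : Submodule A' B') := by
      intro x _
      obtain ⟨qbar, hq⟩ := Ideal.Quotient.mk_surjective (π x)
      obtain ⟨q, rfl⟩ := hρsurj qbar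
      have h0 : π (x - ψ q) = 0 := by
        rw [map_sub, hπψ, ← hq, sub_self]
      have : x = ψ q + (x - ψ q) := by ring
      rw [this]
      exact Submodule.add_mem_sup ⟨q, rfl⟩ (hkerπ _ h0)
    have := le_of_le_sup_smul I hI _ _ hle
    intro x
    obtain ⟨q, hq⟩ := this (Submodule.mem_top : x ∈ ⊤)
    exact ⟨q, hq⟩
  -- Step 3: the lifts
  have hlift : ∀ x : B', x ∈ I • (⊤ : Submodule A' B') →
      ∃ q : MvPolynomial (Fin n) A', ψ q = x ∧ ρ q = 0 := by
    intro x hx
    induction hx using Submodule.smul_induction_on' with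
    | smul a ha y _ =>
      obtain ⟨q₀, rfl⟩ := hψsurj y
      refine ⟨a • q₀, by rw [map_smul], ?_⟩
      rw [MvPolynomial.smul_eq_C_mul, map_mul, hρ, MvPolynomial.map_C,
        Ideal.Quotient.eq_zero_iff_mem.mpr ha, map_zero, zero_mul]
    | add x _ y _ hx hy =>
      obtain ⟨q1, h1, h1'⟩ := hx
      obtain ⟨q2, h2, h2'⟩ := hy
      exact ⟨q1 + q2, by rw [map_add, h1, h2], by rw [map_add, h1', h2', add_zero]⟩
  have hf'ex : ∀ i, ∃ q : MvPolynomial (Fin n) A', ρ q = f i ∧ ψ q = 0 := by
    intro i
    obtain ⟨g, hg⟩ := hρsurj (f i)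
    have h0 : π (ψ g) = 0 := by
      rw [hπψ, hg, hmkf, Ideal.Quotient.eq_zero_iff_mem]
      exact Ideal.subset_span ⟨i, rfl⟩
    obtain ⟨q, hq1, hq2⟩ := hlift _ (hkerπ _ h0)
    exact ⟨g - q, by rw [map_sub, hg, hq2, sub_zero], by rw [map_sub, hq1, sub_self]⟩
  choose f' hf'ρ hf'ψ using hf'ex
  refine ⟨f', ψ, hf'ρ, hψsurj, ?_, hπψ⟩
  -- Step 4: the kernel
  apply le_antisymm
  · -- `ker ψ ≤ (f')` by Nakayama
    have hkey : (RingHom.ker ψ.toRingHom).restrictScalars A' ≤
        (Ideal.span (Set.range f')).restrictScalars A' ⊔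
          I • (RingHom.ker ψ.toRingHom).restrictScalars A' := by
      intro q hq
      have hψq : ψ q = 0 := hq
      have h1 : ρ q ∈ Ideal.span (Set.range f) := by
        rw [← Ideal.Quotient.eq_zero_iff_mem, ← hmkf, ← hπψ, hψq, map_zero]
      obtain ⟨cbar, hc⟩ := (Ideal.mem_span_range_iff_exists_fun).mp h1
      choose c hcρ using fun i => hρsurj (cbar i)
      set q' := q - ∑ i, c i * f' i with hq'
      have hq'ρ : ρ q' = 0 := by
        rw [hq', map_sub, map_sum, ← hc, sub_eq_zero]
        exact Finset.sum_congr rfl fun i _ => by rw [map_mul, hcρ, hf'ρ]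
      have hq'ψ : ψ q' = 0 := by
        rw [hq', map_sub, hψq, map_sum, zero_sub, neg_eq_zero]
        exact Finset.sum_eq_zero fun i _ => by rw [map_mul, hf'ψ, mul_zero]
      have hq'I : q' ∈ I • (⊤ : Submodule A' (MvPolynomial (Fin n) A')) := by
        rw [Ideal.smul_top_eq_map, Submodule.restrictScalars_mem, MvPolynomial.algebraMap_eq]
        have hk : RingHom.ker ρ = Ideal.map MvPolynomial.C I := by
          rw [hρ, MvPolynomial.ker_map, Ideal.mk_ker]
        rw [← hk]
        exact hq'ρ
      have hq'K := mem_smul_ker_of_flat ψ.toLinearMap hψsurj I q' hq'I hq'ψ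
      have hkerEq : LinearMap.ker ψ.toLinearMap = (RingHom.ker ψ.toRingHom).restrictScalars A' := by
        ext x
        rfl
      rw [hkerEq] at hq'K
      have hq : q = ∑ i, c i * f' i + q' := by rw [hq']; ring
      rw [hq]
      refine Submodule.add_mem_sup ?_ hq'K
      rw [Submodule.restrictScalars_mem]
      exact Ideal.sum_mem _ fun i _ => Ideal.mul_mem_left _ _ (Ideal.subset_span ⟨i, rfl⟩)
    exact le_of_le_sup_smul I hI _ _ hkey
  · rw [Ideal.span_le]
    rintro _ ⟨i, rfl⟩
    exact hf'ψ i

end Groth.Agent.S13134
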