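import Groth.Statements.S13135
import Groth.Agent.Lib.Helper67.RegSeqArtinLocal
import Mathlib.RingTheory.Polynomial.Quotient
import Mathlib.Tactic

set_option autoImplicit false
universe u v
open CAlg

namespace Groth.Agent.S13135

open Groth.Agent.Lib.Helper67 RingTheory.Sequence

lemma quotEquiv_symm_mk {R : Type*} [CommRing R] (I : Ideal R) (σ : Type*) (z : MvPolynomial σ R) :
    (MvPolynomial.quotientEquivQuotientMvPolynomial (σ := σ) I).symm (Ideal.Quotient.mk _ z) =
      MvPolynomial.map (Ideal.Quotient.mk I) z := by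
  rw [AlgEquiv.symm_apply_eq]
  induction z using MvPolynomial.induction_on with
  | C a => simp [MvPolynomial.quotientEquivQuotientMvPolynomial]
  | add p q hp hq => simp only [map_add, hp, hq]
  | mul_X p i hp =>
    simp only [map_mul, hp, MvPolynomial.map_X]
    simp [MvPolynomial.quotientEquivQuotientMvPolynomial]

/-- Let A' be an Artinian local ring, I a proper ideal, A = A'/I and f_1, …, f_m a regular sequence in
A[x_1, …, x_n]. For every choice of lifts f'_1, …, f'_m in A'[x_1, …, x_n] the quotient A'[x]/(f'_1,
…, f'_m) is flat over A' (so it is a flat lifting of A[x]/(f_1, …, f_m)). (The published statement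
is for a surjection of local Artinian algebras with a fixed residue field over a ring of Witt
vectors; only the Artinian local base and the proper ideal are used, which is the form taken here.) -/
theorem result
    {A' : Type u} [CommRing A'] [IsArtinianRing A'] [IsLocalRing A'] (I : Ideal A') (hI : I ≠ ⊤)
    {n m : ℕ} (f : Fin m → MvPolynomial (Fin n) (A' ⧸ I))
    (hreg : RingTheory.Sequence.IsRegular (MvPolynomial (Fin n) (A' ⧸ I)) (List.ofFn f))
    (f' : Fin m → MvPolynomial (Fin n) A') (hf' : ∀ i, MvPolynomial.map (Ideal.Quotient.mk I) (f' i) = f i) :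
    Module.Flat A' (MvPolynomial (Fin n) A' ⧸ Ideal.span (Set.range f')) := by
  obtain ⟨h1, h2⟩ := isRegular_iff_and_flat I hI (List.ofFn f') (MvPolynomial (Fin n) A')
  -- transport the hypothesis
  have hP : IsRegular (MvPolynomial (Fin n) A' ⧸
      baseSMulTop (S := MvPolynomial (Fin n) A') I (MvPolynomial (Fin n) A')) (List.ofFn f') := by
    have h : (baseSMulTop (S := MvPolynomial (Fin n) A') I (MvPolynomial (Fin n) A')) =
        (Ideal.map MvPolynomial.C I : Ideal (MvPolynomial (Fin n) A')) := by
      rw [baseSMulTop, smul_eq_mul, Ideal.mul_top, MvPolynomial.algebraMap_eq]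
    let e1 : (MvPolynomial (Fin n) A' ⧸
        baseSMulTop (S := MvPolynomial (Fin n) A') I (MvPolynomial (Fin n) A')) ≃ₗ[MvPolynomial (Fin n) A']
        (MvPolynomial (Fin n) A' ⧸ (Ideal.map MvPolynomial.C I : Ideal (MvPolynomial (Fin n) A'))) :=
      Submodule.quotEquivOfEq _ _ h
    let e2 := (MvPolynomial.quotientEquivQuotientMvPolynomial (σ := Fin n) I).symm
    let e : (MvPolynomial (Fin n) A' ⧸
        baseSMulTop (S := MvPolynomial (Fin n) A') I (MvPolynomial (Fin n) A')) ≃+
        MvPolynomial (Fin n) (A' ⧸ I) := e1.toAddEquiv.trans e2.toAddEquiv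
    have hfl : List.ofFn f = (List.ofFn f').map (MvPolynomial.map (Ideal.Quotient.mk I)) := by
      rw [List.map_ofFn]
      congr 1
      funext i
      exact (hf' i).symm
    rw [hfl] at hreg
    refine (e.isRegular_congr ?_).mpr hreg
    refine List.forall₂_map_right_iff.mpr (List.forall₂_same.mpr fun r _ x => ?_)
    obtain ⟨y, rfl⟩ := Submodule.Quotient.mk_surjective _ x
    have he : ∀ z : MvPolynomial (Fin n) A', e (Submodule.Quotient.mk z) =
        MvPolynomial.map (Ideal.Quotient.mk I) z := fun z => quotEquiv_symm_mk I (Fin n) z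
    rw [← Submodule.Quotient.mk_smul, he, he, smul_eq_mul, map_mul, smul_eq_mul]
  have hflat := h2 (h1.mpr hP)
  have hEq : (Ideal.ofList (List.ofFn f') • ⊤ : Submodule (MvPolynomial (Fin n) A') (MvPolynomial (Fin n) A')) =
      Ideal.span (Set.range f') := by
    rw [smul_eq_mul, Ideal.mul_top, Ideal.ofList]
    congr 1
    ext r
    simp [List.mem_ofFn]
  exact Module.Flat.of_linearEquiv ((Submodule.quotEquivOfEq _ _ hEq).restrictScalars A').symm

end Groth.Agent.S13135
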