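import Groth.Statements.S13136
import Groth.Agent.Lib.Helper67.FlatArtinLocal
import Mathlib.RingTheory.WittVector.Truncated
import Mathlib.RingTheory.WittVector.Identities
import Mathlib.RingTheory.WittVector.DiscreteValuationRing
import Mathlib.FieldTheory.Perfect
import Mathlib.Tactic

set_option autoImplicit false
universe u v
open FrobAlg

namespace Groth.Agent.S13136

open Groth.Agent.Lib.Helper67 TensorProduct

section ring

variable (p : ℕ) [Fact p.Prime] (k : Type u) [Field k] [CharP k p]

lemma tw_mul_p_coeff_zero (y : TruncatedWittVector p 2 k) :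
    (y * (p : TruncatedWittVector p 2 k)).coeff 0 = 0 := by
  obtain ⟨Y, rfl⟩ := WittVector.truncate_surjective p 2 k y
  rw [← map_natCast (WittVector.truncate 2 : WittVector p k →+* TruncatedWittVector p 2 k) p,
    ← map_mul, WittVector.coeff_truncate]
  exact WittVector.mul_charP_coeff_zero Y

lemma tw_mul_p_coeff_one (y : TruncatedWittVector p 2 k) :
    (y * (p : TruncatedWittVector p 2 k)).coeff 1 = (y.coeff 0) ^ p := by
  obtain ⟨Y, rfl⟩ := WittVector.truncate_surjective p 2 k y
  rw [← map_natCast (WittVector.truncate 2 : WittVector p k →+* TruncatedWittVector p 2 k) p,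
    ← map_mul, WittVector.coeff_truncate, WittVector.coeff_truncate]
  exact WittVector.mul_charP_coeff_succ Y 0

lemma tw_p_coeff_zero : ((p : TruncatedWittVector p 2 k)).coeff 0 = 0 := by
  have := tw_mul_p_coeff_zero p k 1
  rwa [one_mul] at this

lemma tw_p_mul_p : (p : TruncatedWittVector p 2 k) * p = 0 := by
  ext i
  fin_cases i
  · simpa [TruncatedWittVector.coeff_zero] using tw_mul_p_coeff_zero p k p
  · have := tw_mul_p_coeff_one p k p
    rw [tw_p_coeff_zero, zero_pow (Fact.out : p.Prime).ne_zero] at this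
    simpa [TruncatedWittVector.coeff_zero] using this

lemma tw_isUnit_of_coeff_zero_ne_zero (a : TruncatedWittVector p 2 k) (h : a.coeff 0 ≠ 0) :
    IsUnit a := by
  obtain ⟨A, rfl⟩ := WittVector.truncate_surjective p 2 k a
  rw [WittVector.coeff_truncate] at h
  exact (WittVector.isUnit_of_coeff_zero_ne_zero A h).map _

lemma tw_exists_eq_mul_p [PerfectRing k p] (a : TruncatedWittVector p 2 k) (h : a.coeff 0 = 0) :
    ∃ b, a = b * (p : TruncatedWittVector p 2 k) := by
  obtain ⟨c, hc⟩ := surjective_frobenius k p (a.coeff 1)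
  refine ⟨TruncatedWittVector.mk p ![c, 0], ?_⟩
  ext i
  fin_cases i
  · simp only [Fin.zero_eta]
    rw [tw_mul_p_coeff_zero, h]
  · simp only [Fin.mk_one]
    rw [tw_mul_p_coeff_one, TruncatedWittVector.coeff_mk]
    simpa [frobenius_def] using hc.symm

/-- The annihilator of `p` in `W₂(k)` is `(p)`. -/
lemma tw_ann_p [PerfectRing k p] (a : TruncatedWittVector p 2 k)
    (h : (p : TruncatedWittVector p 2 k) * a = 0) :
    ∃ b, a = (p : TruncatedWittVector p 2 k) * b := by
  have h1 := tw_mul_p_coeff_one p k a
  rw [mul_comm, h, TruncatedWittVector.coeff_zero] at h1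
  have h0 : a.coeff 0 = 0 := (pow_eq_zero_iff (Fact.out : p.Prime).ne_zero).mp h1.symm
  obtain ⟨b, hb⟩ := tw_exists_eq_mul_p p k a h0
  exact ⟨b, by rw [hb, mul_comm]⟩

/-- The ideals of `W₂(k)` are `0`, `(p)` and `(1)`. -/
lemma tw_ideal_cases [PerfectRing k p] (I : Ideal (TruncatedWittVector p 2 k)) :
    I = ⊥ ∨ I = ⊤ ∨ I = Ideal.span {(p : TruncatedWittVector p 2 k)} := by
  by_cases hu : ∃ a ∈ I, TruncatedWittVector.coeff 0 a ≠ 0
  · obtain ⟨a, haI, ha⟩ := hu
    right; left
    exact Ideal.eq_top_of_isUnit_mem I haI (tw_isUnit_of_coeff_zero_ne_zero p k a ha)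
  · push Not at hu
    have hle : I ≤ Ideal.span {(p : TruncatedWittVector p 2 k)} := by
      intro a ha
      obtain ⟨b, hb⟩ := tw_exists_eq_mul_p p k a (hu a ha)
      rw [hb]
      exact Ideal.mul_mem_left _ _ (Ideal.mem_span_singleton_self _)
    by_cases hI : I = ⊥
    · left; exact hI
    · right; right
      apply le_antisymm hle
      obtain ⟨a, haI, ha0⟩ := Submodule.exists_mem_ne_zero_of_ne_bot hI
      obtain ⟨b, hb⟩ := tw_exists_eq_mul_p p k a (hu a haI)
      have hbu : IsUnit b := by
        apply tw_isUnit_of_coeff_zero_ne_zero p k b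
        intro hb0
        obtain ⟨c, hc⟩ := tw_exists_eq_mul_p p k b hb0
        apply ha0
        rw [hb, hc, mul_assoc, tw_p_mul_p, mul_zero]
      rw [Ideal.span_singleton_le_iff_mem]
      obtain ⟨b', hb'⟩ := hbu.exists_left_inv
      have : (p : TruncatedWittVector p 2 k) = b' * a := by
        rw [hb, ← mul_assoc, hb', one_mul]
      rw [this]
      exact I.mul_mem_left _ haI

end ring

section principal

variable {R : Type*} [CommRing R] {M : Type*} [AddCommGroup M] [Module R M]

/-- Injectivity of `(z) ⊗ M → M` for a principal ideal. -/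
lemma idealTensorToSelf_span_singleton_injective (z : R)
    (h : ∀ m : M, z • m = 0 →
      (⟨z, Ideal.mem_span_singleton_self z⟩ : (Ideal.span {z} : Ideal R)) ⊗ₜ[R] m = 0) :
    Function.Injective (idealTensorToSelf (Ideal.span {z}) M) := by
  have hform : ∀ x : (Ideal.span {z} : Ideal R) ⊗[R] M, ∃ m : M,
      x = (⟨z, Ideal.mem_span_singleton_self z⟩ : (Ideal.span {z} : Ideal R)) ⊗ₜ[R] m := by
    intro x
    induction x using TensorProduct.induction_on with
    | zero => exact ⟨0, by simp⟩
    | tmul a m =>
      obtain ⟨c, hc⟩ := Ideal.mem_span_singleton'.mp a.2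
      refine ⟨c • m, ?_⟩
      have : a = c • (⟨z, Ideal.mem_span_singleton_self z⟩ : (Ideal.span {z} : Ideal R)) := by
        ext
        simp [hc]
      rw [this, TensorProduct.smul_tmul]
    | add x y hx hy =>
      obtain ⟨m1, rfl⟩ := hx
      obtain ⟨m2, rfl⟩ := hy
      exact ⟨m1 + m2, by rw [TensorProduct.tmul_add]⟩
  rw [injective_iff_map_eq_zero]
  intro x hx
  obtain ⟨m, rfl⟩ := hform x
  rw [idealTensorToSelf_tmul] at hx
  exact h m hx

end principal

/-- For a perfect field k of characteristic p, a module M over the Witt vectors W₂(k) of length two is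
flat if and only if every element of M annihilated by p lies in pM, i.e. the map M/pM → pM, m ↦ pm,
is injective. -/
theorem result
    (p : ℕ) [Fact p.Prime] (k : Type u) [Field k] [CharP k p] [PerfectRing k p]
    (M : Type v) [AddCommGroup M] [Module (FrobAlg.W2 p k) M] :
    Module.Flat (FrobAlg.W2 p k) M ↔
      ∀ m : M, (p : FrobAlg.W2 p k) • m = 0 → ∃ m' : M, m = (p : FrobAlg.W2 p k) • m' := by
  constructor
  · intro hflat m hm
    have hrel : ∑ i : Unit, (fun _ => (p : FrobAlg.W2 p k)) i • (fun _ => m) i = 0 := by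
      simpa using hm
    obtain ⟨n, a, y, hxy, ha⟩ := Module.Flat.isTrivialRelation_of_sum_smul_eq_zero hrel
    have h1 : m = ∑ j, a () j • y j := hxy ()
    have h2 : ∀ j, ∃ b, a () j = (p : FrobAlg.W2 p k) * b := by
      intro j
      apply tw_ann_p p k
      simpa using ha j
    choose b hb using h2
    refine ⟨∑ j, b j • y j, ?_⟩
    rw [h1, Finset.smul_sum]
    refine Finset.sum_congr rfl fun j _ => ?_
    rw [hb j, mul_smul]
  · intro h
    apply flat_of_idealTensorToSelf_injective
    intro J
    rcases tw_ideal_cases p k J with rfl | rfl | rfl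
    · rw [← Ideal.span_singleton_zero] 
      apply idealTensorToSelf_span_singleton_injective
      intro m _
      have : (⟨0, Ideal.mem_span_singleton_self 0⟩ :
          (Ideal.span {(0 : FrobAlg.W2 p k)} : Ideal (FrobAlg.W2 p k))) = 0 := rfl
      rw [this, TensorProduct.zero_tmul]
    · rw [← Ideal.span_singleton_one]
      apply idealTensorToSelf_span_singleton_injective
      intro m hm
      rw [one_smul] at hm
      rw [hm, TensorProduct.tmul_zero]
    · apply idealTensorToSelf_span_singleton_injective
      intro m hm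
      obtain ⟨m', rfl⟩ := h m hm
      rw [← TensorProduct.smul_tmul]
      have : (p : FrobAlg.W2 p k) • (⟨(p : FrobAlg.W2 p k), Ideal.mem_span_singleton_self _⟩ :
          (Ideal.span {(p : FrobAlg.W2 p k)} : Ideal (FrobAlg.W2 p k))) = 0 := by
        apply Subtype.ext
        simpa using tw_p_mul_p p k
      rw [this, TensorProduct.zero_tmul]

end Groth.Agent.S13136
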