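import Groth.Statements.S13137
import Groth.Agent.S13136
import Mathlib.Tactic

set_option autoImplicit false
universe u v
open FrobAlg

namespace Groth.Agent.S13137

/-- For a perfect field k of characteristic p, a flat W₂(k)-algebra B and an ideal J of B, the quotient
B/J is flat over W₂(k) if and only if (p) ∩ J = pJ in B. (With B a flat lifting of A = B/pB this
says: B/J is a flat lifting of A modulo the image of J exactly when (p) ∩ J = pJ.) -/
theorem result
    (p : ℕ) [Fact p.Prime] (k : Type u) [Field k] [CharP k p] [PerfectRing k p]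
    (B : Type v) [CommRing B] [Algebra (FrobAlg.W2 p k) B] [Module.Flat (FrobAlg.W2 p k) B]
    (J : Ideal B) :
    Module.Flat (FrobAlg.W2 p k) (B ⧸ J) ↔
      Ideal.span {(p : B)} ⊓ J = Ideal.span {(p : B)} * J := by
  have hsmulB : ∀ b : B, (p : FrobAlg.W2 p k) • b = (p : B) * b := fun b => by
    rw [Nat.cast_smul_eq_nsmul, nsmul_eq_mul]
  have hsmulQ : ∀ x : B ⧸ J, (p : FrobAlg.W2 p k) • x = (p : B ⧸ J) * x := fun x => by
    rw [Nat.cast_smul_eq_nsmul, nsmul_eq_mul]
  have hpp : (p : B) * (p : B) = 0 := by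
    have h := Groth.Agent.S13136.tw_p_mul_p p k
    have h2 := congrArg (algebraMap (FrobAlg.W2 p k) B) h
    simpa using h2
  have hB := (Groth.Agent.S13136.result p k B).mp inferInstance
  rw [Groth.Agent.S13136.result p k (B ⧸ J)]
  constructor
  · intro H
    apply le_antisymm _ Ideal.mul_le_inf
    rintro x ⟨hx1, hx2⟩
    obtain ⟨c, rfl⟩ := Ideal.mem_span_singleton'.mp hx1
    have h0 : (p : FrobAlg.W2 p k) • (Ideal.Quotient.mk J c) = 0 := by
      rw [hsmulQ, ← map_natCast (Ideal.Quotient.mk J), ← map_mul, Ideal.Quotient.eq_zero_iff_mem,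
        mul_comm]
      exact hx2
    obtain ⟨x', hx'⟩ := H _ h0
    obtain ⟨c', rfl⟩ := Ideal.Quotient.mk_surjective x'
    rw [hsmulQ, ← map_natCast (Ideal.Quotient.mk J), ← map_mul, Ideal.Quotient.eq] at hx'
    have : c * (p : B) = (p : B) * (c - (p : B) * c') := by
      linear_combination c' * hpp
    rw [this]
    exact Ideal.mul_mem_mul (Ideal.mem_span_singleton_self _) hx'
  · intro H x hx
    obtain ⟨b, rfl⟩ := Ideal.Quotient.mk_surjective x
    rw [hsmulQ, ← map_natCast (Ideal.Quotient.mk J), ← map_mul, Ideal.Quotient.eq_zero_iff_mem] at hx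
    have hmem : (p : B) * b ∈ Ideal.span {(p : B)} ⊓ J :=
      ⟨Ideal.mul_mem_right _ _ (Ideal.mem_span_singleton_self _), hx⟩
    rw [H, Ideal.mem_span_singleton_mul] at hmem
    obtain ⟨j, hj, hjb⟩ := hmem
    have h0 : (p : FrobAlg.W2 p k) • (b - j) = 0 := by
      rw [hsmulB]
      linear_combination -hjb
    obtain ⟨b', hb'⟩ := hB _ h0
    refine ⟨Ideal.Quotient.mk J b', ?_⟩
    rw [hsmulQ, ← map_natCast (Ideal.Quotient.mk J), ← map_mul, Ideal.Quotient.eq, ← hsmulB, ← hb']
    simpa using hj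

end Groth.Agent.S13137
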