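import Groth.Statements.S13138
import Mathlib
import Groth.Agent.Lib.Helper99.W2Poly

set_option autoImplicit false
universe u
open scoped BigOperators
open FrobAlg

namespace Groth.Agent.S13138

set_option maxHeartbeats 1600000 in
/-- Let k be a perfect field of characteristic p, R' = W₂(k)[x_1, …, x_n], f'_1, …, f'_m ∈ R' with
reductions f_1, …, f_m ∈ R = k[x_1, …, x_n], J' = (f'_1, …, f'_m), J = (f_1, …, f_m), and assume B'
= R'/J' is flat over W₂(k), so that it is a flat lifting of B = R/J. The Frobenius of B lifts to B'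
— there is a ring endomorphism of B' semilinear for the Witt-vector Frobenius σ₂ of W₂(k) and
reducing to the p-th power map of B — if and only if there are h_1, …, h_n ∈ R' with F'(f'_i) −
f'_i^p − p·Σ_j (∂f'_i/∂x_j)^p h_j ∈ pJ' for every i, where F' is the standard Frobenius lift of R'
(σ₂ on coefficients, x_j ↦ x_j^p). Since multiplication by p identifies R with pR', this is the
congruence P(f'_i) ≡ Σ_j (∂f_i/∂x_j)^p h_j modulo J for the Frobenius residues P(f'_i) = (F'(f'_i) −
f'_i^p)/p. -/
theorem result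
    (p : ℕ) [Fact p.Prime] (k : Type u) [Field k] [CharP k p] [PerfectRing k p]
    {n m : ℕ} (f' : Fin m → MvPolynomial (Fin n) (FrobAlg.W2 p k))
    (hflat : ((Ideal.Quotient.mk (Ideal.span (Set.range f'))).comp
      (MvPolynomial.C : FrobAlg.W2 p k →+* MvPolynomial (Fin n) (FrobAlg.W2 p k))).Flat) :
    (∃ Φ : (MvPolynomial (Fin n) (FrobAlg.W2 p k) ⧸ Ideal.span (Set.range f')) →+*
        (MvPolynomial (Fin n) (FrobAlg.W2 p k) ⧸ Ideal.span (Set.range f')),
      Φ.comp ((Ideal.Quotient.mk (Ideal.span (Set.range f'))).comp MvPolynomial.C) =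
        ((Ideal.Quotient.mk (Ideal.span (Set.range f'))).comp MvPolynomial.C).comp (FrobAlg.sigma p k) ∧
      ∀ b, Ideal.quotientMap ((Ideal.span (Set.range f')).map (MvPolynomial.map (FrobAlg.res p k)))
          (MvPolynomial.map (FrobAlg.res p k)) Ideal.le_comap_map (Φ b) =
        (Ideal.quotientMap ((Ideal.span (Set.range f')).map (MvPolynomial.map (FrobAlg.res p k)))
          (MvPolynomial.map (FrobAlg.res p k)) Ideal.le_comap_map b) ^ p) ↔
    ∃ h : Fin n → MvPolynomial (Fin n) (FrobAlg.W2 p k), ∀ i,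
      FrobAlg.polyFrob p k (Fin n) (f' i) - f' i ^ p
        - (p : MvPolynomial (Fin n) (FrobAlg.W2 p k)) * ∑ j, MvPolynomial.pderiv j (f' i) ^ p * h j
        ∈ Ideal.span {(p : MvPolynomial (Fin n) (FrobAlg.W2 p k))} * Ideal.span (Set.range f') := by
  classical
  have hpp := Groth.Agent.Lib.Helper99.W2Poly.poly_p_mul_p p k (n := n)
  set J' : Ideal (MvPolynomial (Fin n) (W2 p k)) := Ideal.span (Set.range f') with hJ'
  have hfJ : ∀ i, f' i ∈ J' := fun i => Ideal.subset_span ⟨i, rfl⟩
  have hsum : ∀ (h : Fin n → MvPolynomial (Fin n) (W2 p k)) (g : MvPolynomial (Fin n) (W2 p k)),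
      ∑ j, ((p : MvPolynomial (Fin n) (W2 p k)) * MvPolynomial.pderiv j g ^ p) * h j =
        (p : MvPolynomial (Fin n) (W2 p k)) * ∑ j, MvPolynomial.pderiv j g ^ p * h j := by
    intro h g
    rw [Finset.mul_sum]
    exact Finset.sum_congr rfl fun j _ => mul_assoc _ _ _
  constructor
  · -- a Frobenius lift gives the `h_j`
    rintro ⟨Φ, hsemi, hred⟩
    have hsurj : Function.Surjective (MvPolynomial.map (σ := Fin n) (res p k)) := by
      apply MvPolynomial.map_surjective
      intro a
      exact ⟨TruncatedWittVector.mk p fun _ => a, by rw [res_apply, TruncatedWittVector.coeff_mk]⟩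
    have hex : ∀ j : Fin n, ∃ u : MvPolynomial (Fin n) (W2 p k),
        Φ (Ideal.Quotient.mk J' (MvPolynomial.X j)) =
          Ideal.Quotient.mk J' (MvPolynomial.X j ^ p + (p : MvPolynomial (Fin n) (W2 p k)) * u) := by
      intro j
      obtain ⟨r, hr⟩ := Ideal.Quotient.mk_surjective (Φ (Ideal.Quotient.mk J' (MvPolynomial.X j)))
      have h1 := hred (Ideal.Quotient.mk J' (MvPolynomial.X j))
      rw [← hr, Ideal.quotientMap_mk, Ideal.quotientMap_mk, ← map_pow, Ideal.Quotient.eq,
        ← map_pow, ← map_sub, Ideal.mem_map_iff_of_surjective _ hsurj] at h1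
      obtain ⟨y, hyJ, hy⟩ := h1
      have h2 : MvPolynomial.map (res p k) (r - MvPolynomial.X j ^ p - y) = 0 := by
        rw [map_sub (MvPolynomial.map (res p k)) _ y, hy, sub_self]
      obtain ⟨u, hu⟩ := (Groth.Agent.Lib.Helper99.W2Poly.mem_ker_map_res_iff p k _).mp h2
      refine ⟨u, ?_⟩
      rw [← hr, Ideal.Quotient.eq, ← hu]
      have : r - (MvPolynomial.X j ^ p + (r - MvPolynomial.X j ^ p - y)) = y := by ring
      rw [this]
      exact hyJ
    choose u hu using hex
    let h : Fin n → MvPolynomial (Fin n) (W2 p k) := fun j => - u j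
    refine ⟨h, ?_⟩
    set Ψ := Groth.Agent.Lib.Helper99.W2Poly.twistFrob p k h with hΨ
    have hcomp : Φ.comp (Ideal.Quotient.mk J') = (Ideal.Quotient.mk J').comp Ψ := by
      apply MvPolynomial.ringHom_ext
      · intro w
        have := RingHom.congr_fun hsemi w
        simp only [RingHom.comp_apply] at this ⊢
        rw [this, hΨ, Groth.Agent.Lib.Helper99.W2Poly.twistFrob_C]
      · intro j
        simp only [RingHom.comp_apply]
        rw [hu j, hΨ, Groth.Agent.Lib.Helper99.W2Poly.twistFrob_X]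
        have e1 : MvPolynomial.X j ^ p + (p : MvPolynomial (Fin n) (W2 p k)) * u j =
            MvPolynomial.X j ^ p - (p : MvPolynomial (Fin n) (W2 p k)) * h j := by
          simp only [h]
          ring
        rw [e1]
    intro i
    have hΨJ : Ψ (f' i) ∈ J' := by
      have h1 := RingHom.congr_fun hcomp (f' i)
      rw [RingHom.comp_apply, RingHom.comp_apply, Ideal.Quotient.eq_zero_iff_mem.mpr (hfJ i),
        map_zero] at h1
      exact Ideal.Quotient.eq_zero_iff_mem.mp h1.symm
    rw [hΨ, Groth.Agent.Lib.Helper99.W2Poly.twistFrob_eq, hsum] at hΨJ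
    set E := polyFrob p k (Fin n) (f' i) - f' i ^ p
      - (p : MvPolynomial (Fin n) (W2 p k)) * ∑ j, MvPolynomial.pderiv j (f' i) ^ p * h j with hE
    have hEJ : E ∈ J' := by
      have : E = (polyFrob p k (Fin n) (f' i)
          - (p : MvPolynomial (Fin n) (W2 p k)) * ∑ j, MvPolynomial.pderiv j (f' i) ^ p * h j)
          - f' i ^ p := by rw [hE]; ring
      rw [this]
      exact Ideal.sub_mem _ hΨJ (Ideal.pow_mem_of_mem _ (hfJ i) p (Fact.out : p.Prime).pos)
    obtain ⟨u', hu'⟩ := Groth.Agent.Lib.Helper99.W2Poly.exists_polyFrob_sub_pow p k (f' i)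
    have hEp : E = (p : MvPolynomial (Fin n) (W2 p k)) *
        (u' - ∑ j, MvPolynomial.pderiv j (f' i) ^ p * h j) := by
      rw [hE, hu']; ring
    set v := u' - ∑ j, MvPolynomial.pderiv j (f' i) ^ p * h j with hv
    have h0 : (p : MvPolynomial (Fin n) (W2 p k) ⧸ J') * Ideal.Quotient.mk J' v = 0 := by
      rw [← map_natCast (Ideal.Quotient.mk J'), ← map_mul, ← hEp]
      exact Ideal.Quotient.eq_zero_iff_mem.mpr hEJ
    obtain ⟨z, hz⟩ := Groth.Agent.Lib.Helper99.W2Poly.eq_p_mul_of_p_mul_eq_zero_of_flat p k _ _ hflat _ h0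
    obtain ⟨z', rfl⟩ := Ideal.Quotient.mk_surjective z
    rw [← map_natCast (Ideal.Quotient.mk J'), ← map_mul, Ideal.Quotient.eq] at hz
    have hfin : E = (p : MvPolynomial (Fin n) (W2 p k)) *
        (v - (p : MvPolynomial (Fin n) (W2 p k)) * z') := by
      have e2 : (p : MvPolynomial (Fin n) (W2 p k)) * (v - (p : MvPolynomial (Fin n) (W2 p k)) * z') =
          (p : MvPolynomial (Fin n) (W2 p k)) * v -
            ((p : MvPolynomial (Fin n) (W2 p k)) * (p : MvPolynomial (Fin n) (W2 p k))) * z' := by ring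
      rw [e2, hpp, zero_mul, sub_zero]
      exact hEp
    rw [hfin]
    exact Ideal.mul_mem_mul (Ideal.mem_span_singleton_self _) hz
  · -- the `h_j` give a Frobenius lift
    rintro ⟨h, hcond⟩
    set Ψ := Groth.Agent.Lib.Helper99.W2Poly.twistFrob p k h with hΨ
    have hle : J' ≤ J'.comap Ψ := by
      rw [hJ', Ideal.span_le]
      rintro _ ⟨i, rfl⟩
      change Ψ (f' i) ∈ J'
      rw [hΨ, Groth.Agent.Lib.Helper99.W2Poly.twistFrob_eq, hsum]
      have h1 : polyFrob p k (Fin n) (f' i)
          - (p : MvPolynomial (Fin n) (W2 p k)) * ∑ j, MvPolynomial.pderiv j (f' i) ^ p * h j =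
          (polyFrob p k (Fin n) (f' i) - f' i ^ p
          - (p : MvPolynomial (Fin n) (W2 p k)) * ∑ j, MvPolynomial.pderiv j (f' i) ^ p * h j)
          + f' i ^ p := by ring
      rw [h1]
      have hc := hcond i
      have hc' := Ideal.mul_le_right (I := Ideal.span {(p : MvPolynomial (Fin n) (W2 p k))}) (J := J') hc
      exact Ideal.add_mem _ hc' (Ideal.pow_mem_of_mem _ (hfJ i) p (Fact.out : p.Prime).pos)
    refine ⟨Ideal.quotientMap J' Ψ hle, ?_, ?_⟩
    · refine RingHom.ext fun w => ?_
      simp only [RingHom.comp_apply]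
      rw [Ideal.quotientMap_mk, hΨ, Groth.Agent.Lib.Helper99.W2Poly.twistFrob_C]
    · intro b
      obtain ⟨g, rfl⟩ := Ideal.Quotient.mk_surjective b
      rw [Ideal.quotientMap_mk, Ideal.quotientMap_mk, Ideal.quotientMap_mk, hΨ,
        Groth.Agent.Lib.Helper99.W2Poly.map_res_twistFrob, map_pow]

end Groth.Agent.S13138
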