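import Groth.Statements.S13139
import Groth.Agent.S13134
import Groth.Agent.S13135
import Groth.Agent.S13138
import Groth.Agent.Lib.Helper99.W2Art
import Groth.Agent.Lib.Helper99.W2Poly

set_option autoImplicit false
set_option linter.style.haveILetI false
set_option linter.unusedSectionVars false
universe u
open scoped BigOperators
open FrobAlg

namespace Groth.Agent.S13139

open Groth.Agent.Lib.Helper99.W2Art Groth.Agent.Lib.Helper99.W2Lift Groth.Agent.Lib.Helper99.W2Poly
open RingTheory.Sequence

section aux

variable (p : ℕ) [Fact p.Prime] (k : Type u) [Field k] [CharP k p] [PerfectRing k p] (n : ℕ)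

/-- `W₂(k)/ker(res) ≃ k`. -/
noncomputable def e₀ : (W2 p k ⧸ RingHom.ker (res p k)) ≃+* k :=
  RingHom.quotientKerEquivOfSurjective (res_surjective p k)

theorem e₀_mk (w : W2 p k) : e₀ p k (Ideal.Quotient.mk _ w) = res p k w := rfl

/-- The induced isomorphism of polynomial rings. -/
noncomputable def E : MvPolynomial (Fin n) (W2 p k ⧸ RingHom.ker (res p k)) ≃+* MvPolynomial (Fin n) k :=
  MvPolynomial.mapEquiv (Fin n) (e₀ p k)

theorem E_map (q : MvPolynomial (Fin n) (W2 p k)) :
    E p k n (MvPolynomial.map (Ideal.Quotient.mk (RingHom.ker (res p k))) q) =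
      MvPolynomial.map (res p k) q := by
  rw [E, MvPolynomial.mapEquiv_apply, MvPolynomial.map_map]
  rfl

theorem E_C (a : W2 p k ⧸ RingHom.ker (res p k)) :
    E p k n (MvPolynomial.C a) = MvPolynomial.C (e₀ p k a) := by
  rw [E, MvPolynomial.mapEquiv_apply, MvPolynomial.map_C]
  rfl

variable {n} {m : ℕ}

theorem reg_transport (f : Fin m → MvPolynomial (Fin n) k)
    (hreg : IsRegular (MvPolynomial (Fin n) k) (List.ofFn f)) :
    IsRegular (MvPolynomial (Fin n) (W2 p k ⧸ RingHom.ker (res p k)))
      (List.ofFn fun i => (E p k n).symm (f i)) := by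
  have hfl : List.ofFn f = (List.ofFn fun i => (E p k n).symm (f i)).map (E p k n) := by
    rw [List.map_ofFn]
    congr 1
    funext i
    simp
  rw [hfl] at hreg
  refine ((E p k n).toAddEquiv.isRegular_congr ?_).mpr hreg
  refine List.forall₂_map_right_iff.mpr (List.forall₂_same.mpr fun r _ x => ?_)
  simp [smul_eq_mul]

theorem flat_quot (f : Fin m → MvPolynomial (Fin n) k)
    (hreg : IsRegular (MvPolynomial (Fin n) k) (List.ofFn f))
    (f' : Fin m → MvPolynomial (Fin n) (W2 p k))
    (hf' : ∀ i, MvPolynomial.map (res p k) (f' i) = f i) :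
    ((Ideal.Quotient.mk (Ideal.span (Set.range f'))).comp
      (MvPolynomial.C : W2 p k →+* MvPolynomial (Fin n) (W2 p k))).Flat := by
  have h := Groth.Agent.S13135.result (RingHom.ker (res p k)) (ker_res_ne_top p k)
    (fun i => (E p k n).symm (f i)) (reg_transport p k f hreg) f' (fun i => by
      rw [RingEquiv.eq_symm_apply, E_map, hf'])
  exact RingHom.flat_algebraMap_iff.mpr h

end aux

/-- Let k be a perfect field of characteristic p and f_1, …, f_m a regular sequence in R = k[x_1, …,
x_n]. The complete intersection A = R/(f_1, …, f_m) lifts to W₂(k) compatibly with Frobenius if and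
only if for some lifts f'_1, …, f'_m ∈ R' = W₂(k)[x_1, …, x_n] of the f_i and some h_1, …, h_n ∈ R'
one has F'(f'_i) − f'_i^p − p·Σ_j (∂f'_i/∂x_j)^p h_j ∈ p·(f'_1, …, f'_m) for every i, F' being the
standard Frobenius lift of R'. In terms of Frobenius residues P(f') = (F'(f') − f'^p)/p ∈ R, which
change by g^p when f' changes by pg, this is the congruence P_{f_i} + g_i^p ≡ Σ_j (∂f_i/∂x_j)^p h_j
modulo (f_1, …, f_m) for some g_i, h_j. -/
theorem result
    (p : ℕ) [Fact p.Prime] (k : Type u) [Field k] [CharP k p] [PerfectRing k p]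
    {n m : ℕ} (f : Fin m → MvPolynomial (Fin n) k)
    (hreg : RingTheory.Sequence.IsRegular (MvPolynomial (Fin n) k) (List.ofFn f)) :
    FrobAlg.IsFLiftable p k (MvPolynomial (Fin n) k ⧸ Ideal.span (Set.range f)) ↔
    ∃ (f' : Fin m → MvPolynomial (Fin n) (FrobAlg.W2 p k)) (h : Fin n → MvPolynomial (Fin n) (FrobAlg.W2 p k)),
      (∀ i, MvPolynomial.map (FrobAlg.res p k) (f' i) = f i) ∧
      ∀ i, FrobAlg.polyFrob p k (Fin n) (f' i) - f' i ^ p
        - (p : MvPolynomial (Fin n) (FrobAlg.W2 p k)) * ∑ j, MvPolynomial.pderiv j (f' i) ^ p * h j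
        ∈ Ideal.span {(p : MvPolynomial (Fin n) (FrobAlg.W2 p k))} * Ideal.span (Set.range f') := by
  classical
  have hρsurj : Function.Surjective (MvPolynomial.map (σ := Fin n) (res p k)) :=
    MvPolynomial.map_surjective _ (res_surjective p k)
  constructor
  · -- from a Frobenius lifting to the congruences
    rintro ⟨B, _, ι, π, Φ, hΦ⟩
    have hL : IsLift p k _ B ι π := hΦ.toIsLift
    letI algB : Algebra (W2 p k) B := ι.toAlgebra
    haveI : Module.Flat (W2 p k) B := hL.flat
    -- transport to the base `W₂(k)/ker(res)`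
    set f₀ : Fin m → MvPolynomial (Fin n) (W2 p k ⧸ RingHom.ker (res p k)) :=
      fun i => (E p k n).symm (f i) with hf₀
    have hJ : Ideal.span (Set.range f) = (Ideal.span (Set.range f₀)).map (E p k n) := by
      rw [Ideal.map_span, ← Set.range_comp]
      congr 2
      funext i
      simp [hf₀]
    let Q : (MvPolynomial (Fin n) (W2 p k ⧸ RingHom.ker (res p k)) ⧸ Ideal.span (Set.range f₀)) ≃+*
        (MvPolynomial (Fin n) k ⧸ Ideal.span (Set.range f)) :=
      Ideal.quotientEquiv _ _ (E p k n) hJ
    have hQ : ∀ q, Q (Ideal.Quotient.mk _ q) = Ideal.Quotient.mk _ (E p k n q) := fun q => rfl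
    have hcomp₀ : (Q.symm.toRingHom.comp π).comp (algebraMap (W2 p k) B) =
        ((Ideal.Quotient.mk (Ideal.span (Set.range f₀))).comp MvPolynomial.C).comp
          (Ideal.Quotient.mk (RingHom.ker (res p k))) := by
      ext w
      simp only [RingHom.comp_apply, RingEquiv.toRingHom_eq_coe, RingHom.coe_coe]
      rw [RingEquiv.symm_apply_eq, hQ, E_C, e₀_mk]
      have := congrArg (fun g => g w) hL.comm
      simp only [RingHom.comp_apply] at this
      exact this
    obtain ⟨f', ψ, hf', hψs, hψk, hψπ⟩ := Groth.Agent.S13134.result (RingHom.ker (res p k))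
      (ker_res_ne_top p k) f₀ (Q.symm.toRingHom.comp π)
      (Q.symm.surjective.comp hL.surj)
      (by
        change _ = Ideal.map ι _
        rw [← hL.ker_eq]
        ext x
        simp only [RingHom.mem_ker, RingHom.comp_apply, RingEquiv.toRingHom_eq_coe, RingHom.coe_coe,
          EmbeddingLike.map_eq_zero_iff])
      hcomp₀
    have hf'ρ : ∀ i, MvPolynomial.map (res p k) (f' i) = f i := by
      intro i
      rw [← E_map, hf' i, hf₀, RingEquiv.apply_symm_apply]
    have hψπ' : ∀ q, π (ψ q) = Ideal.Quotient.mk _ (MvPolynomial.map (res p k) q) := by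
      intro q
      have := hψπ q
      simp only [RingHom.comp_apply, RingEquiv.toRingHom_eq_coe, RingHom.coe_coe] at this
      rw [RingEquiv.symm_apply_eq, hQ, E_map] at this
      exact this
    have hflat := flat_quot p k f hreg f' hf'ρ
    -- the isomorphism `W₂(k)[x]/(f') ≃ B`
    let χ : (MvPolynomial (Fin n) (W2 p k) ⧸ Ideal.span (Set.range f')) ≃+* B :=
      (Ideal.quotEquivOfEq hψk.symm).trans (RingHom.quotientKerEquivOfSurjective hψs)
    have hχ : ∀ q, χ (Ideal.Quotient.mk _ q) = ψ q := fun q => rfl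
    have hψC : ∀ w, ψ (MvPolynomial.C w) = ι w := fun w => ψ.commutes w
    have hsemi' : (χ.symm.toRingHom.comp (Φ.comp χ.toRingHom)).comp
        ((Ideal.Quotient.mk (Ideal.span (Set.range f'))).comp MvPolynomial.C) =
        ((Ideal.Quotient.mk (Ideal.span (Set.range f'))).comp MvPolynomial.C).comp (sigma p k) := by
      ext w
      simp only [RingHom.comp_apply, RingEquiv.toRingHom_eq_coe, RingHom.coe_coe]
      rw [RingEquiv.symm_apply_eq, hχ, hχ, hψC, hψC]
      have := congrArg (fun g => g w) hΦ.semi
      simp only [RingHom.comp_apply] at this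
      exact this
    have hJ' : (Ideal.span (Set.range f')).map (MvPolynomial.map (res p k)) =
        Ideal.span (Set.range f) := by
      rw [Ideal.map_span, ← Set.range_comp]
      congr 2
      funext i
      exact hf'ρ i
    have hπχ : ∀ b, Ideal.quotientMap ((Ideal.span (Set.range f')).map (MvPolynomial.map (res p k)))
        (MvPolynomial.map (res p k)) Ideal.le_comap_map b =
        (Ideal.quotEquivOfEq hJ').symm (π (χ b)) := by
      intro b
      obtain ⟨q, rfl⟩ := Ideal.Quotient.mk_surjective b
      rw [hχ, hψπ', Ideal.quotientMap_mk]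
      rfl
    have hred' : ∀ b, Ideal.quotientMap ((Ideal.span (Set.range f')).map (MvPolynomial.map (res p k)))
        (MvPolynomial.map (res p k)) Ideal.le_comap_map
          ((χ.symm.toRingHom.comp (Φ.comp χ.toRingHom)) b) =
        (Ideal.quotientMap ((Ideal.span (Set.range f')).map (MvPolynomial.map (res p k)))
          (MvPolynomial.map (res p k)) Ideal.le_comap_map b) ^ p := by
      intro b
      rw [hπχ, hπχ]
      simp only [RingHom.comp_apply, RingEquiv.toRingHom_eq_coe, RingHom.coe_coe,
        RingEquiv.apply_symm_apply]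
      rw [hΦ.red, map_pow]
    obtain ⟨h, hh⟩ := (Groth.Agent.S13138.result p k f' hflat).mp
      ⟨χ.symm.toRingHom.comp (Φ.comp χ.toRingHom), hsemi', hred'⟩
    exact ⟨f', h, hf'ρ, hh⟩
  · -- from the congruences to a Frobenius lifting
    rintro ⟨f', h, hf', hcong⟩
    have hflat := flat_quot p k f hreg f' hf'
    obtain ⟨Φ, hsemi, hred⟩ := (Groth.Agent.S13138.result p k f' hflat).mpr ⟨h, hcong⟩
    have hJ : (Ideal.span (Set.range f')).map (MvPolynomial.map (res p k)) = Ideal.span (Set.range f) := by
      rw [Ideal.map_span, ← Set.range_comp]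
      congr 2
      funext i
      exact hf' i
    refine ⟨MvPolynomial (Fin n) (W2 p k) ⧸ Ideal.span (Set.range f'), inferInstance,
      (Ideal.Quotient.mk (Ideal.span (Set.range f'))).comp MvPolynomial.C,
      (Ideal.quotEquivOfEq hJ).toRingHom.comp
        (Ideal.quotientMap ((Ideal.span (Set.range f')).map (MvPolynomial.map (res p k)))
          (MvPolynomial.map (res p k)) Ideal.le_comap_map), Φ, ⟨⟨hflat, ?_, ?_, ?_⟩, hsemi, ?_⟩⟩
    · exact (Ideal.quotEquivOfEq hJ).surjective.comp (Ideal.quotientMap_surjective hρsurj)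
    · have hR : Ideal.map ((Ideal.Quotient.mk (Ideal.span (Set.range f'))).comp
          (MvPolynomial.C : W2 p k →+* MvPolynomial (Fin n) (W2 p k))) (RingHom.ker (res p k)) =
          Ideal.span {((p : ℕ) : MvPolynomial (Fin n) (W2 p k) ⧸ Ideal.span (Set.range f'))} := by
        rw [ker_res, Ideal.map_span, Set.image_singleton, map_natCast]
      rw [hR]
      ext x
      obtain ⟨q, rfl⟩ := Ideal.Quotient.mk_surjective x
      rw [RingHom.mem_ker, RingHom.comp_apply, RingEquiv.toRingHom_eq_coe, RingHom.coe_coe,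
        EmbeddingLike.map_eq_zero_iff, Ideal.quotientMap_mk, Ideal.Quotient.eq_zero_iff_mem,
        Ideal.mem_map_iff_of_surjective _ hρsurj, Ideal.mem_span_singleton']
      constructor
      · rintro ⟨j, hj, hjq⟩
        have h0 : MvPolynomial.map (res p k) (q - j) = 0 := by rw [map_sub, hjq, sub_self]
        obtain ⟨u, hu⟩ := (mem_ker_map_res_iff p k _).mp h0
        refine ⟨Ideal.Quotient.mk _ u, ?_⟩
        rw [← map_natCast (Ideal.Quotient.mk (Ideal.span (Set.range f'))), ← map_mul, mul_comm, ← hu,
          map_sub, sub_eq_self, Ideal.Quotient.eq_zero_iff_mem]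
        exact hj
      · rintro ⟨a, ha⟩
        obtain ⟨u, rfl⟩ := Ideal.Quotient.mk_surjective a
        rw [← map_natCast (Ideal.Quotient.mk (Ideal.span (Set.range f'))), ← map_mul,
          Ideal.Quotient.eq] at ha
        refine ⟨q - u * (p : MvPolynomial (Fin n) (W2 p k)), ?_, ?_⟩
        · have := (Ideal.span (Set.range f')).neg_mem ha
          rwa [neg_sub] at this
        · rw [map_sub, map_mul, map_res_natCast, mul_zero, sub_zero]
    · ext w
      simp only [RingHom.comp_apply, RingEquiv.toRingHom_eq_coe, RingHom.coe_coe,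
        Ideal.quotientMap_mk, MvPolynomial.map_C]
      rfl
    · intro b
      simp only [RingHom.comp_apply, RingEquiv.toRingHom_eq_coe, RingHom.coe_coe]
      rw [hred b, map_pow]

end Groth.Agent.S13139
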