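-- Statement S13140
import Groth.Statements.S13140
import Mathlib.Tactic
import Mathlib.RepresentationTheory.Maschke
import Mathlib.Algebra.Module.Projective

set_option autoImplicit false
universe u v w
open GrpAlg

namespace Groth.Agent.S13140

/-- Let G be a finite group, R a commutative ring in which |G| is a unit, and M a module over the group
algebra R[G] whose underlying R-module is projective. Then M is a projective R[G]-module. -/
theorem result
    (R : Type u) [CommRing R] (G : Type v) [Group G] [Finite G] (hG : IsUnit ((Nat.card G : ℕ) : R))
    (M : Type w) [AddCommGroup M] [Module R M] [Module (MonoidAlgebra R G) M]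
    [IsScalarTower R (MonoidAlgebra R G) M] [Module.Projective R M] :
    Module.Projective (MonoidAlgebra R G) M := by
  classical
  have := Fintype.ofFinite G
  refine Module.Projective.of_lifting_property'' fun f hf => ?_
  obtain ⟨h₀, hh₀⟩ := Module.projective_lifting_property (f.restrictScalars R)
    (LinearMap.id : M →ₗ[R] M) hf
  have hh₀' : ∀ m, f (h₀ m) = m := fun m => by
    have := LinearMap.congr_fun hh₀ m
    simpa using this
  refine ⟨h₀.equivariantProjection G, ?_⟩
  ext m
  rw [LinearMap.comp_apply, LinearMap.id_apply, LinearMap.equivariantProjection_apply,
    LinearMap.map_smul_of_tower, map_sum]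
  simp only [LinearMap.conjugate_apply, map_smul, hh₀']
  simp only [← mul_smul, MonoidAlgebra.single_mul_single, mul_one, inv_mul_cancel,
    ← MonoidAlgebra.one_def, one_smul]
  rw [Finset.sum_const, Finset.card_univ, ← Nat.cast_smul_eq_nsmul R, smul_smul,
    Fintype.card_eq_nat_card, Ring.inverse_mul_cancel _ hG, one_smul]

end Groth.Agent.S13140
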