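-- Statement S13142
import Groth.Statements.S13142
import Mathlib.Tactic
import Mathlib.RepresentationTheory.Invariants
import Mathlib.RingTheory.Flat.Basic
import Mathlib.Algebra.MvPolynomial.Basic

set_option autoImplicit false
universe u v
open GrpAlg

namespace Groth.Agent.S13142

/-- Let G be a finite group and R a commutative ring with |G| invertible in R, acting on R[x_1, …, x_n]
by R-algebra automorphisms. The invariant subring R[x_1, …, x_n]^G is a flat R-module (so the
quotient of affine n-space over R by G is flat over R). -/
theorem result
    (R : Type u) [CommRing R] (G : Type v) [Group G] [Finite G] (hG : IsUnit ((Nat.card G : ℕ) : R))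
    (n : ℕ) (ρ : G →* (MvPolynomial (Fin n) R ≃ₐ[R] MvPolynomial (Fin n) R)) :
    Module.Flat R ↥(⨅ g : G, LinearMap.eqLocus (ρ g).toLinearMap (LinearMap.id : MvPolynomial (Fin n) R →ₗ[R] MvPolynomial (Fin n) R)) := by
  classical
  have := Fintype.ofFinite G
  let rep : Representation R G (MvPolynomial (Fin n) R) :=
    { toFun := fun g => (ρ g).toLinearMap
      map_one' := by rw [map_one]; rfl
      map_mul' := fun g h => by rw [map_mul]; rfl }
  have hinv : Invertible ((Fintype.card G : ℕ) : R) := by
    rw [← Nat.card_eq_fintype_card]; exact hG.invertible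
  have hN : (⨅ g : G, LinearMap.eqLocus (ρ g).toLinearMap
      (LinearMap.id : MvPolynomial (Fin n) R →ₗ[R] MvPolynomial (Fin n) R)) = rep.invariants := by
    ext x
    simp [Representation.mem_invariants, rep, Submodule.mem_iInf]
  rw [hN]
  have hproj := rep.isProj_averageMap
  exact Module.Flat.of_retract rep.invariants.subtype hproj.codRestrict
    (by ext x; simp [hproj.map_id x x.2])

end Groth.Agent.S13142
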