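import Groth.Statements.S13143
import Mathlib.Tactic
import Groth.Agent.Lib.Helper62.W2Lift

set_option autoImplicit false
universe u
open FrobAlg

namespace Groth.Agent.S13143

/-- Let k be a perfect field of characteristic p and A → B a homomorphism of Noetherian k-algebras with
an A-linear retraction B → A. If B lifts flatly to W₂(k), so does A. (The published statement
phrases the descent for finite surjective morphisms of degree prime to p, via a trace splitting; the
argument uses exactly an A-linear splitting of A → B for an affine morphism, which is the hypothesis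
taken here.) -/
theorem result
    (p : ℕ) [Fact p.Prime] (k : Type u) [Field k] [CharP k p] [PerfectRing k p]
    (A B : Type u) [CommRing A] [CommRing B] [Algebra k A] [Algebra k B]
    [IsNoetherianRing A] [IsNoetherianRing B] [Algebra A B] [IsScalarTower k A B]
    (r : B →ₗ[A] A) (hr : ∀ a : A, r (algebraMap A B a) = a)
    (hB : FrobAlg.IsW2Liftable p k B) : FrobAlg.IsW2Liftable p k A := by
  obtain ⟨Bt, _, ιB, πB, hlift⟩ := hB
  have hpk : (p : k) = 0 := CharP.cast_eq_zero k p
  have hpA : (p : A) = 0 := by rw [← map_natCast (algebraMap k A), hpk, map_zero]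
  have hpB : (p : B) = 0 := by rw [← map_natCast (algebraMap k B), hpk, map_zero]
  have hkerB : RingHom.ker πB = Ideal.span {(p : Bt)} := by
    rw [hlift.ker_eq, Groth.Agent.S13147.ker_res_eq_span, Ideal.map_span, Set.image_singleton,
      map_natCast]
  have hflatB : ∀ x : Bt, (p : Bt) * x = 0 → x ∈ Ideal.span {(p : Bt)} :=
    Groth.Agent.Lib.Helper62.p_torsion_of_flat ιB hlift.flat
  have hfr : ∀ (a : A) (b : B), r (algebraMap A B a * b) = a * r b := by
    intro a b
    rw [← Algebra.smul_def, map_smul, smul_eq_mul]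
  -- the subring `C' = πB⁻¹(A)`
  let C' : Subring Bt := (algebraMap A B).range.comap πB
  have hC' : ∀ x : C', ∃ a : A, algebraMap A B a = πB x := fun x => x.2
  have hmemC' : ∀ (b : Bt) (a : A), πB b = algebraMap A B a → b ∈ C' := fun b a h => ⟨a, h.symm⟩
  have hfρ : ∀ x : C', algebraMap A B (r (πB x)) = πB x := by
    intro x
    obtain ⟨a, ha⟩ := hC' x
    rw [← ha, hr]
  let ρ : C' →+* A :=
    { toFun := fun x => r (πB x)
      map_one' := by
        change r (πB 1) = 1
        rw [map_one, ← map_one (algebraMap A B), hr]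
      map_mul' := fun x y => by
        change r (πB (x * y : Bt)) = r (πB x) * r (πB y)
        rw [map_mul, ← hfρ x, hfr, hfρ x]
      map_zero' := by
        change r (πB 0) = 0
        rw [map_zero, map_zero]
      map_add' := fun x y => by
        change r (πB (x + y : Bt)) = r (πB x) + r (πB y)
        rw [map_add, map_add] }
  have hρ : ∀ x : C', ρ x = r (πB x) := fun _ => rfl
  -- the ideal `𝔫`
  let 𝔫 : Ideal C' :=
    { carrier := {x | ∃ b : Bt, (x : Bt) = (p : Bt) * b ∧ r (πB b) = 0}
      add_mem' := by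
        rintro x y ⟨b, hb, hb'⟩ ⟨c, hc, hc'⟩
        refine ⟨b + c, ?_, ?_⟩
        · rw [Subring.coe_add, hb, hc, mul_add]
        · rw [map_add, map_add, hb', hc', add_zero]
      zero_mem' := ⟨0, by rw [Subring.coe_zero, mul_zero], by rw [map_zero, map_zero]⟩
      smul_mem' := by
        rintro c x ⟨b, hb, hb'⟩
        refine ⟨c * b, ?_, ?_⟩
        · rw [smul_eq_mul, Subring.coe_mul, hb]
          ring
        · rw [map_mul, ← hfρ c, hfr, hb', mul_zero] }
  have hmem𝔫 : ∀ x : C', x ∈ 𝔫 ↔ ∃ b : Bt, (x : Bt) = (p : Bt) * b ∧ r (πB b) = 0 := fun _ => Iff.rfl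
  have hρ𝔫 : ∀ x ∈ 𝔫, ρ x = 0 := by
    rintro x ⟨b, hb, -⟩
    rw [hρ, hb, map_mul, map_natCast, hpB, zero_mul, map_zero]
  -- the maps
  let ι' : W2 p k →+* C' := ιB.codRestrict C' (fun w => by
    refine hmemC' _ (algebraMap k A (res p k w)) ?_
    have := congrArg (fun g => g w) hlift.comm
    simp only [RingHom.comp_apply] at this
    rw [this, IsScalarTower.algebraMap_apply k A B])
  have hι' : ∀ w, ((ι' w : C') : Bt) = ιB w := fun _ => rfl
  let ιA : W2 p k →+* (C' ⧸ 𝔫) := (Ideal.Quotient.mk 𝔫).comp ι'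
  let πA : (C' ⧸ 𝔫) →+* A := Ideal.Quotient.lift 𝔫 ρ hρ𝔫
  have hπA : ∀ x : C', πA (Ideal.Quotient.mk 𝔫 x) = r (πB x) := fun _ => rfl
  have hcomm : πA.comp ιA = (algebraMap k A).comp (res p k) := by
    ext w
    have := congrArg (fun g => g w) hlift.comm
    simp only [RingHom.comp_apply] at this
    simp only [RingHom.comp_apply]
    change r (πB (ιB w)) = _
    rw [this, IsScalarTower.algebraMap_apply k A B, hr]
  -- key: kernel of ρ maps into (p)
  have hF3 : ∀ x : C', ρ x = 0 →
      Ideal.Quotient.mk 𝔫 x ∈ Ideal.span {(p : C' ⧸ 𝔫)} := by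
    intro x hx
    have h0 : πB x = 0 := by rw [← hfρ x, ← hρ, hx, map_zero]
    have hxk : (x : Bt) ∈ Ideal.span {(p : Bt)} := by rw [← hkerB]; exact h0
    obtain ⟨b, hb⟩ := Ideal.mem_span_singleton'.mp hxk
    obtain ⟨ct, hct⟩ := hlift.surj (algebraMap A B (r (πB b)))
    let c : C' := ⟨ct, hmemC' ct _ hct⟩
    have hdiff : x - (p : C') * c ∈ 𝔫 := by
      refine ⟨b - ct, ?_, ?_⟩
      · push_cast
        rw [← hb]
        ring
      · rw [map_sub, map_sub, hct, hr, sub_self]
    have : Ideal.Quotient.mk 𝔫 x = (p : C' ⧸ 𝔫) * Ideal.Quotient.mk 𝔫 c := by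
      rw [← map_natCast (Ideal.Quotient.mk 𝔫), ← map_mul]
      exact Ideal.Quotient.eq.mpr hdiff
    rw [this]
    exact Ideal.mul_mem_right _ _ (Ideal.subset_span rfl)
  refine ⟨C' ⧸ 𝔫, inferInstance, ιA, πA, ?_, ?_, ?_, hcomm⟩
  · -- flat
    apply Groth.Agent.Lib.Helper62.flat_of_p_torsion
    intro q hq
    obtain ⟨x, rfl⟩ := Ideal.Quotient.mk_surjective q
    rw [← map_natCast (Ideal.Quotient.mk 𝔫), ← map_mul, Ideal.Quotient.eq_zero_iff_mem] at hq
    obtain ⟨b, hb, hb'⟩ := hq
    push_cast at hb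
    have h1 : (p : Bt) * ((x : Bt) - b) = 0 := by rw [mul_sub, hb, sub_self]
    have h2 : (x : Bt) - b ∈ RingHom.ker πB := by rw [hkerB]; exact hflatB _ h1
    have h3 : πB x = πB b := by
      rw [RingHom.mem_ker, map_sub, sub_eq_zero] at h2
      exact h2
    apply hF3
    rw [hρ, h3, hb']
  · -- surjective
    intro a
    obtain ⟨bt, hbt⟩ := hlift.surj (algebraMap A B a)
    refine ⟨Ideal.Quotient.mk 𝔫 ⟨bt, hmemC' bt a hbt⟩, ?_⟩
    rw [hπA]
    change r (πB bt) = a
    rw [hbt, hr]
  · -- kernel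
    have hmap : Ideal.map ιA (RingHom.ker (res p k)) = Ideal.span {(p : C' ⧸ 𝔫)} := by
      rw [Groth.Agent.S13147.ker_res_eq_span, Ideal.map_span, Set.image_singleton, map_natCast]
    rw [hmap]
    apply le_antisymm
    · intro q hq
      obtain ⟨x, rfl⟩ := Ideal.Quotient.mk_surjective q
      apply hF3
      rw [hρ, ← hπA]
      exact hq
    · rw [Ideal.span_le, Set.singleton_subset_iff, SetLike.mem_coe, RingHom.mem_ker, map_natCast,
        hpA]

end Groth.Agent.S13143
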