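import Groth.Statements.S13144
import Mathlib
import Groth.Agent.Lib.Helper99.W2Lift

set_option autoImplicit false
universe u
open FrobAlg

namespace Groth.Agent.S13144

/-- Let k be a perfect field of characteristic p, A → B a homomorphism of Noetherian k-algebras with an
A-linear retraction B → A, and A' → B' a homomorphism over W₂(k) between flat liftings of A and B
which reduces to A → B. If the Frobenius of B lifts to B' (a σ₂-semilinear ring endomorphism
reducing to the p-th power map), then the Frobenius of A lifts to A'. (The published statement is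
for an affine morphism whose map on structure sheaves splits linearly; the affine case with an
A-linear splitting is taken here.) -/
theorem result
    (p : ℕ) [Fact p.Prime] (k : Type u) [Field k] [CharP k p] [PerfectRing k p]
    (A B : Type u) [CommRing A] [CommRing B] [Algebra k A] [Algebra k B]
    [IsNoetherianRing A] [IsNoetherianRing B] [Algebra A B] [IsScalarTower k A B]
    (r : B →ₗ[A] A) (hr : ∀ a : A, r (algebraMap A B a) = a)
    (A' B' : Type u) [CommRing A'] [CommRing B']
    (ιA : FrobAlg.W2 p k →+* A') (πA : A' →+* A) (hA : FrobAlg.IsLift p k A A' ιA πA)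
    (ιB : FrobAlg.W2 p k →+* B') (πB : B' →+* B) (hB : FrobAlg.IsLift p k B B' ιB πB)
    (φ' : A' →+* B') (hφι : φ'.comp ιA = ιB) (hφπ : πB.comp φ' = (algebraMap A B).comp πA)
    (ΦB : B' →+* B') (hΦB : FrobAlg.IsFrobLift p k B B' ιB πB ΦB) :
    ∃ ΦA : A' →+* A', FrobAlg.IsFrobLift p k A A' ιA πA ΦA := by
  classical
  open Groth.Agent.Lib.Helper99.W2Lift in
  have hpp_A : (p : A') * p = 0 := lift_p_mul_p p k A' ιA
  open Groth.Agent.Lib.Helper99.W2Lift in
  have hpp_B : (p : B') * p = 0 := lift_p_mul_p p k B' ιB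
  open Groth.Agent.Lib.Helper99.W2Lift in
  have kerA := lift_mem_ker_iff p k A A' ιA πA hA
  open Groth.Agent.Lib.Helper99.W2Lift in
  have kerB := lift_mem_ker_iff p k B B' ιB πB hB
  open Groth.Agent.Lib.Helper99.W2Lift in
  have flatB := lift_eq_p_mul_of_p_mul_eq_zero p k B B' ιB πB hB
  have hp0 : p ≠ 0 := (Fact.out : p.Prime).ne_zero
  have hφπ' : ∀ x : A', πB (φ' x) = algebraMap A B (πA x) := fun x => RingHom.congr_fun hφπ x
  have hφι' : ∀ w, φ' (ιA w) = ιB w := fun w => RingHom.congr_fun hφι w
  -- a set-theoretic section of `πA`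
  let s : A → A' := Function.surjInv hA.surj
  have hs : ∀ a, πA (s a) = a := Function.surjInv_eq hA.surj
  have hV : ∀ x : A', (p : A') * s (πA x) = p * x := by
    intro x
    have h0 : πA (s (πA x) - x) = 0 := by rw [map_sub, hs, sub_self]
    obtain ⟨z, hz⟩ := (kerA _).mp h0
    have h1 : s (πA x) = x + p * z := by rw [← hz]; ring
    rw [h1, mul_add, ← mul_assoc, hpp_A, zero_mul, add_zero]
  -- the additive map `a ↦ p * (lift of a)`
  let V : A →+ A' :=
    { toFun := fun a => (p : A') * s a
      map_zero' := by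
        have := hV 0
        rwa [map_zero, mul_zero] at this
      map_add' := fun a b => by
        have := hV (s a + s b)
        rw [map_add, hs, hs] at this
        rw [this, mul_add] }
  have hVdef : ∀ a, V a = (p : A') * s a := fun _ => rfl
  have hVπ : ∀ x : A', V (πA x) = p * x := hV
  have hVmul : ∀ (c : A') (a : A), V (πA c * a) = c * V a := by
    intro c a
    have := hVπ (c * s a)
    rw [map_mul, hs] at this
    rw [this, hVdef]; ring
  let g : B' →+ A' := V.comp (r.toAddMonoidHom.comp πB.toAddMonoidHom)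
  have hgdef : ∀ b, g b = V (r (πB b)) := fun _ => rfl
  have hg_wd : ∀ b b' : B', (p : B') * b = p * b' → g b = g b' := by
    intro b b' h
    have h2 : (p : B') * (b - b') = 0 := by rw [mul_sub, h, sub_self]
    obtain ⟨z, hz⟩ := flatB _ h2
    have h3 : πB (b - b') = 0 := (kerB _).mpr ⟨z, hz⟩
    rw [map_sub, sub_eq_zero] at h3
    rw [hgdef, hgdef, h3]
  have hg_φ : ∀ x : A', g (φ' x) = p * x := by
    intro x
    rw [hgdef, hφπ', hr, hVπ]
  have hg_mul : ∀ (c : A') (b : B'), g (φ' c * b) = c * g b := by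
    intro c b
    rw [hgdef, map_mul, hφπ', ← Algebra.smul_def, map_smul, smul_eq_mul, hVmul, ← hgdef]
  have hg_p : ∀ b, ∃ z, g b = (p : A') * z := fun b => ⟨_, rfl⟩
  have hg_gg : ∀ b b', g b * g b' = 0 := by
    intro b b'
    obtain ⟨z, hz⟩ := hg_p b
    obtain ⟨z', hz'⟩ := hg_p b'
    rw [hz, hz']
    calc (p : A') * z * (p * z') = (p * p) * (z * z') := by ring
      _ = 0 := by rw [hpp_A, zero_mul]
  have hπg : ∀ b, πA (g b) = 0 := fun b => (kerA _).mpr (hg_p b)
  -- the defect
  have hD : ∀ x : A', ∃ d : B', ΦB (φ' x) - (φ' x) ^ p = (p : B') * d := by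
    intro x
    apply (kerB _).mp
    rw [map_sub, hΦB.red, map_pow, sub_self]
  choose d hd using hD
  have hΦBφ : ∀ x : A', ΦB (φ' x) = (φ' x) ^ p + p * d x := by
    intro x
    rw [← hd x]; ring
  refine ⟨{ toFun := fun x => x ^ p + g (d x)
            map_one' := ?_
            map_mul' := ?_
            map_zero' := ?_
            map_add' := ?_ }, ⟨hA, ?_, ?_⟩⟩
  · -- map_one
    have h1 : (p : B') * d 1 = p * 0 := by
      rw [← hd 1, map_one, map_one, one_pow, sub_self, mul_zero]
    change (1 : A') ^ p + g (d 1) = 1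
    rw [hg_wd _ _ h1, map_zero, one_pow, add_zero]
  · -- map_mul
    intro x y
    change (x * y) ^ p + g (d (x * y)) = (x ^ p + g (d x)) * (y ^ p + g (d y))
    have h1 : (p : B') * d (x * y) = p * (φ' (x ^ p) * d y + φ' (y ^ p) * d x) := by
      rw [← hd (x * y), map_mul, map_mul, hΦBφ x, hΦBφ y, map_pow, map_pow]
      calc ((φ' x) ^ p + p * d x) * ((φ' y) ^ p + p * d y) - ((φ' x) * (φ' y)) ^ p
          = p * ((φ' x) ^ p * d y + (φ' y) ^ p * d x) + (p * p) * (d x * d y) := by ring
        _ = p * ((φ' x) ^ p * d y + (φ' y) ^ p * d x) := by rw [hpp_B, zero_mul, add_zero]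
    rw [hg_wd _ _ h1, map_add, hg_mul, hg_mul]
    have := hg_gg (d x) (d y)
    calc (x * y) ^ p + (x ^ p * g (d y) + y ^ p * g (d x))
        = (x ^ p + g (d x)) * (y ^ p + g (d y)) - g (d x) * g (d y) := by ring
      _ = _ := by rw [this, sub_zero]
  · -- map_zero
    have h1 : (p : B') * d 0 = p * 0 := by
      rw [← hd 0, map_zero, map_zero, zero_pow hp0, sub_self, mul_zero]
    change (0 : A') ^ p + g (d 0) = 0
    rw [hg_wd _ _ h1, map_zero, zero_pow hp0, add_zero]
  · -- map_add
    intro x y
    change (x + y) ^ p + g (d (x + y)) = (x ^ p + g (d x)) + (y ^ p + g (d y))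
    obtain ⟨c, hc⟩ := exists_add_pow_prime_eq (Fact.out : p.Prime) x y
    have hc' : (φ' x + φ' y) ^ p = (φ' x) ^ p + (φ' y) ^ p + p * φ' (x * y * c) := by
      have := congrArg φ' hc
      rw [map_pow, map_add, map_add, map_add, map_pow, map_pow] at this
      rw [this, map_mul, map_mul, map_mul, map_mul, map_mul, map_natCast]
      ring
    have h1 : (p : B') * d (x + y) = p * (d x + d y - φ' (x * y * c)) := by
      rw [← hd (x + y), map_add, map_add, hΦBφ x, hΦBφ y, hc']
      ring
    rw [hg_wd _ _ h1, map_sub, map_add, hg_φ, hc]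
    ring
  · -- semilinearity
    ext w
    change (ιA w) ^ p + g (d (ιA w)) = ιA (sigma p k w)
    have hker : res p k (sigma p k w - w ^ p) = 0 := by
      rw [map_sub, map_pow, res_apply, res_apply, WittGrp.coeff_frob, sub_self]
    open Groth.Agent.Lib.Helper99.W2Lift in
    obtain ⟨v, hv⟩ := exists_eq_p_mul p k _ (by rw [← res_apply]; exact hker)
    have hsemi : ΦB (ιB w) = ιB (sigma p k w) := RingHom.congr_fun hΦB.semi w
    have h1 : (p : B') * d (ιA w) = p * φ' (ιA v) := by
      rw [← hd (ιA w), hφι', hφι', hsemi, ← map_pow, ← map_sub, hv, map_mul, map_natCast]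
    rw [hg_wd _ _ h1, hg_φ, ← map_natCast ιA, ← map_mul, ← hv, map_sub, map_pow]
    ring
  · -- reduction
    intro x
    change πA (x ^ p + g (d x)) = πA x ^ p
    rw [map_add, hπg, add_zero, map_pow]

end Groth.Agent.S13144
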