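import Groth.Statements.S13146
import Groth.Agent.Lib.Helper99.W2Pres

set_option autoImplicit false
set_option linter.style.haveILetI false
set_option linter.unusedSectionVars false
universe u
open scoped BigOperators
open FrobAlg

namespace Groth.Agent.S13146

open Groth.Agent.Lib.Helper99.W2Pres Groth.Agent.Lib.Helper99.W2Lift Groth.Agent.Lib.Helper99.W2Art
  Groth.Agent.Lib.Helper99.QuadCone

/-- In an even number of variables — for a perfect field k of characteristic p and n ≥ 3, the local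
Artinian algebra k[x_1, y_1, …, x_n, y_n]/(x_1y_1 + ⋯ + x_ny_n, x_1^p, y_1^p, …, x_n^p, y_n^p)
admits no flat lifting over W₂(k). (The published statement covers every number N ≥ 5 of variables,
using x_1x_2 + ⋯ + x_{N−2}x_{N−1} + x_N² for odd N; the printed argument is written out for even N
and the odd case is said to be analogous, so only even N = 2n ≥ 6 is taken here.) -/
theorem result
    (p : ℕ) [Fact p.Prime] (k : Type u) [Field k] [CharP k p] [PerfectRing k p]
    (n : ℕ) (hn : 3 ≤ n) :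
    ¬ FrobAlg.IsW2Liftable p k
      (MvPolynomial (Fin n × Fin 2) k ⧸ Ideal.span
        (insert (∑ i : Fin n, MvPolynomial.X (i, (0 : Fin 2)) * MvPolynomial.X (i, (1 : Fin 2)))
          (Set.range fun v : Fin n × Fin 2 => (MvPolynomial.X v : MvPolynomial (Fin n × Fin 2) k) ^ p))) := by
  classical
  rintro ⟨B, _, ι, π, hL⟩
  have hp2 : 2 ≤ p := (Fact.out : p.Prime).two_le
  set fk : MvPolynomial (Fin n × Fin 2) k := quad n k with hfk
  set fW : MvPolynomial (Fin n × Fin 2) (W2 p k) := quad n (W2 p k) with hfW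
  have hρf : MvPolynomial.map (res p k) fW = fk := by
    rw [hfW, hfk, quad, quad, map_sum]
    exact Finset.sum_congr rfl fun i _ => by rw [map_mul, MvPolynomial.map_X, MvPolynomial.map_X]
  set J : Ideal (MvPolynomial (Fin n × Fin 2) k) := Ideal.span
    (insert fk (Set.range fun v : Fin n × Fin 2 => (MvPolynomial.X v : MvPolynomial (Fin n × Fin 2) k) ^ p)) with hJ
  obtain ⟨ψ, -, -, -, hP4, hP5, hP6⟩ := exists_presentation p k J B ι π hL
  have hfJ : fk ∈ J := Ideal.subset_span (Set.mem_insert _ _)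
  have hXJ : ∀ v, (MvPolynomial.X v : MvPolynomial (Fin n × Fin 2) k) ^ p ∈ J := fun v =>
    Ideal.subset_span (Set.mem_insert_of_mem _ ⟨v, rfl⟩)
  -- lifts of the generators in the kernel of `ψ`
  obtain ⟨F, hFψ, hFρ⟩ := hP6 fk hfJ
  choose G hGψ hGρ using fun v => hP6 _ (hXJ v)
  obtain ⟨a, ha⟩ := (mem_ker_map_res_iff p k (F - fW)).mp (by rw [map_sub, hFρ, hρf, sub_self])
  choose β hβ using fun v => (mem_ker_map_res_iff p k (G v - MvPolynomial.X v ^ p)).mp (by
    rw [map_sub, hGρ, map_pow, MvPolynomial.map_X, sub_self])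
  have hF : F = fW + (p : MvPolynomial (Fin n × Fin 2) (W2 p k)) * a := by rw [← ha]; ring
  have hG : ∀ v, G v = MvPolynomial.X v ^ p + (p : MvPolynomial (Fin n × Fin 2) (W2 p k)) * β v :=
    fun v => by rw [← hβ v]; ring
  have hpp := poly_p_mul_p p k (σ := Fin n × Fin 2)
  -- the element `E`
  set D : MvPolynomial (Fin n × Fin 2) (W2 p k) :=
    fW ^ p - ∑ i : Fin n, MvPolynomial.X (i, 0) ^ p * MvPolynomial.X (i, 1) ^ p with hD
  set S : MvPolynomial (Fin n × Fin 2) (W2 p k) :=
    ∑ i : Fin n, (β (i, 0) * MvPolynomial.X (i, 1) ^ p + β (i, 1) * MvPolynomial.X (i, 0) ^ p) with hS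
  have hEψ : ψ (F ^ p - ∑ i : Fin n, G (i, 0) * G (i, 1)) = 0 := by
    rw [map_sub, map_pow, hFψ, zero_pow (by omega), map_sum, zero_sub, neg_eq_zero]
    exact Finset.sum_eq_zero fun i _ => by rw [map_mul, hGψ, zero_mul]
  have hEeq : F ^ p - ∑ i : Fin n, G (i, 0) * G (i, 1) =
      D - (p : MvPolynomial (Fin n × Fin 2) (W2 p k)) * S := by
    rw [hF, add_p_mul_pow, hD, hS, Finset.mul_sum, sub_sub, ← Finset.sum_add_distrib]
    congr 1
    refine Finset.sum_congr rfl fun i _ => ?_
    rw [hG, hG]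
    linear_combination (β (i, 0) * β (i, 1)) * hpp
  -- `D` is divisible by `p`
  have hDρ : MvPolynomial.map (res p k) D = 0 := by
    rw [hD, map_sub, map_pow, hρf, hfk, quad, sum_pow_char, map_sum, sub_eq_zero]
    refine Finset.sum_congr rfl fun i _ => ?_
    rw [mul_pow, map_mul, map_pow, map_pow, MvPolynomial.map_X, MvPolynomial.map_X]
  obtain ⟨d, hd⟩ := (mem_ker_map_res_iff p k D).mp hDρ
  have hE2 : F ^ p - ∑ i : Fin n, G (i, 0) * G (i, 1) =
      (p : MvPolynomial (Fin n × Fin 2) (W2 p k)) * (d - S) := by rw [hEeq, hd]; ring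
  obtain ⟨j, hjψ, hj⟩ := hP4 (d - S) (by rw [← hE2]; exact hEψ)
  -- `ρ j ∈ J`
  have hjJ := hP5 j hjψ
  rw [hJ, Ideal.mem_span_insert] at hjJ
  obtain ⟨ubar, z, hz, hjz⟩ := hjJ
  obtain ⟨gbar, hgbar⟩ := (Ideal.mem_span_range_iff_exists_fun).mp hz
  have hρs := map_res_surjective p k (σ := Fin n × Fin 2)
  obtain ⟨u, hu⟩ := hρs ubar
  choose g hg using fun v => hρs (gbar v)
  have hpj : (p : MvPolynomial (Fin n × Fin 2) (W2 p k)) * j =
      (p : MvPolynomial (Fin n × Fin 2) (W2 p k)) * (fW * u + ∑ v, MvPolynomial.X v ^ p * g v) := by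
    apply p_mul_congr
    rw [hjz, map_add, map_mul, hρf, hu, map_sum, ← hgbar, mul_comm]
    congr 1
    exact Finset.sum_congr rfl fun v _ => by
      rw [map_mul, map_pow, MvPolynomial.map_X, hg, mul_comm]
  -- rewrite `S`
  have hSsum : S = ∑ v : Fin n × Fin 2, MvPolynomial.X v ^ p * β (v.1, 1 - v.2) := by
    rw [hS, Fintype.sum_prod_type]
    refine Finset.sum_congr rfl fun i _ => ?_
    rw [Fin.sum_univ_two]
    simp only [sub_zero, sub_self]
    ring
  apply no_solution_of_sq_zero (W := W2 p k) hn p hp2 (p_mul_p p k) (natCast_ne_zero p k) 0 u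
    (fun v => g v + β (v.1, 1 - v.2))
  change D = _
  have hDE : D = (p : MvPolynomial (Fin n × Fin 2) (W2 p k)) * (d - S) +
      (p : MvPolynomial (Fin n × Fin 2) (W2 p k)) * S := by rw [← hE2, hEeq]; ring
  rw [hDE, ← hj, hpj, hSsum, map_zero, zero_add, ← mul_add, add_assoc, ← Finset.sum_add_distrib]
  congr 2
  exact Finset.sum_congr rfl fun v _ => by ring

end Groth.Agent.S13146
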