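import Groth.Statements.S13148
import Groth.Agent.S13147
import Groth.Agent.Lib.Helper62.SqZeroLift3
import Groth.Agent.Lib.Helper62.FrobLiftSmooth

set_option autoImplicit false
universe u
open FrobAlg

namespace Groth.Agent.S13148

/-- Over a perfect field k of characteristic p, every smooth affine scheme Spec A admits a flat lifting
over W₂(k) together with a lifting of Frobenius (not necessarily unique). -/
theorem result
    (p : ℕ) [Fact p.Prime] (k : Type u) [Field k] [CharP k p] [PerfectRing k p]
    (A : Type u) [CommRing A] [Algebra k A] [Algebra.Smooth k A] :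
    FrobAlg.IsFLiftable p k A := by
  classical
  have hpk : (p : k) = 0 := CharP.cast_eq_zero k p
  letI algWk : Algebra (W2 p k) k := (res p k).toAlgebra
  have halgWk : algebraMap (W2 p k) k = res p k := rfl
  have hsurj : Function.Surjective (algebraMap (W2 p k) k) := by
    intro a
    refine ⟨TruncatedWittVector.mk p fun _ => a, ?_⟩
    rw [halgWk, res_apply, TruncatedWittVector.coeff_mk]
  have hker : RingHom.ker (algebraMap (W2 p k) k) = Ideal.span {(p : W2 p k)} :=
    Groth.Agent.S13147.ker_res_eq_span p k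
  have hsq : RingHom.ker (algebraMap (W2 p k) k) * RingHom.ker (algebraMap (W2 p k) k) = ⊥ := by
    rw [hker, Ideal.span_singleton_mul_span_singleton,
      Groth.Agent.S13147.natCast_W2_sq_eq_zero p k hpk]
    exact Ideal.span_singleton_eq_bot.mpr rfl
  obtain ⟨B, instB, algB, φ, hsm, hφsurj, hkerφ, hcomm⟩ :=
    Groth.Agent.Lib.Helper62.SqZeroLift3.exists_smooth_lift hsurj hsq A
  have h𝔟 : RingHom.ker φ ^ 2 = ⊥ := by
    rw [hkerφ, sq, ← Ideal.map_mul, hsq, Ideal.map_bot]
  have hpA : (p : A) = 0 := by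
    have : (p : A) = algebraMap k A (p : k) := (map_natCast _ p).symm
    rw [this, hpk, map_zero]
  have hpB : (p : B) ∈ RingHom.ker φ := by
    rw [RingHom.mem_ker, map_natCast, hpA]
  have hσ : ∀ w, algebraMap (W2 p k) B (sigma p k w) - algebraMap (W2 p k) B w ^ p ∈
      RingHom.ker φ := by
    intro w
    rw [hkerφ, ← map_pow, ← map_sub]
    apply Ideal.mem_map_of_mem
    rw [RingHom.mem_ker, halgWk, map_sub, map_pow, res_apply, res_apply, WittGrp.coeff_frob,
      sub_self]
  obtain ⟨Φ, hΦ1, hΦ2⟩ := Groth.Agent.Lib.Helper62.FrobLiftSmooth.exists_frob_lift p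
    (sigma p k) (RingHom.ker φ) h𝔟 hpB hσ
  refine ⟨B, instB, algebraMap (W2 p k) B, φ, Φ, ⟨⟨?_, hφsurj, hkerφ, ?_⟩, hΦ1, ?_⟩⟩
  · rw [RingHom.flat_algebraMap_iff]
    infer_instance
  · ext w
    exact hcomm w
  · intro b
    have := hΦ2 b
    rw [RingHom.mem_ker, map_sub, sub_eq_zero, map_pow] at this
    exact this

end Groth.Agent.S13148
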