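import Groth.Statements.S13149
import Mathlib

set_option autoImplicit false
universe u
open CAlg

namespace Groth.Agent.S13149

open Matrix

section Helpers

variable {p : ℕ} {A : Type u} [CommRing A]

def HasUnit (x : Fin 3 → A) : Prop := ∃ i, IsUnit (x i)

def Rel (ρ : (Fin 3 → ZMod p) → (Fin 3 → A)) (v : Fin 3 → ZMod p) (w : Fin 3 → A) : Prop :=
  ∃ t : A, IsUnit t ∧ ρ v = t • w

theorem lemmaA (x w1 w2 : Fin 3 → A) (h1 : x ⬝ᵥ w1 = 0) (h2 : x ⬝ᵥ w2 = 0)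
    (hu : HasUnit (w1 ⨯₃ w2)) : ∃ s : A, x = s • (w1 ⨯₃ w2) := by
  have hx : x ⨯₃ (w1 ⨯₃ w2) = 0 := by
    rw [cross_cross_eq_smul_sub_smul', dotProduct_comm w1 x, h1, h2]; simp
  obtain ⟨m, hm⟩ : ∃ m, m = w1 ⨯₃ w2 := ⟨_, rfl⟩
  rw [← hm] at hx hu ⊢
  obtain ⟨k, hk⟩ := hu
  obtain ⟨c, hc⟩ := hk.exists_left_inv
  rw [cross_apply] at hx
  have e0 := congrFun hx 0
  have e1 := congrFun hx 1
  have e2 := congrFun hx 2
  simp at e0 e1 e2
  refine ⟨x k * c, ?_⟩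
  ext i
  simp only [Pi.smul_apply, smul_eq_mul]
  fin_cases k <;> fin_cases i <;> simp at hc ⊢
  all_goals first
    | linear_combination (-(x 0)) * hc
    | linear_combination (-(x 1)) * hc
    | linear_combination (-(x 2)) * hc
    | linear_combination (-(x 0)) * hc + c * e0
    | linear_combination (-(x 0)) * hc - c * e0
    | linear_combination (-(x 0)) * hc + c * e1
    | linear_combination (-(x 0)) * hc - c * e1
    | linear_combination (-(x 0)) * hc + c * e2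
    | linear_combination (-(x 0)) * hc - c * e2
    | linear_combination (-(x 1)) * hc + c * e0
    | linear_combination (-(x 1)) * hc - c * e0
    | linear_combination (-(x 1)) * hc + c * e1
    | linear_combination (-(x 1)) * hc - c * e1
    | linear_combination (-(x 1)) * hc + c * e2
    | linear_combination (-(x 1)) * hc - c * e2
    | linear_combination (-(x 2)) * hc + c * e0
    | linear_combination (-(x 2)) * hc - c * e0
    | linear_combination (-(x 2)) * hc + c * e1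
    | linear_combination (-(x 2)) * hc - c * e1
    | linear_combination (-(x 2)) * hc + c * e2
    | linear_combination (-(x 2)) * hc - c * e2

theorem lemmaB (x w : Fin 3 → A) (s : A) (h : x = s • w) (hx : HasUnit x) : IsUnit s := by
  obtain ⟨i, hi⟩ := hx
  rw [h] at hi
  simp only [Pi.smul_apply, smul_eq_mul] at hi
  exact isUnit_of_mul_isUnit_left hi

theorem perp_of_col (ρ : (Fin 3 → ZMod p) → (Fin 3 → A))
    (hcol : ∀ u v w : Fin 3 → ZMod p, u ≠ 0 → v ≠ 0 → w ≠ 0 →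
      Matrix.det (Matrix.of ![u, v, w]) = 0 →
      ∃ n : Fin 3 → A, (∃ i, IsUnit (n i)) ∧
        dotProduct (ρ u) n = 0 ∧ dotProduct (ρ v) n = 0 ∧ dotProduct (ρ w) n = 0)
    (a b x : Fin 3 → ZMod p) (a' b' : Fin 3 → A) (ha : a ≠ 0) (hb : b ≠ 0) (hx : x ≠ 0)
    (ra : Rel ρ a a') (rb : Rel ρ b b') (hdet : Matrix.det (Matrix.of ![a, b, x]) = 0)
    (hu : HasUnit (a' ⨯₃ b')) : ρ x ⬝ᵥ (a' ⨯₃ b') = 0 := by
  obtain ⟨n, hn, h1, h2, h3⟩ := hcol a b x ha hb hx hdet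
  obtain ⟨ta, hta, ea⟩ := ra
  obtain ⟨tb, htb, eb⟩ := rb
  rw [ea, smul_dotProduct, smul_eq_mul] at h1
  rw [eb, smul_dotProduct, smul_eq_mul] at h2
  have h1' : n ⬝ᵥ a' = 0 := by
    rw [dotProduct_comm]; exact (hta.mul_right_eq_zero).1 h1
  have h2' : n ⬝ᵥ b' = 0 := by
    rw [dotProduct_comm]; exact (htb.mul_right_eq_zero).1 h2
  obtain ⟨s, hs⟩ := lemmaA n a' b' h1' h2' hu
  have hsu : IsUnit s := lemmaB n _ s hs hn
  rw [hs, dotProduct_smul, smul_eq_mul] at h3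
  exact (hsu.mul_right_eq_zero).1 h3

theorem meet (ρ : (Fin 3 → ZMod p) → (Fin 3 → A))
    (hpt : ∀ v : Fin 3 → ZMod p, v ≠ 0 → ∃ i, IsUnit (ρ v i))
    (hcol : ∀ u v w : Fin 3 → ZMod p, u ≠ 0 → v ≠ 0 → w ≠ 0 →
      Matrix.det (Matrix.of ![u, v, w]) = 0 →
      ∃ n : Fin 3 → A, (∃ i, IsUnit (n i)) ∧
        dotProduct (ρ u) n = 0 ∧ dotProduct (ρ v) n = 0 ∧ dotProduct (ρ w) n = 0)
    (a b c d x : Fin 3 → ZMod p) (a' b' c' d' w : Fin 3 → A) (k : A)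
    (ha : a ≠ 0) (hb : b ≠ 0) (hc : c ≠ 0) (hd : d ≠ 0) (hx : x ≠ 0)
    (ra : Rel ρ a a') (rb : Rel ρ b b') (rc : Rel ρ c c') (rd : Rel ρ d d')
    (hdet1 : Matrix.det (Matrix.of ![a, b, x]) = 0)
    (hdet2 : Matrix.det (Matrix.of ![c, d, x]) = 0)
    (hu1 : HasUnit (a' ⨯₃ b')) (hu2 : HasUnit (c' ⨯₃ d'))
    (hk : IsUnit k) (hw : (a' ⨯₃ b') ⨯₃ (c' ⨯₃ d') = k • w) (hwu : HasUnit w) :
    Rel ρ x w := by
  have h1 := perp_of_col ρ hcol a b x a' b' ha hb hx ra rb hdet1 hu1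
  have h2 := perp_of_col ρ hcol c d x c' d' hc hd hx rc rd hdet2 hu2
  have hu3 : HasUnit ((a' ⨯₃ b') ⨯₃ (c' ⨯₃ d')) := by
    obtain ⟨i, hi⟩ := hwu
    refine ⟨i, ?_⟩
    rw [hw]; simpa using hk.mul hi
  obtain ⟨s, hs⟩ := lemmaA (ρ x) _ _ h1 h2 hu3
  have hsu : IsUnit s := lemmaB _ _ s hs (hpt x hx)
  refine ⟨s * k, hsu.mul hk, ?_⟩
  rw [hs, hw, smul_smul]

theorem ne1 [Fact p.Prime] (x y : ZMod p) : (![x, 1, y] : Fin 3 → ZMod p) ≠ 0 := by
  intro h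
  have := congrFun h 1
  simp at this

theorem ne0 [Fact p.Prime] (x y : ZMod p) : (![1, x, y] : Fin 3 → ZMod p) ≠ 0 := by
  intro h
  have := congrFun h 0
  simp at this

theorem ne2 [Fact p.Prime] (x y : ZMod p) : (![x, y, 1] : Fin 3 → ZMod p) ≠ 0 := by
  intro h
  have := congrFun h 2
  simp at this

theorem core [Fact p.Prime] (ρ : (Fin 3 → ZMod p) → (Fin 3 → A))
    (hpt : ∀ v : Fin 3 → ZMod p, v ≠ 0 → ∃ i, IsUnit (ρ v i))
    (hcol : ∀ u v w : Fin 3 → ZMod p, u ≠ 0 → v ≠ 0 → w ≠ 0 →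
      Matrix.det (Matrix.of ![u, v, w]) = 0 →
      ∃ n : Fin 3 → A, (∃ i, IsUnit (n i)) ∧
        dotProduct (ρ u) n = 0 ∧ dotProduct (ρ v) n = 0 ∧ dotProduct (ρ w) n = 0)
    (r0 : Rel ρ ![1, 0, 0] ![1, 0, 0]) (r1 : Rel ρ ![0, 1, 0] ![0, 1, 0])
    (r2 : Rel ρ ![0, 0, 1] ![0, 0, 1]) (ru : Rel ρ ![1, 1, 1] ![1, 1, 1]) :
    (p : A) = 0 := by
  -- P_1
  have rP1 : Rel ρ ![1, 1, 0] ![1, 1, 0] := by
    refine meet ρ hpt hcol ![1, 0, 0] ![0, 1, 0] ![0, 0, 1] ![1, 1, 1] ![1, 1, 0]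
      ![1, 0, 0] ![0, 1, 0] ![0, 0, 1] ![1, 1, 1] ![1, 1, 0] (-1)
      (ne0 _ _) (ne1 _ _) (ne2 _ _) (ne0 _ _) (ne0 _ _) r0 r1 r2 ru ?_ ?_ ?_ ?_ ?_ ?_ ?_
    · simp [Matrix.det_fin_three]
    · simp [Matrix.det_fin_three]
    · exact ⟨2, by simp [cross_apply]⟩
    · exact ⟨1, by simp [cross_apply]⟩
    · exact isUnit_one.neg
    · simp [cross_apply]
    · exact ⟨0, by simp⟩
  -- R_m from P_m
  have stepR : ∀ m : ℕ, Rel ρ ![(m : ZMod p), 1, 0] ![(m : A), 1, 0] →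
      Rel ρ ![(m : ZMod p), 1, 1] ![(m : A), 1, 1] := by
    intro m hm
    refine meet ρ hpt hcol ![(m : ZMod p), 1, 0] ![0, 0, 1] ![1, 1, 1] ![1, 0, 0] ![(m : ZMod p), 1, 1]
      ![(m : A), 1, 0] ![0, 0, 1] ![1, 1, 1] ![1, 0, 0] ![(m : A), 1, 1] 1
      (ne1 _ _) (ne2 _ _) (ne0 _ _) (ne0 _ _) (ne1 _ _) hm r2 ru r0 ?_ ?_ ?_ ?_ ?_ ?_ ?_
    · simp [Matrix.det_fin_three]
    · simp [Matrix.det_fin_three]
    · exact ⟨0, by simp [cross_apply]⟩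
    · exact ⟨1, by simp [cross_apply]⟩
    · exact isUnit_one
    · simp [cross_apply]
    · exact ⟨1, by simp⟩
  have rP0 : Rel ρ ![((0 : ℕ) : ZMod p), 1, 0] ![((0 : ℕ) : A), 1, 0] := by simpa using r1
  have rR0 : Rel ρ ![0, 1, 1] ![0, 1, 1] := by simpa using stepR 0 rP0
  -- D' = (1,0,-1)
  have rD : Rel ρ ![1, 0, -1] ![1, 0, -1] := by
    refine meet ρ hpt hcol ![1, 0, 0] ![0, 0, 1] ![1, 1, 0] ![0, 1, 1] ![1, 0, -1]
      ![1, 0, 0] ![0, 0, 1] ![1, 1, 0] ![0, 1, 1] ![1, 0, -1] (-1)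
      (ne0 _ _) (ne2 _ _) (ne0 _ _) (ne1 _ _) (ne0 _ _) r0 r2 rP1 rR0 ?_ ?_ ?_ ?_ ?_ ?_ ?_
    · simp [Matrix.det_fin_three]
    · simp [Matrix.det_fin_three]
    · exact ⟨1, by simp [cross_apply]⟩
    · exact ⟨0, by simp [cross_apply]⟩
    · exact isUnit_one.neg
    · simp [cross_apply]
    · exact ⟨0, by simp⟩
  have stepP : ∀ m : ℕ, Rel ρ ![(m : ZMod p), 1, 1] ![(m : A), 1, 1] →
      Rel ρ ![((m + 1 : ℕ) : ZMod p), 1, 0] ![((m + 1 : ℕ) : A), 1, 0] := by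
    intro m hm
    refine meet ρ hpt hcol ![(m : ZMod p), 1, 1] ![1, 0, -1] ![1, 0, 0] ![0, 1, 0]
      ![((m + 1 : ℕ) : ZMod p), 1, 0]
      ![(m : A), 1, 1] ![1, 0, -1] ![1, 0, 0] ![0, 1, 0] ![((m + 1 : ℕ) : A), 1, 0] 1
      (ne1 _ _) (ne0 _ _) (ne0 _ _) (ne1 _ _) (ne1 _ _) hm rD r0 r1 ?_ ?_ ?_ ?_ ?_ ?_ ?_
    · simp [Matrix.det_fin_three]
    · simp [Matrix.det_fin_three]
    · exact ⟨0, by simp [cross_apply]⟩
    · exact ⟨2, by simp [cross_apply]⟩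
    · exact isUnit_one
    · simp [cross_apply]; ring
    · exact ⟨1, by simp⟩
  have all : ∀ m : ℕ, Rel ρ ![(m : ZMod p), 1, 0] ![(m : A), 1, 0] := by
    intro m
    induction m with
    | zero => exact rP0
    | succ m ih => exact stepP m (stepR m ih)
  obtain ⟨t1, ht1, e1⟩ := all p
  obtain ⟨t2, ht2, e2⟩ := r1
  rw [ZMod.natCast_self] at e1
  have := congrFun (e1.symm.trans e2) 0
  simp at this
  exact (ht1.mul_right_eq_zero).1 this

theorem hasUnit_of_vecMul [IsLocalRing A] (x : Fin 3 → A) (Q : Matrix (Fin 3) (Fin 3) A)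
    (h : ∃ i, IsUnit ((x ᵥ* Q) i)) : ∃ i, IsUnit (x i) := by
  by_contra hx
  push Not at hx
  obtain ⟨j, hj⟩ := h
  have hmem : (x ᵥ* Q) j ∈ IsLocalRing.maximalIdeal A := by
    simp only [Matrix.vecMul, dotProduct]
    refine Ideal.sum_mem _ (fun i _ => Ideal.mul_mem_right _ _ ?_)
    exact (IsLocalRing.mem_maximalIdeal _).2 (hx i)
  exact (IsLocalRing.mem_maximalIdeal _).1 hmem hj

theorem hasUnit_of_mulVec [IsLocalRing A] (x : Fin 3 → A) (Q : Matrix (Fin 3) (Fin 3) A)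
    (h : ∃ i, IsUnit ((Q *ᵥ x) i)) : ∃ i, IsUnit (x i) := by
  by_contra hx
  push Not at hx
  obtain ⟨j, hj⟩ := h
  have hmem : (Q *ᵥ x) j ∈ IsLocalRing.maximalIdeal A := by
    simp only [Matrix.mulVec, dotProduct]
    refine Ideal.sum_mem _ (fun i _ => Ideal.mul_mem_left _ _ ?_)
    exact (IsLocalRing.mem_maximalIdeal _).2 (hx i)
  exact (IsLocalRing.mem_maximalIdeal _).1 hmem hj

/-- transfer along an invertible matrix -/
theorem transfer [Fact p.Prime] [IsLocalRing A] (ρ : (Fin 3 → ZMod p) → (Fin 3 → A))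
    (hpt : ∀ v : Fin 3 → ZMod p, v ≠ 0 → ∃ i, IsUnit (ρ v i))
    (hcol : ∀ u v w : Fin 3 → ZMod p, u ≠ 0 → v ≠ 0 → w ≠ 0 →
      Matrix.det (Matrix.of ![u, v, w]) = 0 →
      ∃ n : Fin 3 → A, (∃ i, IsUnit (n i)) ∧
        dotProduct (ρ u) n = 0 ∧ dotProduct (ρ v) n = 0 ∧ dotProduct (ρ w) n = 0)
    (Q Q' : Matrix (Fin 3) (Fin 3) A) (hQ : Q * Q' = 1)
    (r0 : ∃ t : A, IsUnit t ∧ ρ ![1, 0, 0] ᵥ* Q = t • ![1, 0, 0])
    (r1 : ∃ t : A, IsUnit t ∧ ρ ![0, 1, 0] ᵥ* Q = t • ![0, 1, 0])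
    (r2 : ∃ t : A, IsUnit t ∧ ρ ![0, 0, 1] ᵥ* Q = t • ![0, 0, 1])
    (ru : ∃ t : A, IsUnit t ∧ ρ ![1, 1, 1] ᵥ* Q = t • ![1, 1, 1]) :
    (p : A) = 0 := by
  have hQ' : Q' * Q = 1 := mul_eq_one_comm.1 hQ
  refine core (fun v => ρ v ᵥ* Q) ?_ ?_ r0 r1 r2 ru
  · intro v hv
    apply hasUnit_of_vecMul _ Q'
    rw [Matrix.vecMul_vecMul, hQ, Matrix.vecMul_one]
    exact hpt v hv
  · intro u v w hu hv hw hdet
    obtain ⟨n, hn, h1, h2, h3⟩ := hcol u v w hu hv hw hdet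
    refine ⟨Q' *ᵥ n, ?_, ?_, ?_, ?_⟩
    · apply hasUnit_of_mulVec _ Q
      rw [Matrix.mulVec_mulVec, hQ, Matrix.one_mulVec]
      exact hn
    · rw [← Matrix.dotProduct_mulVec, Matrix.mulVec_mulVec, hQ, Matrix.one_mulVec]; exact h1
    · rw [← Matrix.dotProduct_mulVec, Matrix.mulVec_mulVec, hQ, Matrix.one_mulVec]; exact h2
    · rw [← Matrix.dotProduct_mulVec, Matrix.mulVec_mulVec, hQ, Matrix.one_mulVec]; exact h3


end Helpers

/-- Let A be a local ring and ρ a map from the points of the projective plane over F_p to the points of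
the projective plane over A (vectors with a unit coordinate, up to units) taking collinear triples
to collinear triples (three points are collinear when a vector with a unit coordinate is orthogonal
to all three). If ρ sends the standard frame (1:0:0), (0:1:0), (0:0:1), (1:1:1) to four points in
general position, then p = 0 in A. (The published statement asks only that ρ preserve collinearity;
a constant map does so over any ring, and the published argument begins by moving the images of the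
standard frame to the standard frame, which needs them in general position — that condition is made
a hypothesis here.) -/
theorem result
    (p : ℕ) [Fact p.Prime] (A : Type u) [CommRing A] [IsLocalRing A]
    (ρ : (Fin 3 → ZMod p) → (Fin 3 → A))
    (hpt : ∀ v : Fin 3 → ZMod p, v ≠ 0 → ∃ i, IsUnit (ρ v i))
    (hcol : ∀ u v w : Fin 3 → ZMod p, u ≠ 0 → v ≠ 0 → w ≠ 0 →
      Matrix.det (Matrix.of ![u, v, w]) = 0 →
      ∃ n : Fin 3 → A, (∃ i, IsUnit (n i)) ∧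
        dotProduct (ρ u) n = 0 ∧ dotProduct (ρ v) n = 0 ∧ dotProduct (ρ w) n = 0)
    (hgen : IsUnit (Matrix.det (Matrix.of ![ρ (Pi.single 0 1), ρ (Pi.single 1 1), ρ (Pi.single 2 1)])) ∧
      IsUnit (Matrix.det (Matrix.of ![ρ (Pi.single 0 1), ρ (Pi.single 1 1), ρ (fun _ => 1)])) ∧
      IsUnit (Matrix.det (Matrix.of ![ρ (Pi.single 0 1), ρ (Pi.single 2 1), ρ (fun _ => 1)])) ∧
      IsUnit (Matrix.det (Matrix.of ![ρ (Pi.single 1 1), ρ (Pi.single 2 1), ρ (fun _ => 1)]))) :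
    (p : A) = 0 := by
  have E0 : (Pi.single 0 1 : Fin 3 → ZMod p) = ![1, 0, 0] := by
    ext i; fin_cases i <;> simp
  have E1 : (Pi.single 1 1 : Fin 3 → ZMod p) = ![0, 1, 0] := by
    ext i; fin_cases i <;> simp
  have E2 : (Pi.single 2 1 : Fin 3 → ZMod p) = ![0, 0, 1] := by
    ext i; fin_cases i <;> simp
  have EU : ((fun _ => 1) : Fin 3 → ZMod p) = ![1, 1, 1] := by
    ext i; fin_cases i <;> simp
  rw [E0, E1, E2, EU] at hgen
  obtain ⟨g0, hg0⟩ : ∃ g, g = ρ ![1, 0, 0] := ⟨_, rfl⟩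
  obtain ⟨g1, hg1⟩ : ∃ g, g = ρ ![0, 1, 0] := ⟨_, rfl⟩
  obtain ⟨g2, hg2⟩ : ∃ g, g = ρ ![0, 0, 1] := ⟨_, rfl⟩
  obtain ⟨g3, hg3⟩ : ∃ g, g = ρ ![1, 1, 1] := ⟨_, rfl⟩
  rw [← hg0, ← hg1, ← hg2, ← hg3] at hgen
  obtain ⟨hM, hd2, hd1, hd0⟩ := hgen
  obtain ⟨M, hMdef⟩ : ∃ M : Matrix (Fin 3) (Fin 3) A, M = Matrix.of ![g0, g1, g2] := ⟨_, rfl⟩
  rw [← hMdef] at hM
  have hMN : M * M⁻¹ = 1 := Matrix.mul_nonsing_inv M hM
  have hNM : M⁻¹ * M = 1 := Matrix.nonsing_inv_mul M hM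
  obtain ⟨y, hy⟩ : ∃ y, y = g3 ᵥ* M⁻¹ := ⟨_, rfl⟩
  have hg3y : g3 = y ᵥ* M := by
    rw [hy, Matrix.vecMul_vecMul, hNM, Matrix.vecMul_one]
  have hj : ∀ j, g3 j = y 0 * g0 j + y 1 * g1 j + y 2 * g2 j := by
    intro j
    rw [hg3y, hMdef]
    simp [Matrix.vecMul, dotProduct, Fin.sum_univ_three]
  have hD2 : Matrix.det (Matrix.of ![g0, g1, g3]) = y 2 * M.det := by
    rw [hMdef, Matrix.det_fin_three, Matrix.det_fin_three]
    simp [hj]
    ring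
  have hD1 : Matrix.det (Matrix.of ![g0, g2, g3]) = - y 1 * M.det := by
    rw [hMdef, Matrix.det_fin_three, Matrix.det_fin_three]
    simp [hj]
    ring
  have hD0 : Matrix.det (Matrix.of ![g1, g2, g3]) = y 0 * M.det := by
    rw [hMdef, Matrix.det_fin_three, Matrix.det_fin_three]
    simp [hj]
    ring
  have hy2 : IsUnit (y 2) := by
    rw [hD2] at hd2; exact isUnit_of_mul_isUnit_left hd2
  have hy1 : IsUnit (y 1) := by
    rw [hD1] at hd1; simpa using isUnit_of_mul_isUnit_left hd1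
  have hy0 : IsUnit (y 0) := by
    rw [hD0] at hd0; exact isUnit_of_mul_isUnit_left hd0
  obtain ⟨z0, hz0⟩ := hy0.exists_right_inv
  obtain ⟨z1, hz1⟩ := hy1.exists_right_inv
  obtain ⟨z2, hz2⟩ := hy2.exists_right_inv
  have hzu0 : IsUnit z0 := IsUnit.of_mul_eq_one_right _ hz0
  have hzu1 : IsUnit z1 := IsUnit.of_mul_eq_one_right _ hz1
  have hzu2 : IsUnit z2 := IsUnit.of_mul_eq_one_right _ hz2
  have hdiag : Matrix.diagonal ![z0, z1, z2] * Matrix.diagonal ![y 0, y 1, y 2] = 1 := by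
    rw [Matrix.diagonal_mul_diagonal, ← Matrix.diagonal_one]
    congr 1
    ext i; fin_cases i <;> simp
    · rw [mul_comm]; exact hz0
    · rw [mul_comm]; exact hz1
    · rw [mul_comm]; exact hz2
  have hrow0 : g0 ᵥ* M⁻¹ = Pi.single 0 1 := by
    have : g0 = Pi.single 0 1 ᵥ* M := by
      rw [Matrix.single_one_vecMul, hMdef]; rfl
    rw [this, Matrix.vecMul_vecMul, hMN, Matrix.vecMul_one]
  have hrow1 : g1 ᵥ* M⁻¹ = Pi.single 1 1 := by
    have : g1 = Pi.single 1 1 ᵥ* M := by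
      rw [Matrix.single_one_vecMul, hMdef]; rfl
    rw [this, Matrix.vecMul_vecMul, hMN, Matrix.vecMul_one]
  have hrow2 : g2 ᵥ* M⁻¹ = Pi.single 2 1 := by
    have : g2 = Pi.single 2 1 ᵥ* M := by
      rw [Matrix.single_one_vecMul, hMdef]; rfl
    rw [this, Matrix.vecMul_vecMul, hMN, Matrix.vecMul_one]
  refine transfer ρ hpt hcol (M⁻¹ * Matrix.diagonal ![z0, z1, z2])
    (Matrix.diagonal ![y 0, y 1, y 2] * M) ?_ ⟨z0, hzu0, ?_⟩ ⟨z1, hzu1, ?_⟩ ⟨z2, hzu2, ?_⟩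
    ⟨1, isUnit_one, ?_⟩
  · rw [Matrix.mul_assoc, ← Matrix.mul_assoc (Matrix.diagonal _), hdiag, Matrix.one_mul, hNM]
  · rw [← hg0, ← Matrix.vecMul_vecMul, hrow0, Matrix.single_vecMul_diagonal]
    ext i; fin_cases i <;> simp
  · rw [← hg1, ← Matrix.vecMul_vecMul, hrow1, Matrix.single_vecMul_diagonal]
    ext i; fin_cases i <;> simp
  · rw [← hg2, ← Matrix.vecMul_vecMul, hrow2, Matrix.single_vecMul_diagonal]
    ext i; fin_cases i <;> simp
  · rw [← hg3, ← Matrix.vecMul_vecMul, ← hy]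
    ext i; rw [Matrix.vecMul_diagonal]
    fin_cases i <;> simp [hz0, hz1, hz2]

end Groth.Agent.S13149
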