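import Groth.Statements.S13150
import Mathlib
import Groth.Agent.Lib.Helper99.W2Ghost

set_option autoImplicit false
universe u
open FrobAlg

namespace Groth.Agent.S13150

/-- Let k be a perfect field of characteristic p and (B, ι, π) a flat lifting over W₂(k) of a Noetherian
k-algebra A. The Frobenius of A lifts to B (a σ₂-semilinear ring endomorphism of B reducing to the
p-th power map) if and only if there is a ring homomorphism θ : B → W₂(A) over A (the zeroth Witt
component of θ(b) is π(b)) with θ ∘ ι equal to the map W₂(k) → W₂(A) induced by k → A. (The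
published statement is for a flat W₂(k)-extension of the structure sheaf of a scheme and says: the
push-out of that extension along the Frobenius O_X → F_*O_X is isomorphic, as an extension by F_*O_X
over W₂(k), to W₂(O_X); by the universal property of the push-out this is the existence of a
morphism of extensions to W₂(O_X), which in the affine case taken here is the map θ.) -/
theorem result
    (p : ℕ) [Fact p.Prime] (k : Type u) [Field k] [CharP k p] [PerfectRing k p]
    (A B : Type u) [CommRing A] [Algebra k A] [IsNoetherianRing A] [CommRing B]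
    (ι : FrobAlg.W2 p k →+* B) (π : B →+* A) (hB : FrobAlg.IsLift p k A B ι π) :
    (∃ Φ : B →+* B, FrobAlg.IsFrobLift p k A B ι π Φ) ↔
      ∃ θ : B →+* FrobAlg.W2 p A,
        (FrobAlg.res p A).comp θ = π ∧ θ.comp ι = WittGrp.truncMap p 2 (algebraMap k A) := by
  have kerB := Groth.Agent.Lib.Helper99.W2Lift.lift_mem_ker_iff p k A B ι π hB
  have hres0 : ∀ y : W2 p A, y.coeff 0 = res p A y := fun y => (res_apply p A y).symm
  constructor
  · rintro ⟨Φ, hΦ⟩
    have hD : ∀ b : B, ∃ d : B, Φ b - b ^ p = (p : B) * d := by
      intro b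
      apply (kerB _).mp
      rw [map_sub, hΦ.red, map_pow, sub_self]
    choose d hd using hD
    let θf : B → W2 p A := fun b => TruncatedWittVector.mk p ![π b, π (d b)]
    have hθ0 : ∀ b, (θf b).coeff 0 = π b := fun b => TruncatedWittVector.coeff_mk _ _
    have hθ1 : ∀ b, (θf b).coeff 1 = π (d b) := fun b => TruncatedWittVector.coeff_mk _ _
    have hθγ : ∀ b, Groth.Agent.Lib.Helper99.W2Ghost.gamma p k A B ι π hB (θf b) = Φ b := by
      intro b
      rw [Groth.Agent.Lib.Helper99.W2Ghost.gamma_apply p k A B ι π hB (θf b) b (d b)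
        (hθ0 b).symm (hθ1 b).symm, ← hd b]
      ring
    have hinj := Groth.Agent.Lib.Helper99.W2Ghost.eq_of_res_eq_of_gamma_eq p k A B ι π hB
    refine ⟨{ toFun := θf
              map_one' := ?_
              map_mul' := ?_
              map_zero' := ?_
              map_add' := ?_ }, ?_, ?_⟩
    · apply hinj
      · rw [hθ0, hres0, map_one, map_one]
      · rw [hθγ, map_one, map_one]
    · intro x y
      apply hinj
      · rw [hθ0, hres0 (θf x * θf y), map_mul π, map_mul (res p A), ← hres0, ← hres0, hθ0, hθ0]
      · rw [hθγ, map_mul Φ, map_mul (Groth.Agent.Lib.Helper99.W2Ghost.gamma p k A B ι π hB), hθγ, hθγ]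
    · apply hinj
      · rw [hθ0, hres0, map_zero, map_zero]
      · rw [hθγ, map_zero, map_zero]
    · intro x y
      apply hinj
      · rw [hθ0, hres0 (θf x + θf y), map_add π, map_add (res p A), ← hres0, ← hres0, hθ0, hθ0]
      · rw [hθγ, map_add Φ, map_add (Groth.Agent.Lib.Helper99.W2Ghost.gamma p k A B ι π hB), hθγ, hθγ]
    · ext b
      change res p A (θf b) = π b
      rw [← hres0, hθ0]
    · refine RingHom.ext fun w => ?_
      change θf (ι w) = _
      apply hinj
      · rw [hθ0, WittGrp.coeff_truncMap]
        have := RingHom.congr_fun hB.comm w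
        rw [RingHom.comp_apply, RingHom.comp_apply, res_apply] at this
        exact this
      · rw [hθγ, Groth.Agent.Lib.Helper99.W2Ghost.gamma_truncMap_algebraMap]
        exact RingHom.congr_fun hΦ.semi w
  · rintro ⟨θ, hθres, hθι⟩
    refine ⟨(Groth.Agent.Lib.Helper99.W2Ghost.gamma p k A B ι π hB).comp θ, hB, ?_, ?_⟩
    · ext w
      rw [RingHom.comp_apply, RingHom.comp_apply, RingHom.comp_apply]
      have := RingHom.congr_fun hθι w
      rw [RingHom.comp_apply] at this
      rw [this, Groth.Agent.Lib.Helper99.W2Ghost.gamma_truncMap_algebraMap]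
    · intro b
      rw [RingHom.comp_apply]
      have h0 : π b = (θ b).coeff 0 := by
        rw [hres0, ← RingHom.comp_apply, hθres]
      obtain ⟨b1, hb1⟩ := hB.surj ((θ b).coeff 1)
      rw [Groth.Agent.Lib.Helper99.W2Ghost.gamma_apply p k A B ι π hB (θ b) b b1 h0 hb1, map_add,
        map_pow, (kerB _).mpr ⟨b1, rfl⟩, add_zero]

end Groth.Agent.S13150
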