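-- Statement S13151
import Groth.Statements.S13151
import Mathlib.Tactic
import Mathlib.RingTheory.Polynomial.ScaleRoots
import Mathlib.RingTheory.IntegralClosure.IntegrallyClosed
import Mathlib.RingTheory.Localization.FractionRing
import Mathlib.RingTheory.Ideal.Quotient.Operations

set_option autoImplicit false
universe u
open CAlg

namespace Groth.Agent.S13151

theorem comap_le {A B : Type u} [CommRing A] [CommRing B]
    [IsDomain A] [IsDomain B] [IsIntegrallyClosed A] [Algebra A B] [Algebra.IsIntegral A B]
    (hinj : Function.Injective (algebraMap A B)) (π : A) :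
    (Ideal.span {algebraMap A B π}).comap (algebraMap A B) ≤ Ideal.span {π} := by
  intro a ha
  rw [Ideal.mem_comap, Ideal.mem_span_singleton'] at ha
  obtain ⟨b, hb⟩ := ha
  rw [Ideal.mem_span_singleton']
  by_cases hπ : π = 0
  · subst hπ
    rw [map_zero, mul_zero] at hb
    have : a = 0 := hinj (by rw [← hb, map_zero])
    exact ⟨0, by rw [this, zero_mul]⟩
  · obtain ⟨P, hPm, hP⟩ := Algebra.IsIntegral.isIntegral (R := A) b
    -- the scaled polynomial kills `a`
    have h1 : Polynomial.aeval (algebraMap A B π * b) (Polynomial.scaleRoots P π) = 0 :=
      Polynomial.scaleRoots_aeval_eq_zero (by rwa [Polynomial.aeval_def])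
    rw [mul_comm, hb, Polynomial.aeval_algebraMap_apply, Polynomial.coe_aeval_eq_eval] at h1
    have h2 : Polynomial.eval a (Polynomial.scaleRoots P π) = 0 := by
      apply hinj
      rw [map_zero, ← h1]
    let K := FractionRing A
    have hπK : algebraMap A K π ≠ 0 := by
      rw [Ne, map_eq_zero_iff _ (IsFractionRing.injective A K)]
      exact hπ
    have h3 := Polynomial.scaleRoots_eval₂_mul (p := P) (algebraMap A K)
      (algebraMap A K a / algebraMap A K π) π
    rw [mul_div_cancel₀ _ hπK, Polynomial.eval₂_at_apply, h2, map_zero] at h3
    have h4 : Polynomial.eval₂ (algebraMap A K) (algebraMap A K a / algebraMap A K π) P = 0 :=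
      (mul_eq_zero.mp h3.symm).resolve_left (pow_ne_zero _ hπK)
    have h5 : IsIntegral A (algebraMap A K a / algebraMap A K π) := ⟨P, hPm, h4⟩
    obtain ⟨c, hc⟩ := IsIntegrallyClosed.isIntegral_iff.mp h5
    refine ⟨c, ?_⟩
    apply IsFractionRing.injective A K
    rw [map_mul, hc, div_mul_cancel₀ _ hπK]

/-- Let A → B be an injective ring homomorphism of integral domains which is integral, with A integrally
closed, and let π be an element of A. Then the contraction to A of the ideal πB is πA, i.e. an
element of A which is a multiple of π in B is already a multiple of π in A; in particular if B/πB is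
an integral domain then A/πA is an integral domain. (The published statement is for an integral
dominant morphism of integral schemes flat over a discrete valuation ring, with normal target and π
a uniformizer; flatness and the valuation ring play no role, so π is an arbitrary element here.) -/
theorem result {A B : Type u} [CommRing A] [CommRing B]
    [IsDomain A] [IsDomain B] [IsIntegrallyClosed A] [Algebra A B] [Algebra.IsIntegral A B]
    (hinj : Function.Injective (algebraMap A B)) (π : A) :
    (Ideal.span {algebraMap A B π}).comap (algebraMap A B) = Ideal.span {π} ∧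
      (IsDomain (B ⧸ Ideal.span {algebraMap A B π}) → IsDomain (A ⧸ Ideal.span {π})) := by
  have hle : Ideal.span {π} ≤ (Ideal.span {algebraMap A B π}).comap (algebraMap A B) := by
    rw [Ideal.span_le, Set.singleton_subset_iff]
    exact Ideal.mem_comap.mpr (Ideal.mem_span_singleton_self _)
  refine ⟨le_antisymm (comap_le hinj π) hle, fun hdom => ?_⟩
  exact Function.Injective.isDomain
    (Ideal.quotientMap (Ideal.span {algebraMap A B π}) (algebraMap A B) hle)
    (Ideal.quotientMap_injective' (comap_le hinj π))

end Groth.Agent.S13151
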