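import Groth.Statements.S13153
import Groth.Agent.Lib.Helper67.KaehlerField
import Mathlib.RingTheory.Flat.FaithfullyFlat.Algebra

set_option autoImplicit false
universe u
open CAlg

namespace Groth.Agent.S13153

/-- Let R be a discrete valuation ring whose fraction field K has characteristic zero, A an integral
domain which is a faithfully flat R-algebra, with fraction field L, such that K is algebraically
closed in L (every element of L algebraic over K is in the image of K). If f ∈ A has vanishing
differential, df = 0 in Ω_{A/R}, then f is the image of an element of R. (The published statement is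
the sheaf form: for a faithfully flat morphism X → Spec R with geometrically integral generic fibre,
the kernel of d : O_X → Ω¹_{X/R} is the inverse image of O_{Spec R}; for integral X, geometric
integrality of the generic fibre in characteristic zero amounts to K being algebraically closed in
the function field, which is the form used here, and this row is the case of global sections over an
affine X = Spec A.) -/
theorem result (R : Type u) [CommRing R] [IsDomain R]
    [IsDiscreteValuationRing R] [CharZero R] (K : Type u) [Field K] [Algebra R K] [IsFractionRing R K]
    (A : Type u) [CommRing A] [IsDomain A] [Algebra R A] [Module.FaithfullyFlat R A]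
    (L : Type u) [Field L] [Algebra A L] [IsFractionRing A L] [Algebra R L] [Algebra K L]
    [IsScalarTower R A L] [IsScalarTower R K L]
    (hac : ∀ x : L, IsAlgebraic K x → x ∈ (algebraMap K L).range)
    (f : A) (hf : KaehlerDifferential.D R A f = 0) : f ∈ (algebraMap R A).range := by
  classical
  have hK0 : CharZero K := charZero_of_injective_algebraMap (IsFractionRing.injective R K)
  have h1 : KaehlerDifferential.D K L (algebraMap A L f) = 0 := by
    rw [← KaehlerDifferential.map_D R K A L, hf, map_zero]
  have halg : IsAlgebraic K (algebraMap A L f) :=
    Groth.Agent.Lib.Helper67.isAlgebraic_of_D_eq_zero _ h1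
  obtain ⟨k, hk⟩ := hac _ halg
  obtain ⟨r, s, hs, rfl⟩ := IsFractionRing.div_surjective (A := R) k
  have hs0 : s ≠ 0 := nonZeroDivisors.ne_zero hs
  have hsK : algebraMap R K s ≠ 0 := by
    simpa using (IsFractionRing.injective R K).ne hs0
  have hinjA : Function.Injective (algebraMap R A) := FaithfulSMul.algebraMap_injective R A
  -- s * f = r in A
  have h2 : algebraMap R A s * f = algebraMap R A r := by
    apply IsFractionRing.injective A L
    rw [map_mul, ← hk, ← IsScalarTower.algebraMap_apply R A L, ← IsScalarTower.algebraMap_apply R A L,
      IsScalarTower.algebraMap_apply R K L s, IsScalarTower.algebraMap_apply R K L r, ← map_mul,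
      mul_div_cancel₀ _ hsK]
  have h3 : r ∈ Ideal.span {s} := by
    rw [← Ideal.comap_map_eq_self_of_faithfullyFlat (B := A) (Ideal.span {s}), Ideal.mem_comap,
      ← h2]
    exact Ideal.mul_mem_right _ _ (Ideal.mem_map_of_mem _ (Ideal.subset_span rfl))
  obtain ⟨c, hc⟩ := Ideal.mem_span_singleton'.mp h3
  refine ⟨c, ?_⟩
  have hsA : algebraMap R A s ≠ 0 := by
    simpa using hinjA.ne hs0
  apply mul_left_cancel₀ hsA
  rw [h2, ← hc, map_mul, mul_comm]

end Groth.Agent.S13153
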