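import Groth.Statements.S13154
import Mathlib.RingTheory.Flat.TorsionFree
import Mathlib.RingTheory.Flat.FaithfullyFlat.Algebra
import Mathlib.Tactic

set_option autoImplicit false
universe u
open scoped TensorProduct
open CAlg

namespace Groth.Agent.S13154

section aux
variable {R : Type u} [CommRing R] [IsDomain R] [IsDiscreteValuationRing R]
  {K : Type u} [Field K] [Algebra R K] [IsFractionRing R K]

/-- clearing denominators in `K ⊗ M` -/
lemma exists_pow_smul_eq_one_tmul {ϖ : R} (hϖ : Irreducible ϖ) {M : Type u} [AddCommGroup M]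
    [Module R M] (y : K ⊗[R] M) : ∃ (n : ℕ) (z : M), (ϖ ^ n) • y = (1 : K) ⊗ₜ[R] z := by
  induction y using TensorProduct.induction_on with
  | zero => exact ⟨0, 0, by simp⟩
  | tmul k m =>
    obtain ⟨r, s, hs, rfl⟩ := IsFractionRing.div_surjective (A := R) k
    have hs0 : s ≠ 0 := nonZeroDivisors.ne_zero hs
    obtain ⟨n, u, hu⟩ := IsDiscreteValuationRing.eq_unit_mul_pow_irreducible hs0 hϖ
    refine ⟨n, (r * ((u⁻¹ : Rˣ) : R)) • m, ?_⟩
    have hsK : algebraMap R K s ≠ 0 := by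
      simpa using (IsFractionRing.injective R K).ne hs0
    have key : (ϖ ^ n) • (algebraMap R K r / algebraMap R K s) =
        (r * ((u⁻¹ : Rˣ) : R)) • (1 : K) := by
      rw [Algebra.smul_def, Algebra.smul_def, mul_one, eq_comm, ← mul_div_assoc,
        eq_div_iff hsK, hu]
      simp only [map_mul, map_pow]
      have : algebraMap R K ((u⁻¹ : Rˣ) : R) * algebraMap R K (u : R) = 1 := by
        rw [← map_mul]; simp
      calc algebraMap R K r * algebraMap R K ((u⁻¹ : Rˣ) : R) *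
            (algebraMap R K (u : R) * algebraMap R K ϖ ^ n)
          = algebraMap R K r * (algebraMap R K ((u⁻¹ : Rˣ) : R) * algebraMap R K (u : R)) *
            algebraMap R K ϖ ^ n := by ring
        _ = algebraMap R K ϖ ^ n * algebraMap R K r := by rw [this]; ring
    rw [TensorProduct.smul_tmul', key, TensorProduct.smul_tmul]
  | add y1 y2 h1 h2 =>
    obtain ⟨n1, z1, h1⟩ := h1
    obtain ⟨n2, z2, h2⟩ := h2
    refine ⟨n1 + n2, ϖ ^ n2 • z1 + ϖ ^ n1 • z2, ?_⟩
    have e1 : ϖ ^ (n1 + n2) • y1 = ϖ ^ n2 • (ϖ ^ n1 • y1) := by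
      rw [smul_smul, pow_add, mul_comm]
    have e2 : ϖ ^ (n1 + n2) • y2 = ϖ ^ n1 • (ϖ ^ n2 • y2) := by rw [smul_smul, pow_add]
    rw [smul_add, e1, e2, h1, h2, TensorProduct.tmul_add, TensorProduct.tmul_smul,
      TensorProduct.tmul_smul]

lemma eq_zero_of_smul_eq_zero_K {M : Type u} [AddCommGroup M] [Module R M] {r : R} (hr : r ≠ 0)
    {y : K ⊗[R] M} (h : r • y = 0) : y = 0 := by
  have hrK : algebraMap R K r ≠ 0 := by simpa using (IsFractionRing.injective R K).ne hr
  have h1 : algebraMap R K r • y = 0 := by rw [algebraMap_smul]; exact h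
  rw [← inv_smul_smul₀ hrK y, h1, smul_zero]

end aux

/-- Let R be a discrete valuation ring with fraction field K, A a faithfully flat R-algebra (an affine
faithfully flat base change S' → S = Spec R) and B₁, B₂ flat R-algebras (two affine S-schemes X₁ =
Spec B₁, X₂ = Spec B₂, flat over S). Suppose given a K-algebra homomorphism φ_K : K ⊗ B₂ → K ⊗ B₁ (a
morphism of the generic fibres X₁,K → X₂,K) and an A-algebra homomorphism φ_A : A ⊗ B₂ → A ⊗ B₁ (a
morphism X₁ ×_S S' → X₂ ×_S S' over S') which coincide after base change to K ⊗ A, in the sense that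
for every b ∈ B₂ the images of φ_K(1 ⊗ b) and φ_A(1 ⊗ b) in (K ⊗ A) ⊗ B₁ agree. Then there is
exactly one R-algebra homomorphism φ : B₂ → B₁ (a morphism X₁ → X₂) whose base changes to K and to A
are φ_K and φ_A. (The published statement assumes only X₂ flat over S; flatness of X₁ is also
needed: with B₂ = R[t], B₁ = R[e]/(e², πe) for a uniformizer π and A = R[x], the maps t ↦ 0 over K
and t ↦ e x over A agree over K ⊗ A = K[x] but come from no map over R.) -/
theorem result (R : Type u) [CommRing R] [IsDomain R]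
    [IsDiscreteValuationRing R] (K : Type u) [Field K] [Algebra R K] [IsFractionRing R K]
    (A : Type u) [CommRing A] [Algebra R A] [Module.FaithfullyFlat R A]
    (B₁ B₂ : Type u) [CommRing B₁] [CommRing B₂] [Algebra R B₁] [Algebra R B₂]
    [Module.Flat R B₁] [Module.Flat R B₂]
    (φK : K ⊗[R] B₂ →ₐ[K] K ⊗[R] B₁) (φA : A ⊗[R] B₂ →ₐ[A] A ⊗[R] B₁)
    (hcomp : ∀ b : B₂,
      Algebra.TensorProduct.map (Algebra.TensorProduct.includeLeft : K →ₐ[R] K ⊗[R] A) (AlgHom.id R B₁)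
          (φK (1 ⊗ₜ b)) =
        Algebra.TensorProduct.map (Algebra.TensorProduct.includeRight : A →ₐ[R] K ⊗[R] A) (AlgHom.id R B₁)
          (φA (1 ⊗ₜ b))) :
    ∃! φ : B₂ →ₐ[R] B₁, (∀ b : B₂, φK (1 ⊗ₜ b) = 1 ⊗ₜ φ b) ∧ (∀ b : B₂, φA (1 ⊗ₜ b) = 1 ⊗ₜ φ b) := by
  classical
  obtain ⟨ϖ, hϖ⟩ := IsDiscreteValuationRing.exists_irreducible R
  have hϖ0 : ϖ ≠ 0 := hϖ.ne_zero
  -- injectivity of B₁ → K ⊗ B₁
  have hinjK : Function.Injective (TensorProduct.mk R K B₁ 1) :=
    Module.Flat.tensorProduct_mk_injective R B₁ K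
  -- A ⊗ B₁ is torsion free
  have htfA : ∀ (r : R), r ≠ 0 → ∀ y : A ⊗[R] B₁, r • y = 0 → y = 0 := by
    intro r hr y hy
    have hfl : Module.Flat R (A ⊗[R] B₁) := inferInstance
    have ht := (Module.Flat.flat_iff_torsion_eq_bot_of_isBezout (R := R)
      (M := A ⊗[R] B₁)).mp hfl
    have hmem : y ∈ Submodule.torsion R (A ⊗[R] B₁) := by
      rw [Submodule.mem_torsion_iff]
      exact ⟨⟨r, mem_nonZeroDivisors_of_ne_zero hr⟩, hy⟩
    rw [ht] at hmem
    exact hmem
  -- the map A ⊗ B₁ → (K ⊗ A) ⊗ B₁ is injective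
  have hjA : Function.Injective
      (Algebra.TensorProduct.map (Algebra.TensorProduct.includeRight : A →ₐ[R] K ⊗[R] A)
        (AlgHom.id R B₁)) := by
    have h0 : Function.Injective (TensorProduct.mk R K A 1) :=
      Module.Flat.tensorProduct_mk_injective R A K
    have h1 : Function.Injective (LinearMap.rTensor B₁ (TensorProduct.mk R K A 1)) :=
      Module.Flat.rTensor_preserves_injective_linearMap (M := B₁) _ h0
    have h2 : ∀ y, Algebra.TensorProduct.map
        (Algebra.TensorProduct.includeRight : A →ₐ[R] K ⊗[R] A) (AlgHom.id R B₁) y =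
        LinearMap.rTensor B₁ (TensorProduct.mk R K A 1) y := by
      intro y
      induction y using TensorProduct.induction_on with
      | zero => simp
      | tmul a c => simp
      | add y1 y2 e1 e2 => rw [map_add, map_add, e1, e2]
    intro y1 y2 h
    apply h1
    rw [← h2, ← h2, h]
  -- key pointwise existence
  have key : ∀ b : B₂, ∃ z : B₁, φK (1 ⊗ₜ b) = 1 ⊗ₜ z ∧ φA (1 ⊗ₜ b) = 1 ⊗ₜ z := by
    intro b
    obtain ⟨n, z₀, hz₀⟩ := exists_pow_smul_eq_one_tmul hϖ (φK (1 ⊗ₜ b))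
    have h1 : (ϖ ^ n) • φA (1 ⊗ₜ b) = (1 : A) ⊗ₜ[R] z₀ := by
      apply hjA
      rw [map_smul, ← hcomp b, ← map_smul, hz₀]
      simp
    obtain ⟨z, hz⟩ : ∃ z : B₁, z₀ = (ϖ ^ n) • z := by
      let I : Ideal B₁ := Ideal.span {algebraMap R B₁ (ϖ ^ n)}
      let q : B₁ →ₗ[R] (B₁ ⧸ I) := (Ideal.Quotient.mkₐ R I).toLinearMap
      have hq : ∀ x : B₁, (ϖ ^ n) • q x = 0 := by
        intro x
        rw [← map_smul]
        refine Ideal.Quotient.eq_zero_iff_mem.mpr ?_
        rw [Algebra.smul_def]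
        exact Ideal.mul_mem_right _ _ (Ideal.subset_span rfl)
      have hkill : ∀ w : A ⊗[R] (B₁ ⧸ I), (ϖ ^ n) • w = 0 := by
        intro w
        induction w using TensorProduct.induction_on with
        | zero => simp
        | tmul a m =>
          obtain ⟨x, rfl⟩ := Ideal.Quotient.mk_surjective m
          rw [← TensorProduct.tmul_smul]
          have : (ϖ ^ n) • (Ideal.Quotient.mk I x) = 0 := hq x
          rw [this, TensorProduct.tmul_zero]
        | add w1 w2 e1 e2 => rw [smul_add, e1, e2, add_zero]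
      have h2 : LinearMap.lTensor A q ((ϖ ^ n) • φA (1 ⊗ₜ b)) = 0 := by
        rw [map_smul]; exact hkill _
      rw [h1, LinearMap.lTensor_tmul] at h2
      have h3 : q z₀ = 0 :=
        Module.FaithfullyFlat.tensorProduct_mk_injective (A := R) (B := A) (B₁ ⧸ I)
          (by simpa using h2)
      have h4 : z₀ ∈ I := Ideal.Quotient.eq_zero_iff_mem.mp h3
      obtain ⟨c, hc⟩ := Ideal.mem_span_singleton'.mp h4
      exact ⟨c, by rw [← hc, Algebra.smul_def, mul_comm]⟩
    subst hz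
    refine ⟨z, ?_, ?_⟩
    · have h5 : (ϖ ^ n) • (φK (1 ⊗ₜ b) - 1 ⊗ₜ z) = 0 := by
        rw [smul_sub, hz₀, TensorProduct.tmul_smul, sub_self]
      exact sub_eq_zero.mp (eq_zero_of_smul_eq_zero_K (pow_ne_zero _ hϖ0) h5)
    · have h5 : (ϖ ^ n) • (φA (1 ⊗ₜ b) - 1 ⊗ₜ z) = 0 := by
        rw [smul_sub, h1, TensorProduct.tmul_smul, sub_self]
      exact sub_eq_zero.mp (htfA _ (pow_ne_zero _ hϖ0) _ h5)
  choose φf hφK hφA using key
  have hone : φf 1 = 1 := by
    apply hinjK
    show (1 : K) ⊗ₜ[R] φf 1 = 1 ⊗ₜ 1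
    rw [← hφK 1, ← Algebra.TensorProduct.one_def, ← Algebra.TensorProduct.one_def, map_one]
  have hmul : ∀ x y, φf (x * y) = φf x * φf y := by
    intro x y
    apply hinjK
    show (1 : K) ⊗ₜ[R] φf (x * y) = 1 ⊗ₜ (φf x * φf y)
    have e1 : (1 : K) ⊗ₜ[R] (x * y) = (1 ⊗ₜ x) * (1 ⊗ₜ y) := by
      rw [Algebra.TensorProduct.tmul_mul_tmul, one_mul]
    have e2 : (1 : K) ⊗ₜ[R] (φf x * φf y) = (1 ⊗ₜ φf x) * (1 ⊗ₜ φf y) := by
      rw [Algebra.TensorProduct.tmul_mul_tmul, one_mul]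
    rw [← hφK, e1, map_mul, hφK, hφK, e2]
  have hadd : ∀ x y, φf (x + y) = φf x + φf y := by
    intro x y
    apply hinjK
    show (1 : K) ⊗ₜ[R] φf (x + y) = 1 ⊗ₜ (φf x + φf y)
    rw [← hφK, TensorProduct.tmul_add, map_add, hφK, hφK, TensorProduct.tmul_add]
  have hzero : φf 0 = 0 := by
    apply hinjK
    show (1 : K) ⊗ₜ[R] φf 0 = 1 ⊗ₜ 0
    rw [← hφK, TensorProduct.tmul_zero, map_zero, TensorProduct.tmul_zero]
  have hcomm : ∀ r : R, φf (algebraMap R B₂ r) = algebraMap R B₁ r := by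
    intro r
    apply hinjK
    show (1 : K) ⊗ₜ[R] φf (algebraMap R B₂ r) = 1 ⊗ₜ (algebraMap R B₁ r)
    rw [← hφK, ← Algebra.TensorProduct.tmul_one_eq_one_tmul,
      ← Algebra.TensorProduct.tmul_one_eq_one_tmul, ← Algebra.TensorProduct.algebraMap_apply,
      ← Algebra.TensorProduct.algebraMap_apply]
    exact (φK.restrictScalars R).commutes r
  let φ : B₂ →ₐ[R] B₁ :=
    { toFun := φf
      map_one' := hone
      map_mul' := hmul
      map_zero' := hzero
      map_add' := hadd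
      commutes' := hcomm }
  refine ⟨φ, ⟨hφK, hφA⟩, ?_⟩
  intro ψ hψ
  ext b
  apply hinjK
  show (1 : K) ⊗ₜ[R] ψ b = 1 ⊗ₜ φf b
  rw [← hψ.1, hφK]

end Groth.Agent.S13154
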