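import Groth.Statements.S13155
import Mathlib

set_option autoImplicit false
universe u
open CAlg

namespace Groth.Agent.S13155

/-- Let R be a discrete valuation ring of characteristic zero with uniformizer π, and A a Noetherian
integrally closed domain which is an R-algebra with injective structure map and in which πA is a
prime ideal (X = Spec A is normal, flat over R, with integral special fibre). Let m ≥ 1 and let f ∈
A be invertible in A[1/π] (so Z^m = f defines a μ_m-torsor over the generic fibre), such that S =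
A[1/π][Z]/(Z^m − f) is an integral domain and, writing B for the integral closure of A in S (the
normalization of X in that cover), πB is a prime ideal of B (the normalization has integral special
fibre). Then f is, up to a unit of A, an m-th power of a power of π: f = π^{mq}·u with q ≥ 0 and u ∈
A^×, so that the cover extends to the μ_m-torsor Z^m = u over all of X. (The published statement is
the existence and uniqueness of the extending μ_m-torsor over a normal faithfully flat R-scheme with
integral fibres, R containing a primitive m-th root of unity; this row is the affine computation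
that carries the proof.) -/
theorem result (R : Type u) [CommRing R]
    [IsDomain R] [IsDiscreteValuationRing R] [CharZero R] (ϖ : R) (hϖ : Irreducible ϖ)
    (A : Type u) [CommRing A] [IsDomain A] [IsNoetherianRing A] [IsIntegrallyClosed A] [Algebra R A]
    (hinj : Function.Injective (algebraMap R A)) (hprime : (Ideal.span {algebraMap R A ϖ}).IsPrime)
    (m : ℕ) (hm : 0 < m) (f : A) (hf : IsUnit (algebraMap A (Localization.Away (algebraMap R A ϖ)) f))
    [IsDomain (AdjoinRoot (Polynomial.X ^ m - Polynomial.C (algebraMap A (Localization.Away (algebraMap R A ϖ)) f)))]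
    (hsp : (Ideal.span {algebraMap A (integralClosure A
        (AdjoinRoot (Polynomial.X ^ m - Polynomial.C (algebraMap A (Localization.Away (algebraMap R A ϖ)) f))))
          (algebraMap R A ϖ)}).IsPrime) :
    ∃ (q : ℕ) (u : Aˣ), f = algebraMap R A ϖ ^ (m * q) * (u : A) := by
  classical
  set π : A := algebraMap R A ϖ with hπdef
  have hπ0 : π ≠ 0 := by
    intro h
    apply hϖ.ne_zero
    apply hinj
    rw [map_zero]
    exact h
  have hπprime : Prime π := (Ideal.span_singleton_prime hπ0).mp hprime
  -- `f` divides a power of `π`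
  obtain ⟨n, hn⟩ := (IsLocalization.Away.algebraMap_isUnit_iff (S := Localization.Away π) π).mp hf
  obtain ⟨a, -, hassoc⟩ := (dvd_prime_pow hπprime n).mp hn
  obtain ⟨u, hu⟩ := hassoc
  -- f * u = π ^ a
  have hfu : f = π ^ a * ((u⁻¹ : Aˣ) : A) := by
    rw [← hu, mul_assoc, Units.mul_inv, mul_one]
  set g : Polynomial (Localization.Away π) :=
    Polynomial.X ^ m - Polynomial.C (algebraMap A (Localization.Away π) f) with hgdef
  -- the root
  have hz : (AdjoinRoot.root g) ^ m = algebraMap A (AdjoinRoot g) f := by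
    have h1 := AdjoinRoot.eval₂_root g
    rw [hgdef, Polynomial.eval₂_sub, Polynomial.eval₂_pow, Polynomial.eval₂_X, Polynomial.eval₂_C,
      sub_eq_zero] at h1
    rw [← hgdef] at h1
    rw [h1, AdjoinRoot.algebraMap_eq']
    rfl
  have hπunit : IsUnit (algebraMap A (AdjoinRoot g) π) := by
    rw [AdjoinRoot.algebraMap_eq']
    exact (IsLocalization.Away.algebraMap_isUnit (S := Localization.Away π) π).map (AdjoinRoot.of g)
  obtain ⟨v, hv⟩ := hπunit
  -- division with remainder
  set q := a / m with hq
  set s := a % m with hs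
  have has : a = m * q + s := (Nat.div_add_mod a m).symm
  have hsm : s < m := Nat.mod_lt a hm
  by_cases hs0 : s = 0
  · refine ⟨q, u⁻¹, ?_⟩
    rw [hfu, has, hs0, add_zero]
  exfalso
  have hspos : 0 < s := Nat.pos_of_ne_zero hs0
  set w : AdjoinRoot g := AdjoinRoot.root g * ((v⁻¹ : (AdjoinRoot g)ˣ) : AdjoinRoot g) ^ q with hwdef
  have hwm : w ^ m = algebraMap A (AdjoinRoot g) (π ^ s * ((u⁻¹ : Aˣ) : A)) := by
    rw [hwdef, mul_pow, hz, hfu, has, map_mul, map_mul, map_pow, map_pow, ← hv, pow_add, ← pow_mul]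
    have : ((v : AdjoinRoot g) ^ (m * q)) * ((v⁻¹ : (AdjoinRoot g)ˣ) : AdjoinRoot g) ^ (q * m) = 1 := by
      rw [mul_comm q m, ← mul_pow, Units.mul_inv, one_pow]
    calc (v : AdjoinRoot g) ^ (m * q) * (v : AdjoinRoot g) ^ s *
          algebraMap A (AdjoinRoot g) ((u⁻¹ : Aˣ) : A) *
          ((v⁻¹ : (AdjoinRoot g)ˣ) : AdjoinRoot g) ^ (q * m)
        = ((v : AdjoinRoot g) ^ (m * q) * ((v⁻¹ : (AdjoinRoot g)ˣ) : AdjoinRoot g) ^ (q * m)) *
          ((v : AdjoinRoot g) ^ s * algebraMap A (AdjoinRoot g) ((u⁻¹ : Aˣ) : A)) := by ring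
      _ = (v : AdjoinRoot g) ^ s * algebraMap A (AdjoinRoot g) ((u⁻¹ : Aˣ) : A) := by
          rw [this, one_mul]
  have hwint : IsIntegral A w := by
    apply IsIntegral.of_pow hm
    rw [hwm]
    exact isIntegral_algebraMap
  let wB : integralClosure A (AdjoinRoot g) := ⟨w, hwint⟩
  set πB : integralClosure A (AdjoinRoot g) := algebraMap A (integralClosure A (AdjoinRoot g)) π
    with hπB
  have hπBval : (πB : AdjoinRoot g) = (v : AdjoinRoot g) := by
    rw [hv]
    rfl
  have hwBm : wB ^ m = πB ^ s * algebraMap A (integralClosure A (AdjoinRoot g)) ((u⁻¹ : Aˣ) : A) := by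
    apply Subtype.ext
    show w ^ m = _
    rw [hwm, map_mul, map_pow]
    rfl
  have hmem : wB ^ m ∈ Ideal.span {πB} := by
    rw [hwBm, Ideal.mem_span_singleton']
    refine ⟨πB ^ (s - 1) * algebraMap A (integralClosure A (AdjoinRoot g)) ((u⁻¹ : Aˣ) : A), ?_⟩
    have : s = (s - 1) + 1 := by omega
    conv_rhs => rw [this, pow_succ]
    ring
  have hwBmem : wB ∈ Ideal.span {πB} := hsp.mem_of_pow_mem m hmem
  obtain ⟨w₁, hw₁⟩ := Ideal.mem_span_singleton'.mp hwBmem
  -- w₁ * πB = wB
  have h2 : (v : AdjoinRoot g) ^ (m - s) * (w₁ : AdjoinRoot g) ^ m =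
      algebraMap A (AdjoinRoot g) ((u⁻¹ : Aˣ) : A) := by
    have h3 : w = (w₁ : AdjoinRoot g) * (v : AdjoinRoot g) := by
      have := congrArg (fun t : integralClosure A (AdjoinRoot g) => (t : AdjoinRoot g)) hw₁
      simp only [MulMemClass.coe_mul, hπBval] at this
      exact this.symm
    have h4 : ((w₁ : AdjoinRoot g) * (v : AdjoinRoot g)) ^ m =
        (v : AdjoinRoot g) ^ s * algebraMap A (AdjoinRoot g) ((u⁻¹ : Aˣ) : A) := by
      rw [← h3, hwm, map_mul, map_pow, hv]
    have h5 : (v : AdjoinRoot g) ^ m = (v : AdjoinRoot g) ^ s * (v : AdjoinRoot g) ^ (m - s) := by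
      rw [← pow_add]
      congr 1
      omega
    rw [mul_pow, h5] at h4
    have h6 : (v : AdjoinRoot g) ^ s * ((v : AdjoinRoot g) ^ (m - s) * (w₁ : AdjoinRoot g) ^ m) =
        (v : AdjoinRoot g) ^ s * algebraMap A (AdjoinRoot g) ((u⁻¹ : Aˣ) : A) := by
      rw [← h4]
      ring
    exact (v ^ s).isUnit.mul_left_cancel h6
  have h7 : πB ^ (m - s) * w₁ ^ m =
      algebraMap A (integralClosure A (AdjoinRoot g)) ((u⁻¹ : Aˣ) : A) := by
    apply Subtype.ext
    simp only [MulMemClass.coe_mul, SubmonoidClass.coe_pow, hπBval]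
    rw [h2]
    rfl
  have h8 : algebraMap A (integralClosure A (AdjoinRoot g)) ((u⁻¹ : Aˣ) : A) ∈ Ideal.span {πB} := by
    rw [← h7, Ideal.mem_span_singleton']
    refine ⟨πB ^ (m - s - 1) * w₁ ^ m, ?_⟩
    have : m - s = (m - s - 1) + 1 := by omega
    conv_rhs => rw [this, pow_succ]
    ring
  have h9 : IsUnit (algebraMap A (integralClosure A (AdjoinRoot g)) ((u⁻¹ : Aˣ) : A)) :=
    (u⁻¹).isUnit.map _
  exact hsp.ne_top (Ideal.eq_top_of_isUnit_mem _ h8 h9)

end Groth.Agent.S13155
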