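import Groth.Statements.S13156
import Groth.Agent.Lib.Helper67.PolyODE

set_option autoImplicit false
universe u
open scoped Polynomial
open CAlg

namespace Groth.Agent.S13156

/-- Let p be a prime number, A a commutative ring in which (p−1)! is invertible, μ an element of A, and
F ∈ A[X] a polynomial of degree at most p − 1 with coefficients a_0, a_1, …. Then the identity
F(S)·F(T) − a_0² = F(S + T + μST) − a_0 holds in the polynomial ring A[S, T] if and only if a_1·F(S)
= F′(S)·(1 + μS) holds in A[S], F′ the formal derivative. (The published statement is over the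
quotient of a discrete valuation ring of residue characteristic p by a nonzero element of its
maximal ideal; only the invertibility of 1, …, p − 1 is used, so an arbitrary such ring A is allowed
here.) -/
theorem result (A : Type u) [CommRing A] (p : ℕ) [Fact p.Prime]
    (hu : IsUnit ((Nat.factorial (p - 1) : ℕ) : A)) (μ : A) (F : A[X]) (hF : F.natDegree < p) :
    (Polynomial.aeval (MvPolynomial.X 0 : MvPolynomial (Fin 2) A) F *
          Polynomial.aeval (MvPolynomial.X 1 : MvPolynomial (Fin 2) A) F - MvPolynomial.C (F.coeff 0 ^ 2) =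
        Polynomial.aeval (MvPolynomial.X 0 + MvPolynomial.X 1 +
            MvPolynomial.C μ * MvPolynomial.X 0 * MvPolynomial.X 1 : MvPolynomial (Fin 2) A) F -
          MvPolynomial.C (F.coeff 0)) ↔
      F * Polynomial.C (F.coeff 1) = Polynomial.derivative F * (1 + Polynomial.C μ * Polynomial.X) := by
  classical
  rw [← Groth.Agent.Lib.Helper67.functional_iff_ode p hu μ F hF]
  -- the two comparison maps
  let ψ : MvPolynomial (Fin 2) A →ₐ[A] A[X][X] :=
    MvPolynomial.aeval ![(Polynomial.C Polynomial.X : A[X][X]), (Polynomial.X : A[X][X])]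
  let θ : A[X][X] →ₐ[A] MvPolynomial (Fin 2) A :=
    Polynomial.eval₂AlgHom (Polynomial.aeval (MvPolynomial.X 0 : MvPolynomial (Fin 2) A))
      (MvPolynomial.X 1) (fun _ => Commute.all _ _)
  have hψ0 : ψ (MvPolynomial.X 0) = Polynomial.C Polynomial.X := by
    simp [ψ]
  have hψ1 : ψ (MvPolynomial.X 1) = Polynomial.X := by
    simp [ψ]
  have hψC : ∀ a : A, ψ (MvPolynomial.C a) = Polynomial.C (Polynomial.C a) := by
    intro a
    have : ψ (MvPolynomial.C a) = algebraMap A A[X][X] a := by
      simp [ψ]
    rw [this]; rfl
  have hθC : ∀ G : A[X], θ (Polynomial.C G) = Polynomial.aeval (MvPolynomial.X 0) G := by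
    intro G
    simp [θ]
  have hθX : θ Polynomial.X = MvPolynomial.X 1 := by
    simp [θ]
  have hθCC : ∀ a : A, θ (Polynomial.C (Polynomial.C a)) = MvPolynomial.C a := by
    intro a
    rw [hθC, Polynomial.aeval_C]; rfl
  have hθCX : θ (Polynomial.C Polynomial.X) = MvPolynomial.X 0 := by
    rw [hθC, Polynomial.aeval_X]
  constructor
  · intro h
    have h1 := congrArg ψ h
    simp only [map_sub, map_mul, ← Polynomial.aeval_algHom_apply, hψ0, hψ1, hψC, map_add] at h1
    have e : (Polynomial.C Polynomial.X + Polynomial.X +
        Polynomial.C (Polynomial.C μ) * Polynomial.C Polynomial.X * Polynomial.X : A[X][X]) =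
        Polynomial.C Polynomial.X + Polynomial.X * Polynomial.C (1 + Polynomial.C μ * Polynomial.X) := by
      simp only [map_add, map_mul, map_one]
      ring
    rw [e] at h1
    exact h1
  · intro h
    have h1 := congrArg θ h
    simp only [map_sub, map_mul, ← Polynomial.aeval_algHom_apply, hθCX, hθX, hθCC, map_add,
      map_one] at h1
    have e : (MvPolynomial.X 0 + MvPolynomial.X 1 * (1 + MvPolynomial.C μ * MvPolynomial.X 0) :
        MvPolynomial (Fin 2) A) =
        MvPolynomial.X 0 + MvPolynomial.X 1 + MvPolynomial.C μ * MvPolynomial.X 0 * MvPolynomial.X 1 := by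
      ring
    rw [e] at h1
    exact h1

end Groth.Agent.S13156
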