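-- Statement S13157
import Groth.Statements.S13157
import Mathlib.Tactic

set_option autoImplicit false
universe u
open scoped Polynomial
open CAlg

namespace Groth.Agent.S13157

/-- the differential equation, coefficientwise -/
theorem eqn_iff (A : Type u) [CommRing A] (μ : A) (F : A[X]) :
    F * Polynomial.C (F.coeff 1) = Polynomial.derivative F * (1 + Polynomial.C μ * Polynomial.X) ↔
      ∀ m : ℕ, F.coeff m * F.coeff 1 =
        F.coeff (m + 1) * ((m : A) + 1) + μ * ((m : A) * F.coeff m) := by
  rw [Polynomial.ext_iff]
  refine forall_congr' fun m => ?_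
  have h1 : (Polynomial.derivative F * (1 + Polynomial.C μ * Polynomial.X)).coeff m =
      F.coeff (m + 1) * ((m : A) + 1) + μ * ((m : A) * F.coeff m) := by
    rw [mul_add, mul_one, Polynomial.coeff_add, Polynomial.coeff_derivative]
    congr 1
    rw [mul_comm (Polynomial.C μ), ← mul_assoc, Polynomial.coeff_mul_C]
    cases m with
    | zero => simp
    | succ m =>
      rw [Polynomial.coeff_mul_X, Polynomial.coeff_derivative]
      push_cast
      ring
  rw [h1, Polynomial.coeff_mul_C]

/-- (i) ⇔ (ii): let p be a prime number, A a commutative ring in which (p−1)! is invertible, μ ∈ A, and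
F ∈ A[X] a polynomial of degree at most p − 1 with constant term a_0 = 1 and coefficients a_1, a_2,
…. Then the relations a_{r−1}·a_1 = (r − 1)μ·a_{r−1} + r·a_r for 1 ≤ r ≤ p (with a_p = 0), written
here as the single identity a_1·F = F′·(1 + μX), hold if and only if r!·a_r = ∏_{k=0}^{r−1} (a_1 −
kμ) for every 1 ≤ r ≤ p − 1 and ∏_{k=0}^{p−1} (a_1 − kμ) = 0. (The published statement lists the
relations only for 1 ≤ r ≤ p − 1, while its proof uses and derives the relation for r = p as well,
which is needed for the vanishing of the last product; it is included here. The published setting is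
the quotient of a discrete valuation ring of residue characteristic p by a nonzero non-unit; only
the invertibility of 1, …, p − 1 is used.) -/
theorem result (A : Type u) [CommRing A] (p : ℕ) [Fact p.Prime]
    (hu : IsUnit ((Nat.factorial (p - 1) : ℕ) : A)) (μ : A) (F : A[X]) (hF : F.natDegree < p)
    (h0 : F.coeff 0 = 1) :
    F * Polynomial.C (F.coeff 1) = Polynomial.derivative F * (1 + Polynomial.C μ * Polynomial.X) ↔
      ((∀ r : ℕ, 1 ≤ r → r < p →
          (r.factorial : A) * F.coeff r = ∏ k ∈ Finset.range r, (F.coeff 1 - (k : A) * μ)) ∧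
        ∏ k ∈ Finset.range p, (F.coeff 1 - (k : A) * μ) = 0) := by
  have hp : 0 < p := (Fact.out : p.Prime).pos
  have hfu : ∀ r : ℕ, r < p → IsUnit ((r.factorial : ℕ) : A) := by
    intro r hr
    have hd : (r.factorial : ℕ) ∣ (p - 1).factorial := Nat.factorial_dvd_factorial (by omega)
    exact isUnit_of_dvd_unit (Nat.cast_dvd_cast (α := A) hd) hu
  have hcoeff : ∀ m : ℕ, p ≤ m → F.coeff m = 0 := fun m hm =>
    Polynomial.coeff_eq_zero_of_natDegree_lt (by omega)
  rw [eqn_iff]
  constructor
  · intro h
    -- the product formula for all r ≤ p - 1 (including r = 0)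
    have hprod : ∀ r : ℕ, r < p →
        (r.factorial : A) * F.coeff r = ∏ k ∈ Finset.range r, (F.coeff 1 - (k : A) * μ) := by
      intro r
      induction r with
      | zero => intro _; simp [h0]
      | succ r ih =>
        intro hr
        have ihr := ih (by omega)
        rw [Finset.prod_range_succ, ← ihr, Nat.factorial_succ]
        push_cast
        linear_combination (-(r.factorial : A)) * h r
    refine ⟨fun r _ hr => hprod r hr, ?_⟩
    obtain ⟨q, rfl⟩ : ∃ q, p = q + 1 := ⟨p - 1, by omega⟩
    rw [Finset.prod_range_succ, ← hprod q (by omega)]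
    have hq := h q
    rw [hcoeff (q + 1) le_rfl, zero_mul, zero_add] at hq
    linear_combination (q.factorial : A) * hq
  · rintro ⟨h1, h2⟩ m
    have hprod : ∀ r : ℕ, r < p →
        (r.factorial : A) * F.coeff r = ∏ k ∈ Finset.range r, (F.coeff 1 - (k : A) * μ) := by
      intro r hr
      rcases Nat.eq_zero_or_pos r with rfl | hpos
      · simp [h0]
      · exact h1 r hpos hr
    rcases lt_trichotomy (m + 1) p with hlt | heq | hgt
    · -- m + 1 < p
      have e1 := hprod (m + 1) hlt
      have e2 := hprod m (by omega)
      rw [Finset.prod_range_succ, ← e2, Nat.factorial_succ] at e1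
      push_cast at e1
      obtain ⟨u, hu'⟩ := hfu m (by omega)
      have e3 : (u : A) * (F.coeff m * F.coeff 1 -
          (F.coeff (m + 1) * ((m : A) + 1) + μ * ((m : A) * F.coeff m))) = 0 := by
        rw [hu']
        linear_combination -e1
      have e4 := congrArg (fun x => (↑u⁻¹ : A) * x) e3
      simp only [← mul_assoc, Units.inv_mul, one_mul, mul_zero] at e4
      linear_combination e4
    · -- m + 1 = p
      have e2 := hprod m (by omega)
      rw [← heq, Finset.prod_range_succ, ← e2] at h2
      rw [hcoeff (m + 1) (by omega), zero_mul, zero_add]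
      obtain ⟨u, hu'⟩ := hfu m (by omega)
      have e3 : (u : A) * (F.coeff m * F.coeff 1 - μ * ((m : A) * F.coeff m)) = 0 := by
        rw [hu']
        linear_combination h2
      have e4 := congrArg (fun x => (↑u⁻¹ : A) * x) e3
      simp only [← mul_assoc, Units.inv_mul, one_mul, mul_zero] at e4
      linear_combination e4
    · rw [hcoeff m (by omega), hcoeff (m + 1) (by omega)]
      ring

end Groth.Agent.S13157
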