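import Groth.Statements.S13158
import Mathlib.Algebra.CharP.Lemmas
import Mathlib.RingTheory.Flat.FaithfullyFlat.Algebra
import Mathlib.RingTheory.Localization.FractionRing
import Mathlib.Tactic

set_option autoImplicit false
universe u
open CAlg

namespace Groth.Agent.S13158

section aux
variable {A : Type u} [CommRing A]

/-- one step, easy direction -/
lemma step_mpr (p : ℕ) (hp : p.Prime) (a x : A) (ha : a ^ (p - 1) ∣ (p : A)) (h : a ∣ x - 1) :
    a ^ p ∣ x ^ p - 1 := by
  obtain ⟨y, hy⟩ := h
  obtain ⟨u, hu⟩ := ha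
  have hx : x = a * y + 1 := by rw [← hy]; ring
  obtain ⟨r, hr⟩ := exists_add_pow_prime_eq hp (a * y) 1
  have hpp : a ^ p = a ^ (p - 1) * a := by
    rw [← pow_succ, Nat.sub_add_cancel hp.one_lt.le]
  refine ⟨y ^ p + u * y * r, ?_⟩
  rw [hx, hr, hu, hpp]
  have : (a * y) ^ p = a ^ (p - 1) * a * y ^ p := by rw [mul_pow, hpp]
  rw [this]
  ring

/-- one step, hard direction -/
lemma step_mp [IsDomain A] [IsIntegrallyClosed A] (p : ℕ) (hp : p.Prime) (a x : A) (ha0 : a ≠ 0)
    (ha : a ^ (p - 1) ∣ (p : A)) (h : a ^ p ∣ x ^ p - 1) : a ∣ x - 1 := by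
  obtain ⟨c, hc⟩ := h
  obtain ⟨u, hu⟩ := ha
  set y := x - 1 with hy
  have hx : x = y + 1 := by rw [hy]; ring
  obtain ⟨r, hr⟩ := exists_add_pow_prime_eq hp y 1
  have hpp : a ^ p = a ^ (p - 1) * a := by
    rw [← pow_succ, Nat.sub_add_cancel hp.one_lt.le]
  -- y ^ p = a ^ p * c - a ^ (p-1) * u * y * r
  have hyp : y ^ p = a ^ p * c - a ^ (p - 1) * u * y * r := by
    have h1 : x ^ p = y ^ p + 1 + (p : A) * y * r := by
      rw [hx, hr]; ring
    have h2 : y ^ p = (x ^ p - 1) - (p : A) * y * r := by rw [h1]; ring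
    rw [h2, hc, hu]
  -- work in the fraction field
  let K := FractionRing A
  have haK : algebraMap A K a ≠ 0 := by
    simpa using (IsFractionRing.injective A K).ne ha0
  let z : K := algebraMap A K y / algebraMap A K a
  have hz : IsIntegral A z := by
    refine ⟨Polynomial.X ^ p + (Polynomial.C (u * r) * Polynomial.X - Polynomial.C c), ?_, ?_⟩
    · apply Polynomial.monic_X_pow_add
      refine lt_of_le_of_lt (Polynomial.degree_sub_le _ _) ?_
      refine max_lt ?_ ?_
      · refine lt_of_le_of_lt (Polynomial.degree_C_mul_X_le _) ?_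
        exact_mod_cast hp.one_lt
      · refine lt_of_le_of_lt Polynomial.degree_C_le ?_
        exact_mod_cast hp.pos
    · have h3 := congrArg (algebraMap A K) hyp
      simp only [map_sub, map_mul, map_pow] at h3
      simp only [Polynomial.eval₂_add, Polynomial.eval₂_sub, Polynomial.eval₂_mul,
        Polynomial.eval₂_pow, Polynomial.eval₂_X, Polynomial.eval₂_C, map_mul]
      have h4 : (algebraMap A K a) ^ p ≠ 0 := pow_ne_zero _ haK
      have h5 : (algebraMap A K a) ^ (p - 1) ≠ 0 := pow_ne_zero _ haK
      have hpp' : (algebraMap A K a) ^ p = (algebraMap A K a) ^ (p - 1) * algebraMap A K a := by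
        rw [← pow_succ, Nat.sub_add_cancel hp.one_lt.le]
      apply mul_left_cancel₀ h4
      rw [mul_zero]
      have h6 : algebraMap A K a ^ p * z ^ p = algebraMap A K y ^ p := by
        rw [← mul_pow, mul_div_cancel₀ _ haK]
      have h7 : algebraMap A K a * z = algebraMap A K y := mul_div_cancel₀ _ haK
      calc algebraMap A K a ^ p * (z ^ p + (algebraMap A K u * algebraMap A K r * z -
              algebraMap A K c))
          = algebraMap A K a ^ p * z ^ p + (algebraMap A K a ^ (p - 1) * algebraMap A K u *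
              algebraMap A K r * (algebraMap A K a * z) - algebraMap A K a ^ p *
              algebraMap A K c) := by rw [hpp']; ring
        _ = 0 := by rw [h6, h7, h3]; ring
  obtain ⟨w, hw⟩ := IsIntegrallyClosed.isIntegral_iff.mp hz
  refine ⟨w, ?_⟩
  apply IsFractionRing.injective A K
  rw [map_mul, hw]
  exact (mul_div_cancel₀ _ haK).symm

end aux

/-- Let R be a discrete valuation ring of characteristic zero whose maximal ideal contains the prime
number p, let n ≥ 1, and let λ be a nonzero element of R such that λ^(p^(n−1)(p−1)) divides p (the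
condition v(p) ≥ p^(n−1)(p−1)·v(λ) under which the polynomial ((1 + λT)^(p^n) − 1)/λ^(p^n) has
coefficients in R). Let A be an integrally closed integral domain which is a faithfully flat
R-algebra. Then for every unit x of A, λ^(p^n) divides x^(p^n) − 1 in A if and only if λ divides x −
1 in A. -/
theorem result (R : Type u) [CommRing R]
    [IsDomain R] [IsDiscreteValuationRing R] [CharZero R] (p n : ℕ) [Fact p.Prime] (hn : 1 ≤ n)
    (hp : (p : R) ∈ IsLocalRing.maximalIdeal R) (lam : R) (hlam : lam ≠ 0)
    (hstar : lam ^ (p ^ (n - 1) * (p - 1)) ∣ (p : R))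
    (A : Type u) [CommRing A] [IsDomain A] [IsIntegrallyClosed A] [Algebra R A] [Module.FaithfullyFlat R A]
    (x : Aˣ) :
    (algebraMap R A lam ^ p ^ n ∣ (x : A) ^ p ^ n - 1) ↔ (algebraMap R A lam ∣ (x : A) - 1) := by
  classical
  have hpr : p.Prime := Fact.out
  have hinj : Function.Injective (algebraMap R A) := FaithfulSMul.algebraMap_injective R A
  set a : A := algebraMap R A lam with ha
  have ha0 : a ≠ 0 := by
    rw [ha]; simpa using hinj.ne hlam
  have hstarA : a ^ (p ^ (n - 1) * (p - 1)) ∣ (p : A) := by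
    have := map_dvd (algebraMap R A) hstar
    simpa [ha] using this
  -- the divisibility needed at stage i
  have hdiv : ∀ i, i < n → (a ^ p ^ i) ^ (p - 1) ∣ (p : A) := by
    intro i hi
    refine dvd_trans ?_ hstarA
    rw [← pow_mul]
    apply pow_dvd_pow
    exact Nat.mul_le_mul_right _ (Nat.pow_le_pow_right hpr.pos (by omega))
  have main : ∀ i, i ≤ n → ((a ^ p ^ i ∣ (x : A) ^ p ^ i - 1) ↔ (a ∣ (x : A) - 1)) := by
    intro i
    induction i with
    | zero => intro _; simp
    | succ i ih =>
      intro hi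
      rw [← ih (Nat.le_of_succ_le hi)]
      have e1 : a ^ p ^ (i + 1) = (a ^ p ^ i) ^ p := by rw [← pow_mul, pow_succ]
      have e2 : (x : A) ^ p ^ (i + 1) = ((x : A) ^ p ^ i) ^ p := by rw [← pow_mul, pow_succ]
      rw [e1, e2]
      constructor
      · exact step_mp p hpr _ _ (pow_ne_zero _ ha0) (hdiv i hi)
      · exact step_mpr p hpr _ _ (hdiv i hi)
  exact main n le_rfl

end Groth.Agent.S13158
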