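import Groth.Statements.S13159
import Mathlib.Tactic
import Mathlib.RingTheory.DedekindDomain.Dvr
import Mathlib.RingTheory.IntegralClosure.IntegrallyClosed

set_option autoImplicit false
universe u
open CAlg

namespace Groth.Agent.S13159

/-- Let R be a discrete valuation ring with fraction field K, C an R-algebra which is finitely generated
as an R-module (the coordinate ring of a finite R-scheme G), and A an integral domain which is an
R-algebra with injective structure map and fraction field L, K → L being compatible, such that every
element of L algebraic over K lies in the image of K (the condition satisfied by the rings of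
nonempty opens of an R-scheme with geometrically integral fibres). Then every R-algebra homomorphism
C → A factors uniquely through the structure map R → A: the points of G with values in A are the
R-points of G. (The published statement is that for Y → Spec R with geometrically integral fibres
and G finite flat, the map H¹(Y, G) → H⁰(Y_Zar, R¹f_*G) from the Leray spectral sequence of Y_fl →
Y_Zar is bijective; this row is the step asserting that G restricted to the Zariski site of Y is the
constant sheaf G(R), for an affine open with function ring A.) -/
theorem result (R : Type u) [CommRing R]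
    [IsDomain R] [IsDiscreteValuationRing R] (K : Type u) [Field K] [Algebra R K] [IsFractionRing R K]
    (C : Type u) [CommRing C] [Algebra R C] [Module.Finite R C]
    (A : Type u) [CommRing A] [IsDomain A] [Algebra R A] (hinj : Function.Injective (algebraMap R A))
    (L : Type u) [Field L] [Algebra A L] [IsFractionRing A L] [Algebra R L] [Algebra K L]
    [IsScalarTower R A L] [IsScalarTower R K L]
    (hac : ∀ x : L, IsAlgebraic K x → x ∈ (algebraMap K L).range)
    (φ : C →ₐ[R] A) : ∃! ψ : C →ₐ[R] R, φ = (Algebra.ofId R A).comp ψ := by
  have hAL : Function.Injective (algebraMap A L) := IsFractionRing.injective A L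
  -- every value of φ comes from R
  have key : ∀ c : C, ∃ r : R, algebraMap R A r = φ c := by
    intro c
    have hint : IsIntegral R (φ c) := (Algebra.IsIntegral.isIntegral (R := R) c).map φ
    have hintL : IsIntegral R (algebraMap A L (φ c)) :=
      hint.map (IsScalarTower.toAlgHom R A L)
    have halg : IsAlgebraic K (algebraMap A L (φ c)) := (hintL.tower_top).isAlgebraic
    obtain ⟨x, hx⟩ := hac _ halg
    have hxint : IsIntegral R x := by
      rw [← isIntegral_algebraMap_iff (algebraMap K L).injective (R := R), hx]
      exact hintL
    obtain ⟨r, hr⟩ := IsIntegrallyClosed.isIntegral_iff.mp hxint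
    refine ⟨r, hAL ?_⟩
    rw [← hx, ← hr, ← IsScalarTower.algebraMap_apply, ← IsScalarTower.algebraMap_apply]
  choose ψ₀ hψ₀ using key
  have hψ₀_unique : ∀ c r, algebraMap R A r = φ c → r = ψ₀ c := fun c r hr =>
    hinj (hr.trans (hψ₀ c).symm)
  let ψ : C →ₐ[R] R :=
    { toFun := ψ₀
      map_one' := by
        symm; apply hψ₀_unique; rw [map_one, map_one]
      map_mul' := fun a b => by
        symm; apply hψ₀_unique; rw [map_mul, map_mul, hψ₀, hψ₀]
      map_zero' := by
        symm; apply hψ₀_unique; rw [map_zero, map_zero]
      map_add' := fun a b => by
        symm; apply hψ₀_unique; rw [map_add, map_add, hψ₀, hψ₀]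
      commutes' := fun r => by
        symm; apply hψ₀_unique; rw [AlgHom.commutes]; rfl }
  refine ⟨ψ, ?_, ?_⟩
  · ext c
    change φ c = algebraMap R A (ψ₀ c)
    rw [hψ₀]
  · intro ψ' hψ'
    ext c
    change ψ' c = ψ₀ c
    apply hψ₀_unique
    rw [hψ']
    rfl

end Groth.Agent.S13159
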