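import Groth.Statements.S13160
import Mathlib
import Groth.Agent.Lib.Helper68.WittAddHom

set_option autoImplicit false
universe u
open CAlg

namespace Groth.Agent.S13160

/-- Let R be a discrete valuation ring, p a prime number and λ an element of R dividing p (so that R/λR
is an 𝔽_p-algebra), and let a and b be p-typical Witt vectors with coefficients in R/λR which are
killed by the Frobenius endomorphism. Then the Witt sum a + b has components a_n + b_n for every n.
(The published statement allows an arbitrary λ ∈ R and is stated for Witt vectors with finitely many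
nonzero components; this row assumes that λ divides p, so that p = 0 in R/λR, and allows all Witt
vectors.) -/
theorem result (R : Type u) [CommRing R] [IsDomain R]
    [IsDiscreteValuationRing R] (p : ℕ) [Fact p.Prime] (lam : R) (hlam : lam ∣ (p : R))
    (a b : WittVector p (R ⧸ Ideal.span {lam})) (ha : WittVector.frobenius a = 0)
    (hb : WittVector.frobenius b = 0) (n : ℕ) : (a + b).coeff n = a.coeff n + b.coeff n := by
  rcases subsingleton_or_nontrivial (R ⧸ Ideal.span {lam}) with hS | hS
  · exact Subsingleton.elim _ _
  have hp0 : ((p : ℕ) : R ⧸ Ideal.span {lam}) = 0 := by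
    have hmem : ((p : R)) ∈ Ideal.span {lam} := Ideal.mem_span_singleton.mpr hlam
    have h := Ideal.Quotient.eq_zero_iff_mem.mpr hmem
    rwa [map_natCast] at h
  haveI : CharP (R ⧸ Ideal.span {lam}) p := by
    have h := CharP.ringChar_of_prime_eq_zero (Fact.out : p.Prime) hp0
    rw [← h]
    exact ringChar.charP _
  have hax : ∀ k, a.coeff k ^ p = 0 := by
    intro k
    have h := congrArg (fun w : WittVector p (R ⧸ Ideal.span {lam}) => w.coeff k) ha
    simpa [WittVector.coeff_frobenius_charP] using h
  have hbx : ∀ k, b.coeff k ^ p = 0 := by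
    intro k
    have h := congrArg (fun w : WittVector p (R ⧸ Ideal.span {lam}) => w.coeff k) hb
    simpa [WittVector.coeff_frobenius_charP] using h
  rw [WittVector.add_coeff]
  apply Groth.Agent.Lib.Helper68.WittAddHom.peval_wittAdd_of_vanish p a.coeff b.coeff n
  intro d hlow hsum
  have hval : ∀ v, (Groth.Agent.Lib.Helper68.WittAddHom.val a.coeff b.coeff v) ^ p = 0 := by
    rintro ⟨i, k⟩
    fin_cases i
    · exact hax k
    · exact hbx k
  choose r hr using fun v => Ideal.Quotient.mk_surjective (I := Ideal.span {lam})
    (Groth.Agent.Lib.Helper68.WittAddHom.val a.coeff b.coeff v)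
  have hdvd : ∀ v ∈ d.support, lam ∣ r v ^ p := by
    intro v _
    rw [← Ideal.mem_span_singleton, ← Ideal.Quotient.eq_zero_iff_mem, map_pow, hr, hval]
  have hmain := Groth.Agent.Lib.Helper68.WittAddHom.dvd_prod_pow_of_dvd_pow p lam
    (Fact.out : p.Prime).ne_zero d.support r (fun v => d v) hsum hdvd
  unfold Groth.Agent.Lib.Helper68.WittAddHom.mv
  have h2 : ∏ v ∈ d.support, Groth.Agent.Lib.Helper68.WittAddHom.val a.coeff b.coeff v ^ d v =
      Ideal.Quotient.mk (Ideal.span {lam}) (∏ v ∈ d.support, r v ^ d v) := by
    rw [map_prod]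
    refine Finset.prod_congr rfl fun v _ => ?_
    rw [map_pow, hr]
  rw [h2, Ideal.Quotient.eq_zero_iff_mem, Ideal.mem_span_singleton]
  exact hmain

end Groth.Agent.S13160
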