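import Groth.Statements.S13161
import Mathlib.RingTheory.Flat.TorsionFree
import Mathlib.RingTheory.DiscreteValuationRing.Basic
import Mathlib.RingTheory.Localization.FractionRing
import Mathlib.Tactic

set_option autoImplicit false
universe u
open scoped TensorProduct
open CAlg

namespace Groth.Agent.S13161

/-- Let R be a discrete valuation ring with fraction field K, A an R-algebra which is semireflexive as
an R-module (the map to its double dual is injective: every nonzero a ∈ A has an R-linear form f : A
→ R with f(a) ≠ 0), and B an A-algebra which is finitely generated as an A-module and flat over R.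
Suppose B ⊗ K is semireflexive as a module over A ⊗ K, which for such B amounts to: every nonzero b
∈ B has an A-linear map g : B → A ⊗_R K with g(b) ≠ 0. Then B is semireflexive as an R-module: every
nonzero b ∈ B has an R-linear form h : B → R with h(b) ≠ 0. (The published statement phrases the
hypothesis on B_K as an A_K-module; for B flat over R and finite over A this is the elementwise
condition used here.) -/
theorem result (R : Type u) [CommRing R] [IsDomain R]
    [IsDiscreteValuationRing R] (K : Type u) [Field K] [Algebra R K] [IsFractionRing R K]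
    (A B : Type u) [CommRing A] [CommRing B] [Algebra R A] [Algebra R B] [Algebra A B] [IsScalarTower R A B]
    [Module.Finite A B] [Module.Flat R B]
    (hA : ∀ a : A, a ≠ 0 → ∃ f : A →ₗ[R] R, f a ≠ 0)
    (hBK : ∀ b : B, b ≠ 0 → ∃ g : B →ₗ[A] A ⊗[R] K, g b ≠ 0) :
    ∀ b : B, b ≠ 0 → ∃ h : B →ₗ[R] R, h b ≠ 0 := by
  classical
  intro b hb
  obtain ⟨g, hg⟩ := hBK b hb
  -- a uniformizer
  obtain ⟨ϖ, hϖ⟩ := IsDiscreteValuationRing.exists_irreducible R
  have hϖ0 : ϖ ≠ 0 := hϖ.ne_zero
  -- A is torsion free, hence flat
  have htf : Submodule.torsion R A = ⊥ := by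
    rw [eq_bot_iff]
    intro a ha
    rw [Submodule.mem_torsion_iff] at ha
    obtain ⟨r, hr⟩ := ha
    rw [Submodule.mem_bot]
    by_contra ha0
    obtain ⟨f, hf⟩ := hA a ha0
    apply hf
    have hr' : (r : R) • a = 0 := hr
    have h1 : (r : R) • f a = 0 := by rw [← map_smul, hr', map_zero]
    have hr0 : (r : R) ≠ 0 := nonZeroDivisors.coe_ne_zero r
    exact (smul_eq_zero.mp h1).resolve_left hr0
  have hflat : Module.Flat R A :=
    (Module.Flat.flat_iff_torsion_eq_bot_of_isBezout (R := R) (M := A)).mpr htf
  -- the map ι : A → A ⊗ K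
  let ι : A →ₗ[R] A ⊗[R] K := (TensorProduct.mk R A K).flip 1
  have hι : ∀ a, ι a = a ⊗ₜ[R] (1 : K) := fun a => rfl
  have hιinj : Function.Injective ι := by
    have h1 : Function.Injective (LinearMap.lTensor A (Algebra.linearMap R K)) :=
      Module.Flat.lTensor_preserves_injective_linearMap (M := A) (Algebra.linearMap R K)
        (IsFractionRing.injective R K)
    have h2 : ι = (LinearMap.lTensor A (Algebra.linearMap R K)) ∘ₗ
        (TensorProduct.rid R A).symm.toLinearMap := by
      ext a
      simp [ι]
    rw [h2]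
    exact h1.comp (TensorProduct.rid R A).symm.injective
  -- multiplication by a nonzero r is injective on A ⊗ K
  have hsmul : ∀ (r : R), r ≠ 0 → ∀ y : A ⊗[R] K, r • y = 0 → y = 0 := by
    intro r hr y hy
    have hu : IsUnit (algebraMap R K r) :=
      IsUnit.mk0 _ (by simpa using (IsFractionRing.injective R K).ne hr)
    let e : K →ₗ[R] K := LinearMap.lsmul R K r
    let e' : K →ₗ[R] K := (algebraMap R K r)⁻¹ • LinearMap.id
    have hee : e' ∘ₗ e = LinearMap.id := by
      ext
      simp [e, e', Algebra.smul_def, hu.ne_zero]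
    have h3 : LinearMap.lTensor A e y = r • y := by
      clear hy
      induction y using TensorProduct.induction_on with
      | zero => simp
      | tmul a k => simp [e, TensorProduct.tmul_smul]
      | add y1 y2 h1 h2 => simp [h1, h2]
    have h4 : LinearMap.lTensor A e' (LinearMap.lTensor A e y) = y := by
      rw [← LinearMap.comp_apply, ← LinearMap.lTensor_comp, hee]
      simp
    rw [← h4, h3, hy, map_zero]
  -- denominators
  have hden : ∀ y : A ⊗[R] K, ∃ N : ℕ, (ϖ ^ N) • y ∈ LinearMap.range ι := by
    intro y
    induction y using TensorProduct.induction_on with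
    | zero => exact ⟨0, by simp⟩
    | tmul a k =>
      obtain ⟨r, s, hs, rfl⟩ := IsFractionRing.div_surjective (A := R) k
      have hs0 : s ≠ 0 := nonZeroDivisors.ne_zero hs
      obtain ⟨n, u, hu⟩ := IsDiscreteValuationRing.eq_unit_mul_pow_irreducible hs0 hϖ
      refine ⟨n, ⟨(r * ((u⁻¹ : Rˣ) : R)) • a, ?_⟩⟩
      have hsK : algebraMap R K s ≠ 0 := by
        simpa using (IsFractionRing.injective R K).ne hs0
      have key : (ϖ ^ n) • (algebraMap R K r / algebraMap R K s) =
          (r * ((u⁻¹ : Rˣ) : R)) • (1 : K) := by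
        rw [Algebra.smul_def, Algebra.smul_def, mul_one, eq_comm, ← mul_div_assoc,
          eq_div_iff hsK, hu]
        simp only [map_mul, map_pow]
        have : algebraMap R K ((u⁻¹ : Rˣ) : R) * algebraMap R K (u : R) = 1 := by
          rw [← map_mul]; simp
        calc algebraMap R K r * algebraMap R K ((u⁻¹ : Rˣ) : R) *
              (algebraMap R K (u : R) * algebraMap R K ϖ ^ n)
            = algebraMap R K r * (algebraMap R K ((u⁻¹ : Rˣ) : R) * algebraMap R K (u : R)) *
              algebraMap R K ϖ ^ n := by ring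
          _ = algebraMap R K ϖ ^ n * algebraMap R K r := by rw [this]; ring
      rw [hι, TensorProduct.smul_tmul, ← key, TensorProduct.tmul_smul]
    | add y1 y2 h1 h2 =>
      obtain ⟨N1, h1⟩ := h1
      obtain ⟨N2, h2⟩ := h2
      refine ⟨N1 + N2, ?_⟩
      rw [smul_add]
      refine Submodule.add_mem _ ?_ ?_
      · rw [pow_add, mul_comm, mul_smul]
        exact Submodule.smul_mem _ _ h1
      · rw [pow_add, mul_smul]
        exact Submodule.smul_mem _ _ h2
  -- finite generation: a common N
  obtain ⟨S, hS⟩ := (Module.Finite.fg_top : (⊤ : Submodule A B).FG)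
  choose Nf hNf using hden
  let N := ∑ s ∈ S, Nf (g s)
  have hrange : ∀ x : B, (ϖ ^ N) • g x ∈ LinearMap.range ι := by
    intro x
    have hx : x ∈ Submodule.span A (S : Set B) := by rw [hS]; trivial
    induction hx using Submodule.span_induction with
    | mem s hs =>
      have hle : Nf (g s) ≤ N :=
        Finset.single_le_sum (f := fun s => Nf (g s)) (fun _ _ => Nat.zero_le _) hs
      obtain ⟨M, hM⟩ := Nat.exists_eq_add_of_le hle
      rw [hM, pow_add, mul_comm, mul_smul]
      exact Submodule.smul_mem _ _ (hNf (g s))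
    | zero => simp
    | add x y _ _ hx hy => rw [map_add, smul_add]; exact Submodule.add_mem _ hx hy
    | smul a x _ hx =>
      rw [map_smul, smul_comm]
      obtain ⟨a', ha'⟩ := hx
      exact ⟨a * a', by rw [hι, ← ha', hι, TensorProduct.smul_tmul', smul_eq_mul]⟩
  let G : B →ₗ[R] A ⊗[R] K := (ϖ ^ N) • (g.restrictScalars R)
  let g' : B →ₗ[R] A := (LinearEquiv.ofInjective ι hιinj).symm.toLinearMap ∘ₗ
    (G.codRestrict (LinearMap.range ι) hrange)
  have hg' : ∀ x, ι (g' x) = (ϖ ^ N) • g x := by
    intro x
    have h1 := (LinearEquiv.ofInjective ι hιinj).apply_symm_apply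
      (G.codRestrict (LinearMap.range ι) hrange x)
    have h2 := congrArg Subtype.val h1
    simpa [g', G] using h2
  have hne : g' b ≠ 0 := by
    intro h0
    have h1 := hg' b
    rw [h0, map_zero] at h1
    exact hg (hsmul (ϖ ^ N) (pow_ne_zero _ hϖ0) _ h1.symm)
  obtain ⟨f, hf⟩ := hA _ hne
  exact ⟨f ∘ₗ g', hf⟩

end Groth.Agent.S13161
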