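-- Statement S13163
import Groth.Statements.S13163

set_option autoImplicit false
universe u
open ZeroCyc

namespace Groth.Agent.S13163

open Polynomial in
/-- Let P_d(T) = ∏_{0 ≤ i < j ≤ d} (T^i − T^j) − 1 ∈ ℤ[T]. Every residue field of ℤ[T]/(P_d), i.e. every
field receiving a ring homomorphism from it, has at least d + 1 elements. -/
theorem result (d : ℕ) (k : Type u) [Field k]
    (φ : (ℤ[X] ⧸ Ideal.span {(∏ j ∈ Finset.range (d + 1), ∏ i ∈ Finset.range j,
        ((X : ℤ[X]) ^ i - X ^ j)) - 1}) →+* k) :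
    ((d + 1 : ℕ) : Cardinal) ≤ Cardinal.mk k := by
  have h1 : φ (Ideal.Quotient.mk _ ((∏ j ∈ Finset.range (d + 1), ∏ i ∈ Finset.range j,
        ((X : ℤ[X]) ^ i - X ^ j)) - 1)) = 0 := by
    have : Ideal.Quotient.mk (Ideal.span {(∏ j ∈ Finset.range (d + 1), ∏ i ∈ Finset.range j,
        ((X : ℤ[X]) ^ i - X ^ j)) - 1}) ((∏ j ∈ Finset.range (d + 1), ∏ i ∈ Finset.range j,
        ((X : ℤ[X]) ^ i - X ^ j)) - 1) = 0 :=
      Ideal.Quotient.eq_zero_iff_mem.mpr (Ideal.mem_span_singleton_self _)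
    rw [this, map_zero]
  generalize ht : φ (Ideal.Quotient.mk _ X) = t at h1
  have h2 : ∏ j ∈ Finset.range (d + 1), ∏ i ∈ Finset.range j, (t ^ i - t ^ j) = 1 := by
    rw [map_sub, map_sub, map_one, map_one, sub_eq_zero] at h1
    rw [← h1]
    simp only [map_prod, map_sub, map_pow, ht]
  have key : ∀ a b : ℕ, a < b → b < d + 1 → t ^ a ≠ t ^ b := by
    intro a b hlt hb hab
    have hz : ∏ j ∈ Finset.range (d + 1), ∏ i ∈ Finset.range j, (t ^ i - t ^ j) = 0 := by
      apply Finset.prod_eq_zero (i := b) (Finset.mem_range.mpr hb)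
      apply Finset.prod_eq_zero (i := a) (Finset.mem_range.mpr hlt)
      simpa [sub_eq_zero] using hab
    rw [h2] at hz
    exact one_ne_zero hz
  have hinj : Function.Injective (fun i : ULift.{u} (Fin (d + 1)) => t ^ (i.down : ℕ)) := by
    intro a b hab
    by_contra hne
    have hne' : (a.down : ℕ) ≠ (b.down : ℕ) := fun h => hne (ULift.ext _ _ (Fin.ext h))
    rcases lt_or_gt_of_ne hne' with hlt | hlt
    · exact key _ _ hlt b.down.2 hab
    · exact key _ _ hlt a.down.2 hab.symm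
  have := Cardinal.mk_le_of_injective hinj
  simpa using this

end Groth.Agent.S13163
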