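-- Statement S13164
import Groth.Statements.S13164
import Groth.Agent.Lib.Helper67.GradedGen

set_option autoImplicit false
universe u
open ZeroCyc

namespace Groth.Agent.S13164

/-- Let B be a graded R-algebra generated by homogeneous elements f_1, …, f_s of positive degrees d_1,
…, d_s and let l be the least common multiple of the d_i. Then B_{n+l} = B_n B_l for every n ≥ (s −
1)(l − 1). -/
theorem result {R A : Type u} [CommRing R] [CommRing A] [Algebra R A] (𝒜 : ℕ → Submodule R A) [GradedAlgebra 𝒜]
    {s : ℕ} (f : Fin s → A) (deg : Fin s → ℕ) (hdeg : ∀ i, 0 < deg i) (hf : ∀ i, f i ∈ 𝒜 (deg i))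
    (hgen : Algebra.adjoin R (Set.range f) = ⊤) (n : ℕ)
    (hn : (s - 1) * (Finset.univ.lcm deg - 1) ≤ n) :
    𝒜 (n + Finset.univ.lcm deg) = 𝒜 n * 𝒜 (Finset.univ.lcm deg) := by
  classical
  set l := Finset.univ.lcm deg with hl
  have hl0 : l ≠ 0 := by
    rw [hl, Ne, Finset.lcm_eq_zero_iff]
    rintro ⟨i, _, hi⟩
    exact (hdeg i).ne' hi
  have hdvd : ∀ i, deg i ∣ l := fun i => Finset.dvd_lcm (Finset.mem_univ i)
  apply le_antisymm
  · intro x hx
    have hx' := Groth.Agent.Lib.Helper67.mem_span_monomials 𝒜 f deg hf hgen _ x hx
    refine Submodule.span_le.mpr ?_ hx'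
    rintro y ⟨d, hd, rfl⟩
    -- pigeonhole
    have hex : ∃ i, l / deg i ≤ d i := by
      by_contra hcon
      push Not at hcon
      have hb : ∀ i, d i * deg i ≤ l - 1 := by
        intro i
        have h1 : d i + 1 ≤ l / deg i := hcon i
        have h2 : (d i + 1) * deg i ≤ l := by
          calc (d i + 1) * deg i ≤ (l / deg i) * deg i := Nat.mul_le_mul_right _ h1
            _ ≤ l := Nat.div_mul_le_self _ _
        have h3 := hdeg i
        rw [add_mul, one_mul] at h2
        omega
      have hw : Finsupp.weight deg d ≤ s * (l - 1) := by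
        rw [Finsupp.weight_apply, Finsupp.sum_fintype _ _ (fun i => by simp)]
        calc ∑ i, d i • deg i ≤ ∑ _i : Fin s, (l - 1) :=
              Finset.sum_le_sum fun i _ => by simpa using hb i
          _ = s * (l - 1) := by simp
      rw [hd] at hw
      have hl1 : 1 ≤ l := Nat.one_le_iff_ne_zero.mpr hl0
      rcases Nat.eq_zero_or_pos s with hs | hs
      · subst hs
        simp at hw
        omega
      · have : s * (l - 1) = (s - 1) * (l - 1) + (l - 1) := by
          conv_lhs => rw [← Nat.sub_add_cancel hs]
          ring
        omega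
    obtain ⟨i, hi⟩ := hex
    set m := l / deg i with hm
    have hml : m * deg i = l := Nat.div_mul_cancel (hdvd i)
    have hle : Finsupp.single i m ≤ d := by
      intro j
      by_cases hj : j = i
      · subst hj; simpa using hi
      · simp [Finsupp.single_apply, Ne.symm hj]
    have hdd : d = (d - Finsupp.single i m) + Finsupp.single i m := (tsub_add_cancel_of_le hle).symm
    have e : (d.prod fun i k => f i ^ k) =
        ((d - Finsupp.single i m).prod fun i k => f i ^ k) * f i ^ m := by
      have h4 := Finsupp.prod_add_index' (f := d - Finsupp.single i m) (g := Finsupp.single i m)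
        (h := fun i k => f i ^ k) (fun _ => pow_zero _) (fun _ _ _ => pow_add _ _ _)
      rw [← hdd] at h4
      rw [h4, Finsupp.prod_single_index (h := fun i k => f i ^ k) (pow_zero _)]
    rw [e]
    apply Submodule.mul_mem_mul
    · have h1 := Groth.Agent.Lib.Helper67.finsuppProd_mem_graded 𝒜 f deg hf
        (d - Finsupp.single i m)
      have h2 : Finsupp.weight deg (d - Finsupp.single i m) = n := by
        have h3 : Finsupp.weight deg d = Finsupp.weight deg (d - Finsupp.single i m) +
            Finsupp.weight deg (Finsupp.single i m) := by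
          conv_lhs => rw [hdd]
          rw [map_add]
        have hws : Finsupp.weight deg (Finsupp.single i m) = m * deg i := by
          rw [Finsupp.weight_apply, Finsupp.sum_single_index (by simp), smul_eq_mul]
        rw [hws, hml, hd] at h3
        omega
      rwa [h2] at h1
    · have h1 := SetLike.pow_mem_graded m (hf i)
      rwa [smul_eq_mul, hml] at h1
  · rw [Submodule.mul_le]
    intro a ha b hb
    exact SetLike.mul_mem_graded ha hb

end Groth.Agent.S13164
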