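-- Statement S13165
import Groth.Statements.S13165
import Groth.Agent.Lib.Helper67.GradedGen
import Groth.Agent.S13164

set_option autoImplicit false
universe u
open ZeroCyc

namespace Groth.Agent.S13165

section
variable {R A : Type u} [CommRing R] [CommRing A] [Algebra R A] (𝒜 : ℕ → Submodule R A)
  [GradedAlgebra 𝒜]

theorem pow_le_graded (l b : ℕ) : 𝒜 l ^ b ≤ 𝒜 (b * l) := by
  induction b with
  | zero =>
    rw [pow_zero, zero_mul, Submodule.one_le]
    exact SetLike.one_mem_graded 𝒜
  | succ b ih =>
    rw [pow_succ, Submodule.mul_le]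
    intro x hx y hy
    have := SetLike.mul_mem_graded (ih hx) hy
    rwa [show b * l + l = (b + 1) * l by ring] at this

theorem mul_le_graded (m n : ℕ) : 𝒜 m * 𝒜 n ≤ 𝒜 (m + n) := by
  rw [Submodule.mul_le]
  intro x hx y hy
  exact SetLike.mul_mem_graded hx hy

end

/-- Let B be a graded R-algebra generated by homogeneous elements f_1, …, f_s of positive degrees d_1,
…, d_s, let l be the least common multiple of the d_i and n = a l with a ≥ s − 1. Then B_{kn} =
(B_n)^k for every k ≥ 0. -/
theorem result {R A : Type u} [CommRing R] [CommRing A] [Algebra R A] (𝒜 : ℕ → Submodule R A) [GradedAlgebra 𝒜]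
    {s : ℕ} (f : Fin s → A) (deg : Fin s → ℕ) (hdeg : ∀ i, 0 < deg i) (hf : ∀ i, f i ∈ 𝒜 (deg i))
    (hgen : Algebra.adjoin R (Set.range f) = ⊤) (a : ℕ) (ha : s - 1 ≤ a) (k : ℕ) :
    𝒜 (k * (a * Finset.univ.lcm deg)) = 𝒜 (a * Finset.univ.lcm deg) ^ k := by
  classical
  set l := Finset.univ.lcm deg with hl
  -- iterated form of the previous statement
  have h1 : ∀ m : ℕ, (s - 1) * (l - 1) ≤ m → ∀ b : ℕ, 𝒜 (m + b * l) = 𝒜 m * 𝒜 l ^ b := by
    intro m hm b
    induction b with
    | zero => simp
    | succ b ih =>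
      have := Groth.Agent.S13164.result 𝒜 f deg hdeg hf hgen (m + b * l)
        (hm.trans (Nat.le_add_right _ _))
      rw [show m + (b + 1) * l = m + b * l + l by ring, this, ih, pow_succ, mul_assoc]
  have h2 : ∀ m : ℕ, (s - 1) * (l - 1) ≤ m → ∀ b : ℕ, 𝒜 (m + b * l) = 𝒜 m * 𝒜 (b * l) := by
    intro m hm b
    apply le_antisymm
    · rw [h1 m hm b]
      exact Submodule.mul_le.mpr fun x hx y hy =>
        Submodule.mul_mem_mul hx (pow_le_graded 𝒜 l b hy)
    · exact mul_le_graded 𝒜 m (b * l)
  -- degree zero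
  have h0 : 𝒜 0 = 1 := by
    apply le_antisymm
    · intro x hx
      have hx' := Groth.Agent.Lib.Helper67.mem_span_monomials 𝒜 f deg hf hgen 0 x hx
      rw [Submodule.one_eq_span]
      refine Submodule.span_mono ?_ hx'
      rintro y ⟨d, hd, rfl⟩
      have hd0 : d = 0 := by
        ext i
        rw [Finsupp.weight_apply, Finsupp.sum_fintype _ _ (fun i => by simp)] at hd
        have := (Finset.sum_eq_zero_iff.mp hd) i (Finset.mem_univ i)
        have h3 := hdeg i
        simp only [smul_eq_mul, mul_eq_zero] at this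
        rcases this with h | h
        · simpa using h
        · omega
      rw [hd0, Finsupp.prod_zero_index]
      rfl
    · rw [Submodule.one_le]
      exact SetLike.one_mem_graded 𝒜
  induction k with
  | zero => rw [zero_mul, pow_zero, h0]
  | succ k ih =>
    rcases Nat.eq_zero_or_pos k with hk | hk
    · subst hk
      simp
    · have hm : (s - 1) * (l - 1) ≤ k * (a * l) := by
        calc (s - 1) * (l - 1) ≤ a * l := Nat.mul_le_mul ha (Nat.sub_le _ _)
          _ ≤ k * (a * l) := Nat.le_mul_of_pos_left _ hk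
      rw [show (k + 1) * (a * l) = k * (a * l) + a * l by ring, h2 _ hm a, ih, pow_succ]

end Groth.Agent.S13165
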