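import Groth.Statements.S13166
import Groth.Agent.Lib.Helper67.SubspaceUnion
import Mathlib.Data.Sym.Card
import Mathlib.Tactic

set_option autoImplicit false
universe u
open ZeroCyc

namespace Groth.Agent.S13166

/-- Let k be a field, B a k-algebra generated as an algebra by a k-subspace V, k'/k a field extension
and x_1, …, x_d pairwise distinct k'-points of B ⊗_k k' (equivalently, distinct k-algebra
homomorphisms B → k'). If k has at least d(d − 1)/2 elements, then there is b ∈ V whose values at
x_1, …, x_d are pairwise distinct. -/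
theorem result {k : Type u} [Field k] {B : Type u} [CommRing B] [Algebra k B] (V : Submodule k B)
    (hV : Algebra.adjoin k (V : Set B) = ⊤) {k' : Type u} [Field k'] [Algebra k k']
    {d : ℕ} (x : Fin d → (B →ₐ[k] k')) (hx : Function.Injective x)
    (hk : ((d.choose 2 : ℕ) : Cardinal) ≤ Cardinal.mk k) :
    ∃ b ∈ V, Function.Injective fun i => x i b := by
  classical
  -- the family of subspaces of `V` indexed by unordered pairs
  let p : Sym2 (Fin d) → Submodule k V :=
    fun z =>
      { carrier := {b : V | ∀ i ∈ z, ∀ j ∈ z, x i (b : B) = x j (b : B)}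
        add_mem' := by
          intro a b ha hb i hi j hj
          simp only [Submodule.coe_add, map_add, ha i hi j hj, hb i hi j hj]
        zero_mem' := by
          intro i _ j _
          simp
        smul_mem' := by
          intro c a ha i hi j hj
          simp only [Submodule.coe_smul, map_smul, ha i hi j hj] }
  let s : Finset (Sym2 (Fin d)) := (Finset.univ : Finset (Fin d)).offDiag.image Sym2.mk.uncurry
  have hs : s.card = d.choose 2 := by
    simp only [s]
    rw [Sym2.card_image_offDiag, Finset.card_univ, Fintype.card_fin]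
  -- modify the family outside `s` to be proper everywhere
  let p' : Sym2 (Fin d) → Submodule k V := fun z => if z ∈ s then p z else ⊥
  by_cases hd : d ≤ 1
  · refine ⟨0, V.zero_mem, ?_⟩
    intro i j _
    apply Fin.ext
    have := i.2
    have := j.2
    omega
  have hVnt : ∃ i j : Fin d, i ≠ j := by
    refine ⟨⟨0, by omega⟩, ⟨1, by omega⟩, ?_⟩
    intro h
    simp [Fin.ext_iff] at h
  have hp : ∀ i j : Fin d, i ≠ j → p s(i, j) ≠ ⊤ := by
    intro i j hij htop
    apply hij
    apply hx
    apply AlgHom.ext_of_adjoin_eq_top hV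
    intro b hb
    have : (⟨b, hb⟩ : V) ∈ p s(i, j) := htop ▸ Submodule.mem_top
    exact this i (by simp) j (by simp)
  have hp' : ∀ z, p' z ≠ ⊤ := by
    intro z
    simp only [p']
    split_ifs with hz
    · simp only [s, Finset.mem_image, Finset.mem_offDiag, Finset.mem_univ, true_and] at hz
      obtain ⟨⟨i, j⟩, hij, rfl⟩ := hz
      exact hp i j hij
    · obtain ⟨i, j, hij⟩ := hVnt
      intro hbot
      apply hp i j hij
      rw [eq_top_iff, ← hbot]
      exact bot_le
  have hcard : (s.card : ℕ∞) ≤ ENat.card k := by
    rw [hs, ENat.card]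
    simpa using hk
  have hne := Groth.Agent.Lib.Helper67.iUnion_ne_univ_of_card_le s p' hp' hcard
  obtain ⟨b, hb⟩ : ∃ b : V, b ∉ ⋃ i ∈ s, (p' i : Set V) := by
    by_contra hcon
    push Not at hcon
    exact hne (Set.eq_univ_of_forall hcon)
  refine ⟨b, b.2, ?_⟩
  intro i j hij
  by_contra hne'
  apply hb
  have hmem : s(i, j) ∈ s := by
    simp only [s, Finset.mem_image, Finset.mem_offDiag, Finset.mem_univ, true_and]
    exact ⟨(i, j), hne', rfl⟩
  simp only [Set.mem_iUnion, SetLike.mem_coe, exists_prop]
  refine ⟨s(i, j), hmem, ?_⟩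
  simp only [p', if_pos hmem]
  intro i' hi' j' hj'
  simp only [Sym2.mem_iff] at hi' hj'
  have hij' : x i (b : B) = x j (b : B) := hij
  rcases hi' with rfl | rfl <;> rcases hj' with rfl | rfl <;> simp [hij']
end Groth.Agent.S13166
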