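import Groth.Statements.S13167
import Mathlib.Tactic

set_option autoImplicit false
universe u
open AlgebraicGeometry
open ZeroCyc

namespace Groth.Agent.S13167

/-- Let B be a graded R-algebra generated by its degree-one part B_1, with B_1 a finitely generated
R-module, and let x_1, …, x_d be points of X = Proj B lying over one and the same prime p of R. If
the residue field of p has at least d elements, then some f ∈ B_1 ⊆ Γ(X, O_X(1)) has all the x_i in
D_+(f). (Without the hypothesis on the residue field such an f exists in some B_n with n ≥ 1; that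
first assertion is a known property of ample sheaves and is not restated here.) -/
theorem result {R A : Type u} [CommRing R] [CommRing A] [Algebra R A] (𝒜 : ℕ → Submodule R A) [GradedAlgebra 𝒜]
    (hgen : Algebra.adjoin R (𝒜 1 : Set A) = ⊤) (hfg : (𝒜 1).FG)
    (p : Ideal R) [p.IsPrime] {d : ℕ} (x : Fin d → Proj 𝒜)
    (hx : ∀ i, ((x i).asHomogeneousIdeal.toIdeal).comap (algebraMap R A) = p)
    (hcard : (d : Cardinal) ≤ Cardinal.mk p.ResidueField) :
    ∃ g ∈ 𝒜 1, ∀ i, x i ∈ Proj.basicOpen 𝒜 g := by
  classical
  -- Step 0: degree one is not contained in any of the primes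
  have hne : ∀ i, ∃ n ∈ 𝒜 1, n ∉ (x i).asHomogeneousIdeal.toIdeal := by
    intro i
    by_contra hcon
    push_neg at hcon
    apply (x i).not_irrelevant_le
    intro a ha
    have key : ∀ a : A, a - GradedRing.projZeroRingHom 𝒜 a ∈
        (x i).asHomogeneousIdeal.toIdeal := by
      intro a
      have ha : a ∈ Algebra.adjoin R (𝒜 1 : Set A) := by rw [hgen]; trivial
      induction ha using Algebra.adjoin_induction with
      | mem a ha =>
        rw [GradedRing.projZeroRingHom_apply, DirectSum.decompose_of_mem_ne 𝒜 ha one_ne_zero,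
          sub_zero]
        exact hcon a ha
      | algebraMap r =>
        have h0 : algebraMap R A r ∈ 𝒜 0 := SetLike.algebraMap_mem_graded 𝒜 r
        rw [GradedRing.projZeroRingHom_apply, DirectSum.decompose_of_mem_same 𝒜 h0, sub_self]
        exact zero_mem _
      | add a b _ _ ha hb =>
        rw [map_add, add_sub_add_comm]
        exact add_mem ha hb
      | mul a b _ _ ha hb =>
        have : a * b - GradedRing.projZeroRingHom 𝒜 (a * b) =
            a * (b - GradedRing.projZeroRingHom 𝒜 b) +
              (a - GradedRing.projZeroRingHom 𝒜 a) * GradedRing.projZeroRingHom 𝒜 b := by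
          rw [map_mul]; ring
        rw [this]
        exact add_mem (Ideal.mul_mem_left _ a hb) (Ideal.mul_mem_right _ _ ha)
    have h1 := key a
    rw [GradedRing.projZeroRingHom_apply, ← GradedRing.proj_apply,
      (HomogeneousIdeal.mem_irrelevant_iff _ _).mp ha, sub_zero] at h1
    exact h1
  -- Step 1: d elements of R pairwise incongruent modulo p
  have hr : ∃ r : Fin d → R, ∀ s t, s ≠ t → r s - r t ∉ p := by
    have hemb : Nonempty (Fin d ↪ R ⧸ p) := by
      by_cases hfin : Finite (R ⧸ p)
      · have hfield : IsField (R ⧸ p) := Finite.isField_of_domain (R ⧸ p)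
        have hsurj : Function.Surjective (algebraMap (R ⧸ p) p.ResidueField) :=
          (IsFractionRing.surjective_iff_isField (R := R ⧸ p) (K := p.ResidueField)).mpr hfield
        have hle : Cardinal.mk p.ResidueField ≤ Cardinal.mk (R ⧸ p) :=
          Cardinal.mk_le_of_surjective hsurj
        have h2 : (d : Cardinal.{u}) ≤ Cardinal.mk (R ⧸ p) := hcard.trans hle
        rw [← Cardinal.lift_mk_le']
        simpa using h2
      · have hinf : Infinite (R ⧸ p) := not_finite_iff_infinite.mp hfin
        exact ⟨Fin.valEmbedding.trans (Infinite.natEmbedding (R ⧸ p))⟩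
    obtain ⟨e⟩ := hemb
    refine ⟨fun s => (Ideal.Quotient.mk_surjective (e s)).choose, ?_⟩
    intro s t hst hmem
    have h1 := (Ideal.Quotient.eq (I := p)).mpr hmem
    rw [(Ideal.Quotient.mk_surjective (e s)).choose_spec,
      (Ideal.Quotient.mk_surjective (e t)).choose_spec] at h1
    exact hst (e.injective h1)
  obtain ⟨r, hr⟩ := hr
  -- Step 2: induction
  have main : ∀ j : ℕ, j ≤ d → ∃ g ∈ 𝒜 1, ∀ i : Fin d, (i : ℕ) < j →
      g ∉ (x i).asHomogeneousIdeal.toIdeal := by
    intro j
    induction j with
    | zero => intro _; exact ⟨0, zero_mem _, fun i hi => absurd hi (Nat.not_lt_zero _)⟩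
    | succ j ih =>
      intro hj
      obtain ⟨g, hg1, hg⟩ := ih (Nat.le_of_succ_le hj)
      let ij : Fin d := ⟨j, hj⟩
      by_cases hgj : g ∈ (x ij).asHomogeneousIdeal.toIdeal
      · obtain ⟨n, hn1, hn⟩ := hne ij
        by_contra hcon
        push_neg at hcon
        have hbad : ∀ t : Fin (j + 1), ∃ i : Fin j, (n + r (Fin.castLE hj t) • g) ∈
            (x (Fin.castLE (Nat.le_of_succ_le hj) i)).asHomogeneousIdeal.toIdeal := by
          intro t
          obtain ⟨i, hi, hmem⟩ := hcon (n + r (Fin.castLE hj t) • g)
            (add_mem hn1 (Submodule.smul_mem _ _ hg1))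
          have hij : (i : ℕ) ≠ j := by
            intro h
            have hi' : i = ij := Fin.ext h
            rw [hi'] at hmem
            apply hn
            have h2 : r (Fin.castLE hj t) • g ∈ (x ij).asHomogeneousIdeal.toIdeal := by
              rw [Algebra.smul_def]
              exact Ideal.mul_mem_left _ _ hgj
            have h3 := sub_mem hmem h2
            rwa [add_sub_cancel_right] at h3
          refine ⟨⟨i, lt_of_le_of_ne (Nat.lt_succ_iff.mp hi) hij⟩, ?_⟩
          have : Fin.castLE (Nat.le_of_succ_le hj) ⟨(i : ℕ), lt_of_le_of_ne (Nat.lt_succ_iff.mp hi) hij⟩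
              = i := Fin.ext rfl
          rw [this]
          exact hmem
        choose φ hφ using hbad
        obtain ⟨t, t', htt, heq⟩ := Fintype.exists_ne_map_eq_of_card_lt φ (by simp)
        have h1 := hφ t
        have h2 := hφ t'
        rw [heq] at h1
        have hdiff : (r (Fin.castLE hj t) - r (Fin.castLE hj t')) • g ∈
            (x (Fin.castLE (Nat.le_of_succ_le hj) (φ t'))).asHomogeneousIdeal.toIdeal := by
          have h3 := sub_mem h1 h2
          rwa [add_sub_add_left_eq_sub, ← sub_smul] at h3
        rw [Algebra.smul_def] at hdiff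
        rcases (x (Fin.castLE (Nat.le_of_succ_le hj) (φ t'))).isPrime.mem_or_mem hdiff with h | h
        · have h4 : r (Fin.castLE hj t) - r (Fin.castLE hj t') ∈ p := by
            rw [← hx (Fin.castLE (Nat.le_of_succ_le hj) (φ t'))]
            exact h
          exact hr _ _ (fun h5 => htt (Fin.castLE_injective hj h5)) h4
        · exact hg _ (by simp) h
      · refine ⟨g, hg1, fun i hi => ?_⟩
        rcases Nat.lt_succ_iff_lt_or_eq.mp hi with h | h
        · exact hg i h
        · have hi' : i = ij := Fin.ext h
          rw [hi']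
          exact hgj
  obtain ⟨g, hg1, hg⟩ := main d le_rfl
  exact ⟨g, hg1, fun i => hg i i.2⟩

end Groth.Agent.S13167
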