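-- Statement S13168
import Groth.Statements.S13168
import Mathlib.Tactic

set_option autoImplicit false
universe u
open AlgebraicGeometry
open ZeroCyc

namespace Groth.Agent.S13168

/-- Let B be a graded R-algebra generated by homogeneous elements f_1, …, f_s of positive degrees d_1,
…, d_s, let l be the least common multiple of the d_i and X = Proj B. For n = a l with a ≥ 1, X is
the union of the opens D_+(g), g ∈ B_n. -/
theorem result {R A : Type u} [CommRing R] [CommRing A] [Algebra R A] (𝒜 : ℕ → Submodule R A) [GradedAlgebra 𝒜]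
    {s : ℕ} (f : Fin s → A) (deg : Fin s → ℕ) (hdeg : ∀ i, 0 < deg i) (hf : ∀ i, f i ∈ 𝒜 (deg i))
    (hgen : Algebra.adjoin R (Set.range f) = ⊤) (a : ℕ) (ha : 0 < a) :
    (⨆ g : 𝒜 (a * Finset.univ.lcm deg), Proj.basicOpen 𝒜 (g : A)) = ⊤ := by
  classical
  set l := Finset.univ.lcm deg with hl
  have hl0 : l ≠ 0 := by
    rw [hl, Ne, Finset.lcm_eq_zero_iff]
    rintro ⟨i, _, hi⟩
    exact (hdeg i).ne' hi
  have hdvd : ∀ i, deg i ∣ l := fun i => Finset.dvd_lcm (Finset.mem_univ i)
  have hgen0 : Algebra.adjoin (𝒜 0) (Set.range f) = ⊤ := by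
    rw [eq_top_iff]
    intro x _
    have hx : x ∈ Algebra.adjoin R (Set.range f) := by rw [hgen]; trivial
    induction hx using Algebra.adjoin_induction with
    | mem x hx => exact Algebra.subset_adjoin hx
    | algebraMap r =>
      have : algebraMap R A r = algebraMap (𝒜 0) A ⟨algebraMap R A r,
          SetLike.algebraMap_mem_graded 𝒜 r⟩ := rfl
      rw [this]
      exact Subalgebra.algebraMap_mem _ _
    | add x y _ _ hx hy => exact Subalgebra.add_mem _ (hx trivial) (hy trivial)
    | mul x y _ _ hx hy => exact Subalgebra.mul_mem _ (hx trivial) (hy trivial)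
  have hcov := Proj.iSup_basicOpen_eq_top' 𝒜 f (fun i => ⟨deg i, hf i⟩) hgen0
  rw [eq_top_iff, ← hcov, iSup_le_iff]
  intro i
  obtain ⟨c, hc⟩ := hdvd i
  have hc0 : 0 < a * c := by
    apply Nat.mul_pos ha
    rcases Nat.eq_zero_or_pos c with h | h
    · rw [h, mul_zero] at hc; exact absurd hc hl0
    · exact h
  have hmem : f i ^ (a * c) ∈ 𝒜 (a * l) := by
    have := SetLike.pow_mem_graded (a * c) (hf i)
    rwa [smul_eq_mul, show a * c * deg i = a * l by rw [hc]; ring] at this
  rw [← Proj.basicOpen_pow 𝒜 (f i) (a * c) hc0]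
  exact le_iSup (fun g : 𝒜 (a * l) => Proj.basicOpen 𝒜 (g : A)) ⟨_, hmem⟩

end Groth.Agent.S13168
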