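import Groth.Statements.S13169
import Groth.Agent.Lib.Helper17.TwistLoc2

set_option autoImplicit false
universe u
open AlgebraicGeometry
open ZeroCyc

namespace Groth.Agent.S13169

/-- Let B be a graded R-algebra generated by homogeneous elements f_1, …, f_s of positive degrees d_1,
…, d_s, let l be the least common multiple of the d_i and X = Proj B. For n = a l with a ≥ 1, the
twisting sheaf O_X(n) is ample and is generated by its global sections b/1, b ∈ B_n. -/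
theorem result {R A : Type u} [CommRing R] [CommRing A] [Algebra R A] (𝒜 : ℕ → Submodule R A) [GradedAlgebra 𝒜]
    {s : ℕ} (f : Fin s → A) (deg : Fin s → ℕ) (hdeg : ∀ i, 0 < deg i) (hf : ∀ i, f i ∈ 𝒜 (deg i))
    (hgen : Algebra.adjoin R (Set.range f) = ⊤) (a : ℕ) (ha : 0 < a) :
    CohB1.IsAmple (Twist.twist 𝒜 ((a * Finset.univ.lcm deg : ℕ) : ℤ)) ∧
      ProjUP.GeneratedBy (Twist.twist 𝒜 ((a * Finset.univ.lcm deg : ℕ) : ℤ))
        (fun b : 𝒜 (a * Finset.univ.lcm deg) =>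
          (Twist.globalOf 𝒜 b : ProjUP.Γm (Twist.twist 𝒜 ((a * Finset.univ.lcm deg : ℕ) : ℤ)))) := by
  classical
  have hcov := Groth.Agent.Lib.Helper17.TwistLoc.iSup_basicOpen_eq_top_of_adjoin 𝒜 f
    (fun i => ⟨deg i, hf i⟩) hgen
  have hloc : Groth.Agent.Lib.Helper17.TwistLoc.LocGen 𝒜 ((a * Finset.univ.lcm deg : ℕ) : ℤ) :=
    Groth.Agent.Lib.Helper17.TwistLoc.locGen_of_dvd 𝒜 f deg hf hcov _
      (fun i => Int.natCast_dvd_natCast.mpr
        (Dvd.dvd.mul_left (Finset.dvd_lcm (Finset.mem_univ i)) a))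
  haveI : CompactSpace (Proj 𝒜) :=
    Groth.Agent.Lib.Helper17.TwistLoc.compactSpace_of_finite_cover 𝒜 f deg hdeg hf hcov
  have hlpos : 0 < Finset.univ.lcm deg := by
    apply Nat.pos_of_ne_zero
    rw [Ne, Finset.lcm_eq_zero_iff]
    simp only [Finset.mem_univ, true_and, not_exists]
    intro i
    exact (hdeg i).ne'
  have hNpos : 0 < a * Finset.univ.lcm deg := Nat.mul_pos ha hlpos
  have key : ∀ x : Proj 𝒜, ∃ b ∈ 𝒜 (a * Finset.univ.lcm deg),
      b ∉ (x : ProjectiveSpectrum 𝒜).asHomogeneousIdeal ∧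
        IsAffineOpen (Proj.basicOpen 𝒜 b) := by
    intro x
    have hx : x ∈ (⨆ i, Proj.basicOpen 𝒜 (f i)) := by rw [hcov]; trivial
    obtain ⟨i, hi⟩ := TopologicalSpace.Opens.mem_iSup.mp hx
    have hfx : f i ∉ (x : ProjectiveSpectrum 𝒜).asHomogeneousIdeal :=
      (Proj.mem_basicOpen 𝒜 (f i) x).mp hi
    have hdvd : deg i ∣ a * Finset.univ.lcm deg :=
      Dvd.dvd.mul_left (Finset.dvd_lcm (Finset.mem_univ i)) a
    have hb : f i ^ (a * Finset.univ.lcm deg / deg i) ∈ 𝒜 (a * Finset.univ.lcm deg) := by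
      have := SetLike.pow_mem_graded (a * Finset.univ.lcm deg / deg i) (hf i)
      rwa [smul_eq_mul, Nat.div_mul_cancel hdvd] at this
    refine ⟨_, hb, fun hmem =>
      hfx ((x : ProjectiveSpectrum 𝒜).isPrime.mem_of_pow_mem _ hmem), ?_⟩
    exact Proj.isAffineOpen_basicOpen 𝒜 _ hb hNpos
  refine ⟨Groth.Agent.Lib.Helper17.TwistLoc.isAmple_twist 𝒜 _ hloc key,
    Groth.Agent.Lib.Helper17.TwistLoc.generatedBy_twist 𝒜 _ (fun x => ?_)⟩
  obtain ⟨b, hb, hbx, -⟩ := key x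
  exact ⟨b, hb, hbx⟩

end Groth.Agent.S13169
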