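import Groth.Statements.S13170
import Groth.Agent.Lib.Helper17.TwistLoc

set_option autoImplicit false
universe u
open AlgebraicGeometry CategoryTheory
open ZeroCyc

namespace Groth.Agent.S13170

/-- Let B be a graded R-algebra generated by homogeneous elements f_1, …, f_s of positive degrees d_1,
…, d_s, let l be the least common multiple of the d_i and X = Proj B. For all integers a and n,
O_X(al) ⊗ O_X(n) ≅ O_X(al + n). (The published statement asserts that the canonical multiplication
map is an isomorphism; this row asserts only that an isomorphism exists.) -/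
theorem result {R A : Type u} [CommRing R] [CommRing A] [Algebra R A] (𝒜 : ℕ → Submodule R A) [GradedAlgebra 𝒜]
    {s : ℕ} (f : Fin s → A) (deg : Fin s → ℕ) (hdeg : ∀ i, 0 < deg i) (hf : ∀ i, f i ∈ 𝒜 (deg i))
    (hgen : Algebra.adjoin R (Set.range f) = ⊤) (a n : ℤ) :
    Nonempty (CohB1.tensorMod (Twist.twist 𝒜 (a * (Finset.univ.lcm deg : ℕ))) (Twist.twist 𝒜 n) ≅
      Twist.twist 𝒜 (a * (Finset.univ.lcm deg : ℕ) + n)) := by
  have hloc : Groth.Agent.Lib.Helper17.TwistLoc.LocGen 𝒜 (a * (Finset.univ.lcm deg : ℕ)) :=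
    Groth.Agent.Lib.Helper17.TwistLoc.locGen_of_adjoin 𝒜 f deg hf hgen _
      (fun i => Dvd.dvd.mul_left
        (Int.natCast_dvd_natCast.mpr (Finset.dvd_lcm (Finset.mem_univ i))) a)
  exact Groth.Agent.Lib.Helper17.TwistLoc.nonempty_tensor_iso_left 𝒜 _ n hloc

end Groth.Agent.S13170
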