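import Groth.Statements.S13171
import Groth.Agent.Lib.Helper68.TwistStalk
import Groth.Agent.S13165

set_option autoImplicit false
universe u
open AlgebraicGeometry
open ZeroCyc

namespace Groth.Agent.S13171

open CategoryTheory TopologicalSpace Opposite TopCat Groth.Agent.Lib.Helper68.TwistStalk

section aux
variable {R A : Type u} [CommRing R] [CommRing A] [Algebra R A] {𝒜 : ℕ → Submodule R A}
  [GradedAlgebra 𝒜]

/-- the section `z / d` of `O(n)` over an open `W` where `d` vanishes nowhere -/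
def fracN {n i j : ℕ} (hij : i = j + n) (z : 𝒜 i) (d : 𝒜 j)
    (W : Opens (ProjectiveSpectrum.top 𝒜)) (hd : ∀ y : W, d.1 ∉ y.1.asHomogeneousIdeal) :
    Twist.sectN (𝒜 := 𝒜) (n : ℤ) (op W) :=
  ⟨fun y => ⟨Localization.mk z.1 ⟨d.1, hd y⟩,
      Submodule.subset_span ⟨i, j, z, d, hd y, by exact_mod_cast hij, rfl⟩⟩,
    fun y => ⟨W, y.2, 𝟙 _, i, j, z, d, hd, Or.inl (by exact_mod_cast hij), fun _ => rfl⟩⟩

theorem fracN_val {n i j : ℕ} (hij : i = j + n) (z : 𝒜 i) (d : 𝒜 j)
    (W : Opens (ProjectiveSpectrum.top 𝒜)) (hd : ∀ y : W, d.1 ∉ y.1.asHomogeneousIdeal) (y : W) :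
    (((fracN hij z d W hd).1 y : Twist.twistAt 𝒜 (n : ℤ) y.1) : Twist.Loc 𝒜 y.1) =
      Localization.mk z.1 ⟨d.1, hd y⟩ := rfl

end aux

/-- Let B be a graded R-algebra generated by homogeneous elements f_1, …, f_s of positive degrees d_1,
…, d_s, let l be the least common multiple of the d_i and X = Proj B. For n ≥ (s − 1)(l − 1), O_X(n)
is generated by its global sections b/1, b ∈ B_n. -/
theorem result {R A : Type u} [CommRing R] [CommRing A] [Algebra R A] (𝒜 : ℕ → Submodule R A) [GradedAlgebra 𝒜]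
    {s : ℕ} (f : Fin s → A) (deg : Fin s → ℕ) (hdeg : ∀ i, 0 < deg i) (hf : ∀ i, f i ∈ 𝒜 (deg i))
    (hgen : Algebra.adjoin R (Set.range f) = ⊤) (n : ℕ) (hn : (s - 1) * (Finset.univ.lcm deg - 1) ≤ n) :
    ProjUP.GeneratedBy (Twist.twist 𝒜 (n : ℤ))
      (fun b : 𝒜 n => (Twist.globalOf 𝒜 b : ProjUP.Γm (Twist.twist 𝒜 (n : ℤ)))) := by
  classical
  set l := Finset.univ.lcm deg with hl
  have hlpos : 0 < l := by
    apply Nat.pos_of_ne_zero
    rw [hl, Ne, Finset.lcm_eq_zero_iff]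
    simp only [Finset.mem_univ, true_and, not_exists]
    intro i
    exact (hdeg i).ne'
  -- iterated form of S13164
  have h1 : ∀ b : ℕ, 𝒜 (n + b * l) = 𝒜 n * 𝒜 l ^ b := by
    intro b
    induction b with
    | zero => simp
    | succ b ih =>
      have := Groth.Agent.S13164.result 𝒜 f deg hdeg hf hgen (n + b * l)
        (hn.trans (Nat.le_add_right _ _))
      rw [show n + (b + 1) * l = n + b * l + l by ring, this, ih, pow_succ, mul_assoc]
  have h2 : ∀ b : ℕ, 𝒜 (n + b * l) ≤ 𝒜 n * 𝒜 (b * l) := by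
    intro b
    rw [h1 b]
    exact Submodule.mul_le.mpr fun x hx y hy =>
      Submodule.mul_mem_mul hx (Groth.Agent.S13165.pow_le_graded 𝒜 l b hy)
  intro x
  rw [eq_top_iff]
  rintro t -
  obtain ⟨U, hxU, s', rfl⟩ := TopCat.Presheaf.exists_germ_eq (Twist.twist 𝒜 (n : ℤ)).presheaf t
  obtain ⟨V, hxV, iV, i, j, a, d, nin, hdegc, w⟩ := s'.2 ⟨x, hxU⟩
  have hVU : V ≤ U := leOfHom iV
  let M : PresheafOfModules ((Proj 𝒜).presheaf ⋙ forget₂ CommRingCat RingCat) :=
    (Twist.twist 𝒜 (n : ℤ)).val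
  have hres : ((Twist.twist 𝒜 (n : ℤ)).presheaf.germ U x hxU).hom s' =
      ((Twist.twist 𝒜 (n : ℤ)).presheaf.germ V x hxV).hom
        (((Twist.twist 𝒜 (n : ℤ)).presheaf.map (homOfLE hVU).op).hom s') :=
    (TopCat.Presheaf.germ_res_apply (Twist.twist 𝒜 (n : ℤ)).presheaf (homOfLE hVU) x hxV s').symm
  rw [hres]
  set S := Submodule.span ((Proj 𝒜).presheaf.stalk x)
      (Set.range fun b : 𝒜 n => ((Twist.twist 𝒜 (n : ℤ)).presheaf.germ ⊤ x trivial).hom
        (Twist.globalOf 𝒜 b : ProjUP.Γm (Twist.twist 𝒜 (n : ℤ)))) with hS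
  rcases hdegc with hdegc | ha0
  · have hij : i = j + n := by exact_mod_cast hdegc
    -- new numerator and denominator
    have hd' : d.1 ^ l ∈ 𝒜 (l * j) := by
      have := SetLike.pow_mem_graded l d.2
      simpa using this
    have hnin' : ∀ y : V, d.1 ^ l ∉ y.1.asHomogeneousIdeal := fun y hy =>
      nin y (y.1.isPrime.mem_of_pow_mem _ hy)
    have hidx : i + (l - 1) * j = n + j * l := by
      rw [hij]
      have : l = (l - 1) + 1 := by omega
      calc j + n + (l - 1) * j = n + j * ((l - 1) + 1) := by ring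
        _ = n + j * l := by rw [← this]
    have ha' : a.1 * d.1 ^ (l - 1) ∈ 𝒜 (n + j * l) := by
      have h3 : d.1 ^ (l - 1) ∈ 𝒜 ((l - 1) * j) := by
        have := SetLike.pow_mem_graded (l - 1) d.2
        simpa using this
      have := SetLike.mul_mem_graded a.2 h3
      rwa [hidx] at this
    have ha'' : a.1 * d.1 ^ (l - 1) ∈ 𝒜 n * 𝒜 (j * l) := h2 j ha'
    have hjl : j * l = l * j := mul_comm _ _
    -- general claim, by induction on the product
    have claim : ∀ (z : A) (hz : z ∈ 𝒜 n * 𝒜 (j * l)) (hz' : z ∈ 𝒜 (l * j + n)),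
        ((Twist.twist 𝒜 (n : ℤ)).presheaf.germ V x hxV).hom
          (fracN rfl ⟨z, hz'⟩ ⟨d.1 ^ l, hd'⟩ V hnin' : M.obj (op V)) ∈ S := by
      intro z hz
      induction hz using Submodule.mul_induction_on' with
      | mem_mul_mem b hb c hc =>
        intro hz'
        have hc' : c ∈ 𝒜 (l * j) := hjl ▸ hc
        let r : ((Proj 𝒜).presheaf.obj (op V)) := fracSection ⟨c, hc'⟩ ⟨d.1 ^ l, hd'⟩ V hnin'
        let t₀ : ProjUP.Γm (Twist.twist 𝒜 (n : ℤ)) := Twist.globalOf 𝒜 ⟨b, hb⟩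
        let m : M.obj (op V) :=
          ((Twist.twist 𝒜 (n : ℤ)).presheaf.map (homOfLE (le_top : V ≤ ⊤)).op).hom t₀
        have e1 : (fracN rfl ⟨b * c, hz'⟩ ⟨d.1 ^ l, hd'⟩ V hnin' : M.obj (op V)) =
            (r • m : M.obj (op V)) := by
          apply Subtype.ext
          funext y
          apply Subtype.ext
          refine Eq.trans ?_ (Twist.coe_smul_val (n : ℤ) y.1 (r.1 y) (m.1 y)).symm
          rw [fracN_val]
          have : ((r.1 y).val : Twist.Loc 𝒜 y.1) = Localization.mk c ⟨d.1 ^ l, hnin' y⟩ :=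
            fracSection_val ⟨c, hc'⟩ ⟨d.1 ^ l, hd'⟩ V hnin' y
          rw [this]
          have hm : ((m.1 y : Twist.twistAt 𝒜 (n : ℤ) y.1) : Twist.Loc 𝒜 y.1) =
              Localization.mk b ⟨1, one_not_mem y.1⟩ := rfl
          rw [hm, Localization.mk_mul, Localization.mk_eq_mk_iff, Localization.r_iff_exists]
          exact ⟨1, by simp; ring⟩
        rw [e1]
        have h3 : ((Twist.twist 𝒜 (n : ℤ)).presheaf.germ ⊤ x trivial).hom t₀ =
            ((Twist.twist 𝒜 (n : ℤ)).presheaf.germ V x hxV).hom m :=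
          (TopCat.Presheaf.germ_res_apply (Twist.twist 𝒜 (n : ℤ)).presheaf
            (homOfLE (le_top : V ≤ ⊤)) x hxV t₀).symm
        have h4 := PresheafOfModules.germ_smul M x V hxV r m
        have h5 : ((Twist.twist 𝒜 (n : ℤ)).presheaf.germ V x hxV).hom (r • m : M.obj (op V)) =
            (((Proj 𝒜).presheaf.germ V x hxV).hom r) •
              ((Twist.twist 𝒜 (n : ℤ)).presheaf.germ ⊤ x trivial).hom t₀ := by
          rw [h3]
          exact h4
        rw [h5]
        exact Submodule.smul_mem S _ (Submodule.subset_span ⟨⟨b, hb⟩, rfl⟩)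
      | add z1 hz1 z2 hz2 ih1 ih2 =>
        intro hz'
        have hle : 𝒜 n * 𝒜 (j * l) ≤ 𝒜 (l * j + n) := by
          rw [Submodule.mul_le]
          intro p hp q hq
          have h5 : q * p ∈ 𝒜 (j * l + n) := SetLike.mul_mem_graded hq hp
          have h6 : p * q = q * p := mul_comm p q
          have h7 : l * j + n = j * l + n := by rw [hjl]
          rw [h6, h7]
          exact h5
        have hz1' := hle hz1
        have hz2' := hle hz2
        have e1 : (fracN rfl ⟨z1 + z2, hz'⟩ ⟨d.1 ^ l, hd'⟩ V hnin' : M.obj (op V)) =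
            ((fracN rfl ⟨z1, hz1'⟩ ⟨d.1 ^ l, hd'⟩ V hnin' : M.obj (op V)) +
              (fracN rfl ⟨z2, hz2'⟩ ⟨d.1 ^ l, hd'⟩ V hnin' : M.obj (op V)) : M.obj (op V)) := by
          apply Subtype.ext
          funext y
          apply Subtype.ext
          show Localization.mk (z1 + z2) ⟨d.1 ^ l, hnin' y⟩ =
            Localization.mk z1 ⟨d.1 ^ l, hnin' y⟩ + Localization.mk z2 ⟨d.1 ^ l, hnin' y⟩
          rw [Localization.add_mk_self]
        rw [e1]
        have hsum : ((Twist.twist 𝒜 (n : ℤ)).presheaf.germ V x hxV).hom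
            ((fracN rfl ⟨z1, hz1'⟩ ⟨d.1 ^ l, hd'⟩ V hnin' : M.obj (op V)) +
              (fracN rfl ⟨z2, hz2'⟩ ⟨d.1 ^ l, hd'⟩ V hnin' : M.obj (op V)) : M.obj (op V)) =
            ((Twist.twist 𝒜 (n : ℤ)).presheaf.germ V x hxV).hom
              (fracN rfl ⟨z1, hz1'⟩ ⟨d.1 ^ l, hd'⟩ V hnin' : M.obj (op V)) +
            ((Twist.twist 𝒜 (n : ℤ)).presheaf.germ V x hxV).hom
              (fracN rfl ⟨z2, hz2'⟩ ⟨d.1 ^ l, hd'⟩ V hnin' : M.obj (op V)) :=
          map_add _ _ _
        rw [hsum]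
        exact Submodule.add_mem S (ih1 hz1') (ih2 hz2')
    -- apply the claim to the numerator
    have hz' : a.1 * d.1 ^ (l - 1) ∈ 𝒜 (l * j + n) := by
      have : n + j * l = l * j + n := by ring
      rwa [this] at ha'
    have e0 : ((Twist.twist 𝒜 (n : ℤ)).presheaf.map (homOfLE hVU).op).hom s' =
        (fracN rfl ⟨a.1 * d.1 ^ (l - 1), hz'⟩ ⟨d.1 ^ l, hd'⟩ V hnin' : M.obj (op V)) := by
      apply Subtype.ext
      funext y
      apply Subtype.ext
      refine Eq.trans (w y) ?_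
      rw [fracN_val, Localization.mk_eq_mk_iff, Localization.r_iff_exists]
      refine ⟨1, ?_⟩
      have : l = (l - 1) + 1 := by omega
      simp only [OneMemClass.coe_one, one_mul]
      conv_lhs => rw [this, pow_succ]
      ring
    rw [e0]
    exact claim _ ha'' hz'
  · -- zero section
    have e0 : ((Twist.twist 𝒜 (n : ℤ)).presheaf.map (homOfLE hVU).op).hom s' =
        (0 : M.obj (op V)) := by
      apply Subtype.ext
      funext y
      apply Subtype.ext
      refine Eq.trans (w y) ?_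
      rw [ha0, Localization.mk_zero]
      rfl
    rw [e0]
    have hzero : ((Twist.twist 𝒜 (n : ℤ)).presheaf.germ V x hxV).hom (0 : M.obj (op V)) = 0 :=
      map_zero _
    rw [hzero]
    exact Submodule.zero_mem S

end Groth.Agent.S13171
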