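import Groth.Statements.S13175
-- import your own Groth.Agent.* helpers here

set_option autoImplicit false
universe u v w
open scoped TensorProduct
open ZeroCyc

namespace Groth.Agent.S13175

open PolynomialLaw in
/-- Simultaneous lift of two tensors to a polynomial ring. -/
theorem exists_lift₂ {R : Type u} [CommSemiring R] {M : Type v} [AddCommMonoid M] [Module R M]
    {S : Type u} [CommSemiring S] [Algebra R S] (t t' : S ⊗[R] M) :
    ∃ (n : ℕ) (ψ : MvPolynomial (Fin n) R →ₐ[R] S)
      (p p' : MvPolynomial (Fin n) R ⊗[R] M),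
      ψ.toLinearMap.rTensor M p = t ∧ ψ.toLinearMap.rTensor M p' = t' := by
  obtain ⟨A₁, hA₁, ht⟩ := TensorProduct.Algebra.exists_of_fg t
  obtain ⟨A₂, hA₂, ht'⟩ := TensorProduct.Algebra.exists_of_fg t'
  have hB : Subalgebra.FG (A₁ ⊔ A₂) := Subalgebra.FG.sup hA₁ hA₂
  obtain ⟨gen, hgen⟩ := exists_range_φ_eq_of_fg hB
  have h₁ : A₁ ≤ (φ R gen).range := by rw [hgen]; exact le_sup_left
  have h₂ : A₂ ≤ (φ R gen).range := by rw [hgen]; exact le_sup_right
  obtain ⟨p, hp⟩ := exists_lift_of_mem_range_rTensor _ h₁ ht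
  obtain ⟨p', hp'⟩ := exists_lift_of_mem_range_rTensor _ h₂ ht'
  exact ⟨gen.card, φ R gen, p, p', hp, hp'⟩

theorem rTensor_eq_map {R : Type u} [CommRing R] {B : Type v} [CommRing B] [Algebra R B]
    {S S' : Type u} [CommRing S] [Algebra R S] [CommRing S'] [Algebra R S'] (ψ : S →ₐ[R] S')
    (z : S ⊗[R] B) :
    ψ.toLinearMap.rTensor B z = Algebra.TensorProduct.map ψ (AlgHom.id R B) z := rfl

/-- Let B and C be A-algebras and F : B → C a polynomial law. If the maps F over the polynomial rings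
A[t_1, …, t_n], n ≥ 0, are multiplicative (send 1 to 1 and products to products), then F is a
multiplicative law: F sends 1 to 1 and products to products over every A-algebra. -/
theorem result {A : Type u} [CommRing A] {B : Type v} [CommRing B] [Algebra A B] {C : Type w} [CommRing C] [Algebra A C]
    (F : B →ₚₗ[A] C)
    (h1 : ∀ n : ℕ, F.toFun' (MvPolynomial (Fin n) A) 1 = 1)
    (hmul : ∀ (n : ℕ) (x y : MvPolynomial (Fin n) A ⊗[A] B),
      F.toFun' (MvPolynomial (Fin n) A) (x * y) = F.toFun' (MvPolynomial (Fin n) A) x * F.toFun' (MvPolynomial (Fin n) A) y) :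
    ∀ (S : Type u) [CommRing S] [Algebra A S], F.toFun' S 1 = 1 ∧
      ∀ x y : S ⊗[A] B, F.toFun' S (x * y) = F.toFun' S x * F.toFun' S y := by
  intro S _ _
  constructor
  · have h := PolynomialLaw.isCompat_apply' (f := F)
      (MvPolynomial.aeval (fun _ : Fin 0 => (0 : S)) : MvPolynomial (Fin 0) A →ₐ[A] S)
      (1 : MvPolynomial (Fin 0) A ⊗[A] B)
    rw [h1 0, rTensor_eq_map, rTensor_eq_map, map_one, map_one] at h
    exact h.symm
  · intro x y
    obtain ⟨n, ψ, p, q, rfl, rfl⟩ := exists_lift₂ x y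
    have hm : ψ.toLinearMap.rTensor B p * ψ.toLinearMap.rTensor B q =
        ψ.toLinearMap.rTensor B (p * q) := by
      rw [rTensor_eq_map, rTensor_eq_map, rTensor_eq_map, map_mul]
    rw [hm, ← PolynomialLaw.isCompat_apply', ← PolynomialLaw.isCompat_apply',
      ← PolynomialLaw.isCompat_apply', hmul n, rTensor_eq_map, rTensor_eq_map, rTensor_eq_map,
      map_mul]

end Groth.Agent.S13175
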