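import Groth.Statements.S13176
import Groth.Agent.Lib.Helper69.Quot5
import Groth.Agent.Lib.Helper70.SpecUnivHomeo
import Groth.Agent.S13596

set_option autoImplicit false
universe u
open CategoryTheory CategoryTheory.Limits AlgebraicGeometry
open ZeroCyc

namespace Groth.Agent.S13176
open Groth.Agent.Lib.Helper69

/-- Let a finite group G act on a scheme X over S through ρ, let q : X → Y be a quotient of X by G over
S (affine, G-invariant, O_Y = the G-invariant sections of O_X), let S' → S be any morphism and X' =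
X ×_S S' with the induced action ρ', and let r : X' → Y' be a quotient of X' by G. Then the morphism
Y' → Y ×_S S' through which the canonical map X' → Y ×_S S' factors via r is a universal
homeomorphism. (The published statement assumes every G-orbit lies in an affine open, which is what
makes the quotients exist; here the two quotients are hypotheses.) -/
theorem result {X Y S S' Y' : Scheme.{u}} {G : Type u} [Group G] [Finite G]
    (ρ : G →* Aut X) (f : X ⟶ S) (hρ : ∀ σ : G, (ρ σ).hom ≫ f = f)
    (q : X ⟶ Y) (h : Y ⟶ S) (hq : q ≫ h = f) (hquot : SGA1.IsQuot ρ q)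
    (g : S' ⟶ S)
    (ρ' : G →* Aut (pullback f g))
    (hρ' : ∀ σ : G, (ρ' σ).hom ≫ pullback.fst f g = pullback.fst f g ≫ (ρ σ).hom ∧
      (ρ' σ).hom ≫ pullback.snd f g = pullback.snd f g)
    (r : pullback f g ⟶ Y') (hr : SGA1.IsQuot ρ' r)
    (m : Y' ⟶ pullback h g)
    (hm : r ≫ m = pullback.map f g h g q (𝟙 S') (𝟙 S)
      ((Category.comp_id f).trans hq.symm) ((Category.comp_id g).trans (Category.id_comp g).symm)) :
    FlatMor.IsUnivHomeo m := by
  set c := pullback.map f g h g q (𝟙 S') (𝟙 S)
    ((Category.comp_id f).trans hq.symm) ((Category.comp_id g).trans (Category.id_comp g).symm) with hc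
  have hc1 : c ≫ pullback.fst h g = pullback.fst f g ≫ q := pullback.lift_fst _ _ _
  have hc2 : c ≫ pullback.snd h g = pullback.snd f g :=
    (pullback.lift_snd _ _ _).trans (Category.comp_id _)
  -- `c` is a base change of `q`
  have hsq : IsPullback c (pullback.fst f g) (pullback.fst h g) q := by
    have hbig : IsPullback (pullback.snd f g) (pullback.fst f g) g f :=
      (IsPullback.of_hasPullback f g).flip
    have hright : IsPullback (pullback.snd h g) (pullback.fst h g) g h :=
      (IsPullback.of_hasPullback h g).flip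
    have h1 : IsPullback (c ≫ pullback.snd h g) (pullback.fst f g) g (q ≫ h) := by
      rw [hc2, hq]; exact hbig
    exact IsPullback.of_right h1 hc1 hright
  have hqint : IsIntegralHom q := Groth.Agent.S13596.result ρ q hquot
  have hqsurj : Surjective q := ⟨(Groth.Agent.S2908.result ρ q hquot).1⟩
  have hcsurj : Surjective c := MorphismProperty.of_isPullback hsq.flip hqsurj
  have hcint : IsIntegralHom c := MorphismProperty.of_isPullback hsq.flip hqint
  have hrsurj : Surjective r := ⟨(Groth.Agent.S2908.result ρ' r hr).1⟩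
  have hrm : Surjective (r ≫ m) := hm ▸ hcsurj
  have hrm' : UniversallyClosed (r ≫ m) := hm ▸ inferInstance
  have hmsurj : Surjective m := Surjective.of_comp r m
  have hmcl : UniversallyClosed m := UniversallyClosed.of_comp_surjective r m
  have hminj : UniversallyInjective m := by
    apply ((tfae_universallyInjective (f := m)).out 0 1).mpr
    intro K _ η₁ η₂ hη
    dsimp only at hη
    obtain ⟨K₁, _, j₁, ξ₁, hξ₁⟩ := exists_lift_of_surjective r η₁
    obtain ⟨K₂, _, j₂, ξ₂, hξ₂⟩ := exists_lift_of_surjective r (Spec.map j₁ ≫ η₂)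
    -- both lifts over `K₂`
    obtain ⟨ξ₁', hξ₁'⟩ : ∃ t : Spec (.of K₂) ⟶ pullback f g, t = Spec.map j₂ ≫ ξ₁ := ⟨_, rfl⟩
    have h1 : ξ₁' ≫ r = Spec.map j₂ ≫ Spec.map j₁ ≫ η₁ := by
      rw [hξ₁', Category.assoc, hξ₁]
    have h2 : ξ₁' ≫ c = ξ₂ ≫ c := by
      rw [← hm, ← Category.assoc, ← Category.assoc, h1, hξ₂, Category.assoc, Category.assoc,
        Category.assoc, Category.assoc, hη]
    have h3 : (ξ₁' ≫ pullback.fst f g) ≫ q = (ξ₂ ≫ pullback.fst f g) ≫ q := by
      calc (ξ₁' ≫ pullback.fst f g) ≫ q = (ξ₁' ≫ c) ≫ pullback.fst h g := by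
            rw [Category.assoc, Category.assoc, hc1]
        _ = (ξ₂ ≫ c) ≫ pullback.fst h g := by rw [h2]
        _ = (ξ₂ ≫ pullback.fst f g) ≫ q := by rw [Category.assoc, Category.assoc, hc1]
    obtain ⟨σ, hσ⟩ := exists_comp_eq_of_comp_eq ρ q hquot _ _ h3
    have h4 : ξ₁' ≫ (ρ' σ).hom = ξ₂ := by
      apply pullback.hom_ext
      · rw [Category.assoc, (hρ' σ).1, ← Category.assoc]
        exact hσ
      · rw [Category.assoc, (hρ' σ).2, ← hc2, ← Category.assoc, ← Category.assoc, h2]
    have h5 : Spec.map j₂ ≫ Spec.map j₁ ≫ η₁ = Spec.map j₂ ≫ Spec.map j₁ ≫ η₂ := by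
      rw [← h1, ← hξ₂, ← h4, Category.assoc, hr.inv σ]
    have e1 : Epi (Spec.map j₂) := epi_specMap_of_field j₂
    have e2 : Epi (Spec.map j₁) := epi_specMap_of_field j₁
    exact (cancel_epi (Spec.map j₁)).mp ((cancel_epi (Spec.map j₂)).mp h5)
  exact Groth.Agent.Lib.Helper70.SpecUH.isUnivHomeo_of m

end Groth.Agent.S13176
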