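import Groth.Statements.S13177
import Groth.Agent.Lib.Helper69.Quot5
import Groth.Agent.Lib.Helper70.SpecUnivHomeo
import Groth.Agent.S13596

set_option autoImplicit false
universe u
open CategoryTheory CategoryTheory.Limits AlgebraicGeometry
open ZeroCyc

namespace Groth.Agent.S13177
open Groth.Agent.Lib.Helper69

theorem ker_toImage {X Y : Scheme.{u}} (f : X ⟶ Y) [QuasiCompact f] : f.toImage.ker = ⊥ := by
  refine Scheme.IdealSheafData.ext_of_iSup_eq_top
    (fun U : Y.affineOpens => (⟨f.imageι ⁻¹ᵁ U.1, U.2.preimage f.imageι⟩ : f.image.affineOpens))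
    ?_ ?_
  · rw [eq_top_iff]
    intro x _
    obtain ⟨_, ⟨U, hU, rfl⟩, hxU, -⟩ :=
      Y.isBasis_affineOpens.exists_subset_of_mem_open (Set.mem_univ (f.imageι x)) isOpen_univ
    exact TopologicalSpace.Opens.mem_iSup.mpr ⟨⟨U, hU⟩, hxU⟩
  · intro U
    rw [Scheme.Hom.ker_apply, Scheme.IdealSheafData.ideal_bot]
    exact (RingHom.injective_iff_ker_eq_bot _).mp (f.toImage_app_injective U)

/-- Let a finite group G act on a scheme X with quotient q : X → Y (affine, G-invariant, O_Y = the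
invariant sections), let i : Z → X be a G-stable closed subscheme with the induced action and r : Z
→ W a quotient of Z by G, and let q(Z) be the scheme-theoretic image of Z in Y. Then the morphism W
→ q(Z) through which Z → q(Z) factors via r is a schematically dominant universal homeomorphism.
(The published statement assumes the quotient of X exists; here both quotients are hypotheses.) -/
theorem result {X Y Z W : Scheme.{u}} {G : Type u} [Group G] [Finite G]
    (ρ : G →* Aut X) (q : X ⟶ Y) (hquot : SGA1.IsQuot ρ q)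
    (i : Z ⟶ X) [IsClosedImmersion i] (ρZ : G →* Aut Z) (hρZ : ∀ σ : G, (ρZ σ).hom ≫ i = i ≫ (ρ σ).hom)
    (r : Z ⟶ W) (hr : SGA1.IsQuot ρZ r)
    (m : W ⟶ (i ≫ q).ker.subscheme) (hm : r ≫ m ≫ (i ≫ q).ker.subschemeι = i ≫ q) :
    FlatMor.IsUnivHomeo m ∧ IsSchemeTheoreticallyDominant m := by
  have hqint : IsIntegralHom q := Groth.Agent.S13596.result ρ q hquot
  have hrsurj : Surjective r := ⟨(Groth.Agent.S2908.result ρZ r hr).1⟩
  have hφqc : QuasiCompact (i ≫ q) := inferInstance
  have hφuc : UniversallyClosed (i ≫ q) := inferInstance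
  -- `r ≫ m` is the canonical map to the scheme theoretic image
  have hrm : r ≫ m = (i ≫ q).toImage := by
    rw [← cancel_mono (i ≫ q).imageι, Category.assoc, (i ≫ q).toImage_imageι]
    exact hm
  have h1 : UniversallyClosed (r ≫ m) := hrm ▸ inferInstance
  have h2 : Surjective (r ≫ m) := by
    rw [hrm]
    exact surjective_of_isDominant_of_isClosed_range _
      ((i ≫ q).toImage.isClosedMap.isClosed_range)
  have hmsurj : Surjective m := Surjective.of_comp r m
  have hmcl : UniversallyClosed m := UniversallyClosed.of_comp_surjective r m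
  have hminj : UniversallyInjective m := by
    apply ((tfae_universallyInjective (f := m)).out 0 1).mpr
    intro K _ η₁ η₂ hη
    dsimp only at hη
    obtain ⟨K₁, _, j₁, ξ₁, hξ₁⟩ := exists_lift_of_surjective r η₁
    obtain ⟨K₂, _, j₂, ξ₂, hξ₂⟩ := exists_lift_of_surjective r (Spec.map j₁ ≫ η₂)
    obtain ⟨ξ₁', hξ₁'⟩ : ∃ t : Spec (.of K₂) ⟶ Z, t = Spec.map j₂ ≫ ξ₁ := ⟨_, rfl⟩
    have h1 : ξ₁' ≫ r = Spec.map j₂ ≫ Spec.map j₁ ≫ η₁ := by
      rw [hξ₁', Category.assoc, hξ₁]
    have h3 : (ξ₁' ≫ i) ≫ q = (ξ₂ ≫ i) ≫ q := by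
      calc (ξ₁' ≫ i) ≫ q = (ξ₁' ≫ r) ≫ m ≫ (i ≫ q).ker.subschemeι := by
            rw [Category.assoc, Category.assoc, hm]
        _ = (ξ₂ ≫ r) ≫ m ≫ (i ≫ q).ker.subschemeι := by
            rw [h1, hξ₂, Category.assoc, Category.assoc, Category.assoc, Category.assoc,
              reassoc_of% hη]
        _ = (ξ₂ ≫ i) ≫ q := by rw [Category.assoc, Category.assoc, hm]
    obtain ⟨σ, hσ⟩ := exists_comp_eq_of_comp_eq ρ q hquot _ _ h3
    have h4 : ξ₁' ≫ (ρZ σ).hom = ξ₂ := by
      rw [← cancel_mono i, Category.assoc, hρZ σ, ← Category.assoc]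
      exact hσ
    have h5 : Spec.map j₂ ≫ Spec.map j₁ ≫ η₁ = Spec.map j₂ ≫ Spec.map j₁ ≫ η₂ := by
      rw [← h1, ← hξ₂, ← h4, Category.assoc, hr.inv σ]
    have e1 : Epi (Spec.map j₂) := epi_specMap_of_field j₂
    have e2 : Epi (Spec.map j₁) := epi_specMap_of_field j₁
    exact (cancel_epi (Spec.map j₁)).mp ((cancel_epi (Spec.map j₂)).mp h5)
  refine ⟨Groth.Agent.Lib.Helper70.SpecUH.isUnivHomeo_of m, ⟨?_⟩⟩
  have hle : m.ker ≤ (r ≫ m).ker := Scheme.Hom.le_ker_comp r m
  rw [hrm, ker_toImage, le_bot_iff] at hle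
  exact hle

end Groth.Agent.S13177
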