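import Groth.Statements.S13178
import Groth.Agent.Lib.Helper25.PolLawFieldEx
import Groth.Agent.Lib.Helper25.FieldQuasiDeg

set_option autoImplicit false
universe u
open scoped TensorProduct
open ZeroCyc

namespace Groth.Agent.S13178

/-- Let K/k be a finite field extension with separable degree d_s and exponent e (the least e ≥ 1 such
that x^e is separable over k for every x ∈ K), and let d ≥ 0. The k-points of Γ^d(Spec K / Spec k)
are the multiplicative polynomial laws K → k over k that are homogeneous of degree d; there is at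
most one such law, and one exists if and only if the quasi-degree d_s·e divides d. (The
identification of k-points of Γ^d with multiplicative homogeneous laws is the universal property of
the algebra of divided powers; the row is stated directly for laws.) -/
theorem result {k : Type u} [Field k] {K : Type u} [Field K] [Algebra k K]
    [FiniteDimensional k K] (d e : ℕ) (he : 0 < e) (hexp : ∀ x : K, x ^ e ∈ separableClosure k K)
    (hmin : ∀ n : ℕ, 0 < n → (∀ x : K, x ^ n ∈ separableClosure k K) → e ≤ n) :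
    (∀ F F' : K →ₚₗ[k] k,
      ((∀ (S : Type u) [CommRing S] [Algebra k S], F.toFun' S 1 = 1 ∧
        ∀ x y : S ⊗[k] K, F.toFun' S (x * y) = F.toFun' S x * F.toFun' S y) ∧
      ∀ (S : Type u) [CommRing S] [Algebra k S] (a : S) (z : S ⊗[k] K), F.toFun' S (a • z) = a ^ d • F.toFun' S z) →
      ((∀ (S : Type u) [CommRing S] [Algebra k S], F'.toFun' S 1 = 1 ∧
        ∀ x y : S ⊗[k] K, F'.toFun' S (x * y) = F'.toFun' S x * F'.toFun' S y) ∧
      ∀ (S : Type u) [CommRing S] [Algebra k S] (a : S) (z : S ⊗[k] K), F'.toFun' S (a • z) = a ^ d • F'.toFun' S z) → F = F') ∧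
    ((∃ F : K →ₚₗ[k] k, ((∀ (S : Type u) [CommRing S] [Algebra k S], F.toFun' S 1 = 1 ∧
        ∀ x y : S ⊗[k] K, F.toFun' S (x * y) = F.toFun' S x * F.toFun' S y) ∧
      ∀ (S : Type u) [CommRing S] [Algebra k S] (a : S) (z : S ⊗[k] K), F.toFun' S (a • z) = a ^ d • F.toFun' S z)) ↔ Field.finSepDegree k K * e ∣ d) := by
  classical
  have mk : ∀ F : K →ₚₗ[k] k,
      ((∀ (S : Type u) [CommRing S] [Algebra k S], F.toFun' S 1 = 1 ∧
        ∀ x y : S ⊗[k] K, F.toFun' S (x * y) = F.toFun' S x * F.toFun' S y) ∧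
      ∀ (S : Type u) [CommRing S] [Algebra k S] (a : S) (z : S ⊗[k] K),
        F.toFun' S (a • z) = a ^ d • F.toFun' S z) →
      ∃ G : PolLaw.MulLaw k K k d, G.law = F := by
    intro F h
    exact ⟨⟨F, Groth.Agent.Lib.Helper25.PolLawCoeff.isHomog_of_commRing F d h.2,
      Groth.Agent.Lib.Helper25.PolLawCoeff.isMult_of_commRing F h.1⟩, rfl⟩
  refine ⟨fun F F' hF hF' => ?_, ⟨fun ⟨F, hF⟩ => ?_, fun hdvd => ?_⟩⟩
  · obtain ⟨G, rfl⟩ := mk F hF
    obtain ⟨G', rfl⟩ := mk F' hF'
    exact Groth.Agent.Lib.Helper25.PolLawCoeff.mulLaw_field_unique G G'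
  · obtain ⟨G, rfl⟩ := mk F hF
    obtain ⟨s, hes, hs, hs'⟩ :=
      Groth.Agent.Lib.Helper25.FieldQuasiDeg.exponent_eq_pow (k := k) (K := K) (ringExpChar k) e he
        hexp hmin
    obtain ⟨w, hw⟩ :=
      Groth.Agent.Lib.Helper25.FieldQuasiDeg.exists_natDegree_minpoly_eq (k := k) (K := K)
        (ringExpChar k) s hs hs'
    have := Groth.Agent.Lib.Helper25.PolLawCoeff.natDegree_minpoly_dvd G w
    rw [hw, ← hes] at this
    exact this
  · obtain ⟨m, hm⟩ := hdvd
    obtain ⟨s, hes, hs, hs'⟩ :=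
      Groth.Agent.Lib.Helper25.FieldQuasiDeg.exponent_eq_pow (k := k) (K := K) (ringExpChar k) e he
        hexp hmin
    obtain ⟨N⟩ := Groth.Agent.Lib.Helper25.PolLawCoeff.exists_normMulLaw (k := k)
      (separableClosure k K)
    set G := Groth.Agent.Lib.Helper25.PolLawCoeff.powMulLaw
      (Groth.Agent.Lib.Helper25.PolLawCoeff.frobMulLaw (ringExpChar k) (separableClosure k K) s hs N) m
      with hG
    have hdeg : Module.finrank k (separableClosure k K) * ringExpChar k ^ s * m = d := by
      rw [hm, hes, Groth.Agent.Lib.Helper25.FieldQuasiDeg.finrank_separableClosure_eq]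
    refine ⟨G.law, fun S _ _ => G.mult S, fun S _ _ a z => ?_⟩
    rw [G.homog S a z]
    exact congrArg (fun j => a ^ j • G.law.toFun' S z) hdeg

end Groth.Agent.S13178
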