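import Groth.Statements.S13181
import Groth.Agent.Lib.Helper69.QuotLocal

set_option autoImplicit false
universe u
open CategoryTheory CategoryTheory.Limits AlgebraicGeometry
open ZeroCyc

namespace Groth.Agent.S13181
open HomogeneousLocalization Graded Polynomial

section Chart

variable {R A : Type u} [CommRing R] [CommRing A] [Algebra R A] (𝒜 : ℕ → Submodule R A)
  [GradedAlgebra 𝒜]

/-- `awayι` in terms of `fromSpec`. -/
theorem awayι_eq {n : ℕ} (f : A) (hf : f ∈ 𝒜 n) (hn : 0 < n) :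
    Proj.awayι 𝒜 f hf hn = Spec.map (Proj.basicOpenIsoAway 𝒜 f hf hn).inv ≫
      (Proj.isAffineOpen_basicOpen 𝒜 f hf hn).fromSpec := by
  rw [Proj.awayι, IsAffineOpen.fromSpec, ← Category.assoc]
  congr 1
  rw [← cancel_epi (Proj.basicOpenIsoSpec 𝒜 f hf hn).hom, Iso.hom_inv_id,
    Proj.basicOpenIsoSpec_hom, Proj.basicOpenToSpec, Category.assoc, ← Spec.map_comp_assoc,
    ← Proj.basicOpenIsoAway_hom 𝒜 f hf hn, Iso.inv_hom_id, Spec.map_id, Category.id_comp,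
    ← IsAffineOpen.isoSpec_hom (Proj.isAffineOpen_basicOpen 𝒜 f hf hn), Iso.hom_inv_id]

/-- From an identity of chart morphisms to an identity of section maps. -/
theorem appLE_eq_of_chart {Z₁ Z₂ : Scheme.{u}} (φ : Z₁ ⟶ Z₂) {V : Z₂.Opens} {W : Z₁.Opens}
    (hV : IsAffineOpen V) (hW : IsAffineOpen W) (e : W ≤ φ ⁻¹ᵁ V) {R₁ R₂ : CommRingCat.{u}}
    (eV : R₂ ≅ Γ(Z₂, V)) (eW : R₁ ≅ Γ(Z₁, W)) (θ : R₂ ⟶ R₁)
    (h : (Spec.map eW.inv ≫ hW.fromSpec) ≫ φ = Spec.map θ ≫ Spec.map eV.inv ≫ hV.fromSpec) :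
    φ.appLE V W e = eV.inv ≫ θ ≫ eW.hom := by
  rw [Category.assoc, ← IsAffineOpen.SpecMap_appLE_fromSpec φ hV hW e, ← Category.assoc,
    ← Category.assoc, cancel_mono, ← Spec.map_comp, ← Spec.map_comp, Spec.map_inj] at h
  rw [← Category.assoc, ← h, Category.assoc, Iso.inv_hom_id, Category.comp_id]

theorem coeff_prod_X_sub_C_mem {κ : Type*} [DecidableEq κ] (s : Finset κ) (b : κ → A) (m : ℕ)
    (hb : ∀ j ∈ s, b j ∈ 𝒜 m) :
    ∀ i : ℕ, (∏ j ∈ s, (X - C (b j))).coeff i ∈ 𝒜 (m * (s.card - i)) := by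
  induction s using Finset.induction_on with
  | empty =>
    intro i
    simp only [Finset.prod_empty, Finset.card_empty, Nat.zero_sub, mul_zero]
    rw [Polynomial.coeff_one]
    split_ifs
    · exact SetLike.one_mem_graded 𝒜
    · exact zero_mem _
  | insert j₀ s hj₀ ih =>
    intro i
    have hb' : ∀ j ∈ s, b j ∈ 𝒜 m := fun j hj => hb j (Finset.mem_insert_of_mem hj)
    have hb₀ : b j₀ ∈ 𝒜 m := hb j₀ (Finset.mem_insert_self _ _)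
    specialize ih hb'
    rw [Finset.prod_insert hj₀, Finset.card_insert_of_notMem hj₀, sub_mul, Polynomial.coeff_sub,
      Polynomial.coeff_C_mul]
    have hdeg : (∏ j ∈ s, (X - C (b j))).natDegree ≤ s.card := by
      refine (Polynomial.natDegree_prod_le _ _).trans ?_
      refine (Finset.sum_le_sum (fun j _ => Polynomial.natDegree_X_sub_C_le (b j))).trans ?_
      simp
    refine sub_mem ?_ ?_
    · cases i with
      | zero => simp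
      | succ i' =>
        rw [Polynomial.coeff_X_mul]
        have : s.card + 1 - (i' + 1) = s.card - i' := by omega
        rw [this]
        exact ih i'
    · by_cases hi : i ≤ s.card
      · have : m * (s.card + 1 - i) = m + m * (s.card - i) := by
          have : s.card + 1 - i = (s.card - i) + 1 := by omega
          rw [this]; ring
        rw [this]
        exact SetLike.mul_mem_graded hb₀ (ih i)
      · rw [Polynomial.coeff_eq_zero_of_natDegree_lt (by omega), mul_zero]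
        exact zero_mem _


theorem exists_pos_notMem (x : Proj 𝒜) :
    ∃ (f : A) (m : ℕ) (_ : f ∈ 𝒜 m) (_ : 0 < m), f ∉ x.asHomogeneousIdeal := by
  classical
  by_contra! H
  refine x.not_irrelevant_le fun z hz ↦ ?_
  rw [← DirectSum.sum_support_decompose 𝒜 z]
  exact x.1.toIdeal.sum_mem fun k hk ↦ H _ k (SetLike.coe_mem _) <| by_contra <| by aesop

/-- Positive degree homogeneous basic opens form a basis of `Proj`. -/
theorem isBasis_pos :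
    TopologicalSpace.Opens.IsBasis
      {V : (Proj 𝒜).Opens | ∃ (n : ℕ) (_ : 0 < n) (c : A) (_ : c ∈ 𝒜 n), V = Proj.basicOpen 𝒜 c} := by
  rw [TopologicalSpace.Opens.isBasis_iff_nbhd]
  intro U x hxU
  obtain ⟨_, ⟨f, rfl⟩, hxf, hfU⟩ :=
    TopologicalSpace.Opens.isBasis_iff_nbhd.mp (Proj.isBasis_basicOpen 𝒜) hxU
  rw [Proj.basicOpen_eq_iSup_proj] at hxf
  obtain ⟨i, hxi⟩ := TopologicalSpace.Opens.mem_iSup.mp hxf
  obtain ⟨c', n', c'_deg, hn', hx'⟩ := exists_pos_notMem 𝒜 x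
  refine ⟨Proj.basicOpen 𝒜 (GradedRing.proj 𝒜 i f * c'), ⟨i + n', by omega, _,
    SetLike.mul_mem_graded (Submodule.coe_mem _) c'_deg, rfl⟩, ?_, ?_⟩
  · rw [Proj.basicOpen_mul]
    exact ⟨hxi, hx'⟩
  · rw [Proj.basicOpen_mul]
    refine inf_le_left.trans (le_trans ?_ hfU)
    rw [Proj.basicOpen_eq_iSup_proj 𝒜 f]
    exact le_iSup (fun i => Proj.basicOpen 𝒜 (GradedRing.proj 𝒜 i f)) i

variable {G : Type u} [Group G] [Finite G] [MulSemiringAction G A]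
    (hGdeg : ∀ (σ : G) (i : ℕ) (a : A), a ∈ 𝒜 i → σ • a ∈ 𝒜 i)
    {C : Type u} [CommRing C] [Algebra R C] (𝒞 : ℕ → Submodule R C) [GradedAlgebra 𝒞]
    (ι : C →ₐ[R] A) (hι : Function.Injective ι)
    (hιdeg : ∀ (i : ℕ) (a : A), a ∈ (𝒞 i).map ι.toLinearMap ↔ (a ∈ 𝒜 i ∧ ∀ σ : G, σ • a = a))

include hGdeg hιdeg in
theorem exists_invariant_notMem (x : Proj 𝒜) :
    ∃ (n : ℕ) (_ : 0 < n) (c : C) (_ : c ∈ 𝒞 n), ι c ∉ x.asHomogeneousIdeal := by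
  classical
  obtain ⟨f, m, f_deg, hm, hx⟩ := exists_pos_notMem 𝒜 x
  have := Fintype.ofFinite G
  have hnt : Nontrivial A := by
    by_contra h
    rw [not_nontrivial_iff_subsingleton] at h
    exact hx (by rw [Subsingleton.elim f 0]; exact zero_mem _)
  set P := MulSemiringAction.charpoly G f with hP
  have hmonic : P.Monic := MulSemiringAction.monic_charpoly G f
  have heval : P.eval f = 0 := MulSemiringAction.eval_charpoly G f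
  have hdeg : P.natDegree = Fintype.card G := by
    rw [hP, MulSemiringAction.charpoly_eq, Polynomial.natDegree_prod_of_monic _ _
      (fun g _ => Polynomial.monic_X_sub_C _)]
    simp [Polynomial.natDegree_X_sub_C]
  have hNpos : 0 < Fintype.card G := Fintype.card_pos
  have hcoeff : ∀ i, P.coeff i ∈ 𝒜 (m * (Fintype.card G - i)) := by
    intro i
    have := coeff_prod_X_sub_C_mem 𝒜 (Finset.univ : Finset G) (fun g => g • f) m
      (fun g _ => hGdeg g m f f_deg) i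
    rwa [Finset.card_univ] at this
  have hex : ∃ i, i < Fintype.card G ∧ P.coeff i ∉ x.asHomogeneousIdeal := by
    by_contra! H
    apply hx
    have h1 : P.eval f = ∑ i ∈ Finset.range (P.natDegree + 1), P.coeff i * f ^ i :=
      Polynomial.eval_eq_sum_range f
    rw [heval, Finset.sum_range_succ, hmonic.coeff_natDegree, one_mul, hdeg] at h1
    have h2 : f ^ Fintype.card G ∈ x.asHomogeneousIdeal.toIdeal := by
      have : f ^ Fintype.card G = - ∑ i ∈ Finset.range (Fintype.card G), P.coeff i * f ^ i := by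
        rw [eq_neg_iff_add_eq_zero, add_comm]; exact h1.symm
      rw [this]
      refine neg_mem (Ideal.sum_mem _ fun i hi => Ideal.mul_mem_right _ _ ?_)
      exact H i (Finset.mem_range.mp hi)
    exact x.isPrime.mem_of_pow_mem _ h2
  obtain ⟨i, hi, hnot⟩ := hex
  have hinv : ∀ σ : G, σ • P.coeff i = P.coeff i := fun σ =>
    MulSemiringAction.smul_coeff_charpoly f i σ
  obtain ⟨c, hc, hcι⟩ := (hιdeg _ (P.coeff i)).mpr ⟨hcoeff i, hinv⟩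
  refine ⟨m * (Fintype.card G - i), Nat.mul_pos hm (by omega), c, hc, ?_⟩
  change ι.toLinearMap c ∉ _
  rw [hcι]
  exact hnot

/-- The graded ring hom of the action. -/
def gσ (σ : G) : 𝒜 →+*ᵍ 𝒜 where
  toRingHom := MulSemiringAction.toRingHom G A σ
  map_mem {i x} hx := hGdeg σ i x hx

include hιdeg in
theorem ι_mem {i : ℕ} {x : C} (hx : x ∈ 𝒞 i) : ι x ∈ 𝒜 i :=
  ((hιdeg i (ι x)).mp (Submodule.mem_map_of_mem (f := ι.toLinearMap) hx)).1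

include hιdeg in
theorem ι_inv {i : ℕ} {x : C} (hx : x ∈ 𝒞 i) (σ : G) : σ • ι x = ι x :=
  ((hιdeg i (ι x)).mp (Submodule.mem_map_of_mem (f := ι.toLinearMap) hx)).2 σ

/-- The graded ring hom `ι`. -/
def ιg : 𝒞 →+*ᵍ 𝒜 where
  toRingHom := ι.toRingHom
  map_mem {i x} hx := ι_mem 𝒜 𝒞 ι hιdeg hx

theorem val_map_eq {B : Type u} [CommRing B] [Algebra R B] (ℬ : ℕ → Submodule R B)
    [GradedAlgebra ℬ] (g : ℬ →+*ᵍ 𝒜) (P : Submonoid B) (Q : Submonoid A)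
    (hle : P ≤ Q.comap g) :
    (algebraMap (HomogeneousLocalization 𝒜 Q) (Localization Q)).comp
        (HomogeneousLocalization.map g hle) =
      (IsLocalization.map (Localization Q) g.toRingHom hle).comp
        (algebraMap (HomogeneousLocalization ℬ P) (Localization P)) := by
  ext y
  obtain ⟨c, rfl⟩ := mk_surjective y
  simp only [RingHom.comp_apply, HomogeneousLocalization.algebraMap_apply, map_mk, val_mk,
    Localization.mk_eq_mk', IsLocalization.map_mk']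
  rfl


theorem act_le (σ : G) (a : A) (ha : σ • a = a) :
    Submonoid.powers a ≤ (Submonoid.powers a).comap (gσ 𝒜 hGdeg σ) := by
  rintro _ ⟨k, rfl⟩
  refine ⟨k, ?_⟩
  change a ^ k = σ • (a ^ k)
  rw [smul_pow', ha]

/-- The action on the degree zero localization. -/
noncomputable def actσ (σ : G) (a : A) (ha : σ • a = a) : Away 𝒜 a →+* Away 𝒜 a :=
  HomogeneousLocalization.map (gσ 𝒜 hGdeg σ) (act_le 𝒜 hGdeg σ a ha)

theorem val_actσ_mk (σ : G) (a : A) (ha : σ • a = a) {n : ℕ} (han : a ∈ 𝒜 n) (k : ℕ) (b : A)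
    (hb : b ∈ 𝒜 (k • n)) :
    (actσ 𝒜 hGdeg σ a ha (Away.mk 𝒜 han k b hb)).val =
      Localization.mk (σ • b) ⟨a ^ k, by use k⟩ := by
  rw [actσ, Away.mk, map_mk, val_mk]
  congr 1
  apply Subtype.ext
  change σ • (a ^ k) = a ^ k
  rw [smul_pow', ha]

include hι in
theorem θ_injective {n : ℕ} (c : C) (hc : c ∈ 𝒞 n) :
    Function.Injective (Away.map (ιg 𝒜 𝒞 ι hιdeg) c) := by
  rw [injective_iff_map_eq_zero]
  intro y hy
  obtain ⟨k, c', hc', rfl⟩ := Away.mk_surjective 𝒞 hc y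
  rw [Away.map_mk] at hy
  rw [HomogeneousLocalization.ext_iff_val, Away.val_mk, val_zero, Localization.mk_eq_mk',
    IsLocalization.mk'_eq_zero_iff] at hy ⊢
  obtain ⟨⟨_, M, rfl⟩, hM⟩ := hy
  refine ⟨⟨c ^ M, M, rfl⟩, ?_⟩
  apply hι
  rw [map_mul, map_pow, map_zero]
  exact hM

include hιdeg in
theorem mem_range_θ {n : ℕ} (c : C) (hc : c ∈ 𝒞 n)
    (t : Away 𝒜 (ιg 𝒜 𝒞 ι hιdeg c))
    (ht : ∀ σ : G, actσ 𝒜 hGdeg σ (ιg 𝒜 𝒞 ι hιdeg c) (ι_inv 𝒜 𝒞 ι hιdeg hc σ) t = t) :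
    t ∈ Set.range (Away.map (ιg 𝒜 𝒞 ι hιdeg) c) := by
  classical
  have := Fintype.ofFinite G
  have han : ιg 𝒜 𝒞 ι hιdeg c ∈ 𝒜 n := ι_mem 𝒜 𝒞 ι hιdeg hc
  obtain ⟨k, b, hb, rfl⟩ := Away.mk_surjective 𝒜 han t
  set a : A := ιg 𝒜 𝒞 ι hιdeg c with ha
  have hσa : ∀ σ : G, σ • a = a := fun σ => ι_inv 𝒜 𝒞 ι hιdeg hc σ
  -- for each σ, a power of `a` kills `σ b - b`
  have h1 : ∀ σ : G, ∃ M : ℕ, a ^ M * (a ^ k * (σ • b)) = a ^ M * (a ^ k * b) := by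
    intro σ
    have := congrArg HomogeneousLocalization.val (ht σ)
    rw [val_actσ_mk 𝒜 hGdeg σ a (hσa σ) han k b hb, Away.val_mk, Localization.mk_eq_mk_iff,
      Localization.r_iff_exists] at this
    obtain ⟨⟨_, M, rfl⟩, hM⟩ := this
    exact ⟨M, hM⟩
  choose Mf hMf using h1
  set M := ∑ σ : G, Mf σ with hMdef
  have h2 : ∀ σ : G, a ^ M * (a ^ k * (σ • b)) = a ^ M * (a ^ k * b) := by
    intro σ
    have hle : Mf σ ≤ M := Finset.single_le_sum (f := Mf) (fun _ _ => Nat.zero_le _)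
      (Finset.mem_univ σ)
    obtain ⟨d, hd⟩ := Nat.exists_eq_add_of_le hle
    rw [hd, pow_add, mul_comm (a ^ Mf σ), mul_assoc, mul_assoc, hMf σ]
  set b' : A := a ^ M * (a ^ k * b) with hb'
  have hb'inv : ∀ σ : G, σ • b' = b' := by
    intro σ
    rw [hb', smul_mul', smul_mul', smul_pow', smul_pow', hσa σ, h2 σ]
  have hb'deg : b' ∈ 𝒜 ((M + 2 * k) • n) := by
    have : (M + 2 * k) • n = M • n + (k • n + k • n) := by
      simp only [smul_eq_mul]; ring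
    rw [this]
    exact SetLike.mul_mem_graded (SetLike.pow_mem_graded M han)
      (SetLike.mul_mem_graded (SetLike.pow_mem_graded k han) hb)
  obtain ⟨c', hc', hcι⟩ := (hιdeg _ b').mpr ⟨hb'deg, hb'inv⟩
  refine ⟨Away.mk 𝒞 hc (M + 2 * k) c' hc', ?_⟩
  rw [Away.map_mk, HomogeneousLocalization.ext_iff_val, Away.val_mk, Away.val_mk,
    Localization.mk_eq_mk_iff, Localization.r_iff_exists]
  refine ⟨1, ?_⟩
  have e1 : (ιg 𝒜 𝒞 ι hιdeg) c' = b' := hcι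
  simp only [OneMemClass.coe_one, one_mul]
  rw [e1, hb']
  change a ^ k * (a ^ M * (a ^ k * b)) = a ^ (M + 2 * k) * b
  ring


variable (ρ : G →* Aut (Proj 𝒜))
    (hρ : ∀ (σ : G) (n : ℕ) (f : A) (hn : 0 < n) (hf : f ∈ 𝒜 n)
      (θ : CommRingCat.of (HomogeneousLocalization.Away 𝒜 f) ⟶ CommRingCat.of (HomogeneousLocalization.Away 𝒜 (σ • f))),
      (algebraMap (HomogeneousLocalization.Away 𝒜 (σ • f)) (Localization.Away (σ • f))).comp θ.hom =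
        (Localization.awayMap (MulSemiringAction.toRingHom G A σ) f).comp
          (algebraMap (HomogeneousLocalization.Away 𝒜 f) (Localization.Away f)) →
      Proj.awayι 𝒜 (σ • f) (hGdeg σ n f hf) hn ≫ (ρ σ).inv = Spec.map θ ≫ Proj.awayι 𝒜 f hf hn)
    (π : Proj 𝒜 ⟶ Proj 𝒞)
    (hπ : ∀ (n : ℕ) (c : C) (hn : 0 < n) (hc : c ∈ 𝒞 n)
      (θ : CommRingCat.of (HomogeneousLocalization.Away 𝒞 c) ⟶ CommRingCat.of (HomogeneousLocalization.Away 𝒜 (ι c))),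
      (algebraMap (HomogeneousLocalization.Away 𝒜 (ι c)) (Localization.Away (ι c))).comp θ.hom =
        (Localization.awayMap ι.toRingHom c).comp
          (algebraMap (HomogeneousLocalization.Away 𝒞 c) (Localization.Away c)) →
      Proj.awayι 𝒜 (ι c) ((hιdeg n (ι c)).mp (Submodule.mem_map_of_mem hc)).1 hn ≫ π =
        Spec.map θ ≫ Proj.awayι 𝒞 c hc hn)

include hπ in
theorem π_chart {n : ℕ} (c : C) (hn : 0 < n) (hc : c ∈ 𝒞 n) :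
    Proj.awayι 𝒜 (ιg 𝒜 𝒞 ι hιdeg c) (ι_mem 𝒜 𝒞 ι hιdeg hc) hn ≫ π =
      Spec.map (CommRingCat.ofHom (Away.map (ιg 𝒜 𝒞 ι hιdeg) c)) ≫ Proj.awayι 𝒞 c hc hn := by
  refine hπ n c hn hc (CommRingCat.ofHom (Away.map (ιg 𝒜 𝒞 ι hιdeg) c)) ?_
  exact val_map_eq 𝒜 𝒞 (ιg 𝒜 𝒞 ι hιdeg) _ _ _

include hρ in
theorem ρ_chart_aux (σ : G) {n : ℕ} (f f' : A) (hf' : f' = σ • f) (hn : 0 < n) (hf : f ∈ 𝒜 n)
    (hf'mem : f' ∈ 𝒜 n)
    (hle : Submonoid.powers f ≤ (Submonoid.powers f').comap (MulSemiringAction.toRingHom G A σ))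
    (θ : CommRingCat.of (Away 𝒜 f) ⟶ CommRingCat.of (Away 𝒜 f'))
    (hθ : (algebraMap (Away 𝒜 f') (Localization.Away f')).comp θ.hom =
      (IsLocalization.map (Localization.Away f') (MulSemiringAction.toRingHom G A σ) hle).comp
        (algebraMap (Away 𝒜 f) (Localization.Away f))) :
    Proj.awayι 𝒜 f' hf'mem hn ≫ (ρ σ).inv = Spec.map θ ≫ Proj.awayι 𝒜 f hf hn := by
  subst hf'
  exact hρ σ n f hn hf θ hθ

include hρ in
theorem ρ_chart (σ : G) {n : ℕ} (a : A) (ha : σ • a = a) (hn : 0 < n) (han : a ∈ 𝒜 n) :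
    Proj.awayι 𝒜 a han hn ≫ (ρ σ).inv =
      Spec.map (CommRingCat.ofHom (actσ 𝒜 hGdeg σ a ha)) ≫ Proj.awayι 𝒜 a han hn := by
  refine ρ_chart_aux 𝒜 hGdeg ρ hρ σ a a ha.symm hn han han (act_le 𝒜 hGdeg σ a ha)
    (CommRingCat.ofHom (actσ 𝒜 hGdeg σ a ha)) ?_
  exact val_map_eq 𝒜 𝒜 (gσ 𝒜 hGdeg σ) _ _ _

include hGdeg hπ in
/-- The preimage of `D₊(c)` is `D₊(ι c)`. -/
theorem preimage_basicOpen {n : ℕ} (c : C) (hn : 0 < n) (hc : c ∈ 𝒞 n) :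
    π ⁻¹ᵁ Proj.basicOpen 𝒞 c = Proj.basicOpen 𝒜 (ιg 𝒜 𝒞 ι hιdeg c) := by
  ext x
  obtain ⟨n', hn', c', hc', hx'⟩ := exists_invariant_notMem 𝒜 hGdeg 𝒞 ι hιdeg x
  have hxr : x ∈ (Proj.awayι 𝒜 (ιg 𝒜 𝒞 ι hιdeg c') (ι_mem 𝒜 𝒞 ι hιdeg hc') hn').opensRange := by
    rw [Proj.opensRange_awayι]
    exact hx'
  obtain ⟨z, rfl⟩ := hxr
  have h1 : π (Proj.awayι 𝒜 (ιg 𝒜 𝒞 ι hιdeg c') (ι_mem 𝒜 𝒞 ι hιdeg hc') hn' z) =
      Proj.awayι 𝒞 c' hc' hn'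
        (Spec.map (CommRingCat.ofHom (Away.map (ιg 𝒜 𝒞 ι hιdeg) c')) z) := by
    rw [← Scheme.Hom.comp_apply, π_chart 𝒜 𝒞 ι hιdeg π hπ c' hn' hc', Scheme.Hom.comp_apply]
  have h2 : Away.map (ιg 𝒜 𝒞 ι hιdeg) c' (Away.isLocalizationElem hc' hc) =
      Away.isLocalizationElem (f := ιg 𝒜 𝒞 ι hιdeg c') (g := ιg 𝒜 𝒞 ι hιdeg c)
        (ι_mem 𝒜 𝒞 ι hιdeg hc') (ι_mem 𝒜 𝒞 ι hιdeg hc) := by
    rw [Away.isLocalizationElem, Away.map_mk, Away.isLocalizationElem]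
    congr 1
    exact map_pow _ _ _
  change π _ ∈ Proj.basicOpen 𝒞 c ↔ _ ∈ Proj.basicOpen 𝒜 (ιg 𝒜 𝒞 ι hιdeg c)
  rw [h1]
  change Spec.map (CommRingCat.ofHom (Away.map (ιg 𝒜 𝒞 ι hιdeg) c')) z ∈
      Proj.awayι 𝒞 c' hc' hn' ⁻¹ᵁ Proj.basicOpen 𝒞 c ↔
    z ∈ Proj.awayι 𝒜 (ιg 𝒜 𝒞 ι hιdeg c') (ι_mem 𝒜 𝒞 ι hιdeg hc') hn' ⁻¹ᵁ
      Proj.basicOpen 𝒜 (ιg 𝒜 𝒞 ι hιdeg c)
  rw [Proj.awayι_preimage_basicOpen 𝒞 hc' hn' hc hn,
    Proj.awayι_preimage_basicOpen 𝒜 (f := ιg 𝒜 𝒞 ι hιdeg c') (g := ιg 𝒜 𝒞 ι hιdeg c)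
      (ι_mem 𝒜 𝒞 ι hιdeg hc') hn' (ι_mem 𝒜 𝒞 ι hιdeg hc) hn]
  change Away.isLocalizationElem hc' hc ∉
      (Spec.map (CommRingCat.ofHom (Away.map (ιg 𝒜 𝒞 ι hιdeg) c')) z).asIdeal ↔
    Away.isLocalizationElem (f := ιg 𝒜 𝒞 ι hιdeg c') (g := ιg 𝒜 𝒞 ι hιdeg c)
      (ι_mem 𝒜 𝒞 ι hιdeg hc') (ι_mem 𝒜 𝒞 ι hιdeg hc) ∉ z.asIdeal
  rw [← h2]
  rfl

include hGdeg hπ in
theorem isAffineHom_π : IsAffineHom π := by
  apply isAffineHom_of_forall_exists_isAffineOpen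
  intro y
  obtain ⟨c, n, hc, hn, hy⟩ := exists_pos_notMem 𝒞 y
  refine ⟨Proj.basicOpen 𝒞 c, hy, Proj.isAffineOpen_basicOpen 𝒞 c hc hn, ?_⟩
  rw [preimage_basicOpen 𝒜 hGdeg 𝒞 ι hιdeg π hπ c hn hc]
  exact Proj.isAffineOpen_basicOpen 𝒜 _ (ι_mem 𝒜 𝒞 ι hιdeg hc) hn

theorem actσ_θ (σ : G) {n : ℕ} (c : C) (hc : c ∈ 𝒞 n) (y : Away 𝒞 c) :
    actσ 𝒜 hGdeg σ (ιg 𝒜 𝒞 ι hιdeg c) (ι_inv 𝒜 𝒞 ι hιdeg hc σ)
      (Away.map (ιg 𝒜 𝒞 ι hιdeg) c y) = Away.map (ιg 𝒜 𝒞 ι hιdeg) c y := by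
  obtain ⟨k, c', hc', rfl⟩ := Away.mk_surjective 𝒞 hc y
  rw [Away.map_mk, HomogeneousLocalization.ext_iff_val, val_actσ_mk, Away.val_mk]
  congr 1
  exact ι_inv 𝒜 𝒞 ι hιdeg hc' σ

include hρ hπ in
theorem inv_π (σ : G) : (ρ σ).hom ≫ π = π := by
  rw [← cancel_epi (ρ σ).inv, Iso.inv_hom_id_assoc]
  apply Scheme.hom_ext_of_forall
  intro x
  obtain ⟨n, hn, c, hc, hx⟩ := exists_invariant_notMem 𝒜 hGdeg 𝒞 ι hιdeg x
  refine ⟨Proj.basicOpen 𝒜 (ιg 𝒜 𝒞 ι hιdeg c), hx, ?_⟩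
  have han : ιg 𝒜 𝒞 ι hιdeg c ∈ 𝒜 n := ι_mem 𝒜 𝒞 ι hιdeg hc
  rw [← cancel_epi (Proj.basicOpenIsoSpec 𝒜 _ han hn).inv, Proj.basicOpenIsoSpec_inv_ι_assoc,
    Proj.basicOpenIsoSpec_inv_ι_assoc,
    reassoc_of% (ρ_chart 𝒜 hGdeg ρ hρ σ (ιg 𝒜 𝒞 ι hιdeg c) (ι_inv 𝒜 𝒞 ι hιdeg hc σ) hn han),
    π_chart 𝒜 𝒞 ι hιdeg π hπ c hn hc, ← Spec.map_comp_assoc]
  congr 2
  ext y
  exact congrArg HomogeneousLocalization.val (actσ_θ 𝒜 hGdeg 𝒞 ι hιdeg σ c hc y).symm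

include hπ in
theorem π_appLE {n : ℕ} (c : C) (hn : 0 < n) (hc : c ∈ 𝒞 n)
    (e : Proj.basicOpen 𝒜 (ιg 𝒜 𝒞 ι hιdeg c) ≤ π ⁻¹ᵁ Proj.basicOpen 𝒞 c) :
    π.appLE (Proj.basicOpen 𝒞 c) (Proj.basicOpen 𝒜 (ιg 𝒜 𝒞 ι hιdeg c)) e =
      (Proj.basicOpenIsoAway 𝒞 c hc hn).inv ≫
        CommRingCat.ofHom (Away.map (ιg 𝒜 𝒞 ι hιdeg) c) ≫
          (Proj.basicOpenIsoAway 𝒜 (ιg 𝒜 𝒞 ι hιdeg c) (ι_mem 𝒜 𝒞 ι hιdeg hc) hn).hom := by
  apply appLE_eq_of_chart π (Proj.isAffineOpen_basicOpen 𝒞 c hc hn)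
    (Proj.isAffineOpen_basicOpen 𝒜 (ιg 𝒜 𝒞 ι hιdeg c) (ι_mem 𝒜 𝒞 ι hιdeg hc) hn) e
  rw [← awayι_eq, ← awayι_eq]
  exact π_chart 𝒜 𝒞 ι hιdeg π hπ c hn hc

include hρ in
theorem ρ_appLE (σ : G) {n : ℕ} (a : A) (ha : σ • a = a) (hn : 0 < n) (han : a ∈ 𝒜 n)
    (e : Proj.basicOpen 𝒜 a ≤ (ρ σ).inv ⁻¹ᵁ Proj.basicOpen 𝒜 a) :
    (ρ σ).inv.appLE (Proj.basicOpen 𝒜 a) (Proj.basicOpen 𝒜 a) e =
      (Proj.basicOpenIsoAway 𝒜 a han hn).inv ≫
        CommRingCat.ofHom (actσ 𝒜 hGdeg σ a ha) ≫ (Proj.basicOpenIsoAway 𝒜 a han hn).hom := by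
  apply appLE_eq_of_chart (ρ σ).inv (Proj.isAffineOpen_basicOpen 𝒜 a han hn)
    (Proj.isAffineOpen_basicOpen 𝒜 a han hn) e
  rw [← awayι_eq]
  exact ρ_chart 𝒜 hGdeg ρ hρ σ a ha hn han

end Chart

/-- Over an affine base Spec R, let B be a graded R-algebra generated by its degree-one part and let a
finite group G act on B by graded R-algebra automorphisms, with ring of invariants C = B^G (graded
by C_n = B_n ∩ B^G, given here as a graded ring with an injective graded map ι onto the invariants).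
Let ρ be the induced action of G on X = Proj B (on each chart D_+(σf) → D_+(f) it is Spec of b/f^k ↦
σ(b)/σ(f)^k) and π : Proj B → Proj C the morphism induced by ι (on D_+(ι c) → D_+(c) it is Spec of
C_(c) → B_(ι c)). Then π is a quotient of X by G: affine, G-invariant, with O_{Proj C} the
G-invariant sections of O_X. (The published statement is over a general base scheme with a
quasi-coherent graded algebra and includes the existence of the quotient; this row is its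
affine-local content, with ρ and π characterised chartwise.) -/
theorem result {R A : Type u} [CommRing R] [CommRing A] [Algebra R A] (𝒜 : ℕ → Submodule R A) [GradedAlgebra 𝒜]
    (hgen : Algebra.adjoin R (𝒜 1 : Set A) = ⊤)
    {G : Type u} [Group G] [Finite G] [MulSemiringAction G A]
    (hGR : ∀ (σ : G) (r : R), σ • algebraMap R A r = algebraMap R A r)
    (hGdeg : ∀ (σ : G) (i : ℕ) (a : A), a ∈ 𝒜 i → σ • a ∈ 𝒜 i)
    {C : Type u} [CommRing C] [Algebra R C] (𝒞 : ℕ → Submodule R C) [GradedAlgebra 𝒞]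
    (ι : C →ₐ[R] A) (hι : Function.Injective ι)
    (hιdeg : ∀ (i : ℕ) (a : A), a ∈ (𝒞 i).map ι.toLinearMap ↔ (a ∈ 𝒜 i ∧ ∀ σ : G, σ • a = a))
    (ρ : G →* Aut (Proj 𝒜))
    (hρ : ∀ (σ : G) (n : ℕ) (f : A) (hn : 0 < n) (hf : f ∈ 𝒜 n)
      (θ : CommRingCat.of (HomogeneousLocalization.Away 𝒜 f) ⟶ CommRingCat.of (HomogeneousLocalization.Away 𝒜 (σ • f))),
      (algebraMap (HomogeneousLocalization.Away 𝒜 (σ • f)) (Localization.Away (σ • f))).comp θ.hom =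
        (Localization.awayMap (MulSemiringAction.toRingHom G A σ) f).comp
          (algebraMap (HomogeneousLocalization.Away 𝒜 f) (Localization.Away f)) →
      Proj.awayι 𝒜 (σ • f) (hGdeg σ n f hf) hn ≫ (ρ σ).inv = Spec.map θ ≫ Proj.awayι 𝒜 f hf hn)
    (π : Proj 𝒜 ⟶ Proj 𝒞)
    (hπ : ∀ (n : ℕ) (c : C) (hn : 0 < n) (hc : c ∈ 𝒞 n)
      (θ : CommRingCat.of (HomogeneousLocalization.Away 𝒞 c) ⟶ CommRingCat.of (HomogeneousLocalization.Away 𝒜 (ι c))),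
      (algebraMap (HomogeneousLocalization.Away 𝒜 (ι c)) (Localization.Away (ι c))).comp θ.hom =
        (Localization.awayMap ι.toRingHom c).comp
          (algebraMap (HomogeneousLocalization.Away 𝒞 c) (Localization.Away c)) →
      Proj.awayι 𝒜 (ι c) ((hιdeg n (ι c)).mp (Submodule.mem_map_of_mem hc)).1 hn ≫ π =
        Spec.map θ ≫ Proj.awayι 𝒞 c hc hn) :
    SGA1.IsQuot ρ π := by
  have haff : IsAffineHom π := isAffineHom_π 𝒜 hGdeg 𝒞 ι hιdeg π hπ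
  have hinv : ∀ g : G, (ρ g).hom ≫ π = π := inv_π 𝒜 hGdeg 𝒞 ι hιdeg ρ hρ π hπ
  refine Groth.Agent.Lib.Helper69.isQuot_of_basis ρ π hinv _ (isBasis_pos 𝒞) ?_ ?_
  · rintro V ⟨n, hn, c, hc, rfl⟩
    have hpre := preimage_basicOpen 𝒜 hGdeg 𝒞 ι hιdeg π hπ c hn hc
    have key : ∀ (W : (Proj 𝒜).Opens) (hW : π ⁻¹ᵁ Proj.basicOpen 𝒞 c = W),
        Function.Injective (π.appLE (Proj.basicOpen 𝒞 c) W hW.ge).hom →
        Function.Injective (π.app (Proj.basicOpen 𝒞 c)).hom := by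
      rintro _ rfl h
      rwa [Scheme.Hom.appLE_eq_app] at h
    apply key _ hpre
    rw [π_appLE 𝒜 𝒞 ι hιdeg π hπ c hn hc]
    simp only [CommRingCat.hom_comp, CommRingCat.hom_ofHom, RingHom.coe_comp]
    refine Function.Injective.comp (Function.Injective.comp ?_ (θ_injective 𝒜 𝒞 ι hι hιdeg c hc)) ?_
    · exact (ConcreteCategory.bijective_of_isIso
        (Proj.basicOpenIsoAway 𝒜 (ιg 𝒜 𝒞 ι hιdeg c) (ι_mem 𝒜 𝒞 ι hιdeg hc) hn).hom).1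
    · exact (ConcreteCategory.bijective_of_isIso (Proj.basicOpenIsoAway 𝒞 c hc hn).inv).1
  · rintro V ⟨n, hn, c, hc, rfl⟩
    have hpre := preimage_basicOpen 𝒜 hGdeg 𝒞 ι hιdeg π hπ c hn hc
    have han : ιg 𝒜 𝒞 ι hιdeg c ∈ 𝒜 n := ι_mem 𝒜 𝒞 ι hιdeg hc
    have key2 : ∀ (W : (Proj 𝒜).Opens) (hW : π ⁻¹ᵁ Proj.basicOpen 𝒞 c = W)
        (e : ∀ g : G, W ≤ (ρ g).hom ⁻¹ᵁ W),
        (∀ t : Γ(Proj 𝒜, W), (∀ g : G, ((ρ g).hom.appLE W W (e g)).hom t = t) →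
          t ∈ Set.range (π.appLE (Proj.basicOpen 𝒞 c) W hW.ge).hom) →
        ∀ s : Γ(Proj 𝒜, π ⁻¹ᵁ Proj.basicOpen 𝒞 c),
          (∀ g : G, Groth.Agent.Lib.Helper69.sectionAct ρ π hinv (Proj.basicOpen 𝒞 c) g s = s) →
          s ∈ Set.range (π.app (Proj.basicOpen 𝒞 c)).hom := by
      rintro _ rfl e h s hs
      rw [← Scheme.Hom.appLE_eq_app]
      exact h s hs
    have he : ∀ g : G, Proj.basicOpen 𝒜 (ιg 𝒜 𝒞 ι hιdeg c) ≤
        (ρ g).hom ⁻¹ᵁ Proj.basicOpen 𝒜 (ιg 𝒜 𝒞 ι hιdeg c) := by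
      intro g
      rw [← hpre]
      exact SGA1.preimage_le_of_inv ρ π hinv g _
    apply key2 _ hpre he
    intro t ht
    have key3 : ∀ (φ ψ : Proj 𝒜 ⟶ Proj 𝒜) (_ : φ = ψ) (W : (Proj 𝒜).Opens) (e₁ : W ≤ φ ⁻¹ᵁ W)
        (e₂ : W ≤ ψ ⁻¹ᵁ W), φ.appLE W W e₁ = ψ.appLE W W e₂ := by
      rintro _ _ rfl _ _ _
      rfl
    have hact : ∀ σ : G, actσ 𝒜 hGdeg σ (ιg 𝒜 𝒞 ι hιdeg c) (ι_inv 𝒜 𝒞 ι hιdeg hc σ)
        ((Proj.basicOpenIsoAway 𝒜 (ιg 𝒜 𝒞 ι hιdeg c) han hn).inv.hom t) =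
        (Proj.basicOpenIsoAway 𝒜 (ιg 𝒜 𝒞 ι hιdeg c) han hn).inv.hom t := by
      intro σ
      have hg : (ρ σ⁻¹).hom = (ρ σ).inv := by rw [map_inv]; rfl
      have he' : Proj.basicOpen 𝒜 (ιg 𝒜 𝒞 ι hιdeg c) ≤
          (ρ σ).inv ⁻¹ᵁ Proj.basicOpen 𝒜 (ιg 𝒜 𝒞 ι hιdeg c) := by
        rw [← hg]; exact he σ⁻¹
      have h1 := ht σ⁻¹
      rw [key3 _ _ hg _ (he σ⁻¹) he',
        ρ_appLE 𝒜 hGdeg ρ hρ σ (ιg 𝒜 𝒞 ι hιdeg c) (ι_inv 𝒜 𝒞 ι hιdeg hc σ) hn han he'] at h1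
      have h2 := congrArg (Proj.basicOpenIsoAway 𝒜 (ιg 𝒜 𝒞 ι hιdeg c) han hn).inv.hom h1
      simp only [CommRingCat.hom_comp, CommRingCat.hom_ofHom, RingHom.comp_apply] at h2
      rw [← RingHom.comp_apply, ← CommRingCat.hom_comp, Iso.hom_inv_id] at h2
      exact h2
    obtain ⟨y, hy⟩ := mem_range_θ 𝒜 hGdeg 𝒞 ι hιdeg c hc _ hact
    refine ⟨(Proj.basicOpenIsoAway 𝒞 c hc hn).hom.hom y, ?_⟩
    rw [π_appLE 𝒜 𝒞 ι hιdeg π hπ c hn hc]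
    simp only [CommRingCat.hom_comp, CommRingCat.hom_ofHom, RingHom.comp_apply]
    rw [← RingHom.comp_apply (Proj.basicOpenIsoAway 𝒞 c hc hn).inv.hom, ← CommRingCat.hom_comp,
      Iso.hom_inv_id]
    change (Proj.basicOpenIsoAway 𝒜 (ιg 𝒜 𝒞 ι hιdeg c) han hn).hom.hom
      (Away.map (ιg 𝒜 𝒞 ι hιdeg) c y) = t
    rw [hy, ← RingHom.comp_apply, ← CommRingCat.hom_comp, Iso.inv_hom_id]
    rfl

end Groth.Agent.S13181
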