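import Groth.Statements.S13184
import Groth.Agent.Lib.Helper68.PerfectRoot

set_option autoImplicit false
universe u
open ZeroCyc

namespace Groth.Agent.S13184

/-- Let k ⊆ K be a finite extension of fields of characteristic p > 0, viewed inside an algebraically
closed field Ω, and for e ≥ 0 let k^{p^{-e}} ⊆ Ω be the field of elements whose p^e-th power lies in
k. Then the compositum k^{p^{-e}}K is separable over k^{p^{-e}} if and only if x^{p^e} is separable
over k for every x ∈ K; hence the exponent of K/k (the least n ≥ 1 with K^n separable over k, a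
power of p) is the least p^e for which k^{p^{-e}} ⊆ k^{p^{-e}}K is separable. -/
theorem result {k : Type u} [Field k] (p : ℕ) [Fact p.Prime] [CharP k p]
    {K : Type u} [Field K] [Algebra k K] [FiniteDimensional k K]
    {Ω : Type u} [Field Ω] [Algebra k Ω] [Algebra K Ω] [IsScalarTower k K Ω] [IsAlgClosed Ω] (e : ℕ) :
    (∀ x : Ω, x ∈ IntermediateField.adjoin k {y : Ω | y ^ (p ^ e) ∈ Set.range (algebraMap k Ω)} ⊔
        IntermediateField.adjoin k (Set.range (algebraMap K Ω)) →
      IsSeparable (IntermediateField.adjoin k {y : Ω | y ^ (p ^ e) ∈ Set.range (algebraMap k Ω)}) x) ↔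
    ∀ x : K, x ^ (p ^ e) ∈ separableClosure k K := by
  classical
  constructor
  · intro h x
    have hx := h (algebraMap K Ω x)
      ((le_sup_right : IntermediateField.adjoin k (Set.range (algebraMap K Ω)) ≤ _)
        (IntermediateField.subset_adjoin _ _ ⟨x, rfl⟩))
    have hx' : IsSeparable (Groth.Agent.Lib.Helper68.rootField (k := k) (Ω := Ω) p e)
        (algebraMap K Ω x) := hx
    rw [Groth.Agent.Lib.Helper68.isSeparable_rootField_iff, ← map_pow] at hx'
    exact mem_separableClosure_iff.mpr hx'.tower_bot
  · intro h x hx
    have hx' : x ∈ Groth.Agent.Lib.Helper68.rootField (k := k) (Ω := Ω) p e ⊔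
        IntermediateField.adjoin k (Set.range (algebraMap K Ω)) := hx
    show IsSeparable (Groth.Agent.Lib.Helper68.rootField (k := k) (Ω := Ω) p e) x
    set L := Groth.Agent.Lib.Helper68.rootField (k := k) (Ω := Ω) p e with hL
    have hle : L ⊔ IntermediateField.adjoin k (Set.range (algebraMap K Ω)) ≤
        (separableClosure L Ω).restrictScalars k := by
      apply sup_le
      · intro y hy
        exact (separableClosure L Ω).algebraMap_mem ⟨y, hy⟩
      · rw [IntermediateField.adjoin_le_iff]
        rintro _ ⟨y, rfl⟩
        show algebraMap K Ω y ∈ separableClosure L Ω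
        rw [mem_separableClosure_iff, hL, Groth.Agent.Lib.Helper68.isSeparable_rootField_iff,
          ← map_pow]
        have hy := mem_separableClosure_iff.mp (h y)
        show (minpoly k (algebraMap K Ω (y ^ p ^ e))).Separable
        rw [minpoly.algebraMap_eq (algebraMap K Ω).injective]
        exact hy
    exact mem_separableClosure_iff.mp (hle hx')

end Groth.Agent.S13184
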