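import Groth.Statements.S13186
import Groth.Agent.Lib.Helper68.GLHilbert90

set_option autoImplicit false
universe u
open GalCoh

namespace Groth.Agent.S13186

/-- Let L/K be a finite Galois extension of fields, n a natural number, and B a map from the Galois
group of L over K to the invertible n × n matrices over L such that B(σ) · σ(B(τ)) = B(στ) for all
σ, τ (σ acting on matrices entrywise, στ applying τ first) and det B(σ) = 1 for every σ. Then there
is an invertible matrix A over L of determinant 1 with B(σ) = A⁻¹ · σ(A) for every σ; that is, every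
1-cocycle of the Galois group with values in SL_n(L) is the coboundary of an element of SL_n(L), so
H¹ of the Galois group with values in SL_n(L) is a point. (The published statement says that every
torsor under the special linear group over K is trivial; this row is the finite-Galois-level cocycle
form that its proof establishes.) -/
theorem result (K L : Type u) [Field K] [Field L]
    [Algebra K L] [FiniteDimensional K L] [IsGalois K L] (n : ℕ)
    (B : (L ≃ₐ[K] L) → GL (Fin n) L)
    (hB : ∀ σ τ : L ≃ₐ[K] L,
      (B σ : Matrix (Fin n) (Fin n) L) * (B τ : Matrix (Fin n) (Fin n) L).map σ =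
        (B (σ * τ) : Matrix (Fin n) (Fin n) L))
    (hdet : ∀ σ : L ≃ₐ[K] L, Matrix.det (B σ : Matrix (Fin n) (Fin n) L) = 1) :
    ∃ A : GL (Fin n) L, Matrix.det (A : Matrix (Fin n) (Fin n) L) = 1 ∧ ∀ σ : L ≃ₐ[K] L,
      (B σ : Matrix (Fin n) (Fin n) L) =
        ((A⁻¹ : GL (Fin n) L) : Matrix (Fin n) (Fin n) L) * (A : Matrix (Fin n) (Fin n) L).map σ := by
  classical
  obtain ⟨A₀, hA₀u, hA₀⟩ := Groth.Agent.Lib.Helper68.gl_hilbert90_matrix
    (K := K) (L := L) (n := n) (fun σ => (B σ : Matrix (Fin n) (Fin n) L)) hB
    (fun σ => (B σ).isUnit)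
  -- the determinant of `A₀` is fixed by the Galois group
  have hδu : IsUnit A₀.det := (Matrix.isUnit_iff_isUnit_det _).mp hA₀u
  have hδfix : ∀ σ : L ≃ₐ[K] L, σ A₀.det = A₀.det := by
    intro σ
    have h := congrArg Matrix.det (hA₀ σ)
    rw [Matrix.det_mul, hdet σ, mul_one] at h
    have : (A₀.map σ).det = σ A₀.det := by
      rw [AlgEquiv.map_det]
      rfl
    exact this.symm.trans h.symm
  -- the scaling matrix
  let D : Matrix (Fin n) (Fin n) L :=
    Matrix.diagonal (fun i => if (i : ℕ) = 0 then A₀.det⁻¹ else 1)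
  have hDmap : ∀ σ : L ≃ₐ[K] L, D.map σ = D := by
    intro σ
    ext i j
    simp only [D, Matrix.map_apply, Matrix.diagonal_apply]
    by_cases hij : i = j
    · simp only [hij, if_true]
      by_cases hj : (j : ℕ) = 0
      · simp only [hj, if_true, map_inv₀, hδfix σ]
      · simp only [hj, if_false, map_one]
    · simp only [hij, if_false, map_zero]
  have hδne : A₀.det ≠ 0 := hδu.ne_zero
  have hDdet : D.det * A₀.det = 1 := by
    rcases n with _ | m
    · simp [Matrix.det_isEmpty]
    · simp only [D, Matrix.det_diagonal]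
      rw [Fin.prod_univ_succ]
      simp only [Fin.val_zero, if_true]
      have : ∀ i : Fin m, ((i.succ : Fin (m+1)) : ℕ) ≠ 0 := fun i => by simp
      simp only [Fin.val_succ, Nat.add_eq_zero_iff, one_ne_zero, and_false, if_false,
        Finset.prod_const_one, mul_one]
      exact inv_mul_cancel₀ hδne
  let A : Matrix (Fin n) (Fin n) L := D * A₀
  have hAdet : A.det = 1 := by
    simp only [A, Matrix.det_mul]
    exact hDdet
  have hAu : IsUnit A := by
    rw [Matrix.isUnit_iff_isUnit_det, hAdet]
    exact isUnit_one
  obtain ⟨Au, hAu'⟩ := hAu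
  have hAB : ∀ σ : L ≃ₐ[K] L, A * (B σ : Matrix (Fin n) (Fin n) L) = A.map σ := by
    intro σ
    have : A.map σ = D.map σ * A₀.map σ := by
      simp only [A]
      exact Matrix.map_mul
    rw [this, hDmap σ, ← hA₀ σ, ← mul_assoc]
  refine ⟨Au, ?_, fun σ => ?_⟩
  · rw [hAu']; exact hAdet
  · have h := hAB σ
    rw [← hAu'] at h
    rw [← h, ← mul_assoc]
    have : ((Au⁻¹ : GL (Fin n) L) : Matrix (Fin n) (Fin n) L) * (Au : Matrix (Fin n) (Fin n) L) = 1 := by
      rw [← Units.val_mul, inv_mul_cancel, Units.val_one]
    rw [this, one_mul]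

end Groth.Agent.S13186
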