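import Groth.Statements.S13188
-- import your own Groth.Agent.* helpers here

set_option autoImplicit false
universe u v w
open Brauer

namespace Groth.Agent.S13188

/-- Evaluation of a homogeneous polynomial at a scaled point. -/
theorem eval_smul_of_isHomogeneous {ι : Type*} [Fintype ι] {K : Type*} [CommRing K]
    (F : MvPolynomial ι K) (d : ℕ) (hF : F.IsHomogeneous d) (t : K) (x : ι → K) :
    MvPolynomial.eval (fun i => t * x i) F = t ^ d * MvPolynomial.eval x F := by
  rw [MvPolynomial.eval_eq', MvPolynomial.eval_eq', Finset.mul_sum]
  apply Finset.sum_congr rfl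
  intro s hs
  have hdeg : ∑ i, s i = d := by
    have := hF (MvPolynomial.mem_support_iff.mp hs)
    rw [← this, Finsupp.weight_apply, Finsupp.sum_fintype _ _ (by simp)]
    simp
  simp_rw [mul_pow]
  rw [Finset.prod_mul_distrib, Finset.prod_pow_eq_pow_sum, hdeg]
  ring

/-- Let K be a field with property C_2 for systems of forms and D a finite-dimensional central division
algebra over K with dim_K D = d². Let N : D → K be multiplicative, a reduced norm of D over K, and
given in the coordinates of a K-basis b of D by a homogeneous polynomial F of degree d, i.e. N(Σ x_i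
b_i) = F(x) for every coordinate vector x (the reduced norm of a central simple algebra of dimension
d² is such a polynomial map of degree d; these data record it). Then N : D → K is surjective. -/
theorem result (K : Type u) [Field K] (hK : Curves.IsCi K 2)
    (D : Type v) [DivisionRing D] [Algebra K D] [Algebra.IsCentral K D] [FiniteDimensional K D]
    (d : ℕ) (hd : Module.finrank K D = d ^ 2)
    (N : D →* K) (hN : CSAGal.IsRedNorm K D N)
    {ι : Type w} [Fintype ι] (b : Module.Basis ι K D)
    (F : MvPolynomial ι K) (hF : F.IsHomogeneous d)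
    (hNF : ∀ x : ι → K, N (∑ i, x i • b i) = MvPolynomial.eval x F) :
    Function.Surjective N := by
  classical
  intro c
  have hcard : Fintype.card ι = d ^ 2 := by
    rw [← hd, Module.finrank_eq_card_basis b]
  have hdpos : 0 < d := by
    rcases Nat.eq_zero_or_pos d with h0 | h0
    · exfalso
      have hpos : 0 < Module.finrank K D := Module.finrank_pos
      rw [hd, h0] at hpos
      simp at hpos
    · exact h0
  -- nonzero elements have nonzero norm
  have hNne : ∀ z : D, z ≠ 0 → N z ≠ 0 := by
    intro z hz h0
    have : N z * N z⁻¹ = 1 := by rw [← map_mul, mul_inv_cancel₀ hz, map_one]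
    rw [h0, zero_mul] at this
    exact zero_ne_one this
  let e : ι ≃ Fin (d ^ 2) := Fintype.equivFinOfCardEq hcard
  let emb : ι → Fin (d ^ 2 + 1) := fun i => Fin.castSucc (e i)
  let G : MvPolynomial (Fin (d ^ 2 + 1)) K :=
    MvPolynomial.rename emb F - MvPolynomial.C c * MvPolynomial.X (Fin.last _) ^ d
  have hG : G.IsHomogeneous d :=
    (hF.rename_isHomogeneous).sub (MvPolynomial.isHomogeneous_C_mul_X_pow c _ d)
  obtain ⟨a, ha0, ha⟩ := hK 1 (d ^ 2 + 1) (fun _ => G) (fun _ => d) (fun _ => hG)
    (fun _ => hdpos) (by simp)
  have haG : MvPolynomial.eval a G = 0 := ha 0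
  have hFx : MvPolynomial.eval (fun i => a (emb i)) F = c * a (Fin.last _) ^ d := by
    have : MvPolynomial.eval a G = MvPolynomial.eval (a ∘ emb) F - c * a (Fin.last _) ^ d := by
      simp only [G, map_sub, MvPolynomial.eval_rename, map_mul, MvPolynomial.eval_C, map_pow,
        MvPolynomial.eval_X]
    rw [this, sub_eq_zero] at haG
    exact haG
  set x : ι → K := fun i => a (emb i) with hx
  set y : K := a (Fin.last _) with hy
  by_cases hy0 : y = 0
  · exfalso
    -- then `x ≠ 0`
    have hx0 : x ≠ 0 := by
      intro hx0
      apply ha0
      funext j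
      refine Fin.lastCases ?_ (fun j' => ?_) j
      · exact hy0
      · have := congrFun hx0 (e.symm j')
        simp only [x, emb, Equiv.apply_symm_apply, Pi.zero_apply] at this
        exact this
    have hz : (∑ i, x i • b i) ≠ 0 := by
      intro hz
      apply hx0
      funext i
      have := Fintype.linearIndependent_iff.mp b.linearIndependent x hz i
      exact this
    apply hNne _ hz
    rw [hNF, hFx, hy0, zero_pow hdpos.ne', mul_zero]
  · refine ⟨∑ i, (y⁻¹ * x i) • b i, ?_⟩
    rw [hNF, eval_smul_of_isHomogeneous F d hF, hFx, inv_pow]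
    field_simp

end Groth.Agent.S13188
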