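import Groth.Statements.S13189
import Mathlib.FieldTheory.Finite.Polynomial
import Mathlib.FieldTheory.Finite.Basic

set_option autoImplicit false
universe u
open CAlg

namespace Groth.Agent.S13189

/-- For a finite field K of cardinality q and n ≥ 0, a polynomial p in n variables over K vanishes at
every point of K^n if and only if p belongs to the ideal generated by the X_i^q − X_i, i = 1, …, n;
in other words that ideal is the kernel of the evaluation homomorphism from K[X_1, …, X_n] to the
ring of K-valued functions on K^n. -/
theorem result (K : Type u) [Field K] [Fintype K]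
    (n : ℕ) (p : MvPolynomial (Fin n) K) :
    (∀ a : Fin n → K, MvPolynomial.eval a p = 0) ↔
      p ∈ Ideal.span (Set.range fun i : Fin n =>
        (MvPolynomial.X i ^ Fintype.card K - MvPolynomial.X i : MvPolynomial (Fin n) K)) := by
  classical
  set q := Fintype.card K with hq
  set J : Ideal (MvPolynomial (Fin n) K) := Ideal.span (Set.range fun i : Fin n =>
        (MvPolynomial.X i ^ q - MvPolynomial.X i : MvPolynomial (Fin n) K)) with hJ
  have hq2 : 2 ≤ q := Fintype.one_lt_card
  have hgen : ∀ (i : Fin n) (a : Fin n → K),
      MvPolynomial.eval a (MvPolynomial.X i ^ q - MvPolynomial.X i : MvPolynomial (Fin n) K) = 0 := by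
    intro i a
    simp [hq, FiniteField.pow_card]
  have hJvanish : ∀ p ∈ J, ∀ a : Fin n → K, MvPolynomial.eval a p = 0 := by
    intro p hp a
    have : J ≤ RingHom.ker (MvPolynomial.eval a) := by
      rw [hJ, Ideal.span_le]
      rintro _ ⟨i, rfl⟩
      exact hgen i a
    exact this hp
  constructor
  · intro hp
    have hpow : ∀ (i : Fin n) (k : ℕ), ∃ k' ≤ q - 1,
        (MvPolynomial.X i ^ k - MvPolynomial.X i ^ k' : MvPolynomial (Fin n) K) ∈ J := by
      intro i k
      induction k using Nat.strong_induction_on with
      | _ k ih =>
        by_cases hk : k ≤ q - 1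
        · exact ⟨k, hk, by simp⟩
        · push_neg at hk
          obtain ⟨k', hk', hmem⟩ := ih (k - q + 1) (by omega)
          refine ⟨k', hk', ?_⟩
          have h1 : (MvPolynomial.X i ^ k - MvPolynomial.X i ^ (k - q + 1) : MvPolynomial (Fin n) K) =
              MvPolynomial.X i ^ (k - q) * (MvPolynomial.X i ^ q - MvPolynomial.X i) := by
            rw [mul_sub, ← pow_add, ← pow_succ]
            congr 2
            omega
          have h2 : (MvPolynomial.X i ^ k - MvPolynomial.X i ^ (k - q + 1) :
              MvPolynomial (Fin n) K) ∈ J := by
            rw [h1]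
            exact J.mul_mem_left _ (Ideal.subset_span ⟨i, rfl⟩)
          have := J.add_mem h2 hmem
          simpa using this
    choose red hred hredmem using hpow
    have hred' : ∀ p : MvPolynomial (Fin n) K,
        ∃ r ∈ MvPolynomial.restrictDegree (Fin n) K (q - 1), p - r ∈ J := by
      intro p
      induction p using MvPolynomial.induction_on' with
      | monomial s c =>
        let s' : Fin n →₀ ℕ := Finsupp.equivFunOnFinite.symm (fun i => red i (s i))
        refine ⟨MvPolynomial.monomial s' c, ?_, ?_⟩
        · rw [MvPolynomial.mem_restrictDegree]
          intro t ht i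
          have := MvPolynomial.support_monomial_subset ht
          rw [Finset.mem_singleton] at this
          subst this
          exact hred i (s i)
        · rw [← Ideal.Quotient.eq, MvPolynomial.monomial_eq, MvPolynomial.monomial_eq,
            Finsupp.prod_fintype _ _ (by simp), Finsupp.prod_fintype _ _ (by simp),
            map_mul, map_mul, map_prod, map_prod]
          congr 1
          apply Finset.prod_congr rfl
          intro i _
          rw [map_pow, map_pow, ← map_pow, ← map_pow, Ideal.Quotient.eq]
          exact hredmem i (s i)
      | add p₁ p₂ h₁ h₂ =>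
        obtain ⟨r₁, hr₁, h₁⟩ := h₁
        obtain ⟨r₂, hr₂, h₂⟩ := h₂
        refine ⟨r₁ + r₂, add_mem hr₁ hr₂, ?_⟩
        have := J.add_mem h₁ h₂
        convert this using 1
        ring
    obtain ⟨r, hr, hpr⟩ := hred' p
    have hr0 : r = 0 := by
      have hra : ∀ a : Fin n → K, MvPolynomial.eval a r = 0 := by
        intro a
        have := hJvanish _ hpr a
        rw [map_sub, hp a, zero_sub, neg_eq_zero] at this
        exact this
      -- transport to an index type in the universe of `K`
      let e : Fin n ≃ ULift.{u} (Fin n) := Equiv.ulift.symm
      have hinj : Function.Injective (MvPolynomial.rename e : MvPolynomial (Fin n) K → _) :=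
        MvPolynomial.rename_injective e e.injective
      apply hinj
      rw [map_zero]
      refine MvPolynomial.eq_zero_of_eval_eq_zero (ULift.{u} (Fin n)) K _ ?_ ?_
      · intro v
        rw [MvPolynomial.eval_rename]
        exact hra _
      · rw [MvPolynomial.mem_restrictDegree]
        intro t ht i
        rw [MvPolynomial.support_rename_of_injective e.injective, Finset.mem_image] at ht
        obtain ⟨t', ht', rfl⟩ := ht
        obtain ⟨j, rfl⟩ := e.surjective i
        rw [Finsupp.mapDomain_apply e.injective]
        exact (MvPolynomial.mem_restrictDegree _ _ _).mp hr t' ht' j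
    rw [hr0, sub_zero] at hpr
    exact hpr
  · intro hp a
    exact hJvanish p hp a

end Groth.Agent.S13189
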