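import Groth.Statements.S13191
-- import your own Groth.Agent.* helpers here

set_option autoImplicit false
universe u v w x
open GalCoh

namespace Groth.Agent.S13191

/-- Let a group G act by automorphisms on a group A, and let E and E' each be a G-equivariant right
A-torsor (a set with a simply transitive right action of A, written m ↦ m·a, and a left action of G
with g(m·a) = (gm)·(ga)). Let m ∈ E and m' ∈ E' be points with attached maps a, a' : G → A (g·m =
m·a(g) and g·m' = m'·a'(g) for all g). Then there is a bijection E ≃ E' commuting with the actions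
of G and of A if and only if a and a' are cohomologous. (The published statement is for a Galois
group acting on discrete modules; this row takes an arbitrary group acting on a group.) -/
theorem result {G : Type u} {A : Type v} {E : Type w} {E' : Type x}
    [Group G] [Group A] [MulDistribMulAction G A]
    [MulAction G E] [MulAction Aᵐᵒᵖ E]
    (hfree : ∀ m₁ m₂ : E, ∃! a : A, m₂ = MulOpposite.op a • m₁)
    (hcompat : ∀ (g : G) (a : A) (m : E), g • (MulOpposite.op a • m) = MulOpposite.op (g • a) • g • m)
    [MulAction G E'] [MulAction Aᵐᵒᵖ E']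
    (hfree' : ∀ m₁ m₂ : E', ∃! a : A, m₂ = MulOpposite.op a • m₁)
    (hcompat' : ∀ (g : G) (a : A) (m : E'), g • (MulOpposite.op a • m) = MulOpposite.op (g • a) • g • m)
    (m : E) (a : G → A) (ha : ∀ g : G, g • m = MulOpposite.op (a g) • m)
    (m' : E') (a' : G → A) (ha' : ∀ g : G, g • m' = MulOpposite.op (a' g) • m') :
    (∃ f : E ≃ E', (∀ (g : G) (e : E), f (g • e) = g • f e) ∧
        ∀ (b : A) (e : E), f (MulOpposite.op b • e) = MulOpposite.op b • f e) ↔
      GpH1.Cohomologous a a' := by
  constructor
  · rintro ⟨f, hfG, hfA⟩
    obtain ⟨c, hc, -⟩ := hfree' m' (f m)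
    refine ⟨c, fun g => ?_⟩
    have h1 : g • f m = MulOpposite.op (c * a g) • m' := by
      rw [← hfG, ha g, hfA, hc, ← mul_smul, ← MulOpposite.op_mul]
    have h2 : g • f m = MulOpposite.op (a' g * g • c) • m' := by
      rw [hc, hcompat', ha' g, ← mul_smul, ← MulOpposite.op_mul]
    have := (hfree' m' (g • f m)).unique h1 h2
    rw [mul_assoc, ← this, inv_mul_cancel_left]
  · rintro ⟨c, hc⟩
    -- coordinates
    have hx : ∀ e : E, e = MulOpposite.op ((hfree m e).choose) • m := fun e => (hfree m e).choose_spec.1
    have hx' : ∀ b : A, (hfree m (MulOpposite.op b • m)).choose = b := fun b =>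
      ((hfree m (MulOpposite.op b • m)).unique (hfree m (MulOpposite.op b • m)).choose_spec.1 rfl)
    have hy : ∀ e : E', e = MulOpposite.op ((hfree' m' e).choose) • m' :=
      fun e => (hfree' m' e).choose_spec.1
    have hy' : ∀ b : A, (hfree' m' (MulOpposite.op b • m')).choose = b := fun b =>
      ((hfree' m' (MulOpposite.op b • m')).unique (hfree' m' (MulOpposite.op b • m')).choose_spec.1 rfl)
    have hca : ∀ g : G, c * a g = a' g * g • c := by
      intro g
      rw [hc g, mul_assoc, mul_inv_cancel_left]
    refine ⟨⟨fun e => MulOpposite.op (c * (hfree m e).choose) • m',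
      fun e' => MulOpposite.op (c⁻¹ * (hfree' m' e').choose) • m, ?_, ?_⟩, ?_, ?_⟩
    · intro e
      show MulOpposite.op (c⁻¹ * (hfree' m' (MulOpposite.op (c * (hfree m e).choose) • m')).choose) • m = e
      rw [hy', inv_mul_cancel_left, ← hx]
    · intro e'
      show MulOpposite.op (c * (hfree m (MulOpposite.op (c⁻¹ * (hfree' m' e').choose) • m)).choose) • m' = e'
      rw [hx', mul_inv_cancel_left, ← hy]
    · intro g e
      show MulOpposite.op (c * (hfree m (g • e)).choose) • m' =
        g • (MulOpposite.op (c * (hfree m e).choose) • m')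
      have he : g • e = MulOpposite.op (a g * g • (hfree m e).choose) • m := by
        conv_lhs => rw [hx e]
        rw [hcompat, ha g, ← mul_smul, ← MulOpposite.op_mul]
      rw [he, hx', hcompat', ha' g, ← mul_smul, ← MulOpposite.op_mul, smul_mul', ← mul_assoc, hca g,
        mul_assoc]
    · intro b e
      show MulOpposite.op (c * (hfree m (MulOpposite.op b • e)).choose) • m' =
        MulOpposite.op b • (MulOpposite.op (c * (hfree m e).choose) • m')
      have he : MulOpposite.op b • e = MulOpposite.op ((hfree m e).choose * b) • m := by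
        conv_lhs => rw [hx e]
        rw [← mul_smul, ← MulOpposite.op_mul]
      rw [he, hx', ← mul_smul, ← MulOpposite.op_mul, mul_assoc]

end Groth.Agent.S13191
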