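import Groth.Statements.S13194
import Groth.Agent.Lib.Helper68.GalDescent
import Mathlib.Algebra.CharP.Lemmas
import Mathlib.Algebra.CharP.Frobenius

set_option autoImplicit false
universe u
open GalCoh

namespace Groth.Agent.S13194

/-- Let K be a field of characteristic p > 0, L a separable closure of K, and χ a locally constant map
from the automorphism group of L over K (Krull topology) to Z/pZ with χ(στ) = χ(σ) + χ(τ) for all σ,
τ — a continuous 1-cocycle for the trivial action. Then there is an element x of L with x^p − x in K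
such that σ(x) − x equals χ(σ), read in the prime field of L, for every σ. Together with the
elementary facts that σ ↦ σ(x) − x is such a cocycle for every x with x^p − x in K and vanishes
exactly when x lies in K, this identifies the first continuous cohomology group of the absolute
Galois group of K with coefficients Z/pZ with K/℘(K), ℘(y) = y^p − y. -/
theorem result (p : ℕ) [Fact p.Prime]
    (K L : Type u) [Field K] [Field L] [Algebra K L] [CharP K p] [IsSepClosure K L]
    (χ : (L ≃ₐ[K] L) → ZMod p) (hχ : ∀ σ τ : L ≃ₐ[K] L, χ (σ * τ) = χ σ + χ τ)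
    (hlc : IsLocallyConstant χ) :
    ∃ x : L, x ^ p - x ∈ Set.range (algebraMap K L) ∧
      ∀ σ : L ≃ₐ[K] L, σ x - x = ((χ σ).val : L) := by
  haveI : CharP L p := charP_of_injective_algebraMap (algebraMap K L).injective p
  let a : (L ≃ₐ[K] L) → L := fun σ => ((χ σ).val : L)
  have hlca : IsLocallyConstant a := hlc.comp (fun z : ZMod p => ((z.val : ℕ) : L))
  have hcast : ∀ z : ZMod p, ((z.val : ℕ) : L) = ZMod.cast z := fun z => ZMod.natCast_val z
  have ha : ∀ σ τ : L ≃ₐ[K] L, a (σ * τ) = a σ + σ (a τ) := by
    intro σ τ
    show ((χ (σ * τ)).val : L) = ((χ σ).val : L) + σ ((χ τ).val : L)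
    rw [map_natCast, hχ, hcast, hcast, hcast, ZMod.cast_add (dvd_refl p)]
  obtain ⟨y, hy⟩ := Groth.Agent.Lib.Helper68.add_hilbert90_locallyConstant a ha hlca
  refine ⟨y, ?_, fun σ => (hy σ).symm⟩
  rw [InfiniteGalois.mem_range_algebraMap_iff_fixed]
  intro σ
  have hσy : σ y = y + a σ := by rw [hy σ]; ring
  have hap : (a σ) ^ p = a σ := by
    show (((χ σ).val : ℕ) : L) ^ p = (((χ σ).val : ℕ) : L)
    rw [← frobenius_def, map_natCast]
  rw [map_sub, map_pow, hσy, add_pow_char, hap]
  ring

end Groth.Agent.S13194
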