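import Groth.Statements.S13198
import Mathlib
import Groth.Agent.Lib.Helper48.LocalTensor

set_option autoImplicit false
universe u
open scoped TensorProduct
open Hensel

namespace Groth.Agent.S13198

/-- Let R be a local ring which is strictly henselian (henselian, with separably closed residue field),
A a local ring which is an integral R-algebra with local structure map and whose residue field is
purely inseparable over that of R, and B a local ring with a local homomorphism R → B. Then A ⊗_R B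
is a local ring, the map B → A ⊗_R B is local, and the residue field extension of A ⊗_R B over B is
purely inseparable: every element of A ⊗_R B has a p^n-th power, p the characteristic exponent of
the residue field of B, congruent modulo the maximal ideal to an element 1 ⊗ b. -/
theorem result
    (R A B : Type u) [CommRing R] [HenselianLocalRing R] [IsSepClosed (IsLocalRing.ResidueField R)]
    [CommRing A] [IsLocalRing A] [Algebra R A] [IsLocalHom (algebraMap R A)] [Algebra.IsIntegral R A]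
    [IsPurelyInseparable (IsLocalRing.ResidueField R) (IsLocalRing.ResidueField A)]
    [CommRing B] [IsLocalRing B] [Algebra R B] [IsLocalHom (algebraMap R B)] :
    ∃ _ : IsLocalRing (A ⊗[R] B),
      IsLocalHom (Algebra.TensorProduct.includeRight : B →ₐ[R] A ⊗[R] B).toRingHom ∧
      ∀ x : A ⊗[R] B, ∃ (n : ℕ) (b : B),
        x ^ (ringExpChar (IsLocalRing.ResidueField B)) ^ n - (1 : A) ⊗ₜ[R] b ∈ IsLocalRing.maximalIdeal (A ⊗[R] B) := by
  classical
  obtain ⟨hloc, hL, hRt⟩ :=
    Groth.Agent.Lib.Helper48.isLocalRing_tensorProduct_of_isPurelyInseparable R B A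
      (Or.inl inferInstance)
  have hC : IsLocalRing (A ⊗[R] B) :=
    (Algebra.TensorProduct.comm R B A).toRingEquiv.isLocalRing
  -- `includeRight` is local
  have hIR : IsLocalHom (Algebra.TensorProduct.includeRight : B →ₐ[R] A ⊗[R] B).toRingHom := by
    refine ⟨fun b hb => ?_⟩
    have h1 : IsUnit ((Algebra.TensorProduct.comm R B A).symm
        ((Algebra.TensorProduct.includeRight : B →ₐ[R] A ⊗[R] B) b)) :=
      hb.map (Algebra.TensorProduct.comm R B A).symm
    have h2 : (Algebra.TensorProduct.comm R B A).symm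
        ((Algebra.TensorProduct.includeRight : B →ₐ[R] A ⊗[R] B) b) =
        (Algebra.TensorProduct.includeLeft : B →ₐ[R] B ⊗[R] A).toRingHom b := by
      simp [Algebra.TensorProduct.includeRight_apply, Algebra.TensorProduct.includeLeft_apply]
    rw [h2] at h1
    exact hL.map_nonunit b h1
  -- `includeLeft` is local
  have hIL : ∀ a : A, IsUnit ((a ⊗ₜ[R] (1 : B)) : A ⊗[R] B) → IsUnit a := by
    intro a ha
    have h1 : IsUnit ((Algebra.TensorProduct.comm R B A).symm (a ⊗ₜ[R] (1 : B))) :=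
      ha.map (Algebra.TensorProduct.comm R B A).symm
    have h2 : (Algebra.TensorProduct.comm R B A).symm (a ⊗ₜ[R] (1 : B)) =
        (Algebra.TensorProduct.includeRight : A →ₐ[R] B ⊗[R] A).toRingHom a := by
      simp [Algebra.TensorProduct.includeRight_apply]
    rw [h2] at h1
    exact hRt.map_nonunit a h1
  refine ⟨hC, hIR, ?_⟩
  -- exponential characteristics
  obtain ⟨q, hq⟩ : ∃ q : ℕ, q = ringExpChar (IsLocalRing.ResidueField B) := ⟨_, rfl⟩
  rw [← hq]
  haveI hqB : ExpChar (IsLocalRing.ResidueField B) q := hq ▸ inferInstance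
  haveI hqR : ExpChar (IsLocalRing.ResidueField R) q :=
    RingHom.expChar (algebraMap (IsLocalRing.ResidueField R) (IsLocalRing.ResidueField B))
      (RingHom.injective _) q
  haveI hqC : ExpChar (IsLocalRing.ResidueField (A ⊗[R] B)) q :=
    expChar_of_injective_ringHom
      (f := IsLocalRing.ResidueField.map
        (Algebra.TensorProduct.includeRight : B →ₐ[R] A ⊗[R] B).toRingHom)
      (RingHom.injective _) q
  -- the predicate in the residue field
  have key : ∀ x : A ⊗[R] B, ∃ (n : ℕ) (b : B),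
      IsLocalRing.residue (A ⊗[R] B) x ^ q ^ n =
        IsLocalRing.residue (A ⊗[R] B) ((1 : A) ⊗ₜ[R] b) := by
    have hmul : ∀ x y : A ⊗[R] B,
        (∃ (n : ℕ) (b : B), IsLocalRing.residue (A ⊗[R] B) x ^ q ^ n =
          IsLocalRing.residue (A ⊗[R] B) ((1 : A) ⊗ₜ[R] b)) →
        (∃ (n : ℕ) (b : B), IsLocalRing.residue (A ⊗[R] B) y ^ q ^ n =
          IsLocalRing.residue (A ⊗[R] B) ((1 : A) ⊗ₜ[R] b)) →
        (∃ (n : ℕ) (b : B), IsLocalRing.residue (A ⊗[R] B) (x * y) ^ q ^ n =
          IsLocalRing.residue (A ⊗[R] B) ((1 : A) ⊗ₜ[R] b)) := by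
      rintro x y ⟨n, b, hb⟩ ⟨m, c, hc⟩
      refine ⟨n + m, b ^ q ^ m * c ^ q ^ n, ?_⟩
      have e1 : IsLocalRing.residue (A ⊗[R] B) x ^ q ^ (n + m) =
          (IsLocalRing.residue (A ⊗[R] B) x ^ q ^ n) ^ q ^ m := by
        rw [← pow_mul, ← pow_add]
      have e2 : IsLocalRing.residue (A ⊗[R] B) y ^ q ^ (n + m) =
          (IsLocalRing.residue (A ⊗[R] B) y ^ q ^ m) ^ q ^ n := by
        rw [← pow_mul, ← pow_add, add_comm]
      have e3 : ((1 : A) ⊗ₜ[R] (b ^ q ^ m * c ^ q ^ n) : A ⊗[R] B) =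
          ((1 : A) ⊗ₜ[R] b) ^ q ^ m * ((1 : A) ⊗ₜ[R] c) ^ q ^ n := by
        simp [Algebra.TensorProduct.tmul_pow, Algebra.TensorProduct.tmul_mul_tmul]
      rw [map_mul, mul_pow, e1, e2, hb, hc, e3, map_mul, map_pow, map_pow]
    have hadd : ∀ x y : A ⊗[R] B,
        (∃ (n : ℕ) (b : B), IsLocalRing.residue (A ⊗[R] B) x ^ q ^ n =
          IsLocalRing.residue (A ⊗[R] B) ((1 : A) ⊗ₜ[R] b)) →
        (∃ (n : ℕ) (b : B), IsLocalRing.residue (A ⊗[R] B) y ^ q ^ n =
          IsLocalRing.residue (A ⊗[R] B) ((1 : A) ⊗ₜ[R] b)) →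
        (∃ (n : ℕ) (b : B), IsLocalRing.residue (A ⊗[R] B) (x + y) ^ q ^ n =
          IsLocalRing.residue (A ⊗[R] B) ((1 : A) ⊗ₜ[R] b)) := by
      rintro x y ⟨n, b, hb⟩ ⟨m, c, hc⟩
      refine ⟨n + m, b ^ q ^ m + c ^ q ^ n, ?_⟩
      have e1 : IsLocalRing.residue (A ⊗[R] B) x ^ q ^ (n + m) =
          (IsLocalRing.residue (A ⊗[R] B) x ^ q ^ n) ^ q ^ m := by
        rw [← pow_mul, ← pow_add]
      have e2 : IsLocalRing.residue (A ⊗[R] B) y ^ q ^ (n + m) =
          (IsLocalRing.residue (A ⊗[R] B) y ^ q ^ m) ^ q ^ n := by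
        rw [← pow_mul, ← pow_add, add_comm]
      have e3 : ((1 : A) ⊗ₜ[R] (b ^ q ^ m + c ^ q ^ n) : A ⊗[R] B) =
          ((1 : A) ⊗ₜ[R] b) ^ q ^ m + ((1 : A) ⊗ₜ[R] c) ^ q ^ n := by
        simp [Algebra.TensorProduct.tmul_pow, TensorProduct.tmul_add]
      rw [map_add, add_pow_expChar_pow, e1, e2, hb, hc, e3, map_add, map_pow, map_pow]
    have hright : ∀ b : B, ∃ (n : ℕ) (b' : B),
        IsLocalRing.residue (A ⊗[R] B) ((1 : A) ⊗ₜ[R] b) ^ q ^ n =
          IsLocalRing.residue (A ⊗[R] B) ((1 : A) ⊗ₜ[R] b') := fun b => ⟨0, b, by simp⟩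
    have hleft : ∀ a : A, ∃ (n : ℕ) (b' : B),
        IsLocalRing.residue (A ⊗[R] B) (a ⊗ₜ[R] (1 : B)) ^ q ^ n =
          IsLocalRing.residue (A ⊗[R] B) ((1 : A) ⊗ₜ[R] b') := by
      intro a
      obtain ⟨n, y, hy⟩ := IsPurelyInseparable.pow_mem (IsLocalRing.ResidueField R) q
        (IsLocalRing.residue A a)
      obtain ⟨r, rfl⟩ := IsLocalRing.residue_surjective y
      have hmem : a ^ q ^ n - algebraMap R A r ∈ IsLocalRing.maximalIdeal A := by
        rw [← IsLocalRing.residue_eq_zero_iff, map_sub, map_pow, ← hy, sub_eq_zero]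
        rfl
      refine ⟨n, algebraMap R B r, ?_⟩
      have hmem' : ((a ^ q ^ n - algebraMap R A r) ⊗ₜ[R] (1 : B) : A ⊗[R] B) ∈
          IsLocalRing.maximalIdeal (A ⊗[R] B) := by
        rw [IsLocalRing.mem_maximalIdeal, mem_nonunits_iff]
        intro hu
        exact (IsLocalRing.mem_maximalIdeal _).1 hmem (hIL _ hu)
      rw [← IsLocalRing.residue_eq_zero_iff, TensorProduct.sub_tmul, map_sub, sub_eq_zero] at hmem'
      have e1 : ((algebraMap R A r) ⊗ₜ[R] (1 : B) : A ⊗[R] B) = (1 : A) ⊗ₜ[R] algebraMap R B r := by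
        rw [Algebra.algebraMap_eq_smul_one, Algebra.algebraMap_eq_smul_one, TensorProduct.smul_tmul]
      rw [← map_pow, Algebra.TensorProduct.tmul_pow, one_pow, hmem', e1]
    intro x
    induction x using TensorProduct.induction_on with
    | zero => exact ⟨0, 0, by simp⟩
    | tmul a b =>
      have : (a ⊗ₜ[R] b : A ⊗[R] B) = (a ⊗ₜ[R] (1 : B)) * ((1 : A) ⊗ₜ[R] b) := by
        simp [Algebra.TensorProduct.tmul_mul_tmul]
      rw [this]
      exact hmul _ _ (hleft a) (hright b)
    | add x y hx hy => exact hadd _ _ hx hy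
  intro x
  obtain ⟨n, b, hb⟩ := key x
  refine ⟨n, b, ?_⟩
  rw [← IsLocalRing.residue_eq_zero_iff, map_sub, map_pow, hb, sub_self]

end Groth.Agent.S13198
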