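import Groth.Statements.S13200
import Mathlib
import Groth.Agent.S0600
import Groth.Agent.Lib.Helper73.RegularNormal
import Groth.Agent.Lib.Helper48.HenselianFormalFibres

set_option autoImplicit false
universe u
open Hensel

namespace Groth.Agent.S13200

/-- Let R be an excellent local ring which is strictly henselian (henselian with separably closed
residue field), and let R^ denote its completion at the maximal ideal. An element Δ of R is a prime
element of R exactly when its image in R^ is a prime element of R^. -/
theorem result
    (R : Type u) [CommRing R] [HenselianLocalRing R] [IsSepClosed (IsLocalRing.ResidueField R)]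
    (hR : EGA4.IsExcellent R) (Δ : R) :
    Prime Δ ↔ Prime (algebraMap R (AdicCompletion (IsLocalRing.maximalIdeal R) R) Δ) := by
  obtain ⟨hN, _, hG, _⟩ := hR
  haveI := hN
  have hreg : CAlg.IsRegularHom R (AdicCompletion (IsLocalRing.maximalIdeal R) R) :=
    Groth.Agent.S0600.result R hG _
  haveI hflat : Module.Flat R (AdicCompletion (IsLocalRing.maximalIdeal R) R) := hreg.1
  have hGN : EGA4.HasGeomNormalFormalFibres R := by
    intro p hp k' _ _ hfin
    haveI h1 : IsRegularRing (TensorProduct p.ResidueField k'
        (p.Fiber (AdicCompletion (IsLocalRing.maximalIdeal R) R))) := (hreg.2 p).2 k' hfin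
    exact Groth.Agent.Lib.Helper73.RegularNormal.isNormalRing_of_forall_isRegularLocalRing _
      (fun q _ => inferInstance)
  haveI hff : Module.FaithfullyFlat R (AdicCompletion (IsLocalRing.maximalIdeal R) R) :=
    Module.FaithfullyFlat.of_flat_of_isLocalHom
  have hinj : Function.Injective (algebraMap R (AdicCompletion (IsLocalRing.maximalIdeal R) R)) :=
    FaithfulSMul.algebraMap_injective _ _
  constructor
  · -- prime in R ⟹ prime in the completion
    intro hΔ
    have hp : (Ideal.span {Δ}).IsPrime := (Ideal.span_singleton_prime hΔ.ne_zero).mpr hΔ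
    haveI := hp
    haveI hD : IsDomain (TensorProduct R (Ideal.span {Δ}).ResidueField (EGA4.Cpl R)) :=
      Groth.Agent.Lib.Helper48.isDomain_tensor_cpl_of_finite_residueField R hGN (Ideal.span {Δ})
        (Ideal.span {Δ}).ResidueField
    -- the kernel of `R̂ → κ(p) ⊗ R̂` is `p R̂`
    let φ : EGA4.Cpl R →ₐ[R] TensorProduct R (Ideal.span {Δ}).ResidueField (EGA4.Cpl R) :=
      Algebra.TensorProduct.includeRight
    have hker : ∀ x : EGA4.Cpl R, φ x = 0 →
        x ∈ Ideal.map (algebraMap R (EGA4.Cpl R)) (Ideal.span {Δ}) := by
      intro x hx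
      -- factor through `(R/p) ⊗ R̂`
      let ι : (R ⧸ Ideal.span {Δ}) →ₗ[R] (Ideal.span {Δ}).ResidueField :=
        (IsScalarTower.toAlgHom R (R ⧸ Ideal.span {Δ}) (Ideal.span {Δ}).ResidueField).toLinearMap
      have hι : Function.Injective ι := by
        intro a b hab
        exact Ideal.injective_algebraMap_quotient_residueField (Ideal.span {Δ}) hab
      have hinj2 : Function.Injective (ι.rTensor (EGA4.Cpl R)) :=
        Module.Flat.rTensor_preserves_injective_linearMap ι hι
      have h1 : (ι.rTensor (EGA4.Cpl R))
          (TensorProduct.tmul R (1 : R ⧸ Ideal.span {Δ}) x) = 0 := by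
        rw [LinearMap.rTensor_tmul]
        have : ι 1 = 1 := by simp [ι]
        rw [this]
        exact hx
      have h2 : TensorProduct.tmul R (1 : R ⧸ Ideal.span {Δ}) x = 0 :=
        hinj2 (by rw [h1, map_zero])
      have h3 := congrArg (TensorProduct.quotTensorEquivQuotSMul (EGA4.Cpl R) (Ideal.span {Δ})) h2
      rw [TensorProduct.quotTensorEquivQuotSMul_mk_one_tmul, map_zero,
        Submodule.Quotient.mk_eq_zero, Ideal.smul_top_eq_map] at h3
      exact h3
    have hΔ0 : algebraMap R (AdicCompletion (IsLocalRing.maximalIdeal R) R) Δ ≠ 0 := by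
      rw [Ne, map_eq_zero_iff _ hinj]
      exact hΔ.ne_zero
    rw [← Ideal.span_singleton_prime hΔ0]
    have hmap : Ideal.span {algebraMap R (AdicCompletion (IsLocalRing.maximalIdeal R) R) Δ} =
        Ideal.map (algebraMap R (EGA4.Cpl R)) (Ideal.span {Δ}) := by
      rw [Ideal.map_span, Set.image_singleton]
    have hker' : RingHom.ker φ.toRingHom =
        Ideal.map (algebraMap R (EGA4.Cpl R)) (Ideal.span {Δ}) := by
      apply le_antisymm
      · intro x hx
        exact hker x hx
      · rw [Ideal.map_le_iff_le_comap]
        intro r hr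
        rw [Ideal.mem_comap, RingHom.mem_ker]
        change φ (algebraMap R (EGA4.Cpl R) r) = 0
        rw [AlgHom.commutes, Algebra.TensorProduct.algebraMap_apply]
        have : algebraMap R (Ideal.span {Δ}).ResidueField r = 0 := by
          rw [Ideal.algebraMap_residueField_eq_zero]
          exact hr
        rw [this, TensorProduct.zero_tmul]
    rw [hmap, ← hker']
    exact RingHom.ker_isPrime _
  · -- prime in the completion ⟹ prime in R
    intro hΔ
    have hΔ0 : Δ ≠ 0 := by
      rintro rfl
      exact hΔ.ne_zero (map_zero _)
    refine ⟨hΔ0, ?_, ?_⟩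
    · intro hu
      exact hΔ.not_isUnit (hu.map _)
    · intro a b hab
      have hdvd : ∀ c : R, algebraMap R (AdicCompletion (IsLocalRing.maximalIdeal R) R) Δ ∣
          algebraMap R (AdicCompletion (IsLocalRing.maximalIdeal R) R) c → Δ ∣ c := by
        intro c hc
        have h1 : algebraMap R (AdicCompletion (IsLocalRing.maximalIdeal R) R) c ∈
            Ideal.map (algebraMap R (AdicCompletion (IsLocalRing.maximalIdeal R) R))
              (Ideal.span {Δ}) := by
          rw [Ideal.map_span, Set.image_singleton, Ideal.mem_span_singleton]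
          exact hc
        have h2 : c ∈ Ideal.comap (algebraMap R (AdicCompletion (IsLocalRing.maximalIdeal R) R))
            (Ideal.map (algebraMap R (AdicCompletion (IsLocalRing.maximalIdeal R) R))
              (Ideal.span {Δ})) := h1
        rw [Ideal.comap_map_eq_self_of_faithfullyFlat] at h2
        exact Ideal.mem_span_singleton.mp h2
      have h3 := hΔ.2.2 (algebraMap R _ a) (algebraMap R _ b) (by
        rw [← map_mul]
        exact map_dvd _ hab)
      rcases h3 with h3 | h3
      · exact Or.inl (hdvd a h3)
      · exact Or.inr (hdvd b h3)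

end Groth.Agent.S13200
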