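import Groth.Statements.S13202
import Groth.Agent.Lib.Helper10.BranchSmoothPrime
import Groth.Agent.Lib.Helper10.BranchSmoothStrictData
import Groth.Agent.S0537

set_option autoImplicit false
universe u
open Hensel

namespace Groth.Agent.S13202

/-- Let R be a Noetherian regular ring (every localization at a prime ideal is a regular local ring) and
Δ ∈ R. The element Δ is étale-universally prime — meaning that for every prime ideal p of R
containing Δ and every strict henselization T of R_p, the image of Δ in T is a prime element —
exactly when for every smooth R-algebra R', every prime ideal q of R' and every strict henselization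
T of R'_q, the image of Δ in T is either invertible or a prime element. (Smooth R-algebras and their
strict henselizations are taken in the universe of R.) -/
theorem result
    (R : Type u) [CommRing R] [IsNoetherianRing R]
    (hreg : ∀ (p : Ideal R) [p.IsPrime], IsRegularLocalRing (Localization.AtPrime p)) (Δ : R) :
    (∀ (p : Ideal R) [p.IsPrime], Δ ∈ p →
        ∀ (T : Type u) [CommRing T] [IsLocalRing T] [Algebra (Localization.AtPrime p) T]
          [IsLocalHom (algebraMap (Localization.AtPrime p) T)]
          [Hensel.IsStrictHenselization (Localization.AtPrime p) T],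
          Prime (algebraMap (Localization.AtPrime p) T (algebraMap R (Localization.AtPrime p) Δ))) ↔
    (∀ (R' : Type u) [CommRing R'] [Algebra R R'] [Algebra.Smooth R R'] (q : Ideal R') [q.IsPrime]
        (T : Type u) [CommRing T] [IsLocalRing T] [Algebra (Localization.AtPrime q) T]
          [IsLocalHom (algebraMap (Localization.AtPrime q) T)]
          [Hensel.IsStrictHenselization (Localization.AtPrime q) T],
        IsUnit (algebraMap (Localization.AtPrime q) T (algebraMap R' (Localization.AtPrime q) (algebraMap R R' Δ))) ∨
          Prime (algebraMap (Localization.AtPrime q) T (algebraMap R' (Localization.AtPrime q) (algebraMap R R' Δ)))) := by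
  constructor
  · intro hA R' _ _ _ q _ T _ _ _ _ _
    haveI hlo : q.LiesOver (q.under R) := ⟨rfl⟩
    by_cases hΔ : Δ ∈ q.under R
    · right
      obtain ⟨Rsh, _, _, _, _, hRsh⟩ := Groth.Agent.S0537.result (Localization.AtPrime (q.under R))
      have hprime := hA (q.under R) hΔ Rsh
      letI : Algebra R Rsh := ((algebraMap (Localization.AtPrime (q.under R)) Rsh).comp
        (algebraMap R (Localization.AtPrime (q.under R)))).toAlgebra
      haveI : IsScalarTower R (Localization.AtPrime (q.under R)) Rsh := .of_algebraMap_eq' rfl
      obtain ⟨Q, hQ, hQm, ψ, hψloc, hSH, hcompat⟩ :=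
        Groth.Agent.Lib.Helper10.BranchSmooth.exists_tensor_strictHenselization_data
          (R := R) (S := R') (Ash := Rsh) (Bsh := T) q (q.under R)
      letI : Algebra (Localization.AtPrime Q) T := ψ.toAlgebra
      haveI : IsLocalHom (algebraMap (Localization.AtPrime Q) T) := hψloc
      haveI := hSH
      haveI : HenselianLocalRing Rsh := hRsh.henselian
      haveI : IsSepClosed (IsLocalRing.ResidueField Rsh) := hRsh.isSepClosure.sep_closed
      haveI : (Ideal.span {algebraMap R Rsh Δ}).IsPrime :=
        (Ideal.span_singleton_prime hprime.ne_zero).mpr hprime
      have hP := Groth.Agent.Lib.Helper10.BranchSmooth.isPrime_map_strictHenselization_of_smooth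
        (R := Rsh) (S := TensorProduct R Rsh R') Q (Bsh := T) (Ideal.span {algebraMap R Rsh Δ})
      rw [Ideal.map_span, Ideal.map_span, Set.image_singleton, Set.image_singleton] at hP
      have hel : algebraMap (Localization.AtPrime Q) T
          (algebraMap Rsh (Localization.AtPrime Q) (algebraMap R Rsh Δ)) =
          algebraMap (Localization.AtPrime q) T
            (algebraMap R' (Localization.AtPrime q) (algebraMap R R' Δ)) := by
        rw [IsScalarTower.algebraMap_apply Rsh (TensorProduct R Rsh R') (Localization.AtPrime Q),
          Algebra.TensorProduct.algebraMap_apply, Algebra.algebraMap_self, RingHom.id_apply]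
        have h1 : TensorProduct.tmul R (algebraMap R Rsh Δ) (1 : R') =
            TensorProduct.tmul R (1 : Rsh) (algebraMap R R' Δ) := by
          rw [Algebra.algebraMap_eq_smul_one, Algebra.algebraMap_eq_smul_one,
            TensorProduct.smul_tmul]
        rw [h1]
        exact hcompat _
      -- injectivity of `Rsh → T`
      haveI : IsLocalHom (algebraMap Rsh (Localization.AtPrime Q)) :=
        Groth.Agent.Lib.Helper10.BranchSmooth.isLocalHom_algebraMap_atPrime Q
      haveI : Module.Flat Rsh (Localization.AtPrime Q) :=
        Module.Flat.trans Rsh (TensorProduct R Rsh R') _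
      haveI : Module.FaithfullyFlat Rsh (Localization.AtPrime Q) :=
        Module.FaithfullyFlat.of_flat_of_isLocalHom
      haveI : Module.FaithfullyFlat (Localization.AtPrime Q) T := Groth.Agent.S0539.result _ _
      have h1 : Function.Injective (algebraMap Rsh (Localization.AtPrime Q)) :=
        FaithfulSMul.algebraMap_injective _ _
      have h2 : Function.Injective (algebraMap (Localization.AtPrime Q) T) :=
        FaithfulSMul.algebraMap_injective _ _
      have hne : algebraMap (Localization.AtPrime Q) T
          (algebraMap Rsh (Localization.AtPrime Q) (algebraMap R Rsh Δ)) ≠ 0 := by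
        intro h0
        apply hprime.ne_zero
        apply h1
        apply h2
        rw [map_zero, map_zero]
        exact h0
      have := (Ideal.span_singleton_prime hne).mp hP
      rwa [hel] at this
    · left
      have h1 : algebraMap R R' Δ ∉ q := hΔ
      exact ((IsLocalization.map_units (Localization.AtPrime q)
        (⟨algebraMap R R' Δ, h1⟩ : q.primeCompl))).map _
  · intro hB p _ hΔ T _ _ _ _ _
    haveI : Algebra.Smooth R R := {}
    rcases hB R p T with h | h
    · exfalso
      have h1 : algebraMap R (Localization.AtPrime p) Δ ∈
          IsLocalRing.maximalIdeal (Localization.AtPrime p) :=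
        (IsLocalization.AtPrime.to_map_mem_maximal_iff (Localization.AtPrime p) p Δ).mpr hΔ
      have h2 : ¬ IsUnit (algebraMap R (Localization.AtPrime p) Δ) :=
        (IsLocalRing.mem_maximalIdeal _).mp h1
      exact h2 (isUnit_of_map_unit (algebraMap (Localization.AtPrime p) T) _ h)
    · exact h

end Groth.Agent.S13202
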