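import Groth.Statements.S13203
import Groth.Agent.Lib.Helper68.NeronExt

set_option autoImplicit false
universe u
open CategoryTheory AlgebraicGeometry
open Neron

namespace Groth.Agent.S13203

/-- Let S be a scheme, U ⊆ S a schematically dense open subscheme and N → S a smooth S-scheme with the
Néron mapping property with respect to U: for every smooth S-scheme Y, sending an S-morphism Y → N
to its restriction Y ×_S U → N ×_S U is a bijection onto the U-morphisms. Then for every smooth
morphism g : S' → S the base change N ×_S S' → S' (again smooth) has the Néron mapping property with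
respect to g⁻¹(U): for every smooth S'-scheme Y', restriction to g⁻¹(U) is a bijection from
S'-morphisms Y' → N ×_S S' onto g⁻¹(U)-morphisms. (The published statement is for models which are
algebraic spaces, tested against smooth algebraic spaces, and also says that separatedness is
preserved; this row states the case of a smooth scheme model tested against smooth schemes.) -/
theorem result
    {S S' : Scheme.{u}} (g : S' ⟶ S) [Smooth g]
    (U : S.Opens) (hU : CInt.IsSchematicallyDense U) (N : Over S) [Smooth N.hom]
    (hN : ∀ Y : Over S, Smooth Y.hom →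
      Function.Bijective (fun f : Y ⟶ N => (Over.pullback U.ι).map f))
    (Y' : Over S') [Smooth Y'.hom] :
    Function.Bijective (fun f : Y' ⟶ (Over.pullback g).obj N => (Over.pullback (g ⁻¹ᵁ U).ι).map f) := by
  rw [Groth.Agent.Lib.Helper68.bijective_pullback_map_iff_extProp]
  apply Groth.Agent.Lib.Helper68.extProp_pullback_of_extProp_map
  have hsm : Smooth (Over.mk (Y'.hom ≫ g)).hom := by
    show Smooth (Y'.hom ≫ g)
    infer_instance
  have h := (Groth.Agent.Lib.Helper68.bijective_pullback_map_iff_extProp U.ι
    (Over.mk (Y'.hom ≫ g)) N).mp (hN _ hsm)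
  refine Groth.Agent.Lib.Helper68.extProp_of_range_eq (Over.mk (Y'.hom ≫ g)) N
    (Limits.pullback.fst (Over.mk (Y'.hom ≫ g)).hom U.ι)
    (show Limits.pullback Y'.hom (g ⁻¹ᵁ U).ι ⟶ (Over.mk (Y'.hom ≫ g)).left from
      Limits.pullback.fst Y'.hom (g ⁻¹ᵁ U).ι) ?_ h
  show Set.range (Limits.pullback.fst Y'.hom (g ⁻¹ᵁ U).ι) =
    Set.range (Limits.pullback.fst (Y'.hom ≫ g) U.ι)
  rw [Scheme.Pullback.range_fst, Scheme.Pullback.range_fst, Scheme.Opens.range_ι,
    Scheme.Opens.range_ι]
  rfl

end Groth.Agent.S13203
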