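import Groth.Statements.S13206
import Mathlib.AlgebraicGeometry.Morphisms.Separated
import Mathlib.AlgebraicGeometry.IdealSheaf.Subscheme

set_option autoImplicit false
universe u
open CategoryTheory AlgebraicGeometry
open AlgGrp

namespace Groth.Agent.S13206

/-- Let X → S be a separated morphism of schemes and let a finite group G act on X through
S-automorphisms. Then the functor of G-fixed points is represented by a closed subscheme of X: there
are a scheme Z and a closed immersion i : Z → X with i ∘ g = i for all g ∈ G such that every
morphism x : T → X with g ∘ x = x for all g ∈ G factors uniquely through i. (The published statement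
is for an algebraic space X over S, also treats the locally separated case and notes compatibility
with base change; this row is the separated case for schemes.) -/
theorem result
    {X S : Scheme.{u}} (p : X ⟶ S) [IsSeparated p]
    (G : Type u) [Group G] [Finite G] (ρ : G →* Aut X) (hρ : ∀ g : G, (ρ g).hom ≫ p = p) :
    ∃ (Z : Scheme.{u}) (i : Z ⟶ X), IsClosedImmersion i ∧ (∀ g : G, i ≫ (ρ g).hom = i) ∧
      ∀ (T : Scheme.{u}) (x : T ⟶ X), (∀ g : G, x ≫ (ρ g).hom = x) → ∃! z : T ⟶ Z, z ≫ i = x := by
  -- for each `g`, a closed immersion `ι g : E g ⟶ X` equalizing `ρ g` and the identity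
  have key : ∀ g : G, ∃ (E : Scheme.{u}) (ι : E ⟶ X), IsClosedImmersion ι ∧ ι ≫ (ρ g).hom = ι ∧
      ∀ (T : Scheme.{u}) (x : T ⟶ X), x ≫ (ρ g).hom = x → ∃ l : T ⟶ E, l ≫ ι = x := by
    intro g
    let X' : Over S := Over.mk p
    let f' : X' ⟶ X' := Over.homMk (ρ g).hom (hρ g)
    haveI : IsSeparated X'.hom := ‹IsSeparated p›
    refine ⟨(Limits.equalizer f' (𝟙 X')).left, (Limits.equalizer.ι f' (𝟙 X')).left,
      inferInstance, ?_, ?_⟩
    · have := congr($(Limits.equalizer.condition f' (𝟙 X')).left)
      rw [Over.comp_left, Over.comp_left, Over.id_left, Category.comp_id] at this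
      exact this
    · intro T x hx
      let T' : Over S := Over.mk (x ≫ p)
      let x' : T' ⟶ X' := Over.homMk x rfl
      have hx' : x' ≫ f' = x' ≫ 𝟙 X' := by
        ext1
        rw [Over.comp_left, Over.comp_left, Over.id_left, Category.comp_id]
        exact hx
      refine ⟨(Limits.equalizer.lift x' hx').left, ?_⟩
      have := congr($(Limits.equalizer.lift_ι x' hx').left)
      rw [Over.comp_left] at this
      exact this
  choose E ι hι hιρ hlift using key
  let I : X.IdealSheafData := ⨆ g, (ι g).ker
  have hI : I.subschemeι.ker = I := I.ker_subschemeι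
  refine ⟨I.subscheme, I.subschemeι, inferInstance, ?_, ?_⟩
  · intro g
    have hle : (ι g).ker ≤ I.subschemeι.ker := by
      rw [hI]; exact le_iSup (fun g => (ι g).ker) g
    have := hι g
    rw [← IsClosedImmersion.lift_fac (ι g) I.subschemeι hle, Category.assoc, hιρ g]
  · intro T x hx
    have hle : I.subschemeι.ker ≤ x.ker := by
      rw [hI]
      refine iSup_le fun g => ?_
      obtain ⟨l, hl⟩ := hlift g T x (hx g)
      rw [← hl]
      exact Scheme.Hom.le_ker_comp l (ι g)
    refine ⟨IsClosedImmersion.lift I.subschemeι x hle, IsClosedImmersion.lift_fac _ _ _, ?_⟩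
    intro z hz
    rw [← cancel_mono I.subschemeι, hz, IsClosedImmersion.lift_fac]

end Groth.Agent.S13206
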