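import Groth.Statements.S13207
import Groth.Agent.Lib.Helper68.SigmaNeron

set_option autoImplicit false
universe u
open CategoryTheory CategoryTheory.Limits AlgebraicGeometry
open Neron

namespace Groth.Agent.S13207

/-- Let (S_i)_{i ∈ I} be a family of schemes, (N_i → S_i)_{i ∈ I} morphisms of schemes, S = ∐ S_i and N
= ∐ N_i with the induced morphism N → S, and U ⊆ S a schematically dense open subscheme with
preimages U_i ⊆ S_i. Then N → S is smooth with the Néron mapping property with respect to U — for
every smooth S-scheme Y, restriction to U is a bijection from S-morphisms Y → N onto U-morphisms Y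
×_S U → N ×_S U — if and only if every N_i → S_i is smooth with the Néron mapping property with
respect to U_i. (The published statement is for algebraic spaces N_i tested against smooth algebraic
spaces, and has the same form for separated models; this row is the not-necessarily-separated case
for schemes tested against smooth schemes.) -/
theorem result
    {I : Type u} (B N : I → Scheme.{u}) (f : ∀ i, N i ⟶ B i)
    (U : (∐ B).Opens) (hU : CInt.IsSchematicallyDense U) :
    (Smooth (Limits.Sigma.map f) ∧ ∀ Y : Over (∐ B), Smooth Y.hom →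
        Function.Bijective (fun g : Y ⟶ Over.mk (Limits.Sigma.map f) => (Over.pullback U.ι).map g)) ↔
    ∀ i, Smooth (f i) ∧ ∀ Y : Over (B i), Smooth Y.hom →
        Function.Bijective (fun g : Y ⟶ Over.mk (f i) => (Over.pullback ((Limits.Sigma.ι B i) ⁻¹ᵁ U).ι).map g) := by
  constructor
  · rintro ⟨hsm, hN⟩ i
    refine ⟨?_, fun Y hY => ?_⟩
    · have h1 : Smooth (f i ≫ Limits.Sigma.ι B i) := by
        rw [← Limits.Sigma.ι_map]
        infer_instance
      exact MorphismProperty.of_postcomp (W := @Smooth) (W' := @IsOpenImmersion) (f i)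
        (Limits.Sigma.ι B i) inferInstance h1
    · rw [Groth.Agent.Lib.Helper68.bijective_pullback_map_iff_extProp]
      apply Groth.Agent.Lib.Helper68.extProp_component_of_sigma
      have hsmY : Smooth (Over.mk (Y.hom ≫ Limits.Sigma.ι B i)).hom := by
        show Smooth (Y.hom ≫ Limits.Sigma.ι B i)
        infer_instance
      have E := (Groth.Agent.Lib.Helper68.bijective_pullback_map_iff_extProp U.ι
        (Over.mk (Y.hom ≫ Limits.Sigma.ι B i)) (Over.mk (Limits.Sigma.map f))).mp (hN _ hsmY)
      refine Groth.Agent.Lib.Helper68.extProp_of_range_eq (Over.mk (Y.hom ≫ Limits.Sigma.ι B i))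
        (Over.mk (Limits.Sigma.map f))
        (Limits.pullback.fst (Over.mk (Y.hom ≫ Limits.Sigma.ι B i)).hom U.ι)
        (show Limits.pullback Y.hom ((Limits.Sigma.ι B i) ⁻¹ᵁ U).ι ⟶
            (Over.mk (Y.hom ≫ Limits.Sigma.ι B i)).left from
          Limits.pullback.fst Y.hom ((Limits.Sigma.ι B i) ⁻¹ᵁ U).ι) ?_ E
      show Set.range (Limits.pullback.fst Y.hom ((Limits.Sigma.ι B i) ⁻¹ᵁ U).ι) =
        Set.range (Limits.pullback.fst (Y.hom ≫ Limits.Sigma.ι B i) U.ι)
      rw [Scheme.Pullback.range_fst, Scheme.Pullback.range_fst, Scheme.Opens.range_ι,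
        Scheme.Opens.range_ι]
      rfl
  · intro h
    refine ⟨?_, fun Y hY => ?_⟩
    · rw [IsZariskiLocalAtSource.iff_of_openCover (P := @Smooth) (sigmaOpenCover N)]
      intro i
      show Smooth (Limits.Sigma.ι N i ≫ Limits.Sigma.map f)
      rw [Limits.Sigma.ι_map]
      have := (h i).1
      infer_instance
    · rw [Groth.Agent.Lib.Helper68.bijective_pullback_map_iff_extProp]
      apply Groth.Agent.Lib.Helper68.extProp_sigma_of_components
      intro i
      have hsmY : Smooth (Over.mk (Limits.pullback.snd Y.hom (Limits.Sigma.ι B i))).hom := by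
        show Smooth (Limits.pullback.snd Y.hom (Limits.Sigma.ι B i))
        exact MorphismProperty.pullback_snd _ _ hY
      have E := (Groth.Agent.Lib.Helper68.bijective_pullback_map_iff_extProp
        ((Limits.Sigma.ι B i) ⁻¹ᵁ U).ι
        (Over.mk (Limits.pullback.snd Y.hom (Limits.Sigma.ι B i))) (Over.mk (f i))).mp
          ((h i).2 _ hsmY)
      refine Groth.Agent.Lib.Helper68.extProp_of_range_eq
        (Over.mk (Limits.pullback.snd Y.hom (Limits.Sigma.ι B i))) (Over.mk (f i))
        (Limits.pullback.fst (Over.mk (Limits.pullback.snd Y.hom (Limits.Sigma.ι B i))).hom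
          ((Limits.Sigma.ι B i) ⁻¹ᵁ U).ι)
        (show Limits.pullback (Limits.pullback.fst Y.hom U.ι)
              (Limits.pullback.fst Y.hom (Limits.Sigma.ι B i)) ⟶
            (Over.mk (Limits.pullback.snd Y.hom (Limits.Sigma.ι B i))).left from
          Limits.pullback.snd (Limits.pullback.fst Y.hom U.ι)
            (Limits.pullback.fst Y.hom (Limits.Sigma.ι B i))) ?_ E
      show Set.range (Limits.pullback.snd (Limits.pullback.fst Y.hom U.ι)
            (Limits.pullback.fst Y.hom (Limits.Sigma.ι B i))) =
        Set.range (Limits.pullback.fst (Limits.pullback.snd Y.hom (Limits.Sigma.ι B i))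
          ((Limits.Sigma.ι B i) ⁻¹ᵁ U).ι)
      rw [Scheme.Pullback.range_snd, Scheme.Pullback.range_fst, Scheme.Pullback.range_fst,
        Scheme.Opens.range_ι, Scheme.Opens.range_ι]
      ext x
      show (Y.hom (Limits.pullback.fst Y.hom (Limits.Sigma.ι B i) x)) ∈ U ↔
        ((Limits.Sigma.ι B i) (Limits.pullback.snd Y.hom (Limits.Sigma.ι B i) x)) ∈ U
      rw [← Scheme.Hom.comp_apply, ← Scheme.Hom.comp_apply, Limits.pullback.condition]

end Groth.Agent.S13207
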