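import Groth.Statements.S13209
import Mathlib
import Groth.Agent.Lib.Helper68.NeronSp

set_option autoImplicit false
universe u
open CategoryTheory CategoryTheory.Limits AlgebraicGeometry
open Neron

namespace Groth.Agent.S13209

open Groth.Agent.Lib.Helper68.NeronSp in
/-- Let S be a scheme, U ⊆ S a schematically dense open subscheme and N → S a smooth S-scheme with the
Néron mapping property for schemes with respect to U: for every smooth S-scheme Y, composition with
the projection Y ×_S U → Y is a bijection from S-morphisms Y → N onto S-morphisms Y ×_S U → N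
(equivalently, onto U-morphisms Y ×_S U → N ×_S U). Then N also has the Néron mapping property with
respect to smooth algebraic spaces: for every algebraic space F over S (an fppf sheaf of sets on
S-schemes with representable diagonal and an étale surjective chart from a scheme) whose structure
map to h_S is smooth, composition with the first projection F × h_U → F is a bijection from
morphisms of sheaves F → h_N onto morphisms F × h_U → h_N. -/
theorem result
    {S : Scheme.{u}} (U : S.Opens) (hU : CInt.IsSchematicallyDense U) (N : Over S) [Smooth N.hom]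
    (hN : ∀ Y : Over S, Smooth Y.hom →
      Function.Bijective (fun g : Y ⟶ N => (Over.mapPullbackAdj U.ι).counit.app Y ≫ g))
    (F : AlgSp.Sp S) (hF : AlgSp.IsAlgSpace F)
    (sF : F ⟶ (AlgSp.yon S).obj (Over.mk (𝟙 S))) (hsm : AlgSp.LocP @Smooth sF) :
    Function.Bijective (fun φ : F ⟶ (AlgSp.yon S).obj N =>
      (Limits.prod.fst : F ⨯ (AlgSp.yon S).obj (Over.mk U.ι) ⟶ F) ≫ φ) := by
  classical
  obtain ⟨V, p, hpe, hps⟩ := hF.atlas
  have : Epi p := Groth.Agent.H52.epi_of_repWith_etale_surjective p hpe hps
  have hr : AlgSp.Representable p := hpe.rep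
  let R : Over S := hr.pullback p
  let s : R ⟶ V := hr.fst' p
  let t : R ⟶ V := hr.snd p
  have hpb : IsPullback ((AlgSp.yon S).map s) ((AlgSp.yon S).map t) p p := hr.isPullback' p
  have hEt : Etale t.left := hpe.2 p _ _ (hr.isPullback p)
  -- smoothness of the chart and of the relation
  have hVsm : Smooth V.hom := by
    let h : V ⟶ Over.mk (𝟙 S) := Over.homMk V.hom (by simp)
    have heq : p ≫ sF = (AlgSp.yon S).map h ≫ 𝟙 _ := by
      obtain ⟨h', hh'⟩ := (AlgSp.yon S).map_surjective (p ≫ sF)
      have : h' = h := Over.mkIdTerminal.hom_ext _ _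
      rw [Category.comp_id, ← hh', this]
    have := hsm p (𝟙 _) h hpe (AlgSp.repWith_id _ _) heq
    simpa [h] using this
  have hRsm : Smooth R.hom := by
    rw [← Over.w t]
    infer_instance
  have : Epi (prod.map p (𝟙 ((AlgSp.yon S).obj (Over.mk U.ι)))) := epi_prod_map_id p
  constructor
  · -- injectivity
    intro φ₁ φ₂ h
    dsimp only at h
    rw [← cancel_epi p]
    obtain ⟨g₁, hg₁⟩ := (AlgSp.yon S).map_surjective (p ≫ φ₁)
    obtain ⟨g₂, hg₂⟩ := (AlgSp.yon S).map_surjective (p ≫ φ₂)
    rw [← hg₁, ← hg₂]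
    congr 1
    apply (hN V hVsm).1
    apply (AlgSp.yon S).map_injective
    change (AlgSp.yon S).map (cY U V ≫ g₁) = (AlgSp.yon S).map (cY U V ≫ g₂)
    rw [Functor.map_comp, Functor.map_comp, hg₁, hg₂, ← eY_hom_fst, Category.assoc,
      Category.assoc, ← prod.map_fst_assoc p (𝟙 _), ← prod.map_fst_assoc p (𝟙 _), h]
  · -- surjectivity
    intro ψ
    obtain ⟨gU, hgU⟩ := (AlgSp.yon S).map_surjective ((eY U V).hom ≫ prod.map p (𝟙 _) ≫ ψ)
    obtain ⟨g, hg⟩ := (hN V hVsm).2 gU
    change cY U V ≫ g = gU at hg
    have hst : s ≫ g = t ≫ g := by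
      apply (hN R hRsm).1
      change cY U R ≫ s ≫ g = cY U R ≫ t ≫ g
      rw [← Category.assoc, ← Category.assoc, ← fU_cY, ← fU_cY, Category.assoc, Category.assoc, hg]
      apply (AlgSp.yon S).map_injective
      have e1 : ∀ r : R ⟶ V, (AlgSp.yon S).map (fU U r ≫ gU) =
          (eY U R).hom ≫ prod.map ((AlgSp.yon S).map r ≫ p) (𝟙 _) ≫ ψ := by
        intro r
        rw [Functor.map_comp, hgU, ← Category.assoc, eY_naturality, Category.assoc,
          ← Category.assoc (prod.map _ _), prod.map_map, Category.comp_id]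
      rw [e1, e1, hpb.w]
    obtain ⟨φ, hφ⟩ := exists_desc_of_epi p _ _ hpb ((AlgSp.yon S).map g)
      (by rw [← Functor.map_comp, ← Functor.map_comp, hst])
    refine ⟨φ, ?_⟩
    dsimp only
    rw [← cancel_epi (prod.map p (𝟙 ((AlgSp.yon S).obj (Over.mk U.ι)))),
      ← cancel_epi (eY U V).hom, ← hgU, ← hg, Functor.map_comp, ← hφ, ← eY_hom_fst,
      Category.assoc, prod.map_fst_assoc]

end Groth.Agent.S13209
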