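import Groth.Statements.S13210
import Mathlib
import Groth.Agent.Lib.Helper51.RelRepSheaf

set_option autoImplicit false
universe u
open CategoryTheory CategoryTheory.Limits AlgebraicGeometry
open AlgGrp

namespace Groth.Agent.S13210

/-- Let S be a scheme, F an algebraic space over S which is separated over S, and G a finite group
acting on F by S-automorphisms. If i : Z → F exhibits the fppf sheaf Z as the sub-sheaf of G-fixed
points of F (i is G-invariant and every G-invariant morphism W → F factors uniquely through i), then
Z is an algebraic space and i is a closed immersion (representable by closed immersions). (The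
published statement also treats a locally separated F, whose fixed points form a subspace, and
compatibility with base change; this row states only the separated case.) -/
theorem result
    {S : Scheme.{u}} (F : AlgSp.Sp S) (hF : AlgSp.IsAlgSpace F) (hsep : AlgSp.IsSeparatedSp F)
    (G : Type u) [Group G] [Finite G] (ρ : G →* Aut F)
    (Z : AlgSp.Sp S) (i : Z ⟶ F) (hi : ∀ g : G, i ≫ (ρ g).hom = i)
    (huniv : ∀ (W : AlgSp.Sp S) (x : W ⟶ F), (∀ g : G, x ≫ (ρ g).hom = x) → ∃! z : W ⟶ Z, z ≫ i = x) :
    AlgSp.IsAlgSpace Z ∧ AlgSp.RepWith @IsClosedImmersion i := by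
  classical
  have key : ∀ L : List G, ∃ (ZL : AlgSp.Sp S) (j : ZL ⟶ F),
      AlgSp.RepWith @IsClosedImmersion j ∧ Mono j ∧ (∀ g ∈ L, j ≫ (ρ g).hom = j) ∧
      (∀ (W : AlgSp.Sp S) (x : W ⟶ F), (∀ g ∈ L, x ≫ (ρ g).hom = x) → ∃ z : W ⟶ ZL, z ≫ j = x) := by
    intro L
    induction L with
    | nil =>
      refine ⟨F, 𝟙 F, MorphismProperty.id_mem _ _, inferInstance, ?_, ?_⟩
      · intro g hg
        simp at hg
      · intro W x _
        exact ⟨x, Category.comp_id x⟩
    | cons g L ih =>
      obtain ⟨ZL, j, hj, hmono, hinv, hex⟩ := ih
      let d : F ⟶ F ⨯ F := prod.lift (𝟙 F) (ρ g).hom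
      let e : pullback (Limits.diag F) d ⟶ F := pullback.snd (Limits.diag F) d
      have he : AlgSp.RepWith @IsClosedImmersion e :=
        MorphismProperty.of_isPullback (IsPullback.of_hasPullback (Limits.diag F) d) hsep
      have heinv : e ≫ (ρ g).hom = e := by
        have h := pullback.condition (f := Limits.diag F) (g := d)
        have h1 := congrArg (· ≫ prod.fst) h
        have h2 := congrArg (· ≫ prod.snd) h
        simp only [Category.assoc, d, Limits.diag, prod.lift_fst, prod.lift_snd,
          Category.comp_id] at h1 h2
        change e ≫ (ρ g).hom = e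
        rw [← h2, h1]
      have hemono : Mono e := by
        have : Mono (Limits.diag F) := inferInstance
        infer_instance
      have hfst : AlgSp.RepWith @IsClosedImmersion (pullback.fst j e) :=
        MorphismProperty.of_isPullback (IsPullback.of_hasPullback j e).flip he
      refine ⟨pullback j e, pullback.fst j e ≫ j, MorphismProperty.comp_mem _ _ _ hfst hj,
        inferInstance, ?_, ?_⟩
      · intro g' hg'
        rcases List.mem_cons.1 hg' with rfl | hg'
        · rw [pullback.condition, Category.assoc, heinv]
        · rw [Category.assoc, hinv g' hg']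
      · intro W x hx
        obtain ⟨zL, hzL⟩ := hex W x (fun g' hg' => hx g' (List.mem_cons_of_mem _ hg'))
        have hxg : x ≫ (ρ g).hom = x := hx g List.mem_cons_self
        have hw : x ≫ Limits.diag F = x ≫ d := by
          apply Limits.prod.hom_ext
          · simp only [d, Limits.diag, Category.assoc, prod.lift_fst, Category.comp_id]
          · simp only [d, Limits.diag, Category.assoc, prod.lift_snd, Category.comp_id, hxg]
        refine ⟨pullback.lift zL (pullback.lift x x hw) ?_, ?_⟩
        · rw [hzL]
          exact (pullback.lift_snd _ _ _).symm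
        · rw [pullback.lift_fst_assoc, hzL]
  have : Fintype G := Fintype.ofFinite G
  obtain ⟨ZL, j, hj, hmono, hinv, hex⟩ := key (Finset.univ : Finset G).toList
  obtain ⟨z, hz⟩ := hex Z i (fun g _ => hi g)
  obtain ⟨z', hz', huniq⟩ := huniv ZL j (fun g => hinv g (by simp))
  obtain ⟨w, _, hwuniq⟩ := huniv Z i hi
  have h1 : z ≫ z' = 𝟙 Z := by
    rw [hwuniq (z ≫ z') (by show (z ≫ z') ≫ i = i; rw [Category.assoc, hz', hz]),
      hwuniq (𝟙 Z) (Category.id_comp i)]
  have h2 : z' ≫ z = 𝟙 ZL := by
    rw [← cancel_mono j, Category.assoc, hz, hz', Category.id_comp]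
  have hiso : IsIso z := ⟨z', h1, h2⟩
  have hi' : AlgSp.RepWith @IsClosedImmersion i := by
    rw [← hz]
    exact MorphismProperty.RespectsIso.precomp _ z j hj
  exact ⟨Groth.Agent.Lib.Helper51.isAlgSpace_of_representable hF i hi'.rep, hi'⟩

end Groth.Agent.S13210
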