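import Groth.Statements.S1323
import Mathlib
import Groth.Agent.Lib.Helper71.ThickPullback
import Groth.Agent.Lib.Helper18.ThickProper
import Groth.Agent.S1312
import Groth.Agent.S1317
import Groth.Agent.S1320

set_option autoImplicit false
universe u
open FlatMor

namespace Groth.Agent.S1323

-- HELPERS BEGIN
-- HELPERS END


open AlgebraicGeometry CategoryTheory Limits in
/-- Let S ⟶ S' be a finite order thickening, let X' ⟶ Y' be a morphism of schemes over S' with X' flat
over S', and let X ⟶ Y be its base change to S. Then X ⟶ Y is finite locally free of rank d if and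
only if X' ⟶ Y' is. -/
theorem result (d : ℕ) {X X' Y Y' S S' : Scheme.{u}} (iX : X ⟶ X') (iY : Y ⟶ Y') (iS : S ⟶ S')
    (f : X ⟶ Y) (f' : X' ⟶ Y') (g : Y ⟶ S) (g' : Y' ⟶ S')
    (hS : MoreMor.IsFiniteOrderThickening iS) (hcX : IsPullback iX (f ≫ g) (f' ≫ g') iS) (hcY : IsPullback iY g g' iS)
    (w : iX ≫ f' = f ≫ iY) [Flat (f' ≫ g')] :
    Mor2.IsFinLocFreeOfDeg d f ↔ Mor2.IsFinLocFreeOfDeg d f' := by
  have hsq : IsPullback iX f f' iY := IsPullback.of_bot hcX w hcY
  have hY := Groth.Agent.Lib.Helper71.ThickPullback.isFiniteOrderThickening_of_isPullback hcY hS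
  obtain ⟨⟨hYcl, hYs⟩, m, hm⟩ := hY
  constructor
  · rintro ⟨⟨h1, h2, h3⟩, h4⟩
    have hfl : Flat f' := (Groth.Agent.S1317.result iX iY iS f f' g g' hS hcX hcY w).mp h2
    have hfp : LocallyOfFinitePresentation f' :=
      (Groth.Agent.S1320.result iX iY iS f f' g g' hS hcX hcY w).mp h3
    have hXs : Surjective iX := MorphismProperty.of_isPullback hsq.flip hYs
    have hprop : IsProper f' := by
      refine Groth.Agent.Lib.Helper18.isProper_of_thickening hsq (fun U => ⟨m, ?_⟩)
      have h1 := congrArg (fun I : Y'.IdealSheafData => I.ideal U) hm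
      simpa using h1
    have hqf : LocallyQuasiFinite f' :=
      (Groth.Agent.S1312.result iX iY f f' ⟨hYcl, hYs⟩ hsq).mp inferInstance
    have hfin : IsFinite f' := IsFinite.of_isProper_of_locallyQuasiFinite f'
    refine ⟨⟨hfin, hfl, hfp⟩, fun y' => ?_⟩
    obtain ⟨y, rfl⟩ := iY.surjective y'
    rw [← Scheme.Hom.finrank_of_isPullback iX f f' iY hsq y]
    exact h4 y
  · rintro ⟨⟨h1, h2, h3⟩, h4⟩
    refine ⟨⟨MorphismProperty.of_isPullback hsq h1, MorphismProperty.of_isPullback hsq h2,
      MorphismProperty.of_isPullback hsq h3⟩, fun y => ?_⟩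
    rw [Scheme.Hom.finrank_of_isPullback iX f f' iY hsq y]
    exact h4 (iY y)

end Groth.Agent.S1323
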