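import Groth.Statements.S1328
import Groth.Agent.Lib.Helper13.GenFibre2
import Groth.Agent.Lib.Helper13.CompCount

set_option autoImplicit false
universe u
open FlatMor

namespace Groth.Agent.S1328

open AlgebraicGeometry CategoryTheory Limits in
/-- Let f be of finite type with irreducible target. If the generic fibre has exactly n irreducible
components, then over some nonempty open of the target every fibre has at least n irreducible
components. -/
theorem result {X Y : Scheme.{u}} (f : X ⟶ Y) [IrreducibleSpace ↑Y] [LocallyOfFiniteType f] [QuasiCompact f] (n : ℕ)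
    (h : (irreducibleComponents ↑(f.fiber (genericPoint ↑Y))).encard = n) :
    ∃ V : Y.Opens, (V : Set ↑Y).Nonempty ∧ ∀ y ∈ V, (n : ℕ∞) ≤ (irreducibleComponents ↑(f.fiber y)).encard := by
  classical
  set η := genericPoint ↑Y with hη
  let ι := ↥(irreducibleComponents ↑(f.fiber η))
  have hfin' : (irreducibleComponents ↑(f.fiber η)).Finite := Set.finite_of_encard_eq_coe h
  have hfin : Finite ι := hfin'.to_subtype
  haveI := Fintype.ofFinite ι
  let C : ι → Set ↑(f.fiber η) := fun c => c.1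
  have hCcl : ∀ c, IsClosed (C c) := fun c => isClosed_of_mem_irreducibleComponents c.1 c.2
  have hCcov : ⋃ c, C c = Set.univ := by
    rw [Set.eq_univ_iff_forall]
    intro x
    exact Set.mem_iUnion.mpr ⟨⟨irreducibleComponent x,
      irreducibleComponent_mem_irreducibleComponents x⟩, mem_irreducibleComponent⟩
  -- each component has a point outside the others
  have hCpt : ∀ c : ι, ∃ x, x ∈ C c ∧ ∀ c', c' ≠ c → x ∉ C c' := by
    intro c
    by_contra hcon
    push Not at hcon
    have hirr : IsIrreducible (C c) := c.2.1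
    have hsub : C c ⊆ ⋃₀ ↑((Finset.univ.filter (fun c' : ι => c' ≠ c)).image C) := by
      intro x hx
      obtain ⟨c', hc', hxc'⟩ := hcon x hx
      exact Set.mem_sUnion.mpr ⟨C c', Finset.mem_coe.mpr (Finset.mem_image.mpr
        ⟨c', Finset.mem_filter.mpr ⟨Finset.mem_univ _, hc'⟩, rfl⟩), hxc'⟩
    obtain ⟨z, hz, hzsub⟩ := (isIrreducible_iff_sUnion_isClosed.mp hirr) _
      (by
        intro z hz
        obtain ⟨j, -, rfl⟩ := Finset.mem_image.mp hz
        exact hCcl j) hsub
    obtain ⟨c', hc', rfl⟩ := Finset.mem_image.mp hz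
    have hc'ne : c' ≠ c := (Finset.mem_filter.mp hc').2
    have heq : C c = C c' := c.2.eq_of_le c'.2.1 hzsub
    exact hc'ne (Subtype.ext heq.symm)
  let T : ι → Set ↑X := fun c => closure ((f.fiberι η) '' C c)
  have hTcl : ∀ c, IsClosed (T c) := fun c => isClosed_closure
  have hTC : ∀ c, (f.fiberι η) ⁻¹' T c = C c := fun c =>
    Groth.Agent.Lib.Helper13.GenFibre2.fiberι_preimage_closure_image f η (C c) (hCcl c)
  let O : ι → X.Opens := fun c =>
    ⟨(⋃ c' : {c' : ι // c' ≠ c}, T c'.1)ᶜ,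
      (isClosed_iUnion_of_finite fun c' : {c' : ι // c' ≠ c} => hTcl c'.1).isOpen_compl⟩
  -- covering
  obtain ⟨V₁, hηV₁, hV₁⟩ :=
    Groth.Agent.Lib.Helper13.GenFibre2.exists_open_forall_fiber_cover f C hCcov
  -- points outside the other pieces
  obtain ⟨V₃, hηV₃, hV₃⟩ := Groth.Agent.Lib.Helper13.GenFibre2.exists_open_forall_of_finite
    (ι := ι) η
    (fun c y => ∃ x : ↑(f.fiber y), f.fiberι y x ∈ T c ∩ (O c : Set ↑X))
    (by
      intro c
      obtain ⟨x, hx, hxc'⟩ := hCpt c
      refine Groth.Agent.Lib.Helper13.GenFibre2.exists_open_forall_fiber_exists_mem f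
        (T c) (hTcl c) (O c) ⟨x, subset_closure ⟨x, hx, rfl⟩, ?_⟩
      show f.fiberι η x ∈ (⋃ c' : {c' : ι // c' ≠ c}, T c'.1)ᶜ
      rw [Set.mem_compl_iff, Set.mem_iUnion]
      rintro ⟨c', hc'⟩
      have : x ∈ (f.fiberι η) ⁻¹' T c'.1 := hc'
      rw [hTC] at this
      exact hxc' c'.1 c'.2 this)
  refine ⟨V₁ ⊓ V₃, ⟨η, ⟨hηV₁, hηV₃⟩⟩, ?_⟩
  rintro y ⟨hy₁, hy₃⟩
  have key := Groth.Agent.Lib.Helper13.CompCount.card_le_encard_irreducibleComponents
    (Q := ↑(f.fiber y)) (ι := ι) (fun c => (f.fiberι y) ⁻¹' T c)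
    (fun c => (hTcl c).preimage (f.fiberι y).continuous)
    (hV₁ y hy₁)
    (fun c => by
      obtain ⟨x, hxT, hxO⟩ := hV₃ y hy₃ c
      refine ⟨x, hxT, fun c' hc' hmem => ?_⟩
      have hxO' : f.fiberι y x ∈ (⋃ c' : {c' : ι // c' ≠ c}, T c'.1)ᶜ := hxO
      rw [Set.mem_compl_iff, Set.mem_iUnion] at hxO'
      exact hxO' ⟨⟨c', hc'⟩, hmem⟩)
  rw [← h]
  exact key

end Groth.Agent.S1328
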