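import Groth.Statements.S1329
import Groth.Agent.Lib.Helper13.GenFibre2
import Groth.Agent.Lib.Helper13.CompCount

set_option autoImplicit false
universe u
open FlatMor

namespace Groth.Agent.S1329

open AlgebraicGeometry CategoryTheory Limits in
/-- Let f be of finite type with irreducible target. If the generic fibre has exactly n connected
components, then over some nonempty open of the target every fibre has at least n connected
components. -/
theorem result {X Y : Scheme.{u}} (f : X ⟶ Y) [IrreducibleSpace ↑Y] [LocallyOfFiniteType f] [QuasiCompact f] (n : ℕ)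
    (h : ENat.card (_root_.ConnectedComponents ↑(f.fiber (genericPoint ↑Y))) = n) :
    ∃ V : Y.Opens, (V : Set ↑Y).Nonempty ∧ ∀ y ∈ V, (n : ℕ∞) ≤ ENat.card (_root_.ConnectedComponents ↑(f.fiber y)) := by
  classical
  set η := genericPoint ↑Y with hη
  let ι := _root_.ConnectedComponents ↑(f.fiber η)
  have hfin : Finite ι := by
    by_contra hinf
    rw [not_finite_iff_infinite] at hinf
    have : ENat.card ι = ⊤ := ENat.card_eq_top.mpr hinf
    rw [h] at this
    exact ENat.coe_ne_top n this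
  -- the components as closed sets
  let C : ι → Set ↑(f.fiber η) := fun c => _root_.ConnectedComponents.mk ⁻¹' {c}
  have hCcl : ∀ c, IsClosed (C c) := by
    intro c
    obtain ⟨x, rfl⟩ := _root_.ConnectedComponents.surjective_coe c
    show IsClosed (_root_.ConnectedComponents.mk ⁻¹' {_root_.ConnectedComponents.mk x})
    rw [connectedComponents_preimage_singleton]
    exact isClosed_connectedComponent
  have hCne : ∀ c, (C c).Nonempty := by
    intro c
    obtain ⟨x, rfl⟩ := _root_.ConnectedComponents.surjective_coe c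
    exact ⟨x, rfl⟩
  have hCcov : ⋃ c, C c = Set.univ := by
    rw [Set.eq_univ_iff_forall]
    intro x
    exact Set.mem_iUnion.mpr ⟨_root_.ConnectedComponents.mk x, rfl⟩
  have hCdisj : ∀ c c', c ≠ c' → C c ∩ C c' = ∅ := by
    intro c c' hcc'
    rw [Set.eq_empty_iff_forall_notMem]
    rintro x ⟨h1, h2⟩
    exact hcc' ((h1 : _ = c).symm.trans h2)
  let T : ι → Set ↑X := fun c => closure ((f.fiberι η) '' C c)
  have hTcl : ∀ c, IsClosed (T c) := fun c => isClosed_closure
  have hTC : ∀ c, (f.fiberι η) ⁻¹' T c = C c := fun c =>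
    Groth.Agent.Lib.Helper13.GenFibre2.fiberι_preimage_closure_image f η (C c) (hCcl c)
  -- covering
  obtain ⟨V₁, hηV₁, hV₁⟩ :=
    Groth.Agent.Lib.Helper13.GenFibre2.exists_open_forall_fiber_cover f C hCcov
  -- disjointness
  obtain ⟨V₂, hηV₂, hV₂⟩ := Groth.Agent.Lib.Helper13.GenFibre2.exists_open_forall_of_finite
    (ι := ι × ι) η
    (fun p y => p.1 ≠ p.2 → (f.fiberι y) ⁻¹' (T p.1 ∩ T p.2) = ∅)
    (by
      rintro ⟨c, c'⟩
      by_cases hcc' : c = c'
      · exact ⟨⊤, trivial, fun y _ hne => absurd hcc' hne⟩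
      · obtain ⟨V, hηV, hV⟩ :=
          Groth.Agent.Lib.Helper13.GenFibre2.exists_open_forall_fiber_preimage_eq_empty f
            (T c ∩ T c') ((hTcl c).inter (hTcl c'))
            (by rw [Set.preimage_inter, hTC, hTC]; exact hCdisj c c' hcc')
        exact ⟨V, hηV, fun y hy _ => hV y hy⟩)
  -- nonemptiness
  obtain ⟨V₃, hηV₃, hV₃⟩ := Groth.Agent.Lib.Helper13.GenFibre2.exists_open_forall_of_finite
    (ι := ι) η
    (fun c y => ∃ x : ↑(f.fiber y), f.fiberι y x ∈ T c ∩ ((⊤ : X.Opens) : Set ↑X))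
    (by
      intro c
      obtain ⟨x, hx⟩ := hCne c
      refine Groth.Agent.Lib.Helper13.GenFibre2.exists_open_forall_fiber_exists_mem f
        (T c) (hTcl c) ⊤ ⟨x, ?_, trivial⟩
      exact subset_closure ⟨x, hx, rfl⟩)
  refine ⟨V₁ ⊓ V₂ ⊓ V₃, ⟨η, ⟨⟨hηV₁, hηV₂⟩, hηV₃⟩⟩, ?_⟩
  rintro y ⟨⟨hy₁, hy₂⟩, hy₃⟩
  have key := Groth.Agent.Lib.Helper13.CompCount.card_le_card_connectedComponents
    (Q := ↑(f.fiber y)) (ι := ι) (fun c => (f.fiberι y) ⁻¹' T c)
    (fun c => (hTcl c).preimage (f.fiberι y).continuous)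
    (fun c c' hcc' => by
      rw [Set.disjoint_iff_inter_eq_empty, ← Set.preimage_inter]
      exact hV₂ y hy₂ (c, c') hcc')
    (hV₁ y hy₁)
    (fun c => by
      obtain ⟨x, hx, -⟩ := hV₃ y hy₃ c
      exact ⟨x, hx⟩)
  rw [← h]
  exact key

end Groth.Agent.S1329
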