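import Groth.Statements.S1330
import Groth.Agent.Lib.Helper13.GenFibre

set_option autoImplicit false
universe u
open FlatMor

namespace Groth.Agent.S1330

open AlgebraicGeometry CategoryTheory Limits in
/-- Let f be of finite type with irreducible target. If the generic fibre is not reduced, then over some
nonempty open of the target no fibre is reduced. -/
theorem result {X Y : Scheme.{u}} (f : X ⟶ Y) [IrreducibleSpace ↑Y] [LocallyOfFiniteType f] [QuasiCompact f]
    (h : ¬ IsReduced (f.fiber (genericPoint ↑Y))) :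
    ∃ V : Y.Opens, (V : Set ↑Y).Nonempty ∧ ∀ y ∈ V, ¬ IsReduced (f.fiber y) := by
  classical
  obtain ⟨W, hW, hηW, -⟩ := exists_isAffineOpen_mem_and_subset
    (x := genericPoint ↑Y) (U := ⊤) trivial
  have hηr : genericPoint ↑Y ∈ Set.range hW.fromSpec := by
    rw [hW.range_fromSpec]; exact hηW
  obtain ⟨z₀, hz₀⟩ := hηr
  have hnil : z₀.asIdeal = nilradical Γ(Y, W) :=
    Groth.Agent.Lib.Helper13.GenFibre.asIdeal_eq_nilradical_of_fromSpec_eq hW z₀ hz₀
  -- a non-reduced chart of the generic fibre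
  have h' : ¬ IsReduced (f.fiber (hW.fromSpec z₀)) := by rw [hz₀]; exact h
  have hex : ∃ (U : X.Opens) (hU : IsAffineOpen U) (e : U ≤ f ⁻¹ᵁ W),
      ¬ IsReduced (pullback (Spec.map (f.appLE W U e))
        ((Spec Γ(Y, W)).fromSpecResidueField z₀)) := by
    by_contra hcon
    push Not at hcon
    exact h' (Groth.Agent.Lib.Helper13.GenFibre.isReduced_fiber_of_charts f hW z₀ hcon)
  obtain ⟨U, hU, e, hUnr⟩ := hex
  letI : Algebra Γ(Y, W) Γ(X, U) := (f.appLE W U e).hom.toAlgebra
  have hft : Algebra.FiniteType Γ(Y, W) Γ(X, U) := f.finiteType_appLE hW hU e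
  rw [Groth.Agent.Lib.Helper13.GenFibre.isReduced_chart_iff f hW hU e z₀] at hUnr
  obtain ⟨a, ha, hA⟩ := Groth.Agent.Lib.Helper13.GenFibre.exists_forall_not_isReduced_fiber
    (A := Γ(Y, W)) (B := Γ(X, U)) z₀.asIdeal hnil hUnr
  refine ⟨Y.basicOpen a, ⟨genericPoint ↑Y, ?_⟩, ?_⟩
  · have : z₀ ∈ hW.fromSpec ⁻¹ᵁ Y.basicOpen a := by
      rw [hW.fromSpec_preimage_basicOpen]
      exact ha
    have h2 : hW.fromSpec z₀ ∈ Y.basicOpen a := this
    rwa [hz₀] at h2
  · intro y hy hred
    have hyW : y ∈ W := Y.basicOpen_le a hy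
    let z : Spec Γ(Y, W) := hW.primeIdealOf ⟨y, hyW⟩
    have hzy : hW.fromSpec z = y := hW.fromSpec_primeIdealOf ⟨y, hyW⟩
    have haz : a ∉ z.asIdeal :=
      (Groth.Agent.Lib.Helper13.GenFibre.mem_basicOpen_iff_notMem_primeIdealOf hW a y hyW).mp hy
    have hred' : IsReduced (pullback f (Y.fromSpecResidueField (hW.fromSpec z))) := by
      rw [hzy]; exact hred
    have hchart : IsReduced (pullback (Spec.map (f.appLE W U e))
        ((Spec Γ(Y, W)).fromSpecResidueField z)) :=
      isReduced_of_isOpenImmersion (Groth.Agent.Lib.Helper13.GenFibre.fiberChart f hW hU e z)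
    rw [Groth.Agent.Lib.Helper13.GenFibre.isReduced_chart_iff f hW hU e z] at hchart
    exact hA z.asIdeal haz hchart

end Groth.Agent.S1330
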