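import Groth.Statements.S1332
import Groth.Agent.Lib.Helper13.GenFibreDim

set_option autoImplicit false
universe u
open FlatMor

namespace Groth.Agent.S1332

open AlgebraicGeometry CategoryTheory Limits in
/-- Let f be of finite type with irreducible target. If the generic fibre has dimension n, then over
some nonempty open of the target every fibre has dimension n. -/
theorem result {X Y : Scheme.{u}} (f : X ⟶ Y) [IrreducibleSpace ↑Y] [LocallyOfFiniteType f] [QuasiCompact f] (n : ℕ)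
    (h : topologicalKrullDim ↑(f.fiber (genericPoint ↑Y)) = n) :
    ∃ V : Y.Opens, (V : Set ↑Y).Nonempty ∧ ∀ y ∈ V, topologicalKrullDim ↑(f.fiber y) = n := by
  classical
  obtain ⟨W, hW, hηW, -⟩ := exists_isAffineOpen_mem_and_subset
    (x := genericPoint ↑Y) (U := ⊤) trivial
  have hηr : genericPoint ↑Y ∈ Set.range hW.fromSpec := by
    rw [hW.range_fromSpec]; exact hηW
  obtain ⟨z₀, hz₀⟩ := hηr
  have hnil : z₀.asIdeal = nilradical Γ(Y, W) :=
    Groth.Agent.Lib.Helper13.GenFibre.asIdeal_eq_nilradical_of_fromSpec_eq hW z₀ hz₀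
  have hp : (nilradical Γ(Y, W)).IsPrime := hnil ▸ z₀.isPrime
  -- a finite affine cover of `f⁻¹ W`
  have hqc : IsCompact ((f ⁻¹ᵁ W : X.Opens) : Set X) := f.isCompact_preimage hW.isCompact
  obtain ⟨s, hsfin, hs⟩ := isCompact_iff_finite_and_eq_biUnion_affineOpens.mp hqc
  have hle : ∀ U : s, (U.1 : X.Opens) ≤ f ⁻¹ᵁ W := fun U => by
    rw [hs]
    exact le_iSup₂ (f := fun (i : X.affineOpens) (_ : i ∈ s) => (i : X.Opens)) U.1 U.2
  have hcov : ((f ⁻¹ᵁ W : X.Opens) : Set X) ⊆ ⋃ U : s, ((U.1 : X.Opens) : Set X) := by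
    intro x hx
    have hx' : x ∈ (⨆ i ∈ s, (i : X.Opens) : X.Opens) := hs ▸ hx
    simp only [TopologicalSpace.Opens.mem_iSup] at hx'
    obtain ⟨i, hi, hxi⟩ := hx'
    exact Set.mem_iUnion.mpr ⟨⟨i, hi⟩, hxi⟩
  have key := fun z => Groth.Agent.Lib.Helper13.GenFibreDim.topologicalKrullDim_fiber_eq_iSup
    f hW z (fun U : s => (U.1 : X.Opens)) (fun U => U.1.2) hle hcov
  choose a ha d hd using fun U : s =>
    Groth.Agent.Lib.Helper13.GenFibreDim.exists_forall_dim_chart_eq f hW U.1.2 (hle U) hp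
  haveI : Fintype s := hsfin.fintype
  have hz₀a : ∀ U : s, a U ∉ z₀.asIdeal := fun U => hnil ▸ ha U
  have hn : (⨆ U : s, d U) = n := by
    rw [← h, ← hz₀, key z₀]
    exact iSup_congr fun U => (hd U z₀ (hz₀a U)).symm
  refine ⟨Y.basicOpen (∏ U : s, a U), ⟨genericPoint ↑Y, ?_⟩, ?_⟩
  · have : z₀ ∈ hW.fromSpec ⁻¹ᵁ Y.basicOpen (∏ U : s, a U) := by
      rw [hW.fromSpec_preimage_basicOpen]
      show (∏ U : s, a U) ∉ z₀.asIdeal
      intro hmem
      obtain ⟨U, -, hU⟩ := (Ideal.IsPrime.prod_mem_iff).mp hmem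
      exact hz₀a U hU
    have h2 : hW.fromSpec z₀ ∈ Y.basicOpen (∏ U : s, a U) := this
    rwa [hz₀] at h2
  · intro y hy
    have hyW : y ∈ W := Y.basicOpen_le _ hy
    let z : Spec Γ(Y, W) := hW.primeIdealOf ⟨y, hyW⟩
    have hzy : hW.fromSpec z = y := hW.fromSpec_primeIdealOf ⟨y, hyW⟩
    have haz : (∏ U : s, a U) ∉ z.asIdeal :=
      (Groth.Agent.Lib.Helper13.GenFibre.mem_basicOpen_iff_notMem_primeIdealOf hW _ y hyW).mp hy
    have hza : ∀ U : s, a U ∉ z.asIdeal := fun U hU =>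
      haz (Ideal.IsPrime.prod_mem_iff.mpr ⟨U, Finset.mem_univ _, hU⟩)
    rw [← hzy, key z, ← hn]
    exact iSup_congr fun U => hd U z (hza U)

end Groth.Agent.S1332
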