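import Groth.Statements.S13341
import Groth.Agent.S3858

set_option autoImplicit false
open CategoryTheory
universe u
open FCompl

namespace Groth.Agent.S13341

section helpers
open AlgebraicGeometry CategoryTheory CategoryTheory.Limits Groth.Agent.Lib.Helper18

theorem isAdicHom_pullbackFst {𝔛 𝔜 𝔖 : FSch.Sys.{u}} (p : 𝔛 ⟶ 𝔖) (q : 𝔜 ⟶ 𝔖)
    (hq : FSch.IsAdicHom q) : FSch.IsAdicHom (FSch.pullbackFst p q) := by
  intro n
  have big := (IsPullback.of_hasPullback ((p : FSch.Hom 𝔛 𝔖).app n)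
    ((q : FSch.Hom 𝔜 𝔖).app n)).flip.paste_horiz (hq n)
  have C := (IsPullback.of_hasPullback ((p : FSch.Hom 𝔛 𝔖).app (n + 1))
    ((q : FSch.Hom 𝔜 𝔖).app (n + 1))).flip
  have e1 : (FSch.pullbackSys p q).ι n ≫ pullback.fst ((p : FSch.Hom 𝔛 𝔖).app (n + 1))
      ((q : FSch.Hom 𝔜 𝔖).app (n + 1)) = pullback.fst _ _ ≫ 𝔛.ι n :=
    pullback.lift_fst _ _ _
  have e2 : (FSch.pullbackSys p q).ι n ≫ pullback.snd ((p : FSch.Hom 𝔛 𝔖).app (n + 1))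
      ((q : FSch.Hom 𝔜 𝔖).app (n + 1)) = pullback.snd _ _ ≫ 𝔜.ι n :=
    pullback.lift_snd _ _ _
  refine IsPullback.of_right ?_ e1 C
  rw [e2, ← (p : FSch.Hom 𝔛 𝔖).comm n]
  exact big

/-- for any morphism of systems, the kernel of `Y n ⟶ Y (n+1)` pulls back into that of
`X n ⟶ X (n+1)` -/
theorem comap_ker_ι_le {𝔄 𝔅 : FSch.Sys.{u}} (g : 𝔄 ⟶ 𝔅) (n : ℕ) :
    (𝔅.ι n).ker.comap ((g : FSch.Hom 𝔄 𝔅).app (n + 1)) ≤ (𝔄.ι n).ker := by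
  rw [← Scheme.IdealSheafData.le_map_iff_comap_le, Scheme.IdealSheafData.map_ker,
    ← (g : FSch.Hom 𝔄 𝔅).comm n]
  exact Scheme.Hom.le_ker_comp _ _

theorem isAdicHom_of_comp {𝔛 𝔜 𝔖 : FSch.Sys.{u}} (h𝔖 : 𝔖.IsFormal) (h𝔛 : 𝔛.IsFormal)
    (h𝔜 : 𝔜.IsFormal) (f : 𝔛 ⟶ 𝔜) (q : 𝔜 ⟶ 𝔖) (hp : FSch.IsAdicHom (f ≫ q)) :
    FSch.IsAdicHom f := by
  intro n
  have := (h𝔛 n).1
  have := (h𝔜 n).1
  have := (h𝔖 n).1
  refine isPullback_of_isClosedImmersion (𝔛.ι n) (𝔜.ι n) _ _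
    ((f : FSch.Hom 𝔛 𝔜).comm n).symm ?_
  refine le_antisymm (comap_ker_ι_le f n) ?_
  rw [ker_of_isPullback (hp n)]
  show (𝔖.ι n).ker.comap ((f : FSch.Hom 𝔛 𝔜).app (n + 1) ≫ (q : FSch.Hom 𝔜 𝔖).app (n + 1)) ≤ _
  rw [Scheme.IdealSheafData.comap_comp]
  exact Scheme.IdealSheafData.comap_mono _ (comap_ker_ι_le q n)

theorem isAdicHom_graph {𝔛 𝔜 𝔖 : FSch.Sys.{u}} (h𝔖 : 𝔖.IsFormal) (h𝔛 : 𝔛.IsFormal)
    (h𝔜 : 𝔜.IsFormal) (q : 𝔜 ⟶ 𝔖) (f : 𝔛 ⟶ 𝔜)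
    (hpq : FSch.IsAdicHom (f ≫ q) ∨ FSch.IsAdicHom q) :
    FSch.IsAdicHom (FSch.graph f (f ≫ q) q rfl) := by
  intro n
  rcases hpq with hp | hq
  · have hf := isAdicHom_of_comp h𝔖 h𝔛 h𝔜 f q hp
    have hsnd := Groth.Agent.S3858.isAdicHom_pullbackSnd (f ≫ q) q hp
    refine IsPullback.of_bot ?_ ?_ (hsnd n)
    · have e : ∀ m, (FSch.graph f (f ≫ q) q rfl : FSch.Hom _ _).app m ≫
          (FSch.pullbackSnd (f ≫ q) q : FSch.Hom _ _).app m = (f : FSch.Hom 𝔛 𝔜).app m :=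
        fun m => pullback.lift_snd _ _ _
      rw [e n, e (n + 1)]
      exact hf n
    · exact ((FSch.graph f (f ≫ q) q rfl : FSch.Hom _ _).comm n).symm
  · have hfst := isAdicHom_pullbackFst (f ≫ q) q hq
    refine IsPullback.of_bot ?_ ?_ (hfst n)
    · have e : ∀ m, (FSch.graph f (f ≫ q) q rfl : FSch.Hom _ _).app m ≫
          (FSch.pullbackFst (f ≫ q) q : FSch.Hom _ _).app m = 𝟙 _ :=
        fun m => pullback.lift_fst _ _ _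
      rw [e n, e (n + 1)]
      exact IsPullback.id_vert _
    · exact ((FSch.graph f (f ≫ q) q rfl : FSch.Hom _ _).comm n).symm

end helpers

open AlgebraicGeometry in
/-- Formal schemes are presented as locally Noetherian adic systems of thickenings and the fibre product
is taken levelwise (it presents the fibre product of formal schemes since one factor is adic over
the base). Let 𝔖 be a locally Noetherian formal system, 𝔛 and 𝔜 locally Noetherian formal systems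
over 𝔖 such that 𝔛 or 𝔜 is of finite type over 𝔖, and 𝔜 separated over 𝔖 at level 0. Then for every
𝔖-morphism f : 𝔛 → 𝔜 the graph morphism 𝔛 → 𝔛 ×_𝔖 𝔜 is a closed immersion: adic, with level 0 a
closed immersion. -/
theorem result {𝔛 𝔜 𝔖 : FSch.Sys.{u}} (h𝔖 : 𝔖.IsLocNoethFormal) (h𝔛 : 𝔛.IsLocNoethFormal)
    (h𝔜 : 𝔜.IsLocNoethFormal) (p : 𝔛 ⟶ 𝔖) (q : 𝔜 ⟶ 𝔖) (hpq : FSch.IsFiniteTypeHom p ∨ FSch.IsFiniteTypeHom q)
    (hq : IsSeparated ((q : FSch.Hom 𝔜 𝔖).app 0)) (f : 𝔛 ⟶ 𝔜) (w : f ≫ q = p) :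
    FSch.IsClosedImmHom (FSch.graph f p q w) := by
  subst w
  refine ⟨isAdicHom_graph h𝔖.1 h𝔛.1 h𝔜.1 q f (hpq.imp (fun h => h.1) (fun h => h.1)), ?_⟩
  show IsClosedImmersion (CategoryTheory.Limits.pullback.lift (𝟙 _) ((f : FSch.Hom 𝔛 𝔜).app 0)
    (Category.id_comp ((f : FSch.Hom 𝔛 𝔜).app 0 ≫ (q : FSch.Hom 𝔜 𝔖).app 0)))
  infer_instance

end Groth.Agent.S13341
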