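import Groth.Statements.S13347
import Groth.Agent.Lib.Helper19.SeqLimSurj
import Groth.Agent.Lib.Helper18.ThickAffine

set_option autoImplicit false
open CategoryTheory CategoryTheory.Limits
universe u
open Opposite
open FCompl

namespace Groth.Agent.S13347

open AlgebraicGeometry CategoryTheory CategoryTheory.Limits TopologicalSpace Opposite

/-- the preimage in `X 0` of the open `lvU n U` of `X n` is `U` -/
theorem toX_preimage_lvU (𝔛 : FSch.Sys.{u}) (h : 𝔛.IsFormal) (n : ℕ) (U : (𝔛.X 0).Opens) :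
    (𝔛.toX n) ⁻¹ᵁ (𝔛.lvU h n U) = U := by
  change (Opens.map ((𝔛.toX n).base ≫ 𝔛.gInv h n)).obj U = _
  rw [FSch.Sys.toX_base_gInv]
  rfl

/-- the open of the level `X n` over an affine open of `X 0` is affine -/
theorem isAffineOpen_lvU (𝔛 : FSch.Sys.{u}) (h : 𝔛.IsFormal) (n : ℕ) (U : (𝔛.X 0).Opens)
    (hU : IsAffineOpen U) : IsAffineOpen (𝔛.lvU h n U) := by
  have hci : IsClosedImmersion (𝔛.toX n) := FSch.Sys.toX_isClosedImmersion 𝔛 h n
  have hsurj : Function.Surjective (𝔛.toX n).base := FSch.Sys.toX_surjective 𝔛 h n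
  have hU' : IsAffineOpen ((𝔛.toX n) ⁻¹ᵁ (𝔛.lvU h n U)) := by
    rw [toX_preimage_lvU]; exact hU
  have h1 : IsClosedImmersion ((𝔛.toX n) ∣_ (𝔛.lvU h n U)) :=
    IsZariskiLocalAtTarget.restrict hci _
  have h2 : Function.Surjective ((𝔛.toX n) ∣_ (𝔛.lvU h n U)) := by
    rw [morphismRestrict_base]
    rintro ⟨y, hy⟩
    obtain ⟨x, rfl⟩ := hsurj y
    exact ⟨⟨x, hy⟩, rfl⟩
  have : IsAffine ((𝔛.toX n) ⁻¹ᵁ (𝔛.lvU h n U)).toScheme := hU'
  exact Groth.Agent.Lib.Helper18.ThickAffine.isAffine_of_isClosedImmersion_of_surjective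
    ((𝔛.toX n) ∣_ (𝔛.lvU h n U)) h2

open AlgebraicGeometry in
/-- Let (X_i) be an inductive system of preschemes on one underlying space with surjective transition
homomorphisms whose kernels O_{X_i} → O_{X_0} are locally nilpotent — here a system of thickenings
(closed immersions surjective on points) with the kernel ideal of X_0 → X_i nilpotent on every
affine open of X_i — and O_𝔛 = lim O_{X_i} the structure sheaf of the formal prescheme it defines.
Then the canonical homomorphisms O_𝔛 → O_{X_i} are surjective: over every affine open U of X_0 the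
map on sections Γ(U, O_𝔛) → Γ(U_i, O_{X_i}) is onto. -/
theorem result (𝔛 : FSch.Sys.{u}) (h : 𝔛.IsFormal)
    (hb : ∀ (i : ℕ) (V : (𝔛.X i).affineOpens), IsNilpotent ((𝔛.toX i).ker.ideal V))
    (i : ℕ) (U : (𝔛.X 0).Opens) (hU : IsAffineOpen U) :
    Function.Surjective ((𝔛.OshProj h i).hom.app (op U)) := by
  let E : Sheaf (Opens.grothendieckTopology (𝔛.X 0)) CommRingCat.{u} ⥤ CommRingCat.{u} :=
    sheafToPresheaf _ _ ⋙ (evaluation _ _).obj (op U)
  have hc : IsLimit (E.mapCone (limit.cone (𝔛.levelRing h))) :=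
    isLimitOfPreserves E (limit.isLimit _)
  have hG : ∀ n, Function.Surjective ((𝔛.levelRing h ⋙ E).map (homOfLE (Nat.le_succ n)).op) := by
    intro n
    have e1 : (𝔛.levelRing h).map (homOfLE (Nat.le_succ n)).op = 𝔛.levelMap h n :=
      𝔛.levelRing_map_succ h n
    show Function.Surjective (((𝔛.levelRing h).map (homOfLE (Nat.le_succ n)).op).hom.app (op U))
    rw [e1, FSch.Sys.levelMap_app]
    have hci : IsClosedImmersion (𝔛.ι n) := (h n).1
    have hV : IsAffineOpen (𝔛.lvU h (n + 1) U) := isAffineOpen_lvU 𝔛 h (n + 1) U hU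
    have hs1 := Scheme.Hom.app_surjective (𝔛.ι n) (𝔛.lvU h (n + 1) U) hV
    have hiso : IsIso (homOfLE (𝔛.lvU_le h n U)) :=
      ⟨⟨homOfLE (𝔛.lvU_succ h n U).le, Subsingleton.elim _ _, Subsingleton.elim _ _⟩⟩
    have hiso2 : IsIso ((𝔛.X n).presheaf.map (homOfLE (𝔛.lvU_le h n U)).op) := inferInstance
    have hs2 : Function.Surjective ((𝔛.X n).presheaf.map (homOfLE (𝔛.lvU_le h n U)).op) :=
      ((ConcreteCategory.isIso_iff_bijective _).mp hiso2).2
    exact hs2.comp hs1
  exact Groth.Agent.Helper19.SeqLimSurj.surjective_π_app_commRing hc hG i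

end Groth.Agent.S13347
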