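import Groth.Statements.S13353
import Mathlib

set_option autoImplicit false
universe u
open scoped TensorProduct
open AdicRing

namespace Groth.Agent.S13353

theorem exists_dvd_pow {R : Type u} [CommRing R] [IsDomain R] [ValuationRing R] (t : R)
    [IsHausdorff (Ideal.span {t}) R] (a : R) (ha : a ≠ 0) : ∃ k : ℕ, a ∣ t ^ k := by
  by_contra hcon
  push Not at hcon
  apply ha
  refine IsHausdorff.haus' (I := Ideal.span {t}) a fun k => ?_
  rw [SModEq.zero, smul_eq_mul, Ideal.mul_top, Ideal.span_singleton_pow, Ideal.mem_span_singleton]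
  rcases ValuationRing.dvd_total a (t ^ k) with h | h
  · exact absurd h (hcon k)
  · exact h

theorem eq_zero_of_smul_eq_zero {R : Type u} [CommRing R] [IsDomain R] [ValuationRing R] (t : R)
    [IsHausdorff (Ideal.span {t}) R] {M : Type u} [AddCommGroup M] [Module R M]
    (hM : AdicRing.NoPowTorsion (Ideal.span {t}) M) (a : R) (ha : a ≠ 0) (x : M)
    (hx : a • x = 0) : x = 0 := by
  obtain ⟨k, b, hb⟩ := exists_dvd_pow t a ha
  refine hM x k fun y hy => ?_
  rw [Ideal.span_singleton_pow, Ideal.mem_span_singleton] at hy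
  obtain ⟨z, rfl⟩ := hy
  have h1 : t ^ k * z = (b * z) * a := by rw [hb]; ring
  rw [h1, mul_smul, hx, smul_zero]

theorem tmul_one_eq_zero {R : Type u} [CommRing R] [IsDomain R] {M : Type u} [AddCommGroup M]
    [Module R M] (hM : ∀ (a : R), a ≠ 0 → ∀ x : M, a • x = 0 → x = 0) (x : M)
    (hx : x ⊗ₜ[R] (1 : FractionRing R) = 0) : x = 0 := by
  have h1 : (1 : FractionRing R) ⊗ₜ[R] x = 0 := by
    have := congrArg (TensorProduct.comm R M (FractionRing R)) hx
    simpa using this
  have h2 : TensorProduct.mk R (FractionRing R) M 1 x = 0 := h1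
  rw [IsLocalizedModule.eq_zero_iff (nonZeroDivisors R)] at h2
  obtain ⟨s, hs⟩ := h2
  exact hM s (nonZeroDivisors.ne_zero s.2) x hs

theorem pow_mul_eq_zero_imp {D : Type u} [CommRing D] (γ : D) (hγ : ∀ x, γ * x = 0 → x = 0)
    (m : ℕ) (x : D) (hx : γ ^ m * x = 0) : x = 0 := by
  induction m with
  | zero => simpa using hx
  | succ m ih =>
    apply ih
    apply hγ
    rw [← mul_assoc, ← pow_succ']
    exact hx

theorem isUnit_of_eval₂_scaleRoots {A D : Type u} [CommRing A] [CommRing D] (φ : A →+* D)
    (P : Polynomial A) (hP : P.Monic) (s : A) (γ d : D) (hs : φ s = γ * d)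
    (hγ : ∀ x, γ * x = 0 → x = 0)
    (h0 : Polynomial.eval₂ φ γ (Polynomial.scaleRoots P s) = 0) : IsUnit d := by
  rw [Polynomial.eval₂_eq_sum_range, Polynomial.natDegree_scaleRoots, Finset.sum_range_succ] at h0
  have htop : φ ((Polynomial.scaleRoots P s).coeff P.natDegree) * γ ^ P.natDegree
      = γ ^ P.natDegree := by
    rw [Polynomial.coeff_scaleRoots_natDegree, hP.leadingCoeff, map_one, one_mul]
  rw [htop] at h0
  have hterm : ∀ l ∈ Finset.range P.natDegree,
      φ ((Polynomial.scaleRoots P s).coeff l) * γ ^ l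
        = γ ^ P.natDegree * (d * (φ (P.coeff l) * d ^ (P.natDegree - l - 1))) := by
    intro l hl
    rw [Finset.mem_range] at hl
    obtain ⟨k, hk⟩ := Nat.exists_eq_add_of_lt hl
    rw [Polynomial.coeff_scaleRoots, map_mul, map_pow, hs]
    have h1 : P.natDegree - l = k + 1 := by omega
    have h2 : P.natDegree - l - 1 = k := by omega
    rw [h2, h1, hk]; ring
  rw [Finset.sum_congr rfl hterm, ← Finset.mul_sum, ← Finset.mul_sum] at h0
  have h3 : γ ^ P.natDegree * (d * (∑ l ∈ Finset.range P.natDegree,
      φ (P.coeff l) * d ^ (P.natDegree - l - 1)) + 1) = 0 := by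
    rw [mul_add, mul_one]; exact h0
  have h4 := pow_mul_eq_zero_imp γ hγ _ _ h3
  exact IsUnit.of_mul_eq_one (-(∑ l ∈ Finset.range P.natDegree,
      φ (P.coeff l) * d ^ (P.natDegree - l - 1))) (by linear_combination (-1 : D) * h4)



/-- Let R be a complete valuation ring of height one with t a nonzero element generating an ideal of
definition and K its field of fractions, A an admissible R-algebra, f_1, ..., f_n elements of A ⊗_R
K integral over A, c a nonzero element of R and g_1, ..., g_n elements of A with g_i = c f_i in A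
⊗_R K; put 𝔞 = (c, g_1, ..., g_n) and A' = A[f_1, ..., f_n] ⊂ A ⊗_R K. If D is an admissible
R-algebra and φ : A → D an R-algebra homomorphism such that the ideal 𝔞D is generated by the image
of c, or by the image of some g_i, then 𝔞D is generated by c and φ extends to exactly one R-algebra
homomorphism A' → D. (This is the universal property through which Spf A' → Spf A is identified with
the formal blowing-up of 𝔞 on Spf A; the published hypothesis on the f_i is a supremum-seminorm
bound, from which their integrality over A is derived.) -/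
theorem result
    (R : Type u) [CommRing R] [IsDomain R] [ValuationRing R] [Ring.KrullDimLE 1 R]
    (t : R) (ht : t ≠ 0) [IsAdicComplete (Ideal.span {t}) R]
    (A : Type u) [CommRing A] [Algebra R A] (hA : AdicRing.Admissible R (Ideal.span {t}) A)
    (n : ℕ) (f : Fin n → A ⊗[R] FractionRing R) (hf : ∀ i, IsIntegral A (f i))
    (c : R) (hc : c ≠ 0) (g : Fin n → A)
    (hg : ∀ i, algebraMap A (A ⊗[R] FractionRing R) (g i) = c • f i)
    (D : Type u) [CommRing D] [Algebra R D] (hD : AdicRing.Admissible R (Ideal.span {t}) D)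
    (φ : A →ₐ[R] D)
    (hgen : (Ideal.span (insert (algebraMap R A c) (Set.range g))).map φ =
          Ideal.span {algebraMap R D c} ∨
      ∃ i, (Ideal.span (insert (algebraMap R A c) (Set.range g))).map φ = Ideal.span {φ (g i)}) :
    (Ideal.span (insert (algebraMap R A c) (Set.range g))).map φ = Ideal.span {algebraMap R D c} ∧
      ∃! ψ : ↥(Algebra.adjoin A (Set.range f)) →ₐ[R] D,
        ψ.comp (IsScalarTower.toAlgHom R A ↥(Algebra.adjoin A (Set.range f))) = φ := by
  classical
  have hHaus : IsHausdorff (Ideal.span {t}) R := inferInstance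
  have htfA : ∀ (a : R), a ≠ 0 → ∀ x : A, a • x = 0 → x = 0 :=
    fun a ha x hx => eq_zero_of_smul_eq_zero t hA.2 a ha x hx
  have htfD : ∀ (a : R), a ≠ 0 → ∀ x : D, a • x = 0 → x = 0 :=
    fun a ha x hx => eq_zero_of_smul_eq_zero t hD.2 a ha x hx
  have hcD : ∀ x : D, algebraMap R D c * x = 0 → x = 0 := by
    intro x hx
    rw [← Algebra.smul_def] at hx
    exact htfD c hc x hx
  have hιA : Function.Injective (algebraMap A (A ⊗[R] FractionRing R)) := by
    rw [injective_iff_map_eq_zero]
    intro a ha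
    rw [Algebra.TensorProduct.algebraMap_apply] at ha
    exact tmul_one_eq_zero htfA a ha
  -- Part 1
  have hpart1 : (Ideal.span (insert (algebraMap R A c) (Set.range g))).map φ =
      Ideal.span {algebraMap R D c} := by
    rcases hgen with h | ⟨i, hi⟩
    · exact h
    · have hc_mem : algebraMap R D c ∈
          (Ideal.span (insert (algebraMap R A c) (Set.range g))).map φ := by
        rw [← φ.commutes c]
        exact Ideal.mem_map_of_mem _ (Ideal.subset_span (Set.mem_insert _ _))
      rw [hi, Ideal.mem_span_singleton'] at hc_mem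
      obtain ⟨d, hd⟩ := hc_mem
      have hγ : ∀ x : D, φ (g i) * x = 0 → x = 0 := by
        intro x hx
        apply hcD
        rw [← hd, mul_assoc, hx, mul_zero]
      obtain ⟨P, hPmonic, hP0⟩ := hf i
      have h1 := Polynomial.scaleRoots_eval₂_eq_zero (algebraMap A (A ⊗[R] FractionRing R))
        (s := algebraMap R A c) hP0
      have h2 : algebraMap A (A ⊗[R] FractionRing R) (algebraMap R A c) * f i =
          algebraMap A (A ⊗[R] FractionRing R) (g i) := by
        rw [hg i, ← IsScalarTower.algebraMap_apply]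
        exact (Algebra.smul_def c (f i)).symm
      rw [h2, Polynomial.eval₂_at_apply] at h1
      have h3 : Polynomial.eval (g i) (Polynomial.scaleRoots P (algebraMap R A c)) = 0 :=
        hιA (by rw [h1, map_zero])
      have h4 : Polynomial.eval₂ (φ : A →+* D) (φ (g i))
          (Polynomial.scaleRoots P (algebraMap R A c)) = 0 := by
        have h5 := Polynomial.eval₂_at_apply (p := Polynomial.scaleRoots P (algebraMap R A c))
          (φ : A →+* D) (g i)
        rw [h3, map_zero] at h5
        exact h5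
      have hdu : IsUnit d := isUnit_of_eval₂_scaleRoots (φ : A →+* D) P hPmonic
        (algebraMap R A c) (φ (g i)) d
        (by rw [mul_comm, hd]; exact φ.commutes c) hγ h4
      rw [hi, ← hd]
      exact (Ideal.span_singleton_mul_left_unit hdu _).symm
  refine ⟨hpart1, ?_⟩
  have hδ : ∀ i, ∃ δ : D, φ (g i) = algebraMap R D c * δ := by
    intro i
    have hmem : φ (g i) ∈ (Ideal.span (insert (algebraMap R A c) (Set.range g))).map φ :=
      Ideal.mem_map_of_mem _
        (Ideal.subset_span (Set.mem_insert_of_mem _ (Set.mem_range_self i)))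
    rw [hpart1, Ideal.mem_span_singleton'] at hmem
    obtain ⟨δ, hδ⟩ := hmem
    exact ⟨δ, by rw [← hδ, mul_comm]⟩
  let ιD : D →ₐ[R] D ⊗[R] FractionRing R := Algebra.TensorProduct.includeLeft
  let φK : A ⊗[R] FractionRing R →ₐ[R] D ⊗[R] FractionRing R :=
    Algebra.TensorProduct.map φ (AlgHom.id R (FractionRing R))
  have hιD : Function.Injective ιD := by
    rw [injective_iff_map_eq_zero]
    intro x hx
    exact tmul_one_eq_zero htfD x hx
  have hφK_alg : ∀ a : A, φK (algebraMap A (A ⊗[R] FractionRing R) a) = ιD (φ a) := by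
    intro a
    rw [Algebra.TensorProduct.algebraMap_apply]
    simp [φK, ιD]
  have hcDK : ∀ z : D ⊗[R] FractionRing R, c • z = 0 → z = 0 := by
    intro z hz
    have hu : c • ((1 : D) ⊗ₜ[R] ((algebraMap R (FractionRing R) c)⁻¹)) =
        (1 : D ⊗[R] FractionRing R) := by
      rw [← TensorProduct.tmul_smul, Algebra.smul_def, mul_inv_cancel₀,
        Algebra.TensorProduct.one_def]
      exact (map_ne_zero_iff _ (IsFractionRing.injective R (FractionRing R))).mpr hc
    calc z = 1 * z := (one_mul z).symm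
      _ = (c • ((1 : D) ⊗ₜ[R] ((algebraMap R (FractionRing R) c)⁻¹))) * z := by rw [hu]
      _ = ((1 : D) ⊗ₜ[R] ((algebraMap R (FractionRing R) c)⁻¹)) * (c • z) := by
        rw [smul_mul_assoc, mul_smul_comm]
      _ = 0 := by rw [hz, mul_zero]
  have hφKf : ∀ i, φK (f i) ∈ ιD.range := by
    intro i
    obtain ⟨δ, hδi⟩ := hδ i
    refine ⟨δ, ?_⟩
    have h1 : c • (ιD δ - φK (f i)) = 0 := by
      rw [smul_sub, ← map_smul φK, ← hg i, hφK_alg, hδi, ← Algebra.smul_def, map_smul,
        sub_self]
    exact sub_eq_zero.mp (hcDK _ h1)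
  have hφKS : ∀ x ∈ Algebra.adjoin A (Set.range f), φK x ∈ ιD.range := by
    intro x hx
    induction hx using Algebra.adjoin_induction with
    | mem x hx => obtain ⟨i, rfl⟩ := hx; exact hφKf i
    | algebraMap a => exact ⟨φ a, (hφK_alg a).symm⟩
    | add x y _ _ hx hy => rw [map_add]; exact add_mem hx hy
    | mul x y _ _ hx hy => rw [map_mul]; exact mul_mem hx hy
  let e : D ≃ₐ[R] ιD.range := AlgEquiv.ofInjective ιD hιD
  let ψ₀ : ↥(Algebra.adjoin A (Set.range f)) →ₐ[R] ιD.range :=
    (φK.comp ((Algebra.adjoin A (Set.range f)).val.restrictScalars R)).codRestrict ιD.range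
      (fun x => hφKS x x.2)
  let ψ : ↥(Algebra.adjoin A (Set.range f)) →ₐ[R] D := (e.symm : ιD.range →ₐ[R] D).comp ψ₀
  have hψ : ∀ x : ↥(Algebra.adjoin A (Set.range f)), ιD (ψ x) = φK x := by
    intro x
    have h1 := AlgEquiv.ofInjective_apply ιD hιD (e.symm (ψ₀ x))
    have h2 : AlgEquiv.ofInjective ιD hιD (e.symm (ψ₀ x)) = ψ₀ x := e.apply_symm_apply (ψ₀ x)
    rw [h2] at h1
    exact h1.symm
  have hψext : ψ.comp (IsScalarTower.toAlgHom R A ↥(Algebra.adjoin A (Set.range f))) = φ := by
    apply AlgHom.ext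
    intro a
    apply hιD
    rw [AlgHom.comp_apply, hψ]
    exact hφK_alg a
  have huniq : ∀ ψ₁ ψ₂ : ↥(Algebra.adjoin A (Set.range f)) →ₐ[R] D,
      ψ₁.comp (IsScalarTower.toAlgHom R A ↥(Algebra.adjoin A (Set.range f))) = φ →
      ψ₂.comp (IsScalarTower.toAlgHom R A ↥(Algebra.adjoin A (Set.range f))) = φ → ψ₁ = ψ₂ := by
    intro ψ₁ ψ₂ h₁ h₂
    have key : ∀ (x : A ⊗[R] FractionRing R) (hx : x ∈ Algebra.adjoin A (Set.range f)),
        ψ₁ ⟨x, hx⟩ = ψ₂ ⟨x, hx⟩ := by
      intro x hx
      induction hx using Algebra.adjoin_induction with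
      | mem x hx =>
        obtain ⟨i, rfl⟩ := hx
        have hfi : f i ∈ Algebra.adjoin A (Set.range f) :=
          Algebra.subset_adjoin (Set.mem_range_self i)
        have e0 : c • (⟨f i, hfi⟩ : ↥(Algebra.adjoin A (Set.range f))) =
            algebraMap A ↥(Algebra.adjoin A (Set.range f)) (g i) := Subtype.ext (by
          show c • f i = algebraMap A (A ⊗[R] FractionRing R) (g i)
          exact (hg i).symm)
        have e1 : algebraMap R D c * ψ₁ ⟨f i, hfi⟩ = φ (g i) := by
          rw [← Algebra.smul_def, ← map_smul, e0]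
          exact AlgHom.congr_fun h₁ (g i)
        have e2 : algebraMap R D c * ψ₂ ⟨f i, hfi⟩ = φ (g i) := by
          rw [← Algebra.smul_def, ← map_smul, e0]
          exact AlgHom.congr_fun h₂ (g i)
        have e3 : algebraMap R D c * (ψ₁ ⟨f i, hfi⟩ - ψ₂ ⟨f i, hfi⟩) = 0 := by
          rw [mul_sub, e1, e2, sub_self]
        exact sub_eq_zero.mp (hcD _ e3)
      | algebraMap a =>
        have e1 := AlgHom.congr_fun h₁ a
        have e2 := AlgHom.congr_fun h₂ a
        exact e1.trans e2.symm
      | add x y hx hy ihx ihy =>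
        have e1 : (⟨x + y, add_mem hx hy⟩ : ↥(Algebra.adjoin A (Set.range f))) =
          ⟨x, hx⟩ + ⟨y, hy⟩ := rfl
        rw [e1, map_add, map_add, ihx, ihy]
      | mul x y hx hy ihx ihy =>
        have e1 : (⟨x * y, mul_mem hx hy⟩ : ↥(Algebra.adjoin A (Set.range f))) =
          ⟨x, hx⟩ * ⟨y, hy⟩ := rfl
        rw [e1, map_mul, map_mul, ihx, ihy]
    exact AlgHom.ext fun x => key x.1 x.2
  exact ⟨ψ, hψext, fun ψ' hψ' => huniq ψ' ψ hψ' hψext⟩

end Groth.Agent.S13353
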