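import Groth.Statements.S13356
import Groth.Agent.Lib.Helper68.ExpChar

set_option autoImplicit false
universe u
open GaDual

namespace Groth.Agent.S13356

/-- Over a commutative algebra A over the rationals, the polynomials f with f(0) = 1 and f(X+Y) =
f(X)f(Y) (the characters of the additive group into the multiplicative group over A) are exactly the
polynomials exp(aX) with a in A nilpotent. -/
theorem result (A : Type u) [CommRing A] [Algebra ℚ A] (f : Polynomial A) :
    (f.eval 0 = 1 ∧
      Polynomial.aeval (MvPolynomial.X 0 + MvPolynomial.X 1 : MvPolynomial (Fin 2) A) f =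
        Polynomial.aeval (MvPolynomial.X 0 : MvPolynomial (Fin 2) A) f *
          Polynomial.aeval (MvPolynomial.X 1 : MvPolynomial (Fin 2) A) f) ↔
      ∃ a : A, IsNilpotent a ∧ (f : PowerSeries A) = PowerSeries.rescale a (PowerSeries.exp A) := by
  classical
  -- translate to power series
  have hsub : ∀ t : MvPolynomial (Fin 2) A, MvPolynomial.constantCoeff t = 0 →
      ((Polynomial.aeval t f : MvPolynomial (Fin 2) A) : MvPowerSeries (Fin 2) A) =
        PowerSeries.subst (t : MvPowerSeries (Fin 2) A) (f : PowerSeries A) := by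
    intro t ht
    have hs : PowerSeries.HasSubst (t : MvPowerSeries (Fin 2) A) := by
      apply PowerSeries.HasSubst.of_constantCoeff_zero
      rw [← MvPowerSeries.coeff_zero_eq_constantCoeff_apply, MvPolynomial.coeff_coe]
      exact ht
    rw [PowerSeries.subst_coe hs]
    exact (Polynomial.aeval_algHom_apply (MvPolynomial.coeToMvPowerSeries.algHom A) t f).symm
  have h01 : ((Polynomial.aeval (MvPolynomial.X 0 + MvPolynomial.X 1 : MvPolynomial (Fin 2) A) f :
      MvPolynomial (Fin 2) A) : MvPowerSeries (Fin 2) A) =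
      PowerSeries.subst (MvPowerSeries.X 0 + MvPowerSeries.X 1 : MvPowerSeries (Fin 2) A)
        (f : PowerSeries A) := by
    rw [hsub _ (by simp)]
    simp
  have h0 : ((Polynomial.aeval (MvPolynomial.X 0 : MvPolynomial (Fin 2) A) f :
      MvPolynomial (Fin 2) A) : MvPowerSeries (Fin 2) A) =
      PowerSeries.subst (MvPowerSeries.X 0 : MvPowerSeries (Fin 2) A) (f : PowerSeries A) := by
    rw [hsub _ (by simp)]
    simp
  have h1 : ((Polynomial.aeval (MvPolynomial.X 1 : MvPolynomial (Fin 2) A) f :
      MvPolynomial (Fin 2) A) : MvPowerSeries (Fin 2) A) =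
      PowerSeries.subst (MvPowerSeries.X 1 : MvPowerSeries (Fin 2) A) (f : PowerSeries A) := by
    rw [hsub _ (by simp)]
    simp
  have hfe : Polynomial.aeval (MvPolynomial.X 0 + MvPolynomial.X 1 : MvPolynomial (Fin 2) A) f =
        Polynomial.aeval (MvPolynomial.X 0 : MvPolynomial (Fin 2) A) f *
          Polynomial.aeval (MvPolynomial.X 1 : MvPolynomial (Fin 2) A) f ↔
      PowerSeries.subst (MvPowerSeries.X 0 + MvPowerSeries.X 1 : MvPowerSeries (Fin 2) A)
          (f : PowerSeries A) =
        PowerSeries.subst (MvPowerSeries.X 0 : MvPowerSeries (Fin 2) A) (f : PowerSeries A) *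
          PowerSeries.subst (MvPowerSeries.X 1 : MvPowerSeries (Fin 2) A) (f : PowerSeries A) := by
    rw [← h01, ← h0, ← h1, ← MvPolynomial.coe_mul]
    exact MvPolynomial.coe_inj.symm
  have hc0 : f.eval 0 = 1 ↔ PowerSeries.constantCoeff (f : PowerSeries A) = 1 := by
    rw [← PowerSeries.coeff_zero_eq_constantCoeff_apply, Polynomial.coeff_coe,
      Polynomial.coeff_zero_eq_eval_zero]
  rw [hfe, hc0, Groth.Agent.Lib.Helper68.formalCharacter_iff]
  constructor
  · rintro ⟨a, ha⟩
    refine ⟨a, ⟨f.natDegree + 1, ?_⟩, ha⟩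
    have hcoef := congrArg (PowerSeries.coeff (f.natDegree + 1)) ha
    rw [Polynomial.coeff_coe, Polynomial.coeff_eq_zero_of_natDegree_lt (Nat.lt_succ_self _),
      Groth.Agent.Lib.Helper68.coeff_rescale_exp] at hcoef
    have hinv : algebraMap ℚ A (1 / ((f.natDegree + 1).factorial : ℚ)) *
        algebraMap ℚ A ((f.natDegree + 1).factorial : ℚ) = 1 := by
      rw [← map_mul, ← map_one (algebraMap ℚ A)]
      congr 1
      have : ((f.natDegree + 1).factorial : ℚ) ≠ 0 := by
        exact_mod_cast Nat.factorial_ne_zero _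
      field_simp
    calc a ^ (f.natDegree + 1)
        = a ^ (f.natDegree + 1) * (algebraMap ℚ A (1 / ((f.natDegree + 1).factorial : ℚ)) *
            algebraMap ℚ A ((f.natDegree + 1).factorial : ℚ)) := by rw [hinv, mul_one]
      _ = (a ^ (f.natDegree + 1) * algebraMap ℚ A (1 / ((f.natDegree + 1).factorial : ℚ))) *
            algebraMap ℚ A ((f.natDegree + 1).factorial : ℚ) := by ring
      _ = 0 := by rw [← hcoef, zero_mul]
  · rintro ⟨a, -, ha⟩
    exact ⟨a, ha⟩

end Groth.Agent.S13356
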