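import Groth.Statements.S13359
import Groth.Agent.Lib.Helper68.PiIntClosed

set_option autoImplicit false
universe u
open UltraProd

namespace Groth.Agent.S13359

/-- If (R_i) is a nonempty family of integrally closed domains, then the localization of the product
ring ∏ R_i at any prime ideal is an integrally closed domain. -/
theorem result {ι : Type u} [Nonempty ι] (R : ι → Type u)
    [∀ i, CommRing (R i)] [∀ i, IsDomain (R i)] [∀ i, IsIntegrallyClosed (R i)]
    (P : Ideal (∀ i, R i)) [P.IsPrime] :
    IsDomain (Localization.AtPrime P) ∧ IsIntegrallyClosed (Localization.AtPrime P) := by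
  open Groth.Agent.Lib.Helper68 in
  have hdom : IsDomain (Localization.AtPrime P) := piLoc_isDomain (P := P) (Localization.AtPrime P)
  open Groth.Agent.Lib.Helper68 in
  exact ⟨hdom, piLoc_isIntegrallyClosed (P := P) (Localization.AtPrime P)⟩

end Groth.Agent.S13359
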