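import Groth.Statements.S13360
import Groth.Agent.Lib.Helper68.PiLocalization

set_option autoImplicit false
universe u
open UltraProd

namespace Groth.Agent.S13360

/-- If (R_i) is a nonempty family of valuation rings, then the localization of the product ring ∏ R_i at
any prime ideal is a valuation ring: a domain in which, of any two elements, one divides the other. -/
theorem result {ι : Type u} [Nonempty ι] (R : ι → Type u)
    [∀ i, CommRing (R i)] [∀ i, IsDomain (R i)] [∀ i, ValuationRing (R i)]
    (P : Ideal (∀ i, R i)) [P.IsPrime] :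
    IsDomain (Localization.AtPrime P) ∧ PreValuationRing (Localization.AtPrime P) := by
  open Groth.Agent.Lib.Helper68 in
  refine ⟨piLoc_isDomain (P := P) (Localization.AtPrime P), ⟨?_⟩⟩
  intro a b
  obtain ⟨x, s, rfl⟩ := IsLocalization.exists_mk'_eq P.primeCompl a
  obtain ⟨y, t, rfl⟩ := IsLocalization.exists_mk'_eq P.primeCompl b
  -- componentwise divisibility
  have hcomp : ∀ i, (∃ c : R i, x i * c = y i) ∨ (∃ c : R i, y i * c = x i) := by
    intro i
    obtain ⟨c, h | h⟩ := ValuationRing.cond (x i) (y i)
    · exact Or.inl ⟨c, h⟩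
    · exact Or.inr ⟨c, h⟩
  have hcover : (Set.univ : Set ι) ⊆ {i | ∃ c : R i, x i * c = y i} ∪ {i | ∃ c : R i, y i * c = x i} := by
    intro i _
    exact hcomp i
  classical
  rcases (piLarge_univ (P := P)).of_subset_union hcover with hL | hL
  · -- `x` divides `y` on a large set
    let c : ∀ i, R i := fun i => if h : ∃ c : R i, x i * c = y i then h.choose else 0
    have hc : algebraMap (∀ i, R i) (Localization.AtPrime P) (x * c) =
        algebraMap (∀ i, R i) (Localization.AtPrime P) y := by
      apply piLoc_map_eq_of_eqOn (P := P) _ hL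
      intro i hi
      have hi' : ∃ c : R i, x i * c = y i := hi
      show x i * c i = y i
      simp only [c, dif_pos hi']
      exact hi'.choose_spec
    refine ⟨IsLocalization.mk' _ (c * (s : ∀ i, R i)) t, Or.inl ?_⟩
    rw [← IsLocalization.mk'_mul, IsLocalization.mk'_eq_iff_eq]
    rw [map_mul] at hc
    simp only [Submonoid.coe_mul, map_mul]
    rw [← hc]
    ring
  · let c : ∀ i, R i := fun i => if h : ∃ c : R i, y i * c = x i then h.choose else 0
    have hc : algebraMap (∀ i, R i) (Localization.AtPrime P) (y * c) =
        algebraMap (∀ i, R i) (Localization.AtPrime P) x := by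
      apply piLoc_map_eq_of_eqOn (P := P) _ hL
      intro i hi
      have hi' : ∃ c : R i, y i * c = x i := hi
      show y i * c i = x i
      simp only [c, dif_pos hi']
      exact hi'.choose_spec
    refine ⟨IsLocalization.mk' _ (c * (t : ∀ i, R i)) s, Or.inr ?_⟩
    rw [← IsLocalization.mk'_mul, IsLocalization.mk'_eq_iff_eq]
    rw [map_mul] at hc
    simp only [Submonoid.coe_mul, map_mul]
    rw [← hc]
    ring

end Groth.Agent.S13360
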