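import Groth.Statements.S13362
import Groth.Agent.Lib.Helper68.Cocyclic

set_option autoImplicit false
universe u
open ProCompl

namespace Groth.Agent.S13362

/-- An abelian group of finite exponent having a nonzero element contained in every nonzero subgroup is
finite. -/
theorem result {A : Type u} [AddCommGroup A]
    (hA : AddMonoid.exponent A ≠ 0) (a : A) (ha : a ≠ 0) (h : ∀ B : AddSubgroup A, B ≠ ⊥ → a ∈ B) :
    Finite A := by
  obtain ⟨p, n, x, hp, hn, hg⟩ := Groth.Agent.Lib.Helper68.cocyclic_generator hA a ha h
  have hfin : IsOfFinAddOrder x := by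
    rw [← addOrderOf_pos_iff, hn]
    exact pow_pos hp.pos n
  have : Finite (AddSubgroup.zmultiples x) := (finite_zmultiples.mpr hfin).to_subtype
  exact Finite.of_equiv _ (Equiv.subtypeUnivEquiv hg)

end Groth.Agent.S13362
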