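import Groth.Statements.S13363
import Groth.Agent.Lib.Helper68.Cocyclic
import Mathlib.Topology.Algebra.OpenSubgroup
import Mathlib.GroupTheory.Index

set_option autoImplicit false
universe u
open ProCompl

namespace Groth.Agent.S13363

/-- Let A be a topological abelian group such that the subgroup n·A is open for each n > 0, and a ∈ A.
Then A has an open subgroup of finite index not containing a if and only if a does not lie in the
subgroup of divisible elements ∩_n nA. -/
theorem result {A : Type u} [AddCommGroup A]
    [TopologicalSpace A] [IsTopologicalAddGroup A]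
    (hn : ∀ n : ℕ, 0 < n → IsOpen (Set.range (fun x : A => n • x))) (a : A) :
    (∃ B : AddSubgroup A, IsOpen (B : Set A) ∧ B.FiniteIndex ∧ a ∉ B) ↔
      ¬ (∀ n : ℕ, 0 < n → ∃ b : A, n • b = a) := by
  constructor
  · rintro ⟨B, -, hBfin, haB⟩ hdiv
    obtain ⟨b, rfl⟩ := hdiv B.index (Nat.pos_of_ne_zero hBfin.index_ne_zero)
    exact haB (B.nsmul_index_mem b)
  · intro hnd
    push_neg at hnd
    obtain ⟨n, hn0, hna⟩ := hnd
    -- the subgroup `nA`
    let N : AddSubgroup A := (nsmulAddMonoidHom n : A →+ A).range
    have hNopen : IsOpen (N : Set A) := by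
      have : (N : Set A) = Set.range (fun x : A => n • x) := by
        ext y; simp [N, AddMonoidHom.mem_range]
      rw [this]; exact hn n hn0
    have haN : a ∉ N := by
      rintro ⟨b, hb⟩
      exact hna b hb
    have hexp : AddMonoid.exponent (A ⧸ N) ≠ 0 := by
      rw [AddMonoid.exponent_ne_zero]
      refine ⟨n, hn0, fun g => ?_⟩
      obtain ⟨y, rfl⟩ := QuotientAddGroup.mk_surjective g
      rw [← QuotientAddGroup.mk_nsmul, QuotientAddGroup.eq_zero_iff]
      exact ⟨y, rfl⟩
    have hq : (QuotientAddGroup.mk a : A ⧸ N) ≠ 0 := by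
      rw [Ne, QuotientAddGroup.eq_zero_iff]; exact haN
    obtain ⟨M, hMfin, hqM⟩ :=
      Groth.Agent.Lib.Helper68.exists_finiteIndex_not_mem_of_exponent hexp _ hq
    refine ⟨M.comap (QuotientAddGroup.mk' N), ?_, ?_, hqM⟩
    · refine AddSubgroup.isOpen_mono (H₁ := N) ?_ hNopen
      intro x hx
      show (QuotientAddGroup.mk x : A ⧸ N) ∈ M
      rw [(QuotientAddGroup.eq_zero_iff x).mpr hx]
      exact zero_mem _
    · constructor
      rw [AddSubgroup.index_comap_of_surjective _ (QuotientAddGroup.mk'_surjective N)]
      exact hMfin.index_ne_zero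

end Groth.Agent.S13363
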