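import Groth.Statements.S13365
import Mathlib.Topology.Algebra.ClopenNhdofOne
import Mathlib.Topology.Algebra.Nonarchimedean.TotallyDisconnected
import Mathlib.Topology.Algebra.Group.Quotient

set_option autoImplicit false
universe u
open ProCompl

namespace Groth.Agent.S13365

/-- The quotient of a profinite (compact, Hausdorff, totally disconnected) abelian topological group by
a compact subgroup is profinite. -/
theorem result {A : Type u} [AddCommGroup A] [TopologicalSpace A]
    [IsTopologicalAddGroup A] [CompactSpace A] [T2Space A] [TotallyDisconnectedSpace A]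
    (B : AddSubgroup A) (hB : IsCompact (B : Set A)) :
    CompactSpace (A ⧸ B) ∧ T2Space (A ⧸ B) ∧ TotallyDisconnectedSpace (A ⧸ B) := by
  haveI : IsClosed (B : Set A) := hB.isClosed
  haveI hT2 : T2Space (A ⧸ B) := inferInstance
  refine ⟨inferInstance, hT2, ?_⟩
  haveI : NonarchimedeanAddGroup (A ⧸ B) :=
    { is_nonarchimedean := by
        intro U hU
        have hcont : Continuous (QuotientAddGroup.mk : A → A ⧸ B) := continuous_quot_mk
        have hpre : (QuotientAddGroup.mk : A → A ⧸ B) ⁻¹' U ∈ nhds (0 : A) :=
          hcont.continuousAt.preimage_mem_nhds (by simpa using hU)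
        obtain ⟨W, hWU, hWopen, h0W⟩ := mem_nhds_iff.mp hpre
        obtain ⟨H, hH⟩ := ProfiniteGrp.exist_openNormalAddSubgroup_sub_open_nhds_of_zero hWopen h0W
        refine ⟨⟨(H : AddSubgroup A).map (QuotientAddGroup.mk' B), ?_⟩, ?_⟩
        · have : ((H : AddSubgroup A).map (QuotientAddGroup.mk' B) : Set (A ⧸ B)) =
              (QuotientAddGroup.mk : A → A ⧸ B) '' (H : Set A) := rfl
          show IsOpen ((H : AddSubgroup A).map (QuotientAddGroup.mk' B) : Set (A ⧸ B))
          rw [this]
          exact QuotientAddGroup.isOpenMap_coe _ H.isOpen'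
        · rintro _ ⟨x, hx, rfl⟩
          exact hWU (hH hx) }
  infer_instance

end Groth.Agent.S13365
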