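import Groth.Statements.S2148
import Mathlib.Algebra.CharP.Algebra
import Mathlib.Algebra.Polynomial.Derivation
import Mathlib.FieldTheory.IntermediateField.Adjoin.Basic
import Mathlib.FieldTheory.Perfect
import Mathlib.Order.CompletePartialOrder
import Mathlib.RingTheory.Henselian
import Mathlib.RingTheory.Kaehler.Basic
import Mathlib.RingTheory.RegularLocalRing.Defs
import Mathlib.RingTheory.SimpleRing.Principal
import Mathlib.Tactic

set_option autoImplicit false
set_option linter.style.haveILetI false
universe u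

namespace Groth.Agent.S2148

open Polynomial IntermediateField

section
variable {K : Type*} [Field K] (p : ℕ) [Fact p.Prime] [CharP K p]

/-- A maximal subfield containing all `p`-th powers and not containing `a`. -/
theorem exists_maximal_subfield (a : K) (ha : ∀ b : K, b ^ p ≠ a) :
    ∃ L : Subfield K, (∀ x : K, x ^ p ∈ L) ∧ a ∉ L ∧
      ∀ L' : Subfield K, L ≤ L' → a ∉ L' → L' = L := by
  let S : Set (Subfield K) := {L | (∀ x : K, x ^ p ∈ L) ∧ a ∉ L}
  have hS0 : (frobenius K p).fieldRange ∈ S := by
    refine ⟨fun x => ⟨x, rfl⟩, ?_⟩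
    rintro ⟨b, hb⟩
    exact ha b hb
  have hchain : ∀ c ⊆ S, IsChain (· ≤ ·) c → ∀ y ∈ c, ∃ ub ∈ S, ∀ z ∈ c, z ≤ ub := by
    intro c hcS hc y hy
    have hne : c.Nonempty := ⟨y, hy⟩
    refine ⟨sSup c, ⟨?_, ?_⟩, fun z hz => le_sSup hz⟩
    · intro x
      obtain ⟨L, hL⟩ := hne
      exact (le_sSup hL) ((hcS hL).1 x)
    · intro hmem
      rw [Subfield.mem_sSup_of_directedOn hne hc.directedOn] at hmem
      obtain ⟨L, hL, haL⟩ := hmem
      exact (hcS hL).2 haL
  obtain ⟨L, hL0, hLmax⟩ := zorn_le_nonempty₀ S hchain _ hS0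
  refine ⟨L, hLmax.prop.1, hLmax.prop.2, fun L' hle ha' => ?_⟩
  have hL'S : L' ∈ S := ⟨fun x => hle (hLmax.prop.1 x), ha'⟩
  exact le_antisymm (hLmax.le_of_ge hL'S hle) hle

/-- If `a` is not a `p`-th power, there are a subfield `L ⊇ K^p` and an `L`-derivation of `K`
sending `a` to `1`. -/
theorem exists_derivation (a : K) (ha : ∀ b : K, b ^ p ≠ a) :
    ∃ (L : Subfield K) (D : Derivation L K K), (∀ x : K, x ^ p ∈ L) ∧ D a = 1 := by
  obtain ⟨L, hpow, haL, hmax⟩ := exists_maximal_subfield p a ha
  haveI : CharP L p := RingHom.charP (algebraMap L K) (algebraMap L K).injective p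
  -- (a) elements outside `L` have degree `p`
  have hirr : ∀ x : K, x ∉ L → Irreducible (X ^ p - C (⟨x ^ p, hpow x⟩ : L)) := by
    intro x hx
    apply X_pow_sub_C_irreducible_of_prime (Fact.out : p.Prime)
    intro b hb
    have h1 : ((b : K)) ^ p = x ^ p := congrArg Subtype.val hb
    have h2 : (x - (b : K)) ^ p = 0 := by rw [sub_pow_char, h1, sub_self]
    have h3 : x = (b : K) := by
      have := pow_eq_zero_iff (Fact.out : p.Prime).ne_zero |>.mp h2
      exact sub_eq_zero.mp this
    exact hx (h3 ▸ b.2)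
  have hint : ∀ x : K, IsIntegral L x := by
    intro x
    refine ⟨X ^ p - C (⟨x ^ p, hpow x⟩ : L), monic_X_pow_sub_C _ (Fact.out : p.Prime).ne_zero, ?_⟩
    simp only [eval₂_sub, eval₂_pow, eval₂_X, eval₂_C]
    exact sub_self _
  have hmin : ∀ x : K, x ∉ L → minpoly L x = X ^ p - C (⟨x ^ p, hpow x⟩ : L) := by
    intro x hx
    refine (minpoly.eq_of_irreducible_of_monic (hirr x hx) ?_
      (monic_X_pow_sub_C _ (Fact.out : p.Prime).ne_zero)).symm
    simp only [map_sub, map_pow, aeval_X, aeval_C]
    exact sub_self _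
  have hfin : ∀ x : K, x ∉ L → Module.finrank L L⟮x⟯ = p := by
    intro x hx
    rw [IntermediateField.adjoin.finrank (hint x), hmin x hx,
      natDegree_X_pow_sub_C]
  -- (b) `a ∈ L(x)` for `x ∉ L`
  have hax : ∀ x : K, x ∉ L → a ∈ L⟮x⟯ := by
    intro x hx
    by_contra hcon
    have hle : L ≤ L⟮x⟯.toSubfield := by
      intro y hy
      exact L⟮x⟯.algebraMap_mem ⟨y, hy⟩
    have := hmax L⟮x⟯.toSubfield hle hcon
    apply hx
    rw [← this]
    exact mem_adjoin_simple_self L x
  -- (c) `L(a) = ⊤`
  have htop : L⟮a⟯ = ⊤ := by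
    rw [eq_top_iff]
    intro x _
    by_cases hx : x ∈ L
    · exact L⟮a⟯.algebraMap_mem ⟨x, hx⟩
    · have hle : L⟮a⟯ ≤ L⟮x⟯ := adjoin_simple_le_iff.mpr (hax x hx)
      haveI : FiniteDimensional L L⟮x⟯ := adjoin.finiteDimensional (hint x)
      have := IntermediateField.eq_of_le_of_finrank_eq hle ((hfin a haL).trans (hfin x hx).symm)
      rw [this]
      exact mem_adjoin_simple_self L x
  -- (d) the derivation
  have hsurj : Function.Surjective (aeval a : L[X] →ₐ[L] K) := by
    rw [← AlgHom.range_eq_top, ← Algebra.adjoin_singleton_eq_range_aeval,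
      ← IntermediateField.adjoin_simple_toSubalgebra_of_isAlgebraic (hint a).isAlgebraic, htop,
      IntermediateField.top_toSubalgebra]
  have hd : ∀ q : L[X], (aeval a : L[X] →ₐ[L] K) q = 0 →
      (aeval a : L[X] →ₐ[L] K) ((derivative' : Derivation L L[X] L[X]) q) = 0 := by
    intro q hq
    obtain ⟨g, rfl⟩ := minpoly.dvd L a hq
    rw [hmin a haL]
    have h1 : derivative (X ^ p - C (⟨a ^ p, hpow a⟩ : L)) = 0 := by
      rw [derivative_sub, derivative_X_pow, derivative_C, sub_zero]
      have : (C (p : L) : L[X]) = 0 := by rw [CharP.cast_eq_zero, map_zero]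
      rw [this, zero_mul]
    change aeval a (derivative _) = 0
    rw [derivative_mul, h1, zero_mul, zero_add, map_mul]
    have h2 : aeval a (X ^ p - C (⟨a ^ p, hpow a⟩ : L)) = 0 := by
      simp only [map_sub, map_pow, aeval_X, aeval_C]
      exact sub_self _
    rw [h2, zero_mul]
  refine ⟨L, Derivation.liftOfSurjective hsurj hd, hpow, ?_⟩
  have := Derivation.liftOfSurjective_apply hsurj hd X
  rw [aeval_X] at this
  rw [this]
  change aeval a (derivative X) = 1
  rw [derivative_X, map_one]

end

theorem result {k K : Type u} [Field k] [Field K] [Algebra k K] (p : ℕ) [Fact p.Prime]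
    [CharP k p] [PerfectRing k p] (a : K) :
    KaehlerDifferential.D k K a = 0 ↔ ∃ b : K, b ^ p = a := by
  haveI : CharP K p := charP_of_injective_algebraMap (algebraMap k K).injective p
  constructor
  · intro h0
    by_contra hcon
    push Not at hcon
    obtain ⟨L, D, hpow, hDa⟩ := exists_derivation p a hcon
    have hkL : ∀ c : k, algebraMap k K c ∈ L := by
      intro c
      have : algebraMap k K c = (algebraMap k K ((frobeniusEquiv k p).symm c)) ^ p := by
        rw [← map_pow, ← frobenius_def, ← frobeniusEquiv_apply, RingEquiv.apply_symm_apply]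
      rw [this]
      exact hpow _
    let D' : Derivation k K K :=
      { toFun := D
        map_add' := fun x y => map_add D x y
        map_smul' := fun c x => by
          simp only [RingHom.id_apply]
          rw [Algebra.smul_def, D.leibniz, Algebra.smul_def]
          have h1 : D (algebraMap k K c) = 0 := by
            have : algebraMap k K c = algebraMap L K ⟨algebraMap k K c, hkL c⟩ := rfl
            rw [this, D.map_algebraMap]
          rw [h1, smul_zero, add_zero, Algebra.algebraMap_self, RingHom.id_apply, Algebra.smul_def]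
        map_one_eq_zero' := D.map_one_eq_zero
        leibniz' := fun x y => D.leibniz x y }
    have h1 : D'.liftKaehlerDifferential (KaehlerDifferential.D k K a) = D' a :=
      D'.liftKaehlerDifferential_comp_D a
    rw [h0, map_zero] at h1
    have h2 : D' a = 1 := hDa
    rw [h2] at h1
    exact zero_ne_one h1
  · rintro ⟨b, rfl⟩
    rw [Derivation.leibniz_pow, ← Nat.cast_smul_eq_nsmul K, CharP.cast_eq_zero, zero_smul]

end Groth.Agent.S2148
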