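import Groth.Statements.S13369
import Groth.Agent.S2148
import Mathlib.Tactic

set_option autoImplicit false
universe u

namespace Groth.Agent.S13369

/-- Absolute version of `S2148`: in a field of characteristic `p`, an element with vanishing
absolute differential is a `p`-th power. -/
theorem exists_pow_eq_of_D_eq_zero {K : Type*} [Field K] (p : ℕ) [Fact p.Prime] [CharP K p] (x : K)
    (hx : KaehlerDifferential.D ℤ K x = 0) : ∃ b : K, b ^ p = x := by
  by_contra hcon
  push Not at hcon
  obtain ⟨L, D, -, hD⟩ := Groth.Agent.S2148.exists_derivation p x hcon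
  let D' : Derivation ℤ K K :=
    { toFun := D
      map_add' := fun x y => map_add D x y
      map_smul' := fun c x => by
        simp only [RingHom.id_apply]
        exact map_zsmul D c x
      map_one_eq_zero' := D.map_one_eq_zero
      leibniz' := fun x y => D.leibniz x y }
  have h3 : D'.liftKaehlerDifferential (KaehlerDifferential.D ℤ K x) = D' x :=
    D'.liftKaehlerDifferential_comp_D _
  rw [hx, map_zero] at h3
  have h4 : D' x = 1 := hD
  rw [h4] at h3
  exact zero_ne_one h3

theorem aux (p : ℕ) [Fact p.Prime] {A : Type u} [CommRing A] [IsDomain A]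
    [IsIntegrallyClosed A] [CharP A p] (K : Type u) [Field K] [Algebra A K] [IsFractionRing A K]
    (s : A) (hs : KaehlerDifferential.D ℤ A s = 0) :
    ∃ f : A, f ^ p = s := by
  have : CharP K p := charP_of_injective_algebraMap (IsFractionRing.injective A K) p
  -- `d s = 0` in `Ω_{K/ℤ}`
  have h1 : KaehlerDifferential.D ℤ K (algebraMap A K s) = 0 := by
    rw [← KaehlerDifferential.map_D ℤ ℤ A K, hs, map_zero]
  obtain ⟨b, hb⟩ := exists_pow_eq_of_D_eq_zero p _ h1
  have hint : IsIntegral A b := by
    refine ⟨Polynomial.X ^ p - Polynomial.C s,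
      Polynomial.monic_X_pow_sub_C _ (Fact.out : p.Prime).ne_zero, ?_⟩
    simp [hb]
  obtain ⟨f, rfl⟩ := (IsIntegrallyClosed.isIntegral_iff (K := K)).mp hint
  refine ⟨f, IsFractionRing.injective A K ?_⟩
  rw [map_pow, hb]

theorem result (p : ℕ) [Fact p.Prime] {A : Type u} [CommRing A] [IsDomain A]
    [IsNoetherianRing A] [IsIntegrallyClosed A] [CharP A p] (s : A) (hs : KaehlerDifferential.D ℤ A s = 0) :
    ∃ f : A, f ^ p = s :=
  aux p (FractionRing A) s hs

end Groth.Agent.S13369
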