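import Groth.Statements.S13370
import Mathlib.AlgebraicGeometry.AffineSpace
import Mathlib.Algebra.MvPolynomial.Nilpotent

set_option autoImplicit false
universe u
open GaDual

namespace Groth.Agent.S13370

section helpers
open AlgebraicGeometry CategoryTheory Limits

/-- the zero section -/
noncomputable def zeroSec (n : Type u) (S : Scheme.{u}) : S ⟶ 𝔸(n; S) :=
  AffineSpace.homOfVector (𝟙 S) 0

theorem zeroSec_over (n : Type u) (S : Scheme.{u}) : zeroSec n S ≫ 𝔸(n; S) ↘ S = 𝟙 S :=
  AffineSpace.homOfVector_over _ _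

theorem zeroSec_map (n : Type u) {S T : Scheme.{u}} (f : S ⟶ T) :
    zeroSec n S ≫ AffineSpace.map n f = f ≫ zeroSec n T := by
  apply AffineSpace.hom_ext
  · rw [Category.assoc, AffineSpace.map_over, ← Category.assoc, zeroSec_over, Category.assoc,
      zeroSec_over, Category.id_comp, Category.comp_id]
  · intro i
    rw [Scheme.Hom.comp_appTop, Scheme.Hom.comp_appTop]
    simp only [CommRingCat.comp_apply]
    rw [AffineSpace.map_appTop_coord]
    unfold zeroSec
    rw [AffineSpace.homOfVector_appTop_coord, AffineSpace.homOfVector_appTop_coord]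
    simp

theorem affine_case (n : Type u) (S : Scheme.{u}) [IsAffine S] [IsReduced S]
    (w : Γ(𝔸(n; S), ⊤)) (hw : IsUnit w) :
    (𝔸(n; S) ↘ S).appTop ((zeroSec n S).appTop w) = w := by
  let ψ : MvPolynomial n Γ(S, ⊤) →+* Γ(𝔸(n; S), ⊤) :=
    MvPolynomial.eval₂Hom ((𝔸(n; S) ↘ S).appTop).hom (AffineSpace.coord S)
  have hψ : Function.Bijective ψ := by
    have h1 : (AffineSpace.isoOfIsAffine n S).hom.appTop =
      (Scheme.ΓSpecIso _).hom ≫ CommRingCat.ofHom ψ := AffineSpace.isoOfIsAffine_hom_appTop S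
    have h2 : IsIso (CommRingCat.ofHom ψ) := by
      have : CommRingCat.ofHom ψ = (Scheme.ΓSpecIso _).inv ≫
          (AffineSpace.isoOfIsAffine n S).hom.appTop := by
        rw [h1, Iso.inv_hom_id_assoc]
      rw [this]
      have : IsIso (AffineSpace.isoOfIsAffine n S).hom.appTop :=
        inferInstanceAs (IsIso ((AffineSpace.isoOfIsAffine n S).hom.app ⊤))
      infer_instance
    exact ConcreteCategory.bijective_of_isIso (CommRingCat.ofHom ψ)
  obtain ⟨p, rfl⟩ := hψ.2 w
  have hp : IsUnit p := by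
    let e := RingEquiv.ofBijective ψ hψ
    have : IsUnit (e p) := hw
    exact (MulEquiv.isUnit_map e).mp this
  obtain ⟨r, -, rfl⟩ := MvPolynomial.isUnit_iff_eq_C_of_isReduced.mp hp
  have hC : ψ (MvPolynomial.C r) = (𝔸(n; S) ↘ S).appTop r := by
    simp [ψ]
  rw [hC]
  have := congrArg (fun f => f.appTop r) (zeroSec_over n S)
  simp only [Scheme.Hom.comp_appTop, CommRingCat.comp_apply] at this
  rw [this]
  simp

theorem global_case (n : Type u) (X : Scheme.{u}) [IsReduced X]
    (w : Γ(𝔸(n; X), ⊤)) (hw : IsUnit w) :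
    (𝔸(n; X) ↘ X).appTop ((zeroSec n X).appTop w) = w := by
  let 𝒰 := X.affineCover
  let 𝒱 := 𝒰.pullback₁ (𝔸(n; X) ↘ X)
  refine Scheme.OpenCover.ext_elem _ _ 𝒱 ?_
  intro i
  let i' : 𝒰.I₀ := i
  let f : 𝒰.X i' ⟶ X := 𝒰.f i'
  have hpb := (AffineSpace.isPullback_map (n := n) f)
  let α := hpb.isoPullback
  let g : pullback (𝔸(n; X) ↘ X) f ⟶ 𝔸(n; X) := pullback.fst _ _
  have hα : α.hom ≫ g = AffineSpace.map n f := hpb.isoPullback_hom_fst
  have hinj : Function.Injective α.hom.appTop := by
    have : IsIso α.hom.appTop := inferInstanceAs (IsIso (α.hom.app ⊤))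
    exact (ConcreteCategory.bijective_of_isIso α.hom.appTop).1
  apply hinj
  change α.hom.appTop (g.appTop _) = α.hom.appTop (g.appTop _)
  have key : ∀ x : Γ(𝔸(n; X), ⊤), α.hom.appTop (g.appTop x) =
      (AffineSpace.map n f).appTop x := by
    intro x
    rw [← hα, Scheme.Hom.comp_appTop]
    rfl
  rw [key, key]
  have : IsReduced (𝒰.X i') := isReduced_of_isOpenImmersion f
  have h1 := affine_case n (𝒰.X i') ((AffineSpace.map n f).appTop w)
    (hw.map (AffineSpace.map n f).appTop.hom)
  have h2 : ∀ x : Γ(X, ⊤), (AffineSpace.map n f).appTop ((𝔸(n; X) ↘ X).appTop x) =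
      (𝔸(n; 𝒰.X i') ↘ 𝒰.X i').appTop (f.appTop x) := by
    intro x
    have := congrArg (fun g => g.appTop x) (AffineSpace.map_over (n := n) f)
    simpa only [Scheme.Hom.comp_appTop, CommRingCat.comp_apply] using this
  have h3 : ∀ x : Γ(𝔸(n; X), ⊤), f.appTop ((zeroSec n X).appTop x) =
      (zeroSec n (𝒰.X i')).appTop ((AffineSpace.map n f).appTop x) := by
    intro x
    have := congrArg (fun g => g.appTop x) (zeroSec_map n f)
    simpa only [Scheme.Hom.comp_appTop, CommRingCat.comp_apply] using this.symm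
  rw [h2, h3, h1]

end helpers


open AlgebraicGeometry in
/-- Over a reduced scheme X, each invertible global function on 𝔸ⁿ_X comes, by pullback along the
projection to X, from an invertible global function on X. -/
theorem result (n : Type u) [Finite n] (X : Scheme.{u}) [IsReduced X]
    (w : Γ(𝔸(n; X), ⊤)) (hw : IsUnit w) :
    ∃ v : Γ(X, ⊤), IsUnit v ∧ (𝔸(n; X) ↘ X).appTop v = w := by
  exact ⟨(zeroSec n X).appTop w, hw.map (zeroSec n X).appTop.hom, global_case n X w hw⟩

end Groth.Agent.S13370
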