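import Groth.Statements.S13373
import Groth.Agent.Lib.Helper68.CharPChar

set_option autoImplicit false
universe u
open GaDual

namespace Groth.Agent.S13373

/-- Over a commutative algebra A of prime characteristic p, the formal characters (power series χ with
constant term 1 and χ(X+Y) = χ(X)χ(Y)) are exactly the infinite products ∏_n exp_p(a_n X^(p^n)) with
a_n^p = 0, where exp_p(Y) = Σ_{j<p} Y^j/j!; the infinite product is expressed through its
truncations: χ mod X^(p^m) equals the finite product over n < m. -/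
theorem result (p : ℕ) [Fact p.Prime] (A : Type u) [CommRing A] [CharP A p]
    (χ : PowerSeries A) :
    (PowerSeries.constantCoeff χ = 1 ∧
      PowerSeries.subst (MvPowerSeries.X 0 + MvPowerSeries.X 1 : MvPowerSeries (Fin 2) A) χ =
        PowerSeries.subst (MvPowerSeries.X 0 : MvPowerSeries (Fin 2) A) χ *
          PowerSeries.subst (MvPowerSeries.X 1 : MvPowerSeries (Fin 2) A) χ) ↔
      ∃ a : ℕ → A, (∀ n, a n ^ p = 0) ∧ ∀ m : ℕ,
        PowerSeries.trunc (p ^ m) χ = ∏ n ∈ Finset.range m, ∑ j ∈ Finset.range p,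
          Polynomial.C (Ring.inverse (j.factorial : A) * a n ^ j) * Polynomial.X ^ (j * p ^ n) := by
  have hE : ∀ (a : A) (n : ℕ), (∑ j ∈ Finset.range p,
      Polynomial.C (Ring.inverse (j.factorial : A) * a ^ j) * Polynomial.X ^ (j * p ^ n)) =
      Groth.Agent.Lib.Helper68.CharPChar.E p a n := fun a n => rfl
  simp only [hE]
  rw [Groth.Agent.Lib.Helper68.subst_add_eq_mul_iff,
    ← PowerSeries.coeff_zero_eq_constantCoeff_apply]
  have hp1 : 1 < p := (Fact.out : p.Prime).one_lt
  constructor
  · rintro ⟨h0, hfe⟩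
    have hH : ∀ m, Groth.Agent.Lib.Helper68.CharPChar.H p (fun k => PowerSeries.coeff k χ) m :=
      fun m => ⟨h0, fun i j _ _ => hfe i j⟩
    refine ⟨fun n => PowerSeries.coeff (p ^ n) χ, fun n => ?_, fun m => ?_⟩
    · exact Groth.Agent.Lib.Helper68.CharPChar.coeff_pow_pow_eq_zero (hH (n + 1))
        (Nat.lt_succ_self n)
    · apply Groth.Agent.Lib.Helper68.CharPChar.eq_prod_E (hH m)
      intro k
      rw [PowerSeries.coeff_trunc]
  · rintro ⟨a, ha, htr⟩
    have hcoef : ∀ m k, k < p ^ m → PowerSeries.coeff k χ =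
        (∏ n ∈ Finset.range m, Groth.Agent.Lib.Helper68.CharPChar.E p (a n) n).coeff k := by
      intro m k hk
      rw [← htr m, PowerSeries.coeff_trunc, if_pos hk]
    have hchar : ∀ m, Groth.Agent.Lib.Helper68.CharPChar.IsChar
        (∏ n ∈ Finset.range m, Groth.Agent.Lib.Helper68.CharPChar.E p (a n) n) :=
      fun m => Groth.Agent.Lib.Helper68.CharPChar.isChar_prod_E a m fun n _ => ha n
    constructor
    · rw [hcoef 0 0 (by simp)]
      simp
    · intro i j
      have hm : i + j < p ^ (i + j + 1) :=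
        lt_trans (Nat.lt_succ_self _) (Nat.lt_pow_self hp1)
      have hi : i < p ^ (i + j + 1) := lt_of_le_of_lt (Nat.le_add_right i j) hm
      have hj : j < p ^ (i + j + 1) := lt_of_le_of_lt (Nat.le_add_left j i) hm
      rw [hcoef _ _ hm, hcoef _ _ hi, hcoef _ _ hj]
      exact ((Groth.Agent.Lib.Helper68.CharPChar.isChar_iff_coeff _).mp (hchar (i + j + 1))).2 i j

end Groth.Agent.S13373
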