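import Groth.Statements.S13374
import Groth.Agent.Lib.Helper68.CharPChar

set_option autoImplicit false
universe u
open GaDual

namespace Groth.Agent.S13374

/-- Over a commutative algebra A of prime characteristic p, every character of the kernel α_(p^n) of the
n-th Frobenius of the additive group — i.e. every polynomial f of degree < p^n with f(0) = 1 and
f(X+Y) ≡ f(X)f(Y) modulo (X^(p^n), Y^(p^n)) — is the product ∏_{i<n} exp_p(a_i X^(p^i)) for some a_i
with a_i^p = 0, exp_p(Y) = Σ_{j<p} Y^j/j!. -/
theorem result (p : ℕ) [Fact p.Prime] (A : Type u) [CommRing A] [CharP A p]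
    (n : ℕ) (f : Polynomial A) (hdeg : f.natDegree < p ^ n) (h0 : f.eval 0 = 1)
    (hmul : Ideal.Quotient.mk
        (Ideal.span {(MvPolynomial.X 0 ^ p ^ n : MvPolynomial (Fin 2) A), MvPolynomial.X 1 ^ p ^ n})
        (Polynomial.aeval (MvPolynomial.X 0 + MvPolynomial.X 1 : MvPolynomial (Fin 2) A) f) =
      Ideal.Quotient.mk
        (Ideal.span {(MvPolynomial.X 0 ^ p ^ n : MvPolynomial (Fin 2) A), MvPolynomial.X 1 ^ p ^ n})
        (Polynomial.aeval (MvPolynomial.X 0 : MvPolynomial (Fin 2) A) f *
          Polynomial.aeval (MvPolynomial.X 1 : MvPolynomial (Fin 2) A) f)) :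
    ∃ a : ℕ → A, (∀ i, a i ^ p = 0) ∧
      f = ∏ i ∈ Finset.range n, ∑ j ∈ Finset.range p,
          Polynomial.C (Ring.inverse (j.factorial : A) * a i ^ j) * Polynomial.X ^ (j * p ^ i) := by
  classical
  have hE : ∀ (a : A) (n : ℕ), (∑ j ∈ Finset.range p,
      Polynomial.C (Ring.inverse (j.factorial : A) * a ^ j) * Polynomial.X ^ (j * p ^ n)) =
      Groth.Agent.Lib.Helper68.CharPChar.E p a n := fun a n => rfl
  simp only [hE]
  have hD := (Ideal.Quotient.eq).mp hmul
  have hH : Groth.Agent.Lib.Helper68.CharPChar.H p (fun k => f.coeff k) n := by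
    refine ⟨by show f.coeff 0 = 1; rw [Polynomial.coeff_zero_eq_eval_zero]; exact h0,
      fun i j hi hj => ?_⟩
    have h1 := Groth.Agent.Lib.Helper68.CharPChar.coeff_eq_zero_of_mem_span_pow (p ^ n) _ hD
      (Finsupp.single 0 i + Finsupp.single 1 j) (by simpa using hi) (by simpa using hj)
    rw [MvPolynomial.coeff_sub, Groth.Agent.Lib.Helper68.CharPChar.coeff_aeval_X0_add_X1,
      Groth.Agent.Lib.Helper68.CharPChar.coeff_aeval_X0_mul_aeval_X1, sub_eq_zero] at h1
    simpa using h1
  refine ⟨fun i => if i < n then f.coeff (p ^ i) else 0, fun i => ?_, ?_⟩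
  · by_cases hi : i < n
    · simp only [if_pos hi]
      exact Groth.Agent.Lib.Helper68.CharPChar.coeff_pow_pow_eq_zero hH hi
    · simp only [if_neg hi]
      exact zero_pow (Fact.out : p.Prime).ne_zero
  · have h1 := Groth.Agent.Lib.Helper68.CharPChar.eq_prod_E hH f (by
      intro k
      split_ifs with hk
      · rfl
      · exact Polynomial.coeff_eq_zero_of_natDegree_lt (lt_of_lt_of_le hdeg (not_lt.mp hk)))
    refine h1.trans ?_
    refine Finset.prod_congr rfl fun i hi => ?_
    simp only [if_pos (Finset.mem_range.mp hi)]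

end Groth.Agent.S13374
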