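import Groth.Statements.S13378
import Groth.Agent.Lib.Helper68.ProfiniteCompletion
import Groth.Agent.Lib.Helper68.FiniteIndexExtend

set_option autoImplicit false
universe u
open ProCompl

namespace Groth.Agent.S13378

/-- For an abelian group A (written multiplicatively, discrete) and a subgroup A' such that the quotient
A/A' has no nontrivial divisible element and its torsion elements are killed by one positive
integer, the map induced on profinite completions by the inclusion of A' in A is injective. (The
published statement is for topological abelian groups in which every nA is open, with completions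
formed from open subgroups of finite index; this row is the case of the discrete topology.) -/
theorem result (A : Type u) [CommGroup A] (A' : Subgroup A)
    (hdiv : ∀ x : A ⧸ A', (∀ n : ℕ, 0 < n → ∃ y : A ⧸ A', y ^ n = x) → x = 1)
    (htors : ∃ N : ℕ, 0 < N ∧ ∀ x : A ⧸ A', IsOfFinOrder x → x ^ N = 1) :
    Function.Injective (ProfiniteGrp.profiniteCompletion.map (GrpCat.ofHom A'.subtype)).hom := by
  classical
  rw [injective_iff_map_eq_one]
  intro x hx
  apply Subtype.ext
  funext m'
  show x.1 m' = 1
  have hfi : (m'.toSubgroup).FiniteIndex := m'.isFiniteIndex'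
  obtain ⟨m₀, hm₀fin, hm₀⟩ :=
    Groth.Agent.Lib.Helper68.exists_finiteIndex_comap_le A' htors m'.toSubgroup
  let m : FiniteIndexNormalSubgroup (GrpCat.of A) :=
    { toSubgroup := m₀
      isNormal' := inferInstance
      isFiniteIndex' := hm₀fin }
  let V : Set (ProfiniteGrp.ProfiniteCompletion.completion (GrpCat.of A')) :=
    {y | ((ProfiniteGrp.profiniteCompletion.map (GrpCat.ofHom A'.subtype)).hom y).1 m = 1}
  have hV : IsOpen V :=
    (Groth.Agent.Lib.Helper68.isOpen_component_eq _ m 1).preimage
      (ProfiniteGrp.profiniteCompletion.map (GrpCat.ofHom A'.subtype)).hom.continuous_toFun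
  have hxV : x ∈ V := by
    show ((ProfiniteGrp.profiniteCompletion.map (GrpCat.ofHom A'.subtype)).hom x).1 m = 1
    rw [hx]
    rfl
  obtain ⟨a', haV, ha⟩ := Groth.Agent.Lib.Helper68.exists_etaFn_mem _ x V hV hxV m'
  have haV' : ((ProfiniteGrp.profiniteCompletion.map (GrpCat.ofHom A'.subtype)).hom
      (ProfiniteGrp.ProfiniteCompletion.etaFn (GrpCat.of A') a')).1 m = 1 := haV
  rw [Groth.Agent.Lib.Helper68.map_etaFn] at haV'
  have h1 : (QuotientGroup.mk (A'.subtype a') : A ⧸ m₀) = 1 := haV'
  rw [QuotientGroup.eq_one_iff] at h1
  have h2 : a' ∈ m'.toSubgroup := hm₀ a' h1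
  rw [← ha]
  exact (QuotientGroup.eq_one_iff _).mpr h2

end Groth.Agent.S13378
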