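import Groth.Statements.S13379
import Groth.Agent.Lib.Helper68.ProfiniteCompletion

set_option autoImplicit false
universe u
open ProCompl

namespace Groth.Agent.S13379

/-- Profinite completion is right exact: for an abelian group A (written multiplicatively, discrete) and
a subgroup A', the map on profinite completions induced by A → A/A' is surjective and its kernel is
the image of the completion of A'. (The published statement is right-exactness for topological
abelian groups with completions formed from open subgroups of finite index; this row is the case of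
the discrete topology.) -/
theorem result (A : Type u) [CommGroup A] (A' : Subgroup A) :
    Function.Surjective (ProfiniteGrp.profiniteCompletion.map (GrpCat.ofHom (QuotientGroup.mk' A'))).hom ∧
      (ProfiniteGrp.profiniteCompletion.map (GrpCat.ofHom (QuotientGroup.mk' A'))).hom.toMonoidHom.ker =
        (ProfiniteGrp.profiniteCompletion.map (GrpCat.ofHom A'.subtype)).hom.toMonoidHom.range := by
  classical
  refine ⟨Groth.Agent.Lib.Helper68.surjective_map_of_surjective
    (GrpCat.ofHom (QuotientGroup.mk' A')) (QuotientGroup.mk'_surjective A'), ?_⟩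
  apply le_antisymm
  · -- the kernel is contained in the image
    intro x hx
    have hx' : (ProfiniteGrp.profiniteCompletion.map
        (GrpCat.ofHom (QuotientGroup.mk' A'))).hom x = 1 := hx
    have hcl : x ∈ closure (ProfiniteGrp.ProfiniteCompletion.etaFn (GrpCat.of A) ''
        Set.range (GrpCat.ofHom A'.subtype).hom) := by
      apply Groth.Agent.Lib.Helper68.mem_closure_etaFn_image
      intro m
      have hfin : (m.toSubgroup.map (QuotientGroup.mk' A')).FiniteIndex := by
        have := m.isFiniteIndex'
        refine ⟨fun h0 => ?_⟩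
        have hdvd := Subgroup.index_map_dvd m.toSubgroup (QuotientGroup.mk'_surjective A')
        rw [h0, zero_dvd_iff] at hdvd
        exact Subgroup.FiniteIndex.index_ne_zero hdvd
      let Hbar : FiniteIndexNormalSubgroup (GrpCat.of (A ⧸ A')) :=
        { toSubgroup := m.toSubgroup.map (QuotientGroup.mk' A')
          isNormal' := inferInstance
          isFiniteIndex' := hfin }
      let V : Set (ProfiniteGrp.ProfiniteCompletion.completion (GrpCat.of A)) :=
        {y | ((ProfiniteGrp.profiniteCompletion.map
          (GrpCat.ofHom (QuotientGroup.mk' A'))).hom y).1 Hbar = 1}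
      have hV : IsOpen V :=
        (Groth.Agent.Lib.Helper68.isOpen_component_eq _ Hbar 1).preimage
          (ProfiniteGrp.profiniteCompletion.map
            (GrpCat.ofHom (QuotientGroup.mk' A'))).hom.continuous_toFun
      have hxV : x ∈ V := by
        show ((ProfiniteGrp.profiniteCompletion.map
          (GrpCat.ofHom (QuotientGroup.mk' A'))).hom x).1 Hbar = 1
        rw [hx']
        rfl
      obtain ⟨a, haV, ha⟩ := Groth.Agent.Lib.Helper68.exists_etaFn_mem _ x V hV hxV m
      have haV' : ((ProfiniteGrp.profiniteCompletion.map
          (GrpCat.ofHom (QuotientGroup.mk' A'))).hom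
            (ProfiniteGrp.ProfiniteCompletion.etaFn (GrpCat.of A) a)).1 Hbar = 1 := haV
      rw [Groth.Agent.Lib.Helper68.map_etaFn] at haV'
      have h1 : (QuotientGroup.mk (QuotientGroup.mk' A' a) :
          (A ⧸ A') ⧸ (m.toSubgroup.map (QuotientGroup.mk' A'))) = 1 := haV'
      rw [QuotientGroup.eq_one_iff] at h1
      obtain ⟨h, hh, hha⟩ := h1
      have ha' : h⁻¹ * a ∈ A' := QuotientGroup.eq.mp hha
      refine ⟨h⁻¹ * a, ⟨⟨h⁻¹ * a, ha'⟩, rfl⟩, ?_⟩
      rw [← ha]
      show (QuotientGroup.mk (h⁻¹ * a) : A ⧸ m.toSubgroup) = QuotientGroup.mk a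
      rw [QuotientGroup.eq]
      have : (h⁻¹ * a)⁻¹ * a = h := by
        rw [mul_inv_rev, inv_inv, mul_comm a⁻¹ h, mul_assoc, inv_mul_cancel, mul_one]
      rw [this]
      exact hh
    exact Groth.Agent.Lib.Helper68.closure_etaFn_range_subset (GrpCat.ofHom A'.subtype) hcl
  · -- the image is contained in the kernel
    rintro _ ⟨y, rfl⟩
    show (ProfiniteGrp.profiniteCompletion.map (GrpCat.ofHom (QuotientGroup.mk' A'))).hom
      ((ProfiniteGrp.profiniteCompletion.map (GrpCat.ofHom A'.subtype)).hom y) = 1
    exact Groth.Agent.Lib.Helper68.hom_eq_one_of_etaFn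
      (CategoryTheory.CategoryStruct.comp
        (ProfiniteGrp.profiniteCompletion.map (GrpCat.ofHom A'.subtype))
        (ProfiniteGrp.profiniteCompletion.map (GrpCat.ofHom (QuotientGroup.mk' A')))) (fun a' => by
        show (ProfiniteGrp.profiniteCompletion.map (GrpCat.ofHom (QuotientGroup.mk' A'))).hom
          ((ProfiniteGrp.profiniteCompletion.map (GrpCat.ofHom A'.subtype)).hom
            (ProfiniteGrp.ProfiniteCompletion.etaFn _ a')) = 1
        rw [Groth.Agent.Lib.Helper68.map_etaFn, Groth.Agent.Lib.Helper68.map_etaFn]
        have : (GrpCat.ofHom (QuotientGroup.mk' A')).hom ((GrpCat.ofHom A'.subtype).hom a') = 1 :=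
          (QuotientGroup.eq_one_iff _).mpr a'.2
        rw [this]
        rfl) y

end Groth.Agent.S13379
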