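import Groth.Statements.S13398
import Groth.Agent.Lib.Helper16.NormLaw.Main

set_option autoImplicit false
universe u
open scoped TensorProduct
open ZeroCyc

namespace Groth.Agent.S13398

/-- Let A be a commutative ring, B an A-algebra, d ≥ 0, and let (C, γ) be the degree-d divided power
algebra Γ^d_A(B) with its universal multiplicative law γ : B → C of degree d (every multiplicative
law of degree d out of B factors uniquely through γ). Let φ : Γ^d_A(B) → TS^d_A(B) be the canonical
homomorphism to the symmetric tensors, taken here as data characterised by: after any base change S,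
φ ∘ γ sends Σ_j s_j ⊗ b_j to Σ_{c : [d] → [n]} (∏_i s_{c(i)}) ⊗ (b_{c(1)} ⊗ ⋯ ⊗ b_{c(d)}), i.e. φ
corresponds to the law x ↦ x ⊗ ⋯ ⊗ x. Then x^{d!} = 0 for every x in the kernel of φ, and y^{d!}
lies in the image of φ for every symmetric tensor y ∈ TS^d_A(B). -/
theorem result {A B C : Type u} [CommRing A] [CommRing B] [Algebra A B] [CommRing C] [Algebra A C] (d : ℕ)
    (γ : PolLaw.MulLaw A B C d) (hγ : PolLaw.IsGammaD γ) (φ : C →ₐ[A] SymTen.TS A B d)
    (hφ : ∀ (S : Type u) [CommSemiring S] [Algebra A S] (n : ℕ) (s : Fin n → S) (b : Fin n → B),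
      ((SymTen.TS A B d).val.comp φ).toLinearMap.lTensor S (γ.law.toFun' S (∑ j, s j ⊗ₜ[A] b j)) =
        ∑ c : Fin d → Fin n, (∏ i, s (c i)) ⊗ₜ[A] PiTensorProduct.tprod A (fun i => b (c i))) :
    (∀ x : C, φ x = 0 → x ^ d.factorial = 0) ∧
      (∀ y : SymTen.TS A B d, y ^ d.factorial ∈ φ.range) := by
  have hlaw := Groth.Agent.Lib.Helper16.NormLaw.postcomp_eq_tpowLaw_of_forall γ φ hφ
  have h1 := Groth.Agent.Lib.Helper16.NormLaw.postcomp_normTS γ φ hlaw
  have h2 := Groth.Agent.Lib.Helper16.NormLaw.precomp_normTS γ φ hlaw hγ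
  set F := Groth.Agent.Lib.Helper16.NormLaw.normTS γ with hF
  have hpow : ∀ (R : Type u) [CommRing R] [Algebra A R] (x : R),
      ((1 : A) ⊗ₜ[A] x : A ⊗[A] R) ^ d.factorial = (1 : A) ⊗ₜ[A] (x ^ d.factorial) := by
    intro R _ _ x
    rw [Algebra.TensorProduct.tmul_pow, one_pow]
  have hlid : ∀ w : A ⊗[A] C, φ (TensorProduct.lid A C w) =
      TensorProduct.lid A _ (φ.toLinearMap.lTensor A w) := by
    intro w
    induction w using TensorProduct.induction_on with
    | zero => simp
    | tmul a c =>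
      rw [LinearMap.lTensor_tmul, TensorProduct.lid_tmul, TensorProduct.lid_tmul, map_smul]
      rfl
    | add x y hx hy => simp only [map_add, hx, hy]
  constructor
  · intro x hx
    have h3 := congrArg (fun G : PolLaw.MulLaw A C C d.factorial =>
      G.law.toFun' A ((1 : A) ⊗ₜ[A] x)) h2
    beta_reduce at h3
    have h4 : (PolLaw.MulLaw.precomp F φ).law.toFun' A ((1 : A) ⊗ₜ[A] x) =
        F.law.toFun' A ((1 : A) ⊗ₜ[A] φ x) := rfl
    have h5 : (PolLaw.MulLaw.pow A C d.factorial).law.toFun' A ((1 : A) ⊗ₜ[A] x) =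
        ((1 : A) ⊗ₜ[A] x) ^ d.factorial := rfl
    rw [h4, h5, hx, TensorProduct.tmul_zero, hpow] at h3
    have h6 : F.law.toFun' A (0 : A ⊗[A] SymTen.TS A B d) = 0 := by
      have := F.homog A (0 : A) (0 : A ⊗[A] SymTen.TS A B d)
      rw [zero_smul, zero_pow (Nat.factorial_ne_zero d), zero_smul] at this
      exact this
    rw [h6] at h3
    have h7 := congrArg (TensorProduct.lid A C) h3
    rw [TensorProduct.lid_tmul, one_smul, map_zero] at h7
    exact h7.symm
  · intro y
    have h3 := congrArg (fun G : PolLaw.MulLaw A (SymTen.TS A B d) (SymTen.TS A B d) d.factorial =>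
      G.law.toFun' A ((1 : A) ⊗ₜ[A] y)) h1
    beta_reduce at h3
    have h4 : (PolLaw.MulLaw.postcomp φ F).law.toFun' A ((1 : A) ⊗ₜ[A] y) =
        φ.toLinearMap.lTensor A (F.law.toFun' A ((1 : A) ⊗ₜ[A] y)) := rfl
    have h5 : (PolLaw.MulLaw.pow A (SymTen.TS A B d) d.factorial).law.toFun' A
        ((1 : A) ⊗ₜ[A] y) = ((1 : A) ⊗ₜ[A] y) ^ d.factorial := rfl
    rw [h4, h5, hpow] at h3
    refine ⟨TensorProduct.lid A C (F.law.toFun' A ((1 : A) ⊗ₜ[A] y)), ?_⟩
    show φ (TensorProduct.lid A C (F.law.toFun' A ((1 : A) ⊗ₜ[A] y))) = y ^ d.factorial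
    rw [hlid, h3, TensorProduct.lid_tmul, one_smul]

end Groth.Agent.S13398
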