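import Groth.Statements.S1340
import Mathlib

set_option autoImplicit false
universe u
open FlatMor

namespace Groth.Agent.S1340

section Helpers
open AlgebraicGeometry CategoryTheory Limits TopologicalSpace

/-- For universally closed `f`, `f.app V` is integral for affine `V`. -/
lemma isIntegral_app_of_universallyClosed {X S : Scheme.{u}} (f : X ⟶ S) [UniversallyClosed f]
    (V : S.Opens) (hV : IsAffineOpen V) : (f.app V).hom.IsIntegral := by
  have : IsAffine V := hV
  have h := isIntegral_appTop_of_universallyClosed (f ∣_ V)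
  rw [Scheme.Hom.appTop, morphismRestrict_app'] at h
  rw [Scheme.Hom.app_eq_appLE]
  refine (f.appLE_congr _ ?_ ?_ (fun φ => φ.hom.IsIntegral)).mp h
  · simp
  · simp


lemma isIso_app_preimage {X S : Scheme.{u}} (f : X ⟶ S) [UniversallyClosed f] [QuasiSeparated f]
    (V : S.affineOpens) :
    IsIso (f.toNormalization.app (f.fromNormalization ⁻¹ᵁ V.1)) := by
  rw [f.toNormalization_app_preimage V]
  let := (f.app V.1).hom.toAlgebra
  have : integralClosure Γ(S, V.1) Γ(X, f ⁻¹ᵁ V.1) = ⊤ := by
    rw [integralClosure_eq_top_iff, ← algebraMap_isIntegral_iff, RingHom.algebraMap_toAlgebra]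
    exact isIntegral_app_of_universallyClosed f V.1 V.2
  have h2 : IsIso (CommRingCat.ofHom
      (integralClosure Γ(S, V.1) Γ(X, f ⁻¹ᵁ V.1)).val.toRingHom) := by
    rw [this]
    exact inferInstanceAs (IsIso (Subalgebra.topEquiv
      (R := Γ(S, V.1)) (A := ↑Γ(X, f ⁻¹ᵁ V.1))).toCommRingCatIso.hom)
  have h3 : IsIso (X.presheaf.map (eqToHom (show f.toNormalization ⁻¹ᵁ f.fromNormalization ⁻¹ᵁ V.1 =
      f ⁻¹ᵁ V.1 by simp [← Scheme.Hom.comp_preimage])).op) := inferInstance
  exact IsIso.comp_isIso' inferInstance (IsIso.comp_isIso' h2 h3)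


lemma bijective_of_isLocalization_away_of_ringEquiv {A B A' B' : Type*} [CommRing A] [CommRing B]
    [CommRing A'] [CommRing B'] (e : A ≃+* B) (a : A) [Algebra A A'] [IsLocalization.Away a A']
    [Algebra B B'] [IsLocalization.Away (e a) B'] (ψ : A' →+* B')
    (hψ : ψ.comp (algebraMap A A') = (algebraMap B B').comp e.toRingHom) :
    Function.Bijective ψ := by
  have hM : (Submonoid.powers a).map e.toMonoidHom = Submonoid.powers (e a) := by
    rw [Submonoid.map_powers]; rfl
  let E : A' ≃+* B' := IsLocalization.ringEquivOfRingEquiv (M := Submonoid.powers a)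
    (T := Submonoid.powers (e a)) A' B' e hM
  have : ψ = E.toRingHom := by
    apply IsLocalization.ringHom_ext (Submonoid.powers a)
    rw [hψ]
    ext x
    simp [E]
  rw [this]
  exact E.bijective

/-- General statement: if `g.app W` is an isomorphism with `W` affine and `g ⁻¹ᵁ W` qcqs, then
`g.app (basicOpen a)` is an isomorphism for every section `a` over `W`. -/
lemma isIso_app_basicOpen {X Y : Scheme.{u}} (g : X ⟶ Y) (W : Y.Opens) (hW : IsAffineOpen W)
    (hc : IsCompact (g ⁻¹ᵁ W : Set X)) (hqs : IsQuasiSeparated (g ⁻¹ᵁ W : Set X))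
    [IsIso (g.app W)] (a : Γ(Y, W)) : IsIso (g.app (Y.basicOpen a)) := by
  let b : Γ(X, g ⁻¹ᵁ W) := g.app W a
  have hpre : g ⁻¹ᵁ (Y.basicOpen a) = X.basicOpen b := Scheme.preimage_basicOpen g a
  have hlocA : IsLocalization.Away a Γ(Y, Y.basicOpen a) := hW.isLocalization_basicOpen a
  have hlocB : IsLocalization.Away b Γ(X, X.basicOpen b) :=
    isLocalization_basicOpen_of_qcqs hc hqs b
  let e : Γ(Y, W) ≃+* Γ(X, g ⁻¹ᵁ W) := (asIso (g.app W)).commRingCatIsoToRingEquiv
  have he : e a = b := rfl
  let ψ : Γ(Y, Y.basicOpen a) ⟶ Γ(X, X.basicOpen b) :=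
    g.app (Y.basicOpen a) ≫ X.presheaf.map (eqToHom hpre.symm).op
  have hψbij : Function.Bijective ψ.hom := by
    have : IsLocalization.Away (e a) Γ(X, X.basicOpen b) := he ▸ hlocB
    refine bijective_of_isLocalization_away_of_ringEquiv e a ψ.hom ?_
    simp only [RingHom.algebraMap_toAlgebra, ψ, e]
    rw [← CommRingCat.hom_comp]
    have h1 : (asIso (g.app W)).commRingCatIsoToRingEquiv.toRingHom = (g.app W).hom := rfl
    rw [h1, ← CommRingCat.hom_comp, g.naturality_assoc, ← Functor.map_comp]
    rfl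
  have hψ : IsIso ψ := (ConcreteCategory.isIso_iff_bijective ψ).mpr hψbij
  have h3 : IsIso (X.presheaf.map (eqToHom hpre.symm).op) := inferInstance
  exact IsIso.of_isIso_comp_right (g.app (Y.basicOpen a)) (X.presheaf.map (eqToHom hpre.symm).op)

/-- If `g.app` is an isomorphism on a basis, it is an isomorphism on all opens. -/
lemma isIso_app_of_isBasis {X Y : Scheme.{u}} (g : X ⟶ Y) {ι : Type*} (B : ι → Y.Opens)
    (hB : Opens.IsBasis (Set.range B)) (h : ∀ i, IsIso (g.app (B i))) (U : Y.Opens) :
    IsIso (g.app U) := by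
  let G : TopCat.Sheaf CommRingCat Y := (TopCat.Sheaf.pushforward CommRingCat g.base).obj X.sheaf
  let φ : Y.sheaf ⟶ G := ⟨g.c⟩
  have hφ : IsIso φ := TopCat.Sheaf.isIso_iff_isIso_basis (B := B) hB (φ := φ) (fun i => h i)
  have h2 : IsIso φ.hom := by
    refine ⟨(inv φ).hom, ?_, ?_⟩
    · have := congr(($(IsIso.hom_inv_id φ)).hom)
      exact this
    · have := congr(($(IsIso.inv_hom_id φ)).hom)
      exact this
  exact NatIso.isIso_app_of_isIso φ.hom (Opposite.op U)

end Helpers

open AlgebraicGeometry CategoryTheory Limits in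
/-- Stein factorization, universally closed case: let f : X ⟶ S be universally closed and
quasi-separated, and let X ⟶ X' ⟶ S be its factorization through the normalization X' of S in X.
Then the canonical morphism X ⟶ X' identifies the structure sheaf of X' with the pushforward of the
structure sheaf of X: for every open U of X' the induced map from O_{X'}(U) to the sections of O_X
over the inverse image of U is an isomorphism. (That X ⟶ X' is surjective and universally closed and
that X' ⟶ S is integral are separate facts not restated here.) -/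
theorem result {X S : Scheme.{u}} (f : X ⟶ S) [UniversallyClosed f] [QuasiSeparated f]
    (U : f.normalization.Opens) : IsIso (f.toNormalization.app U) := by
  have : QuasiCompact f := inferInstance
  let g := f.toNormalization
  let π := f.fromNormalization
  let B : (Σ V : S.affineOpens, Γ(f.normalization, π ⁻¹ᵁ V.1)) → f.normalization.Opens :=
    fun i => f.normalization.basicOpen i.2
  have hB : TopologicalSpace.Opens.IsBasis (Set.range B) := by
    rw [TopologicalSpace.Opens.isBasis_iff_nbhd]
    intro U x hxU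
    obtain ⟨_, ⟨V, hV, rfl⟩, hxV, -⟩ :=
      S.isBasis_affineOpens.exists_subset_of_mem_open (Set.mem_univ (π x)) isOpen_univ
    have hW : IsAffineOpen (π ⁻¹ᵁ V) := hV.preimage π
    obtain ⟨a, ha, hxa⟩ := hW.exists_basicOpen_le (V := U) ⟨x, hxU⟩ hxV
    exact ⟨_, ⟨⟨⟨V, hV⟩, a⟩, rfl⟩, hxa, ha⟩
  refine isIso_app_of_isBasis g B hB (fun i => ?_) U
  obtain ⟨V, a⟩ := i
  have hW : IsAffineOpen (π ⁻¹ᵁ V.1) := V.2.preimage π
  have hpre : g ⁻¹ᵁ π ⁻¹ᵁ V.1 = f ⁻¹ᵁ V.1 := by
    rw [← Scheme.Hom.comp_preimage, Scheme.Hom.toNormalization_fromNormalization]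
  have hc : IsCompact (g ⁻¹ᵁ π ⁻¹ᵁ V.1 : Set X) := by
    rw [hpre]
    exact f.isCompact_preimage V.2.isCompact
  have hqs : IsQuasiSeparated (g ⁻¹ᵁ π ⁻¹ᵁ V.1 : Set X) := by
    rw [hpre]
    exact f.isQuasiSeparated_preimage V.2.isQuasiSeparated
  have := isIso_app_preimage f V
  exact isIso_app_basicOpen g (π ⁻¹ᵁ V.1) hW hc hqs a

end Groth.Agent.S1340
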