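import Groth.Statements.S13400
import Groth.Agent.Lib.Helper25.PolLawSplit

set_option autoImplicit false
universe u
open scoped TensorProduct
open ZeroCyc

namespace Groth.Agent.S13400

/-- Let A be a commutative ring and B a finite étale A-algebra, free of rank d as an A-module, so that X
= Spec B is finite étale of constant rank d over S = Spec A, and let N : B → A be the determinant
law: the multiplicative polynomial law of degree d which on each A-algebra S is the norm of the free
S-algebra S ⊗_A B (N is taken as data characterised by this formula; it is the canonical family N_X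
: S → Γ^d(X/S)). Then the kernel of N is the zero ideal, i.e. the image of N_X is X itself, and N is
the unique multiplicative law B → A of degree d whose kernel consists of nilpotent elements, i.e.
whose support is all of X_red. (The published statement is over an arbitrary algebraic space S with
X/S finite étale of locally constant rank, phrased with morphisms to Γ^?(X/S); this row is its
content over an affine base with X free of rank d.) -/
theorem result {A B : Type u} [CommRing A] [CommRing B] [Algebra A B]
    [Module.Free A B] [Module.Finite A B] [Algebra.Etale A B] (d : ℕ) (hd : Module.finrank A B = d)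
    (N : PolLaw.MulLaw A B A d)
    (hN : ∀ (S : Type u) [CommRing S] [Algebra A S] (x : S ⊗[A] B),
      N.law.toFun' S x = Algebra.norm S x ⊗ₜ[A] (1 : A)) :
    PolLaw.ker N.law = ⊥ ∧
      ∀ F : PolLaw.MulLaw A B A d, PolLaw.ker F.law ≤ nilradical B → F = N := by
  classical
  open Groth.Agent.Lib.Helper25.PolLawCoeff in
  rcases subsingleton_or_nontrivial A with hsub | hnt
  · -- trivial base ring
    have hB : Subsingleton B := Module.subsingleton A B
    refine ⟨?_, fun F _ => ?_⟩
    · rw [eq_bot_iff]
      intro x _
      exact Subsingleton.elim _ _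
    · apply PolLaw.MulLaw.ext
      refine PolynomialLaw.ext ?_
      funext S _ _ x
      have : Subsingleton (S ⊗[A] A) := Module.subsingleton A _
      exact Subsingleton.elim _ _
  -- a splitting algebra
  have hrank : Module.rankAtStalk (R := A) B = d := by
    rw [Module.rankAtStalk_eq_finrank_of_free, hd]
  obtain ⟨T, _, _, hff, _, _, hsplit⟩ :=
    Algebra.IsFiniteSplit.exists_tensorProduct_of_etale hrank
  obtain ⟨m, ⟨e⟩⟩ := hsplit.nonempty_algEquiv_fun
  have hTnt : Nontrivial T :=
    (FaithfulSMul.algebraMap_injective A T).nontrivial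
  have hmd : m = d := by
    have h1 : Module.finrank T (T ⊗[A] B) = Module.finrank A B := Module.finrank_baseChange
    have h2 : Module.finrank T (Fin m → T) = m := Module.finrank_fin_fun T
    rw [← hd, ← h1, LinearEquiv.finrank_eq e.toLinearEquiv, h2]
  -- the kernel of the norm law vanishes
  have hkerN : PolLaw.ker N.law = ⊥ := by
    rw [eq_bot_iff]
    intro b hb
    rw [Ideal.mem_bot]
    have h0 : (1 : T) ⊗ₜ[A] b = 0 := by
      apply e.injective
      rw [map_zero]
      funext i
      rw [Pi.zero_apply]
      set ε := splitIdem e (ULift.up i) with hε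
      have h1 := hb T (1 - ε) ε
      rw [hN T, hN T] at h1
      have h2 := congrArg (TensorProduct.rid A T) h1
      rw [TensorProduct.rid_tmul, TensorProduct.rid_tmul, one_smul, one_smul, norm_split e,
        norm_split e] at h2
      have hεe : e ε = Pi.single i 1 := splitIdem_apply e (ULift.up i)
      have h3 : ∏ k, e (1 - ε) k = 0 := by
        refine Finset.prod_eq_zero (Finset.mem_univ i) ?_
        rw [map_sub, map_one, hεe, Pi.sub_apply, Pi.one_apply, Pi.single_eq_same, sub_self]
      have h4 : ∏ k, e (1 - ε + ε * (1 ⊗ₜ[A] b)) k = e (1 ⊗ₜ[A] b) i := by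
        rw [Finset.prod_eq_single i]
        · rw [map_add, map_mul, map_sub, map_one, hεe, Pi.add_apply, Pi.sub_apply, Pi.mul_apply,
            Pi.one_apply, Pi.single_eq_same, sub_self, zero_add, one_mul]
        · intro k _ hki
          rw [map_add, map_mul, map_sub, map_one, hεe, Pi.add_apply, Pi.sub_apply, Pi.mul_apply,
            Pi.one_apply, Pi.single_eq_of_ne hki, sub_zero, zero_mul, add_zero]
        · intro h; exact absurd (Finset.mem_univ i) h
      rw [h3, h4] at h2
      exact h2
    have hinj := Module.FaithfullyFlat.tensorProduct_mk_injective (A := A) (B := T) B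
    apply hinj
    rw [map_zero]
    exact h0
  refine ⟨hkerN, fun F hkerF => ?_⟩
  -- the two base changed laws coincide
  have hnil : (nilradical (T ⊗[A] B)).IsRadical := Ideal.radical_isRadical ⊥
  have hkF : PolLaw.ker (bcMulLaw T F).law ≤ nilradical (T ⊗[A] B) := by
    have h1 : PolLaw.ker (bcMulLaw T F).law = PolLaw.kerBC F.law T := ker_bcLaw T F.law
    rw [h1]
    refine le_trans Ideal.le_radical ?_
    rw [Groth.Agent.S13697.result F T, hnil.radical_le_iff, Ideal.map_le_iff_le_comap]
    intro b hb
    rw [Ideal.mem_comap, mem_nilradical]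
    exact (mem_nilradical.1 (hkerF hb)).map _
  have hkN : PolLaw.ker (bcMulLaw T N).law ≤ nilradical (T ⊗[A] B) := by
    have h1 : PolLaw.ker (bcMulLaw T N).law = PolLaw.kerBC N.law T := ker_bcLaw T N.law
    rw [h1]
    refine le_trans Ideal.le_radical ?_
    rw [Groth.Agent.S13697.result N T, hkerN, Ideal.map_bot]
    exact le_rfl
  have hcard : Fintype.card (ULift.{u} (Fin m)) = d := by
    rw [Fintype.card_ulift, Fintype.card_fin, hmd]
  have hlaw : (bcMulLaw T F).law = (bcMulLaw T N).law :=
    law_eq_of_ker_le_nilradical (bcMulLaw T F) (bcMulLaw T N) (splitIdem e)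
      (splitIdem_orth e) (splitIdem_idem e) (splitIdem_sum e) (splitIdem_span e)
      (splitIdem_faith e) hcard hkF hkN
  -- descend
  apply PolLaw.MulLaw.ext
  refine PolynomialLaw.ext ?_
  funext S _ _ x
  obtain ⟨n, ψ, p, _, rfl, _⟩ := exists_lift₂ x x
  rw [← PolynomialLaw.isCompat_apply', ← PolynomialLaw.isCompat_apply']
  congr 1
  let S₀ := MvPolynomial (Fin n) A
  let R := T ⊗[A] S₀
  let jS : S₀ →ₐ[A] R := Algebra.TensorProduct.includeRight
  have hinj : Function.Injective jS :=
    Module.FaithfullyFlat.tensorProduct_mk_injective (A := A) (B := T) S₀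
  set z : R ⊗[T] (T ⊗[A] B) := (Algebra.TensorProduct.cancelBaseChange A T R R B).symm
    (Algebra.TensorProduct.map jS (AlgHom.id A B) p) with hz
  have h1 : (bcMulLaw T F).law.toFun' R z = (bcMulLaw T N).law.toFun' R z := by rw [hlaw]
  have h2 : (bcMulLaw T F).law.toFun' R z = (bcLaw T F.law).toFun' R z := rfl
  have h3 : (bcMulLaw T N).law.toFun' R z = (bcLaw T N.law).toFun' R z := rfl
  rw [h2, h3, bcLaw_toFun', bcLaw_toFun', hz, AlgEquiv.apply_symm_apply] at h1
  have h4 := (Algebra.TensorProduct.rid A R R).injective
    ((Algebra.TensorProduct.rid T R R).symm.injective h1)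
  rw [law_compat_map', law_compat_map'] at h4
  have h5 := congrArg (Algebra.TensorProduct.rid A R R) h4
  rw [algRid_map, algRid_map] at h5
  exact (Algebra.TensorProduct.rid A S₀ S₀).injective (hinj h5)

end Groth.Agent.S13400
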