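import Groth.Statements.S13405
import Groth.Agent.H40.PSeriesPres
import Groth.Agent.S7949

set_option autoImplicit false
universe u v
open Hopf

namespace Groth.Agent.S13405

/-- Let R be a complete discrete valuation ring whose residue field is perfect of characteristic p > 0,
and let G = Spec A be a connected finite flat group scheme over R: A is a commutative Hopf algebra
over R, finite and flat as an R-module, and a local ring. Then for some n there are natural numbers
e_1, ..., e_n and power series f_1, ..., f_n in R[[x_1, ..., x_n]] such that A is isomorphic as an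
R-algebra to R[[x_1, ..., x_n]]/(f_1, ..., f_n) and each f_i is x_i ^ (p ^ e_i) plus a polynomial
all of whose coefficients lie in the maximal ideal of R and whose degree in x_i is less than p ^
e_i. -/
theorem result (R : Type u) [CommRing R] [IsDomain R]
    [IsDiscreteValuationRing R] [IsAdicComplete (IsLocalRing.maximalIdeal R) R]
    (p : ℕ) [Fact p.Prime] [CharP (IsLocalRing.ResidueField R) p] [PerfectField (IsLocalRing.ResidueField R)]
    (A : Type v) [CommRing A] [HopfAlgebra R A] [Module.Finite R A] [Module.Flat R A] [IsLocalRing A] :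
    ∃ (n : ℕ) (e : Fin n → ℕ) (g : Fin n → MvPolynomial (Fin n) R),
      (∀ i, (∀ d, (g i).coeff d ∈ IsLocalRing.maximalIdeal R) ∧ (g i).degreeOf i < p ^ e i) ∧
      Nonempty (A ≃ₐ[R] (MvPowerSeries (Fin n) R ⧸
        Ideal.span (Set.range fun i => (MvPowerSeries.X i : MvPowerSeries (Fin n) R) ^ p ^ e i + ↑(g i)))) := by
  classical
  have : Nontrivial (TensorProduct R (IsLocalRing.ResidueField R) A) :=
    (Bialgebra.counitAlgHom (IsLocalRing.ResidueField R)
      (TensorProduct R (IsLocalRing.ResidueField R) A)).toRingHom.domain_nontrivial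
  have hsurj : Function.Surjective (Algebra.TensorProduct.includeRight :
      A →ₐ[R] TensorProduct R (IsLocalRing.ResidueField R) A) :=
    TensorProduct.mk_surjective R A (IsLocalRing.ResidueField R) IsLocalRing.residue_surjective
  have : IsLocalRing (TensorProduct R (IsLocalRing.ResidueField R) A) :=
    IsLocalRing.of_surjective' (Algebra.TensorProduct.includeRight :
      A →ₐ[R] TensorProduct R (IsLocalRing.ResidueField R) A).toRingHom hsurj
  obtain ⟨r, e, -, ⟨θ⟩⟩ := Groth.Agent.S7949.result (IsLocalRing.ResidueField R)
    (TensorProduct R (IsLocalRing.ResidueField R) A) p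
  obtain ⟨g, hg, ⟨φ⟩⟩ := Groth.Agent.H40.PSeriesBox.exists_pres (R := R) (A := A)
    (fun i : Fin r => p ^ e i) (fun i => pow_pos (Fact.out : p.Prime).pos _) θ
  exact ⟨r, e, g, hg, ⟨φ⟩⟩

end Groth.Agent.S13405
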