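import Groth.Statements.S13407
import Groth.Agent.Lib.Helper68.HopfIdealBC

set_option autoImplicit false
universe u
open TensorProduct
open Hopf

namespace Groth.Agent.S13407

/-- Let R be a Dedekind domain with fraction field K and let G = Spec A be a finite flat group scheme
over R (A a commutative Hopf algebra over R, finite and flat as an R-module). Closed flat R-subgroup
schemes of G correspond one-to-one to closed K-subgroup schemes of the generic fibre G_K under H ↦
H_K: the map sending a Hopf ideal J' of A with A/J' flat over R to the ideal it generates in K ⊗_R A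
is a bijection onto the set of Hopf ideals of the Hopf algebra K ⊗_R A over K (its inverse takes a
Hopf ideal of K ⊗_R A to its preimage in A). -/
theorem result (R : Type u) [CommRing R] [IsDedekindDomain R]
    (K : Type u) [Field K] [Algebra R K] [IsFractionRing R K]
    (A : Type u) [CommRing A] [HopfAlgebra R A] [Module.Finite R A] [Module.Flat R A] :
    Set.BijOn (fun J' : Ideal A => Ideal.map (Algebra.TensorProduct.includeRight : A →ₐ[R] K ⊗[R] A) J')
      {J' : Ideal A | J'.IsHopfIdeal R ∧ Module.Flat R (A ⧸ J')}
      {J : Ideal (K ⊗[R] A) | J.IsHopfIdeal K} := by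
  open Groth.Agent.Lib.Helper68.HopfIdealBC in
  refine ⟨?_, ?_, ?_⟩
  · rintro J' ⟨hJ', _⟩
    exact isHopfIdeal_map_incl R K A hJ'
  · rintro J₁ ⟨_, hf₁⟩ J₂ ⟨_, hf₂⟩ h
    have h' : Ideal.map (incl R K A) J₁ = Ideal.map (incl R K A) J₂ := h
    rw [← comap_map_incl_of_flat R K A (IsFractionRing.injective R K) J₁,
      ← comap_map_incl_of_flat R K A (IsFractionRing.injective R K) J₂, h']
  · intro J hJ
    refine ⟨J.comap (incl R K A), ⟨isHopfIdeal_comap_incl R K A hJ, flat_quot_comap R K A⟩, ?_⟩
    exact map_comap_incl R K A J

end Groth.Agent.S13407
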