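import Groth.Statements.S13409
import Groth.Agent.Lib.Helper68.GraphLabel

set_option autoImplicit false
universe u v
open CombGraph

namespace Groth.Agent.S13409

/-- Let `A` be an abelian group and `G` a finite connected simple graph on `V` that is bipartite for a
two-colouring `c : V → Bool` (adjacent vertices get different colours). If `a : V → A` has the same
sum over the vertices of each colour, then some labelling `x` of the edges by elements of `A` has,
at every vertex `v`, the sum of `x` over the edges incident to `v` equal to `a v`. (The published
statement concerns finite bipartite graphs in general; this row treats simple graphs.) -/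
theorem result {V : Type u} [Fintype V] [DecidableEq V]
    (G : SimpleGraph V) [DecidableRel G.Adj] (hconn : G.Connected) (c : V → Bool)
    (hbip : ∀ v w : V, G.Adj v w → c v ≠ c w) (A : Type v) [AddCommGroup A] (a : V → A)
    (hsum : ∑ v ∈ Finset.univ.filter (fun v => c v = true), a v =
      ∑ v ∈ Finset.univ.filter (fun v => c v = false), a v) :
    ∃ x : Sym2 V → A, ∀ v : V, ∑ e ∈ G.incidenceFinset v, x e = a v := by
  classical
  obtain ⟨r⟩ := hconn.nonempty
  -- a walk from every vertex to the root
  have hw : ∀ v : V, Nonempty (G.Walk v r) := fun v => hconn.preconnected v r
  let p : ∀ v : V, G.Walk v r := fun v => (hw v).some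
  refine ⟨∑ v ∈ Finset.univ.erase r, Groth.Agent.Lib.Helper68.walkLab (p v) (a v), fun z => ?_⟩
  simp only [Finset.sum_apply]
  rw [Finset.sum_comm]
  have hterm : ∀ v ∈ Finset.univ.erase r,
      ∑ e ∈ G.incidenceFinset z, Groth.Agent.Lib.Helper68.walkLab (p v) (a v) e =
        (if z = v then a v else 0) +
          (if z = r then (if c v = c r then -a v else a v) else 0) := fun v _ =>
    Groth.Agent.Lib.Helper68.sum_incidence_walkLab G le_rfl c hbip (p v) (a v) z
  rw [Finset.sum_congr rfl hterm, Finset.sum_add_distrib]
  -- the balance identity at the root
  have hbal : ∑ v ∈ Finset.univ.erase r, (if c v = c r then -a v else a v) = a r := by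
    have htot : ∑ v : V, (if c v = c r then -a v else a v) = 0 := by
      rw [← Finset.sum_filter_add_sum_filter_not Finset.univ (fun v => c v = true)]
      have hnot : Finset.univ.filter (fun v : V => ¬ c v = true) =
          Finset.univ.filter (fun v => c v = false) := by
        ext v
        simp
      rw [hnot]
      cases hcr : c r
      · have h1 : ∑ v ∈ Finset.univ.filter (fun v => c v = true),
            (if c v = false then -a v else a v) =
            ∑ v ∈ Finset.univ.filter (fun v => c v = true), a v := by
          apply Finset.sum_congr rfl
          intro v hv
          rw [Finset.mem_filter] at hv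
          rw [hv.2]
          simp
        have h2 : ∑ v ∈ Finset.univ.filter (fun v => c v = false),
            (if c v = false then -a v else a v) =
            -∑ v ∈ Finset.univ.filter (fun v => c v = false), a v := by
          rw [← Finset.sum_neg_distrib]
          apply Finset.sum_congr rfl
          intro v hv
          rw [Finset.mem_filter] at hv
          rw [hv.2]
          simp
        rw [h1, h2, hsum]
        abel
      · have h1 : ∑ v ∈ Finset.univ.filter (fun v => c v = true),
            (if c v = true then -a v else a v) =
            -∑ v ∈ Finset.univ.filter (fun v => c v = true), a v := by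
          rw [← Finset.sum_neg_distrib]
          apply Finset.sum_congr rfl
          intro v hv
          rw [Finset.mem_filter] at hv
          rw [hv.2]
          simp
        have h2 : ∑ v ∈ Finset.univ.filter (fun v => c v = false),
            (if c v = true then -a v else a v) =
            ∑ v ∈ Finset.univ.filter (fun v => c v = false), a v := by
          apply Finset.sum_congr rfl
          intro v hv
          rw [Finset.mem_filter] at hv
          rw [hv.2]
          simp
        rw [h1, h2, hsum]
        abel
    have hsplit := Finset.add_sum_erase Finset.univ
      (fun v => (if c v = c r then -a v else a v)) (Finset.mem_univ r)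
    rw [htot] at hsplit
    simp only [if_true] at hsplit
    -- -a r + S = 0
    have : ∑ v ∈ Finset.univ.erase r, (if c v = c r then -a v else a v) = - -a r :=
      eq_neg_of_add_eq_zero_right hsplit
    rw [this, neg_neg]
  by_cases hz : z = r
  · subst hz
    have h1 : ∑ v ∈ Finset.univ.erase z, (if z = v then a v else 0) = 0 := by
      apply Finset.sum_eq_zero
      intro v hv
      rw [if_neg]
      intro h
      exact (Finset.ne_of_mem_erase hv) h.symm
    rw [h1, zero_add]
    simp only [if_true]
    exact hbal
  · have h1 : ∑ v ∈ Finset.univ.erase r, (if z = v then a v else 0) = a z := by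
      rw [Finset.sum_ite_eq]
      rw [if_pos (Finset.mem_erase.mpr ⟨hz, Finset.mem_univ z⟩)]
    have h2 : ∑ v ∈ Finset.univ.erase r,
        (if z = r then (if c v = c r then -a v else a v) else 0) = 0 := by
      apply Finset.sum_eq_zero
      intro v _
      rw [if_neg hz]
    rw [h1, h2, add_zero]

end Groth.Agent.S13409
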