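import Groth.Statements.S13410
import Groth.Agent.Lib.Helper68.GraphLabel

set_option autoImplicit false
universe u v
open CombGraph

namespace Groth.Agent.S13410

/-- Let `A` be an abelian group and `G` a finite connected simple graph on `V`, bipartite for a
two-colouring `c`. Consider the additive group of labellings `x : Sym2 V → A` vanishing off the edge
set and with `∑_{e ∋ v} x e = 0` at every vertex `v`. If `e₀` is an edge whose deletion leaves `G`
connected, then evaluation at `e₀` restricted to this group is surjective and split: there is an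
additive map `φ : A → (Sym2 V → A)` with values in this group and with `φ a e₀ = a` for all `a`.
(The published statement concerns finite bipartite graphs in general; this row treats simple
graphs.) -/
theorem result {V : Type u} [Fintype V]
    [DecidableEq V] (G : SimpleGraph V) [DecidableRel G.Adj] (hconn : G.Connected) (c : V → Bool)
    (hbip : ∀ v w : V, G.Adj v w → c v ≠ c w) (A : Type v) [AddCommGroup A] (e₀ : Sym2 V)
    (he₀ : e₀ ∈ G.edgeSet) (hdel : (G.deleteEdges {e₀}).Connected) :
    ∃ φ : A →+ (Sym2 V → A),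
      (∀ a : A, (∀ e : Sym2 V, e ∉ G.edgeSet → φ a e = 0) ∧
        ∀ v : V, ∑ e ∈ G.incidenceFinset v, φ a e = 0) ∧
      ∀ a : A, φ a e₀ = a := by
  classical
  induction e₀ using Sym2.ind with
  | h u w =>
  have huw : G.Adj u w := (SimpleGraph.mem_edgeSet G).mp he₀
  have hH : G.deleteEdges {s(u, w)} ≤ G := SimpleGraph.deleteEdges_le _
  obtain ⟨p⟩ : Nonempty ((G.deleteEdges {s(u, w)}).Walk w u) := hdel.preconnected w u
  have hnot : s(u, w) ∉ (G.deleteEdges {s(u, w)}).edgeSet := by
    rw [SimpleGraph.edgeSet_deleteEdges]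
    intro h
    exact h.2 rfl
  refine ⟨AddMonoidHom.mk' (fun a => (Pi.single s(u, w) a : Sym2 V → A) +
      Groth.Agent.Lib.Helper68.walkLab p (-a)) (fun a b => ?_), fun a => ⟨fun e he => ?_, fun z => ?_⟩,
      fun a => ?_⟩
  · rw [Pi.single_add, neg_add, Groth.Agent.Lib.Helper68.walkLab_add]
    abel
  · show ((Pi.single s(u, w) a : Sym2 V → A) + Groth.Agent.Lib.Helper68.walkLab p (-a)) e = 0
    rw [Pi.add_apply, Groth.Agent.Lib.Helper68.walkLab_apply_of_not_mem p _ e
      (fun h => he (SimpleGraph.edgeSet_mono hH h)), add_zero, Pi.single_apply, if_neg]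
    rintro rfl
    exact he he₀
  · show ∑ e ∈ G.incidenceFinset z,
      ((Pi.single s(u, w) a : Sym2 V → A) + Groth.Agent.Lib.Helper68.walkLab p (-a)) e = 0
    simp only [Pi.add_apply, Finset.sum_add_distrib]
    rw [Groth.Agent.Lib.Helper68.sum_incidence_single G huw a z,
      Groth.Agent.Lib.Helper68.sum_incidence_walkLab G hH c hbip p (-a) z]
    have hc : c w ≠ c u := hbip _ _ huw.symm
    rw [if_neg hc]
    split_ifs <;> abel
  · show ((Pi.single s(u, w) a : Sym2 V → A) + Groth.Agent.Lib.Helper68.walkLab p (-a)) s(u, w) = a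
    rw [Pi.add_apply, Groth.Agent.Lib.Helper68.walkLab_apply_of_not_mem p _ _ hnot, add_zero,
      Pi.single_eq_same]

end Groth.Agent.S13410
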