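import Groth.Statements.S13411
import Groth.Agent.Lib.Helper68.GraphTree

set_option autoImplicit false
universe u v
open CombGraph

namespace Groth.Agent.S13411

/-- Let `A` be an abelian group and `G` a finite connected simple graph on `V`, bipartite for a
two-colouring `c`, with cyclomatic number `n` (number of edges minus number of vertices plus one).
Then the additive group of labellings `x : Sym2 V → A` vanishing off the edge set and with `∑_{e ∋
v} x e = 0` at every vertex `v` is isomorphic to `A^n`: it is the range of an injective additive map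
`(Fin n → A) → (Sym2 V → A)`. (The published statement concerns finite bipartite graphs in general;
this row treats simple graphs.) -/
theorem result {V : Type u} [Fintype V]
    [DecidableEq V] (G : SimpleGraph V) [DecidableRel G.Adj] (hconn : G.Connected) (c : V → Bool)
    (hbip : ∀ v w : V, G.Adj v w → c v ≠ c w) (A : Type v) [AddCommGroup A] (n : ℕ)
    (hn : G.edgeFinset.card + 1 = Fintype.card V + n) :
    ∃ f : (Fin n → A) →+ (Sym2 V → A), Function.Injective f ∧
      Set.range f = {x : Sym2 V → A | (∀ e : Sym2 V, e ∉ G.edgeSet → x e = 0) ∧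
        ∀ v : V, ∑ e ∈ G.incidenceFinset v, x e = 0} := by
  classical
  obtain ⟨T, hTG, hT⟩ := hconn.exists_isTree_le
  have hTcard : T.edgeFinset.card + 1 = Fintype.card V := hT.card_edgeFinset
  have hsub : T.edgeFinset ⊆ G.edgeFinset := SimpleGraph.edgeFinset_subset_edgeFinset.mpr hTG
  have hNcard : (G.edgeFinset \ T.edgeFinset).card = n := by
    rw [Finset.card_sdiff_of_subset hsub]
    omega
  let ε : Fin n ≃ ↥(G.edgeFinset \ T.edgeFinset) := (Finset.equivFinOfCardEq hNcard).symm
  have hεG : ∀ i, (ε i : Sym2 V) ∈ G.edgeSet := fun i => by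
    have := (ε i).2
    rw [Finset.mem_sdiff, SimpleGraph.mem_edgeFinset] at this
    exact this.1
  have hεT : ∀ i, (ε i : Sym2 V) ∉ T.edgeSet := fun i => by
    have := (ε i).2
    rw [Finset.mem_sdiff, SimpleGraph.mem_edgeFinset, SimpleGraph.mem_edgeFinset] at this
    exact this.2
  have hends : ∀ i, ∃ u w : V, s(u, w) = (ε i : Sym2 V) ∧ G.Adj u w := by
    intro i
    have h := hεG i
    revert h
    induction (ε i : Sym2 V) using Sym2.ind with
    | h a b => exact fun h => ⟨a, b, rfl, (SimpleGraph.mem_edgeSet G).mp h⟩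
  choose u w huw hadj using hends
  have hwalk : ∀ i, Nonempty (T.Walk (w i) (u i)) := fun i => hT.connected.preconnected _ _
  let q : ∀ i, T.Walk (w i) (u i) := fun i => (hwalk i).some
  let φ : Fin n → A → (Sym2 V → A) := fun i a =>
    (Pi.single (ε i : Sym2 V) a : Sym2 V → A) + Groth.Agent.Lib.Helper68.walkLab (q i) (-a)
  have hφadd : ∀ i a b, φ i (a + b) = φ i a + φ i b := by
    intro i a b
    simp only [φ]
    rw [Pi.single_add, neg_add, Groth.Agent.Lib.Helper68.walkLab_add]
    abel
  have hφoff : ∀ i a e, e ∉ G.edgeSet → φ i a e = 0 := by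
    intro i a e he
    simp only [φ]
    rw [Pi.add_apply, Groth.Agent.Lib.Helper68.walkLab_apply_of_not_mem (q i) _ e
      (fun h => he (SimpleGraph.edgeSet_mono hTG h)), add_zero, Pi.single_apply, if_neg]
    rintro rfl
    exact he (hεG i)
  have hφsum : ∀ i a v, ∑ e ∈ G.incidenceFinset v, φ i a e = 0 := by
    intro i a z
    simp only [φ, Pi.add_apply, Finset.sum_add_distrib]
    rw [← huw i, Groth.Agent.Lib.Helper68.sum_incidence_single G (hadj i) a z,
      Groth.Agent.Lib.Helper68.sum_incidence_walkLab G hTG c hbip (q i) (-a) z]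
    have hc : c (w i) ≠ c (u i) := hbip _ _ (hadj i).symm
    rw [if_neg hc]
    split_ifs <;> abel
  have hφeval : ∀ i j a, φ i a (ε j : Sym2 V) = if j = i then a else 0 := by
    intro i j a
    simp only [φ]
    rw [Pi.add_apply, Groth.Agent.Lib.Helper68.walkLab_apply_of_not_mem (q i) _ _ (hεT j),
      add_zero, Pi.single_apply]
    by_cases hji : j = i
    · rw [if_pos hji, if_pos (by rw [hji])]
    · rw [if_neg hji, if_neg]
      intro h
      exact hji (ε.injective (Subtype.ext h))
  let f : (Fin n → A) →+ (Sym2 V → A) := AddMonoidHom.mk' (fun a => ∑ i, φ i (a i)) (by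
    intro a b
    simp only [Pi.add_apply, hφadd, Finset.sum_add_distrib])
  have hfdef : ∀ a, f a = ∑ i, φ i (a i) := fun a => rfl
  have hfeval : ∀ a j, f a (ε j : Sym2 V) = a j := by
    intro a j
    rw [hfdef, Finset.sum_apply]
    simp only [hφeval]
    rw [Finset.sum_ite_eq, if_pos (Finset.mem_univ j)]
  have hfoff : ∀ a e, e ∉ G.edgeSet → f a e = 0 := by
    intro a e he
    rw [hfdef, Finset.sum_apply]
    exact Finset.sum_eq_zero fun i _ => hφoff i (a i) e he
  have hfsum : ∀ a v, ∑ e ∈ G.incidenceFinset v, f a e = 0 := by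
    intro a v
    simp only [hfdef, Finset.sum_apply]
    rw [Finset.sum_comm]
    exact Finset.sum_eq_zero fun i _ => hφsum i (a i) v
  refine ⟨f, ?_, ?_⟩
  · intro a b hab
    funext j
    rw [← hfeval a j, ← hfeval b j, hab]
  · ext x
    constructor
    · rintro ⟨a, rfl⟩
      exact ⟨hfoff a, hfsum a⟩
    · rintro ⟨hx1, hx2⟩
      refine ⟨fun j => x (ε j : Sym2 V), ?_⟩
      have hzero : x - f (fun j => x (ε j : Sym2 V)) = 0 := by
        apply Groth.Agent.Lib.Helper68.eq_zero_of_acyclic G T hTG hT.isAcyclic c hbip
        · intro e heT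
          rw [Pi.sub_apply]
          by_cases heG : e ∈ G.edgeSet
          · have hmem : e ∈ G.edgeFinset \ T.edgeFinset := by
              rw [Finset.mem_sdiff, SimpleGraph.mem_edgeFinset, SimpleGraph.mem_edgeFinset]
              exact ⟨heG, heT⟩
            have he : e = (ε (ε.symm ⟨e, hmem⟩) : Sym2 V) := by
              rw [Equiv.apply_symm_apply]
            rw [he, hfeval, sub_self]
          · rw [hx1 e heG, hfoff _ e heG, sub_zero]
        · intro v
          simp only [Pi.sub_apply, Finset.sum_sub_distrib]
          rw [hx2 v, hfsum, sub_zero]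
      exact (sub_eq_zero.mp hzero).symm

end Groth.Agent.S13411
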