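import Groth.Statements.S13418
-- import your own Groth.Agent.* helpers here

set_option autoImplicit false
universe u
open CategoryTheory AlgebraicGeometry
open NeronHD

namespace Groth.Agent.S13418

theorem pullback_map_left_fst {X Y : Scheme.{u}} (f : X ⟶ Y) {A B : Over Y} (k : A ⟶ B) :
    ((Over.pullback f).map k).left ≫ Limits.pullback.fst B.hom f =
      Limits.pullback.fst A.hom f ≫ k.left :=
  Limits.pullback.lift_fst _ _ _

theorem pullback_map_left_snd {X Y : Scheme.{u}} (f : X ⟶ Y) {A B : Over Y} (k : A ⟶ B) :
    ((Over.pullback f).map k).left ≫ Limits.pullback.snd B.hom f =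
      Limits.pullback.snd A.hom f :=
  Limits.pullback.lift_snd _ _ _

/-- Let S be a locally Noetherian scheme over a field of characteristic 0 and S₀ ⊆ S a
scheme-theoretically dense open. If N and M are smooth S-schemes having the Néron mapping property
for S₀ ⊆ S (for every smooth S-scheme Z, restriction to S₀ is a bijection from S-morphisms Z → N
onto S₀-morphisms Z|S₀ → N|S₀), then the fibre product N ×_S M has the Néron mapping property for S₀
⊆ S (its smoothness over S being automatic). (This row is the case of schemes, with smooth test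
schemes, of a statement about algebraic spaces.) -/
theorem result {k : Type u} [Field k] [CharZero k] {S : Scheme.{u}} (σ : S ⟶ Spec (CommRingCat.of k)) [IsLocallyNoetherian S] (S₀ : S.Opens) (hS₀ : CInt.IsSchematicallyDense S₀)
    (N M : Over S) [Smooth N.hom] [Smooth M.hom]
    (hN : ∀ Z : Over S, Smooth Z.hom → Function.Bijective (fun g : Z ⟶ N => (Over.pullback S₀.ι).map g))
    (hM : ∀ Z : Over S, Smooth Z.hom → Function.Bijective (fun g : Z ⟶ M => (Over.pullback S₀.ι).map g)) :
    ∀ Z : Over S, Smooth Z.hom → Function.Bijective (fun g : Z ⟶ Over.mk (Limits.pullback.fst N.hom M.hom ≫ N.hom) => (Over.pullback S₀.ι).map g) := by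
  intro Z hZ
  -- the two projections
  let P : Over S := Over.mk (Limits.pullback.fst N.hom M.hom ≫ N.hom)
  let p1 : P ⟶ N := Over.homMk (Limits.pullback.fst N.hom M.hom) rfl
  let p2 : P ⟶ M := Over.homMk (Limits.pullback.snd N.hom M.hom) (Limits.pullback.condition).symm
  -- joint monicity of `p1`, `p2`
  have hmono : ∀ (W : Over S) (g g' : W ⟶ P), g ≫ p1 = g' ≫ p1 → g ≫ p2 = g' ≫ p2 → g = g' := by
    intro W g g' h1 h2
    ext1
    apply Limits.pullback.hom_ext
    · exact congr($(h1).left)
    · exact congr($(h2).left)
  -- joint monicity of the images of `p1`, `p2` under the pullback functor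
  have hmono' : ∀ (W : Over (S₀ : Scheme.{u})) (g g' : W ⟶ (Over.pullback S₀.ι).obj P),
      g ≫ (Over.pullback S₀.ι).map p1 = g' ≫ (Over.pullback S₀.ι).map p1 →
      g ≫ (Over.pullback S₀.ι).map p2 = g' ≫ (Over.pullback S₀.ι).map p2 → g = g' := by
    intro W g g' h1 h2
    ext1
    have h1' : g.left ≫ ((Over.pullback S₀.ι).map p1).left =
        g'.left ≫ ((Over.pullback S₀.ι).map p1).left := congr($(h1).left)
    have h2' : g.left ≫ ((Over.pullback S₀.ι).map p2).left =
        g'.left ≫ ((Over.pullback S₀.ι).map p2).left := congr($(h2).left)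
    apply Limits.pullback.hom_ext
    · apply Limits.pullback.hom_ext
      · have := congr($(h1') ≫ Limits.pullback.fst N.hom S₀.ι)
        rw [Category.assoc, Category.assoc, pullback_map_left_fst] at this
        exact this
      · have := congr($(h2') ≫ Limits.pullback.fst M.hom S₀.ι)
        rw [Category.assoc, Category.assoc, pullback_map_left_fst] at this
        exact this
    · have := congr($(h1') ≫ Limits.pullback.snd N.hom S₀.ι)
      rw [Category.assoc, Category.assoc, pullback_map_left_snd] at this
      exact this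
  constructor
  · intro g g' hgg'
    have hgg'' : (Over.pullback S₀.ι).map g = (Over.pullback S₀.ι).map g' := hgg'
    apply hmono
    · apply (hN Z hZ).1
      show (Over.pullback S₀.ι).map (g ≫ p1) = (Over.pullback S₀.ι).map (g' ≫ p1)
      rw [Functor.map_comp, Functor.map_comp, hgg'']
    · apply (hM Z hZ).1
      show (Over.pullback S₀.ι).map (g ≫ p2) = (Over.pullback S₀.ι).map (g' ≫ p2)
      rw [Functor.map_comp, Functor.map_comp, hgg'']
  · intro h
    obtain ⟨g1, hg1⟩ := (hN Z hZ).2 (h ≫ (Over.pullback S₀.ι).map p1)
    obtain ⟨g2, hg2⟩ := (hM Z hZ).2 (h ≫ (Over.pullback S₀.ι).map p2)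
    have hg1' : (Over.pullback S₀.ι).map g1 = h ≫ (Over.pullback S₀.ι).map p1 := hg1
    have hg2' : (Over.pullback S₀.ι).map g2 = h ≫ (Over.pullback S₀.ι).map p2 := hg2
    let g : Z ⟶ P := Over.homMk (Limits.pullback.lift g1.left g2.left (by
      rw [Over.w g1, Over.w g2])) (by
      show Limits.pullback.lift g1.left g2.left _ ≫ Limits.pullback.fst N.hom M.hom ≫ N.hom = Z.hom
      rw [Limits.pullback.lift_fst_assoc, Over.w g1])
    have hgp1 : g ≫ p1 = g1 := by
      ext1
      show Limits.pullback.lift g1.left g2.left _ ≫ Limits.pullback.fst N.hom M.hom = g1.left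
      rw [Limits.pullback.lift_fst]
    have hgp2 : g ≫ p2 = g2 := by
      ext1
      show Limits.pullback.lift g1.left g2.left _ ≫ Limits.pullback.snd N.hom M.hom = g2.left
      rw [Limits.pullback.lift_snd]
    refine ⟨g, ?_⟩
    show (Over.pullback S₀.ι).map g = h
    apply hmono'
    · rw [← Functor.map_comp, hgp1, hg1']
    · rw [← Functor.map_comp, hgp2, hg2']

end Groth.Agent.S13418
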