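import Groth.Statements.S13421
import Groth.Agent.Lib.Helper68.NeronExt

set_option autoImplicit false
universe u
open CategoryTheory AlgebraicGeometry
open NeronHD

namespace Groth.Agent.S13421

/-- Let T be a locally Noetherian scheme over a field of characteristic 0 and T₀ ⊆ T a
scheme-theoretically dense open. Let f : S → T be étale and such that S, viewed as a T-scheme, has
the Néron mapping property for T₀ ⊆ T, and let g : N → S be smooth and such that N, viewed as an
S-scheme, has the Néron mapping property for f⁻¹(T₀) ⊆ S (restriction of morphisms from smooth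
schemes over the base is bijective). Then N → T, the composite g ≫ f, has the Néron mapping property
for T₀ ⊆ T. (Case of schemes, with smooth test schemes, of a statement about algebraic spaces.) -/
theorem result {k : Type u} [Field k] [CharZero k] {T : Scheme.{u}} (τ : T ⟶ Spec (CommRingCat.of k)) [IsLocallyNoetherian T] (T₀ : T.Opens) (hT₀ : CInt.IsSchematicallyDense T₀)
    {S N : Scheme.{u}} (f : S ⟶ T) [Etale f] (g : N ⟶ S) [Smooth g]
    (hS : ∀ Z : Over T, Smooth Z.hom → Function.Bijective (fun g : Z ⟶ Over.mk f => (Over.pullback T₀.ι).map g))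
    (hN : ∀ Z : Over S, Smooth Z.hom → Function.Bijective (fun g : Z ⟶ Over.mk g => (Over.pullback (f ⁻¹ᵁ T₀).ι).map g)) :
    ∀ Z : Over T, Smooth Z.hom → Function.Bijective (fun g : Z ⟶ Over.mk (g ≫ f) => (Over.pullback T₀.ι).map g) := by
  intro Z hZ
  rw [Groth.Agent.Lib.Helper68.bijective_pullback_map_iff_extProp]
  have hS' := (Groth.Agent.Lib.Helper68.bijective_pullback_map_iff_extProp T₀.ι Z (Over.mk f)).mp
    (hS Z hZ)
  intro φ hφ
  have hφ' : φ ≫ g ≫ f = Limits.pullback.fst Z.hom T₀.ι ≫ Z.hom := hφ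
  obtain ⟨s, ⟨hs1, hs2⟩, hs3⟩ := hS' (φ ≫ g) (by
    show (φ ≫ g) ≫ f = Limits.pullback.fst Z.hom T₀.ι ≫ Z.hom
    rw [Category.assoc, hφ'])
  have hs1' : s ≫ f = Z.hom := hs1
  have hs2' : Limits.pullback.fst Z.hom T₀.ι ≫ s = φ ≫ g := hs2
  haveI : Smooth (s ≫ f) := by rw [hs1']; exact hZ
  have hsm : Smooth s := Groth.Agent.Lib.Helper68.smooth_of_comp_etale s f
  have hN' := (Groth.Agent.Lib.Helper68.bijective_pullback_map_iff_extProp (f ⁻¹ᵁ T₀).ι
    (Over.mk s) (Over.mk g)).mp (hN (Over.mk s) hsm)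
  have hN'' : Groth.Agent.Lib.Helper68.ExtProp (Over.mk s) (Over.mk g)
      (show Limits.pullback Z.hom T₀.ι ⟶ (Over.mk s).left from
        Limits.pullback.fst Z.hom T₀.ι) := by
    refine Groth.Agent.Lib.Helper68.extProp_of_range_eq (Over.mk s) (Over.mk g)
      (Limits.pullback.fst (Over.mk s).hom (f ⁻¹ᵁ T₀).ι) _ ?_ hN'
    show Set.range (Limits.pullback.fst Z.hom T₀.ι) =
      Set.range (Limits.pullback.fst s (f ⁻¹ᵁ T₀).ι)
    rw [Scheme.Pullback.range_fst, Scheme.Pullback.range_fst, Scheme.Opens.range_ι,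
      Scheme.Opens.range_ι, ← hs1']
    rfl
  obtain ⟨h, ⟨hh1, hh2⟩, hh3⟩ := hN'' φ hs2'.symm
  have hh1' : h ≫ g = s := hh1
  refine ⟨h, ⟨?_, hh2⟩, ?_⟩
  · show h ≫ g ≫ f = Z.hom
    rw [← Category.assoc, hh1', hs1']
  · rintro h' ⟨hh'1, hh'2⟩
    have hh'1' : h' ≫ g ≫ f = Z.hom := hh'1
    have : h' ≫ g = s := by
      apply hs3
      refine ⟨?_, ?_⟩
      · show (h' ≫ g) ≫ f = Z.hom
        rw [Category.assoc, hh'1']
      · rw [← Category.assoc, hh'2]
    exact hh3 _ ⟨this, hh'2⟩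

end Groth.Agent.S13421
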