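import Groth.Statements.S13423
import Mathlib
import Groth.Agent.S4997
import Groth.Agent.S2280
import Groth.Agent.Lib.Helper24.UnramifiedLocus
import Groth.Agent.Lib.Helper61.GU8
import Groth.Agent.Lib.Helper54.GenericPt

set_option autoImplicit false
universe u
open CategoryTheory AlgebraicGeometry
open NeronHD

namespace Groth.Agent.S13423

/-- Let S be a reduced, locally Noetherian scheme over a field of characteristic 0 whose local rings are
all geometrically unibranch, and let f : X → S be quasi-finite (locally of finite type,
quasi-compact, with finite discrete fibres), separated and dominant, with X connected and nonempty,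
such that every fibre X_s over the residue field k(s) is smooth. Then f is étale. (Case of schemes
of a statement about algebraic spaces.) -/
theorem result {k : Type u} [Field k] [CharZero k] {S : Scheme.{u}} (σ : S ⟶ Spec (CommRingCat.of k)) [IsLocallyNoetherian S] [IsReduced S]
    (hS : ∀ s : S, CAlg2.IsGeomUnibranch (S.presheaf.stalk s))
    {X : Scheme.{u}} (f : X ⟶ S) [LocallyOfFiniteType f] [QuasiCompact f] [LocallyQuasiFinite f] [IsSeparated f] [IsDominant f]
    [ConnectedSpace X]
    (hfib : ∀ s : S, Smooth (Limits.pullback.snd f (S.fromSpecResidueField s))) :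
    Etale f := by
  open Groth.Agent.Lib.Helper24 in
  -- Step 1: `f` is formally unramified, since its fibres are smooth and quasi-finite, hence étale.
  have hFU : FormallyUnramified f := by
    refine HasRingHomProperty.of_stalkMap RingHom.FormallyUnramified.ofLocalizationPrime fun x ↦ ?_
    have Hpb : IsPullback (f.fiberι (f x)) (f.fiberToSpecResidueField (f x)) f
        (S.fromSpecResidueField (f x)) := IsPullback.of_hasPullback _ _
    have hsm : Smooth (f.fiberToSpecResidueField (f x)) := hfib (f x)
    have hqf : LocallyQuasiFinite (f.fiberToSpecResidueField (f x)) := inferInstance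
    have het : Etale (f.fiberToSpecResidueField (f x)) :=
      (Groth.Agent.S4997.result _).mpr ⟨hsm, hqf⟩
    have h1 := (formallyUnramified_stalkMap_iff_of_isPullback Hpb (f.asFiber x)).mp
      (FormallyUnramified.stalkMap _ _)
    have gen : ∀ y : X, y = x → (f.stalkMap y).hom.FormallyUnramified →
        (f.stalkMap x).hom.FormallyUnramified := by
      rintro _ rfl h
      exact h
    exact gen _ (f.fiberι_asFiber x) h1
  -- Step 2: `S` is integral.
  have hconn : ConnectedSpace S := by
    have hne : Nonempty S := ⟨f (Classical.arbitrary X)⟩
    have hpre : _root_.IsPreconnected (Set.univ : Set S) := by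
      have h1 : _root_.IsPreconnected (Set.range f) :=
        isPreconnected_range f.continuous
      have h2 := h1.closure
      rwa [f.denseRange.closure_eq] at h2
    exact { toPreconnectedSpace := ⟨hpre⟩, toNonempty := hne }
  have hdom : ∀ s : S, IsDomain (S.presheaf.stalk s) := by
    intro s
    have h1 : IsDomain (CAlg2.red (S.presheaf.stalk s)) := (hS s).1.1
    have h2 : (nilradical (S.presheaf.stalk s)).IsPrime :=
      (Ideal.Quotient.isDomain_iff_prime _).mp h1
    have h3 : nilradical (S.presheaf.stalk s) = ⊥ := nilradical_eq_zero _
    rw [h3] at h2
    exact IsDomain.of_bot_isPrime _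
  have hint : IsIntegral S := (Groth.Agent.S2280.result S).2.mpr ⟨hconn, hdom⟩
  -- Step 3: the generic point of `S` is in the image of `f`.
  have hη : ∃ x : X, f x = genericPoint S := by
    have hstd : IsSchemeTheoreticallyDominant f := .of_isDominant f
    have hfl : Flat (S.fromSpecStalk (genericPoint S)) :=
      Groth.Agent.Lib.Helper54.flat_fromSpecStalk S _
    have hdom' : IsDominant (Limits.pullback.snd f (S.fromSpecStalk (genericPoint S))) :=
      inferInstance
    have hne : Nonempty (Spec (S.presheaf.stalk (genericPoint S))) := inferInstance
    obtain ⟨p⟩ : Nonempty ↑(Limits.pullback f (S.fromSpecStalk (genericPoint S))) := by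
      by_contra hemp
      rw [not_nonempty_iff] at hemp
      have := (Limits.pullback.snd f (S.fromSpecStalk (genericPoint S))).denseRange.nonempty_iff.mpr hne
      exact hemp.elim this.some
    refine ⟨Limits.pullback.fst f (S.fromSpecStalk (genericPoint S)) p, ?_⟩
    have h1 : f (Limits.pullback.fst f (S.fromSpecStalk (genericPoint S)) p) =
        S.fromSpecStalk (genericPoint S)
          (Limits.pullback.snd f (S.fromSpecStalk (genericPoint S)) p) := by
      rw [← Scheme.Hom.comp_apply, ← Scheme.Hom.comp_apply, Limits.pullback.condition]
    have h2 : f (Limits.pullback.fst f (S.fromSpecStalk (genericPoint S)) p) ⤳ genericPoint S := by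
      have : f (Limits.pullback.fst f (S.fromSpecStalk (genericPoint S)) p) ∈
          Set.range (S.fromSpecStalk (genericPoint S)) := h1 ▸ Set.mem_range_self _
      rw [Scheme.range_fromSpecStalk] at this
      exact this
    exact (h2.antisymm (genericPoint_specializes _)).eq
  exact (Groth.Agent.Lib.Helper61.GU.etale_and_isIntegral_of_unramified f hS hη).1

end Groth.Agent.S13423
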