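import Groth.Statements.S13427
-- import your own Groth.Agent.* helpers here

set_option autoImplicit false
universe u
open CategoryTheory AlgebraicGeometry
open NeronHD

namespace Groth.Agent.S13427

theorem pullback_map_left_fst {X Y : Scheme.{u}} (f : X ⟶ Y) {A B : Over Y} (k : A ⟶ B) :
    ((Over.pullback f).map k).left ≫ Limits.pullback.fst B.hom f =
      Limits.pullback.fst A.hom f ≫ k.left :=
  Limits.pullback.lift_fst _ _ _

theorem pullback_map_left_snd {X Y : Scheme.{u}} (f : X ⟶ Y) {A B : Over Y} (k : A ⟶ B) :
    ((Over.pullback f).map k).left ≫ Limits.pullback.snd B.hom f =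
      Limits.pullback.snd A.hom f :=
  Limits.pullback.lift_snd _ _ _

/-- Let S be a locally Noetherian scheme over a field of characteristic 0, S₀ ⊆ S a scheme-theoretically
dense open, and G, H smooth S-schemes with the Néron mapping property for S₀ ⊆ S (restriction to S₀
of S-morphisms from smooth S-schemes is bijective). Let f : G → H be an S-morphism and e : S → H a
section of H → S, and let K = G ×_H S be the fibre of f over e (the case in view: f a homomorphism
of smooth group schemes, e the unit, K the kernel, so that 1 → K → G → H is left exact). If K → S is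
smooth, then K has the Néron mapping property for S₀ ⊆ S. (Case of schemes, with smooth test
schemes, of a statement about group algebraic spaces.) -/
theorem result {k : Type u} [Field k] [CharZero k] {S : Scheme.{u}} (σ : S ⟶ Spec (CommRingCat.of k)) [IsLocallyNoetherian S] (S₀ : S.Opens) (hS₀ : CInt.IsSchematicallyDense S₀)
    (G H : Over S) [Smooth G.hom] [Smooth H.hom]
    (hG : ∀ Z : Over S, Smooth Z.hom → Function.Bijective (fun g : Z ⟶ G => (Over.pullback S₀.ι).map g))
    (hH : ∀ Z : Over S, Smooth Z.hom → Function.Bijective (fun g : Z ⟶ H => (Over.pullback S₀.ι).map g))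
    (f : G ⟶ H) (e : S ⟶ H.left) (he : e ≫ H.hom = 𝟙 S)
    [Smooth (Limits.pullback.snd f.left e)] :
    ∀ Z : Over S, Smooth Z.hom → Function.Bijective (fun g : Z ⟶ Over.mk (Limits.pullback.snd f.left e) => (Over.pullback S₀.ι).map g) := by
  intro Z hZ
  let P : Over S := Over.mk (Limits.pullback.snd f.left e)
  have hq : Limits.pullback.fst f.left e ≫ G.hom = Limits.pullback.snd f.left e := by
    rw [← Over.w f, ← Category.assoc, Limits.pullback.condition, Category.assoc, he,
      Category.comp_id]
  let q : P ⟶ G := Over.homMk (Limits.pullback.fst f.left e) hq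
  -- the "constant" morphisms to `H` given by the section
  let ε : ∀ A : Over S, A ⟶ H := fun A => Over.homMk (A.hom ≫ e) (by
    rw [Category.assoc, he, Category.comp_id])
  have hqf : q ≫ f = ε P := by
    ext1
    show Limits.pullback.fst f.left e ≫ f.left = Limits.pullback.snd f.left e ≫ e
    exact Limits.pullback.condition
  -- `q` is a monomorphism
  have hmono : ∀ (W : Over S) (g g' : W ⟶ P), g ≫ q = g' ≫ q → g = g' := by
    intro W g g' h1
    ext1
    apply Limits.pullback.hom_ext
    · exact congr($(h1).left)
    · have e1 : g.left ≫ P.hom = W.hom := Over.w g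
      have e2 : g'.left ≫ P.hom = W.hom := Over.w g'
      exact e1.trans e2.symm
  -- its image under the pullback functor is a monomorphism
  have hmono' : ∀ (W : Over (S₀ : Scheme.{u})) (g g' : W ⟶ (Over.pullback S₀.ι).obj P),
      g ≫ (Over.pullback S₀.ι).map q = g' ≫ (Over.pullback S₀.ι).map q → g = g' := by
    intro W g g' h1
    ext1
    have h1' : g.left ≫ ((Over.pullback S₀.ι).map q).left =
        g'.left ≫ ((Over.pullback S₀.ι).map q).left := congr($(h1).left)
    have e1 : g.left ≫ Limits.pullback.snd P.hom S₀.ι = W.hom := Over.w g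
    have e2 : g'.left ≫ Limits.pullback.snd P.hom S₀.ι = W.hom := Over.w g'
    apply Limits.pullback.hom_ext
    · apply Limits.pullback.hom_ext
      · have := congr($(h1') ≫ Limits.pullback.fst G.hom S₀.ι)
        rw [Category.assoc, Category.assoc, pullback_map_left_fst] at this
        exact this
      · have c : Limits.pullback.fst P.hom S₀.ι ≫ Limits.pullback.snd f.left e =
            Limits.pullback.snd P.hom S₀.ι ≫ S₀.ι := Limits.pullback.condition
        rw [Category.assoc, Category.assoc, c, ← Category.assoc, ← Category.assoc, e1, e2]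
    · exact e1.trans e2.symm
  -- any morphism into the pullback of `P` composes with the constant map to the constant map
  have hconst : ∀ (h : (Over.pullback S₀.ι).obj Z ⟶ (Over.pullback S₀.ι).obj P),
      h ≫ (Over.pullback S₀.ι).map (ε P) = (Over.pullback S₀.ι).map (ε Z) := by
    intro h
    ext1
    have e1 : h.left ≫ Limits.pullback.snd P.hom S₀.ι = Limits.pullback.snd Z.hom S₀.ι := Over.w h
    apply Limits.pullback.hom_ext
    · rw [Over.comp_left, Category.assoc, pullback_map_left_fst, pullback_map_left_fst]
      show h.left ≫ Limits.pullback.fst P.hom S₀.ι ≫ P.hom ≫ e =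
        Limits.pullback.fst Z.hom S₀.ι ≫ Z.hom ≫ e
      rw [← Category.assoc (Limits.pullback.fst P.hom S₀.ι), Limits.pullback.condition,
        ← Category.assoc (Limits.pullback.fst Z.hom S₀.ι), Limits.pullback.condition,
        Category.assoc, ← Category.assoc h.left, e1, Category.assoc]
    · rw [Over.comp_left, Category.assoc, pullback_map_left_snd, pullback_map_left_snd, e1]
  constructor
  · intro g g' hgg'
    have hgg'' : (Over.pullback S₀.ι).map g = (Over.pullback S₀.ι).map g' := hgg'
    apply hmono
    apply (hG Z hZ).1
    show (Over.pullback S₀.ι).map (g ≫ q) = (Over.pullback S₀.ι).map (g' ≫ q)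
    rw [Functor.map_comp, Functor.map_comp, hgg'']
  · intro h
    obtain ⟨g1, hg1⟩ := (hG Z hZ).2 (h ≫ (Over.pullback S₀.ι).map q)
    have hg1' : (Over.pullback S₀.ι).map g1 = h ≫ (Over.pullback S₀.ι).map q := hg1
    have hg1f : g1 ≫ f = ε Z := by
      apply (hH Z hZ).1
      show (Over.pullback S₀.ι).map (g1 ≫ f) = (Over.pullback S₀.ι).map (ε Z)
      rw [Functor.map_comp, hg1', Category.assoc, ← Functor.map_comp, hqf, hconst]
    have hcond : g1.left ≫ f.left = Z.hom ≫ e := congr($(hg1f).left)
    let g : Z ⟶ P := Over.homMk (Limits.pullback.lift g1.left Z.hom hcond) (by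
      show Limits.pullback.lift g1.left Z.hom hcond ≫ Limits.pullback.snd f.left e = Z.hom
      rw [Limits.pullback.lift_snd])
    have hgq : g ≫ q = g1 := by
      ext1
      show Limits.pullback.lift g1.left Z.hom hcond ≫ Limits.pullback.fst f.left e = g1.left
      rw [Limits.pullback.lift_fst]
    refine ⟨g, ?_⟩
    show (Over.pullback S₀.ι).map g = h
    apply hmono'
    rw [← Functor.map_comp, hgq, hg1']

end Groth.Agent.S13427
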