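import Groth.Statements.S1343
import Groth.Agent.Lib.Helper13.CMChart

set_option autoImplicit false
universe u
open FlatMor

namespace Groth.Agent.S1343

open AlgebraicGeometry CategoryTheory Limits in
/-- (1) ⇔ (3): let f be flat and locally of finite presentation and let x be a point whose fibre has
local dimension d at x. Then f is Cohen–Macaulay at x if and only if some open neighbourhood of x
admits a flat, locally quasi-finite morphism to affine d-space over the base, compatible with the
structure morphisms. -/
theorem result {X S : Scheme.{u}} (f : X ⟶ S) [Flat f] [LocallyOfFinitePresentation f]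
    (x : X) (d : ℕ) (hd : FlatMor.fibreDimAt f x = d) :
    MoreMor.IsCMAt f x ↔ ∃ (U : X.Opens) (g : (U : Scheme.{u}) ⟶ 𝔸(ULift.{u} (Fin d); S)), x ∈ U ∧
      g ≫ (𝔸(ULift.{u} (Fin d); S) ↘ S) = U.ι ≫ f ∧ Flat g ∧ LocallyQuasiFinite g := by
  constructor
  · intro hcm
    obtain ⟨U, g, hx, hg, hfl, hqf⟩ := Groth.Agent.Lib.Helper13.CMChart.exists_chart f x hcm d hd
    exact ⟨U, g, hx, hg, hfl, hqf⟩
  · rintro ⟨U, g, hx, hg, hfl, hqf⟩
    exact Groth.Agent.Lib.Helper13.CMChart.isCMAt_of_flat_chart f d U g hg x hx

end Groth.Agent.S1343
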