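import Groth.Statements.S13431
import Mathlib

set_option autoImplicit false
set_option linter.style.haveILetI false
set_option linter.unusedSectionVars false
universe u
open CategoryTheory MonoidalCategory CartesianMonoidalCategory MonObj GrpObj AlgebraicGeometry Limits
open NeronHD

namespace Groth.Agent.S13431

variable {S S₀ : Scheme.{u}} (i : S₀ ⟶ S)

noncomputable def isLim (X Y : Over S) :
    IsLimit (BinaryFan.mk ((Over.pullback i).map (fst X Y)) ((Over.pullback i).map (snd X Y))) :=
  isLimitCartesianMonoidalCategoryOfPreservesLimits (Over.pullback i) X Y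

theorem jointly_mono {X Y : Over S} {W : Over S₀} (g g' : W ⟶ (Over.pullback i).obj (X ⊗ Y))
    (h1 : g ≫ (Over.pullback i).map (fst X Y) = g' ≫ (Over.pullback i).map (fst X Y))
    (h2 : g ≫ (Over.pullback i).map (snd X Y) = g' ≫ (Over.pullback i).map (snd X Y)) : g = g' :=
  BinaryFan.IsLimit.hom_ext (isLim i X Y) h1 h2

theorem exists_pair {X Y : Over S} {W : Over S₀} (u : W ⟶ (Over.pullback i).obj X)
    (v : W ⟶ (Over.pullback i).obj Y) :
    ∃ w : W ⟶ (Over.pullback i).obj (X ⊗ Y), w ≫ (Over.pullback i).map (fst X Y) = u ∧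
      w ≫ (Over.pullback i).map (snd X Y) = v := by
  obtain ⟨w, h1, h2⟩ := BinaryFan.IsLimit.lift' (isLim i X Y) u v
  exact ⟨w, h1, h2⟩

theorem map_lift_eq {X Y T : Over S} (f f' : T ⟶ X) (g g' : T ⟶ Y)
    (hf : (Over.pullback i).map f = (Over.pullback i).map f')
    (hg : (Over.pullback i).map g = (Over.pullback i).map g') :
    (Over.pullback i).map (lift f g) = (Over.pullback i).map (lift f' g') := by
  apply jointly_mono
  · rw [← Functor.map_comp, ← Functor.map_comp, lift_fst, lift_fst, hf]
  · rw [← Functor.map_comp, ← Functor.map_comp, lift_snd, lift_snd, hg]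

instance smooth_tensor (Z N : Over S) [Smooth Z.hom] [Smooth N.hom] : Smooth (Z ⊗ N).hom := by
  show Smooth (pullback.fst Z.hom N.hom ≫ Z.hom)
  infer_instance

instance (Z N : Over S) [Smooth N.hom] : Smooth (fst Z N).left := by
  show Smooth (pullback.fst Z.hom N.hom)
  infer_instance

instance (Z N : Over S) [Surjective N.hom] : Surjective (fst Z N).left := by
  show Surjective (pullback.fst Z.hom N.hom)
  infer_instance

theorem epi_fst (Z N : Over S) [Smooth N.hom] [Surjective N.hom] : Epi (fst Z N) := by
  have : Epi ((Over.forget S).map (fst Z N)) :=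
    Flat.epi_of_flat_of_surjective (fst Z N).left
  exact (Over.forget S).epi_of_epi_map this

theorem isPullback_map_left {A B : Over S} (k : A ⟶ B) :
    IsPullback ((Over.pullback i).map k).left (pullback.fst A.hom i) (pullback.fst B.hom i)
      k.left := by
  have hsnd : ((Over.pullback i).map k).left ≫ pullback.snd B.hom i = pullback.snd A.hom i :=
    pullback.lift_snd _ _ _
  have hfst : ((Over.pullback i).map k).left ≫ pullback.fst B.hom i =
      pullback.fst A.hom i ≫ k.left := pullback.lift_fst _ _ _
  refine IsPullback.of_right (h₁₂ := pullback.snd B.hom i) (v₁₃ := i) (h₂₂ := B.hom) ?_ hfst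
    (IsPullback.of_hasPullback B.hom i).flip
  rw [hsnd, Over.w k]
  exact (IsPullback.of_hasPullback A.hom i).flip

theorem epi_map_fst (Z N : Over S) [Smooth N.hom] [Surjective N.hom] :
    Epi ((Over.pullback i).map (fst Z N)) := by
  have hpb := (isPullback_map_left i (fst Z N)).flip
  have h1 : Flat ((Over.pullback i).map (fst Z N)).left :=
    MorphismProperty.of_isPullback (P := @Flat) hpb inferInstance
  have h2 : Surjective ((Over.pullback i).map (fst Z N)).left :=
    MorphismProperty.of_isPullback (P := @Surjective) hpb inferInstance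
  have : Epi ((Over.forget S₀).map ((Over.pullback i).map (fst Z N))) :=
    Flat.epi_of_flat_of_surjective ((Over.pullback i).map (fst Z N)).left
  exact (Over.forget S₀).epi_of_epi_map this

/-- the kernel pair of `fst Z N`, as an object over `S` -/
noncomputable def K (Z N : Over S) : Over S :=
  Over.mk (pullback.fst (fst Z N).left (fst Z N).left ≫ (Z ⊗ N).hom)

noncomputable def q₁ (Z N : Over S) : K Z N ⟶ Z ⊗ N :=
  Over.homMk (pullback.fst (fst Z N).left (fst Z N).left) rfl

noncomputable def q₂ (Z N : Over S) : K Z N ⟶ Z ⊗ N :=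
  Over.homMk (pullback.snd (fst Z N).left (fst Z N).left) (by
    show pullback.snd (fst Z N).left (fst Z N).left ≫ (Z ⊗ N).hom =
      pullback.fst (fst Z N).left (fst Z N).left ≫ (Z ⊗ N).hom
    rw [← Over.w (fst Z N), ← Category.assoc, ← Category.assoc, pullback.condition])

theorem q_cond (Z N : Over S) : q₁ Z N ≫ fst Z N = q₂ Z N ≫ fst Z N := by
  ext1
  exact pullback.condition

instance (Z N : Over S) [Smooth Z.hom] [Smooth N.hom] : Smooth (K Z N).hom := by
  show Smooth (pullback.fst (fst Z N).left (fst Z N).left ≫ (Z ⊗ N).hom)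
  infer_instance

theorem descend {Z N X : Over S} [Smooth N.hom] [Surjective N.hom] (f' : Z ⊗ N ⟶ X)
    (h : q₁ Z N ≫ f' = q₂ Z N ≫ f') : ∃ f : Z ⟶ X, fst Z N ≫ f = f' := by
  have hepi : Epi (fst Z N).left := Flat.epi_of_flat_of_surjective _
  have hcond : ∀ {W : Scheme.{u}} (g₁ g₂ : W ⟶ (Z ⊗ N).left),
      g₁ ≫ (fst Z N).left = g₂ ≫ (fst Z N).left → g₁ ≫ f'.left = g₂ ≫ f'.left := by
    intro W g₁ g₂ hg
    have h' : pullback.fst (fst Z N).left (fst Z N).left ≫ f'.left =
        pullback.snd (fst Z N).left (fst Z N).left ≫ f'.left := congr($(h).left)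
    calc g₁ ≫ f'.left = (pullback.lift g₁ g₂ hg ≫ pullback.fst _ _) ≫ f'.left := by
          rw [pullback.lift_fst]
      _ = (pullback.lift g₁ g₂ hg ≫ pullback.snd _ _) ≫ f'.left := by
          rw [Category.assoc, h', Category.assoc]
      _ = g₂ ≫ f'.left := by rw [pullback.lift_snd]
  let fl : Z.left ⟶ X.left := EffectiveEpi.desc (fst Z N).left f'.left hcond
  have hfac : (fst Z N).left ≫ fl = f'.left := EffectiveEpi.fac _ _ _
  have hw : fl ≫ X.hom = Z.hom := by
    rw [← cancel_epi (fst Z N).left, ← Category.assoc, hfac, Over.w f', Over.w (fst Z N)]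
  refine ⟨Over.homMk fl hw, ?_⟩
  ext1
  exact hfac


section main

variable {G N : Over S} [GrpObj G] [Smooth G.hom] [Smooth N.hom] [Surjective N.hom]
  (a : AlgGrp.Action G N) (ha : NonAbH1.IsPseudoTorsorSch a)

include ha

/-- injectivity for `N` from injectivity for `G` -/
theorem inj_N (Z : Over S)
    (hG : Function.Injective (fun g : Z ⟶ G => (Over.pullback i).map g)) :
    Function.Injective (fun g : Z ⟶ N => (Over.pullback i).map g) := by
  intro f f' hff'
  have hff : (Over.pullback i).map f = (Over.pullback i).map f' := hff'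
  haveI : IsIso (lift a.act (snd G N)) := ha
  set t : G ⊗ N ⟶ N ⊗ N := lift a.act (snd G N) with ht
  have hts : inv t ≫ snd G N = snd N N := by
    rw [IsIso.inv_comp_eq, ht, lift_snd]
  have h1 : (Over.pullback i).map (lift f f') = (Over.pullback i).map (lift f' f') :=
    map_lift_eq i _ _ _ _ hff rfl
  have h2 : (lift f f' ≫ inv t) ≫ fst G N = (lift f' f' ≫ inv t) ≫ fst G N := by
    apply hG
    show (Over.pullback i).map _ = (Over.pullback i).map _
    rw [Functor.map_comp, Functor.map_comp, Functor.map_comp, Functor.map_comp, h1]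
  have h3 : (lift f f' ≫ inv t) ≫ snd G N = (lift f' f' ≫ inv t) ≫ snd G N := by
    rw [Category.assoc, Category.assoc, hts, lift_snd, lift_snd]
  have h4 : lift f f' ≫ inv t = lift f' f' ≫ inv t :=
    CartesianMonoidalCategory.hom_ext _ _ h2 h3
  have h5 : lift f f' = lift f' f' := (cancel_mono (inv t)).1 h4
  have := congr($(h5) ≫ fst N N)
  rwa [lift_fst, lift_fst] at this

/-- injectivity for `G` from injectivity for `N` -/
theorem inj_G (Z : Over S)
    (hN : Function.Injective (fun g : Z ⊗ N ⟶ N => (Over.pullback i).map g)) :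
    Function.Injective (fun g : Z ⟶ G => (Over.pullback i).map g) := by
  intro g g' hgg'
  have hgg : (Over.pullback i).map g = (Over.pullback i).map g' := hgg'
  haveI : IsIso (lift a.act (snd G N)) := ha
  set t : G ⊗ N ⟶ N ⊗ N := lift a.act (snd G N) with ht
  have h1 : (Over.pullback i).map (lift (fst Z N ≫ g) (snd Z N)) =
      (Over.pullback i).map (lift (fst Z N ≫ g') (snd Z N)) := by
    apply map_lift_eq i _ _ _ _ _ rfl
    rw [Functor.map_comp, Functor.map_comp, hgg]
  have h2 : lift (fst Z N ≫ g) (snd Z N) ≫ a.act = lift (fst Z N ≫ g') (snd Z N) ≫ a.act := by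
    apply hN
    show (Over.pullback i).map _ = (Over.pullback i).map _
    rw [Functor.map_comp, Functor.map_comp, h1]
  have h3 : lift (fst Z N ≫ g) (snd Z N) ≫ t = lift (fst Z N ≫ g') (snd Z N) ≫ t := by
    rw [ht, comp_lift, comp_lift, h2, lift_snd, lift_snd]
  have h4 := (cancel_mono t).1 h3
  have h5 := congr($(h4) ≫ fst G N)
  rw [lift_fst, lift_fst] at h5
  haveI := epi_fst Z N
  exact (cancel_epi (fst Z N)).1 h5

/-- surjectivity for `N` from the mapping property of `G` -/
theorem surj_N (Z : Over S) [Smooth Z.hom]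
    (hGi : Function.Injective (fun g : K Z N ⟶ G => (Over.pullback i).map g))
    (hGs : Function.Surjective (fun g : Z ⊗ N ⟶ G => (Over.pullback i).map g)) :
    Function.Surjective (fun g : Z ⟶ N => (Over.pullback i).map g) := by
  intro φ
  haveI : IsIso (lift a.act (snd G N)) := ha
  set t : G ⊗ N ⟶ N ⊗ N := lift a.act (snd G N) with ht
  have hts : inv t ≫ snd G N = snd N N := by
    rw [IsIso.inv_comp_eq, ht, lift_snd]
  have hta : inv t ≫ a.act = fst N N := by
    rw [IsIso.inv_comp_eq, ht, lift_fst]
  obtain ⟨w, hw1, hw2⟩ := exists_pair i (X := N) (Y := N)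
    ((Over.pullback i).map (fst Z N) ≫ φ) ((Over.pullback i).map (snd Z N))
  obtain ⟨g, hg⟩ := hGs (w ≫ (Over.pullback i).map (inv t ≫ fst G N))
  have hg' : (Over.pullback i).map g = w ≫ (Over.pullback i).map (inv t ≫ fst G N) := hg
  have h1 : (Over.pullback i).map (lift g (snd Z N)) = w ≫ (Over.pullback i).map (inv t) := by
    apply jointly_mono
    · rw [← Functor.map_comp, lift_fst, hg', Category.assoc, ← Functor.map_comp]
    · rw [← Functor.map_comp, lift_snd, Category.assoc, ← Functor.map_comp, hts, hw2]
  have h2 : (Over.pullback i).map (lift g (snd Z N) ≫ a.act) =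
      (Over.pullback i).map (fst Z N) ≫ φ := by
    rw [Functor.map_comp, h1, Category.assoc, ← Functor.map_comp, hta, hw1]
  have hinj := inj_N i a ha (K Z N) hGi
  obtain ⟨f', h2⟩ : ∃ f' : Z ⊗ N ⟶ N, (Over.pullback i).map f' =
      (Over.pullback i).map (fst Z N) ≫ φ := ⟨_, h2⟩
  have h3 : q₁ Z N ≫ f' = q₂ Z N ≫ f' := by
    apply hinj
    show (Over.pullback i).map _ = (Over.pullback i).map _
    rw [Functor.map_comp, Functor.map_comp, h2, ← Category.assoc, ← Category.assoc,
      ← Functor.map_comp, ← Functor.map_comp, q_cond]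
  obtain ⟨f, hf⟩ := descend _ h3
  refine ⟨f, ?_⟩
  show (Over.pullback i).map f = φ
  haveI := epi_map_fst i Z N
  rw [← cancel_epi ((Over.pullback i).map (fst Z N)), ← Functor.map_comp, hf, h2]

/-- surjectivity for `G` from the mapping property of `N` -/
theorem surj_G (Z : Over S) [Smooth Z.hom]
    (hNi : Function.Injective (fun g : K Z N ⊗ N ⟶ N => (Over.pullback i).map g))
    (hNs : Function.Surjective (fun g : Z ⊗ N ⟶ N => (Over.pullback i).map g)) :
    Function.Surjective (fun g : Z ⟶ G => (Over.pullback i).map g) := by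
  intro ψ
  haveI : IsIso (lift a.act (snd G N)) := ha
  set t : G ⊗ N ⟶ N ⊗ N := lift a.act (snd G N) with ht
  have hts : t ≫ snd N N = snd G N := by rw [ht, lift_snd]
  have hta : t ≫ fst N N = a.act := by rw [ht, lift_fst]
  obtain ⟨w, hw1, hw2⟩ := exists_pair i (X := G) (Y := N)
    ((Over.pullback i).map (fst Z N) ≫ ψ) ((Over.pullback i).map (snd Z N))
  obtain ⟨ν, hν⟩ := hNs (w ≫ (Over.pullback i).map a.act)
  have hν' : (Over.pullback i).map ν = w ≫ (Over.pullback i).map a.act := hν
  have h1 : (Over.pullback i).map (lift ν (snd Z N)) = w ≫ (Over.pullback i).map t := by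
    apply jointly_mono
    · rw [← Functor.map_comp, lift_fst, hν', Category.assoc, ← Functor.map_comp, hta]
    · rw [← Functor.map_comp, lift_snd, Category.assoc, ← Functor.map_comp, hts, hw2]
  have h2 : (Over.pullback i).map (lift ν (snd Z N) ≫ inv t ≫ fst G N) =
      (Over.pullback i).map (fst Z N) ≫ ψ := by
    rw [Functor.map_comp, h1, Category.assoc, ← Functor.map_comp, IsIso.hom_inv_id_assoc, hw1]
  have hinj := inj_G i a ha (K Z N) hNi
  obtain ⟨f', h2⟩ : ∃ f' : Z ⊗ N ⟶ G, (Over.pullback i).map f' =
      (Over.pullback i).map (fst Z N) ≫ ψ := ⟨_, h2⟩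
  have h3 : q₁ Z N ≫ f' = q₂ Z N ≫ f' := by
    apply hinj
    show (Over.pullback i).map _ = (Over.pullback i).map _
    rw [Functor.map_comp, Functor.map_comp, h2, ← Category.assoc, ← Category.assoc,
      ← Functor.map_comp, ← Functor.map_comp, q_cond]
  obtain ⟨f, hf⟩ := descend _ h3
  refine ⟨f, ?_⟩
  show (Over.pullback i).map f = ψ
  haveI := epi_map_fst i Z N
  rw [← cancel_epi ((Over.pullback i).map (fst Z N)), ← Functor.map_comp, hf, h2]

end main

/-- Let S be a locally Noetherian scheme over a field of characteristic 0 and S₀ ⊆ S a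
scheme-theoretically dense open. Let G be a smooth group scheme over S and N a smooth S-scheme with
N → S surjective, equipped with an action of G making N a pseudo-torsor: the translation map G ×_S N
→ N ×_S N, (g, x) ↦ (g·x, x), is an isomorphism. Then G has the Néron mapping property for S₀ ⊆ S
(restriction to S₀ of S-morphisms from smooth S-schemes is bijective) if and only if N has it. (The
published statement says 'G-torsor' with torsor defined as an action whose translation map is an
isomorphism; for N empty that holds and N has the mapping property while G need not, so surjectivity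
of N → S — which gives étale-local sections — is assumed here, as the published proof uses. Case of
schemes of a statement about algebraic spaces.) -/
theorem result {k : Type u} [Field k] [CharZero k] {S : Scheme.{u}} (σ : S ⟶ Spec (CommRingCat.of k)) [IsLocallyNoetherian S] (S₀ : S.Opens) (hS₀ : CInt.IsSchematicallyDense S₀)
    (G : Over S) [GrpObj G] [Smooth G.hom]
    (N : Over S) [Smooth N.hom] [Surjective N.hom]
    (a : AlgGrp.Action G N) (ha : NonAbH1.IsPseudoTorsorSch a) :
    (∀ Z : Over S, Smooth Z.hom → Function.Bijective (fun g : Z ⟶ G => (Over.pullback S₀.ι).map g)) ↔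
    (∀ Z : Over S, Smooth Z.hom → Function.Bijective (fun g : Z ⟶ N => (Over.pullback S₀.ι).map g)) := by
  constructor
  · intro hG Z hZ
    haveI := hZ
    exact ⟨inj_N S₀.ι a ha Z (hG Z hZ).1,
      surj_N S₀.ι a ha Z (hG (K Z N) inferInstance).1 (hG (Z ⊗ N) inferInstance).2⟩
  · intro hN Z hZ
    haveI := hZ
    exact ⟨inj_G S₀.ι a ha Z (hN (Z ⊗ N) inferInstance).1,
      surj_G S₀.ι a ha Z (hN (K Z N ⊗ N) inferInstance).1 (hN (Z ⊗ N) inferInstance).2⟩

end Groth.Agent.S13431
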