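import Groth.Statements.S13434
import Mathlib
import Groth.Agent.Lib.Helper92.HilbTgtDecomp
-- import your own Groth.Agent.* helpers here

set_option autoImplicit false
universe u
open W4c1hilbpn

namespace Groth.Agent.S13434

open W4c1hilbpn in
/-- Let k be an infinite field, n ≥ 2, S the polynomial ring over k in n variables, I a monomial ideal
of S of finite colength and T(I) = Hom_S(I, S/I) with its grading by integer vectors. The graded
piece of T(I) in every multidegree all of whose entries are nonnegative, or all of whose entries are
negative, vanishes, and T(I) is spanned by its pieces of non-constant sign pattern (the spans, over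
the sets N of variable indices that are neither empty nor all indices, of the graded pieces whose
multidegree is negative exactly at N). -/
theorem result (k : Type u) [Field k] [Infinite k]
    (n : ℕ) (hn : 2 ≤ n) (I : Ideal (MvPolynomial (Fin n) k)) (hI : IsMonomial I)
    [Module.Finite k (MvPolynomial (Fin n) k ⧸ I)] :
    (∀ α : Fin n → ℤ, ((∀ i, 0 ≤ α i) ∨ (∀ i, α i < 0)) → tPiece I α = ⊥) ∧
      (⨆ N : {N : Set (Fin n) // N.Nonempty ∧ N ≠ Set.univ}, sigPiece I N.1) = ⊤ := by
  refine ⟨fun α hα => ?_, Groth.Agent.Lib.Helper92.HilbTgtDecomp.iSup_sigPiece_eq_top hn hI⟩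
  rcases hα with h | h
  · exact Groth.Agent.Lib.Helper92.HilbTgtDecomp.tPiece_eq_bot_of_nonneg hn hI h
  · exact Groth.Agent.Lib.Helper92.HilbTgtDecomp.tPiece_eq_bot_of_neg hn hI h

end Groth.Agent.S13434
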