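import Groth.Statements.S13438
import Mathlib
import Groth.Agent.Lib.Helper68.HilbSocle

set_option autoImplicit false
universe u
open W4c1hilbpn

namespace Groth.Agent.S13438

open W4c1hilbpn in
/-- Let k be an infinite field, S = k[x,y,z], and T(I) = Hom_S(I, S/I) graded by triples of integers (a
graded piece is indexed by its multidegree; its sign pattern records which of the three entries are
negative); let I be a monomial ideal of finite colength whose minimal monomial generators include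
x^a1 y^a2, x^b1 z^b3 and y^c2 z^c3 with all six exponents positive, and assume a1 ≥ b1 and a2 ≥ c2,
or b1 ≥ a1 and b3 ≥ c3, or c2 ≥ a2 and c3 ≥ b3. Then T(I) has a nonzero graded piece whose sign
pattern is negative at exactly two of the three variables. (The published statement draws the
conclusion that the corresponding point of the Hilbert scheme of points of affine 3-space is
singular; this row records the nonvanishing of a tangent piece of forbidden sign pattern, from which
singularity follows by the smoothness criterion for monomial points.) -/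
theorem result (k : Type u) [Field k] [Infinite k]
    (I : Ideal (MvPolynomial (Fin 3) k)) (hI : IsMonomial I) [Module.Finite k (MvPolynomial (Fin 3) k ⧸ I)]
    (a1 a2 b1 b3 c2 c3 : ℕ) (ha1 : 0 < a1) (ha2 : 0 < a2) (hb1 : 0 < b1) (hb3 : 0 < b3)
    (hc2 : 0 < c2) (hc3 : 0 < c3)
    (hA : e3 a1 a2 0 ∈ exps I ∧ e3 (a1 - 1) a2 0 ∉ exps I ∧ e3 a1 (a2 - 1) 0 ∉ exps I)
    (hB : e3 b1 0 b3 ∈ exps I ∧ e3 (b1 - 1) 0 b3 ∉ exps I ∧ e3 b1 0 (b3 - 1) ∉ exps I)
    (hC : e3 0 c2 c3 ∈ exps I ∧ e3 0 (c2 - 1) c3 ∉ exps I ∧ e3 0 c2 (c3 - 1) ∉ exps I)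
    (hcase : (b1 ≤ a1 ∧ c2 ≤ a2) ∨ (a1 ≤ b1 ∧ c3 ≤ b3) ∨ (a2 ≤ c2 ∧ b3 ≤ c3)) :
    sigPiece I ({0, 1} : Set (Fin 3)) ≠ ⊥ ∨ sigPiece I ({0, 2} : Set (Fin 3)) ≠ ⊥ ∨
      sigPiece I ({1, 2} : Set (Fin 3)) ≠ ⊥ := by
  open Groth.Agent.Lib.Helper68.HilbSocle in
  rcases hcase with ⟨h1, h2⟩ | ⟨h1, h2⟩ | ⟨h1, h2⟩
  · -- generator x^a1 y^a2, corners x^b1 z^b3 and y^c2 z^c3
    left
    refine sigPiece_pair_ne_bot hI (i := 0) (j := 1) (l := 2) (by decide) (by decide) (by decide)
      (g := e3 a1 a2 0) (B := e3 b1 0 b3) (C := e3 0 c2 c3) hA.1 rfl ?_ hB.1 rfl hb1 ?_ h1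
      hC.1 rfl hc2 ?_ h2
    · intro m hm
      match m, hm with
      | 0, _ => rw [e3_sub_single0]; exact hA.2.1
      | 1, _ => rw [e3_sub_single1]; exact hA.2.2
      | 2, hm => exact absurd hm (lt_irrefl 0)
    · rw [e3_sub_single0]; exact hB.2.1
    · rw [e3_sub_single1]; exact hC.2.1
  · -- generator x^b1 z^b3, corners x^a1 y^a2 and y^c2 z^c3
    right; left
    refine sigPiece_pair_ne_bot hI (i := 0) (j := 2) (l := 1) (by decide) (by decide) (by decide)
      (g := e3 b1 0 b3) (B := e3 a1 a2 0) (C := e3 0 c2 c3) hB.1 rfl ?_ hA.1 rfl ha1 ?_ h1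
      hC.1 rfl hc3 ?_ h2
    · intro m hm
      match m, hm with
      | 0, _ => rw [e3_sub_single0]; exact hB.2.1
      | 1, hm => exact absurd hm (lt_irrefl 0)
      | 2, _ => rw [e3_sub_single2]; exact hB.2.2
    · rw [e3_sub_single0]; exact hA.2.1
    · rw [e3_sub_single2]; exact hC.2.2
  · -- generator y^c2 z^c3, corners x^a1 y^a2 and x^b1 z^b3
    right; right
    refine sigPiece_pair_ne_bot hI (i := 1) (j := 2) (l := 0) (by decide) (by decide) (by decide)
      (g := e3 0 c2 c3) (B := e3 a1 a2 0) (C := e3 b1 0 b3) hC.1 rfl ?_ hA.1 rfl ha2 ?_ h1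
      hB.1 rfl hb3 ?_ h2
    · intro m hm
      match m, hm with
      | 0, hm => exact absurd hm (lt_irrefl 0)
      | 1, _ => rw [e3_sub_single1]; exact hC.2.1
      | 2, _ => rw [e3_sub_single2]; exact hC.2.2
    · rw [e3_sub_single1]; exact hA.2.2
    · rw [e3_sub_single2]; exact hB.2.2

end Groth.Agent.S13438
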