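import Groth.Statements.S13439
import Mathlib
import Groth.Agent.Lib.Helper68.HilbSocle
import Groth.Agent.Lib.Helper68.HilbSocle2

set_option autoImplicit false
universe u
open W4c1hilbpn

namespace Groth.Agent.S13439

open W4c1hilbpn in
/-- Let k be an infinite field, S = k[x,y,z], and T(I) = Hom_S(I, S/I) graded by triples of integers (a
graded piece is indexed by its multidegree; its sign pattern records which of the three entries are
negative); let I be a strongly stable ideal of finite colength (variables ordered x > y > z). Then x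
lies in I if and only if the three graded pieces of T(I) whose sign pattern is negative at exactly
two of the three variables all vanish. (The published statement phrases the right-hand side as
smoothness of the corresponding point of the Hilbert scheme of points of affine 3-space, which for a
monomial point is equivalent to this vanishing; the row records the vanishing condition, which is
what the argument establishes.) -/
theorem result (k : Type u) [Field k] [Infinite k]
    (I : Ideal (MvPolynomial (Fin 3) k)) (hI : IsStronglyStable I) [Module.Finite k (MvPolynomial (Fin 3) k ⧸ I)] :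
    (MvPolynomial.X 0 : MvPolynomial (Fin 3) k) ∈ I ↔
      (sigPiece I ({1, 2} : Set (Fin 3)) = ⊥ ∧ sigPiece I ({0, 2} : Set (Fin 3)) = ⊥ ∧
        sigPiece I ({0, 1} : Set (Fin 3)) = ⊥) := by
  open Groth.Agent.Lib.Helper68.HilbSocle Groth.Agent.Lib.Helper92.HilbTgt
    Groth.Agent.Lib.Helper92.HilbTgtDecomp in
  have hmon : IsMonomial I := hI.1
  have hss := hI.2
  have hXiff : (MvPolynomial.X 0 : MvPolynomial (Fin 3) k) ∈ I ↔ Finsupp.single 0 1 ∈ exps I :=
    Iff.rfl
  constructor
  · intro hx0
    have hx : Finsupp.single (0 : Fin 3) 1 ∈ exps I := hXiff.mp hx0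
    refine ⟨?_, ?_, ?_⟩
    · refine iSup_eq_bot.mpr fun α => ?_
      refine tPiece_eq_bot_of_isEmpty (by norm_num) hmon ?_
      have h0 : 0 ≤ α.1 0 := by
        by_contra hneg
        have := (α.2 0).mp (not_le.mp hneg)
        simp at this
      have h1 : α.1 1 < 0 := (α.2 1).mpr (by simp)
      have h2 : α.1 2 < 0 := (α.2 2).mpr (by simp)
      exact isEmpty_BC_B hmon (i0 := 0) (i1 := 1) (i2 := 2) (by decide) (by decide) (by decide)
        hx h0 h1 h2
    · refine iSup_eq_bot.mpr fun α => ?_
      refine tPiece_eq_bot_of_isEmpty (by norm_num) hmon ?_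
      have h0 : α.1 0 < 0 := (α.2 0).mpr (by simp)
      have h2 : α.1 2 < 0 := (α.2 2).mpr (by simp)
      exact isEmpty_BC_A (by norm_num) hmon (i0 := 0) (j := 2) (by decide) hx h0 h2
    · refine iSup_eq_bot.mpr fun α => ?_
      refine tPiece_eq_bot_of_isEmpty (by norm_num) hmon ?_
      have h0 : α.1 0 < 0 := (α.2 0).mpr (by simp)
      have h1 : α.1 1 < 0 := (α.2 1).mpr (by simp)
      exact isEmpty_BC_A (by norm_num) hmon (i0 := 0) (j := 1) (by decide) hx h0 h1
  · rintro ⟨-, -, h01⟩
    by_contra hx0
    have hx : Finsupp.single (0 : Fin 3) 1 ∉ exps I := fun h => hx0 (hXiff.mpr h)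
    classical
    -- `1 ∉ I`
    have h000 : e3 0 0 0 ∉ exps I := by
      intro h
      apply hx
      have : Finsupp.single (0 : Fin 3) 1 = e3 0 0 0 + Finsupp.single 0 1 := by
        rw [e3_add_single0]; exact e3_ext (by simp) (by simp) (by simp)
      rw [this]; exact exps_add h _
    -- minimal power of z
    have hzex : ∃ t, e3 0 0 t ∈ exps I :=
      exists_mem_exps_of_injective hmon (fun t => e3 0 0 t) (fun t t' h => by
        have := DFunLike.congr_fun h 2
        simpa using this)
    set c := Nat.find hzex with hc
    have hcmem : e3 0 0 c ∈ exps I := Nat.find_spec hzex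
    have hcmin : ∀ t, t < c → e3 0 0 t ∉ exps I := fun t ht => Nat.find_min hzex ht
    have hcpos : 0 < c := by
      rcases Nat.eq_zero_or_pos c with h | h
      · rw [h] at hcmem; exact absurd hcmem h000
      · exact h
    -- minimal power of y
    have hyex : ∃ t, e3 0 t 0 ∈ exps I :=
      exists_mem_exps_of_injective hmon (fun t => e3 0 t 0) (fun t t' h => by
        have := DFunLike.congr_fun h 1
        simpa using this)
    set b := Nat.find hyex with hb
    have hbmem : e3 0 b 0 ∈ exps I := Nat.find_spec hyex
    have hbmin : ∀ t, t < b → e3 0 t 0 ∉ exps I := fun t ht => Nat.find_min hyex ht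
    have hbpos : 0 < b := by
      rcases Nat.eq_zero_or_pos b with h | h
      · rw [h] at hbmem; exact absurd hbmem h000
      · exact h
    -- x y^(b-1) ∈ I
    have hxy : e3 1 (b - 1) 0 ∈ exps I := by
      have := hss (e3 0 b 0) hbmem 0 1 (by decide) (by simpa using hbpos)
      rw [e3_sub_single1, e3_add_single0] at this
      exact this
    have hjex : ∃ t, e3 1 t 0 ∈ exps I := ⟨_, hxy⟩
    set j := Nat.find hjex with hj
    have hjmem : e3 1 j 0 ∈ exps I := Nat.find_spec hjex
    have hjmin : ∀ t, t < j → e3 1 t 0 ∉ exps I := fun t ht => Nat.find_min hjex ht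
    have hjle : j ≤ b - 1 := Nat.find_min' hjex hxy
    have hjpos : 0 < j := by
      rcases Nat.eq_zero_or_pos j with h | h
      · rw [h] at hjmem
        have : e3 1 0 0 = Finsupp.single (0 : Fin 3) 1 := by
          symm; exact e3_ext (by simp) (by simp) (by simp)
        rw [this] at hjmem
        exact absurd hjmem hx
      · exact h
    -- the socle monomial z^(c-1)
    have hγ : e3 0 0 (c - 1) ∉ exps I := hcmin _ (by omega)
    have hsoc : ∀ m, e3 0 0 (c - 1) + Finsupp.single m 1 ∈ exps I := by
      intro m
      match m with
      | 0 =>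
        have := hss (e3 0 0 c) hcmem 0 2 (by decide) (by simpa using hcpos)
        rw [e3_sub_single2, e3_add_single0] at this
        rw [e3_add_single0]; exact this
      | 1 =>
        have := hss (e3 0 0 c) hcmem 1 2 (by decide) (by simpa using hcpos)
        rw [e3_sub_single2, e3_add_single1] at this
        rw [e3_add_single1]; exact this
      | 2 =>
        rw [e3_add_single2, Nat.sub_add_cancel hcpos]; exact hcmem
    have hgmin : ∀ m, 0 < e3 1 j 0 m → e3 1 j 0 - Finsupp.single m 1 ∉ exps I := by
      intro m hm
      match m, hm with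
      | 0, _ => rw [e3_sub_single0]; exact hbmin _ (by omega)
      | 1, _ => rw [e3_sub_single1]; exact hjmin _ (by omega)
      | 2, hm => exact absurd hm (lt_irrefl 0)
    have hne : tPiece I (dif (e3 1 j 0) (e3 0 0 (c - 1))) ≠ ⊥ :=
      tPiece_ne_bot_of_socle (n := 3) (by norm_num) hmon hjmem hgmin hγ hsoc
    have hsig : ∀ m, dif (e3 1 j 0) (e3 0 0 (c - 1)) m < 0 ↔ m ∈ ({0, 1} : Set (Fin 3)) := by
      intro m
      match m with
      | 0 => simp [dif]
      | 1 => simp [dif]; omega
      | 2 => simp [dif]
    exact sigPiece_ne_bot_of_tPiece _ _ hsig hne h01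

end Groth.Agent.S13439
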