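import Groth.Statements.S1344
import Groth.Agent.S2595
import Groth.Agent.Lib.Helper55.FlatLocalDim

set_option autoImplicit false
universe u
open FlatMor

namespace Groth.Agent.S1344

open AlgebraicGeometry CategoryTheory Limits in
/-- Let f be locally of finite type between locally Noetherian schemes and Cohen–Macaulay at every
point. Then for every point x of the source with image y, the local dimension of the source at x
equals the local dimension of the target at y plus the local dimension at x of the fibre over y. -/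
theorem result {X Y : Scheme.{u}} (f : X ⟶ Y) [IsLocallyNoetherian X] [IsLocallyNoetherian Y] [LocallyOfFiniteType f]
    (hf : ∀ x : X, MoreMor.IsCMAt f x) (x : X) :
    FlatMor.localDim ↑X x = FlatMor.localDim ↑Y (f x) + FlatMor.fibreDimAt f x := by
  have hflat : Flat f := Flat.of_stalkMap f (fun z => (hf z).1)
  obtain ⟨e, U, hxU, -, h2⟩ := Groth.Agent.S2595.result f x (hf x).1 (hf x).2
  have he : FlatMor.fibreDimAt f x = e :=
    Groth.Agent.Lib.Helper55.fibreDimAt_eq_of_isEquidimAt f x h2 hxU
  set x' : ↥(U : Scheme.{u}) := ⟨x, hxU⟩ with hx'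
  have hd : ∀ y : Y, ∀ T ∈ irreducibleComponents ↥((U.ι ≫ f).fiber y),
      topologicalKrullDim ↥T = (e : WithBot ℕ∞) := by
    have gen : ∀ (p : ↥(U : Scheme.{u})) (y : Y), (U.ι ≫ f) p = y →
        ∀ T ∈ irreducibleComponents ↥((U.ι ≫ f).fiber y),
          topologicalKrullDim ↥T = (e : WithBot ℕ∞) := by
      rintro p y rfl T hT
      exact h2 p T hT
    intro y T hT
    obtain ⟨t, -⟩ := hT.1.nonempty
    have hy : (U.ι ≫ f) ((U.ι ≫ f).fiberι y t) = y := by
      have : (U.ι ≫ f).fiberι y t ∈ Set.range ((U.ι ≫ f).fiberι y) := ⟨t, rfl⟩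
      rw [(U.ι ≫ f).range_fiberι] at this
      exact this
    exact gen _ y hy T hT
  have h1 := Groth.Agent.Lib.Helper55.localDim_eq_add_of_flat_of_hasRelDim (U.ι ≫ f) e hd x'
  have h3 := Groth.Agent.Lib.Helper55.localDim_eq_of_isOpenEmbedding U.ι U.ι.isOpenEmbedding x'
  rw [he]
  change FlatMor.localDim ↥X (U.ι x') = _
  rw [← h3, h1]
  rfl

end Groth.Agent.S1344
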