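import Groth.Statements.S13440
import Mathlib
import Groth.Agent.Lib.Helper68.HilbStair

set_option autoImplicit false
universe u
open W4c1hilbpn

namespace Groth.Agent.S13440

open W4c1hilbpn in
/-- Let k be an infinite field, S = k[x,y,z], and T(I) = Hom_S(I, S/I) graded by triples of integers (a
graded piece is indexed by its multidegree; its sign pattern records which of the three entries are
negative); let I be a monomial ideal of finite colength with staircase numbers b_{i,j} = the number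
of c with x^i y^j z^c outside I. For all natural numbers a1, a2, the span of the graded pieces of
T(I) of multidegrees (a1, a2, c) with c < 0 has dimension at most the sum, over all i ≥ a1 and j ≥
a2, of b_{i,j} - max(b_{i+1,j}, b_{i,j+1}) (a sum with finitely many nonzero terms). -/
theorem result (k : Type u) [Field k] [Infinite k]
    (I : Ideal (MvPolynomial (Fin 3) k)) (hI : IsMonomial I) [Module.Finite k (MvPolynomial (Fin 3) k ⧸ I)] (a1 a2 : ℕ) :
    Module.finrank k ↥(⨆ α : {α : Fin 3 → ℤ // α 0 = (a1 : ℤ) ∧ α 1 = (a2 : ℤ) ∧ α 2 < 0}, tPiece I α.1) ≤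
      ∑ᶠ p : ℕ × ℕ, (if a1 ≤ p.1 ∧ a2 ≤ p.2
        then stairZ I p.1 p.2 - max (stairZ I (p.1 + 1) p.2) (stairZ I p.1 (p.2 + 1)) else 0) := by
  open Groth.Agent.Lib.Helper68.HilbSocle Groth.Agent.Lib.Helper92.HilbTgt
    Groth.Agent.Lib.Helper92.HilbTgtDecomp Groth.Agent.Lib.Helper92.HilbTgtPow3 in
  classical
  have h3 : 2 ≤ 3 := by norm_num
  let M : {α : Fin 3 → ℤ // α 0 = (a1 : ℤ) ∧ α 1 = (a2 : ℤ) ∧ α 2 < 0} → Submodule k (Tgt I) :=
    fun α => tPiece I α.1
  have hindep : iSupIndep M := (iSupIndep_tPiece hI).comp Subtype.val_injective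
  have hfinM : ∀ α, Module.Finite k (M α) := fun α => finite_tPiece h3 hI α.1
  refine finrank_iSup_le_of_forall_finset M hindep hfinM _ ?_
  intro B
  haveI : ∀ a : ↥B, Finite (BC I a.1.1) := fun a => finite_BC h3 hI
  -- the sum of dimensions is the number of (multidegree, bounded component) pairs
  have hsum : ∑ α ∈ B, Module.finrank k (M α) = Nat.card (Σ a : ↥B, BC I a.1.1) := by
    rw [Nat.card_sigma, ← Finset.sum_coe_sort B]
    refine Finset.sum_congr rfl fun a _ => ?_
    exact finrank_tPiece h3 hI a.1.1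
  -- bounds for the support of the staircase numbers
  obtain ⟨Nx, hNx⟩ : ∃ t, e3 t 0 0 ∈ exps I :=
    exists_mem_exps_of_injective hI (fun t => e3 t 0 0) (fun t t' h => by
      have := DFunLike.congr_fun h 0
      simpa using this)
  obtain ⟨Ny, hNy⟩ : ∃ t, e3 0 t 0 ∈ exps I :=
    exists_mem_exps_of_injective hI (fun t => e3 0 t 0) (fun t t' h => by
      have := DFunLike.congr_fun h 1
      simpa using this)
  have hsupp : ∀ p q : ℕ, stairZ I p q ≠ 0 → p < Nx ∧ q < Ny := by
    intro p q hne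
    constructor
    · by_contra hle
      exact hne (stair_eq_zero_of_mem hI
        (exps_of_le hNx (e3_le_e3 (not_lt.mp hle) (Nat.zero_le _) le_rfl)))
    · by_contra hle
      exact hne (stair_eq_zero_of_mem hI
        (exps_of_le hNy (e3_le_e3 (Nat.zero_le _) (not_lt.mp hle) le_rfl)))
  -- the finite target set
  let P : Finset (ℕ × ℕ) := Finset.range Nx ×ˢ Finset.range Ny
  let fT : ℕ × ℕ → Finset ℕ := fun p =>
    if a1 ≤ p.1 ∧ a2 ≤ p.2 then
      Finset.Ico (max (stairZ I (p.1 + 1) p.2) (stairZ I p.1 (p.2 + 1))) (stairZ I p.1 p.2)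
    else ∅
  let T : Finset (Σ _ : ℕ × ℕ, ℕ) := P.sigma fT
  have hT : T.card = ∑ᶠ p : ℕ × ℕ, (if a1 ≤ p.1 ∧ a2 ≤ p.2
      then stairZ I p.1 p.2 - max (stairZ I (p.1 + 1) p.2) (stairZ I p.1 (p.2 + 1)) else 0) := by
    rw [Finset.card_sigma, finsum_eq_sum_of_support_subset (s := P)]
    · refine Finset.sum_congr rfl fun p _ => ?_
      simp only [fT]
      split_ifs
      · exact Nat.card_Ico _ _
      · exact Finset.card_empty
    · intro p hp
      rw [Function.mem_support] at hp
      have hne : stairZ I p.1 p.2 ≠ 0 := by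
        intro h0
        apply hp
        split_ifs
        · rw [h0]; exact Nat.zero_sub _
        · rfl
      obtain ⟨hx, hy⟩ := hsupp p.1 p.2 hne
      simp only [P, Finset.coe_product, Finset.coe_range, Set.mem_prod, Set.mem_Iio]
      exact ⟨hx, hy⟩
  -- corner points
  choose v hvU hvnn hvP1 hvP2 hvP3 using
    fun (a : ↥B) (U : BC I a.1.1) => exists_corner hI a.1.2.2.2 U
  have hdata := fun (a : ↥B) (U : BC I a.1.1) =>
    corner_data hI a.1.2.1 a.1.2.2.1 a.1.2.2.2 (v a U) (hvnn a U) (hvP1 a U) (hvP2 a U) (hvP3 a U)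
  let Φ : (Σ a : ↥B, BC I a.1.1) → (Σ _ : ℕ × ℕ, ℕ) := fun x =>
    ⟨(natPart (v x.1 x.2).1 0, natPart (v x.1 x.2).1 1), natPart (v x.1 x.2).1 2⟩
  have hΦT : ∀ x, Φ x ∈ T := by
    rintro ⟨a, U⟩
    obtain ⟨d1, d2, d3, d4, d5, -⟩ := hdata a U
    have hne : stairZ I (natPart (v a U).1 0) (natPart (v a U).1 1) ≠ 0 := by omega
    obtain ⟨hx, hy⟩ := hsupp _ _ hne
    simp only [T, Φ, Finset.mem_sigma, P, Finset.mem_product, Finset.mem_range, fT]
    refine ⟨⟨hx, hy⟩, ?_⟩
    rw [if_pos ⟨d1, d2⟩, Finset.mem_Ico]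
    exact ⟨max_le d3 d4, d5⟩
  have hΦinj : Function.Injective Φ := by
    rintro ⟨a, U⟩ ⟨a', U'⟩ h
    have hp : natPart (v a U).1 0 = natPart (v a' U').1 0 ∧
        natPart (v a U).1 1 = natPart (v a' U').1 1 ∧
        natPart (v a U).1 2 = natPart (v a' U').1 2 := by
      simp only [Φ, Sigma.mk.injEq, Prod.mk.injEq, heq_eq_eq] at h
      exact ⟨h.1.1, h.1.2, h.2⟩
    obtain ⟨hp0, hp1, hp2⟩ := hp
    have hα2 : a.1.1 2 = a'.1.1 2 := by
      rw [(hdata a U).2.2.2.2.2, (hdata a' U').2.2.2.2.2, hp0, hp1, hp2]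
    have haa : a = a' := by
      apply Subtype.ext
      apply Subtype.ext
      funext m
      match m with
      | 0 => rw [a.1.2.1, a'.1.2.1]
      | 1 => rw [a.1.2.2.1, a'.1.2.2.1]
      | 2 => exact hα2
    subst haa
    have hnat : natPart (v a U).1 = natPart (v a U').1 := by
      ext m
      match m with
      | 0 => exact hp0
      | 1 => exact hp1
      | 2 => exact hp2
    have hvv : v a U = v a U' :=
      Subtype.ext (natPart_inj (hvnn a U) (hvnn a U') hnat)
    have hUU : U = U' := by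
      apply Subtype.ext
      have e1 : (RG I a.1.1).connectedComponentMk (v a U) = U.1 := hvU a U
      have e2 : (RG I a.1.1).connectedComponentMk (v a U') = U'.1 := hvU a U'
      rw [← e1, ← e2, hvv]
    rw [hUU]
  -- counting
  rw [hsum, ← hT]
  let Φ' : (Σ a : ↥B, BC I a.1.1) → ↥T := fun x => ⟨Φ x, hΦT x⟩
  have hΦ'inj : Function.Injective Φ' := fun x y h => hΦinj (congrArg Subtype.val h)
  have := Nat.card_le_card_of_injective Φ' hΦ'inj
  have hcardT : Nat.card ↥T = T.card := by rw [Nat.card_eq_fintype_card, Fintype.card_coe]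
  rw [hcardT] at this
  exact this

end Groth.Agent.S13440
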