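import Groth.Statements.S13451
import Mathlib
import Groth.Agent.Lib.Helper63.TwoPlanes
-- import your own Groth.Agent.* helpers here

set_option autoImplicit false
universe u
open W4c1hilbpn

namespace Groth.Agent.S13451

open W4c1hilbpn in
/-- Let k be an algebraically closed field of characteristic different from 2, S = k[x_0, ..., x_n] with
its standard grading, 2 ≤ c ≤ d with n ≥ c + d, and I = (x_0, ..., x_{c-1})·(x_{n-d+1}, ..., x_n),
the ideal of the union of two coordinate linear spaces of codimensions c and d meeting transversely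
and not spanning the ambient space. Then the degree-0 homomorphisms Hom_S(I, S/I)_0 form a space of
dimension c(n-c+1) + d(n-d+1). (The published statement gives this number as the dimension of the
tangent space to the Hilbert scheme at the pair of planes, for every n; the row records the count of
degree-0 homomorphisms in the non-spanning range n ≥ c + d, where that tangent space is Hom_S(I,
S/I)_0.) -/
theorem result (k : Type u) [Field k] [IsAlgClosed k] (hchar : ringChar k ≠ 2)
    (n c d : ℕ) (hc : 2 ≤ c) (hcd : c ≤ d) (hn : c + d ≤ n) :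
    Module.finrank k ↥(⨆ α : {α : Fin (n + 1) → ℤ // ∑ i, α i = 0},
      tPiece (Ideal.span {f : MvPolynomial (Fin (n + 1)) k | ∃ i j : Fin (n + 1), i.val + 1 ≤ c ∧ n + 1 ≤ j.val + d ∧
        f = MvPolynomial.X i * MvPolynomial.X j}) α.1) = c * (n - c + 1) + d * (n - d + 1) := by
  classical
  obtain ⟨A, hA⟩ : ∃ A : Finset (Fin (n + 1)), A = Finset.univ.filter (fun i => i.val < c) :=
    ⟨_, rfl⟩
  obtain ⟨B, hB⟩ : ∃ B : Finset (Fin (n + 1)), B = Finset.univ.filter (fun j => ¬ j.val < n + 1 - d) :=
    ⟨_, rfl⟩
  have hAmem : ∀ i : Fin (n + 1), i ∈ A ↔ i.val + 1 ≤ c := by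
    intro i
    rw [hA, Finset.mem_filter]
    simp only [Finset.mem_univ, true_and]
    omega
  have hBmem : ∀ j : Fin (n + 1), j ∈ B ↔ n + 1 ≤ j.val + d := by
    intro j
    rw [hB, Finset.mem_filter]
    simp only [Finset.mem_univ, true_and]
    omega
  have hAcard : A.card = c := by
    rw [hA, Fin.card_filter_val_lt]
    omega
  have hBcard : B.card = d := by
    have h1 := Finset.card_filter_add_card_filter_not (s := (Finset.univ : Finset (Fin (n + 1))))
      (fun j : Fin (n + 1) => j.val < n + 1 - d)
    rw [Fin.card_filter_val_lt, Finset.card_univ, Fintype.card_fin] at h1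
    rw [hB]
    omega
  have hAB : Disjoint A B := by
    rw [Finset.disjoint_left]
    intro i hi hi'
    rw [hAmem] at hi
    rw [hBmem] at hi'
    omega
  have hideal : Ideal.span {f : MvPolynomial (Fin (n + 1)) k | ∃ i j : Fin (n + 1),
      i.val + 1 ≤ c ∧ n + 1 ≤ j.val + d ∧ f = MvPolynomial.X i * MvPolynomial.X j} =
      Groth.Agent.Lib.Helper63.TwoPlanes.J k A B := by
    unfold Groth.Agent.Lib.Helper63.TwoPlanes.J
    congr 1
    ext f
    constructor
    · rintro ⟨i, j, hi, hj, rfl⟩
      exact ⟨i, (hAmem i).mpr hi, j, (hBmem j).mpr hj, rfl⟩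
    · rintro ⟨i, hi, j, hj, rfl⟩
      exact ⟨i, j, (hAmem i).mp hi, (hBmem j).mp hj, rfl⟩
  rw [hideal, Groth.Agent.Lib.Helper63.TwoPlanes.finrank_deg_zero hAB (by omega) (by omega),
    hAcard, hBcard]
  have h1 : n + 1 - c = n - c + 1 := by omega
  have h2 : n + 1 - d = n - d + 1 := by omega
  rw [h1, h2]

end Groth.Agent.S13451
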