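import Groth.Statements.S13501
import Mathlib
import Groth.Agent.Lib.Helper43.ConstrColim

set_option autoImplicit false
universe u
open CategoryTheory CategoryTheory.Limits AlgebraicGeometry Opposite
open EtPBC

namespace Groth.Agent.S13501

open Groth.Agent.Lib.Helper43.ConstrColim Groth.Agent.Lib.Helper43.EtConstrSerre
  Groth.Agent.Lib.Helper43.EtConstrStalk


/-- Let X be a quasi-compact and quasi-separated scheme and F a torsion abelian sheaf on X_et. If Hom(F,
-) commutes with filtered colimits (of shape any small filtered category in the universe of the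
sheaf category's morphisms), then F is constructible. This is the converse of the compactness of
constructible sheaves. -/
theorem result (X : Scheme.{u}) [CompactSpace X]
    [QuasiSeparatedSpace X] (F : EtCoh.Ab X) (hF : EtCoh.IsTorsion F)
    (hc : ∀ (J : Type (u + 1)) [SmallCategory J] [IsFiltered J],
      PreservesColimitsOfShape J (coyoneda.obj (op F))) :
    EtPBC.IsConstructible F := by
  have := hc (PO F)
  have hcol := isColimitOfPreserves (coyoneda.obj (op F)) (isColimitCoconeF F hF)
  obtain ⟨p, s₀, hs⟩ := Types.jointly_surjective_of_isColimit hcol (𝟙 F)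
  have key : ∃ s : F ⟶ p.P.obj, s ≫ p.f = 𝟙 F := ⟨s₀, hs⟩
  obtain ⟨s, hs'⟩ := key
  let e : p.P.obj ⟶ p.P.obj := p.f ≫ s
  have hK : EtPBC.IsConstructible (kernel (𝟙 p.P.obj - e)) :=
    (constructible_kernel_cokernel _ p.P.constructible p.P.constructible).1
  have h0 : s ≫ (𝟙 p.P.obj - e) = 0 := by
    rw [Preadditive.comp_sub, Category.comp_id, ← Category.assoc, hs', Category.id_comp, sub_self]
  have h1 : kernel.ι (𝟙 p.P.obj - e) ≫ e = kernel.ι (𝟙 p.P.obj - e) := by
    have := kernel.condition (𝟙 p.P.obj - e)
    rw [Preadditive.comp_sub, Category.comp_id, sub_eq_zero] at this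
    exact this.symm
  refine constructible_of_iso (F := kernel (𝟙 p.P.obj - e)) ?_ hK
  refine ⟨kernel.ι _ ≫ p.f, kernel.lift _ s h0, ?_, ?_⟩
  · rw [← cancel_mono (kernel.ι (𝟙 p.P.obj - e)), Category.assoc, kernel.lift_ι, Category.assoc,
      Category.id_comp]
    exact h1
  · rw [← Category.assoc, kernel.lift_ι, hs']

end Groth.Agent.S13501
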