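import Groth.Statements.S13509
import Groth.Agent.Lib.Helper69.FibSite2

set_option autoImplicit false
universe v₁ u₁ v₂ u₂ v₃ u₃
open CategoryTheory Opposite Pseudofunctor.CoGrothendieck
open FibSite

namespace Groth.Agent.S13509

/-- For a fibred category `F` over `𝒮` with topologies `J` on its fibres all of whose inverse-image
functors are continuous, the topology induced on the fibre over `S` by the total topology (the
finest topology on `F(S)` for which the fibre inclusion is continuous towards the topology generated
by the coverings of the fibres) is `J S` itself. (The published statement is for fibred sites; its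
proof uses only the continuity of the inverse-image functors.) -/
theorem result {𝒮 : Type u₁} [Category.{v₁} 𝒮]
    (F : Pseudofunctor (LocallyDiscrete 𝒮ᵒᵖ) Cat.{v₂, u₂}) (J : FibSite.Topologies F)
    (hF : FibSite.IsPreFibSite F J) (S : 𝒮) :
    (ι F S).inducedTopology (FibSite.totalTopology F J) = J S := by
  apply le_antisymm
  · intro U T hT
    have hcp : CoverPreserving ((ι F S).inducedTopology (FibSite.totalTopology F J))
        (FibSite.totalTopology F J) (ι F S) := CoverPreserving.of_isContinuous _ _ _
    have h1 := hcp.cover_preserve hT
    obtain ⟨R, hR, hle⟩ : ∃ R ∈ J S U, Sieve.functorPushforward (ι F S) R ≤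
        Sieve.functorPushforward (ι F S) T :=
      (Groth.Agent.Lib.Helper69.mem_totalTopology_iff F J hF _ _).mp h1
    refine (J S).superset_covering ?_ hR
    intro W r hr
    obtain ⟨W', t, k, ht, hfac⟩ := hle _ (Sieve.image_mem_functorPushforward _ _ hr)
    have hk : k.base = 𝟙 S := by
      have h2 : (𝟙 S : S ⟶ S) = k.base ≫ 𝟙 S := congrArg Hom.base hfac
      exact (Category.comp_id _).symm.trans h2.symm
    obtain ⟨k', rfl⟩ := Groth.Agent.Lib.Helper69.exists_ι_map_eq F k hk
    rw [← Functor.map_comp] at hfac
    have := (ι F S).map_injective hfac
    rw [this]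
    exact T.downward_closed ht k'
  · rw [Functor.le_inducedTopology_iff]
    exact ⟨fun G => Groth.Agent.Lib.Helper69.isSheaf_ι_op_comp F J hF
      ((isSheaf_iff_isSheaf_of_type _ _).1 G.2) S⟩

end Groth.Agent.S13509
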