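import Groth.Statements.S1351
import Groth.Agent.Lib.Helper12.NagataLocal

set_option autoImplicit false
universe u
open FlatMor

namespace Groth.Agent.S1351

/-- Let A be a valuation ring, A → B a local homomorphism of local rings essentially of finite type, and
u : N → M a B-linear map of finite B-modules with M flat over A. If u is injective after tensoring
with the residue field of A (that is, modulo the maximal ideal of A), then u is injective and its
cokernel is flat over A. -/
theorem result {A B : Type u} [CommRing A] [IsDomain A] [ValuationRing A] [CommRing B] [IsLocalRing B]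
    [Algebra A B] [IsLocalHom (algebraMap A B)] [Algebra.EssFiniteType A B]
    {N M : Type u} [AddCommGroup N] [Module B N] [Module A N] [IsScalarTower A B N] [Module.Finite B N]
    [AddCommGroup M] [Module B M] [Module A M] [IsScalarTower A B M] [Module.Finite B M] [Module.Flat A M]
    (u : N →ₗ[B] M)
    (hu : Function.Injective (Submodule.mapQ (IsLocalRing.maximalIdeal A • ⊤ : Submodule A N) (IsLocalRing.maximalIdeal A • ⊤ : Submodule A M) (u.restrictScalars A)
      (fun n hn => Submodule.smul_top_le_comap_smul_top _ _ hn))) :
    Function.Injective u ∧ Module.Flat A (M ⧸ LinearMap.range u) := by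
  classical
  obtain ⟨B₀, _, _, _, _, _, hsurj, hefp, _⟩ :=
    Groth.Agent.Lib.Helper12.NagataLocal.exists_localModel A B
  letI : Module B₀ M := Module.compHom M (algebraMap B₀ B)
  letI : Module B₀ N := Module.compHom N (algebraMap B₀ B)
  have hsM : ∀ (s : B₀) (x : M), s • x = algebraMap B₀ B s • x := fun _ _ => rfl
  have hsN : ∀ (s : B₀) (x : N), s • x = algebraMap B₀ B s • x := fun _ _ => rfl
  haveI : IsScalarTower B₀ B M := ⟨fun s b x => by
    show (s • b) • x = algebraMap B₀ B s • (b • x)
    rw [Algebra.smul_def, mul_smul]⟩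
  haveI : IsScalarTower B₀ B N := ⟨fun s b x => by
    show (s • b) • x = algebraMap B₀ B s • (b • x)
    rw [Algebra.smul_def, mul_smul]⟩
  haveI : IsScalarTower A B₀ M := ⟨fun a s x => by
    show algebraMap B₀ B (a • s) • x = a • (algebraMap B₀ B s • x)
    rw [Algebra.smul_def, map_mul, mul_smul, ← IsScalarTower.algebraMap_apply,
      algebraMap_smul B a (algebraMap B₀ B s • x)]⟩
  haveI : IsScalarTower A B₀ N := ⟨fun a s x => by
    show algebraMap B₀ B (a • s) • x = a • (algebraMap B₀ B s • x)
    rw [Algebra.smul_def, map_mul, mul_smul, ← IsScalarTower.algebraMap_apply,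
      algebraMap_smul B a (algebraMap B₀ B s • x)]⟩
  haveI : Module.Finite B₀ B := Module.Finite.of_surjective (Algebra.linearMap B₀ B) hsurj
  haveI : Module.Finite B₀ M := Module.Finite.trans B M
  haveI : Module.Finite B₀ N := Module.Finite.trans B N
  haveI : IsLocalHom (algebraMap B₀ B) := IsLocalHom.of_surjective _ hsurj
  haveI : IsLocalHom (algebraMap A B₀) := by
    haveI : IsLocalHom ((algebraMap B₀ B).comp (algebraMap A B₀)) := by
      rw [← IsScalarTower.algebraMap_eq]; infer_instance
    exact isLocalHom_of_comp (algebraMap A B₀) (algebraMap B₀ B)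
  let u₀ : N →ₗ[B₀] M := u.restrictScalars B₀
  have hu₀ : ∀ x : N, u₀ x ∈ IsLocalRing.maximalIdeal A • (⊤ : Submodule A M) →
      x ∈ IsLocalRing.maximalIdeal A • (⊤ : Submodule A N) := by
    intro x hx
    have h2 := @hu (Submodule.Quotient.mk x) 0 (by
      rw [Submodule.mapQ_apply, map_zero, Submodule.Quotient.mk_eq_zero]
      exact hx)
    exact (Submodule.Quotient.mk_eq_zero _).mp h2
  have key := Groth.Agent.Lib.Helper12.NagataLocal.injective_and_flat_coker hefp u₀ hu₀
  refine ⟨key.1, ?_⟩
  haveI := key.2
  have heq : (LinearMap.range u).restrictScalars A = (LinearMap.range u₀).restrictScalars A := by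
    ext x
    simp [u₀]
  exact Module.Flat.of_linearEquiv
    ((Submodule.Quotient.restrictScalarsEquiv A (LinearMap.range u)).symm ≪≫ₗ
      Submodule.quotEquivOfEq _ _ heq ≪≫ₗ
      Submodule.Quotient.restrictScalarsEquiv A (LinearMap.range u₀))

end Groth.Agent.S1351
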