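import Groth.Statements.S13514
import Groth.Agent.Lib.Helper31.FibSiteKan
import Groth.Agent.S13510
import Mathlib.CategoryTheory.Limits.Preserves.Finite

set_option autoImplicit false
universe u
open CategoryTheory CategoryTheory.Limits Opposite Pseudofunctor.CoGrothendieck
open FibSite

namespace Groth.Agent.S13514

section Helpers

open CategoryTheory CategoryTheory.Limits Opposite Pseudofunctor.CoGrothendieck

/-- The restrictions to the fibres jointly reflect the preservation of finite limits. -/
theorem preservesFiniteLimits_of_restr {𝒮 : Type u} [SmallCategory 𝒮]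
    (F : Pseudofunctor (LocallyDiscrete 𝒮ᵒᵖ) Cat.{u, u}) (J : FibSite.Topologies F)
    [∀ S : 𝒮, (ι F S).IsContinuous (J S) (FibSite.totalTopology F J)]
    {E : Type (u + 1)} [Category.{u} E] (G : E ⥤ FibSite.TotSh F J (Type u))
    (h : ∀ j : 𝒮, PreservesFiniteLimits (G ⋙ FibSite.restr F J (Type u) j)) :
    PreservesFiniteLimits G := by
  refine ⟨fun D _ _ => ⟨fun {K} => ⟨fun {c} hc => ⟨?_⟩⟩⟩⟩
  apply isLimitOfReflects (sheafToPresheaf (FibSite.totalTopology F J) (Type u))
  apply evaluationJointlyReflectsLimits
  intro X
  have h1 : IsLimit ((G ⋙ FibSite.restr F J (Type u) X.unop.base).mapCone c) :=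
    isLimitOfPreserves _ hc
  have h2 := isLimitOfPreserves (sheafToPresheaf (J X.unop.base) (Type u) ⋙
    (evaluation _ _).obj (op X.unop.fiber)) h1
  exact h2

end Helpers


/-- Let `F` be a fibred site over a small category `𝒮` with small fibres (every inverse-image functor is
a morphism of sites) and let `i` be a final object of `𝒮`. Then the left adjoint `α_{i!}` of the
restriction of sheaves of sets from the total site to the fibre over `i` is left exact (it preserves
finite limits), so that the pair (`α_{i!}`, restriction) is a morphism of topoi from the total topos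
to the topos of the fibre. The continuity of the fibre inclusion and the existence of the left
adjoint are carried as instance hypotheses. -/
theorem result {𝒮 : Type u} [SmallCategory 𝒮]
    (F : Pseudofunctor (LocallyDiscrete 𝒮ᵒᵖ) Cat.{u, u}) (J : FibSite.Topologies F)
    (hF : FibSite.IsFibSite F J) (i : 𝒮) (hi : IsTerminal i)
    [(ι F i).IsContinuous (J i) (FibSite.totalTopology F J)]
    [((ι F i).sheafPushforwardContinuous (Type u) (J i) (FibSite.totalTopology F J)).IsRightAdjoint] :
    PreservesFiniteLimits (FibSite.extend F J (Type u) i) := by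
  have hpre := hF.isPreFibSite
  have hcont : ∀ S : 𝒮, (ι F S).IsContinuous (J S) (FibSite.totalTopology F J) := fun S =>
    ⟨fun G => Groth.Agent.Lib.Helper69.isSheaf_ι_op_comp F J hpre
      ((isSheaf_iff_isSheaf_of_type _ _).1 G.2) S⟩
  apply preservesFiniteLimits_of_restr F J
  intro j
  have hco : (ι F j).IsCocontinuous (J j) (FibSite.totalTopology F J) :=
    Groth.Agent.S13510.result F J hpre j
  have hP : ∀ (P : (F.obj ⟨op j⟩)ᵒᵖ ⥤ Type u), (ι F j).op.HasPointwiseRightKanExtension P :=
    fun P => inferInstance
  let f : j ⟶ i := hi.from j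
  obtain ⟨hc, hra, hpres⟩ := hF f
  have hcs : ∀ g : j ⟶ i, (FibSite.invImage F g).IsContinuous (J i) (J j) := fun g => hpre g
  let adj₁ := ((ι F i).sheafAdjunctionContinuous (Type u) (J i) (FibSite.totalTopology F J)).comp
    ((ι F j).sheafAdjunctionCocontinuous (Type u) (J j) (FibSite.totalTopology F J))
  let adj₂ := (FibSite.invImage F f).sheafAdjunctionContinuous (Type u) (J i) (J j)
  let π := Groth.Agent.Lib.Helper31.FibSiteKan.proj F J (s := j) (t := i) f
  have hiso : ∀ d, IsIso (π.app d) := by
    intro d
    let _ : Unique (j ⟶ i) := ⟨⟨f⟩, fun g => hi.hom_ext _ _⟩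
    have hl := Groth.Agent.Lib.Helper31.FibSiteKan.isLimitProjFan F J (s := j) (t := i) d
    exact (IsLimit.conePointUniqueUpToIso hl (limitConeOfUnique _).isLimit).isIso_hom
  have : IsIso π := NatIso.isIso_of_isIso_app π
  let e := (conjugateIsoEquiv adj₁ adj₂).symm (asIso π)
  exact preservesFiniteLimits_of_natIso e

end Groth.Agent.S13514
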