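import Groth.Statements.S13515
import Groth.Agent.Lib.Helper31.FibSiteMap
import Groth.Agent.S13510
import Groth.Agent.S13512
import Groth.Agent.S13514

set_option autoImplicit false
universe u
open CategoryTheory CategoryTheory.Limits Opposite Pseudofunctor.CoGrothendieck
open scoped CategoryTheory.Pseudofunctor.StrongTrans
open FibSite

namespace Groth.Agent.S13515

/-- Let `F` and `G` be fibred sites over a small category `𝒮` with small fibres and let `α : G ⟶ F` be a
strong transformation of pseudofunctors, i.e. a cartesian functor `∫ᶜ G ⥤ ∫ᶜ F` over `𝒮`, which is a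
morphism of fibred sites: on each fibre the functor `α_S : G(S) ⥤ F(S)` is a morphism of sites from
`(F(S), J S)` to `(G(S), K S)` (continuous, with left exact inverse image on sheaves of sets). Then
the induced functor between the total categories is a morphism of sites from the total site of `F`
to the total site of `G`: it is continuous for the total topologies and the inverse image of sheaves
of sets along it exists and is left exact. -/
theorem result {𝒮 : Type u} [SmallCategory 𝒮]
    (F G : Pseudofunctor (LocallyDiscrete 𝒮ᵒᵖ) Cat.{u, u}) (J : FibSite.Topologies F) (K : FibSite.Topologies G)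
    (hF : FibSite.IsFibSite F J) (hG : FibSite.IsFibSite G K) (α : G ⟶ F)
    (hα : ∀ S : 𝒮, ∃ (_ : (α.app ⟨op S⟩).toFunctor.IsContinuous (K S) (J S))
      (_ : ((α.app ⟨op S⟩).toFunctor.sheafPushforwardContinuous (Type u) (K S) (J S)).IsRightAdjoint),
      PreservesFiniteLimits ((α.app ⟨op S⟩).toFunctor.sheafPullback (Type u) (K S) (J S))) :
    ∃ (_ : (Pseudofunctor.CoGrothendieck.map α).IsContinuous
        (FibSite.totalTopology G K) (FibSite.totalTopology F J))
      (_ : ((Pseudofunctor.CoGrothendieck.map α).sheafPushforwardContinuous (Type u)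
        (FibSite.totalTopology G K) (FibSite.totalTopology F J)).IsRightAdjoint),
      PreservesFiniteLimits ((Pseudofunctor.CoGrothendieck.map α).sheafPullback (Type u)
        (FibSite.totalTopology G K) (FibSite.totalTopology F J)) := by
  have hpreF := hF.isPreFibSite
  have hpreG := hG.isPreFibSite
  have hcontF : ∀ S : 𝒮, (ι F S).IsContinuous (J S) (FibSite.totalTopology F J) := fun S =>
    ⟨fun P => Groth.Agent.Lib.Helper69.isSheaf_ι_op_comp F J hpreF
      ((isSheaf_iff_isSheaf_of_type _ _).1 P.2) S⟩
  have hcontG : ∀ S : 𝒮, (ι G S).IsContinuous (K S) (FibSite.totalTopology G K) := fun S =>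
    ⟨fun P => Groth.Agent.Lib.Helper69.isSheaf_ι_op_comp G K hpreG
      ((isSheaf_iff_isSheaf_of_type _ _).1 P.2) S⟩
  have hαc : ∀ S : 𝒮, (α.app ⟨op S⟩).toFunctor.IsContinuous (K S) (J S) := fun S => (hα S).1
  have hm : (Pseudofunctor.CoGrothendieck.map α).IsContinuous
      (FibSite.totalTopology G K) (FibSite.totalTopology F J) := by
    rw [Groth.Agent.S13512.result G K hpreG (FibSite.totalTopology F J)]
    intro S
    have : ((α.app ⟨op S⟩).toFunctor ⋙ ι F S).IsContinuous (K S) (FibSite.totalTopology F J) :=
      Functor.isContinuous_comp _ _ (K S) (J S) (FibSite.totalTopology F J)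
    exact Functor.isContinuous_of_iso (Groth.Agent.Lib.Helper31.FibSiteMap.ιMapIso α S).symm
      (K S) (FibSite.totalTopology F J)
  refine ⟨hm, inferInstance, ?_⟩
  apply Groth.Agent.S13514.preservesFiniteLimits_of_restr F J
  intro j
  have hcoF : (ι F j).IsCocontinuous (J j) (FibSite.totalTopology F J) :=
    Groth.Agent.S13510.result F J hpreF j
  have hcoG : (ι G j).IsCocontinuous (K j) (FibSite.totalTopology G K) :=
    Groth.Agent.S13510.result G K hpreG j
  have hPF : ∀ (P : (F.obj ⟨op j⟩)ᵒᵖ ⥤ Type u), (ι F j).op.HasPointwiseRightKanExtension P :=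
    fun P => inferInstance
  have hPG : ∀ (P : (G.obj ⟨op j⟩)ᵒᵖ ⥤ Type u), (ι G j).op.HasPointwiseRightKanExtension P :=
    fun P => inferInstance
  obtain ⟨_, hra, hpres⟩ := hα j
  let adj₁ := ((Pseudofunctor.CoGrothendieck.map α).sheafAdjunctionContinuous (Type u)
      (FibSite.totalTopology G K) (FibSite.totalTopology F J)).comp
    ((ι F j).sheafAdjunctionCocontinuous (Type u) (J j) (FibSite.totalTopology F J))
  let adj₂ := ((ι G j).sheafAdjunctionCocontinuous (Type u) (K j) (FibSite.totalTopology G K)).comp
    ((α.app ⟨op j⟩).toFunctor.sheafAdjunctionContinuous (Type u) (K j) (J j))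
  let e := (conjugateIsoEquiv adj₁ adj₂).symm
    (asIso (Groth.Agent.Lib.Helper31.FibSiteMap.baseChange.{u} α J K (j := j)))
  have h1 : PreservesFiniteLimits (FibSite.restr G K (Type u) j ⋙
      (α.app ⟨op j⟩).toFunctor.sheafPullback (Type u) (K j) (J j)) :=
    comp_preservesFiniteLimits _ _
  exact preservesFiniteLimits_of_natIso e

end Groth.Agent.S13515
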