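import Groth.Statements.S13516
import Groth.Agent.Lib.Helper31.FibSiteFibre
import Mathlib.CategoryTheory.Limits.Preserves.Finite
import Mathlib.CategoryTheory.Limits.Constructions.FiniteProductsOfBinaryProducts
import Mathlib.CategoryTheory.Limits.Constructions.LimitsOfProductsAndEqualizers

set_option autoImplicit false
universe u
open CategoryTheory CategoryTheory.Limits Opposite Pseudofunctor.CoGrothendieck
open scoped CategoryTheory.Pseudofunctor.StrongTrans
open FibSite

namespace Groth.Agent.S13516

/-- Let `F` and `G` be fibred sites over a small category `𝒮` with small fibres and let `α : G ⟶ F` be a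
strong transformation of pseudofunctors, i.e. a cartesian functor `∫ᶜ G ⥤ ∫ᶜ F` over `𝒮`. If the
induced functor between the total categories is a morphism of sites from the total site of `F` to
the total site of `G` (continuous, with left exact inverse image on sheaves of sets), then `α` is a
morphism of fibred sites: for every `S` the fibre functor `α_S : G(S) ⥤ F(S)` is a morphism of sites
from `(F(S), J S)` to `(G(S), K S)`. (The published statement is for an arbitrary functor over `𝒮`
between the total categories; this row takes a cartesian one.) -/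
theorem result {𝒮 : Type u} [SmallCategory 𝒮]
    (F G : Pseudofunctor (LocallyDiscrete 𝒮ᵒᵖ) Cat.{u, u}) (J : FibSite.Topologies F) (K : FibSite.Topologies G)
    (hF : FibSite.IsFibSite F J) (hG : FibSite.IsFibSite G K) (α : G ⟶ F)
    (hα : ∃ (_ : (Pseudofunctor.CoGrothendieck.map α).IsContinuous
        (FibSite.totalTopology G K) (FibSite.totalTopology F J))
      (_ : ((Pseudofunctor.CoGrothendieck.map α).sheafPushforwardContinuous (Type u)
        (FibSite.totalTopology G K) (FibSite.totalTopology F J)).IsRightAdjoint),
      PreservesFiniteLimits ((Pseudofunctor.CoGrothendieck.map α).sheafPullback (Type u)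
        (FibSite.totalTopology G K) (FibSite.totalTopology F J))) (S : 𝒮) :
    ∃ (_ : (α.app ⟨op S⟩).toFunctor.IsContinuous (K S) (J S))
      (_ : ((α.app ⟨op S⟩).toFunctor.sheafPushforwardContinuous (Type u) (K S) (J S)).IsRightAdjoint),
      PreservesFiniteLimits ((α.app ⟨op S⟩).toFunctor.sheafPullback (Type u) (K S) (J S)) := by
  obtain ⟨hm, hmra, hmpres⟩ := hα
  have hpreF := hF.isPreFibSite
  have hpreG := hG.isPreFibSite
  have hcontF : ∀ S : 𝒮, (ι F S).IsContinuous (J S) (FibSite.totalTopology F J) := fun S =>
    ⟨fun P => Groth.Agent.Lib.Helper69.isSheaf_ι_op_comp F J hpreF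
      ((isSheaf_iff_isSheaf_of_type _ _).1 P.2) S⟩
  have hcontG : ∀ S : 𝒮, (ι G S).IsContinuous (K S) (FibSite.totalTopology G K) := fun S =>
    ⟨fun P => Groth.Agent.Lib.Helper69.isSheaf_ι_op_comp G K hpreG
      ((isSheaf_iff_isSheaf_of_type _ _).1 P.2) S⟩
  have hcoF : ∀ S : 𝒮, (ι F S).IsCocontinuous (J S) (FibSite.totalTopology F J) := fun S =>
    Groth.Agent.S13510.result F J hpreF S
  have hcoG : ∀ S : 𝒮, (ι G S).IsCocontinuous (K S) (FibSite.totalTopology G K) := fun S =>
    Groth.Agent.S13510.result G K hpreG S
  have hinvF : ∀ (R S : 𝒮) (f : R ⟶ S), (FibSite.invImage F f).IsContinuous (J S) (J R) :=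
    fun R S f => hpreF f
  have hinvG : ∀ (R S : 𝒮) (f : R ⟶ S), (FibSite.invImage G f).IsContinuous (K S) (K R) :=
    fun R S f => hpreG f
  have hraF : ∀ S : 𝒮, ((ι F S).sheafPushforwardContinuous (Type u) (J S)
      (FibSite.totalTopology F J)).IsRightAdjoint := fun S => inferInstance
  have hraG : ∀ S : 𝒮, ((ι G S).sheafPushforwardContinuous (Type u) (K S)
      (FibSite.totalTopology G K)).IsRightAdjoint := fun S => inferInstance
  have hrainvF : ∀ (R S : 𝒮) (f : R ⟶ S),
      ((FibSite.invImage F f).sheafPushforwardContinuous (Type u) (J S) (J R)).IsRightAdjoint :=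
    fun _ _ _ => inferInstance
  have hrainvG : ∀ (R S : 𝒮) (f : R ⟶ S),
      ((FibSite.invImage G f).sheafPushforwardContinuous (Type u) (K S) (K R)).IsRightAdjoint :=
    fun _ _ _ => inferInstance
  have hcomp : (Groth.Agent.Lib.Helper31.FibSiteMap.fib α S ⋙ ι F S).IsContinuous (K S)
      (FibSite.totalTopology F J) := by
    have h1 : (ι G S ⋙ Pseudofunctor.CoGrothendieck.map α).IsContinuous (K S)
        (FibSite.totalTopology F J) :=
      (Groth.Agent.S13512.result G K hpreG (FibSite.totalTopology F J) _).1 hm S
    exact Functor.isContinuous_of_iso (Groth.Agent.Lib.Helper31.FibSiteMap.ιMapIso α S) (K S)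
      (FibSite.totalTopology F J)
  have hb : (Groth.Agent.Lib.Helper31.FibSiteMap.fib α S).IsContinuous (K S) (J S) :=
    Groth.Agent.Lib.Helper31.FibSiteFibre.isContinuous_of_comp_ι F J (K S) S _
  refine ⟨hb, inferInstance, ?_⟩
  have hPF : ∀ (P : (F.obj ⟨op S⟩)ᵒᵖ ⥤ Type u), (ι F S).op.HasPointwiseRightKanExtension P :=
    fun P => inferInstance
  have hPG : ∀ (P : (G.obj ⟨op S⟩)ᵒᵖ ⥤ Type u), (ι G S).op.HasPointwiseRightKanExtension P :=
    fun P => inferInstance
  -- the base change isomorphism `restr_G ⋙ b^* ≅ m^* ⋙ restr_F`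
  let adj₁ := ((Pseudofunctor.CoGrothendieck.map α).sheafAdjunctionContinuous (Type u)
      (FibSite.totalTopology G K) (FibSite.totalTopology F J)).comp
    ((ι F S).sheafAdjunctionCocontinuous (Type u) (J S) (FibSite.totalTopology F J))
  let adj₂ := ((ι G S).sheafAdjunctionCocontinuous (Type u) (K S) (FibSite.totalTopology G K)).comp
    ((Groth.Agent.Lib.Helper31.FibSiteMap.fib α S).sheafAdjunctionContinuous (Type u) (K S) (J S))
  let e4 := (conjugateIsoEquiv adj₁ adj₂).symm
    (asIso (Groth.Agent.Lib.Helper31.FibSiteMap.baseChange.{u} α J K (j := S)))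
  have hT : PreservesLimitsOfShape (Discrete PEmpty.{1})
      ((Groth.Agent.Lib.Helper31.FibSiteMap.fib α S).sheafPullback (Type u) (K S) (J S)) := by
    have h1 : PreservesFiniteLimits
        ((Pseudofunctor.CoGrothendieck.map α).sheafPullback (Type u)
          (FibSite.totalTopology G K) (FibSite.totalTopology F J) ⋙
          FibSite.restr F J (Type u) S) := comp_preservesFiniteLimits _ _
    have h2 : PreservesFiniteLimits (FibSite.restr G K (Type u) S ⋙
        (Groth.Agent.Lib.Helper31.FibSiteMap.fib α S).sheafPullback (Type u) (K S) (J S)) :=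
      preservesFiniteLimits_of_natIso e4.symm
    have hterm : IsTerminal ((FibSite.restr G K (Type u) S).obj (⊤_ _)) :=
      IsTerminal.isTerminalObj _ _ terminalIsTerminal
    have h2' : PreservesLimitsOfShape (Discrete PEmpty.{1}) (FibSite.restr G K (Type u) S ⋙
        (Groth.Agent.Lib.Helper31.FibSiteMap.fib α S).sheafPullback (Type u) (K S) (J S)) :=
      h2.preservesFiniteLimits _
    have h2'' : PreservesLimit (Functor.empty.{0} _) (FibSite.restr G K (Type u) S ⋙
        (Groth.Agent.Lib.Helper31.FibSiteMap.fib α S).sheafPullback (Type u) (K S) (J S)) :=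
      h2'.preservesLimit
    have hterm2 : IsTerminal
        (((Groth.Agent.Lib.Helper31.FibSiteMap.fib α S).sheafPullback (Type u) (K S) (J S)).obj
          ((FibSite.restr G K (Type u) S).obj (⊤_ _))) :=
      IsTerminal.isTerminalObj (FibSite.restr G K (Type u) S ⋙
        (Groth.Agent.Lib.Helper31.FibSiteMap.fib α S).sheafPullback (Type u) (K S) (J S)) _
        terminalIsTerminal
    have : PreservesLimit (Functor.empty.{0} _)
        ((Groth.Agent.Lib.Helper31.FibSiteMap.fib α S).sheafPullback (Type u) (K S) (J S)) :=
      preservesLimit_of_preserves_limit_cone hterm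
        ((isLimitMapConeEmptyConeEquiv _ _).symm hterm2)
    exact preservesLimitsOfShape_pempty_of_preservesTerminal _
  have hP : PreservesLimitsOfShape WalkingCospan
      ((Groth.Agent.Lib.Helper31.FibSiteMap.fib α S).sheafPullback (Type u) (K S) (J S)) := by
    have pG := Groth.Agent.Lib.Helper31.FibSiteFibre.preservesPullbacks_extend hG S
    have pF := Groth.Agent.Lib.Helper31.FibSiteFibre.preservesPullbacks_extend hF S
    have rF := Groth.Agent.Lib.Helper31.FibSiteFibre.reflectsIsomorphisms_extend F J S
    let adjL := ((ι G S).sheafAdjunctionContinuous (Type u) (K S) (FibSite.totalTopology G K)).comp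
      ((Pseudofunctor.CoGrothendieck.map α).sheafAdjunctionContinuous (Type u)
        (FibSite.totalTopology G K) (FibSite.totalTopology F J))
    let adjR := ((Groth.Agent.Lib.Helper31.FibSiteMap.fib α S).sheafAdjunctionContinuous (Type u)
        (K S) (J S)).comp
      ((ι F S).sheafAdjunctionContinuous (Type u) (J S) (FibSite.totalTopology F J))
    let isoR := Functor.sheafPushforwardContinuousComp'
        (Groth.Agent.Lib.Helper31.FibSiteMap.ιMapIso α S) (Type u) (K S)
        (FibSite.totalTopology G K) (FibSite.totalTopology F J) ≪≫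
      (Functor.sheafPushforwardContinuousComp (Groth.Agent.Lib.Helper31.FibSiteMap.fib α S)
        (ι F S) (Type u) (K S) (J S) (FibSite.totalTopology F J)).symm
    let e3 := (conjugateIsoEquiv adjL adjR).symm isoR
    have h1 : PreservesLimitsOfShape WalkingCospan (FibSite.extend G K (Type u) S ⋙
        (Pseudofunctor.CoGrothendieck.map α).sheafPullback (Type u)
          (FibSite.totalTopology G K) (FibSite.totalTopology F J)) :=
      comp_preservesLimitsOfShape _ _
    have h2 : PreservesLimitsOfShape WalkingCospan
        ((Groth.Agent.Lib.Helper31.FibSiteMap.fib α S).sheafPullback (Type u) (K S) (J S) ⋙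
          FibSite.extend F J (Type u) S) :=
      preservesLimitsOfShape_of_natIso e3.symm
    have h3 : ReflectsLimitsOfShape WalkingCospan (FibSite.extend F J (Type u) S) :=
      reflectsLimitsOfShape_of_reflectsIsomorphisms
    exact preservesLimitsOfShape_of_reflects_of_preserves _ (FibSite.extend F J (Type u) S)
  exact preservesFiniteLimits_of_preservesTerminal_and_pullbacks _

end Groth.Agent.S13516
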