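import Groth.Statements.S13528
import Groth.Agent.Lib.Helper31.FibSiteFibre

set_option autoImplicit false
universe u
open CategoryTheory CategoryTheory.Limits Opposite Pseudofunctor.CoGrothendieck
open FibSite

namespace Groth.Agent.S13528

/-- Let `F` be a fibred category over a small category `𝒮` with small fibres and topologies `J` on the
fibres all of whose inverse-image functors are continuous, let `i` be an object of `𝒮`, `U` an
object of the fibre over `i`, and `u : R ⟶ h_U` a morphism of presheaves of sets on that fibre into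
the presheaf represented by `U`. Then `u` is bicovering for `J i` (inverted by every `J i`-sheaf) if
and only if its left Kan extension along the fibre inclusion `ι F i` is bicovering for the topology
on the total category generated by the coverings of the fibres. (The published statement is for
fibred sites; its proof uses only the continuity of the inverse-image functors.) -/
theorem result {𝒮 : Type u} [SmallCategory 𝒮]
    (F : Pseudofunctor (LocallyDiscrete 𝒮ᵒᵖ) Cat.{u, u}) (J : FibSite.Topologies F)
    (hF : FibSite.IsPreFibSite F J) (i : 𝒮) {R : (F.obj ⟨op i⟩)ᵒᵖ ⥤ Type u} {U : F.obj ⟨op i⟩}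
    (u : R ⟶ yoneda.obj U) :
    (J i).W u ↔ (FibSite.totalTopology F J).W (((ι F i).op.lan (H := Type u)).map u) := by
  have hcontF : ∀ S : 𝒮, (ι F S).IsContinuous (J S) (FibSite.totalTopology F J) := fun S =>
    ⟨fun P => Groth.Agent.Lib.Helper69.isSheaf_ι_op_comp F J hF
      ((isSheaf_iff_isSheaf_of_type _ _).1 P.2) S⟩
  have hcoF : ∀ S : 𝒮, (ι F S).IsCocontinuous (J S) (FibSite.totalTopology F J) := fun S =>
    Groth.Agent.S13510.result F J hF S
  have hinvF : ∀ (R S : 𝒮) (f : R ⟶ S), (FibSite.invImage F f).IsContinuous (J S) (J R) :=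
    fun R S f => hF f
  have hraF : ∀ S : 𝒮, ((ι F S).sheafPushforwardContinuous (Type u) (J S)
      (FibSite.totalTopology F J)).IsRightAdjoint := fun S => inferInstance
  have hrainvF : ∀ (R S : 𝒮) (f : R ⟶ S),
      ((FibSite.invImage F f).sheafPushforwardContinuous (Type u) (J S) (J R)).IsRightAdjoint :=
    fun _ _ _ => inferInstance
  constructor
  · intro h
    exact Functor.W_map_of_adjunction_of_isContinuous (J i) (FibSite.totalTopology F J) (ι F i)
      ((ι F i).op.lan) ((ι F i).op.lanAdjunction (Type u)) u h
  · intro h P hP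
    let Pr : ObjectProperty ((F.obj ⟨op i⟩)ᵒᵖ ⥤ Type u) := (MorphismProperty.single u).isLocal
    suffices H : Pr P from (MorphismProperty.isLocal_single_iff_bijective u P).1 H
    have hres : ∀ Q : Sheaf (FibSite.totalTopology F J) (Type u),
        Pr ((ι F i).op ⋙ Q.obj) := by
      intro Q
      refine (MorphismProperty.isLocal_single_iff_bijective u _).2 ?_
      have := h Q.obj Q.2
      rwa [((ι F i).op.lanAdjunction (Type u)).map_comp_bijective_iff] at this
    let Ps : Sheaf (J i) (Type u) := ⟨P, hP⟩
    let L₁ := FibSite.extend F J (Type u) i ⋙ FibSite.restr F J (Type u) i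
    let Lid := (FibSite.invImage F (𝟙 i)).sheafPullback (Type u) (J i) (J i)
    let η : Ps ⟶ L₁.obj Ps :=
      ((ι F i).sheafAdjunctionContinuous (Type u) (J i) (FibSite.totalTopology F J)).unit.app Ps
    have sq := Groth.Agent.Lib.Helper31.FibSiteFibre.isPullback_κ F J (𝟙 i) η
    have hL₁ : ∀ X, Pr ((sheafToPresheaf _ _).obj (L₁.obj X)) := fun X =>
      hres ((FibSite.extend F J (Type u) i).obj X)
    have hlim := (sq.map (sheafToPresheaf (J i) (Type u))).isLimit
    have h1 : Pr ((sheafToPresheaf _ _).obj (Lid.obj Ps)) := by
      refine ObjectProperty.prop_of_isLimit (P := Pr) hlim ?_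
      rintro (_ | _ | _)
      · exact hL₁ _
      · exact hL₁ _
      · exact Pr.prop_of_iso ((sheafToPresheaf _ _).mapIso
          ((Groth.Agent.Lib.Helper31.FibSiteFibre.pullbackIdIso F J i).app (L₁.obj Ps))).symm
          (hL₁ _)
    exact Pr.prop_of_iso ((sheafToPresheaf _ _).mapIso
      ((Groth.Agent.Lib.Helper31.FibSiteFibre.pullbackIdIso F J i).app Ps)) h1

end Groth.Agent.S13528
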