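import Groth.Statements.S13541
import Groth.Agent.Lib.Helper18.SymResol
import Groth.Agent.Lib.Helper18.SymEmbed
import Groth.Agent.Lib.Helper18.SymEpi
import Groth.Agent.Lib.Helper49.FreeMod
import Groth.Agent.Lib.Helper45.FiniteType

set_option autoImplicit false
universe u
open CategoryTheory CategoryTheory.Limits AlgebraicGeometry
open ResProp

namespace Groth.Agent.S13541

/-- In the case of schemes, a Noetherian scheme S has the resolution property exactly when each affine
finite-type morphism X ⟶ S factors over S through a closed immersion of X into a vector bundle V(E)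
= Spec Sym(E), E a finite locally free module on S (V(E) is given as the relative spectrum of a
quasi-coherent algebra A with a map E ⟶ A making A the symmetric algebra of E). (The published
statement is for Noetherian algebraic stacks; this row is the case of schemes.) -/
theorem result (S : Scheme.{u}) [IsNoetherian S] :
    PerfAux.HasResolutionProperty S ↔
      ∀ (X : Scheme.{u}) (f : X ⟶ S) [IsAffineHom f] [LocallyOfFiniteType f],
        ∃ (E : S.Modules) (A : RelSpec.QCAlg S) (j : E ⟶ A.toModule) (i : X ⟶ A.spec),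
          Coh.IsQCoh E ∧ FlatMod.IsFinLocFree E ∧ RelSpec.IsSymAlg E A j ∧ IsClosedImmersion i ∧ i ≫ A.π = f := by
  constructor
  · intro hRes X f _ _
    obtain ⟨E₀, hE₀, A₀, j₀, hA₀, i₀, hi₀, hf⟩ :=
      Groth.Agent.Lib.Helper18.SymQC.exists_closedImmersion_vectorBundle f
    obtain ⟨E, π, hlf, hepi⟩ := hRes E₀ hE₀.1 hE₀.2
    have hq : E.IsQuasicoherent := Groth.Agent.Lib.Helper49.isQuasicoherent_of_isFinLocFree E hlf
    have hq₀ : E₀.IsQuasicoherent := hE₀.1
    let ψ := Groth.Agent.Lib.Helper18.SymQC.psiHom E A₀ (π ≫ j₀)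
    have hψ : Groth.Agent.Lib.Helper18.SymQC.jHom E ≫ RelSpec.QCAlg.Hom.toModuleMap ψ = π ≫ j₀ :=
      Groth.Agent.Lib.Helper18.SymQC.jHom_psiHom E A₀ (π ≫ j₀)
    have hcl : IsClosedImmersion (RelSpec.QCAlg.specMap ψ) :=
      Groth.Agent.Lib.Helper18.SymQC.isClosedImmersion_specMap_of_epi E E₀ π
        (Groth.Agent.Lib.Helper18.SymQC.symAlg E) A₀ (Groth.Agent.Lib.Helper18.SymQC.jHom E) j₀ ψ hψ hA₀
    refine ⟨E, Groth.Agent.Lib.Helper18.SymQC.symAlg E, Groth.Agent.Lib.Helper18.SymQC.jHom E,
      i₀ ≫ RelSpec.QCAlg.specMap ψ, hq, hlf, Groth.Agent.Lib.Helper18.SymQC.isSymAlg E,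
      inferInstance, ?_⟩
    rw [Category.assoc, RelSpec.QCAlg.specMap_π, hf]
  · intro H M hq hft
    have _ : M.IsQuasicoherent := hq
    have _ : SheafOfModules.IsFiniteType (R := S.ringCatSheaf) M := hft
    have hft' := Groth.Agent.Lib.Helper18.SymQC.locallyOfFiniteType_pp M
      (fun U hU => Groth.Agent.Lib.Helper45.finite_sections_of_isFiniteType hU M)
    obtain ⟨E, A, j, i, hEq, hlf, hA, hi, hw⟩ := H (Groth.Agent.Lib.Helper18.SymQC.VV M)
      (Groth.Agent.Lib.Helper18.SymQC.pp M)
    have _ : E.IsQuasicoherent := hEq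
    exact ⟨E, Groth.Agent.Lib.Helper18.SymQC.bHom E M A j i hw, hlf,
      Groth.Agent.Lib.Helper18.SymQC.epi_bHom E M A j i hw hA⟩

end Groth.Agent.S13541
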