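import Groth.Statements.S13542
import Groth.Agent.Lib.Helper11.ResPropFinite
import Groth.Agent.Lib.Helper11.TensorQCoh
import Groth.Agent.Lib.Helper16.FlatPull.Chart
import Groth.Agent.Lib.Helper49.QcqsModules
import Groth.Agent.Lib.Helper18.FPPullEpi
import Groth.Agent.Lib.Helper73.CoprodAffine

set_option autoImplicit false
universe u
open CategoryTheory CategoryTheory.Limits AlgebraicGeometry
open ResProp

namespace Groth.Agent.S13542

/-- In the case of schemes over an affine base, let f : X ⟶ Y be finite, flat, of finite presentation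
and surjective between quasi-compact quasi-separated schemes. If a family (E_i) of finitely
presented quasi-coherent modules on X is generating, i.e. every quasi-coherent module on X is a
quotient of a direct sum of copies of the E_i, then the family of direct images (f_*E_i) is
generating on Y. (The published statement is for morphisms of algebraic stacks and families
generating relative to a further morphism; this row is the case of schemes with the absolute notion
of a generating family.) -/
theorem result {X Y : Scheme.{u}}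
    [CompactSpace X] [QuasiSeparatedSpace X] [CompactSpace Y] [QuasiSeparatedSpace Y]
    (f : X ⟶ Y) [IsFinite f] [Flat f] [LocallyOfFinitePresentation f] [Surjective f]
    {ι : Type u} (E : ι → X.Modules) (hE : ∀ i, Coh.IsQCoh (E i) ∧ CohB1.IsFP (E i))
    (hgen : ∀ M : X.Modules, Coh.IsQCoh M →
      ∃ (κ : Type u) (j : κ → ι) (π : (∐ fun k : κ => E (j k)) ⟶ M), Epi π) :
    ∀ N : Y.Modules, Coh.IsQCoh N →
      ∃ (κ : Type u) (j : κ → ι) (π : (∐ fun k : κ => (Scheme.Modules.pushforward f).obj (E (j k))) ⟶ N), Epi π := by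
  classical
  intro N hN
  haveI : N.IsQuasicoherent := hN
  have hA : FlatMod.IsFinLocFree (Groth.Agent.Lib.Helper11.ProjFormula.pushO f) :=
    ((Groth.Agent.Lib.Helper49.isAffineHom_and_isFinLocFree_pushforward_iff f).mpr
      ⟨inferInstance, inferInstance, inferInstance⟩).2
  have hD := Groth.Agent.Lib.Helper11.FinFreeDual.isFinLocFree_dual hA
  let B := Groth.Agent.Lib.Helper11.ProjFormula.pushO f
  let D := RefHull.dual B
  haveI : D.IsQuasicoherent := Groth.Agent.Lib.Helper49.isQuasicoherent_of_isFinLocFree D hD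
  let N' := CohB1.tensorMod N D
  haveI hN' : N'.IsQuasicoherent := (Groth.Agent.Lib.Helper11.TildeTensor.isQuasicoherent_tensorMod N D).1
  haveI hq : ((Scheme.Modules.pullback f).obj N').IsQuasicoherent :=
    Groth.Agent.Lib.Helper16.FlatPull.isQuasicoherent_pullback f N'
  obtain ⟨κ, j, π, hπ⟩ := hgen _ hq
  haveI : ∀ k, (E (j k)).IsQuasicoherent := fun k => (hE (j k)).1
  haveI hS : (∐ fun k : κ => E (j k)).IsQuasicoherent :=
    Groth.Agent.Lib.Helper18.CoprodLocal.isQuasicoherent_sigma (fun k : κ => E (j k))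
  haveI : Epi ((Scheme.Modules.pushforward f).map π) :=
    Groth.Agent.Lib.Helper11.ResPropFinite.epi_pushforward f π
  haveI := Groth.Agent.Lib.Helper11.ProjFormula.isIso_pfMap f N' hA
  haveI : Epi (Groth.Agent.Lib.Helper11.FinFreeDual.evPair B) :=
    Groth.Agent.Lib.Helper11.FinFreeDual.epi_evPair B fun y => by
      obtain ⟨V, n, b, hyV, hb⟩ :=
        Groth.Agent.Lib.Helper11.FinFreeBasis.exists_isBasisFam_of_isFinLocFree hA y
      exact ⟨V, n, b, hyV, hb,
        Groth.Agent.Lib.Helper11.ResPropFinite.pos_of_isBasisFam_pushO f hb hyV⟩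
  let a2 : Groth.Agent.Lib.Helper11.ProjFormula.pushPull f N' ⟶ CohB1.tensorMod N' B :=
    inv (Groth.Agent.Lib.Helper11.ProjFormula.pfMap f N')
  let a3 : CohB1.tensorMod (CohB1.tensorMod N D) B ⟶ CohB1.tensorMod N (CohB1.tensorMod D B) :=
    (Groth.Agent.Lib.Helper11.GenLocus.tensorModAssoc N D B).hom
  let a4 : CohB1.tensorMod N (CohB1.tensorMod D B) ⟶ CohB1.tensorMod N (Coh.structureModule Y) :=
    Groth.Agent.Lib.Helper11.TensorMap.tensorModMap (𝟙 N)
      ((Groth.Agent.Lib.Helper11.GenLocus.tensorModBraid D B).hom ≫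
        Groth.Agent.Lib.Helper11.FinFreeDual.evPair B)
  let a5 : CohB1.tensorMod N (Coh.structureModule Y) ⟶ N :=
    (Groth.Agent.Lib.Helper11.GenLocus.tensorUnitIso N).hom
  haveI : Epi a2 := by dsimp only [a2]; infer_instance
  haveI : Epi a3 := by dsimp only [a3]; infer_instance
  haveI : Epi a4 := Groth.Agent.Lib.Helper11.ResPropFinite.epi_tensorModMap _ _
  haveI : Epi a5 := by dsimp only [a5]; infer_instance
  let ρ : (Scheme.Modules.pushforward f).obj (∐ fun k : κ => E (j k)) ⟶ N :=
    (Scheme.Modules.pushforward f).map π ≫ a2 ≫ a3 ≫ a4 ≫ a5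
  haveI : Epi ρ := by dsimp only [ρ]; infer_instance
  let θ : (∐ fun k : κ => (Scheme.Modules.pushforward f).obj (E (j k))) ⟶ N :=
    Limits.Sigma.desc (fun k => (Scheme.Modules.pushforward f).map
      (Limits.Sigma.ι (fun k : κ => E (j k)) k) ≫ ρ)
  refine ⟨κ, j, θ, ?_⟩
  haveI : ((Scheme.Modules.pushforward f).obj (∐ fun k : κ => E (j k))).IsQuasicoherent :=
    Groth.Agent.Lib.Helper49.isQuasicoherent_pushforward _ f
  refine Groth.Agent.Lib.Helper18.FPPullEpi.epi_of_app_surjective_affine θ (fun y => ?_)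
  obtain ⟨_, ⟨V, hV, rfl⟩, hyV, -⟩ :=
    Y.isBasis_affineOpens.exists_subset_of_mem_open (Set.mem_univ y) isOpen_univ
  refine ⟨V, hV, hyV, fun n => ?_⟩
  obtain ⟨t, ht⟩ := Groth.Agent.Lib.Helper18.EpiAffine.app_surjective_of_epi ρ hV n
  have hU : IsAffineOpen (f ⁻¹ᵁ V) := hV.preimage f
  have htm := Groth.Agent.Lib.Helper73.CoprodAffine.mem_finSub_of_isAffineOpen
    (fun k : κ => E (j k)) hU (show Γ(∐ fun k : κ => E (j k), f ⁻¹ᵁ V) from t)
  rw [← ht]
  refine Submodule.iSup_induction
    (fun k => LinearMap.range (Groth.Agent.Lib.Helper18.CoprodLocal.appL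
      (Limits.Sigma.ι (fun k : κ => E (j k)) k) (f ⁻¹ᵁ V)))
    (motive := fun t => ρ.app V t ∈ Set.range (θ.app V)) htm ?_ ?_ ?_
  · rintro k _ ⟨a, rfl⟩
    refine ⟨(Limits.Sigma.ι (fun k : κ => (Scheme.Modules.pushforward f).obj (E (j k))) k).app V a, ?_⟩
    have h1 : Limits.Sigma.ι (fun k : κ => (Scheme.Modules.pushforward f).obj (E (j k))) k ≫ θ =
        (Scheme.Modules.pushforward f).map (Limits.Sigma.ι (fun k : κ => E (j k)) k) ≫ ρ :=
      Limits.Sigma.ι_desc _ _
    exact congrArg (fun φ => φ.app V a) h1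
  · exact ⟨0, (map_zero (θ.app V).hom).trans (map_zero (ρ.app V).hom).symm⟩
  · rintro a b ⟨a', ha'⟩ ⟨b', hb'⟩
    exact ⟨a' + b', (map_add (θ.app V).hom a' b').trans
      ((congrArg₂ (· + ·) ha' hb').trans (map_add (ρ.app V).hom _ _).symm)⟩

end Groth.Agent.S13542
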