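import Groth.Statements.S13543
import Groth.Agent.Lib.Helper18.SymGenFam
import Groth.Agent.Lib.Helper18.AffineCan
import Groth.Agent.Lib.Helper18.SpecMapClosed

set_option autoImplicit false
universe u
open CategoryTheory CategoryTheory.Limits AlgebraicGeometry
open ResProp

namespace Groth.Agent.S13543

/-- In the case of schemes, on a quasi-compact quasi-separated scheme X let (E_i) be a family of
finitely presented quasi-coherent modules closed (up to isomorphism) under binary tensor products
and binary direct sums. Then (E_i) is a generating family, i.e. every quasi-coherent module is a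
quotient of a direct sum of copies of the E_i, if and only if every affine morphism Y ⟶ X factors
over X through a closed immersion of Y into the vector bundle V(E) = Spec Sym(E) of a direct sum E
of copies of members of the family, with finitely many summands whenever Y ⟶ X is of finite type
(V(E) is given as the relative spectrum of a quasi-coherent algebra that is the symmetric algebra of
E). (The published statement is for quasi-compact quasi-separated algebraic stacks and takes E to be
the direct sum of a subfamily without repeated members; this row is the case of schemes and allows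
repetitions, as the printed argument produces: for the generating family of free modules k, k^2,
k^3, … on a point and the affine morphism from the spectrum of a polynomial ring in uncountably many
variables, no direct sum of distinct members works.) -/
theorem result (X : Scheme.{u}) [CompactSpace X] [QuasiSeparatedSpace X]
    {ι : Type u} (E : ι → X.Modules) (hE : ∀ i, Coh.IsQCoh (E i) ∧ CohB1.IsFP (E i))
    (htens : ∀ i i' : ι, ∃ i'' : ι, Nonempty (E i'' ≅ CohB1.tensorMod (E i) (E i')))
    (hsum : ∀ i i' : ι, ∃ i'' : ι, Nonempty (E i'' ≅ E i ⊞ E i')) :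
    (∀ M : X.Modules, Coh.IsQCoh M → ∃ (κ : Type u) (j : κ → ι) (π : (∐ fun k : κ => E (j k)) ⟶ M), Epi π) ↔
    (∀ (Y : Scheme.{u}) (f : Y ⟶ X) [IsAffineHom f],
      ∃ (κ : Type u) (j : κ → ι) (B : RelSpec.QCAlg X) (φ : (∐ fun k : κ => E (j k)) ⟶ B.toModule) (c : Y ⟶ B.spec),
        RelSpec.IsSymAlg (∐ fun k : κ => E (j k)) B φ ∧ IsClosedImmersion c ∧ c ≫ B.π = f ∧
        (LocallyOfFiniteType f → Finite κ)) := by
  classical
  have hq : ∀ i, (E i).IsQuasicoherent := fun i => (hE i).1
  constructor
  · -- generating family ⟹ embeddings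
    intro G Y f _
    let B' : RelSpec.QCAlg X := RelSpec.QCAlg.directImage f
    by_cases hlft : LocallyOfFiniteType f
    · -- finite type case
      have hB : ∀ U : X.affineOpens, (B'.str.app (Opposite.op (U : X.Opens))).hom.FiniteType := by
        intro U
        have h1 := LocallyOfFiniteType.finiteType_appLE f U.2 (U.2.preimage f) le_rfl
        rwa [← Scheme.Hom.app_eq_appLE] at h1
      obtain ⟨F, hF, hgen⟩ := Groth.Agent.Lib.Helper18.LSubM.exists_isQFT_generating B' hB
      have hqF : F.toModules.IsQuasicoherent := hF.isQuasicoherent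
      obtain ⟨κ, j, π, hπ⟩ := G F.toModules hqF
      have _ : ∀ k, (E (j k)).IsQuasicoherent := fun k => hq (j k)
      obtain ⟨T, hT⟩ := Groth.Agent.Lib.Helper18.CoprodLocal.exists_finset_epi
        (fun k => E (j k)) π (fun U hU => F.finite_sections U (hF U hU).2)
      have _ : ∀ k : T, (E (j k.1)).IsQuasicoherent := fun k => hq (j k.1)
      have hqE : (∐ fun k : T => E (j k.1)).IsQuasicoherent :=
        Groth.Agent.Lib.Helper18.CoprodLocal.isQuasicoherent_sigma (fun k : T => E (j k.1))
      let ρ : (∐ fun k : T => E (j k.1)) ⟶ F.toModules :=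
        Groth.Agent.Lib.Helper18.CoprodLocal.piT (fun k => E (j k)) π T
      have hρ : Epi ρ := hT
      let ψ := Groth.Agent.Lib.Helper18.SymQC.psiHom (∐ fun k : T => E (j k.1)) B' (ρ ≫ F.ι)
      have hcl : IsClosedImmersion (RelSpec.QCAlg.specMap ψ) :=
        Groth.Agent.Lib.Helper18.SpecMapClosed.isClosedImmersion_specMap ψ
          (fun U hU => Groth.Agent.Lib.Helper18.SymQC.surjective_psiMap_of_gen_of_epi B' F
            (∐ fun k : T => E (j k.1)) ρ U hU (hgen U hU))
      refine ⟨↥T, fun k => j k.1,
        Groth.Agent.Lib.Helper18.SymQC.symAlg (∐ fun k : T => E (j k.1)),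
        Groth.Agent.Lib.Helper18.SymQC.jHom (∐ fun k : T => E (j k.1)),
        Groth.Agent.S9380.can f ≫ RelSpec.QCAlg.specMap ψ,
        Groth.Agent.Lib.Helper18.SymQC.isSymAlg (∐ fun k : T => E (j k.1)),
        inferInstance, ?_, fun _ => inferInstance⟩
      rw [Category.assoc, RelSpec.QCAlg.specMap_π]
      exact Groth.Agent.S9380.can_π f
    · -- general case
      have hqB : B'.toModule.IsQuasicoherent := inferInstance
      obtain ⟨κ, j, π, hπ⟩ := G B'.toModule hqB
      have _ : ∀ k, (E (j k)).IsQuasicoherent := fun k => hq (j k)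
      have hqE : (∐ fun k : κ => E (j k)).IsQuasicoherent :=
        Groth.Agent.Lib.Helper18.CoprodLocal.isQuasicoherent_sigma (fun k : κ => E (j k))
      let ψ := Groth.Agent.Lib.Helper18.SymQC.psiHom (∐ fun k : κ => E (j k)) B' π
      have hcl : IsClosedImmersion (RelSpec.QCAlg.specMap ψ) :=
        Groth.Agent.Lib.Helper18.SpecMapClosed.isClosedImmersion_specMap ψ
          (fun U hU => Groth.Agent.Lib.Helper18.SymQC.surjective_psiMap_of_epi B'
            (∐ fun k : κ => E (j k)) π U hU)
      refine ⟨κ, j,
        Groth.Agent.Lib.Helper18.SymQC.symAlg (∐ fun k : κ => E (j k)),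
        Groth.Agent.Lib.Helper18.SymQC.jHom (∐ fun k : κ => E (j k)),
        Groth.Agent.S9380.can f ≫ RelSpec.QCAlg.specMap ψ,
        Groth.Agent.Lib.Helper18.SymQC.isSymAlg (∐ fun k : κ => E (j k)),
        inferInstance, ?_, fun h => absurd h hlft⟩
      rw [Category.assoc, RelSpec.QCAlg.specMap_π]
      exact Groth.Agent.S9380.can_π f
  · -- embeddings ⟹ generating family
    intro H M hM
    have _ : M.IsQuasicoherent := hM
    have _ : IsAffineHom (Groth.Agent.Lib.Helper18.SymQC.pp M) :=
      Groth.Agent.Lib.Helper18.SymQC.isAffineHom_pp M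
    obtain ⟨κ, j, B, φ, c, hSym, hc, hcπ, -⟩ := H (Groth.Agent.Lib.Helper18.SymQC.VV M)
      (Groth.Agent.Lib.Helper18.SymQC.pp M)
    have _ : ∀ k, (E (j k)).IsQuasicoherent := fun k => hq (j k)
    have hqE : (∐ fun k : κ => E (j k)).IsQuasicoherent :=
      Groth.Agent.Lib.Helper18.CoprodLocal.isQuasicoherent_sigma (fun k : κ => E (j k))
    exact ⟨κ, j, Groth.Agent.Lib.Helper18.SymQC.bHom (∐ fun k : κ => E (j k)) M B φ c hcπ,
      Groth.Agent.Lib.Helper18.SymQC.epi_bHom (∐ fun k : κ => E (j k)) M B φ c hcπ hSym⟩

end Groth.Agent.S13543
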