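import Groth.Statements.S1355
import Mathlib
import Groth.Agent.Lib.Helper70.EtNbhdB
import Groth.Agent.Lib.Helper50.FiniteLevel

set_option autoImplicit false
universe u
open FlatMor

namespace Groth.Agent.S1355

open AlgebraicGeometry CategoryTheory Limits in
/-- Let f : X → S and s a point of S. The fibre of f over s is geometrically connected if and only if
for every étale morphism U → S and every point u over s, the fibre over u of the base change of f to
U is connected. -/
theorem result {X S : Scheme.{u}} (f : X ⟶ S) (s : S) :
    GeometricallyConnected (f.fiberToSpecResidueField s) ↔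
      ∀ (U : Scheme.{u}) (g : U ⟶ S) (u : U), Etale g → g u = s → ConnectedSpace ↑((pullback.snd f g).fiber u) := by
  constructor
  · intro hgc U g u hg hgu
    subst hgu
    have h := isPullback_fiberToSpecResidueField_of_isPullback (IsPullback.of_hasPullback f g) u
    exact hgc.geometrically_connectedSpace (K := U.residueField u)
      (Spec.map (g.residueFieldMap u)) _ _ h
  · intro h
    refine (Groth.Agent.Lib.Helper50.geometricallyConnected_iff_forall_finite_separable
      (k := S.residueField s) (f.fiberToSpecResidueField s)).mpr ?_
    intro k' _ _ _ _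
    obtain ⟨U, g, t, hg, htg, hsurj⟩ := Groth.Agent.Lib.Helper70.EtNbhdB.exists_etale_nbhd s k'
    have hgu : g (t (IsLocalRing.closedPoint k')) = s := by
      have h1 : (t ≫ g) (IsLocalRing.closedPoint k') = s := by
        rw [htg]
        simp only [Scheme.Hom.comp_base, TopCat.coe_comp, Function.comp_apply]
        exact Scheme.fromSpecResidueField_apply s _
      exact h1
    have hc := h U g (t (IsLocalRing.closedPoint k')) hg hgu
    have ht : Spec.map (Scheme.descResidueField (Scheme.stalkClosedPointTo t)) ≫
        U.fromSpecResidueField (t (IsLocalRing.closedPoint k')) = t :=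
      Scheme.descResidueField_stalkClosedPointTo_fromSpecResidueField k' U t
    obtain ⟨ε, hε⟩ : ∃ ε, ε = Scheme.descResidueField (Scheme.stalkClosedPointTo t) := ⟨_, rfl⟩
    rw [← hε] at ht hsurj
    have hεbij : Function.Bijective ε.hom := ⟨ε.hom.injective, hsurj⟩
    have hεiso : IsIso ε := (ConcreteCategory.isIso_iff_bijective _).mpr hεbij
    have hfs : Spec.map (inv ε) ≫ t = U.fromSpecResidueField (t (IsLocalRing.closedPoint k')) := by
      have h1 := congrArg (fun q => Spec.map (inv ε) ≫ q) ht
      simp only [← Category.assoc, ← Spec.map_comp, IsIso.hom_inv_id, Spec.map_id,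
        Category.id_comp] at h1
      exact h1.symm
    let e1 := pullbackLeftPullbackSndIso f g (U.fromSpecResidueField (t (IsLocalRing.closedPoint k')))
    let e2 := pullbackLeftPullbackSndIso f (S.fromSpecResidueField s)
      (Spec.map (CommRingCat.ofHom (algebraMap (S.residueField s) k')))
    let m := pullback.map f (U.fromSpecResidueField (t (IsLocalRing.closedPoint k')) ≫ g) f
      (Spec.map (CommRingCat.ofHom (algebraMap (S.residueField s) k')) ≫ S.fromSpecResidueField s)
      (𝟙 X) (Spec.map (inv ε)) (𝟙 S)
      (by simp) (by rw [← htg, Category.comp_id, ← hfs, Category.assoc])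
    let ψ := e1.hom ≫ m ≫ e2.inv
    have hψ : IsIso ψ := by dsimp only [ψ, m]; infer_instance
    have : ConnectedSpace ↥(pullback (pullback.snd f g)
      (U.fromSpecResidueField (t (IsLocalRing.closedPoint k')))) := hc
    exact ψ.surjective.connectedSpace ψ.continuous

end Groth.Agent.S1355
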