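import Groth.Statements.S1357
import Groth.Agent.H8.GC.Cover

set_option autoImplicit false
universe u
open FlatMor

namespace Groth.Agent.S1357

open AlgebraicGeometry CategoryTheory Limits in
/-- Let f be of finite type with irreducible target Y. Then there are a nonempty open V of Y and a
surjective finite étale morphism g from an irreducible affine scheme Y' to V such that, for the base
change f' of f to Y', every irreducible component of the generic fibre of f' (with its reduced
induced structure) is geometrically irreducible over the residue field of the generic point of Y'. -/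
theorem result {X Y : Scheme.{u}} (f : X ⟶ Y) [IrreducibleSpace ↑Y] [LocallyOfFiniteType f] [QuasiCompact f] :
    ∃ (V : Y.Opens) (Y' : Scheme.{u}) (g : Y' ⟶ (V : Scheme.{u})) (hY' : IrreducibleSpace ↑Y'), (V : Set ↑Y).Nonempty ∧ IsAffine Y' ∧ Surjective g ∧ IsFinite g ∧ Etale g ∧
      ∀ (Z : Set ↑((pullback.snd f (g ≫ V.ι)).fiber (genericPoint ↑Y'))) (hZ : Z ∈ irreducibleComponents ↑((pullback.snd f (g ≫ V.ι)).fiber (genericPoint ↑Y'))),
        GeometricallyIrreducible ((Scheme.IdealSheafData.vanishingIdeal (⟨Z, isClosed_of_mem_irreducibleComponents Z hZ⟩ : TopologicalSpace.Closeds _)).subschemeι ≫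
          (pullback.snd f (g ≫ V.ι)).fiberToSpecResidueField (genericPoint ↑Y')) := by
  classical
  -- the generic fibre has finitely many irreducible components
  have hlft : LocallyOfFiniteType (f.fiberToSpecResidueField (genericPoint ↑Y)) :=
    inferInstanceAs (LocallyOfFiniteType (pullback.snd f (Y.fromSpecResidueField (genericPoint ↑Y))))
  have : IsLocallyNoetherian (f.fiber (genericPoint ↑Y)) :=
    LocallyOfFiniteType.isLocallyNoetherian (f.fiberToSpecResidueField (genericPoint ↑Y))
  have : IsNoetherian (f.fiber (genericPoint ↑Y)) := {}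
  have hirr : (irreducibleComponents ↥(f.fiber (genericPoint ↑Y))).Finite :=
    TopologicalSpace.NoetherianSpace.finite_irreducibleComponents
  obtain ⟨K', _, _, hfd, hsep, hc⟩ := Groth.Agent.H8.GC.exists_finite_separable_compGI
    (k := Y.residueField (genericPoint ↑Y)) (f.fiberToSpecResidueField (genericPoint ↑Y)) hirr
  -- primitive element
  obtain ⟨α, hα⟩ := Field.exists_primitive_element (Y.residueField (genericPoint ↑Y)) K'
  have hint : IsIntegral (Y.residueField (genericPoint ↑Y)) α := Algebra.IsIntegral.isIntegral α
  let e' : AdjoinRoot (minpoly (Y.residueField (genericPoint ↑Y)) α) ≃ₐ[Y.residueField (genericPoint ↑Y)] K' :=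
    (IntermediateField.adjoinRootEquivAdjoin (Y.residueField (genericPoint ↑Y)) hint).trans
      ((IntermediateField.equivOfEq hα).trans IntermediateField.topEquiv)
  obtain ⟨V, Y', g, hY', hne, haff, hsurj, hfin, het, β, hβ⟩ :=
    Groth.Agent.H8.GC.exists_finite_etale_cover_of_separable
      (minpoly (Y.residueField (genericPoint ↑Y)) α) (minpoly.monic hint) (minpoly.irreducible hint)
      (Algebra.IsSeparable.isSeparable _ α)
  refine ⟨V, Y', g, hY', hne, haff, hsurj, hfin, het, ?_⟩
  have hb : Spec.map (CommRingCat.ofHom (β.comp (e'.symm : K' →+* _))) ≫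
      Spec.map (CommRingCat.ofHom (algebraMap (Y.residueField (genericPoint ↑Y)) K')) ≫
        Y.fromSpecResidueField (genericPoint ↑Y) =
      Y'.fromSpecResidueField (genericPoint ↑Y') ≫ g ≫ V.ι := by
    rw [← hβ, ← Spec.map_comp_assoc]
    congr 2
    ext x
    show β (e'.symm (algebraMap _ K' x)) = β (AdjoinRoot.of _ x)
    rw [AlgEquiv.commutes, AdjoinRoot.algebraMap_eq]
  have hgi := Groth.Agent.H8.GC.compGI_fiber_of_square f (g ≫ V.ι) (genericPoint ↑Y)
    (genericPoint ↑Y') _ _ hb hc
  intro Z hZ
  exact hgi.geometricallyIrreducible Z hZ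

end Groth.Agent.S1357
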