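import Groth.Statements.S13578
import Groth.Agent.Lib.Helper15.PowFactor
import Groth.Agent.Lib.Helper28.KProjFlat

set_option autoImplicit false
universe u
open CategoryTheory CategoryTheory.Limits MonoidalCategory
attribute [local instance] HasDerivedCategory.standard
open DTen

namespace Groth.Agent.S13578

/-- Let `A` be a Noetherian commutative ring (the derived tensor product on `D(A)` being assumed to
exist and to be computed by K-flat complexes), `I` an ideal and `M` a finite `A`-module. Then there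
is an integer `n > 0` such that the inclusion `I^n M ⟶ M`, viewed in `D(A)` in degree `0`, factors
through the canonical morphism `I ⊗^L M ⟶ M` (the map `I ⊗^L M ⟶ A ⊗^L M` induced by `I ⊆ A`,
followed by the unit isomorphism). -/
theorem result (A : Type u) [CommRing A] [IsNoetherianRing A]
    [DTen.HasLTen A] [DTen.KFlatComputes A] (I : Ideal A) (M : Type u) [AddCommGroup M] [Module A M]
    [Module.Finite A M] :
    ∃ (n : ℕ) (_ : 0 < n)
      (g : DerivedCategory.Q.obj ((HomologicalComplex.single (ModuleCat.{u} A) (ComplexShape.up ℤ) 0).obj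
              (ModuleCat.of A ↥(I ^ n • (⊤ : Submodule A M)))) ⟶
            (DTen.LTen₂ A).obj (DerivedCategory.Q.obj ((HomologicalComplex.single (ModuleCat.{u} A) (ComplexShape.up ℤ) 0).obj
              (ModuleCat.of A ↥I)),
              DerivedCategory.Q.obj ((HomologicalComplex.single (ModuleCat.{u} A) (ComplexShape.up ℤ) 0).obj
              (ModuleCat.of A M)))),
      g ≫ (DTen.LTen₂ A).map (Prod.mkHom
              (DerivedCategory.Q.map ((HomologicalComplex.single (ModuleCat.{u} A) (ComplexShape.up ℤ) 0).map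
                (ModuleCat.ofHom I.subtype)))
              (𝟙 _)) ≫
          (DTen.unitL A).app (DerivedCategory.Q.obj ((HomologicalComplex.single (ModuleCat.{u} A) (ComplexShape.up ℤ) 0).obj
              (ModuleCat.of A M))) =
        DerivedCategory.Q.map ((HomologicalComplex.single (ModuleCat.{u} A) (ComplexShape.up ℤ) 0).map
          (ModuleCat.ofHom (I ^ n • (⊤ : Submodule A M)).subtype)) := by
  classical
  let R : ProjectiveResolution (ModuleCat.of A M) := projectiveResolution _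
  let P : DRing.Cx A := R.cochainComplex
  let π : P ⟶ (HomologicalComplex.single (ModuleCat.{u} A) (ComplexShape.up ℤ) 0).obj
    (ModuleCat.of A M) := R.π'
  haveI : QuasiIso π := (inferInstance : QuasiIso R.π')
  haveI : P.IsKProjective := (inferInstance : R.cochainComplex.IsKProjective)
  obtain ⟨n, hn, g', hg'⟩ := Groth.Agent.Lib.Helper15.PowFactor.exists_factor I M P π
  have hKF : DRing.IsKFlat A P := Groth.Agent.Lib.Helper28.KProjFlat.isKFlat_of_isKProjective P
  let I0 : DRing.Cx A := (HomologicalComplex.single (ModuleCat.{u} A) (ComplexShape.up ℤ) 0).obj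
    (ModuleCat.of A ↥I)
  let M0 : DRing.Cx A := (HomologicalComplex.single (ModuleCat.{u} A) (ComplexShape.up ℤ) 0).obj
    (ModuleCat.of A M)
  let ι0 : I0 ⟶ 𝟙_ (DRing.Cx A) := (HomologicalComplex.single (ModuleCat.{u} A) (ComplexShape.up ℤ) 0).map
    (ModuleCat.ofHom I.subtype)
  haveI hε : IsIso ((DTen.ε A).app (I0, P)) := DTen.KFlatComputes.isIso_counit I0 P (Or.inr hKF)
  haveI hπ : IsIso (DerivedCategory.Q.map π) := inferInstance
  refine ⟨n, hn, g' ≫ inv ((DTen.ε A).app (I0, P)) ≫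
    (DTen.LTen₂ A).map (Prod.mkHom (𝟙 (DerivedCategory.Q.obj I0)) (DerivedCategory.Q.map π)), ?_⟩
  have step1 : (DTen.LTen₂ A).map (Prod.mkHom (𝟙 (DerivedCategory.Q.obj I0)) (DerivedCategory.Q.map π)) ≫
      (DTen.LTen₂ A).map (Prod.mkHom (DerivedCategory.Q.map ι0) (𝟙 (DerivedCategory.Q.obj M0))) =
      (DTen.QQ A ⋙ DTen.LTen₂ A).map (Prod.mkHom ι0 π : (I0, P) ⟶ (𝟙_ (DRing.Cx A), M0)) := by
    rw [← Functor.map_comp]
    congr 1
  have nat := (DTen.ε A).naturality (Prod.mkHom ι0 π : (I0, P) ⟶ (𝟙_ (DRing.Cx A), M0))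
  have step3 := DTen.unitL_app A M0
  have e4 : ((ι0 ▷ P) ≫ (𝟙_ (DRing.Cx A) ◁ π)) ≫ (λ_ M0).hom =
      Groth.Agent.Lib.Helper15.TensorSmul.mulMap I P ≫ π := by
    dsimp only [Groth.Agent.Lib.Helper15.TensorSmul.mulMap]
    rw [Category.assoc, Category.assoc, MonoidalCategory.leftUnitor_naturality]
    rfl
  have step4 : (DTen.tensor₂ A).map (Prod.mkHom ι0 π : (I0, P) ⟶ (𝟙_ (DRing.Cx A), M0)) ≫
      DerivedCategory.Q.map (λ_ M0).hom =
      DerivedCategory.Q.map (Groth.Agent.Lib.Helper15.TensorSmul.mulMap I P ≫ π) := by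
    rw [← e4]
    exact (DerivedCategory.Q.map_comp ((ι0 ▷ P) ≫ (𝟙_ (DRing.Cx A) ◁ π)) (λ_ M0).hom).symm
  calc (g' ≫ inv ((DTen.ε A).app (I0, P)) ≫
      (DTen.LTen₂ A).map (Prod.mkHom (𝟙 (DerivedCategory.Q.obj I0)) (DerivedCategory.Q.map π))) ≫
      (DTen.LTen₂ A).map (Prod.mkHom (DerivedCategory.Q.map ι0) (𝟙 (DerivedCategory.Q.obj M0))) ≫
      (DTen.unitL A).app (DerivedCategory.Q.obj M0)
      = g' ≫ inv ((DTen.ε A).app (I0, P)) ≫
        ((DTen.LTen₂ A).map (Prod.mkHom (𝟙 (DerivedCategory.Q.obj I0)) (DerivedCategory.Q.map π)) ≫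
        (DTen.LTen₂ A).map (Prod.mkHom (DerivedCategory.Q.map ι0) (𝟙 (DerivedCategory.Q.obj M0)))) ≫
        (DTen.unitL A).app (DerivedCategory.Q.obj M0) := by simp only [Category.assoc]
    _ = g' ≫ inv ((DTen.ε A).app (I0, P)) ≫
        ((DTen.QQ A ⋙ DTen.LTen₂ A).map (Prod.mkHom ι0 π : (I0, P) ⟶ (𝟙_ (DRing.Cx A), M0)) ≫
          (DTen.ε A).app (𝟙_ (DRing.Cx A), M0)) ≫ DerivedCategory.Q.map (λ_ M0).hom := by
        rw [step1, step3]; simp only [Category.assoc]
    _ = g' ≫ inv ((DTen.ε A).app (I0, P)) ≫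
        ((DTen.ε A).app (I0, P) ≫
          (DTen.tensor₂ A).map (Prod.mkHom ι0 π : (I0, P) ⟶ (𝟙_ (DRing.Cx A), M0))) ≫
          DerivedCategory.Q.map (λ_ M0).hom := by rw [nat]
    _ = g' ≫ DerivedCategory.Q.map (Groth.Agent.Lib.Helper15.TensorSmul.mulMap I P ≫ π) := by
        rw [Category.assoc, step4, IsIso.inv_hom_id_assoc]
    _ = (g' ≫ DerivedCategory.Q.map (Groth.Agent.Lib.Helper15.TensorSmul.mulMap I P)) ≫
          DerivedCategory.Q.map π := by
        rw [Functor.map_comp, Category.assoc]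
    _ = _ := by
        rw [hg', Category.assoc, IsIso.inv_hom_id, Category.comp_id]
        rfl

end Groth.Agent.S13578
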