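import Groth.Statements.S13581
import Groth.Agent.Lib.Helper5.ExtAdjunction
import Groth.Agent.Lib.Helper30.SheafHomSections
import Groth.Agent.Lib.Helper30.ModEpi
import Groth.Agent.Lib.Helper83.ModCoh
-- import your own Groth.Agent.* helpers here

set_option autoImplicit false
universe w' w u
open CategoryTheory CategoryTheory.Limits
open ExtSupp

namespace Groth.Agent.S13581

/-- On a ringed site, for an object `U` and sheaves of modules `M`, `N`, the group `Ext^i(M_U, N)`,
where `M_U = j_!(M|_U)` is the extension by zero of the restriction, is isomorphic to
`Ext^i_{O|_U}(M|_U, N|_U)` computed on the localised site over `U`; hence the long exact sequence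
`Ext^i_Z(M, N) → Ext^i(M, N) → Ext^i(M_U, N) → Ext^{i+1}_Z(M, N)` for the closed complement `Z` of
`U` has the Ext groups of the restrictions as its third terms. Existence of an isomorphism of groups
in each degree only. (The published statements give the long exact sequence itself, on a ringed
space resp. a ringed topos; its exactness over these definitions is formal and is not part of this
row.) -/
theorem result {C : Type u} [SmallCategory C]
    {J : GrothendieckTopology C} {O : Sheaf J CommRingCat.{u}} [HasExt.{w} (ModSite.Mod O)]
    (U : C) [HasExt.{w'} (ModSite.Mod (O.over U))] (M N : ModSite.Mod O) (i : ℕ) :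
    Nonempty (Abelian.Ext.{w} (ExtSupp.openMod U M) N i ≃+
      Abelian.Ext.{w'} ((ModSite.restr O U).obj M) ((ModSite.restr O U).obj N) i) := by
  have h1 : PreservesFiniteLimits (ModSite.extZero O U) :=
    Groth.Agent.Lib.Helper30.ExtZero.jS_preservesFiniteLimits O U
  have h2 : (ModSite.extZero O U).Additive := Groth.Agent.Lib.Helper30.ExtZero.extZero_additive O U
  have h3 : PreservesFiniteColimits (ModSite.restr O U) :=
    Groth.Agent.Lib.Helper30.ModEpi.restr_preservesFiniteColimits O U
  have h4 : PreservesFiniteColimits (ModSite.extZero O U) := by
    have := (ModSite.extZeroAdj O U).leftAdjoint_preservesColimits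
    infer_instance
  have h5 : PreservesFiniteLimits (ModSite.restr O U) := by
    have := (ModSite.extZeroAdj O U).rightAdjoint_preservesLimits
    infer_instance
  exact ⟨Groth.Agent.Lib.Helper5.extAdjAddEquiv (ModSite.extZeroAdj O U)
    ((ModSite.restr O U).obj M) N i⟩
end Groth.Agent.S13581
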