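import Groth.Statements.S13586
import Groth.Agent.Lib.Helper83.SuppTheta
import Groth.Agent.Lib.Helper83.SSPUnit
import Groth.Agent.Lib.Helper33.GrothSS
import Groth.Agent.S6150
-- import your own Groth.Agent.* helpers here

set_option autoImplicit false
universe u
open CategoryTheory CategoryTheory.Limits
open ExtSupp

namespace Groth.Agent.S13586

/-- On a ringed site, for an object `U` with closed complement `Z` and sheaves of modules `M`, `N`,
there is a bounded `E_2` spectral sequence of abelian groups with `E_2^{p,q}` isomorphic to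
`H^p_Z(ℰxt^q_O(M, N))` for `p, q ≥ 0` and zero otherwise, together with abutment data whose
filtrations are finite on `Ext^n_Z(M, N)` (`n ≥ 0`; zero for `n < 0`). The `E_2` identifications and
the abutment isomorphisms are asserted to exist only and are not pinned to the canonical maps, so
edge maps are not part of this statement; the internal hom out of `M`, the right adjoint of
restriction to `U` and injective resolutions of sheaves of modules are assumed to exist. (The
published statement, on a ringed topos and likewise on a ringed space, is functorial in `M`, `N` and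
in an object `X` of the topos; this row is the case of the final object.) -/
theorem result {C : Type u} [SmallCategory C]
    {J : GrothendieckTopology C} {O : Sheaf J CommRingCat.{u}} [HasExt.{u} (ModSite.Mod O)]
    (U : C) [ModSite.HasPushOver O U] (M N : ModSite.Mod O) [ModSite.HasSheafHom M]
    [HasInjectiveResolutions (ModSite.Mod O)] :
    ∃ (E : E₂CohomologicalSpectralSequence AddCommGrpCat.{u})
      (a : SpSeq.Abutment E (fun n : ℤ =>
        if 0 ≤ n then AddCommGrpCat.of (ExtSupp.ExtZ U M N n.toNat) else AddCommGrpCat.of PUnit.{u + 1})),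
      (∀ n, a.IsFinite n) ∧ SpSeq.IsBounded E ∧
      ∀ p q : ℤ, Nonempty ((E.page 2 le_rfl).X (p, q) ≅
        (if 0 ≤ p ∧ 0 ≤ q then AddCommGrpCat.of (ModSite.HZ U ((ModSite.extSh M q.toNat).obj N) p.toNat)
         else AddCommGrpCat.of PUnit.{u + 1})) := by
  have hpresT : PreservesFiniteLimits (SheafOfModules.toSheaf (ModSite.ringSh O)) := inferInstance
  let T := ModSite.sheafHom M
  let S := Groth.Agent.Lib.Helper83.HZDerived.SZ (ModSite.ringSh O) (ToposFin.eps J U)
  have hT : ∀ Q : ModSite.Mod O, Injective Q → ∀ q : ℕ, 0 < q →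
      IsZero ((S.rightDerived q).obj (T.obj Q)) := by
    intro Q hQ q hq
    obtain ⟨k, rfl⟩ : ∃ k, q = k + 1 := ⟨q - 1, by omega⟩
    obtain ⟨e⟩ := Groth.Agent.Lib.Helper83.HZDerived.nonempty_rightDerived_SZ_iso
      (ModSite.ringSh O) (ToposFin.eps J U) (T.obj Q) (k + 1)
    have hac := Groth.Agent.S6150.result O M Q
    have hsub : Subsingleton ((ToposFin.HZFunctor (ToposFin.eps J U) (k + 1)).obj
        ((SheafOfModules.toSheaf (ModSite.ringSh O)).obj (T.obj Q))) :=
      Groth.Agent.Lib.Helper83.FlasqueZ.subsingleton_ext_quotZ _ hac (ToposFin.eps J U) k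
    exact IsZero.of_iso (AddCommGrpCat.isZero_of_subsingleton _) e
  obtain ⟨Φ⟩ := Groth.Agent.Lib.Helper83.SuppTheta.nonempty_theta (U := U) M
  apply Groth.Agent.Lib.Helper83.SSPUnit.punit_of_zero
    (fun n => AddCommGrpCat.of (ExtSupp.ExtZ U M N n))
    (fun p q => AddCommGrpCat.of (ModSite.HZ U ((ModSite.extSh M q).obj N) p))
  exact Groth.Agent.Lib.Helper33.GrothSS.grothendieck_ss T S hT N _
    (fun n => Groth.Agent.Lib.Helper33.ExtRD.ext_iso_rightDerived_of_iso
      ((ModSite.quotOn O U).obj M) (T ⋙ S) Φ N n) _
    (fun p q => Groth.Agent.Lib.Helper83.HZDerived.nonempty_rightDerived_SZ_iso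
      (ModSite.ringSh O) (ToposFin.eps J U) ((ModSite.extSh M q).obj N) p)
end Groth.Agent.S13586
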