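import Groth.Statements.S1359
import Mathlib
import Groth.Agent.Lib.Helper71.InfNbhd

set_option autoImplicit false
universe u
open FlatMor

namespace Groth.Agent.S1359

-- HELPERS BEGIN
-- HELPERS END


open AlgebraicGeometry CategoryTheory Limits in
/-- Let S be locally Noetherian, f : X → S of finite type, and Z the closed subscheme of S cut out by an
ideal sheaf I, with infinitesimal neighbourhoods cut out by the powers of I. If the base change of f
to every infinitesimal neighbourhood is smooth, then every point of X lying over Z is in the smooth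
locus of f. -/
theorem result {X S : Scheme.{u}} (f : X ⟶ S) [IsLocallyNoetherian S] [LocallyOfFinitePresentation f] [QuasiCompact f]
    (I : S.IdealSheafData) (h : ∀ n : ℕ, Smooth (pullback.snd f (I ^ (n + 1)).subschemeι)) (x : X) (hx : f x ∈ I.support) :
    x ∈ f.smoothLocus := by
  rw [Scheme.Hom.mem_smoothLocus]
  obtain ⟨U', hU', hxU', -⟩ := TopologicalSpace.Opens.isBasis_iff_nbhd.mp S.isBasis_affineOpens
    (TopologicalSpace.Opens.mem_top (f x))
  obtain ⟨V', hV', hxV', e⟩ := TopologicalSpace.Opens.isBasis_iff_nbhd.mp X.isBasis_affineOpens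
    (show x ∈ f ⁻¹ᵁ U' from hxU')
  let U : S.affineOpens := ⟨U', hU'⟩
  let V : X.affineOpens := ⟨V', hV'⟩
  rw [formallySmooth_stalkMap_iff U.1 U.2 V.1 V.2 e hxV']
  let _ := (f.appLE U.1 V.1 e).hom.toAlgebra
  have hN : IsNoetherianRing Γ(S, U.1) := IsLocallyNoetherian.component_noetherian U
  have hfp : Algebra.FinitePresentation Γ(S, U.1) Γ(X, V.1) :=
    HasRingHomProperty.appLE (P := @LocallyOfFinitePresentation) f inferInstance U V e
  have hsmooth : ∀ n : ℕ, Algebra.Smooth (Γ(S, U.1) ⧸ (I.ideal U) ^ (n + 1))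
      (Γ(X, V.1) ⧸ ((I.ideal U) ^ (n + 1)).map (algebraMap Γ(S, U.1) Γ(X, V.1))) := by
    intro n
    have := Groth.Agent.Lib.Helper71.InfNbhd.quotient_of_infinitesimal (P := @Smooth) f I n (h n) U V e
    exact RingHom.smooth_algebraMap.mp this
  have hq := Groth.Agent.Lib.Helper71.InfNbhd.map_ideal_le_primeIdealOf f I U V e x hxV' hx
  exact Groth.Agent.Lib.Helper71.SmoothAtFiber.isSmoothAt_of_smooth_quotients (I.ideal U)
    hsmooth (V.2.primeIdealOf ⟨x, hxV'⟩).asIdeal hq

end Groth.Agent.S1359
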