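import Groth.Statements.S13597
import Groth.Agent.Lib.Helper69.Quot2

set_option autoImplicit false
universe u
open CategoryTheory AlgebraicGeometry
open SGA1
open scoped Pointwise
open Groth.Agent.Lib.Helper69

namespace Groth.Agent.S13597

theorem evaluation_congr {X : Scheme.{u}} (U : X.Opens) {x x' : X} (e : x' = x) (hx : x ∈ U)
    (hx' : x' ∈ U) (b : Γ(X, U)) :
    (X.residueFieldCongr e).inv ((X.evaluation U x hx).hom b) = (X.evaluation U x' hx').hom b := by
  subst e
  simp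


/-- Let a finite group G act on a scheme X and let p : X ⟶ Y be a quotient of X by G (affine,
G-invariant, sections of O_Y = G-invariant sections of O_X). For a point x of X with image y, the
residue field κ(x) is a normal algebraic extension of κ(y) through the map induced by p, and the
stabilizer of x in G maps onto the group of κ(y)-automorphisms of κ(x): every automorphism τ of κ(x)
over κ(y) is the map on residue fields induced by some g ∈ G with g·x = x (composed with the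
identification of the residue fields at g·x and x). -/
theorem result {X Y : Scheme.{u}} {G : Type u}
    [Group G] [Finite G] (ρ : G →* Aut X) (p : X ⟶ Y) (hp : SGA1.IsQuot ρ p) (x : X) :
    (letI := (p.residueFieldMap x).hom.toAlgebra
     Normal (Y.residueField (p.base x)) (X.residueField x)) ∧
    ∀ τ : X.residueField x ≅ X.residueField x,
      p.residueFieldMap x ≫ τ.hom = p.residueFieldMap x →
      ∃ (g : G) (e : (ρ g).hom.base x = x),
        τ.hom = (X.residueFieldCongr e).inv ≫ (ρ g).hom.residueFieldMap x := by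
  obtain ⟨_, ⟨U, hU', rfl⟩, hyU, -⟩ := Y.isBasis_affineOpens.exists_subset_of_mem_open
    (Set.mem_univ (p.base x)) isOpen_univ
  have hU : IsAffineOpen U := hU'
  have := hp.affine
  have hV : IsAffineOpen (p ⁻¹ᵁ U) := hU.preimage p
  have hx : x ∈ p ⁻¹ᵁ U := hyU
  let _ := sectionMulSemiringAction ρ p hp.inv U
  let _ : Algebra Γ(Y, U) Γ(X, p ⁻¹ᵁ U) := sectionAlgebra p U
  have : Algebra.IsInvariant Γ(Y, U) Γ(X, p ⁻¹ᵁ U) G := isInvariant ρ p hp U
  have : SMulCommClass G Γ(Y, U) Γ(X, p ⁻¹ᵁ U) := smulCommClass ρ p hp U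
  let Q : Ideal Γ(X, p ⁻¹ᵁ U) := (hV.primeIdealOf ⟨x, hx⟩).asIdeal
  let P : Ideal Γ(Y, U) := (hU.primeIdealOf ⟨p.base x, hx⟩).asIdeal
  have : Q.LiesOver P := ⟨(under_primeIdealOf p U hU hV x hx).symm⟩
  let K := Y.residueField (p.base x)
  let L := X.residueField x
  let _ : Algebra K L := (p.residueFieldMap x).hom.toAlgebra
  let _ : Algebra (Γ(Y, U) ⧸ P) K := (evalQuot hU (p.base x) hx).toAlgebra
  let _ : Algebra (Γ(X, p ⁻¹ᵁ U) ⧸ Q) L := (evalQuot hV x hx).toAlgebra
  have : IsFractionRing (Γ(Y, U) ⧸ P) K := isFractionRing_evalQuot hU (p.base x) hx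
  have : IsFractionRing (Γ(X, p ⁻¹ᵁ U) ⧸ Q) L := isFractionRing_evalQuot hV x hx
  let _ : Algebra (Γ(Y, U) ⧸ P) L :=
    ((algebraMap (Γ(X, p ⁻¹ᵁ U) ⧸ Q) L).comp
      (algebraMap (Γ(Y, U) ⧸ P) (Γ(X, p ⁻¹ᵁ U) ⧸ Q))).toAlgebra
  have : IsScalarTower (Γ(Y, U) ⧸ P) (Γ(X, p ⁻¹ᵁ U) ⧸ Q) L := .of_algebraMap_eq' rfl
  have : IsScalarTower (Γ(Y, U) ⧸ P) K L := by
    apply IsScalarTower.of_algebraMap_eq
    intro a
    obtain ⟨a, rfl⟩ := Ideal.Quotient.mk_surjective a
    change (X.evaluation (p ⁻¹ᵁ U) x hx).hom ((p.app U).hom a) =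
      (p.residueFieldMap x).hom ((Y.evaluation U (p.base x) hx).hom a)
    exact (Scheme.evaluation_naturality_apply p x hx a).symm
  refine ⟨Ideal.IsFractionRing.normal G P Q K L, ?_⟩
  intro τ hτ
  let τ' : L ≃ₐ[K] L := AlgEquiv.ofRingEquiv (f := τ.commRingCatIsoToRingEquiv) (fun k => by
    exact congrArg (fun f => f.hom k) hτ)
  obtain ⟨σ, hσ⟩ := IsFractionRing.stabilizerHom_surjective G P Q K L τ'
  have hσx : (ρ (σ : G)).hom.base x = x := by
    have h1 := smul_primeIdealOf ρ p hp U hV (σ : G) x hx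
    have h2 : (σ : G) • Q = Q := σ.2
    have h3 : hV.primeIdealOf ⟨(ρ (σ : G)).hom.base x,
        SGA1.preimage_le_of_inv ρ p hp.inv (σ : G) U hx⟩ = hV.primeIdealOf ⟨x, hx⟩ :=
      PrimeSpectrum.ext (h1.symm.trans h2)
    have := congrArg hV.fromSpec h3
    rw [hV.fromSpec_primeIdealOf, hV.fromSpec_primeIdealOf] at this
    exact this
  have hσx' : (ρ (σ : G)⁻¹).hom.base x = x := by
    have h1 : (ρ (σ : G)).hom ≫ (ρ (σ : G)⁻¹).hom = 𝟙 X := by
      have : ρ ((σ : G)⁻¹ * σ) = 1 := by rw [inv_mul_cancel, map_one]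
      rw [map_mul] at this
      exact congrArg Iso.hom this
    have := congrArg (fun f => f.base x) h1
    simp only [Scheme.Hom.comp_base, TopCat.hom_comp, ContinuousMap.comp_apply,
      Scheme.Hom.id_base, TopCat.hom_id, ContinuousMap.id_apply] at this
    rw [hσx] at this
    exact this
  refine ⟨(σ : G)⁻¹, hσx', ?_⟩
  apply CommRingCat.hom_ext
  apply IsLocalization.ringHom_ext (nonZeroDivisors (Γ(X, p ⁻¹ᵁ U) ⧸ Q))
  apply Ideal.Quotient.ringHom_ext
  ext b
  have h1 : τ.hom.hom (algebraMap _ L (Ideal.Quotient.mk Q b)) =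
      algebraMap _ L (Ideal.Quotient.mk Q ((σ : G) • b)) := by
    have := IsFractionRing.stabilizerHom_apply_apply_mk G P Q K L σ b
    rw [hσ] at this
    exact this
  change τ.hom.hom (algebraMap _ L (Ideal.Quotient.mk Q b)) =
    ((ρ (σ : G)⁻¹).hom.residueFieldMap x).hom
      ((X.residueFieldCongr hσx').inv.hom ((X.evaluation (p ⁻¹ᵁ U) x hx).hom b))
  rw [h1]
  have hx'' : (ρ (σ : G)⁻¹).hom.base x ∈ p ⁻¹ᵁ U :=
    SGA1.preimage_le_of_inv ρ p hp.inv (σ : G)⁻¹ U hx
  have h2 := evaluation_congr (p ⁻¹ᵁ U) hσx' hx hx'' b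
  rw [h2]
  have h3 := Scheme.evaluation_naturality_apply (ρ (σ : G)⁻¹).hom x hx'' b
  rw [h3]
  change (X.evaluation (p ⁻¹ᵁ U) x hx).hom (sectionAct ρ p hp.inv U (σ : G)⁻¹ b) = _
  change (X.presheaf.germ _ x _ ≫ X.residue x).hom _ = (X.presheaf.germ _ x _ ≫ X.residue x).hom _
  simp only [sectionAct, Scheme.Hom.appLE, CommRingCat.hom_comp, RingHom.coe_comp,
    Function.comp_apply]
  congr 1
  exact TopCat.Presheaf.germ_res_apply _ _ _ _ _

end Groth.Agent.S13597
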