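import Groth.Statements.S1360
import Mathlib
import Groth.Agent.Lib.Helper71.InfNbhd

set_option autoImplicit false
universe u
open FlatMor

namespace Groth.Agent.S1360

-- HELPERS BEGIN
open Groth.Agent.Lib.Helper71.NhdAppLE in
theorem hQ_etale : RingHom.StableUnderCompositionWithLocalizationAwaySource RingHom.Etale :=
  (RingHom.StableUnderComposition.stableUnderCompositionWithLocalizationAway
    RingHom.Etale.stableUnderComposition
    (fun _ _ _ _ _ r _ => RingHom.etale_algebraMap.mpr (Algebra.Etale.of_isLocalizationAway r))).1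
-- HELPERS END


open AlgebraicGeometry CategoryTheory Limits in
/-- Let S be locally Noetherian, f : X → S of finite type, and Z the closed subscheme of S cut out by an
ideal sheaf I. If the base change of f to every infinitesimal neighbourhood of Z is étale, then
every point of X over Z has an open neighbourhood on which f is étale. -/
theorem result {X S : Scheme.{u}} (f : X ⟶ S) [IsLocallyNoetherian S] [LocallyOfFinitePresentation f] [QuasiCompact f]
    (I : S.IdealSheafData) (h : ∀ n : ℕ, Etale (pullback.snd f (I ^ (n + 1)).subschemeι)) (x : X) (hx : f x ∈ I.support) :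
    ∃ U : X.Opens, x ∈ U ∧ Etale (U.ι ≫ f) := by
  obtain ⟨U', hU', hxU', -⟩ := TopologicalSpace.Opens.isBasis_iff_nbhd.mp S.isBasis_affineOpens
    (TopologicalSpace.Opens.mem_top (f x))
  obtain ⟨V', hV', hxV', e⟩ := TopologicalSpace.Opens.isBasis_iff_nbhd.mp X.isBasis_affineOpens
    (show x ∈ f ⁻¹ᵁ U' from hxU')
  let U : S.affineOpens := ⟨U', hU'⟩
  let V : X.affineOpens := ⟨V', hV'⟩
  let _ := (f.appLE U.1 V.1 e).hom.toAlgebra
  have hN : IsNoetherianRing Γ(S, U.1) := IsLocallyNoetherian.component_noetherian U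
  have hfp : Algebra.FinitePresentation Γ(S, U.1) Γ(X, V.1) :=
    HasRingHomProperty.appLE (P := @LocallyOfFinitePresentation) f inferInstance U V e
  have het : ∀ n : ℕ, Algebra.Etale (Γ(S, U.1) ⧸ (I.ideal U) ^ (n + 1))
      (Γ(X, V.1) ⧸ ((I.ideal U) ^ (n + 1)).map (algebraMap Γ(S, U.1) Γ(X, V.1))) := by
    intro n
    have := Groth.Agent.Lib.Helper71.InfNbhd.quotient_of_infinitesimal (P := @Etale) f I n (h n) U V e
    exact RingHom.etale_algebraMap.mp this
  have hq := Groth.Agent.Lib.Helper71.InfNbhd.map_ideal_le_primeAt f I U V e x hxV' hx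
  have hEt : Algebra.IsEtaleAt Γ(S, U.1) (Groth.Agent.Lib.Helper71.NhdAppLE.primeAt V.1 x hxV') :=
    Groth.Agent.Lib.Helper71.SmoothAtFiber.isEtaleAt_of_etale_quotients (I.ideal U) het _ hq
  obtain ⟨g, hgq, hget⟩ := Algebra.exists_etale_of_isEtaleAt (R := Γ(S, U.1))
    (Groth.Agent.Lib.Helper71.NhdAppLE.primeAt V.1 x hxV')
  refine ⟨X.basicOpen g,
    Groth.Agent.Lib.Helper71.NhdAppLE.mem_basicOpen_of_notMem_primeAt V.1 x hxV' g hgq, ?_⟩
  refine (Groth.Agent.Lib.Helper71.NhdAppLE.iota_comp_iff (P := @Etale) hQ_etale f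
    (X.basicOpen g) (V.2.basicOpen g) U.1 U.2 ((X.basicOpen_le g).trans e)).mpr ?_
  let _ : Algebra Γ(S, U.1) Γ(X, X.basicOpen g) :=
    (f.appLE U.1 (X.basicOpen g) ((X.basicOpen_le g).trans e)).hom.toAlgebra
  obtain ⟨eq⟩ := Groth.Agent.Lib.Helper71.NhdAppLE.nonempty_algEquiv_basicOpen f U.1 V.1 V.2 e g
  have h5 : Algebra.Etale Γ(S, U.1) Γ(X, X.basicOpen g) := Algebra.Etale.of_equiv eq
  exact h5

end Groth.Agent.S1360
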