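import Groth.Statements.S13601
import Groth.Agent.Lib.Helper69.SymChart2
import Groth.Agent.S14671

set_option autoImplicit false
universe u
open CategoryTheory AlgebraicGeometry
open SymProd

namespace Groth.Agent.S13601
open Groth.Agent.Lib.Helper69 Groth.Agent.Lib.Helper69.SymChart

/-- Let f : X ⟶ S be a flat morphism of schemes such that every finite set of points of X lying over a
single point of S is contained in an affine open of X, let n ≥ 0, and let (Y, q, g) be an n-th
symmetric power of X over S: q : X ×_S ⋯ ×_S X ⟶ Y (n factors) is a quotient by the symmetric group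
on n letters permuting the factors (affine, invariant, identifying sections of O_Y with invariant
sections) and g : Y ⟶ S satisfies q ≫ g = the structure map of the fibre power. Then g is flat. -/
theorem result {X S Y : Scheme.{u}} (f : X ⟶ S) [Flat f]
    (hAF : SymProd.IsAF f) (n : ℕ) (q : SymProd.fibPow f n ⟶ Y) (g : Y ⟶ S)
    (hq : SymProd.IsSymProd f n q g) : Flat g := by
  rw [HasRingHomProperty.iff_exists_appLE (P := @Flat)
    ((RingHom.Flat.stableUnderComposition.stableUnderCompositionWithLocalizationAway
      RingHom.Flat.holdsForLocalizationAway).left)]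
  intro y
  obtain ⟨V, hV, U, W', hU, hUV, hy, hW'aff, hW', e⟩ :=
    exists_chart f n hAF {V | IsAffineOpen V} (fun V hV => hV)
      (fun s => by
        obtain ⟨_, ⟨V, hV, rfl⟩, hs, -⟩ := S.isBasis_affineOpens.exists_subset_of_mem_open
          (Set.mem_univ s) isOpen_univ
        exact ⟨V, hV, hs⟩) q g hq y
  have hV' : IsAffineOpen V := hV
  refine ⟨⟨V, hV'⟩, ⟨W', hW'aff⟩, hy, e, ?_⟩
  exact flat_appLE_of_chart f n q g hq hV' hU hUV W' hW'
    (HasRingHomProperty.appLE @Flat f ‹Flat f› ⟨V, hV'⟩ ⟨U, hU⟩ hUV)
    (fun R _ M _ _ _ n => Groth.Agent.S14671.result R M n) e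

end Groth.Agent.S13601
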