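import Groth.Statements.S13602
import Groth.Agent.Lib.Helper69.SymBox

set_option autoImplicit false
universe u
open CategoryTheory AlgebraicGeometry
open SymProd

namespace Groth.Agent.S13602
open Groth.Agent.Lib.Helper69.SymBox CategoryTheory.Limits

/-- Let f : X ⟶ S be a morphism of schemes satisfying (AF): every finite set of points of X over a
single point of S lies in an affine open of X. Then for every d ≥ 0 and every point x of the d-fold
fibre power X ×_S ⋯ ×_S X, some affine open of the fibre power contains the whole orbit of x under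
the symmetric group on d letters permuting the factors. (With the existence of a quotient by a
finite group whose orbits lie in affine opens, this is the existence of the symmetric power
Sym^d(X/S) for X/S satisfying (AF).) -/
theorem result {X S : Scheme.{u}} (f : X ⟶ S) (hAF : SymProd.IsAF f)
    (d : ℕ) (x : ↥(SymProd.fibPow f d)) :
    ∃ U : (SymProd.fibPow f d).Opens, IsAffineOpen U ∧
      ∀ σ : Equiv.Perm (Fin d), (SymProd.permHom f d σ).base x ∈ U := by
  classical
  let s : S := (WidePullback.base (fun _ : Fin d => f)) x
  let pt : Fin d → X := fun i => (WidePullback.π (fun _ : Fin d => f) i) x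
  have hpt : ∀ i, f (pt i) = s := by
    intro i
    change f ((WidePullback.π (fun _ : Fin d => f) i) x) = _
    rw [← Scheme.Hom.comp_apply, WidePullback.π_arrow]
  obtain ⟨U₀, hU₀, hptU₀⟩ := hAF s (Finset.univ.image pt) (by
    intro y hy
    obtain ⟨i, -, rfl⟩ := Finset.mem_image.mp hy
    exact hpt i)
  obtain ⟨V, hV, hsV, -⟩ := TopologicalSpace.Opens.isBasis_iff_nbhd.mp S.isBasis_affineOpens
    (show s ∈ (⊤ : S.Opens) from trivial)
  obtain ⟨h, hle, hmem⟩ := exists_basicOpen_le_of_finset hU₀ (f ⁻¹ᵁ V) (Finset.univ.image pt)
    hptU₀ (by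
      intro y hy
      obtain ⟨i, -, rfl⟩ := Finset.mem_image.mp hy
      change f (pt i) ∈ V
      rw [hpt i]
      exact hsV)
  have hx : x ∈ boxOpen f d V (X.basicOpen h) := by
    rw [mem_boxOpen]
    exact ⟨hsV, fun i => hmem _ (Finset.mem_image.mpr ⟨i, Finset.mem_univ i, rfl⟩)⟩
  exact ⟨boxOpen f d V (X.basicOpen h), isAffineOpen_boxOpen f d hV (hU₀.basicOpen h) hle,
    fun σ => permHom_mem_boxOpen f d V _ σ x hx⟩

end Groth.Agent.S13602
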