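import Groth.Statements.S13603
import Mathlib.Algebra.BigOperators.Group.Finset.Piecewise

set_option autoImplicit false
universe u v
open CAlg

namespace Groth.Agent.S13603

/-- Let a group G act on a commutative ring B by ring automorphisms so that every element of B has a
finite orbit, and let S ⊆ B be a multiplicative set of G-fixed elements (so each g ∈ G induces an
endomorphism of the localization S⁻¹B; the hypothesis that g maps S into S is implied by the
previous one and is only carried to name that endomorphism). Then an element of S⁻¹B is fixed by all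
of G if and only if it is a fraction b/s with b fixed by G and s ∈ S: the canonical map S⁻¹(B^G) →
(S⁻¹B)^G is onto. -/
theorem result {B : Type u} [CommRing B]
    {G : Type v} [Group G] [MulSemiringAction G B] (hfin : ∀ b : B, (MulAction.orbit G b).Finite)
    (S : Submonoid B) (hS : ∀ (g : G) (s : B), s ∈ S → g • s = s)
    (hS' : ∀ g : G, S ≤ S.comap (MulSemiringAction.toRingHom G B g)) (x : Localization S) :
    (∀ g : G, IsLocalization.map (Localization S) (MulSemiringAction.toRingHom G B g) (hS' g) x = x) ↔
      ∃ (b : B) (s : S), (∀ g : G, g • b = b) ∧ x = IsLocalization.mk' (Localization S) b s := by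
  classical
  constructor
  · intro hx
    obtain ⟨b, s, rfl⟩ := IsLocalization.exists_mk'_eq S x
    -- for every element `c` of the orbit of `b`, some `t ∈ S` has `t * c = t * b`
    have hex : ∀ c ∈ (hfin b).toFinset, ∃ t : S, (t : B) * c = t * b := by
      intro c hc
      rw [Set.Finite.mem_toFinset] at hc
      obtain ⟨g, rfl⟩ := hc
      have h1 := hx g
      rw [IsLocalization.map_mk', IsLocalization.eq] at h1
      obtain ⟨t, ht⟩ := h1
      refine ⟨t * s, ?_⟩
      have hgs : (MulSemiringAction.toRingHom G B g) (s : B) = s := hS g s s.2
      simp only [MulSemiringAction.toRingHom_apply] at ht hgs ⊢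
      rw [hgs] at ht
      simp only [Submonoid.coe_mul]
      calc (t : B) * s * g • b = t * (s * g • b) := by ring
        _ = t * (s * b) := ht
        _ = t * s * b := by ring
    choose! τ hτ using hex
    set T : S := ∏ c ∈ (hfin b).toFinset, τ c with hT
    have hTb : ∀ g : G, (T : B) * g • b = T * b := by
      intro g
      have hmem : g • b ∈ (hfin b).toFinset := by
        rw [Set.Finite.mem_toFinset]; exact ⟨g, rfl⟩
      have hdiv : (τ (g • b) : B) ∣ (T : B) := by
        have : τ (g • b) ∣ T := Finset.dvd_prod_of_mem _ hmem
        obtain ⟨k, hk⟩ := this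
        exact ⟨k, by rw [hk]; rfl⟩
      obtain ⟨k, hk⟩ := hdiv
      rw [hk]
      calc (τ (g • b) : B) * k * g • b = k * ((τ (g • b) : B) * g • b) := by ring
        _ = k * ((τ (g • b) : B) * b) := by rw [hτ _ hmem]
        _ = (τ (g • b) : B) * k * b := by ring
    refine ⟨T * b, T * s, fun g => ?_, ?_⟩
    · rw [smul_mul', hS g T T.2, hTb g]
    · rw [← IsLocalization.mk'_cancel (S := Localization S) b s T]
      congr 1
      · ring
      · rw [mul_comm]
  · rintro ⟨b, s, hb, rfl⟩ g
    rw [IsLocalization.map_mk']
    congr 1
    · exact hb g
    · exact Subtype.ext (hS g s s.2)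

end Groth.Agent.S13603
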