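import Groth.Statements.S13606
import Mathlib.AlgebraicGeometry.Morphisms.Affine

set_option autoImplicit false
set_option backward.isDefEq.respectTransparency.types false
universe u
open CategoryTheory AlgebraicGeometry
open SGA1

namespace Groth.Agent.S13606

/-- Let a finite group G act on a scheme X and let p : X ⟶ Y be a quotient of X by G (affine,
G-invariant, sections of O_Y over every open = G-invariant sections of O_X over its preimage). Then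
for every open U ⊆ Y, U is the quotient of p⁻¹U by G: the restriction p⁻¹U ⟶ U of p is again a
quotient in the same sense, for the action ρU of G on the G-stable open p⁻¹U induced by ρ (pinned by
compatibility with the inclusion p⁻¹U ⟶ X). -/
theorem result {X Y : Scheme.{u}} {G : Type u} [Group G] [Finite G]
    (ρ : G →* Aut X) (p : X ⟶ Y) (hp : SGA1.IsQuot ρ p) (U : Y.Opens)
    (ρU : G →* Aut (p ⁻¹ᵁ U).toScheme)
    (hρU : ∀ g : G, (ρU g).hom ≫ (p ⁻¹ᵁ U).ι = (p ⁻¹ᵁ U).ι ≫ (ρ g).hom) :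
    SGA1.IsQuot ρU (p ∣_ U) := by
  have haff := hp.affine
  have hinvU : ∀ g : G, (ρU g).hom ≫ p ∣_ U = p ∣_ U := by
    intro g
    rw [← cancel_mono U.ι, Category.assoc, morphismRestrict_ι, reassoc_of% (hρU g), hp.inv g]
  -- the section rings of the restrictions are section rings of `X` and `Y`
  have happ : ∀ V : U.toScheme.Opens, (p ∣_ U).app V = p.app (U.ι ''ᵁ V) ≫
      X.presheaf.map (eqToHom (image_morphismRestrict_preimage p U V)).op :=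
    fun V => morphismRestrict_app p U V
  refine ⟨IsZariskiLocalAtTarget.restrict haff U, hinvU, fun V => ?_, fun V s => ?_⟩
  · rw [happ V]
    have hbij : Function.Bijective
        (X.presheaf.map (eqToHom (image_morphismRestrict_preimage p U V)).op).hom :=
      ConcreteCategory.bijective_of_isIso _
    intro a b hab
    apply hp.injective (U.ι ''ᵁ V)
    apply hbij.1
    exact hab
  · have e := image_morphismRestrict_preimage p U V
    have hbij : Function.Bijective (X.presheaf.map (eqToHom e).op).hom :=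
      ConcreteCategory.bijective_of_isIso _
    have e₀ : (p ∣_ U) ⁻¹ᵁ V ≤ (p ⁻¹ᵁ U).ι ⁻¹ᵁ (p ⁻¹ᵁ (U.ι ''ᵁ V)) := by
      rw [← e]
      exact le_of_eq ((p ⁻¹ᵁ U).ι.preimage_image_eq _).symm
    let κ : Γ(X, p ⁻¹ᵁ (U.ι ''ᵁ V)) ⟶ Γ((p ⁻¹ᵁ U).toScheme, (p ∣_ U) ⁻¹ᵁ V) :=
      (p ⁻¹ᵁ U).ι.appLE (p ⁻¹ᵁ (U.ι ''ᵁ V)) ((p ∣_ U) ⁻¹ᵁ V) e₀
    have hθ : X.presheaf.map (eqToHom e).op = κ := by
      dsimp only [κ]
      rw [Scheme.Opens.ι_appLE]
      congr 1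
    have hκ : ∀ x, κ.hom x = (X.presheaf.map (eqToHom e).op).hom x :=
      fun x => congrArg (fun φ => φ.hom x) hθ.symm
    have hκbij : Function.Bijective κ.hom := by
      refine ⟨fun a b hab => hbij.1 ?_, fun y => ?_⟩
      · rw [← hκ a, ← hκ b]; exact hab
      · obtain ⟨x, hx⟩ := hbij.2 y
        exact ⟨x, (hκ x).trans hx⟩
    have hcongr : ∀ (c d : (p ⁻¹ᵁ U).toScheme ⟶ X) (_ : c = d)
        (ec : (p ∣_ U) ⁻¹ᵁ V ≤ c ⁻¹ᵁ (p ⁻¹ᵁ (U.ι ''ᵁ V)))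
        (ed : (p ∣_ U) ⁻¹ᵁ V ≤ d ⁻¹ᵁ (p ⁻¹ᵁ (U.ι ''ᵁ V))),
        c.appLE (p ⁻¹ᵁ (U.ι ''ᵁ V)) ((p ∣_ U) ⁻¹ᵁ V) ec =
          d.appLE (p ⁻¹ᵁ (U.ι ''ᵁ V)) ((p ∣_ U) ⁻¹ᵁ V) ed := by
      rintro _ _ rfl _ _
      rfl
    have htrans : ∀ g : G,
        κ ≫ (ρU g).hom.appLE ((p ∣_ U) ⁻¹ᵁ V) ((p ∣_ U) ⁻¹ᵁ V)
            (preimage_le_of_inv ρU (p ∣_ U) hinvU g V) =
        (ρ g).hom.appLE (p ⁻¹ᵁ (U.ι ''ᵁ V)) (p ⁻¹ᵁ (U.ι ''ᵁ V))
            (preimage_le_of_inv ρ p hp.inv g (U.ι ''ᵁ V)) ≫ κ := by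
      intro g
      dsimp only [κ]
      rw [Scheme.Hom.appLE_comp_appLE, Scheme.Hom.appLE_comp_appLE]
      exact hcongr _ _ (hρU g) _ _
    have htrans' : ∀ (g : G) (x : Γ(X, p ⁻¹ᵁ (U.ι ''ᵁ V))),
        ((ρU g).hom.appLE ((p ∣_ U) ⁻¹ᵁ V) ((p ∣_ U) ⁻¹ᵁ V)
            (preimage_le_of_inv ρU (p ∣_ U) hinvU g V)).hom (κ.hom x) =
        κ.hom (((ρ g).hom.appLE (p ⁻¹ᵁ (U.ι ''ᵁ V)) (p ⁻¹ᵁ (U.ι ''ᵁ V))
            (preimage_le_of_inv ρ p hp.inv g (U.ι ''ᵁ V))).hom x) := by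
      intro g x
      exact congrArg (fun φ => φ.hom x) (htrans g)
    have happ' : ∀ y, ((p ∣_ U).app V).hom y = κ.hom ((p.app (U.ι ''ᵁ V)).hom y) := by
      intro y
      rw [hκ]
      exact congrArg (fun φ => φ.hom y) (happ V)
    constructor
    · rintro ⟨y, rfl⟩ g
      have hy := (hp.range_iff (U.ι ''ᵁ V) ((p.app (U.ι ''ᵁ V)).hom y)).mp ⟨y, rfl⟩ g
      rw [happ' y, htrans' g, hy]
    · intro hs
      obtain ⟨s', rfl⟩ := hκbij.2 s
      have hs' : ∀ g : G, ((ρ g).hom.appLE (p ⁻¹ᵁ (U.ι ''ᵁ V)) (p ⁻¹ᵁ (U.ι ''ᵁ V))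
          (preimage_le_of_inv ρ p hp.inv g (U.ι ''ᵁ V))).hom s' = s' := by
        intro g
        apply hκbij.1
        rw [← htrans' g]
        exact hs g
      obtain ⟨y, hy⟩ := (hp.range_iff (U.ι ''ᵁ V) s').mpr hs'
      exact ⟨y, by rw [happ' y, hy]⟩

end Groth.Agent.S13606
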