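import Groth.Statements.S13608
import Groth.Agent.Lib.Helper69.Adic

set_option autoImplicit false
universe u v
open CAlg

namespace Groth.Agent.S13608

open Groth.Agent.Lib.Helper69

/-- Let A be a commutative ring, I a finitely generated ideal of A and (M_n) an inverse system of
A-modules with transition maps f_n : M_(n+1) → M_n such that I^(n+1) M_n = 0 for every n. If L is an
inverse limit of the system (projections π_n compatible with the f_n, jointly injective, and such
that every compatible family of elements lifts to L), then L is complete and separated for the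
I-adic topology. No surjectivity of the transition maps is assumed. -/
theorem result
    (A : Type u) [CommRing A] (I : Ideal A) (hI : I.FG)
    (M : ℕ → Type v) [∀ n, AddCommGroup (M n)] [∀ n, Module A (M n)]
    (f : ∀ n, M (n + 1) →ₗ[A] M n)
    (hkill : ∀ n, I ^ (n + 1) • (⊤ : Submodule A (M n)) = ⊥)
    (L : Type v) [AddCommGroup L] [Module A L] (π : ∀ n, L →ₗ[A] M n)
    (hπ : ∀ n, f n ∘ₗ π (n + 1) = π n)
    (hinj : ∀ x : L, (∀ n, π n x = 0) → x = 0)
    (hlift : ∀ y : (∀ n, M n), (∀ n, f n (y (n + 1)) = y n) → ∃ x : L, ∀ n, π n x = y n) :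
    IsAdicComplete I L := by
  -- `π n` kills `I ^ (n+1) • ⊤`
  have hle : ∀ n, (I ^ (n + 1) • ⊤ : Submodule A L) ≤ LinearMap.ker (π n) := by
    intro n
    rw [Submodule.smul_le]
    intro r hr x _
    rw [LinearMap.mem_ker, map_smul]
    have : r • π n x ∈ (I ^ (n + 1) • ⊤ : Submodule A (M n)) :=
      Submodule.smul_mem_smul hr Submodule.mem_top
    rw [hkill n] at this
    exact (Submodule.mem_bot A).1 this
  -- the induced maps from the completion of `L` to the `M n`
  let yMap : ∀ n, AdicCompletion I L →ₗ[A] M n := fun n =>
    (Submodule.liftQ _ (π n) (hle n)).comp (AdicCompletion.eval I L (n + 1))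
  have hcompat : ∀ (c : AdicCompletion I L) (n : ℕ), f n (yMap (n + 1) c) = yMap n c := by
    intro c n
    have h1 := c.property (Nat.le_succ (n + 1))
    obtain ⟨z, hz⟩ := Submodule.Quotient.mk_surjective _ (c.val (n + 1 + 1))
    have h2 : c.val (n + 1) = Submodule.Quotient.mk z := by
      rw [← h1, ← hz]; rfl
    simp only [yMap, LinearMap.comp_apply, AdicCompletion.eval_apply]
    rw [← hz, h2, Submodule.liftQ_apply, Submodule.liftQ_apply, ← hπ n]
    rfl
  have huniq : ∀ x x' : L, (∀ n, π n x = π n x') → x = x' := by
    intro x x' h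
    rw [← sub_eq_zero]
    exact hinj _ fun n => by rw [map_sub, h n, sub_self]
  let ρf : AdicCompletion I L → L := fun c =>
    Classical.choose (hlift (fun n => yMap n c) (hcompat c))
  have hρf : ∀ c n, π n (ρf c) = yMap n c := fun c =>
    Classical.choose_spec (hlift (fun n => yMap n c) (hcompat c))
  let ρ : AdicCompletion I L →ₗ[A] L :=
    { toFun := ρf
      map_add' := fun c c' => huniq _ _ fun n => by
        rw [map_add, hρf, hρf, hρf, map_add]
      map_smul' := fun a c => huniq _ _ fun n => by
        rw [RingHom.id_apply, map_smul, hρf, hρf, map_smul] }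
  have hρ : ∀ x, ρ (AdicCompletion.of I L x) = x := by
    intro x
    refine huniq _ _ fun n => ?_
    change π n (ρf _) = _
    rw [hρf]
    simp only [yMap, LinearMap.comp_apply, AdicCompletion.eval_of]
    rfl
  haveI : IsAdicComplete I (AdicCompletion I L) := AdicCompletion.isAdicComplete hI
  exact isAdicComplete_of_retract I (AdicCompletion.of I L) ρ hρ

end Groth.Agent.S13608
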