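import Groth.Statements.S13615
import Groth.Agent.Lib.Helper15.EtModSerre
import Groth.Agent.S13614

set_option autoImplicit false
open CategoryTheory CategoryTheory.Limits AlgebraicGeometry Opposite
universe u
open EtModW

namespace Groth.Agent.S13615

/-- Let X be a Noetherian scheme, i : A → X a closed immersion and j : U → X an open immersion whose
images are complementary, Λ a Noetherian ring, I an ideal of Λ and F = (F_n) an inverse system of
constructible sheaves of Λ-modules on the small etale site of X with I^(n+1) F_n = 0 for all n. Then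
F is AR I-adic (receives a morphism with kernel and cokernel null up to translation from an I-adic
system of constructible sheaves) if and only if both restricted systems (j^* F_n)_n on U and (i^*
F_n)_n on A are AR I-adic in the same sense. -/
theorem result
    (Λ : Type (u + 1)) [CommRing Λ] [IsNoetherianRing Λ] (I : Ideal Λ)
    {X A U : Scheme.{u}} [IsNoetherian X] (i : A ⟶ X) [IsClosedImmersion i] (j : U ⟶ X) [IsOpenImmersion j]
    (hAU : Set.range (fun a => i.base a) = (Set.range (fun t => j.base t))ᶜ)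
    (F : ARSys.PS (EtModW.Mod Λ X)) (hc : ∀ n : ℕ, EtModW.IsConstructible Λ (F.obj (op n)))
    (hk : ARSys.TermKilled I F) :
    (ARSys.TermKilled I F ∧ ∃ (Y : ARSys.PS (EtModW.Mod Λ X)) (v : Y ⟶ F), ARSys.IsAdic I Y ∧ (∀ n : ℕ, EtModW.IsConstructible Λ (Y.obj (op n))) ∧ ARSys.IsARIso v) ↔
      ((ARSys.TermKilled I (F ⋙ EtModW.pull Λ j) ∧ ∃ (Y : ARSys.PS (EtModW.Mod Λ U)) (v : Y ⟶ (F ⋙ EtModW.pull Λ j)), ARSys.IsAdic I Y ∧ (∀ n : ℕ, EtModW.IsConstructible Λ (Y.obj (op n))) ∧ ARSys.IsARIso v) ∧ (ARSys.TermKilled I (F ⋙ EtModW.pull Λ i) ∧ ∃ (Y : ARSys.PS (EtModW.Mod Λ A)) (v : Y ⟶ (F ⋙ EtModW.pull Λ i)), ARSys.IsAdic I Y ∧ (∀ n : ℕ, EtModW.IsConstructible Λ (Y.obj (op n))) ∧ ARSys.IsARIso v)) := by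
  have noeth : ∀ {T : Scheme.{u}} (g : T ⟶ X) [IsPreimmersion g] [LocallyOfFiniteType g],
      IsNoetherian T := fun {T} g _ _ =>
    { toIsLocallyNoetherian := LocallyOfFiniteType.isLocallyNoetherian g
      toCompactSpace := by
        rw [← isCompact_univ_iff, g.isEmbedding.isCompact_iff]
        exact TopologicalSpace.NoetherianSpace.isCompact _ }
  have : IsNoetherian U := noeth j
  have : IsNoetherian A := noeth i
  clear noeth
  constructor
  · intro hF
    exact ⟨Groth.Agent.S13614.result Λ I j F hc hF, Groth.Agent.S13614.result Λ I i F hc hF⟩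
  · rintro ⟨⟨hkj, Yj, vj, hYj, -, hvj⟩, ⟨hki, Yi, vi, hYi, -, hvi⟩⟩
    have hP := Groth.Agent.Lib.Helper15.EtModSerre.kcClosed_isConstructible (Λ := Λ) (X := X)
    let T : Bool → Scheme.{u} := fun b => cond b U A
    let g : ∀ b, T b ⟶ X := fun b => match b with
      | true => j
      | false => i
    have hg : ∀ b, IsPreimmersion (g b) := fun b => match b with
      | true => (inferInstance : IsPreimmersion j)
      | false => (inferInstance : IsPreimmersion i)
    let Φ : ∀ b : Bool, EtModW.Mod Λ X ⥤ EtModW.Mod Λ (T b) := fun b => EtModW.pull Λ (g b)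
    have : ∀ b, (Φ b).Additive := fun b => Groth.Agent.Lib.Helper15.EtModFun.pull_additive Λ (g b)
    have : ∀ b, (Φ b).Linear Λ := fun b => Groth.Agent.Lib.Helper15.EtModFun.pull_linear Λ (g b)
    have : ∀ b, PreservesFiniteLimits (Φ b) := fun b =>
      Groth.Agent.Lib.Helper15.EtModFun.pull_preservesFiniteLimits Λ (g b)
    have : ∀ b, PreservesFiniteColimits (Φ b) := fun b =>
      Groth.Agent.Lib.Helper15.EtModFun.pull_preservesFiniteColimits Λ (g b)
    have hsurj' : ∀ x : X, ∃ (b : Bool) (t : T b), g b t = x := fun x => by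
      by_cases hx : x ∈ Set.range (fun t => j.base t)
      · obtain ⟨t, ht⟩ := hx
        exact ⟨true, t, ht⟩
      · have hx' : x ∈ Set.range (fun a => i.base a) := by rw [hAU]; exact hx
        obtain ⟨t, ht⟩ := hx'
        exact ⟨false, t, ht⟩
    have hrefl : ∀ {A' B' : EtModW.Mod Λ X} (f : A' ⟶ B'), EtModW.IsConstructible Λ A' →
        EtModW.IsConstructible Λ B' → (∀ b, (Φ b).map f = 0) → f = 0 := fun f hA hB hf =>
      Groth.Agent.Lib.Helper15.ARReflect.reflects_zero_hom Φ hP
        (fun G _ hz => Groth.Agent.Lib.Helper15.EtModSerre.isZero_of_pull_immersion T g hsurj' G hz)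
        f hA hB hf
    obtain ⟨Y, v, hY, hYP, hv⟩ := Groth.Agent.Lib.Helper15.ARReflect.exists_adic_of_reflect Φ hP hrefl
      I (IsNoetherian.noetherian I) F hc hk
      (fun b => match b with
        | true => ⟨hkj, Yj, vj, hYj, hvj⟩
        | false => ⟨hki, Yi, vi, hYi, hvi⟩)
    exact ⟨hk, Y, v, hY, hYP, hv⟩

end Groth.Agent.S13615
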