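import Groth.Statements.S13616
import Groth.Agent.Lib.Helper15.EtModSerre
import Groth.Agent.S13614

set_option autoImplicit false
open CategoryTheory CategoryTheory.Limits AlgebraicGeometry Opposite
universe u
open EtModW

namespace Groth.Agent.S13616

/-- Let X be a Noetherian scheme, (g_i : U_i → X) a finite jointly surjective family of etale morphisms
with every U_i Noetherian (a finite etale covering of X by quasi-compact members), Λ a Noetherian
ring, I an ideal of Λ and F = (F_n) an inverse system of constructible sheaves of Λ-modules on the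
small etale site of X with I^(n+1) F_n = 0 for all n. Then F is AR I-adic (receives a morphism with
kernel and cokernel null up to translation from an I-adic system of constructible sheaves) if and
only if each pulled-back system (g_i^* F_n)_n on U_i is AR I-adic in the same sense. (The members of
the covering are taken Noetherian, the setting in which the criterion used by the argument applies.) -/
theorem result
    (Λ : Type (u + 1)) [CommRing Λ] [IsNoetherianRing Λ] (I : Ideal Λ)
    {X : Scheme.{u}} [IsNoetherian X] {m : ℕ} (U : Fin m → Scheme.{u}) [∀ i, IsNoetherian (U i)]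
    (g : ∀ i, U i ⟶ X) [∀ i, Etale (g i)]
    (hsurj : (⋃ i, Set.range (fun t => (g i).base t)) = Set.univ)
    (F : ARSys.PS (EtModW.Mod Λ X)) (hc : ∀ n : ℕ, EtModW.IsConstructible Λ (F.obj (op n)))
    (hk : ARSys.TermKilled I F) :
    (ARSys.TermKilled I F ∧ ∃ (Y : ARSys.PS (EtModW.Mod Λ X)) (v : Y ⟶ F), ARSys.IsAdic I Y ∧ (∀ n : ℕ, EtModW.IsConstructible Λ (Y.obj (op n))) ∧ ARSys.IsARIso v) ↔ ∀ i : Fin m, (ARSys.TermKilled I (F ⋙ EtModW.pull Λ (g i)) ∧ ∃ (Y : ARSys.PS (EtModW.Mod Λ (U i))) (v : Y ⟶ (F ⋙ EtModW.pull Λ (g i))), ARSys.IsAdic I Y ∧ (∀ n : ℕ, EtModW.IsConstructible Λ (Y.obj (op n))) ∧ ARSys.IsARIso v) := by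
  constructor
  · intro hF i
    exact Groth.Agent.S13614.result Λ I (g i) F hc hF
  · intro h
    have hP := Groth.Agent.Lib.Helper15.EtModSerre.kcClosed_isConstructible (Λ := Λ) (X := X)
    let Φ : ∀ i : Fin m, EtModW.Mod Λ X ⥤ EtModW.Mod Λ (U i) := fun i => EtModW.pull Λ (g i)
    have : ∀ i, (Φ i).Additive := fun i => Groth.Agent.Lib.Helper15.EtModFun.pull_additive Λ (g i)
    have : ∀ i, (Φ i).Linear Λ := fun i => Groth.Agent.Lib.Helper15.EtModFun.pull_linear Λ (g i)
    have : ∀ i, PreservesFiniteLimits (Φ i) := fun i =>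
      Groth.Agent.Lib.Helper15.EtModFun.pull_preservesFiniteLimits Λ (g i)
    have : ∀ i, PreservesFiniteColimits (Φ i) := fun i =>
      Groth.Agent.Lib.Helper15.EtModFun.pull_preservesFiniteColimits Λ (g i)
    have hsurj' : ∀ x : X, ∃ (i : Fin m) (t : U i), g i t = x := fun x => by
      have hx : x ∈ ⋃ i, Set.range (fun t => (g i).base t) := by rw [hsurj]; trivial
      obtain ⟨i, t, ht⟩ := Set.mem_iUnion.1 hx
      exact ⟨i, t, ht⟩
    have hrefl : ∀ {A B : EtModW.Mod Λ X} (f : A ⟶ B), EtModW.IsConstructible Λ A →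
        EtModW.IsConstructible Λ B → (∀ i, (Φ i).map f = 0) → f = 0 := fun f hA hB hf =>
      Groth.Agent.Lib.Helper15.ARReflect.reflects_zero_hom Φ hP
        (fun G _ hz => Groth.Agent.Lib.Helper15.EtModSerre.isZero_of_pull_etale U g hsurj' G hz)
        f hA hB hf
    obtain ⟨Y, v, hY, hYP, hv⟩ := Groth.Agent.Lib.Helper15.ARReflect.exists_adic_of_reflect Φ hP hrefl
      I (IsNoetherian.noetherian I) F hc hk
      (fun i => ⟨(h i).1, (h i).2.choose, (h i).2.choose_spec.choose,
        (h i).2.choose_spec.choose_spec.1, (h i).2.choose_spec.choose_spec.2.2⟩)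
    exact ⟨hk, Y, v, hY, hYP, hv⟩

end Groth.Agent.S13616
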