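import Groth.Statements.S13617
import Groth.Agent.Lib.Helper15.EtModSerre
import Groth.Agent.S13613

set_option autoImplicit false
open CategoryTheory CategoryTheory.Limits AlgebraicGeometry Opposite
universe u
open EtModW

namespace Groth.Agent.S13617

/-- Let X be a connected Noetherian scheme, Λ a Noetherian ring, I an ideal of Λ and F = (F_n) an
inverse system of sheaves of Λ-modules on the small etale site of X with every F_n constructible and
locally constant of finite type and with I^(n+1) F_n = 0 for all n. Then F is AR I-adic (receives a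
morphism with kernel and cokernel null up to translation from an I-adic system of constructible
sheaves) if and only if there is at least one geometric point s of X whose stalk system (F_n,s)_n is
an AR I-adic system of Λ-modules (termwise killed by I^(n+1) and receiving a morphism with null
kernel and cokernel from an I-adic system of finitely generated Λ-modules). -/
theorem result
    (Λ : Type (u + 1)) [CommRing Λ] [IsNoetherianRing Λ] (I : Ideal Λ)
    {X : Scheme.{u}} [IsNoetherian X] [ConnectedSpace X]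
    (F : ARSys.PS (EtModW.Mod Λ X)) (hc : ∀ n : ℕ, EtModW.IsConstructible Λ (F.obj (op n)))
    (hl : ∀ n : ℕ, EtModW.IsFTLocConst Λ (F.obj (op n))) (hk : ARSys.TermKilled I F) :
    (ARSys.TermKilled I F ∧ ∃ (Y : ARSys.PS (EtModW.Mod Λ X)) (v : Y ⟶ F), ARSys.IsAdic I Y ∧ (∀ n : ℕ, EtModW.IsConstructible Λ (Y.obj (op n))) ∧ ARSys.IsARIso v) ↔
      ∃ (Ω : Type u) (_ : Field Ω) (_ : IsSepClosed Ω) (s : Spec (CommRingCat.of Ω) ⟶ X),
        (ARSys.TermKilled I (F ⋙ EtModW.stalk Λ s) ∧ ∃ (Y : ARSys.PS (ModuleCat.{u + 1} Λ)) (v : Y ⟶ F ⋙ EtModW.stalk Λ s), ARSys.IsAdic I Y ∧ (∀ n : ℕ, Module.Finite Λ (Y.obj (op n))) ∧ ARSys.IsARIso v) := by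
  constructor
  · intro hF
    obtain ⟨Ω, _, _, s, -⟩ := Groth.Agent.Lib.Helper15.EtModSerre.exists_geomPt
      (X := X) (Classical.arbitrary X)
    exact ⟨Ω, inferInstance, inferInstance, s, Groth.Agent.S13613.result Λ I X F hF s⟩
  · rintro ⟨Ω, _, _, s, hks, Y₀, v₀, hY₀, -, hv₀⟩
    have hP := Groth.Agent.Lib.Helper15.EtModSerre.kcClosed_isFTLC (Λ := Λ) (X := X)
    let Φ : ∀ _ : Unit, EtModW.Mod Λ X ⥤ ModuleCat.{u + 1} Λ := fun _ => EtModW.stalk Λ s
    have : ∀ i, (Φ i).Additive := fun _ => Groth.Agent.Lib.Helper15.EtModStalk.stalk_additive Λ s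
    have : ∀ i, (Φ i).Linear Λ := fun _ => Groth.Agent.Lib.Helper15.EtModStalk.stalk_linear Λ s
    have : ∀ i, PreservesFiniteLimits (Φ i) := fun _ =>
      Groth.Agent.Lib.Helper15.EtModStalk.stalk_preservesFiniteLimits Λ s
    have : ∀ i, PreservesFiniteColimits (Φ i) := fun _ =>
      Groth.Agent.Lib.Helper15.EtModStalk.stalk_preservesFiniteColimits Λ s
    have hrefl : ∀ {A B : EtModW.Mod Λ X} (f : A ⟶ B), EtModW.IsFTLocConst Λ A →
        EtModW.IsFTLocConst Λ B → (∀ i, (Φ i).map f = 0) → f = 0 := fun f hA hB hf =>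
      Groth.Agent.Lib.Helper15.ARReflect.reflects_zero_hom Φ hP
        (fun G hG hz => Groth.Agent.Lib.Helper15.EtModSerre.isZero_of_isFTLC_of_stalk G hG s (hz ()))
        f hA hB hf
    obtain ⟨Y, v, hY, hYP, hv⟩ := Groth.Agent.Lib.Helper15.ARReflect.exists_adic_of_reflect Φ hP hrefl
      I (IsNoetherian.noetherian I) F hl hk (fun _ => ⟨hks, Y₀, v₀, hY₀, hv₀⟩)
    exact ⟨hk, Y, v, hY,
      fun n => Groth.Agent.Lib.Helper15.EtModSerre.isConstructible_of_isFTLC _ (hYP n), hv⟩

end Groth.Agent.S13617
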