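import Groth.Statements.S13621
import Groth.Agent.Lib.Helper15.ARAdic2

set_option autoImplicit false
open CategoryTheory CategoryTheory.Limits Opposite
universe v u
open ARSys

namespace Groth.Agent.S13621

open Groth.Agent.Lib.Helper15

theorem limit_π_tr {C : Type u} [Category.{v} C] [HasLimitsOfShape ℕᵒᵖ C] (X : ARSys.PS C)
    {n m : ℕ} (h : n ≤ m) : limit.π X (op m) ≫ ARSys.tr X h = limit.π X (op n) :=
  limit.w X (homOfLE h).op

/-- The inverse limit is a well-defined functor on projective systems up to translation. Concretely: in
an abelian category with limits of shape ℕᵒᵖ, a morphism u : X ⟶ Y of projective systems indexed by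
the natural numbers whose kernel and cokernel are null up to translation induces an isomorphism lim
X ⟶ lim Y. (The published statement is the functoriality of lim on the category of systems up to
translation; combined with the description of isomorphisms there as the morphisms with null kernel
and cokernel, this is the form stated.) -/
theorem result {C : Type u} [Category.{v} C] [Abelian C] [HasLimitsOfShape ℕᵒᵖ C]
    {X Y : ARSys.PS C} (u : X ⟶ Y) (hu : ARSys.IsARIso u) : IsIso (limMap u) := by
  obtain ⟨r, w, hnat, hw⟩ := exists_shift_inverse u hu
  obtain ⟨r₂, hr₂⟩ := IsARNull.kernel_elim u hu.1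
  let c : Cone X :=
    { pt := limit Y
      π :=
        { app := fun k => limit.π Y (op (k.unop + r)) ≫ w k.unop
          naturality := fun k l f => by
            have hle : l.unop ≤ k.unop := leOfHom f.unop
            have h1 : X.map f = tr X hle := map_eq_tr X f
            dsimp
            rw [Category.id_comp, h1, Category.assoc, ← hnat _ _ hle, ← Category.assoc,
              limit_π_tr] } }
  refine ⟨limit.lift X c, ?_, ?_⟩
  · apply limit.hom_ext
    rintro ⟨n⟩
    rw [Category.assoc, limit.lift_π, Category.id_comp]
    show limMap u ≫ limit.π Y (op (n + r)) ≫ w n = limit.π X (op n)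
    rw [← Category.assoc, limMap_π]
    -- use the kernel bound
    have hd : (u.app (op (n + r₂ + r)) ≫ w (n + r₂) - tr X (Nat.le_add_right (n + r₂) r)) ≫
        tr X (Nat.le_add_right n r₂) = 0 := by
      apply hr₂ n
      rw [Preadditive.sub_comp, Category.assoc, hw, tr_naturality, sub_self]
    rw [Preadditive.sub_comp, sub_eq_zero, Category.assoc, ← hnat n (n + r₂) (Nat.le_add_right n r₂),
      ← Category.assoc, ← tr_naturality, Category.assoc] at hd
    have h2 := congrArg (fun φ => limit.π X (op (n + r₂ + r)) ≫ φ) hd
    rw [← Category.assoc, limit_π_tr, ← Category.assoc, tr_comp, limit_π_tr] at h2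
    rw [Category.assoc]
    rw [Category.assoc] at h2
    exact h2
  · apply limit.hom_ext
    rintro ⟨n⟩
    rw [Category.assoc, limMap_π, ← Category.assoc, limit.lift_π, Category.id_comp]
    show (limit.π Y (op (n + r)) ≫ w n) ≫ u.app (op n) = limit.π Y (op n)
    rw [Category.assoc, hw, limit_π_tr]

end Groth.Agent.S13621
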