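import Groth.Statements.S13620
import Groth.Agent.Lib.Helper15.EtModStalk
import Groth.Agent.S13621

set_option autoImplicit false
open CategoryTheory CategoryTheory.Limits AlgebraicGeometry Opposite
universe u
open EtModW

namespace Groth.Agent.S13620

/-- For a Noetherian scheme X, a Noetherian coefficient ring Λ and an ideal I of Λ, let F = (F_n) be an
inverse system of sheaves of Λ-modules on the small etale site of X which is AR I-adic (I^(n+1) F_n
= 0 for all n, and F receives a morphism with kernel and cokernel null up to translation from an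
I-adic system of constructible sheaves). Then F is null up to translation if and only if for every
geometric point x of X the limit of the stalk system, lim_n F_n,x, is the zero module. (The
published lemma assumes Λ I-adically complete, which only its first assertion uses; this row states
the second assertion without it.) -/
theorem result
    (Λ : Type (u + 1)) [CommRing Λ] [IsNoetherianRing Λ] (I : Ideal Λ)
    {X : Scheme.{u}} [IsNoetherian X]
    (F : ARSys.PS (EtModW.Mod Λ X))
    (hF : (ARSys.TermKilled I F ∧ ∃ (Y : ARSys.PS (EtModW.Mod Λ X)) (v : Y ⟶ F), ARSys.IsAdic I Y ∧ (∀ n : ℕ, EtModW.IsConstructible Λ (Y.obj (op n))) ∧ ARSys.IsARIso v)) :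
    ARSys.IsARNull F ↔
      ∀ (Ω : Type u) [Field Ω] [IsSepClosed Ω] (x : Spec (CommRingCat.of Ω) ⟶ X),
        IsZero (limit (F ⋙ EtModW.stalk Λ x)) := by
  obtain ⟨hk, Y, v, hY, hYc, hv⟩ := hF
  constructor
  · intro hnull Ω _ _ x
    exact Groth.Agent.Lib.Helper15.EtModStalk.isZero_limit_of_isARNull
      (Groth.Agent.Lib.Helper15.ExactAR.isARNull_comp (EtModW.stalk Λ x) hnull)
  · intro hlim
    -- the term `Y_0` vanishes, stalk by stalk
    have h0 : IsZero (Y.obj (op 0)) := by
      apply Groth.Agent.Lib.Helper15.EtModStalk.isZero_of_stalks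
      intro Ω _ _ x
      have hiso : IsIso (limMap (Functor.whiskerRight v (EtModW.stalk Λ x))) :=
        Groth.Agent.S13621.result _
          (Groth.Agent.Lib.Helper15.ExactAR.isARIso_whiskerRight (EtModW.stalk Λ x) v hv)
      have hz : IsZero (limit (Y ⋙ EtModW.stalk Λ x)) :=
        IsZero.of_iso (hlim Ω x) (asIso (limMap (Functor.whiskerRight v (EtModW.stalk Λ x))))
      have hsurj := Concrete.surjective_π_app_zero_of_surjective_map
        (limit.isLimit (Y ⋙ EtModW.stalk Λ x)) (fun n => by
          have hepi : Epi (Y.map (homOfLE (Nat.le_succ n)).op) :=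
            Groth.Agent.Lib.Helper15.isQuot_epi (hY.2 n (n + 1) (Nat.le_succ n))
          have : Epi ((Y ⋙ EtModW.stalk Λ x).map (homOfLE (Nat.le_succ n)).op) := by
            change Epi ((EtModW.stalk Λ x).map (Y.map (homOfLE (Nat.le_succ n)).op))
            infer_instance
          exact (ModuleCat.epi_iff_surjective _).1 this)
      have hsub := ModuleCat.subsingleton_of_isZero hz
      have : Subsingleton ((EtModW.stalk Λ x).obj (Y.obj (op 0))) := by
        refine ⟨fun a b => ?_⟩
        obtain ⟨a', rfl⟩ := hsurj a
        obtain ⟨b', rfl⟩ := hsurj b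
        exact congrArg _ (@Subsingleton.elim _ hsub a' b')
      exact ModuleCat.isZero_of_subsingleton _
    -- hence all terms of `Y` vanish
    have hn : ∀ n : ℕ, IsZero (Y.obj (op n)) := fun n =>
      Groth.Agent.Lib.Helper15.EtModStalk.isZero_of_isQuot_zero
        (by simpa using hY.2 0 n (Nat.zero_le n)) h0 (n + 1) (hY.1 n)
    obtain ⟨r, hr⟩ := (Groth.Agent.Lib.Helper15.isARNull_cokernel_iff v).1 hv.2
    refine ⟨r, fun n => ?_⟩
    obtain ⟨y, hy⟩ := Groth.Agent.Lib.Helper15.exists_desc_cokernel_app v n (𝟙 _)
      ((hn n).eq_of_src _ _)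
    have h1 := hr n
    calc ARSys.shiftMap F r n = ARSys.tr F (Nat.le_add_right n r) ≫ 𝟙 _ := (Category.comp_id _).symm
      _ = ARSys.tr F (Nat.le_add_right n r) ≫ (cokernel.π v).app (op n) ≫ y := by rw [hy]
      _ = 0 := by rw [← Category.assoc, h1, zero_comp]

end Groth.Agent.S13620
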