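import Groth.Statements.S13627
import Mathlib.CategoryTheory.Limits.Shapes.Pullback.IsPullback.Basic
import Mathlib.FieldTheory.IsAlgClosed.Basic

set_option autoImplicit false
universe u
open CategoryTheory CategoryTheory.Limits AlgebraicGeometry Opposite
open FBase

namespace Groth.Agent.S13627

/-- Let P be a property of schemes over fields, invariant under isomorphisms of schemes over the base
field and ascending along every field extension k → K (if Z over k has P then Z ×_k Spec K over K
has P). For a morphism of schemes f : X → T, these conditions are equivalent: (1) for every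
algebraically closed field k and every morphism Spec k → T the fibre X ×_T Spec k has P over k; (2)
for every point t of T the fibre of f over Spec of an algebraic closure of the residue field κ(t)
has P. (Fields are taken in the universe of the schemes. The published statement also treats a
morphism from an algebraic space X to a scheme T; this row treats morphisms of schemes.) -/
theorem result
    (P : ∀ (k : Type u) [Field k] (Z : Scheme.{u}), (Z ⟶ Spec (CommRingCat.of k)) → Prop)
    (hiso : ∀ (k : Type u) [Field k] (Z Z' : Scheme.{u}) (e : Z ≅ Z') (g : Z' ⟶ Spec (CommRingCat.of k)),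
      P k Z' g → P k Z (e.hom ≫ g))
    (hext : ∀ (k K : Type u) [Field k] [Field K] (i : k →+* K) (Z : Scheme.{u}) (g : Z ⟶ Spec (CommRingCat.of k)),
      P k Z g → P K (pullback g (Spec.map (CommRingCat.ofHom i))) (pullback.snd g (Spec.map (CommRingCat.ofHom i))))
    {X T : Scheme.{u}} (f : X ⟶ T) :
    (∀ (k : Type u) [Field k] [IsAlgClosed k] (σ : Spec (CommRingCat.of k) ⟶ T),
        P k (pullback f σ) (pullback.snd f σ)) ↔
      ∀ t : T, P (AlgebraicClosure ↥(T.residueField t))
        (pullback f (Spec.map (CommRingCat.ofHom (algebraMap ↥(T.residueField t) (AlgebraicClosure ↥(T.residueField t)))) ≫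
          T.fromSpecResidueField t))
        (pullback.snd f (Spec.map (CommRingCat.ofHom (algebraMap ↥(T.residueField t) (AlgebraicClosure ↥(T.residueField t)))) ≫
          T.fromSpecResidueField t)) := by
  constructor
  · intro H t
    exact H _ _
  · intro H k _ _ σ
    -- the point hit by `σ` and the induced map on residue fields
    let t : T := σ (IsLocalRing.closedPoint k)
    let φ : T.residueField t ⟶ CommRingCat.of k :=
      Scheme.descResidueField (Scheme.stalkClosedPointTo σ)
    have hφ : Spec.map φ ≫ T.fromSpecResidueField t = σ :=
      Scheme.descResidueField_stalkClosedPointTo_fromSpecResidueField k T σ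
    letI : Algebra (T.residueField t) k := φ.hom.toAlgebra
    let ψ : AlgebraicClosure (T.residueField t) →+* k :=
      (IsAlgClosed.lift (R := T.residueField t) (S := AlgebraicClosure (T.residueField t))
        (M := k)).toRingHom
    have hψ : CommRingCat.ofHom (algebraMap (T.residueField t) (AlgebraicClosure (T.residueField t))) ≫
        CommRingCat.ofHom ψ = φ := by
      ext x
      simp only [ψ, CommRingCat.hom_comp, CommRingCat.hom_ofHom, RingHom.coe_comp, Function.comp_apply]
      exact (IsAlgClosed.lift (R := T.residueField t)
        (S := AlgebraicClosure (T.residueField t)) (M := k)).commutes x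
    let σt : Spec (CommRingCat.of (AlgebraicClosure (T.residueField t))) ⟶ T :=
      Spec.map (CommRingCat.ofHom (algebraMap (T.residueField t)
        (AlgebraicClosure (T.residueField t)))) ≫ T.fromSpecResidueField t
    have hσ : Spec.map (CommRingCat.ofHom ψ) ≫ σt = σ := by
      simp only [σt]
      rw [← Category.assoc, ← Spec.map_comp, hψ, hφ]
    have h1 := hext (AlgebraicClosure (T.residueField t)) k ψ (pullback f σt) (pullback.snd f σt) (H t)
    have s1 : IsPullback
        (pullback.fst (pullback.snd f σt) (Spec.map (CommRingCat.ofHom ψ)))
        (pullback.snd (pullback.snd f σt) (Spec.map (CommRingCat.ofHom ψ)))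
        (pullback.snd f σt) (Spec.map (CommRingCat.ofHom ψ)) := IsPullback.of_hasPullback _ _
    have s2 : IsPullback (pullback.fst f σt) (pullback.snd f σt) f σt :=
      IsPullback.of_hasPullback _ _
    have s3 := s1.paste_horiz s2
    rw [hσ] at s3
    have hP := hiso k _ _ s3.isoPullback.symm _ h1
    rwa [Iso.symm_hom, IsPullback.isoPullback_inv_snd] at hP

end Groth.Agent.S13627
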