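import Groth.Statements.S13628
import Mathlib.AlgebraicGeometry.PullbackCarrier
import Mathlib.AlgebraicGeometry.ResidueField
import Mathlib.FieldTheory.IsAlgClosed.AlgebraicClosure
import Mathlib.CategoryTheory.Limits.Shapes.Pullback.IsPullback.Basic

set_option autoImplicit false
universe u
open CategoryTheory CategoryTheory.Limits AlgebraicGeometry Opposite
open FBase

namespace Groth.Agent.S13628

/-- A geometric point of the target of a surjective morphism lifts to the source after enlarging
the algebraically closed field. -/
theorem exists_geomPoint_lift {T T' : Scheme.{u}} (h : T' ⟶ T) [Surjective h]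
    (k : Type u) [Field k] (σ : Spec (CommRingCat.of k) ⟶ T) :
    ∃ (K : Type u) (_ : Field K) (_ : IsAlgClosed K) (i : k →+* K)
      (σ' : Spec (CommRingCat.of K) ⟶ T'),
      Spec.map (CommRingCat.ofHom i) ≫ σ = σ' ≫ h := by
  -- a point of `Spec k`
  let pt : Spec (CommRingCat.of k) := (⊥ : PrimeSpectrum k)
  obtain ⟨t', ht'⟩ := h.surjective (σ pt)
  obtain ⟨z, hz₁, hz₂⟩ := Scheme.Pullback.exists_preimage_pullback (f := σ) (g := h) pt t' ht'.symm
  let κ := (pullback σ h).residueField z
  let K := AlgebraicClosure κ
  let τ : Spec (CommRingCat.of K) ⟶ pullback σ h :=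
    Spec.map (CommRingCat.ofHom (algebraMap κ K)) ≫ (pullback σ h).fromSpecResidueField z
  refine ⟨K, inferInstance, inferInstance, (Spec.preimage (τ ≫ pullback.fst σ h)).hom,
    τ ≫ pullback.snd σ h, ?_⟩
  have : CommRingCat.ofHom (Spec.preimage (τ ≫ pullback.fst σ h)).hom =
      Spec.preimage (τ ≫ pullback.fst σ h) := rfl
  rw [this, Spec.map_preimage, Category.assoc, Category.assoc, pullback.condition]
  simp only [τ, Category.assoc]

/-- Let P be a property of schemes over fields, invariant under isomorphisms of schemes over the base
field and invariant in both directions under every field extension k → K (Z over k has P if and only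
if Z ×_k Spec K over K has P). Let f : X → T be a morphism of schemes, h : T' → T a surjective
morphism of schemes and f' : X' → T' a base change of f along h. If for every algebraically closed
field k and every Spec k → T' the fibre X' ×_{T'} Spec k has P, then for every algebraically closed
field k and every Spec k → T the fibre X ×_T Spec k has P. (Fields are taken in the universe of the
schemes. The published statement is that families of del Pezzo surfaces form a stack for the étale
topology; this row is the step of its proof that descends the condition on geometric fibres along a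
surjective base change, stated for any fibre property with the invariance above.) -/
theorem result
    (P : ∀ (k : Type u) [Field k] (Z : Scheme.{u}), (Z ⟶ Spec (CommRingCat.of k)) → Prop)
    (hiso : ∀ (k : Type u) [Field k] (Z Z' : Scheme.{u}) (e : Z ≅ Z') (g : Z' ⟶ Spec (CommRingCat.of k)),
      P k Z' g → P k Z (e.hom ≫ g))
    (hext : ∀ (k K : Type u) [Field k] [Field K] (i : k →+* K) (Z : Scheme.{u}) (g : Z ⟶ Spec (CommRingCat.of k)),
      P k Z g ↔ P K (pullback g (Spec.map (CommRingCat.ofHom i))) (pullback.snd g (Spec.map (CommRingCat.ofHom i))))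
    {X T X' T' : Scheme.{u}} (f : X ⟶ T) (h : T' ⟶ T) [Surjective h] (f' : X' ⟶ T') (h' : X' ⟶ X)
    (sq : IsPullback h' f' f h)
    (H : ∀ (k : Type u) [Field k] [IsAlgClosed k] (σ' : Spec (CommRingCat.of k) ⟶ T'),
        P k (pullback f' σ') (pullback.snd f' σ'))
    (k : Type u) [Field k] [IsAlgClosed k] (σ : Spec (CommRingCat.of k) ⟶ T) :
    P k (pullback f σ) (pullback.snd f σ) := by
  obtain ⟨K, _, _, i, σ', hσ'⟩ := exists_geomPoint_lift h k σ
  rw [hext k K i (pullback f σ) (pullback.snd f σ)]
  -- `W` is the pullback of `f` along `Spec K → Spec k → T`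
  have s1 : IsPullback
      (pullback.fst (pullback.snd f σ) (Spec.map (CommRingCat.ofHom i)))
      (pullback.snd (pullback.snd f σ) (Spec.map (CommRingCat.ofHom i)))
      (pullback.snd f σ) (Spec.map (CommRingCat.ofHom i)) := IsPullback.of_hasPullback _ _
  have s2 : IsPullback (pullback.fst f σ) (pullback.snd f σ) f σ := IsPullback.of_hasPullback _ _
  have s3 := s1.paste_horiz s2
  rw [hσ'] at s3
  have s4 := IsPullback.of_right' s3 sq
  have hP := hiso K _ _ s4.isoPullback (pullback.snd f' σ') (H K σ')
  rwa [IsPullback.isoPullback_hom_snd] at hP

end Groth.Agent.S13628
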