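import Groth.Statements.S13631
import Mathlib

set_option autoImplicit false
universe u v w
open CAlg

namespace Groth.Agent.S13631

/-- Let k be a field, R an integral domain which is a k-algebra of infinite dimension over k, M a finite
free R-module, σ a ring automorphism of R mapping the image of k onto itself, and φ : M → M a
σ-semilinear map. If the cokernel of φ is finite-dimensional over k, in the sense that some finitely
generated k-subspace N of M satisfies M = N + φ(M), then φ is injective. -/
theorem result
    {k : Type u} {R : Type v} {M : Type w} [Field k] [CommRing R] [IsDomain R] [Algebra k R]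
    (hR : ¬ Module.Finite k R)
    [AddCommGroup M] [Module R M] [Module k M] [IsScalarTower k R M]
    [Module.Finite R M] [Module.Free R M]
    (σ : R ≃+* R)
    (hσ : ∀ x : k, ∃ y : k, σ (algebraMap k R x) = algebraMap k R y)
    (hσ' : ∀ y : k, ∃ x : k, σ (algebraMap k R x) = algebraMap k R y)
    (φ : M →ₛₗ[(σ : R →+* R)] M)
    (hcoker : ∃ N : Submodule k M, N.FG ∧ ∀ m : M, ∃ n ∈ N, ∃ m' : M, m = n + φ m') :
    Function.Injective φ := by
  classical
  obtain ⟨N, hNfg, hN⟩ := hcoker
  let e := Module.finBasis R M
  set n := Module.finrank R M with hn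
  let P : Matrix (Fin n) (Fin n) R := fun i j => e.repr (φ (e j)) i
  have hφ : ∀ m : M, ∀ i, e.repr (φ m) i = ∑ j, P i j * σ (e.repr m j) := by
    intro m i
    conv_lhs => rw [← e.sum_repr m]
    rw [map_sum, map_sum, Finsupp.finset_sum_apply]
    refine Finset.sum_congr rfl fun j _ => ?_
    rw [map_smulₛₗ, map_smul, Finsupp.smul_apply, smul_eq_mul, mul_comm]
    rfl
  rw [injective_iff_map_eq_zero]
  intro m hm
  by_contra hm0
  -- a nonzero vector in the kernel of `P`
  have hdet : P.det = 0 := by
    rw [← Matrix.exists_mulVec_eq_zero_iff]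
    refine ⟨fun j => σ (e.repr m j), ?_, ?_⟩
    · intro h
      apply hm0
      apply e.repr.injective
      ext j
      have := congrFun h j
      simp only [Pi.zero_apply] at this
      rw [map_zero, Finsupp.zero_apply]
      exact (map_eq_zero_iff σ σ.injective).mp this
    · ext i
      rw [Matrix.mulVec, dotProduct, Pi.zero_apply, ← hφ m i, hm, map_zero, Finsupp.zero_apply]
  obtain ⟨l, hl0, hl⟩ := Matrix.exists_vecMul_eq_zero_iff.mpr hdet
  -- the functional `Λ`
  let Λ : M →ₗ[R] R := ∑ i, l i • e.coord i
  have hΛ : ∀ x : M, Λ x = ∑ i, l i * e.repr x i := by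
    intro x
    simp [Λ, LinearMap.sum_apply]
  have hΛφ : ∀ x : M, Λ (φ x) = 0 := by
    intro x
    rw [hΛ]
    simp_rw [hφ x, Finset.mul_sum]
    rw [Finset.sum_comm]
    refine Finset.sum_eq_zero fun j _ => ?_
    have := congrFun hl j
    simp only [Matrix.vecMul, dotProduct, Pi.zero_apply] at this
    simp_rw [← mul_assoc]
    rw [← Finset.sum_mul, this, zero_mul]
  obtain ⟨i₀, hi₀⟩ : ∃ i, l i ≠ 0 := by
    by_contra h
    push_neg at h
    exact hl0 (funext h)
  have hΛe : Λ (e i₀) = l i₀ := by
    rw [hΛ]
    simp [Finsupp.single_apply]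
  -- the image of `N` under `Λ` contains the ideal generated by `l i₀`
  let Λk : M →ₗ[k] R := Λ.restrictScalars k
  have hle : LinearMap.range (LinearMap.mulRight k (l i₀)) ≤ N.map Λk := by
    rintro _ ⟨r, rfl⟩
    obtain ⟨x, hxN, m', hxm⟩ := hN (r • e i₀)
    refine ⟨x, hxN, ?_⟩
    change Λ x = r * l i₀
    have : Λ (r • e i₀) = Λ x + Λ (φ m') := by rw [hxm, map_add]
    rw [hΛφ, add_zero, map_smul, hΛe, smul_eq_mul] at this
    exact this.symm
  have hfin : Module.Finite k (N.map Λk) := Module.Finite.iff_fg.mpr (hNfg.map Λk)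
  have hfin2 : Module.Finite k (LinearMap.range (LinearMap.mulRight k (l i₀))) :=
    Submodule.finiteDimensional_of_le hle
  have hinj : Function.Injective (LinearMap.mulRight k (l i₀)) := by
    intro x y hxy
    exact mul_right_cancel₀ hi₀ hxy
  exact hR (Module.Finite.equiv (LinearEquiv.ofInjective _ hinj).symm)

end Groth.Agent.S13631
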