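import Groth.Statements.S13632
import Groth.Agent.Lib.Helper12.FiniteFlatIso

set_option autoImplicit false
universe u
open TensorProduct
open CAlg

namespace Groth.Agent.S13632

/-- Let S = Spec R, X = Spec A finite and flat over S, Y = Spec B of finite type over S, and φ : X → Y
an S-morphism given by f : B → A. If for every point s of S the fibres X_s and Y_s have the same
order (the κ(s)-dimension of their rings of global sections κ(s) ⊗ A and κ(s) ⊗ B; equivalently at
every geometric point) and φ is an isomorphism over every closed point of S (κ(m) ⊗ f bijective for
every maximal ideal m), then φ is an isomorphism, i.e. f is bijective. (The published statement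
allows an arbitrary base scheme S and Y separated of finite type over S; this row is the case of an
affine base with X and Y affine, the case its proof treats directly. Over a base with no closed
points the general statement fails: the hypothesis at closed points is then empty.) -/
theorem result
    {R A B : Type u} [CommRing R] [CommRing A] [CommRing B] [Algebra R A] [Algebra R B]
    [Module.Finite R A] [Module.Flat R A] [Algebra.FiniteType R B]
    (f : B →ₐ[R] A)
    (hrank : ∀ p : PrimeSpectrum R,
      Module.rank p.asIdeal.ResidueField (p.asIdeal.ResidueField ⊗[R] B) =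
        Module.rank p.asIdeal.ResidueField (p.asIdeal.ResidueField ⊗[R] A))
    (hmax : ∀ (m : Ideal R) [m.IsMaximal],
      Function.Bijective (LinearMap.lTensor m.ResidueField f.toLinearMap)) :
    Function.Bijective f := by
  classical
  have hsurj : Function.Surjective f :=
    Groth.Agent.Lib.Helper12.FiniteFlatIso.surjective_of_forall_maximal f
      (fun m _ => (hmax m).2)
  refine ⟨?_, hsurj⟩
  rw [injective_iff_map_eq_zero]
  intro x hx
  -- fibrewise injectivity at every prime
  have hκ : ∀ (p : Ideal R) [p.IsPrime],
      Function.Injective (LinearMap.lTensor p.ResidueField f.toLinearMap) := by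
    intro p _
    have hs : Function.Surjective
        (TensorProduct.AlgebraTensorModule.lTensor p.ResidueField p.ResidueField f.toLinearMap) :=
      LinearMap.lTensor_surjective p.ResidueField hsurj
    have hr := hrank ⟨p, inferInstance⟩
    change Module.rank p.ResidueField (p.ResidueField ⊗[R] B) =
      Module.rank p.ResidueField (p.ResidueField ⊗[R] A) at hr
    haveI : Module.Finite p.ResidueField (p.ResidueField ⊗[R] B) := by
      rw [← Module.rank_lt_aleph0_iff, hr]
      exact Module.rank_lt_aleph0 _ _
    have hfr : Module.finrank p.ResidueField (p.ResidueField ⊗[R] B) =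
        Module.finrank p.ResidueField (p.ResidueField ⊗[R] A) := by
      unfold Module.finrank
      rw [hr]
    exact (LinearMap.injective_iff_surjective_of_finrank_eq_finrank hfr).mpr hs
  have key : ∀ (q : Ideal B) [q.IsPrime], ∃ s : B, s ∉ q ∧ s * x = 0 := by
    intro q _
    haveI : (q.under R).IsPrime := Ideal.comap_isPrime _ _
    haveI : q.LiesOver (q.under R) := ⟨rfl⟩
    exact Groth.Agent.Lib.Helper12.FiniteFlatIso.exists_notMem_mul_eq_zero f hsurj q
      (q.under R) (hκ _) x hx
  by_contra hne
  have hann : LinearMap.ker (LinearMap.toSpanSingleton B B x) ≠ ⊤ := by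
    intro htop
    have : (1 : B) ∈ LinearMap.ker (LinearMap.toSpanSingleton B B x) := by rw [htop]; trivial
    rw [LinearMap.mem_ker, LinearMap.toSpanSingleton_apply, one_smul] at this
    exact hne this
  obtain ⟨q, hq, hle⟩ := Ideal.exists_le_maximal
    (LinearMap.ker (LinearMap.toSpanSingleton B B x) : Ideal B) hann
  haveI := hq.isPrime
  obtain ⟨s, hs, hsx⟩ := key q
  apply hs
  apply hle
  rw [LinearMap.mem_ker, LinearMap.toSpanSingleton_apply, smul_eq_mul]
  exact hsx

end Groth.Agent.S13632
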