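import Groth.Statements.S13634
import Groth.Agent.Lib.Helper69.CGrpLocal

set_option autoImplicit false
universe u
open CategoryTheory CategoryTheory.Limits MonoidalCategory CartesianMonoidalCategory MonObj AlgebraicGeometry
open MultSch

namespace Groth.Agent.S13634
open Groth.Agent.Lib.Helper69.CGrpLocal

/-- Let π : M → M'' be a homomorphism of commutative group schemes over a scheme S which is an
epimorphism of fppf sheaves, H a commutative group scheme over S and φ : (M'')^r → H a multilinear
morphism. If the composite of φ with π^r : M^r → (M'')^r is alternating, then φ is alternating. (The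
published statement is for module schemes over a ring R and an R-multilinear φ; the ring action
plays no role, so this row states it for commutative group schemes, which contains that case.) -/
theorem result
    {S : Scheme.{u}} {M M'' H : Over S}
    [GrpObj M] [IsCommMonObj M] [GrpObj M''] [IsCommMonObj M''] [GrpObj H] [IsCommMonObj H]
    (π : M ⟶ M'') [IsMonHom π] (hπ : Epi (CGrpSh.ptsMap Scheme.fppfPrecoverage π))
    {r : ℕ} (φ : MultSch.pow M'' r ⟶ H) (hφ : MultSch.IsMultilinear φ)
    (halt : ∀ (T : Over S) (x : Fin r → (T ⟶ M)) (i j : Fin r), i ≠ j → x i = x j →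
      MultSch.tuple (fun l => x l ≫ π) ≫ φ = 1) :
    MultSch.IsAlternating φ := by
  intro T x i j hij hx
  obtain ⟨R, hR, hlift⟩ := exists_sieve_lift_fin Scheme.fppfPrecoverage π hπ x
  apply hom_ext_of_sieve Scheme.fppfPrecoverage R hR
  intro T' f hf
  obtain ⟨y, hy⟩ := hlift f hf
  rw [MonObj.comp_one, ← Category.assoc, comp_tuple]
  have h1 := halt T' (Function.update y j (y i)) i j hij (by
    rw [Function.update_self, Function.update_of_ne hij])
  rw [← h1]
  congr 2
  funext l
  by_cases hl : l = j
  · subst hl
    rw [Function.update_self, hy i, hx]
  · rw [Function.update_of_ne hl, hy l]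

end Groth.Agent.S13634
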