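import Groth.Statements.S13642
-- import your own Groth.Agent.* helpers here

set_option autoImplicit false
open CategoryTheory
universe u
open FSch

namespace Groth.Agent.S13642

open AlgebraicGeometry

/-- Let f : 𝔛 ⟶ 𝔜 be a finite morphism of locally Noetherian formal schemes (adic, with finite morphism
of smallest levels). Then for every open U of 𝔜 the restriction f⁻¹(U) ⟶ U of f to the induced
formal schemes on U and on its inverse image is a finite morphism. -/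
theorem result (𝔛 𝔜 : FSch.Sys.{u}) (h𝔛 : 𝔛.IsLocNoethFormal) (h𝔜 : 𝔜.IsLocNoethFormal)
    (f : 𝔛 ⟶ 𝔜) (hf : FSch.IsFiniteHom f) (U : (𝔜.X 0).Opens) :
    FSch.IsFiniteHom (FSch.Hom.restrictOpen f h𝔛.1 h𝔜.1 U) := by
  obtain ⟨hadic, hfin⟩ := hf
  refine ⟨fun n => ?_, ?_⟩
  · -- pullback square restricted to opens
    have H := hadic n
    have key := Scheme.Hom.isPullback_resLE (H := H)
      (US := 𝔜.lvU h𝔜.1 (n + 1) U) (UT := 𝔜.lvU h𝔜.1 n U)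
      (UX := 𝔛.lvU h𝔛.1 (n + 1) ((f : Hom 𝔛 𝔜).app 0 ⁻¹ᵁ U))
      (UY := 𝔛.lvU h𝔛.1 n ((f : Hom 𝔛 𝔜).app 0 ⁻¹ᵁ U))
      (𝔜.lvU_le h𝔜.1 n U) (Hom.lvU_preimage f h𝔛.1 h𝔜.1 (n + 1) U).ge
      (by
        rw [Hom.lvU_preimage f h𝔛.1 h𝔜.1 n U, 𝔛.lvU_succ h𝔛.1 n, inf_idem])
    exact key
  · have h1 : IsFinite ((f : Hom 𝔛 𝔜).app 0 ∣_ 𝔜.lvU h𝔜.1 0 U) :=
      IsZariskiLocalAtTarget.restrict hfin _
    rw [← Scheme.Hom.resLE_eq_morphismRestrict] at h1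
    exact (Scheme.Hom.resLE_congr (f := (f : Hom 𝔛 𝔜).app 0) (e := le_rfl) (e₁ := rfl)
      (e₂ := (Hom.lvU_preimage f h𝔛.1 h𝔜.1 0 U)) (P := @IsFinite)).mp h1


end Groth.Agent.S13642
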