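import Groth.Statements.S13663
import Groth.Agent.Lib.Helper69.Graded

set_option autoImplicit false
universe u
open GrRing
open DirectSum
open Groth.Agent.Lib.Helper69

namespace Groth.Agent.S13663

section
variable {R A : Type u} [CommRing R] [CommRing A] [Algebra R A]
    (𝒜 : ℤ → Submodule R A) [GradedAlgebra 𝒜]
    {p : ℕ} (f : Fin p → A) (deg : Fin p → ℤ)

/-- the span of `a * ∏ f^e` with `a` homogeneous of the complementary non-positive degree -/
def W (M : ℤ) : Submodule R A :=
  Submodule.span R {y | ∃ (e : Fin p → ℕ) (a : A), a ∈ 𝒜 (M - ∑ i, (e i : ℤ) * deg i) ∧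
    M - ∑ i, (e i : ℤ) * deg i ≤ 0 ∧ y = a * ∏ i, f i ^ e i}

theorem mul_mem_W (M : ℤ) (i : Fin p) {c : A} (hc : c ∈ W 𝒜 f deg M) :
    c * f i ∈ W 𝒜 f deg (M + deg i) := by
  classical
  induction hc using Submodule.span_induction with
  | mem y hy =>
    obtain ⟨e, a, ha, hle, rfl⟩ := hy
    let e' : Fin p → ℕ := fun j => e j + (Pi.single i 1 : Fin p → ℕ) j
    have hsingle : ∑ j, ((Pi.single i 1 : Fin p → ℕ) j : ℤ) * deg j = deg i := by
      rw [Finset.sum_eq_single i]
      · simp
      · intro j _ hj; simp [Pi.single_eq_of_ne hj]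
      · simp
    have hsum : M + deg i - ∑ j, (e' j : ℤ) * deg j = M - ∑ j, (e j : ℤ) * deg j := by
      simp only [e', Nat.cast_add, add_mul, Finset.sum_add_distrib]
      rw [hsingle]; ring
    refine Submodule.subset_span ⟨e', a, ?_, ?_, ?_⟩
    · rw [hsum]; exact ha
    · rw [hsum]; exact hle
    · simp only [e', pow_add, Finset.prod_mul_distrib]
      have : ∏ j, f j ^ (Pi.single i 1 : Fin p → ℕ) j = f i := by
        rw [Finset.prod_eq_single i]
        · simp
        · intro j _ hj; simp [Pi.single_eq_of_ne hj]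
        · simp
      rw [this]; ring
  | zero => simp
  | add x y _ _ hx hy => rw [add_mul]; exact Submodule.add_mem _ hx hy
  | smul r x _ hx => rw [Algebra.smul_mul_assoc]; exact Submodule.smul_mem _ r hx

theorem le_W (hdeg : ∀ i, 0 < deg i) (hf : ∀ i, f i ∈ 𝒜 (deg i))
    (hgen : Ideal.span {a : A | ∃ n : ℤ, 0 < n ∧ a ∈ 𝒜 n} = Ideal.span (Set.range f)) :
    ∀ (k : ℕ) (M : ℤ), M ≤ k → 𝒜 M ≤ W 𝒜 f deg M := by
  intro k
  induction k with
  | zero =>
    intro M hM y hy
    refine Submodule.subset_span ⟨fun _ => 0, y, ?_, ?_, ?_⟩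
    · simpa using hy
    · simpa using hM
    · simp
  | succ k ih =>
    intro M hM y hy
    by_cases hMk : M ≤ k
    · exact ih M hMk hy
    · have hMpos : 0 < M := by push_cast at hM; omega
      have hy' : y ∈ Ideal.span (Set.range f) := hgen ▸ Ideal.subset_span ⟨M, hMpos, hy⟩
      obtain ⟨c, hc, rfl⟩ := exists_homogeneous_coeff 𝒜 f deg hf hy hy'
      refine Submodule.sum_mem _ fun i _ => ?_
      have h1 : c i ∈ W 𝒜 f deg (M - deg i) :=
        ih (M - deg i) (by have := hdeg i; push_cast at hM; omega) (hc i)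
      have h2 := mul_mem_W 𝒜 f deg (M - deg i) i h1
      rwa [sub_add_cancel] at h2

end


/-- Let A be a commutative ring graded by the integers whose ideal generated by the homogeneous elements
of positive degree has homogeneous generators f_1, …, f_p, of positive degrees d_1, …, d_p, and let
d be a positive integer divisible by each d_i. Then A_N = A_d · A_{N-d} for every integer N > dp -
(d_1 + ⋯ + d_p). -/
theorem result {R A : Type u} [CommRing R] [CommRing A] [Algebra R A]
    (𝒜 : ℤ → Submodule R A) [GradedAlgebra 𝒜]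
    {p : ℕ} (f : Fin p → A) (deg : Fin p → ℤ) (hdeg : ∀ i, 0 < deg i) (hf : ∀ i, f i ∈ 𝒜 (deg i))
    (hgen : Ideal.span {a : A | ∃ n : ℤ, 0 < n ∧ a ∈ 𝒜 n} = Ideal.span (Set.range f))
    (d : ℤ) (hd : 0 < d) (hdvd : ∀ i, deg i ∣ d) (N : ℤ) (hN : d * p - ∑ i, deg i < N) :
    𝒜 N = 𝒜 d * 𝒜 (N - d) := by
  classical
  apply le_antisymm
  · refine (le_W 𝒜 f deg hdeg hf hgen N.toNat N (Int.self_le_toNat N)).trans ?_
    rw [W, Submodule.span_le]
    rintro y ⟨e, a, ha, hle, rfl⟩
    have hex : ∃ i, d ≤ (e i : ℤ) * deg i := by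
      by_contra hne
      push Not at hne
      have h1 : ∀ i, (e i : ℤ) * deg i ≤ d - deg i := by
        intro i
        obtain ⟨k, hk⟩ := hdvd i
        have h3 := hne i
        have hdi := hdeg i
        rw [hk] at h3 ⊢
        have h4 : (e i : ℤ) < k := by nlinarith
        nlinarith
      have h2 : ∑ i, (e i : ℤ) * deg i ≤ d * p - ∑ i, deg i := by
        calc ∑ i, (e i : ℤ) * deg i ≤ ∑ i, (d - deg i) := Finset.sum_le_sum fun i _ => h1 i
          _ = d * p - ∑ i, deg i := by simp [Finset.sum_sub_distrib, mul_comm]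
      omega
    obtain ⟨i, hi⟩ := hex
    obtain ⟨k, hk⟩ := hdvd i
    have hdi := hdeg i
    have hkpos : 0 < k := by nlinarith
    have hkn : ((k.toNat : ℕ) : ℤ) = k := Int.toNat_of_nonneg hkpos.le
    have hek : k.toNat ≤ e i := by
      have : k ≤ (e i : ℤ) := by rw [hk] at hi; nlinarith
      omega
    let e' : Fin p → ℕ := fun j => e j - (Pi.single i k.toNat : Fin p → ℕ) j
    have he : ∀ j, e j = e' j + (Pi.single i k.toNat : Fin p → ℕ) j := by
      intro j
      by_cases hj : j = i
      · subst hj; simp only [e', Pi.single_eq_same]; omega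
      · simp [e', Pi.single_eq_of_ne hj]
    have hprod : ∏ j, f j ^ e j = f i ^ k.toNat * ∏ j, f j ^ e' j := by
      have : ∏ j, f j ^ (Pi.single i k.toNat : Fin p → ℕ) j = f i ^ k.toNat := by
        rw [Finset.prod_eq_single i]
        · simp
        · intro j _ hj; simp [Pi.single_eq_of_ne hj]
        · simp
      calc ∏ j, f j ^ e j = ∏ j, (f j ^ e' j * f j ^ (Pi.single i k.toNat : Fin p → ℕ) j) :=
            Finset.prod_congr rfl fun j _ => by rw [← pow_add, ← he j]
        _ = f i ^ k.toNat * ∏ j, f j ^ e' j := by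
            rw [Finset.prod_mul_distrib, this, mul_comm]
    have hsum : ∑ j, (e j : ℤ) * deg j = ∑ j, (e' j : ℤ) * deg j + d := by
      have hs : ∑ j, ((Pi.single i k.toNat : Fin p → ℕ) j : ℤ) * deg j = k * deg i := by
        rw [Finset.sum_eq_single i]
        · simp [hkn]
        · intro j _ hj; simp [Pi.single_eq_of_ne hj]
        · simp
      calc ∑ j, (e j : ℤ) * deg j
          = ∑ j, ((e' j : ℤ) * deg j + ((Pi.single i k.toNat : Fin p → ℕ) j : ℤ) * deg j) :=
            Finset.sum_congr rfl fun j _ => by rw [← add_mul, ← Nat.cast_add, ← he j]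
        _ = ∑ j, (e' j : ℤ) * deg j + d := by
            rw [Finset.sum_add_distrib, hs, hk, mul_comm]
    rw [hprod, ← mul_assoc, mul_comm a, mul_assoc]
    refine Submodule.mul_mem_mul ?_ ?_
    · have h1 := SetLike.pow_mem_graded k.toNat (hf i)
      have h2 : k.toNat • deg i = d := by
        rw [nsmul_eq_mul, hkn, hk, mul_comm]
      rwa [h2] at h1
    · have h1 : ∏ j, f j ^ e' j ∈ 𝒜 (∑ j, e' j • deg j) :=
        SetLike.prod_mem_graded 𝒜 (fun j => e' j • deg j) (fun j => f j ^ e' j)
          (fun j _ => SetLike.pow_mem_graded (e' j) (hf j))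
      have h2 := SetLike.mul_mem_graded ha h1
      have h3 : N - ∑ j, (e j : ℤ) * deg j + ∑ j, e' j • deg j = N - d := by
        rw [hsum]
        simp only [nsmul_eq_mul]
        ring
      rwa [h3] at h2
  · rw [Submodule.mul_le]
    intro x hx y hy
    have := SetLike.mul_mem_graded hx hy
    rwa [add_sub_cancel] at this

end Groth.Agent.S13663
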