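import Groth.Statements.S13664
import Groth.Agent.S13663

set_option autoImplicit false
universe u
open GrRing
open DirectSum

namespace Groth.Agent.S13664

section
variable {R A : Type u} [CommRing R] [CommRing A] [Algebra R A]
    (𝒜 : ℤ → Submodule R A) [GradedAlgebra 𝒜]

theorem pow_le_graded (d : ℤ) (n : ℕ) : (𝒜 d) ^ n ≤ 𝒜 (n * d) := by
  induction n with
  | zero =>
    rw [pow_zero, Submodule.one_le]
    simpa using SetLike.one_mem_graded 𝒜
  | succ n ih =>
    rw [pow_succ, Submodule.mul_le]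
    intro a ha b hb
    have := SetLike.mul_mem_graded (ih ha) hb
    convert this using 2
    push_cast; ring

theorem piece_eq_pow_mul {p : ℕ} (f : Fin p → A) (deg : Fin p → ℤ) (hdeg : ∀ i, 0 < deg i)
    (hf : ∀ i, f i ∈ 𝒜 (deg i))
    (hgen : Ideal.span {a : A | ∃ n : ℤ, 0 < n ∧ a ∈ 𝒜 n} = Ideal.span (Set.range f))
    (d : ℤ) (hd : 0 < d) (hdvd : ∀ i, deg i ∣ d) (n : ℕ) :
    ∀ N : ℤ, d * p - ∑ i, deg i + n * d < N + d → 𝒜 N = (𝒜 d) ^ n * 𝒜 (N - n * d) := by
  induction n with
  | zero => intro N _; simp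
  | succ n ih =>
    intro N hN
    have hnd : 0 ≤ (n : ℤ) * d := by positivity
    have h1 : 𝒜 N = 𝒜 d * 𝒜 (N - d) :=
      Groth.Agent.S13663.result 𝒜 f deg hdeg hf hgen d hd hdvd N (by push_cast at hN; linarith)
    have h2 := ih (N - d) (by push_cast at hN; linarith)
    rw [h1, h2, ← mul_assoc, ← pow_succ']
    congr 2
    push_cast; ring

end


/-- Let A be a commutative ring graded by the integers whose ideal I generated by the homogeneous
elements of positive degree has homogeneous generators f_1, …, f_p, of positive degrees d_1, …, d_p,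
let d be a positive integer divisible by each d_i, and let x be an element of an A-module M. The
following are equivalent: x is annihilated by some power of I; x is annihilated by (A_d)^n for all
sufficiently large n; there is an integer s such that A_n x = 0 for all n ≥ s. (The published
statement is for a homogeneous element of a graded module; this row drops both the grading of M and
the homogeneity of x, which play no role.) -/
theorem result {R A : Type u} [CommRing R] [CommRing A] [Algebra R A]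
    (𝒜 : ℤ → Submodule R A) [GradedAlgebra 𝒜]
    {p : ℕ} (f : Fin p → A) (deg : Fin p → ℤ) (hdeg : ∀ i, 0 < deg i) (hf : ∀ i, f i ∈ 𝒜 (deg i))
    (hgen : Ideal.span {a : A | ∃ n : ℤ, 0 < n ∧ a ∈ 𝒜 n} = Ideal.span (Set.range f))
    (d : ℤ) (hd : 0 < d) (hdvd : ∀ i, deg i ∣ d)
    {M : Type u} [AddCommGroup M] [Module A M] (x : M) :
    [x ∈ GrLC.gam (Ideal.span (Set.range f)) M,
     ∃ n₀ : ℕ, ∀ n : ℕ, n₀ ≤ n → ∀ r ∈ (𝒜 d) ^ n, r • x = 0,
     ∃ s : ℤ, ∀ n : ℤ, s ≤ n → ∀ r ∈ 𝒜 n, r • x = 0].TFAE := by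
  have hAd : ∀ a ∈ 𝒜 d, a ∈ Ideal.span (Set.range f) := fun a ha =>
    hgen ▸ Ideal.subset_span ⟨d, hd, ha⟩
  let K : Ideal A := LinearMap.ker (LinearMap.toSpanSingleton A M x)
  have hK : ∀ r, r ∈ K ↔ r • x = 0 := fun r => by simp [K]
  have hpow : ∀ k : ℕ, ∀ a ∈ (𝒜 d) ^ k, a ∈ (Ideal.span (Set.range f)) ^ k := by
    intro k
    induction k with
    | zero =>
      intro a _
      rw [pow_zero, Ideal.one_eq_top]; trivial
    | succ k ih =>
      intro a ha
      rw [pow_succ] at ha ⊢
      exact Submodule.mul_induction_on ha (fun b hb c hc => Ideal.mul_mem_mul (ih b hb) (hAd c hc))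
        (fun b c hb hc => Ideal.add_mem _ hb hc)
  tfae_have 1 → 3 := by
    rintro ⟨n, hn⟩
    refine ⟨d * p - ∑ i, deg i + n * d + 1, fun N hN r hr => hn r ?_⟩
    have h1 := piece_eq_pow_mul 𝒜 f deg hdeg hf hgen d hd hdvd n N (by linarith)
    rw [h1] at hr
    exact Submodule.mul_induction_on hr (fun a ha b _ => Ideal.mul_mem_right _ _ (hpow n a ha))
      (fun a b ha hb => Ideal.add_mem _ ha hb)
  tfae_have 3 → 2 := by
    rintro ⟨s, hs⟩
    refine ⟨s.toNat, fun n hn r hr => hs (n * d) ?_ r (pow_le_graded 𝒜 d n hr)⟩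
    have h1 : s ≤ n := by omega
    have h2 : (0 : ℤ) ≤ n := by positivity
    nlinarith
  tfae_have 2 → 3 := by
    rintro ⟨n₀, hn₀⟩
    refine ⟨d * p - ∑ i, deg i + n₀ * d + 1, fun N hN r hr => ?_⟩
    have h1 := piece_eq_pow_mul 𝒜 f deg hdeg hf hgen d hd hdvd n₀ N (by linarith)
    rw [h1] at hr
    rw [← hK]
    exact Submodule.mul_induction_on hr
      (fun a ha b _ => K.mul_mem_right _ ((hK a).mpr (hn₀ n₀ le_rfl a ha)))
      (fun a b ha hb => K.add_mem ha hb)
  tfae_have 3 → 1 := by
    rintro ⟨s, hs⟩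
    refine ⟨s.toNat, fun r hr => ?_⟩
    have hJ : ∀ m : ℕ, (Ideal.span (Set.range f)) ^ m ≤
        Ideal.span {a | ∃ n : ℤ, (m : ℤ) ≤ n ∧ a ∈ 𝒜 n} := by
      intro m
      induction m with
      | zero =>
        rw [pow_zero, Ideal.one_eq_top]
        apply le_of_eq
        symm
        rw [Ideal.eq_top_iff_one]
        exact Ideal.subset_span ⟨0, le_rfl, SetLike.one_mem_graded 𝒜⟩
      | succ m ih =>
        rw [pow_succ']
        refine (Ideal.mul_mono_right ih).trans ?_
        rw [Ideal.span_mul_span', Ideal.span_le]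
        rintro _ ⟨_, ⟨i, rfl⟩, b, ⟨n, hn, hb⟩, rfl⟩
        refine Ideal.subset_span ⟨deg i + n, ?_, SetLike.mul_mem_graded (hf i) hb⟩
        have := hdeg i
        push_cast; omega
    have h1 := hJ s.toNat hr
    have h2 : r ∈ K := by
      refine (Ideal.span_le.mpr ?_) h1
      rintro a ⟨n, hn, ha⟩
      exact (hK a).mpr (hs n (by omega) a ha)
    exact (hK r).mp h2
  tfae_finish

end Groth.Agent.S13664
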