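import Groth.Statements.S13665
import Groth.Agent.Lib.Helper69.Graded

set_option autoImplicit false
universe u
open GrRing
open DirectSum
open Groth.Agent.Lib.Helper69

namespace Groth.Agent.S13665

/-- For a commutative ring A graded by the integers, with degree-zero subring A_0, the following are
equivalent: A is Noetherian; each homogeneous ideal of A has a finite generating set; A_0 is
Noetherian and the subalgebras A_{≥0}, A_{≤0} are each of finite type over A_0; A_0 is Noetherian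
and A is an A_0-algebra of finite type. -/
theorem result {R A : Type u} [CommRing R] [CommRing A] [Algebra R A]
    (𝒜 : ℤ → Submodule R A) [GradedAlgebra 𝒜] :
    [IsNoetherianRing A,
     ∀ I : Ideal A, I.IsHomogeneous 𝒜 → I.FG,
     IsNoetherianRing (𝒜 0) ∧ (Algebra.adjoin (𝒜 0) {a : A | ∃ n : ℤ, 0 ≤ n ∧ a ∈ 𝒜 n}).FG ∧
       (Algebra.adjoin (𝒜 0) {a : A | ∃ n : ℤ, n ≤ 0 ∧ a ∈ 𝒜 n}).FG,
     IsNoetherianRing (𝒜 0) ∧ Algebra.FiniteType (𝒜 0) A].TFAE := by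
  have hpos : {a : A | ∃ n : ℤ, 0 ≤ n ∧ a ∈ 𝒜 n} = {a : A | ∃ m : ℕ, a ∈ 𝒜 (1 * m)} := by
    ext a
    constructor
    · rintro ⟨n, hn, ha⟩
      exact ⟨n.toNat, by rwa [one_mul, Int.toNat_of_nonneg hn]⟩
    · rintro ⟨m, ha⟩
      exact ⟨m, Int.natCast_nonneg m, by simpa using ha⟩
  have hneg : {a : A | ∃ n : ℤ, n ≤ 0 ∧ a ∈ 𝒜 n} = {a : A | ∃ m : ℕ, a ∈ 𝒜 (-1 * m)} := by
    ext a
    constructor
    · rintro ⟨n, hn, ha⟩
      refine ⟨(-n).toNat, ?_⟩
      rw [Int.toNat_of_nonneg (by omega)]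
      simpa using ha
    · rintro ⟨m, ha⟩
      exact ⟨-m, by omega, by simpa using ha⟩
  tfae_have 1 → 2 := fun h I _ => (isNoetherianRing_iff_ideal_fg A).mp h I
  tfae_have 2 → 3 := fun h2 => ⟨isNoetherianRing_zero 𝒜 h2, hpos ▸ adjoin_fg 𝒜 h2 1,
    hneg ▸ adjoin_fg 𝒜 h2 (-1)⟩
  tfae_have 3 → 4 := by
    classical
    rintro ⟨h0, hp, hn⟩
    refine ⟨h0, ⟨?_⟩⟩
    have htop : (⊤ : Subalgebra (𝒜 0) A) =
        Algebra.adjoin (𝒜 0) {a : A | ∃ n : ℤ, 0 ≤ n ∧ a ∈ 𝒜 n} ⊔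
          Algebra.adjoin (𝒜 0) {a : A | ∃ n : ℤ, n ≤ 0 ∧ a ∈ 𝒜 n} := by
      refine le_antisymm ?_ le_top
      intro a _
      rw [← DirectSum.sum_support_decompose 𝒜 a]
      refine Subalgebra.sum_mem _ fun i _ => ?_
      rcases le_total 0 i with hi | hi
      · exact SetLike.le_def.mp le_sup_left (Algebra.subset_adjoin ⟨i, hi, SetLike.coe_mem _⟩)
      · exact SetLike.le_def.mp le_sup_right (Algebra.subset_adjoin ⟨i, hi, SetLike.coe_mem _⟩)
    rw [htop]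
    exact hp.sup hn
  tfae_have 4 → 1 := by
    rintro ⟨h0, hft⟩
    exact Algebra.FiniteType.isNoetherianRing (𝒜 0) A
  tfae_finish

end Groth.Agent.S13665
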