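import Groth.Statements.S13682
import Mathlib.LinearAlgebra.Multilinear.Curry
import Mathlib.Algebra.BigOperators.Fin

set_option autoImplicit false
universe u v w
open scoped BigOperators
open BTGrp

namespace Groth.Agent.S13682

/-- `mix i B Y A` has the entries of `B` before `i`, the entry of `Y` at `i`, those of `A` after. -/
def mix {r : ℕ} {M : Fin r → Type v} (i : Fin r) (B Y A : ∀ k, M k) : ∀ k, M k :=
  fun k => if k < i then B k else if k = i then Y k else A k

theorem mix_zero {r : ℕ} {M : Fin (r + 1) → Type v} (B Y A : ∀ k, M k) :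
    mix 0 B Y A = Fin.cons (Y 0) (Fin.tail A) := by
  funext k
  refine Fin.cases ?_ (fun k => ?_) k
  · simp [mix]
  · simp [mix, Fin.tail, Fin.succ_ne_zero]

theorem mix_succ {r : ℕ} {M : Fin (r + 1) → Type v} (i : Fin r) (B Y A : ∀ k, M k) :
    mix i.succ B Y A = Fin.cons (B 0) (mix i (Fin.tail B) (Fin.tail Y) (Fin.tail A)) := by
  funext k
  refine Fin.cases ?_ (fun k => ?_) k
  · simp [mix]
  · simp [mix, Fin.tail, Fin.succ_lt_succ_iff]

theorem mix_eq_update {r : ℕ} {M : Fin r → Type v} (i : Fin r) (B Y A : ∀ k, M k) :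
    mix i B Y A = Function.update (mix i B A A) i (Y i) := by
  funext k
  by_cases h : k = i
  · subst h; simp [mix]
  · simp [mix, h]

section
variable {A : Type u} [CommRing A] {N : Type w} [AddCommGroup N] [Module A N]

/-- The "directional difference quotient" of `φ` from `a` to `b` in the direction `u`. -/
def G {r : ℕ} {M : Fin r → Type v} [∀ i, AddCommGroup (M i)] [∀ i, Module A (M i)]
    (φ : MultilinearMap A M N) (a b u : ∀ k, M k) : N :=
  ∑ i, φ (mix i b u a)

theorem G_succ {r : ℕ} {M : Fin (r + 1) → Type v} [∀ i, AddCommGroup (M i)]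
    [∀ i, Module A (M i)] (φ : MultilinearMap A M N) (a b u : ∀ k, M k) :
    G φ a b u = φ.curryLeft (u 0) (Fin.tail a) +
      G (φ.curryLeft (b 0)) (Fin.tail a) (Fin.tail b) (Fin.tail u) := by
  unfold G
  rw [Fin.sum_univ_succ, mix_zero, MultilinearMap.curryLeft_apply]
  congr 1
  refine Finset.sum_congr rfl fun i _ => ?_
  rw [mix_succ, MultilinearMap.curryLeft_apply]

theorem G_add_map {r : ℕ} {M : Fin r → Type v} [∀ i, AddCommGroup (M i)] [∀ i, Module A (M i)]
    (φ ψ : MultilinearMap A M N) (a b u : ∀ k, M k) :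
    G (φ + ψ) a b u = G φ a b u + G ψ a b u := by
  simp [G, Finset.sum_add_distrib]

theorem G_smul_map {r : ℕ} {M : Fin r → Type v} [∀ i, AddCommGroup (M i)] [∀ i, Module A (M i)]
    (c : A) (φ : MultilinearMap A M N) (a b u : ∀ k, M k) :
    G (c • φ) a b u = c • G φ a b u := by
  simp [G, Finset.smul_sum]

theorem G_add_dir {r : ℕ} {M : Fin r → Type v} [∀ i, AddCommGroup (M i)] [∀ i, Module A (M i)]
    (φ : MultilinearMap A M N) (a b u v : ∀ k, M k) :
    G φ a b (u + v) = G φ a b u + G φ a b v := by
  unfold G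
  rw [← Finset.sum_add_distrib]
  refine Finset.sum_congr rfl fun i _ => ?_
  rw [mix_eq_update i b (u + v) a, mix_eq_update i b u a, mix_eq_update i b v a, Pi.add_apply,
    MultilinearMap.map_update_add]

theorem G_zero_dir {r : ℕ} {M : Fin r → Type v} [∀ i, AddCommGroup (M i)] [∀ i, Module A (M i)]
    (φ : MultilinearMap A M N) (a b : ∀ k, M k) :
    G φ a b 0 = 0 := by
  unfold G
  refine Finset.sum_eq_zero fun i _ => ?_
  exact φ.map_coord_zero i (by simp [mix])

theorem G_sum_dir {r : ℕ} {M : Fin r → Type v} [∀ i, AddCommGroup (M i)] [∀ i, Module A (M i)]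
    (φ : MultilinearMap A M N) (a b : ∀ k, M k) {ι : Type*} (s : Finset ι)
    (y : ι → ∀ k, M k) :
    G φ a b (∑ j ∈ s, y j) = ∑ j ∈ s, G φ a b (y j) := by
  classical
  induction s using Finset.induction_on with
  | empty => simp [G_zero_dir]
  | insert j s hj ih => rw [Finset.sum_insert hj, Finset.sum_insert hj, G_add_dir, ih]

/-- Telescoping. -/
theorem T1 (α : A) : ∀ (r : ℕ) (M : Fin r → Type v) [∀ i, AddCommGroup (M i)]
    [∀ i, Module A (M i)] (φ : MultilinearMap A M N) (a b u : ∀ k, M k),
    b = a + α • u → α • G φ a b u = φ b - φ a := by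
  intro r
  induction r with
  | zero =>
    intro M _ _ φ a b u _
    have : b = a := Subsingleton.elim _ _
    simp [G, this]
  | succ r ih =>
    intro M _ _ φ a b u hb
    have h0 : b 0 = a 0 + α • u 0 := by rw [hb]; rfl
    have ht : Fin.tail b = Fin.tail a + α • Fin.tail u := by rw [hb]; rfl
    rw [G_succ, smul_add, ih _ (φ.curryLeft (b 0)) _ _ _ ht, ← smul_apply,
      ← map_smul]
    have hu : α • u 0 = b 0 - a 0 := by rw [h0]; abel
    rw [hu, map_sub, sub_apply]
    simp only [MultilinearMap.curryLeft_apply, Fin.cons_self_tail]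
    abel

/-- Additivity along paths. -/
theorem T2 (α : A) : ∀ (r : ℕ) (M : Fin r → Type v) [∀ i, AddCommGroup (M i)]
    [∀ i, Module A (M i)] (φ : MultilinearMap A M N) (a b c u v : ∀ k, M k),
    b = a + α • u → c = b + α • v → G φ a b u + G φ b c v = G φ a c (u + v) := by
  intro r
  induction r with
  | zero =>
    intro M _ _ φ a b c u v _ _
    simp [G]
  | succ r ih =>
    intro M _ _ φ a b c u v hb hc
    have hb0 : b 0 = a 0 + α • u 0 := by rw [hb]; rfl
    have hbt : Fin.tail b = Fin.tail a + α • Fin.tail u := by rw [hb]; rfl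
    have hc0 : c 0 = b 0 + α • v 0 := by rw [hc]; rfl
    have hct : Fin.tail c = Fin.tail b + α • Fin.tail v := by rw [hc]; rfl
    rw [G_succ φ a b u, G_succ φ b c v, G_succ φ a c (u + v)]
    have huv : Fin.tail (u + v) = Fin.tail u + Fin.tail v := rfl
    rw [huv, ← ih _ (φ.curryLeft (c 0)) _ _ _ _ _ hbt hct]
    have h1 : G (φ.curryLeft (c 0)) (Fin.tail a) (Fin.tail b) (Fin.tail u) =
        G (φ.curryLeft (b 0)) (Fin.tail a) (Fin.tail b) (Fin.tail u) +
          (φ.curryLeft (v 0) (Fin.tail b) - φ.curryLeft (v 0) (Fin.tail a)) := by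
      rw [hc0, map_add, map_smul, G_add_map, G_smul_map, T1 α r _ (φ.curryLeft (v 0)) _ _ _ hbt]
    rw [h1, Pi.add_apply, map_add, add_apply]
    abel

end

/-- Let A be a commutative ring, α ∈ A a non-zero-divisor, M_1, …, M_r and N modules over A and φ : M_1
× ⋯ × M_r → N an A-multilinear map. Let n be a natural number and let y_{i,j} (j < n) and w_{i,j} (j
≤ n) be elements of M_i with w_{i,j+1} = w_{i,j} + α y_{i,j} for all i and all j < n. Then Σ_i
Σ_{j<n} φ(w_{1,j+1}, …, w_{i-1,j+1}, y_{i,j}, w_{i+1,j}, …, w_{r,j}) = Σ_i Σ_{j<n} φ(w_{1,n}, …,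
w_{i-1,n}, y_{i,j}, w_{i+1,0}, …, w_{r,0}). (The published statement takes n ≥ 1; for n = 0 both
sides are empty sums. The families y, w are indexed by all natural numbers here and only the indices
named above enter.) -/
theorem result {A : Type u} [CommRing A] (α : A) (hα : α ∈ nonZeroDivisors A)
    {r : ℕ} (M : Fin r → Type v) (N : Type w) [∀ i, AddCommGroup (M i)] [∀ i, Module A (M i)]
    [AddCommGroup N] [Module A N] (φ : MultilinearMap A M N) (n : ℕ)
    (y w : ∀ i, ℕ → M i) (hw : ∀ i, ∀ j < n, w i (j + 1) = w i j + α • y i j) :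
    (∑ i : Fin r, ∑ j ∈ Finset.range n,
        φ (fun k => if k < i then w k (j + 1) else if k = i then y k j else w k j)) =
      ∑ i : Fin r, ∑ j ∈ Finset.range n,
        φ (fun k => if k < i then w k n else if k = i then y k j else w k 0) := by
  -- path additivity, iterated
  have key : ∀ m ≤ n, (∑ j ∈ Finset.range m,
      G φ (fun k => w k j) (fun k => w k (j + 1)) (fun k => y k j)) =
      G φ (fun k => w k 0) (fun k => w k m) (∑ j ∈ Finset.range m, fun k => y k j) := by
    intro m
    induction m with
    | zero => intro _; simp [G_zero_dir]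
    | succ m ih =>
      intro hm
      have hwm : ∀ l ≤ m, (fun k => w k l) =
          (fun k => w k 0) + α • ∑ j ∈ Finset.range l, fun k => y k j := by
        intro l
        induction l with
        | zero => intro _; simp
        | succ l ihl =>
          intro hl
          funext k
          have := congrFun (ihl (by omega)) k
          simp only [Pi.add_apply, Pi.smul_apply, Finset.sum_apply] at this ⊢
          rw [hw k l (by omega), this, Finset.sum_range_succ, smul_add]
          abel
      have hstep : (fun k => w k (m + 1)) = (fun k => w k m) + α • fun k => y k m := by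
        funext k
        simp only [Pi.add_apply, Pi.smul_apply]
        exact hw k m (by omega)
      rw [Finset.sum_range_succ, ih (by omega), Finset.sum_range_succ]
      exact T2 α r M φ _ _ _ _ _ (hwm m le_rfl) hstep
  have h := key n le_rfl
  rw [G_sum_dir] at h
  simp only [G] at h
  rw [Finset.sum_comm, Finset.sum_comm (s := Finset.univ) (t := Finset.range n)]
  exact h

end Groth.Agent.S13682
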