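import Groth.Statements.S13684
import Mathlib
import Groth.Prelude.Def_W4c1extbt610Disp
import Groth.Agent.Lib.Helper86.DispExtPow

set_option autoImplicit false
universe u v
open Disp

namespace Groth.Agent.S13684

open Groth.Agent.Lib.Helper86.DispExtPow Groth.Agent.Lib.Helper86.DispBCExists
  Groth.Agent.Lib.Helper86.ExtSemi

theorem result (p : ℕ) [Fact p.Prime] (R : Type u) [CommRing R]
    (P : Type v) [AddCommGroup P] [Module (WittVector p R) P] (D : W4c1extbt610.Display3n p R P)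
    (hT : ∃ L T : Submodule (WittVector p R) P, IsCompl L T ∧ D.Q = L ⊔ W4c1extbt610.IV p R • T ∧
      Nonempty (T ≃ₗ[WittVector p R] WittVector p R))
    (r : ℕ) :
    ∃ E : W4c1extbt610.Display3n p R (⋀[WittVector p R]^r P), W4c1extbt610.IsExtPow D r E ∧
      ∀ E' : W4c1extbt610.Display3n p R (⋀[WittVector p R]^r P), W4c1extbt610.IsExtPow D r E' → E' = E := by
  obtain ⟨L, T, hLT, hQ, ⟨e⟩⟩ := hT
  have ht : ((e.symm 1 : T) : P) ∈ T := (e.symm 1).2
  have hgen : ∀ τ ∈ T, ∃ a : WittVector p R, τ = a • ((e.symm 1 : T) : P) := by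
    intro τ hτ
    refine ⟨e ⟨τ, hτ⟩, ?_⟩
    have : (⟨τ, hτ⟩ : T) = e ⟨τ, hτ⟩ • e.symm 1 := by
      rw [← map_smul, smul_eq_mul, mul_one, e.symm_apply_apply]
    exact congrArg Subtype.val this
  have := D.finite
  have := D.projective
  have : Module.Projective (WittVector p R) (⋀[WittVector p R]^r P) := projective_exteriorPower r
  obtain ⟨n, m, c, hmc⟩ := exists_dualBasis (A := WittVector p R) (P := ⋀[WittVector p R]^r P)
  have hE := isExtPow_Emk D L T hLT hQ _ ht hgen r m c hmc
  exact ⟨Emk D L T hLT hQ r m c hmc, hE, fun E' hE' => isExtPow_unique D r _ E' hE hE'⟩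

end Groth.Agent.S13684
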