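import Groth.Statements.S13685
import Mathlib
import Groth.Prelude.Def_W4c1extbt610Disp

set_option autoImplicit false
universe u v w
open Disp

namespace Groth.Agent.S13685

open W4c1extbt610 WittVector

section
variable {p : ℕ} [Fact p.Prime] {R : Type u} [CommRing R]

local notation "σ" => (WittVector.frobenius : WittVector p R →+* WittVector p R)

lemma semilin_ext_on_span {M : Type*} {N : Type*} [AddCommGroup M] [Module (WittVector p R) M]
    [AddCommGroup N] [Module (WittVector p R) N] (Q : Submodule (WittVector p R) M) (S : Set M)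
    (hQ : Q = Submodule.span (WittVector p R) S)
    (f g : Q →ₛₗ[σ] N)
    (h : ∀ s (hs : s ∈ Q), s ∈ S → f ⟨s, hs⟩ = g ⟨s, hs⟩) : f = g := by
  subst hQ
  ext ⟨x, hx⟩
  induction hx using Submodule.span_induction with
  | mem x hx => exact h x _ hx
  | zero =>
    have : (⟨0, Submodule.zero_mem _⟩ : Submodule.span (WittVector p R) S) = 0 := rfl
    rw [this, map_zero, map_zero]
  | add x y hx hy ihx ihy =>
    have : (⟨x + y, Submodule.add_mem _ hx hy⟩ : Submodule.span (WittVector p R) S) =
      ⟨x, hx⟩ + ⟨y, hy⟩ := rfl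
    rw [this, map_add, map_add, ihx, ihy]
  | smul a x hx ih =>
    have : (⟨a • x, Submodule.smul_mem _ a hx⟩ : Submodule.span (WittVector p R) S) =
      a • ⟨x, hx⟩ := rfl
    rw [this, LinearMap.map_smulₛₗ, LinearMap.map_smulₛₗ, ih]

variable {P : Type v} [AddCommGroup P] [Module (WittVector p R) P]

lemma Vinv_congr (D : Display3n p R P) {x y : P} (h : x = y) (hx : x ∈ D.Q) (hy : y ∈ D.Q) :
    D.Vinv ⟨x, hx⟩ = D.Vinv ⟨y, hy⟩ := by
  subst h; rfl

lemma F_eq_Vinv (D : Display3n p R P) (x : P) (h : verschiebung (1 : WittVector p R) • x ∈ D.Q) :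
    D.F x = D.Vinv ⟨verschiebung (1 : WittVector p R) • x, h⟩ := by
  have := D.Vinv_verschiebung_smul 1 x
  rw [one_smul] at this
  rw [← this]

lemma V1_smul_mem (D : Display3n p R P) (x : P) : verschiebung (1 : WittVector p R) • x ∈ D.Q :=
  D.IV_smul_le (Submodule.smul_mem_smul (verschiebung_mem_IV p R 1) Submodule.mem_top)

end

theorem result (p : ℕ) [Fact p.Prime] (R : Type u) [CommRing R]
    (P : Type v) [AddCommGroup P] [Module (WittVector p R) P] (D : W4c1extbt610.Display3n p R P)
    (hT : ∃ L T : Submodule (WittVector p R) P, IsCompl L T ∧ D.Q = L ⊔ W4c1extbt610.IV p R • T ∧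
      Nonempty (T ≃ₗ[WittVector p R] WittVector p R))
    (r : ℕ) (E : W4c1extbt610.Display3n p R (⋀[WittVector p R]^r P)) (hE : W4c1extbt610.IsExtPow D r E) :
    W4c1extbt610.IsAltMult D E (exteriorPower.ιMulti (WittVector p R) r) ∧
      ∀ (P' : Type w) [AddCommGroup P'] [Module (WittVector p R) P'] (D' : W4c1extbt610.Display3n p R P')
        (φ : P [⋀^Fin r]→ₗ[WittVector p R] P'), W4c1extbt610.IsAltMult D D' φ →
        ∃! ψ : ⋀[WittVector p R]^r P →ₗ[WittVector p R] P',
          W4c1extbt610.IsHom E D' ψ ∧ ψ.compAlternatingMap (exteriorPower.ιMulti (WittVector p R) r) = φ := by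
  classical
  obtain ⟨hEQ, hEV⟩ := hE
  have hmem : ∀ q : Fin r → D.Q,
      exteriorPower.ιMulti (WittVector p R) r (fun i => (q i : P)) ∈ E.Q := by
    intro q
    rw [hEQ]
    exact Submodule.subset_span ⟨q, rfl⟩
  refine ⟨⟨hmem, fun q => hEV q (hmem q), ?_⟩, ?_⟩
  · intro i x q
    -- F-condition
    have hV1 : verschiebung (1 : WittVector p R) • x ∈ D.Q := V1_smul_mem D x
    set q' : Fin r → D.Q := Function.update q i ⟨verschiebung (1 : WittVector p R) • x, hV1⟩ with hq'
    have h1 : (fun j => ((q' j : D.Q) : P)) =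
        Function.update (fun j => (q j : P)) i (verschiebung (1 : WittVector p R) • x) := by
      funext j
      by_cases hj : j = i
      · subst hj; simp [hq']
      · simp [hq', Function.update_of_ne hj]
    have h2 : (fun j => D.Vinv (q' j)) =
        Function.update (fun j => D.Vinv (q j)) i (D.F x) := by
      funext j
      by_cases hj : j = i
      · subst hj
        simp only [hq', Function.update_self]
        exact (F_eq_Vinv D x hV1).symm
      · simp [hq', Function.update_of_ne hj]
    rw [F_eq_Vinv E _ (V1_smul_mem E _)]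
    have h3 : verschiebung (1 : WittVector p R) •
        exteriorPower.ιMulti (WittVector p R) r (Function.update (fun j => (q j : P)) i x) =
        exteriorPower.ιMulti (WittVector p R) r (fun j => ((q' j : D.Q) : P)) := by
      rw [h1, AlternatingMap.map_update_smul]
    rw [Vinv_congr E h3 _ (hmem q'), hEV q' (hmem q'), h2]
  · intro P' _ _ D' φ hφ
    set ψ : ⋀[WittVector p R]^r P →ₗ[WittVector p R] P' :=
      exteriorPower.alternatingMapLinearEquiv φ with hψ
    have hψι : ∀ a : Fin r → P, ψ (exteriorPower.ιMulti (WittVector p R) r a) = φ a :=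
      fun a => exteriorPower.alternatingMapLinearEquiv_apply_ιMulti φ a
    have hcomp : ψ.compAlternatingMap (exteriorPower.ιMulti (WittVector p R) r) = φ :=
      exteriorPower.alternatingMapLinearEquiv_comp_ιMulti φ
    have hmaps : ∀ q : ⋀[WittVector p R]^r P, q ∈ E.Q → ψ q ∈ D'.Q := by
      intro q hq
      rw [hEQ] at hq
      induction hq using Submodule.span_induction with
      | mem x hx =>
        obtain ⟨q, rfl⟩ := hx
        simp only [hψι]
        exact hφ.mapsTo q
      | zero => rw [map_zero]; exact D'.Q.zero_mem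
      | add x y _ _ ihx ihy => rw [map_add]; exact D'.Q.add_mem ihx ihy
      | smul a x _ ih => rw [map_smul]; exact D'.Q.smul_mem a ih
    have hcommV : ∀ q : E.Q, ψ (E.Vinv q) = D'.Vinv ⟨ψ q, hmaps q q.2⟩ := by
      have key : (ψ.comp E.Vinv : E.Q →ₛₗ[(WittVector.frobenius :
            WittVector p R →+* WittVector p R)] P') =
          D'.Vinv.comp (ψ.restrict hmaps) := by
        refine semilin_ext_on_span E.Q _ hEQ _ _ ?_
        rintro s hs ⟨q, rfl⟩
        simp only [LinearMap.comp_apply]
        rw [hEV q hs, hψι]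
        have : (ψ.restrict hmaps) ⟨_, hs⟩ = ⟨φ (fun i => (q i : P)), hφ.mapsTo q⟩ := by
          apply Subtype.ext
          simp only [LinearMap.coe_restrict_apply]
          exact hψι _
        rw [this, hφ.vCond q]
      intro q
      have := LinearMap.congr_fun key q
      simp only [LinearMap.comp_apply] at this
      rw [this]
      rfl
    have hcommF : ∀ x : ⋀[WittVector p R]^r P, ψ (E.F x) = D'.F (ψ x) := by
      intro x
      rw [F_eq_Vinv E x (V1_smul_mem E x), hcommV ⟨_, V1_smul_mem E x⟩,
        F_eq_Vinv D' (ψ x) (V1_smul_mem D' _)]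
      exact Vinv_congr D' (map_smul ψ _ x) _ _
    refine ⟨ψ, ⟨⟨hmaps, hcommF, hcommV⟩, hcomp⟩, ?_⟩
    rintro ψ' ⟨_, hψ'⟩
    apply exteriorPower.linearMap_ext
    rw [hψ', hcomp]

end Groth.Agent.S13685
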