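import Groth.Statements.S13686
import Mathlib
import Groth.Prelude.Def_W4c1extbt610Disp
import Groth.Agent.Lib.Helper86.DispExtRank

set_option autoImplicit false
universe u v
open Disp

namespace Groth.Agent.S13686

open Groth.Agent.Lib.Helper86.DispExtPow Groth.Agent.Lib.Helper86.DispBCExists
  Groth.Agent.Lib.Helper86.ExtSemi Groth.Agent.Lib.Helper86.DispExtRank
  Groth.Agent.Lib.Helper86.DispOfNormal

theorem result (p : ℕ) [Fact p.Prime] (R : Type u) [CommRing R] [Nontrivial R]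
    (P : Type v) [AddCommGroup P] [Module (WittVector p R) P] (D : W4c1extbt610.Display3n p R P) (m : ℕ)
    (L T : Submodule (WittVector p R) P) (hLT : IsCompl L T) (hQ : D.Q = L ⊔ W4c1extbt610.IV p R • T)
    (hL : Module.Free (WittVector p R) L) (hLr : Module.finrank (WittVector p R) L = m)
    (hT : Nonempty (T ≃ₗ[WittVector p R] WittVector p R))
    (r : ℕ) (hr : 1 ≤ r) (E : W4c1extbt610.Display3n p R (⋀[WittVector p R]^r P)) (hE : W4c1extbt610.IsExtPow D r E) :
    ∃ L' T' : Submodule (WittVector p R) (⋀[WittVector p R]^r P), IsCompl L' T' ∧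
      E.Q = L' ⊔ W4c1extbt610.IV p R • T' ∧ Module.Free (WittVector p R) T' ∧
      Module.finrank (WittVector p R) T' = m.choose (r - 1) := by
  obtain ⟨e⟩ := hT
  have ht : ((e.symm 1 : T) : P) ∈ T := (e.symm 1).2
  have hgen : ∀ τ ∈ T, ∃ a : WittVector p R, τ = a • ((e.symm 1 : T) : P) := by
    intro τ hτ
    refine ⟨e ⟨τ, hτ⟩, ?_⟩
    have : (⟨τ, hτ⟩ : T) = e ⟨τ, hτ⟩ • e.symm 1 := by
      rw [← map_smul, smul_eq_mul, mul_one, e.symm_apply_apply]
    exact congrArg Subtype.val this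
  have := D.finite
  obtain ⟨hfree, hrank⟩ := Tr_free_finrank L T hLT m r hr hL hLr e
  refine ⟨Lr L T hLT r, Tr L T hLT r, isCompl_Lr_Tr L T hLT r, ?_, hfree, hrank⟩
  rw [hE.1]
  exact (QN_eq_span D L T hLT hQ _ ht hgen r).symm

end Groth.Agent.S13686
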