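import Groth.Statements.S13698
import Groth.Agent.Lib.Helper25.PolLawBC

set_option autoImplicit false
universe u
open scoped TensorProduct
open ZeroCyc

namespace Groth.Agent.S13698

/-- Let F : B → A be a multiplicative polynomial law homogeneous of degree d over the commutative ring
A, on a commutative A-algebra B which is finite as an A-module, and let A' be a localization of A at
a submonoid M. Then the kernel of the base change of F to A' is the ideal of A' ⊗_A B generated by
the kernel of F: the kernel (hence the image of a family of zero-cycles) commutes with localization.
(The published statement has no finiteness hypothesis on B and is false without one: for a suitable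
algebra B that is not finitely generated the conditions cutting out the kernel at an element are
infinitely many elements of A annihilated by elements of M but by no single one, and the kernel of
the localised law is then strictly larger than the localised kernel; the published proof's reduction
to finite B does not go through. This row assumes B finite over A, the case that proof establishes.) -/
theorem result {A : Type u} [CommRing A] {B : Type u} [CommRing B] [Algebra A B]
    [Module.Finite A B] {d : ℕ} (F : PolLaw.MulLaw A B A d) (M : Submonoid A) (A' : Type u) [CommRing A'] [Algebra A A']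
    [IsLocalization M A'] :
    (PolLaw.ker F.law).map (Algebra.TensorProduct.includeRight : B →ₐ[A] A' ⊗[A] B) =
      PolLaw.kerBC F.law A' := by
  classical
  open Groth.Agent.Lib.Helper25.PolLawCoeff in
  apply le_antisymm (map_ker_le_kerBC F.law A')
  intro b' hb'
  obtain ⟨m, b, hmb⟩ := exists_smul_eq_one_tmul (B := B) M A' b'
  have h1 : (1 : A') ⊗ₜ[A] b ∈ PolLaw.kerBC F.law A' := by
    rw [← hmb, smul_eq_tmul_one_mul]
    exact Ideal.mul_mem_left _ _ hb'
  obtain ⟨m', hm', hker⟩ := exists_smul_mem_ker_of_one_tmul_mem_kerBC F.law M A' b h1
  set u : A' := IsLocalization.mk' A' (1 : A) (m * ⟨m', hm'⟩) with hu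
  have h2 : b' = u • ((Algebra.TensorProduct.includeRight : B →ₐ[A] A' ⊗[A] B) (m' • b)) := by
    show b' = u • ((1 : A') ⊗ₜ[A] (m' • b))
    rw [TensorProduct.tmul_smul, ← algebraMap_smul A' m' ((1 : A') ⊗ₜ[A] b), ← hmb, smul_smul,
      smul_smul]
    have h3 : u * algebraMap A A' m' * algebraMap A A' (m : A) = 1 := by
      have := IsLocalization.mk'_spec A' (1 : A) (m * ⟨m', hm'⟩)
      rw [map_one, Submonoid.coe_mul, map_mul] at this
      rw [hu, mul_assoc, mul_comm (algebraMap A A' m')]
      exact this
    rw [h3, one_smul]
  rw [h2, smul_eq_tmul_one_mul]
  exact Ideal.mul_mem_left _ _ (Ideal.mem_map_of_mem _ hker)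

end Groth.Agent.S13698
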