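import Groth.Statements.S13700
import Groth.Agent.Lib.Helper25.PolLawEt
import Groth.Agent.Lib.Helper3.SplitAlg

set_option autoImplicit false
universe u
open scoped TensorProduct
open ZeroCyc

namespace Groth.Agent.S13700

/-- Let F : B → A be a multiplicative polynomial law homogeneous of degree d over the commutative ring
A, and let g ∈ A[X] be a monic polynomial which is separable (g and its derivative generate the unit
ideal), so that A' = A[X]/(g) is étale over A. Then the kernel of the base change of F to A' is the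
ideal of A' ⊗_A B generated by the kernel of F. -/
theorem result {A : Type u} [CommRing A] {B : Type u} [CommRing B] [Algebra A B]
    {d : ℕ} (F : PolLaw.MulLaw A B A d) (g : Polynomial A) (hg : g.Monic) (hsep : g.Separable) :
    (PolLaw.ker F.law).map (Algebra.TensorProduct.includeRight : B →ₐ[A] AdjoinRoot g ⊗[A] B) =
      PolLaw.kerBC F.law (AdjoinRoot g) := by
  classical
  open Groth.Agent.Lib.Helper25.PolLawCoeff in
  apply le_antisymm (map_ker_le_kerBC F.law _)
  intro z hz
  obtain ⟨T, _, _, _, _, hff, α, hα⟩ :=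
    Groth.Agent.Lib.Helper3.exists_splitting_algebra g.natDegree A g hg rfl
  have hunit := fun i j hij => isUnit_root_sub_root g hsep α hα i j hij
  have hdet := isUnit_det_vandermonde α hunit
  -- decomposition along the power basis
  let bas : Module.Basis (Fin g.natDegree) A (AdjoinRoot g) := (AdjoinRoot.powerBasis' hg).basis
  obtain ⟨b, hb⟩ := exists_sum_basis_tmul (B := B) bas z
  have hbas : ∀ j : Fin g.natDegree, bas j = AdjoinRoot.root g ^ (j : ℕ) := by
    intro j
    show (AdjoinRoot.powerBasis' hg).basis j = _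
    rw [PowerBasis.coe_basis, AdjoinRoot.powerBasis'_gen]
  -- the algebra maps `AdjoinRoot g → T`
  have hroot : ∀ i, g.eval₂ (algebraMap A T) (α i) = 0 := by
    intro i
    rw [Polynomial.eval₂_eq_eval_map, hα, Polynomial.eval_prod]
    refine Finset.prod_eq_zero (Finset.mem_univ i) ?_
    rw [Polynomial.eval_sub, Polynomial.eval_X, Polynomial.eval_C, sub_self]
  let σ : Fin g.natDegree → (AdjoinRoot g →ₐ[A] T) := fun i =>
    AdjoinRoot.liftAlgHom g (Algebra.ofId A T) (α i) (hroot i)
  have hσ : ∀ i, σ i (AdjoinRoot.root g) = α i := fun i => AdjoinRoot.lift_root (hroot i)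
  have hzi : ∀ i, ∑ j : Fin g.natDegree, (α i ^ (j : ℕ)) ⊗ₜ[A] b j ∈ PolLaw.kerBC F.law T := by
    intro i
    have h1 := kerBC_map F.law (σ i) hz
    rw [hb, map_sum] at h1
    have h2 : ∀ j : Fin g.natDegree, Algebra.TensorProduct.map (σ i) (AlgHom.id A B)
        (bas j ⊗ₜ[A] b j) = (α i ^ (j : ℕ)) ⊗ₜ[A] b j := by
      intro j
      rw [Algebra.TensorProduct.map_tmul, hbas, map_pow, hσ, AlgHom.id_apply]
    rw [Finset.sum_congr rfl (fun j _ => h2 j)] at h1
    exact h1
  -- inverting the Vandermonde matrix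
  have hbk : ∀ k, (1 : T) ⊗ₜ[A] b k ∈ PolLaw.kerBC F.law T := by
    intro k
    set V := Matrix.vandermonde α with hV
    have hVV : V⁻¹ * V = 1 := Matrix.nonsing_inv_mul V hdet
    have h1 : (1 : T) ⊗ₜ[A] b k =
        ∑ i, (V⁻¹ k i) • ∑ j : Fin g.natDegree, (α i ^ (j : ℕ)) ⊗ₜ[A] b j := by
      simp_rw [Finset.smul_sum, TensorProduct.smul_tmul', smul_eq_mul]
      rw [Finset.sum_comm]
      simp_rw [← TensorProduct.sum_tmul]
      have h2 : ∀ j : Fin g.natDegree, ∑ i, V⁻¹ k i * α i ^ (j : ℕ) = (1 : Matrix _ _ T) k j := by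
        intro j
        rw [← hVV, Matrix.mul_apply]
        rfl
      simp_rw [h2, Matrix.one_apply]
      rw [Finset.sum_eq_single k]
      · rw [if_pos rfl]
      · intro j _ hjk
        rw [if_neg (Ne.symm hjk), TensorProduct.zero_tmul]
      · intro h; exact absurd (Finset.mem_univ k) h
    rw [h1]
    refine Ideal.sum_mem _ fun i _ => ?_
    rw [smul_eq_tmul_one_mul]
    exact Ideal.mul_mem_left _ _ (hzi i)
  have hker : ∀ k, b k ∈ PolLaw.ker F.law := fun k =>
    mem_ker_of_one_tmul_mem_kerBC F.law T (b k) (hbk k)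
  rw [hb]
  refine Ideal.sum_mem _ fun j _ => ?_
  have h3 : bas j ⊗ₜ[A] b j =
      (bas j ⊗ₜ[A] (1 : B)) *
        (Algebra.TensorProduct.includeRight : B →ₐ[A] AdjoinRoot g ⊗[A] B) (b j) := by
    rw [Algebra.TensorProduct.includeRight_apply, Algebra.TensorProduct.tmul_mul_tmul, mul_one,
      one_mul]
  rw [h3]
  exact Ideal.mul_mem_left _ _ (Ideal.mem_map_of_mem _ (hker j))

end Groth.Agent.S13700
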