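import Groth.Statements.S13701
import Groth.Agent.Lib.Helper25.PolLawLin

set_option autoImplicit false
universe u
open scoped TensorProduct
open ZeroCyc

namespace Groth.Agent.S13701

/-- Let A be a commutative ℚ-algebra, F : B → A a multiplicative polynomial law homogeneous of degree d
on a commutative A-algebra B which is finite as an A-module, and A' a commutative A-algebra which is
flat as an A-module. Then the kernel of the base change of F to A' is the ideal of A' ⊗_A B
generated by the kernel of F. (In positive characteristic this fails even for finite free base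
change. The published statement has no finiteness hypothesis on B and is false without one: a
localisation of A is flat, and for a suitable algebra B that is not finitely generated the kernel
does not commute with it; the published proof's reduction to finite B does not go through. This row
assumes B finite over A, the case that proof establishes: there the kernel is the intersection of
finitely many kernels of A-linear maps on B, which commutes with flat base change.) -/
theorem result {A : Type u} [CommRing A] [Algebra ℚ A] {B : Type u} [CommRing B] [Algebra A B]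
    [Module.Finite A B] {d : ℕ} (F : PolLaw.MulLaw A B A d) (A' : Type u) [CommRing A'] [Algebra A A'] [Module.Flat A A'] :
    (PolLaw.ker F.law).map (Algebra.TensorProduct.includeRight : B →ₐ[A] A' ⊗[A] B) =
      PolLaw.kerBC F.law A' := by
  classical
  open Groth.Agent.Lib.Helper25.PolLawCoeff in
  apply le_antisymm (map_ker_le_kerBC F.law A')
  intro z hz
  obtain ⟨n, e, he⟩ := Module.Finite.exists_fin (R := A) (M := B)
  set lam : Fin n → MvPolynomial (Fin n ⊕ Fin n) A :=
    fun k => univLin F.law e A ((1 : A) ⊗ₜ[A] e k) with hlam
  set L : (Fin n → A) →ₗ[A] MvPolynomial (Fin n ⊕ Fin n) A :=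
    Fintype.linearCombination A lam with hL
  set π : (Fin n → A) →ₗ[A] B := Fintype.linearCombination A e with hπ
  -- elements of `ker L` give elements of `ker F`
  have hfact1 : ∀ a : Fin n → A, L a = 0 → π a ∈ PolLaw.ker F.law := by
    intro a ha
    apply mem_ker_of_one_tmul_mem_kerBC F.law A
    apply mem_kerBC_of_univLin_eq_zero F.law e he
    have h1 : (1 : A) ⊗ₜ[A] π a = ∑ k, a k ⊗ₜ[A] e k := by
      rw [hπ, Fintype.linearCombination_apply, TensorProduct.tmul_sum]
      refine Finset.sum_congr rfl fun k _ => ?_
      rw [TensorProduct.tmul_smul, TensorProduct.smul_tmul', smul_eq_mul, mul_one]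
    rw [h1, univLin_sum]
    rw [hL, Fintype.linearCombination_apply] at ha
    rw [← ha]
    refine Finset.sum_congr rfl fun k _ => ?_
    rw [Algebra.algebraMap_self, MvPolynomial.map_id, MvPolynomial.smul_eq_C_mul]
  -- decompose `z`
  obtain ⟨a', rfl⟩ := exists_sum_tmul_of_span e he A' z
  have h2 := univLin_eq_zero_of_mem_kerBC F.law e A' _ hz
  rw [univLin_sum] at h2
  set u : A' ⊗[A] (Fin n → A) := ∑ k, a' k ⊗ₜ[A] (Pi.single k (1 : A)) with hu
  have hLu : L.lTensor A' u = 0 := by
    apply (MvPolynomial.algebraTensorAlgEquiv (σ := Fin n ⊕ Fin n) A A').injective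
    rw [map_zero, hu, map_sum, map_sum, ← h2]
    refine Finset.sum_congr rfl fun k _ => ?_
    rw [LinearMap.lTensor_tmul, MvPolynomial.algebraTensorAlgEquiv_tmul, hL,
      Fintype.linearCombination_apply_single, one_smul, MvPolynomial.smul_eq_C_mul]
  have hex : Function.Exact (LinearMap.ker L).subtype L := LinearMap.exact_subtype_ker_map L
  have hex' := Module.Flat.lTensor_exact A' hex
  obtain ⟨v, hv⟩ := (hex' u).1 hLu
  have hz' : ∑ k, a' k ⊗ₜ[A] e k = (π ∘ₗ (LinearMap.ker L).subtype).lTensor A' v := by
    rw [LinearMap.lTensor_comp, LinearMap.comp_apply, hv, hu, map_sum]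
    refine Finset.sum_congr rfl fun k _ => ?_
    rw [LinearMap.lTensor_tmul, hπ, Fintype.linearCombination_apply_single, one_smul]
  rw [hz']
  clear hz' hv
  induction v using TensorProduct.induction_on with
  | zero => rw [map_zero]; exact Ideal.zero_mem _
  | tmul y κ =>
    rw [LinearMap.lTensor_tmul, LinearMap.comp_apply]
    have h3 : π ((LinearMap.ker L).subtype κ) ∈ PolLaw.ker F.law := hfact1 _ κ.2
    have h4 : y ⊗ₜ[A] π ((LinearMap.ker L).subtype κ) = (y ⊗ₜ[A] (1 : B)) *
        (Algebra.TensorProduct.includeRight : B →ₐ[A] A' ⊗[A] B)
          (π ((LinearMap.ker L).subtype κ)) := by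
      rw [Algebra.TensorProduct.includeRight_apply, Algebra.TensorProduct.tmul_mul_tmul, mul_one,
        one_mul]
    rw [h4]
    exact Ideal.mul_mem_left _ _ (Ideal.mem_map_of_mem _ h3)
  | add x y hx hy =>
    rw [map_add]
    exact Ideal.add_mem _ hx hy

end Groth.Agent.S13701
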