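import Groth.Statements.S13704
import Groth.Agent.Lib.Helper25.PolLawGD

set_option autoImplicit false
universe u
open scoped TensorProduct
open ZeroCyc

namespace Groth.Agent.S13704

/-- Let F : B → A be a multiplicative polynomial law homogeneous of degree d over the commutative ring A
and let Z = Spec(B/ker F) be the image of the corresponding family of zero-cycles on Spec B over
Spec A. Then Z → Spec A is universally generizing: for every commutative A-algebra A', along the map
Spec(A' ⊗_A (B/ker F)) → Spec A' every generization of the image of a point lifts to a generization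
of the point. (The published statement is for X affine over an algebraic space S and for the support
of the family; this row is the case of an affine base, stated for the image, which has the same
underlying space as the support since generizing is a topological property.) -/
theorem result {A : Type u} [CommRing A] {B : Type u} [CommRing B] [Algebra A B]
    {d : ℕ} (F : PolLaw.MulLaw A B A d) (A' : Type u) [CommRing A'] [Algebra A A'] :
    GeneralizingMap (PrimeSpectrum.comap (algebraMap A' (A' ⊗[A] PolLaw.image F.law))) := by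
  classical
  open Groth.Agent.Lib.Helper25.PolLawCoeff in
  rw [← Algebra.HasGoingDown.iff_generalizingMap_primeSpectrumComap]
  refine ⟨fun {p'} hp' 𝔔 h𝔔 hlt => ?_⟩
  -- the surjection `A' ⊗ B → A' ⊗ (B ⧸ ker F)`
  set π : A' ⊗[A] B →ₐ[A'] A' ⊗[A] PolLaw.image F.law :=
    Algebra.TensorProduct.map (AlgHom.id A' A') (Ideal.Quotient.mkₐ A (PolLaw.ker F.law)) with hπ
  have hπsurj : Function.Surjective π :=
    Algebra.TensorProduct.map_surjective _ _ (fun x => ⟨x, rfl⟩)
      (Ideal.Quotient.mkₐ_surjective A _)
  have hkerπ : RingHom.ker π = (PolLaw.ker F.law).map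
      (Algebra.TensorProduct.includeRight : B →ₐ[A] A' ⊗[A] B) := by
    have h1 := Algebra.TensorProduct.lTensor_ker (A := A')
      (Ideal.Quotient.mkₐ A (PolLaw.ker F.law)) (Ideal.Quotient.mkₐ_surjective A _)
    have h2 : RingHom.ker (Ideal.Quotient.mkₐ A (PolLaw.ker F.law)) = PolLaw.ker F.law :=
      Ideal.Quotient.mkₐ_ker A _
    rw [h2] at h1
    rw [← h1]
    rfl
  set F' := bcMulLaw A' F with hF'
  have hkerF' : PolLaw.ker F'.law = PolLaw.kerBC F.law A' := ker_bcLaw A' F.law
  set Q : Ideal (A' ⊗[A] B) := 𝔔.comap π with hQ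
  have hQprime : Q.IsPrime := Ideal.comap_isPrime _ _
  have hπQ : RingHom.ker π ≤ Q := by
    intro x hx
    rw [hQ, Ideal.mem_comap, (RingHom.mem_ker).1 hx]
    exact 𝔔.zero_mem
  have hle : PolLaw.ker F'.law ≤ Q := by
    rw [hkerF']
    refine le_trans Ideal.le_radical ?_
    rw [Groth.Agent.S13697.result F A', ← hkerπ]
    exact hQprime.radical_le_iff.2 hπQ
  have hp'Q : p' ≤ Q.comap (algebraMap A' (A' ⊗[A] B)) := by
    intro a ha
    have h1 := hlt.le ha
    rw [Ideal.under_def, Ideal.mem_comap] at h1
    rw [Ideal.mem_comap, hQ, Ideal.mem_comap, AlgHom.commutes]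
    exact h1
  obtain ⟨P, hPprime, hkerP, hPQ, hPp'⟩ := exists_prime_le_of_le_comap F' Q hle p' hp'Q
  have hπP : RingHom.ker π ≤ P := by
    rw [hkerπ]
    exact le_trans (map_ker_le_kerBC F.law A') (hkerF' ▸ hkerP)
  refine ⟨P.map π, ?_, Ideal.map_isPrime_of_surjective hπsurj hπP, ⟨?_⟩⟩
  · rw [Ideal.map_le_iff_le_comap]
    exact hPQ
  · rw [Ideal.under_def]
    have h1 : (P.map π).comap π = P := by
      rw [Ideal.comap_map_of_surjective π hπsurj]
      refine le_antisymm (sup_le le_rfl ?_) le_sup_left
      exact hπP
    rw [← hPp']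
    ext a
    rw [Ideal.mem_comap, Ideal.mem_comap, ← AlgHom.commutes π a]
    conv_lhs => rw [← h1]
    rfl

end Groth.Agent.S13704
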