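import Groth.Statements.S13706
import Groth.Agent.Lib.Helper25.PolLawBC
import Groth.Agent.S13696

set_option autoImplicit false
universe u
open scoped TensorProduct
open ZeroCyc

namespace Groth.Agent.S13706

/-- Let A be a commutative ring, B an A-algebra of finite type and F : B → A a multiplicative polynomial
law homogeneous of degree d. Then there is a finitely generated ideal J of B, contained in the
kernel of F and with the same radical; thus the support of the family of zero-cycles defined by F is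
carried by a bijective closed immersion into Spec(B/J), a scheme of finite presentation over A. -/
theorem result {A : Type u} [CommRing A] {B : Type u} [CommRing B] [Algebra A B]
    [Algebra.FiniteType A B] {d : ℕ} (F : PolLaw.MulLaw A B A d) :
    ∃ J : Ideal B, J.FG ∧ J ≤ PolLaw.ker F.law ∧ J.radical = (PolLaw.ker F.law).radical := by
  classical
  open Groth.Agent.Lib.Helper25.PolLawCoeff in
  obtain ⟨J₁, N, m, hJ₁fg, hJ₁le, hspan⟩ := exists_finite_span_mod F
  set P := MvPolynomial (Fin N) A with hP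
  set ygen : P ⊗[A] B := ∑ j, (MvPolynomial.X j : P) ⊗ₜ[A] m j with hygen
  set c : P ⊗[A] B := Polynomial.aeval ygen (charPolyRel F.law P ygen) with hc
  have hcmem : c ∈ extKer F.law P := aeval_charPolyRel_mem_extKer P F ygen
  have hcoef : ∀ α, tc (Fin N) B c α ∈ PolLaw.ker F.law := fun α =>
    tc_mem_of_mem_map (PolLaw.ker F.law) c hcmem α
  set J₂ : Ideal B := Ideal.span (((tc (Fin N) B c).support.image (tc (Fin N) B c) : Finset B) :
    Set B) with hJ₂
  have hJ₂le : J₂ ≤ PolLaw.ker F.law := by
    rw [hJ₂, Ideal.span_le]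
    intro x hx
    rw [Finset.mem_coe, Finset.mem_image] at hx
    obtain ⟨α, _, rfl⟩ := hx
    exact hcoef α
  have hcoefJ : ∀ α, tc (Fin N) B c α ∈ J₂ := by
    intro α
    by_cases hα : α ∈ (tc (Fin N) B c).support
    · exact Ideal.subset_span (Finset.mem_coe.2 (Finset.mem_image_of_mem _ hα))
    · rw [Finsupp.notMem_support_iff.1 hα]
      exact J₂.zero_mem
  refine ⟨J₁ ⊔ J₂, Submodule.FG.sup hJ₁fg ⟨_, rfl⟩, sup_le hJ₁le hJ₂le, ?_⟩
  apply le_antisymm (Ideal.radical_mono (sup_le hJ₁le hJ₂le))
  rw [Ideal.radical_le_radical_iff]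
  set χ : B → Polynomial A := fun b => TensorProduct.rid A (Polynomial A)
    (F.law.toFun' (Polynomial A) ((1 : Polynomial A) ⊗ₜ[A] b - Polynomial.X ⊗ₜ[A] (1 : B)))
    with hχ
  refine le_trans (Groth.Agent.S13696.result F χ (fun _ => rfl)).2 (Ideal.radical_mono ?_)
  rw [Ideal.span_le]
  rintro _ ⟨b, rfl⟩
  show Polynomial.aeval b (χ b) ∈ J₁ ⊔ J₂
  obtain ⟨a, ha⟩ := hspan b
  set b0 : B := ∑ j, a j • m j with hb0
  -- the characteristic polynomials of `b` and `b0` agree
  have hχeq : χ b = χ b0 := by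
    simp only [hχ]
    congr 1
    have h1 := hJ₁le ha (Polynomial A)
      ((1 : Polynomial A) ⊗ₜ[A] b0 - Polynomial.X ⊗ₜ[A] (1 : B)) 1
    rw [← h1]
    congr 1
    rw [one_mul, TensorProduct.tmul_sub]
    ring
  -- difference of the two evaluations
  have hdiff : Polynomial.aeval b (χ b0) - Polynomial.aeval b0 (χ b0) ∈ J₁ := by
    rw [← Polynomial.eval_map_algebraMap, ← Polynomial.eval_map_algebraMap]
    obtain ⟨r, hr⟩ := Polynomial.sub_dvd_eval_sub b b0 ((χ b0).map (algebraMap A B))
    rw [hr]
    exact J₁.mul_mem_right _ ha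
  -- the evaluation at `b0` is a specialisation of the generic element
  have hspec : Polynomial.aeval b0 (χ b0) ∈ J₂ := by
    set ψ : P →ₐ[A] A := MvPolynomial.aeval a with hψ
    have hz : Algebra.TensorProduct.map ψ (AlgHom.id A B) ygen = (1 : A) ⊗ₜ[A] b0 := by
      rw [hygen, map_sum, hb0, TensorProduct.tmul_sum]
      refine Finset.sum_congr rfl fun j _ => ?_
      rw [Algebra.TensorProduct.map_tmul, hψ, MvPolynomial.aeval_X, AlgHom.id_apply,
        TensorProduct.tmul_smul, TensorProduct.smul_tmul', smul_eq_mul, mul_one]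
    have h1 : Algebra.TensorProduct.map ψ (AlgHom.id A B) c =
        Polynomial.aeval ((1 : A) ⊗ₜ[A] b0) (charPolyRel F.law A ((1 : A) ⊗ₜ[A] b0)) := by
      rw [hc, ← aeval_map_tensor, ← charPolyRel_map, hz]
    have h2 : charPolyRel F.law A ((1 : A) ⊗ₜ[A] b0) = χ b0 := by
      rw [charPolyRel, Algebra.TensorProduct.map_tmul, map_one, AlgHom.id_apply]
      rfl
    have h3 : Algebra.TensorProduct.lid A B (Algebra.TensorProduct.map ψ (AlgHom.id A B) c) =
        Polynomial.aeval b0 (χ b0) := by
      rw [h1, h2, ← Polynomial.aeval_algHom_apply]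
      congr 1
      simp
    rw [← h3]
    have h4 := eq_sum_tc (Fin N) B c
    rw [h4, map_sum, map_sum]
    refine J₂.sum_mem fun α _ => ?_
    rw [Algebra.TensorProduct.map_tmul, AlgHom.id_apply, Algebra.TensorProduct.lid_tmul]
    exact J₂.smul_of_tower_mem _ (hcoefJ α)
  rw [hχeq]
  have : Polynomial.aeval b (χ b0) =
      (Polynomial.aeval b (χ b0) - Polynomial.aeval b0 (χ b0)) + Polynomial.aeval b0 (χ b0) := by
    ring
  rw [this]
  exact Ideal.add_mem _ (Ideal.mem_sup_left hdiff) (Ideal.mem_sup_right hspec)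

end Groth.Agent.S13706
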