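import Groth.Statements.S13707
import Groth.Agent.Lib.Helper25.PolLawPts

set_option autoImplicit false
universe u
open scoped TensorProduct
open ZeroCyc

namespace Groth.Agent.S13707

/-- Let k be a field, B a commutative k-algebra and F : B → k a multiplicative polynomial law
homogeneous of degree d. Then the spectrum of B/ker F (the image of the family of zero-cycles of
degree d on Spec B defined by F) is a finite set of at most d closed points, and the residue field
at each of them has finite separable degree over k. -/
theorem result {k : Type u} [Field k] {B : Type u} [CommRing B] [Algebra k B]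
    {d : ℕ} (F : PolLaw.MulLaw k B k d) :
    Finite (PrimeSpectrum (PolLaw.image F.law)) ∧ Nat.card (PrimeSpectrum (PolLaw.image F.law)) ≤ d ∧
      ∀ P : PrimeSpectrum (PolLaw.image F.law), P.asIdeal.IsMaximal ∧
        Finite (Field.Emb k P.asIdeal.ResidueField) := by
  classical
  open Groth.Agent.Lib.Helper25.PolLawCoeff in
  have hint : Algebra.IsIntegral k (PolLaw.image F.law) := Groth.Agent.S13695.result F
  have h1 := card_primeSpectrum_fibre_le F k
  let e : PrimeSpectrum (k ⊗[k] PolLaw.image F.law) ≃ PrimeSpectrum (PolLaw.image F.law) :=
    (PrimeSpectrum.comapEquiv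
      (Algebra.TensorProduct.lid k (PolLaw.image F.law)).toRingEquiv).toEquiv
  have hfin : Finite (PrimeSpectrum (PolLaw.image F.law)) := by
    have := h1.1
    exact Finite.of_equiv _ e
  refine ⟨hfin, ?_, ?_⟩
  · rw [← Nat.card_congr e]
    exact h1.2
  · intro P
    have hmax : P.asIdeal.IsMaximal := by
      apply Ideal.Quotient.maximal_of_isField
      exact isField_of_isIntegral_of_isField' (R := k) (S := PolLaw.image F.law ⧸ P.asIdeal)
        (Field.toIsField k)
    refine ⟨hmax, ?_⟩
    have hsurj : Function.Surjective (algebraMap (PolLaw.image F.law) P.asIdeal.ResidueField) :=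
      P.asIdeal.algebraMap_residueField_surjective
    refine (finite_card_le_of_no_inj d ?_).1
    intro f hf
    set Ω := AlgebraicClosure P.asIdeal.ResidueField with hΩ
    set π : B →ₐ[k] P.asIdeal.ResidueField :=
      (IsScalarTower.toAlgHom k (PolLaw.image F.law) P.asIdeal.ResidueField).comp
        (Ideal.Quotient.mkₐ k (PolLaw.ker F.law)) with hπ
    have hπsurj : Function.Surjective π := by
      intro x
      obtain ⟨y, rfl⟩ := hsurj x
      obtain ⟨b, rfl⟩ := Ideal.Quotient.mk_surjective y
      exact ⟨b, rfl⟩
    set β : Fin (d + 1) → (B →ₐ[k] Ω) := fun i => (f i).comp π with hβ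
    have hβinj : Function.Injective β := by
      intro i j hij
      apply hf
      apply AlgHom.ext
      intro x
      obtain ⟨b, rfl⟩ := hπsurj x
      exact DFunLike.congr_fun hij b
    have hle := card_points_le F β hβinj (by
      intro i b hb
      rw [hβ]
      show (f i) (π b) = 0
      have : π b = 0 := by
        rw [hπ]
        show algebraMap (PolLaw.image F.law) P.asIdeal.ResidueField
          (Ideal.Quotient.mk (PolLaw.ker F.law) b) = 0
        rw [Ideal.Quotient.eq_zero_iff_mem.2 hb, map_zero]
      rw [this, map_zero])
    omega

end Groth.Agent.S13707
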