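import Groth.Statements.S13708
import Groth.Agent.Lib.Helper69.SepAffine

set_option autoImplicit false
universe u
open CategoryTheory CategoryTheory.Limits AlgebraicGeometry
open ZeroCyc

namespace Groth.Agent.S13708

/-- Let X be a scheme over S such that every finite set of points of X over a common point of S lies in
some affine open subscheme of X (the condition (AF)). Then X is separated over S. (The published
condition (AF) asks for an open U with U → S quasi-affine rather than U affine; with U affine, as
here, the same argument applies verbatim, and the two conditions agree over a quasi-separated base.) -/
theorem result {X S : Scheme.{u}} (f : X ⟶ S) (hX : SymProd.IsAF f) :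
    IsSeparated f := by
  classical
  apply Groth.Agent.Lib.Helper69.isSeparated_of_forall_exists_isAffineOpen
  intro x y hxy
  obtain ⟨U, hU, hmem⟩ := hX (f.base x) {x, y} (by
    intro t ht
    simp only [Finset.mem_insert, Finset.mem_singleton] at ht
    rcases ht with rfl | rfl
    · rfl
    · exact hxy.symm)
  exact ⟨U, hU, hmem x (by simp), hmem y (by simp)⟩

end Groth.Agent.S13708
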