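import Groth.Statements.S13709
import Mathlib.AlgebraicGeometry.Morphisms.UniversallyOpen
import Mathlib.AlgebraicGeometry.PullbackCarrier
import Mathlib.Topology.Homeomorph.Lemmas

set_option autoImplicit false
universe u
open CategoryTheory CategoryTheory.Limits AlgebraicGeometry
open ZeroCyc

namespace Groth.Agent.S13709

/-- Let f : X → Y be a quasi-compact morphism of schemes and g : Y' → Y a faithfully flat morphism, i.e.
flat and surjective, with no quasi-compactness assumption on g. If the base change X ×_Y Y' → Y' of
f along g is a homeomorphism on underlying spaces, then so is f. -/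
theorem result {X Y Y' : Scheme.{u}} (f : X ⟶ Y) (g : Y' ⟶ Y)
    [Flat g] [Surjective g] [QuasiCompact f] (h : IsHomeomorph (pullback.snd f g).base) :
    IsHomeomorph f.base := by
  have hcond : ∀ z : ↑(pullback f g), f (pullback.fst f g z) = g (pullback.snd f g z) := by
    intro z
    have := congrArg (fun φ : pullback f g ⟶ Y => φ z) (pullback.condition (f := f) (g := g))
    simpa using this
  have hsurj : Function.Surjective f := by
    intro y
    obtain ⟨y', rfl⟩ := g.surjective y
    obtain ⟨z, rfl⟩ := h.surjective y'
    exact ⟨pullback.fst f g z, hcond z⟩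
  have hinj : Function.Injective f := by
    intro x₁ x₂ hx
    obtain ⟨y', hy'⟩ := g.surjective (f x₁)
    obtain ⟨z₁, hz₁, hz₁'⟩ := Scheme.Pullback.exists_preimage_pullback (f := f) (g := g) x₁ y' hy'.symm
    obtain ⟨z₂, hz₂, hz₂'⟩ := Scheme.Pullback.exists_preimage_pullback (f := f) (g := g) x₂ y'
      (hx ▸ hy'.symm)
    have : z₁ = z₂ := h.injective (hz₁'.trans hz₂'.symm)
    rw [← hz₁, ← hz₂, this]
  have hspec : SpecializingMap f := by
    intro x y hxy
    change f x ⤳ y at hxy
    obtain ⟨y', rfl⟩ := g.surjective y
    obtain ⟨η', hη', hη'x⟩ := (Flat.generalizingMap g) hxy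
    obtain ⟨z, hz, hz'⟩ := Scheme.Pullback.exists_preimage_pullback (f := f) (g := g) x η' hη'x.symm
    have hsp : SpecializingMap (pullback.snd f g) := h.isClosedMap.specializingMap
    obtain ⟨z', hzz', hz'y⟩ := hsp (a := z) (b := y') (by change pullback.snd f g z ⤳ y'; rw [hz']; exact hη')
    change z ⤳ z' at hzz'
    refine ⟨pullback.fst f g z', ?_, ?_⟩
    · change x ⤳ pullback.fst f g z'
      rw [← hz]
      exact hzz'.map (pullback.fst f g).continuous
    · rw [hcond z', hz'y]
  have hclosed : IsClosedMap f := (isClosedMap_iff_specializingMap f).2 hspec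
  exact isHomeomorph_iff_continuous_isClosedMap_bijective.2 ⟨f.continuous, hclosed, hinj, hsurj⟩

end Groth.Agent.S13709
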