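import Groth.Statements.S13710
import Groth.Agent.S13709
import Mathlib.AlgebraicGeometry.Morphisms.FlatDescent
import Mathlib.AlgebraicGeometry.Morphisms.Preimmersion
import Mathlib.AlgebraicGeometry.Stalk
import Mathlib.AlgebraicGeometry.PullbackCarrier

set_option autoImplicit false
universe u
open CategoryTheory CategoryTheory.Limits AlgebraicGeometry
open ZeroCyc

namespace Groth.Agent.S13710

/-- The canonical morphism `Spec 𝒪_{X,x} ⟶ X` is flat. -/
theorem flat_fromSpecStalk (X : Scheme.{u}) (x : X) : Flat (X.fromSpecStalk x) := by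
  obtain ⟨_, ⟨U, hU', rfl⟩, hxU, -⟩ :=
    X.isBasis_affineOpens.exists_subset_of_mem_open (Set.mem_univ x) isOpen_univ
  have hU : IsAffineOpen U := hU'
  rw [← hU.fromSpecStalk_eq_fromSpecStalk hxU]
  dsimp only [IsAffineOpen.fromSpecStalk]
  have h1 : Flat (Spec.map (X.presheaf.germ U x hxU)) := by
    rw [HasRingHomProperty.Spec_iff (P := @Flat)]
    let _ : Algebra Γ(X, U) (X.presheaf.stalk x) := (X.presheaf.germ U x hxU).hom.toAlgebra
    have := hU.isLocalization_stalk ⟨x, hxU⟩
    exact IsLocalization.flat (X.presheaf.stalk x) (hU.primeIdealOf ⟨x, hxU⟩).asIdeal.primeCompl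
  exact Flat.comp _ _

/-- A flat preimmersion induces isomorphisms on all stalks. -/
theorem isIso_stalkMap_of_flat_of_isPreimmersion {A B : Scheme.{u}} (φ : A ⟶ B)
    [Flat φ] [IsPreimmersion φ] (a : A) : IsIso (φ.stalkMap a) := by
  rw [ConcreteCategory.isIso_iff_bijective]
  refine ⟨?_, φ.stalkMap_surjective a⟩
  algebraize [(φ.stalkMap a).hom]
  have : Module.FaithfullyFlat (B.presheaf.stalk (φ a)) (A.presheaf.stalk a) :=
    @Module.FaithfullyFlat.of_flat_of_isLocalHom _ _ _ _ _ _ _
      (Flat.stalkMap φ a) (φ.toLRSHom.prop a)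
  exact ‹RingHom.FaithfullyFlat _›.injective

/-- Let f : X → Y be a morphism of schemes and g : Y' → Y a faithfully flat morphism (flat and
surjective, not assumed quasi-compact). Then f is an isomorphism exactly when it is quasi-compact
and its base change X ×_Y Y' → Y' along g is an isomorphism. -/
theorem result {X Y Y' : Scheme.{u}} (f : X ⟶ Y) (g : Y' ⟶ Y)
    [Flat g] [Surjective g] :
    IsIso f ↔ QuasiCompact f ∧ IsIso (pullback.snd f g) := by
  constructor
  · intro hf
    exact ⟨inferInstance, inferInstance⟩
  · rintro ⟨hqc, hiso⟩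
    -- `f` is a homeomorphism
    have hhomeo : IsHomeomorph f.base :=
      Groth.Agent.S13709.result f g
        ((TopCat.homeoOfIso (asIso (pullback.snd f g).base)).isHomeomorph)
    -- the stalk maps of `f` are isomorphisms
    have hstalk : ∀ x : X, IsIso (f.stalkMap x) := by
      intro x
      obtain ⟨y', hy'⟩ := g.surjective (f x)
      -- the base changes to the local rings
      let j : Spec (Y.presheaf.stalk (g y')) ⟶ Y := Y.fromSpecStalk (g y')
      let j' : Spec (Y'.presheaf.stalk y') ⟶ Y' := Y'.fromSpecStalk y'
      let q : Spec (Y'.presheaf.stalk y') ⟶ Spec (Y.presheaf.stalk (g y')) :=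
        Spec.map (g.stalkMap y')
      have hq : q ≫ j = j' ≫ g := Scheme.SpecMap_stalkMap_fromSpecStalk g
      have : Flat j := flat_fromSpecStalk Y (g y')
      -- `q` is an fpqc covering
      have hqff : (g.stalkMap y').hom.FaithfullyFlat := by
        algebraize [(g.stalkMap y').hom]
        have : Module.FaithfullyFlat (Y.presheaf.stalk (g y')) (Y'.presheaf.stalk y') :=
          @Module.FaithfullyFlat.of_flat_of_isLocalHom _ _ _ _ _ _ _
            (Flat.stalkMap g y') (g.toLRSHom.prop y')
        exact ‹RingHom.FaithfullyFlat _›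
      obtain ⟨hqflat, hqsurj⟩ := (flat_and_surjective_SpecMap_iff (g.stalkMap y')).2 hqff
      have hqQ : (@Surjective ⊓ @Flat ⊓ @QuasiCompact : MorphismProperty Scheme.{u}) q :=
        ⟨⟨hqsurj, hqflat⟩, inferInstance⟩
      -- pasting of pullback squares
      have s1 : IsPullback (pullback.fst (pullback.snd f g) j') (pullback.snd (pullback.snd f g) j')
          (pullback.snd f g) j' := IsPullback.of_hasPullback _ _
      have s2 : IsPullback (pullback.fst f g) (pullback.snd f g) f g := IsPullback.of_hasPullback _ _
      have s3 := s1.paste_horiz s2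
      rw [← hq] at s3
      have s4 : IsPullback (pullback.fst f j) (pullback.snd f j) f j := IsPullback.of_hasPullback _ _
      have s5 := IsPullback.of_right' s3 s4
      have hiso₁ : IsIso (pullback.snd f j) :=
        MorphismProperty.of_isPullback_of_descendsAlong
          (P := MorphismProperty.isomorphisms Scheme.{u})
          (Q := (@Surjective ⊓ @Flat ⊓ @QuasiCompact : MorphismProperty Scheme.{u}))
          s5.flip hqQ (inferInstanceAs (IsIso (pullback.snd (pullback.snd f g) j')))
      -- the point of the base change over `x`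
      obtain ⟨x₁, hx₁, -⟩ := Scheme.Pullback.exists_preimage_pullback (f := f) (g := j) x
        (IsLocalRing.closedPoint _) (by rw [← hy']; exact (Scheme.fromSpecStalk_closedPoint).symm)
      subst hx₁
      have h1 : IsIso ((pullback.fst f j ≫ f).stalkMap x₁) := by
        rw [pullback.condition]
        rw [Scheme.Hom.stalkMap_comp]
        have i1 := isIso_stalkMap_of_flat_of_isPreimmersion j (pullback.snd f j x₁)
        have i2 : IsIso ((pullback.snd f j).stalkMap x₁) := inferInstance
        exact IsIso.comp_isIso' i1 i2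
      rw [Scheme.Hom.stalkMap_comp] at h1
      have i3 := isIso_stalkMap_of_flat_of_isPreimmersion (pullback.fst f j) x₁
      exact @IsIso.of_isIso_comp_right _ _ _ _ _ _ ((pullback.fst f j).stalkMap x₁) i3 h1
    have : IsOpenImmersion f :=
      IsOpenImmersion.of_isIso_stalkMap f hhomeo.isOpenEmbedding
    have : Epi f.base := (TopCat.epi_iff_surjective _).2 hhomeo.surjective
    exact IsOpenImmersion.isIso f

end Groth.Agent.S13710
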