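import Groth.Statements.S13711
import Groth.Agent.S13710
import Mathlib.AlgebraicGeometry.Morphisms.Flat
import Mathlib.AlgebraicGeometry.Morphisms.Separated
import Mathlib.AlgebraicGeometry.Morphisms.IsIso

set_option autoImplicit false
set_option backward.isDefEq.respectTransparency.types false
universe u
open CategoryTheory CategoryTheory.Limits AlgebraicGeometry
open ZeroCyc

namespace Groth.Agent.S13711

/-- Affine base case. -/
theorem isAffine_of_flat_surjective {X Y Y' : Scheme.{u}} [IsAffine Y] (f : X ⟶ Y) (g : Y' ⟶ Y)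
    [Flat g] [Surjective g] [QuasiCompact f] [QuasiSeparated f]
    [IsAffineHom (pullback.snd f g)] : IsAffine X := by
  have : CompactSpace X := QuasiCompact.compactSpace_of_compactSpace f
  have : QuasiSeparatedSpace X := quasiSeparatedSpace_of_quasiSeparated f
  let c : X ⟶ Spec Γ(X, ⊤) := X.toSpecΓ
  let π : Spec Γ(X, ⊤) ⟶ Y := Spec.map f.appTop ≫ Y.isoSpec.inv
  have hcπ : c ≫ π = f := by
    simp only [c, π]
    rw [← Scheme.toSpecΓ_naturality_assoc]
    simp [Scheme.isoSpec]
  let h : pullback π g ⟶ Spec Γ(X, ⊤) := pullback.fst π g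
  let t : pullback π g ⟶ Y' := pullback.snd π g
  let p : pullback f g ⟶ pullback π g :=
    pullback.lift (pullback.fst f g ≫ c) (pullback.snd f g)
      (by rw [Category.assoc, hcπ, pullback.condition])
  have hpt : p ≫ t = pullback.snd f g := pullback.lift_snd _ _ _
  have hph : p ≫ h = pullback.fst f g ≫ c := pullback.lift_fst _ _ _
  have Hbig : IsPullback (pullback.fst f g) (p ≫ t) (c ≫ π) g := by
    rw [hpt, hcπ]; exact IsPullback.of_hasPullback f g
  have Htop : IsPullback (pullback.fst f g) p c h :=
    IsPullback.of_bot Hbig hph.symm (IsPullback.of_hasPullback π g)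
  -- `p` is an isomorphism
  have hpiso : IsIso p := by
    have hπ : IsAffineHom π := by dsimp only [π]; infer_instance
    have : IsAffineHom t := MorphismProperty.pullback_snd (P := @IsAffineHom) π g hπ
    have : IsAffineHom (p ≫ t) := by rw [hpt]; infer_instance
    have : IsAffineHom p := IsAffineHom.of_comp p t
    change MorphismProperty.isomorphisms Scheme p
    rw [IsZariskiLocalAtTarget.iff_of_iSup_eq_top (P := MorphismProperty.isomorphisms Scheme)
      (fun W : Y'.affineOpens => t ⁻¹ᵁ W.1)
      (by rw [← Scheme.Hom.preimage_iSup, iSup_affineOpens_eq_top]; rfl)]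
    intro W
    change IsIso (p ∣_ (t ⁻¹ᵁ W.1))
    rw [isIso_morphismRestrict_iff_isIso_app p (W.2.preimage t)]
    -- the two pullback squares and their section maps
    have HT : IsPullback h t π g := IsPullback.of_hasPullback π g
    have HX : IsPullback (pullback.fst f g) (pullback.snd f g) f g := IsPullback.of_hasPullback f g
    have hUST : W.1 ≤ g ⁻¹ᵁ (⊤ : Y.Opens) := le_top
    have hUSπ : (⊤ : (Spec Γ(X, ⊤)).Opens) ≤ π ⁻¹ᵁ (⊤ : Y.Opens) := le_top
    have hUSf : (⊤ : X.Opens) ≤ f ⁻¹ᵁ (⊤ : Y.Opens) := le_top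
    have hUYT : t ⁻¹ᵁ W.1 = h ⁻¹ᵁ (⊤ : (Spec Γ(X, ⊤)).Opens) ⊓ t ⁻¹ᵁ W.1 := by simp
    have hUYX : p ⁻¹ᵁ (t ⁻¹ᵁ W.1) =
        (pullback.fst f g) ⁻¹ᵁ (⊤ : X.Opens) ⊓ (pullback.snd f g) ⁻¹ᵁ W.1 := by
      rw [← Scheme.Hom.comp_preimage, hpt]; simp
    let ψT := pushoutSection HT hUST hUSπ hUYT
    let ψX := pushoutSection HX hUST hUSf hUYX
    have hψT : IsIso ψT :=
      isIso_pushoutSection_of_isAffineOpen HT hUST hUSπ hUYT (isAffineOpen_top Y) W.2
        (isAffineOpen_top _)
    have hψX : IsIso ψX :=
      isIso_pushoutSection_of_isQuasiSeparated_of_flat_right HX hUST hUSf hUYX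
        (isAffineOpen_top Y) W.2 CompactSpace.isCompact_univ isQuasiSeparated_univ
    have hc : IsIso (c.appLE ⊤ ⊤ le_top) := by
      have : c.appLE ⊤ ⊤ le_top = c.appTop := by
        simp [Scheme.Hom.appLE, Scheme.Hom.appTop]
      rw [this]
      dsimp only [c]
      rw [Scheme.toSpecΓ_appTop]
      infer_instance
    have e1 : π.appLE ⊤ ⊤ hUSπ ≫ c.appLE ⊤ ⊤ le_top = 𝟙 _ ≫ f.appLE ⊤ ⊤ hUSf := by
      rw [Scheme.Hom.appLE_comp_appLE, Category.id_comp]
      congr 1
    let μ := pushout.map (π.appLE ⊤ ⊤ hUSπ) (g.appLE ⊤ W.1 hUST) (f.appLE ⊤ ⊤ hUSf)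
      (g.appLE ⊤ W.1 hUST) (c.appLE ⊤ ⊤ le_top) (𝟙 _) (𝟙 _) e1 (by simp)
    have hμ : IsIso μ := by dsimp only [μ]; infer_instance
    have key : ψT ≫ p.app (t ⁻¹ᵁ W.1) = μ ≫ ψX := by
      apply pushout.hom_ext
      · simp only [ψT, ψX, μ, pushoutSection, pushout.inl_desc_assoc, pushout.map]
        rw [Scheme.Hom.app_eq_appLE, Scheme.Hom.appLE_comp_appLE, Category.assoc,
          pushout.inl_desc, Scheme.Hom.appLE_comp_appLE]
        congr 1
      · simp only [ψT, ψX, μ, pushoutSection, pushout.inr_desc_assoc, pushout.map]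
        rw [Scheme.Hom.app_eq_appLE, Scheme.Hom.appLE_comp_appLE, Category.id_comp,
          pushout.inr_desc]
        congr 1
    have : p.app (t ⁻¹ᵁ W.1) = inv ψT ≫ μ ≫ ψX := by rw [IsIso.eq_inv_comp, key]
    rw [this]
    infer_instance
  -- conclude with descent of isomorphisms
  have hsnd : IsIso (pullback.snd c h) := by
    have : pullback.snd c h = Htop.isoPullback.inv ≫ p := by
      rw [Iso.eq_inv_comp, IsPullback.isoPullback_hom_snd]
    rw [this]
    infer_instance
  have hqc : QuasiCompact c := inferInstance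
  have hflat : Flat h := by dsimp only [h]; infer_instance
  have hsurj : Surjective h := by dsimp only [h]; infer_instance
  have hciso : IsIso c := (Groth.Agent.S13710.result c h).mpr ⟨hqc, hsnd⟩
  exact ⟨hciso⟩


/-- Let f : X → Y be a morphism of schemes and g : Y' → Y a faithfully flat morphism (flat and
surjective, not assumed quasi-compact). Then f is affine exactly when it is quasi-compact,
quasi-separated, and its base change X ×_Y Y' → Y' along g is affine. -/
theorem result {X Y Y' : Scheme.{u}} (f : X ⟶ Y) (g : Y' ⟶ Y)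
    [Flat g] [Surjective g] :
    IsAffineHom f ↔ QuasiCompact f ∧ QuasiSeparated f ∧ IsAffineHom (pullback.snd f g) := by
  constructor
  · intro hf
    exact ⟨inferInstance, inferInstance,
      MorphismProperty.pullback_snd (P := @IsAffineHom) f g hf⟩
  · rintro ⟨hqc, hqs, haff⟩
    rw [IsZariskiLocalAtTarget.iff_of_openCover (P := @IsAffineHom) Y.affineCover]
    intro i
    change IsAffineHom (pullback.snd f (Y.affineCover.f i))
    generalize Y.affineCover.f i = j at *
    have hY₀ : IsAffine (Y.affineCover.X i) := inferInstance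
    have hf₀qc : QuasiCompact (pullback.snd f j) :=
      MorphismProperty.pullback_snd (P := @QuasiCompact) f j hqc
    have hf₀qs : QuasiSeparated (pullback.snd f j) :=
      MorphismProperty.pullback_snd (P := @QuasiSeparated) f j hqs
    have hg₀fl : Flat (pullback.snd g j) :=
      MorphismProperty.pullback_snd (P := @Flat) g j inferInstance
    have hg₀su : Surjective (pullback.snd g j) :=
      MorphismProperty.pullback_snd (P := @Surjective) g j inferInstance
    have s1 : IsPullback (pullback.fst (pullback.snd f j) (pullback.snd g j))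
        (pullback.snd (pullback.snd f j) (pullback.snd g j)) (pullback.snd f j)
        (pullback.snd g j) := IsPullback.of_hasPullback _ _
    have s2 : IsPullback (pullback.fst f j) (pullback.snd f j) f j :=
      IsPullback.of_hasPullback _ _
    have s3 := s1.paste_horiz s2
    rw [← pullback.condition (f := g) (g := j)] at s3
    have s4 : IsPullback (pullback.fst f g) (pullback.snd f g) f g :=
      IsPullback.of_hasPullback _ _
    have s5 := IsPullback.of_right' s3 s4
    have haff₀ : IsAffineHom (pullback.snd (pullback.snd f j) (pullback.snd g j)) :=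
      MorphismProperty.of_isPullback (P := @IsAffineHom) s5 haff
    have : IsAffine (pullback f j) :=
      isAffine_of_flat_surjective (pullback.snd f j) (pullback.snd g j)
    infer_instance

end Groth.Agent.S13711
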