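import Groth.Statements.S13717
import Groth.Agent.Lib.Helper25.PolLawCoeff

set_option autoImplicit false
universe u
open scoped TensorProduct
open ZeroCyc

namespace Groth.Agent.S13717

/-- Let π : B → B' be a surjective map of commutative A-algebras and let (C, γ) and (C', γ') be the
degree-d divided power algebras Γ^d_A(B) and Γ^d_A(B') with their universal multiplicative laws
homogeneous of degree d. If φ : C → C' is the A-algebra map with φ ∘ γ = γ' ∘ π, then φ is
surjective; geometrically, for a closed subscheme X of an affine Y over an affine S, Γ^d(X/S) →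
Γ^d(Y/S) is a closed immersion. (The published statement is for Y affine over an algebraic space S;
this row is the case of an affine base.) -/
theorem result {A : Type u} [CommRing A] {B : Type u} [CommRing B] [Algebra A B]
    {B' : Type u} [CommRing B'] [Algebra A B'] {C : Type u} [CommRing C] [Algebra A C] {C' : Type u} [CommRing C'] [Algebra A C']
    {d : ℕ} (γ : PolLaw.MulLaw A B C d) (hγ : PolLaw.IsGammaD γ) (γ' : PolLaw.MulLaw A B' C' d) (hγ' : PolLaw.IsGammaD γ')
    (π : B →ₐ[A] B') (hπ : Function.Surjective π) (φ : C →ₐ[A] C')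
    (hφ : PolLaw.postcomp φ.toLinearMap γ.law = (γ'.precomp π).law) :
    Function.Surjective φ := by
  classical
  have htop := Groth.Agent.Lib.Helper25.PolLawCoeff.coeffSpan_eq_top γ' hγ'
  have hle : Groth.Agent.Lib.Helper25.PolLawCoeff.coeffSpan γ'.law ≤ LinearMap.range φ.toLinearMap := by
    apply Submodule.span_le.2
    rintro _ ⟨σ, m', I, ν, rfl⟩
    choose m hm using fun i => hπ (m' i)
    refine ⟨Groth.Agent.Lib.Helper25.PolLawCoeff.coeff γ.law m I ν, ?_⟩
    rw [AlgHom.toLinearMap_apply, ← AlgHom.toLinearMap_apply,
      ← Groth.Agent.Lib.Helper25.PolLawCoeff.coeff_postcomp, hφ]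
    show Groth.Agent.Lib.Helper25.PolLawCoeff.coeff (PolLaw.precomp γ'.law π.toLinearMap) m I ν = _
    rw [Groth.Agent.Lib.Helper25.PolLawCoeff.coeff_precomp]
    congr 2
    funext i
    exact hm i
  rw [htop, top_le_iff] at hle
  intro c
  have : c ∈ LinearMap.range φ.toLinearMap := by rw [hle]; exact Submodule.mem_top
  obtain ⟨x, hx⟩ := this
  exact ⟨x, hx⟩

end Groth.Agent.S13717
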