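import Groth.Statements.S13713
import Groth.Agent.Lib.Helper25.PolLawBCG
import Groth.Agent.Lib.Helper25.TSNoether
import Groth.Agent.S13873
import Groth.Agent.S13717

set_option autoImplicit false
universe u
open scoped TensorProduct
open ZeroCyc

namespace Groth.Agent.S13713

/-- the statement, relative to a Noetherian ring `Z` over which `A` is an algebra -/
theorem aux (Z : Type u) [CommRing Z] [IsNoetherianRing Z]
    {A : Type u} [CommRing A] [Algebra Z A] {B : Type u} [CommRing B] [Algebra A B]
    {C : Type u} [CommRing C] [Algebra A C]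
    {d : ℕ} (γ : PolLaw.MulLaw A B C d) (hγ : PolLaw.IsGammaD γ) [Algebra.FiniteType A B] :
    Algebra.FiniteType A C := by
  classical
  obtain ⟨n, f, hf⟩ :=
    (Algebra.FiniteType.iff_quotient_mvPolynomial'' (R := A) (S := B)).1 inferInstance
  -- the divided power algebra of the polynomial ring over `Z`
  obtain ⟨τ, -, hτ⟩ := Groth.Agent.S13873.result (A := Z) (B := MvPolynomial (Fin n) Z) d
    (Or.inl inferInstance)
  have hτ' := Groth.Agent.Lib.Helper25.PolLawCoeff.isGammaD_bcgMulLaw A τ hτ
  have : Algebra.FiniteType Z (SymTen.TS Z (MvPolynomial (Fin n) Z) d) :=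
    Groth.Agent.Lib.Helper25.PolLawCoeff.finiteType_TS Z (MvPolynomial (Fin n) Z) d
  let π : A ⊗[Z] MvPolynomial (Fin n) Z →ₐ[A] B :=
    f.comp (MvPolynomial.algebraTensorAlgEquiv Z A).toAlgHom
  have hπ : Function.Surjective π :=
    hf.comp (MvPolynomial.algebraTensorAlgEquiv Z A).surjective
  obtain ⟨φ, hφ, -⟩ := hτ' C (γ.precomp π)
  have hsurj := Groth.Agent.S13717.result
    (Groth.Agent.Lib.Helper25.PolLawCoeff.bcgMulLaw A τ) hτ' γ hγ π hπ φ hφ
  exact Algebra.FiniteType.of_surjective φ hsurj

/-- Let (C, γ) be the algebra of divided powers Γ^d_A(B) of a commutative A-algebra B with its universal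
multiplicative law γ : B → C homogeneous of degree d (every multiplicative law B → C' homogeneous of
degree d factors uniquely through γ by an algebra map C → C'). If B is of finite type over A then so
is C = Γ^d_A(B). -/
theorem result {A : Type u} [CommRing A] {B : Type u} [CommRing B] [Algebra A B] {C : Type u} [CommRing C] [Algebra A C]
    {d : ℕ} (γ : PolLaw.MulLaw A B C d) (hγ : PolLaw.IsGammaD γ) [Algebra.FiniteType A B] :
    Algebra.FiniteType A C := by
  have : IsNoetherianRing (ULift.{u} ℤ) := isNoetherianRing_of_ringEquiv ℤ ULift.ringEquiv.symm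
  let _ : Algebra (ULift.{u} ℤ) A :=
    Algebra.compHom A (ULift.ringEquiv : ULift.{u} ℤ ≃+* ℤ).toRingHom
  exact aux (ULift.{u} ℤ) γ hγ

end Groth.Agent.S13713
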