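import Groth.Statements.S13714
import Groth.Agent.Lib.Helper25.PolLawBCG
import Groth.Agent.Lib.Helper25.PolLawExist
import Groth.Agent.Lib.Helper25.TSNoether
import Groth.Agent.S13873
import Mathlib.RingTheory.Extension.Presentation.Core

set_option autoImplicit false
universe u
open scoped TensorProduct
open ZeroCyc

namespace Groth.Agent.S13714

/-- Let (C, γ) be the algebra of divided powers Γ^d_A(B) of a commutative A-algebra B with its universal
multiplicative law γ : B → C homogeneous of degree d (every multiplicative law B → C' homogeneous of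
degree d factors uniquely through γ by an algebra map C → C'). If B is of finite presentation over A
then so is C = Γ^d_A(B). -/
theorem result {A : Type u} [CommRing A] {B : Type u} [CommRing B] [Algebra A B] {C : Type u} [CommRing C] [Algebra A C]
    {d : ℕ} (γ : PolLaw.MulLaw A B C d) (hγ : PolLaw.IsGammaD γ) [Algebra.FinitePresentation A B] :
    Algebra.FinitePresentation A C := by
  classical
  -- descend `B` to a Noetherian ring `A₀`
  let Pr := Algebra.Presentation.ofFinitePresentation A B
  have : IsNoetherianRing Pr.Core := Algebra.FiniteType.isNoetherianRing ℤ Pr.Core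
  -- the divided power algebra of the polynomial ring over `A₀`
  obtain ⟨τ, -, hτ⟩ := Groth.Agent.S13873.result (A := Pr.Core)
    (B := MvPolynomial (Fin (Algebra.Presentation.ofFinitePresentationVars A B)) Pr.Core) d
    (Or.inl inferInstance)
  -- the divided power algebra of the model over `A₀`
  let I₀ : Ideal (MvPolynomial (Fin (Algebra.Presentation.ofFinitePresentationVars A B)) Pr.Core) :=
    Ideal.span (Set.range (Pr.relationOfHasCoeffs Pr.Core))
  have hγ₀ := Groth.Agent.Lib.Helper25.PolLawCoeff.isGammaD_quotGammaLaw τ hτ I₀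
  -- it is of finite presentation over `A₀`
  have : Algebra.FiniteType Pr.Core (SymTen.TS Pr.Core
      (MvPolynomial (Fin (Algebra.Presentation.ofFinitePresentationVars A B)) Pr.Core) d) :=
    Groth.Agent.Lib.Helper25.PolLawCoeff.finiteType_TS Pr.Core _ d
  have hft : Algebra.FiniteType Pr.Core (SymTen.TS Pr.Core
      (MvPolynomial (Fin (Algebra.Presentation.ofFinitePresentationVars A B)) Pr.Core) d ⧸
        Groth.Agent.Lib.Helper25.PolLawCoeff.diffIdeal τ.law I₀) :=
    Algebra.FiniteType.of_surjective (Ideal.Quotient.mkₐ Pr.Core _)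
      (Ideal.Quotient.mkₐ_surjective _ _)
  have hfp : Algebra.FinitePresentation Pr.Core (SymTen.TS Pr.Core
      (MvPolynomial (Fin (Algebra.Presentation.ofFinitePresentationVars A B)) Pr.Core) d ⧸
        Groth.Agent.Lib.Helper25.PolLawCoeff.diffIdeal τ.law I₀) :=
    Algebra.FinitePresentation.of_finiteType.1 hft
  -- base change to `A`
  have hγ' := Groth.Agent.Lib.Helper25.PolLawCoeff.isGammaD_bcgMulLaw A _ hγ₀
  obtain ⟨e⟩ := Groth.Agent.Lib.Helper25.PolLawCoeff.nonempty_algEquiv_of_isGammaD γ hγ _ hγ'
    (Pr.tensorModelOfHasCoeffsEquiv Pr.Core)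
  exact Algebra.FinitePresentation.equiv e

end Groth.Agent.S13714
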