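import Groth.Statements.S13715
import Groth.Agent.Lib.Helper25.PolLawCoeff

set_option autoImplicit false
universe u
open scoped TensorProduct
open ZeroCyc

namespace Groth.Agent.S13715

/-- Let (C, γ) be the algebra of divided powers Γ^d_A(B) of a commutative A-algebra B with its universal
multiplicative law γ : B → C homogeneous of degree d (every multiplicative law B → C' homogeneous of
degree d factors uniquely through γ by an algebra map C → C'). If B is finite (as a module) over A
then so is C = Γ^d_A(B). -/
theorem result {A : Type u} [CommRing A] {B : Type u} [CommRing B] [Algebra A B] {C : Type u} [CommRing C] [Algebra A C]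
    {d : ℕ} (γ : PolLaw.MulLaw A B C d) (hγ : PolLaw.IsGammaD γ) [Module.Finite A B] :
    Module.Finite A C := by
  classical
  open Groth.Agent.Lib.Helper25.PolLawCoeff in
  obtain ⟨n, s, hs⟩ := Module.Finite.exists_fin (R := A) (M := B)
  let g : ULift.{u} (Fin n) → B := fun k => s k.down
  have hg : Submodule.span A (Set.range g) = ⊤ := by
    rw [← hs]
    congr 1
    ext x
    constructor
    · rintro ⟨k, rfl⟩; exact ⟨k.down, rfl⟩
    · rintro ⟨k, rfl⟩; exact ⟨⟨k⟩, rfl⟩
  have htop := Groth.Agent.Lib.Helper25.PolLawCoeff.coeffSpan_eq_top γ hγ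
  have hle : Groth.Agent.Lib.Helper25.PolLawCoeff.coeffSpan γ.law ≤
      Submodule.span A (Set.range fun μ : ULift.{u} (Fin n) →₀ ℕ =>
        Groth.Agent.Lib.Helper25.PolLawCoeff.coeff γ.law g Finset.univ μ) := by
    apply Submodule.span_le.2
    rintro _ ⟨σ, m, I, ν, rfl⟩
    exact Groth.Agent.Lib.Helper25.PolLawCoeff.coeff_mem_span_of_mem_span γ.law g m I
      (fun i _ => by rw [hg]; exact Submodule.mem_top) ν
  rw [htop, top_le_iff] at hle
  refine ⟨?_⟩
  rw [← hle]
  exact Groth.Agent.Lib.Helper25.PolLawCoeff.span_range_finsupp_fg _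

end Groth.Agent.S13715
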