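import Groth.Statements.S13716
import Groth.Agent.Lib.Helper25.PolLawCoeff

set_option autoImplicit false
universe u
open scoped TensorProduct
open ZeroCyc

namespace Groth.Agent.S13716

/-- Let (C, γ) be the algebra of divided powers Γ^d_A(B) of a commutative A-algebra B with its universal
multiplicative law γ : B → C homogeneous of degree d (every multiplicative law B → C' homogeneous of
degree d factors uniquely through γ by an algebra map C → C'). If B is integral over A then so is C
= Γ^d_A(B). -/
theorem result {A : Type u} [CommRing A] {B : Type u} [CommRing B] [Algebra A B] {C : Type u} [CommRing C] [Algebra A C]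
    {d : ℕ} (γ : PolLaw.MulLaw A B C d) (hγ : PolLaw.IsGammaD γ) [Algebra.IsIntegral A B] :
    Algebra.IsIntegral A C := by
  classical
  have htop := Groth.Agent.Lib.Helper25.PolLawCoeff.coeffSpan_eq_top γ hγ
  have key : ∀ c ∈ Groth.Agent.Lib.Helper25.PolLawCoeff.coeffSet γ.law, IsIntegral A c := by
    rintro _ ⟨σ, m, I, ν, rfl⟩
    refine Groth.Agent.Lib.Helper25.PolLawCoeff.isIntegral_coeff_of_fg γ
      (Algebra.adjoin A ((I.image m : Finset B) : Set B)) ?_ m I ?_ ν
    · exact _root_.fg_adjoin_of_finite (Finset.finite_toSet _)
        (fun x _ => Algebra.IsIntegral.isIntegral x)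
    · intro i hi
      exact Algebra.subset_adjoin (Finset.mem_coe.2 (Finset.mem_image_of_mem m hi))
  refine ⟨fun c => ?_⟩
  have hc : c ∈ Groth.Agent.Lib.Helper25.PolLawCoeff.coeffSpan γ.law := by
    rw [htop]; exact Submodule.mem_top
  induction hc using Submodule.span_induction with
  | mem x hx => exact key x hx
  | zero => exact isIntegral_zero
  | add x y _ _ hx hy => exact hx.add hy
  | smul a x _ hx => exact hx.smul a

end Groth.Agent.S13716
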