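import Groth.Statements.S13718
import Groth.Agent.Lib.Helper25.PolLawCH

set_option autoImplicit false
universe u
open scoped TensorProduct
open ZeroCyc

namespace Groth.Agent.S13718

/-- Let φ : B' → B be a map of commutative algebras over the commutative ring A and F : B → A a
multiplicative polynomial law homogeneous of degree d, with push-forward the law F ∘ φ : B' → A.
Then the radical of the kernel of F ∘ φ equals the radical of the inverse image under φ of the
kernel of F: the support of the pushed-forward family of zero-cycles on Spec B' is the image of the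
support of the family on Spec B. (The published statement is for affine morphisms X → Y → S of
algebraic spaces; this row is the case of an affine base.) -/
theorem result {A : Type u} [CommRing A] {B : Type u} [CommRing B] [Algebra A B]
    {B' : Type u} [CommRing B'] [Algebra A B'] {d : ℕ} (F : PolLaw.MulLaw A B A d) (φ : B' →ₐ[A] B) :
    (PolLaw.ker (F.precomp φ).law).radical = ((PolLaw.ker F.law).comap φ).radical := by
  classical
  open Groth.Agent.Lib.Helper25.PolLawCoeff in
  apply le_antisymm
  · rw [Ideal.radical_le_radical_iff]
    intro b' hb'
    have h1 : F.law.toFun' (Polynomial A)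
        ((1 : Polynomial A) ⊗ₜ[A] φ b' - Polynomial.X ⊗ₜ[A] (1 : B)) =
        F.law.toFun' (Polynomial A) (-(Polynomial.X ⊗ₜ[A] (1 : B))) := by
      have := hb' (Polynomial A) (-(Polynomial.X ⊗ₜ[A] (1 : B'))) 1
      rw [one_mul, precomp_toFun', precomp_toFun'] at this
      simp only [map_add, map_neg, Algebra.TensorProduct.map_tmul, AlgHom.coe_id, id_eq,
        map_one] at this
      rw [← this]
      congr 1
      ring
    have h2 : -((Polynomial.X : Polynomial A) ⊗ₜ[A] (1 : B)) =
        (-Polynomial.X : Polynomial A) • (1 : Polynomial A ⊗[A] B) := by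
      rw [Algebra.TensorProduct.one_def, TensorProduct.smul_tmul', smul_eq_mul, mul_one,
        TensorProduct.neg_tmul]
    have h3 : TensorProduct.rid A (Polynomial A) (F.law.toFun' (Polynomial A)
        ((1 : Polynomial A) ⊗ₜ[A] φ b' - Polynomial.X ⊗ₜ[A] (1 : B))) = (-Polynomial.X) ^ d := by
      rw [h1, h2, F.homog, (F.mult _).1, Algebra.TensorProduct.one_def,
        TensorProduct.smul_tmul', smul_eq_mul, mul_one, TensorProduct.rid_tmul, one_smul]
    have h4 : (-(φ b')) ^ d ∈ PolLaw.ker F.law := by
      have := chVal_mem_ker F (φ b')
      rw [← aeval_charPoly, h3, map_pow, map_neg, Polynomial.aeval_X] at this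
      exact this
    have h5 : -b' ∈ ((PolLaw.ker F.law).comap φ).radical := by
      refine ⟨d, ?_⟩
      rw [Ideal.mem_comap, map_pow, map_neg]
      exact h4
    simpa using neg_mem h5
  · apply Ideal.radical_mono
    intro b' hb'
    rw [Ideal.mem_comap] at hb'
    intro S _ _ x w
    rw [precomp_toFun', precomp_toFun', map_add, map_mul, Algebra.TensorProduct.map_tmul,
      map_one]
    exact hb' S _ _

end Groth.Agent.S13718
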