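import Groth.Statements.S13719
import Groth.Agent.Lib.Helper25.PolLawIdem

set_option autoImplicit false
universe u
open scoped TensorProduct
open ZeroCyc

namespace Groth.Agent.S13719

/-- Let A be a commutative ring whose prime spectrum is connected, B₁, B₂ commutative A-algebras and F :
B₁ × B₂ → A a multiplicative polynomial law homogeneous of degree d (a family of zero-cycles of
degree d on the disjoint union Spec B₁ ⊔ Spec B₂ over Spec A). Then there are natural numbers d₁ +
d₂ = d, the multiplicities of the family on the two pieces, and multiplicative laws F₁ : B₁ → A, F₂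
: B₂ → A homogeneous of degrees d₁, d₂ with F(x) = F₁(x₁) F₂(x₂) for every test algebra S and x ∈ S
⊗ (B₁ × B₂) with components x₁, x₂; and the degrees d₁, d₂ of any such factorisation are uniquely
determined. (The published statement is for finitely many algebraic spaces affine over a connected
algebraic space S; this row is the case of two pieces over an affine base.) -/
theorem result {A : Type u} [CommRing A] [ConnectedSpace (PrimeSpectrum A)]
    {B₁ : Type u} [CommRing B₁] [Algebra A B₁] {B₂ : Type u} [CommRing B₂] [Algebra A B₂]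
    {d : ℕ} (F : PolLaw.MulLaw A (B₁ × B₂) A d) :
    ∃ d₁ d₂ : ℕ, d₁ + d₂ = d ∧
      (∃ (F₁ : PolLaw.MulLaw A B₁ A d₁) (F₂ : PolLaw.MulLaw A B₂ A d₂),
        ∀ (S : Type u) [CommSemiring S] [Algebra A S] (x : S ⊗[A] (B₁ × B₂)),
          F.law.toFun' S x = F₁.law.toFun' S (LinearMap.lTensor S (LinearMap.fst A B₁ B₂) x) *
            F₂.law.toFun' S (LinearMap.lTensor S (LinearMap.snd A B₁ B₂) x)) ∧
      ∀ (e₁ e₂ : ℕ) (G₁ : PolLaw.MulLaw A B₁ A e₁) (G₂ : PolLaw.MulLaw A B₂ A e₂),
        (∀ (S : Type u) [CommSemiring S] [Algebra A S] (x : S ⊗[A] (B₁ × B₂)),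
          F.law.toFun' S x = G₁.law.toFun' S (LinearMap.lTensor S (LinearMap.fst A B₁ B₂) x) *
            G₂.law.toFun' S (LinearMap.lTensor S (LinearMap.snd A B₁ B₂) x)) → e₁ = d₁ ∧ e₂ = d₂ := by
  classical
  open Groth.Agent.Lib.Helper25.PolLawCoeff in
  have hnt : Nontrivial A := by
    have : Nonempty (PrimeSpectrum A) := inferInstance
    exact PrimeSpectrum.nonempty_iff_nontrivial.1 this
  set e : ULift.{u} Bool → B₁ × B₂ := fun i => if i.down then ((1 : B₁), (0 : B₂)) else (0, 1)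
    with he
  have he1 : e ⟨true⟩ = (1, 0) := by simp [he]
  have he2 : e ⟨false⟩ = (0, 1) := by simp [he]
  have horth : ∀ i j, i ≠ j → e i * e j = 0 := by
    rintro ⟨i⟩ ⟨j⟩ hij
    cases i <;> cases j <;> simp_all
  have hidem : ∀ i, e i * e i = e i := by
    rintro ⟨i⟩
    cases i <;> simp [he]
  have hsum : ∑ i, e i = 1 := by
    rw [sum_ulift_bool, he1, he2]
    simp
  obtain ⟨ν₀, hdeg, hν₀⟩ := exists_exponent F e horth hidem hsum
  set d₁ := ν₀ ⟨true⟩ with hd₁
  set d₂ := ν₀ ⟨false⟩ with hd₂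
  have hdd : d₁ + d₂ = d := by
    rw [← hdeg, Finsupp.degree_eq_sum, sum_ulift_bool]
  have hform : ∀ (S : Type u) [CommSemiring S] [Algebra A S] (s t : S),
      F.law.toFun' S (s ⊗ₜ[A] ((1 : B₁), (0 : B₂)) + t ⊗ₜ[A] ((0 : B₁), (1 : B₂))) =
        (s ^ d₁ * t ^ d₂) ⊗ₜ[A] (1 : A) := by
    intro S _ _ s t
    have := hν₀ S (fun i => if i.down then s else t)
    rw [sum_ulift_bool, he1, he2, prod_fam2] at this
    simpa using this
  have hsmul : ∀ (S : Type u) [CommSemiring S] [Algebra A S] (r : S) (z : S ⊗[A] A),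
      (r ⊗ₜ[A] (1 : A)) * z = r • z := by
    intro S _ _ r z
    exact tmul_one_mul' r z
  let F₁ : PolLaw.MulLaw A B₁ A d₁ :=
    { law := fstLaw F.law
      homog := by
        intro S _ _ s x
        show F.law.toFun' S (inlT S (s • x) + (1 : S) ⊗ₜ[A] ((0 : B₁), (1 : B₂))) =
          s ^ d₁ • F.law.toFun' S (inlT S x + (1 : S) ⊗ₜ[A] ((0 : B₁), (1 : B₂)))
        rw [split_fst, (F.mult S).2, hform, one_pow, mul_one, hsmul]
      mult := by
        intro S _ _
        refine ⟨?_, fun x y => ?_⟩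
        · show F.law.toFun' S (inlT S 1 + (1 : S) ⊗ₜ[A] ((0 : B₁), (1 : B₂))) = 1
          have h1 : inlT (B₂ := B₂) S (1 : S ⊗[A] B₁) + (1 : S) ⊗ₜ[A] ((0 : B₁), (1 : B₂)) = 1 := by
            rw [Algebra.TensorProduct.one_def, inlT, LinearMap.lTensor_tmul, LinearMap.inl_apply,
              ← TensorProduct.tmul_add, Prod.mk_add_mk, add_zero, zero_add]
            rfl
          rw [h1, (F.mult S).1]
        · show F.law.toFun' S (inlT S (x * y) + (1 : S) ⊗ₜ[A] ((0 : B₁), (1 : B₂))) =
            F.law.toFun' S (inlT S x + (1 : S) ⊗ₜ[A] ((0 : B₁), (1 : B₂))) *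
              F.law.toFun' S (inlT S y + (1 : S) ⊗ₜ[A] ((0 : B₁), (1 : B₂)))
          rw [split_mul_fst, (F.mult S).2] }
  let F₂ : PolLaw.MulLaw A B₂ A d₂ :=
    { law := sndLaw F.law
      homog := by
        intro S _ _ s x
        show F.law.toFun' S ((1 : S) ⊗ₜ[A] ((1 : B₁), (0 : B₂)) + inrT S (s • x)) =
          s ^ d₂ • F.law.toFun' S ((1 : S) ⊗ₜ[A] ((1 : B₁), (0 : B₂)) + inrT S x)
        rw [split_snd, (F.mult S).2, hform, one_pow, one_mul, hsmul]
      mult := by
        intro S _ _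
        refine ⟨?_, fun x y => ?_⟩
        · show F.law.toFun' S ((1 : S) ⊗ₜ[A] ((1 : B₁), (0 : B₂)) + inrT S 1) = 1
          have h1 : (1 : S) ⊗ₜ[A] ((1 : B₁), (0 : B₂)) + inrT (B₁ := B₁) S (1 : S ⊗[A] B₂) = 1 := by
            rw [Algebra.TensorProduct.one_def, inrT, LinearMap.lTensor_tmul, LinearMap.inr_apply,
              ← TensorProduct.tmul_add, Prod.mk_add_mk, add_zero, zero_add]
            rfl
          rw [h1, (F.mult S).1]
        · show F.law.toFun' S ((1 : S) ⊗ₜ[A] ((1 : B₁), (0 : B₂)) + inrT S (x * y)) =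
            F.law.toFun' S ((1 : S) ⊗ₜ[A] ((1 : B₁), (0 : B₂)) + inrT S x) *
              F.law.toFun' S ((1 : S) ⊗ₜ[A] ((1 : B₁), (0 : B₂)) + inrT S y)
          rw [split_mul_snd, (F.mult S).2] }
  refine ⟨d₁, d₂, hdd, ⟨F₁, F₂, fun S _ _ x => ?_⟩, ?_⟩
  · show F.law.toFun' S x =
      F.law.toFun' S (inlT S ((LinearMap.fst A B₁ B₂).lTensor S x) +
        (1 : S) ⊗ₜ[A] ((0 : B₁), (1 : B₂))) *
      F.law.toFun' S ((1 : S) ⊗ₜ[A] ((1 : B₁), (0 : B₂)) +
        inrT S ((LinearMap.snd A B₁ B₂).lTensor S x))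
    rw [← (F.mult S).2, ← split_prod]
  · intro e₁ e₂ G₁ G₂ hG
    have hone : ∀ (S : Type u) [CommSemiring S] [Algebra A S], (1 : S) ⊗ₜ[A] (1 : A) =
        (1 : S ⊗[A] A) := fun S _ _ => rfl
    have hXinj : ∀ m n : ℕ, (Polynomial.X ^ m : Polynomial A) = Polynomial.X ^ n → m = n := by
      intro m n h
      have := congrArg Polynomial.natDegree h
      rwa [Polynomial.natDegree_X_pow, Polynomial.natDegree_X_pow] at this
    constructor
    · have h1 := hG (Polynomial A) ((Polynomial.X : Polynomial A) ⊗ₜ[A] ((1 : B₁), (0 : B₂)) +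
        (1 : Polynomial A) ⊗ₜ[A] ((0 : B₁), (1 : B₂)))
      rw [hform, map_add, map_add, LinearMap.lTensor_tmul, LinearMap.lTensor_tmul,
        LinearMap.lTensor_tmul, LinearMap.lTensor_tmul, LinearMap.fst_apply, LinearMap.fst_apply,
        LinearMap.snd_apply, LinearMap.snd_apply] at h1
      simp only [TensorProduct.tmul_zero, add_zero, zero_add, one_pow, mul_one] at h1
      have h2 : (Polynomial.X : Polynomial A) ⊗ₜ[A] (1 : B₁) =
          (Polynomial.X : Polynomial A) • (1 : Polynomial A ⊗[A] B₁) := by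
        rw [Algebra.TensorProduct.one_def, TensorProduct.smul_tmul', smul_eq_mul, mul_one]
      have h3 : (1 : Polynomial A) ⊗ₜ[A] (1 : B₂) = (1 : Polynomial A ⊗[A] B₂) := rfl
      rw [h2, G₁.homog, (G₁.mult _).1, h3, (G₂.mult _).1, mul_one, Algebra.TensorProduct.one_def,
        TensorProduct.smul_tmul', smul_eq_mul, mul_one] at h1
      have h4 := congrArg (TensorProduct.rid A (Polynomial A)) h1
      rw [TensorProduct.rid_tmul, TensorProduct.rid_tmul, one_smul, one_smul] at h4
      exact (hXinj _ _ h4).symm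
    · have h1 := hG (Polynomial A) ((1 : Polynomial A) ⊗ₜ[A] ((1 : B₁), (0 : B₂)) +
        (Polynomial.X : Polynomial A) ⊗ₜ[A] ((0 : B₁), (1 : B₂)))
      rw [hform, map_add, map_add, LinearMap.lTensor_tmul, LinearMap.lTensor_tmul,
        LinearMap.lTensor_tmul, LinearMap.lTensor_tmul, LinearMap.fst_apply, LinearMap.fst_apply,
        LinearMap.snd_apply, LinearMap.snd_apply] at h1
      simp only [TensorProduct.tmul_zero, add_zero, zero_add, one_pow, one_mul] at h1
      have h2 : (Polynomial.X : Polynomial A) ⊗ₜ[A] (1 : B₂) =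
          (Polynomial.X : Polynomial A) • (1 : Polynomial A ⊗[A] B₂) := by
        rw [Algebra.TensorProduct.one_def, TensorProduct.smul_tmul', smul_eq_mul, mul_one]
      have h3 : (1 : Polynomial A) ⊗ₜ[A] (1 : B₁) = (1 : Polynomial A ⊗[A] B₁) := rfl
      rw [h2, G₂.homog, (G₂.mult _).1, h3, (G₁.mult _).1, one_mul, Algebra.TensorProduct.one_def,
        TensorProduct.smul_tmul', smul_eq_mul, mul_one] at h1
      have h4 := congrArg (TensorProduct.rid A (Polynomial A)) h1
      rw [TensorProduct.rid_tmul, TensorProduct.rid_tmul, one_smul, one_smul] at h4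
      exact (hXinj _ _ h4).symm

end Groth.Agent.S13719
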