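import Groth.Statements.S1372
import Groth.Agent.S1373
import Mathlib.RingTheory.TensorProduct.MvPolynomial
-- import your own Groth.Agent.* helpers here

set_option autoImplicit false
set_option linter.style.haveILetI false
universe u
open FlatMor

namespace Groth.Agent.S1372

open AlgebraicGeometry CategoryTheory Limits

section

variable {A B : Type u} [CommRing A] [CommRing B] [Algebra A B] (σ : Type u)

attribute [local instance] MvPolynomial.algebraMvPolynomial

/-- `Spec B[σ] ⟶ Spec A[σ]` is the base change of `Spec B ⟶ Spec A`. -/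
lemma isPullback_mvPolynomial :
    IsPullback (Spec.map (CommRingCat.ofHom (algebraMap B (MvPolynomial σ B))))
      (Spec.map (CommRingCat.ofHom (MvPolynomial.map (σ := σ) (algebraMap A B))))
      (Spec.map (CommRingCat.ofHom (algebraMap A B)))
      (Spec.map (CommRingCat.ofHom (algebraMap A (MvPolynomial σ A)))) :=
  isPullback_SpecMap_of_isPushout _ _ _ _
    (CommRingCat.isPushout_of_isPushout A B (MvPolynomial σ A) (MvPolynomial σ B))

end

section

variable {A B : Type u} [CommRing A] [CommRing B] [Algebra A B] (σ : Type)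

attribute [local instance] MvPolynomial.algebraMvPolynomial

/-- `Spec B[σ] ⟶ Spec A[σ]` is the base change of `Spec B ⟶ Spec A` (small index type). -/
lemma isPullback_mvPolynomial₀ :
    IsPullback (Spec.map (CommRingCat.ofHom (algebraMap B (MvPolynomial σ B))))
      (Spec.map (CommRingCat.ofHom (MvPolynomial.map (σ := σ) (algebraMap A B))))
      (Spec.map (CommRingCat.ofHom (algebraMap A B)))
      (Spec.map (CommRingCat.ofHom (algebraMap A (MvPolynomial σ A)))) :=
  isPullback_SpecMap_of_isPushout _ _ _ _
    (CommRingCat.isPushout_of_isPushout A B (MvPolynomial σ A) (MvPolynomial σ B))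

end

section Main

variable {A B : Type u} [CommRing A] [CommRing B] [Algebra A B] {d : ℕ} (b : Fin d → B)

/-- Every polynomial over `B` is a combination of the `b j` with coefficients from `A[σ]`. -/
lemma exists_decomp (hb : Submodule.span A (Set.range b) = ⊤) (σ : Type u)
    (g : MvPolynomial σ B) :
    ∃ gs : Fin d → MvPolynomial σ A,
      g = ∑ j, MvPolynomial.map (algebraMap A B) (gs j) * MvPolynomial.C (b j) := by
  induction g using MvPolynomial.induction_on with
  | C c =>
    have hc : c ∈ Submodule.span A (Set.range b) := by rw [hb]; trivial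
    obtain ⟨a, rfl⟩ := (Submodule.mem_span_range_iff_exists_fun A).mp hc
    refine ⟨fun j => MvPolynomial.C (a j), ?_⟩
    simp only [MvPolynomial.map_C, ← MvPolynomial.C_mul, ← map_sum, Algebra.smul_def]
  | add p q hp hq =>
    obtain ⟨ps, rfl⟩ := hp
    obtain ⟨qs, rfl⟩ := hq
    refine ⟨fun j => ps j + qs j, ?_⟩
    simp only [map_add, add_mul, Finset.sum_add_distrib]
  | mul_X p i hp =>
    obtain ⟨ps, rfl⟩ := hp
    refine ⟨fun j => ps j * MvPolynomial.X i, ?_⟩
    simp only [map_mul, MvPolynomial.map_X, Finset.sum_mul]
    refine Finset.sum_congr rfl fun j _ => ?_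
    ring

variable (σ : Type u) (gs : Fin d → MvPolynomial σ A)

/-- The substitution `x_j ↦ g_j` over `A`. -/
noncomputable def psiA : MvPolynomial (Fin d) A →ₐ[A] MvPolynomial σ A := MvPolynomial.aeval gs

/-- The substitution `x_j ↦ g_j` over `B`. -/
noncomputable def psiB : MvPolynomial (Fin d) B →ₐ[B] MvPolynomial σ B :=
  MvPolynomial.aeval fun j => MvPolynomial.map (algebraMap A B) (gs j)

lemma psi_comm :
    (psiB σ gs).toRingHom.comp (MvPolynomial.map (σ := Fin d) (algebraMap A B)) =
      (MvPolynomial.map (σ := σ) (algebraMap A B)).comp (psiA σ gs).toRingHom := by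
  apply MvPolynomial.ringHom_ext
  · intro a
    simp [psiA, psiB]
  · intro j
    simp [psiA, psiB]

lemma isPullback_psi :
    IsPullback (Spec.map (CommRingCat.ofHom (psiB σ gs).toRingHom))
      (Spec.map (CommRingCat.ofHom (MvPolynomial.map (σ := σ) (algebraMap A B))))
      (Spec.map (CommRingCat.ofHom (MvPolynomial.map (σ := Fin d) (algebraMap A B))))
      (Spec.map (CommRingCat.ofHom (psiA σ gs).toRingHom)) := by
  refine IsPullback.of_right ?_ ?_ (isPullback_mvPolynomial₀ (A := A) (B := B) (Fin d))
  · have h1 : Spec.map (CommRingCat.ofHom (psiB σ gs).toRingHom) ≫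
        Spec.map (CommRingCat.ofHom (algebraMap B (MvPolynomial (Fin d) B))) =
        Spec.map (CommRingCat.ofHom (algebraMap B (MvPolynomial σ B))) := by
      rw [← Spec.map_comp, ← CommRingCat.ofHom_comp]
      congr 2
      exact (psiB σ gs).comp_algebraMap
    have h2 : Spec.map (CommRingCat.ofHom (psiA σ gs).toRingHom) ≫
        Spec.map (CommRingCat.ofHom (algebraMap A (MvPolynomial (Fin d) A))) =
        Spec.map (CommRingCat.ofHom (algebraMap A (MvPolynomial σ A))) := by
      rw [← Spec.map_comp, ← CommRingCat.ofHom_comp]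
      congr 2
      exact (psiA σ gs).comp_algebraMap
    rw [h1, h2]
    exact isPullback_mvPolynomial σ
  · rw [← Spec.map_comp, ← Spec.map_comp, ← CommRingCat.ofHom_comp, ← CommRingCat.ofHom_comp,
      psi_comm]

lemma psiB_h :
    psiB σ gs (∑ i : Fin d, MvPolynomial.X i * MvPolynomial.C (b i)) =
      ∑ j, MvPolynomial.map (algebraMap A B) (gs j) * MvPolynomial.C (b j) := by
  simp [psiB]

end Main

open AlgebraicGeometry CategoryTheory Limits in
/-- Let A → B be a ring map and b_1, ..., b_d elements generating B as an A-module. Let h = Σ x_i b_i in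
the polynomial ring B[x_1, ..., x_d]. Then universal openness of Spec B → Spec A is equivalent to
openness of the image in Spec A[x_1, ..., x_d] of the basic open D(h). -/
theorem result {A B : Type u} [CommRing A] [CommRing B] [Algebra A B] {d : ℕ} (b : Fin d → B)
    (hb : Submodule.span A (Set.range b) = ⊤) :
    UniversallyOpen (Spec.map (CommRingCat.ofHom (algebraMap A B))) ↔
      IsOpen (PrimeSpectrum.comap (MvPolynomial.map (σ := Fin d) (algebraMap A B)) ''
        (PrimeSpectrum.basicOpen (∑ i : Fin d, MvPolynomial.X i * MvPolynomial.C (b i)) : Set (PrimeSpectrum (MvPolynomial (Fin d) B)))) := by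
  constructor
  · intro hUO
    have hUO' : UniversallyOpen (Spec.map (CommRingCat.ofHom
        (MvPolynomial.map (σ := Fin d) (algebraMap A B)))) :=
      MorphismProperty.of_isPullback (isPullback_mvPolynomial₀ (A := A) (B := B) (Fin d)) hUO
    exact (Spec.map (CommRingCat.ofHom
      (MvPolynomial.map (σ := Fin d) (algebraMap A B)))).isOpenMap _
      (PrimeSpectrum.basicOpen _).isOpen
  · intro H
    rw [Groth.Agent.S1373.result]
    intro n
    have hmid : IsOpenMap ⇑(Spec.map (CommRingCat.ofHom
        (MvPolynomial.map (σ := ULift.{u} (Fin n)) (algebraMap A B)))) := by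
      apply PrimeSpectrum.isTopologicalBasis_basic_opens.isOpenMap_iff.mpr
      rintro _ ⟨g, rfl⟩
      obtain ⟨gs, rfl⟩ := exists_decomp b hb _ g
      have key : ⇑(Spec.map (CommRingCat.ofHom
          (MvPolynomial.map (σ := ULift.{u} (Fin n)) (algebraMap A B)))) ''
          (PrimeSpectrum.basicOpen
            (∑ j, MvPolynomial.map (algebraMap A B) (gs j) * MvPolynomial.C (b j)) :
            Set (PrimeSpectrum (MvPolynomial (ULift.{u} (Fin n)) B))) =
          ⇑(Spec.map (CommRingCat.ofHom (psiA _ gs).toRingHom)) ⁻¹'
            (PrimeSpectrum.comap (MvPolynomial.map (σ := Fin d) (algebraMap A B)) ''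
              (PrimeSpectrum.basicOpen (∑ i : Fin d, MvPolynomial.X i * MvPolynomial.C (b i)) :
                Set (PrimeSpectrum (MvPolynomial (Fin d) B)))) := by
        ext t
        constructor
        · rintro ⟨z, hz, rfl⟩
          refine ⟨Spec.map (CommRingCat.ofHom (psiB _ gs).toRingHom) z, ?_, ?_⟩
          · change psiB _ gs (∑ i : Fin d, MvPolynomial.X i * MvPolynomial.C (b i)) ∉ z.asIdeal
            rw [psiB_h]
            exact hz
          · have := (isPullback_psi (A := A) (B := B) _ gs).w
            exact congrArg (fun φ => φ z) this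
        · rintro ⟨x, hx, hxt⟩
          obtain ⟨z, rfl, rfl⟩ := Groth.Agent.S1373.exists_preimage_of_isPullback
            (isPullback_psi (A := A) (B := B) _ gs) x t hxt
          refine ⟨z, ?_, rfl⟩
          change (∑ j, MvPolynomial.map (algebraMap A B) (gs j) * MvPolynomial.C (b j)) ∉
            z.asIdeal
          rw [← psiB_h]
          exact hx
      have hopen := H.preimage (Spec.map (CommRingCat.ofHom (psiA _ gs).toRingHom)).continuous
      exact (congrArg IsOpen key).mpr hopen
    rw [AffineSpace.map_SpecMap, Scheme.Hom.comp_base, Scheme.Hom.comp_base, TopCat.coe_comp,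
      TopCat.coe_comp]
    exact ((AffineSpace.SpecIso _ _).inv.homeomorph.isOpenMap.comp hmid).comp
      (AffineSpace.SpecIso _ _).hom.homeomorph.isOpenMap

end Groth.Agent.S1372
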