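import Groth.Statements.S13720
import Mathlib

set_option autoImplicit false
universe u
open scoped TensorProduct
open ZeroCyc

namespace Groth.Agent.S13720

/-- Let B be the filtered direct limit of a directed system (B_i, t_ij : B_i → B_j) of commutative
algebras over the commutative ring A, with structure maps φ_i : B_i → B (jointly surjective, and an
element of B_i vanishing in B already vanishes in some B_j), and let F : B → C be a multiplicative
polynomial law homogeneous of degree d, with restrictions F_i = F ∘ φ_i. Then an element b of B lies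
in the kernel of F if and only if it is the image of some x ∈ B_i whose images in B_j lie in the
kernel of F_j for every j ≥ i; that is, the kernel of F is the direct limit of the kernels of the
F_i. -/
theorem result {A : Type u} [CommRing A] {B : Type u} [CommRing B] [Algebra A B]
    {C : Type u} [CommRing C] [Algebra A C] {ι : Type u} [Preorder ι] [IsDirected ι (fun i j => i ≤ j)] [Nonempty ι]
    (Bi : ι → Type u) [∀ i, CommRing (Bi i)] [∀ i, Algebra A (Bi i)]
    (t : ∀ i j : ι, i ≤ j → (Bi i →ₐ[A] Bi j)) (φ : ∀ i : ι, Bi i →ₐ[A] B)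
    (hcomp : ∀ (i j : ι) (h : i ≤ j), (φ j).comp (t i j h) = φ i)
    (hsurj : ∀ b : B, ∃ (i : ι) (x : Bi i), φ i x = b)
    (hzero : ∀ (i : ι) (x : Bi i), φ i x = 0 → ∃ (j : ι) (h : i ≤ j), t i j h x = 0)
    {d : ℕ} (F : PolLaw.MulLaw A B C d) (b : B) :
    b ∈ PolLaw.ker F.law ↔ ∃ (i : ι) (x : Bi i), φ i x = b ∧
      ∀ (j : ι) (h : i ≤ j), t i j h x ∈ PolLaw.ker (F.precomp (φ j)).law := by
  classical
  -- value of the precomposed law
  have hpre : ∀ (j : ι) (S : Type u) [CommSemiring S] [Algebra A S] (y : S ⊗[A] Bi j),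
      (F.precomp (φ j)).law.toFun' S y =
        F.law.toFun' S (Algebra.TensorProduct.map (AlgHom.id S S) (φ j) y) := by
    intro j S _ _ y
    show F.law.toFun' S ((φ j).toLinearMap.lTensor S y) = _
    rw [PolLaw.lTensor_algHom_apply]
  -- lifting elements of S ⊗ B
  have hlift : ∀ (S : Type u) [CommSemiring S] [Algebra A S] (i : ι) (z : S ⊗[A] B),
      ∃ (j : ι) (_ : i ≤ j) (zj : S ⊗[A] Bi j),
        Algebra.TensorProduct.map (AlgHom.id S S) (φ j) zj = z := by
    intro S _ _ i z
    induction z using TensorProduct.induction_on with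
    | zero => exact ⟨i, le_refl i, 0, map_zero _⟩
    | tmul s b =>
      obtain ⟨k, xk, hk⟩ := hsurj b
      obtain ⟨j, hij, hkj⟩ := exists_ge_ge i k
      refine ⟨j, hij, s ⊗ₜ[A] t k j hkj xk, ?_⟩
      rw [Algebra.TensorProduct.map_tmul, AlgHom.id_apply, ← AlgHom.comp_apply, hcomp, hk]
    | add z₁ z₂ h₁ h₂ =>
      obtain ⟨j₁, hj₁, y₁, hy₁⟩ := h₁
      obtain ⟨j₂, hj₂, y₂, hy₂⟩ := h₂
      obtain ⟨j, h1j, h2j⟩ := exists_ge_ge j₁ j₂
      refine ⟨j, hj₁.trans h1j,
        Algebra.TensorProduct.map (AlgHom.id S S) (t j₁ j h1j) y₁ +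
          Algebra.TensorProduct.map (AlgHom.id S S) (t j₂ j h2j) y₂, ?_⟩
      rw [map_add, ← AlgHom.comp_apply, ← AlgHom.comp_apply,
        ← Algebra.TensorProduct.map_comp, ← Algebra.TensorProduct.map_comp, hcomp, hcomp,
        AlgHom.comp_id, hy₁, hy₂]
  constructor
  · intro hb
    obtain ⟨i, x, hx⟩ := hsurj b
    refine ⟨i, x, hx, ?_⟩
    intro j hij S _ _ y w
    rw [hpre, hpre, map_add, map_mul, Algebra.TensorProduct.map_tmul, map_one,
      ← AlgHom.comp_apply, hcomp, hx]
    exact hb S _ _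
  · rintro ⟨i, x, hx, hker⟩
    intro S _ _ y w
    obtain ⟨j₁, hj₁, y₁, hy₁⟩ := hlift S i y
    obtain ⟨j₂, hj₂, w₂, hw₂⟩ := hlift S i w
    obtain ⟨j, h1j, h2j⟩ := exists_ge_ge j₁ j₂
    have hij : i ≤ j := hj₁.trans h1j
    set yj := Algebra.TensorProduct.map (AlgHom.id S S) (t j₁ j h1j) y₁ with hyj
    set wj := Algebra.TensorProduct.map (AlgHom.id S S) (t j₂ j h2j) w₂ with hwj
    have hyj' : Algebra.TensorProduct.map (AlgHom.id S S) (φ j) yj = y := by
      rw [hyj, ← AlgHom.comp_apply, ← Algebra.TensorProduct.map_comp, hcomp, AlgHom.comp_id, hy₁]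
    have hwj' : Algebra.TensorProduct.map (AlgHom.id S S) (φ j) wj = w := by
      rw [hwj, ← AlgHom.comp_apply, ← Algebra.TensorProduct.map_comp, hcomp, AlgHom.comp_id, hw₂]
    have h1 := hker j hij S yj wj
    rw [hpre, hpre, map_add, map_mul, Algebra.TensorProduct.map_tmul, map_one, hyj', hwj',
      ← AlgHom.comp_apply, hcomp, hx] at h1
    exact h1

end Groth.Agent.S13720
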