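import Groth.Statements.S13721
import Groth.Agent.Lib.Helper25.PolLawDL

set_option autoImplicit false
universe u
open scoped TensorProduct
open ZeroCyc

namespace Groth.Agent.S13721

/-- Let F : B → A be a multiplicative polynomial law homogeneous of degree d over the commutative ring
A, on a commutative A-algebra B which is finite as an A-module, and let A' be the filtered direct
limit of a directed system (A'_i, t_ij) of commutative A-algebras (t_ii the identity, t_jk ∘ t_ij =
t_ik) with structure maps φ_i : A'_i → A' (compatible with the t_ij, jointly surjective, and an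
element of A'_i vanishing in A' already vanishes in some A'_j). Then the kernel of the base change
of F to A', an ideal of A' ⊗_A B, is the supremum over i of the extensions along φ_i ⊗ B of the
kernels of the base changes of F to the A'_i: the kernel of the base-changed law is the direct limit
of the kernels. (The published statement has no finiteness hypothesis on B and is false without one:
for a suitable algebra B that is not finitely generated and a suitable directed system of quotients
of A, an element of A' ⊗_A B lies in the kernel over the limit although it comes from the kernel at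
no finite stage, because the conditions cutting out the kernel at an element are infinitely many and
die one at a time along the system; the published proof's reduction to finite B does not go through.
This row assumes B finite over A, the case that proof establishes.) -/
theorem result {A : Type u} [CommRing A] {B : Type u} [CommRing B] [Algebra A B]
    [Module.Finite A B] {A' : Type u} [CommRing A'] [Algebra A A'] {ι : Type u} [Preorder ι] [IsDirected ι (fun i j => i ≤ j)] [Nonempty ι]
    (Ai : ι → Type u) [∀ i, CommRing (Ai i)] [∀ i, Algebra A (Ai i)]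
    (t : ∀ i j : ι, i ≤ j → (Ai i →ₐ[A] Ai j)) (φ : ∀ i : ι, Ai i →ₐ[A] A')
    (hcomp : ∀ (i j : ι) (h : i ≤ j), (φ j).comp (t i j h) = φ i)
    (hsurj : ∀ a : A', ∃ (i : ι) (x : Ai i), φ i x = a)
    (hzero : ∀ (i : ι) (x : Ai i), φ i x = 0 → ∃ (j : ι) (h : i ≤ j), t i j h x = 0)
    (hid : ∀ (i : ι) (h : i ≤ i), t i i h = AlgHom.id A (Ai i))
    (htrans : ∀ (i j k : ι) (hij : i ≤ j) (hjk : j ≤ k), (t j k hjk).comp (t i j hij) = t i k (hij.trans hjk))
    {d : ℕ} (F : PolLaw.MulLaw A B A d) :
    PolLaw.kerBC F.law A' =
      ⨆ i : ι, (PolLaw.kerBC F.law (Ai i)).map (Algebra.TensorProduct.map (φ i) (AlgHom.id A B)) := by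
  classical
  open Groth.Agent.Lib.Helper25.PolLawCoeff in
  obtain ⟨n, e, he⟩ := Module.Finite.exists_fin (R := A) (M := B)
  apply le_antisymm
  · intro y' hy'
    -- every element comes from a finite stage
    have hstage : ∀ y : A' ⊗[A] B, ∃ (i : ι) (yi : Ai i ⊗[A] B),
        Algebra.TensorProduct.map (φ i) (AlgHom.id A B) yi = y := by
      intro y
      induction y using TensorProduct.induction_on with
      | zero =>
        obtain ⟨i⟩ := ‹Nonempty ι›
        exact ⟨i, 0, map_zero _⟩
      | tmul a b =>
        obtain ⟨i, x, rfl⟩ := hsurj a
        exact ⟨i, x ⊗ₜ[A] b, by rw [Algebra.TensorProduct.map_tmul, AlgHom.id_apply]⟩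
      | add x y hx hy =>
        obtain ⟨i, xi, rfl⟩ := hx
        obtain ⟨j, yj, rfl⟩ := hy
        obtain ⟨k, hik, hjk⟩ := exists_ge_ge i j
        refine ⟨k, Algebra.TensorProduct.map (t i k hik) (AlgHom.id A B) xi +
          Algebra.TensorProduct.map (t j k hjk) (AlgHom.id A B) yj, ?_⟩
        rw [map_add, ← AlgHom.comp_apply, ← AlgHom.comp_apply, ← Algebra.TensorProduct.map_comp,
          ← Algebra.TensorProduct.map_comp, hcomp, hcomp, AlgHom.comp_id]
    obtain ⟨i, yi, rfl⟩ := hstage y'
    set Di := univDiff F.law e (Ai i) yi with hDi
    have hD0 : MvPolynomial.map (φ i : Ai i →+* A') Di = 0 := by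
      rw [hDi, ← univDiff_map, univDiff_eq_zero_of_mem_kerBC _ _ _ _ hy']
    -- the coefficients die at a finite stage
    have hcoef : ∀ α, ∃ (j : ι) (h : i ≤ j), t i j h (MvPolynomial.coeff α Di) = 0 := by
      intro α
      apply hzero
      have := congrArg (MvPolynomial.coeff α) hD0
      rwa [MvPolynomial.coeff_map, MvPolynomial.coeff_zero] at this
    choose jα hjα hjα0 using hcoef
    obtain ⟨j, hj⟩ := Finset.exists_le (insert i (Di.support.image jα))
    have hij : i ≤ j := hj i (Finset.mem_insert_self _ _)
    have hDj : MvPolynomial.map (t i j hij : Ai i →+* Ai j) Di = 0 := by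
      ext α
      rw [MvPolynomial.coeff_map, MvPolynomial.coeff_zero]
      by_cases hα : α ∈ Di.support
      · have h1 : jα α ≤ j :=
          hj _ (Finset.mem_insert_of_mem (Finset.mem_image_of_mem _ hα))
        have h2 := htrans i (jα α) j (hjα α) h1
        have h3 : (t i j hij) (MvPolynomial.coeff α Di) =
            (t (jα α) j h1) ((t i (jα α) (hjα α)) (MvPolynomial.coeff α Di)) := by
          rw [← AlgHom.comp_apply, h2]
        exact h3.trans (by rw [hjα0, map_zero])
      · rw [MvPolynomial.notMem_support_iff.1 hα]
        exact map_zero _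
    have hyj : Algebra.TensorProduct.map (t i j hij) (AlgHom.id A B) yi ∈
        PolLaw.kerBC F.law (Ai j) := by
      apply mem_kerBC_of_univDiff_eq_zero F.law e he
      rw [univDiff_map, ← hDi, hDj]
    have hfact : Algebra.TensorProduct.map (φ i) (AlgHom.id A B) yi =
        Algebra.TensorProduct.map (φ j) (AlgHom.id A B)
          (Algebra.TensorProduct.map (t i j hij) (AlgHom.id A B) yi) := by
      rw [← AlgHom.comp_apply, ← Algebra.TensorProduct.map_comp, hcomp, AlgHom.comp_id]
    rw [hfact]
    exact Ideal.mem_iSup_of_mem j (Ideal.mem_map_of_mem _ hyj)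
  · refine iSup_le fun i => ?_
    rw [Ideal.map_le_iff_le_comap]
    intro z hz
    exact kerBC_map F.law (φ i) hz

end Groth.Agent.S13721
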