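import Groth.Statements.S13724
import Groth.Agent.Lib.Helper25.PolLawPts

set_option autoImplicit false
universe u
open scoped TensorProduct
open ZeroCyc

namespace Groth.Agent.S13724

/-- Let A be a commutative ring with finitely many maximal ideals, B a commutative A-algebra and F : B →
A a multiplicative polynomial law homogeneous of degree d. Then B/ker F, the coordinate ring of the
image of the family of zero-cycles defined by F, has finitely many maximal ideals. -/
theorem result {A : Type u} [CommRing A] [Finite (MaximalSpectrum A)] {B : Type u} [CommRing B] [Algebra A B]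
    {d : ℕ} (F : PolLaw.MulLaw A B A d) :
    Finite (MaximalSpectrum (PolLaw.image F.law)) := by
  classical
  open Groth.Agent.Lib.Helper25.PolLawCoeff in
  have hint : Algebra.IsIntegral A (PolLaw.image F.law) := Groth.Agent.S13695.result F
  set g : MaximalSpectrum (PolLaw.image F.law) → PrimeSpectrum A := fun M =>
    PrimeSpectrum.comap (algebraMap A (PolLaw.image F.law)) M.toPrimeSpectrum with hg
  rw [← Set.finite_univ_iff]
  apply Set.Finite.of_finite_fibers g
  · apply Set.Finite.subset (Set.finite_range (MaximalSpectrum.toPrimeSpectrum (R := A)))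
    rintro _ ⟨M, _, rfl⟩
    have := M.isMaximal
    have hmax : (M.asIdeal.comap (algebraMap A (PolLaw.image F.law))).IsMaximal :=
      Ideal.isMaximal_comap_of_isIntegral_of_isMaximal (R := A) M.asIdeal
    exact ⟨⟨_, hmax⟩, rfl⟩
  · intro p _
    have hfinfib : Finite (PrimeSpectrum.comap (algebraMap A (PolLaw.image F.law)) ⁻¹' {p}) := by
      have := (card_primeSpectrum_fibre_le F p.asIdeal.ResidueField).1
      exact Finite.of_equiv _ (PrimeSpectrum.preimageEquivFiber A (PolLaw.image F.law) p).symm
    have hfin : (PrimeSpectrum.comap (algebraMap A (PolLaw.image F.law)) ⁻¹' {p}).Finite :=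
      Set.toFinite _
    have := hfin.preimage (f := MaximalSpectrum.toPrimeSpectrum (R := PolLaw.image F.law))
      (MaximalSpectrum.toPrimeSpectrum_injective.injOn)
    refine this.subset ?_
    rintro M ⟨_, hM⟩
    exact hM

end Groth.Agent.S13724
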