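import Groth.Statements.S13726
import Mathlib.Algebra.CharP.Lemmas
import Mathlib.RingTheory.AdjoinRoot
import Mathlib.RingTheory.MvPolynomial.Ideal
import Mathlib.RingTheory.Finiteness.Defs

set_option autoImplicit false
universe u
open scoped TensorProduct
open ZeroCyc

namespace Groth.Agent.S13726

/-- In a ring where `p = 0`, the kernel of the `p`-th power law is the set of `b` with `b ^ p = 0`. -/
theorem mem_ker_powLaw_iff {A : Type u} [CommRing A] (p : ℕ) (hp : p.Prime)
    (hpA : ((p : ℕ) : A) = 0) (b : A) :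
    b ∈ PolLaw.ker (PolLaw.MulLaw.pow A A p).law ↔ b ^ p = 0 := by
  constructor
  · intro hb
    have h := hb A (0 : A ⊗[A] A) 1
    change ((0 : A ⊗[A] A) + 1 * ((1 : A) ⊗ₜ[A] b)) ^ p = (0 : A ⊗[A] A) ^ p at h
    rw [zero_add, one_mul, zero_pow hp.ne_zero, Algebra.TensorProduct.tmul_pow, one_pow] at h
    have h2 := congrArg (Algebra.TensorProduct.lid A A) h
    rwa [Algebra.TensorProduct.lid_tmul, map_zero, one_smul] at h2
  · intro hb S _ _ x w
    change (x + w * ((1 : S) ⊗ₜ[A] b)) ^ p = x ^ p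
    obtain ⟨r, hr⟩ := exists_add_pow_prime_eq hp x (w * ((1 : S) ⊗ₜ[A] b))
    have hp0 : ((p : ℕ) : S ⊗[A] A) = 0 := by
      have : ((p : ℕ) : S ⊗[A] A) = algebraMap A (S ⊗[A] A) ((p : ℕ) : A) := by
        rw [map_natCast]
      rw [this, hpA, map_zero]
    rw [hr, hp0, zero_mul, zero_mul, zero_mul, add_zero, mul_pow,
      Algebra.TensorProduct.tmul_pow, hb, TensorProduct.tmul_zero, mul_zero, add_zero]

open MvPolynomial in
/-- Let k be a field of characteristic p > 0 and A = k[t_i : i ∈ ℕ]/(t_i^p : i ∈ ℕ). The law x ↦ x^p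
from A to A is multiplicative and homogeneous of degree p over A; its kernel is the ideal generated
by the classes of the variables t_i, and this ideal is not finitely generated. Hence the image of a
family of zero-cycles need not be of finite presentation over the base even when X → S is. -/
theorem result {k : Type u} [Field k] (p : ℕ) [Fact p.Prime] [CharP k p] :
    PolLaw.ker (PolLaw.MulLaw.pow
        (MvPolynomial ℕ k ⧸ Ideal.span (Set.range fun i : ℕ => (MvPolynomial.X i : MvPolynomial ℕ k) ^ p))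
        (MvPolynomial ℕ k ⧸ Ideal.span (Set.range fun i : ℕ => (MvPolynomial.X i : MvPolynomial ℕ k) ^ p)) p).law =
      (Ideal.span (Set.range fun i : ℕ => (MvPolynomial.X i : MvPolynomial ℕ k))).map
        (Ideal.Quotient.mk (Ideal.span (Set.range fun i : ℕ => (MvPolynomial.X i : MvPolynomial ℕ k) ^ p))) ∧
    ¬ (PolLaw.ker (PolLaw.MulLaw.pow
        (MvPolynomial ℕ k ⧸ Ideal.span (Set.range fun i : ℕ => (MvPolynomial.X i : MvPolynomial ℕ k) ^ p))
        (MvPolynomial ℕ k ⧸ Ideal.span (Set.range fun i : ℕ => (MvPolynomial.X i : MvPolynomial ℕ k) ^ p)) p).law).FG := by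
  have hp : p.Prime := Fact.out
  -- notation
  let I : Ideal (MvPolynomial ℕ k) :=
    Ideal.span (Set.range fun i : ℕ => (MvPolynomial.X i : MvPolynomial ℕ k) ^ p)
  let V : Ideal (MvPolynomial ℕ k) :=
    Ideal.span (Set.range fun i : ℕ => (MvPolynomial.X i : MvPolynomial ℕ k))
  -- `p = 0` in the quotient
  have hpA : ((p : ℕ) : MvPolynomial ℕ k ⧸ I) = 0 := by
    have : ((p : ℕ) : MvPolynomial ℕ k ⧸ I) = algebraMap k (MvPolynomial ℕ k ⧸ I) ((p : ℕ) : k) := by
      rw [map_natCast]
    rw [this, CharP.cast_eq_zero, map_zero]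
  -- the augmentation `A → k`
  have hIle : I ≤ RingHom.ker (MvPolynomial.constantCoeff : MvPolynomial ℕ k →+* k) := by
    rw [Ideal.span_le]
    rintro _ ⟨i, rfl⟩
    simp only [SetLike.mem_coe, RingHom.mem_ker, map_pow, MvPolynomial.constantCoeff_X]
    exact zero_pow hp.ne_zero
  let ε : MvPolynomial ℕ k ⧸ I →+* k :=
    Ideal.Quotient.lift I (MvPolynomial.constantCoeff : MvPolynomial ℕ k →+* k)
      (fun a ha => hIle ha)
  -- the classes of variables have `p`-th power zero
  have hXp : ∀ i : ℕ, (Ideal.Quotient.mk I (MvPolynomial.X i)) ^ p = 0 := by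
    intro i
    rw [← map_pow, Ideal.Quotient.eq_zero_iff_mem]
    exact Ideal.subset_span ⟨i, rfl⟩
  -- description of the set `{b | b ^ p = 0}`
  have hpow : ∀ b : MvPolynomial ℕ k ⧸ I, b ^ p = 0 ↔ b ∈ V.map (Ideal.Quotient.mk I) := by
    intro b
    constructor
    · intro hb
      obtain ⟨f, rfl⟩ := Ideal.Quotient.mk_surjective b
      have h1 : ε (Ideal.Quotient.mk I f) ^ p = 0 := by rw [← map_pow, hb, map_zero]
      have h2 : MvPolynomial.constantCoeff f = 0 := by
        have := pow_eq_zero_iff hp.ne_zero |>.1 h1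
        exact this
      apply Ideal.mem_map_of_mem
      have h3 : f ∈ V ^ 1 := by
        rw [MvPolynomial.mem_pow_idealOfVars_iff']
        intro x hx
        have hx0 : x = 0 := by
          have : Finsupp.degree x = 0 := by omega
          exact (Finsupp.degree_eq_zero_iff x).1 this
        rw [hx0]
        exact h2
      rwa [pow_one] at h3
    · intro hb
      rw [Ideal.map_span] at hb
      refine Submodule.span_induction ?_ ?_ ?_ ?_ hb
      · rintro _ ⟨_, ⟨i, rfl⟩, rfl⟩
        exact hXp i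
      · exact zero_pow hp.ne_zero
      · intro x y _ _ hx hy
        obtain ⟨r, hr⟩ := exists_add_pow_prime_eq hp x y
        rw [hr, hx, hy, hpA]
        simp
      · intro a x _ hx
        rw [smul_eq_mul, mul_pow, hx, mul_zero]
  have hker : PolLaw.ker (PolLaw.MulLaw.pow (MvPolynomial ℕ k ⧸ I) (MvPolynomial ℕ k ⧸ I) p).law =
      V.map (Ideal.Quotient.mk I) := by
    ext b
    rw [mem_ker_powLaw_iff p hp hpA, hpow]
  refine ⟨hker, ?_⟩
  rw [hker]
  intro hfg
  rw [Ideal.map_span] at hfg
  obtain ⟨T, hTsub, hTeq⟩ := (Submodule.fg_span_iff_fg_span_finset_subset _).1 hfg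
  -- a variable index not occurring in `T`
  -- each element of `T` is a class of a variable; collect the indices
  have hTidx : ∀ t ∈ T, ∃ i : ℕ, Ideal.Quotient.mk I (MvPolynomial.X i) = t := by
    intro t ht
    obtain ⟨_, ⟨i, rfl⟩, rfl⟩ := hTsub ht
    exact ⟨i, rfl⟩
  choose! idx hidx using hTidx
  obtain ⟨j, hj⟩ := Infinite.exists_notMem_finset (T.image idx)
  -- the map killing all variables but the `j`-th
  let g : Polynomial k := (Polynomial.X : Polynomial k) ^ p
  let fv : ℕ → AdjoinRoot g := fun i => if i = j then AdjoinRoot.root g else 0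
  have hroot : (AdjoinRoot.root g) ^ p = 0 := by
    have h1 : AdjoinRoot.mk g g = 0 := AdjoinRoot.mk_self
    simp only [g] at h1 ⊢
    rw [map_pow, AdjoinRoot.mk_X] at h1
    exact h1
  have hIle2 : I ≤ RingHom.ker (MvPolynomial.aeval fv : MvPolynomial ℕ k →ₐ[k] AdjoinRoot g).toRingHom := by
    rw [Ideal.span_le]
    rintro _ ⟨i, rfl⟩
    simp only [SetLike.mem_coe, RingHom.mem_ker, AlgHom.toRingHom_eq_coe, RingHom.coe_coe,
      map_pow, MvPolynomial.aeval_X, fv]
    split_ifs
    · exact hroot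
    · exact zero_pow hp.ne_zero
  let ψ : MvPolynomial ℕ k ⧸ I →+* AdjoinRoot g :=
    Ideal.Quotient.lift I (MvPolynomial.aeval fv : MvPolynomial ℕ k →ₐ[k] AdjoinRoot g).toRingHom
      (fun a ha => hIle2 ha)
  have hψX : ∀ i, ψ (Ideal.Quotient.mk I (MvPolynomial.X i)) = fv i := by
    intro i
    simp [ψ]
  -- `ψ` kills the span of `T`
  have hψT : Ideal.span (T : Set (MvPolynomial ℕ k ⧸ I)) ≤ RingHom.ker ψ := by
    rw [Ideal.span_le]
    intro t ht
    have hti : idx t ≠ j := by
      intro h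
      exact hj (h ▸ Finset.mem_image_of_mem idx ht)
    rw [SetLike.mem_coe, RingHom.mem_ker, ← hidx t ht, hψX]
    simp [fv, hti]
  -- but not the class of `X j`
  have hmem : Ideal.Quotient.mk I (MvPolynomial.X j) ∈
      Ideal.span (T : Set (MvPolynomial ℕ k ⧸ I)) := by
    have : Ideal.Quotient.mk I (MvPolynomial.X j) ∈ Submodule.span (MvPolynomial ℕ k ⧸ I)
        ((Ideal.Quotient.mk I) '' (Set.range fun i : ℕ => (MvPolynomial.X i : MvPolynomial ℕ k))) :=
      Submodule.subset_span ⟨_, ⟨j, rfl⟩, rfl⟩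
    rw [hTeq] at this
    exact this
  have h0 := hψT hmem
  rw [RingHom.mem_ker, hψX] at h0
  simp only [fv, if_true] at h0
  have h3 : AdjoinRoot.mk g Polynomial.X = 0 := by rw [AdjoinRoot.mk_X]; exact h0
  rw [AdjoinRoot.mk_eq_zero] at h3
  have hdeg := Polynomial.natDegree_le_of_dvd h3 Polynomial.X_ne_zero
  simp only [g] at hdeg
  rw [Polynomial.natDegree_X_pow, Polynomial.natDegree_X] at hdeg
  exact absurd hp.two_le (by omega)

end Groth.Agent.S13726
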