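import Groth.Statements.S13730
import Groth.Agent.Lib.Helper25.PolLawBCG
import Groth.Agent.Lib.Helper25.PolLawExist
import Groth.Agent.Lib.Helper25.GeomRedTensor
import Groth.Agent.S13873

set_option autoImplicit false
universe u
open scoped TensorProduct
open ZeroCyc

namespace Groth.Agent.S13730

/-- Let (C, γ) be the algebra of divided powers Γ^d_A(B) of a commutative A-algebra B with its universal
multiplicative law γ : B → C homogeneous of degree d (every multiplicative law B → C' homogeneous of
degree d factors uniquely through γ by an algebra map C → C'). If B is flat over A and K ⊗_A B is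
reduced for every field K receiving a ring map from A (X = Spec B → S = Spec A is flat with
geometrically reduced fibres), then K ⊗_A C is reduced for every such K: Γ^d_A(B) again has
geometrically reduced fibres over A. (The published statement is for a flat morphism of algebraic
spaces X → S with geometrically reduced fibres and also records that Γ^d(X/S) → S is flat; this row
is the affine case and states only the reducedness of the fibres, flatness of Γ^d_A(B) for flat B
being a separate statement.) -/
theorem result {A : Type u} [CommRing A] {B : Type u} [CommRing B] [Algebra A B] {C : Type u} [CommRing C] [Algebra A C]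
    {d : ℕ} (γ : PolLaw.MulLaw A B C d) (hγ : PolLaw.IsGammaD γ) [Module.Flat A B]
    (hred : ∀ (K : Type u) [Field K] [Algebra A K], IsReduced (K ⊗[A] B)) :
    ∀ (K : Type u) [Field K] [Algebra A K], IsReduced (K ⊗[A] C) := by
  intro K _ _
  classical
  -- base change of the universal law to `K`
  have hγK := Groth.Agent.Lib.Helper25.PolLawCoeff.isGammaD_bcgMulLaw K γ hγ
  -- over the field `K` the divided power algebra is the algebra of symmetric tensors
  obtain ⟨τ, -, hτ⟩ := Groth.Agent.S13873.result (A := K) (B := K ⊗[A] B) d
    (Or.inl inferInstance)
  obtain ⟨e⟩ := Groth.Agent.Lib.Helper25.PolLawCoeff.nonempty_algEquiv_of_isGammaD τ hτ _ hγK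
    AlgEquiv.refl
  -- `K ⊗ B` is geometrically reduced over `K`
  have hgeom : ∀ (L : Type u) [Field L] [Algebra K L], IsReduced (L ⊗[K] (K ⊗[A] B)) := by
    intro L _ _
    let _ : Algebra A L := Groth.Agent.Lib.Helper25.PolLawCoeff.algA A K L
    have : IsScalarTower A K L := Groth.Agent.Lib.Helper25.PolLawCoeff.towerA A K L
    have := hred L
    exact isReduced_of_injective (Algebra.TensorProduct.cancelBaseChange A K L L B)
      (Algebra.TensorProduct.cancelBaseChange A K L L B).injective
  have hT : IsReduced (⨂[K] _ : Fin d, (K ⊗[A] B)) :=
    Groth.Agent.Lib.Helper25.GeomRed.isReduced_piTensor K (K ⊗[A] B) hgeom d (Fin d)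
      (Fintype.card_fin d)
  have hTS : IsReduced (SymTen.TS K (K ⊗[A] B) d) :=
    isReduced_of_injective (SymTen.TS K (K ⊗[A] B) d).val Subtype.val_injective
  exact isReduced_of_injective e e.injective

end Groth.Agent.S13730
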