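import Groth.Statements.S13731
import Groth.Agent.Lib.Helper69.SpecLift
import Groth.Agent.Lib.Helper78.DVRScheme

set_option autoImplicit false
universe u
open HTop

namespace Groth.Agent.S13731
open CategoryTheory CategoryTheory.Limits AlgebraicGeometry Topology TopologicalSpace
open Groth.Agent.Lib.Helper69 Groth.Agent.Lib.Helper69.SpecLift

theorem extract {X : Scheme.{u}} (E : PreZeroHypercover.{u} X) (v' v : (∐ E.X : Scheme.{u}))
    (hsp : v' ⤳ v) : ∃ (i : E.I₀) (ξ u : E.X i), ξ ⤳ u ∧ E.f i u = Sigma.desc E.f v ∧
      E.f i ξ = Sigma.desc E.f v' := by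
  obtain ⟨⟨i, u⟩, rfl⟩ := (sigmaMk E.X).surjective v
  rw [sigmaMk_mk] at hsp ⊢
  have hv' : v' ∈ Set.range (Sigma.ι E.X i) :=
    hsp.mem_open (Sigma.ι E.X i).isOpenEmbedding.isOpen_range ⟨u, rfl⟩
  obtain ⟨ξ, rfl⟩ := hv'
  refine ⟨i, ξ, u, (Sigma.ι E.X i).isOpenEmbedding.isInducing.specializes_iff.mp hsp, ?_, ?_⟩
  · rw [← Scheme.Hom.comp_apply, Sigma.ι_desc]
  · rw [← Scheme.Hom.comp_apply, Sigma.ι_desc]

open CategoryTheory CategoryTheory.Limits AlgebraicGeometry in
/-- Let X be a separated Noetherian scheme and {p_i : U_i → X} a finite family of separated morphisms of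
finite type whose induced morphism from the disjoint union of the U_i to X is universally submersive
(an h-covering). Then every point x of X is p_i(u) for some i and some point u of U_i admitting a
generization ξ in U_i whose image p_i(ξ) is a generic point of an irreducible component of X.
Equivalently, the irreducible components of the U_i dominating an irreducible component of X jointly
cover X. -/
theorem result {X : Scheme.{u}} [IsNoetherian X] [X.IsSeparated] (E : PreZeroHypercover.{u} X) [Finite E.I₀] [∀ i, LocallyOfFiniteType (E.f i)] [∀ i, QuasiCompact (E.f i)] [∀ i, IsSeparated (E.f i)] (hE : SGA1.UnivSubmersive (Sigma.desc E.f)) (x : X) : ∃ (i : E.I₀) (ξ u : E.X i), ξ ⤳ u ∧ E.f i u = x ∧ closure {E.f i ξ} ∈ irreducibleComponents ↥X := by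
  have hZ : irreducibleComponent x ∈ irreducibleComponents X :=
    irreducibleComponent_mem_irreducibleComponents x
  obtain ⟨η, hη⟩ := QuasiSober.sober (isIrreducible_irreducibleComponent (x := x))
    isClosed_irreducibleComponent
  have hηx : η ⤳ x := by
    rw [specializes_iff_mem_closure, hη.def]
    exact mem_irreducibleComponent
  by_cases hne : x = η
  · -- the generic point itself: use surjectivity
    have hq : IsQuotientMap (Sigma.desc E.f) :=
      hE (𝟙 _) (𝟙 _) (Sigma.desc E.f) (IsPullback.of_id_snd)
    obtain ⟨v, hv⟩ := hq.surjective x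
    obtain ⟨i, ξ, u, hsp, h1, h2⟩ := extract E v v specializes_rfl
    refine ⟨i, u, u, specializes_rfl, h1.trans hv, ?_⟩
    rw [h1, hv, hne, hη.def]
    exact hZ
  · obtain ⟨A, h, hDVR, hcl, hcomp⟩ := Groth.Agent.Lib.Helper78.exists_dvr_specialization
      (𝟙 X) η x hηx hne
    obtain ⟨ϖ, hϖ⟩ := IsDiscreteValuationRing.exists_irreducible A
    have hmax : IsLocalRing.maximalIdeal A = Ideal.span {ϖ} := hϖ.maximalIdeal_eq
    let P := pullback (Sigma.desc E.f) h
    let snd : P ⟶ Spec (CommRingCat.of A) := pullback.snd (Sigma.desc E.f) h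
    let fst : P ⟶ ∐ E.X := pullback.fst (Sigma.desc E.f) h
    have hq : IsQuotientMap snd := hE fst h snd (IsPullback.of_hasPullback _ _).flip
    let s : Γ(P, ⊤) := snd.appTop ((Scheme.ΓSpecIso (CommRingCat.of A)).inv ϖ)
    have hs : P.basicOpen s = snd ⁻¹ᵁ ((Spec (CommRingCat.of A)).basicOpen
        ((Scheme.ΓSpecIso (CommRingCat.of A)).inv ϖ)) :=
      (Scheme.preimage_basicOpen_top snd _).symm
    have hb : ∀ y : Spec (CommRingCat.of A), y ∈ (Spec (CommRingCat.of A)).basicOpen
        ((Scheme.ΓSpecIso (CommRingCat.of A)).inv ϖ) ↔ ϖ ∉ y.asIdeal := by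
      intro y
      have := basicOpen_eq_of_affine (R := CommRingCat.of A) ϖ
      rw [this]
      exact Iff.rfl
    have hmem : ∀ z : P, z ∈ P.basicOpen s ↔ ϖ ∉ (snd z).asIdeal := by
      intro z
      rw [hs]
      exact hb (snd z)
    have hclosed : ∀ z : P, z ∉ P.basicOpen s ↔ snd z = IsLocalRing.closedPoint A := by
      intro z
      rw [hmem, not_not]
      constructor
      · intro hz
        apply PrimeSpectrum.ext
        change (snd z).asIdeal = IsLocalRing.maximalIdeal A
        have hle : IsLocalRing.maximalIdeal A ≤ (snd z).asIdeal := by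
          rw [hmax, Ideal.span_singleton_le_iff_mem]
          exact hz
        exact ((IsLocalRing.maximalIdeal.isMaximal A).eq_of_le (snd z).isPrime.ne_top hle).symm
      · intro hz
        rw [hz]
        change ϖ ∈ IsLocalRing.maximalIdeal A
        rw [hmax]
        exact Ideal.mem_span_singleton_self ϖ
    -- the closed fibre is not open
    have hnotopen : ¬ IsOpen ((P.basicOpen s : Set P)ᶜ) := by
      intro hop
      have h1 : (P.basicOpen s : Set P)ᶜ = snd ⁻¹' {IsLocalRing.closedPoint A} := by
        ext z
        exact hclosed z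
      rw [h1, hq.isOpen_preimage] at hop
      let g₀ : PrimeSpectrum A := ⟨⊥, Ideal.isPrime_bot⟩
      have hsp : g₀ ⤳ IsLocalRing.closedPoint A :=
        (PrimeSpectrum.le_iff_specializes g₀ _).mp bot_le
      have hg : g₀ ∈ ({IsLocalRing.closedPoint A} : Set (PrimeSpectrum A)) :=
        hsp.mem_open hop rfl
      have hbot : (⊥ : Ideal A) = IsLocalRing.maximalIdeal A := congrArg PrimeSpectrum.asIdeal hg
      have : ϖ ∈ (⊥ : Ideal A) := by
        rw [hbot, hmax]
        exact Ideal.mem_span_singleton_self ϖ
      exact hϖ.ne_zero this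
    rw [isOpen_iff_mem_nhds] at hnotopen
    push Not at hnotopen
    obtain ⟨w, hwC, hwn⟩ := hnotopen
    obtain ⟨w', hw', hsp⟩ := exists_specializes_of_not_nhds s w hwn
    have hsw : snd w = IsLocalRing.closedPoint A := (hclosed w).mp hwC
    -- the image of w' is the generic point
    have hsw' : h (snd w') = η := by
      let pt : Spec (X.residueField η) := IsLocalRing.closedPoint (X.residueField η)
      have hg : snd w' = Spec.map (CommRingCat.ofHom A.subtype) pt := by
        apply PrimeSpectrum.ext
        have h1 : (snd w').asIdeal = ⊥ := by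
          by_contra hbot
          have hmx : (snd w').asIdeal.IsMaximal :=
            Ring.DimensionLEOne.maximalOfPrime hbot (snd w').isPrime
          have := IsLocalRing.eq_maximalIdeal hmx
          apply (hmem w').mp hw'
          rw [this, hmax]
          exact Ideal.mem_span_singleton_self ϖ
        rw [h1]
        change ⊥ = Ideal.comap A.subtype pt.asIdeal
        have h2 : pt.asIdeal = ⊥ := by
          change IsLocalRing.maximalIdeal (X.residueField η) = ⊥
          exact IsLocalRing.maximalIdeal_eq_bot
        rw [h2]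
        exact (Ideal.comap_bot_of_injective _ A.subtype_injective).symm
      rw [hg, ← Scheme.Hom.comp_apply, hcomp, Category.comp_id]
      exact Scheme.fromSpecResidueField_apply _ _
    obtain ⟨i, ξ, u, hξu, h1, h2⟩ := extract E (fst w') (fst w) (hsp.map fst.continuous)
    have hcond : ∀ z : P, Sigma.desc E.f (fst z) = h (snd z) := by
      intro z
      rw [← Scheme.Hom.comp_apply, ← Scheme.Hom.comp_apply, pullback.condition]
    refine ⟨i, ξ, u, hξu, ?_, ?_⟩
    · rw [h1, hcond, hsw, hcl]
    · rw [h2, hcond, hsw', hη.def]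
      exact hZ

end Groth.Agent.S13731
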