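import Groth.Statements.S14766
import Groth.Agent.Lib.Helper75.ValSpec2
import Mathlib.AlgebraicGeometry.Stalk
import Mathlib.RingTheory.DiscreteValuationRing.Basic

set_option autoImplicit false
universe u
open CategoryTheory CategoryTheory.Limits AlgebraicGeometry
open Subtr
open Groth.Agent.Lib.Helper75

namespace Groth.Agent.S14766

open Groth.Agent.Lib.Helper75 in
/-- The spectrum of a discrete valuation ring has exactly two points. -/
theorem eq_botPoint_or_eq_clPoint (V : Type u) [CommRing V] [IsDomain V]
    [IsDiscreteValuationRing V] (y : Spec (CommRingCat.of V)) :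
    y = botPoint V ∨ y = clPoint V := by
  by_cases h0 : (y : PrimeSpectrum V).asIdeal = ⊥
  · left
    exact PrimeSpectrum.ext h0
  · right
    have hmax : (y : PrimeSpectrum V).asIdeal.IsMaximal :=
      IsPrime.to_maximal_ideal (hpi := (y : PrimeSpectrum V).isPrime) h0
    exact PrimeSpectrum.ext (IsLocalRing.eq_maximalIdeal hmax)

/-- If no generization of `x` lies in the basic open set of a global section `r`, then a whole
neighbourhood of `x` misses it (the germ of `r` at `x` is nilpotent). -/
theorem exists_open_disjoint_basicOpen {X : Scheme.{u}} (r : Γ(X, ⊤)) (x : X)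
    (h : ∀ x' : X, x' ⤳ x → x' ∉ X.basicOpen r) :
    ∃ W : X.Opens, x ∈ W ∧ W ⊓ X.basicOpen r = ⊥ := by
  have hnil : IsNilpotent (X.presheaf.germ ⊤ x trivial r) := by
    rw [← PrimeSpectrum.basicOpen_eq_bot_iff, eq_bot_iff]
    intro p hp
    exfalso
    refine h (X.fromSpecStalk x p) ?_ ?_
    · have := Set.mem_range_self (f := X.fromSpecStalk x) p
      rw [Scheme.range_fromSpecStalk] at this
      exact this
    · change p ∈ (X.fromSpecStalk x) ⁻¹ᵁ X.basicOpen r
      rw [Scheme.preimage_basicOpen_top, Scheme.fromSpecStalk_appTop]
      rw [CommRingCat.comp_apply, CommRingCat.comp_apply, Scheme.basicOpen_res,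
        basicOpen_eq_of_affine]
      exact ⟨trivial, hp⟩
  obtain ⟨n, hn⟩ := hnil
  have hgerm : X.presheaf.germ ⊤ x trivial (r ^ (n + 1)) = X.presheaf.germ ⊤ x trivial 0 := by
    rw [map_pow, pow_succ, hn, zero_mul, map_zero]
  obtain ⟨W, hxW, iU, iV, hW⟩ := X.presheaf.germ_eq (U := ⊤) (V := ⊤) x trivial trivial _ _ hgerm
  refine ⟨W, hxW, ?_⟩
  rw [← Scheme.basicOpen_res _ r iU.op, ← Scheme.basicOpen_pow _ _ (Nat.succ_pos n), ← map_pow, hW,
    map_zero, Scheme.basicOpen_zero]

end Groth.Agent.S14766

namespace Groth.Agent.S14766

/-- Let V be a discrete valuation ring and f : X ⟶ Spec V any morphism of schemes. Then the underlying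
continuous map of f is a quotient map (f is submersive) if and only if every ordered pair of points
of Spec V lifts to an ordered pair of points of X. -/
theorem result (V : Type u) [CommRing V] [IsDomain V]
    [IsDiscreteValuationRing V] {X : Scheme.{u}} (f : X ⟶ Spec (CommRingCat.of V)) :
    Topology.IsQuotientMap f ↔ Subtr.IsSSubtrusive f := by
  classical
  have hne : botPoint V ≠ clPoint V := by
    intro h
    have := congrArg PrimeSpectrum.asIdeal h
    exact IsDiscreteValuationRing.not_a_field V this.symm
  have hpts := eq_botPoint_or_eq_clPoint V
  constructor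
  · -- quotient map ⇒ S-subtrusive
    intro hq y y' hy
    have hsurj : Function.Surjective f := hq.surjective
    by_cases hyy : y' = y
    · obtain ⟨x, hx⟩ := hsurj y
      exact ⟨x, x, specializes_rfl, hx, hyy ▸ hx⟩
    · -- then y' = η, y = s
      have hy' : y' = botPoint V := by
        rcases hpts y' with h | h
        · exact h
        · exfalso
          apply hyy
          rw [h] at hy ⊢
          exact (eq_clPoint_of_specializes V y hy).symm
      have hy0 : y = clPoint V := by
        rcases hpts y with h | h
        · exfalso
          apply hyy
          rw [hy', h]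
        · exact h
      subst hy' hy0
      by_contra hcon
      -- the uniformizer
      obtain ⟨ϖ, hϖm, hϖ0⟩ := Submodule.exists_mem_ne_zero_of_ne_bot
        (IsDiscreteValuationRing.not_a_field V)
      let r : Γ(X, ⊤) := f.appTop ((Scheme.ΓSpecIso (CommRingCat.of V)).inv ϖ)
      have hr : ∀ x : X, x ∈ X.basicOpen r ↔ f x = botPoint V := by
        intro x
        have h1 : x ∈ X.basicOpen r ↔
            f x ∈ (Spec (CommRingCat.of V)).basicOpen
              ((Scheme.ΓSpecIso (CommRingCat.of V)).inv ϖ) := by
          rw [← Scheme.preimage_basicOpen_top]
          rfl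
        rw [h1, basicOpen_eq_of_affine]
        change ϖ ∉ (f x : PrimeSpectrum V).asIdeal ↔ _
        rcases hpts (f x) with h | h
        · rw [h]
          simp only [iff_true]
          exact hϖ0
        · rw [h]
          constructor
          · intro h'
            exact absurd hϖm h'
          · intro h'
            exact absurd h'.symm hne
      -- the closed fibre is open
      have hopen : IsOpen (f ⁻¹' {clPoint V}) := by
        rw [isOpen_iff_mem_nhds]
        intro x hx
        have hxs : f x = clPoint V := hx
        obtain ⟨W, hxW, hW⟩ := exists_open_disjoint_basicOpen r x (by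
          intro x' hx' hmem
          exact hcon ⟨x, x', hx', hxs, (hr x').mp hmem⟩)
        refine Filter.mem_of_superset (W.2.mem_nhds hxW) ?_
        intro w hw
        rcases hpts (f w) with h | h
        · exfalso
          have : w ∈ W ⊓ X.basicOpen r := ⟨hw, (hr w).mpr h⟩
          rw [hW] at this
          exact this
        · exact h
      have hopen' : IsOpen ({clPoint V} : Set (Spec (CommRingCat.of V))) :=
        hq.isOpen_preimage.mp hopen
      have := (botPoint_specializes_clPoint V).mem_open hopen' rfl
      exact hne this
  · -- S-subtrusive ⇒ quotient map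
    intro hS
    have hsurj : Function.Surjective f := by
      intro y
      obtain ⟨x, _, _, hx, _⟩ := hS (specializes_refl y)
      exact ⟨x, hx⟩
    rw [Topology.isQuotientMap_iff, Topology.isCoinducing_iff]
    refine ⟨fun U => ⟨fun hU => ?_, fun hU => hU.preimage f.continuous⟩, hsurj⟩
    by_cases hs : clPoint V ∈ U
    · have : U = Set.univ := by
        rw [Set.eq_univ_iff_forall]
        intro y
        rcases hpts y with h | h
        · obtain ⟨x, x', hxx', hx, hx'⟩ := hS (botPoint_specializes_clPoint V)
          have hxU : x ∈ f ⁻¹' U := by
            change f x ∈ U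
            rw [hx]
            exact hs
          have : x' ∈ f ⁻¹' U := hxx'.mem_open hU hxU
          rw [h, ← hx']
          exact this
        · rw [h]
          exact hs
      rw [this]
      exact isOpen_univ
    · by_cases hη : botPoint V ∈ U
      · have : U = ({clPoint V} : Set (Spec (CommRingCat.of V)))ᶜ := by
          ext y
          constructor
          · intro hyU hy
            rw [Set.mem_singleton_iff] at hy
            exact hs (hy ▸ hyU)
          · intro hy
            rcases hpts y with h | h
            · rw [h]
              exact hη
            · exact absurd h hy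
        rw [this]
        exact (IsLocalRing.isClosed_singleton_closedPoint V).isOpen_compl
      · have : U = ∅ := by
          rw [Set.eq_empty_iff_forall_notMem]
          intro y hyU
          rcases hpts y with h | h
          · exact hη (h ▸ hyU)
          · exact hs (h ▸ hyU)
        rw [this]
        exact isOpen_empty

end Groth.Agent.S14766
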