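import Groth.Statements.S14767
import Groth.Agent.Lib.Helper75.ValSpec2
import Groth.Agent.Lib.Helper75.QCClosed

set_option autoImplicit false
universe u
open CategoryTheory CategoryTheory.Limits AlgebraicGeometry
open Subtr
open Groth.Agent.Lib.Helper75

namespace Groth.Agent.S14767

/-- Let f : X ⟶ Y be a quasi-compact morphism of schemes. Then f is universally submersive if and only
if, for every valuation ring V and every morphism Spec V ⟶ Y, the base change X ×_Y Spec V ⟶ Spec V
is submersive (its underlying continuous map is a quotient map). (The published statement asks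
instead that f be universally submersive for the constructible topologies, which holds for
quasi-compact surjective morphisms; both sides here force f to be surjective.) -/
theorem result {X Y : Scheme.{u}} (f : X ⟶ Y) [QuasiCompact f] :
    SGA1.UnivSubmersive f ↔
      ∀ (V : Type u) [CommRing V] [IsDomain V] [ValuationRing V] (g : Spec (CommRingCat.of V) ⟶ Y),
        Topology.IsQuotientMap (pullback.snd f g) := by
  constructor
  · intro h V _ _ _ g
    exact h (pullback.fst f g) g (pullback.snd f g) (IsPullback.of_hasPullback f g).flip
  · intro h X' Y' i₁ i₂ f' hpb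
    change Topology.IsQuotientMap f'
    have hqc : QuasiCompact f' := MorphismProperty.of_isPullback hpb.flip ‹QuasiCompact f›
    -- the comparison map from a valuative base change
    have key : ∀ (V : Type u) [CommRing V] [IsDomain V] [ValuationRing V]
        (g' : Spec (CommRingCat.of V) ⟶ Y'),
        ∃ c : pullback f (g' ≫ i₂) ⟶ X', c ≫ f' = pullback.snd f (g' ≫ i₂) ≫ g' := by
      intro V _ _ _ g'
      exact ⟨hpb.lift (pullback.snd f (g' ≫ i₂) ≫ g') (pullback.fst f (g' ≫ i₂))
        (by rw [Category.assoc, ← pullback.condition]), hpb.lift_fst _ _ _⟩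
    have hsurj : Function.Surjective f' := by
      intro y
      obtain ⟨V, _, _, _, g', hs, hη⟩ :=
        exists_valuationRing_of_specializes' (specializes_refl y)
      obtain ⟨c, hc⟩ := key V g'
      obtain ⟨z, hz⟩ := (h V (g' ≫ i₂)).surjective (clPoint V)
      exact ⟨c z, by rw [← Scheme.Hom.comp_apply, hc, Scheme.Hom.comp_apply, hz, hs]⟩
    rw [Topology.isQuotientMap_iff_isClosed]
    refine ⟨hsurj, fun Z => ⟨fun hZ => hZ.preimage f'.continuous, fun hZ => ?_⟩⟩
    have himg : f' '' (f' ⁻¹' Z) = Z := Set.image_preimage_eq Z hsurj
    rw [← himg]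
    apply isClosed_image_of_stableUnderSpecialization f' _ hZ
    rw [himg]
    intro z' z hzz' hz'
    obtain ⟨V, _, _, _, g', hs, hη⟩ := exists_valuationRing_of_specializes' hzz'
    obtain ⟨c, hc⟩ := key V g'
    have hq := h V (g' ≫ i₂)
    have hcl : IsClosed (g' ⁻¹' Z) := by
      rw [← hq.isClosed_preimage]
      have : (pullback.snd f (g' ≫ i₂)) ⁻¹' (g' ⁻¹' Z) = c ⁻¹' (f' ⁻¹' Z) := by
        ext w
        simp only [Set.mem_preimage]
        rw [← Scheme.Hom.comp_apply, ← Scheme.Hom.comp_apply, hc]
      rw [this]
      exact hZ.preimage c.continuous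
    have hb : botPoint V ∈ g' ⁻¹' Z := by
      change g' (botPoint V) ∈ Z
      rw [hη]
      exact hz'
    have hcz := (botPoint_specializes_clPoint V).mem_closed hcl hb
    change g' (clPoint V) ∈ Z at hcz
    rwa [hs] at hcz

end Groth.Agent.S14767
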