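import Groth.Statements.S14772
-- import your own Groth.Agent.* helpers here
import Groth.Agent.S14768
import Groth.Agent.Lib.Helper55.SubtrLimit
import Groth.Agent.Lib.Helper55.FgSubalgRel
import Groth.Agent.Lib.Helper55.SubtrAffineSpace

set_option autoImplicit false
universe u
open CategoryTheory CategoryTheory.Limits AlgebraicGeometry
open Subtr

namespace Groth.Agent.S14772

open Groth.Agent.Lib.Helper55.SubtrLimit Groth.Agent.Lib.Helper55.FgSubalgRel
  Groth.Agent.Lib.Helper55.SubtrAffineSpace AffineSpace Opposite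

section

variable {X Y : Scheme.{u}} (f : X ⟶ Y)

/-- Pasting the base-change square of `bcMap` with the pullback square of `f`. -/
lemma isPullback_bcMap_paste {T Y₀ : Scheme.{u}} (h : T ⟶ Y₀) (γ : Y₀ ⟶ Y) :
    IsPullback (bcMap h (pullback.snd f γ) (𝟙 Y₀))
      (pullback.snd h (pullback.snd f γ ≫ 𝟙 Y₀) ≫ pullback.fst f γ)
      (pullback.snd h (𝟙 Y₀) ≫ γ) f :=
  (isPullback_bcMap h (pullback.snd f γ) (𝟙 Y₀)).paste_vert (IsPullback.of_hasPullback f γ).flip

/-- The base change of `f` to the spectrum of a finitely generated subalgebra has the lifting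
property as soon as the base changes to affine spaces have it. -/
theorem stage_isSSubtrusive (B : CommRingCat.{u}) (V : Type u) [CommRing V] [Algebra B V]
    (j : Spec B ⟶ Y) [IsPreimmersion j]
    (H : ∀ n : ℕ, 0 < n →
      Subtr.IsSSubtrusive (pullback.snd f (AffineSpace (ULift.{u} (Fin n)) Y ↘ Y)))
    (s : Finset V) (hs : s.Nonempty) :
    ∃ (P : Scheme.{u}) (p : P ⟶ Spec (CommRingCat.of (Algebra.adjoin B (s : Set V))))
      (a : P ⟶ X), IsPullback p a (toBase B V s ≫ j) f ∧ Subtr.IsSSubtrusive p := by
  classical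
  have hn : 0 < s.card := Finset.card_pos.mpr hs
  let e : ↥s ≃ Fin s.card := s.equivFin
  let v : ULift.{u} (Fin s.card) → Algebra.adjoin B (s : Set V) := fun i =>
    ⟨(e.symm i.down : V), Algebra.subset_adjoin (e.symm i.down).2⟩
  have hrange : Set.range v = ((↑) : Algebra.adjoin B (s : Set V) → V) ⁻¹' (s : Set V) := by
    ext x
    constructor
    · rintro ⟨i, rfl⟩
      exact (e.symm i.down).2
    · intro hx
      refine ⟨⟨e ⟨x.1, hx⟩⟩, ?_⟩
      apply Subtype.ext
      simp [v]
  have hv : Algebra.adjoin B (Set.range v) = ⊤ := by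
    rw [hrange]
    exact Algebra.adjoin_adjoin_coe_preimage
  have hcl := isClosedImmersion_homOfVector B (Algebra.adjoin B (s : Set V)) v hv
  set hB := homOfVector (S := Spec B)
      (Spec.map (CommRingCat.ofHom (algebraMap B (Algebra.adjoin B (s : Set V)))))
      (fun i => (Scheme.ΓSpecIso (CommRingCat.of (Algebra.adjoin B (s : Set V)))).inv (v i))
    with hhB
  have hpre : IsPreimmersion (hB ≫ AffineSpace.map (ULift.{u} (Fin s.card)) j) := inferInstance
  have hover : (hB ≫ AffineSpace.map (ULift.{u} (Fin s.card)) j) ≫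
      AffineSpace (ULift.{u} (Fin s.card)) Y ↘ Y = toBase B V s ≫ j := by
    rw [Category.assoc, map_over, ← Category.assoc, homOfVector_over]
    rfl
  refine ⟨pullback (pullback.snd f (AffineSpace (ULift.{u} (Fin s.card)) Y ↘ Y))
      (hB ≫ AffineSpace.map (ULift.{u} (Fin s.card)) j),
    pullback.snd _ _, pullback.fst _ _ ≫ pullback.fst _ _, ?_,
    isSSubtrusive_pullback_snd_of_isPreimmersion _ _ (H s.card hn)⟩
  have h1 := (IsPullback.of_hasPullback
    (pullback.snd f (AffineSpace (ULift.{u} (Fin s.card)) Y ↘ Y))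
    (hB ≫ AffineSpace.map (ULift.{u} (Fin s.card)) j)).paste_horiz
    (IsPullback.of_hasPullback f (AffineSpace (ULift.{u} (Fin s.card)) Y ↘ Y))
  rw [hover] at h1
  exact h1.flip

end

/-- The main implication: the lifting property after base change to all affine spaces implies
it after every base change (for quasi-compact `f`). -/
theorem univSSubtrusive_of_affineSpace {X Y : Scheme.{u}} (f : X ⟶ Y) [QuasiCompact f]
    (H : ∀ n : ℕ, 0 < n →
      Subtr.IsSSubtrusive (pullback.snd f (AffineSpace (ULift.{u} (Fin n)) Y ↘ Y))) :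
    Subtr.UnivSSubtrusive f := by
  classical
  rw [Groth.Agent.S14768.result]
  intro V _ _ _ g
  -- the local ring of `Y` at the image of the closed point
  let y : Y := g (IsLocalRing.closedPoint V)
  let B : CommRingCat.{u} := Y.presheaf.stalk y
  let φ : B ⟶ CommRingCat.of V := Scheme.stalkClosedPointTo g
  have hg : Spec.map φ ≫ Y.fromSpecStalk y = g := Scheme.Spec_stalkClosedPointTo_fromSpecStalk g
  let _ : Algebra B V := φ.hom.toAlgebra
  have hφ : CommRingCat.ofHom (algebraMap B V) = φ := rfl
  -- the limit presentation of `Spec V`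
  let i₀ : (Finset V)ᵒᵖ := op ∅
  let γ₀ : (specD B V).obj i₀ ⟶ Y := toBase B V ∅ ≫ Y.fromSpecStalk y
  have hγ : ∀ k : Over i₀, (specD B V).map k.hom ≫ γ₀ =
      toBase B V k.left.unop ≫ Y.fromSpecStalk y := by
    intro k
    have := specD_map_toBase B V k.hom
    change (specD B V).map k.hom ≫ toBase B V ∅ ≫ Y.fromSpecStalk y = _
    rw [← Category.assoc]
    exact eq_whisker this _
  have hγc : (specC B V).π.app i₀ ≫ γ₀ = g := by
    have := specC_π_toBase B V i₀
    change (specC B V).π.app i₀ ≫ toBase B V ∅ ≫ Y.fromSpecStalk y = _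
    rw [← Category.assoc]
    refine (eq_whisker this _).trans ?_
    rw [hφ]
    exact hg
  have core : Subtr.IsSSubtrusive
      (bcMap ((specC B V).π.app i₀) (pullback.snd f γ₀) (𝟙 ((specD B V).obj i₀))) := by
    apply isSSubtrusive_bcMap_of_forall (specD B V) (specC B V) (isLimitSpecC B V) i₀
      (pullback.snd f γ₀) (𝟙 ((specD B V).obj i₀))
    intro k
    let s' : Finset V := insert 1 k.left.unop
    let k' : Over i₀ := Over.mk ((homOfLE (Finset.empty_subset s')).op : op s' ⟶ i₀)
    let a : k' ⟶ k := Over.homMk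
      ((homOfLE (Finset.subset_insert 1 k.left.unop)).op : op s' ⟶ k.left)
      (Subsingleton.elim _ _)
    refine ⟨k', a, ?_⟩
    obtain ⟨P, p, a', hPB, hp⟩ := stage_isSSubtrusive f B V (Y.fromSpecStalk y) H s'
      ⟨1, Finset.mem_insert_self 1 _⟩
    have hcond : pullback.fst ((specD B V).map k'.hom) (𝟙 ((specD B V).obj i₀)) ≫
        (specD B V).map k'.hom = pullback.snd ((specD B V).map k'.hom) (𝟙 ((specD B V).obj i₀)) :=
      pullback.condition.trans (Category.comp_id _)
    have he : pullback.snd ((specD B V).map k'.hom) (𝟙 ((specD B V).obj i₀)) ≫ γ₀ =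
        pullback.fst ((specD B V).map k'.hom) (𝟙 ((specD B V).obj i₀)) ≫
          (toBase B V s' ≫ Y.fromSpecStalk y) :=
      (eq_whisker hcond.symm γ₀).trans ((Category.assoc _ _ _).trans (whisker_eq _ (hγ k')))
    have hiso1 : IsIso (pullback.fst ((specD B V).map k'.hom) (𝟙 ((specD B V).obj i₀))) :=
      pullback_fst_iso_of_right_iso _ _
    exact isSSubtrusive_of_isPullback_of_iso hPB
      (isPullback_bcMap_paste f ((specD B V).map k'.hom) γ₀)
      (@asIso _ _ _ _ (pullback.fst ((specD B V).map k'.hom) (𝟙 ((specD B V).obj i₀))) hiso1).symm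
      ((@IsIso.inv_comp_eq _ _ _ _ _ _ hiso1 _ _).mpr he) hp
  have hiso : IsIso (pullback.fst ((specC B V).π.app i₀) (𝟙 ((specD B V).obj i₀))) :=
    pullback_fst_iso_of_right_iso _ _
  have hcond : pullback.fst ((specC B V).π.app i₀) (𝟙 ((specD B V).obj i₀)) ≫
      (specC B V).π.app i₀ = pullback.snd ((specC B V).π.app i₀) (𝟙 ((specD B V).obj i₀)) :=
    pullback.condition.trans (Category.comp_id _)
  have he : pullback.fst ((specC B V).π.app i₀) (𝟙 ((specD B V).obj i₀)) ≫ g =
      pullback.snd ((specC B V).π.app i₀) (𝟙 ((specD B V).obj i₀)) ≫ γ₀ :=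
    (whisker_eq _ hγc.symm).trans ((Category.assoc _ _ _).symm.trans (eq_whisker hcond γ₀))
  exact isSSubtrusive_of_isPullback_of_iso
    (isPullback_bcMap_paste f ((specC B V).π.app i₀) γ₀) (IsPullback.of_hasPullback f g).flip
    (@asIso _ _ _ _ (pullback.fst ((specC B V).π.app i₀) (𝟙 ((specD B V).obj i₀))) hiso) he core

end Groth.Agent.S14772

namespace Groth.Agent.S14772

/-- Let f : X ⟶ Y be a quasi-compact morphism of schemes. Then every base change of f has the lifting
property for ordered pairs of points if and only if, for every integer n ≥ 1, the base change X ×_Y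
𝔸ⁿ_Y ⟶ 𝔸ⁿ_Y has it. (The published statement is about universally subtrusive morphisms f, with the
condition that f be universally submersive for the constructible topologies added on both sides, and
does not assume f quasi-compact; this row states the quasi-compact case, where that condition is
automatic once f is surjective.) -/
theorem result {X Y : Scheme.{u}} (f : X ⟶ Y) [QuasiCompact f] :
    Subtr.UnivSSubtrusive f ↔
      ∀ n : ℕ, 0 < n →
        Subtr.IsSSubtrusive (pullback.snd f (AffineSpace (ULift.{u} (Fin n)) Y ↘ Y)) := by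
  constructor
  · intro hf n _
    exact hf _ _ _ (IsPullback.of_hasPullback f (AffineSpace (ULift.{u} (Fin n)) Y ↘ Y)).flip
  · exact univSSubtrusive_of_affineSpace f

end Groth.Agent.S14772
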