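import Groth.Statements.S14770
-- import your own Groth.Agent.* helpers here
import Groth.Agent.S14772
import Groth.Agent.S14766
import Groth.Agent.S14767
import Groth.Agent.Lib.Helper78.DVRScheme
import Groth.Agent.Lib.Helper75.QCClosed

set_option autoImplicit false
universe u
open CategoryTheory CategoryTheory.Limits AlgebraicGeometry
open Subtr

namespace Groth.Agent.S14770

open CategoryTheory.Limits

/-- A quasi-compact morphism with the lifting property for ordered pairs of points is
submersive. -/
theorem isQuotientMap_of_isSSubtrusive {P T : Scheme.{u}} (p : P ⟶ T) [QuasiCompact p]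
    (hp : Subtr.IsSSubtrusive p) : Topology.IsQuotientMap p := by
  have hsurj : Function.Surjective p := fun y => by
    obtain ⟨x, _, _, hx, _⟩ := hp (specializes_rfl (x := y))
    exact ⟨x, hx⟩
  rw [Topology.isQuotientMap_iff_isClosed]
  refine ⟨hsurj, fun E => ⟨fun hE => hE.preimage p.continuous, fun hE => ?_⟩⟩
  have himg : p '' (p ⁻¹' E) = E := Set.image_preimage_eq E hsurj
  rw [← himg]
  apply Groth.Agent.Lib.Helper75.isClosed_image_of_stableUnderSpecialization p _ hE
  rw [himg]
  intro y' y hyy' hy'
  obtain ⟨x, x', hxx', hx, hx'⟩ := hp hyy'
  have h1 : x' ∈ p ⁻¹' E := by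
    change p x' ∈ E
    rw [hx']
    exact hy'
  have h2 := hxx'.mem_closed hE h1
  change p x ∈ E at h2
  rwa [hx] at h2

/-- Over a locally Noetherian base, universally submersive morphisms have the lifting property
for ordered pairs of points (test with discrete valuation rings). -/
theorem isSSubtrusive_of_univSubmersive {P T : Scheme.{u}} [IsLocallyNoetherian T] (p : P ⟶ T)
    (hp : SGA1.UnivSubmersive p) : Subtr.IsSSubtrusive p := by
  intro t t' htt'
  have hq : Topology.IsQuotientMap p := hp (𝟙 _) (𝟙 _) p (IsPullback.id_vert p)
  by_cases h : t' = t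
  · obtain ⟨x, hx⟩ := hq.surjective t
    exact ⟨x, x, specializes_rfl, hx, by rw [h]; exact hx⟩
  · obtain ⟨A, g, hDVR, hcl, hgen⟩ := Groth.Agent.Lib.Helper78.exists_dvr_specialization
      (𝟙 T) t' t htt' (fun e => h e.symm)
    let η : Spec (CommRingCat.of A) :=
      Spec.map (CommRingCat.ofHom A.subtype) (IsLocalRing.closedPoint (T.residueField t'))
    have hη : g η = t' := by
      have h1 := congr($hgen (IsLocalRing.closedPoint (T.residueField t')))
      rw [Scheme.Hom.comp_apply, Scheme.Hom.comp_apply, Scheme.fromSpecResidueField_apply] at h1
      exact h1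
    have hq' : Topology.IsQuotientMap (pullback.snd p g) :=
      hp (pullback.fst p g) g (pullback.snd p g) (IsPullback.of_hasPullback p g).flip
    have hSq : Subtr.IsSSubtrusive (pullback.snd p g) :=
      (Groth.Agent.S14766.result A (pullback.snd p g)).mp hq'
    obtain ⟨z, z', hzz', hz, hz'⟩ := hSq (IsLocalRing.specializes_closedPoint η)
    have hcond : ∀ w : ↥(pullback p g), p (pullback.fst p g w) = g (pullback.snd p g w) := by
      intro w
      have := congr($(pullback.condition (f := p) (g := g)) w)
      simpa only [Scheme.Hom.comp_apply] using this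
    refine ⟨pullback.fst p g z, pullback.fst p g z', hzz'.map (pullback.fst p g).continuous, ?_, ?_⟩
    · rw [hcond, hz]
      exact hcl
    · rw [hcond, hz']
      exact hη

end Groth.Agent.S14770

namespace Groth.Agent.S14770

/-- Let Y be a locally Noetherian scheme and f : X ⟶ Y a quasi-compact morphism. Then f is universally
submersive if and only if every base change of f has the lifting property for ordered pairs of
points. (The published statement assumes f universally submersive for the constructible topologies
rather than quasi-compact; for quasi-compact morphisms both sides force surjectivity and that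
condition follows.) -/
theorem result {X Y : Scheme.{u}}
    [IsLocallyNoetherian Y] (f : X ⟶ Y) [QuasiCompact f] :
    SGA1.UnivSubmersive f ↔ Subtr.UnivSSubtrusive f := by
  constructor
  · intro hf
    apply Groth.Agent.S14772.univSSubtrusive_of_affineSpace f
    intro n _
    have : IsLocallyNoetherian (AffineSpace (ULift.{u} (Fin n)) Y) :=
      LocallyOfFiniteType.isLocallyNoetherian (AffineSpace (ULift.{u} (Fin n)) Y ↘ Y)
    apply isSSubtrusive_of_univSubmersive
    intro X' Y' i₁ i₂ f' hsq
    exact hf _ _ _ (hsq.paste_vert
      (IsPullback.of_hasPullback f (AffineSpace (ULift.{u} (Fin n)) Y ↘ Y)).flip)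
  · intro hf
    rw [Groth.Agent.S14767.result]
    intro V _ _ _ g
    apply isQuotientMap_of_isSSubtrusive
    exact hf _ _ _ (IsPullback.of_hasPullback f g).flip

end Groth.Agent.S14770
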