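import Groth.Statements.S14771
-- import your own Groth.Agent.* helpers here
import Groth.Agent.S14770

set_option autoImplicit false
universe u
open CategoryTheory CategoryTheory.Limits AlgebraicGeometry
open Subtr

namespace Groth.Agent.S14771

open CategoryTheory.Limits

section

variable {X Y : Scheme.{u}} (f : X ⟶ Y)

/-- The discrete valuation ring criterion gives liftings of pairs of points of a discrete
valuation ring mapping to a `Y`-scheme `T`. -/
theorem lift_of_dvr_criterion
    (H3 : ∀ (D : Type u) [CommRing D] [IsDomain D] [IsDiscreteValuationRing D]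
      (g : Spec (CommRingCat.of D) ⟶ Y),
      ∃ (D' : Type u) (_ : CommRing D') (_ : IsDomain D') (_ : IsDiscreteValuationRing D')
        (a : Spec (CommRingCat.of D') ⟶ X) (b : Spec (CommRingCat.of D') ⟶ Spec (CommRingCat.of D)),
        Surjective b ∧ a ≫ f = b ≫ g)
    {T : Scheme.{u}} (q : T ⟶ Y) (A : Type u) [CommRing A] [IsDomain A]
    [IsDiscreteValuationRing A] (h : Spec (CommRingCat.of A) ⟶ T) (η : Spec (CommRingCat.of A)) :
    ∃ z z' : ↥(pullback f q), z' ⤳ z ∧
      pullback.snd f q z = h (IsLocalRing.closedPoint A) ∧ pullback.snd f q z' = h η := by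
  obtain ⟨D', _, _, _, a, b, hb, hab⟩ := H3 A (h ≫ q)
  let w : Spec (CommRingCat.of D') ⟶ pullback f q :=
    pullback.lift a (b ≫ h) (by rw [hab, Category.assoc])
  have hw : ∀ d, pullback.snd f q (w d) = h (b d) := by
    intro d
    have := congr($(pullback.lift_snd a (b ≫ h) (by rw [hab, Category.assoc])) d)
    simpa only [Scheme.Hom.comp_apply] using this
  obtain ⟨d₁, hd₁⟩ := hb.surj (IsLocalRing.closedPoint A)
  obtain ⟨d₂, hd₂⟩ := hb.surj η
  -- the closed point of `D'` maps to the closed point of `A`
  have hσ : b (IsLocalRing.closedPoint D') = IsLocalRing.closedPoint A := by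
    have h1 : b d₁ ⤳ b (IsLocalRing.closedPoint D') :=
      (IsLocalRing.specializes_closedPoint (R := D') d₁).map b.continuous
    rw [hd₁] at h1
    have hcl : IsClosed ({IsLocalRing.closedPoint A} : Set (PrimeSpectrum A)) :=
      IsLocalRing.isClosed_singleton_closedPoint A
    have h2 := h1.mem_closed hcl (Set.mem_singleton _)
    exact h2
  refine ⟨w (IsLocalRing.closedPoint D'), w d₂,
    (IsLocalRing.specializes_closedPoint (R := D') d₂).map w.continuous, ?_, ?_⟩
  · rw [hw, hσ]
  · rw [hw, hd₂]

/-- Over a locally Noetherian scheme `T`, the criterion gives the lifting property for ordered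
pairs of points of the base change of `f` to `T`. -/
theorem isSSubtrusive_of_dvr_criterion
    (H3 : ∀ (D : Type u) [CommRing D] [IsDomain D] [IsDiscreteValuationRing D]
      (g : Spec (CommRingCat.of D) ⟶ Y),
      ∃ (D' : Type u) (_ : CommRing D') (_ : IsDomain D') (_ : IsDiscreteValuationRing D')
        (a : Spec (CommRingCat.of D') ⟶ X) (b : Spec (CommRingCat.of D') ⟶ Spec (CommRingCat.of D)),
        Surjective b ∧ a ≫ f = b ≫ g)
    {T : Scheme.{u}} [IsLocallyNoetherian T] (q : T ⟶ Y) :
    Subtr.IsSSubtrusive (pullback.snd f q) := by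
  intro t t' htt'
  by_cases h : t' = t
  · -- a constant discrete valuation ring at `t`
    let h₀ : Spec (CommRingCat.of (PowerSeries (T.residueField t))) ⟶ T :=
      Spec.map (CommRingCat.ofHom (PowerSeries.C (R := T.residueField t))) ≫
        T.fromSpecResidueField t
    have hpt : ∀ d, h₀ d = t := by
      intro d
      change (T.fromSpecResidueField t) _ = t
      exact Scheme.fromSpecResidueField_apply _ _
    obtain ⟨z, z', hzz', hz, hz'⟩ := lift_of_dvr_criterion f H3 q
      (PowerSeries (T.residueField t)) h₀ (IsLocalRing.closedPoint _)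
    exact ⟨z, z', hzz', hz.trans (hpt _), by rw [h]; exact hz'.trans (hpt _)⟩
  · obtain ⟨A, g, hDVR, hcl, hgen⟩ := Groth.Agent.Lib.Helper78.exists_dvr_specialization
      (𝟙 T) t' t htt' (fun e => h e.symm)
    let η : Spec (CommRingCat.of A) :=
      Spec.map (CommRingCat.ofHom A.subtype) (IsLocalRing.closedPoint (T.residueField t'))
    have hη : g η = t' := by
      have h1 := congr($hgen (IsLocalRing.closedPoint (T.residueField t')))
      rw [Scheme.Hom.comp_apply, Scheme.Hom.comp_apply, Scheme.fromSpecResidueField_apply] at h1
      exact h1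
    obtain ⟨z, z', hzz', hz, hz'⟩ := lift_of_dvr_criterion f H3 q A g η
    exact ⟨z, z', hzz', hz.trans hcl, hz'.trans hη⟩

end

/-- (ii) ⇒ (iii). -/
theorem dvr_criterion_of_univSSubtrusive {X Y : Scheme.{u}} (f : X ⟶ Y) [LocallyOfFiniteType f]
    (hf : Subtr.UnivSSubtrusive f) (D : Type u) [CommRing D] [IsDomain D]
    [IsDiscreteValuationRing D] (g : Spec (CommRingCat.of D) ⟶ Y) :
    ∃ (D' : Type u) (_ : CommRing D') (_ : IsDomain D') (_ : IsDiscreteValuationRing D')
      (a : Spec (CommRingCat.of D') ⟶ X) (b : Spec (CommRingCat.of D') ⟶ Spec (CommRingCat.of D)),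
      Surjective b ∧ a ≫ f = b ≫ g := by
  have hp : Subtr.IsSSubtrusive (pullback.snd f g) :=
    hf _ _ _ (IsPullback.of_hasPullback f g).flip
  obtain ⟨x, x', hxx', hx, hx'⟩ :=
    hp (Groth.Agent.Lib.Helper75.botPoint_specializes_clPoint D)
  have hne : x ≠ x' := by
    intro e
    have h1 : Groth.Agent.Lib.Helper75.clPoint D = Groth.Agent.Lib.Helper75.botPoint D := by
      rw [← hx, ← hx', e]
    have h2 := congrArg PrimeSpectrum.asIdeal h1
    change IsLocalRing.maximalIdeal D = ⊥ at h2
    exact IsDiscreteValuationRing.not_a_field D h2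
  have hPN : IsLocallyNoetherian (pullback f g) := inferInstance
  obtain ⟨A, h, hDVR, hcl, hgen⟩ := Groth.Agent.Lib.Helper78.exists_dvr_specialization
    (𝟙 (pullback f g)) x' x hxx' hne
  let η : Spec (CommRingCat.of A) :=
    Spec.map (CommRingCat.ofHom A.subtype)
      (IsLocalRing.closedPoint ((pullback f g).residueField x'))
  have hη : h η = x' := by
    have h1 := congr($hgen (IsLocalRing.closedPoint ((pullback f g).residueField x')))
    rw [Scheme.Hom.comp_apply, Scheme.Hom.comp_apply, Scheme.fromSpecResidueField_apply] at h1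
    exact h1
  refine ⟨A, inferInstance, inferInstance, hDVR, h ≫ pullback.fst f g, h ≫ pullback.snd f g,
    ⟨fun d => ?_⟩, ?_⟩
  · rcases Groth.Agent.S14766.eq_botPoint_or_eq_clPoint D d with rfl | rfl
    · refine ⟨η, ?_⟩
      rw [Scheme.Hom.comp_apply, hη, hx']
    · refine ⟨IsLocalRing.closedPoint A, ?_⟩
      rw [Scheme.Hom.comp_apply]
      change (pullback.snd f g) (h.base (IsLocalRing.closedPoint A)) = _
      rw [hcl, hx]
  · rw [Category.assoc, Category.assoc, pullback.condition]

end Groth.Agent.S14771

namespace Groth.Agent.S14771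

/-- Let Y be locally Noetherian and f : X ⟶ Y quasi-compact and locally of finite type. The following
are equivalent: (i) f is universally submersive; (ii) every base change of f has the lifting
property for ordered pairs of points; (iii) for every discrete valuation ring D and morphism g :
Spec D ⟶ Y there are a discrete valuation ring D', a morphism a : Spec D' ⟶ X and a surjective
morphism b : Spec D' ⟶ Spec D with a ≫ f = b ≫ g. (The published statement assumes f only locally of
finite type. Quasi-compactness cannot be dropped: over the local ring of a regular surface at a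
closed point s, the disjoint union of the punctured surface, a regular curve C through s and, for
every n ≥ 1, the n-fold blow-up along successive points of the strict transform of C with the n-th
such point removed, satisfies (iii) with D' = D, while (ii) fails at a valuation ring of rank two
whose centres are exactly the removed points; the limit argument behind the published proof uses
quasi-compactness of the fibres.) -/
theorem result {X Y : Scheme.{u}} [IsLocallyNoetherian Y]
    (f : X ⟶ Y) [LocallyOfFiniteType f] [QuasiCompact f] :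
    List.TFAE [
      SGA1.UnivSubmersive f,
      Subtr.UnivSSubtrusive f,
      ∀ (D : Type u) [CommRing D] [IsDomain D] [IsDiscreteValuationRing D] (g : Spec (CommRingCat.of D) ⟶ Y),
        ∃ (D' : Type u) (_ : CommRing D') (_ : IsDomain D') (_ : IsDiscreteValuationRing D')
          (a : Spec (CommRingCat.of D') ⟶ X) (b : Spec (CommRingCat.of D') ⟶ Spec (CommRingCat.of D)),
          Surjective b ∧ a ≫ f = b ≫ g] := by
  tfae_have 1 ↔ 2 := Groth.Agent.S14770.result f
  tfae_have 2 → 3 := fun hf D _ _ _ g => dvr_criterion_of_univSSubtrusive f hf D g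
  tfae_have 3 → 2 := by
    intro H3
    apply Groth.Agent.S14772.univSSubtrusive_of_affineSpace f
    intro n _
    have : IsLocallyNoetherian (AffineSpace (ULift.{u} (Fin n)) Y) :=
      LocallyOfFiniteType.isLocallyNoetherian (AffineSpace (ULift.{u} (Fin n)) Y ↘ Y)
    exact isSSubtrusive_of_dvr_criterion f H3 _
  tfae_finish

end Groth.Agent.S14771
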