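import Groth.Statements.S13738
import Groth.Agent.Lib.Helper69.Quot5

set_option autoImplicit false
universe u
open SGA1

namespace Groth.Agent.S13738
open CategoryTheory CategoryTheory.Limits AlgebraicGeometry
open Groth.Agent.Lib.Helper69

/-- Geometric transitivity implies transitivity on the fibres. -/
theorem exists_apply_eq_of_geomTransitive {X S : Scheme.{u}} (q : X ⟶ S) {G : Type u} [Group G]
    (ρ : G →* Aut X)
    (htrans : ∀ (Ω : Type u) [Field Ω] [IsAlgClosed Ω] (τ₁ τ₂ : Spec (CommRingCat.of Ω) ⟶ X),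
      τ₁ ≫ q = τ₂ ≫ q → ∃ g : G, τ₁ ≫ (ρ g).hom = τ₂)
    (x₁ x₂ : X) (h : q x₁ = q x₂) : ∃ g : G, (ρ g).hom x₁ = x₂ := by
  let a₁ := X.fromSpecResidueField x₁ ≫ q
  let a₂ := X.fromSpecResidueField x₂ ≫ q
  have hc : a₁ (IsLocalRing.closedPoint (X.residueField x₁)) =
      a₂ (IsLocalRing.closedPoint (X.residueField x₂)) := by
    simp only [a₁, a₂, Scheme.Hom.comp_apply, Scheme.fromSpecResidueField_apply]
    exact h
  obtain ⟨z, -, -⟩ := Scheme.Pullback.exists_preimage_pullback (f := a₁) (g := a₂) _ _ hc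
  let Ω := AlgebraicClosure ((pullback a₁ a₂).residueField z)
  let τ : Spec (CommRingCat.of Ω) ⟶ pullback a₁ a₂ :=
    Spec.map (CommRingCat.ofHom (algebraMap ((pullback a₁ a₂).residueField z) Ω)) ≫
      (pullback a₁ a₂).fromSpecResidueField z
  let τ₁ : Spec (CommRingCat.of Ω) ⟶ X := τ ≫ pullback.fst a₁ a₂ ≫ X.fromSpecResidueField x₁
  let τ₂ : Spec (CommRingCat.of Ω) ⟶ X := τ ≫ pullback.snd a₁ a₂ ≫ X.fromSpecResidueField x₂
  have hτ : τ₁ ≫ q = τ₂ ≫ q := by
    simp only [τ₁, τ₂, Category.assoc]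
    congr 1
    exact pullback.condition
  obtain ⟨g, hg⟩ := htrans Ω τ₁ τ₂ hτ
  refine ⟨g, ?_⟩
  have h1 : τ₁ (IsLocalRing.closedPoint Ω) = x₁ := by
    simp only [τ₁, Scheme.Hom.comp_apply, Scheme.fromSpecResidueField_apply]
  have h2 : τ₂ (IsLocalRing.closedPoint Ω) = x₂ := by
    simp only [τ₂, Scheme.Hom.comp_apply, Scheme.fromSpecResidueField_apply]
  calc (ρ g).hom x₁ = (ρ g).hom (τ₁ (IsLocalRing.closedPoint Ω)) := congrArg _ h1.symm
    _ = (τ₁ ≫ (ρ g).hom) (IsLocalRing.closedPoint Ω) := (Scheme.Hom.comp_apply _ _ _).symm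
    _ = τ₂ (IsLocalRing.closedPoint Ω) :=
      congrArg (fun f : Spec (CommRingCat.of Ω) ⟶ X => f (IsLocalRing.closedPoint Ω)) hg
    _ = x₂ := h2

open CategoryTheory CategoryTheory.Limits AlgebraicGeometry in
/-- Let S be a separated irreducible Noetherian scheme, q : X → S finite and surjective with X
separated, and G a finite group acting on X by S-automorphisms, transitively on the geometric points
of X over every geometric point of S. Then every irreducible component of X maps onto S and G acts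
transitively on the set of irreducible components of X. -/
theorem result {X S : Scheme.{u}} [IsNoetherian S] [S.IsSeparated] [X.IsSeparated] [IrreducibleSpace ↥S] (q : X ⟶ S) [IsFinite q] [Surjective q] {G : Type u} [Group G] [Finite G] (ρ : G →* Aut X) (hρ : ∀ g : G, (ρ g).hom ≫ q = q) (htrans : ∀ (Ω : Type u) [Field Ω] [IsAlgClosed Ω] (τ₁ τ₂ : Spec (CommRingCat.of Ω) ⟶ X), τ₁ ≫ q = τ₂ ≫ q → ∃ g : G, τ₁ ≫ (ρ g).hom = τ₂) : (∀ T ∈ irreducibleComponents ↥X, Set.image (fun x => q x) T = Set.univ) ∧ ∀ T₁ ∈ irreducibleComponents ↥X, ∀ T₂ ∈ irreducibleComponents ↥X, ∃ g : G, Set.image (fun x => (ρ g).hom x) T₁ = T₂ := by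
  classical
  have horb := exists_apply_eq_of_geomTransitive q ρ htrans
  -- `X` is a Noetherian space
  have hXn : IsLocallyNoetherian X := LocallyOfFiniteType.isLocallyNoetherian q
  have hXc : CompactSpace X := QuasiCompact.compactSpace_of_compactSpace q
  have hXN : IsNoetherian X := {}
  have hfin : (irreducibleComponents X).Finite :=
    TopologicalSpace.NoetherianSpace.finite_irreducibleComponents
  -- group action on points
  have hmul : ∀ (g h : G) (x : X), (ρ (g * h)).hom x = (ρ g).hom ((ρ h).hom x) := by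
    intro g h x
    rw [map_mul, Aut.Aut_mul_def, Iso.trans_hom, Scheme.Hom.comp_apply]
  have hone : ∀ x : X, (ρ 1).hom x = x := by
    intro x
    rw [map_one]
    rfl
  have hqρ : ∀ (g : G) (x : X), q ((ρ g).hom x) = q x := by
    intro g x
    rw [← Scheme.Hom.comp_apply, hρ g]
  -- some component maps onto `S`
  obtain ⟨T₀, hT₀, hT₀S⟩ : ∃ T₀ ∈ irreducibleComponents X, Set.univ ⊆ q '' T₀ := by
    have hirr : IsIrreducible (Set.univ : Set S) := (irreducibleSpace_def S).mp inferInstance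
    obtain ⟨z, hz, hzS⟩ := isIrreducible_iff_sUnion_isClosed.mp hirr
      (hfin.toFinset.image (fun T => q '' T))
      (by
        intro z hz
        obtain ⟨T, hT, rfl⟩ := Finset.mem_image.mp hz
        exact q.isClosedMap _ (isClosed_of_mem_irreducibleComponents T (hfin.mem_toFinset.mp hT)))
      (by
        intro s _
        obtain ⟨x, rfl⟩ := q.surjective s
        have hx : x ∈ ⋃₀ irreducibleComponents X := by
          rw [sUnion_irreducibleComponents]; trivial
        obtain ⟨T, hT, hxT⟩ := hx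
        exact ⟨q '' T, Finset.mem_coe.mpr (Finset.mem_image.mpr
          ⟨T, hfin.mem_toFinset.mpr hT, rfl⟩), ⟨x, hxT, rfl⟩⟩)
    obtain ⟨T, hT, rfl⟩ := Finset.mem_image.mp hz
    exact ⟨T, hfin.mem_toFinset.mp hT, hzS⟩
  -- every component is a translate of `T₀`
  have key : ∀ T ∈ irreducibleComponents X, ∃ g : G, (fun x => (ρ g).hom x) '' T₀ = T := by
    intro T hT
    have hTirr : IsIrreducible T := hT.1
    have hTcl : IsClosed T := isClosed_of_mem_irreducibleComponents T hT
    obtain ⟨ξ, hξ⟩ := QuasiSober.sober hTirr hTcl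
    obtain ⟨x', hx'T₀, hx'⟩ := hT₀S (Set.mem_univ (q ξ))
    obtain ⟨g, hg⟩ := horb x' ξ hx'
    refine ⟨g, ?_⟩
    have hirr' : IsIrreducible ((fun x => (ρ g).hom x) '' T₀) :=
      hT₀.1.image _ (ρ g).hom.continuous.continuousOn
    have hcl' : IsClosed ((fun x => (ρ g).hom x) '' T₀) := by
      have : IsClosedMap (fun x => (ρ g).hom x) :=
        (ρ g).hom.homeomorph.isClosedMap
      exact this _ (isClosed_of_mem_irreducibleComponents T₀ hT₀)
    have hsub : T ⊆ (fun x => (ρ g).hom x) '' T₀ := by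
      rw [← hξ.def]
      exact hcl'.closure_subset_iff.mpr (Set.singleton_subset_iff.mpr ⟨x', hx'T₀, hg⟩)
    exact (hT.eq_of_subset hirr' hsub).symm
  refine ⟨?_, ?_⟩
  · intro T hT
    obtain ⟨g, rfl⟩ := key T hT
    rw [Set.image_image]
    apply Set.eq_univ_of_univ_subset
    intro s hs
    obtain ⟨x, hx, rfl⟩ := hT₀S hs
    exact ⟨x, hx, hqρ g x⟩
  · intro T₁ hT₁ T₂ hT₂
    obtain ⟨g₁, rfl⟩ := key T₁ hT₁
    obtain ⟨g₂, rfl⟩ := key T₂ hT₂
    refine ⟨g₂ * g₁⁻¹, ?_⟩
    rw [Set.image_image]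
    congr 1
    ext x
    simp only
    rw [hmul, ← hmul g₁⁻¹ g₁, inv_mul_cancel, hone]

end Groth.Agent.S13738
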