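import Groth.Statements.S13740
import Groth.Agent.Lib.Helper69.Quot6

set_option autoImplicit false
universe w u
open SGA1

namespace Groth.Agent.S13740
open CategoryTheory CategoryTheory.Limits AlgebraicGeometry
open Groth.Agent.Lib.Helper69 Opposite

open CategoryTheory CategoryTheory.Limits AlgebraicGeometry in
/-- Let S be a separated Noetherian scheme, π : X → S finite and surjective with X separated, G a finite
group acting on X by S-automorphisms and transitively on the geometric points of X over every
geometric point of S, and F a presheaf of sets on schemes satisfying the sheaf condition for every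
finite family of quasi-finite morphisms of finite type whose induced morphism from the disjoint
union is universally submersive (a qfh-sheaf). Then pulling back along π identifies F(S) with the
G-invariant elements of F(X): F(π) is injective with image the invariants. (The published statement
takes F a qfh-sheaf on Noetherian schemes over S; this row takes a presheaf on all schemes with the
sheaf property for every such family, a stronger hypothesis.) -/
theorem result {X S : Scheme.{u}} [IsNoetherian S] [S.IsSeparated] [X.IsSeparated] (q : X ⟶ S) [IsFinite q] [Surjective q] {G : Type u} [Group G] [Finite G] (ρ : G →* Aut X) (hρ : ∀ g : G, (ρ g).hom ≫ q = q) (htrans : ∀ (Ω : Type u) [Field Ω] [IsAlgClosed Ω] (τ₁ τ₂ : Spec (CommRingCat.of Ω) ⟶ X), τ₁ ≫ q = τ₂ ≫ q → ∃ g : G, τ₁ ≫ (ρ g).hom = τ₂) (F : Scheme.{u}ᵒᵖ ⥤ Type w) (hF : ∀ ⦃T : Scheme.{u}⦄ (E : PreZeroHypercover.{u} T), Finite E.I₀ → (∀ i, LocallyOfFiniteType (E.f i)) → (∀ i, QuasiCompact (E.f i)) → (∀ i, LocallyQuasiFinite (E.f i)) → SGA1.UnivSubmersive (Sigma.desc E.f)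 → Presieve.IsSheafFor F E.presieve₀) : Function.Injective (F.map q.op) ∧ Set.range (F.map q.op) = {f : F.obj (Opposite.op X) | ∀ g : G, F.map (ρ g).hom.op f = f} := by
  -- the covering `{q}` of `S`
  let E₁ : PreZeroHypercover.{u} S := ⟨PUnit.{u+1}, fun _ => X, fun _ => q⟩
  have hE₁ : Presieve.IsSheafFor F E₁.presieve₀ := by
    refine hF E₁ (inferInstanceAs (Finite PUnit)) (fun _ => inferInstanceAs (LocallyOfFiniteType q))
      (fun _ => inferInstanceAs (QuasiCompact q)) (fun _ => inferInstanceAs (LocallyQuasiFinite q)) ?_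
    have h1 : IsFinite (Sigma.desc E₁.f) := by
      refine isFinite_of_cofan (Cofan.mk (∐ E₁.X) (Sigma.ι E₁.X)) (coproductIsCoproduct _) _
        (fun i => ?_)
      have : (Cofan.mk (∐ E₁.X) (Sigma.ι E₁.X)).inj i ≫ Sigma.desc E₁.f = q := by simp [E₁]
      rw [this]
      infer_instance
    have h2 : Surjective (Sigma.desc E₁.f) := by
      constructor
      intro s
      obtain ⟨x, rfl⟩ := q.surjective s
      refine ⟨Sigma.ι E₁.X PUnit.unit x, ?_⟩
      rw [← Scheme.Hom.comp_apply, Sigma.ι_desc]
    exact univSubmersive_of_isFinite_of_surjective _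
  have hE₁' := (Presieve.isSheafFor_arrows_iff _ _).mp hE₁
  -- separatedness for the cover of `Z ×_S X` by graph translates
  have hsep : ∀ {Z : Scheme.{u}} (g₁ : Z ⟶ X) (t₁ t₂ : F.obj (op (pullback (g₁ ≫ q) q))),
      (∀ σ : G, F.map (pullback.lift (𝟙 Z) (g₁ ≫ (ρ σ).hom)
        (by rw [Category.id_comp, Category.assoc, hρ σ])).op t₁ =
        F.map (pullback.lift (𝟙 Z) (g₁ ≫ (ρ σ).hom)
        (by rw [Category.id_comp, Category.assoc, hρ σ])).op t₂) → t₁ = t₂ := by
    intro Z g₁ t₁ t₂ h
    let υσ : ∀ σ : G, Z ⟶ pullback (g₁ ≫ q) q := fun σ =>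
      pullback.lift (𝟙 Z) (g₁ ≫ (ρ σ).hom) (by rw [Category.id_comp, Category.assoc, hρ σ])
    let E₂ : PreZeroHypercover.{u} (pullback (g₁ ≫ q) q) := ⟨G, fun _ => Z, υσ⟩
    have hυ := isFinite_surjective_of_graph_translates q ρ htrans g₁ (Sigma.desc υσ)
      (fun σ => by rw [Sigma.ι_desc_assoc]; exact pullback.lift_fst _ _ _)
      (fun σ => by rw [Sigma.ι_desc_assoc]; exact pullback.lift_snd _ _ _)
    obtain ⟨hfin, hsurj⟩ := hυ
    have hcl : ∀ σ, IsClosedImmersion (υσ σ) := by
      intro σ
      have h1 : IsClosedImmersion (υσ σ ≫ pullback.fst (g₁ ≫ q) q) := by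
        rw [pullback.lift_fst]
        infer_instance
      exact IsClosedImmersion.of_comp _ (pullback.fst (g₁ ≫ q) q)
    have hE₂ : Presieve.IsSheafFor F E₂.presieve₀ :=
      hF E₂ (inferInstanceAs (Finite G)) (fun σ => (inferInstance : LocallyOfFiniteType (υσ σ)))
        (fun σ => (inferInstance : QuasiCompact (υσ σ)))
        (fun σ => (inferInstance : LocallyQuasiFinite (υσ σ)))
        (univSubmersive_of_isFinite_of_surjective _)
    have hE₂' := (Presieve.isSheafFor_arrows_iff _ _).mp hE₂
    obtain ⟨t, -, ht⟩ := hE₂' (fun σ => F.map (υσ σ).op t₁) (by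
      intro i j W gi gj hij
      change F.map gi.op (F.map (υσ i).op t₁) = F.map gj.op (F.map (υσ j).op t₁)
      rw [← Functor.map_comp_apply, ← Functor.map_comp_apply, ← op_comp, ← op_comp]
      exact congrArg (fun k => F.map k.op t₁) hij)
    exact (ht t₁ (fun σ => rfl)).trans (ht t₂ (fun σ => (h σ).symm)).symm
  refine ⟨?_, ?_⟩
  · -- injectivity
    intro t₁ t₂ h
    obtain ⟨t, -, ht⟩ := hE₁' (fun _ => F.map q.op t₁) (by
      intro i j W gi gj hij
      change F.map gi.op (F.map q.op t₁) = F.map gj.op (F.map q.op t₁)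
      rw [← Functor.map_comp_apply, ← Functor.map_comp_apply, ← op_comp, ← op_comp]
      exact congrArg (fun k => F.map k.op t₁) hij)
    exact (ht t₁ (fun _ => rfl)).trans (ht t₂ (fun _ => h.symm)).symm
  · ext a
    constructor
    · rintro ⟨t, rfl⟩ g
      rw [← Functor.map_comp_apply, ← op_comp, hρ g]
    · intro ha
      have ha' : ∀ g : G, F.map (ρ g).hom.op a = a := ha
      obtain ⟨t, ht, -⟩ := hE₁' (fun _ => a) (by
        intro i j W g₁ g₂ h12
        change F.map g₁.op a = F.map g₂.op a
        replace h12 : g₁ ≫ q = g₂ ≫ q := h12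
        -- compare on `W ×_S X`
        let s : W ⟶ pullback (g₁ ≫ q) q := pullback.lift (𝟙 W) g₂ (by rw [Category.id_comp, h12])
        have hs1 : s ≫ pullback.fst (g₁ ≫ q) q = 𝟙 W := pullback.lift_fst _ _ _
        have hs2 : s ≫ pullback.snd (g₁ ≫ q) q = g₂ := pullback.lift_snd _ _ _
        have key : F.map (pullback.fst (g₁ ≫ q) q ≫ g₁).op a =
            F.map (pullback.snd (g₁ ≫ q) q).op a := by
          apply hsep g₁
          intro σ
          rw [← Functor.map_comp_apply, ← Functor.map_comp_apply, ← op_comp,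
            ← op_comp, pullback.lift_fst_assoc, Category.id_comp, pullback.lift_snd, op_comp,
            Functor.map_comp_apply, ha' σ]
        have := congrArg (F.map s.op) key
        rw [← Functor.map_comp_apply, ← Functor.map_comp_apply, ← op_comp,
          ← op_comp, reassoc_of% hs1, hs2] at this
        exact this)
      exact ⟨t, ht PUnit.unit⟩

end Groth.Agent.S13740
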