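import Groth.Statements.S13741
import Groth.Agent.Lib.Helper69.Quot5

set_option autoImplicit false
universe u
open SGA1

namespace Groth.Agent.S13741
open CategoryTheory CategoryTheory.Limits AlgebraicGeometry
open Groth.Agent.Lib.Helper69

open CategoryTheory CategoryTheory.Limits AlgebraicGeometry in
/-- Let S be a separated Noetherian scheme, q : X → S finite and surjective with X separated, and G a
finite group acting on X by S-automorphisms. Assume that G acts transitively on every fibre of q,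
that each residue field extension k(x)/k(q x) is normal, and that for each x every k(q
x)-automorphism of k(x) is induced by an element of G fixing x. Then for every algebraically closed
field Ω, any two Ω-points of X with the same composite to S are conjugate under G. -/
theorem result {X S : Scheme.{u}} [IsNoetherian S] [S.IsSeparated] [X.IsSeparated] (q : X ⟶ S) [IsFinite q] [Surjective q] {G : Type u} [Group G] [Finite G] (ρ : G →* Aut X) (hρ : ∀ g : G, (ρ g).hom ≫ q = q) (h1 : ∀ x y : X, q x = q y → ∃ g : G, (ρ g).hom x = y) (h2 : ∀ x : X, @Normal (S.residueField (q x)) (X.residueField x) _ _ (q.residueFieldMap x).hom.toAlgebra) (h3 : ∀ (x : X) (σ : X.residueField x ≅ X.residueField x), q.residueFieldMap x ≫ σ.hom = q.residueFieldMap x → ∃ g : G, X.fromSpecResidueField x ≫ (ρ g).hom = Spec.map σ.hom ≫ X.fromSpecResidueField x) (Ω : Type u) [Field Ω] [IsAlgClosed Ω] (τ₁ τ₂ : Spec (CommRingCat.of Ω) ⟶ X) (hτ : τ₁ ≫ q = τ₂ ≫ q) : ∃ g : G, τ₁ ≫ (ρ g).hom = τ₂ := by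
  set c := IsLocalRing.closedPoint Ω
  have hpt : q (τ₁ c) = q (τ₂ c) := by
    have := congrArg (fun f => f.base c) hτ
    simpa using this
  obtain ⟨g₀, hg₀⟩ := h1 _ _ hpt
  obtain ⟨x, hx⟩ : ∃ x : X, τ₂ c = x := ⟨_, rfl⟩
  have e1 : (τ₁ ≫ (ρ g₀).hom) c = x := by
    rw [Scheme.Hom.comp_apply, ← hx]; exact hg₀
  obtain ⟨φ₁, hφ₁⟩ := exists_eq_specMap_comp (τ₁ ≫ (ρ g₀).hom) x e1
  obtain ⟨φ₂, hφ₂⟩ := exists_eq_specMap_comp τ₂ x hx
  have hb : X.fromSpecResidueField x ≫ q =
      Spec.map (q.residueFieldMap x) ≫ S.fromSpecResidueField (q x) :=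
    (Scheme.Hom.SpecMap_residueFieldMap_fromSpecResidueField q x).symm
  let a := q.residueFieldMap x
  have h4 : a ≫ φ₁ = a ≫ φ₂ := by
    apply Spec.map_injective
    rw [← cancel_mono (S.fromSpecResidueField (q x)), Spec.map_comp, Spec.map_comp,
      Category.assoc, Category.assoc, ← hb, ← Category.assoc, ← Category.assoc, ← hφ₁, ← hφ₂,
      Category.assoc, hρ g₀, hτ]
  let _ : Algebra (S.residueField (q x)) (X.residueField x) := a.hom.toAlgebra
  let _ : Algebra (S.residueField (q x)) Ω := (a ≫ φ₁).hom.toAlgebra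
  have : Normal (S.residueField (q x)) (X.residueField x) := h2 x
  let ψ₁ : X.residueField x →ₐ[S.residueField (q x)] Ω :=
    { φ₁.hom with commutes' := fun _ => rfl }
  let ψ₂ : X.residueField x →ₐ[S.residueField (q x)] Ω :=
    { φ₂.hom with commutes' := fun t => (congrArg (fun f => f.hom t) h4).symm }
  obtain ⟨τ, hτ'⟩ := exists_algEquiv_comp_eq ψ₁ ψ₂
  let τc : X.residueField x ≅ X.residueField x :=
    (τ : X.residueField x ≃+* X.residueField x).toCommRingCatIso
  have hτφ : τc.hom ≫ φ₁ = φ₂ := by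
    ext t
    exact hτ' t
  have haτ : a ≫ τc.hom = a := by
    ext t
    exact τ.commutes t
  obtain ⟨g, hg⟩ := h3 x τc haτ
  refine ⟨g * g₀, ?_⟩
  rw [map_mul, Aut.Aut_mul_def, Iso.trans_hom, ← Category.assoc, hφ₁, Category.assoc, hg,
    ← Spec.map_comp_assoc, hτφ, ← hφ₂]

end Groth.Agent.S13741
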