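import Groth.Statements.S13757
import Mathlib

set_option autoImplicit false
universe u
open LabGraph

namespace Groth.Agent.S13757

/-- Let G be a finite connected multigraph (loops and multiple edges allowed) with vertex set V, edge
set E, endpoint map E → V × V and a labelling of the edges by positive integers l. A vertex
labelling φ : V → ℤ is Cartier when l(e) divides the difference of the values of φ at the two
endpoints of every edge e; its multidegree is the vertex labelling whose value at v is the sum, over
the edge-ends at v, of (value of φ at the other endpoint − φ(v)) / l(e). Then the Cartier vertex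
labellings of multidegree zero are exactly the constant ones: the kernel of the multidegree operator
on Cartier labellings is ℤ, embedded as the constants. -/
theorem result
    {V E : Type u} [Fintype V] [Fintype E] [DecidableEq V] [DecidableEq E]
    (ends : E → V × V) (l : E → ℕ) (hl : ∀ e, 0 < l e) (hconn : LabGraph.Connected ends)
    (φ : V → ℤ) (hφ : LabGraph.IsCartier ends l φ) :
    (∀ v : V, LabGraph.mdeg ends l φ v = 0) ↔ ∀ v w : V, φ v = φ w := by
  classical
  have hlpos : ∀ e, (0 : ℤ) < (l e : ℤ) := fun e => by exact_mod_cast hl e
  have hk : ∀ e, ∃ k : ℤ, φ (ends e).1 - φ (ends e).2 = (l e : ℤ) * k := fun e => hφ e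
  choose k hk using hk
  have h1 : ∀ e, (φ (ends e).2 - φ (ends e).1) / (l e : ℤ) = -k e := by
    intro e
    have : φ (ends e).2 - φ (ends e).1 = (l e : ℤ) * (-k e) := by linarith [hk e]
    rw [this, Int.mul_ediv_cancel_left _ (ne_of_gt (hlpos e))]
  have h2 : ∀ e, (φ (ends e).1 - φ (ends e).2) / (l e : ℤ) = k e := by
    intro e
    rw [hk e, Int.mul_ediv_cancel_left _ (ne_of_gt (hlpos e))]
  constructor
  · intro hm
    obtain ⟨⟨v0⟩, hpath⟩ := hconn
    obtain ⟨vm, -, hvm⟩ := Finset.exists_max_image Finset.univ φ ⟨v0, Finset.mem_univ _⟩
    have hmax : ∀ v, φ v ≤ φ vm := fun v => hvm v (Finset.mem_univ _)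
    -- propagation of maximality along edges
    have hstep : ∀ v w, φ v = φ vm → LabGraph.Adj ends v w → φ w = φ vm := by
      intro v w hv hadj
      have hmv := hm v
      unfold LabGraph.mdeg at hmv
      simp only [h1, h2] at hmv
      have hnonpos : ∀ e ∈ (Finset.univ : Finset E),
          ((if (ends e).1 = v then -k e else 0) + (if (ends e).2 = v then k e else 0)) ≤ 0 := by
        intro e _
        have ha : (if (ends e).1 = v then -k e else 0) ≤ 0 := by
          split_ifs with h
          · -- φ e.1 = φ vm, so l * k = φ vm - φ e.2 ≥ 0
            have : 0 ≤ (l e : ℤ) * k e := by
              rw [← hk e, h, hv]; linarith [hmax (ends e).2]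
            have : 0 ≤ k e := by
              by_contra hneg
              push Not at hneg
              have := mul_neg_of_pos_of_neg (hlpos e) hneg
              linarith
            linarith
          · exact le_refl _
        have hb : (if (ends e).2 = v then k e else 0) ≤ 0 := by
          split_ifs with h
          · have : (l e : ℤ) * k e ≤ 0 := by
              rw [← hk e, h, hv]; linarith [hmax (ends e).1]
            by_contra hpos
            push Not at hpos
            have := mul_pos (hlpos e) hpos
            linarith
          · exact le_refl _
        linarith
      have hzero := (Finset.sum_eq_zero_iff_of_nonpos hnonpos).mp hmv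
      obtain ⟨e, he | he⟩ := hadj
      · have h0 := hzero e (Finset.mem_univ _)
        have ha : (if (ends e).1 = v then -k e else 0) ≤ 0 := by
          have := hnonpos e (Finset.mem_univ _)
          split_ifs with h
          · have : 0 ≤ (l e : ℤ) * k e := by
              rw [← hk e, h, hv]; linarith [hmax (ends e).2]
            have : 0 ≤ k e := by
              by_contra hneg
              push Not at hneg
              have := mul_neg_of_pos_of_neg (hlpos e) hneg
              linarith
            linarith
          · exact le_refl _
        have hb : (if (ends e).2 = v then k e else 0) ≤ 0 := by
          split_ifs with h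
          · have : (l e : ℤ) * k e ≤ 0 := by
              rw [← hk e, h, hv]; linarith [hmax (ends e).1]
            by_contra hpos
            push Not at hpos
            have := mul_pos (hlpos e) hpos
            linarith
          · exact le_refl _
        have hfst : (ends e).1 = v := by rw [he]
        have hsnd : (ends e).2 = w := by rw [he]
        rw [if_pos hfst] at ha h0
        have hk0 : k e = 0 := by linarith
        have := hk e
        rw [hk0, mul_zero, hfst, hsnd] at this
        linarith
      · have h0 := hzero e (Finset.mem_univ _)
        have ha : (if (ends e).1 = v then -k e else 0) ≤ 0 := by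
          split_ifs with h
          · have : 0 ≤ (l e : ℤ) * k e := by
              rw [← hk e, h, hv]; linarith [hmax (ends e).2]
            have : 0 ≤ k e := by
              by_contra hneg
              push Not at hneg
              have := mul_neg_of_pos_of_neg (hlpos e) hneg
              linarith
            linarith
          · exact le_refl _
        have hb : (if (ends e).2 = v then k e else 0) ≤ 0 := by
          split_ifs with h
          · have : (l e : ℤ) * k e ≤ 0 := by
              rw [← hk e, h, hv]; linarith [hmax (ends e).1]
            by_contra hpos
            push Not at hpos
            have := mul_pos (hlpos e) hpos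
            linarith
          · exact le_refl _
        have hfst : (ends e).1 = w := by rw [he]
        have hsnd : (ends e).2 = v := by rw [he]
        rw [if_pos hsnd] at hb h0
        have hk0 : k e = 0 := by linarith
        have := hk e
        rw [hk0, mul_zero, hfst, hsnd] at this
        linarith
    have hall : ∀ w, φ w = φ vm := by
      intro w
      have := hpath vm w
      induction this with
      | refl => rfl
      | tail _ hbc ih => exact hstep _ _ ih hbc
    intro v w
    rw [hall v, hall w]
  · intro hconst v
    unfold LabGraph.mdeg
    apply Finset.sum_eq_zero
    intro e _
    have : φ (ends e).1 = φ (ends e).2 := hconst _ _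
    simp [this]

end Groth.Agent.S13757
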