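import Groth.Statements.S1377
import Mathlib.AlgebraicGeometry.Normalization
import Mathlib.AlgebraicGeometry.Morphisms.Integral

set_option autoImplicit false
universe u
open FlatMor

namespace Groth.Agent.S1377

open AlgebraicGeometry CategoryTheory Limits

/-- The normalization of `S` in `V` (integral over a retrocompact open `U`) restricts to `V` over `U`. -/
theorem isPullback_toNormalization {S V : Scheme.{u}} (U : S.Opens) [QuasiCompact U.ι]
    (v : V ⟶ (U : Scheme.{u})) [IsIntegralHom v] :
    IsPullback (v ≫ U.ι).toNormalization v (v ≫ U.ι).fromNormalization U.ι := by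
  have hp₁ : IsIso (pullback.fst (v ≫ U.ι) U.ι) := pullback_snd_iso_of_left_factors_mono v U.ι
  have hp : pullback.fst (v ≫ U.ι) U.ι ≫ v = pullback.snd (v ≫ U.ι) U.ι := by
    rw [← cancel_mono U.ι, Category.assoc]
    exact pullback.condition
  have : IsIntegralHom (pullback.snd (v ≫ U.ι) U.ι) := by
    rw [← hp]; infer_instance
  let φ : V ⟶ pullback (v ≫ U.ι).fromNormalization U.ι :=
    inv (pullback.fst (v ≫ U.ι) U.ι) ≫ (pullback.snd (v ≫ U.ι) U.ι).toNormalization ≫
      (v ≫ U.ι).normalizationPullback U.ι
  have : IsIso φ := by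
    dsimp only [φ]; infer_instance
  refine IsPullback.of_iso_pullback ⟨?_⟩ (asIso φ) ?_ ?_
  · rw [Scheme.Hom.toNormalization_fromNormalization]
  · simp only [asIso_hom, φ, Category.assoc, IsIso.inv_comp_eq]
    exact Scheme.Hom.toNormalization_normalizationPullback_fst _ _
  · simp only [asIso_hom, φ, Category.assoc, IsIso.inv_comp_eq, hp]
    rw [Scheme.Hom.normalizationPullback_snd, Scheme.Hom.toNormalization_fromNormalization]

open AlgebraicGeometry CategoryTheory Limits in
/-- Let S be a scheme, U ⊆ S an open subscheme whose inclusion U → S is quasi-compact (U retrocompact in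
S), and V → U a surjective integral morphism. Then there are a scheme V' and a surjective integral
morphism V' → S whose base change to U is V → U. (The published statement puts no condition on U,
and in that generality it is false: e.g. S = Spec ∏_i ℤ/4^i with U = D(2) ∪ ⋃_i D(e_i), e_i the
idempotents, and V equal to U except that over D(2) it is cut out by x = (2^i)_i. Stated here with U
→ S quasi-compact, under which hypothesis the published argument applies.) -/
theorem result {S V : Scheme.{u}} (U : S.Opens) [QuasiCompact U.ι]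
    (v : V ⟶ (U : Scheme.{u})) [IsIntegralHom v] [Surjective v] :
    ∃ (V' : Scheme.{u}) (π : V' ⟶ S) (i : V ⟶ V'), Surjective π ∧ IsIntegralHom π ∧ IsPullback i v π U.ι := by
  let Zc : TopologicalSpace.Closeds S := ⟨(U : Set S)ᶜ, U.isOpen.isClosed_compl⟩
  let I := Scheme.IdealSheafData.vanishingIdeal Zc
  have hζ : Set.range I.subschemeι = (U : Set S)ᶜ := by
    rw [Scheme.IdealSheafData.range_subschemeι, Scheme.IdealSheafData.coe_support_vanishingIdeal]
    rfl
  have hA := isPullback_toNormalization U v
  refine ⟨(v ≫ U.ι).normalization ⨿ I.subscheme,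
    coprod.desc (v ≫ U.ι).fromNormalization I.subschemeι,
    (v ≫ U.ι).toNormalization ≫ coprod.inl, ?_, ?_, ?_⟩
  · constructor
    intro s
    by_cases hs : s ∈ U
    · obtain ⟨x, hx⟩ := v.surjective ⟨s, hs⟩
      refine ⟨(coprod.inl : (v ≫ U.ι).normalization ⟶ _) ((v ≫ U.ι).toNormalization x), ?_⟩
      rw [← Scheme.Hom.comp_apply, coprod.inl_desc, ← Scheme.Hom.comp_apply,
        Scheme.Hom.toNormalization_fromNormalization, Scheme.Hom.comp_apply, hx]
      rfl
    · obtain ⟨z, hz⟩ : s ∈ Set.range I.subschemeι := hζ ▸ hs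
      refine ⟨(coprod.inr : I.subscheme ⟶ _) z, ?_⟩
      rw [← Scheme.Hom.comp_apply, coprod.inr_desc, hz]
  · infer_instance
  · have hr : ∀ (T : Scheme.{u}) (a : T ⟶ (v ≫ U.ι).normalization ⨿ I.subscheme) (b : T ⟶ (U : Scheme.{u})),
        a ≫ coprod.desc (v ≫ U.ι).fromNormalization I.subschemeι = b ≫ U.ι →
        Set.range a ⊆ Set.range (coprod.inl : (v ≫ U.ι).normalization ⟶ _) := by
      rintro T a b hab _ ⟨t, rfl⟩
      have hcompl := isCompl_range_inl_inr (v ≫ U.ι).normalization I.subscheme
      have hmem : a t ∈ Set.range (coprod.inl : (v ≫ U.ι).normalization ⟶ _) ∪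
          Set.range (coprod.inr : I.subscheme ⟶ _) := by
        have := hcompl.sup_eq_top
        change Set.range _ ∪ Set.range _ = Set.univ at this
        rw [this]
        trivial
      rcases hmem with h | ⟨z, hz⟩
      · exact h
      · exfalso
        have h1 : (coprod.desc (v ≫ U.ι).fromNormalization I.subschemeι) (a t) = U.ι (b t) := by
          rw [← Scheme.Hom.comp_apply, hab, Scheme.Hom.comp_apply]
        rw [← hz, ← Scheme.Hom.comp_apply, coprod.inr_desc] at h1
        have h2 : I.subschemeι z ∈ (U : Set S)ᶜ := hζ ▸ ⟨z, rfl⟩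
        exact h2 (h1 ▸ (b t).2)
    refine ⟨⟨by rw [Category.assoc, coprod.inl_desc, Scheme.Hom.toNormalization_fromNormalization]⟩,
      ⟨PullbackCone.IsLimit.mk _
      (fun s => hA.lift (IsOpenImmersion.lift coprod.inl s.fst (hr _ s.fst s.snd s.condition)) s.snd
        (by
          have := s.condition
          rw [← IsOpenImmersion.lift_fac coprod.inl s.fst (hr _ s.fst s.snd s.condition),
            Category.assoc, coprod.inl_desc] at this
          exact this)) ?_ ?_ ?_⟩⟩
    · intro s
      rw [← Category.assoc, hA.lift_fst, IsOpenImmersion.lift_fac]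
    · intro s
      rw [hA.lift_snd]
    · intro s m hm₁ hm₂
      apply hA.hom_ext
      · rw [hA.lift_fst, ← cancel_mono (coprod.inl : (v ≫ U.ι).normalization ⟶
            (v ≫ U.ι).normalization ⨿ I.subscheme),
          IsOpenImmersion.lift_fac, Category.assoc, hm₁]
      · rw [hA.lift_snd, hm₂]

end Groth.Agent.S1377
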