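import Groth.Statements.S13771
import Mathlib

set_option autoImplicit false
universe u v w
open PLie

namespace Groth.Agent.S13771

section helpers
variable {R : Type u} [CommRing R]
variable {L : Type v} [LieRing L] [LieAlgebra R L] {L' : Type w} [LieRing L'] [LieAlgebra R L']

lemma bracketWord_zero {ι : Type*} (x : ι → L) (l : List ι) : PLie.bracketWord x (0 : L) l = 0 := by
  induction l with
  | nil => rfl
  | cons i l ih => rw [PLie.bracketWord_cons, ih, lie_zero]

lemma map_bracketWord (h : L →ₗ⁅R⁆ L') {ι : Type*} (x : ι → L) (x₁ : L) (l : List ι) :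
    h (PLie.bracketWord x x₁ l) = PLie.bracketWord (fun i => h (x i)) (h x₁) l := by
  induction l with
  | nil => rfl
  | cons i l ih => rw [PLie.bracketWord_cons, PLie.bracketWord_cons, LieHom.map_lie, ih]

lemma map_pair (h : L →ₗ⁅R⁆ L') (a b : L) :
    (fun i => h (PLie.pair a b i)) = PLie.pair (h a) (h b) := by
  funext i
  unfold PLie.pair
  split_ifs <;> rfl

lemma map_jacobson (p : ℕ) [CharP R p] (h : L →ₗ⁅R⁆ L') (a b : L) :
    h (PLie.jacobson R p a b) = PLie.jacobson R p (h a) (h b) := by
  unfold PLie.jacobson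
  rw [map_sum]
  refine Finset.sum_congr rfl fun t _ => ?_
  rw [map_smul, map_bracketWord, map_pair]

lemma jacobson_zero_right (p : ℕ) [CharP R p] (a : L) : PLie.jacobson R p a (0 : L) = 0 := by
  unfold PLie.jacobson
  apply Finset.sum_eq_zero
  intro t _
  rw [bracketWord_zero, smul_zero]

lemma map_ad_pow (h : L →ₗ⁅R⁆ L') (x : L) (n : ℕ) (w : L) :
    h ((LieAlgebra.ad R L x ^ n) w) = (LieAlgebra.ad R L' (h x) ^ n) (h w) := by
  induction n generalizing w with
  | zero => simp
  | succ n ih =>
    rw [pow_succ', pow_succ', Module.End.mul_apply, Module.End.mul_apply, ← ih]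
    simp only [LieAlgebra.ad_apply, LieHom.map_lie]

end helpers

/-- Let R be a commutative ring of prime characteristic p, L₁ and L₂ Lie algebras over R, φ a p-mapping
on L₁ and f : L₁ → L₂ a morphism of Lie algebras whose kernel is stable under φ (a p-ideal). Then
the image f(L₁), a Lie subalgebra of L₂, carries exactly one p-mapping ψ for which the corestriction
of f to its image is a morphism of p-Lie algebras, i.e. ψ (f x) = f (φ x) for all x. -/
theorem result (R : Type u) [CommRing R] (p : ℕ) [Fact p.Prime] [CharP R p]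
    (L₁ : Type v) [LieRing L₁] [LieAlgebra R L₁] (L₂ : Type w) [LieRing L₂] [LieAlgebra R L₂]
    (φ : PLie.PMap R p L₁) (f : L₁ →ₗ⁅R⁆ L₂) (hker : ∀ x : L₁, f x = 0 → f (φ x) = 0) :
    ∃! ψ : PLie.PMap R p f.range, PLie.IsPHom φ ψ f.rangeRestrict := by
  classical
  set rr := f.rangeRestrict with hrr
  have hsurj : Function.Surjective rr := f.surjective_rangeRestrict
  have hrr_eq : ∀ x x' : L₁, rr x = rr x' ↔ f x = f x' := by
    intro x x'
    rw [hrr, LieHom.rangeRestrict_apply, LieHom.rangeRestrict_apply, Subtype.mk_eq_mk]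
  -- well-definedness
  have hwd : ∀ x x' : L₁, f x = f x' → f (φ x) = f (φ x') := by
    intro x x' hxx
    have hd : f (x - x') = 0 := by rw [map_sub, hxx, sub_self]
    have h1 : φ x = φ x' + φ (x - x') - PLie.jacobson R p x' (x - x') := by
      have := φ.map_add x' (x - x')
      rw [add_sub_cancel] at this
      exact this
    rw [h1, map_sub, map_add, hker _ hd, map_jacobson, hd, jacobson_zero_right]
    simp
  have hwd' : ∀ x x' : L₁, rr x = rr x' → rr (φ x) = rr (φ x') := by
    intro x x' h
    rw [hrr_eq] at h ⊢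
    exact hwd x x' h
  let sec : f.range → L₁ := fun y => Classical.choose (hsurj y)
  have hsec : ∀ y, rr (sec y) = y := fun y => Classical.choose_spec (hsurj y)
  let ψfun : f.range → f.range := fun y => rr (φ (sec y))
  have hψ : ∀ x : L₁, ψfun (rr x) = rr (φ x) := by
    intro x
    exact hwd' _ _ (hsec (rr x))
  let ψ : PLie.PMap R p f.range :=
    { toFun := ψfun
      map_smul := by
        intro c y
        obtain ⟨x, rfl⟩ := hsurj y
        rw [← map_smul, hψ, hψ, φ.map_smul, map_smul]
      ad_map := by
        intro y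
        obtain ⟨x, rfl⟩ := hsurj y
        ext1 z
        obtain ⟨x', rfl⟩ := hsurj z
        rw [hψ, LieAlgebra.ad_apply, ← LieHom.map_lie, ← map_ad_pow]
        congr 1
        rw [← LieAlgebra.ad_apply (R := R), φ.ad_map]
      map_add := by
        intro y y'
        obtain ⟨x, rfl⟩ := hsurj y
        obtain ⟨x', rfl⟩ := hsurj y'
        rw [← map_add, hψ, hψ, hψ, φ.map_add, map_sub, map_add, map_jacobson] }
  refine ⟨ψ, ?_, ?_⟩
  · intro x
    exact (hψ x).symm
  · intro ψ' hψ'
    have hfun : ψ'.toFun = ψ.toFun := by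
      funext y
      obtain ⟨x, rfl⟩ := hsurj y
      have := hψ' x
      show ψ'.toFun (rr x) = ψfun (rr x)
      rw [hψ]
      exact this.symm
    cases ψ'
    simp only at hfun
    subst hfun
    rfl

end Groth.Agent.S13771
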