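import Groth.Statements.S13772
import Mathlib

set_option autoImplicit false
universe u v
open PLie

namespace Groth.Agent.S13772

/-- Let R be a commutative ring of prime characteristic p and L a Lie algebra over R with a p-mapping γ.
For a map g : L → L, there is a p-mapping γ' on L with γ' x = γ x + g x for every x if and only if g
is additive, g (c • x) = c ^ p • g x for all scalars c, and every value g x lies in the centre of L.
(Both parts of the published statement at once: the difference of two p-mappings is a
Frobenius-semilinear map into the centre, and adding such a map to a p-mapping gives a p-mapping.) -/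
theorem result (R : Type u) [CommRing R] (p : ℕ) [Fact p.Prime] [CharP R p]
    (L : Type v) [LieRing L] [LieAlgebra R L] (γ : PLie.PMap R p L) (g : L → L) :
    (∃ γ' : PLie.PMap R p L, ∀ x : L, γ' x = γ x + g x) ↔
      ((∀ x y : L, g (x + y) = g x + g y) ∧ (∀ (c : R) (x : L), g (c • x) = c ^ p • g x) ∧
        ∀ x : L, g x ∈ LieAlgebra.center R L) := by
  constructor
  · rintro ⟨γ', hγ'⟩
    refine ⟨?_, ?_, ?_⟩
    · intro x y
      have h1 := γ'.map_add x y
      have h2 := γ.map_add x y
      rw [hγ', hγ', hγ', h2] at h1
      have : g (x + y) = (γ x + γ y - PLie.jacobson R p x y + g (x + y)) - (γ x + γ y - PLie.jacobson R p x y) := by abel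
      rw [this, h1]
      abel
    · intro c x
      have h1 := γ'.map_smul c x
      have h2 := γ.map_smul c x
      rw [hγ', hγ', h2, smul_add] at h1
      exact add_left_cancel h1
    · intro x
      rw [LieModule.mem_maxTrivSubmodule]
      intro z
      have h1 := γ'.ad_map x
      have h2 := γ.ad_map x
      rw [← h2, hγ'] at h1
      have h3 := LinearMap.congr_fun h1 z
      simp only [LieAlgebra.ad_apply, add_lie] at h3
      have h4 : ⁅g x, z⁆ = 0 := by
        have : ⁅γ x, z⁆ + ⁅g x, z⁆ = ⁅γ x, z⁆ + 0 := by rw [h3, add_zero]
        exact add_left_cancel this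
      rw [← lie_skew, h4, neg_zero]
  · rintro ⟨hadd, hsmul, hcen⟩
    have hcen' : ∀ x z : L, ⁅g x, z⁆ = 0 := by
      intro x z
      have := hcen x
      rw [LieModule.mem_maxTrivSubmodule] at this
      rw [← lie_skew, this z, neg_zero]
    refine ⟨⟨fun x => γ x + g x, ?_, ?_, ?_⟩, fun x => rfl⟩
    · intro c x
      have h2 := γ.map_smul c x
      rw [h2, hsmul, smul_add]
    · intro x
      have h2 := γ.ad_map x
      rw [← h2]
      ext z
      simp only [LieAlgebra.ad_apply, add_lie, hcen', add_zero]
    · intro x y
      have h2 := γ.map_add x y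
      rw [h2, hadd]
      abel

end Groth.Agent.S13772
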