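import Groth.Statements.S13775
import Mathlib

set_option autoImplicit false
universe u v
open PLie

namespace Groth.Agent.S13775

/-- Let R be a commutative ring of prime characteristic p and L a Lie algebra over R, free as a module
with basis x = bs 0, y = bs 1, z = bs 2 and brackets [x,y] = y, [x,z] = y + z, [y,z] = 0. Then L
carries no p-mapping. (The published statement is the corresponding entry of the classification
table of three-dimensional Lie algebras over an algebraically closed field of characteristic p; this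
row states it over every commutative ring of characteristic p.) -/
theorem result (R : Type u) [CommRing R] (p : ℕ) [Fact p.Prime] [CharP R p]
    (L : Type v) [LieRing L] [LieAlgebra R L] (bs : Module.Basis (Fin 3) R L)
    (hxy : ⁅bs 0, bs 1⁆ = bs 1) (hxz : ⁅bs 0, bs 2⁆ = bs 1 + bs 2) (hyz : ⁅bs 1, bs 2⁆ = 0) :
    IsEmpty (PLie.PMap R p L) := by
  classical
  refine ⟨fun γ => ?_⟩
  have hp : p.Prime := Fact.out
  have : Nontrivial R := CharP.nontrivial_of_char_ne_one (v := p) hp.ne_one
  set x := bs 0 with hx
  set y := bs 1 with hy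
  set z := bs 2 with hz
  set w := γ x with hw
  have had : ∀ v : L, ⁅w, v⁆ = (LieAlgebra.ad R L x ^ p) v := by
    intro v
    rw [← γ.ad_map x, LieAlgebra.ad_apply]
  -- powers of ad x
  have hpy : ∀ n : ℕ, (LieAlgebra.ad R L x ^ n) y = y := by
    intro n
    induction n with
    | zero => simp
    | succ n ih => rw [pow_succ, Module.End.mul_apply, LieAlgebra.ad_apply, hxy, ih]
  have hpz : ∀ n : ℕ, (LieAlgebra.ad R L x ^ n) z = z + (n : R) • y := by
    intro n
    induction n with
    | zero => simp
    | succ n ih =>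
      rw [pow_succ, Module.End.mul_apply, LieAlgebra.ad_apply, hxz, map_add, ih, hpy]
      push_cast
      rw [add_smul, one_smul]
      abel
  have hpz' : (LieAlgebra.ad R L x ^ p) z = z := by
    rw [hpz, CharP.cast_eq_zero R p, zero_smul, add_zero]
  -- expansion of w
  obtain ⟨c0, c1, c2, hwsum⟩ : ∃ c0 c1 c2 : R, w = c0 • x + c1 • y + c2 • z :=
    ⟨_, _, _, by conv_lhs => rw [← bs.sum_repr w, Fin.sum_univ_three]⟩
  have hyx : ⁅y, x⁆ = -y := by rw [← lie_skew, hxy]
  have hzx : ⁅z, x⁆ = -(y + z) := by rw [← lie_skew, hxz]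
  have hzy : ⁅z, y⁆ = 0 := by rw [← lie_skew, hyz, neg_zero]
  have e1 : ⁅w, y⁆ = c0 • y := by
    rw [hwsum]
    simp only [add_lie, smul_lie, hxy, lie_self, hzy, smul_zero, add_zero]
  have e2 : ⁅w, z⁆ = c0 • (y + z) := by
    rw [hwsum]
    simp only [add_lie, smul_lie, hxz, lie_self, hyz, smul_zero, add_zero]
  rw [had, hpy] at e1
  rw [had, hpz'] at e2
  have c1 := congrArg (fun v => bs.repr v 1) e1
  have c2 := congrArg (fun v => bs.repr v 1) e2
  simp [hy, hz] at c1 c2
  rw [← c1] at c2
  exact one_ne_zero c2.symm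

end Groth.Agent.S13775
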