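import Groth.Statements.S13776
import Groth.Agent.Lib.Helper99.PLieJac

set_option autoImplicit false
universe u v
open PLie

namespace Groth.Agent.S13776

/-- Let R be a commutative ring of prime characteristic p, t ∈ R, and L a Lie algebra over R, free as a
module with basis x = bs 0, y = bs 1, z = bs 2 and brackets [x,y] = y, [x,z] = t • z, [y,z] = 0.
Then L carries a p-mapping if and only if t ^ p = t. (The published statement is the corresponding
entry of the classification table over an algebraically closed field of characteristic p, where the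
condition reads: t lies in the prime field; this row states it over every commutative ring of
characteristic p.) -/
theorem result (R : Type u) [CommRing R] (p : ℕ) [Fact p.Prime] [CharP R p] (t : R)
    (L : Type v) [LieRing L] [LieAlgebra R L] (bs : Module.Basis (Fin 3) R L)
    (hxy : ⁅bs 0, bs 1⁆ = bs 1) (hxz : ⁅bs 0, bs 2⁆ = t • bs 2) (hyz : ⁅bs 1, bs 2⁆ = 0) :
    Nonempty (PLie.PMap R p L) ↔ t ^ p = t := by
  have hpp : p.Prime := Fact.out
  have hp2 : 2 ≤ p := hpp.two_le
  have hyx : ⁅bs 1, bs 0⁆ = - bs 1 := by rw [← lie_skew, hxy]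
  have hzx : ⁅bs 2, bs 0⁆ = - (t • bs 2) := by rw [← lie_skew, hxz]
  have hzy : ⁅bs 2, bs 1⁆ = 0 := by rw [← lie_skew, hyz, neg_zero]
  have hxn1 : ∀ n : ℕ, (LieAlgebra.ad R L (bs 0) ^ n) (bs 1) = bs 1 := by
    intro n
    induction n with
    | zero => simp
    | succ n ih => rw [pow_succ, Module.End.mul_apply, LieAlgebra.ad_apply, hxy, ih]
  have hxn2 : ∀ n : ℕ, (LieAlgebra.ad R L (bs 0) ^ n) (bs 2) = t ^ n • bs 2 := by
    intro n
    induction n with
    | zero => simp
    | succ n ih =>
      rw [pow_succ, Module.End.mul_apply, LieAlgebra.ad_apply, hxz, map_smul, ih, smul_smul,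
        pow_succ, mul_comm]
  have hxn0 : ∀ n : ℕ, (LieAlgebra.ad R L (bs 0) ^ (n + 1)) (bs 0) = 0 := by
    intro n
    rw [pow_succ, Module.End.mul_apply, LieAlgebra.ad_apply, lie_self, map_zero]
  constructor
  · rintro ⟨φ⟩
    have h := φ.ad_map (bs 0)
    obtain ⟨w, hw⟩ : ∃ w, w = φ.toFun (bs 0) := ⟨_, rfl⟩
    rw [← hw] at h
    have hwexp := bs.sum_repr w
    rw [Fin.sum_univ_three] at hwexp
    have h1 := LinearMap.congr_fun h (bs 1)
    have h2 := LinearMap.congr_fun h (bs 2)
    rw [hxn1, LieAlgebra.ad_apply, ← hwexp] at h1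
    rw [hxn2, LieAlgebra.ad_apply, ← hwexp] at h2
    simp only [add_lie, smul_lie, hxy, hxz, hyz, hzy, lie_self, smul_zero, add_zero] at h1 h2
    have hα : bs.repr w 0 = 1 := by
      have := congrArg (fun u => bs.repr u 1) h1
      simpa using this
    have := congrArg (fun u => bs.repr u 2) h2
    simp only [map_smul, Finsupp.smul_apply, bs.repr_self, Finsupp.single_eq_same, smul_eq_mul,
      mul_one, hα, one_mul] at this
    exact this.symm
  · intro ht
    have hy2 : LieAlgebra.ad R L (bs 1) ^ 2 = 0 := by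
      refine bs.ext fun i => ?_
      fin_cases i <;>
        simp [pow_succ, Module.End.mul_apply, LieAlgebra.ad_apply, hyx, hyz]
    have hz2 : LieAlgebra.ad R L (bs 2) ^ 2 = 0 := by
      refine bs.ext fun i => ?_
      fin_cases i <;>
        simp [pow_succ, Module.End.mul_apply, LieAlgebra.ad_apply, hzx, hzy]
    obtain ⟨φ, -⟩ := Groth.Agent.Lib.Helper99.PLieJac.exists_pmap_of_basis R p L bs
      (fun i => ![bs 0, 0, 0] i) (fun i => by
        fin_cases i
        · show LieAlgebra.ad R L (bs 0) ^ p = LieAlgebra.ad R L (bs 0)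
          refine bs.ext fun j => ?_
          fin_cases j
          · show (LieAlgebra.ad R L (bs 0) ^ p) (bs 0) = LieAlgebra.ad R L (bs 0) (bs 0)
            rw [show p = (p - 1) + 1 by omega, hxn0, LieAlgebra.ad_apply, lie_self]
          · show (LieAlgebra.ad R L (bs 0) ^ p) (bs 1) = LieAlgebra.ad R L (bs 0) (bs 1)
            rw [hxn1, LieAlgebra.ad_apply, hxy]
          · show (LieAlgebra.ad R L (bs 0) ^ p) (bs 2) = LieAlgebra.ad R L (bs 0) (bs 2)
            rw [hxn2, LieAlgebra.ad_apply, hxz, ht]
        · show LieAlgebra.ad R L (bs 1) ^ p = LieAlgebra.ad R L 0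
          rw [show p = 2 + (p - 2) by omega, pow_add, hy2, zero_mul, map_zero]
        · show LieAlgebra.ad R L (bs 2) ^ p = LieAlgebra.ad R L 0
          rw [show p = 2 + (p - 2) by omega, pow_add, hz2, zero_mul, map_zero])
    exact ⟨φ⟩

end Groth.Agent.S13776
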