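import Groth.Statements.S13777
import Mathlib

set_option autoImplicit false
universe u v
open PLie

namespace Groth.Agent.S13777

/-- Let R be a commutative ring of characteristic 2 and L a Lie algebra over R, free as a module with
basis x = bs 0, y = bs 1, z = bs 2 and brackets [x,y] = z, [x,z] = −x, [y,z] = y. Then L carries no
2-mapping. (The published statement is the corresponding entry of the classification table over an
algebraically closed field of characteristic 2; this row states it over every commutative ring of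
characteristic 2.) -/
theorem result (R : Type u) [CommRing R] [CharP R 2]
    (L : Type v) [LieRing L] [LieAlgebra R L] (bs : Module.Basis (Fin 3) R L)
    (hxy : ⁅bs 0, bs 1⁆ = bs 2) (hxz : ⁅bs 0, bs 2⁆ = -bs 0) (hyz : ⁅bs 1, bs 2⁆ = bs 1) :
    IsEmpty (PLie.PMap R 2 L) := by
  classical
  refine ⟨fun γ => ?_⟩
  have : Nontrivial R := CharP.nontrivial_of_char_ne_one (v := 2) (by norm_num)
  set x := bs 0 with hx
  set y := bs 1 with hy
  set z := bs 2 with hz
  set w := γ x with hw
  have had : ∀ v : L, ⁅w, v⁆ = (LieAlgebra.ad R L x ^ 2) v := by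
    intro v
    rw [← γ.ad_map x, LieAlgebra.ad_apply]
  have hsq : (LieAlgebra.ad R L x ^ 2) y = -x := by
    rw [pow_two, Module.End.mul_apply, LieAlgebra.ad_apply, LieAlgebra.ad_apply, hxy, hxz]
  obtain ⟨c0, c1, c2, hwsum⟩ : ∃ c0 c1 c2 : R, w = c0 • x + c1 • y + c2 • z :=
    ⟨_, _, _, by conv_lhs => rw [← bs.sum_repr w, Fin.sum_univ_three]⟩
  have hzy : ⁅z, y⁆ = -y := by rw [← lie_skew, hyz]
  have e1 : ⁅w, y⁆ = c0 • z + c2 • (-y) := by
    rw [hwsum]
    simp only [add_lie, smul_lie, hxy, lie_self, hzy, smul_zero, add_zero]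
  rw [had, hsq] at e1
  have c := congrArg (fun v => bs.repr v 0) e1
  simp [hx, hy, hz] at c

end Groth.Agent.S13777
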