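import Groth.Statements.S13778
import Groth.Agent.Lib.Helper99.PLieLt

set_option autoImplicit false
universe u v
open PLie

namespace Groth.Agent.S13778

open DualNumber in
/-- Let K be a field of prime characteristic p, K[ε] the ring of dual numbers (taken with its
characteristic-p structure), t ∈ K with t ^ p = t (an element of the prime field), and a, …, i ∈ K.
Let L be a Lie algebra over K[ε], free as a module with basis x = bs 0, y = bs 1, z = bs 2 and
brackets [x,y] = aε x + (1 + bε) y + cε z, [x,z] = dε x + eε y + (t + fε) z, [y,z] = gε x + hε y +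
iε z. Then L carries a p-mapping over K[ε] if and only if b t = f, c = e = 0 when t = 1, and g = 0
when p = 2. (The published statement determines the singular locus of the restrictable locus in the
centreless stratum of the moduli scheme of based three-dimensional Lie algebras, for t non-zero, and
the rank-one-centre stratum treats t = 0; this row states the restrictability criterion for the
first-order deformations of l_t that the proofs compute, over any field of characteristic p in place
of the prime field and for every t in the prime field.) -/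
theorem result (K : Type u) [Field K] (p : ℕ) [Fact p.Prime] [CharP K p]
    [CharP (DualNumber K) p] (t a b c d e f g h i : K) (ht : t ^ p = t)
    (L : Type v) [LieRing L] [LieAlgebra (DualNumber K) L] (bs : Module.Basis (Fin 3) (DualNumber K) L)
    (hxy : ⁅bs 0, bs 1⁆ = (a • ε : DualNumber K) • bs 0 + (1 + b • ε : DualNumber K) • bs 1 + (c • ε : DualNumber K) • bs 2)
    (hxz : ⁅bs 0, bs 2⁆ = (d • ε : DualNumber K) • bs 0 + (e • ε : DualNumber K) • bs 1 +
      (algebraMap K (DualNumber K) t + f • ε) • bs 2)
    (hyz : ⁅bs 1, bs 2⁆ = (g • ε : DualNumber K) • bs 0 + (h • ε : DualNumber K) • bs 1 + (i • ε : DualNumber K) • bs 2) :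
    Nonempty (PLie.PMap (DualNumber K) p L) ↔ (b * t = f ∧ (t = 1 → c = 0 ∧ e = 0) ∧ (p = 2 → g = 0)) := by
  have hpp : p.Prime := Fact.out
  have hsm : ∀ r : K, (r • ε : DualNumber K) = algebraMap K (DualNumber K) r * ε :=
    fun r => Algebra.smul_def r _
  have hz : ∀ r : K, algebraMap K (DualNumber K) r * ε = 0 ↔ r = 0 := by
    intro r
    rw [← hsm]
    constructor
    · intro h0
      have := congrArg TrivSqZeroExt.snd h0
      simpa using this
    · rintro rfl
      rw [zero_smul]
  simp only [hsm] at hxy hxz hyz
  have hτ : (algebraMap K (DualNumber K) t) ^ p = algebraMap K (DualNumber K) t := by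
    rw [← map_pow, ht]
  rw [Groth.Agent.Lib.Helper99.PLieLt.lt_iff p (ε : DualNumber K) (algebraMap K (DualNumber K) t)
    _ _ _ _ _ _ _ _ _ DualNumber.eps_mul_eps hτ bs hxy hxz hyz]
  -- the geometric sum
  have hσ1 : t = 1 → ∑ j ∈ Finset.range p, t ^ j = 0 := by
    rintro rfl
    simp [CharP.cast_eq_zero]
  have hσ2 : t ≠ 1 → ∑ j ∈ Finset.range p, t ^ j = 1 := by
    intro h1
    have h2 := geom_sum_mul t p
    rw [ht] at h2
    have h3 : t - 1 ≠ 0 := sub_ne_zero.mpr h1
    exact mul_right_cancel₀ h3 (by rw [h2, one_mul])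
  have e1 : (algebraMap K (DualNumber K) f - algebraMap K (DualNumber K) b *
      algebraMap K (DualNumber K) t) * ε = 0 ↔ b * t = f := by
    rw [← map_mul, ← map_sub, hz, sub_eq_zero, eq_comm]
  have e2 : ∀ r : K, (1 - ∑ j ∈ Finset.range p, (algebraMap K (DualNumber K) t) ^ j) *
      algebraMap K (DualNumber K) r * ε = 0 ↔ (t = 1 → r = 0) := by
    intro r
    have : (1 - ∑ j ∈ Finset.range p, (algebraMap K (DualNumber K) t) ^ j) *
        algebraMap K (DualNumber K) r =
        algebraMap K (DualNumber K) ((1 - ∑ j ∈ Finset.range p, t ^ j) * r) := by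
      simp only [map_mul, map_sub, map_one, map_sum, map_pow]
    rw [this, hz]
    by_cases h1 : t = 1
    · rw [hσ1 h1, sub_zero, one_mul]
      exact ⟨fun h _ => h, fun h => h h1⟩
    · rw [hσ2 h1, sub_self, zero_mul]
      exact ⟨fun _ h => absurd h h1, fun _ => rfl⟩
  rw [e1, e2, e2]
  simp only [hz]
  constructor
  · rintro ⟨h1, h2, h3, h4⟩
    exact ⟨h1, fun ht1 => ⟨h2 ht1, h3 ht1⟩, h4⟩
  · rintro ⟨h1, h2, h4⟩
    exact ⟨h1, fun ht1 => (h2 ht1).1, fun ht1 => (h2 ht1).2, h4⟩

end Groth.Agent.S13778
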