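import Groth.Statements.S13779
import Groth.Agent.Lib.Helper99.PLieJac

set_option autoImplicit false
universe u v
open PLie

namespace Groth.Agent.S13779

/-- Let p be an odd prime, R a commutative ring of characteristic p, t ∈ R, and L a Lie algebra over R,
free as a module with basis x = bs 0, y = bs 1, z = bs 2 and brackets [x,y] = z, [x,z] = t • y,
[y,z] = 0. Then L carries a p-mapping φ with φ x = t ^ ((p - 1) / 2) • x, φ y = 0 and φ z = 0. (The
published statement concerns the Lie algebra with these brackets over a field of Laurent series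
k((t)), k algebraically closed of odd characteristic, t the variable; this row states its
restrictability over every commutative ring of odd prime characteristic and every t.) -/
theorem result (R : Type u) [CommRing R] (p : ℕ) [Fact p.Prime] [CharP R p] (hp : p ≠ 2)
    (t : R) (L : Type v) [LieRing L] [LieAlgebra R L] (bs : Module.Basis (Fin 3) R L)
    (hxy : ⁅bs 0, bs 1⁆ = bs 2) (hxz : ⁅bs 0, bs 2⁆ = t • bs 1) (hyz : ⁅bs 1, bs 2⁆ = 0) :
    ∃ φ : PLie.PMap R p L, φ (bs 0) = t ^ ((p - 1) / 2) • bs 0 ∧ φ (bs 1) = 0 ∧ φ (bs 2) = 0 := by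
  have hpp : p.Prime := Fact.out
  have hyx : ⁅bs 1, bs 0⁆ = - bs 2 := by rw [← lie_skew, hxy]
  have hzx : ⁅bs 2, bs 0⁆ = - (t • bs 1) := by rw [← lie_skew, hxz]
  have hzy : ⁅bs 2, bs 1⁆ = 0 := by rw [← lie_skew, hyz, neg_zero]
  -- (ad x)^3 = t • ad x
  have h3 : LieAlgebra.ad R L (bs 0) ^ 3 = t • LieAlgebra.ad R L (bs 0) := by
    refine bs.ext fun i => ?_
    fin_cases i <;>
      simp [pow_succ, Module.End.mul_apply, LieAlgebra.ad_apply, hxy, hxz, lie_smul, smul_smul]
  have hodd : ∀ k : ℕ, LieAlgebra.ad R L (bs 0) ^ (2 * k + 1) = t ^ k • LieAlgebra.ad R L (bs 0) := by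
    intro k
    induction k with
    | zero => simp
    | succ k ih =>
      rw [show 2 * (k + 1) + 1 = 2 + (2 * k + 1) by ring, pow_add, ih, mul_smul_comm, ← pow_succ,
        h3, smul_smul, ← pow_succ]
  have hy2 : LieAlgebra.ad R L (bs 1) ^ 2 = 0 := by
    refine bs.ext fun i => ?_
    fin_cases i <;>
      simp [pow_succ, Module.End.mul_apply, LieAlgebra.ad_apply, hyx, hyz]
  have hz2 : LieAlgebra.ad R L (bs 2) ^ 2 = 0 := by
    refine bs.ext fun i => ?_
    fin_cases i <;>
      simp [pow_succ, Module.End.mul_apply, LieAlgebra.ad_apply, hzx, hzy, lie_smul]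
  have hp2 : 2 ≤ p := hpp.two_le
  have hpodd : p = 2 * ((p - 1) / 2) + 1 := by
    rcases hpp.eq_two_or_odd with h | h
    · exact absurd h hp
    · omega
  obtain ⟨φ, hφ⟩ := Groth.Agent.Lib.Helper99.PLieJac.exists_pmap_of_basis R p L bs
    (fun i => ![t ^ ((p - 1) / 2) • bs 0, 0, 0] i) (fun i => by
      fin_cases i
      · show LieAlgebra.ad R L (bs 0) ^ p = LieAlgebra.ad R L (t ^ ((p - 1) / 2) • bs 0)
        conv_lhs => rw [hpodd]
        rw [hodd, map_smul]
      · show LieAlgebra.ad R L (bs 1) ^ p = LieAlgebra.ad R L 0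
        rw [show p = 2 + (p - 2) by omega, pow_add, hy2, zero_mul, map_zero]
      · show LieAlgebra.ad R L (bs 2) ^ p = LieAlgebra.ad R L 0
        rw [show p = 2 + (p - 2) by omega, pow_add, hz2, zero_mul, map_zero])
  exact ⟨φ, hφ 0, hφ 1, hφ 2⟩

end Groth.Agent.S13779
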