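import Groth.Statements.S13781
import Mathlib
import Groth.Agent.S4588
import Groth.Agent.Lib.Helper47.RegularQuotient

set_option autoImplicit false
universe u
open CAlg

namespace Groth.Agent.S13781

/-- Let A be a regular local ring, s a non-zero element of A such that A/(s) is regular, and e a
positive integer invertible in A. Then A[t]/(t^e - s) is regular. (Regularity of a ring is taken
throughout as: Noetherian, with every localization at a prime ideal a regular local ring; the
hypotheses on A and on A/(s) and the conclusion on A[t]/(t^e - s) are all read this way, which for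
the local rings A and A/(s) is the usual notion once localizations of regular local rings are known
to be regular.) -/
theorem result (A : Type u) [CommRing A] [IsLocalRing A]
    [IsRegularRing A] (s : A) (hs : s ≠ 0) (hreg : IsRegularRing (A ⧸ Ideal.span {s}))
    (e : ℕ) (he : 0 < e) (heu : IsUnit (e : A)) :
    IsRegularRing (AdjoinRoot (Polynomial.X ^ e - Polynomial.C s)) := by
  classical
  have hA : IsRegularLocalRing A := IsRegularLocalRing.of_isRegularRing_of_isLocalRing A
  by_cases hcase : IsUnit s ∨ e = 1
  · -- derivation criterion
    let D : Derivation ℤ (Polynomial A) (Polynomial A) :=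
      (Polynomial.derivative' : Derivation A (Polynomial A) (Polynomial A)).restrictScalars ℤ
    have hDf : D (Polynomial.X ^ e - Polynomial.C s) =
        Polynomial.C (e : A) * Polynomial.X ^ (e - 1) := by
      show Polynomial.derivative (Polynomial.X ^ e - Polynomial.C s) = _
      rw [Polynomial.derivative_sub, Polynomial.derivative_C, sub_zero,
        Polynomial.derivative_X_pow]
    have hunit : IsUnit (Ideal.Quotient.mk (Ideal.span {Polynomial.X ^ e - Polynomial.C s})
        (D (Polynomial.X ^ e - Polynomial.C s))) := by
      rw [hDf, map_mul, map_pow]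
      refine IsUnit.mul ?_ ?_
      · have h1 : (Ideal.Quotient.mk (Ideal.span {Polynomial.X ^ e - Polynomial.C s}))
            (Polynomial.C (e : A)) =
            ((Ideal.Quotient.mk (Ideal.span {Polynomial.X ^ e - Polynomial.C s})).comp
              Polynomial.C) (e : A) := rfl
        rw [h1]
        exact heu.map _
      · rcases hcase with hs' | he1
        · apply IsUnit.pow
          have h2 : (Ideal.Quotient.mk (Ideal.span {Polynomial.X ^ e - Polynomial.C s}))
              Polynomial.X ^ e =
              ((Ideal.Quotient.mk (Ideal.span {Polynomial.X ^ e - Polynomial.C s})).comp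
                Polynomial.C) s := by
            rw [RingHom.comp_apply, ← map_pow, ← sub_eq_zero, ← map_sub]
            exact Ideal.Quotient.eq_zero_iff_mem.mpr (Ideal.subset_span rfl)
          have h3 : IsUnit ((Ideal.Quotient.mk (Ideal.span {Polynomial.X ^ e - Polynomial.C s}))
              Polynomial.X ^ e) := by rw [h2]; exact hs'.map _
          exact (isUnit_pow_iff (Nat.pos_iff_ne_zero.mp he)).mp h3
        · rw [he1]
          simp
    exact Groth.Agent.Lib.Helper47.isRegularRing_quotient_span_singleton_of_derivation _ D hunit
  · -- Eisenstein case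
    push Not at hcase
    obtain ⟨hsu, he1⟩ := hcase
    have he2 : 2 ≤ e := by omega
    have hsm : s ∈ IsLocalRing.maximalIdeal A := (IsLocalRing.mem_maximalIdeal s).mpr hsu
    have hsq : s ∉ IsLocalRing.maximalIdeal A ^ 2 := by
      intro hs2
      have hne : Ideal.span ({s} : Set A) ≠ ⊤ := by
        intro htop
        have hle : Ideal.span ({s} : Set A) ≤ IsLocalRing.maximalIdeal A :=
          (Ideal.span_singleton_le_iff_mem _).mpr hsm
        rw [htop] at hle
        exact (IsLocalRing.maximalIdeal.isMaximal A).ne_top (top_le_iff.mp hle)
      have hloc : IsLocalRing (A ⧸ Ideal.span ({s} : Set A)) :=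
        Groth.Agent.Lib.Helper85.isLocalRing_quotient _ hne
      have hregl : IsRegularLocalRing (A ⧸ Ideal.span ({s} : Set A)) :=
        IsRegularLocalRing.of_isRegularRing_of_isLocalRing _
      have hbot := Groth.Agent.Lib.Helper85.eq_bot_of_le_sq_of_quotient_regular
        (Ideal.span ({s} : Set A)) hregl ((Ideal.span_singleton_le_iff_mem _).mpr hs2)
      exact hs (Ideal.span_singleton_eq_bot.mp hbot)
    -- apply the Eisenstein criterion
    let c : Fin 1 → ℕ → A := fun _ k => if k = 0 then -s else 0
    have hc : ∀ i k, c i k ∈ IsLocalRing.maximalIdeal A := by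
      intro i k
      simp only [c]
      split_ifs
      · exact neg_mem hsm
      · exact Ideal.zero_mem _
    have hmain := Groth.Agent.S4588.result (A := A) (r := 1) (fun _ => e) (fun _ => he2) c hc
    simp only at hmain
    obtain ⟨-, -, hiff⟩ := hmain
    have hli : LinearIndependent (IsLocalRing.ResidueField A)
        (fun i => (IsLocalRing.maximalIdeal A).toCotangent ⟨c i 0, hc i 0⟩) := by
      rw [linearIndependent_unique_iff]
      intro h0
      rw [Ideal.toCotangent_eq_zero] at h0
      have h1 : (c default 0 : A) = -s := by simp [c]
      have h0' : (c default 0 : A) ∈ IsLocalRing.maximalIdeal A ^ 2 := h0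
      rw [h1] at h0'
      exact hsq (by simpa using neg_mem h0')
    have hreg' := hiff.mpr hli
    -- transfer along the isomorphism
    let Φ : MvPolynomial (Fin 1) A ≃+* Polynomial A :=
      (MvPolynomial.uniqueAlgEquiv A (Fin 1)).toRingEquiv
    have hΦX : ∀ i, Φ (MvPolynomial.X i) = Polynomial.X := by
      intro i
      show MvPolynomial.eval₂ Polynomial.C (fun _ => Polynomial.X) (MvPolynomial.X i) = _
      rw [MvPolynomial.eval₂_X]
    have hΦC : ∀ a, Φ (MvPolynomial.C a) = Polynomial.C a := by
      intro a
      show MvPolynomial.eval₂ Polynomial.C (fun _ => Polynomial.X) (MvPolynomial.C a) = _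
      rw [MvPolynomial.eval₂_C]
    have hF : Φ (MvPolynomial.X 0 ^ e + ∑ k ∈ Finset.range e,
        MvPolynomial.C (c 0 k) * MvPolynomial.X 0 ^ k) = Polynomial.X ^ e - Polynomial.C s := by
      rw [map_add, map_pow, map_sum, hΦX]
      rw [Finset.sum_eq_single 0]
      · rw [map_mul, map_pow, hΦX, hΦC, pow_zero, mul_one]
        have h1 : (c 0 0 : A) = -s := by simp [c]
        rw [h1, map_neg, sub_eq_add_neg]
      · intro k _ hk
        have h1 : (c 0 k : A) = 0 := by simp [c, hk]
        rw [h1, map_zero, zero_mul, map_zero]
      · intro h; exfalso; apply h; rw [Finset.mem_range]; omega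
    have hideal : Ideal.span {Polynomial.X ^ e - Polynomial.C s} =
        (Ideal.span (Set.range fun i : Fin 1 => MvPolynomial.X i ^ e + ∑ k ∈ Finset.range e,
          MvPolynomial.C (c i k) * MvPolynomial.X i ^ k)).map (Φ : MvPolynomial (Fin 1) A →+* _) := by
      rw [Ideal.map_span]
      congr 1
      ext y
      constructor
      · intro hy
        rw [Set.mem_singleton_iff] at hy
        exact ⟨_, ⟨0, rfl⟩, by rw [hy]; exact hF⟩
      · rintro ⟨_, ⟨i, rfl⟩, rfl⟩
        rw [Set.mem_singleton_iff, Subsingleton.elim i 0]
        exact hF
    exact IsRegularRing.of_ringEquiv (Ideal.quotientEquiv _ _ Φ hideal)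

end Groth.Agent.S13781
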