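import Groth.Statements.S13782
import Mathlib
import Groth.Agent.S1535
import Groth.Agent.S0558

set_option autoImplicit false
universe u
open CAlg

namespace Groth.Agent.S13782

open scoped TensorProduct
open Polynomial KaehlerDifferential

section partA
variable (k A : Type u) [Field k] [CommRing A] [Algebra k A] (s : A)

/-- an irreducible element of a smooth algebra over a field is a non-zero-divisor -/
theorem mem_nonZeroDivisors_of_irreducible [Algebra.Smooth k A] (hs : Irreducible s) :
    s ∈ nonZeroDivisors A := by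
  classical
  have hfp : Algebra.FinitePresentation k A := Algebra.Smooth.finitePresentation
  have hft : Algebra.FiniteType k A := inferInstance
  have hnoeth : IsNoetherianRing A := Algebra.FiniteType.isNoetherianRing k A
  set Z : Ideal A := (Ideal.span {s}).annihilator with hZ
  have hZmem : ∀ z, z ∈ Z ↔ z * s = 0 := by
    intro z
    rw [hZ, Submodule.mem_annihilator_span_singleton, smul_eq_mul]
  set Z' : Ideal A := Z.annihilator with hZ'
  have hsup : Z ⊔ Z' = ⊤ := by
    by_contra hne
    obtain ⟨𝔪, hmax, hle⟩ := Ideal.exists_le_maximal _ hne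
    have hprime : 𝔪.IsPrime := hmax.isPrime
    have hreg : IsRegularLocalRing (Localization.AtPrime 𝔪) :=
      Groth.Agent.S1535.isRegularLocalRing_atPrime_of_smooth k A 𝔪
    have hdom : IsDomain (Localization.AtPrime 𝔪) := Groth.Agent.S0558.result _
    by_cases h0 : algebraMap A (Localization.AtPrime 𝔪) s = 0
    · rw [IsLocalization.map_eq_zero_iff 𝔪.primeCompl] at h0
      obtain ⟨u, hu⟩ := h0
      have : (u : A) ∈ Z := by rw [hZmem]; exact hu
      exact u.2 (hle (Ideal.mem_sup_left this))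
    · -- every element of Z is killed by some element outside 𝔪
      have hkill : ∀ z ∈ Z, ∃ u : 𝔪.primeCompl, (u : A) * z = 0 := by
        intro z hz
        have h1 : algebraMap A (Localization.AtPrime 𝔪) z *
            algebraMap A (Localization.AtPrime 𝔪) s = 0 := by
          rw [← map_mul, (hZmem z).mp hz, map_zero]
        have h2 : algebraMap A (Localization.AtPrime 𝔪) z = 0 :=
          (mul_eq_zero.mp h1).resolve_right h0
        rwa [IsLocalization.map_eq_zero_iff 𝔪.primeCompl] at h2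
      obtain ⟨T, hT⟩ := (isNoetherianRing_iff_ideal_fg A).mp hnoeth Z
      have hTZ : ∀ z ∈ T, z ∈ Z := fun z hz => hT ▸ Ideal.subset_span hz
      choose! u hu using hkill
      let U : A := ∏ z ∈ T, (u z : A)
      have hU : U ∉ 𝔪 := by
        have : U ∈ 𝔪.primeCompl := Submonoid.prod_mem _ fun z _ => (u z).2
        exact this
      have hUZ' : U ∈ Z' := by
        rw [hZ', Submodule.mem_annihilator]
        intro z hz
        rw [← hT] at hz
        refine Submodule.span_induction (p := fun z _ => U • z = 0) ?_ ?_ ?_ ?_ hz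
        · intro z hz
          rw [smul_eq_mul]
          have := Finset.dvd_prod_of_mem (fun z => (u z : A)) hz
          obtain ⟨c, hc⟩ := this
          show U * z = 0
          rw [show U = (u z : A) * c from hc, mul_right_comm, hu z (hTZ z hz), zero_mul]
        · simp
        · intro x y _ _ hx hy
          rw [smul_add, hx, hy, add_zero]
        · intro a x _ hx
          rw [smul_comm, hx, smul_zero]
      exact hU (hle (Ideal.mem_sup_right hUZ'))
  obtain ⟨ε, hε, ε', hε', h1⟩ := Submodule.mem_sup.mp (hsup ▸ Submodule.mem_top : (1 : A) ∈ Z ⊔ Z')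
  rw [mem_nonZeroDivisors_iff_right]
  intro z hz
  have hzZ : z ∈ Z := (hZmem z).mpr hz
  have h2 : ε' * z = 0 := by
    have := (Submodule.mem_annihilator.mp hε') z hzZ
    simpa using this
  have h3 : s = s * ε' := by
    have : ε * s = 0 := (hZmem ε).mp hε
    calc s = s * (ε + ε') := by rw [h1, mul_one]
      _ = s * ε' := by rw [mul_add, mul_comm s ε, this, zero_add]
  rcases hs.isUnit_or_isUnit h3 with h | h
  · exact absurd h hs.not_isUnit
  · exact (h.mul_right_eq_zero).mp h2
end partA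

section partL
variable (k A : Type u) [Field k] [CommRing A] [Algebra k A] (s : A)

theorem exists_functional [Algebra.FormallySmooth k A]
    [Algebra.FormallySmooth k (A ⧸ Ideal.span {s})] (hs : s ∈ nonZeroDivisors A) :
    ∃ (l : Ω[A⁄k] →ₗ[A] A) (a : A), l (D k A s) = 1 + a * s := by
  have hsurj : Function.Surjective (algebraMap A (A ⧸ Ideal.span {s})) :=
    Ideal.Quotient.mk_surjective
  have hex := (Algebra.FormallySmooth.iff_split_injection (R := k) (P := A)
    (A := A ⧸ Ideal.span {s}) hsurj).mp inferInstance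
  set K := RingHom.ker (algebraMap A (A ⧸ Ideal.span {s})) with hKdef
  obtain ⟨l, hl⟩ := hex
  have hK : K = Ideal.span {s} := Ideal.mk_ker
  have hsK : s ∈ K := by rw [hK]; exact Ideal.mem_span_singleton_self s
  let s' : K := ⟨s, hsK⟩
  let μ : Ω[A⁄k] →ₗ[A] K.Cotangent :=
    l ∘ₗ (TensorProduct.mk A (A ⧸ Ideal.span {s}) Ω[A⁄k] 1)
  let q : A →ₗ[A] K.Cotangent := LinearMap.toSpanSingleton A K.Cotangent (K.toCotangent s')
  have hq : Function.Surjective q := by
    intro y
    obtain ⟨⟨y, hy⟩, rfl⟩ := Ideal.toCotangent_surjective _ y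
    have hy' := hy
    rw [hK, Ideal.mem_span_singleton'] at hy'
    obtain ⟨x, hx⟩ := hy'
    refine ⟨x, ?_⟩
    simp only [q, LinearMap.toSpanSingleton_apply, ← map_smul]
    congr 1
    ext
    simpa [s'] using hx
  obtain ⟨h, hh⟩ := Module.projective_lifting_property q μ hq
  have h1 : q (h (D k A s)) = K.toCotangent s' := by
    rw [← LinearMap.comp_apply, hh]
    simp only [μ, LinearMap.comp_apply, TensorProduct.mk_apply]
    have := LinearMap.congr_fun hl (K.toCotangent s')
    rw [LinearMap.comp_apply, LinearMap.id_apply] at this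
    rw [← this]
    rfl
  have h2 : (h (D k A s) - 1) * s ∈ K ^ 2 := by
    simp only [q, LinearMap.toSpanSingleton_apply, ← map_smul] at h1
    rw [← sub_eq_zero, ← map_sub, Ideal.toCotangent_eq_zero] at h1
    convert h1 using 1
    simp [s', sub_mul]
  rw [hK, Ideal.span_singleton_pow, Ideal.mem_span_singleton'] at h2
  obtain ⟨a, ha⟩ := h2
  refine ⟨h, a, ?_⟩
  have h3 : (h (D k A s) - 1 - a * s) * s = 0 := by
    rw [sub_mul, ← ha]; ring
  have h4 := (mem_nonZeroDivisors_iff_right.mp hs) _ h3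
  linear_combination h4
end partL

section part1
variable (k A : Type u) [Field k] [CommRing A] [Algebra k A] (s : A) (e : ℕ)

theorem root_pow_eq : (AdjoinRoot.root (X ^ e - C s : A[X])) ^ e =
    AdjoinRoot.of (X ^ e - C s : A[X]) s := by
  have h := AdjoinRoot.mk_self (f := (X ^ e - C s : A[X]))
  rw [map_sub, map_pow, AdjoinRoot.mk_X, AdjoinRoot.mk_C, sub_eq_zero] at h
  exact h

theorem formallySmooth_quotient (he : 2 ≤ e)
    [Algebra.FormallySmooth k (AdjoinRoot (X ^ e - C s : A[X]))] :
    Algebra.FormallySmooth k (A ⧸ Ideal.span {s}) := by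
  apply Algebra.FormallySmooth.of_comp_surjective
  intro R' _ _ I hI ψ
  let f : A[X] := X ^ e - C s
  let φ : A →ₐ[k] R' ⧸ I := ψ.comp (Ideal.Quotient.mkₐ k (Ideal.span {s}))
  have hφs : φ s = 0 := by
    simp only [φ, AlgHom.comp_apply, Ideal.Quotient.mkₐ_eq_mk]
    rw [Ideal.Quotient.eq_zero_iff_mem.mpr (Ideal.mem_span_singleton_self s), map_zero]
  have he0 : e ≠ 0 := by omega
  have h0 : f.eval₂ (φ : A →+* R' ⧸ I) 0 = 0 := by
    simp only [f, eval₂_sub, eval₂_pow, eval₂_X, eval₂_C, zero_pow he0]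
    rw [RingHom.coe_coe, hφs, sub_zero]
  let ψ₀ : AdjoinRoot f →ₐ[k] R' ⧸ I := AdjoinRoot.liftAlgHom f φ 0 h0
  obtain ⟨g, hg⟩ := Algebra.FormallySmooth.comp_surjective k (AdjoinRoot f) I hI ψ₀
  have hr : g (AdjoinRoot.root f) ∈ I := by
    rw [← Ideal.Quotient.eq_zero_iff_mem]
    have := AlgHom.congr_fun hg (AdjoinRoot.root f)
    simp only [AlgHom.comp_apply, Ideal.Quotient.mkₐ_eq_mk] at this
    rw [this]
    exact AdjoinRoot.liftAlgHom_root f φ 0 h0
  have hr2 : g (AdjoinRoot.root f) ^ 2 = 0 := by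
    have : g (AdjoinRoot.root f) ^ 2 ∈ I ^ 2 := Ideal.pow_mem_pow hr 2
    rwa [hI] at this
  have hre : g (AdjoinRoot.root f) ^ e = 0 := by
    obtain ⟨m, rfl⟩ : ∃ m, e = 2 + m := ⟨e - 2, by omega⟩
    rw [pow_add, hr2, zero_mul]
  have hgs : g (AdjoinRoot.of f s) = 0 := by
    rw [← root_pow_eq, map_pow, hre]
  let g₀ : A →ₐ[k] R' := g.comp (AdjoinRoot.ofAlgHom k f)
  have hker : ∀ a ∈ Ideal.span {s}, g₀ a = 0 := by
    intro a ha
    rw [Ideal.mem_span_singleton'] at ha
    obtain ⟨c, rfl⟩ := ha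
    simp only [g₀, AlgHom.comp_apply, AdjoinRoot.coe_ofAlgHom, map_mul, hgs, mul_zero]
  refine ⟨Ideal.Quotient.liftₐ (Ideal.span {s}) g₀ hker, ?_⟩
  apply Ideal.Quotient.algHom_ext
  ext a
  simp only [AlgHom.comp_apply, Ideal.Quotient.mkₐ_eq_mk, Ideal.Quotient.liftₐ_apply,
    Ideal.Quotient.lift_mk]
  have := AlgHom.congr_fun hg (AdjoinRoot.of f a)
  simp only [AlgHom.comp_apply, Ideal.Quotient.mkₐ_eq_mk] at this
  show Ideal.Quotient.mk I (g (AdjoinRoot.of f a)) = ψ (Ideal.Quotient.mk _ a)
  rw [this]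
  exact AdjoinRoot.liftAlgHom_of f φ 0 h0 a
end part1

section part2
variable (k A : Type u) [Field k] [CommRing A] [Algebra k A] (s : A) (e : ℕ)

theorem add_pow_of_sq_zero {R : Type*} [CommRing R] (x j : R) (hj : j * j = 0) (n : ℕ) :
    (x + j) ^ (n + 1) = x ^ (n + 1) + (n + 1 : ℕ) * x ^ n * j := by
  induction n with
  | zero => simp
  | succ n ih =>
    rw [pow_succ, ih]
    have : ((n + 1 : ℕ) : R) * x ^ n * j * j = 0 := by rw [mul_assoc, hj, mul_zero]
    push_cast
    ring_nf
    have h2 : j ^ 2 = 0 := by rw [pow_two, hj]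
    simp only [h2]
    ring

theorem formallySmooth_adjoinRoot [Algebra.FormallySmooth k A]
    (l : Ω[A⁄k] →ₗ[A] A) (a : A) (hl : l (D k A s) = 1 + a * s)
    (he : 1 ≤ e) (hek : (e : k) ≠ 0) :
    Algebra.FormallySmooth k (AdjoinRoot (X ^ e - C s : A[X])) := by
  apply Algebra.FormallySmooth.of_comp_surjective
  intro R' _ _ I hI ψ
  let f : A[X] := X ^ e - C s
  change AdjoinRoot f →ₐ[k] R' ⧸ I at ψ
  let φ : A →ₐ[k] R' ⧸ I := ψ.comp (AdjoinRoot.ofAlgHom k f)
  let r : R' ⧸ I := ψ (AdjoinRoot.root f)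
  have hrel : r ^ e = φ s := by
    simp only [r, φ, AlgHom.comp_apply, AdjoinRoot.coe_ofAlgHom, ← map_pow]
    rw [root_pow_eq]
  obtain ⟨φ₀, hφ₀⟩ := Algebra.FormallySmooth.comp_surjective k A I hI φ
  obtain ⟨r₀, hr₀⟩ := Ideal.Quotient.mk_surjective r
  have hII : ∀ x ∈ I, ∀ y ∈ I, x * y = 0 := by
    intro x hx y hy
    have : x * y ∈ I ^ 2 := by rw [pow_two]; exact Ideal.mul_mem_mul hx hy
    rwa [hI] at this
  let ε : R' := r₀ ^ e - φ₀ s
  have hφ₀' : ∀ x, Ideal.Quotient.mk I (φ₀ x) = φ x := fun x => AlgHom.congr_fun hφ₀ x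
  have hε : ε ∈ I := by
    rw [← Ideal.Quotient.eq_zero_iff_mem]
    simp only [ε, map_sub, map_pow, hr₀, hφ₀', hrel, sub_self]
  have hεε : ε * ε = 0 := hII ε hε ε hε
  let ei : R' := algebraMap k R' ((e : k)⁻¹)
  have hei : (e : R') * ei = 1 := by
    simp only [ei]
    rw [← map_natCast (algebraMap k R'), ← map_mul, mul_inv_cancel₀ hek, map_one]
  let j : R' := ei * φ₀ a * r₀ * ε
  have hj : j ∈ I := Ideal.mul_mem_left _ _ hε
  have hjj : j * j = 0 := hII j hj j hj
  -- the modified algebra map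
  let φ' : A →ₐ[k] R' :=
    { toFun := fun x => φ₀ x + φ₀ (l (D k A x)) * ε
      map_one' := by simp
      map_mul' := by
        intro x y
        simp only [Derivation.leibniz, map_add, map_smul, smul_eq_mul, map_mul]
        have : φ₀ (l (D k A x)) * ε * (φ₀ (l (D k A y)) * ε) = 0 := by
          rw [mul_mul_mul_comm, hεε, mul_zero]
        linear_combination -this
      map_zero' := by simp
      map_add' := by
        intro x y
        simp only [map_add]
        ring
      commutes' := by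
        intro c
        simp }
  have hφ's : φ' s = φ₀ s + φ₀ (l (D k A s)) * ε := rfl
  have hmain : f.eval₂ (φ' : A →+* R') (r₀ + j) = 0 := by
    simp only [f, eval₂_sub, eval₂_pow, eval₂_X, eval₂_C, RingHom.coe_coe]
    obtain ⟨n, rfl⟩ : ∃ n, e = n + 1 := ⟨e - 1, by omega⟩
    rw [add_pow_of_sq_zero r₀ j hjj n, hφ's, hl]
    simp only [map_add, map_one, map_mul]
    have h1 : ((n + 1 : ℕ) : R') * r₀ ^ n * j = φ₀ a * r₀ ^ (n + 1) * ε := by
      simp only [j]
      calc ((n + 1 : ℕ) : R') * r₀ ^ n * (ei * φ₀ a * r₀ * ε)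
          = (((n + 1 : ℕ) : R') * ei) * (φ₀ a * (r₀ ^ n * r₀) * ε) := by ring
        _ = φ₀ a * r₀ ^ (n + 1) * ε := by rw [hei, one_mul, pow_succ]
    have h2 : φ₀ s * ε = r₀ ^ (n + 1) * ε := by
      have : φ₀ s = r₀ ^ (n + 1) - ε := by simp [ε]
      rw [this, sub_mul, hεε, sub_zero]
    rw [h1]
    have h3 : r₀ ^ (n + 1) - φ₀ s = ε := rfl
    linear_combination h3 - φ₀ a * h2
  refine ⟨AdjoinRoot.liftAlgHom f φ' (r₀ + j) hmain, ?_⟩
  apply AdjoinRoot.algHom_ext'
  · ext x
    have h1 := AdjoinRoot.liftAlgHom_of f φ' (r₀ + j) hmain x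
    show Ideal.Quotient.mk I (AdjoinRoot.liftAlgHom f φ' (r₀ + j) hmain (AdjoinRoot.of f x)) =
      ψ (AdjoinRoot.of f x)
    rw [h1]
    show Ideal.Quotient.mk I (φ₀ x + φ₀ (l (D k A x)) * ε) = ψ (AdjoinRoot.of f x)
    rw [map_add, map_mul, Ideal.Quotient.eq_zero_iff_mem.mpr hε, mul_zero, add_zero, hφ₀']
    rfl
  · have h1 := AdjoinRoot.liftAlgHom_root f φ' (r₀ + j) hmain
    show Ideal.Quotient.mk I (AdjoinRoot.liftAlgHom f φ' (r₀ + j) hmain (AdjoinRoot.root f)) =
      ψ (AdjoinRoot.root f)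
    rw [h1, map_add, Ideal.Quotient.eq_zero_iff_mem.mpr hj, add_zero, hr₀]
end part2


/-- Let k be a field, A a smooth k-algebra, s an irreducible element of A and e an integer, at least 2,
that is invertible in k. Then the k-algebra A[t]/(t^e - s) is smooth exactly when the quotient ring
A/(s) is a smooth k-algebra. (Smooth over k means formally smooth and of finite presentation over
k.) -/
theorem result (k A : Type u) [Field k] [CommRing A] [Algebra k A]
    [Algebra.Smooth k A] (s : A) (hs : Irreducible s) (e : ℕ) (he : 2 ≤ e) (hek : (e : k) ≠ 0) :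
    Algebra.Smooth k (AdjoinRoot (Polynomial.X ^ e - Polynomial.C s)) ↔
      Algebra.Smooth k (A ⧸ Ideal.span {s}) := by
  have hfp : Algebra.FinitePresentation k A := Algebra.Smooth.finitePresentation
  have hfs : Algebra.FormallySmooth k A := Algebra.Smooth.formallySmooth
  constructor
  · intro h
    have : Algebra.FormallySmooth k (AdjoinRoot (X ^ e - C s : A[X])) := h.formallySmooth
    refine ⟨formallySmooth_quotient k A s e he, ?_⟩
    exact Algebra.FinitePresentation.quotient (Submodule.fg_span_singleton s)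
  · intro h
    have : Algebra.FormallySmooth k (A ⧸ Ideal.span {s}) := h.formallySmooth
    have hnzd := mem_nonZeroDivisors_of_irreducible k A s hs
    obtain ⟨l, a, hl⟩ := exists_functional k A s hnzd
    exact ⟨formallySmooth_adjoinRoot k A s e l a hl (by omega) hek, inferInstance⟩


end Groth.Agent.S13782
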