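import Groth.Statements.S13784
import Mathlib

set_option autoImplicit false
universe u
open CAlg

namespace Groth.Agent.S13784

/-- Let A be a commutative local ring and G a finite subgroup of Aˣ. If the order of G is invertible in
A, then G is cyclic. -/
theorem result {A : Type u} [CommRing A] [IsLocalRing A]
    (G : Subgroup Aˣ) [Finite G] (hG : IsUnit ((Nat.card G : ℕ) : A)) : IsCyclic G := by
  classical
  let f : G →* IsLocalRing.ResidueField A :=
    ((IsLocalRing.residue A : A →* IsLocalRing.ResidueField A).comp (Units.coeHom A)).comp G.subtype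
  refine isCyclic_of_subgroup_isDomain f ?_
  rw [injective_iff_map_eq_one]
  intro g hg
  have hg' : IsLocalRing.residue A ((g : Aˣ) : A) = 1 := hg
  set n := Nat.card G with hn
  have hpow : ((g : Aˣ) : A) ^ n = 1 := by
    have : g ^ n = 1 := pow_card_eq_one'
    have h2 : ((g ^ n : G) : Aˣ) = 1 := by rw [this]; rfl
    have h3 : (((g ^ n : G) : Aˣ) : A) = 1 := by rw [h2]; rfl
    simpa using h3
  have hgeom : (((g : Aˣ) : A) - 1) * ∑ i ∈ Finset.range n, ((g : Aˣ) : A) ^ i = 0 := by
    rw [mul_geom_sum, hpow, sub_self]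
  have hunit : IsUnit (∑ i ∈ Finset.range n, ((g : Aˣ) : A) ^ i) := by
    rw [← IsLocalRing.residue_ne_zero_iff_isUnit]
    rw [map_sum]
    simp only [map_pow, hg', one_pow, Finset.sum_const, Finset.card_range, nsmul_eq_mul, mul_one]
    have := (IsLocalRing.residue_ne_zero_iff_isUnit ((n : ℕ) : A)).mpr hG
    simpa using this
  have h0 : ((g : Aˣ) : A) - 1 = 0 := by
    have := hunit.mul_left_eq_zero.mp hgeom
    exact this
  have h1 : ((g : Aˣ) : A) = 1 := sub_eq_zero.mp h0
  ext
  exact h1

end Groth.Agent.S13784
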