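import Groth.Statements.S13785
import Mathlib

set_option autoImplicit false
universe u
open CAlg

namespace Groth.Agent.S13785

open MvPolynomial in
/-- exponent vector of the monomial attached to a permutation -/
noncomputable def permExp (n : ℕ) (σ : Equiv.Perm (Fin n)) : (Fin n × Fin n) →₀ ℕ :=
  ∑ i : Fin n, Finsupp.single (σ i, i) 1

lemma permExp_apply (n : ℕ) (σ : Equiv.Perm (Fin n)) (j i : Fin n) :
    permExp n σ (j, i) = if σ i = j then 1 else 0 := by
  classical
  unfold permExp
  rw [Finsupp.finsetSum_apply]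
  simp only [Finsupp.single_apply, Prod.mk.injEq]
  rw [Finset.sum_eq_single i]
  · simp
  · intro b _ hb
    rw [if_neg]
    rintro ⟨_, h⟩
    exact hb h
  · simp

lemma permExp_injective (n : ℕ) : Function.Injective (permExp n) := by
  intro σ τ h
  ext i
  have h1 := permExp_apply n σ (σ i) i
  rw [h, permExp_apply] at h1
  simp only [if_true] at h1
  by_contra hne
  have : τ i = σ i := by
    by_contra h2
    rw [if_neg h2] at h1
    exact absurd h1 (by norm_num)
  exact hne (by rw [this])

open MvPolynomial in
lemma det_eq_sum (A : Type u) [CommRing A] (n : ℕ) :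
    (Matrix.mvPolynomialX (Fin n) (Fin n) A).det =
      ∑ σ : Equiv.Perm (Fin n), (Equiv.Perm.sign σ : ℤ) • monomial (permExp n σ) (1 : A) := by
  rw [Matrix.det_apply]
  refine Finset.sum_congr rfl fun σ _ => ?_
  unfold permExp
  rw [MvPolynomial.monomial_sum_one]
  rfl

open MvPolynomial in
/-- For any commutative ring A, the determinant of the generic n × n matrix is a nonzerodivisor of the
polynomial ring over A in the n² matrix entries. -/
theorem result (A : Type u) [CommRing A] (n : ℕ) :
    (Matrix.mvPolynomialX (Fin n) (Fin n) A).det ∈ nonZeroDivisors (MvPolynomial (Fin n × Fin n) A) := by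
  classical
  rcases subsingleton_or_nontrivial A with hA | hA
  · rw [mem_nonZeroDivisors_iff]
    exact ⟨fun x _ => Subsingleton.elim _ _, fun x _ => Subsingleton.elim _ _⟩
  let lo : LinearOrder (Fin n × Fin n) :=
    LinearOrder.lift' (Fintype.equivFin (Fin n × Fin n)) (Fintype.equivFin _).injective
  have wf : @WellFoundedGT (Fin n × Fin n) lo.toLT := @Finite.to_wellFoundedGT _ _ lo.toPreorder
  let m : MonomialOrder (Fin n × Fin n) := @MonomialOrder.lex _ lo wf
  apply m.mem_nonZeroDivisors_of_leadingCoeff_mem_nonZeroDivisors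
  have hne : (Matrix.mvPolynomialX (Fin n) (Fin n) A).det ≠ 0 := Matrix.det_mvPolynomialX_ne_zero _ _
  have hmem := m.degree_mem_support hne
  set d := m.degree (Matrix.mvPolynomialX (Fin n) (Fin n) A).det with hd
  have hcoeff : ∀ e : (Fin n × Fin n) →₀ ℕ,
      coeff e (Matrix.mvPolynomialX (Fin n) (Fin n) A).det =
        ∑ σ : Equiv.Perm (Fin n), (Equiv.Perm.sign σ : ℤ) • (if permExp n σ = e then (1 : A) else 0) := by
    intro e
    rw [det_eq_sum, coeff_sum]
    refine Finset.sum_congr rfl fun σ _ => ?_
    rw [coeff_smul, coeff_monomial]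
  have hex : ∃ σ : Equiv.Perm (Fin n), permExp n σ = d := by
    by_contra hcon
    push Not at hcon
    rw [mem_support_iff, hcoeff] at hmem
    apply hmem
    apply Finset.sum_eq_zero
    intro σ _
    rw [if_neg (hcon σ), smul_zero]
  obtain ⟨σ0, hσ0⟩ := hex
  have : m.leadingCoeff (Matrix.mvPolynomialX (Fin n) (Fin n) A).det = ((Equiv.Perm.sign σ0 : ℤ) : A) := by
    unfold MonomialOrder.leadingCoeff
    rw [← hd, hcoeff, Finset.sum_eq_single σ0]
    · rw [if_pos hσ0]
      simp
    · intro τ _ hτ
      rw [if_neg, smul_zero]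
      intro h
      exact hτ (permExp_injective n (h.trans hσ0.symm))
    · simp
  rw [this]
  apply IsUnit.mem_nonZeroDivisors
  rcases Int.units_eq_one_or (Equiv.Perm.sign σ0) with h | h <;> simp [h]

end Groth.Agent.S13785
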