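import Groth.Statements.S13786
import Mathlib
import Groth.Agent.Lib.Helper70.MonomialQuot
import Groth.Agent.Lib.Helper70.GenericDet

set_option autoImplicit false
universe u
open CAlg

namespace Groth.Agent.S13786

/-- For a commutative ring A and n ≥ 1, with det the determinant of the generic n × n matrix in the
polynomial ring A[X] in n² indeterminates, the A-algebra A[X]/(det) is faithfully flat over A. (For
n = 0 the determinant is 1 and the quotient is the zero ring, so n ≥ 1 is required.) -/
theorem result (A : Type u) [CommRing A] (n : ℕ) (hn : 0 < n) :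
    Module.FaithfullyFlat A
      (MvPolynomial (Fin n × Fin n) A ⧸ Ideal.span {(Matrix.mvPolynomialX (Fin n) (Fin n) A).det}) := by
  rcases subsingleton_or_nontrivial A with hA | hA
  · -- over the zero ring everything is trivial
    haveI : Subsingleton (MvPolynomial (Fin n × Fin n) A ⧸
        Ideal.span {(Matrix.mvPolynomialX (Fin n) (Fin n) A).det}) :=
      Module.subsingleton A _
    haveI : Module.Flat A (MvPolynomial (Fin n × Fin n) A ⧸
        Ideal.span {(Matrix.mvPolynomialX (Fin n) (Fin n) A).det}) := inferInstance
    refine ⟨?_⟩
    intro m hm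
    exact absurd (Subsingleton.elim m ⊤) hm.ne_top
  · have hu := Groth.Agent.Lib.Helper70.isUnit_leadingCoeff_det A n
    have hd := Groth.Agent.Lib.Helper70.degree_det_ne_zero A n hn
    haveI := Groth.Agent.Lib.Helper70.free_quotient_of_isUnit_leadingCoeff
      (Groth.Agent.Lib.Helper70.matOrder n) hu
    haveI := Groth.Agent.Lib.Helper70.nontrivial_quotient_of_isUnit_leadingCoeff
      (Groth.Agent.Lib.Helper70.matOrder n) hu hd
    infer_instance

end Groth.Agent.S13786
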