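import Groth.Statements.S13787
import Mathlib
import Groth.Agent.Lib.Helper70.MonomialQuot
import Groth.Agent.Lib.Helper70.GenericDet

set_option autoImplicit false
universe u
open CAlg

namespace Groth.Agent.S13787

open MvPolynomial in
/-- comparison of `C u * b ^ j` for a polynomial `b` with unit leading coefficient and nonzero degree -/
lemma eq_of_C_mul_pow_eq {σ R : Type*} [CommRing R] [Nontrivial R] (m : MonomialOrder σ)
    {b : MvPolynomial σ R} (hb : IsUnit (m.leadingCoeff b)) (hdeg : m.degree b ≠ 0)
    (u v : R) (hu : IsUnit u) (hv : IsUnit v) (j k : ℕ) (h : C u * b ^ j = C v * b ^ k) : j = k ∧ u = v := by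
  have hlc : ∀ (w : R), IsUnit w → ∀ i : ℕ, m.degree (C w * b ^ i) = i • m.degree b := by
    intro w hw i
    have h1 : m.leadingCoeff (C w : MvPolynomial σ R) = w := by simp
    have h2 : m.degree (b ^ i) = i • m.degree b := by
      apply m.degree_pow_of_pow_leadingCoeff_ne_zero
      exact (hb.pow i).ne_zero
    rw [m.degree_mul_of_left_mem_nonZeroDivisors (by rw [h1]; exact hw.mem_nonZeroDivisors), h2]
    · simp
    · intro h0
      have : m.leadingCoeff (b ^ i) = 0 := by rw [h0]; simp
      rw [m.leadingCoeff_pow_of_pow_leadingCoeff_ne_zero (hb.pow i).ne_zero] at this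
      exact (hb.pow i).ne_zero this
  have hjk : j • m.degree b = k • m.degree b := by rw [← hlc u hu j, ← hlc v hv k, h]
  obtain ⟨x, hx⟩ : ∃ x, m.degree b x ≠ 0 := by
    by_contra hcon
    push Not at hcon
    exact hdeg (Finsupp.ext hcon)
  have hjk' : j = k := by
    have := congrArg (fun f => f x) hjk
    simp only [Finsupp.smul_apply, smul_eq_mul] at this
    exact Nat.eq_of_mul_eq_mul_right (Nat.pos_of_ne_zero hx) this
  refine ⟨hjk', ?_⟩
  subst hjk'
  have hbnz : b ^ j ∈ nonZeroDivisors (MvPolynomial σ R) :=
    pow_mem (m.mem_nonZeroDivisors_of_leadingCoeff_mem_nonZeroDivisors hb.mem_nonZeroDivisors) j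
  have : (C u - C v) * b ^ j = 0 := by rw [sub_mul, h, sub_self]
  have h3 : C u - C v = (0 : MvPolynomial σ R) := (mem_nonZeroDivisors_iff_right.mp hbnz) _ this
  exact C_injective σ R (sub_eq_zero.mp h3)

/-- Let A be a nonzero commutative ring and n ≥ 1, let det be the determinant of the generic n × n
matrix in the polynomial ring A[X] in its n² entries, and let A[X, 1/det] be the localization at det
(the coordinate ring of GL_n over A). The homomorphism Aˣ × ℤ → (A[X, 1/det])ˣ sending (a, e) to a ·
det^e is injective. (The published statement takes the exponent in the group of locally constant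
ℤ-valued functions on Spec A, which also covers A = 0; with integer exponents as here, A must be
nonzero and n ≥ 1.) -/
theorem result (A : Type u) [CommRing A] [Nontrivial A] (n : ℕ) (hn : 0 < n) :
    Function.Injective (fun p : Aˣ × ℤ =>
        Units.map (algebraMap A (Localization.Away (Matrix.mvPolynomialX (Fin n) (Fin n) A).det)).toMonoidHom p.1 *
          (IsLocalization.Away.algebraMap_isUnit (S := Localization.Away (Matrix.mvPolynomialX (Fin n) (Fin n) A).det)
            (Matrix.mvPolynomialX (Fin n) (Fin n) A).det).unit ^ p.2) := by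
  classical
  set det := (Matrix.mvPolynomialX (Fin n) (Fin n) A).det with hdet
  set L := Localization.Away det with hL
  have hu := Groth.Agent.Lib.Helper70.isUnit_leadingCoeff_det A n
  have hd := Groth.Agent.Lib.Helper70.degree_det_ne_zero A n hn
  set mo := Groth.Agent.Lib.Helper70.matOrder n
  have hnzd : det ∈ nonZeroDivisors (MvPolynomial (Fin n × Fin n) A) :=
    mo.mem_nonZeroDivisors_of_leadingCoeff_mem_nonZeroDivisors hu.mem_nonZeroDivisors
  have hinj : Function.Injective (algebraMap (MvPolynomial (Fin n × Fin n) A) L) := by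
    apply IsLocalization.injective L (M := Submonoid.powers det)
    exact Submonoid.powers_le.mpr hnzd
  set du : Lˣ := (IsLocalization.Away.algebraMap_isUnit (S := L) det).unit with hdu
  have hduval : (du : L) = algebraMap (MvPolynomial (Fin n × Fin n) A) L det := rfl
  rintro ⟨a, e⟩ ⟨a', e'⟩ h
  simp only at h
  -- clear denominators
  obtain ⟨N, hN1, hN2⟩ : ∃ N : ℕ, 0 ≤ e + N ∧ 0 ≤ e' + N := ⟨e.natAbs + e'.natAbs, by omega, by omega⟩
  obtain ⟨j, hj⟩ := Int.eq_ofNat_of_zero_le hN1
  obtain ⟨k, hk⟩ := Int.eq_ofNat_of_zero_le hN2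
  have h2 : Units.map (algebraMap A L).toMonoidHom a * du ^ j = Units.map (algebraMap A L).toMonoidHom a' * du ^ k := by
    have := congrArg (fun x => x * du ^ (N : ℤ)) h
    simp only [mul_assoc] at this
    rw [← zpow_add, ← zpow_add, hj, hk, zpow_natCast, zpow_natCast] at this
    exact this
  have h3 := congrArg Units.val h2
  simp only [Units.val_mul, Units.val_pow_eq_pow_val, Units.coe_map, RingHom.toMonoidHom_eq_coe,
    MonoidHom.coe_coe, hduval] at h3
  rw [IsScalarTower.algebraMap_apply A (MvPolynomial (Fin n × Fin n) A) L,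
    IsScalarTower.algebraMap_apply A (MvPolynomial (Fin n × Fin n) A) L, ← map_pow, ← map_pow,
    ← map_mul, ← map_mul] at h3
  have h4 := hinj h3
  rw [MvPolynomial.algebraMap_eq] at h4
  obtain ⟨hjk, hab⟩ := eq_of_C_mul_pow_eq mo hu hd (a : A) (a' : A) a.isUnit a'.isUnit j k h4
  have : e = e' := by omega
  rw [Prod.mk.injEq]
  exact ⟨Units.ext hab, this⟩

end Groth.Agent.S13787
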