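import Groth.Statements.S6485
import Mathlib.RingTheory.MvPolynomial.IrreducibleQuadratic
import Mathlib.LinearAlgebra.Matrix.Permutation
import Mathlib.Algebra.MvPolynomial.Supported
-- import your own Groth.Agent.* helpers here

set_option autoImplicit false
universe u
open IntMult

namespace Groth.Agent.S6485

section helpers
open MvPolynomial Matrix

variable {k : Type u} [Field k]

private lemma det_mem_supported {σ : Type*} {n : ℕ}
    (A : Matrix (Fin n) (Fin n) (MvPolynomial σ k)) (s : Set σ)
    (h : ∀ i j, A i j ∈ supported k s) : A.det ∈ supported k s := by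
  rw [Matrix.det_apply']
  refine Subalgebra.sum_mem _ fun τ _ => ?_
  refine Subalgebra.mul_mem _ (Subalgebra.intCast_mem _ _) ?_
  exact Subalgebra.prod_mem _ fun i _ => h _ _

private lemma eval_det {σ : Type*} {n : ℕ}
    (A : Matrix (Fin n) (Fin n) (MvPolynomial σ k)) (x : σ → k) :
    MvPolynomial.eval x A.det = (A.map (MvPolynomial.eval x)).det := by
  rw [RingHom.map_det]
  rfl

private theorem irreducible_det_gen {σ : Type*} : ∀ (n : ℕ) (ι : Fin (n + 1) × Fin (n + 1) → σ)
    (_ : Function.Injective ι),
    Irreducible (Matrix.of fun i j => (X (ι (i, j)) : MvPolynomial σ k)).det := by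
  intro n
  induction n with
  | zero =>
    intro ι hι
    rw [Matrix.det_fin_one]
    simp only [Matrix.of_apply]
    have := irreducible_mul_X_add (R := k) (1 : MvPolynomial σ k) 0 (ι (0, 0)) one_ne_zero
      (by simp) (by simp) isRelPrime_one_left
    simpa using this
  | succ n IH =>
    intro ι hι
    classical
    set A : Matrix (Fin (n + 2)) (Fin (n + 2)) (MvPolynomial σ k) :=
      Matrix.of fun i j => (X (ι (i, j)) : MvPolynomial σ k) with hA
    -- the (0,0) minor
    have hsub : A.submatrix Fin.succ Fin.succ =
        Matrix.of fun i j => (X (ι (Fin.succ i, Fin.succ j)) : MvPolynomial σ k) := by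
      ext i j; simp [hA]
    have hM : Irreducible (A.submatrix Fin.succ Fin.succ).det := by
      rw [hsub]
      exact IH (fun p => ι (Fin.succ p.1, Fin.succ p.2)) (by
        intro p q hpq
        have := hι hpq
        simp only [Prod.mk.injEq, Fin.succ_inj] at this
        exact Prod.ext this.1 this.2)
    set M := (A.submatrix Fin.succ Fin.succ).det with hMdef
    set R : MvPolynomial σ k := ∑ j : Fin (n + 1), (-1) ^ ((Fin.succ j : Fin (n + 2)) : ℕ) *
      A 0 (Fin.succ j) * (A.submatrix Fin.succ (Fin.succ j).succAbove).det with hR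
    have hdet : A.det = M * X (ι (0, 0)) + R := by
      rw [Matrix.det_succ_row_zero, Fin.sum_univ_succ]
      congr 1
      simp only [Fin.val_zero, pow_zero, one_mul, Fin.succAbove_zero]
      rw [mul_comm]
      rfl
    -- support conditions
    have hentry : ∀ (i : Fin (n + 1)) (j : Fin (n + 2)),
        A (Fin.succ i) j ∈ supported k ({ι (0, 0)}ᶜ : Set σ) := by
      intro i j
      simp only [hA, Matrix.of_apply]
      refine X_mem_supported.mpr ?_
      simp only [Set.mem_compl_iff, Set.mem_singleton_iff]
      intro h
      have := hι h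
      simp only [Prod.mk.injEq] at this
      exact Fin.succ_ne_zero _ this.1
    have hMsupp : M ∈ supported k ({ι (0, 0)}ᶜ : Set σ) :=
      det_mem_supported _ _ fun i j => hentry _ _
    have hRsupp : R ∈ supported k ({ι (0, 0)}ᶜ : Set σ) := by
      refine Subalgebra.sum_mem _ fun j _ => ?_
      refine Subalgebra.mul_mem _ (Subalgebra.mul_mem _ ?_ ?_)
        (det_mem_supported _ _ fun i l => hentry _ _)
      · exact Subalgebra.pow_mem _ (Subalgebra.neg_mem _ (Subalgebra.one_mem _)) _
      · simp only [hA, Matrix.of_apply]
        refine X_mem_supported.mpr ?_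
        simp only [Set.mem_compl_iff, Set.mem_singleton_iff]
        intro h
        have := hι h
        simp only [Prod.mk.injEq] at this
        exact Fin.succ_ne_zero _ this.2
    have hvars : ∀ q : MvPolynomial σ k, q ∈ supported k ({ι (0, 0)}ᶜ : Set σ) →
        ι (0, 0) ∉ q.vars := by
      intro q hq hmem
      have := mem_supported.mp hq (Finset.mem_coe.mpr hmem)
      exact this rfl
    rw [hdet]
    refine irreducible_mul_X_add M R (ι (0, 0)) hM.ne_zero (hvars M hMsupp) (hvars R hRsupp) ?_
    rw [hM.isRelPrime_iff_not_dvd]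
    intro hdvd
    have hdvd' : M ∣ A.det := by
      rw [hdet]
      exact dvd_add (dvd_mul_right _ _) hdvd
    -- evaluate at a permutation matrix
    let P : Matrix (Fin (n + 2)) (Fin (n + 2)) k := (Equiv.swap (0 : Fin (n + 2)) 1).permMatrix k
    let x : σ → k := Function.extend ι (fun p => P p.1 p.2) 0
    have hx : ∀ i j, x (ι (i, j)) = P i j := fun i j => hι.extend_apply _ _ (i, j)
    have hAx : A.map (MvPolynomial.eval x) = P := by
      ext i j
      simp [hA, hx]
    have h1 : MvPolynomial.eval x A.det = Equiv.Perm.sign (Equiv.swap (0 : Fin (n + 2)) 1) := by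
      rw [eval_det, hAx]
      exact Matrix.det_permutation _
    have h2 : MvPolynomial.eval x M = 0 := by
      rw [hMdef, eval_det]
      refine Matrix.det_eq_zero_of_row_eq_zero 0 fun j => ?_
      have : (A.submatrix Fin.succ Fin.succ).map (MvPolynomial.eval x) 0 j = P (Fin.succ 0) (Fin.succ j) := by
        simp [hA, hx]
      rw [this]
      simp only [P, Equiv.Perm.permMatrix, PEquiv.toMatrix_apply, Equiv.toPEquiv_apply,
        Option.mem_def, Option.some.injEq]
      rw [if_neg]
      have h10 : (Fin.succ 0 : Fin (n + 2)) = 1 := rfl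
      rw [h10, Equiv.swap_apply_right]
      exact (Fin.succ_ne_zero j).symm
    have h3 := map_dvd (MvPolynomial.eval x) hdvd'
    rw [h1, h2, zero_dvd_iff] at h3
    have hne : (0 : Fin (n + 2)) ≠ 1 := by
      intro h
      have := congrArg Fin.val h
      simp at this
    rw [Equiv.Perm.sign_swap hne] at h3
    simp at h3

end helpers

/-- Let k be a field and n ≥ 1. Then the determinant of the generic matrix (x_{ij})_{1 ≤ i, j ≤ n} is an
irreducible element of the polynomial ring k[x_{ij}] (Mathlib's Matrix.mvPolynomialX is the generic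
matrix over MvPolynomial (Fin n × Fin n) k). -/
theorem result (k : Type u) [Field k] (n : ℕ) (hn : 1 ≤ n) : Irreducible (Matrix.mvPolynomialX (Fin n) (Fin n) k).det := by
  obtain ⟨m, rfl⟩ : ∃ m, n = m + 1 := ⟨n - 1, by omega⟩
  exact irreducible_det_gen (k := k) m (fun p => p) Function.injective_id

end Groth.Agent.S6485
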