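import Groth.Statements.S13788
import Mathlib
import Groth.Agent.Lib.Helper70.GenericDet
import Groth.Agent.S6485
import Groth.Agent.S13787

set_option autoImplicit false
universe u
open CAlg

namespace Groth.Agent.S13788

open MvPolynomial Groth.Agent.Lib.Helper70
open scoped MonomialOrder

/-- the generic determinant -/
noncomputable abbrev gdet (A : Type u) [CommRing A] (n : ℕ) : MvPolynomial (Fin n × Fin n) A :=
  (Matrix.mvPolynomialX (Fin n) (Fin n) A).det

lemma map_gdet {A K : Type u} [CommRing A] [CommRing K] (φ : A →+* K) (n : ℕ) :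
    MvPolynomial.map φ (gdet A n) = gdet K n := by
  unfold gdet
  rw [RingHom.map_det]
  congr 1
  ext i j : 1
  simp [Matrix.mvPolynomialX_apply]

lemma degree_gdet_map {A K : Type u} [CommRing A] [CommRing K] [Nontrivial A] [Nontrivial K]
    (φ : A →+* K) (n : ℕ) :
    (matOrder n).degree (gdet K n) = (matOrder n).degree (gdet A n) ∧
      (matOrder n).leadingCoeff (gdet K n) = φ ((matOrder n).leadingCoeff (gdet A n)) := by
  classical
  set mo := matOrder n
  have hs := isUnit_leadingCoeff_det A n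
  have hco : (gdet K n).coeff (mo.degree (gdet A n)) = φ (mo.leadingCoeff (gdet A n)) := by
    rw [← map_gdet φ n, coeff_map]
    rfl
  have hne : (gdet K n).coeff (mo.degree (gdet A n)) ≠ 0 := by
    rw [hco]
    exact (hs.map φ).ne_zero
  have h1 : mo.degree (gdet A n) ≼[mo] mo.degree (gdet K n) :=
    mo.le_degree (mem_support_iff.mpr hne)
  have h2 : mo.degree (gdet K n) ≼[mo] mo.degree (gdet A n) := by
    rw [MonomialOrder.degree_le_iff]
    intro c hc
    rw [← map_gdet φ n] at hc
    exact mo.le_degree (support_map_subset _ _ hc)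
  have h3 : mo.degree (gdet K n) = mo.degree (gdet A n) :=
    mo.toSyn.injective (le_antisymm h2 h1)
  refine ⟨h3, ?_⟩
  unfold MonomialOrder.leadingCoeff
  rw [h3, hco]
  rfl

lemma field_case (K : Type u) [Field K] (n : ℕ) (hn : 0 < n)
    (f g : MvPolynomial (Fin n × Fin n) K) (M : ℕ) (h : f * g = gdet K n ^ M) :
    ∃ (a : K) (e : ℕ), a ≠ 0 ∧ e ≤ M ∧ f = C a * gdet K n ^ e ∧ g = C a⁻¹ * gdet K n ^ (M - e) := by
  have hirr : Irreducible (gdet K n) := Groth.Agent.S6485.result K n hn
  have hpr : Prime (gdet K n) := hirr.prime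
  have hdvd : f ∣ gdet K n ^ M := ⟨g, h.symm⟩
  obtain ⟨e, heM, hass⟩ := (dvd_prime_pow hpr M).1 hdvd
  obtain ⟨u, hu⟩ := hass.symm
  obtain ⟨a, ha, hua⟩ := (MvPolynomial.isUnit_iff_eq_C_of_isReduced).1 u.isUnit
  have ha0 : a ≠ 0 := ha.ne_zero
  have hf : f = C a * gdet K n ^ e := by rw [← hu, hua, mul_comm]
  refine ⟨a, e, ha0, heM, hf, ?_⟩
  have hdet0 : gdet K n ^ e ≠ 0 := pow_ne_zero _ hirr.ne_zero
  have h2 : gdet K n ^ e * (C a * g) = gdet K n ^ e * gdet K n ^ (M - e) := by
    rw [← pow_add, Nat.add_sub_cancel' heM, ← h, hf]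
    ring
  have h3 := mul_left_cancel₀ hdet0 h2
  rw [← h3, ← mul_assoc, ← C_mul, inv_mul_cancel₀ ha0, C_1, one_mul]

lemma nsmul_degree_lt (n : ℕ) {d : (Fin n × Fin n) →₀ ℕ} (hd : d ≠ 0) {e e' : ℕ} (h : e < e') :
    e • d ≺[matOrder n] e' • d := by
  rw [map_nsmul, map_nsmul]
  apply nsmul_lt_nsmul_left _ h
  rw [(matOrder n).toSyn_lt_iff_ne_zero]
  intro h0
  exact hd (((matOrder n).toSyn_eq_zero_iff d).1 h0)

lemma coeff_gdet_pow (K : Type u) [Field K] (n : ℕ) (hn : 0 < n) (e e' : ℕ) (h : e ≤ e') :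
    (gdet K n ^ e).coeff (e' • (matOrder n).degree (gdet K n)) =
      if e' = e then ((matOrder n).leadingCoeff (gdet K n)) ^ e else 0 := by
  split_ifs with h1
  · subst h1
    exact (matOrder n).coeff_pow_nsmul_degree _ _
  · have hlt : e < e' := lt_of_le_of_ne h (Ne.symm h1)
    apply (matOrder n).coeff_eq_zero_of_lt
    refine lt_of_le_of_lt ((matOrder n).degree_pow_le e) ?_
    exact nsmul_degree_lt n (degree_det_ne_zero K n hn) hlt

lemma key {A K : Type u} [CommRing A] [Nontrivial A] [Field K] (φ : A →+* K) (n : ℕ) (hn : 0 < n)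
    (f g : MvPolynomial (Fin n × Fin n) A) (M : ℕ) (h : f * g = gdet A n ^ M) :
    ∃ e ≤ M, (∀ e' ≤ M, φ (f.coeff (e' • (matOrder n).degree (gdet A n)) *
        g.coeff ((M - e') • (matOrder n).degree (gdet A n))) =
          if e' = e then φ ((matOrder n).leadingCoeff (gdet A n)) ^ M else 0) ∧
      MvPolynomial.map φ f = C (φ (f.coeff (e • (matOrder n).degree (gdet A n))) *
        (φ ((matOrder n).leadingCoeff (gdet A n)) ^ e)⁻¹) * gdet K n ^ e := by
  obtain ⟨a, e, ha0, heM, hf, hg⟩ := field_case K n hn (MvPolynomial.map φ f) (MvPolynomial.map φ g) M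
    (by rw [← map_mul, h, map_pow, map_gdet])
  obtain ⟨hδ, hs⟩ := degree_gdet_map φ n
  set δ := (matOrder n).degree (gdet A n) with hδdef
  set s := (matOrder n).leadingCoeff (gdet A n) with hsdef
  have hsK : φ s ≠ 0 := by
    rw [← hs]
    exact (isUnit_leadingCoeff_det K n).ne_zero
  have hc : ∀ e' : ℕ, e ≤ e' → φ (f.coeff (e' • δ)) = a * (if e' = e then (φ s) ^ e else 0) := by
    intro e' hee'
    rw [← coeff_map, hf, coeff_C_mul, ← hδ, coeff_gdet_pow K n hn e e' hee', hs]
  have hd : ∀ e' : ℕ, e' ≤ e → e' ≤ M → φ (g.coeff ((M - e') • δ)) =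
      a⁻¹ * (if e' = e then (φ s) ^ (M - e) else 0) := by
    intro e' hee' heM'
    rw [← coeff_map, hg, coeff_C_mul, ← hδ, coeff_gdet_pow K n hn (M - e) (M - e') (by omega), hs]
    congr 1
    by_cases h1 : e' = e
    · subst h1; simp
    · rw [if_neg h1, if_neg (by omega)]
  refine ⟨e, heM, ?_, ?_⟩
  · intro e' he'M
    rw [map_mul]
    rcases lt_trichotomy e' e with hlt | heq | hgt
    · rw [hd e' hlt.le he'M, if_neg hlt.ne, if_neg hlt.ne, mul_zero, mul_zero]
    · subst heq
      rw [hc e' le_rfl, hd e' le_rfl he'M, if_pos rfl, if_pos rfl, if_pos rfl]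
      have : a * φ s ^ e' * (a⁻¹ * φ s ^ (M - e')) = (a * a⁻¹) * (φ s ^ e' * φ s ^ (M - e')) := by ring
      rw [this, mul_inv_cancel₀ ha0, one_mul, ← pow_add, Nat.add_sub_cancel' he'M]
    · rw [hc e' hgt.le, if_neg hgt.ne', if_neg hgt.ne', mul_zero, zero_mul]
  · rw [hc e le_rfl, if_pos rfl, mul_assoc, mul_inv_cancel₀ (pow_ne_zero _ hsK), mul_one]
    exact hf

lemma eq_zero_of_forall_field {A : Type u} [CommRing A] [IsReduced A] (x : A)
    (h : ∀ (K : Type u) [Field K] (φ : A →+* K), φ x = 0) : x = 0 := by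
  apply IsReduced.eq_zero
  rw [← mem_nilradical, nilradical_eq_sInf, Ideal.mem_sInf]
  intro p hp
  have : p.IsPrime := hp
  have := h (FractionRing (A ⧸ p)) ((algebraMap (A ⧸ p) (FractionRing (A ⧸ p))).comp (Ideal.Quotient.mk p))
  rw [RingHom.comp_apply] at this
  have h2 := (IsFractionRing.injective (A ⧸ p) (FractionRing (A ⧸ p))) (this.trans (map_zero _).symm)
  exact Ideal.Quotient.eq_zero_iff_mem.1 h2

lemma central {A : Type u} [CommRing A] [Nontrivial A] [IsReduced A]
    (hconn : ∀ e : A, IsIdempotentElem e → e = 0 ∨ e = 1) (n : ℕ) (hn : 0 < n)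
    (f g : MvPolynomial (Fin n × Fin n) A) (M : ℕ) (h : f * g = gdet A n ^ M) :
    ∃ (a : A) (e : ℕ), IsUnit a ∧ f = C a * gdet A n ^ e := by
  classical
  set δ := (matOrder n).degree (gdet A n) with hδdef
  set s := (matOrder n).leadingCoeff (gdet A n) with hsdef
  have hs : IsUnit s := isUnit_leadingCoeff_det A n
  obtain ⟨t, ht⟩ : ∃ t : A, s ^ M * t = 1 := (hs.pow M).exists_right_inv
  set π : ℕ → A := fun e' => f.coeff (e' • δ) * g.coeff ((M - e') • δ) * t with hπ
  have hφ : ∀ (K : Type u) [Field K] (φ : A →+* K), ∃ e ≤ M,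
      (∀ e' ≤ M, φ (π e') = if e' = e then 1 else 0) ∧
      MvPolynomial.map φ f = C (φ (f.coeff (e • δ)) * (φ s ^ e)⁻¹) * gdet K n ^ e := by
    intro K _ φ
    obtain ⟨e, heM, h1, h2⟩ := key φ n hn f g M h
    refine ⟨e, heM, ?_, h2⟩
    intro e' he'
    have h3 := h1 e' he'
    have h4 : φ s ^ M * φ t = 1 := by rw [← map_pow, ← map_mul, ht, map_one]
    simp only [hπ]
    rw [map_mul, h3]
    split_ifs
    · exact h4
    · rw [zero_mul]
  -- orthogonality
  have horth : ∀ e₁ ≤ M, ∀ e₂ ≤ M, e₁ ≠ e₂ → π e₁ * π e₂ = 0 := by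
    intro e₁ h1 e₂ h2 hne
    apply eq_zero_of_forall_field
    intro K _ φ
    obtain ⟨e, -, h3, -⟩ := hφ K φ
    rw [map_mul, h3 e₁ h1, h3 e₂ h2]
    by_cases h4 : e₁ = e
    · rw [if_neg (fun h5 : e₂ = e => hne (h4.trans h5.symm)), mul_zero]
    · rw [if_neg h4, zero_mul]
  have hsum : ∑ e' ∈ Finset.range (M + 1), π e' = 1 := by
    rw [← sub_eq_zero]
    apply eq_zero_of_forall_field
    intro K _ φ
    obtain ⟨e, heM, h3, -⟩ := hφ K φ
    rw [map_sub, map_sum, map_one, sub_eq_zero]
    rw [Finset.sum_congr rfl (fun e' he' => h3 e' (Nat.lt_succ_iff.1 (Finset.mem_range.1 he')))]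
    rw [Finset.sum_ite_eq' (Finset.range (M + 1)) e (fun _ => (1 : K))]
    rw [if_pos (Finset.mem_range.2 (Nat.lt_succ_iff.2 heM))]
  have hidem : ∀ e' ≤ M, IsIdempotentElem (π e') := by
    intro e' he'
    unfold IsIdempotentElem
    rw [← sub_eq_zero]
    apply eq_zero_of_forall_field
    intro K _ φ
    obtain ⟨e, heM, h3, -⟩ := hφ K φ
    rw [map_sub, map_mul, h3 e' he']
    split_ifs <;> simp
  obtain ⟨e₀, he₀M, he₀⟩ : ∃ e₀ ≤ M, π e₀ = 1 := by
    by_contra hcon
    push Not at hcon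
    have : ∑ e' ∈ Finset.range (M + 1), π e' = 0 := by
      apply Finset.sum_eq_zero
      intro e' he'
      have he'M : e' ≤ M := Nat.lt_succ_iff.1 (Finset.mem_range.1 he')
      exact (hconn _ (hidem e' he'M)).resolve_right (hcon e' he'M)
    rw [this] at hsum
    exact zero_ne_one hsum
  have hcu : IsUnit (f.coeff (e₀ • δ)) := by
    apply IsUnit.of_mul_eq_one (g.coeff ((M - e₀) • δ) * t)
    rw [← mul_assoc]
    exact he₀
  obtain ⟨t₀, ht₀⟩ : ∃ t₀ : A, s ^ e₀ * t₀ = 1 := (hs.pow e₀).exists_right_inv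
  have ht₀u : IsUnit t₀ := IsUnit.of_mul_eq_one (s ^ e₀) (by rw [mul_comm]; exact ht₀)
  refine ⟨f.coeff (e₀ • δ) * t₀, e₀, hcu.mul ht₀u, ?_⟩
  rw [← sub_eq_zero]
  ext d
  rw [coeff_zero]
  apply eq_zero_of_forall_field
  intro K _ φ
  obtain ⟨e, heM, h3, h4⟩ := hφ K φ
  have hee : e₀ = e := by
    have h5 := h3 e₀ he₀M
    rw [he₀, map_one] at h5
    by_contra hne
    rw [if_neg hne] at h5
    exact one_ne_zero h5
  subst hee
  have h6 : φ t₀ = (φ s ^ e₀)⁻¹ := by
    have : φ s ^ e₀ * φ t₀ = 1 := by rw [← map_pow, ← map_mul, ht₀, map_one]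
    exact eq_inv_of_mul_eq_one_right this
  have h7 : MvPolynomial.map φ (C (f.coeff (e₀ • δ) * t₀) * gdet A n ^ e₀) =
      C (φ (f.coeff (e₀ • δ)) * (φ s ^ e₀)⁻¹) * gdet K n ^ e₀ := by
    rw [map_mul, map_C, map_pow, map_gdet, map_mul, h6]
  rw [← coeff_map, map_sub, h4, h7, sub_self, coeff_zero]

lemma not_isUnit_gdet (A : Type u) [CommRing A] [Nontrivial A] (n : ℕ) (hn : 0 < n) :
    ¬ IsUnit (gdet A n) := by
  intro hu
  have h1 := (MvPolynomial.isUnit_iff.1 hu).2 _ (degree_det_ne_zero A n hn)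
  have h2 : IsUnit ((gdet A n).coeff ((matOrder n).degree (gdet A n))) := isUnit_leadingCoeff_det A n
  exact h2.not_isNilpotent h1

lemma exists_sq_zero_of_not_isReduced (A : Type u) [CommRing A] (h : ¬ IsReduced A) :
    ∃ ε : A, ε ≠ 0 ∧ ε * ε = 0 := by
  rw [isReduced_iff] at h
  push Not at h
  obtain ⟨x, hx, hx0⟩ := h
  obtain ⟨k, hk⟩ := hx
  classical
  have hex : ∃ k, x ^ k = 0 := ⟨k, hk⟩
  have hmin := Nat.find_min hex (m := Nat.find hex - 1)
  have hspec := Nat.find_spec hex
  have hpos : 2 ≤ Nat.find hex := by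
    by_contra hlt
    push Not at hlt
    interval_cases hfk : Nat.find hex
    · rw [pow_zero] at hspec
      exact hx0 (by rw [← mul_one x, hspec, mul_zero])
    · rw [pow_one] at hspec
      exact hx0 hspec
  refine ⟨x ^ (Nat.find hex - 1), hmin (by omega), ?_⟩
  rw [← pow_add]
  have : Nat.find hex - 1 + (Nat.find hex - 1) = Nat.find hex + (Nat.find hex - 2) := by omega
  rw [this, pow_add, hspec, zero_mul]

/-- Units of GL_n: let A be a nonzero commutative ring whose only idempotents are 0 and 1, let n ≥ 1,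
let det be the determinant of the generic n × n matrix in the polynomial ring A[X] in its n²
entries, and let A[X, 1/det] be the coordinate ring of GL_n over A. The homomorphism Aˣ × ℤ → (A[X,
1/det])ˣ, (a, e) ↦ a · det^e, is bijective if and only if A is reduced. (The published statement
allows Spec A disconnected, with exponents locally constant ℤ-valued functions on Spec A; this row
is the connected case, to which the published proof reduces.) -/
theorem result (A : Type u) [CommRing A] [Nontrivial A]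
    (hconn : ∀ e : A, IsIdempotentElem e → e = 0 ∨ e = 1) (n : ℕ) (hn : 0 < n) :
    Function.Bijective (fun p : Aˣ × ℤ =>
        Units.map (algebraMap A (Localization.Away (Matrix.mvPolynomialX (Fin n) (Fin n) A).det)).toMonoidHom p.1 *
          (IsLocalization.Away.algebraMap_isUnit (S := Localization.Away (Matrix.mvPolynomialX (Fin n) (Fin n) A).det)
            (Matrix.mvPolynomialX (Fin n) (Fin n) A).det).unit ^ p.2) ↔ IsReduced A := by
  classical
  set det := (Matrix.mvPolynomialX (Fin n) (Fin n) A).det with hdet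
  set L := Localization.Away det with hL
  have hu := isUnit_leadingCoeff_det A n
  have hnzd : det ∈ nonZeroDivisors (MvPolynomial (Fin n × Fin n) A) :=
    (matOrder n).mem_nonZeroDivisors_of_leadingCoeff_mem_nonZeroDivisors hu.mem_nonZeroDivisors
  have hinj : Function.Injective (algebraMap (MvPolynomial (Fin n × Fin n) A) L) := by
    apply IsLocalization.injective L (M := Submonoid.powers det)
    exact Submonoid.powers_le.mpr hnzd
  set du : Lˣ := (IsLocalization.Away.algebraMap_isUnit (S := L) det).unit with hdu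
  have hduval : (du : L) = algebraMap (MvPolynomial (Fin n × Fin n) A) L det := rfl
  have hmapval : ∀ a : Aˣ, ((Units.map (algebraMap A L).toMonoidHom a : Lˣ) : L) =
      algebraMap (MvPolynomial (Fin n × Fin n) A) L (C (a : A)) := by
    intro a
    rw [Units.coe_map]
    exact IsScalarTower.algebraMap_apply A (MvPolynomial (Fin n × Fin n) A) L _
  constructor
  · -- bijective → reduced
    intro hbij
    by_contra hnr
    obtain ⟨ε, hε0, hε2⟩ := exists_sq_zero_of_not_isReduced A hnr
    set i₀ : Fin n × Fin n := (⟨0, hn⟩, ⟨0, hn⟩)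
    set v : MvPolynomial (Fin n × Fin n) A := 1 + C ε * X i₀ with hv
    have hvu : IsUnit v := by
      apply IsUnit.of_mul_eq_one (1 - C ε * X i₀)
      have : (1 + C ε * X i₀) * (1 - C ε * X i₀) = 1 - C (ε * ε) * (X i₀ * X i₀ : MvPolynomial (Fin n × Fin n) A) := by
        rw [C_mul]; ring
      rw [hv, this, hε2, C_0, zero_mul, sub_zero]
    obtain ⟨⟨a, e⟩, hae⟩ := hbij.2 (hvu.map (algebraMap (MvPolynomial (Fin n × Fin n) A) L)).unit
    simp only at hae
    -- clear denominators
    obtain ⟨N, hN1⟩ : ∃ N : ℕ, 0 ≤ e + N := ⟨e.natAbs, by omega⟩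
    obtain ⟨k, hk⟩ := Int.eq_ofNat_of_zero_le hN1
    have h2 : Units.map (algebraMap A L).toMonoidHom a * du ^ k =
        (hvu.map (algebraMap (MvPolynomial (Fin n × Fin n) A) L)).unit * du ^ N := by
      rw [← hae, mul_assoc, ← zpow_natCast, ← zpow_natCast, ← zpow_add, hk]
    have h3 := congrArg Units.val h2
    rw [Units.val_mul, Units.val_mul, Units.val_pow_eq_pow_val, Units.val_pow_eq_pow_val, hmapval,
      hduval, IsUnit.unit_spec, ← map_pow, ← map_pow, ← map_mul, ← map_mul] at h3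
    have h4 : C (a : A) * det ^ k = v * det ^ N := hinj h3
    have hnu : ¬ IsUnit det := not_isUnit_gdet A n hn
    have hCa : IsUnit (C (a : A) : MvPolynomial (Fin n × Fin n) A) := a.isUnit.map C
    have hNk : N = k := by
      rcases lt_trichotomy N k with hlt | heq | hgt
      · exfalso
        obtain ⟨j, rfl⟩ : ∃ j, k = N + (j + 1) := ⟨k - N - 1, by omega⟩
        have h5 : det ^ N * (C (a : A) * det ^ (j + 1)) = det ^ N * v := by
          rw [pow_add] at h4
          rw [mul_comm _ v, ← h4]; ring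
        have h6 := (mul_cancel_left_mem_nonZeroDivisors (pow_mem hnzd N)).1 h5
        -- `det ^ (j+1)` is a unit
        have h7 : IsUnit (det ^ (j + 1)) := by
          have : IsUnit (C (a : A) * det ^ (j + 1)) := by rw [h6]; exact hvu
          exact (IsUnit.mul_iff.1 this).2
        exact hnu (isUnit_of_dvd_unit (dvd_pow_self det (Nat.succ_ne_zero j)) h7)
      · exact heq
      · exfalso
        obtain ⟨j, rfl⟩ : ∃ j, N = k + (j + 1) := ⟨N - k - 1, by omega⟩
        have h5 : det ^ k * C (a : A) = det ^ k * (v * det ^ (j + 1)) := by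
          rw [pow_add] at h4
          rw [mul_comm _ (C (a : A)), h4]; ring
        have h6 := (mul_cancel_left_mem_nonZeroDivisors (pow_mem hnzd k)).1 h5
        have h7 : IsUnit (det ^ (j + 1)) := by
          have : IsUnit (v * det ^ (j + 1)) := by rw [← h6]; exact hCa
          exact (IsUnit.mul_iff.1 this).2
        exact hnu (isUnit_of_dvd_unit (dvd_pow_self det (Nat.succ_ne_zero j)) h7)
    subst hNk
    have h5 : det ^ N * C (a : A) = det ^ N * v := by rw [mul_comm, h4, mul_comm]
    have h6 := (mul_cancel_left_mem_nonZeroDivisors (pow_mem hnzd N)).1 h5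
    have h7 := congrArg (coeff (Finsupp.single i₀ 1)) h6
    rw [hv, coeff_add, coeff_C_mul, coeff_X, coeff_C, coeff_one] at h7
    have hne : (0 : (Fin n × Fin n) →₀ ℕ) ≠ Finsupp.single i₀ 1 := by
      intro h0
      have := congrArg (fun f => f i₀) h0
      simp at this
    rw [if_neg hne, if_neg hne, zero_add, if_pos rfl, mul_one] at h7
    exact hε0 h7.symm
  · intro hred
    refine ⟨Groth.Agent.S13787.result A n hn, ?_⟩
    intro u
    obtain ⟨⟨f, ⟨_, N, rfl⟩⟩, hf⟩ := IsLocalization.surj (Submonoid.powers det) (u : L)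
    obtain ⟨⟨g, ⟨_, N', rfl⟩⟩, hg⟩ := IsLocalization.surj (Submonoid.powers det) ((u⁻¹ : Lˣ) : L)
    simp only at hf hg
    have hfg : f * g = det ^ (N + N') := by
      apply hinj
      rw [map_mul, ← hf, ← hg, pow_add, map_mul]
      have : (u : L) * ((u⁻¹ : Lˣ) : L) = 1 := by rw [← Units.val_mul, mul_inv_cancel, Units.val_one]
      calc (u : L) * algebraMap _ L (det ^ N) * (((u⁻¹ : Lˣ) : L) * algebraMap _ L (det ^ N'))
          = ((u : L) * ((u⁻¹ : Lˣ) : L)) * (algebraMap _ L (det ^ N) * algebraMap _ L (det ^ N')) := by ring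
        _ = _ := by rw [this, one_mul]
    obtain ⟨a, e, hau, hfa⟩ := central hconn n hn f g (N + N') hfg
    refine ⟨(hau.unit, (e : ℤ) - N), ?_⟩
    simp only
    have key : Units.map (algebraMap A L).toMonoidHom hau.unit * du ^ e = u * du ^ N := by
      apply Units.ext
      rw [Units.val_mul, Units.val_mul, Units.val_pow_eq_pow_val, Units.val_pow_eq_pow_val, hmapval,
        hduval, ← map_pow, ← map_pow, ← map_mul, IsUnit.unit_spec, ← hfa, ← hf]
    rw [zpow_sub, zpow_natCast, zpow_natCast, ← mul_assoc, key, mul_inv_cancel_right]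

end Groth.Agent.S13788
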