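import Groth.Statements.S13790
import Mathlib

set_option autoImplicit false
universe u
open CAlg

namespace Groth.Agent.S13790

/-- Let A be a commutative ring with total ring of fractions Q and let B be a ring with A ⊆ B ⊆ Q. Then
Q, with the inclusion B ⊆ Q, is the total ring of fractions of B. -/
theorem result {A Q : Type u} [CommRing A] [CommRing Q] [Algebra A Q] [IsFractionRing A Q] (B : Subalgebra A Q) :
    IsFractionRing B Q := by
  have hinj : Function.Injective (algebraMap A Q) := IsFractionRing.injective A Q
  have hBQ : ∀ b : B, algebraMap B Q b = (b : Q) := fun b => rfl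
  -- nonzerodivisors of A map to nonzerodivisors of B
  have hAB : ∀ a : A, a ∈ nonZeroDivisors A → algebraMap A B a ∈ nonZeroDivisors B := by
    intro a ha
    have hu : IsUnit (algebraMap A Q a) := IsLocalization.map_units Q ⟨a, ha⟩
    rw [mem_nonZeroDivisors_iff_right]
    intro x hx
    have h1 : (x : Q) * algebraMap A Q a = 0 := by
      have := congrArg (Subtype.val) hx
      simpa using this
    have h2 : (x : Q) = 0 := hu.mul_left_eq_zero.mp h1
    exact Subtype.ext h2
  refine ⟨?_, ?_, ?_⟩
  · -- map_units
    rintro ⟨b, hb⟩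
    rw [hBQ]
    -- b is a nonzerodivisor in Q
    obtain ⟨⟨r, u⟩, hru⟩ := IsLocalization.surj (nonZeroDivisors A) (b : Q)
    have hr : r ∈ nonZeroDivisors A := by
      rw [mem_nonZeroDivisors_iff_right]
      intro x hx
      have h1 : (b : Q) * algebraMap A Q ((u : A) * x) = 0 := by
        rw [map_mul, ← mul_assoc, hru, ← map_mul, mul_comm, hx, map_zero]
      have h2 : (algebraMap A B ((u : A) * x)) * b = 0 := by
        apply Subtype.ext
        simp only [Subalgebra.coe_mul, Subalgebra.coe_algebraMap, ZeroMemClass.coe_zero]
        rw [mul_comm]; exact h1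
      have h3 : algebraMap A B ((u : A) * x) = 0 := (mem_nonZeroDivisors_iff_right.mp hb) _ h2
      have h4 : algebraMap A Q ((u : A) * x) = 0 := by
        have := congrArg Subtype.val h3
        simpa using this
      have h5 : (u : A) * x = 0 := hinj (by rw [h4, map_zero])
      have h6 : x * (u : A) = 0 := by rw [mul_comm]; exact h5
      exact (mem_nonZeroDivisors_iff_right.mp u.2) _ h6
    have hur : IsUnit (algebraMap A Q r) := IsLocalization.map_units Q ⟨r, hr⟩
    have : IsUnit ((b : Q) * algebraMap A Q u) := by rw [hru]; exact hur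
    exact isUnit_of_mul_isUnit_left this
  · -- surj
    intro q
    obtain ⟨⟨r, u⟩, hru⟩ := IsLocalization.surj (nonZeroDivisors A) q
    refine ⟨⟨algebraMap A B r, ⟨algebraMap A B u, hAB u u.2⟩⟩, ?_⟩
    simpa using hru
  · -- exists_of_eq
    intro x y hxy
    refine ⟨1, ?_⟩
    have : x = y := Subtype.ext hxy
    simp [this]

end Groth.Agent.S13790
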