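import Groth.Statements.S13791
import Mathlib

set_option autoImplicit false
universe u
open CategoryTheory
open CohSite

namespace Groth.Agent.S13791

open Opposite Abelian in
/-- Lifting of maps out of the constant sheaf `ℤ` along a surjection of constant sheaves. -/
theorem lift_const {C : Type u} [SmallCategory C] (J : GrothendieckTopology C)
    {B D : AddCommGrpCat.{u}} (π : B ⟶ D) (hπ : Function.Surjective π.hom)
    (g : (constantSheaf J AddCommGrpCat.{u}).obj (AddCommGrpCat.of (ULift ℤ)) ⟶
      (constantSheaf J AddCommGrpCat.{u}).obj D) :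
    ∃ h : (constantSheaf J AddCommGrpCat.{u}).obj (AddCommGrpCat.of (ULift ℤ)) ⟶
      (constantSheaf J AddCommGrpCat.{u}).obj B,
      h ≫ (constantSheaf J AddCommGrpCat.{u}).map π = g := by
  let FA := forget AddCommGrpCat.{u}
  let σ : FA.obj D ⟶ FA.obj B := ↾(fun c => (hπ c).choose)
  have hσ : σ ≫ FA.map π = 𝟙 _ := by
    ext c
    exact (hπ c).choose_spec
  let e := constantCommuteCompose J FA
  let s : (sheafCompose J FA).obj ((constantSheaf J AddCommGrpCat.{u}).obj D) ⟶
      (sheafCompose J FA).obj ((constantSheaf J AddCommGrpCat.{u}).obj B) :=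
    e.hom.app D ≫ (constantSheaf J (Type u)).map σ ≫ e.inv.app B
  have hs : s ≫ (sheafCompose J FA).map ((constantSheaf J AddCommGrpCat.{u}).map π) = 𝟙 _ := by
    have nat := e.inv.naturality π
    simp only [Functor.comp_map] at nat
    simp only [s, Category.assoc]
    rw [← nat, ← Functor.map_comp_assoc, hσ, CategoryTheory.Functor.map_id, Category.id_comp]
    exact e.hom_inv_id_app D
  -- notation
  let Bs := (constantSheaf J AddCommGrpCat.{u}).obj B
  let Ds := (constantSheaf J AddCommGrpCat.{u}).obj D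
  let πs : Bs ⟶ Ds := (constantSheaf J AddCommGrpCat.{u}).map π
  have hs' : ∀ (U : Cᵒᵖ) (c : Ds.obj.obj U), πs.hom.app U (s.hom.app U c) = c := by
    intro U c
    exact congrArg (fun φ => φ.hom.app U c) hs
  have snat : ∀ {U V : Cᵒᵖ} (φ : U ⟶ V) (c : Ds.obj.obj U),
      Bs.obj.map φ (s.hom.app U c) = s.hom.app V (Ds.obj.map φ c) := by
    intro U V φ c
    exact (ConcreteCategory.congr_hom (s.hom.naturality φ) c).symm
  let P : Cᵒᵖ ⥤ AddCommGrpCat.{u} := (Functor.const Cᵒᵖ).obj (AddCommGrpCat.of (ULift ℤ))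
  let adj := sheafificationAdjunction J AddCommGrpCat.{u}
  let g' : P ⟶ Ds.obj := adj.homEquiv P Ds g
  let c : ∀ U : Cᵒᵖ, Ds.obj.obj U := fun U => g'.app U (ULift.up 1)
  have hc : ∀ {U V : Cᵒᵖ} (φ : U ⟶ V), Ds.obj.map φ (c U) = c V := by
    intro U V φ
    have := congrArg (fun ψ => ψ (ULift.up (1 : ℤ))) (congrArg (fun ψ => ψ.hom) (g'.naturality φ))
    exact this.symm
  let b : ∀ U : Cᵒᵖ, Bs.obj.obj U := fun U => s.hom.app U (c U)
  have hb : ∀ {U V : Cᵒᵖ} (φ : U ⟶ V), Bs.obj.map φ (b U) = b V := by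
    intro U V φ
    change Bs.obj.map φ (s.hom.app U (c U)) = s.hom.app V (c V)
    rw [snat φ (c U), hc φ]
  let h' : P ⟶ Bs.obj :=
    { app := fun U => AddCommGrpCat.ofHom
        ((zmultiplesHom (Bs.obj.obj U) (b U)).comp AddEquiv.ulift.toAddMonoidHom)
      naturality := by
        intro U V φ
        ext n
        change (zmultiplesHom _ (b V)) n.down = Bs.obj.map φ ((zmultiplesHom _ (b U)) n.down)
        simp only [zmultiplesHom_apply]
        rw [map_zsmul, hb φ] }
  let h : (presheafToSheaf J AddCommGrpCat.{u}).obj P ⟶ Bs := (adj.homEquiv P Bs).symm h'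
  have key : adj.homEquiv P Ds (h ≫ πs) = h' ≫ πs.hom := by
    rw [Adjunction.homEquiv_naturality_right, Equiv.apply_symm_apply]
    rfl
  refine ⟨h, ?_⟩
  apply (adj.homEquiv P Ds).injective
  refine key.trans ?_
  ext U n
  change πs.hom.app U ((zmultiplesHom _ (b U)) n.down) = g'.app U n
  simp only [zmultiplesHom_apply]
  rw [map_zsmul]
  change n.down • πs.hom.app U (s.hom.app U (c U)) = _
  rw [hs' U (c U)]
  change n.down • g'.app U (ULift.up 1) = _
  rw [← map_zsmul]
  congr 1
  change n.down • (ULift.up 1 : ULift.{u} ℤ) = n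
  apply ULift.ext
  simp

/-- On a site, for a short exact sequence 0 → A → B → C → 0 of abelian groups the map H¹(A) → H¹(B) on
the first cohomology of the associated constant sheaves is injective. Stated for an injective
homomorphism f : A → B (C being its cokernel), with H¹ the Ext-based sheaf cohomology of the site. -/
theorem result {C : Type u} [SmallCategory C] (J : GrothendieckTopology C)
    {A B : Type u} [AddCommGroup A] [AddCommGroup B] (f : A →+ B) (hf : Function.Injective f) :
    Function.Injective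
      (Sheaf.H.map ((constantSheaf J AddCommGrpCat.{u}).map (AddCommGrpCat.ofHom f)) 1) := by
  let L := constantSheaf J AddCommGrpCat.{u}
  let Af : AddCommGrpCat.of A ⟶ AddCommGrpCat.of B := AddCommGrpCat.ofHom f
  have hmono : Mono Af := (AddCommGrpCat.mono_iff_injective Af).2 hf
  let SC : ShortComplex AddCommGrpCat.{u} :=
    ShortComplex.mk Af (Limits.cokernel.π Af) (Limits.cokernel.condition Af)
  have hSC : SC.ShortExact :=
    { exact := ShortComplex.exact_cokernel Af
      mono_f := hmono
      epi_g := inferInstanceAs (Epi (Limits.cokernel.π Af)) }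
  have h1 : Limits.PreservesFiniteLimits L := by
    change Limits.PreservesFiniteLimits (Functor.const Cᵒᵖ ⋙ presheafToSheaf J AddCommGrpCat.{u})
    infer_instance
  have h2 : Limits.PreservesFiniteColimits L := by
    change Limits.PreservesFiniteColimits (Functor.const Cᵒᵖ ⋙ presheafToSheaf J AddCommGrpCat.{u})
    infer_instance
  have hLS : (SC.map L).ShortExact := hSC.map_of_exact L
  have hsurj : Function.Surjective (Limits.cokernel.π Af).hom :=
    (AddCommGrpCat.epi_iff_surjective _).1 inferInstance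
  rw [injective_iff_map_eq_zero]
  intro x hx
  rw [Sheaf.H.map_apply] at hx
  obtain ⟨x₃, hx₃⟩ := Abelian.Ext.covariant_sequence_exact₁ _ hLS x hx (zero_add 1)
  obtain ⟨g, rfl⟩ := (Abelian.Ext.mk₀_bijective _ _).2 x₃
  obtain ⟨h, hh⟩ := lift_const J (Limits.cokernel.π Af) hsurj g
  rw [← hx₃]
  let h₂ : (constantSheaf J AddCommGrpCat.{u}).obj (AddCommGrpCat.of (ULift ℤ)) ⟶ (SC.map L).X₂ := h
  have e1 : Abelian.Ext.mk₀ g = (Abelian.Ext.mk₀ h₂).comp (Abelian.Ext.mk₀ (SC.map L).g) (add_zero 0) := by
    rw [Abelian.Ext.mk₀_comp_mk₀]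
    exact congrArg _ hh.symm
  have e2 : (Abelian.Ext.mk₀ (SC.map L).g).comp hLS.extClass (zero_add 1) = 0 := hLS.comp_extClass
  rw [e1, Abelian.Ext.comp_assoc (Abelian.Ext.mk₀ h₂) (Abelian.Ext.mk₀ (SC.map L).g) hLS.extClass
    (add_zero 0) (zero_add 1) (by omega : 0 + 0 + 1 = 1), e2, Abelian.Ext.comp_zero]
  exact rfl

end Groth.Agent.S13791
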