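import Groth.Statements.S13792
import Mathlib

set_option autoImplicit false
universe u
open CategoryTheory AlgebraicGeometry
open Curves

namespace Groth.Agent.S13792

open TopologicalSpace in
lemma finite_of_isClosed_ne_univ {X : Type*} [TopologicalSpace X] [NoetherianSpace X]
    [T0Space X] [IrreducibleSpace X] (hdim : topologicalKrullDim X = 1)
    (Z : Set X) (hZ : IsClosed Z) (hne : Z ≠ Set.univ) : Z.Finite := by
  obtain ⟨S, hSfin, hSc, hSi, rfl⟩ := NoetherianSpace.exists_finite_set_isClosed_irreducible hZ
  refine Set.Finite.sUnion hSfin fun t ht => ?_
  have htne : t ≠ Set.univ := by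
    rintro rfl
    exact hne (Set.eq_univ_of_univ_subset (Set.subset_sUnion_of_mem ht))
  -- closure of any point of t is t
  have hcl : ∀ a ∈ t, closure {a} = t := by
    intro a ha
    have hsub : closure {a} ⊆ t := (hSc t ht).closure_subset_iff.mpr (Set.singleton_subset_iff.mpr ha)
    by_contra hneq
    let A : IrreducibleCloseds X := ⟨closure {a}, isIrreducible_singleton.closure, isClosed_closure⟩
    let B : IrreducibleCloseds X := ⟨t, hSi t ht, hSc t ht⟩
    let C : IrreducibleCloseds X := ⟨Set.univ, IrreducibleSpace.isIrreducible_univ X, isClosed_univ⟩
    have hAB : A < B := by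
      rw [← SetLike.coe_ssubset_coe]
      exact lt_of_le_of_ne hsub hneq
    have hBC : B < C := by
      rw [← SetLike.coe_ssubset_coe]
      exact lt_of_le_of_ne (Set.subset_univ _) htne
    let p1 : LTSeries (IrreducibleCloseds X) := (RelSeries.singleton _ A).snoc B (by simpa using hAB)
    let p : LTSeries (IrreducibleCloseds X) := p1.snoc C (by simpa [p1] using hBC)
    have hlen : p.length = 2 := rfl
    have := Order.LTSeries.length_le_krullDim p
    rw [hlen] at this
    unfold topologicalKrullDim at hdim
    rw [hdim] at this
    exact absurd this (by decide)
  apply Set.Subsingleton.finite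
  intro a ha b hb
  have h1 : closure {a} = closure {b} := (hcl a ha).trans (hcl b hb).symm
  exact (inseparable_iff_closure_eq.mpr h1).eq

/-- Let k be a field and E an integral k-scheme of finite type whose underlying space has dimension 1,
and let ι : G → E be a closed immersion. Then either ι is an isomorphism or G is finite over k. (The
published statement is about a closed subgroup scheme of an elliptic curve and its proof states this
fact for E geometrically integral; this row assumes only that E is integral.) -/
theorem result {k : Type u} [Field k]
    {E G : Scheme.{u}} (f : E ⟶ Spec (CommRingCat.of k)) [LocallyOfFiniteType f] [QuasiCompact f]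
    [IsIntegral E] (hdim : topologicalKrullDim ↥E = 1) (ι : G ⟶ E) [IsClosedImmersion ι] :
    IsIso ι ∨ IsFinite (ι ≫ f) := by
  by_cases hsurj : Function.Surjective ι
  · left
    haveI : Surjective ι := ⟨hsurj⟩
    exact isIso_of_isClosedImmersion_of_surjective ι
  · right
    haveI : IsLocallyNoetherian E := LocallyOfFiniteType.isLocallyNoetherian f
    haveI : CompactSpace E := QuasiCompact.compactSpace_of_compactSpace f
    haveI : IsNoetherian E := {}
    have hZc : IsClosed (Set.range ι) := ι.isClosedEmbedding.isClosed_range
    have hZne : Set.range ι ≠ Set.univ := by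
      intro h
      exact hsurj (Set.range_eq_univ.mp h)
    have hZfin : (Set.range ι).Finite := finite_of_isClosed_ne_univ hdim _ hZc hZne
    have hinj : Function.Injective ι := ι.isClosedEmbedding.injective
    haveI : Finite G := by
      have : Finite (Set.range ι) := hZfin
      exact Finite.of_injective (Set.rangeFactorization ι)
        (fun a b hab => hinj (congrArg Subtype.val hab))
    haveI : LocallyQuasiFinite (ι ≫ f) :=
      LocallyQuasiFinite.of_finite_preimage_singleton _ (fun x => Set.toFinite _)
    exact IsFinite.of_locallyQuasiFinite (ι ≫ f)

end Groth.Agent.S13792
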