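import Groth.Statements.S13794
import Mathlib

set_option autoImplicit false
universe u
open Polynomial
open Curves

namespace Groth.Agent.S13794

lemma cubic_coeffs {k : Type u} [Field k] (a3 a2 a1 a0 b3 b2 b1 b0 : k)
    (h : C a3 * (X : k[X]) ^ 3 + C a2 * X ^ 2 + C a1 * X + C a0 =
      C b3 * X ^ 3 + C b2 * X ^ 2 + C b1 * X + C b0) :
    a3 = b3 ∧ a2 = b2 ∧ a1 = b1 ∧ a0 = b0 := by
  have e3 := congrArg (fun f => coeff f 3) h
  have e2 := congrArg (fun f => coeff f 2) h
  have e1 := congrArg (fun f => coeff f 1) h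
  have e0 := congrArg (fun f => coeff f 0) h
  simp [coeff_X, coeff_C, coeff_X_pow] at e3 e2 e1 e0
  exact ⟨e3, e2, e1, e0⟩

/-- Let k be a field of characteristic not 3 and β ∈ k. If a line ax + by + c = 0 with a³ ≠ b³ is the
tangent line at a flex point of the affine cubic x³ + y³ + β = 3xy, then β is a cube in k. Here the
line is normalised to b ≠ 0 (the roles of x and y are symmetric) and the flex-tangency is expressed
by the restriction of the cubic to the line being λ (x − x₀)³. -/
theorem result {k : Type u} [Field k] (h3 : (3 : k) ≠ 0)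
    (β a b c : k) (hb : b ≠ 0) (hab : a ^ 3 ≠ b ^ 3) (lam x₀ : k)
    (hflex : (X : k[X]) ^ 3 + (C (-a / b) * X + C (-c / b)) ^ 3 + C β - 3 * X * (C (-a / b) * X + C (-c / b)) =
      C lam * (X - C x₀) ^ 3) :
    ∃ γ : k, β = γ ^ 3 := by
  set p : k := -a / b with hp
  set q : k := -c / b with hq
  have hL : (X : k[X]) ^ 3 + (C p * X + C q) ^ 3 + C β - 3 * X * (C p * X + C q) =
      C (1 + p ^ 3) * X ^ 3 + C (3 * p ^ 2 * q - 3 * p) * X ^ 2 + C (3 * p * q ^ 2 - 3 * q) * X
        + C (q ^ 3 + β) := by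
    simp only [map_add, map_sub, map_mul, map_pow, map_one, map_ofNat]
    ring
  have hR : C lam * ((X : k[X]) - C x₀) ^ 3 =
      C lam * X ^ 3 + C (-3 * lam * x₀) * X ^ 2 + C (3 * lam * x₀ ^ 2) * X + C (-lam * x₀ ^ 3) := by
    simp only [map_mul, map_pow, map_ofNat, map_neg]
    ring
  rw [hL, hR] at hflex
  obtain ⟨e3, e2, e1, e0⟩ := cubic_coeffs _ _ _ _ _ _ _ _ hflex
  -- p^3 ≠ -1
  have hlam : (1 : k) + p ^ 3 ≠ 0 := by
    intro h
    apply hab
    have : p ^ 3 = -1 := by linear_combination h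
    rw [hp, div_pow] at this
    field_simp at this
    linear_combination -this
  clear_value p q
  -- divide by three
  have e2' : p ^ 2 * q - p = -(lam * x₀) := by
    have : (3 : k) * (p ^ 2 * q - p) = 3 * (-(lam * x₀)) := by linear_combination e2
    exact mul_left_cancel₀ h3 this
  have e1' : p * q ^ 2 - q = lam * x₀ ^ 2 := by
    have : (3 : k) * (p * q ^ 2 - q) = 3 * (lam * x₀ ^ 2) := by linear_combination e1
    exact mul_left_cancel₀ h3 this
  have key : (p * q - 1) * (p ^ 2 + q) = 0 := by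
    have h1 : lam * (p * q ^ 2 - q) = (p ^ 2 * q - p) ^ 2 := by
      rw [e1', e2']; ring
    have h2 : (1 + p ^ 3) * (p * q ^ 2 - q) = (p ^ 2 * q - p) ^ 2 := by rw [e3]; exact h1
    linear_combination h2
  rcases mul_eq_zero.mp key with h | h
  · -- p q = 1, x₀ = 0
    have hx : lam * x₀ = 0 := by
      have : lam * x₀ = -(p ^ 2 * q - p) := by rw [e2']; ring
      rw [this]
      linear_combination (-p) * h
    have hx0 : x₀ = 0 := by
      rcases mul_eq_zero.mp hx with h' | h'
      · exact absurd (e3.trans h') hlam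
      · exact h'
    refine ⟨-q, ?_⟩
    rw [hx0] at e0
    linear_combination e0
  · -- q = -p^2, x₀ = p
    have hq' : q = -p ^ 2 := by linear_combination h
    have hx : lam * x₀ = lam * p := by
      have : lam * x₀ = -(p ^ 2 * q - p) := by rw [e2']; ring
      rw [this, hq', ← e3]; ring
    have hx0 : x₀ = p := by
      have hl : lam ≠ 0 := by rw [← e3]; exact hlam
      exact mul_left_cancel₀ hl hx
    refine ⟨-p, ?_⟩
    rw [hx0, ← e3, hq'] at e0
    linear_combination e0

end Groth.Agent.S13794
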