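import Groth.Statements.S1380
import Groth.Agent.Lib.Helper1.GeoNbhd.SplitMain

set_option autoImplicit false
universe u
open FlatMor

namespace Groth.Agent.S1380

open TensorProduct in
/-- Let R → S be integral and p a prime of R with only finitely many primes of S above it, such that for
each of them the separable closure of κ(p) in its residue field is finite over κ(p). Then there are
an étale R-algebra R' and a prime p' of R' over p such that R' ⊗ S is a finite product of
R'-algebras, each integral over R' with exactly one prime over p', whose residue field is purely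
inseparable over κ(p'). -/
theorem result {R S : Type u} [CommRing R] [CommRing S] [Algebra R S] [Algebra.IsIntegral R S]
    (p : Ideal R) [p.IsPrime] (hfin : {q : PrimeSpectrum S | q.asIdeal.comap (algebraMap R S) = p}.Finite)
    (hsep : ∀ (q : PrimeSpectrum S) (hq : q.asIdeal.comap (algebraMap R S) = p),
      letI := (Ideal.ResidueField.map p q.asIdeal (algebraMap R S) hq.symm).toAlgebra
      Module.Finite p.ResidueField (separableClosure p.ResidueField q.asIdeal.ResidueField)) :
    ∃ (R' : Type u) (_ : CommRing R') (_ : Algebra R R') (p' : PrimeSpectrum R'), Algebra.Etale R R' ∧ p'.asIdeal.comap (algebraMap R R') = p ∧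
      ∃ (m : ℕ) (A : Fin m → Type u) (_ : ∀ j, CommRing (A j)) (_ : ∀ j, Algebra R' (A j)) (e : R' ⊗[R] S ≃ₐ[R'] (Π j, A j)),
        ∀ j, Algebra.IsIntegral R' (A j) ∧ ∃ (r : PrimeSpectrum (A j)) (hr : r.asIdeal.comap (algebraMap R' (A j)) = p'.asIdeal),
          (∀ r' : PrimeSpectrum (A j), r'.asIdeal.comap (algebraMap R' (A j)) = p'.asIdeal → r' = r) ∧
          letI := (Ideal.ResidueField.map p'.asIdeal r.asIdeal (algebraMap R' (A j)) hr.symm).toAlgebra
          IsPurelyInseparable p'.asIdeal.ResidueField r.asIdeal.ResidueField := by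
    classical
    let Ω := AlgebraicClosure p.ResidueField
    have hΩ : RingHom.ker (algebraMap R Ω) = p := by
      ext r
      rw [RingHom.mem_ker, IsScalarTower.algebraMap_apply R p.ResidueField Ω,
        map_eq_zero_iff _ (algebraMap p.ResidueField Ω).injective,
        Ideal.algebraMap_residueField_eq_zero]
    haveI : Finite (S →ₐ[R] Ω) :=
      Lib.Helper1.GeoNbhd.finite_algHom_of_finite_primesOver p hΩ hfin hsep
    letI : Fintype (S →ₐ[R] Ω) := Fintype.ofFinite _
    obtain ⟨T, _, _, _, ψ, e, he, hval⟩ := Lib.Helper1.GeoNbhd.exists_etale_complete R S Ω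
    haveI : (RingHom.ker ψ.toRingHom).IsPrime := RingHom.ker_isPrime _
    refine ⟨T, inferInstance, inferInstance, ⟨RingHom.ker ψ.toRingHom, inferInstance⟩,
      inferInstance, ?_, ?_⟩
    · show (RingHom.ker ψ.toRingHom).comap (algebraMap R T) = p
      refine Eq.trans ?_ hΩ
      ext r
      rw [Ideal.mem_comap, RingHom.mem_ker, RingHom.mem_ker]
      show ψ (algebraMap R T r) = 0 ↔ _
      rw [ψ.commutes]
    · let eqv : Fin (Fintype.card (S →ₐ[R] Ω)) ≃ (S →ₐ[R] Ω) :=
        (Fintype.equivFin (S →ₐ[R] Ω)).symm
      have he' : CompleteOrthogonalIdempotents (e ∘ eqv) :=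
        (CompleteOrthogonalIdempotents.equiv eqv).mpr he
      have hbij := he'.bijective_pi
      let F : T ⊗[R] S →ₐ[T] (Π j, Lib.Helper1.GeoNbhd.Factor e (eqv j)) :=
        AlgHom.pi (fun j => Ideal.Quotient.mkₐ T (Ideal.span {1 - e (eqv j)}))
      refine ⟨Fintype.card (S →ₐ[R] Ω), fun j => Lib.Helper1.GeoNbhd.Factor e (eqv j),
        fun j => inferInstance, fun j => inferInstance, AlgEquiv.ofBijective F hbij,
        fun j => Lib.Helper1.GeoNbhd.factor_props ψ e (eqv j) hval⟩

end Groth.Agent.S1380
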