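import Groth.Statements.S13801
import Mathlib

set_option autoImplicit false
open ChowMon

namespace Groth.Agent.S13801

lemma sum_div_le {ι : Type*} (s : Finset ι) (f : ι → ℕ) (c : ℕ) :
    ∑ i ∈ s, f i / c ≤ (∑ i ∈ s, f i) / c := by
  classical
  induction s using Finset.induction_on with
  | empty => simp
  | insert a s ha ih =>
    rw [Finset.sum_insert ha, Finset.sum_insert ha]
    exact (Nat.add_le_add_left ih _).trans Nat.div_add_div_le_add_div

/-- For a prime p and positive natural numbers a_1, ..., a_k with sum n one has v_p(a_1!) + ... +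
v_p(a_k!) ≤ v_p(n!), and the inequality is strict whenever some a_i is not divisible by p^(v_p(n)). -/
theorem result {k : ℕ} (p : ℕ) [Fact p.Prime]
    (a : Fin k → ℕ) (ha : ∀ i, 0 < a i) :
    (∑ i, padicValNat p (a i).factorial ≤ padicValNat p (∑ i, a i).factorial) ∧
      ((∃ i, ¬ p ^ padicValNat p (∑ j, a j) ∣ a i) →
        ∑ i, padicValNat p (a i).factorial < padicValNat p (∑ i, a i).factorial) := by
  classical
  have hp : p.Prime := Fact.out
  set n := ∑ i, a i with hn
  set b := Nat.log p n + 1 with hb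
  have hle : ∀ i, a i ≤ n := fun i => Finset.single_le_sum (fun j _ => Nat.zero_le (a j)) (Finset.mem_univ i)
  have hn_fact : padicValNat p n.factorial = ∑ j ∈ Finset.Ico 1 b, n / p ^ j :=
    padicValNat_factorial (by omega)
  have ha_fact : ∀ i, padicValNat p (a i).factorial = ∑ j ∈ Finset.Ico 1 b, a i / p ^ j := fun i =>
    padicValNat_factorial (lt_of_le_of_lt (Nat.log_mono_right (hle i)) (by omega))
  have hsum : ∑ i, padicValNat p (a i).factorial = ∑ j ∈ Finset.Ico 1 b, ∑ i, a i / p ^ j := by
    simp_rw [ha_fact]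
    exact Finset.sum_comm
  have hterm : ∀ j, ∑ i, a i / p ^ j ≤ n / p ^ j := fun j => sum_div_le _ _ _
  refine ⟨?_, ?_⟩
  · rw [hsum, hn_fact]
    exact Finset.sum_le_sum fun j _ => hterm j
  · rintro ⟨i0, hi0⟩
    rw [hsum, hn_fact]
    set e := padicValNat p n with he
    have hn0 : n ≠ 0 := by
      have := ha i0
      have := hle i0
      omega
    have he0 : e ≠ 0 := by
      intro h
      rw [h, pow_zero] at hi0
      exact hi0 (one_dvd _)
    have hdvd : p ^ e ∣ n := pow_padicValNat_dvd
    have heb : e < b := by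
      have : p ^ e ≤ n := Nat.le_of_dvd (Nat.pos_of_ne_zero hn0) hdvd
      have := Nat.le_log_of_pow_le hp.one_lt this
      omega
    have hmem : e ∈ Finset.Ico 1 b := by
      rw [Finset.mem_Ico]
      omega
    apply Finset.sum_lt_sum (fun j _ => hterm j)
    refine ⟨e, hmem, ?_⟩
    by_contra hcon
    push Not at hcon
    have hpe : 0 < p ^ e := pow_pos hp.pos e
    obtain ⟨m, hm⟩ := hdvd
    have hnm : n / p ^ e = m := by rw [hm]; exact Nat.mul_div_cancel_left m hpe
    rw [hnm] at hcon
    have h1 : ∑ i, p ^ e * (a i / p ^ e) < ∑ i, a i := by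
      apply Finset.sum_lt_sum (fun i _ => Nat.mul_div_le (a i) (p ^ e))
      refine ⟨i0, Finset.mem_univ _, ?_⟩
      apply lt_of_le_of_ne (Nat.mul_div_le (a i0) (p ^ e))
      intro h
      exact hi0 ⟨_, h.symm⟩
    rw [← Finset.mul_sum, ← hn, hm] at h1
    have := Nat.mul_le_mul_left (p ^ e) hcon
    omega

end Groth.Agent.S13801
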