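import Groth.Statements.S13836
import Groth.Agent.Lib.Helper38.NormL
import Groth.Agent.Lib.Helper38.NormAff2

set_option autoImplicit false
universe u
open AlgebraicGeometry CategoryTheory
open HTop

namespace Groth.Agent.S13836

open Groth.Agent.Lib.Helper38
open CategoryTheory.Limits

theorem isUnivHomeo_of {X Y : Scheme.{u}} (f : X ⟶ Y) [UniversallyInjective f]
    [UniversallyClosed f] [Surjective f] : FlatMor.IsUnivHomeo f := by
  intro X' Y' i₁ i₂ f' h
  have h1 : UniversallyInjective f' := MorphismProperty.of_isPullback h.flip ‹_›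
  have h2 : UniversallyClosed f' := MorphismProperty.of_isPullback h.flip ‹_›
  have h3 : Surjective f' := MorphismProperty.of_isPullback h.flip ‹_›
  exact isHomeomorph_iff_continuous_isClosedMap_bijective.mpr
    ⟨f'.continuous, f'.isClosedMap, f'.injective, f'.surjective⟩

theorem surjective_fromNormalization (Y : Scheme.{u}) [IsIntegral Y] (L : Type u) [Field L]
    [Algebra Y.functionField L] [QuasiCompact (NormL.fL Y L)] [QuasiSeparated (NormL.fL Y L)] :
    Function.Surjective (NormL.fL Y L).fromNormalization := by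
  have hmem : genericPoint Y ∈ Set.range (NormL.fL Y L).fromNormalization := by
    refine ⟨(NormL.fL Y L).toNormalization (IsLocalRing.closedPoint L), ?_⟩
    have h1 : ((NormL.fL Y L).toNormalization ≫ (NormL.fL Y L).fromNormalization)
        (IsLocalRing.closedPoint L) = genericPoint Y := by
      rw [Scheme.Hom.toNormalization_fromNormalization]
      have h2 : (Spec.map (CommRingCat.ofHom (algebraMap Y.functionField L)))
          (IsLocalRing.closedPoint L) = IsLocalRing.closedPoint (Y.presheaf.stalk (genericPoint Y)) :=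
        Subsingleton.elim _ _
      show (Y.fromSpecStalk (genericPoint Y)) ((Spec.map (CommRingCat.ofHom
        (algebraMap Y.functionField L))) (IsLocalRing.closedPoint L)) = _
      rw [h2]
      exact Scheme.fromSpecStalk_closedPoint
    exact h1
  have hcl : IsClosed (Set.range (NormL.fL Y L).fromNormalization) :=
    (NormL.fL Y L).fromNormalization.isClosedMap.isClosed_range
  rw [← Set.range_eq_univ, ← Set.univ_subset_iff]
  have h1 : closure {genericPoint Y} ⊆ Set.range (NormL.fL Y L).fromNormalization :=
    hcl.closure_subset_iff.mpr (Set.singleton_subset_iff.mpr hmem)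
  have h2 : closure {genericPoint Y} = Set.univ := (genericPoint_spec Y).def
  rwa [h2] at h1

theorem universallyInjective_fromNormalization (Y : Scheme.{u}) [IsIntegral Y]
    (hY : ∀ y : Y, CAlg2.IsGeomUnibranch (Y.presheaf.stalk y)) (L : Type u) [Field L]
    [Algebra Y.functionField L] [IsPurelyInseparable Y.functionField L]
    [QuasiCompact (NormL.fL Y L)] [QuasiSeparated (NormL.fL Y L)] :
    UniversallyInjective (NormL.fL Y L).fromNormalization := by
  have htfae : UniversallyInjective (NormL.fL Y L).fromNormalization ↔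
      ∀ (K' : Type u) [Field K'], Function.Injective
        (fun g : Spec (.of K') ⟶ (NormL.fL Y L).normalization ↦
          g ≫ (NormL.fL Y L).fromNormalization) :=
    (tfae_universallyInjective (NormL.fL Y L).fromNormalization).out 0 1
  rw [htfae]
  intro K' _ g₁ g₂ h12
  simp only at h12
  set ν := (NormL.fL Y L).fromNormalization with hν
  obtain ⟨U, hU, hyU⟩ := NormSch.exists_affine Y ((g₁ ≫ ν) (IsLocalRing.closedPoint K'))
  have hW : IsAffineOpen (ν ⁻¹ᵁ U) := hU.preimage ν
  haveI : Nonempty U := ⟨⟨_, hyU⟩⟩
  have hr₁ : Set.range g₁ ⊆ Set.range hW.fromSpec := by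
    rw [hW.range_fromSpec]
    rintro _ ⟨z, rfl⟩
    have hz : z = IsLocalRing.closedPoint K' := Subsingleton.elim _ _
    rw [hz]
    exact hyU
  have hr₂ : Set.range g₂ ⊆ Set.range hW.fromSpec := by
    rw [hW.range_fromSpec]
    rintro _ ⟨z, rfl⟩
    have hz : z = IsLocalRing.closedPoint K' := Subsingleton.elim _ _
    rw [hz]
    have : (g₂ ≫ ν) (IsLocalRing.closedPoint K') ∈ U := by rw [← h12]; exact hyU
    exact this
  obtain ⟨γ₁, hγ₁⟩ := Spec.map_surjective (IsOpenImmersion.lift hW.fromSpec g₁ hr₁)
  obtain ⟨γ₂, hγ₂⟩ := Spec.map_surjective (IsOpenImmersion.lift hW.fromSpec g₂ hr₂)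
  have hg₁ : g₁ = Spec.map γ₁ ≫ hW.fromSpec := by
    rw [hγ₁, IsOpenImmersion.lift_fac]
  have hg₂ : g₂ = Spec.map γ₂ ≫ hW.fromSpec := by
    rw [hγ₂, IsOpenImmersion.lift_fac]
  have hsq := IsAffineOpen.SpecMap_appLE_fromSpec ν hU hW le_rfl
  have h3 : Spec.map γ₁ ≫ Spec.map (ν.appLE U (ν ⁻¹ᵁ U) le_rfl) =
      Spec.map γ₂ ≫ Spec.map (ν.appLE U (ν ⁻¹ᵁ U) le_rfl) := by
    rw [← cancel_mono hU.fromSpec, Category.assoc, Category.assoc, hsq, ← Category.assoc,
      ← Category.assoc, ← hg₁, ← hg₂]
    exact h12
  rw [← Spec.map_comp, ← Spec.map_comp] at h3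
  have h4 := Spec.map_injective h3
  rw [Scheme.Hom.appLE_eq_app] at h4
  -- ring level
  letI algL : Algebra Γ(Y, U) L :=
    ((algebraMap Y.functionField L).comp (algebraMap Γ(Y, U) Y.functionField)).toAlgebra
  obtain ⟨e, he⟩ := NormL.exists_app_equiv Y L hU
  haveI := functionField_isFractionRing_of_isAffineOpen Y U hU
  haveI : IsScalarTower Γ(Y, U) Y.functionField L := IsScalarTower.of_algebraMap_eq' rfl
  have hA : ∀ (p : Ideal Γ(Y, U)) [p.IsPrime], ∃ (R : Type u) (_ : CommRing R) (_ : IsDomain R)
      (_ : IsLocalRing R) (_ : Algebra Γ(Y, U) R) (_ : IsLocalization.AtPrime R p),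
      CAlg2.IsGeomUnibranch R := by
    intro p hp
    exact ⟨Y.presheaf.stalk (hU.fromSpec ⟨p, hp⟩), inferInstance, inferInstance, inferInstance,
      TopCat.Presheaf.algebra_section_stalk Y.presheaf ⟨_, (hU.isoSpec.inv _).2⟩,
      hU.isLocalization_stalk' ⟨p, hp⟩ (hU.isoSpec.inv _).2, hY _⟩
  have h5 : (γ₁.hom.comp (e.symm : _ →+* _)).comp (algebraMap Γ(Y, U) (integralClosure Γ(Y, U) L)) =
      (γ₂.hom.comp (e.symm : _ →+* _)).comp (algebraMap Γ(Y, U) (integralClosure Γ(Y, U) L)) := by
    ext a
    simp only [RingHom.comp_apply]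
    rw [← he a]
    simp only [RingEquiv.coe_toRingHom, RingEquiv.symm_apply_apply]
    have := congrArg (fun f => f.hom a) h4
    simpa only [CommRingCat.hom_comp, RingHom.comp_apply] using this
  have h6 := NormAff.eq_of_purelyInseparable Y.functionField L hA _ _ h5
  have h7 : γ₁ = γ₂ := by
    apply CommRingCat.hom_ext
    ext b
    have := congrArg (fun f => f (e b)) h6
    simpa only [RingHom.comp_apply, RingEquiv.coe_toRingHom, RingEquiv.symm_apply_apply] using this
  rw [hg₁, hg₂, h7]


/-- Let Y be a separated Noetherian integral scheme whose local rings are geometrically unibranch and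
whose affine coordinate rings are Nagata, K its function field and L a finite purely inseparable
extension of K; then the normalization of Y in L, i.e. the normalization of Y relative to Spec L →
Spec K → Y, maps to Y by a universal homeomorphism. (The instance binders on Spec L → Y always hold;
they are only needed to form the normalization.) -/
theorem result (Y : Scheme.{u}) [IsIntegral Y] [IsNoetherian Y] [Y.IsSeparated]
    (hY : ∀ y : Y, CAlg2.IsGeomUnibranch (Y.presheaf.stalk y))
    (hN : ∀ U : Y.affineOpens, CAlg.IsNagata Γ(Y, U))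
    (L : Type u) [Field L] [Algebra Y.functionField L] [FiniteDimensional Y.functionField L]
    [IsPurelyInseparable Y.functionField L]
    [QuasiCompact (Spec.map (CommRingCat.ofHom (algebraMap Y.functionField L)) ≫ Y.fromSpecStalk (genericPoint Y))]
    [QuasiSeparated (Spec.map (CommRingCat.ofHom (algebraMap Y.functionField L)) ≫ Y.fromSpecStalk (genericPoint Y))] :
    FlatMor.IsUnivHomeo
      (Spec.map (CommRingCat.ofHom (algebraMap Y.functionField L)) ≫ Y.fromSpecStalk (genericPoint Y)).fromNormalization := by
  haveI : UniversallyInjective (NormL.fL Y L).fromNormalization :=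
    universallyInjective_fromNormalization Y hY L
  haveI : Surjective (NormL.fL Y L).fromNormalization := ⟨surjective_fromNormalization Y L⟩
  haveI : UniversallyClosed (NormL.fL Y L).fromNormalization := inferInstance
  exact isUnivHomeo_of (NormL.fL Y L).fromNormalization

end Groth.Agent.S13836
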