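import Groth.Statements.S13843
import Groth.Agent.S13842
import Groth.Agent.Lib.Helper55.HmapComp
-- import your own Groth.Agent.* helpers here

set_option autoImplicit false
universe u
open CategoryTheory CategoryTheory.Limits AlgebraicGeometry
open GalCoh

namespace Groth.Agent.S13843


open Groth.Agent.Lib.Helper99.GalTransferAlg in
/-- vanishing of a pullback along a composite, via `Hpull_comp` of helper55 -/
theorem Hpull_comp_eq_zero_iff {A B C : Scheme.{u}} (a : A ⟶ B) (b : B ⟶ C) (c : A ⟶ C)
    (hc : a ≫ b = c)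
    [PreservesFiniteLimits (EtCoh.pull a)] [PreservesFiniteLimits (EtCoh.pull b)]
    [PreservesFiniteLimits (EtCoh.pull c)] (F : EtCoh.Ab C) (n : ℕ) (x : EtCoh.H C F n) :
    EtCore.Hpull c F n x = 0 ↔
      EtCore.Hpull a ((EtCoh.pull b).obj F) n (EtCore.Hpull b F n x) = 0 := by
  subst hc
  rw [Groth.Agent.Lib.Helper55.HmapComp.Hpull_comp a b F n x]
  constructor
  · intro h
    have h2 := congrArg (fun e => Abelian.Ext.comp e
      (Abelian.Ext.mk₀ ((EtCore.pullComp a b).hom.app F)) (add_zero n)) h
    simp only [Abelian.Ext.zero_comp] at h2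
    rw [Abelian.Ext.comp_assoc_of_third_deg_zero, Abelian.Ext.mk₀_comp_mk₀,
      Iso.inv_hom_id_app] at h2
    exact (Abelian.Ext.comp_mk₀_id _).symm.trans h2
  · intro h
    rw [h, Abelian.Ext.zero_comp]

/-- Let K be a field, F an abelian sheaf on the small étale site of Spec K, i > 0 and α a class in
H^i(Spec K, F) which pulls back to zero over some finite separable field extension L of K. If p is a
prime not dividing the order of α, then there is a finite separable field extension L' of K whose
degree is not divisible by p and over which α pulls back to zero. Hence the period and the index of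
α have the same prime factors. (Exactness of pullback of abelian sheaves, which always holds, is
carried as an instance hypothesis, in the conclusion for every such instance.) -/
theorem result (K : Type u) [Field K] (F : EtCoh.Ab (Spec (CommRingCat.of K))) (i : ℕ)
    (hi : 0 < i) (α : EtCoh.H (Spec (CommRingCat.of K)) F i) (L : Type u) [Field L] [Algebra K L] [FiniteDimensional K L]
    [Algebra.IsSeparable K L] [PreservesFiniteLimits (EtCoh.pull (Spec.map (CommRingCat.ofHom (algebraMap K L))))]
    (hα : EtCore.Hpull (Spec.map (CommRingCat.ofHom (algebraMap K L))) F i α = 0) (p : ℕ) (hp : p.Prime) (hpα : ¬ p ∣ addOrderOf α) :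
    ∃ (L' : Type u) (_ : Field L') (_ : Algebra K L') (_ : FiniteDimensional K L') (_ : Algebra.IsSeparable K L'),
      ¬ p ∣ Module.finrank K L' ∧
        ∀ [PreservesFiniteLimits (EtCoh.pull (Spec.map (CommRingCat.ofHom (algebraMap K L'))))],
          EtCore.Hpull (Spec.map (CommRingCat.ofHom (algebraMap K L'))) F i α = 0 := by
  classical
  have : Fact p.Prime := ⟨hp⟩
  -- the Galois closure `E'` of `L/K`
  let ι₀ : L →ₐ[K] AlgebraicClosure K := IsAlgClosed.lift
  let ι : L →ₐ[K] Groth.Agent.Lib.Helper99.GalTransferAlg.Gc K L :=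
    (normalClosure.algHomEquiv K L (AlgebraicClosure K)).symm ι₀
  have hGal : IsGalois K (Groth.Agent.Lib.Helper99.GalTransferAlg.Gc K L) :=
    isGalois_iff.2 ⟨inferInstance, inferInstance⟩
  -- `α` dies over `E'`
  have hE : EtCore.Hpull (Spec.map (CommRingCat.ofHom
      (algebraMap K (Groth.Agent.Lib.Helper99.GalTransferAlg.Gc K L)))) F i α = 0 := by
    have hc : Spec.map (CommRingCat.ofHom ι.toRingHom) ≫
        Spec.map (CommRingCat.ofHom (algebraMap K L)) =
        Spec.map (CommRingCat.ofHom
          (algebraMap K (Groth.Agent.Lib.Helper99.GalTransferAlg.Gc K L))) := by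
      rw [← Spec.map_comp, ← CommRingCat.ofHom_comp]
      congr 2
      exact ι.comp_algebraMap
    refine (Hpull_comp_eq_zero_iff _ _ _ hc F i α).2 ?_
    rw [hα, map_zero]
  -- a Sylow `p`-subgroup and its fixed field
  obtain ⟨P⟩ : Nonempty (Sylow p (Groth.Agent.Lib.Helper99.GalTransferAlg.Gc K L ≃ₐ[K]
    Groth.Agent.Lib.Helper99.GalTransferAlg.Gc K L)) := inferInstance
  let L' : IntermediateField K (Groth.Agent.Lib.Helper99.GalTransferAlg.Gc K L) :=
    IntermediateField.fixedField (P : Subgroup (Groth.Agent.Lib.Helper99.GalTransferAlg.Gc K L ≃ₐ[K]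
      Groth.Agent.Lib.Helper99.GalTransferAlg.Gc K L))
  have : Algebra.IsSeparable K L' :=
    Algebra.isSeparable_tower_bot_of_isSeparable K L'
      (Groth.Agent.Lib.Helper99.GalTransferAlg.Gc K L)
  have : Algebra.IsSeparable L' (Groth.Agent.Lib.Helper99.GalTransferAlg.Gc K L) :=
    Algebra.isSeparable_tower_top_of_isSeparable K L'
      (Groth.Agent.Lib.Helper99.GalTransferAlg.Gc K L)
  have hdeg : Module.finrank K L' =
      (P : Subgroup (Groth.Agent.Lib.Helper99.GalTransferAlg.Gc K L ≃ₐ[K]
        Groth.Agent.Lib.Helper99.GalTransferAlg.Gc K L)).index := by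
    rw [IntermediateField.finrank_eq_fixingSubgroup_index _ L',
      IntermediateField.fixingSubgroup_fixedField]
  have hdeg' : Module.finrank L' (Groth.Agent.Lib.Helper99.GalTransferAlg.Gc K L) =
      Nat.card (P : Subgroup (Groth.Agent.Lib.Helper99.GalTransferAlg.Gc K L ≃ₐ[K]
        Groth.Agent.Lib.Helper99.GalTransferAlg.Gc K L)) :=
    IntermediateField.finrank_fixedField_eq_card _
  obtain ⟨a, ha⟩ := IsPGroup.iff_card.1 P.2
  refine ⟨L', inferInstance, inferInstance, inferInstance, inferInstance, ?_, ?_⟩
  · rw [hdeg]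
    exact P.not_dvd_index
  · intro inst
    -- the class over `L'`
    have hc : Spec.map (CommRingCat.ofHom
        (algebraMap L' (Groth.Agent.Lib.Helper99.GalTransferAlg.Gc K L))) ≫
        Spec.map (CommRingCat.ofHom (algebraMap K L')) =
        Spec.map (CommRingCat.ofHom
          (algebraMap K (Groth.Agent.Lib.Helper99.GalTransferAlg.Gc K L))) := by
      rw [← Spec.map_comp, ← CommRingCat.ofHom_comp]
      rfl
    have hβ := (Hpull_comp_eq_zero_iff _ _ _ hc F i α).1 hE
    have h1 := Groth.Agent.S13842.result L'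
      ((EtCoh.pull (Spec.map (CommRingCat.ofHom (algebraMap K L')))).obj F) i hi
      (EtCore.Hpull (Spec.map (CommRingCat.ofHom (algebraMap K L'))) F i α)
      (Groth.Agent.Lib.Helper99.GalTransferAlg.Gc K L) hβ
    rw [hdeg', ha] at h1
    have h2 : addOrderOf α •
        EtCore.Hpull (Spec.map (CommRingCat.ofHom (algebraMap K L'))) F i α = 0 := by
      rw [← map_nsmul, addOrderOf_nsmul_eq_zero, map_zero]
    have h3 := addOrderOf_dvd_of_nsmul_eq_zero h1
    have h4 := addOrderOf_dvd_of_nsmul_eq_zero h2
    have hcop : Nat.Coprime (addOrderOf α) (p ^ a) :=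
      Nat.Coprime.pow_right a ((Nat.Prime.coprime_iff_not_dvd hp).2 hpα).symm
    have h5 : addOrderOf
        (EtCore.Hpull (Spec.map (CommRingCat.ofHom (algebraMap K L'))) F i α) = 1 :=
      Nat.eq_one_of_dvd_coprimes hcop h4 h3
    exact AddMonoid.addOrderOf_eq_one_iff.1 h5

end Groth.Agent.S13843
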