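import Groth.Statements.S13844
import Groth.Agent.Lib.Helper24.SmoothRegularPoint
import Groth.Agent.Lib.Helper38.NormSch

set_option autoImplicit false
universe u
open CategoryTheory CategoryTheory.Limits AlgebraicGeometry
attribute [local instance] Curv2.resAlgebra
open Curves

namespace Groth.Agent.S13844

/-- Let K be a field and C a normal curve over K, namely an integral normal separated K-scheme of finite
type of dimension one, and let S be a set of closed points of C whose residue fields are separable
over K. If the structure morphism of C is smooth at every point outside S, then it is smooth. (The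
published statement takes S to be a closed subscheme finite étale over K, that is finitely many such
points; this row allows any set of closed points with separable residue fields.) -/
theorem result (K : Type u) [Field K] (C : Scheme.{u}) [C.Over (Spec (CommRingCat.of K))]
    [IsIntegral C] [IsSeparated (C ↘ (Spec (CommRingCat.of K)))] [LocallyOfFinitePresentation (C ↘ (Spec (CommRingCat.of K)))]
    [QuasiCompact (C ↘ (Spec (CommRingCat.of K)))] (hN : ∀ x : C, IsIntegrallyClosed (C.presheaf.stalk x))
    (hdim : topologicalKrullDim C = 1) (S : Set C)
    (hS : ∀ x ∈ S, IsClosed ({x} : Set C) ∧ Algebra.IsSeparable K (C.residueField x))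
    (hsm : ∀ x : C, x ∉ S → x ∈ (C ↘ (Spec (CommRingCat.of K))).smoothLocus) :
    AlgebraicGeometry.Smooth (C ↘ (Spec (CommRingCat.of K))) := by
  have hN0 : IsLocallyNoetherian (Spec (CommRingCat.of K)) := inferInstance
  have hNoeth : IsLocallyNoetherian C :=
    LocallyOfFiniteType.isLocallyNoetherian (C ↘ Spec (CommRingCat.of K))
  rw [← Scheme.Hom.smoothLocus_eq_top_iff]
  ext x
  simp only [TopologicalSpace.Opens.coe_top, Set.mem_univ, iff_true, SetLike.mem_coe]
  by_cases hxS : x ∈ S
  · obtain ⟨-, hsep⟩ := hS x hxS
    have hfs : (Curv2.resMap K C x).FormallySmooth := by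
      have h1 : Algebra.FormallyEtale K (C.residueField x) :=
        Algebra.FormallyEtale.of_isSeparable K _
      have h2 : Algebra.FormallySmooth K (C.residueField x) := inferInstance
      exact RingHom.formallySmooth_algebraMap.mpr h2
    have hle : Ring.KrullDimLE 1 (C.presheaf.stalk x) :=
      Groth.Agent.Lib.Helper38.NormSch.krullDimLE_one_stalk C hdim x
    have hic := hN x
    have h4 : IsIntegrallyClosed (C.presheaf.stalk x) ∧ ∀ P : Ideal (C.presheaf.stalk x),
        P ≠ ⊥ → P.IsPrime → P = IsLocalRing.maximalIdeal (C.presheaf.stalk x) :=
      ⟨hic, fun P hP hP' => IsLocalRing.eq_maximalIdeal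
        (Ring.krullDimLE_one_iff_of_isPrime_bot.mp hle P hP hP')⟩
    have hpid : IsPrincipalIdealRing (C.presheaf.stalk x) :=
      ((tfae_of_isNoetherianRing_of_isLocalRing_of_isDomain (C.presheaf.stalk x)).out 3 0).mp h4
    have hreg : IsRegularLocalRing (C.presheaf.stalk x) := inferInstance
    exact Groth.Agent.Lib.Helper24.mem_smoothLocus_of_isRegularLocalRing_of_formallySmooth_residueField
      K _ x hreg hfs
  · exact hsm x hxS

end Groth.Agent.S13844
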