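import Groth.Statements.S13846
import Mathlib
import Groth.Agent.Lib.Helper68.GradedSkolem

set_option autoImplicit false
universe u v
open TwSh

namespace Groth.Agent.S13846

/-- Let k be a field and V, W finite-dimensional ℤ-graded k-vector spaces, V = ⊕ V_i with V ≠ 0 and W =
⊕ W_i. Let φ : End_k(V) ≃ End_k(W) be a k-algebra isomorphism which sends every endomorphism
homogeneous of degree d (one mapping V_i into V_{i+d} for all i) to an endomorphism homogeneous of
degree d. Then there are an integer n and a k-linear isomorphism g : V ≅ W with g(V_i) = W_{i+n} for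
every i such that φ(f) = g ∘ f ∘ g⁻¹ for all f; moreover n is unique and g is unique up to a nonzero
scalar: if g' : V ≅ W satisfies g'(V_i) = W_{i+n'} for all i and φ(f) = g' ∘ f ∘ g'⁻¹ for all f,
then n' = n and g' = c·g for some c ∈ kˣ. (The published statement is about non-zero perfect
complexes over k: an isomorphism of their derived endomorphism algebras, as algebra objects of the
derived category, is induced by an isomorphism from the first complex to a shift of the second, for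
a unique shift and up to a unit; this row is its form for finite-dimensional ℤ-graded vector spaces,
to which the bounded derived category of a field is equivalent by taking cohomology.) -/
theorem result (k : Type u) [Field k] (V W : Type v) [AddCommGroup V] [Module k V] [FiniteDimensional k V] [Nontrivial V] [AddCommGroup W] [Module k W] [FiniteDimensional k W] (𝒱 : ℤ → Submodule k V) (h𝒱 : DirectSum.IsInternal 𝒱) (𝒲 : ℤ → Submodule k W) (h𝒲 : DirectSum.IsInternal 𝒲) (φ : Module.End k V ≃ₐ[k] Module.End k W) (hφ : ∀ (d : ℤ) (f : Module.End k V), (∀ (i : ℤ) (x : V), x ∈ 𝒱 i → f x ∈ 𝒱 (i + d)) → ∀ (i : ℤ) (y : W), y ∈ 𝒲 i → φ f y ∈ 𝒲 (i + d)) : ∃ (n : ℤ) (g : V ≃ₗ[k] W), (∀ i : ℤ, Submodule.map (g : V →ₗ[k] W) (𝒱 i) = 𝒲 (i + n)) ∧ (∀ f : Module.End k V, φ f = (g : V →ₗ[k] W) ∘ₗ f ∘ₗ (g.symm : W →ₗ[k] V)) ∧ ∀ (n' : ℤ) (g' : V ≃ₗ[k] W), (∀ i : ℤ, Submodule.map (g' : V →ₗ[k] W) (𝒱 i) = 𝒲 (i + n')) → (∀ f : Module.End k V, φ f = (g' : V →ₗ[k] W)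 ∘ₗ f ∘ₗ (g'.symm : W →ₗ[k] V)) → n' = n ∧ ∃ c : kˣ, ∀ x : V, g' x = c • g x := by
  obtain ⟨T, hT⟩ := φ.eq_linearEquivConjAlgEquiv
  have hφT : ∀ f : Module.End k V, φ f = (T : V →ₗ[k] W) ∘ₗ f ∘ₗ (T.symm : W →ₗ[k] V) := by
    intro f
    rw [hT]
    rfl
  obtain ⟨n, hn⟩ := Groth.Agent.Lib.Helper68.GradedSkolem.exists_shift 𝒱 𝒲 h𝒱 h𝒲 T
    (fun d f hf i y hy => by
      have := hφ d f hf i y hy
      rw [hφT] at this
      exact this)
  refine ⟨n, T, hn, hφT, ?_⟩
  intro n' g' hn' hg'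
  have hconj : g'.conjAlgEquiv k = T.conjAlgEquiv k := by
    refine AlgEquiv.ext fun f => ?_
    rw [LinearEquiv.conjAlgEquiv_apply, LinearEquiv.conjAlgEquiv_apply]
    exact (hg' f).symm.trans (hφT f)
  obtain ⟨c, hc⟩ := (LinearEquiv.conjAlgEquiv_ext_iff' g' T).mp hconj
  have hgx : ∀ x : V, g' x = c • T x := by
    intro x
    rw [hc]
    rfl
  refine ⟨?_, c, hgx⟩
  obtain ⟨i₀, hi₀⟩ := Groth.Agent.Lib.Helper68.GradedSkolem.exists_ne_bot 𝒱 h𝒱
  have hmap : Submodule.map (g' : V →ₗ[k] W) (𝒱 i₀) = Submodule.map (T : V →ₗ[k] W) (𝒱 i₀) := by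
    ext w
    constructor
    · rintro ⟨x, hx, rfl⟩
      refine ⟨c • x, Submodule.smul_mem _ _ hx, ?_⟩
      simp only [LinearEquiv.coe_coe]
      rw [hgx, Units.smul_def, Units.smul_def, map_smul]
    · rintro ⟨x, hx, rfl⟩
      refine ⟨c⁻¹ • x, Submodule.smul_mem _ _ hx, ?_⟩
      simp only [LinearEquiv.coe_coe]
      rw [hgx, Units.smul_def c⁻¹ x, map_smul, ← Units.smul_def, smul_inv_smul]
  have heq : 𝒲 (i₀ + n') = 𝒲 (i₀ + n) := by rw [← hn', ← hn, hmap]
  have hne : 𝒲 (i₀ + n) ≠ ⊥ := by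
    rw [← hn]
    intro h0
    apply hi₀
    rw [Submodule.map_eq_bot_iff] at h0
    exact h0
  have hne' : 𝒲 (i₀ + n') ≠ ⊥ := by rw [heq]; exact hne
  have := h𝒲.submodule_iSupIndep.injOn hne' hne heq
  linarith

end Groth.Agent.S13846
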