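import Groth.Statements.S13847
import Mathlib

set_option autoImplicit false
universe u v w
open TwSh

namespace Groth.Agent.S13847

set_option linter.style.haveILetI false
set_option linter.unusedSectionVars false

open Submodule

section LemN
variable {A : Type u} [Ring A] {P : Type v} [AddCommGroup P] [Module A P]

/-- Lemma N: an endomorphism of a f.g. projective module congruent to `1` modulo the radical
is bijective. -/
theorem bijective_of_sub_one_mem [Module.Finite A P] [Module.Projective A P]
    (θ : Module.End A P) (hθ : ∀ p, θ p - p ∈ (Ring.jacobson A • ⊤ : Submodule A P)) :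
    Function.Bijective θ := by
  -- surjective
  have hsurj : Function.Surjective θ := by
    rw [← LinearMap.range_eq_top]
    set R := LinearMap.range θ with hR
    have hfg : (⊤ : Submodule A (P ⧸ R)).FG := Module.Finite.fg_top
    have hle : (⊤ : Submodule A (P ⧸ R)) ≤ Ring.jacobson A • ⊤ := by
      rintro x -
      obtain ⟨p, rfl⟩ := R.mkQ_surjective x
      have h1 : R.mkQ p = - R.mkQ (θ p - p) := by
        rw [map_sub, neg_sub]
        have : R.mkQ (θ p) = 0 := by
          rw [← LinearMap.mem_ker, Submodule.ker_mkQ]; exact ⟨p, rfl⟩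
        rw [this, sub_zero]
      rw [h1]
      apply Submodule.neg_mem
      have h2 := Submodule.mem_map_of_mem (f := R.mkQ) (hθ p)
      rw [Submodule.map_smul'', Submodule.map_top, Submodule.range_mkQ] at h2
      exact h2
    have h3 := hfg.eq_bot_of_le_jacobson_smul hle
    have h4 : Subsingleton (P ⧸ R) := by
      rw [← Submodule.subsingleton_iff A, ← subsingleton_iff_bot_eq_top]
      exact h3.symm
    exact Submodule.Quotient.subsingleton_iff.mp h4
  refine ⟨?_, hsurj⟩
  -- injective
  obtain ⟨s, hs⟩ := Module.projective_lifting_property θ LinearMap.id hsurj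
  -- `θ ∘ s = id`
  set π : Module.End A P := LinearMap.id - s ∘ₗ θ with hπ
  have hπK : ∀ p, θ (π p) = 0 := by
    intro p
    have := LinearMap.congr_fun hs (θ p)
    simp only [LinearMap.comp_apply, LinearMap.id_apply] at this
    simp [hπ, this]
  have hKπ : ∀ k, θ k = 0 → π k = k := by
    intro k hk
    simp [hπ, hk]
  set K := LinearMap.range π with hK
  have hKfg : K.FG := by
    rw [hK, LinearMap.range_eq_map]
    exact Module.Finite.fg_top.map π
  have hKle : K ≤ Ring.jacobson A • K := by
    rintro _ ⟨p, rfl⟩
    have h0 : θ (π p) = 0 := hπK p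
    have h1 : π p ∈ (Ring.jacobson A • ⊤ : Submodule A P) := by
      have := hθ (π p)
      rw [h0, zero_sub] at this
      simpa using Submodule.neg_mem _ this
    have h2 := Submodule.mem_map_of_mem (f := π) h1
    rw [Submodule.map_smul'', Submodule.map_top, hKπ _ h0] at h2
    exact h2
  have hK0 := hKfg.eq_bot_of_le_jacobson_smul hKle
  rw [← LinearMap.ker_eq_bot, eq_bot_iff]
  intro k hk
  have h1 : π k = k := hKπ k hk
  have h2 : π k ∈ K := ⟨k, rfl⟩
  rw [hK0, Submodule.mem_bot] at h2
  rw [Submodule.mem_bot, ← h1, h2]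

end LemN

variable (A : Type u) [Ring A] (P : Type v) [AddCommGroup P] [Module A P]

/-- `P / JP`. -/
abbrev Bar : Type v := P ⧸ (Ring.jacobson A • ⊤ : Submodule A P)

/-- `A / J`. -/
abbrev ABar : Type u := A ⧸ Ring.jacobson A

variable {A P}

theorem le_comap_jac {Q : Type*} [AddCommGroup Q] [Module A Q] (f : P →ₗ[A] Q) :
    (Ring.jacobson A • ⊤ : Submodule A P) ≤ (Ring.jacobson A • ⊤ : Submodule A Q).comap f := by
  rw [← Submodule.map_le_iff_le_comap, Submodule.map_smul'']
  exact Submodule.smul_mono le_rfl le_top

theorem mk_smul_bar (a : A) (x : Bar A P) : (Ideal.Quotient.mk (Ring.jacobson A) a) • x = a • x := rfl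

/-- An `A/J`-linear map between bar-modules is `A`-linear. -/
def toA {M N : Type*} [AddCommGroup M] [Module A M] [Module (ABar A) M] [AddCommGroup N] [Module A N]
    [Module (ABar A) N]
    (hM : ∀ (a : A) (x : M), (Ideal.Quotient.mk (Ring.jacobson A) a) • x = a • x)
    (hN : ∀ (a : A) (x : N), (Ideal.Quotient.mk (Ring.jacobson A) a) • x = a • x)
    (g : M →ₗ[ABar A] N) : M →ₗ[A] N where
  toFun := g
  map_add' := g.map_add
  map_smul' a x := by
    simp only [RingHom.id_apply]
    rw [← hM, ← hN, g.map_smul]

/-- An `A`-linear map between bar-modules is `A/J`-linear. -/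
def ofA {M N : Type*} [AddCommGroup M] [Module A M] [Module (ABar A) M] [AddCommGroup N] [Module A N]
    [Module (ABar A) N]
    (hM : ∀ (a : A) (x : M), (Ideal.Quotient.mk (Ring.jacobson A) a) • x = a • x)
    (hN : ∀ (a : A) (x : N), (Ideal.Quotient.mk (Ring.jacobson A) a) • x = a • x)
    (g : M →ₗ[A] N) : M →ₗ[ABar A] N where
  toFun := g
  map_add' := g.map_add
  map_smul' a x := by
    obtain ⟨a, rfl⟩ := Ideal.Quotient.mk_surjective a
    simp only [RingHom.id_apply]
    rw [hM, hN, g.map_smul]

/-- The induced map on `P/JP → Q/JQ`, as an `A/J`-linear map. -/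
noncomputable def barMap {Q : Type*} [AddCommGroup Q] [Module A Q] (f : P →ₗ[A] Q) :
    Bar A P →ₗ[ABar A] Bar A Q :=
  ofA mk_smul_bar mk_smul_bar (Submodule.mapQ _ _ f (le_comap_jac f))

@[simp] theorem barMap_mk {Q : Type*} [AddCommGroup Q] [Module A Q] (f : P →ₗ[A] Q) (p : P) :
    barMap f (Submodule.Quotient.mk p) = Submodule.Quotient.mk (f p) := rfl

/-- The ring homomorphism `End_A(P) → End_{A/J}(P/JP)`. -/
noncomputable def rho : Module.End A P →+* Module.End (ABar A) (Bar A P) where
  toFun := barMap
  map_one' := LinearMap.ext fun x => by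
    induction x using Submodule.Quotient.induction_on with
    | H p => rfl
  map_mul' f g := LinearMap.ext fun x => by
    induction x using Submodule.Quotient.induction_on with
    | H p => rfl
  map_zero' := LinearMap.ext fun x => by
    induction x using Submodule.Quotient.induction_on with
    | H p => rfl
  map_add' f g := LinearMap.ext fun x => by
    induction x using Submodule.Quotient.induction_on with
    | H p => rfl

@[simp] theorem rho_mk (f : Module.End A P) (p : P) :
    rho f (Submodule.Quotient.mk p) = Submodule.Quotient.mk (f p) := rfl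

theorem rho_eq_zero_iff (f : Module.End A P) :
    rho f = 0 ↔ ∀ p, f p ∈ (Ring.jacobson A • ⊤ : Submodule A P) := by
  constructor
  · intro h p
    have := LinearMap.congr_fun h (Submodule.Quotient.mk p)
    rw [rho_mk, LinearMap.zero_apply, Submodule.Quotient.mk_eq_zero] at this
    exact this
  · intro h
    refine LinearMap.ext fun x => ?_
    obtain ⟨p, rfl⟩ := Submodule.Quotient.mk_surjective _ x
    rw [rho_mk, LinearMap.zero_apply, Submodule.Quotient.mk_eq_zero]
    exact h p

theorem exists_lift [Module.Projective A P] {Q : Type*} [AddCommGroup Q] [Module A Q]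
    (g : Bar A P →ₗ[ABar A] Bar A Q) : ∃ f : P →ₗ[A] Q, barMap f = g := by
  obtain ⟨f, hf⟩ := Module.projective_lifting_property
    (Submodule.mkQ (Ring.jacobson A • ⊤ : Submodule A Q))
    ((toA mk_smul_bar mk_smul_bar g).comp (Submodule.mkQ (Ring.jacobson A • ⊤ : Submodule A P)))
    (Submodule.mkQ_surjective _)
  refine ⟨f, ?_⟩
  refine LinearMap.ext fun x => ?_
  obtain ⟨p, rfl⟩ := Submodule.Quotient.mk_surjective _ x
  have := LinearMap.congr_fun hf p
  simp only [LinearMap.comp_apply, Submodule.mkQ_apply] at this
  rw [barMap_mk, this]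
  rfl

theorem rho_surjective [Module.Projective A P] : Function.Surjective (rho (A := A) (P := P)) :=
  fun g => exists_lift g


theorem ring_jacobson_eq (R : Type*) [Ring R] : Ring.jacobson R = Ideal.jacobson ⊥ := by
  rw [Ring.jacobson_eq_sInf_isMaximal]
  simp [Ideal.jacobson]

instance instIsScalarTowerBar : IsScalarTower A (ABar A) (Bar A P) where
  smul_assoc a b x := by
    obtain ⟨b, rfl⟩ := Ideal.Quotient.mk_surjective b
    change (Ideal.Quotient.mk (Ring.jacobson A) (a * b)) • x = a • ((Ideal.Quotient.mk (Ring.jacobson A) b) • x)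
    rw [mk_smul_bar, mk_smul_bar, mul_smul]

instance instFiniteBar [Module.Finite A P] : Module.Finite (ABar A) (Bar A P) :=
  Module.Finite.of_restrictScalars_finite A (ABar A) (Bar A P)

/-- Elements of the kernel of `rho` lie in the Jacobson radical. -/
theorem mem_jacobson_of_rho_eq_zero [Module.Finite A P] [Module.Projective A P]
    (f : Module.End A P) (hf : rho f = 0) : f ∈ Ring.jacobson (Module.End A P) := by
  rw [ring_jacobson_eq, Ideal.mem_jacobson_iff]
  intro y
  have h1 : rho (y * f) = 0 := by rw [map_mul, hf, mul_zero]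
  rw [rho_eq_zero_iff] at h1
  have h2 : Function.Bijective (1 + y * f : Module.End A P) := by
    apply bijective_of_sub_one_mem
    intro p
    have : (1 + y * f : Module.End A P) p - p = (y * f) p := by
      simp
    rw [this]
    exact h1 p
  obtain ⟨u, hu⟩ := (Module.End.isUnit_iff _).2 h2
  refine ⟨(↑u⁻¹ : Module.End A P), ?_⟩
  rw [Submodule.mem_bot, mul_assoc]
  have : (↑u⁻¹ : Module.End A P) * (y * f) + ↑u⁻¹ = ↑u⁻¹ * (1 + y * f) := by
    rw [mul_add, mul_one, add_comm]
  rw [this, ← hu, Units.inv_mul, sub_self]

theorem mem_jacobson_iff_rho_eq_zero [IsSimpleRing (ABar A)] [IsArtinianRing (ABar A)]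
    [Module.Finite A P] [Module.Projective A P] (f : Module.End A P) :
    f ∈ Ring.jacobson (Module.End A P) ↔ rho f = 0 := by
  refine ⟨fun hf => ?_, mem_jacobson_of_rho_eq_zero f⟩
  haveI : RingHomSurjective (rho (A := A) (P := P)) := ⟨rho_surjective⟩
  haveI : IsSemisimpleRing (Module.End (ABar A) (Bar A P)) :=
    IsSemisimpleRing.moduleEnd (ABar A) (Bar A P)
  have h1 := Ring.map_jacobson_le (rho (A := A) (P := P))
  have h0 := IsSemisimpleRing.jacobson_eq_bot (Module.End (ABar A) (Bar A P))
  have h2 : rho f ∈ Submodule.map (rho (A := A) (P := P)).toSemilinearMap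
      (Ring.jacobson (Module.End A P)) := ⟨f, hf, rfl⟩
  have h3 := h1 h2
  rw [h0, Submodule.mem_bot] at h3
  exact h3

section Count

variable {R : Type u} [Ring R]

/-- `k` nonzero pairwise orthogonal idempotent endomorphisms force length at least `k`. -/
theorem card_le_length_of_orthogonal : ∀ (k : ℕ) {M : Type w} [AddCommGroup M] [Module R M]
    (x : Fin k → Module.End R M) (_ : ∀ i, x i * x i = x i)
    (_ : ∀ i j, i ≠ j → x i * x j = 0) (_ : ∀ i, x i ≠ 0), (k : ℕ∞) ≤ Module.length R M := by
  intro k
  induction k with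
  | zero => intro M _ _ x _ _ _; simp
  | succ k ih =>
    intro M _ _ x hid horth hne
    set K := LinearMap.ker (x 0) with hK
    have hmem : ∀ (j : Fin k) (m : M), x j.succ m ∈ K := by
      intro j m
      rw [hK, LinearMap.mem_ker]
      have := LinearMap.congr_fun (horth 0 j.succ (Fin.succ_ne_zero j).symm) m
      simpa using this
    let y : Fin k → Module.End R K := fun j => (x j.succ).restrict (fun m _ => hmem j m)
    have hy : ∀ j (m : K), ((y j) m : M) = x j.succ m := fun j m => rfl
    have h1 : (k : ℕ∞) ≤ Module.length R K := by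
      apply ih y
      · intro j
        refine LinearMap.ext fun m => Subtype.ext ?_
        rw [Module.End.mul_apply, hy, hy]
        have := LinearMap.congr_fun (hid j.succ) m
        simpa using this
      · intro i j hij
        refine LinearMap.ext fun m => Subtype.ext ?_
        rw [Module.End.mul_apply, hy, hy]
        have := LinearMap.congr_fun (horth i.succ j.succ (fun h => hij (Fin.succ_injective _ h))) m
        simpa using this
      · intro j h0
        apply hne j.succ
        refine LinearMap.ext fun m => ?_
        have h2 := LinearMap.congr_fun h0 ⟨x j.succ m, hmem j m⟩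
        have h3 : ((y j) ⟨x j.succ m, hmem j m⟩ : M) = 0 := by rw [h2]; rfl
        rw [hy] at h3
        have h4 := LinearMap.congr_fun (hid j.succ) m
        rw [Module.End.mul_apply] at h4
        rw [LinearMap.zero_apply, ← h4]
        exact h3
    have h2 : Module.length R M = Module.length R K + Module.length R (LinearMap.range (x 0)) :=
      Module.length_eq_add_of_exact K.subtype (x 0).rangeRestrict (Submodule.subtype_injective _)
        (LinearMap.surjective_rangeRestrict _) (by
          rw [LinearMap.exact_iff, LinearMap.ker_rangeRestrict, Submodule.range_subtype])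
    have h3 : (1 : ℕ∞) ≤ Module.length R (LinearMap.range (x 0)) := by
      have : Nontrivial (LinearMap.range (x 0)) := by
        rw [Submodule.nontrivial_iff_ne_bot, Ne, LinearMap.range_eq_bot]
        exact hne 0
      have := Module.length_pos (R := R) (M := LinearMap.range (x 0))
      exact Order.one_le_iff_pos.mpr this
    rw [h2]
    push_cast
    exact add_le_add h1 h3

/-- a power of a nontrivial module has enough orthogonal idempotents. -/
theorem exists_orthogonal {M : Type v} [AddCommGroup M] [Module R M] {S : Type w}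
    [AddCommGroup S] [Module R S] [Nontrivial S] (a : ℕ) (e : M ≃ₗ[R] (Fin a → S)) (k : ℕ)
    (hk : k ≤ a) :
    ∃ x : Fin k → Module.End R M, (∀ i, x i * x i = x i) ∧ (∀ i j, i ≠ j → x i * x j = 0) ∧
      ∀ i, x i ≠ 0 := by
  classical
  let q : Fin a → Module.End R (Fin a → S) := fun i =>
    (LinearMap.single R (fun _ => S) i) ∘ₗ (LinearMap.proj i)
  have hq1 : ∀ i, q i * q i = q i := by
    intro i
    refine LinearMap.ext fun m => ?_
    simp [q, Module.End.mul_apply]
  have hq2 : ∀ i j, i ≠ j → q i * q j = 0 := by
    intro i j hij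
    refine LinearMap.ext fun m => ?_
    simp [q, Module.End.mul_apply, Pi.single_eq_of_ne hij]
  have hq3 : ∀ i, q i ≠ 0 := by
    intro i h0
    obtain ⟨s, hs⟩ := exists_ne (0 : S)
    have := LinearMap.congr_fun h0 (Pi.single i s)
    simp only [q, LinearMap.comp_apply, LinearMap.proj_apply, Pi.single_eq_same,
      LinearMap.zero_apply, LinearMap.coe_single] at this
    exact hs (Pi.single_eq_zero_iff.mp this)
  refine ⟨fun i => e.symm.conjRingEquiv (q (Fin.castLE hk i)), ?_, ?_, ?_⟩
  · intro i
    rw [← map_mul, hq1]
  · intro i j hij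
    rw [← map_mul, hq2, map_zero]
    intro h
    exact hij (Fin.castLE_injective hk h)
  · intro i h0
    exact hq3 _ ((map_eq_zero_iff _ (RingEquiv.injective _)).mp h0)

end Count


section Invariant

/-- `k` elements which are nonzero orthogonal idempotents modulo the radical. -/
def HasOI (R : Type*) [Ring R] (k : ℕ) : Prop :=
  ∃ x : Fin k → R, (∀ i, x i * x i - x i ∈ Ring.jacobson R) ∧
    (∀ i j, i ≠ j → x i * x j ∈ Ring.jacobson R) ∧ ∀ i, x i ∉ Ring.jacobson R

theorem mem_jacobson_of_ringEquiv {R R' : Type*} [Ring R] [Ring R'] (e : R ≃+* R') (x : R)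
    (hx : x ∈ Ring.jacobson R) : e x ∈ Ring.jacobson R' := by
  rw [ring_jacobson_eq, Ideal.mem_jacobson_iff] at hx ⊢
  intro y'
  obtain ⟨z, hz⟩ := hx (e.symm y')
  refine ⟨e z, ?_⟩
  rw [Submodule.mem_bot] at hz ⊢
  have := congrArg e hz
  simpa using this

theorem mem_jacobson_ringEquiv_iff {R R' : Type*} [Ring R] [Ring R'] (e : R ≃+* R') (x : R) :
    e x ∈ Ring.jacobson R' ↔ x ∈ Ring.jacobson R := by
  refine ⟨fun h => ?_, mem_jacobson_of_ringEquiv e x⟩
  have := mem_jacobson_of_ringEquiv e.symm (e x) h
  simpa using this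

theorem HasOI.of_ringEquiv {R R' : Type*} [Ring R] [Ring R'] (e : R ≃+* R') {k : ℕ}
    (h : HasOI R k) : HasOI R' k := by
  obtain ⟨x, h1, h2, h3⟩ := h
  refine ⟨fun i => e (x i), fun i => ?_, fun i j hij => ?_, fun i => ?_⟩
  · have := mem_jacobson_of_ringEquiv e _ (h1 i)
    simpa using this
  · have := mem_jacobson_of_ringEquiv e _ (h2 i j hij)
    simpa using this
  · rw [mem_jacobson_ringEquiv_iff]
    exact h3 i

end Invariant

section Main

variable {A : Type u} [Ring A] [IsSimpleRing (ABar A)] [IsArtinianRing (ABar A)]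

theorem hasOI_end_iff {P : Type v} [AddCommGroup P] [Module A P] [Module.Finite A P]
    [Module.Projective A P] {S : Type w} [AddCommGroup S] [Module (ABar A) S]
    [IsSimpleModule (ABar A) S] (a : ℕ) (e : Bar A P ≃ₗ[ABar A] (Fin a → S)) (k : ℕ) :
    HasOI (Module.End A P) k ↔ k ≤ a := by
  have hlen : Module.length (ABar A) (Bar A P) = a := by
    rw [e.length_eq, Module.length_pi_of_fintype]
    simp [Module.length_eq_one]
  constructor
  · rintro ⟨x, h1, h2, h3⟩
    have := card_le_length_of_orthogonal (R := ABar A) k (fun i => rho (x i))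
      (fun i => by
        have := (mem_jacobson_iff_rho_eq_zero _).1 (h1 i)
        rw [map_sub, map_mul, sub_eq_zero] at this
        exact this)
      (fun i j hij => by
        have := (mem_jacobson_iff_rho_eq_zero _).1 (h2 i j hij)
        rw [map_mul] at this
        exact this)
      (fun i h0 => h3 i ((mem_jacobson_iff_rho_eq_zero _).2 h0))
    rw [hlen] at this
    exact_mod_cast this
  · intro hk
    haveI : Nontrivial S := IsSimpleModule.nontrivial (ABar A) S
    obtain ⟨y, hy1, hy2, hy3⟩ := exists_orthogonal (R := ABar A) a e k hk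
    choose x hx using fun i => rho_surjective (A := A) (P := P) (y i)
    refine ⟨x, fun i => ?_, fun i j hij => ?_, fun i => ?_⟩
    · rw [mem_jacobson_iff_rho_eq_zero, map_sub, map_mul, hx, hy1, sub_self]
    · rw [mem_jacobson_iff_rho_eq_zero, map_mul, hx, hx, hy2 i j hij]
    · rw [mem_jacobson_iff_rho_eq_zero, hx]
      exact hy3 i

theorem barMap_comp {P Q T : Type*} [AddCommGroup P] [Module A P] [AddCommGroup Q] [Module A Q]
    [AddCommGroup T] [Module A T] (g : Q →ₗ[A] T) (f : P →ₗ[A] Q) :
    barMap (g ∘ₗ f) = barMap g ∘ₗ barMap f := by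
  refine LinearMap.ext fun x => ?_
  obtain ⟨p, rfl⟩ := Submodule.Quotient.mk_surjective _ x
  rfl

theorem bijective_of_barMap_eq_id {P : Type v} [AddCommGroup P] [Module A P] [Module.Finite A P]
    [Module.Projective A P] (θ : Module.End A P) (h : barMap θ = LinearMap.id) :
    Function.Bijective θ := by
  apply bijective_of_sub_one_mem
  intro p
  have := LinearMap.congr_fun h (Submodule.Quotient.mk p)
  rw [barMap_mk, LinearMap.id_apply, Submodule.Quotient.eq] at this
  exact this

/-- Lifting isomorphisms modulo the radical. -/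
theorem nonempty_linearEquiv_of_bar {P Q : Type v} [AddCommGroup P] [Module A P]
    [Module.Finite A P] [Module.Projective A P] [AddCommGroup Q] [Module A Q] [Module.Finite A Q]
    [Module.Projective A Q] (φ : Bar A P ≃ₗ[ABar A] Bar A Q) : Nonempty (P ≃ₗ[A] Q) := by
  obtain ⟨f, hf⟩ := exists_lift (φ : Bar A P →ₗ[ABar A] Bar A Q)
  obtain ⟨g, hg⟩ := exists_lift (φ.symm : Bar A Q →ₗ[ABar A] Bar A P)
  have h1 : Function.Bijective (g ∘ₗ f) := by
    apply bijective_of_barMap_eq_id
    rw [barMap_comp, hf, hg]
    exact LinearMap.ext fun x => by simp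
  have h2 : Function.Bijective (f ∘ₗ g) := by
    apply bijective_of_barMap_eq_id
    rw [barMap_comp, hf, hg]
    exact LinearMap.ext fun x => by simp
  have hinj : Function.Injective f := by
    have : Function.Injective (g ∘ f) := h1.1
    exact this.of_comp
  have hsurj : Function.Surjective f := by
    have : Function.Surjective (f ∘ g) := h2.2
    exact this.of_comp
  exact ⟨LinearEquiv.ofBijective f ⟨hinj, hsurj⟩⟩

theorem main (P Q : Type v) [AddCommGroup P] [Module A P] [Module.Finite A P]
    [Module.Projective A P] [AddCommGroup Q] [Module A Q] [Module.Finite A Q]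
    [Module.Projective A Q] (e : Module.End A P ≃+* Module.End A Q) : Nonempty (P ≃ₗ[A] Q) := by
  -- a simple left ideal
  obtain ⟨S₀, hS₀⟩ := IsAtomic.exists_atom (Submodule (ABar A) (ABar A))
  rw [← isSimpleModule_iff_isAtom] at hS₀
  have hiso : ∀ (M : Type v) [AddCommGroup M] [Module (ABar A) M],
      IsIsotypicOfType (ABar A) M S₀ := by
    intro M _ _ m hm
    obtain ⟨I, ⟨e⟩⟩ := IsSemisimpleRing.exists_linearEquiv_ideal_of_isSimpleModule (ABar A) m
    haveI : IsSimpleModule (ABar A) I := IsSimpleModule.congr e.symm
    exact ⟨e.trans ((IsSimpleRing.isIsotypic (ABar A) (ABar A)) S₀ I).some⟩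
  obtain ⟨a, ⟨eP⟩⟩ := (hiso (Bar A P)).linearEquiv_fun
  obtain ⟨b, ⟨eQ⟩⟩ := (hiso (Bar A Q)).linearEquiv_fun
  have hab : a = b := by
    apply le_antisymm
    · rw [← hasOI_end_iff b eQ a]
      exact ((hasOI_end_iff a eP a).2 le_rfl).of_ringEquiv e
    · rw [← hasOI_end_iff a eP b]
      exact ((hasOI_end_iff b eQ b).2 le_rfl).of_ringEquiv e.symm
  subst hab
  exact nonempty_linearEquiv_of_bar (eP.trans eQ.symm)

end Main


/-- Let A be a ring which is strongly local, that is, the quotient of A by its Jacobson radical J is a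
simple left-Artinian ring, and let P and Q be finitely generated projective left A-modules. If
End_A(P) and End_A(Q) are isomorphic as rings, then P ≅ Q as A-modules. (The published assertion
says more, that every ring isomorphism End_A(P) ≅ End_A(Q) is induced by an isomorphism P ≅ Q; that
is not correct for isomorphisms which are not linear over the centre — complex conjugation is a ring
automorphism of End_ℂ(ℂ) = ℂ induced by no ℂ-linear map — and this row keeps the existence of an
isomorphism P ≅ Q, which is what the first part of the printed proof establishes.) -/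
theorem result (A : Type u) [Ring A] [IsSimpleRing (A ⧸ Ring.jacobson A)] [IsArtinianRing (A ⧸ Ring.jacobson A)] (P Q : Type v) [AddCommGroup P] [Module A P] [Module.Finite A P] [Module.Projective A P] [AddCommGroup Q] [Module A Q] [Module.Finite A Q] [Module.Projective A Q] (e : Module.End A P ≃+* Module.End A Q) : Nonempty (P ≃ₗ[A] Q) :=
  main P Q e

end Groth.Agent.S13847
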