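import Groth.Statements.S13848
import Mathlib

set_option autoImplicit false
universe u v
open TwSh

namespace Groth.Agent.S13848

section
variable {A : Type u} [Ring A] {P : Type v} [AddCommGroup P] [Module A P]

/-- the trace subgroup: generated by all values `φ p`. -/
def T (A : Type u) [Ring A] (P : Type v) [AddCommGroup P] [Module A P] : AddSubgroup A :=
  AddSubgroup.closure {x | ∃ (φ : P →ₗ[A] A) (p : P), x = φ p}

lemma mul_mem_T_left (x : A) {t : A} (ht : t ∈ T A P) : x * t ∈ T A P := by
  induction ht using AddSubgroup.closure_induction with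
  | mem y hy =>
    obtain ⟨φ, p, rfl⟩ := hy
    exact AddSubgroup.subset_closure ⟨φ, x • p, by rw [map_smul, smul_eq_mul]⟩
  | zero => rw [mul_zero]; exact (T A P).zero_mem
  | add a b _ _ ha hb => rw [mul_add]; exact (T A P).add_mem ha hb
  | neg a _ ha => rw [mul_neg]; exact (T A P).neg_mem ha

lemma mul_mem_T_right (x : A) {t : A} (ht : t ∈ T A P) : t * x ∈ T A P := by
  induction ht using AddSubgroup.closure_induction with
  | mem y hy =>
    obtain ⟨φ, p, rfl⟩ := hy
    exact AddSubgroup.subset_closure ⟨(LinearMap.toSpanSingleton A A x) ∘ₗ φ, p, by simp⟩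
  | zero => rw [zero_mul]; exact (T A P).zero_mem
  | add a b _ _ ha hb => rw [add_mul]; exact (T A P).add_mem ha hb
  | neg a _ ha => rw [neg_mul]; exact (T A P).neg_mem ha

/-- If all functionals take values in the Jacobson radical, `P = 0`. -/
lemma exists_notMem_jacobson [Module.Finite A P] [Module.Projective A P] [Nontrivial P] :
    ∃ (φ : P →ₗ[A] A) (p : P), φ p ∉ Ring.jacobson A := by
  by_contra hcon
  push Not at hcon
  obtain ⟨n, s, i, -, -, hsi⟩ := Module.Finite.exists_comp_eq_id_of_projective A P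
  have htop : (⊤ : Submodule A P) ≤ Ring.jacobson A • (⊤ : Submodule A P) := by
    intro p _
    have hp : p = s (i p) := by
      have := congrArg (fun f => f p) hsi
      simpa using this.symm
    rw [hp, LinearMap.pi_apply_eq_sum_univ s (i p)]
    refine Submodule.sum_mem _ fun k _ => ?_
    refine Submodule.smul_mem_smul ?_ Submodule.mem_top
    exact hcon ((LinearMap.proj k) ∘ₗ i) p
  have hfg : (⊤ : Submodule A P).FG := Module.Finite.fg_top
  have := Submodule.FG.eq_bot_of_le_jacobson_smul hfg htop
  exact top_ne_bot this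

/-- `1` is in the trace subgroup when `A/J` is simple. -/
lemma one_mem_T [IsSimpleRing (A ⧸ Ring.jacobson A)] [Module.Finite A P] [Module.Projective A P]
    [Nontrivial P] : (1 : A) ∈ T A P := by
  let TT : TwoSidedIdeal (A ⧸ Ring.jacobson A) := TwoSidedIdeal.mk'
    {y | ∃ t ∈ T A P, Ideal.Quotient.mk (Ring.jacobson A) t = y}
    ⟨0, (T A P).zero_mem, map_zero _⟩
    (by
      rintro _ _ ⟨a, ha, rfl⟩ ⟨b, hb, rfl⟩
      exact ⟨a + b, (T A P).add_mem ha hb, map_add _ _ _⟩)
    (by
      rintro _ ⟨a, ha, rfl⟩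
      exact ⟨-a, (T A P).neg_mem ha, map_neg _ _⟩)
    (by
      rintro x _ ⟨b, hb, rfl⟩
      obtain ⟨x, rfl⟩ := Ideal.Quotient.mk_surjective x
      exact ⟨x * b, mul_mem_T_left x hb, map_mul _ _ _⟩)
    (by
      rintro _ y ⟨a, ha, rfl⟩
      obtain ⟨y, rfl⟩ := Ideal.Quotient.mk_surjective y
      exact ⟨a * y, mul_mem_T_right y ha, map_mul _ _ _⟩)
  obtain ⟨φ, p, hφp⟩ := exists_notMem_jacobson (A := A) (P := P)
  have hne : Ideal.Quotient.mk (Ring.jacobson A) (φ p) ≠ 0 := by
    rw [Ne, Ideal.Quotient.eq_zero_iff_mem]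
    exact hφp
  have hmem : Ideal.Quotient.mk (Ring.jacobson A) (φ p) ∈ TT := by
    rw [TwoSidedIdeal.mem_mk']
    exact ⟨φ p, AddSubgroup.subset_closure ⟨φ, p, rfl⟩, rfl⟩
  have h1 := IsSimpleRing.one_mem_of_ne_zero_mem TT hne hmem
  rw [TwoSidedIdeal.mem_mk'] at h1
  obtain ⟨t, ht, ht1⟩ := h1
  have hj : t - 1 ∈ Ring.jacobson A := by
    rw [← Ideal.Quotient.eq, ht1, map_one]
  rw [← Ideal.jacobson_bot, Ideal.mem_jacobson_iff] at hj
  obtain ⟨z, hz⟩ := hj 1
  rw [Ideal.mem_bot] at hz
  have hzt : z * t = 1 := by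
    have : z * 1 * (t - 1) + z - 1 = z * t - 1 := by noncomm_ring
    rw [this, sub_eq_zero] at hz
    exact hz
  rw [← hzt]
  exact mul_mem_T_left z ht

end


/-- Let A be a ring with A/J a simple left-Artinian ring, J the Jacobson radical, and let P be a
non-zero finitely generated projective left A-module. An A-linear automorphism u of P which commutes
with every A-linear endomorphism of P (equivalently, induces the identity on End_A(P) by
conjugation) is scalar multiplication by a unique central element a of A: u(x) = a·x for all x ∈ P,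
and a is determined by u. (So the automorphisms of P acting trivially on End_A(P) are exactly the
central units of A acting by scalars; the published assertion does not exclude P = 0, where
uniqueness fails.) -/
theorem result (A : Type u) [Ring A] [IsSimpleRing (A ⧸ Ring.jacobson A)] [IsArtinianRing (A ⧸ Ring.jacobson A)] (P : Type v) [AddCommGroup P] [Module A P] [Module.Finite A P] [Module.Projective A P] [Nontrivial P] (u : P ≃ₗ[A] P) (hu : ∀ f : Module.End A P, (u : P →ₗ[A] P) ∘ₗ f = f ∘ₗ (u : P →ₗ[A] P)) : ∃! a : A, (∀ b : A, a * b = b * a) ∧ ∀ x : P, u x = a • x := by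
  have h1 : (1 : A) ∈ T A P := one_mem_T
  have hstar : ∀ (φ : P →ₗ[A] A) (p q : P), φ p • u q = φ (u p) • q := by
    intro φ p q
    have := congrArg (fun f => f p) (hu ((LinearMap.toSpanSingleton A P q) ∘ₗ φ))
    simpa using this
  have hfaith : ∀ c : A, (∀ q : P, c • q = 0) → c = 0 := by
    intro c hc
    have key : ∀ t ∈ T A P, c * t = 0 := by
      intro t ht
      induction ht using AddSubgroup.closure_induction with
      | mem y hy =>
        obtain ⟨φ, p, rfl⟩ := hy
        rw [← smul_eq_mul, ← map_smul, hc, map_zero]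
      | zero => simp
      | add a b _ _ ha hb => rw [mul_add, ha, hb, add_zero]
      | neg a _ ha => rw [mul_neg, ha, neg_zero]
    simpa using key 1 h1
  have hex : ∀ t ∈ T A P, ∃ a : A, ∀ q : P, a • q = t • u q := by
    intro t ht
    induction ht using AddSubgroup.closure_induction with
    | mem y hy =>
      obtain ⟨φ, p, rfl⟩ := hy
      exact ⟨φ (u p), fun q => (hstar φ p q).symm⟩
    | zero => exact ⟨0, fun q => by simp⟩
    | add a b _ _ ha hb =>
      obtain ⟨a', ha'⟩ := ha
      obtain ⟨b', hb'⟩ := hb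
      exact ⟨a' + b', fun q => by rw [add_smul, add_smul, ha', hb']⟩
    | neg a _ ha =>
      obtain ⟨a', ha'⟩ := ha
      exact ⟨-a', fun q => by rw [neg_smul, neg_smul, ha']⟩
  obtain ⟨a, ha⟩ := hex 1 h1
  have ha' : ∀ q, u q = a • q := fun q => by rw [ha, one_smul]
  refine ⟨a, ⟨fun b => ?_, ha'⟩, ?_⟩
  · have : a * b - b * a = 0 := hfaith _ (fun q => by
      rw [sub_smul, mul_smul, mul_smul, ← ha' (b • q), map_smul, ha' q, sub_self])
    exact sub_eq_zero.1 this
  · rintro a' ⟨-, ha''⟩
    have : a' - a = 0 := hfaith _ (fun q => by rw [sub_smul, ← ha'' q, ← ha' q, sub_self])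
    exact sub_eq_zero.1 this

end Groth.Agent.S13848
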