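import Groth.Statements.S13860
import Mathlib

set_option autoImplicit false
universe u v w
open ModRep

namespace Groth.Agent.S13860

/-- For k a field of characteristic p > 0, G a finite group and P a Sylow p-subgroup of G, a short exact
sequence of k[G]-modules has a k[G]-linear splitting exactly when it has a k[P]-linear one. Stated
here for the surjection of the sequence: a G-equivariant k-linear map g : B → C between k-linear
representations of G admits a G-equivariant k-linear section if and only if it admits a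
P-equivariant k-linear section. -/
theorem result {k : Type u} [Field k] (p : ℕ) [Fact p.Prime]
    [CharP k p] {G : Type v} [Group G] [Finite G] (P : Sylow p G)
    {B C : Type w} [AddCommGroup B] [Module k B] [AddCommGroup C] [Module k C]
    (ρB : Representation k G B) (ρC : Representation k G C)
    (g : B →ₗ[k] C) (hg : ∀ x : G, g ∘ₗ ρB x = ρC x ∘ₗ g) :
    (∃ s : C →ₗ[k] B, g ∘ₗ s = LinearMap.id ∧ ∀ x : G, s ∘ₗ ρC x = ρB x ∘ₗ s) ↔
      (∃ s : C →ₗ[k] B, g ∘ₗ s = LinearMap.id ∧ ∀ x : G, x ∈ P → s ∘ₗ ρC x = ρB x ∘ₗ s) := by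
  classical
  constructor
  · rintro ⟨s, hs, heq⟩
    exact ⟨s, hs, fun x _ => heq x⟩
  · rintro ⟨s, hs, heq⟩
    have : Fintype G := Fintype.ofFinite G
    -- pointwise forms of the hypotheses
    have hgp : ∀ (x : G) (b : B), g (ρB x b) = ρC x (g b) := fun x b => LinearMap.congr_fun (hg x) b
    have hsp : ∀ c : C, g (s c) = c := fun c => LinearMap.congr_fun hs c
    have heqp : ∀ x ∈ P, ∀ c : C, s (ρC x c) = ρB x (s c) := fun x hx c => LinearMap.congr_fun (heq x hx) c
    have hBmul : ∀ (x y : G) (b : B), ρB (x * y) b = ρB x (ρB y b) := fun x y b => by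
      rw [map_mul, Module.End.mul_apply]
    have hCmul : ∀ (x y : G) (c : C), ρC (x * y) c = ρC x (ρC y c) := fun x y c => by
      rw [map_mul, Module.End.mul_apply]
    have hBone : ∀ b : B, ρB 1 b = b := fun b => by rw [map_one, Module.End.one_apply]
    have hCone : ∀ c : C, ρC 1 c = c := fun c => by rw [map_one, Module.End.one_apply]
    -- the twisted map
    let T : G → (C →ₗ[k] B) := fun x => ρB x ∘ₗ s ∘ₗ ρC x⁻¹
    have hTapp : ∀ (x : G) (c : C), T x c = ρB x (s (ρC x⁻¹ c)) := fun x c => rfl
    have hT : ∀ x y : G, QuotientGroup.leftRel (P : Subgroup G) x y → T x = T y := by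
      intro x y hxy
      rw [QuotientGroup.leftRel_apply] at hxy
      obtain ⟨h, hh, rfl⟩ : ∃ h, h ∈ (P : Subgroup G) ∧ y = x * h := ⟨x⁻¹ * y, hxy, by group⟩
      ext c
      rw [hTapp, hTapp, mul_inv_rev, hBmul, hCmul, heqp h⁻¹ (inv_mem hh), ← hBmul h h⁻¹,
        mul_inv_cancel, hBone]
    let Tq : G ⧸ (P : Subgroup G) → (C →ₗ[k] B) := fun q => Quotient.liftOn' q T hT
    have hTq : ∀ x : G, Tq (QuotientGroup.mk x) = T x := fun x => rfl
    have hconj : ∀ (y : G) (q : G ⧸ (P : Subgroup G)) (c : C),
        ρB y (Tq q (ρC y⁻¹ c)) = Tq (y • q) c := by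
      intro y q c
      induction q using QuotientGroup.induction_on with
      | H x =>
        have : y • (QuotientGroup.mk x : G ⧸ (P : Subgroup G)) = QuotientGroup.mk (y * x) := rfl
        rw [this, hTq, hTq, hTapp, hTapp, mul_inv_rev, hBmul, hCmul]
    set m : ℕ := Fintype.card (G ⧸ (P : Subgroup G)) with hm
    have hmk : (m : k) ≠ 0 := by
      have h1 : ¬ p ∣ (P : Subgroup G).index := P.not_dvd_index
      rw [Subgroup.index_eq_card, Nat.card_eq_fintype_card] at h1
      intro h0
      exact h1 ((CharP.cast_eq_zero_iff k p m).mp h0)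
    let s' : C →ₗ[k] B := (m : k)⁻¹ • ∑ q : G ⧸ (P : Subgroup G), Tq q
    have hs'app : ∀ c : C, s' c = (m : k)⁻¹ • ∑ q : G ⧸ (P : Subgroup G), Tq q c := by
      intro c
      show ((m : k)⁻¹ • ∑ q : G ⧸ (P : Subgroup G), Tq q) c = _
      rw [LinearMap.smul_apply, LinearMap.sum_apply]
    refine ⟨s', ?_, ?_⟩
    · -- g ∘ s' = id
      have hg1 : ∀ (q : G ⧸ (P : Subgroup G)) (c : C), g (Tq q c) = c := by
        intro q c
        induction q using QuotientGroup.induction_on with
        | H x =>
          rw [hTq, hTapp, hgp, hsp, ← hCmul, mul_inv_cancel, hCone]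
      ext c
      rw [LinearMap.comp_apply, hs'app, map_smul, map_sum]
      simp only [hg1, Finset.sum_const, Finset.card_univ, ← hm, LinearMap.id_coe, id_eq]
      rw [← Nat.cast_smul_eq_nsmul k, smul_smul, inv_mul_cancel₀ hmk, one_smul]
    · intro y
      ext c
      rw [LinearMap.comp_apply, LinearMap.comp_apply, hs'app, hs'app, map_smul, map_sum]
      congr 1
      -- reindex
      have h1 : ∀ q : G ⧸ (P : Subgroup G), ρB y (Tq q c) = Tq (y • q) (ρC y c) := by
        intro q
        rw [← hconj y q (ρC y c), ← hCmul, inv_mul_cancel, hCone]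
      simp only [h1]
      exact (Fintype.sum_equiv (MulAction.toPerm y) _ _ (fun q => rfl)).symm

end Groth.Agent.S13860
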