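import Groth.Statements.S13861
import Mathlib
import Groth.Agent.FunFld.CycH1
import Groth.Agent.FunFld.ASH1
import Groth.Agent.FunFld.ASCount
import Groth.Agent.S13864

set_option autoImplicit false
universe u
open ASCover

namespace Groth.Agent.S13861

/-- Let k be an algebraically closed field of characteristic p > 0 and n ≥ 1 an integer prime to p; let
u ∈ k[[t]] be the power series with constant term 1 and u^n · (1 + t^n) = 1, so that t ↦ t·u = t(1 +
t^n)^(-1/n) defines a k-automorphism σ of k((t)) of order p (the action at a totally ramified point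
of a ℤ/p-cover of curves with break n). For an integer a, the fractional ideal t^a·k[[t]] is stable
under σ; transported to B = k[[t]] along h ↦ t^a·h the action of σ reads h ↦ u^a · h(t·u). For a
group G of order p generated by g acting on B through this map, the first group cohomology H^1(G, B)
is finite-dimensional over k, of dimension n − ⌊(a−1)/p⌋ + ⌊(a−1−n)/p⌋. (The published lemma also
identifies this H^1 with the cokernel of k((t))^G → (k((t))/t^a k[[t]])^G and names explicit
representatives t^i, a − n ≤ i ≤ a − 1 with p ∤ i, of a basis; those parts are not restated here.) -/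
theorem result {k : Type u} [Field k] [IsAlgClosed k] (p : ℕ)
    [Fact p.Prime] [CharP k p] (n : ℕ) (hn : 0 < n) (hpn : ¬ p ∣ n)
    (u : PowerSeries k) (hu1 : PowerSeries.constantCoeff u = 1)
    (hun : u ^ n * (1 + PowerSeries.X ^ n) = 1) (hu : IsUnit u) (a : ℤ)
    {G : Type u} [Group G] [Finite G] (g : G) (hG : Nat.card G = p)
    (hg : ∀ x : G, x ∈ Subgroup.zpowers g)
    (ρ : Representation k G (PowerSeries k))
    (hρ : ∀ h : PowerSeries k, ρ g h =
      ((hu.unit ^ a : (PowerSeries k)ˣ) : PowerSeries k) * PowerSeries.subst (PowerSeries.X * u) h) :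
    Module.Finite k (groupCohomology.H1 (Rep.of ρ)) ∧
      (Module.finrank k (groupCohomology.H1 (Rep.of ρ)) : ℤ) =
        n - (a - 1) / (p : ℤ) + (a - 1 - n) / (p : ℤ) := by
  classical
  have hp : p.Prime := Fact.out
  have hnk : (n : k) ≠ 0 := by
    intro h0
    exact hpn ((CharP.cast_eq_zero_iff k p n).mp h0)
  have hord : orderOf g = p := by rw [orderOf_eq_card_of_forall_mem_zpowers hg, hG]
  obtain ⟨U, hUdef⟩ : ∃ U : (PowerSeries k)ˣ, U = hu.unit := ⟨_, rfl⟩
  have hU : (U : PowerSeries k) = u := by rw [hUdef]; exact hu.unit_spec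
  rw [← hUdef] at hρ
  have hρsg : ∀ h : PowerSeries k, ρ g h = Groth.Agent.FunFld.ASH1.sg u U a h := by
    intro h
    rw [Groth.Agent.FunFld.ASH1.sg_apply, Groth.Agent.FunFld.ASH1.tau_apply]
    exact hρ h
  have hρeq : (Rep.of ρ).ρ g = Groth.Agent.FunFld.ASH1.sg u U a := LinearMap.ext hρsg
  have hSN : Groth.Agent.FunFld.CycH1.S (Rep.of ρ) g p = Groth.Agent.FunFld.ASH1.Nm u U p a := by
    unfold Groth.Agent.FunFld.CycH1.S Groth.Agent.FunFld.ASH1.Nm
    rw [hρeq]
  -- the elements `c m`
  have hcex : ∀ m : ℕ, ∃ cm : PowerSeries k, 1 ≤ m → m ≤ n →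
      PowerSeries.X ^ m * cm = ((U ^ (a - m) : (PowerSeries k)ˣ) : PowerSeries k) - 1 := by
    intro m
    by_cases h : m ≤ n
    · obtain ⟨g0, hg0, _⟩ := Groth.Agent.Lib.Helper99.PSRoot.exists_eq_one_add n hn hnk u hu1 hun
      obtain ⟨gi, hgi, _⟩ := Groth.Agent.Lib.Helper99.PSRoot.zpow_eq_one_add n hn U g0
        (by rw [hU]; exact hg0) (a - m)
      refine ⟨PowerSeries.X ^ (n - m) * gi, fun _ _ => ?_⟩
      rw [hgi, ← mul_assoc, ← pow_add, Nat.add_sub_cancel' h]
      ring
    · exact ⟨0, fun _ h' => absurd h' h⟩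
  choose c hc using hcex
  have hFmem : ∀ i : ↥(Groth.Agent.FunFld.ASH1.F p n a), 1 ≤ (i : ℕ) ∧ (i : ℕ) ≤ n := by
    intro i
    have := i.2
    unfold Groth.Agent.FunFld.ASH1.F at this
    rw [Finset.mem_filter, Finset.mem_Icc] at this
    exact this.1
  have hcN : ∀ i : ↥(Groth.Agent.FunFld.ASH1.F p n a),
      Groth.Agent.FunFld.CycH1.S (Rep.of ρ) g p (c i) = 0 := by
    intro i
    rw [hSN]
    exact Groth.Agent.FunFld.ASH1.Nm_eq_zero_of p n hnk u hu1 hun U hU a i (c i)
      (hc i (hFmem i).1 (hFmem i).2)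
  have hind : ∀ (coef : ↥(Groth.Agent.FunFld.ASH1.F p n a) → k) (h : PowerSeries k),
      (Rep.of ρ).ρ g h - h = ∑ i, coef i • c i → ∀ i, coef i = 0 := by
    intro coef h hh i
    have hc' : ∀ m : ℕ, 1 ≤ m → m ≤ n → PowerSeries.X ^ m * c m =
        ((hu.unit ^ (a - m) : (PowerSeries k)ˣ) : PowerSeries k) - 1 := by
      rw [← hUdef]; exact hc
    have key := Groth.Agent.S13864.result p n hn hpn u hu1 hun hu a c hc'
      (fun m => if hm : m ∈ Groth.Agent.FunFld.ASH1.F p n a then coef ⟨m, hm⟩ else 0) h (by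
        rw [← hUdef]
        have h1 : ((U ^ a : (PowerSeries k)ˣ) : PowerSeries k) *
            PowerSeries.subst (PowerSeries.X * u) h = (Rep.of ρ).ρ g h := (hρ h).symm
        rw [h1, hh]
        change _ = ∑ m ∈ Groth.Agent.FunFld.ASH1.F p n a, _
        have h2 := Finset.sum_coe_sort (Groth.Agent.FunFld.ASH1.F p n a)
          (fun m => (if hm : m ∈ Groth.Agent.FunFld.ASH1.F p n a then coef ⟨m, hm⟩ else 0) • c m)
        rw [← h2]
        apply Finset.sum_congr rfl
        intro j _
        rw [dif_pos j.2])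
    have := key i i.2
    rw [dif_pos i.2] at this
    exact this
  have hspan : ∀ z : PowerSeries k, Groth.Agent.FunFld.CycH1.S (Rep.of ρ) g p z = 0 →
      ∃ (coef : ↥(Groth.Agent.FunFld.ASH1.F p n a) → k) (h : PowerSeries k),
        z = ∑ i, coef i • c i + ((Rep.of ρ).ρ g h - h) := by
    intro z hz
    rw [hSN] at hz
    obtain ⟨coef, h, hzh⟩ := Groth.Agent.FunFld.ASH1.span_result p n hn hnk u hu1 hun U hU a c hc z hz
    exact ⟨coef, h, by rw [hzh]; congr 2; exact (hρsg h).symm⟩
  obtain ⟨hfin, hrank⟩ := Groth.Agent.FunFld.CycH1.finrank_H1 (Rep.of ρ) g hg p hord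
    (fun i : ↥(Groth.Agent.FunFld.ASH1.F p n a) => c i) hcN hind hspan
  refine ⟨hfin, ?_⟩
  rw [hrank, Fintype.card_coe]
  exact Groth.Agent.FunFld.ASH1.card_F p hp.pos n a

end Groth.Agent.S13861
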