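import Groth.Statements.S13862
import Mathlib
import Groth.Agent.FunFld.CycH1
import Groth.Agent.FunFld.ASH1
import Groth.Agent.FunFld.ASCount
import Groth.Agent.FunFld.ASH1Deriv
import Groth.Agent.FunFld.ASH1Range

set_option autoImplicit false
universe u
open ASCover

namespace Groth.Agent.S13862

/-- For k an algebraically closed field of characteristic p > 0, n ≥ 1 an integer prime to p, u ∈ k[[t]]
the power series with constant term 1 and u^n · (1 + t^n) = 1, and G a group of order p generated by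
g, consider two k-linear actions of G on B = k[[t]]: ρ₀(g) h = h(t·u), i.e. B with its order-p
automorphism σ(t) = t·u, and ρ₁(g) h = u^(n+1) · h(t·u), which is the σ-module B·dt identified with
B through h·dt ↦ h (because d(σ t) = u^(n+1) dt). The derivative d/dt : (B, ρ₀) → (B, ρ₁) is
G-equivariant, and the image of the map it induces on first group cohomology, H^1(G, (B, ρ₀)) →
H^1(G, (B, ρ₁)), is finite-dimensional over k of dimension ⌊(n+1)(p−1)/p⌋ − 1 − ⌊(n−1)/p⌋. This is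
the dimension of the image of H^1(G, O) → H^1(G, Ω) at a ramified point with break n of a ℤ/p-cover
of smooth curves, computed in the completed local ring; the published statement is phrased for the
stalks, at a point of the quotient curve, of the direct images of the structure sheaf and of the
sheaf of differentials, and its proof passes to this completed form. -/
theorem result {k : Type u} [Field k] [IsAlgClosed k] (p : ℕ)
    [Fact p.Prime] [CharP k p] (n : ℕ) (hn : 0 < n) (hpn : ¬ p ∣ n)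
    (u : PowerSeries k) (hu1 : PowerSeries.constantCoeff u = 1)
    (hun : u ^ n * (1 + PowerSeries.X ^ n) = 1)
    {G : Type u} [Group G] [Finite G] (g : G) (hG : Nat.card G = p)
    (hg : ∀ x : G, x ∈ Subgroup.zpowers g)
    (ρ₀ ρ₁ : Representation k G (PowerSeries k))
    (hρ₀ : ∀ h : PowerSeries k, ρ₀ g h = PowerSeries.subst (PowerSeries.X * u) h)
    (hρ₁ : ∀ h : PowerSeries k, ρ₁ g h = u ^ (n + 1) * PowerSeries.subst (PowerSeries.X * u) h)
    (φ : Rep.of ρ₀ ⟶ Rep.of ρ₁) (hφ : ∀ h : PowerSeries k, φ.hom h = PowerSeries.derivative k h) :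
    Module.Finite k (LinearMap.range ((groupCohomology.functor k G 1).map φ).hom) ∧
      (Module.finrank k (LinearMap.range ((groupCohomology.functor k G 1).map φ).hom) : ℤ) =
        ((n + 1) * (p - 1) : ℤ) / p - 1 - (n - 1 : ℤ) / p := by
  classical
  have hp : p.Prime := Fact.out
  have hnk : (n : k) ≠ 0 := by
    intro h0
    exact hpn ((CharP.cast_eq_zero_iff k p n).mp h0)
  have hord : orderOf g = p := by rw [orderOf_eq_card_of_forall_mem_zpowers hg, hG]
  have hu : IsUnit u := by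
    rw [PowerSeries.isUnit_iff_constantCoeff, hu1]; exact isUnit_one
  have hU : (hu.unit : PowerSeries k) = u := hu.unit_spec
  have hρ₀sg : ∀ h : PowerSeries k, ρ₀ g h = Groth.Agent.FunFld.ASH1.sg u hu.unit 0 h := by
    intro h
    rw [Groth.Agent.FunFld.ASH1.sg_apply, zpow_zero, Units.val_one, one_mul,
      Groth.Agent.FunFld.ASH1.tau_apply]
    exact hρ₀ h
  have hρ₁sg : ∀ h : PowerSeries k,
      ρ₁ g h = Groth.Agent.FunFld.ASH1.sg u hu.unit ((n : ℤ) + 1) h := by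
    intro h
    have hUpow : ((hu.unit ^ ((n : ℤ) + 1) : (PowerSeries k)ˣ) : PowerSeries k) = u ^ (n + 1) := by
      have : ((n : ℤ) + 1) = ((n + 1 : ℕ) : ℤ) := by push_cast; ring
      rw [this, zpow_natCast, Units.val_pow_eq_pow_val, hU]
    rw [Groth.Agent.FunFld.ASH1.sg_apply, Groth.Agent.FunFld.ASH1.tau_apply, hρ₁ h, hUpow]
  have hρ₀eq : (Rep.of ρ₀).ρ g = Groth.Agent.FunFld.ASH1.sg u hu.unit 0 := LinearMap.ext hρ₀sg
  have hρ₁eq : (Rep.of ρ₁).ρ g = Groth.Agent.FunFld.ASH1.sg u hu.unit ((n : ℤ) + 1) :=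
    LinearMap.ext hρ₁sg
  have hSN₀ : Groth.Agent.FunFld.CycH1.S (Rep.of ρ₀) g p =
      Groth.Agent.FunFld.ASH1.Nm u hu.unit p 0 := by
    unfold Groth.Agent.FunFld.CycH1.S Groth.Agent.FunFld.ASH1.Nm
    rw [hρ₀eq]
  have hSN₁ : Groth.Agent.FunFld.CycH1.S (Rep.of ρ₁) g p =
      Groth.Agent.FunFld.ASH1.Nm u hu.unit p ((n : ℤ) + 1) := by
    unfold Groth.Agent.FunFld.CycH1.S Groth.Agent.FunFld.ASH1.Nm
    rw [hρ₁eq]
  -- the elements `c a m`
  have hcex : ∀ (a : ℤ) (m : ℕ), ∃ cm : PowerSeries k, 1 ≤ m → m ≤ n →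
      PowerSeries.X ^ m * cm = ((hu.unit ^ (a - m) : (PowerSeries k)ˣ) : PowerSeries k) - 1 := by
    intro a m
    by_cases h : m ≤ n
    · obtain ⟨g0, hg0, _⟩ := Groth.Agent.Lib.Helper99.PSRoot.exists_eq_one_add n hn hnk u hu1 hun
      obtain ⟨gi, hgi, _⟩ := Groth.Agent.Lib.Helper99.PSRoot.zpow_eq_one_add n hn hu.unit g0
        (by rw [hU]; exact hg0) (a - m)
      refine ⟨PowerSeries.X ^ (n - m) * gi, fun _ _ => ?_⟩
      rw [hgi, ← mul_assoc, ← pow_add, Nat.add_sub_cancel' h]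
      ring
    · exact ⟨0, fun _ h' => absurd h' h⟩
  choose cc hcc using hcex
  have hc₀ := hcc 0
  have hc₁ := hcc ((n : ℤ) + 1)
  -- equivariance of the derivative
  have hequiv : ∀ h : PowerSeries k,
      PowerSeries.derivative k (Groth.Agent.FunFld.ASH1.sg u hu.unit 0 h) =
        Groth.Agent.FunFld.ASH1.sg u hu.unit ((n : ℤ) + 1) (PowerSeries.derivative k h) := by
    intro h
    have h1 := Rep.hom_comm_apply φ g h
    rw [hφ, hφ] at h1
    change PowerSeries.derivative k (ρ₀ g h) = ρ₁ g (PowerSeries.derivative k h) at h1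
    rw [hρ₀sg, hρ₁sg] at h1
    exact h1
  have hJmem : ∀ i : ↥(Groth.Agent.FunFld.ASH1.J p n), 1 ≤ (i : ℕ) ∧ (i : ℕ) ≤ n := by
    intro i
    exact ((Groth.Agent.FunFld.ASH1.mem_J p n i).mp i.2).1
  have hcN : ∀ i : ↥(Groth.Agent.FunFld.ASH1.J p n),
      Groth.Agent.FunFld.CycH1.S (Rep.of ρ₁) g p (cc ((n : ℤ) + 1) i) = 0 := by
    intro i
    rw [hSN₁]
    exact Groth.Agent.FunFld.ASH1.Nm_eq_zero_of p n hnk u hu1 hun hu.unit hU ((n : ℤ) + 1) i
      (cc ((n : ℤ) + 1) i) (hc₁ i (hJmem i).1 (hJmem i).2)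
  have hind : ∀ (coef : ↥(Groth.Agent.FunFld.ASH1.J p n) → k) (h : PowerSeries k),
      (Rep.of ρ₁).ρ g h - h = ∑ i, coef i • cc ((n : ℤ) + 1) i → ∀ i, coef i = 0 := by
    intro coef h hh
    apply Groth.Agent.FunFld.ASH1.indep_J p n hn hpn u hu1 hun hu (cc ((n : ℤ) + 1)) hc₁ coef h
    rw [← hρ₁sg]
    exact hh
  have hspan : ∀ z : PowerSeries k, Groth.Agent.FunFld.CycH1.S (Rep.of ρ₀) g p z = 0 →
      ∃ (coef : ↥(Groth.Agent.FunFld.ASH1.J p n) → k) (h : PowerSeries k),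
        φ.hom z = ∑ i, coef i • cc ((n : ℤ) + 1) i + ((Rep.of ρ₁).ρ g h - h) := by
    intro z hz
    rw [hSN₀] at hz
    obtain ⟨coef, h, hzh⟩ := Groth.Agent.FunFld.ASH1.deriv_span p n hn hpn u hu1 hun hu (cc 0)
      (cc ((n : ℤ) + 1)) hc₀ hc₁ hequiv z hz
    refine ⟨coef, h, ?_⟩
    rw [hφ, hzh]
    congr 2
    exact (hρ₁sg h).symm
  have hhit : ∀ i : ↥(Groth.Agent.FunFld.ASH1.J p n), ∃ z : PowerSeries k,
      Groth.Agent.FunFld.CycH1.S (Rep.of ρ₀) g p z = 0 ∧
        ∃ h : PowerSeries k, φ.hom z = cc ((n : ℤ) + 1) i + ((Rep.of ρ₁).ρ g h - h) := by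
    intro i
    obtain ⟨z, hz, hzd⟩ := Groth.Agent.FunFld.ASH1.deriv_hit p n hn hpn u hu1 hun hu (cc 0)
      (cc ((n : ℤ) + 1)) hc₀ hc₁ i i.2
    refine ⟨z, by rw [hSN₀]; exact hz, 0, ?_⟩
    rw [hφ, hzd, map_zero, sub_zero, add_zero]
  obtain ⟨hfin, hrank⟩ := Groth.Agent.FunFld.CycH1.finrank_range_map φ g hg p hord
    (fun i : ↥(Groth.Agent.FunFld.ASH1.J p n) => cc ((n : ℤ) + 1) i) hcN hind hspan hhit
  have hcard : (Fintype.card ↥(Groth.Agent.FunFld.ASH1.J p n) : ℤ) =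
      ((n + 1) * (p - 1) : ℤ) / p - 1 - (n - 1 : ℤ) / p := by
    rw [Fintype.card_coe]
    exact Groth.Agent.FunFld.ASH1.card_J p n hp hpn
  exact ⟨hfin, (congrArg (Nat.cast (R := ℤ)) hrank).trans hcard⟩

end Groth.Agent.S13862
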