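import Groth.Statements.S13872
import Groth.Agent.Lib.Helper25.PolLawTS

set_option autoImplicit false
universe u
open scoped TensorProduct
open ZeroCyc

namespace Groth.Agent.S13872

/-- Let A be a commutative ring, B an A-algebra and d ≥ 1; let (C, γ) be the degree-d divided power
algebra Γ^d_A(B) with its universal multiplicative law γ : B → C of degree d (every multiplicative
law of degree d out of B factors uniquely through γ), and let φ : Γ^d_A(B) → TS^d_A(B) be the
canonical homomorphism to the symmetric tensors, taken as data characterised by: after any base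
change S, φ ∘ γ sends Σ_j s_j ⊗ b_j to Σ_{c : [d] → [n]} (∏_i s_{c(i)}) ⊗ (b_{c(1)} ⊗ ⋯ ⊗ b_{c(d)}),
i.e. φ corresponds to the law x ↦ x ⊗ ⋯ ⊗ x. Then d!·x = 0 for every x in the kernel of φ, and d!·y
lies in the image of φ for every symmetric tensor y ∈ TS^d_A(B). (The published statement also
asserts x^{d!} = 0 and y^{d!} in the image of φ; those two halves are a separate result and are not
restated here.) -/
theorem result {A B C : Type u} [CommRing A] [CommRing B] [Algebra A B] [CommRing C] [Algebra A C] (d : ℕ) (hd : 0 < d)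
    (γ : PolLaw.MulLaw A B C d) (hγ : PolLaw.IsGammaD γ) (φ : C →ₐ[A] SymTen.TS A B d)
    (hφ : ∀ (S : Type u) [CommSemiring S] [Algebra A S] (n : ℕ) (s : Fin n → S) (b : Fin n → B),
      ((SymTen.TS A B d).val.comp φ).toLinearMap.lTensor S (γ.law.toFun' S (∑ j, s j ⊗ₜ[A] b j)) =
        ∑ c : Fin d → Fin n, (∏ i, s (c i)) ⊗ₜ[A] PiTensorProduct.tprod A (fun i => b (c i))) :
    (∀ x : C, φ x = 0 → d.factorial • x = 0) ∧
      (∀ y : SymTen.TS A B d, d.factorial • y ∈ φ.range) := by
  classical
  set φ' : C →ₐ[A] (⨂[A] _ : Fin d, B) := (SymTen.TS A B d).val.comp φ with hφ'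
  have hlaw : PolLaw.postcomp φ'.toLinearMap γ.law = (SymTen.tpowLaw A B d).law := by
    refine PolynomialLaw.ext ?_
    funext S _ _ y
    obtain ⟨n, s, m, rfl⟩ := Groth.Agent.Lib.Helper25.PolLawCoeff.exists_sum_tmul_fin S y
    show φ'.toLinearMap.lTensor S (γ.law.toFun' S (∑ j, s j ⊗ₜ[A] m j)) = _
    rw [hφ S n s m]
    have := Groth.Agent.Lib.Helper25.PolLawCoeff.tpowLaw_sum (A := A) (B := B) (d := d) S s m
      Finset.univ
    rw [Fintype.piFinset_univ] at this
    exact this.symm
  have htop := Groth.Agent.Lib.Helper25.PolLawCoeff.coeffSpan_eq_top γ hγ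
  have key : ∀ c : C, Groth.Agent.Lib.Helper25.PolLawCoeff.polarLin γ.law d (φ' c) =
      d.factorial • c := by
    intro c
    have hc : c ∈ Groth.Agent.Lib.Helper25.PolLawCoeff.coeffSpan γ.law := by
      rw [htop]; exact Submodule.mem_top
    induction hc using Submodule.span_induction with
    | mem x hx =>
      obtain ⟨σ, m, I, ν, rfl⟩ := hx
      have h1 := Groth.Agent.Lib.Helper25.PolLawCoeff.coeff_postcomp φ'.toLinearMap γ.law m I ν
      rw [hlaw] at h1
      rw [AlgHom.toLinearMap_apply] at h1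
      rw [← h1]
      exact Groth.Agent.Lib.Helper25.PolLawCoeff.polarLin_coeff_tpowLaw γ.law γ.homog m I ν
    | zero => simp
    | add x y _ _ hx hy => rw [map_add, map_add, hx, hy, smul_add]
    | smul a x _ hx => rw [map_smul, map_smul, hx, smul_comm]
  constructor
  · intro x hx
    rw [← key x]
    have : φ' x = 0 := by
      show ((SymTen.TS A B d).val (φ x)) = 0
      rw [hx, map_zero]
    rw [this, map_zero]
  · intro y
    refine ⟨Groth.Agent.Lib.Helper25.PolLawCoeff.polarLin γ.law d y.1, ?_⟩
    apply Subtype.ext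
    show ((φ (Groth.Agent.Lib.Helper25.PolLawCoeff.polarLin γ.law d y.1) :
        SymTen.TS A B d) : ⨂[A] _ : Fin d, B) = _
    have h1 : ((φ (Groth.Agent.Lib.Helper25.PolLawCoeff.polarLin γ.law d y.1) :
        SymTen.TS A B d) : ⨂[A] _ : Fin d, B) =
        φ'.toLinearMap (Groth.Agent.Lib.Helper25.PolLawCoeff.polarLin γ.law d y.1) := rfl
    rw [h1, ← Groth.Agent.Lib.Helper25.PolLawCoeff.polarLin_postcomp, hlaw,
      Groth.Agent.Lib.Helper25.PolLawCoeff.polarLin_tpowLaw]
    have h2 : ∀ σ : Equiv.Perm (Fin d), SymTen.perm A B d σ y.1 = y.1 := by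
      intro σ
      rw [SymTen.perm_apply]
      exact y.2 σ
    rw [Finset.sum_congr rfl (fun σ _ => h2 σ), Finset.sum_const, Finset.card_univ,
      Fintype.card_perm, Fintype.card_fin]
    rfl

end Groth.Agent.S13872
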