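import Groth.Statements.S13879
import Mathlib

set_option autoImplicit false
universe u
open Crimp

namespace Groth.Agent.S13879

/-- membership in `(t) • ⊤` -/
lemma mem_span_singleton_smul_top {R M : Type*} [CommRing R] [AddCommGroup M] [Module R M] (r : R) (x : M) :
    x ∈ Ideal.span {r} • (⊤ : Submodule R M) ↔ ∃ s : M, x = r • s := by
  rw [Submodule.ideal_span_singleton_smul, Submodule.mem_smul_pointwise_iff_exists]
  constructor
  · rintro ⟨s, -, rfl⟩
    exact ⟨s, rfl⟩
  · rintro ⟨s, rfl⟩
    exact ⟨s, Submodule.mem_top, rfl⟩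

/-- Over R = k⟦t⟧ with k an algebraically closed field of characteristic zero, let S' = R × R × R and
let S be the R-submodule R·1 + R·(t ^ m f) + t ^ n S' of S' for some f in S' and natural numbers m,
n. Then S is closed under multiplication (equivalently, is an R-subalgebra of S') if and only if t ^
(2m) f ^ 2 lies in S. (The published statement has m ≤ n and S' / S isomorphic to R / (t ^ m) ⊕ R /
(t ^ n), under which S has this shape; this row states the criterion for every submodule of this
shape.) -/
theorem result {k : Type u} [Field k] [IsAlgClosed k] [CharZero k] (m n : ℕ) (f : (Fin 3 → PowerSeries k))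
    (S : Submodule (PowerSeries k) (Fin 3 → PowerSeries k))
    (hS : S = Submodule.span (PowerSeries k) {(1 : (Fin 3 → PowerSeries k)), ((PowerSeries.X : PowerSeries k) ^ m) • f} ⊔
        Ideal.span {(PowerSeries.X : PowerSeries k) ^ n} • (⊤ : Submodule (PowerSeries k) (Fin 3 → PowerSeries k))) :
    (∀ x ∈ S, ∀ y ∈ S, x * y ∈ S) ↔ ((PowerSeries.X : PowerSeries k) ^ (2 * m)) • (f * f) ∈ S := by
  set t : PowerSeries k := PowerSeries.X with ht
  set g : (Fin 3 → PowerSeries k) := (t ^ m) • f with hg
  have h1S : (1 : (Fin 3 → PowerSeries k)) ∈ S := by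
    rw [hS]
    exact Submodule.mem_sup_left (Submodule.subset_span (by simp))
  have hgS : g ∈ S := by
    rw [hS]
    exact Submodule.mem_sup_left (Submodule.subset_span (by simp))
  have hTS : ∀ s : (Fin 3 → PowerSeries k), (t ^ n) • s ∈ S := by
    intro s
    rw [hS]
    exact Submodule.mem_sup_right ((mem_span_singleton_smul_top _ _).mpr ⟨s, rfl⟩)
  have hgg : g * g = (t ^ (2 * m)) • (f * f) := by
    rw [hg, smul_mul_smul_comm, ← pow_add, two_mul]
  have hdecomp : ∀ x ∈ S, ∃ (c d : PowerSeries k) (s : (Fin 3 → PowerSeries k)),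
      x = c • 1 + d • g + (t ^ n) • s := by
    intro x hx
    rw [hS] at hx
    obtain ⟨a, ha, b, hb, rfl⟩ := Submodule.mem_sup.mp hx
    obtain ⟨c, d, rfl⟩ := Submodule.mem_span_pair.mp ha
    obtain ⟨s, rfl⟩ := (mem_span_singleton_smul_top _ _).mp hb
    exact ⟨c, d, s, rfl⟩
  constructor
  · intro h
    rw [← hgg]
    exact h g hgS g hgS
  · intro h x hx y hy
    rw [← hgg] at h
    obtain ⟨c, d, s, rfl⟩ := hdecomp x hx
    obtain ⟨c', d', s', rfl⟩ := hdecomp y hy
    have key : (c • 1 + d • g + (t ^ n) • s) * (c' • 1 + d' • g + (t ^ n) • s') =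
        (c * c') • 1 + (c * d' + c' * d) • g + (d * d') • (g * g) +
          (t ^ n) • (c • s' + d • (g * s') + c' • s + d' • (g * s) + (t ^ n) • (s * s')) := by
      simp only [Algebra.smul_def, map_mul, map_add]
      ring
    rw [key]
    refine S.add_mem (S.add_mem (S.add_mem ?_ ?_) ?_) (hTS _)
    · exact S.smul_mem _ h1S
    · exact S.smul_mem _ hgS
    · exact S.smul_mem _ h

end Groth.Agent.S13879
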