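import Groth.Statements.S13880
import Mathlib
import Groth.Agent.Lib.Helper75.CrimpDouble
import Groth.Agent.Lib.Helper75.CrimpPS

set_option autoImplicit false
universe u
open Crimp

namespace Groth.Agent.S13880

open Groth.Agent.Lib.Helper75

section
variable {R : Type*} [CommRing R]

/-- the change of coordinates `(f, g) ↦ ((f+g)/2, (f-g)/2)` -/
noncomputable def eEquiv (h : R) (hh : 2 * h = 1) : (Fin 2 → R) ≃ₗ[R] (Fin 2 → R) where
  toFun v := ![h * (v 0 + v 1), h * (v 0 - v 1)]
  invFun u := ![u 0 + u 1, u 0 - u 1]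
  map_add' := by
    intro x y; ext i; fin_cases i <;> simp <;> ring
  map_smul' := by
    intro r x; ext i; fin_cases i <;> simp <;> ring
  left_inv := by
    intro v; ext i; fin_cases i
    · simp; linear_combination (v 0) * hh
    · simp; linear_combination (v 1) * hh
  right_inv := by
    intro u; ext i; fin_cases i
    · simp; linear_combination (u 0) * hh
    · simp; linear_combination (u 1) * hh

noncomputable def bt (h : R) (hh : 2 * h = 1) : Module.Basis (Fin 2) R (Fin 2 → R) :=
  Module.Basis.ofEquivFun (eEquiv h hh)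

theorem bt_zero (h : R) (hh : 2 * h = 1) : bt h hh 0 = 1 := by
  rw [bt, Module.Basis.coe_ofEquivFun]
  ext i; fin_cases i <;> simp [eEquiv]

theorem bt_one (h : R) (hh : 2 * h = 1) : bt h hh 1 = ![1, -1] := by
  rw [bt, Module.Basis.coe_ofEquivFun]
  ext i; fin_cases i <;> simp [eEquiv]

theorem w_mul_w : (![1, -1] : Fin 2 → R) * ![1, -1] = algebraMap R (Fin 2 → R) 1 := by
  ext i; fin_cases i <;> simp

end

/-- Over R = k⟦t⟧ with k an algebraically closed field of characteristic zero, let S' = R × R, the
trivial double cover of the formal disk (branch divisor (t ^ 0)). An R-subalgebra S of S' admits an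
R-basis of size 2 whose discriminant generates (t ^ b), that is, S is a crimp with branch divisor (t
^ b), if and only if b = 2n for some n and S = R·1 + t ^ n S'. So there is exactly one such crimp
when b is even and none when b is odd; moreover the subalgebra R·1 + t ^ n S' is isomorphic as an
R-algebra to R[y] / (y ^ 2 - t ^ (2n)) (existence of an isomorphism; y ↦ (t ^ n, -t ^ n)). (The
published statement also gives the space of crimps its reduced one-point scheme structure; this row
classifies its k-points.) -/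
theorem result {k : Type u} [Field k] [IsAlgClosed k] [CharZero k] (b : ℕ) (S : Subalgebra (PowerSeries k) (Fin 2 → PowerSeries k)) :
    ((∃ bS : Module.Basis (Fin 2) (PowerSeries k) S,
      Ideal.span {Algebra.discr (PowerSeries k) ⇑bS} = Ideal.span {(PowerSeries.X : PowerSeries k) ^ b}) ↔
    ∃ n : ℕ, b = 2 * n ∧
      Subalgebra.toSubmodule S = Submodule.span (PowerSeries k) {(1 : (Fin 2 → PowerSeries k))} ⊔
        Ideal.span {(PowerSeries.X : PowerSeries k) ^ n} • (⊤ : Submodule (PowerSeries k) (Fin 2 → PowerSeries k))) ∧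
    (∀ n : ℕ, Subalgebra.toSubmodule S = Submodule.span (PowerSeries k) {(1 : (Fin 2 → PowerSeries k))} ⊔
        Ideal.span {(PowerSeries.X : PowerSeries k) ^ n} • (⊤ : Submodule (PowerSeries k) (Fin 2 → PowerSeries k)) →
      Nonempty (S ≃ₐ[PowerSeries k] AdjoinRoot (Polynomial.X ^ 2 - Polynomial.C ((PowerSeries.X : PowerSeries k) ^ (2 * n))))) := by
  obtain ⟨h, hh⟩ := CrimpPS.exists_half (k := k)
  have key := CrimpDouble.crimp_iff (bt h hh) ![1, -1] 1 (bt_zero h hh) (bt_one h hh) w_mul_w
    (PowerSeries.X : PowerSeries k) CrimpPS.X_ne_zero' CrimpPS.hideal S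
    (Ideal.span {(PowerSeries.X : PowerSeries k) ^ b})
  have hu : IsUnit ((4 : PowerSeries k) * 1) := by rw [mul_one]; exact CrimpPS.isUnit_four
  refine ⟨?_, ?_⟩
  · rw [key]
    constructor
    · rintro ⟨n, h1, h2⟩
      exact ⟨n, (CrimpPS.span_X_pow_eq_iff _ hu b (2 * n)).mp h1, h2⟩
    · rintro ⟨n, h1, h2⟩
      exact ⟨n, (CrimpPS.span_X_pow_eq_iff _ hu b (2 * n)).mpr h1, h2⟩
  · intro n hn
    have := CrimpDouble.nonempty_algEquiv (bt h hh) ![1, -1] 1 (bt_zero h hh) (bt_one h hh) w_mul_w S
      ((PowerSeries.X : PowerSeries k) ^ n) (pow_ne_zero _ CrimpPS.X_ne_zero') hn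
    have e : ((PowerSeries.X : PowerSeries k) ^ n) ^ 2 * 1 = PowerSeries.X ^ (2 * n) := by
      rw [mul_one, ← pow_mul, mul_comm]
    rw [e] at this
    exact this

end Groth.Agent.S13880
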