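import Groth.Statements.S13881
import Mathlib
import Groth.Agent.Lib.Helper75.CrimpDouble
import Groth.Agent.Lib.Helper75.CrimpPS

set_option autoImplicit false
universe u
open Crimp

namespace Groth.Agent.S13881

open Groth.Agent.Lib.Helper75

section
variable {R : Type*} [CommRing R] [Nontrivial R] (t : R)

theorem hmonic : (Polynomial.X ^ 2 - Polynomial.C t : Polynomial R).Monic :=
  Polynomial.monic_X_pow_sub_C _ (by norm_num)

theorem hdim : (AdjoinRoot.powerBasis' (hmonic t)).dim = 2 := by
  rw [AdjoinRoot.powerBasis'_dim, Polynomial.natDegree_X_pow_sub_C]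

noncomputable def bt : Module.Basis (Fin 2) R (AdjoinRoot (Polynomial.X ^ 2 - Polynomial.C t)) :=
  (AdjoinRoot.powerBasis' (hmonic t)).basis.reindex (finCongr (hdim t))

theorem bt_zero : bt t 0 = 1 := by
  rw [bt, Module.Basis.reindex_apply, PowerBasis.basis_eq_pow]
  simp

theorem bt_one : bt t 1 = AdjoinRoot.root _ := by
  rw [bt, Module.Basis.reindex_apply, PowerBasis.basis_eq_pow, AdjoinRoot.powerBasis'_gen]
  simp

theorem w_mul_w : (AdjoinRoot.root (Polynomial.X ^ 2 - Polynomial.C t)) * AdjoinRoot.root _ =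
    algebraMap R (AdjoinRoot (Polynomial.X ^ 2 - Polynomial.C t)) t := by
  have h := AdjoinRoot.eval₂_root (Polynomial.X ^ 2 - Polynomial.C t)
  rw [Polynomial.eval₂_sub, Polynomial.eval₂_pow, Polynomial.eval₂_X, Polynomial.eval₂_C,
    sub_eq_zero] at h
  rw [← pow_two, h]
  rfl

end

/-- Over R = k⟦t⟧ with k an algebraically closed field of characteristic zero, let S' = R[x] / (x ^ 2 -
t), the ramified smooth double cover of the formal disk (branch divisor (t)). An R-subalgebra S of
S' admits an R-basis of size 2 whose discriminant generates (t ^ b), that is, S is a crimp with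
branch divisor (t ^ b), if and only if b = 2n + 1 for some n and S = R·1 + t ^ n S'. So there is
exactly one such crimp when b is odd and none when b is even; moreover the subalgebra R·1 + t ^ n S'
is isomorphic as an R-algebra to R[y] / (y ^ 2 - t ^ (2n+1)) (existence of an isomorphism; y ↦ t ^ n
x). (The published statement describes this algebra as R[y] / (y ^ 2 - t ^ (b - a)) with a = 1, that
is R[y] / (y ^ 2 - t ^ (2n)); that algebra has discriminant ideal (t ^ (b - 1)), not (t ^ b), so
this row uses R[y] / (y ^ 2 - t ^ b) = R[y] / (y ^ 2 - t ^ (2n+1)), which is the algebra R·1 + t ^ n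
S'. The published statement also gives the space of crimps its reduced one-point scheme structure;
this row classifies its k-points.) -/
theorem result {k : Type u} [Field k] [IsAlgClosed k] [CharZero k] (b : ℕ)
    (S : Subalgebra (PowerSeries k) (AdjoinRoot (Polynomial.X ^ 2 - Polynomial.C (PowerSeries.X : PowerSeries k)))) :
    ((∃ bS : Module.Basis (Fin 2) (PowerSeries k) S,
      Ideal.span {Algebra.discr (PowerSeries k) ⇑bS} = Ideal.span {(PowerSeries.X : PowerSeries k) ^ b}) ↔
    ∃ n : ℕ, b = 2 * n + 1 ∧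
      Subalgebra.toSubmodule S = Submodule.span (PowerSeries k) {(1 : (AdjoinRoot (Polynomial.X ^ 2 - Polynomial.C (PowerSeries.X : PowerSeries k))))} ⊔
        Ideal.span {(PowerSeries.X : PowerSeries k) ^ n} • (⊤ : Submodule (PowerSeries k) (AdjoinRoot (Polynomial.X ^ 2 - Polynomial.C (PowerSeries.X : PowerSeries k))))) ∧
    (∀ n : ℕ, Subalgebra.toSubmodule S = Submodule.span (PowerSeries k) {(1 : (AdjoinRoot (Polynomial.X ^ 2 - Polynomial.C (PowerSeries.X : PowerSeries k))))} ⊔
        Ideal.span {(PowerSeries.X : PowerSeries k) ^ n} • (⊤ : Submodule (PowerSeries k) (AdjoinRoot (Polynomial.X ^ 2 - Polynomial.C (PowerSeries.X : PowerSeries k)))) →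
      Nonempty (S ≃ₐ[PowerSeries k] AdjoinRoot (Polynomial.X ^ 2 - Polynomial.C ((PowerSeries.X : PowerSeries k) ^ (2 * n + 1))))) := by
  have key := CrimpDouble.crimp_iff (bt (PowerSeries.X : PowerSeries k)) (AdjoinRoot.root _)
    (PowerSeries.X : PowerSeries k) (bt_zero _) (bt_one _) (w_mul_w _)
    (PowerSeries.X : PowerSeries k) CrimpPS.X_ne_zero' CrimpPS.hideal S
    (Ideal.span {(PowerSeries.X : PowerSeries k) ^ b})
  have hu : IsUnit (4 : PowerSeries k) := CrimpPS.isUnit_four
  have e4 : ∀ n : ℕ, (PowerSeries.X : PowerSeries k) ^ (2 * n) * (4 * PowerSeries.X) =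
      PowerSeries.X ^ (2 * n + 1) * 4 := by intro n; ring
  refine ⟨?_, ?_⟩
  · rw [key]
    constructor
    · rintro ⟨n, h1, h2⟩
      rw [e4] at h1
      exact ⟨n, (CrimpPS.span_X_pow_eq_iff _ hu b (2 * n + 1)).mp h1, h2⟩
    · rintro ⟨n, h1, h2⟩
      refine ⟨n, ?_, h2⟩
      rw [e4]
      exact (CrimpPS.span_X_pow_eq_iff _ hu b (2 * n + 1)).mpr h1
  · intro n hn
    have := CrimpDouble.nonempty_algEquiv (bt (PowerSeries.X : PowerSeries k)) (AdjoinRoot.root _)
      (PowerSeries.X : PowerSeries k) (bt_zero _) (bt_one _) (w_mul_w _) S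
      ((PowerSeries.X : PowerSeries k) ^ n) (pow_ne_zero _ CrimpPS.X_ne_zero') hn
    have e : ((PowerSeries.X : PowerSeries k) ^ n) ^ 2 * PowerSeries.X = PowerSeries.X ^ (2 * n + 1) := by
      ring
    rw [e] at this
    exact this

end Groth.Agent.S13881
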