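import Groth.Statements.S13884
import Mathlib
import Groth.Agent.Lib.Helper63.RootLattice
-- import your own Groth.Agent.* helpers here

set_option autoImplicit false
universe u
open Crimp

namespace Groth.Agent.S13884

/-- Over R = k⟦t⟧ with k an algebraically closed field of characteristic zero, let S' = k⟦x⟧ regarded as
an R-algebra through t ↦ x ^ 3, that is S' = R[x] / (x ^ 3 - t), the smooth totally ramified triple
cover of the formal disk. If M is an R-submodule of S' which is free of rank 3, then M has an
R-basis consisting of three power series whose x-adic valuations are pairwise distinct modulo 3.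
(Items (2) and (3) of the published proposition, on the base change of M to R[s] / (s ^ 3 - t), are
not restated.) -/
theorem result {k : Type u} [Field k] [IsAlgClosed k] [CharZero k]
    (M : Submodule (PowerSeries k) (W4c1hurwitzcpt.RootDisk 3 k))
    (bM : Module.Basis (Fin 3) (PowerSeries k) M) :
    ∃ g : Module.Basis (Fin 3) (PowerSeries k) M, ∀ i j : Fin 3, i ≠ j →
      ¬ Nat.ModEq 3 (PowerSeries.order (W4c1hurwitzcpt.RootDisk.val (((g i : M) : (W4c1hurwitzcpt.RootDisk 3 k)) : W4c1hurwitzcpt.RootDisk 3 k))).toNat
        (PowerSeries.order (W4c1hurwitzcpt.RootDisk.val (((g j : M) : (W4c1hurwitzcpt.RootDisk 3 k)) : W4c1hurwitzcpt.RootDisk 3 k))).toNat := by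
  classical
  obtain ⟨g, hgM, hgmod, hspan⟩ := Groth.Agent.Lib.Helper63.RootLattice.exists_gens M
  have hfr : Module.finrank (PowerSeries k) M = 3 := by
    rw [Module.finrank_eq_card_basis bM, Fintype.card_fin]
  -- all `g r` are nonzero
  have hne : ∀ r, g r ≠ 0 := by
    intro r1 h0
    have hM : M = Submodule.span (PowerSeries k)
        ((Finset.image g (Finset.univ.erase r1) : Finset _) : Set (W4c1hurwitzcpt.RootDisk 3 k)) := by
      apply le_antisymm
      · rw [← hspan, Submodule.span_le]
        rintro _ ⟨r, rfl⟩
        by_cases hr : r = r1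
        · rw [hr, h0]; exact Submodule.zero_mem _
        · apply Submodule.subset_span
          rw [Finset.mem_coe, Finset.mem_image]
          exact ⟨r, Finset.mem_erase.mpr ⟨hr, Finset.mem_univ _⟩, rfl⟩
      · rw [Submodule.span_le]
        intro z hz
        rw [Finset.mem_coe, Finset.mem_image] at hz
        obtain ⟨r, _, rfl⟩ := hz
        exact hgM r
    have h1 := finrank_span_finset_le_card (R := PowerSeries k)
      (Finset.image g (Finset.univ.erase r1))
    have h2 : (Finset.image g (Finset.univ.erase r1)).card ≤ 2 := by
      refine le_trans Finset.card_image_le ?_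
      rw [Finset.card_erase_of_mem (Finset.mem_univ _), Finset.card_univ, Fintype.card_fin]
    have h3 : Module.finrank (PowerSeries k) M = Set.finrank (PowerSeries k)
        ((Finset.image g (Finset.univ.erase r1) : Finset _) : Set (W4c1hurwitzcpt.RootDisk 3 k)) := by
      unfold Set.finrank
      rw [← hM]
    omega
  have hli : LinearIndependent (PowerSeries k) g := by
    rw [Fintype.linearIndependent_iff]
    intro a ha r
    rcases Groth.Agent.Lib.Helper63.RootLattice.indep g hgmod a ha r with h | h
    · exact h
    · exact absurd h (hne r)
  obtain ⟨g', hg'⟩ : ∃ g' : Fin 3 → M, g' = fun r => ⟨g r, hgM r⟩ := ⟨_, rfl⟩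
  have hg'val : ∀ r, ((g' r : M) : W4c1hurwitzcpt.RootDisk 3 k) = g r := by
    intro r; rw [hg']
  have hli' : LinearIndependent (PowerSeries k) g' := by
    apply LinearIndependent.of_comp M.subtype
    have : (M.subtype ∘ g') = g := by
      funext r
      exact hg'val r
    rw [this]
    exact hli
  have hsp' : ⊤ ≤ Submodule.span (PowerSeries k) (Set.range g') := by
    have hinj := Submodule.map_injective_of_injective (f := M.subtype) M.injective_subtype
    have : Submodule.map M.subtype (Submodule.span (PowerSeries k) (Set.range g')) =
        Submodule.map M.subtype ⊤ := by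
      rw [Submodule.map_span, ← Set.range_comp, Submodule.map_subtype_top]
      have : (M.subtype ∘ g') = g := by
        funext r
        exact hg'val r
      rw [this, hspan]
    rw [hinj this]
  refine ⟨Module.Basis.mk hli' hsp', fun i j hij hmod => ?_⟩
  rw [Module.Basis.mk_apply, Module.Basis.mk_apply, hg'val, hg'val] at hmod
  have h1 := hgmod i (hne i)
  have h2 := hgmod j (hne j)
  apply hij
  apply Fin.ext
  unfold Nat.ModEq at hmod
  rw [← h1, ← h2]
  exact hmod

end Groth.Agent.S13884
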