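import Groth.Statements.S13885
import Mathlib
import Groth.Agent.Lib.Helper63.RootLattice
-- import your own Groth.Agent.* helpers here

set_option autoImplicit false
universe u
open Crimp

namespace Groth.Agent.S13885

/-- Over R = k⟦t⟧ with k an algebraically closed field of characteristic zero, let S' = k⟦x⟧ × R, where
k⟦x⟧ is regarded as an R-algebra through t ↦ x ^ 2, that is S' = R[x] / (x ^ 2 - t) ⊕ R, the smooth
simply ramified triple cover of the formal disk, with R embedded diagonally. If M is an R-submodule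
of S' containing 1 which is free of rank 3, then M is spanned by 1, (f₁, 0) and (f₂, 0) for some
power series f₁, f₂ whose x-adic valuations are distinct modulo 2. (Items (2) and (3) of the
published proposition, on the base change of M to R[s] / (s ^ 2 - t), are not restated.) -/
theorem result {k : Type u} [Field k] [IsAlgClosed k] [CharZero k]
    (M : Submodule (PowerSeries k) (W4c1hurwitzcpt.RootDisk 2 k × PowerSeries k))
    (h1 : (1 : (W4c1hurwitzcpt.RootDisk 2 k × PowerSeries k)) ∈ M)
    (bM : Module.Basis (Fin 3) (PowerSeries k) M) :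
    ∃ f₁ f₂ : W4c1hurwitzcpt.RootDisk 2 k,
      ¬ Nat.ModEq 2 (PowerSeries.order (W4c1hurwitzcpt.RootDisk.val (f₁ : W4c1hurwitzcpt.RootDisk 2 k))).toNat (PowerSeries.order (W4c1hurwitzcpt.RootDisk.val (f₂ : W4c1hurwitzcpt.RootDisk 2 k))).toNat ∧
      M = Submodule.span (PowerSeries k) {(1 : (W4c1hurwitzcpt.RootDisk 2 k × PowerSeries k)), (f₁, 0), (f₂, 0)} := by
  classical
  obtain ⟨M0, hM0⟩ : ∃ M0 : Submodule (PowerSeries k) (W4c1hurwitzcpt.RootDisk 2 k),
      M0 = M.comap (LinearMap.inl (PowerSeries k) (W4c1hurwitzcpt.RootDisk 2 k) (PowerSeries k)) :=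
    ⟨_, rfl⟩
  have hM0mem : ∀ s, s ∈ M0 ↔ ((s, 0) : W4c1hurwitzcpt.RootDisk 2 k × PowerSeries k) ∈ M := by
    intro s
    rw [hM0, Submodule.mem_comap]
    rfl
  obtain ⟨g, hgM, hgmod, hspan⟩ := Groth.Agent.Lib.Helper63.RootLattice.exists_gens M0
  have hfr : Module.finrank (PowerSeries k) M = 3 := by
    rw [Module.finrank_eq_card_basis bM, Fintype.card_fin]
  have hM : M = Submodule.span (PowerSeries k)
      {(1 : (W4c1hurwitzcpt.RootDisk 2 k × PowerSeries k)), (g 0, 0), (g 1, 0)} := by
    apply le_antisymm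
    · rintro ⟨s, b⟩ hz
      have h2 : ((s - b • (1 : W4c1hurwitzcpt.RootDisk 2 k), 0) :
          W4c1hurwitzcpt.RootDisk 2 k × PowerSeries k) ∈ M := by
        have : ((s - b • (1 : W4c1hurwitzcpt.RootDisk 2 k), 0) :
            W4c1hurwitzcpt.RootDisk 2 k × PowerSeries k) =
            (s, b) - b • (1 : W4c1hurwitzcpt.RootDisk 2 k × PowerSeries k) := by
          refine Prod.ext ?_ ?_
          · simp
          · simp
        rw [this]
        exact M.sub_mem hz (M.smul_mem _ h1)
      rw [← hM0mem, ← hspan, Submodule.mem_span_range_iff_exists_fun] at h2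
      obtain ⟨c, hc⟩ := h2
      rw [Fin.sum_univ_two] at hc
      have hz' : ((s, b) : W4c1hurwitzcpt.RootDisk 2 k × PowerSeries k) =
          b • (1 : W4c1hurwitzcpt.RootDisk 2 k × PowerSeries k) +
            (c 0 • ((g 0, 0) : W4c1hurwitzcpt.RootDisk 2 k × PowerSeries k) +
              c 1 • ((g 1, 0) : W4c1hurwitzcpt.RootDisk 2 k × PowerSeries k)) := by
        refine Prod.ext ?_ ?_
        · simp only [Prod.fst_add, Prod.smul_fst, Prod.fst_one]
          rw [hc]; abel
        · simp
      rw [hz']
      refine Submodule.add_mem _ (Submodule.smul_mem _ _ (Submodule.subset_span (by simp)))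
        (Submodule.add_mem _ (Submodule.smul_mem _ _ (Submodule.subset_span (by simp)))
          (Submodule.smul_mem _ _ (Submodule.subset_span (by simp))))
    · rw [Submodule.span_le]
      intro z hz
      simp only [Set.mem_insert_iff, Set.mem_singleton_iff] at hz
      rcases hz with rfl | rfl | rfl
      · exact h1
      · exact (hM0mem _).mp (hgM 0)
      · exact (hM0mem _).mp (hgM 1)
  have hne : ∀ r, g r ≠ 0 := by
    intro r1 h0
    obtain ⟨s, hs⟩ : ∃ s : Finset (W4c1hurwitzcpt.RootDisk 2 k × PowerSeries k),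
        s = {(1 : (W4c1hurwitzcpt.RootDisk 2 k × PowerSeries k)), (g 0, 0), (g 1, 0)} := ⟨_, rfl⟩
    have hs0 : (0 : W4c1hurwitzcpt.RootDisk 2 k × PowerSeries k) ∈ s := by
      rw [hs]
      have : ((g r1, 0) : W4c1hurwitzcpt.RootDisk 2 k × PowerSeries k) = 0 := by
        rw [h0]; rfl
      rw [← this]
      fin_cases r1
      · simp
      · simp
    have hM2 : M = Submodule.span (PowerSeries k)
        ((s.erase 0 : Finset _) : Set (W4c1hurwitzcpt.RootDisk 2 k × PowerSeries k)) := by
      rw [Finset.coe_erase, Submodule.span_sdiff_singleton_zero, hs]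
      rw [hM]
      congr 1
      simp
    have h3 := finrank_span_finset_le_card (R := PowerSeries k) (s.erase 0)
    have h4 : (s.erase 0).card ≤ 2 := by
      rw [Finset.card_erase_of_mem hs0]
      have : s.card ≤ 3 := by rw [hs]; exact Finset.card_le_three
      omega
    have h5 : Module.finrank (PowerSeries k) M = Set.finrank (PowerSeries k)
        ((s.erase 0 : Finset _) : Set (W4c1hurwitzcpt.RootDisk 2 k × PowerSeries k)) := by
      unfold Set.finrank
      rw [← hM2]
    omega
  refine ⟨g 0, g 1, ?_, hM⟩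
  intro hmod
  have e0 := hgmod 0 (hne 0)
  have e1 := hgmod 1 (hne 1)
  unfold Nat.ModEq at hmod
  rw [e0, e1] at hmod
  simp at hmod

end Groth.Agent.S13885
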