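import Groth.Statements.S13886
import Mathlib
import Groth.Agent.S13879

set_option autoImplicit false
universe u
open Crimp

namespace Groth.Agent.S13886

section generic

variable {R : Type*} [CommRing R]

/-- the coefficient of `f` in the basis `1, f, e_l` -/
def bLin (f : Fin 3 → R) (i j : Fin 3) (w : R) : (Fin 3 → R) →ₗ[R] R :=
  w • ((LinearMap.proj i : (Fin 3 → R) →ₗ[R] R) - (LinearMap.proj j : (Fin 3 → R) →ₗ[R] R))

/-- the coefficient of `1` -/
def aLin (f : Fin 3 → R) (i j : Fin 3) (w : R) : (Fin 3 → R) →ₗ[R] R :=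
  (LinearMap.proj i : (Fin 3 → R) →ₗ[R] R) - (f i) • bLin f i j w

/-- the coefficient of `e_l` -/
def cLin (f : Fin 3 → R) (i j l : Fin 3) (w : R) : (Fin 3 → R) →ₗ[R] R :=
  (LinearMap.proj l : (Fin 3 → R) →ₗ[R] R) - aLin f i j w - (f l) • bLin f i j w

lemma bLin_apply (f : Fin 3 → R) (i j : Fin 3) (w : R) (x : Fin 3 → R) :
    bLin f i j w x = w * (x i - x j) := by
  simp [bLin]

lemma aLin_apply (f : Fin 3 → R) (i j : Fin 3) (w : R) (x : Fin 3 → R) :
    aLin f i j w x = x i - f i * (w * (x i - x j)) := by
  simp [aLin, bLin]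

lemma cLin_apply (f : Fin 3 → R) (i j l : Fin 3) (w : R) (x : Fin 3 → R) :
    cLin f i j l w x = x l - (x i - f i * (w * (x i - x j))) - f l * (w * (x i - x j)) := by
  simp [cLin, aLin, bLin]

lemma decomp (f : Fin 3 → R) (i j l : Fin 3) (hij : i ≠ j) (hil : i ≠ l) (hjl : j ≠ l)
    (w : R) (hw : w * (f i - f j) = 1) (x : Fin 3 → R) :
    x = aLin f i j w x • (1 : Fin 3 → R) + bLin f i j w x • f + cLin f i j l w x • Pi.single l (1 : R) := by
  have hall : ∀ q : Fin 3, q = i ∨ q = j ∨ q = l := by
    intro q
    fin_cases q <;> fin_cases i <;> fin_cases j <;> fin_cases l <;> simp_all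
  funext q
  simp only [Pi.add_apply, Pi.smul_apply, Pi.one_apply, smul_eq_mul, mul_one, aLin_apply, bLin_apply,
    cLin_apply]
  rcases hall q with rfl | rfl | rfl
  · rw [Pi.single_eq_of_ne hil]
    ring
  · rw [Pi.single_eq_of_ne hjl]
    linear_combination (x i - x q) * hw
  · rw [Pi.single_eq_same]
    ring

/-- membership in `(t) • ⊤` -/
lemma mem_span_singleton_smul_top' {M : Type*} [AddCommGroup M] [Module R M] (r : R) (x : M) :
    x ∈ Ideal.span {r} • (⊤ : Submodule R M) ↔ ∃ s : M, x = r • s := by
  rw [Submodule.ideal_span_singleton_smul, Submodule.mem_smul_pointwise_iff_exists]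
  constructor
  · rintro ⟨s, -, rfl⟩
    exact ⟨s, rfl⟩
  · rintro ⟨s, rfl⟩
    exact ⟨s, Submodule.mem_top, rfl⟩

/-- the map to the product of quotients -/
def PhiLin (t : R) (m n : ℕ) (f : Fin 3 → R) (i j l : Fin 3) (w : R) :
    (Fin 3 → R) →ₗ[R] ((R ⧸ Ideal.span {t ^ m}) × (R ⧸ Ideal.span {t ^ n})) :=
  LinearMap.prod ((Submodule.mkQ (Ideal.span {t ^ m})).comp (bLin f i j w))
    ((Submodule.mkQ (Ideal.span {t ^ n})).comp (cLin f i j l w))

lemma PhiLin_apply (t : R) (m n : ℕ) (f : Fin 3 → R) (i j l : Fin 3) (w : R) (x : Fin 3 → R) :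
    PhiLin t m n f i j l w x =
      (Submodule.mkQ (Ideal.span {t ^ m}) (bLin f i j w x), Submodule.mkQ (Ideal.span {t ^ n}) (cLin f i j l w x)) :=
  rfl

lemma PhiLin_surjective (t : R) (m n : ℕ) (f : Fin 3 → R) (i j l : Fin 3) (hij : i ≠ j) (hil : i ≠ l)
    (hjl : j ≠ l) (w : R) (hw : w * (f i - f j) = 1) :
    Function.Surjective (PhiLin t m n f i j l w) := by
  rintro ⟨y1, y2⟩
  obtain ⟨b, rfl⟩ := Submodule.mkQ_surjective _ y1
  obtain ⟨c, rfl⟩ := Submodule.mkQ_surjective _ y2
  refine ⟨b • f + c • Pi.single l (1 : R), ?_⟩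
  have h1 : bLin f i j w (b • f + c • Pi.single l (1 : R)) = b := by
    rw [bLin_apply]
    simp only [Pi.add_apply, Pi.smul_apply, smul_eq_mul]
    rw [Pi.single_eq_of_ne hil, Pi.single_eq_of_ne hjl]
    have : w * (b * f i + c * 0 - (b * f j + c * 0)) = b * (w * (f i - f j)) := by ring
    rw [this, hw, mul_one]
  have h2 : cLin f i j l w (b • f + c • Pi.single l (1 : R)) = c := by
    rw [cLin_apply]
    simp only [Pi.add_apply, Pi.smul_apply, smul_eq_mul]
    rw [Pi.single_eq_of_ne hil, Pi.single_eq_of_ne hjl, Pi.single_eq_same]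
    have e : w * (b * f i + c * 0 - (b * f j + c * 0)) = b * (w * (f i - f j)) := by ring
    rw [e, hw]
    ring
  rw [PhiLin_apply, h1, h2]

lemma ker_PhiLin (t : R) (m n : ℕ) (hmn : m ≤ n) (f : Fin 3 → R) (i j l : Fin 3) (hij : i ≠ j)
    (hil : i ≠ l) (hjl : j ≠ l) (w : R) (hw : w * (f i - f j) = 1) :
    LinearMap.ker (PhiLin t m n f i j l w) =
      Submodule.span R {(1 : Fin 3 → R), (t ^ m) • f} ⊔ Ideal.span {t ^ n} • (⊤ : Submodule R (Fin 3 → R)) := by
  have hker : ∀ x, x ∈ LinearMap.ker (PhiLin t m n f i j l w) ↔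
      bLin f i j w x ∈ Ideal.span {t ^ m} ∧ cLin f i j l w x ∈ Ideal.span {t ^ n} := by
    intro x
    rw [LinearMap.mem_ker, PhiLin_apply]
    simp only [Prod.mk_eq_zero, Submodule.mkQ_apply, Submodule.Quotient.mk_eq_zero]
  apply le_antisymm
  · intro x hx
    rw [hker] at hx
    obtain ⟨hb, hc⟩ := hx
    obtain ⟨b', hb'⟩ := Ideal.mem_span_singleton'.mp hb
    obtain ⟨c', hc'⟩ := Ideal.mem_span_singleton'.mp hc
    rw [decomp f i j l hij hil hjl w hw x, ← hb', ← hc']
    refine Submodule.add_mem _ (Submodule.add_mem _ ?_ ?_) ?_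
    · exact Submodule.mem_sup_left (Submodule.smul_mem _ _ (Submodule.subset_span (by simp)))
    · have : (b' * t ^ m) • f = b' • ((t ^ m) • f) := by rw [mul_smul]
      rw [this]
      exact Submodule.mem_sup_left (Submodule.smul_mem _ _ (Submodule.subset_span (by simp)))
    · refine Submodule.mem_sup_right ((mem_span_singleton_smul_top' _ _).mpr ⟨c' • Pi.single l 1, ?_⟩)
      rw [mul_comm, mul_smul]
  · rw [sup_le_iff]
    constructor
    · rw [Submodule.span_le]
      rintro x (rfl | rfl)
      · show (1 : Fin 3 → R) ∈ LinearMap.ker _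
        rw [hker, bLin_apply, cLin_apply]
        simp
      · show (t ^ m) • f ∈ LinearMap.ker _
        rw [hker, bLin_apply, cLin_apply]
        simp only [Pi.smul_apply, smul_eq_mul]
        constructor
        · rw [Ideal.mem_span_singleton']
          refine ⟨w * (f i - f j), by ring⟩
        · have : t ^ m * f l - (t ^ m * f i - f i * (w * (t ^ m * f i - t ^ m * f j))) -
              f l * (w * (t ^ m * f i - t ^ m * f j)) =
              (t ^ m * f l - t ^ m * f i) * (1 - w * (f i - f j)) := by ring
          rw [this, hw, sub_self, mul_zero]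
          exact Submodule.zero_mem _
    · intro x hx
      obtain ⟨s, rfl⟩ := (mem_span_singleton_smul_top' _ _).mp hx
      rw [hker, bLin_apply, cLin_apply]
      simp only [Pi.smul_apply, smul_eq_mul]
      constructor
      · rw [Ideal.mem_span_singleton']
        refine ⟨t ^ (n - m) * (w * (s i - s j)), ?_⟩
        have : t ^ n = t ^ (n - m) * t ^ m := by rw [← pow_add, Nat.sub_add_cancel hmn]
        rw [this]
        ring
      · rw [Ideal.mem_span_singleton']
        refine ⟨s l - (s i - f i * (w * (s i - s j))) - f l * (w * (s i - s j)), by ring⟩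

end generic

/-- Over R = k⟦t⟧ with k an algebraically closed field of characteristic zero, let S' = R × R × R be the
unramified triple cover of the formal disk and let m ≤ n ≤ 2m be natural numbers. For every f in S'
not lying in R·1 + t S', the R-submodule S = R·1 + R·(t ^ m f) + t ^ n S' is closed under
multiplication, hence an R-subalgebra (a crimp), and S' / S is isomorphic to R / (t ^ m) ⊕ R / (t ^
n) (so the crimp has μ-invariant n - m and branch divisor (t ^ (2(m+n)))). Together with the
structure result for submodules with this quotient, this identifies the k-points of the space of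
crimps of splitting type (m, n), 2m ≥ n, with the submodules of this shape. (The published statement
moreover asserts that this stratum is an irreducible variety of dimension n - m; that part is not
restated.) -/
theorem result {k : Type u} [Field k] [IsAlgClosed k] [CharZero k]
    (m n : ℕ) (hmn : m ≤ n) (hn : n ≤ 2 * m)
    (f : (Fin 3 → PowerSeries k)) (hf : f ∉ Submodule.span (PowerSeries k) {(1 : (Fin 3 → PowerSeries k))} ⊔ Ideal.span {(PowerSeries.X : PowerSeries k)} • (⊤ : Submodule (PowerSeries k) (Fin 3 → PowerSeries k)))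
    (S : Submodule (PowerSeries k) (Fin 3 → PowerSeries k))
    (hS : S = Submodule.span (PowerSeries k) {(1 : (Fin 3 → PowerSeries k)), ((PowerSeries.X : PowerSeries k) ^ m) • f} ⊔
        Ideal.span {(PowerSeries.X : PowerSeries k) ^ n} • (⊤ : Submodule (PowerSeries k) (Fin 3 → PowerSeries k))) :
    (∀ x ∈ S, ∀ y ∈ S, x * y ∈ S) ∧
    Nonempty (((Fin 3 → PowerSeries k) ⧸ S) ≃ₗ[PowerSeries k]
      ((PowerSeries k ⧸ Ideal.span {(PowerSeries.X : PowerSeries k) ^ m}) × (PowerSeries k ⧸ Ideal.span {(PowerSeries.X : PowerSeries k) ^ n}))) := by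
  classical
  set t : PowerSeries k := PowerSeries.X with ht
  constructor
  · -- closed under multiplication, by the criterion
    rw [Groth.Agent.S13879.result m n f S hS]
    rw [hS]
    refine Submodule.mem_sup_right ((mem_span_singleton_smul_top' _ _).mpr ⟨(t ^ (2 * m - n)) • (f * f), ?_⟩)
    rw [smul_smul, ← pow_add, Nat.add_sub_cancel' hn]
  · -- find two coordinates of f with different constant terms
    have hex : ∃ i j l : Fin 3, i ≠ j ∧ i ≠ l ∧ j ≠ l ∧
        PowerSeries.constantCoeff (f i) ≠ PowerSeries.constantCoeff (f j) := by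
      by_contra hcon
      push Not at hcon
      have h01 := hcon 0 1 2 (by decide) (by decide) (by decide)
      have h12 := hcon 1 2 0 (by decide) (by decide) (by decide)
      apply hf
      set α := PowerSeries.constantCoeff (f 0) with hα
      have hconst : ∀ q : Fin 3, PowerSeries.constantCoeff (f q) = α := by
        intro q
        fin_cases q
        · rfl
        · exact h01.symm
        · exact h12.symm.trans h01.symm
      have hfeq : f = (PowerSeries.C α) • (1 : Fin 3 → PowerSeries k) +
          t • (fun q => PowerSeries.mk fun p => PowerSeries.coeff (p + 1) (f q)) := by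
        funext q
        simp only [Pi.add_apply, Pi.smul_apply, Pi.one_apply, smul_eq_mul, mul_one]
        have := PowerSeries.eq_X_mul_shift_add_const (f q)
        rw [hconst q] at this
        rw [add_comm]
        exact this
      rw [hfeq]
      refine Submodule.add_mem _ (Submodule.mem_sup_left ?_) (Submodule.mem_sup_right ?_)
      · exact Submodule.smul_mem _ _ (Submodule.subset_span rfl)
      · exact (mem_span_singleton_smul_top' _ _).mpr ⟨_, rfl⟩
    obtain ⟨i, j, l, hij, hil, hjl, hne⟩ := hex
    have hunit : IsUnit (f i - f j) := by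
      rw [PowerSeries.isUnit_iff_constantCoeff, map_sub]
      exact isUnit_iff_ne_zero.mpr (sub_ne_zero.mpr hne)
    obtain ⟨w, hw⟩ := hunit.exists_left_inv
    have hker := ker_PhiLin t m n hmn f i j l hij hil hjl w hw
    rw [← hS] at hker
    have hsurj := PhiLin_surjective t m n f i j l hij hil hjl w hw
    exact ⟨(Submodule.quotEquivOfEq _ _ hker.symm).trans
      (LinearMap.quotKerEquivOfSurjective _ hsurj)⟩

end Groth.Agent.S13886
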