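import Groth.Statements.S13903
import Mathlib
import Groth.Agent.Lib.Helper68.PrimElt

set_option autoImplicit false
universe u
open EtAlg

namespace Groth.Agent.S13903

/-- Let K be a field and L a finite-dimensional reduced commutative K-algebra of dimension d all of
whose elements are separable over K, generated as a K-algebra by z and t. In any finite set of at
least d^(4d) elements of K there is an element c such that c • z + t generates L as a K-algebra.
(The published statement does not require separability; for K of characteristic p and L obtained by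
adjoining p-th roots of two independent indeterminates, L is a reduced finite K-algebra generated by
two elements with no single generator, so separability over K is assumed here, as the counting in
the published proof requires.) -/
theorem result (K L : Type u) [Field K] [CommRing L]
    [Algebra K L] [Module.Finite K L] [IsReduced L] [Algebra.IsSeparable K L] (z t : L)
    (hgen : Algebra.adjoin K ({z, t} : Set L) = ⊤) (S : Finset K)
    (hS : Module.finrank K L ^ (4 * Module.finrank K L) ≤ S.card) :
    ∃ c ∈ S, Algebra.adjoin K ({c • z + t} : Set L) = ⊤ := by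
  classical
  obtain ⟨T, hTfin, ev, hev, hcard⟩ :=
    Groth.Agent.Lib.Helper68.PrimElt.exists_homs K L (AlgebraicClosure K)
  set d := Module.finrank K L with hd
  let Bad : T × T → Finset K :=
    fun p => S.filter (fun c => ev p.1 (c • z + t) = ev p.2 (c • z + t))
  have hBad : ∀ p ∈ (Finset.univ : Finset T).offDiag, (Bad p).card ≤ 1 := by
    intro p hp
    rw [Finset.mem_offDiag] at hp
    have hne : p.1 ≠ p.2 := hp.2.2
    rw [Finset.card_le_one]
    intro c hc c' hc'
    rw [Finset.mem_filter] at hc hc'
    by_contra hcc
    have h1 := hc.2
    have h2 := hc'.2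
    simp only [map_add, map_smul] at h1 h2
    simp only [Algebra.smul_def] at h1 h2
    have hsub : algebraMap K (AlgebraicClosure K) (c - c') ≠ 0 := by
      rw [Ne, map_eq_zero_iff _ (algebraMap K (AlgebraicClosure K)).injective]
      exact sub_ne_zero.mpr hcc
    have hz : ev p.1 z = ev p.2 z := by
      have h3 : algebraMap K (AlgebraicClosure K) (c - c') * (ev p.1 z - ev p.2 z) = 0 := by
        rw [map_sub]
        linear_combination h1 - h2
      rcases mul_eq_zero.mp h3 with h4 | h4
      · exact absurd h4 hsub
      · exact sub_eq_zero.mp h4
    have ht : ev p.1 t = ev p.2 t := by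
      rw [hz] at h1
      exact add_left_cancel h1
    apply hne
    apply hev
    refine AlgHom.ext_of_adjoin_eq_top hgen ?_
    rintro x (rfl | rfl)
    · exact hz
    · exact ht
  have hunion : ((Finset.univ : Finset T).offDiag.biUnion Bad).card ≤ d * d - d := by
    calc ((Finset.univ : Finset T).offDiag.biUnion Bad).card
        ≤ ∑ p ∈ (Finset.univ : Finset T).offDiag, (Bad p).card := Finset.card_biUnion_le
      _ ≤ ∑ p ∈ (Finset.univ : Finset T).offDiag, 1 := Finset.sum_le_sum hBad
      _ = d * d - d := by
          rw [Finset.sum_const, smul_eq_mul, mul_one, Finset.offDiag_card, Finset.card_univ, hcard]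
  have hlt : d * d - d < d ^ (4 * d) := by
    rcases Nat.eq_zero_or_pos d with h0 | hpos
    · rw [h0]; simp
    · have h1 : d * d - d < d * d := Nat.sub_lt (Nat.mul_pos hpos hpos) hpos
      have h2 : d * d ≤ d ^ (4 * d) := by
        rw [← pow_two]
        exact Nat.pow_le_pow_right hpos (by omega)
      omega
  obtain ⟨c, hcS, hcb⟩ : ∃ c ∈ S, c ∉ (Finset.univ : Finset T).offDiag.biUnion Bad := by
    by_contra hcon
    push Not at hcon
    have hsub : S ⊆ (Finset.univ : Finset T).offDiag.biUnion Bad := fun c hc => hcon c hc
    have := Finset.card_le_card hsub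
    omega
  refine ⟨c, hcS, Groth.Agent.Lib.Helper68.PrimElt.adjoin_eq_top_of_injective ev hcard.ge
    (c • z + t) ?_⟩
  intro σ σ' hσ
  by_contra hne
  apply hcb
  rw [Finset.mem_biUnion]
  exact ⟨(σ, σ'), Finset.mem_offDiag.mpr ⟨Finset.mem_univ _, Finset.mem_univ _, hne⟩,
    Finset.mem_filter.mpr ⟨hcS, hσ⟩⟩

end Groth.Agent.S13903
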