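import Groth.Statements.S13904
import Mathlib

set_option autoImplicit false
universe u
open CAlg

namespace Groth.Agent.S13904

lemma dim_le_of_integral {R S : Type*} [CommRing R] [CommRing S] (f : R →+* S) (hf : f.IsIntegral) :
    ringKrullDim S ≤ ringKrullDim R := by
  letI := f.toAlgebra
  haveI : Algebra.IsIntegral R S := ⟨hf⟩
  refine Order.krullDim_le_of_strictMono (PrimeSpectrum.comap (algebraMap R S)) ?_
  intro I J hIJ
  rw [← PrimeSpectrum.asIdeal_lt_asIdeal] at hIJ ⊢
  exact Ideal.IsIntegral.comap_lt_comap hIJ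

/-- Let k be a field, A a commutative k-algebra and φ : k[x_1, …, x_r] → A a finite k-algebra map such
that A/p has Krull dimension r for every minimal prime p of A (an equidimensional affine scheme of
dimension r, finite over affine r-space). Then for every minimal prime p of A and every prime q of
k[x_1, …, x_r] there is a prime P ⊇ p of A with φ⁻¹(P) = q: the finite map restricted to each
irreducible component of Spec A is surjective onto affine r-space. (The published statement is over
an algebraically closed field with φ a Noether normalisation; this row allows any field and any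
finite k-algebra map φ.) -/
theorem result (k : Type u) [Field k] (r : ℕ)
    (A : Type u) [CommRing A] [Algebra k A] (φ : MvPolynomial (Fin r) k →ₐ[k] A)
    (hφ : φ.toRingHom.Finite)
    (hdim : ∀ p ∈ minimalPrimes A, ringKrullDim (A ⧸ p) = r)
    (p : Ideal A) (hp : p ∈ minimalPrimes A)
    (q : Ideal (MvPolynomial (Fin r) k)) [q.IsPrime] :
    ∃ P : Ideal A, P.IsPrime ∧ p ≤ P ∧ P.comap φ.toRingHom = q := by
  classical
  have hp' : p.IsPrime := hp.1.1
  have hint : φ.toRingHom.IsIntegral := hφ.to_isIntegral
  letI : Algebra (MvPolynomial (Fin r) k) A := φ.toRingHom.toAlgebra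
  haveI : Algebra.IsIntegral (MvPolynomial (Fin r) k) A := ⟨hint⟩
  have halg : algebraMap (MvPolynomial (Fin r) k) A = φ.toRingHom := rfl
  -- dimension of (MvPolynomial (Fin r) k)
  have hdimR : ringKrullDim (MvPolynomial (Fin r) k) = r := by
    rw [MvPolynomial.ringKrullDim_of_isNoetherianRing, ringKrullDim_eq_zero_of_field]
    simp
  -- the comap of p is zero
  have hcomap : p.comap φ.toRingHom = ⊥ := by
    by_contra hne
    obtain ⟨x, hx, hx0⟩ := Submodule.exists_mem_ne_zero_of_ne_bot hne
    have hxnzd : x ∈ nonZeroDivisors (MvPolynomial (Fin r) k) := mem_nonZeroDivisors_of_ne_zero hx0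
    let ψ : (MvPolynomial (Fin r) k) →+* A ⧸ p := (Ideal.Quotient.mk p).comp φ.toRingHom
    have hψint : ψ.IsIntegral :=
      RingHom.IsIntegral.trans _ _ hint (RingHom.isIntegral_of_surjective _ Ideal.Quotient.mk_surjective)
    have hψx : ψ x = 0 := by
      show Ideal.Quotient.mk p (φ.toRingHom x) = 0
      rw [Ideal.Quotient.eq_zero_iff_mem]
      exact hx
    let g : (MvPolynomial (Fin r) k) ⧸ Ideal.span {x} →+* A ⧸ p :=
      Ideal.Quotient.lift (Ideal.span {x}) ψ (by
        intro a ha
        obtain ⟨c, rfl⟩ := Ideal.mem_span_singleton'.mp ha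
        rw [map_mul, hψx, mul_zero])
    have hgcomp : g.comp (Ideal.Quotient.mk (Ideal.span {x})) = ψ := by
      ext a <;> simp [g]
    have hgint : g.IsIntegral := RingHom.IsIntegral.tower_top (Ideal.Quotient.mk (Ideal.span {x})) g
      (by rw [hgcomp]; exact hψint)
    have h1 : ringKrullDim (A ⧸ p) ≤ ringKrullDim ((MvPolynomial (Fin r) k) ⧸ Ideal.span {x}) := dim_le_of_integral g hgint
    have h2 : ringKrullDim ((MvPolynomial (Fin r) k) ⧸ Ideal.span {x}) + 1 ≤ ringKrullDim (MvPolynomial (Fin r) k) :=
      ringKrullDim_quotient_succ_le_of_nonZeroDivisor hxnzd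
    rw [hdim p hp] at h1
    rw [hdimR] at h2
    have h3 : ((r : ℕ) : WithBot ℕ∞) + 1 ≤ (r : WithBot ℕ∞) := le_trans (by gcongr) h2
    have h4 : ((r + 1 : ℕ) : WithBot ℕ∞) ≤ ((r : ℕ) : WithBot ℕ∞) := by exact_mod_cast h3
    have h5 : r + 1 ≤ r := by exact_mod_cast h4
    omega
  have hle : p.comap (algebraMap (MvPolynomial (Fin r) k) A) ≤ q := by
    rw [halg, hcomap]
    exact bot_le
  obtain ⟨Q, hQp, hQprime, hQ⟩ := Ideal.exists_ideal_over_prime_of_isIntegral_of_isPrime q p hle
  exact ⟨Q, hQprime, hQp, hQ⟩

end Groth.Agent.S13904
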