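import Groth.Statements.S13905
import Mathlib

set_option autoImplicit false
universe u
open ProjGeom

namespace Groth.Agent.S13905

theorem finrank_inf_hyperplane {k V : Type u} [Field k] [AddCommGroup V] [Module k V]
    [FiniteDimensional k V] {n : ℕ} (hV : Module.finrank k V = n + 1) (H W : Submodule k V)
    (hH : Module.finrank k H = n) (hW : ¬ W ≤ H) :
    Module.finrank k ↥(H ⊓ W) + 1 = Module.finrank k W := by
  have hlt : H < H ⊔ W := by
    refine lt_of_le_of_ne le_sup_left ?_
    intro h
    apply hW
    rw [h]
    exact le_sup_right
  have h1 : n < Module.finrank k ↥(H ⊔ W) := by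
    rw [← hH]
    exact Submodule.finrank_lt_finrank_of_lt hlt
  have h2 : Module.finrank k ↥(H ⊔ W) ≤ n + 1 := by
    rw [← hV]
    exact Submodule.finrank_le _
  have h3 := Submodule.finrank_sup_add_finrank_inf_eq H W
  omega


open W4c1etcurveeff3b in
/-- Hyperplanes of projective n-space in general position, in linear-algebra form (V of dimension n + 1
over a field k, hyperplanes as n-dimensional subspaces, points as nonzero vectors): if S is a finite
set of hyperplanes in general position with at least n members and H is a hyperplane containing none
of the lines cut out by n members of S, then S with H added is again in general position. (The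
published statement is for hyperplanes of P^n_k and closed points; a closed point lying on n + 1
members is automatically one of the rational points cut out by n of them, so the condition on
nonzero vectors of V is the same condition.) -/
theorem result (k V : Type u) [Field k]
    [AddCommGroup V] [Module k V] [DecidableEq (Submodule k V)] (n : ℕ) (S : Finset (Submodule k V))
    (hS : InGeneralPosition k V n S) (hn : n ≤ S.card) (H : Submodule k V)
    (hH : Module.finrank k H = n)
    (havoid : ∀ T ⊆ S, T.card = n → ¬ (T.inf id ≤ H)) :
    InGeneralPosition k V n (insert H S) := by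
  obtain ⟨hV, hmem, hdim, hpt⟩ := hS
  have hfin : FiniteDimensional k V := Module.finite_of_finrank_pos (by omega)
  refine ⟨hV, ?_, ?_, ?_⟩
  · intro H' hH'
    rcases Finset.mem_insert.mp hH' with rfl | h
    · exact hH
    · exact hmem H' h
  · intro T hT hcard
    by_cases hHT : H ∈ T
    · have hT' : T.erase H ⊆ S := Finset.subset_insert_iff.mp hT
      have hcard' : (T.erase H).card + 1 = T.card := Finset.card_erase_add_one hHT
      have hTeq : T = insert H (T.erase H) := (Finset.insert_erase hHT).symm
      have hW := hdim (T.erase H) hT' (by omega)
      have hnot : ¬ (T.erase H).inf id ≤ H := by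
        intro hle
        obtain ⟨U, hU1, hU2, hU3⟩ := Finset.exists_subsuperset_card_eq hT' (by omega) hn
        exact havoid U hU2 hU3 ((Finset.inf_mono hU1).trans hle)
      have key := finrank_inf_hyperplane hV H ((T.erase H).inf id) hH hnot
      have : T.inf id = H ⊓ (T.erase H).inf id := by
        conv_lhs => rw [hTeq]
        rw [Finset.inf_insert]
        rfl
      rw [this]
      omega
    · have hT' : T ⊆ S := (Finset.subset_insert_iff_of_notMem hHT).mp hT
      exact hdim T hT' hcard
  · intro v hv T hT hvT
    by_cases hHT : H ∈ T
    · have hT' : T.erase H ⊆ S := Finset.subset_insert_iff.mp hT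
      have hcard' : (T.erase H).card + 1 = T.card := Finset.card_erase_add_one hHT
      have hle := hpt v hv (T.erase H) hT' (fun H' hH' => hvT H' (Finset.mem_of_mem_erase hH'))
      by_contra hcon
      have hcardn : (T.erase H).card = n := by omega
      have hW := hdim (T.erase H) hT' (by omega)
      rw [hcardn] at hW
      have hW1 : Module.finrank k ↥((T.erase H).inf id) = 1 := by omega
      have hvW : v ∈ (T.erase H).inf id := by
        rw [Submodule.mem_finsetInf]
        intro H' hH'
        exact hvT H' (Finset.mem_of_mem_erase hH')
      have hvH : v ∈ H := hvT H hHT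
      apply havoid (T.erase H) hT' hcardn
      intro w hw
      have hne : (⟨v, hvW⟩ : ↥((T.erase H).inf id)) ≠ 0 := by
        intro h0
        exact hv (congrArg Subtype.val h0)
      obtain ⟨c, hc⟩ := (finrank_eq_one_iff_of_nonzero' _ hne).mp hW1 ⟨w, hw⟩
      have : w = c • v := by
        have := congrArg Subtype.val hc
        exact this.symm
      rw [this]
      exact H.smul_mem c hvH
    · have hT' : T ⊆ S := (Finset.subset_insert_iff_of_notMem hHT).mp hT
      exact hpt v hv T hT' hvT

end Groth.Agent.S13905
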