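import Groth.Statements.S13913
import Mathlib

set_option autoImplicit false
universe u
open PlaneCubic

namespace Groth.Agent.S13913

open MvPolynomial in
lemma linear_form_pderiv {k : Type u} [Field k] (z : MvPolynomial (Fin 3) k) (hz : z.IsHomogeneous 1) :
    ∃ a : Fin 3 → k, (∀ i, pderiv i z = C (a i)) ∧ z = ∑ i, X i * C (a i) := by
  have h0 : ∀ i : Fin 3, (pderiv i z).IsHomogeneous 0 := fun i => hz.pderiv
  have h1 : ∀ i : Fin 3, pderiv i z = C ((pderiv i z).coeff 0) := by
    intro i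
    rw [← totalDegree_eq_zero_iff_eq_C, totalDegree_zero_iff_isHomogeneous]
    exact h0 i
  refine ⟨fun i => (pderiv i z).coeff 0, h1, ?_⟩
  have := hz.sum_X_mul_pderiv
  rw [one_smul] at this
  conv_lhs => rw [← this]
  refine Finset.sum_congr rfl fun i _ => ?_
  rw [← h1 i]

/-- Over an algebraically closed field of characteristic zero, for linearly independent linear forms z₁,
z₂ and quadratic forms q₁, q₂ in three variables and a nonzero common zero p of z₁ and z₂, the point
p is a singular point of the plane cubic z₁q₂ − z₂q₁ = 0 (all three partial derivatives vanish at p)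
if and only if q₁ and q₂ both vanish at p. -/
theorem result (k : Type u) [Field k] [IsAlgClosed k] [CharZero k]
    (z₁ z₂ q₁ q₂ : MvPolynomial (Fin 3) k) (hz₁ : z₁.IsHomogeneous 1) (hz₂ : z₂.IsHomogeneous 1)
    (hq₁ : q₁.IsHomogeneous 2) (hq₂ : q₂.IsHomogeneous 2) (hind : LinearIndependent k ![z₁, z₂])
    (p : Fin 3 → k) (hp : p ≠ 0) (hp₁ : MvPolynomial.eval p z₁ = 0) (hp₂ : MvPolynomial.eval p z₂ = 0) :
    (∀ i : Fin 3, MvPolynomial.eval p (MvPolynomial.pderiv i (z₁ * q₂ - z₂ * q₁)) = 0) ↔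
      (MvPolynomial.eval p q₁ = 0 ∧ MvPolynomial.eval p q₂ = 0) := by
  classical
  obtain ⟨a, ha, hza⟩ := linear_form_pderiv z₁ hz₁
  obtain ⟨b, hb, hzb⟩ := linear_form_pderiv z₂ hz₂
  have hder : ∀ i : Fin 3, MvPolynomial.eval p (MvPolynomial.pderiv i (z₁ * q₂ - z₂ * q₁)) =
      a i * MvPolynomial.eval p q₂ - b i * MvPolynomial.eval p q₁ := by
    intro i
    rw [map_sub, MvPolynomial.pderiv_mul, MvPolynomial.pderiv_mul, ha, hb]
    simp only [map_sub, map_add, map_mul, MvPolynomial.eval_C, hp₁, hp₂]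
    ring
  constructor
  · intro h
    set Q₁ := MvPolynomial.eval p q₁ with hQ₁
    set Q₂ := MvPolynomial.eval p q₂ with hQ₂
    have hi : ∀ i : Fin 3, a i * Q₂ - b i * Q₁ = 0 := fun i => by rw [← hder i]; exact h i
    have hrel : Q₂ • z₁ + (-Q₁) • z₂ = 0 := by
      rw [hza, hzb, Finset.smul_sum, Finset.smul_sum, ← Finset.sum_add_distrib]
      apply Finset.sum_eq_zero
      intro i _
      have : Q₂ • (MvPolynomial.X i * MvPolynomial.C (a i)) + -Q₁ • (MvPolynomial.X i * MvPolynomial.C (b i))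
          = MvPolynomial.X i * MvPolynomial.C (a i * Q₂ - b i * Q₁) := by
        rw [MvPolynomial.smul_eq_C_mul, MvPolynomial.smul_eq_C_mul]
        simp only [map_sub, map_mul, map_neg]
        ring
      rw [this, hi i, map_zero, mul_zero]
    have := (LinearIndependent.pair_iff.mp hind) Q₂ (-Q₁) hrel
    exact ⟨neg_eq_zero.mp this.2, this.1⟩
  · rintro ⟨h1, h2⟩ i
    rw [hder, h1, h2]
    ring

end Groth.Agent.S13913
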