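import Groth.Statements.S13916
import Mathlib

set_option autoImplicit false
universe u
open PlaneConic

namespace Groth.Agent.S13916

/-- Over an algebraically closed field k of characteristic zero, with u_0, u_1, u_2 the coordinate
linear forms of k[X_0, X_1, X_2] and 2 × 2 matrices of linear forms compared up to M ↦ g M h with g,
h invertible scalar matrices: (1) the matrices with rows (u_1, 0), (u_0, u_2) and (u_2, 0), (u_0,
u_1) are not equivalent; (2) for α ≠ 0 the matrix with rows (u_1, 0), (αu_0 + βu_1 + γu_2, u_2) is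
equivalent to the one with rows (u_1, 0), (u_0, u_2). -/
theorem result (k : Type u) [Field k] [IsAlgClosed k] [CharZero k] :
    (¬ ∃ g h : GL (Fin 2) k,
      (MvPolynomial.C : k →+* MvPolynomial (Fin 3) k).mapMatrix g.val *
          !![MvPolynomial.X 1, 0; MvPolynomial.X 0, MvPolynomial.X 2] *
        (MvPolynomial.C : k →+* MvPolynomial (Fin 3) k).mapMatrix h.val =
      !![MvPolynomial.X 2, 0; MvPolynomial.X 0, MvPolynomial.X 1]) ∧
    (∀ α β γ : k, α ≠ 0 → ∃ g h : GL (Fin 2) k,
      (MvPolynomial.C : k →+* MvPolynomial (Fin 3) k).mapMatrix g.val *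
          !![MvPolynomial.X 1, 0;
             MvPolynomial.C α * MvPolynomial.X 0 + MvPolynomial.C β * MvPolynomial.X 1 + MvPolynomial.C γ * MvPolynomial.X 2,
             MvPolynomial.X 2] *
        (MvPolynomial.C : k →+* MvPolynomial (Fin 3) k).mapMatrix h.val =
      !![MvPolynomial.X 1, 0; MvPolynomial.X 0, MvPolynomial.X 2]) := by
  classical
  constructor
  · rintro ⟨g, h, hM⟩
    -- entries of the matrix identity
    have e22 := congrFun (congrFun hM 1) 1
    have e11 := congrFun (congrFun hM 0) 0
    have e12 := congrFun (congrFun hM 0) 1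
    simp only [Matrix.mul_apply, Fin.sum_univ_two, RingHom.mapMatrix_apply, Matrix.map_apply,
      Matrix.of_apply, Matrix.cons_val', Matrix.cons_val_zero, Matrix.cons_val_one,
      Matrix.cons_val_fin_one] at e22 e11 e12
    -- evaluate at the coordinate points
    have a22 := congrArg (MvPolynomial.eval (![0, 1, 0] : Fin 3 → k)) e22
    have a11 := congrArg (MvPolynomial.eval (![0, 0, 1] : Fin 3 → k)) e11
    have a12 := congrArg (MvPolynomial.eval (![1, 0, 0] : Fin 3 → k)) e12
    simp at a22 a11 a12
    -- g21 h12 = 1, g12 h21 = 1, g12 h12 = 0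
    have h1 : (g.val 0 1) ≠ 0 := by
      intro h0
      rw [h0] at a11
      simp at a11
    have h2 : (h.val 0 1) ≠ 0 := by
      intro h0
      rw [h0] at a22
      simp at a22
    rcases a12 with h3 | h3
    · exact h1 h3
    · exact h2 h3
  · intro α β γ hα
    have hg : (!![α, 0; -β, 1] : Matrix (Fin 2) (Fin 2) k).det ≠ 0 := by
      rw [Matrix.det_fin_two_of]; simpa using hα
    have hh : (!![α⁻¹, 0; -γ * α⁻¹, 1] : Matrix (Fin 2) (Fin 2) k).det ≠ 0 := by
      rw [Matrix.det_fin_two_of]; simpa using hα
    refine ⟨Matrix.GeneralLinearGroup.mkOfDetNeZero _ hg, Matrix.GeneralLinearGroup.mkOfDetNeZero _ hh, ?_⟩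
    have hC : (MvPolynomial.C α : MvPolynomial (Fin 3) k) * MvPolynomial.C α⁻¹ = 1 := by
      rw [← map_mul, mul_inv_cancel₀ hα, map_one]
    apply Matrix.ext
    intro i j
    fin_cases i <;> fin_cases j <;>
      simp [Matrix.mul_apply, Fin.sum_univ_two, Matrix.GeneralLinearGroup.mkOfDetNeZero]
    · linear_combination (MvPolynomial.X 1) * hC
    · linear_combination (MvPolynomial.X 0) * hC

end Groth.Agent.S13916
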