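import Groth.Statements.S13925
import Mathlib

set_option autoImplicit false
universe u v w x
open W4c1limliniiii

namespace Groth.Agent.S13925

/-- Let k be a field and U, E, W vector spaces over k with linear maps f : U → E, g' : E → U, f₂ : E → W
and g : W → E such that g' ∘ f = 0, the kernel of f₂ is contained in the image of g, and the image
of g meets the kernel of g' only in 0 — the conditions holding at a point of a linked Grassmannian
at which the linking scalar vanishes. Let V₁ ≤ U and V₂ ≤ E be subspaces and let C' ≤ V₂ be a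
subspace contained in the kernel of g' and meeting f(V₁) only in 0. Then the subspaces f(V₁), ker f₂
∩ V₂ and C' of E are independent: their sum is direct. (The published statement is for two
consecutive members V_{i-1}, V_i of a point of a linked Grassmannian at which the linking scalar
vanishes and adds the decomposition V_i = f(V_{i-1}) ⊕ (ker f_i ∩ V_i) ⊕ C with C ⊇ C'; this row
states the independence, with only the three conditions the argument uses.) -/
theorem result (k : Type u) [Field k]
    (U : Type v) (E : Type w) (W : Type x) [AddCommGroup U] [Module k U] [AddCommGroup E]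
    [Module k E] [AddCommGroup W] [Module k W]
    (f : U →ₗ[k] E) (g' : E →ₗ[k] U) (f₂ : E →ₗ[k] W) (g : W →ₗ[k] E)
    (hgf : g'.comp f = 0) (hII : LinearMap.ker f₂ ≤ LinearMap.range g)
    (hIII : LinearMap.range g ⊓ LinearMap.ker g' = ⊥)
    (V₁ : Submodule k U) (V₂ : Submodule k E) (C' : Submodule k E) (hC : C' ≤ V₂)
    (hCg : C' ≤ LinearMap.ker g') (hCf : Submodule.map f V₁ ⊓ C' = ⊥) :
    iSupIndep ![Submodule.map f V₁, LinearMap.ker f₂ ⊓ V₂, C'] := by
  have hA : Submodule.map f V₁ ≤ LinearMap.ker g' := by
    rintro _ ⟨x, _, rfl⟩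
    rw [LinearMap.mem_ker]
    have := LinearMap.congr_fun hgf x
    simpa using this
  have hB : LinearMap.ker f₂ ⊓ V₂ ≤ LinearMap.range g := inf_le_left.trans hII
  have hzero : ∀ y : E, y ∈ LinearMap.range g → y ∈ LinearMap.ker g' → y = 0 := by
    intro y h1 h2
    have : y ∈ LinearMap.range g ⊓ LinearMap.ker g' := ⟨h1, h2⟩
    rw [hIII] at this
    simpa using this
  have hAC : ∀ y : E, y ∈ Submodule.map f V₁ → y ∈ C' → y = 0 := by
    intro y h1 h2
    have : y ∈ Submodule.map f V₁ ⊓ C' := ⟨h1, h2⟩
    rw [hCf] at this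
    simpa using this
  intro i
  fin_cases i
  · -- A ⊓ (B ⊔ C) = ⊥
    have hle : (⨆ (j : Fin 3) (_ : j ≠ 0), ![Submodule.map f V₁, LinearMap.ker f₂ ⊓ V₂, C'] j)
        ≤ (LinearMap.ker f₂ ⊓ V₂) ⊔ C' := by
      refine iSup₂_le fun j hj => ?_
      fin_cases j
      · exact absurd rfl hj
      · exact le_sup_left
      · exact le_sup_right
    refine Disjoint.mono_right hle ?_
    rw [Submodule.disjoint_def]
    intro a ha habc
    obtain ⟨b, hb, c, hc, rfl⟩ := Submodule.mem_sup.mp habc
    have hb0 : b = 0 := by
      apply hzero b (hB hb)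
      have : b = (b + c) - c := by abel
      rw [this]
      exact Submodule.sub_mem _ (hA ha) (hCg hc)
    subst hb0
    rw [zero_add] at ha ⊢
    exact hAC c ha hc
  · -- B ⊓ (A ⊔ C) = ⊥
    have hle : (⨆ (j : Fin 3) (_ : j ≠ 1), ![Submodule.map f V₁, LinearMap.ker f₂ ⊓ V₂, C'] j)
        ≤ Submodule.map f V₁ ⊔ C' := by
      refine iSup₂_le fun j hj => ?_
      fin_cases j
      · exact le_sup_left
      · exact absurd rfl hj
      · exact le_sup_right
    refine Disjoint.mono_right hle ?_
    rw [Submodule.disjoint_def]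
    intro b hb habc
    exact hzero b (hB hb) ((sup_le hA hCg) habc)
  · -- C ⊓ (A ⊔ B) = ⊥
    have hle : (⨆ (j : Fin 3) (_ : j ≠ 2), ![Submodule.map f V₁, LinearMap.ker f₂ ⊓ V₂, C'] j)
        ≤ Submodule.map f V₁ ⊔ (LinearMap.ker f₂ ⊓ V₂) := by
      refine iSup₂_le fun j hj => ?_
      fin_cases j
      · exact le_sup_left
      · exact le_sup_right
      · exact absurd rfl hj
    refine Disjoint.mono_right hle ?_
    rw [Submodule.disjoint_def]
    intro c hc habc
    obtain ⟨a, ha, b, hb, rfl⟩ := Submodule.mem_sup.mp habc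
    have hb0 : b = 0 := by
      apply hzero b (hB hb)
      have : b = (a + b) - a := by abel
      rw [this]
      exact Submodule.sub_mem _ (hCg hc) (hA ha)
    subst hb0
    rw [add_zero] at hc ⊢
    exact hAC a ha hc

end Groth.Agent.S13925
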