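import Groth.Statements.S13926
import Mathlib

set_option autoImplicit false
universe u v w
open W4c1limliniiii

namespace Groth.Agent.S13926

open Module in
lemma exists_between {k : Type*} [Field k] {E : Type*} [AddCommGroup E] [Module k E]
    [FiniteDimensional k E] (n : ℕ) :
    ∀ (m : ℕ) (A B : Submodule k E), A ≤ B → finrank k A + m = n → n ≤ finrank k B →
      ∃ C : Submodule k E, A ≤ C ∧ C ≤ B ∧ finrank k C = n := by
  intro m
  induction m with
  | zero =>
    intro A B hAB hA hB
    exact ⟨A, le_refl _, hAB, by omega⟩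
  | succ m ih =>
    intro A B hAB hA hB
    have hne : A ≠ B := by
      rintro rfl
      omega
    have hlt : A < B := lt_of_le_of_ne hAB hne
    obtain ⟨x, hxB, hxA⟩ := SetLike.exists_of_lt hlt
    have h1 : finrank k (A ⊔ Submodule.span k {x} : Submodule k E) = finrank k A + 1 :=
      Submodule.finrank_sup_span_singleton hxA
    have h2 : A ⊔ Submodule.span k {x} ≤ B :=
      sup_le hAB (by rw [Submodule.span_singleton_le_iff_mem]; exact hxB)
    obtain ⟨C, hC1, hC2, hC3⟩ := ih (A ⊔ Submodule.span k {x}) B h2 (by omega) hB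
    exact ⟨C, le_sup_left.trans hC1, hC2, hC3⟩

/-- Let k be a field, E₁ and E₂ finite-dimensional vector spaces over k of the same dimension, f : E₁ →
E₂ and g : E₂ → E₁ linear maps whose composite g ∘ f is multiplication by a scalar s, and V₁ a
subspace of E₁. Then there is a subspace V₂ of E₂ of the same dimension as V₁ with f(V₁) ≤ V₂ and
g(V₂) ≤ V₁. (The published statement is the surjectivity of the truncation morphisms of a linked
Grassmannian, with a further assertion on lifting families; this row is the lifting step over a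
field — over a point the chain of linked subspaces V_1, …, V_{n'} extends one index at a time — and
assumes only g ∘ f = s.) -/
theorem result (k : Type u) [Field k]
    (E₁ : Type v) (E₂ : Type w) [AddCommGroup E₁] [Module k E₁] [FiniteDimensional k E₁]
    [AddCommGroup E₂] [Module k E₂] [FiniteDimensional k E₂]
    (hdim : Module.finrank k E₁ = Module.finrank k E₂)
    (f : E₁ →ₗ[k] E₂) (g : E₂ →ₗ[k] E₁) (s : k) (hgf : g.comp f = s • LinearMap.id)
    (V₁ : Submodule k E₁) :
    ∃ V₂ : Submodule k E₂, Module.finrank k V₂ = Module.finrank k V₁ ∧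
      Submodule.map f V₁ ≤ V₂ ∧ Submodule.map g V₂ ≤ V₁ := by
  classical
  -- f(V₁) ≤ g⁻¹(V₁)
  have hle : Submodule.map f V₁ ≤ Submodule.comap g V₁ := by
    rintro _ ⟨x, hx, rfl⟩
    rw [Submodule.mem_comap]
    have : g (f x) = s • x := by
      have := LinearMap.congr_fun hgf x
      simpa using this
    rw [this]
    exact V₁.smul_mem s hx
  have h1 : Module.finrank k (Submodule.map f V₁) ≤ Module.finrank k V₁ := Submodule.finrank_map_le f V₁
  have h2 : Module.finrank k V₁ ≤ Module.finrank k (Submodule.comap g V₁) := by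
    have hker : LinearMap.ker (V₁.mkQ ∘ₗ g) = Submodule.comap g V₁ := by
      rw [LinearMap.ker_comp, Submodule.ker_mkQ]
    have hrn := LinearMap.finrank_range_add_finrank_ker (V₁.mkQ ∘ₗ g)
    have hr : Module.finrank k (LinearMap.range (V₁.mkQ ∘ₗ g)) ≤ Module.finrank k (E₁ ⧸ V₁) :=
      Submodule.finrank_le _
    have hq := Submodule.finrank_quotient_add_finrank V₁
    rw [hker] at hrn
    omega
  obtain ⟨C, hC1, hC2, hC3⟩ := exists_between (Module.finrank k V₁)
    (Module.finrank k V₁ - Module.finrank k (Submodule.map f V₁)) _ _ hle (by omega) h2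
  refine ⟨C, hC3, hC1, ?_⟩
  rw [Submodule.map_le_iff_le_comap]
  exact hC2

end Groth.Agent.S13926
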