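import Groth.Statements.S13934
import Groth.Agent.Lib.Helper67.SmCurve15
import Groth.Agent.S1535

set_option autoImplicit false
universe u
open CategoryTheory CategoryTheory.Limits AlgebraicGeometry
open W4c1limliniiii

namespace Groth.Agent.S13934

/-- On a smooth proper integral curve over an algebraically closed field (any characteristic), let 0 → L
→ E → M → 0 be a short exact sequence of O_X-modules with E finite locally free of rank 2 and degree
0, L and M invertible and deg L > 0 (so M is det E ⊗ L⁻¹). Then: every invertible sheaf N admitting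
a non-zero map N → E has deg N ≤ deg L, so L is the line bundle of maximal degree in E; every
invertible subsheaf N of E of positive degree with invertible quotient E/N coincides with L (some
isomorphism N ≅ L commutes with the inclusions); and E is not an extension of two invertible sheaves
of degree 0. Degrees are χ(−) minus rank times χ(O_X). (The published lemma is stated on a curve of
genus 2 in characteristic p; its argument uses neither, and this row assumes neither.) -/
theorem result (k : Type u) [Field k] [IsAlgClosed k] (X : Scheme.{u}) [X.Over (Spec (CommRingCat.of k))]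
    [IsIntegral X] [IsProper (X ↘ Spec (CommRingCat.of k))] [Smooth (X ↘ Spec (CommRingCat.of k))]
    (hdim : topologicalKrullDim X = 1)
    (S : ShortComplex X.Modules) (hS : S.ShortExact)
    (hE : FlatMod.IsFinLocFreeOfRank 2 S.X₂) (hE0 : Curv2.deg k X S.X₂ 2 = 0)
    (hL : PicF.IsInvertible S.X₁) (hM : PicF.IsInvertible S.X₃) (hpos : 0 < Curv2.deg k X S.X₁ 1) :
    (∀ (N : X.Modules), PicF.IsInvertible N → ∀ j : N ⟶ S.X₂, j ≠ 0 →
        Curv2.deg k X N 1 ≤ Curv2.deg k X S.X₁ 1) ∧
    (∀ (N : X.Modules), PicF.IsInvertible N → ∀ (j : N ⟶ S.X₂), Mono j →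
        PicF.IsInvertible (cokernel j) → 0 < Curv2.deg k X N 1 → ∃ φ : N ≅ S.X₁, φ.hom ≫ S.f = j) ∧
    (∀ (N N' : X.Modules), PicF.IsInvertible N → PicF.IsInvertible N' →
        Curv2.deg k X N 1 = 0 → Curv2.deg k X N' 1 = 0 →
        ∀ (a : N ⟶ S.X₂) (b : S.X₂ ⟶ N') (w : a ≫ b = 0), ¬ (ShortComplex.mk a b w).ShortExact) := by
  have hreg : ∀ x : X, IsRegularLocalRing (X.presheaf.stalk x) :=
    fun x => Groth.Agent.S1535.result k X x
  have hL1 := Groth.Agent.Lib.Helper67.CurveTors.rank_one_of_isInvertible hL
  have hM1 := Groth.Agent.Lib.Helper67.CurveTors.rank_one_of_isInvertible hM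
  haveI := hS.mono_f
  haveI := hS.epi_g
  have hdeg := Groth.Agent.Lib.Helper67.CurveDeg.deg_additive k X hdim.le hS hL1 hE hM1
  rw [hE0] at hdeg
  refine ⟨?_, ?_, ?_⟩
  · intro N hN j hj
    have hN1 := Groth.Agent.Lib.Helper67.CurveTors.rank_one_of_isInvertible hN
    by_cases h1 : j ≫ S.g = 0
    · have hfac : hS.exact.lift j h1 ≫ S.f = j := hS.exact.lift_f j h1
      have hne : hS.exact.lift j h1 ≠ 0 := by
        intro h0
        apply hj
        rw [← hfac, h0, zero_comp]
      exact (Groth.Agent.Lib.Helper67.SmCurve.deg_le_of_ne_zero k X hdim.le hN1 hL1 _ hne).1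
    · have := (Groth.Agent.Lib.Helper67.SmCurve.deg_le_of_ne_zero k X hdim.le hN1 hM1 _ h1).1
      linarith
  · intro N hN j hj hq hNpos
    haveI := hj
    have hN1 := Groth.Agent.Lib.Helper67.CurveTors.rank_one_of_isInvertible hN
    have hq1 := Groth.Agent.Lib.Helper67.CurveTors.rank_one_of_isInvertible hq
    have h1 : j ≫ S.g = 0 := by
      by_contra hne
      have := (Groth.Agent.Lib.Helper67.SmCurve.deg_le_of_ne_zero k X hdim.le hN1 hM1 _ hne).1
      linarith
    have hfac : hS.exact.lift j h1 ≫ S.f = j := hS.exact.lift_f j h1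
    haveI : IsIso (hS.exact.lift j h1) :=
      Groth.Agent.Lib.Helper67.SmCurve.isIso_of_factor_of_saturated k X hreg hdim.le
        hN1 hL1 S.f j hq1 _ hfac
    exact ⟨asIso (hS.exact.lift j h1), hfac⟩
  · intro N N' hN hN' hN0 hN'0 a b w hT
    have hN1 := Groth.Agent.Lib.Helper67.CurveTors.rank_one_of_isInvertible hN
    have hN'1 := Groth.Agent.Lib.Helper67.CurveTors.rank_one_of_isInvertible hN'
    haveI := hT.mono_f
    have h1 : S.f ≫ b = 0 := by
      by_contra hne
      have := (Groth.Agent.Lib.Helper67.SmCurve.deg_le_of_ne_zero k X hdim.le hL1 hN'1 _ hne).1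
      linarith
    have hfac : hT.exact.lift S.f h1 ≫ a = S.f := hT.exact.lift_f S.f h1
    have hne : hT.exact.lift S.f h1 ≠ 0 := by
      intro h0
      have h2 : S.f = 0 := by rw [← hfac, h0, zero_comp]
      have hid : 𝟙 S.X₁ = 0 := by
        have : 𝟙 S.X₁ ≫ S.f = 0 ≫ S.f := by rw [Category.id_comp, zero_comp, h2]
        exact (cancel_mono S.f).mp this
      exact Groth.Agent.Lib.Helper67.SmCurve.not_isZero_of_rank_pos X Nat.one_pos hL1
        ((IsZero.iff_id_eq_zero S.X₁).mpr hid)
    have := (Groth.Agent.Lib.Helper67.SmCurve.deg_le_of_ne_zero k X hdim.le hL1 hN1 _ hne).1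
    linarith

end Groth.Agent.S13934
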