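import Groth.Statements.S13936
import Mathlib
import Groth.Agent.Lib.Helper91.PPSection

open scoped TensorProduct
open PP16 Helper91.PPSection

set_option autoImplicit false
universe u
open W4c1limliniiii

namespace Groth.Agent.S13936

/-- Let R be a commutative ring, S_Y → S_X a homomorphism of R-algebras (an affine piece of a morphism f
: X → Y of schemes over Spec R) and σ : S_X → R an R-algebra retraction (a section of X over the
base) with kernel I. For e ≥ 1 write T^{e−1} for the augmentation ideal of the ring of principal
parts of order e − 1 (the kernel of P^{e−1} → the algebra; for e = 2 this is the module of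
differentials). Then the natural map T^{e−1}(S_Y/R) → T^{e−1}(S_X/R) takes values in I ·
T^{e−1}(S_X/R) — that is, the induced map f^*T^{e−1}_Y → T^{e−1}_X vanishes at the section σ — if
and only if every element of S_Y whose image in S_X lies in I has image in I^e, which says that the
fibre of f through σ contains the e-th order thickening of σ. (The published statement is for a
morphism of separated schemes over a base and sections over an arbitrary base change; this row is
the affine computation it reduces to.) -/
theorem result (R SY SX : Type u)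
    [CommRing R] [CommRing SY] [CommRing SX] [Algebra R SY] [Algebra R SX] [Algebra SY SX]
    [IsScalarTower R SY SX] (σ : SX →ₐ[R] R) (e : ℕ) (he : 1 ≤ e) :
    (∀ y ∈ PP16.augIdeal (e - 1) R SY,
        PP16.map (e - 1) R SY R SX y ∈
          RingHom.ker σ.toRingHom • (PP16.augIdeal (e - 1) R SX).restrictScalars SX) ↔
      (∀ b : SY, algebraMap SY SX b ∈ RingHom.ker σ.toRingHom →
        algebraMap SY SX b ∈ RingHom.ker σ.toRingHom ^ e) := by
  have hker : RingHom.ker σ.toRingHom = RingHom.ker σ := rfl
  rw [hker]
  have hn : e - 1 + 1 = e := Nat.sub_add_cancel he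
  set n := e - 1 with hndef
  -- the image of the augmentation ideal lies in the augmentation ideal
  have hmapaug : ∀ y ∈ augIdeal n R SY, PP16.map n R SY R SX y ∈ augIdeal n R SX := by
    intro y hy
    obtain ⟨x, rfl⟩ := Ideal.Quotient.mk_surjective y
    rw [augIdeal, Ideal.mem_map_iff_of_surjective _ Ideal.Quotient.mk_surjective] at hy
    obtain ⟨x', hx', hxx'⟩ := hy
    rw [← hxx', map_mk]
    exact Ideal.mem_map_of_mem _ (ideal_map_tensorMap_le R SY R SX (Ideal.mem_map_of_mem _ hx'))
  have hgen : ∀ b : SY, PP16.map n R SY R SX (dn n R SY b - algebraMap SY (P n R SY) b) =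
      dn n R SX (algebraMap SY SX b) - algebraMap SX (P n R SX) (algebraMap SY SX b) := by
    intro b
    rw [map_sub, map_dn, map_algebraMap]
  have hgenmem : ∀ b : SY, dn n R SY b - algebraMap SY (P n R SY) b ∈ augIdeal n R SY := by
    intro b
    change Ideal.Quotient.mk _ ((1 : SY) ⊗ₜ[R] b) - Ideal.Quotient.mk _ (b ⊗ₜ[R] (1 : SY)) ∈ _
    rw [← map_sub]
    exact Ideal.mem_map_of_mem _ (KaehlerDifferential.one_smul_sub_smul_one_mem_ideal R b)
  constructor
  · intro H b hb
    have h1 := H _ (hgenmem b)
    rw [mem_smul_augIdeal_iff n R SX _ _ (hmapaug _ (hgenmem b)), hgen, dn_sub_mem_iff] at h1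
    have h2 : σ (algebraMap SY SX b) = 0 := hb
    rw [h2, map_zero, sub_zero, hn] at h1
    exact h1
  · intro H y hy
    rw [mem_smul_augIdeal_iff n R SX _ _ (hmapaug _ hy)]
    have hle : augIdeal n R SY ≤
        ((RingHom.ker σ).map (algebraMap SX (P n R SX))).comap (PP16.map n R SY R SX) := by
      have haug : augIdeal n R SY = Ideal.span
          ((Ideal.Quotient.mk (KaehlerDifferential.ideal R SY ^ (n + 1))) ''
            Set.range fun s : SY => (1 : SY) ⊗ₜ[R] s - s ⊗ₜ[R] (1 : SY)) := by
        rw [← Ideal.map_span, KaehlerDifferential.span_range_eq_ideal]; rfl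
      rw [haug, Ideal.span_le]
      rintro _ ⟨_, ⟨b, rfl⟩, rfl⟩
      have hb : Ideal.Quotient.mk (KaehlerDifferential.ideal R SY ^ (n + 1))
          ((1 : SY) ⊗ₜ[R] b - b ⊗ₜ[R] (1 : SY)) =
          dn n R SY b - algebraMap SY (P n R SY) b := by
        rw [map_sub]; rfl
      rw [hb, SetLike.mem_coe, Ideal.mem_comap, hgen, dn_sub_mem_iff]
      have h1 := H (b - algebraMap R SY (σ (algebraMap SY SX b))) (by
        rw [RingHom.mem_ker, map_sub, ← IsScalarTower.algebraMap_apply, map_sub, AlgHom.commutes]
        simp)
      rw [map_sub, ← IsScalarTower.algebraMap_apply, hn.symm] at h1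
      exact h1
    exact hle hy

end Groth.Agent.S13936
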