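import Groth.Statements.S13951
import Groth.Agent.Lib.Helper69.ConnFin
import Groth.Agent.Lib.Helper54.Reduced

set_option autoImplicit false
universe u
open TateLoc

namespace Groth.Agent.S13951
open Groth.Agent.Lib.Helper69.ConnFin CategoryTheory CategoryTheory.Limits MonoidalCategory CartesianMonoidalCategory MonObj AlgebraicGeometry Opposite

open CategoryTheory AlgebraicGeometry CategoryTheory.Limits in
/-- Let S be a reduced scheme and I a finite locally free commutative S-group scheme (finite, flat, of
finite presentation) whose fibres over all points of S are connected. Then the restriction of the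
sheaf of points of I from the big fppf site of S to the small etale site of S is the zero sheaf. -/
theorem result (S : Scheme.{u}) [IsReduced S]
    (I : Over S) [GrpObj I] [IsCommMonObj I] [IsFinite I.hom] [Flat I.hom] [LocallyOfFinitePresentation I.hom]
    (hconn : ∀ s : S, ConnectedSpace ↥(I.hom.fiber s)) :
    IsZero ((BigSite.resEt Scheme.fppfPrecoverage S).obj (CGrpSh.pts Scheme.fppfPrecoverage I)) := by
  rw [IsZero.iff_id_eq_zero]
  apply Sheaf.hom_ext
  apply NatTrans.ext
  funext U
  apply AddCommGrpCat.ext
  intro s
  have hU : Etale U.unop.hom := U.unop.prop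
  have hred : IsReduced (unop ((EtFppf.a S).op.obj U)).left :=
    @Groth.Agent.Lib.Helper54.isReduced_of_etale_scheme _ _ U.unop.hom hU ‹IsReduced S›
  have h1 : (s.down.toMul : unop ((EtFppf.a S).op.obj U) ⟶ I) = 1 :=
    @eq_one_of_isReduced _ _ I _ _ hconn _ hred _
  apply ULift.ext
  change s.down = 0
  exact congrArg Additive.ofMul h1

end Groth.Agent.S13951
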