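import Groth.Statements.S13953
import Mathlib.LinearAlgebra.Finsupp.LinearCombination
import Mathlib.RingTheory.Ideal.Maximal

set_option autoImplicit false
universe u
open TateLoc

namespace Groth.Agent.S13953

/-- Let (R_i) be a family of local commutative rings and R = ∏ R_i. Any open cover of Spec R can be
refined by one coming from a finite partition of the index set: there is a map c from the index set
to a finite set such that, for each value m, the basic open subset of Spec R defined by the
idempotent which is 1 at the indices with c i = m and 0 elsewhere (this open is the spectrum of the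
product of the R_i over that class) is contained in some member of the cover. -/
theorem result {ι : Type u} (R : ι → Type u)
    [∀ i, CommRing (R i)] [∀ i, IsLocalRing (R i)] {J : Type u}
    (U : J → TopologicalSpace.Opens (PrimeSpectrum (∀ i, R i))) (hU : ⨆ j, U j = ⊤) :
    ∃ (n : ℕ) (c : ι → Fin n), ∀ m : Fin n, ∃ j : J,
      PrimeSpectrum.basicOpen (fun i => if c i = m then (1 : R i) else 0) ≤ U j := by
  classical
  -- the set of all `f` whose basic open lies in a member of the cover
  let S : Set (∀ i, R i) := {f | ∃ j, PrimeSpectrum.basicOpen f ≤ U j}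
  have hS : Ideal.span S = ⊤ := by
    by_contra hne
    obtain ⟨p, hp, hle⟩ := Ideal.exists_le_maximal _ hne
    let x : PrimeSpectrum (∀ i, R i) := ⟨p, hp.isPrime⟩
    have hx : x ∈ (⨆ j, U j) := by rw [hU]; trivial
    obtain ⟨j, hj⟩ := TopologicalSpace.Opens.mem_iSup.mp hx
    obtain ⟨_, ⟨f, rfl⟩, hxf, hfU⟩ :=
      PrimeSpectrum.isTopologicalBasis_basic_opens.exists_subset_of_mem_open hj (U j).2
    have hfS : f ∈ S := ⟨j, hfU⟩
    exact (PrimeSpectrum.mem_basicOpen f x).mp hxf (hle (Ideal.subset_span hfS))
  have h1 : (1 : ∀ i, R i) ∈ Submodule.span (∀ i, R i) S := by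
    change (1 : ∀ i, R i) ∈ Ideal.span S
    rw [hS]; trivial
  obtain ⟨n, g, f, hsum⟩ := Submodule.mem_span_set'.mp h1
  -- at each index some `f k` is a unit
  have hunit : ∀ i, ∃ k : Fin n, IsUnit ((f k : ∀ i, R i) i) := by
    intro i
    by_contra hcon
    push Not at hcon
    have hmem : ∀ k : Fin n, (g k • (f k : ∀ i, R i)) i ∈ IsLocalRing.maximalIdeal (R i) := by
      intro k
      have : (f k : ∀ i, R i) i ∈ IsLocalRing.maximalIdeal (R i) :=
        (IsLocalRing.mem_maximalIdeal _).mpr (hcon k)
      simpa using Ideal.mul_mem_left _ (g k i) this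
    have h1i : (1 : R i) ∈ IsLocalRing.maximalIdeal (R i) := by
      have := congrFun hsum i
      rw [Finset.sum_apply] at this
      rw [show (1 : R i) = (1 : ∀ i, R i) i from rfl, ← this]
      exact Submodule.sum_mem _ (fun k _ => hmem k)
    exact (IsLocalRing.mem_maximalIdeal _).mp h1i isUnit_one
  choose c hc using hunit
  refine ⟨n, c, fun m => ?_⟩
  obtain ⟨j, hj⟩ := (f m).2
  refine ⟨j, le_trans ?_ hj⟩
  rw [PrimeSpectrum.basicOpen_le_basicOpen_iff]
  apply Ideal.le_radical
  rw [Ideal.mem_span_singleton]
  refine ⟨fun i => if c i = m then Ring.inverse ((f m : ∀ i, R i) i) else 0, ?_⟩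
  funext i
  by_cases h : c i = m
  · subst h
    simp [Ring.mul_inverse_cancel _ (hc i)]
  · simp [h]

end Groth.Agent.S13953
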