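import Groth.Statements.S13955
import Mathlib

set_option autoImplicit false
set_option linter.style.haveILetI false
universe u
open TateLoc

namespace Groth.Agent.S13955

open scoped TensorProduct

/-- Transport of a GCD-monoid structure along a multiplicative equivalence. -/
theorem isGCDMonoid_of_mulEquiv {α β : Type*} [CommMonoidWithZero α] [CommMonoidWithZero β]
    [IsCancelMulZero β] (e : α ≃* β) [h : IsGCDMonoid α] : IsGCDMonoid β := by
  classical
  obtain ⟨g⟩ := h
  refine ⟨gcdMonoidOfExistsGCD (fun a b => ⟨e (gcd (e.symm a) (e.symm b)), fun d => ?_⟩)⟩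
  have h1 : ∀ x y : β, x ∣ y ↔ e.symm x ∣ e.symm y := fun x y => (map_dvd_iff e.symm).symm
  rw [h1 d a, h1 d b, h1 d (e _), e.symm_apply_apply]
  exact (dvd_gcd_iff _ _ _).symm

/-- Polynomial rings in finitely many variables over a GCD domain are GCD domains. -/
theorem isGCDMonoid_mvPolynomial (V : Type u) [CommRing V] [IsDomain V] [IsGCDMonoid V] (n : ℕ) :
    IsGCDMonoid (MvPolynomial (Fin n) V) := by
  induction n with
  | zero => exact isGCDMonoid_of_mulEquiv (MvPolynomial.isEmptyAlgEquiv V (Fin 0)).symm.toMulEquiv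
  | succ n ih =>
    haveI := ih
    exact isGCDMonoid_of_mulEquiv (MvPolynomial.finSuccEquiv V n).symm.toMulEquiv

/-- A family of polynomials of bounded total degree over the factors lifts to a polynomial over the
product ring. -/
theorem exists_lift {ι : Type u} (R : ι → Type u) [∀ i, CommRing (R i)] (n D : ℕ)
    (t : ∀ i, MvPolynomial (Fin n) (R i)) (ht : ∀ i, (t i).totalDegree ≤ D) :
    ∃ a : MvPolynomial (Fin n) (∀ i, R i), ∀ i, MvPolynomial.map (Pi.evalRingHom R i) a = t i := by
  classical
  refine ⟨∑ m ∈ (Finsupp.finite_of_degree_le (σ := Fin n) D).toFinset,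
    MvPolynomial.monomial m (fun i => MvPolynomial.coeff m (t i)), fun i => ?_⟩
  rw [map_sum]
  simp only [MvPolynomial.map_monomial, Pi.evalRingHom_apply]
  conv_rhs => rw [(t i).as_sum]
  symm
  apply Finset.sum_subset
  · intro m hm
    rw [Set.Finite.mem_toFinset, Set.mem_ofPred_eq, Finsupp.degree_apply]
    exact (MvPolynomial.le_totalDegree hm).trans (ht i)
  · intro m _ hm
    rw [MvPolynomial.notMem_support_iff.mp hm, map_zero]

/-- Analysis of one factor: the base change of an invertible module (given as a retract of a finite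
free module) to a domain with trivial Picard group is generated by one vector. -/
theorem component_lemma {S T M : Type u} [CommRing S] [CommRing T] [IsDomain T]
    [Subsingleton (CommRing.Pic T)] [Algebra S T] [AddCommGroup M] [Module S M]
    [Module.Invertible S M] (N : ℕ) (p : (Fin N → S) →ₗ[S] M) (s : M →ₗ[S] (Fin N → S))
    (hps : ∀ m, p (s m) = m) :
    ∃ (v c : Fin N → T), v ≠ 0 ∧ (∃ k, c k ≠ 0) ∧
      (∀ l k, algebraMap S T (s (p (fun j => if k = j then 1 else 0)) l) = c k * v l) ∧
      (∀ l, v l = ∑ k, algebraMap S T (s (p (fun j => if k = j then 1 else 0)) l) * v k) := by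
  classical
  haveI : Module.Free T (T ⊗[S] M) := inferInstance
  obtain ⟨φ⟩ := (Module.Invertible.free_iff_linearEquiv (R := T) (M := T ⊗[S] M)).mp inferInstance
  set δ : Fin N → (Fin N → S) := fun k j => if k = j then 1 else 0 with hδ
  let fT : (Fin N → S) →ₗ[S] (Fin N → T) := (Algebra.linearMap S T).compLeft (Fin N)
  let sT : T ⊗[S] M →ₗ[T] (Fin N → T) := LinearMap.liftBaseChange T (fT ∘ₗ s)
  let pT : (Fin N → T) →ₗ[T] T ⊗[S] M :=
    Fintype.linearCombination T (fun k => (1 : T) ⊗ₜ[S] p (δ k))
  have hsT : ∀ (t : T) (m : M) (l : Fin N), sT (t ⊗ₜ m) l = t * algebraMap S T (s m l) := by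
    intro t m l
    simp [sT, fT]
  have hpT : ∀ w : Fin N → T, pT w = ∑ k, w k • ((1 : T) ⊗ₜ[S] p (δ k)) := by
    intro w
    simp [pT, Fintype.linearCombination_apply]
  have hexp : ∀ m : M, m = ∑ k, s m k • p (δ k) := by
    intro m
    conv_lhs => rw [← hps m, LinearMap.pi_apply_eq_sum_univ p (s m)]
  have key : ∀ (t : T) (r : S) (x : M),
      (t * algebraMap S T r) • ((1 : T) ⊗ₜ[S] x) = t ⊗ₜ[S] (r • x) := by
    intro t r x
    calc (t * algebraMap S T r) • ((1 : T) ⊗ₜ[S] x)
        = ((t * algebraMap S T r) • (1 : T)) ⊗ₜ[S] x := TensorProduct.smul_tmul' _ _ _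
      _ = (r • t) ⊗ₜ[S] x := by rw [smul_eq_mul, mul_one, Algebra.smul_def, mul_comm]
      _ = r • (t ⊗ₜ[S] x) := (TensorProduct.smul_tmul' _ _ _).symm
      _ = t ⊗ₜ[S] (r • x) := (TensorProduct.tmul_smul _ _ _).symm
  have hpsT : ∀ x : T ⊗[S] M, pT (sT x) = x := by
    intro x
    induction x using TensorProduct.induction_on with
    | zero => simp
    | tmul t m =>
      rw [hpT]
      simp only [hsT]
      rw [Finset.sum_congr rfl (fun k _ => key t (s m k) (p (δ k))), ← TensorProduct.tmul_sum,
        ← hexp m]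
    | add x y hx hy => rw [map_add, map_add, hx, hy]
  have hg : φ.symm 1 ≠ 0 := by
    intro h
    exact one_ne_zero ((LinearEquiv.map_eq_zero_iff φ.symm).mp h)
  have hgen : ∀ x : T ⊗[S] M, x = φ x • φ.symm 1 := by
    intro x
    rw [← map_smul, smul_eq_mul, mul_one, LinearEquiv.symm_apply_apply]
  have h3 : ∀ l k, algebraMap S T (s (p (δ k)) l) =
      φ ((1 : T) ⊗ₜ[S] p (δ k)) * sT (φ.symm 1) l := by
    intro l k
    have := congrArg (fun x => sT x l) (hgen ((1 : T) ⊗ₜ[S] p (δ k)))
    simp only [hsT, one_mul, map_smul, Pi.smul_apply, smul_eq_mul] at this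
    exact this
  refine ⟨sT (φ.symm 1), fun k => φ ((1 : T) ⊗ₜ[S] p (δ k)), ?_, ?_, h3, ?_⟩
  · intro hv
    apply hg
    rw [← hpsT (φ.symm 1), hv, map_zero]
  · by_contra hc
    push Not at hc
    apply hg
    rw [← hpsT (φ.symm 1), hpT]
    apply Finset.sum_eq_zero
    intro k _
    rw [hgen ((1 : T) ⊗ₜ[S] p (δ k)), hc k, zero_smul, smul_zero]
  · intro l
    have h4 : sT (pT (sT (φ.symm 1))) = sT (φ.symm 1) := by rw [hpsT]
    have h5 := congrFun h4 l
    rw [hpT, map_sum] at h5
    simp only [map_smul, Finset.sum_apply, Pi.smul_apply, hsT, one_mul, smul_eq_mul] at h5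
    rw [← h5]
    exact Finset.sum_congr rfl (fun k _ => mul_comm _ _)

set_option maxHeartbeats 800000 in
/-- Every invertible module over a polynomial ring over a product of valuation rings is free. -/
theorem free_of_invertible {ι : Type u} (R : ι → Type u)
    [∀ i, CommRing (R i)] [∀ i, IsDomain (R i)] [∀ i, ValuationRing (R i)] (n : ℕ)
    (M : Type u) [AddCommGroup M] [Module (MvPolynomial (Fin n) (∀ i, R i)) M]
    [Module.Invertible (MvPolynomial (Fin n) (∀ i, R i)) M] :
    Module.Free (MvPolynomial (Fin n) (∀ i, R i)) M := by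
  classical
  letI alg : ∀ i, Algebra (MvPolynomial (Fin n) (∀ i, R i)) (MvPolynomial (Fin n) (R i)) :=
    fun i => (MvPolynomial.map (Pi.evalRingHom R i)).toAlgebra
  have halg : ∀ i (a : MvPolynomial (Fin n) (∀ i, R i)),
      algebraMap (MvPolynomial (Fin n) (∀ i, R i)) (MvPolynomial (Fin n) (R i)) a =
        MvPolynomial.map (Pi.evalRingHom R i) a := fun i a => rfl
  haveI : ∀ i, IsGCDMonoid (MvPolynomial (Fin n) (R i)) :=
    fun i => isGCDMonoid_mvPolynomial (R i) n
  -- injectivity of the map to the product of the polynomial rings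
  have hinj : ∀ a b : MvPolynomial (Fin n) (∀ i, R i),
      (∀ i, MvPolynomial.map (Pi.evalRingHom R i) a = MvPolynomial.map (Pi.evalRingHom R i) b) →
        a = b := by
    intro a b h
    ext m i
    have := congrArg (MvPolynomial.coeff m) (h i)
    simpa [MvPolynomial.coeff_map] using this
  have hdeg : ∀ i (a : MvPolynomial (Fin n) (∀ i, R i)),
      (MvPolynomial.map (Pi.evalRingHom R i) a).totalDegree ≤ a.totalDegree :=
    fun i a => by
      unfold MvPolynomial.totalDegree
      exact Finset.sup_mono (MvPolynomial.support_map_subset _ a)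
  -- presentation of `M` as a retract of a free module
  obtain ⟨N, p, hp⟩ := Module.Finite.exists_fin' (MvPolynomial (Fin n) (∀ i, R i)) M
  obtain ⟨s, hs⟩ := Module.projective_lifting_property p LinearMap.id hp
  have hps : ∀ m, p (s m) = m := fun m => LinearMap.congr_fun hs m
  have hsinj : Function.Injective s := fun a b h => by rw [← hps a, ← hps b, h]
  set δ : Fin N → (Fin N → MvPolynomial (Fin n) (∀ i, R i)) :=
    fun k j => if k = j then 1 else 0 with hδ
  set e : Fin N → Fin N → MvPolynomial (Fin n) (∀ i, R i) := fun l k => s (p (δ k)) l with he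
  set D : ℕ := Finset.univ.sup (fun lk : Fin N × Fin N => (e lk.1 lk.2).totalDegree) with hD
  have hDle : ∀ l k, (e l k).totalDegree ≤ D := fun l k =>
    Finset.le_sup (f := fun lk : Fin N × Fin N => (e lk.1 lk.2).totalDegree)
      (Finset.mem_univ (l, k))
  -- the components
  have hcomp : ∀ i, ∃ (v c : Fin N → MvPolynomial (Fin n) (R i)), v ≠ 0 ∧ (∃ k, c k ≠ 0) ∧
      (∀ l k, MvPolynomial.map (Pi.evalRingHom R i) (e l k) = c k * v l) ∧
      (∀ l, v l = ∑ k, MvPolynomial.map (Pi.evalRingHom R i) (e l k) * v k) := by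
    intro i
    exact component_lemma (T := MvPolynomial (Fin n) (R i)) N p s hps
  choose v c hv hc hcv hfix using hcomp
  have hvdeg : ∀ i l, (v i l).totalDegree ≤ D := by
    intro i l
    by_cases h0 : v i l = 0
    · rw [h0]; simp
    · obtain ⟨k, hk⟩ := hc i
      have hne : MvPolynomial.map (Pi.evalRingHom R i) (e l k) ≠ 0 := by
        rw [hcv i l k]; exact mul_ne_zero hk h0
      have hdvd : v i l ∣ MvPolynomial.map (Pi.evalRingHom R i) (e l k) :=
        ⟨c i k, by rw [hcv i l k, mul_comm]⟩
      exact (MvPolynomial.totalDegree_le_of_dvd_of_isDomain hdvd hne).trans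
        ((hdeg i _).trans (hDle l k))
  have hcdeg : ∀ i k, (c i k).totalDegree ≤ D := by
    intro i k
    by_cases h0 : c i k = 0
    · rw [h0]; simp
    · obtain ⟨l, hl⟩ := Function.ne_iff.mp (hv i)
      have hl' : v i l ≠ 0 := hl
      have hne : MvPolynomial.map (Pi.evalRingHom R i) (e l k) ≠ 0 := by
        rw [hcv i l k]; exact mul_ne_zero h0 hl'
      have hdvd : c i k ∣ MvPolynomial.map (Pi.evalRingHom R i) (e l k) :=
        ⟨v i l, hcv i l k⟩
      exact (MvPolynomial.totalDegree_le_of_dvd_of_isDomain hdvd hne).trans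
        ((hdeg i _).trans (hDle l k))
  have hV : ∀ l, ∃ a : MvPolynomial (Fin n) (∀ i, R i),
      ∀ i, MvPolynomial.map (Pi.evalRingHom R i) a = v i l :=
    fun l => exists_lift R n D (fun i => v i l) (fun i => hvdeg i l)
  have hC : ∀ k, ∃ a : MvPolynomial (Fin n) (∀ i, R i),
      ∀ i, MvPolynomial.map (Pi.evalRingHom R i) a = c i k :=
    fun k => exists_lift R n D (fun i => c i k) (fun i => hcdeg i k)
  choose V hV using hV
  choose C hC using hC
  have F1 : ∀ l k, e l k = C k * V l := by
    intro l k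
    apply hinj
    intro i
    rw [map_mul, hC, hV, hcv]
  have F2 : ∀ l, V l = ∑ k, e l k * V k := by
    intro l
    apply hinj
    intro i
    rw [map_sum, hV, hfix i l]
    refine Finset.sum_congr rfl (fun k _ => ?_)
    rw [map_mul, hV]
  have hexp : ∀ x : Fin N → MvPolynomial (Fin n) (∀ i, R i), p x = ∑ k, x k • p (δ k) :=
    fun x => LinearMap.pi_apply_eq_sum_univ p x
  have F3 : s (p V) = V := by
    funext l
    rw [hexp V, map_sum, Finset.sum_apply, F2 l]
    refine Finset.sum_congr rfl (fun k _ => ?_)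
    rw [map_smul, Pi.smul_apply, smul_eq_mul, mul_comm]
  have F4 : ∀ k, p (δ k) = C k • p V := by
    intro k
    apply hsinj
    rw [map_smul, F3]
    funext l
    rw [Pi.smul_apply, smul_eq_mul]
    exact F1 l k
  have hsurj : Function.Surjective
      (LinearMap.toSpanSingleton (MvPolynomial (Fin n) (∀ i, R i)) M (p V)) := by
    intro m
    refine ⟨∑ k, s m k * C k, ?_⟩
    rw [LinearMap.toSpanSingleton_apply, Finset.sum_smul]
    conv_rhs => rw [← hps m, hexp (s m)]
    refine Finset.sum_congr rfl (fun k _ => ?_)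
    rw [F4 k, mul_smul]
  have hinj' : Function.Injective
      (LinearMap.toSpanSingleton (MvPolynomial (Fin n) (∀ i, R i)) M (p V)) := by
    rw [injective_iff_map_eq_zero]
    intro a ha
    rw [LinearMap.toSpanSingleton_apply] at ha
    have h1 : a • V = 0 := by
      have := congrArg s ha
      rwa [map_smul, F3, map_zero] at this
    apply hinj
    intro i
    rw [map_zero]
    obtain ⟨l, hl⟩ := Function.ne_iff.mp (hv i)
    have hl' : v i l ≠ 0 := hl
    have h2 : a * V l = 0 := by
      have := congrFun h1 l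
      simpa using this
    have h3 := congrArg (MvPolynomial.map (Pi.evalRingHom R i)) h2
    rw [map_mul, hV, map_zero] at h3
    exact (mul_eq_zero.mp h3).resolve_right hl'
  exact Module.Free.of_equiv (LinearEquiv.ofBijective _ ⟨hinj', hsurj⟩)

/-- For a family (R_i) of valuation rings with product A = ∏ R_i and any n, the Picard group of the
polynomial ring in n variables over A is trivial. -/
theorem result {ι : Type u} (R : ι → Type u)
    [∀ i, CommRing (R i)] [∀ i, IsDomain (R i)] [∀ i, ValuationRing (R i)]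
    (n : ℕ) : Subsingleton (CommRing.Pic (MvPolynomial (Fin n) (∀ i, R i))) := by
  exact CommRing.Pic.subsingleton_iff.mpr (fun M _ _ _ => free_of_invertible R n M)

end Groth.Agent.S13955
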