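import Groth.Statements.S13958
import Mathlib.Tactic
import Mathlib.GroupTheory.FiniteAbelian.Basic
-- import your own Groth.Agent.* helpers here

set_option autoImplicit false
universe u
open TateLoc

namespace Groth.Agent.S13958

section helpers
open CategoryTheory ProfiniteGrp ProfiniteGrp.ProfiniteCompletion

/-- In a f.g. abelian group, any nontrivial element survives in some finite quotient. -/
theorem exists_finite_hom_ne_one (Q : Type u) [CommGroup Q] [Group.FG Q] (x : Q) (hx : x ≠ 1) :
    ∃ (H : Type) (_ : CommGroup H) (_ : Finite H) (f : Q →* H), f x ≠ 1 := by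
  obtain ⟨ι, j, hι, hj, p, hp, e, ⟨φ⟩⟩ := CommGroup.equiv_free_prod_prod_multiplicative_zmod Q
  have hne : φ x ≠ 1 := fun h => hx (by simpa using h)
  have : ∀ i, NeZero (p i ^ e i) := fun i => ⟨pow_ne_zero _ (hp i).ne_zero⟩
  by_cases hb : (φ x).2 = 1
  · have ha : (φ x).1 ≠ 1 := fun h => hne (Prod.ext h hb)
    obtain ⟨k, hk⟩ : ∃ k, (φ x).1 k ≠ 1 := by
      by_contra hcon
      push Not at hcon
      exact ha (funext hcon)
    set z : ℤ := Multiplicative.toAdd ((φ x).1 k) with hz
    have hz0 : z ≠ 0 := fun h => hk (by
      have : Multiplicative.ofAdd z = Multiplicative.ofAdd 0 := by rw [h]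
      simpa [hz] using this)
    set m : ℕ := z.natAbs + 1 with hm
    have : NeZero m := ⟨by omega⟩
    let g : Multiplicative ℤ →* Multiplicative (ZMod m) :=
      AddMonoidHom.toMultiplicative (Int.castAddHom (ZMod m))
    let f : Q →* Multiplicative (ZMod m) :=
      g.comp ((Pi.evalMonoidHom (fun _ : j => Multiplicative ℤ) k).comp
        ((MonoidHom.fst _ _).comp φ.toMonoidHom))
    refine ⟨Multiplicative (ZMod m), inferInstance, inferInstance, f, ?_⟩
    intro hf
    have h1 : ((z : ℤ) : ZMod m) = 0 := by
      have : Multiplicative.toAdd (f x) = 0 := by rw [hf]; rfl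
      simpa [f, g, hz] using this
    rw [ZMod.intCast_zmod_eq_zero_iff_dvd] at h1
    have h2 : z = 0 := by
      apply Int.eq_zero_of_abs_lt_dvd h1
      rw [hm, Int.abs_eq_natAbs]
      push_cast
      omega
    exact hz0 h2
  · let f : Q →* ((i : ι) → Multiplicative (ZMod (p i ^ e i))) :=
      (MonoidHom.snd _ _).comp φ.toMonoidHom
    exact ⟨_, inferInstance, inferInstance, f, hb⟩

theorem map_etaFn {G H : GrpCat.{u}} (f : G ⟶ H) (a : G) :
    (profiniteCompletion.map f).hom (etaFn G a) = etaFn H (f.hom a) := by
  have h := lift_eta (f ≫ eta H)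
  have h2 := ConcreteCategory.congr_hom h a
  exact h2

theorem closed_aux (G : GrpCat.{u}) (N : FiniteIndexNormalSubgroup G) :
    IsClosed {c : completion G | c.1 N = 1} := by
  have hc : Continuous (fun c : completion G => c.1 N) :=
    (continuous_apply N).comp continuous_subtype_val
  exact isClosed_eq hc continuous_const

theorem key {G H : GrpCat.{u}} (f : G ⟶ H) (N : FiniteIndexNormalSubgroup H)
    (hN : ∀ a : G, f.hom a ∈ N.toSubgroup) (y : completion G) :
    ((profiniteCompletion.map f).hom y).1 N = 1 := by
  have hcl : IsClosed {y : completion G | ((profiniteCompletion.map f).hom y).1 N = 1} :=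
    (closed_aux H N).preimage (profiniteCompletion.map f).hom.continuous_toFun
  have hsub : Set.range (etaFn G) ⊆
      {y : completion G | ((profiniteCompletion.map f).hom y).1 N = 1} := by
    rintro _ ⟨a, rfl⟩
    show ((profiniteCompletion.map f).hom (etaFn G a)).1 N = 1
    rw [map_etaFn]
    exact (QuotientGroup.eq_one_iff _).mpr (hN a)
  have := (denseRange G).closure_eq ▸ hcl.closure_subset_iff.mpr hsub
  exact this (Set.mem_univ y)

end helpers

open CategoryTheory in
/-- Let A' be a finitely generated abelian group (written multiplicatively, discrete) and A a subgroup.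
If the image of x ∈ A' in the profinite completion of A' lies in the image of the profinite
completion of A under the map induced by the inclusion, then x ∈ A. (The published statement says
that the square formed by the two completion maps and the two inclusions is Cartesian; given the
injectivity of the induced map on completions, which holds here, that amounts to this membership
criterion.) -/
theorem result (A' : Type u) [CommGroup A'] [Group.FG A']
    (A : Subgroup A') (x : A')
    (hx : ProfiniteGrp.ProfiniteCompletion.etaFn (GrpCat.of A') x ∈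
      Set.range ⇑(ProfiniteGrp.profiniteCompletion.map (GrpCat.ofHom A.subtype)).hom) :
    x ∈ A := by
  by_contra hxA
  have hne : (QuotientGroup.mk x : A' ⧸ A) ≠ 1 := fun h => hxA ((QuotientGroup.eq_one_iff x).mp h)
  obtain ⟨H, _, _, f, hf⟩ := exists_finite_hom_ne_one (A' ⧸ A) _ hne
  let g : A' →* H := f.comp (QuotientGroup.mk' A)
  have : g.ker.FiniteIndex := Subgroup.finiteIndex_ker g
  let N : FiniteIndexNormalSubgroup (GrpCat.of A') := FiniteIndexNormalSubgroup.ofSubgroup g.ker
  obtain ⟨y, hy⟩ := hx
  have h1 := key (GrpCat.ofHom A.subtype) N (fun a => by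
    show g (a : A') = 1
    have : (QuotientGroup.mk (a : A') : A' ⧸ A) = 1 := (QuotientGroup.eq_one_iff _).mpr a.2
    simp [g, this]) y
  rw [hy] at h1
  have h2 : x ∈ g.ker := (QuotientGroup.eq_one_iff x).mp h1
  exact hf h2

end Groth.Agent.S13958
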