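import Groth.Statements.S1396
import Groth.Agent.Lib.Helper7.IndQuasiAffine

set_option autoImplicit false
universe u
open FlatMor

namespace Groth.Agent.S1396

open AlgebraicGeometry CategoryTheory Limits in
/-- (1) ⇔ (4): a morphism f : X → Y is ind-quasi-affine (the preimage of every affine open is a scheme
all of whose quasi-compact opens are quasi-affine) if and only if for every quasi-compact
quasi-separated open V of Y and every quasi-compact open U of the preimage of V, the induced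
morphism U → V is quasi-affine (quasi-compact with quasi-affine preimages of affine opens). -/
theorem result {X Y : Scheme.{u}} (f : X ⟶ Y) :
    MoreMor.IsIndQuasiAffineHom f ↔ ∀ (V : Y.Opens), IsCompact (V : Set ↑Y) → IsQuasiSeparated (V : Set ↑Y) →
      ∀ (U : X.Opens) (hUV : U ≤ f ⁻¹ᵁ V), IsCompact (U : Set ↑X) → MoreMor.IsQuasiAffineHom (f.resLE V U hUV) := by
  constructor
  · intro hf V hVc hVqs U hUV hUc
    have hUcs : CompactSpace (U : Scheme.{u}) := isCompact_iff_compactSpace.mp hUc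
    have hVqss : QuasiSeparatedSpace (V : Scheme.{u}) :=
      (isQuasiSeparated_iff_quasiSeparatedSpace _ V.2).mp hVqs
    have hqc : QuasiCompact (f.resLE V U hUV) := inferInstance
    refine ⟨hqc, fun V' hV' => ?_⟩
    have hWc : CompactSpace ↥((f.resLE V U hUV ⁻¹ᵁ V' : (U : Scheme.{u}).Opens) : Scheme.{u}) :=
      isCompact_iff_compactSpace.mp ((f.resLE V U hUV).isCompact_preimage hV'.isCompact)
    refine Groth.Agent.Lib.Helper7.isQuasiAffine_of_isIndQuasiAffineHom hf
      ((f.resLE V U hUV ⁻¹ᵁ V').ι ≫ U.ι) (V.ι ''ᵁ V') (hV'.image_of_isOpenImmersion V.ι) ?_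
    rintro _ ⟨x, rfl⟩
    have hx : (f.resLE V U hUV) x.1 ∈ V' := x.2
    have h3 : (U.ι ≫ f) x.1 = V.ι ((f.resLE V U hUV) x.1) := by
      rw [← Scheme.Hom.resLE_comp_ι f hUV]; rfl
    simp only [Scheme.Hom.comp_apply] at h3 ⊢
    change f (U.ι x.1) ∈ _
    rw [h3]
    exact ⟨_, hx, rfl⟩
  · intro H
    apply Groth.Agent.Lib.Helper7.isIndQuasiAffineHom_of_forall
    intro W i _ _ V hV hrange
    have hle : i.opensRange ≤ f ⁻¹ᵁ V := by
      rintro _ ⟨w, rfl⟩
      exact hrange ⟨w, rfl⟩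
    have hc : IsCompact (i.opensRange : Set X) := by
      simpa using isCompact_range i.continuous
    have hVaff : IsAffine (V : Scheme.{u}) := hV
    have hqa := (H V hV.isCompact hV.isQuasiSeparated i.opensRange hle hc).2 ⊤ (isAffineOpen_top _)
    have hsub : Set.range i ⊆ Set.range ((f.resLE V i.opensRange hle ⁻¹ᵁ ⊤).ι ≫ i.opensRange.ι) := by
      rintro _ ⟨w, rfl⟩
      exact ⟨⟨⟨i w, ⟨w, rfl⟩⟩, trivial⟩, rfl⟩
    let j : W ⟶ ((f.resLE V i.opensRange hle ⁻¹ᵁ ⊤ : (i.opensRange : Scheme.{u}).Opens) : Scheme.{u}) :=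
      IsOpenImmersion.lift ((f.resLE V i.opensRange hle ⁻¹ᵁ ⊤).ι ≫ i.opensRange.ι) i hsub
    have hj : j ≫ ((f.resLE V i.opensRange hle ⁻¹ᵁ ⊤).ι ≫ i.opensRange.ι) = i :=
      IsOpenImmersion.lift_fac _ _ _
    have : IsOpenImmersion j := by
      have : IsOpenImmersion (j ≫ ((f.resLE V i.opensRange hle ⁻¹ᵁ ⊤).ι ≫ i.opensRange.ι)) := by
        rw [hj]; infer_instance
      exact IsOpenImmersion.of_comp j ((f.resLE V i.opensRange hle ⁻¹ᵁ ⊤).ι ≫ i.opensRange.ι)
    exact Scheme.IsQuasiAffine.of_isImmersion j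

end Groth.Agent.S1396
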