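import Groth.Statements.S13963
import Mathlib.Topology.Algebra.Group.OpenMapping
import Mathlib.Topology.Algebra.Group.Compact
import Mathlib.Topology.Baire.LocallyCompactRegular

set_option autoImplicit false
universe u
open TateLoc

namespace Groth.Agent.S13963

open Topology in
/-- Let A' → A → A'' be continuous homomorphisms of locally compact, second-countable, Hausdorff abelian
topological groups which form a short exact sequence of abstract groups (the first injective, the
second surjective, image equal to kernel). If A' and A'' are compact, then A is compact. -/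
theorem result (A' A A'' : Type u)
    [AddCommGroup A'] [TopologicalSpace A'] [IsTopologicalAddGroup A'] [SecondCountableTopology A'] [T2Space A']
    [CompactSpace A']
    [AddCommGroup A] [TopologicalSpace A] [IsTopologicalAddGroup A] [LocallyCompactSpace A]
    [SecondCountableTopology A] [T2Space A]
    [AddCommGroup A''] [TopologicalSpace A''] [IsTopologicalAddGroup A''] [SecondCountableTopology A''] [T2Space A'']
    [CompactSpace A'']
    (f : A' →+ A) (g : A →+ A'') (hf : Continuous f) (hg : Continuous g)
    (hinj : Function.Injective f) (hsurj : Function.Surjective g) (hex : g.ker = f.range) :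
    CompactSpace A := by
  have hopen : IsOpenMap g := AddMonoidHom.isOpenMap_of_sigmaCompact g hsurj hg
  obtain ⟨K, hK, hK0⟩ := exists_compact_mem_nhds (0 : A)
  have hint : (0 : A) ∈ interior K := mem_interior_iff_mem_nhds.mpr hK0
  -- the open cover of `A''`
  let V : A → Set A'' := fun a => g '' ((fun x => a + x) '' interior K)
  have hVopen : ∀ a, IsOpen (V a) := fun a =>
    hopen _ ((isOpenMap_add_left a) _ isOpen_interior)
  have hVcover : (Set.univ : Set A'') ⊆ ⋃ a, V a := by
    intro y _
    obtain ⟨a, rfl⟩ := hsurj y
    exact Set.mem_iUnion.mpr ⟨a, a + 0, ⟨0, hint, rfl⟩, by rw [add_zero]⟩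
  obtain ⟨t, ht⟩ := isCompact_univ.elim_finite_subcover V hVopen hVcover
  have hR : IsCompact (Set.range f) := isCompact_range hf
  have hcomp : ∀ a : A, IsCompact ((fun p : A × A => a + p.1 + p.2) '' (K ×ˢ Set.range f)) :=
    fun a => (hK.prod hR).image (by fun_prop)
  have hcover : (Set.univ : Set A) ⊆
      ⋃ a ∈ t, (fun p : A × A => a + p.1 + p.2) '' (K ×ˢ Set.range f) := by
    intro x _
    obtain ⟨a, hat, hxa⟩ := Set.mem_iUnion₂.mp (ht (Set.mem_univ (g x)))
    obtain ⟨_, ⟨k, hk, rfl⟩, hgk⟩ := hxa
    have hker : x - (a + k) ∈ g.ker := by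
      rw [AddMonoidHom.mem_ker, map_sub, hgk, sub_self]
    rw [hex] at hker
    refine Set.mem_iUnion₂.mpr ⟨a, hat, (k, x - (a + k)), ⟨interior_subset hk, hker⟩, ?_⟩
    simp
  exact isCompact_univ_iff.mp
    ((t.isCompact_biUnion (fun a _ => hcomp a)).of_isClosed_subset isClosed_univ hcover)

end Groth.Agent.S13963
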