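import Groth.Statements.S13971
-- import your own Groth.Agent.* helpers here
import Groth.Agent.Lib.Helper58.T1LiftCore
import Groth.Agent.Lib.Helper58.TszeArt
import Groth.Agent.S12734
import Groth.Agent.S12722

set_option autoImplicit false
universe u v
open CategoryTheory
open ArtFun

namespace Groth.Agent.S13971

/-- Let k be a field of characteristic zero and F a deformation functor on Artinian local k-algebras
with residue field k — F(k) is a point and the comparison map F(A₁ ×_A A₂) → F(A₁) ×_{F(A)} F(A₂) is
bijective whenever A₂ → A is surjective — whose tangent space F(k[ε]) is finite-dimensional. Suppose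
that for every object A and every surjective morphism q : A'' → A' between split square-zero
extensions of A (A' and A'' come with retractions onto A whose kernels have square zero and with
sections from A, and q commutes with the retractions and the sections), the map F(q) : F(A'') →
F(A') is surjective. Then F is unobstructed: F(B) → F(A) is surjective for every surjective B → A.
(The published statement is for deformation categories, with the hypothesis that, for every object
over A, the functor M ↦ {isomorphism classes of its liftings to A ⊕ M} on finite A-modules carries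
surjections to surjections; this row is the case of a category fibred in sets, for which a split
square-zero extension of A is A ⊕ M with M the kernel, a finite A-module, and that hypothesis is the
displayed surjectivity.) -/
theorem result {k : Type u} [Field k] [CharZero k]
    (F : ArtFun.Art k k ⥤ Type v) [ArtFun.TangentStr F]
    (h0 : ArtFun.H0 F)
    (hRS : (∀ ⦃B A A' A'' : ArtFun.Art k k⦄ (p' : B ⟶ A') (p'' : B ⟶ A'') (f' : A' ⟶ A) (f'' : A'' ⟶ A)
        (h : ArtFun.Art.IsFibreProd p' p'' f' f''), Function.Surjective f'' → Function.Bijective (ArtFun.cmp F h)))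
    (hfin : ArtFun.Hfin F)
    (hT1 : ∀ ⦃A A' A'' : ArtFun.Art k k⦄ (π' : A' ⟶ A) (i' : A ⟶ A') (π'' : A'' ⟶ A) (i'' : A ⟶ A'')
        (q : A'' ⟶ A'), i' ≫ π' = 𝟙 A → i'' ≫ π'' = 𝟙 A →
        RingHom.ker π'.toAlgHom * RingHom.ker π'.toAlgHom = ⊥ →
        RingHom.ker π''.toAlgHom * RingHom.ker π''.toAlgHom = ⊥ →
        q ≫ π' = π'' → i'' ≫ q = i' → Function.Surjective q → Function.Surjective (F.map q)) :
    ArtFun.IsSmoothFunctor F := by
  classical
  -- prorepresentability
  have hc : ∀ x₀ : F.obj (ArtFun.Art.base k k),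
      Function.Injective (fun σ : ArtFun.Art.base k k ⟶ ArtFun.Art.dual k k => F.map σ x₀) := by
    intro x₀ σ σ' _
    apply ArtFun.Art.hom_ext
    apply AlgHom.ext
    intro c
    have h1 := σ.toAlgHom.commutes c
    have h2 := σ'.toAlgHom.commutes c
    exact h1.trans h2.symm
  obtain ⟨P⟩ := (Groth.Agent.S12734.result F).2 ⟨⟨h0, hRS⟩, hfin, hc⟩
  let R := P.ring
  let ξ := P.family
  have huniv := P.universal
  -- the restricted lifting property
  have hRLP : Groth.Agent.Lib.Helper58.T1LC.RLP R := by
    intro A J φ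
    let A'' : ArtFun.Art k k := Groth.Agent.Lib.Helper58.TszeArt.tszeArt A A.carrier
    let A' : ArtFun.Art k k := Groth.Agent.Lib.Helper58.TszeArt.tszeArt A (A.carrier ⧸ J)
    let q : A'' ⟶ A' := Groth.Agent.Lib.Helper58.TszeArt.mapHom A (Submodule.mkQ J)
    have hsurj : Function.Surjective (F.map q) :=
      hT1 (Groth.Agent.Lib.Helper58.TszeArt.proj A (A.carrier ⧸ J))
        (Groth.Agent.Lib.Helper58.TszeArt.incl A (A.carrier ⧸ J))
        (Groth.Agent.Lib.Helper58.TszeArt.proj A A.carrier)
        (Groth.Agent.Lib.Helper58.TszeArt.incl A A.carrier) q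
        (Groth.Agent.Lib.Helper58.TszeArt.incl_proj A _)
        (Groth.Agent.Lib.Helper58.TszeArt.incl_proj A _)
        (Groth.Agent.Lib.Helper58.TszeArt.ker_proj_sq A _)
        (Groth.Agent.Lib.Helper58.TszeArt.ker_proj_sq A _)
        (Groth.Agent.Lib.Helper58.TszeArt.mapHom_proj A _)
        (Groth.Agent.Lib.Helper58.TszeArt.incl_mapHom A _)
        (Groth.Agent.Lib.Helper58.TszeArt.mapHom_surjective A _ (Submodule.mkQ_surjective J))
    let φh : ArtFun.HomSet R.carrier R.res A' :=
      ⟨φ, Groth.Agent.Lib.Helper58.T1LC.res_unique R _⟩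
    obtain ⟨y, hy⟩ := hsurj (ξ.app A' φh)
    obtain ⟨ψh, hψh⟩ := (huniv A'').2 y
    have hq : ArtFun.HomSet.map q ψh = φh := by
      apply (huniv A').1
      rw [P.family.natural, hψh, hy]
    refine ⟨ψh.1, fun r => ?_⟩
    have h1 : TrivSqZeroExt.map (Submodule.mkQ J) (ψh.1 r) = φ r :=
      congrArg (fun t : ArtFun.HomSet R.carrier R.res A' => t.1 r) hq
    rw [← h1, TrivSqZeroExt.fst_map, TrivSqZeroExt.snd_map]
    exact ⟨rfl, rfl⟩
  obtain ⟨e⟩ := Groth.Agent.Lib.Helper58.T1LC.core R hRLP
  -- smoothness of `h_R`
  haveI : IsAdicComplete (IsLocalRing.maximalIdeal k) k := by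
    rw [IsLocalRing.maximalIdeal_eq_bot]
    infer_instance
  have hk : Function.Surjective (algebraMap k k) := fun c => ⟨c, rfl⟩
  have hsm : ArtFun.IsSmoothFunctor (ArtFun.hR R.carrier R.res) :=
    (Groth.Agent.S12722.result hk R).2 ⟨_, ⟨e⟩⟩
  intro B A μ hμ x
  obtain ⟨φ, rfl⟩ := (huniv A).2 x
  obtain ⟨ψ, hψ⟩ := hsm μ hμ φ
  refine ⟨P.family.app B ψ, ?_⟩
  rw [← P.family.natural]
  exact congrArg (P.family.app A) hψ

end Groth.Agent.S13971
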