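import Groth.Statements.S13972
import Groth.Agent.Lib.Helper12.KoszulNilp
open TensorProduct

set_option autoImplicit false
universe u
open LCI

namespace Groth.Agent.S13972

/-- Let A' be an Artinian local ring, I a proper ideal of A', A = A'/I, R' a Noetherian A'-algebra flat
over A' and R = R'/IR'. Let f₁, …, f_r ∈ R be a Koszul-regular sequence (its Koszul complex is
acyclic in nonzero degrees) such that R/(f₁, …, f_r) is flat over A. Then: (1) for every choice of
lifts f'₁, …, f'_r ∈ R' of the f_i, the quotient R'/(f'₁, …, f'_r) is flat over A' and f'₁, …, f'_r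
is a Koszul-regular sequence in R'; (2) if J' ⊆ R' is an ideal with R'/J' flat over A' whose image
in R is the ideal (f₁, …, f_r), then J' is generated by any lifts f'₁, …, f'_r ∈ J' of the f_i. (The
published statement takes R' = R₀ ⊗_Λ A' for a flat Λ-algebra R₀ and a surjection A' → A of Artinian
local Λ-algebras; this row assumes only that R' is Noetherian and flat over A' and that I is a
proper ideal, which is what its proof uses. Regularity of a sequence is taken there in every
localization at a prime containing the ideal it generates, which over a Noetherian ring is the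
Koszul-acyclicity used in the proof and stated here.) -/
theorem result
    {A' : Type u} [CommRing A'] [IsLocalRing A'] [IsArtinianRing A'] (I : Ideal A') (hI : I ≠ ⊤)
    {R' : Type u} [CommRing R'] [Algebra A' R'] [IsNoetherianRing R'] [Module.Flat A' R']
    (r : ℕ) (f : Fin r → R' ⧸ I.map (algebraMap A' R'))
    (hf : LCI.IsKoszulRegularSeq (R' ⧸ I.map (algebraMap A' R')) (List.ofFn f))
    [Module.Flat (A' ⧸ I) ((R' ⧸ I.map (algebraMap A' R')) ⧸ Ideal.span (Set.range f))] :
    (∀ f' : Fin r → R', (∀ i, Ideal.Quotient.mk (I.map (algebraMap A' R')) (f' i) = f i) →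
        Module.Flat A' (R' ⧸ Ideal.span (Set.range f')) ∧ LCI.IsKoszulRegularSeq R' (List.ofFn f')) ∧
    (∀ (J' : Ideal R'), Module.Flat A' (R' ⧸ J') →
        J'.map (Ideal.Quotient.mk (I.map (algebraMap A' R'))) = Ideal.span (Set.range f) →
        ∀ f' : Fin r → R', (∀ i, f' i ∈ J') →
          (∀ i, Ideal.Quotient.mk (I.map (algebraMap A' R')) (f' i) = f i) →
          J' = Ideal.span (Set.range f')) := by
  classical
  -- nilpotency of `I`
  obtain ⟨n, hn⟩ : ∃ n : ℕ, I ^ n = ⊥ := by
    obtain ⟨n, hn⟩ := IsArtinianRing.isNilpotent_jacobson_bot (R := A')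
    refine ⟨n, ?_⟩
    rw [eq_bot_iff]
    have h1 : I ≤ Ideal.jacobson (⊥ : Ideal A') := by
      rw [IsLocalRing.jacobson_eq_maximalIdeal ⊥ bot_ne_top]
      exact IsLocalRing.le_maximalIdeal hI
    calc I ^ n ≤ (Ideal.jacobson (⊥ : Ideal A')) ^ n := Ideal.pow_right_mono h1 n
      _ = ⊥ := hn
  have hofFn : ∀ {S : Type u} [CommRing S] {k : ℕ} (g : Fin k → S),
      Ideal.ofList (List.ofFn g) = Ideal.span (Set.range g) := by
    intro S _ k g
    unfold Ideal.ofList
    congr 1
    ext x
    simp [List.mem_ofFn]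
  -- part 1
  have part1 : ∀ f' : Fin r → R',
      (∀ i, Ideal.Quotient.mk (I.map (algebraMap A' R')) (f' i) = f i) →
        Module.Flat A' (R' ⧸ Ideal.span (Set.range f')) ∧
          LCI.IsKoszulRegularSeq R' (List.ofFn f') := by
    intro f' hf'
    have hlist : (List.ofFn f').map (Ideal.Quotient.mk (I.map (algebraMap A' R'))) =
        List.ofFn f := by
      rw [List.map_ofFn]
      congr 1
      funext i
      exact hf' i
    have hreg : LCI.IsKoszulRegularSeq (R' ⧸ I.map (algebraMap A' R'))
        ((List.ofFn f').map (Ideal.Quotient.mk (I.map (algebraMap A' R')))) := by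
      rw [hlist]
      exact hf
    have hflat : Module.Flat (A' ⧸ I) ((R' ⧸ I.map (algebraMap A' R')) ⧸
        Ideal.ofList ((List.ofFn f').map (Ideal.Quotient.mk (I.map (algebraMap A' R'))))) := by
      rw [hlist, hofFn]
      infer_instance
    obtain ⟨h1, h2⟩ := Groth.Agent.Lib.Helper12.KoszulNilp.koszulRegular_and_flat_of_nilpotent
      I n hn (List.ofFn f') hreg hflat
    rw [hofFn] at h2
    exact ⟨h2, h1⟩
  refine ⟨part1, ?_⟩
  -- part 2
  intro J' hJ'flat hmap f' hf'J hf'
  have hKJ : Ideal.span (Set.range f') ≤ J' :=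
    Ideal.span_le.mpr (by rintro _ ⟨i, rfl⟩; exact hf'J i)
  obtain ⟨hKflat, -⟩ := part1 f' hf'
  have hsup : J' ≤ Ideal.span (Set.range f') ⊔ I.map (algebraMap A' R') := by
    have h1 : (Ideal.span (Set.range f')).map (Ideal.Quotient.mk (I.map (algebraMap A' R'))) =
        Ideal.span (Set.range f) := by
      rw [Ideal.map_span]
      congr 1
      ext x
      constructor
      · rintro ⟨_, ⟨i, rfl⟩, rfl⟩
        exact ⟨i, (hf' i).symm⟩
      · rintro ⟨i, rfl⟩
        exact ⟨f' i, ⟨i, rfl⟩, hf' i⟩
    have h2 : J'.map (Ideal.Quotient.mk (I.map (algebraMap A' R'))) =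
        (Ideal.span (Set.range f')).map (Ideal.Quotient.mk (I.map (algebraMap A' R'))) :=
      hmap.trans h1.symm
    calc J' ≤ (J'.map (Ideal.Quotient.mk (I.map (algebraMap A' R')))).comap
          (Ideal.Quotient.mk (I.map (algebraMap A' R'))) := Ideal.le_comap_map
      _ = ((Ideal.span (Set.range f')).map (Ideal.Quotient.mk (I.map (algebraMap A' R')))).comap
          (Ideal.Quotient.mk (I.map (algebraMap A' R'))) := by rw [h2]
      _ = Ideal.span (Set.range f') ⊔ I.map (algebraMap A' R') := by
        rw [Ideal.comap_map_of_surjective _ Ideal.Quotient.mk_surjective,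
          ← RingHom.ker_eq_comap_bot, Ideal.mk_ker]
  apply le_antisymm _ hKJ
  let φ : (R' ⧸ Ideal.span (Set.range f')) →ₗ[A'] (R' ⧸ J') :=
    (Ideal.Quotient.factorₐ A' hKJ).toLinearMap
  have hφsurj : Function.Surjective φ := Ideal.Quotient.factor_surjective hKJ
  have hinj : Function.Injective ((LinearMap.ker φ).subtype.lTensor (A' ⧸ I)) :=
    LinearMap.lTensor_injective_of_exact_of_flat φ hφsurj (LinearMap.ker φ).subtype
      Subtype.val_injective (LinearMap.exact_subtype_ker_map φ) (A' ⧸ I)
  have key : ∀ y ∈ I.map (algebraMap A' R'), ∀ a : A' ⧸ I,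
      a ⊗ₜ[A'] (Ideal.Quotient.mk (Ideal.span (Set.range f')) y) = 0 := by
    intro y hy a
    have hy' : y ∈ (I • ⊤ : Submodule A' R') := by
      rw [Ideal.smul_top_eq_map]
      exact hy
    refine Submodule.smul_induction_on (p := fun y => a ⊗ₜ[A']
      (Ideal.Quotient.mk (Ideal.span (Set.range f')) y) = 0) hy' ?_ ?_
    · intro i hi t _
      have h1 : Ideal.Quotient.mk (Ideal.span (Set.range f')) (i • t) =
          i • Ideal.Quotient.mk (Ideal.span (Set.range f')) t := rfl
      rw [h1, TensorProduct.tmul_smul, TensorProduct.smul_tmul']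
      obtain ⟨b, rfl⟩ := Ideal.Quotient.mk_surjective a
      have h2 : i • (Ideal.Quotient.mk I b) = 0 := by
        rw [Algebra.smul_def]
        change Ideal.Quotient.mk I i * Ideal.Quotient.mk I b = 0
        rw [Ideal.Quotient.eq_zero_iff_mem.mpr hi, zero_mul]
      rw [h2, TensorProduct.zero_tmul]
    · intro s t hs ht
      rw [map_add, TensorProduct.tmul_add, hs, ht, add_zero]
  have hzero : (LinearMap.ker φ).subtype.lTensor (A' ⧸ I) = 0 := by
    apply TensorProduct.ext'
    intro a m
    obtain ⟨x, hx⟩ := Ideal.Quotient.mk_surjective m.1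
    have hxJ : x ∈ J' := by
      have hm := m.2
      rw [LinearMap.mem_ker, ← hx] at hm
      exact Ideal.Quotient.eq_zero_iff_mem.mp hm
    obtain ⟨k, hk, y, hy, hxy⟩ := Submodule.mem_sup.mp (hsup hxJ)
    show a ⊗ₜ[A'] m.1 = 0
    rw [← hx, ← hxy, map_add, Ideal.Quotient.eq_zero_iff_mem.mpr hk, zero_add]
    exact key y hy a
  have hsub : Subsingleton ((A' ⧸ I) ⊗[A'] (LinearMap.ker φ)) :=
    ⟨fun a b => hinj (by rw [hzero]; rfl)⟩
  have hsub' : Subsingleton ((LinearMap.ker φ) ⊗[A'] (A' ⧸ I)) :=
    (TensorProduct.comm A' (LinearMap.ker φ) (A' ⧸ I)).toEquiv.subsingleton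
  have hM : Subsingleton (LinearMap.ker φ) :=
    Groth.Agent.Lib.Helper12.KoszulNilp.subsingleton_of_tensor_quot_nilp I n hn _ hsub'
  intro x hx
  have hmem : Ideal.Quotient.mk (Ideal.span (Set.range f')) x ∈ LinearMap.ker φ := by
    rw [LinearMap.mem_ker]
    exact Ideal.Quotient.eq_zero_iff_mem.mpr hx
  have h0 : (⟨_, hmem⟩ : LinearMap.ker φ) = 0 := Subsingleton.elim _ _
  exact Ideal.Quotient.eq_zero_iff_mem.mp (congrArg Subtype.val h0)

end Groth.Agent.S13972
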