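import Groth.Statements.S13985

set_option autoImplicit false
universe u
open CategoryTheory
open CohGab

namespace Groth.Agent.S13985

/-- The morphism `A ⟶ M` sending `1` to `x`. -/
noncomputable def pt (A : Type u) [Ring A] (M : FGModuleCat.{u} A) (x : M) :
    FGModuleCat.of A A ⟶ M :=
  ObjectProperty.homMk (ModuleCat.ofHom (LinearMap.toSpanSingleton A M x))

theorem pt_apply (A : Type u) [Ring A] (M : FGModuleCat.{u} A) (x : M) (r : A) :
    (pt A M x).hom.hom r = r • x := rfl

/-- For a ring A, the canonical map from the centre of A to the centre of the category of finitely
generated left A-modules (the endomorphism ring of its identity functor), sending a to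
multiplication by a, is bijective: every natural endomorphism of the identity functor acts on each
finitely generated module as multiplication by a unique element of A, and that element is central.
(The published statement calls this map an isomorphism of commutative rings; this row states its
bijectivity.) -/
theorem result (A : Type u) [Ring A]
    (φ : 𝟭 (FGModuleCat.{u} A) ⟶ 𝟭 (FGModuleCat.{u} A)) :
    ∃! a : A, a ∈ Subring.center A ∧
      ∀ (M : FGModuleCat.{u} A) (x : M), (φ.app M).hom.hom x = a • x := by
  -- the element
  let a : A := (φ.app (FGModuleCat.of A A)).hom.hom (1 : A)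
  have key : ∀ (M : FGModuleCat.{u} A) (x : M), (φ.app M).hom.hom x = a • x := by
    intro M x
    have h := φ.naturality (pt A M x)
    have h2 := congrArg (fun f => f.hom.hom (1 : A)) h
    simp only [Functor.id_obj, Functor.id_map, FGModuleCat.hom_hom_comp,
      LinearMap.comp_apply] at h2
    rw [pt_apply, one_smul] at h2
    rw [h2]
    exact pt_apply A M x a
  refine ⟨a, ⟨?_, key⟩, ?_⟩
  · rw [Subring.mem_center_iff]
    intro b
    have h1 := key (FGModuleCat.of A A) b
    have h2 : (φ.app (FGModuleCat.of A A)).hom.hom b = b • a := by
      have : (b : A) = b • (1 : A) := by simp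
      conv_lhs => rw [this]
      rw [LinearMap.map_smul]
    rw [h1] at h2
    exact h2.symm
  · rintro b ⟨_, hb⟩
    have := hb (FGModuleCat.of A A) (1 : A)
    simpa using this.symm

end Groth.Agent.S13985
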