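import Mathlib
import Groth.Statements.S13988
import Groth.Agent.Lib.Helper49.CohCentre

set_option autoImplicit false
universe u
open CategoryTheory AlgebraicGeometry
open CohGab

namespace Groth.Agent.S13988

/-- Let X be a Noetherian scheme. The canonical ring map from the global functions Γ(X, O_X) to the
centre of the category of coherent O_X-modules (the endomorphisms of its identity functor), sending
r to multiplication by r, is bijective: for every natural endomorphism φ of the identity functor of
Coh(X) there is a unique global function r such that, for every coherent module M, φ_M is
multiplication by r (compared as maps of the underlying abelian sheaves). (The published result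
builds a ringed space from Coh(X) — irreducible Serre subcategories of finite type, with the centres
of the categories Coh(U) as structure sheaf — and proves it isomorphic to X, for coherent sheaves
twisted by a class in the cohomological Brauer group and with X over a field, a hypothesis its proof
does not use; this row is the ring-theoretic content of that isomorphism on global sections, for the
trivial class; applied to the open subschemes of X it gives the statement on every open.) -/
theorem result (X : Scheme.{u}) [IsNoetherian X]
    (φ : 𝟭 (ObjectProperty.FullSubcategory (fun M : X.Modules => Coh.IsCoh M)) ⟶ 𝟭 (ObjectProperty.FullSubcategory (fun M : X.Modules => Coh.IsCoh M))) :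
    ∃! r : Coh.Γtop X, ∀ M : ObjectProperty.FullSubcategory (fun M : X.Modules => Coh.IsCoh M),
      (SheafOfModules.toSheaf X.ringCatSheaf).map (φ.app M).hom = Coh.smulAb M.obj r := by
  open Groth.Agent.Lib.Helper49.CohCentre Groth.Agent.Lib.Helper45.RefHullStalk in
  refine ⟨centreElt φ, ?_, ?_⟩
  · intro M
    ext U m
    rw [Coh.smulAb_app]
    exact app_apply φ M U.unop m
  · intro r' hr'
    have h1 := congrArg (fun f => f.hom.app (Opposite.op ⊤) (toMod (1 : Γ(X, ⊤)))) (hr' (unitObj X))
    simp only [Coh.smulAb_app] at h1
    have h2 : (centreElt φ : Γ(X, ⊤)) = X.presheaf.map (𝟙 (Opposite.op ⊤)) r' * 1 := h1
    rw [mul_one, X.presheaf.map_id] at h2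
    exact h2.symm

end Groth.Agent.S13988
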