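import Groth.Statements.S13989
import Mathlib

set_option autoImplicit false
universe v u v' u' v'' u''
open CategoryTheory CategoryTheory.Limits
open CohGab

namespace Groth.Agent.S13989

set_option linter.unusedSectionVars false


section
variable {A A' : Type u} [Category.{v} A] [Abelian A] [Category.{v} A'] [Abelian A']
    (i : A' ⥤ A) [i.Full] [i.Faithful] [PreservesFiniteLimits i] [PreservesFiniteColimits i]
    (J : ObjectProperty A) [J.IsSerreClass] [(J.inverseImage i).IsSerreClass]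

omit [i.Full] [i.Faithful] in
lemma isoModSerre_inverseImage_iff {M N : A'} (f : M ⟶ N) :
    (J.inverseImage i).isoModSerre f ↔ J.isoModSerre (i.map f) := by
  simp only [ObjectProperty.isoModSerre_iff, ObjectProperty.monoModSerre_iff,
    ObjectProperty.epiModSerre_iff, ObjectProperty.prop_inverseImage_iff]
  rw [J.prop_iff_of_iso (PreservesKernel.iso i f), J.prop_iff_of_iso (PreservesCokernel.iso i f)]

variable {Q : Type u'} [Category.{v'} Q] (L : A ⥤ Q) [L.IsLocalization J.isoModSerre]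
    {Q' : Type u''} [Category.{v''} Q'] (L' : A' ⥤ Q')
    [L'.IsLocalization (J.inverseImage i).isoModSerre]
    (Φ : Q' ⥤ Q) (e : L' ⋙ Φ ≅ i ⋙ L)

include i J L L' Φ e

omit [i.Full] [i.Faithful] in
lemma Φ_map_L'_map {M N : A'} (f : M ⟶ N) :
    Φ.map (L'.map f) = e.hom.app M ≫ L.map (i.map f) ≫ e.inv.app N := by
  have := e.hom.naturality f
  simp only [Functor.comp_map] at this
  rw [← reassoc_of% this]
  simp

omit [i.Full] [i.Faithful] in
theorem faithful : Φ.Faithful := by
  have : i.Additive := Functor.additive_of_preserves_binary_products _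
  refine Functor.faithful_of_comp_of_hasLeftCalculusOfFractions L'
    (J.inverseImage i).isoModSerre Φ (fun M N f g hfg => ?_)
  rw [Φ_map_L'_map i J L L' Φ e, Φ_map_L'_map i J L L' Φ e] at hfg
  have h1 : L.map (i.map f) = L.map (i.map g) := by
    have := (cancel_epi (e.hom.app M)).1 hfg
    exact (cancel_mono (e.inv.app N)).1 this
  obtain ⟨Z, s, hs, hfs⟩ := (MorphismProperty.map_eq_iff_postcomp L J.isoModSerre _ _).1 h1
  have h2 : J (Abelian.image (i.map (f - g))) :=
    (ObjectProperty.exists_comp_isoModSerre_eq_zero_iff J _).1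
      ⟨Z, s, hs, by rw [Functor.map_sub, Preadditive.sub_comp, hfs, sub_self]⟩
  have h3 : J.isoModSerre (cokernel.π (i.map (f - g))) := by
    rw [ObjectProperty.isoModSerre_iff_of_epi]
    exact h2
  have h4 : (J.inverseImage i).isoModSerre (cokernel.π (f - g)) := by
    rw [isoModSerre_inverseImage_iff]
    have : i.map (cokernel.π (f - g)) =
        cokernel.π (i.map (f - g)) ≫ (PreservesCokernel.iso i (f - g)).inv := by
      rw [← PreservesCokernel.π_iso_hom, Category.assoc, Iso.hom_inv_id, Category.comp_id]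
    rw [this]
    exact J.isoModSerre.comp_mem _ _ h3 (J.isoModSerre_of_isIso _)
  have := Localization.inverts L' (J.inverseImage i).isoModSerre _ h4
  rw [← cancel_mono (L'.map (cokernel.π (f - g))), ← L'.map_comp, ← L'.map_comp]
  congr 1
  rw [← sub_eq_zero, ← Preadditive.sub_comp, cokernel.condition]

end

section key
variable {A A' : Type u} [Category.{v} A] [Abelian A] [Category.{v} A'] [Abelian A']
    (i : A' ⥤ A) [i.Full] [i.Faithful] [PreservesFiniteLimits i] [PreservesFiniteColimits i]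

omit [PreservesFiniteColimits i] in
lemma essImage_kernel {X Y : A} (g : X ⟶ Y) (hX : i.essImage X) (hY : i.essImage Y) :
    i.essImage (kernel g) := by
  obtain ⟨X', ⟨αX⟩⟩ := hX
  obtain ⟨Y', ⟨αY⟩⟩ := hY
  have hg' : i.map (i.preimage (αX.hom ≫ g ≫ αY.inv)) = αX.hom ≫ g ≫ αY.inv := i.map_preimage _
  exact ⟨kernel (i.preimage (αX.hom ≫ g ≫ αY.inv)),
    ⟨PreservesKernel.iso i _ ≪≫ kernel.mapIso _ g αX αY (by rw [hg']; simp)⟩⟩

omit [PreservesFiniteLimits i] in
lemma essImage_cokernel {X Y : A} (g : X ⟶ Y) (hX : i.essImage X) (hY : i.essImage Y) :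
    i.essImage (cokernel g) := by
  obtain ⟨X', ⟨αX⟩⟩ := hX
  obtain ⟨Y', ⟨αY⟩⟩ := hY
  have hg' : i.map (i.preimage (αX.hom ≫ g ≫ αY.inv)) = αX.hom ≫ g ≫ αY.inv := i.map_preimage _
  exact ⟨cokernel (i.preimage (αX.hom ≫ g ≫ αY.inv)),
    ⟨PreservesCokernel.iso i _ ≪≫ cokernel.mapIso _ g αX αY (by rw [hg']; simp)⟩⟩

variable (J : ObjectProperty A) [J.IsSerreClass] [(J.inverseImage i).IsSerreClass]

lemma key_lemma
    (hsub : ∀ (M : A') (N : A) (f : N ⟶ i.obj M), Mono f → J N → i.essImage N)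
    (hquot : ∀ (M : A') (N : A) (p : i.obj M ⟶ N), Epi p → J N → i.essImage N)
    {M N : A'} {Z : A} (s : Z ⟶ i.obj M) (hs : J.isoModSerre s) (f : Z ⟶ i.obj N) :
    ∃ (M₁ N₁ : A') (s' : M₁ ⟶ M) (p : N ⟶ N₁) (f' : M₁ ⟶ N₁) (π : Z ⟶ i.obj M₁),
      (J.inverseImage i).isoModSerre s' ∧ (J.inverseImage i).isoModSerre p ∧
      J.isoModSerre π ∧ π ≫ i.map s' = s ∧ π ≫ i.map f' = f ≫ i.map p := by
  -- Step A: the image of `s` comes from `A'`
  have hC : i.essImage (cokernel s) := hquot M _ (cokernel.π s) inferInstance hs.2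
  have hI : i.essImage (Abelian.image s) :=
    essImage_kernel i (cokernel.π s) ⟨M, ⟨Iso.refl _⟩⟩ hC
  obtain ⟨M₁, ⟨γ⟩⟩ := hI
  let s' : M₁ ⟶ M := i.preimage (γ.hom ≫ Abelian.image.ι s)
  have hs' : i.map s' = γ.hom ≫ Abelian.image.ι s := i.map_preimage _
  let π : Z ⟶ i.obj M₁ := Abelian.factorThruImage s ≫ γ.inv
  have hπs : π ≫ i.map s' = s := by simp [π, hs']
  have hWs' : J.isoModSerre (i.map s') := by
    rw [hs']
    exact J.isoModSerre.comp_mem _ _ (J.isoModSerre_of_isIso _) hs.2.isoModSerre_image_ι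
  have hWπ : J.isoModSerre π :=
    J.isoModSerre.comp_mem _ _ hs.1.isoModSerre_factorThruImage (J.isoModSerre_of_isIso _)
  -- Step B
  have hK : J (kernel π) := hWπ.1
  let g : kernel π ⟶ i.obj N := kernel.ι π ≫ f
  have hJI : J (Abelian.image g) := J.prop_of_epi (Abelian.factorThruImage g) hK
  have hIess : i.essImage (Abelian.image g) := hsub N _ (Abelian.image.ι g) inferInstance hJI
  have hN₁ : i.essImage (cokernel (Abelian.image.ι g)) :=
    essImage_cokernel i _ hIess ⟨N, ⟨Iso.refl _⟩⟩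
  obtain ⟨N₁, ⟨δ⟩⟩ := hN₁
  let p : N ⟶ N₁ := i.preimage (cokernel.π (Abelian.image.ι g) ≫ δ.inv)
  have hp : i.map p = cokernel.π (Abelian.image.ι g) ≫ δ.inv := i.map_preimage _
  have hWp : J.isoModSerre (i.map p) := by
    rw [hp]
    refine J.isoModSerre.comp_mem _ _ ?_ (J.isoModSerre_of_isIso _)
    rw [ObjectProperty.isoModSerre_iff_of_epi]
    exact J.prop_of_iso (asIso (Abelian.factorThruImage (Abelian.image.ι g))) hJI
  have hkill : kernel.ι π ≫ (f ≫ i.map p) = 0 := by
    have h0 : Abelian.factorThruImage g ≫ Abelian.image.ι g ≫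
        cokernel.π (Abelian.image.ι g) = 0 := by rw [cokernel.condition, comp_zero]
    rw [← Category.assoc, Abelian.image.fac] at h0
    rw [← Category.assoc, hp]
    show g ≫ _ = 0
    rw [← Category.assoc, h0, zero_comp]
  let fbar : i.obj M₁ ⟶ i.obj N₁ := Abelian.epiDesc π (f ≫ i.map p) hkill
  have hfbar : π ≫ fbar = f ≫ i.map p := Abelian.comp_epiDesc _ _ _
  refine ⟨M₁, N₁, s', p, i.preimage fbar, π, ?_, ?_, hWπ, hπs, ?_⟩
  · rwa [isoModSerre_inverseImage_iff]
  · rwa [isoModSerre_inverseImage_iff]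
  · rw [i.map_preimage, hfbar]

end key


section full
variable {A A' : Type u} [Category.{v} A] [Abelian A] [Category.{v} A'] [Abelian A']
    (i : A' ⥤ A) [i.Full] [i.Faithful] [PreservesFiniteLimits i] [PreservesFiniteColimits i]
    (J : ObjectProperty A) [J.IsSerreClass] [(J.inverseImage i).IsSerreClass]
    {Q : Type u'} [Category.{v'} Q] (L : A ⥤ Q) [L.IsLocalization J.isoModSerre]
    {Q' : Type u''} [Category.{v''} Q'] (L' : A' ⥤ Q')
    [L'.IsLocalization (J.inverseImage i).isoModSerre]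
    (Φ : Q' ⥤ Q) (e : L' ⋙ Φ ≅ i ⋙ L)

include i J L L' Φ e

theorem full
    (hsub : ∀ (M : A') (N : A) (f : N ⟶ i.obj M), Mono f → J N → i.essImage N)
    (hquot : ∀ (M : A') (N : A) (p : i.obj M ⟶ N), Epi p → J N → i.essImage N) : Φ.Full := by
  have : L'.EssSurj := Localization.essSurj L' (J.inverseImage i).isoModSerre
  refine Φ.full_of_comp_essSurj L' (fun M N φ => ?_)
  obtain ⟨φ', hφ'⟩ : ∃ φ' : L.obj (i.obj M) ⟶ L.obj (i.obj N),
      φ = e.hom.app M ≫ φ' ≫ e.inv.app N :=
    ⟨e.inv.app M ≫ φ ≫ e.hom.app N, by simp⟩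
  obtain ⟨ρ, hρ⟩ := Localization.exists_rightFraction L J.isoModSerre φ'
  obtain ⟨M₁, N₁, s', p, f', π, hs', hp, hπ, hπs, hπf⟩ :=
    key_lemma i J hsub hquot ρ.s ρ.hs ρ.f
  have h1 := Localization.inverts L' _ _ hs'
  have h2 := Localization.inverts L' _ _ hp
  have h3 := Localization.inverts L _ _ hπ
  refine ⟨inv (L'.map s') ≫ L'.map f' ≫ inv (L'.map p), ?_⟩
  have hL : Φ.map (L'.map s') ≫ Φ.map (inv (L'.map s') ≫ L'.map f' ≫ inv (L'.map p)) ≫
      Φ.map (L'.map p) = Φ.map (L'.map f') := by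
    simp only [← Φ.map_comp]
    congr 1
    simp
  have hcore : L.map (i.map f') = L.map (i.map s') ≫ φ' ≫ L.map (i.map p) := by
    rw [← cancel_epi (L.map π), ← L.map_comp, hπf, ← L.map_comp_assoc, hπs, hρ,
      MorphismProperty.RightFraction.map_s_comp_map_assoc, L.map_comp]
  rw [← cancel_epi (Φ.map (L'.map s')), ← cancel_mono (Φ.map (L'.map p))]
  simp only [Category.assoc]
  rw [hL, hφ']
  rw [Φ_map_L'_map i J L L' Φ e, Φ_map_L'_map i J L L' Φ e, Φ_map_L'_map i J L L' Φ e, hcore]
  simp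

end full



/-- Let A be an abelian category, A' a full abelian subcategory (given as a fully faithful exact functor
i : A' ⥤ A) and J a Serre subcategory of A, with J' = J ∩ A' (the preimage of J under i, a Serre
subcategory of A'). Assume that every subobject and every quotient object, in A, of an object of A'
which belongs to J belongs to A' (lies in the essential image of i). Then the functor A'/J' ⥤ A/J
induced between the quotient categories is fully faithful: for L : A ⥤ Q and L' : A' ⥤ Q'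
localization functors at the morphisms whose kernel and cokernel lie in J, resp. J', every functor Φ
: Q' ⥤ Q with L' ⋙ Φ ≅ i ⋙ L is full and faithful. -/
theorem result
    {A A' : Type u} [Category.{v} A] [Abelian A] [Category.{v} A'] [Abelian A']
    (i : A' ⥤ A) [i.Full] [i.Faithful] [PreservesFiniteLimits i] [PreservesFiniteColimits i]
    (J : ObjectProperty A) [J.IsSerreClass] [(J.inverseImage i).IsSerreClass]
    (hsub : ∀ (M : A') (N : A) (f : N ⟶ i.obj M), Mono f → J N → i.essImage N)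
    (hquot : ∀ (M : A') (N : A) (p : i.obj M ⟶ N), Epi p → J N → i.essImage N)
    {Q : Type u'} [Category.{v'} Q] (L : A ⥤ Q) [L.IsLocalization J.isoModSerre]
    {Q' : Type u''} [Category.{v''} Q'] (L' : A' ⥤ Q') [L'.IsLocalization (J.inverseImage i).isoModSerre]
    (Φ : Q' ⥤ Q) (e : L' ⋙ Φ ≅ i ⋙ L) : Φ.Full ∧ Φ.Faithful := by
  exact ⟨full i J L L' Φ e hsub hquot, faithful i J L L' Φ e⟩

end Groth.Agent.S13989
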