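import Groth.Statements.S1399
import Groth.Agent.Lib.Helper7.IndQuasiAffine

set_option autoImplicit false
universe u
open FlatMor

namespace Groth.Agent.S1399

open AlgebraicGeometry CategoryTheory Limits in
/-- If g ∘ f is ind-quasi-affine then so is f. -/
theorem result {X Y Z : Scheme.{u}} (f : X ⟶ Y) (g : Y ⟶ Z) (h : MoreMor.IsIndQuasiAffineHom (f ≫ g)) :
    MoreMor.IsIndQuasiAffineHom f := by
  apply Groth.Agent.Lib.Helper7.isIndQuasiAffineHom_of_forall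
  intro W i _ _ V hV hrange
  have hVaff : IsAffine (V : Scheme.{u}) := hV
  have hsub : Set.range (i ≫ f) ⊆ Set.range V.ι := by
    simpa using hrange
  let q : W ⟶ (V : Scheme.{u}) := IsOpenImmersion.lift V.ι (i ≫ f) hsub
  have hq : q ≫ V.ι = i ≫ f := IsOpenImmersion.lift_fac _ _ _
  apply Groth.Agent.Lib.Helper7.isQuasiAffine_of_forall_exists_preimage_basicOpen q
  intro w
  obtain ⟨_, ⟨T, hT, rfl⟩, hzT, -⟩ := Z.isBasis_affineOpens.exists_subset_of_mem_open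
    (Set.mem_univ (g (V.ι (q w)))) isOpen_univ
  obtain ⟨_, ⟨_, ⟨r, rfl⟩, rfl⟩, hr1, hr2⟩ := (isBasis_basicOpen (V : Scheme.{u})).exists_subset_of_mem_open
    (show q w ∈ (V.ι ⁻¹ᵁ g ⁻¹ᵁ T : (V : Scheme.{u}).Opens) from hzT) (V.ι ⁻¹ᵁ g ⁻¹ᵁ T).isOpen
  refine ⟨r, hr1, ?_⟩
  have hc : CompactSpace ↥((q ⁻¹ᵁ (V : Scheme.{u}).basicOpen r : W.Opens) : Scheme.{u}) := by
    refine isCompact_iff_compactSpace.mp ?_
    rw [Scheme.preimage_basicOpen_top]
    exact isCompact_basicOpen W isCompact_univ _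
  refine Groth.Agent.Lib.Helper7.isQuasiAffine_of_isIndQuasiAffineHom h
    ((q ⁻¹ᵁ (V : Scheme.{u}).basicOpen r).ι ≫ i) T hT ?_
  rintro _ ⟨x, rfl⟩
  have hx : q x.1 ∈ (V : Scheme.{u}).basicOpen r := x.2
  have h2 := hr2 hx
  have h3 : (i ≫ f) x.1 = V.ι (q x.1) := by
    rw [← hq]; rfl
  simp only [Scheme.Hom.comp_apply] at h3 ⊢
  change g (f (i x.1)) ∈ T
  rw [h3]
  exact h2

end Groth.Agent.S1399
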