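import Mathlib
import Groth.Statements.S13990
import Groth.Agent.Lib.Helper49.SerreGen

set_option autoImplicit false
universe u
open CategoryTheory AlgebraicGeometry
open CohGab

namespace Groth.Agent.S13990

/-- Let X be a Noetherian scheme. Then Z ↦ Coh_Z(X), the coherent O_X-modules with support contained in
Z, is a bijection from the closed subsets of X onto the Serre subcategories of finite type of Coh(X)
(those generated, as Serre subcategories, by one object). Spelled out with Serre subcategories of
Coh(X) as properties P of O_X-modules such that in a short exact sequence of coherent modules the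
middle term has P iff both outer terms do: (a) for every closed Z, 'support ⊆ Z' is such a property
and there is a coherent F supported in Z such that every such property containing F contains all
coherent modules supported in Z; (b) for every such property P generated on coherent modules by one
coherent module F, there is exactly one closed Z with P(M) ⟺ Supp(M) ⊆ Z for all coherent M. (The
published statement is about coherent sheaves twisted by a class in the second etale cohomology
group of the units of the structure sheaf; this row is its case of the trivial class.) -/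
theorem result (X : Scheme.{u}) [IsNoetherian X] :
    (∀ Z : TopologicalSpace.Closeds X,
      (∀ S : ShortComplex X.Modules, S.ShortExact → Coh.IsCoh S.X₁ → Coh.IsCoh S.X₂ →
          Coh.IsCoh S.X₃ → (CohB1.support S.X₂ ⊆ (↑Z : Set X) ↔
            CohB1.support S.X₁ ⊆ (↑Z : Set X) ∧ CohB1.support S.X₃ ⊆ (↑Z : Set X))) ∧
      ∃ F : X.Modules, Coh.IsCoh F ∧ CohB1.support F ⊆ (↑Z : Set X) ∧
        ∀ Q : ObjectProperty X.Modules, (∀ S : ShortComplex X.Modules, S.ShortExact → Coh.IsCoh S.X₁ → Coh.IsCoh S.X₂ →
          Coh.IsCoh S.X₃ → (Q S.X₂ ↔ Q S.X₁ ∧ Q S.X₃)) → Q F →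
          ∀ M : X.Modules, Coh.IsCoh M → CohB1.support M ⊆ (↑Z : Set X) → Q M) ∧
    (∀ P : ObjectProperty X.Modules, (∀ S : ShortComplex X.Modules, S.ShortExact → Coh.IsCoh S.X₁ → Coh.IsCoh S.X₂ →
          Coh.IsCoh S.X₃ → (P S.X₂ ↔ P S.X₁ ∧ P S.X₃)) →
      (∃ F : X.Modules, Coh.IsCoh F ∧ P F ∧
        ∀ Q : ObjectProperty X.Modules, (∀ S : ShortComplex X.Modules, S.ShortExact → Coh.IsCoh S.X₁ → Coh.IsCoh S.X₂ →
          Coh.IsCoh S.X₃ → (Q S.X₂ ↔ Q S.X₁ ∧ Q S.X₃)) → Q F →
          ∀ M : X.Modules, Coh.IsCoh M → P M → Q M) →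
      ∃! Z : TopologicalSpace.Closeds X, ∀ M : X.Modules, Coh.IsCoh M →
        (P M ↔ CohB1.support M ⊆ (↑Z : Set X))) := by
  open Groth.Agent.Lib.Helper49.SerreGen Groth.Agent.Lib.Helper49.QuotModStalk in
  have hT : ∀ Z : TopologicalSpace.Closeds X,
      CohB1.support (ClSub.quotMod (Scheme.IdealSheafData.vanishingIdeal Z)) = (↑Z : Set X) := by
    intro Z
    rw [support_quotMod, Scheme.IdealSheafData.coe_support_vanishingIdeal]
  refine ⟨fun Z => ⟨isSerreCoh_support_subset (↑Z : Set X), ?_⟩, ?_⟩
  · refine ⟨ClSub.quotMod (Scheme.IdealSheafData.vanishingIdeal Z), isCoh_quotMod _,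
      (hT Z).le, ?_⟩
    intro Q hQ hQF M hM hMZ
    refine of_support_subset (P := Q) hQ _ M (isCoh_quotMod _) hM hQF ?_
    rw [hT Z]
    exact hMZ
  · rintro P hP ⟨F, hF, hPF, hgen⟩
    have hclosed : IsClosed (CohB1.support F) :=
      Groth.Agent.Lib.Helper1.isClosed_support_of_isFiniteType F hF.2
    have hchar : ∀ M : X.Modules, Coh.IsCoh M → (P M ↔ CohB1.support M ⊆ CohB1.support F) := by
      intro M hM
      constructor
      · intro hPM
        exact hgen (fun N : X.Modules => CohB1.support N ⊆ CohB1.support F)
          (isSerreCoh_support_subset (CohB1.support F)) (fun _ hx => hx) M hM hPM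
      · intro hsupp
        exact of_support_subset (P := P) hP F M hF hM hPF hsupp
    refine ⟨⟨CohB1.support F, hclosed⟩, hchar, ?_⟩
    intro Z' hZ'
    apply TopologicalSpace.Closeds.ext
    change (↑Z' : Set X) = CohB1.support F
    apply Set.Subset.antisymm
    · have hPT : P (ClSub.quotMod (Scheme.IdealSheafData.vanishingIdeal Z')) :=
        (hZ' _ (isCoh_quotMod _)).mpr (hT Z').le
      have := (hchar _ (isCoh_quotMod _)).mp hPT
      rwa [hT Z'] at this
    · exact (hZ' F hF).mp hPF

end Groth.Agent.S13990
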