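import Mathlib
import Groth.Statements.S13991
import Groth.Agent.Lib.Helper49.SerreGen

set_option autoImplicit false
universe u
open CategoryTheory AlgebraicGeometry
open CohGab

namespace Groth.Agent.S13991

/-- Let X be a Noetherian scheme and Z ⊆ X a closed subset. Then Z is irreducible (or empty) if and only
if Coh_Z(X), the coherent O_X-modules supported in Z, is an irreducible Serre subcategory of Coh(X),
i.e. it is not generated as a Serre subcategory by two Serre subcategories properly contained in it: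
whenever J₁, J₂ are Serre classes on coherent modules (middle term of a short exact sequence of
coherent modules belongs iff both outer terms do), both contained in Coh_Z, such that every Serre
class on coherent modules containing J₁ and J₂ contains Coh_Z, then J₁ or J₂ contains Coh_Z.
Consequently the points of X correspond to the irreducible Serre subcategories of finite type other
than the zero subcategory. (The published statement says 'Z is irreducible iff Coh_Z is irreducible'
and deduces a bijection between the points of X and all irreducible Serre subcategories of finite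
type; the zero subcategory Coh_∅ is irreducible in this sense while ∅ is not an irreducible space,
so irreducibility of Z is read here as 'irreducible or empty'. The published statement is also about
coherent sheaves twisted by a class in the second etale cohomology group of the units of the
structure sheaf; this row is its case of the trivial class.) -/
theorem result (X : Scheme.{u}) [IsNoetherian X]
    (Z : TopologicalSpace.Closeds X) :
    IsPreirreducible (↑Z : Set X) ↔
    ∀ J₁ J₂ : ObjectProperty X.Modules, (∀ S : ShortComplex X.Modules, S.ShortExact → Coh.IsCoh S.X₁ → Coh.IsCoh S.X₂ →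
        Coh.IsCoh S.X₃ → (J₁ S.X₂ ↔ J₁ S.X₁ ∧ J₁ S.X₃)) → (∀ S : ShortComplex X.Modules, S.ShortExact → Coh.IsCoh S.X₁ → Coh.IsCoh S.X₂ →
        Coh.IsCoh S.X₃ → (J₂ S.X₂ ↔ J₂ S.X₁ ∧ J₂ S.X₃)) →
      (∀ M : X.Modules, Coh.IsCoh M → J₁ M → CohB1.support M ⊆ (↑Z : Set X)) →
      (∀ M : X.Modules, Coh.IsCoh M → J₂ M → CohB1.support M ⊆ (↑Z : Set X)) →
      (∀ Q : ObjectProperty X.Modules, (∀ S : ShortComplex X.Modules, S.ShortExact → Coh.IsCoh S.X₁ → Coh.IsCoh S.X₂ →
        Coh.IsCoh S.X₃ → (Q S.X₂ ↔ Q S.X₁ ∧ Q S.X₃)) →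
        (∀ M : X.Modules, Coh.IsCoh M → J₁ M → Q M) → (∀ M : X.Modules, Coh.IsCoh M → J₂ M → Q M) →
        ∀ M : X.Modules, Coh.IsCoh M → CohB1.support M ⊆ (↑Z : Set X) → Q M) →
      (∀ M : X.Modules, Coh.IsCoh M → CohB1.support M ⊆ (↑Z : Set X) → J₁ M) ∨
        (∀ M : X.Modules, Coh.IsCoh M → CohB1.support M ⊆ (↑Z : Set X) → J₂ M) := by
  open Groth.Agent.Lib.Helper49.SerreGen Groth.Agent.Lib.Helper49.QuotModStalk
    Groth.Agent.Lib.Helper45.NowhereDense Groth.Agent.Lib.Helper45.GraphTrick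
    Groth.Agent.Lib.Helper45.DevCore
    CategoryTheory.Limits in
  have hT : ∀ Z : TopologicalSpace.Closeds X,
      CohB1.support (ClSub.quotMod (Scheme.IdealSheafData.vanishingIdeal Z)) = (↑Z : Set X) := by
    intro Z
    rw [support_quotMod, Scheme.IdealSheafData.coe_support_vanishingIdeal]
  constructor
  · intro hpre J₁ J₂ hJ₁ hJ₂ h1 h2 hgen
    -- the union of the supports of the members of `J₁`, `J₂`
    let W : Set X := {x | ∃ M : X.Modules, Coh.IsCoh M ∧ (J₁ M ∨ J₂ M) ∧ x ∈ CohB1.support M}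
    let Q : ObjectProperty X.Modules := fun N =>
      CohB1.support N ⊆ W ∧ ∃ M : X.Modules, Coh.IsCoh M ∧ (J₁ M ∨ J₂ M)
    have hQ : ∀ S : ShortComplex X.Modules, S.ShortExact → Coh.IsCoh S.X₁ → Coh.IsCoh S.X₂ →
        Coh.IsCoh S.X₃ → (Q S.X₂ ↔ Q S.X₁ ∧ Q S.X₃) := by
      intro S hS _ _ _
      have := support_subset_iff_of_shortExact S hS W
      constructor
      · rintro ⟨h, hex⟩
        exact ⟨⟨(this.mp h).1, hex⟩, ⟨(this.mp h).2, hex⟩⟩
      · rintro ⟨⟨ha, hex⟩, ⟨hb, -⟩⟩
        exact ⟨this.mpr ⟨ha, hb⟩, hex⟩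
    have hQT := hgen Q hQ (fun M hM hJ => ⟨fun x hx => ⟨M, hM, Or.inl hJ, hx⟩, ⟨M, hM, Or.inl hJ⟩⟩)
      (fun M hM hJ => ⟨fun x hx => ⟨M, hM, Or.inr hJ, hx⟩, ⟨M, hM, Or.inr hJ⟩⟩)
      (ClSub.quotMod (Scheme.IdealSheafData.vanishingIdeal Z)) (isCoh_quotMod _) (hT Z).le
    rw [show Q (ClSub.quotMod (Scheme.IdealSheafData.vanishingIdeal Z)) =
      (CohB1.support (ClSub.quotMod (Scheme.IdealSheafData.vanishingIdeal Z)) ⊆ W ∧
        ∃ M : X.Modules, Coh.IsCoh M ∧ (J₁ M ∨ J₂ M)) from rfl, hT Z] at hQT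
    obtain ⟨hZW, M₀, hM₀, hJM₀⟩ := hQT
    -- a member whose support contains `Z`
    obtain ⟨M, hM, hJM, hZM⟩ : ∃ M : X.Modules, Coh.IsCoh M ∧ (J₁ M ∨ J₂ M) ∧
        (↑Z : Set X) ⊆ CohB1.support M := by
      by_cases hne : (↑Z : Set X).Nonempty
      · obtain ⟨ξ, hξ⟩ := QuasiSober.sober (⟨hne, hpre⟩ : IsIrreducible (↑Z : Set X)) Z.isClosed
        obtain ⟨M, hM, hJM, hξM⟩ := hZW hξ.mem
        refine ⟨M, hM, hJM, ?_⟩
        have hclosed : IsClosed (CohB1.support M) :=
          Groth.Agent.Lib.Helper1.isClosed_support_of_isFiniteType M hM.2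
        rw [← hξ.def]
        exact hclosed.closure_subset_iff.mpr (Set.singleton_subset_iff.mpr hξM)
      · refine ⟨M₀, hM₀, hJM₀, ?_⟩
        rw [Set.not_nonempty_iff_eq_empty.mp hne]
        exact Set.empty_subset _
    rcases hJM with hJ | hJ
    · left
      intro N hN hNZ
      exact of_support_subset (P := J₁) hJ₁ M N hM hN hJ (hNZ.trans hZM)
    · right
      intro N hN hNZ
      exact of_support_subset (P := J₂) hJ₂ M N hM hN hJ (hNZ.trans hZM)
  · intro h
    rw [isPreirreducible_iff_isClosed_union_isClosed]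
    intro z₁ z₂ hz₁ hz₂ hZz
    let Z₁ : TopologicalSpace.Closeds X := Z ⊓ ⟨z₁, hz₁⟩
    let Z₂ : TopologicalSpace.Closeds X := Z ⊓ ⟨z₂, hz₂⟩
    have hZ₁ : (↑Z₁ : Set X) = (↑Z : Set X) ∩ z₁ := rfl
    have hZ₂ : (↑Z₂ : Set X) = (↑Z : Set X) ∩ z₂ := rfl
    have key := h (fun M => CohB1.support M ⊆ (↑Z₁ : Set X))
      (fun M => CohB1.support M ⊆ (↑Z₂ : Set X))
      (isSerreCoh_support_subset _) (isSerreCoh_support_subset _)
      (fun M _ hM => hM.trans (hZ₁ ▸ Set.inter_subset_left))
      (fun M _ hM => hM.trans (hZ₂ ▸ Set.inter_subset_left)) ?_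
    · have hTZ := hT Z
      rcases key with hk | hk
      · left
        have := hk _ (isCoh_quotMod _) (hT Z).le
        rw [hT Z, hZ₁] at this
        exact this.trans Set.inter_subset_right
      · right
        have := hk _ (isCoh_quotMod _) (hT Z).le
        rw [hT Z, hZ₂] at this
        exact this.trans Set.inter_subset_right
    · intro Q hQ hQ1 hQ2 M hM hMZ
      set T₁ := ClSub.quotMod (Scheme.IdealSheafData.vanishingIdeal Z₁) with hT₁
      set T₂ := ClSub.quotMod (Scheme.IdealSheafData.vanishingIdeal Z₂) with hT₂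
      have c1 : Coh.IsCoh T₁ := isCoh_quotMod _
      have c2 : Coh.IsCoh T₂ := isCoh_quotMod _
      have q1 : Q T₁ := hQ1 T₁ c1 (hT Z₁).le
      have q2 : Q T₂ := hQ2 T₂ c2 (hT Z₂).le
      have c12 : Coh.IsCoh (T₁ ⊞ T₂) := isCoh_biprod c1 c2
      have hse := (ShortComplex.Splitting.ofHasBinaryBiproduct T₁ T₂).shortExact
      have q12 : Q (T₁ ⊞ T₂) := (hQ _ hse c1 c12 c2).mpr ⟨q1, q2⟩
      refine of_support_subset (P := Q) hQ (T₁ ⊞ T₂) M c12 hM q12 ?_
      intro x hx
      have hxZ := hMZ hx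
      rcases hZz hxZ with hx1 | hx2
      · have : x ∈ CohB1.support T₁ := by
          rw [hT Z₁, hZ₁]
          exact ⟨hxZ, hx1⟩
        exact support_subset_of_mono (biprod.inl : T₁ ⟶ T₁ ⊞ T₂) this
      · have : x ∈ CohB1.support T₂ := by
          rw [hT Z₂, hZ₂]
          exact ⟨hxZ, hx2⟩
        exact support_subset_of_epi (biprod.snd : T₁ ⊞ T₂ ⟶ T₂) this

end Groth.Agent.S13991
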