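import Groth.Statements.S13993
import Mathlib
import Groth.Agent.Lib.Helper63.ExtNode
-- import your own Groth.Agent.* helpers here

set_option autoImplicit false
universe u
open CategoryTheory
open CAlg

namespace Groth.Agent.S13993

open Groth.Agent.Lib.Helper63

section aux
variable (k : Type u) [Field k]

local notation "P" => MvPowerSeries (Fin 2) k
local notation "I₀" => Ideal.span {(MvPowerSeries.X (0 : Fin 2) : P) * MvPowerSeries.X (1 : Fin 2)}

lemma decomp (f : P) (hf : MvPowerSeries.constantCoeff f = 0) :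
    ∃ g h : P, f = MvPowerSeries.X 0 * g + MvPowerSeries.X 1 * h := by
  classical
  let h : P := fun m => if m 0 = 0 then MvPowerSeries.coeff m f else 0
  have hcoeff : ∀ m, MvPowerSeries.coeff m h = if m 0 = 0 then MvPowerSeries.coeff m f else 0 :=
    fun m => rfl
  have h0 : (MvPowerSeries.X 0 : P) ∣ f - h := by
    rw [MvPowerSeries.X_dvd_iff]
    intro m hm
    rw [map_sub, hcoeff, if_pos hm, sub_self]
  have h1 : (MvPowerSeries.X 1 : P) ∣ h := by
    rw [MvPowerSeries.X_dvd_iff]
    intro m hm
    rw [hcoeff]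
    split_ifs with hm0
    · have : m = 0 := by
        ext i
        fin_cases i
        · exact hm0
        · exact hm
      rw [this]
      exact hf
    · rfl
  obtain ⟨g, hg⟩ := h0
  obtain ⟨h', hh'⟩ := h1
  exact ⟨g, h', by rw [← hg, ← hh']; ring⟩

/-- the augmentation of the node ring -/
noncomputable def ε : (P ⧸ I₀) →+* k :=
  Ideal.Quotient.lift I₀ (MvPowerSeries.constantCoeff (σ := Fin 2) (R := k)) (by
    intro a ha
    rw [Ideal.mem_span_singleton'] at ha
    obtain ⟨b, rfl⟩ := ha
    simp)

end aux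


/-- Let k be a field and A = k[[x,y]]/(xy) the complete local ring of a node, with branch rings A/(y)
and A/(x) viewed as A-modules. Then the first Ext group Ext¹_A(A/(y), A/(x)) has dimension one over
k. (The published statement is for the local ring at a node of a reduced curve over an algebraically
closed field of characteristic zero, a node being a point whose complete local ring is A; this row
states the case of the complete local ring A itself, over an arbitrary field.) -/
theorem result (k : Type u) [Field k] : Module.finrank k (Abelian.Ext (ModuleCat.of (MvPowerSeries (Fin 2) k ⧸ Ideal.span {(MvPowerSeries.X (0 : Fin 2) : MvPowerSeries (Fin 2) k) * MvPowerSeries.X (1 : Fin 2)}) ((MvPowerSeries (Fin 2) k ⧸ Ideal.span {(MvPowerSeries.X (0 : Fin 2) : MvPowerSeries (Fin 2) k) * MvPowerSeries.X (1 : Fin 2)}) ⧸ Ideal.span {Ideal.Quotient.mk (Ideal.span {(MvPowerSeries.X (0 : Fin 2) : MvPowerSeries (Fin 2) k) * MvPowerSeries.X (1 : Fin 2)}) (MvPowerSeries.X (1 : Fin 2))})) (ModuleCat.of (MvPowerSeries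 (Fin 2) k ⧸ Ideal.span {(MvPowerSeries.X (0 : Fin 2) : MvPowerSeries (Fin 2) k) * MvPowerSeries.X (1 : Fin 2)}) ((MvPowerSeries (Fin 2) k ⧸ Ideal.span {(MvPowerSeries.X (0 : Fin 2) : MvPowerSeries (Fin 2) k) * MvPowerSeries.X (1 : Fin 2)}) ⧸ Ideal.span {Ideal.Quotient.mk (Ideal.span {(MvPowerSeries.X (0 : Fin 2) : MvPowerSeries (Fin 2) k) * MvPowerSeries.X (1 : Fin 2)}) (MvPowerSeries.X (0 : Fin 2))})) 1) = 1 := by
  refine ExtNode.finrank_ext_one (k := k)
    (Ideal.Quotient.mk _ (MvPowerSeries.X (0 : Fin 2))) (Ideal.Quotient.mk _ (MvPowerSeries.X (1 : Fin 2)))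
    (ε k) ?_ ?_ ?_ ?_ ?_ ?_
  · rw [← map_mul, Ideal.Quotient.eq_zero_iff_mem]
    exact Ideal.subset_span rfl
  · intro a ha
    obtain ⟨f, rfl⟩ := Ideal.Quotient.mk_surjective a
    rw [← map_mul, Ideal.Quotient.eq_zero_iff_mem, Ideal.mem_span_singleton'] at ha
    obtain ⟨g, hg⟩ := ha
    have hX1 : (MvPowerSeries.X (1 : Fin 2) : MvPowerSeries (Fin 2) k) ≠ 0 := by
      intro h0
      have := congrArg (MvPowerSeries.coeff (Finsupp.single (1 : Fin 2) 1)) h0
      rw [MvPowerSeries.coeff_index_single_self_X] at this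
      simp at this
    have : f = g * MvPowerSeries.X 0 := by
      apply mul_right_cancel₀ hX1
      rw [← hg]; ring
    rw [this, map_mul]
    exact Ideal.mul_mem_left _ _ (Ideal.subset_span rfl)
  · intro c
    have h1 : algebraMap k (MvPowerSeries (Fin 2) k ⧸ Ideal.span
        {(MvPowerSeries.X (0 : Fin 2) : MvPowerSeries (Fin 2) k) * MvPowerSeries.X (1 : Fin 2)}) c =
        Ideal.Quotient.mk _ (MvPowerSeries.C c) := rfl
    rw [h1]
    simp [ε]
  · simp [ε]
  · simp [ε]
  · intro a ha
    obtain ⟨f, rfl⟩ := Ideal.Quotient.mk_surjective a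
    have hf : MvPowerSeries.constantCoeff f = 0 := by simpa [ε] using ha
    obtain ⟨g, h, rfl⟩ := decomp k f hf
    rw [Ideal.mem_span_pair]
    exact ⟨Ideal.Quotient.mk _ g, Ideal.Quotient.mk _ h, by simp [mul_comm]⟩

end Groth.Agent.S13993
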