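import Groth.Statements.S13994
import Mathlib
import Groth.Agent.Lib.Helper98.HypersurfaceTor
import Groth.Agent.Lib.Helper85.RegularLocal

set_option autoImplicit false
universe u
open CategoryTheory
open CAlg

namespace Groth.Agent.S13994

/-- Let S be a regular local ring of Krull dimension two, f a non-zero element of S and R the quotient
of S by f, assumed reduced. Let M and N be finitely generated R-modules, each admitting a
non-zero-divisor in the maximal ideal of R, annihilated by ideals I and J respectively, where I + J
contains a power of the maximal ideal. Then Tor₁^R(M, Hom_R(N, R)) = 0. (The published claim is made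
for the stalks at a common point of two subcurves without common component of a reduced projective
curve over a characteristic-zero algebraically closed field, the point being a planar singularity,
and the stalks of torsion-free sheaves supported on them; this row states it over an arbitrary
two-dimensional regular local ring. Tor is computed by resolving the second argument.) -/
theorem result (S : Type u) [CommRing S] [IsRegularLocalRing S] (hS : ringKrullDim S = 2) (f : S) (hf : f ≠ 0) (R : Type u) [CommRing R] [IsLocalRing R] [IsReduced R] (π : S →+* R) (hπ : Function.Surjective π) (hker : RingHom.ker π = Ideal.span {f}) (I J : Ideal R) (n : ℕ) (hIJ : IsLocalRing.maximalIdeal R ^ n ≤ I ⊔ J) (M N : Type u) [AddCommGroup M] [Module R M] [Module.Finite R M] [AddCommGroup N] [Module R N] [Module.Finite R N] (hI : I ≤ Module.annihilator R M) (hJ : J ≤ Module.annihilator R N) (x : R) (hx : x ∈ IsLocalRing.maximalIdeal R) (hxM : IsSMulRegular M x) (y : R) (hy : y ∈ IsLocalRing.maximalIdeal R) (hyN : IsSMulRegular N y) : Limits.IsZero (((Tor (ModuleCat.{u} R) 1).obj (ModuleCat.of R M)).obj (ModuleCat.of R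 (Module.Dual R N))) := by
  haveI : IsDomain S := Groth.Agent.Lib.Helper85.isDomain_of_isRegularLocalRing S
  obtain ⟨x', rfl⟩ := hπ x
  have hx' : x' ∈ IsLocalRing.maximalIdeal S := by
    by_contra h
    have h1 : IsUnit x' := IsLocalRing.notMem_maximalIdeal.mp h
    exact (IsLocalRing.mem_maximalIdeal _).mp hx (h1.map π)
  obtain ⟨a, b, p, α, β, hp, hα, hβ, hex⟩ :=
    Groth.Agent.Lib.Helper98.HypersurfacePeriod.exists_period π hS hπ f hf hker M x' hx' hxM
  refine Groth.Agent.Lib.Helper98.HypersurfaceTor.tor_one_isZero_of_rTensor_injective p hp ?_
  refine Groth.Agent.Lib.Helper98.HypersurfaceTor.rTensor_dual_injective_of_period p α β hβ hex ?_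
  intro g hg
  ext1 v
  obtain ⟨m, hm⟩ := hg v
  have h1 : (π x') ^ n ∈ I ⊔ J := hIJ (Ideal.pow_mem_pow hx n)
  obtain ⟨i, hi, j, hj, hij⟩ := Submodule.mem_sup.mp h1
  have hjm : j • m = 0 := by
    apply hα
    rw [map_smul, hm, ← map_smul, Module.mem_annihilator.mp (hJ hj) v, map_zero, map_zero]
  have h2 : (π x') ^ n • m = 0 := by
    rw [← hij, add_smul, Module.mem_annihilator.mp (hI hi) m, hjm, add_zero]
  have h3 := hxM.pow n
  have hm0 : m = 0 := h3 (by simpa using h2)
  rw [← hm, hm0, map_zero, LinearMap.zero_apply]

end Groth.Agent.S13994
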