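import Groth.Statements.S13995
import Mathlib

set_option autoImplicit false
universe u
open CAlg

namespace Groth.Agent.S13995


section helpers
variable (R : Type u) [CommRing R] [IsNoetherianRing R] [IsReduced R]
  (M : Type u) [AddCommGroup M] [Module R M]
  (Q : Type u) [AddCommGroup Q] [Module R Q]

/-- at a minimal prime in the support of `Q`, the localized map is injective. -/
theorem loc_injective (p : PrimeSpectrum R) (hp : p.asIdeal ∈ minimalPrimes R)
    (hrk : Module.finrank (Localization.AtPrime p.asIdeal)
      (LocalizedModule p.asIdeal.primeCompl M) = 1)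
    (hsupp : p ∈ Module.support R Q)
    (g : M →ₗ[R] Q) (hg : Function.Surjective g) (m : M) (hm : g m = 0) :
    LocalizedModule.mkLinearMap p.asIdeal.primeCompl M m = 0 := by
  have : Ring.KrullDimLE 0 (Localization.AtPrime p.asIdeal) := .of_isLocalization _ hp _
  let : Field (Localization.AtPrime p.asIdeal) := Ring.KrullDimLE.isField_of_isReduced.toField
  have hnt : Nontrivial (LocalizedModule p.asIdeal.primeCompl Q) := Module.mem_support_iff.mp hsupp
  let G0 : LocalizedModule p.asIdeal.primeCompl M →ₗ[R] LocalizedModule p.asIdeal.primeCompl Q :=
    IsLocalizedModule.map p.asIdeal.primeCompl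
      (LocalizedModule.mkLinearMap p.asIdeal.primeCompl M)
      (LocalizedModule.mkLinearMap p.asIdeal.primeCompl Q) g
  have hG0 : Function.Surjective G0 := IsLocalizedModule.map_surjective _ _ _ g hg
  let G : LocalizedModule p.asIdeal.primeCompl M →ₗ[Localization.AtPrime p.asIdeal]
      LocalizedModule p.asIdeal.primeCompl Q :=
    G0.extendScalarsOfIsLocalization p.asIdeal.primeCompl (Localization.AtPrime p.asIdeal)
  have hGG0 : ∀ x, G x = G0 x := fun x => rfl
  obtain ⟨v, hv0, hv⟩ := finrank_eq_one_iff'.mp hrk
  have hGv : G v ≠ 0 := by
    intro hGv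
    obtain ⟨y, hy⟩ := exists_ne (0 : LocalizedModule p.asIdeal.primeCompl Q)
    obtain ⟨w, hw⟩ := hG0 y
    obtain ⟨c, hc⟩ := hv w
    apply hy
    rw [← hw, ← hGG0, ← hc, map_smul, hGv, smul_zero]
  obtain ⟨c, hc⟩ := hv (LocalizedModule.mkLinearMap p.asIdeal.primeCompl M m)
  have h1 : G (LocalizedModule.mkLinearMap p.asIdeal.primeCompl M m) = 0 := by
    rw [hGG0]
    show IsLocalizedModule.map _ _ _ g _ = 0
    rw [IsLocalizedModule.map_apply, hm, map_zero]
  rw [← hc, map_smul, smul_eq_zero] at h1
  rcases h1 with h1 | h1
  · rw [← hc, h1, zero_smul]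
  · exact absurd h1 hGv


omit [IsReduced R] in
/-- if all associated primes of `Q` are minimal and `q` vanishes at all minimal primes of the
support, then `q = 0`. -/
theorem eq_zero_of_loc (hQ : associatedPrimes R Q ⊆ minimalPrimes R) (q : Q)
    (hq : ∀ p : PrimeSpectrum R, p.asIdeal ∈ minimalPrimes R → p ∈ Module.support R Q →
      LocalizedModule.mkLinearMap p.asIdeal.primeCompl Q q = 0) : q = 0 := by
  by_contra hne
  obtain ⟨P, hP, hle⟩ := exists_le_isAssociatedPrime_of_isNoetherianRing R q hne
  have hPprime : P.IsPrime := hP.1
  have hPmin : P ∈ minimalPrimes R := hQ hP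
  let p : PrimeSpectrum R := ⟨P, hPprime⟩
  have hann : ∀ r : R, r • q = 0 → r ∈ P := fun r hr =>
    hle (Submodule.mem_colon_singleton.mpr (by simpa using hr))
  have hsupp : p ∈ Module.support R Q := by
    rw [Module.mem_support_iff']
    exact ⟨q, fun r hr h0 => hr (hann r h0)⟩
  have h0 := hq p hPmin hsupp
  rw [LocalizedModule.mkLinearMap_apply, ← LocalizedModule.zero_mk 1, LocalizedModule.mk_eq] at h0
  obtain ⟨u, hu⟩ := h0
  simp only [one_smul, smul_zero] at hu
  exact u.2 (hann u.1 hu)

end helpers



/-- Let R be a reduced Noetherian ring, M a finitely generated R-module all of whose associated primes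
are minimal primes of R and whose localization at each minimal prime p is one-dimensional over the
field R_p, and let g : M → Q be a surjection onto a finitely generated R-module Q all of whose
associated primes are minimal primes of R. Then the kernel of g is the intersection, over the
minimal primes p of R lying in the support of Q, of the kernels of the localization maps M → M_p.
(The published statement is for a torsion-free coherent sheaf F of uniform rank one on a reduced
connected projective curve over a characteristic-zero algebraically closed field: its non-zero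
torsion-free quotients are exactly the maximal torsion-free quotients F_D of the restrictions of F
to subcurves D; this row is the corresponding statement for modules over a reduced Noetherian ring,
a subcurve being a set of minimal primes, and identifies each torsion-free quotient with F_D for D
the set of generic points of its support.) -/
theorem result (R : Type u) [CommRing R] [IsNoetherianRing R] [IsReduced R] (M : Type u) [AddCommGroup M] [Module R M] [Module.Finite R M] (hM : associatedPrimes R M ⊆ minimalPrimes R) (hrk : ∀ p : PrimeSpectrum R, p.asIdeal ∈ minimalPrimes R → Module.finrank (Localization.AtPrime p.asIdeal) (LocalizedModule p.asIdeal.primeCompl M) = 1) (Q : Type u) [AddCommGroup Q] [Module R Q] [Module.Finite R Q] (hQ : associatedPrimes R Q ⊆ minimalPrimes R) (g : M →ₗ[R] Q) (hg : Function.Surjective g) : LinearMap.ker g = ⨅ p ∈ {p : PrimeSpectrum R | p.asIdeal ∈ minimalPrimes R ∧ p ∈ Module.support R Q}, LinearMap.ker (LocalizedModule.mkLinearMap p.asIdeal.primeCompl M) := by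
  ext m
  simp only [LinearMap.mem_ker, Submodule.mem_iInf, Set.mem_setOf_eq]
  constructor
  · intro hm p hp
    exact loc_injective R M Q p hp.1 (hrk p hp.1) hp.2 g hg m hm
  · intro hm
    apply eq_zero_of_loc R Q hQ (g m)
    intro p hpmin hpsupp
    have h1 := hm p ⟨hpmin, hpsupp⟩
    have h2 := IsLocalizedModule.map_apply p.asIdeal.primeCompl
      (LocalizedModule.mkLinearMap p.asIdeal.primeCompl M)
      (LocalizedModule.mkLinearMap p.asIdeal.primeCompl Q) g m
    rw [h1, map_zero] at h2
    exact h2.symm

end Groth.Agent.S13995
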