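import Groth.Statements.S13996
import Mathlib.Tactic
import Mathlib.RingTheory.Ideal.Height
import Mathlib.RingTheory.Ideal.KrullsHeightTheorem
import Mathlib.RingTheory.Ideal.AssociatedPrime.Basic
import Mathlib.RingTheory.Regular.IsSMulRegular
import Mathlib.RingTheory.Ideal.MinimalPrime.Localization
import Mathlib.RingTheory.Ideal.MinimalPrime.Noetherian

set_option autoImplicit false
universe u
open CAlg

namespace Groth.Agent.S13996

section aux

variable {R : Type u} [CommRing R] [IsLocalRing R] [IsNoetherianRing R]

theorem height_maximalIdeal_eq_one (hdim : ringKrullDim R = 1) :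
    (IsLocalRing.maximalIdeal R).height = 1 := by
  have := IsLocalRing.maximalIdeal_height_eq_ringKrullDim (R := R)
  rw [hdim] at this
  exact_mod_cast this

/-- In a reduced Noetherian local ring of dimension one there is a regular element in the maximal
ideal. -/
theorem exists_regular_mem_maximalIdeal [IsReduced R] (hdim : ringKrullDim R = 1) :
    ∃ x : R, x ∈ IsLocalRing.maximalIdeal R ∧ IsSMulRegular R x := by
  classical
  have hfin := minimalPrimes.finite_of_isNoetherianRing R
  have hne : ¬ ((IsLocalRing.maximalIdeal R : Set R) ⊆
      ⋃ p ∈ (hfin.toFinset : Set (Ideal R)), ((id p : Ideal R) : Set R)) := by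
    intro hsub
    rw [Ideal.subset_union_prime (f := id) ⊥ ⊥
      (fun p hp _ _ => (hfin.mem_toFinset.mp hp).1.1)] at hsub
    obtain ⟨p, hp, hle⟩ := hsub
    have hpmin : p ∈ minimalPrimes R := hfin.mem_toFinset.mp hp
    have hpprime : p.IsPrime := hpmin.1.1
    have hpm : p = IsLocalRing.maximalIdeal R :=
      le_antisymm (IsLocalRing.le_maximalIdeal hpprime.ne_top) hle
    have h0 : (IsLocalRing.maximalIdeal R).height = 0 :=
      Ideal.height_eq_zero_iff.mpr (hpm ▸ hpmin)
    rw [height_maximalIdeal_eq_one hdim] at h0
    exact one_ne_zero h0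
  obtain ⟨x, hxm, hx⟩ := Set.not_subset.mp hne
  refine ⟨x, hxm, ?_⟩
  intro a b hab
  have hab' : x * (a - b) = 0 := by
    simp only [smul_eq_mul] at hab
    rw [mul_sub, hab, sub_self]
  have hmem : a - b ∈ sInf (minimalPrimes R) := by
    rw [Ideal.mem_sInf]
    intro p hp
    have hpprime : p.IsPrime := hp.1.1
    have hxp : x ∉ p := fun hxp =>
      hx (Set.mem_iUnion₂.mpr ⟨p, hfin.mem_toFinset.mpr hp, hxp⟩)
    have : x * (a - b) ∈ p := hab' ▸ p.zero_mem
    exact (hpprime.mem_or_mem this).resolve_left hxp
  have hrad : sInf (minimalPrimes R) = ⊥ := by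
    rw [minimalPrimes, Ideal.sInf_minimalPrimes]
    exact nilradical_eq_zero R
  rw [hrad, Ideal.mem_bot] at hmem
  exact sub_eq_zero.mp hmem

end aux

/-- Let R be a reduced Noetherian local ring of Krull dimension one with maximal ideal m, and M a
non-zero finitely generated R-module. Then M is torsion-free in the sense that no element of m which
is a non-zero-divisor on R is a zero-divisor on M, if and only if M has depth one, i.e. some element
of m is a non-zero-divisor on M. (The published statement is for a non-zero coherent sheaf F on a
connected reduced projective curve over a characteristic-zero algebraically closed field and asserts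
the equivalence of: F torsion-free in the above sense at every closed point; F pure of dimension
one; depth of F_p equal to one at every closed point p. This row is the equivalence of the first and
third conditions at a single closed point p with F_p ≠ 0; at points outside the support the third
condition as published cannot hold, so the row assumes the stalk non-zero.) -/
theorem result (R : Type u) [CommRing R] [IsLocalRing R] [IsNoetherianRing R] [IsReduced R] (hdim : ringKrullDim R = 1) (M : Type u) [AddCommGroup M] [Module R M] [Module.Finite R M] [Nontrivial M] : (∀ r : R, r ∈ IsLocalRing.maximalIdeal R → IsSMulRegular R r → IsSMulRegular M r) ↔ (∃ x : R, x ∈ IsLocalRing.maximalIdeal R ∧ IsSMulRegular M x) := by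
  constructor
  · intro h
    obtain ⟨x, hxm, hx⟩ := exists_regular_mem_maximalIdeal (R := R) hdim
    exact ⟨x, hxm, h x hxm hx⟩
  · rintro ⟨x, hxm, hx⟩ r hrm hr
    by_contra hnot
    have hr' : r ∈ ({r : R | IsSMulRegular M r})ᶜ := hnot
    rw [← biUnion_associatedPrimes_eq_compl_regular R M] at hr'
    obtain ⟨p, hp, hrp⟩ := Set.mem_iUnion₂.mp hr'
    have hpprime : p.IsPrime := IsAssociatedPrime.isPrime hp
    have hxp : x ∉ p := by
      intro hxp
      have : x ∈ ⋃ p ∈ associatedPrimes R M, (p : Set R) := Set.mem_iUnion₂.mpr ⟨p, hp, hxp⟩
      rw [biUnion_associatedPrimes_eq_compl_regular R M] at this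
      exact this hx
    have hlt : p < IsLocalRing.maximalIdeal R :=
      lt_of_le_of_ne (IsLocalRing.le_maximalIdeal hpprime.ne_top) (fun h => hxp (h ▸ hxm))
    have hht : p.height < (IsLocalRing.maximalIdeal R).height :=
      Ideal.height_strict_mono_of_isPrime_of_isPrime hlt
    rw [height_maximalIdeal_eq_one hdim] at hht
    have hp0 : p.height = 0 := Order.lt_one_iff.mp hht
    have hpmin : p ∈ minimalPrimes R := Ideal.height_eq_zero_iff.mp hp0
    have hdisj := Ideal.disjoint_nonZeroDivisors_of_mem_minimalPrimes hpmin
    have hrnzd : r ∈ nonZeroDivisors R :=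
      (isLeftRegular_iff_isRegular.mp (isLeftRegular_iff.mpr hr)).mem_nonZeroDivisors
    exact Set.disjoint_left.mp hdisj hrp hrnzd

end Groth.Agent.S13996
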