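import Groth.Statements.S13997
import Groth.Agent.Lib.Helper18.ThickFG

set_option autoImplicit false
universe u
open FlatMor

namespace Groth.Agent.S13997

open AlgebraicGeometry CategoryTheory in
/-- Consider a commutative square of schemes F₀ ≫ j = i ≫ F in which i : Y₀ ⟶ Y and j : X₀ ⟶ X are
closed immersions surjective on points whose ideals are locally nilpotent (nilpotent on every affine
open), and suppose moreover that the ideal of i is of finite type (finitely generated on every
affine open of Y). Then F : Y ⟶ X is locally of finite type if and only if F₀ : Y₀ ⟶ X₀ is. The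
square is not assumed cartesian and the ideal of j need not be of finite type. (The published
statement also asserts the version for morphisms of finite type; that version follows from this one,
because quasi-compactness of a morphism transfers along closed immersions surjective on points, and
it is not restated here.) -/
theorem result {X X₀ Y Y₀ : Scheme.{u}}
    (F : Y ⟶ X) (F₀ : Y₀ ⟶ X₀) (i : Y₀ ⟶ Y) (j : X₀ ⟶ X)
    (hi : MoreMor.IsThickening i) (hj : MoreMor.IsThickening j)
    (hinil : ∀ U : Y.affineOpens, IsNilpotent (i.ker.ideal U))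
    (hjnil : ∀ U : X.affineOpens, IsNilpotent (j.ker.ideal U))
    (hfg : ∀ U : Y.affineOpens, (i.ker.ideal U).FG)
    (w : F₀ ≫ j = i ≫ F) :
    LocallyOfFiniteType F ↔ LocallyOfFiniteType F₀ := by
  obtain ⟨hjcl, hjsurj⟩ := hj
  obtain ⟨hicl, hisurj⟩ := hi
  -- the common affine-local setup
  have setup : ∀ (U : X.affineOpens) (V : Y.affineOpens) (e : V.1 ≤ F ⁻¹ᵁ U.1),
      ∃ (e₀ : i ⁻¹ᵁ V.1 ≤ F₀ ⁻¹ᵁ (j ⁻¹ᵁ U.1)),
        (i.app V.1).hom.comp (F.appLE U.1 V.1 e).hom =
          (F₀.appLE (j ⁻¹ᵁ U.1) (i ⁻¹ᵁ V.1) e₀).hom.comp (j.app U.1).hom := by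
    intro U V e
    have e₀ : i ⁻¹ᵁ V.1 ≤ F₀ ⁻¹ᵁ (j ⁻¹ᵁ U.1) := by
      intro x hx
      have h1 : F (i x) ∈ U.1 := e hx
      have h2 : F (i x) = j (F₀ x) := by
        rw [← Scheme.Hom.comp_apply, ← Scheme.Hom.comp_apply, w]
      rw [h2] at h1
      exact h1
    refine ⟨e₀, ?_⟩
    rw [← CommRingCat.hom_comp, ← CommRingCat.hom_comp]
    congr 1
    rw [← Scheme.Hom.appLE_eq_app, ← Scheme.Hom.appLE_eq_app, Scheme.Hom.appLE_comp_appLE,
      Scheme.Hom.appLE_comp_appLE]
    exact Groth.Agent.Lib.Helper18.appLE_congr_hom' w.symm _ _ _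
  constructor
  · intro h
    have hQ : RingHom.StableUnderCompositionWithLocalizationAwaySource @RingHom.FiniteType := by
      intro R S T _ _ _ _ r _ f hf
      exact hf.comp (RingHom.finiteType_holdsForLocalizationAway S r)
    rw [HasRingHomProperty.iff_exists_appLE (P := @LocallyOfFiniteType) hQ]
    intro y₀
    obtain ⟨U, hU, hxU, -⟩ := TopologicalSpace.Opens.isBasis_iff_nbhd.mp X.isBasis_affineOpens
      (show F (i y₀) ∈ (⊤ : X.Opens) from trivial)
    obtain ⟨V, hV, hxV, e⟩ := TopologicalSpace.Opens.isBasis_iff_nbhd.mp Y.isBasis_affineOpens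
      (show i y₀ ∈ F ⁻¹ᵁ U from hxU)
    obtain ⟨e₀, hcomp⟩ := setup ⟨U, hU⟩ ⟨V, hV⟩ e
    refine ⟨⟨j ⁻¹ᵁ U, hU.preimage j⟩, ⟨i ⁻¹ᵁ V, hV.preimage i⟩, hxV, e₀, ?_⟩
    have h1 : ((i.app V).hom.comp (F.appLE U V e).hom).FiniteType :=
      RingHom.FiniteType.comp (RingHom.FiniteType.of_surjective _ (i.app_surjective V hV))
        (HasRingHomProperty.appLE (P := @LocallyOfFiniteType) _ h ⟨U, hU⟩ ⟨V, hV⟩ e)
    rw [hcomp] at h1
    exact RingHom.FiniteType.of_comp_finiteType h1
  · intro h
    rw [HasRingHomProperty.iff_appLE (P := @LocallyOfFiniteType)]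
    intro U V e
    obtain ⟨e₀, hcomp⟩ := setup U V e
    refine Groth.Agent.Lib.Helper18.finiteType_of_fg_nilpotent_ker _ (i.app V.1).hom
      (i.app_surjective V.1 V.2) ?_ ?_ ?_
    · rw [← Scheme.Hom.ker_apply]; exact hfg V
    · rw [← Scheme.Hom.ker_apply]; exact hinil V
    · rw [hcomp]
      refine RingHom.FiniteType.comp ?_
        (RingHom.FiniteType.of_surjective _ (j.app_surjective U.1 U.2))
      exact HasRingHomProperty.appLE (P := @LocallyOfFiniteType) _ h ⟨_, U.2.preimage j⟩
        ⟨_, V.2.preimage i⟩ e₀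

end Groth.Agent.S13997
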