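import Groth.Statements.S14000
import Mathlib

set_option autoImplicit false
universe u
open Perf

namespace Groth.Agent.S14000

section helpers
open CategoryTheory CategoryTheory.Limits


theorem ker_of_surjective_projective {R : Type u} [CommRing R] [IsLocalRing R]
    {N P : Type u} [AddCommGroup N] [AddCommGroup P] [Module R N] [Module R P]
    [Module.Finite R N] [Module.Projective R N] [Module.Finite R P] [Module.Projective R P]
    (g : N →ₗ[R] P) (hg : Function.Surjective g) :
    Module.Finite R (LinearMap.ker g) ∧ Module.Projective R (LinearMap.ker g) ∧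
      Module.finrank R N = Module.finrank R (LinearMap.ker g) + Module.finrank R P := by
  obtain ⟨l, hl⟩ := Module.projective_lifting_property g (LinearMap.id : P →ₗ[R] P) hg
  obtain ⟨e, -, -⟩ := Function.Exact.splitSurjectiveEquiv (f := (LinearMap.ker g).subtype) (g := g)
    (LinearMap.exact_subtype_ker_map g) (Submodule.injective_subtype _) ⟨l, hl⟩
  have hproj : Module.Projective R (LinearMap.ker g × P) := Module.Projective.of_equiv e
  have hfin : Module.Finite R (LinearMap.ker g) :=
    Module.Finite.of_surjective ((LinearMap.fst R (LinearMap.ker g) P).comp e.toLinearMap)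
      ((LinearMap.fst_surjective (R := R) (M := LinearMap.ker g) (M₂ := P)).comp e.surjective)
  have hproj' : Module.Projective R (LinearMap.ker g) :=
    Module.Projective.of_split (LinearMap.inl R _ P) (LinearMap.fst R _ P) (by ext; simp)
  have hfree1 : Module.Free R (LinearMap.ker g) := Module.free_of_flat_of_isLocalRing
  have hfree2 : Module.Free R P := Module.free_of_flat_of_isLocalRing
  refine ⟨hfin, hproj', ?_⟩
  rw [e.finrank_eq, Module.finrank_prod]

section EP

variable {R : Type u} [CommRing R] [IsLocalRing R] (Q : CochainComplex (ModuleCat.{u} R) ℤ)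

/-- the cycles `ker d^i`. -/
def Z (i : ℤ) : Submodule R (Q.X i) := LinearMap.ker (Q.d i (i + 1)).hom

/-- "good" cycles -/
def T (i : ℤ) : Prop := Module.Finite R (Z Q i) ∧ Module.Projective R (Z Q i)

theorem T_of_subsingleton (i : ℤ) (h : Subsingleton (Q.X i)) : T Q i := by
  have : Subsingleton (Z Q i) := by
    constructor
    intro a b
    exact Subtype.ext (Subsingleton.elim _ _)
  exact ⟨inferInstance, inferInstance⟩

theorem step (hQ : ∀ i, Module.Finite R (Q.X i) ∧ Module.Projective R (Q.X i))
    (hex : ∀ i, Q.ExactAt i) (i : ℤ) (hT : T Q (i + 1)) :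
    T Q i ∧ Module.finrank R (Q.X i) =
      Module.finrank R (Z Q i) + Module.finrank R (Z Q (i + 1)) := by
  obtain ⟨h1, h2⟩ := hQ i
  obtain ⟨h3, h4⟩ := hT
  have hdd : ∀ m : Q.X i, (Q.d i (i + 1)).hom m ∈ Z Q (i + 1) := by
    intro m
    show (Q.d (i + 1) (i + 1 + 1)).hom ((Q.d i (i + 1)).hom m) = 0
    rw [← ModuleCat.comp_apply, Q.d_comp_d]
    rfl
  let g : Q.X i →ₗ[R] Z Q (i + 1) := (Q.d i (i + 1)).hom.codRestrict (Z Q (i + 1)) hdd
  have hg : Function.Surjective g := by
    rintro ⟨w, hw⟩
    have hexact := (Q.exactAt_iff' i (i + 1) (i + 1 + 1) (by simp) (by simp)).mp (hex (i + 1))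
    rw [ShortComplex.moduleCat_exact_iff] at hexact
    obtain ⟨m, hm⟩ := hexact w hw
    exact ⟨m, Subtype.ext hm⟩
  have hker : LinearMap.ker g = Z Q i := LinearMap.ker_codRestrict _ _ _
  obtain ⟨h5, h6, h7⟩ := ker_of_surjective_projective g hg
  rw [hker] at h5 h6 h7
  exact ⟨⟨h5, h6⟩, h7⟩


theorem T_all (hQ : ∀ i, Module.Finite R (Q.X i) ∧ Module.Projective R (Q.X i))
    (hex : ∀ i, Q.ExactAt i) (N : ℤ) (hN : ∀ i, N ≤ i → Subsingleton (Q.X i)) (i : ℤ) : T Q i := by
  have key : ∀ k : ℕ, T Q (N - k) := by
    intro k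
    induction k with
    | zero => exact T_of_subsingleton Q _ (hN _ (by simp))
    | succ k ih =>
      have h1 : N - ((k + 1 : ℕ) : ℤ) + 1 = N - (k : ℤ) := by push_cast; ring
      exact (step Q hQ hex (N - ((k + 1 : ℕ) : ℤ)) (by rw [h1]; exact ih)).1
  by_cases h : N ≤ i
  · exact T_of_subsingleton Q _ (hN i h)
  · have h2 : i = N - ((N - i).toNat : ℤ) := by omega
    rw [h2]
    exact key _

theorem finrank_Z_of_subsingleton (i : ℤ) (h : Subsingleton (Q.X i)) :
    Module.finrank R (Z Q i) = 0 := by
  have : Subsingleton (Z Q i) := by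
    constructor
    intro a b
    exact Subtype.ext (Subsingleton.elim _ _)
  exact Module.finrank_zero_of_subsingleton

theorem euler_zero (hQ : ∀ i, Module.Finite R (Q.X i) ∧ Module.Projective R (Q.X i))
    (hex : ∀ i, Q.ExactAt i) (s : Finset ℤ) (hs : ∀ i, i ∉ s → Subsingleton (Q.X i)) :
    (s.sum fun i => ((i.negOnePow : ℤˣ) : ℤ) * (Module.finrank R (Q.X i) : ℤ)) = 0 := by
  set N : ℕ := s.sup Int.natAbs + 1 with hNdef
  have hsN : ∀ i ∈ s, -(N : ℤ) < i ∧ i < N := by
    intro i hi
    have : i.natAbs ≤ s.sup Int.natAbs := Finset.le_sup (f := Int.natAbs) hi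
    omega
  have hout : ∀ i : ℤ, (N : ℤ) ≤ i → Subsingleton (Q.X i) := by
    intro i hi
    apply hs
    intro his
    have := (hsN i his).2
    omega
  have hform : ∀ i : ℤ, Module.finrank R (Q.X i) =
      Module.finrank R (Z Q i) + Module.finrank R (Z Q (i + 1)) :=
    fun i => (step Q hQ hex i (T_all Q hQ hex N hout (i + 1))).2
  let f : ℤ → ℤ := fun i => ((i.negOnePow : ℤˣ) : ℤ) * (Module.finrank R (Z Q i) : ℤ)
  have hterm : ∀ i : ℤ, ((i.negOnePow : ℤˣ) : ℤ) * (Module.finrank R (Q.X i) : ℤ) =
      f i - f (i + 1) := by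
    intro i
    simp only [f]
    rw [hform i, Int.negOnePow_succ]
    push_cast
    ring
  -- reindex
  let emb : ℕ ↪ ℤ := ⟨fun j => -(N : ℤ) + j, fun a b h => by simpa using h⟩
  have hsub : s ⊆ (Finset.range (2 * N)).map emb := by
    intro i hi
    obtain ⟨h1, h2⟩ := hsN i hi
    rw [Finset.mem_map]
    refine ⟨(i + N).toNat, ?_, ?_⟩
    · rw [Finset.mem_range]; omega
    · show -(N : ℤ) + ((i + N).toNat : ℤ) = i
      omega
  rw [Finset.sum_subset hsub, Finset.sum_map]
  · simp only [hterm]
    have := Finset.sum_range_sub' (fun j : ℕ => f (-(N : ℤ) + j)) (2 * N)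
    have h3 : ∀ j : ℕ, emb j + 1 = -(N : ℤ) + ((j + 1 : ℕ) : ℤ) := by
      intro j; show -(N : ℤ) + (j : ℤ) + 1 = _; push_cast; ring
    simp only [h3]
    show ∑ j ∈ Finset.range (2 * N), (f (-(N : ℤ) + (j : ℕ)) - f (-(N : ℤ) + ((j + 1 : ℕ) : ℤ))) = 0
    rw [this]
    have hz1 : f (-(N : ℤ) + ((0 : ℕ) : ℤ)) = 0 := by
      simp only [f]
      rw [finrank_Z_of_subsingleton Q _ (hs _ ?_)]
      · simp
      · intro h; have := (hsN _ h).1; omega
    have hz2 : f (-(N : ℤ) + ((2 * N : ℕ) : ℤ)) = 0 := by
      simp only [f]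
      rw [finrank_Z_of_subsingleton Q _ (hs _ ?_)]
      · simp
      · intro h; have := (hsN _ h).2; push_cast at this; omega
    rw [hz1, hz2, sub_zero]
  · intro i _ hi
    have : Subsingleton (Q.X i) := hs i hi
    rw [Module.finrank_zero_of_subsingleton]
    simp

end EP



section bridge
variable {A : Type u} [CommRing A] (S : Submonoid A)

noncomputable abbrev F : ModuleCat.{u} A ⥤ ModuleCat.{u} (Localization S) :=
  ModuleCat.localizedModuleFunctor S

example : (F S).PreservesHomology := inferInstance

noncomputable abbrev Qc (P : CochainComplex (ModuleCat.{u} A) ℤ) :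
    CochainComplex (ModuleCat.{u} (Localization S)) ℤ :=
  ((F S).mapHomologicalComplex (ComplexShape.up ℤ)).obj P

theorem Qc_exactAt (P : CochainComplex (ModuleCat.{u} A) ℤ) (i : ℤ)
    (h : Subsingleton (LocalizedModule S (P.homology i))) : (Qc S P).ExactAt i := by
  rw [HomologicalComplex.exactAt_iff, ShortComplex.exact_iff_isZero_homology]
  have e : ((Qc S P).sc i).homology ≅ (F S).obj (P.homology i) :=
    (P.sc i).mapHomologyIso (F S)
  refine IsZero.of_iso ?_ e
  rw [ModuleCat.isZero_iff_subsingleton]
  show Subsingleton (Shrink.{u} (LocalizedModule S (P.homology i)))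
  exact (equivShrink _).symm.subsingleton


theorem Qc_X_finite_projective (P : CochainComplex (ModuleCat.{u} A) ℤ) (i : ℤ)
    [Module.Finite A (P.X i)] [Module.Projective A (P.X i)] :
    Module.Finite (Localization S) ((Qc S P).X i) ∧
      Module.Projective (Localization S) ((Qc S P).X i) := by
  let e : Shrink.{u} (LocalizedModule S (P.X i)) ≃ₗ[Localization S] LocalizedModule S (P.X i) :=
    Shrink.linearEquiv (Localization S) (LocalizedModule S (P.X i))
  have h1 : Module.Finite (Localization S) (LocalizedModule S (P.X i)) := inferInstance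
  have h2 : Module.Projective (Localization S) (LocalizedModule S (P.X i)) := inferInstance
  exact ⟨Module.Finite.equiv e.symm, Module.Projective.of_equiv e.symm⟩

theorem Qc_X_finrank (P : CochainComplex (ModuleCat.{u} A) ℤ) (i : ℤ) :
    Module.finrank (Localization S) ((Qc S P).X i) =
      Module.finrank (Localization S) (LocalizedModule S (P.X i)) := by
  let e : Shrink.{u} (LocalizedModule S (P.X i)) ≃ₗ[Localization S] LocalizedModule S (P.X i) :=
    Shrink.linearEquiv (Localization S) (LocalizedModule S (P.X i))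
  exact e.finrank_eq

theorem Qc_X_subsingleton (P : CochainComplex (ModuleCat.{u} A) ℤ) (i : ℤ)
    (h : IsZero (P.X i)) : Subsingleton ((Qc S P).X i) := by
  have : Subsingleton (P.X i) := ModuleCat.isZero_iff_subsingleton.mp h
  have h2 : Subsingleton (LocalizedModule S (P.X i)) := inferInstance
  show Subsingleton (Shrink.{u} (LocalizedModule S (P.X i)))
  exact (equivShrink _).symm.subsingleton

end bridge


end helpers


open CategoryTheory CategoryTheory.Limits in
/-- Let A be a commutative ring and P a strictly perfect complex over A, that is a cochain complex of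
finitely generated projective A-modules which is zero outside a finite set s of degrees. Suppose the
cohomological support of P has positive codimension: for every minimal prime q of A and every degree
i the localization at q of the cohomology module H^i(P) is zero. Then the Euler characteristic of P
vanishes identically: at every prime of A the alternating sum over i ∈ s of the ranks of the P^i is
zero. -/
theorem result {A : Type u} [CommRing A]
    (P : CochainComplex (ModuleCat.{u} A) ℤ) (s : Finset ℤ)
    (hP : ∀ i : ℤ, Module.Finite A (P.X i) ∧ Module.Projective A (P.X i))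
    (hs : ∀ i : ℤ, i ∉ s → IsZero (P.X i))
    (hsupp : ∀ q : PrimeSpectrum A, q.asIdeal ∈ minimalPrimes A →
      ∀ i : ℤ, Subsingleton (LocalizedModule q.asIdeal.primeCompl (P.homology i))) :
    ∀ x : PrimeSpectrum A,
      (s.sum fun i => ((i.negOnePow : ℤˣ) : ℤ) * (Module.rankAtStalk (R := A) (P.X i) x : ℤ)) = 0 := by
  intro x
  obtain ⟨q, hqmin, hqx⟩ := Ideal.exists_minimalPrimes_le (bot_le : (⊥ : Ideal A) ≤ x.asIdeal)
  have hqprime : q.IsPrime := hqmin.1.1
  let q' : PrimeSpectrum A := ⟨q, hqprime⟩
  have hrank : ∀ i, Module.rankAtStalk (R := A) (P.X i) x =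
      Module.rankAtStalk (R := A) (P.X i) q' := fun i => by
    have := (hP i).1
    have := (hP i).2
    exact (Module.rankAtStalk_eq_of_le_of_finite_of_flat (P.X i) (p := q') (q := x) hqx).symm
  simp only [hrank]
  have hfp : ∀ i, Module.Finite (Localization q.primeCompl) ((Qc q.primeCompl P).X i) ∧
      Module.Projective (Localization q.primeCompl) ((Qc q.primeCompl P).X i) := fun i => by
    have := (hP i).1
    have := (hP i).2
    exact Qc_X_finite_projective q.primeCompl P i
  have key := euler_zero (R := Localization.AtPrime q) (Qc q.primeCompl P) hfp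
    (fun i => Qc_exactAt q.primeCompl P i (hsupp q' hqmin i)) s
    (fun i hi => Qc_X_subsingleton q.primeCompl P i (hs i hi))
  simp only [Qc_X_finrank] at key
  exact key

end Groth.Agent.S14000
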