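import Groth.Statements.S14003
import Groth.Agent.Lib.Helper45.Dev.DevNoeth

set_option autoImplicit false
universe u
open CategoryTheory AlgebraicGeometry
open KZero

namespace Groth.Agent.S14003

/-- Let X be a Noetherian scheme and Y' a closed subset; write K_0 for the Grothendieck group of the
abelian category of coherent O_X-modules with support in Y' (free abelian group on its objects
modulo the relations of short exact sequences). Let (F_a) be a family of such modules such that for
every irreducible closed subset Z ⊆ Y' with generic point ζ there is an index a with the support of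
F_a contained in Z and the stalk of F_a at ζ of length one over the local ring (a one-dimensional
vector space over the residue field). Then the classes of the F_a generate K_0. (The published
statement omits the condition that the support of F_a lie in Z; without it the claim fails already
for the spectrum of a product of two fields, where the modules k_1 ⊕ k_2 ⊕ k_2 and k_1 ⊕ k_1 ⊕ k_2
have one-dimensional stalks at the two points but their classes generate a subgroup of index 3 in
K_0 = ℤ².) -/
theorem result (X : Scheme.{u}) [IsNoetherian X]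
    (Y' : Set X) (hY' : IsClosed Y') {ι : Type u} (F : ι → X.Modules)
    (hF : ∀ a : ι, Coh.IsCoh (F a) ∧ CohB1.support (F a) ⊆ Y')
    (hgen : ∀ (Z : Set X), IsClosed Z → IsIrreducible Z → Z ⊆ Y' → ∀ y : X, closure ({y} : Set X) = Z →
      ∃ a : ι, CohB1.support (F a) ⊆ Z ∧ Module.length (X.presheaf.stalk y) ((F a).presheaf.stalk y) = 1) :
    AddSubgroup.closure (Set.range fun a : ι =>
        KZero.clSub (fun G : X.Modules => Coh.IsCoh G ∧ CohB1.support G ⊆ Y') (F a)) = ⊤ := by
  classical
  open Groth.Agent.Lib.Helper45.DevCore Groth.Agent.Lib.Helper45.NowhereDense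
    Groth.Agent.Lib.Helper45.CoprimarySheaf Groth.Agent.Lib.Helper45.GraphTrick
    CategoryTheory.Limits in
  set P₀ : ObjectProperty X.Modules := fun G => Coh.IsCoh G ∧ CohB1.support G ⊆ Y' with hP₀
  set H : AddSubgroup (KZero.K0sub P₀) :=
    AddSubgroup.closure (Set.range fun a : ι => KZero.clSub P₀ (F a)) with hH
  -- the class of an object satisfying `P₀`
  have hcl : ∀ (M : X.Modules) (h : P₀ M),
      KZero.clSub P₀ M = QuotientAddGroup.mk (FreeAbelianGroup.of ⟨M, h⟩) := by
    intro M h
    exact dif_pos h
  -- additivity on short exact sequences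
  have hadd : ∀ (S : ShortComplex X.Modules), S.ShortExact → P₀ S.X₁ → P₀ S.X₂ → P₀ S.X₃ →
      KZero.clSub P₀ S.X₂ = KZero.clSub P₀ S.X₁ + KZero.clSub P₀ S.X₃ := by
    intro S hS h1 h2 h3
    rw [hcl _ h1, hcl _ h2, hcl _ h3, ← QuotientAddGroup.mk_add, eq_comm,
      QuotientAddGroup.eq, neg_add_eq_sub]
    have hmem : FreeAbelianGroup.of (⟨S.X₂, h2⟩ : Subtype P₀) - FreeAbelianGroup.of ⟨S.X₁, h1⟩ -
        FreeAbelianGroup.of ⟨S.X₃, h3⟩ ∈ KZero.relSub P₀ :=
      AddSubgroup.subset_closure ⟨S, h1, h2, h3, hS, rfl⟩
    have heq : FreeAbelianGroup.of (⟨S.X₂, h2⟩ : Subtype P₀) -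
        (FreeAbelianGroup.of ⟨S.X₁, h1⟩ + FreeAbelianGroup.of ⟨S.X₃, h3⟩) =
        FreeAbelianGroup.of (⟨S.X₂, h2⟩ : Subtype P₀) - FreeAbelianGroup.of ⟨S.X₁, h1⟩ -
        FreeAbelianGroup.of ⟨S.X₃, h3⟩ := by abel
    rw [heq]
    exact hmem
  -- zero modules
  have hzeroP : ∀ N : X.Modules, IsZero N → P₀ N := by
    intro N hN
    refine ⟨⟨Groth.Agent.Lib.Helper1.isQuasicoherent_of_isZero N hN,
      Groth.Agent.Lib.Helper1.isFiniteType_of_isZero N hN⟩, ?_⟩
    exact Groth.Agent.Lib.Helper45.DevNoeth.support_subset_of_isZero N hN Y'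
  have hzerocl : ∀ N : X.Modules, IsZero N → KZero.clSub P₀ N = 0 := by
    intro N hN
    have hS : (ShortComplex.mk (0 : N ⟶ N) (0 : N ⟶ N) (by simp)).ShortExact :=
      { exact := ShortComplex.exact_of_isZero_X₂ _ hN
        mono_f := ⟨fun _ _ _ => hN.eq_of_tgt _ _⟩
        epi_g := ⟨fun _ _ _ => hN.eq_of_src _ _⟩ }
    have h3 := hadd _ hS (hzeroP N hN) (hzeroP N hN) (hzeroP N hN)
    have h3' : KZero.clSub P₀ N = KZero.clSub P₀ N + KZero.clSub P₀ N := h3
    have := congrArg (fun t => -KZero.clSub P₀ N + t) h3'
    simpa using this.symm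
  -- the dévissage
  have key : ∀ M : X.Modules, Coh.IsCoh M → CohB1.support M ⊆ Y' → KZero.clSub P₀ M ∈ H := by
    intro M hM hMsupp
    refine Groth.Agent.Lib.Helper45.DevNoeth.devissage (fun M => KZero.clSub P₀ M ∈ H) ?_ ?_ Y' hY'
      ?_ ?_ M hM hMsupp
    · -- isomorphism invariance
      rintro A B ⟨e⟩ hA
      by_cases hPA : P₀ A
      · have hAq := hPA.1.1
        have hPB : P₀ B := by
          refine ⟨⟨Groth.Agent.Lib.Helper49.isQuasicoherent_of_iso e hPA.1.1,
            Groth.Agent.Lib.Helper49.isFiniteType_of_iso e hPA.1.2⟩, ?_⟩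
          exact (support_subset_of_mono e.inv).trans hPA.2
        have hz : IsZero (cokernel e.hom) := isZero_cokernel_of_epi e.hom
        have h := hadd _ (shortExact_cokernel e.hom) hPA hPB (hzeroP _ hz)
        have h' : KZero.clSub P₀ B = KZero.clSub P₀ A + KZero.clSub P₀ (cokernel e.hom) := h
        rw [h', hzerocl _ hz, add_zero]
        exact hA
      · have hPB : ¬ P₀ B := by
          intro hPB
          apply hPA
          refine ⟨⟨Groth.Agent.Lib.Helper49.isQuasicoherent_of_iso e.symm hPB.1.1,
            Groth.Agent.Lib.Helper49.isFiniteType_of_iso e.symm hPB.1.2⟩, ?_⟩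
          exact (support_subset_of_mono e.hom).trans hPB.2
        have : KZero.clSub P₀ B = 0 := dif_neg hPB
        rw [this]
        exact H.zero_mem
    · intro A hA
      rw [hzerocl A hA]
      exact H.zero_mem
    · -- two out of three
      intro S hS h1 h2 h3 hs
      have hP1 : P₀ S.X₁ := ⟨h1, (haveI := hS.mono_f; support_subset_of_mono S.f).trans hs⟩
      have hP2 : P₀ S.X₂ := ⟨h2, hs⟩
      have hP3 : P₀ S.X₃ := ⟨h3, (haveI := hS.epi_g; support_subset_of_epi S.g).trans hs⟩
      have h := hadd S hS hP1 hP2 hP3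
      refine ⟨fun a b => ?_, fun a b => ?_, fun a b => ?_⟩
      · have : KZero.clSub P₀ S.X₃ = KZero.clSub P₀ S.X₂ - KZero.clSub P₀ S.X₁ := by
          rw [h]; abel
        rw [this]
        exact H.sub_mem b a
      · rw [h]
        exact H.add_mem a b
      · have : KZero.clSub P₀ S.X₁ = KZero.clSub P₀ S.X₂ - KZero.clSub P₀ S.X₃ := by
          rw [h]; abel
        rw [this]
        exact H.sub_mem a b
    · -- generators
      intro x hx
      have hcl' : closure {x} ⊆ Y' :=
        hY'.closure_subset_iff.mpr (Set.singleton_subset_iff.mpr hx)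
      obtain ⟨a, hsupp, hlen⟩ := hgen (closure {x}) isClosed_closure
        isIrreducible_singleton.closure hcl' x rfl
      exact ⟨F a, (hF a).1, hsupp, AddSubgroup.subset_closure ⟨a, rfl⟩,
        Module.length_eq_one_iff.mp hlen⟩
  -- every element of `K₀` is a combination of classes
  rw [eq_top_iff]
  intro z hz
  clear hz
  induction z using QuotientAddGroup.induction_on with
  | H z =>
    induction z using FreeAbelianGroup.induction_on with
    | zero => exact H.zero_mem
    | of M =>
      have := key M.1 M.2.1 M.2.2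
      rw [hcl M.1 M.2] at this
      exact this
    | neg M ih =>
      rw [QuotientAddGroup.mk_neg]
      exact H.neg_mem ih
    | add a b ha hb =>
      rw [QuotientAddGroup.mk_add]
      exact H.add_mem ha hb

end Groth.Agent.S14003
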