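import Groth.Statements.S14005
import Mathlib

set_option autoImplicit false
universe u
open CategoryTheory AlgebraicGeometry
open CohTop

namespace Groth.Agent.S14005

section helpers
open TopologicalSpace Opposite


theorem forward {X : Scheme.{u}}
    (F : TopCat.Sheaf AddCommGrpCat.{u} X.carrier) (x : X) (s : F.presheaf.stalk x)
    (h : ∃ (U : X.Opens) (hx : x ∈ U) (t : F.presheaf.obj (Opposite.op U)),
        F.presheaf.germ U x hx t = s ∧
          ∀ (u : X) (hu : u ∈ U), F.presheaf.germ U u hu t ≠ 0 → u ∈ closure ({x} : Set X)) :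
    ∀ (y : X) (h : y ⤳ x), y ≠ x → F.presheaf.stalkSpecializes h s = 0 := by
  obtain ⟨U, hx, t, rfl, hsupp⟩ := h
  intro y hyx hne
  have hyU : y ∈ U := hyx.mem_open U.isOpen hx
  have h1 : F.presheaf.stalkSpecializes hyx (F.presheaf.germ U x hx t) = F.presheaf.germ U y hyU t := by
    rw [← ConcreteCategory.comp_apply, TopCat.Presheaf.germ_stalkSpecializes]
  rw [h1]
  by_contra hne0
  have h2 : y ∈ closure ({x} : Set X) := hsupp y hyU hne0
  have h3 : x ⤳ y := specializes_iff_mem_closure.mpr h2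
  exact hne (hyx.antisymm h3).eq



/-- the support of a section is closed in `U`. -/
theorem isClosed_supp {X : Scheme.{u}}
    (F : TopCat.Sheaf AddCommGrpCat.{u} X.carrier) (U : X.Opens) (t : F.presheaf.obj (op U)) :
    IsClosed {u : U | F.presheaf.germ U u.1 u.2 t ≠ 0} := by
  rw [← isOpen_compl_iff, isOpen_iff_forall_mem_open]
  rintro ⟨u, hu⟩ hmem
  have h0 : F.presheaf.germ U u hu t = 0 := by
    by_contra hne
    exact hmem hne
  have h1 : F.presheaf.germ U u hu t = F.presheaf.germ U u hu 0 := by rw [h0, map_zero]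
  obtain ⟨W, hW, iU, iV, heq⟩ := F.presheaf.germ_eq u hu hu t 0 h1
  refine ⟨Subtype.val ⁻¹' (W : Set X), ?_, W.isOpen.preimage continuous_subtype_val, hW⟩
  rintro ⟨w, hwU⟩ (hwW : w ∈ W)
  show ¬ (F.presheaf.germ U w hwU t ≠ 0)
  rw [not_not, ← F.presheaf.germ_res_apply iU w hwW t, heq, map_zero, map_zero]

theorem backward {X : Scheme.{u}}
    (hX : ∀ x : X, ∃ U : X.Opens, x ∈ U ∧ TopologicalSpace.NoetherianSpace U)
    (F : TopCat.Sheaf AddCommGrpCat.{u} X.carrier) (x : X) (s : F.presheaf.stalk x)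
    (hs : ∀ (y : X) (h : y ⤳ x), y ≠ x → F.presheaf.stalkSpecializes h s = 0) :
    ∃ (U : X.Opens) (hx : x ∈ U) (t : F.presheaf.obj (Opposite.op U)),
        F.presheaf.germ U x hx t = s ∧
          ∀ (u : X) (hu : u ∈ U), F.presheaf.germ U u hu t ≠ 0 → u ∈ closure ({x} : Set X) := by
  obtain ⟨U₀, hxU₀, t₀, ht₀⟩ := F.presheaf.exists_germ_eq s
  obtain ⟨U₁, hxU₁, hN⟩ := hX x
  let U : X.Opens := U₀ ⊓ U₁
  have hxU : x ∈ U := ⟨hxU₀, hxU₁⟩
  let t : F.presheaf.obj (op U) := F.presheaf.map (homOfLE (inf_le_left : U ≤ U₀)).op t₀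
  have ht : F.presheaf.germ U x hxU t = s := by
    rw [← ht₀]; exact F.presheaf.germ_res_apply _ x hxU t₀
  have hNU : NoetherianSpace U := by
    have : NoetherianSpace ((U₁ : Set X)) := hN
    exact NoetherianSpace.of_subset (W := (U₁ : Set X)) (V := (U : Set X)) (fun _ h => h.2)
  have hQS : QuasiSober U := U.isOpenEmbedding'.quasiSober
  let Z : Set U := {u : U | F.presheaf.germ U u.1 u.2 t ≠ 0}
  have hZ : IsClosed Z := isClosed_supp F U t
  obtain ⟨S, hSfin, hSclosed, hSirr, hZS⟩ :=
    NoetherianSpace.exists_finite_set_isClosed_irreducible hZ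
  let x' : U := ⟨x, hxU⟩
  let Bad : Set (Set U) := {T | T ∈ S ∧ x' ∉ T}
  have hBadfin : Bad.Finite := hSfin.subset (fun T hT => hT.1)
  let B : Set U := ⋃₀ Bad
  have hB : IsClosed B := by
    show IsClosed (⋃₀ Bad)
    rw [Set.sUnion_eq_biUnion]
    exact hBadfin.isClosed_biUnion (fun T hT => hSclosed T hT.1)
  have hxB : x' ∉ B := by
    rintro ⟨T, hT, hxT⟩
    exact hT.2 hxT
  let U' : X.Opens := ⟨Subtype.val '' Bᶜ, U.isOpen.isOpenMap_subtype_val _ hB.isOpen_compl⟩
  have hU'U : U' ≤ U := by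
    rintro _ ⟨u, -, rfl⟩
    exact u.2
  have hxU' : x ∈ U' := ⟨x', hxB, rfl⟩
  refine ⟨U', hxU', F.presheaf.map (homOfLE hU'U).op t, ?_, ?_⟩
  · rw [← ht]; exact F.presheaf.germ_res_apply _ x hxU' t
  · intro u hu hne
    have huU : u ∈ U := hU'U hu
    rw [F.presheaf.germ_res_apply (homOfLE hU'U) u hu t] at hne
    let u' : U := ⟨u, huU⟩
    have huZ : u' ∈ Z := hne
    rw [hZS] at huZ
    obtain ⟨T, hTS, huT⟩ := huZ
    have huB : u' ∉ B := by
      obtain ⟨w, hw, hwu⟩ := hu
      have : w = u' := Subtype.ext hwu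
      rw [← this]; exact hw
    have hxT : x' ∈ T := by
      by_contra hxT
      exact huB ⟨T, ⟨hTS, hxT⟩, huT⟩
    obtain ⟨η, hη⟩ := QuasiSober.sober (hSirr T hTS) (hSclosed T hTS)
    have hηT : η ∈ T := hη.mem
    have hηZ : η ∈ Z := by rw [hZS]; exact ⟨T, hTS, hηT⟩
    have hηx' : η ⤳ x' := hη.specializes hxT
    have hηx : η.1 ⤳ x := hηx'.map continuous_subtype_val
    have hηeq : η.1 = x := by
      by_contra hne'
      have h1 := hs η.1 hηx hne'
      rw [← ht, ← ConcreteCategory.comp_apply, TopCat.Presheaf.germ_stalkSpecializes] at h1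
      exact hηZ h1
    have hη' : η = x' := Subtype.ext hηeq
    rw [hη'] at hη
    have hxu' : x' ⤳ u' := hη.specializes huT
    have hxu : x ⤳ u := hxu'.map continuous_subtype_val
    exact specializes_iff_mem_closure.mp hxu


end helpers


/-- Take a scheme X with a locally Noetherian underlying topological space, F a sheaf of abelian groups
on X, x a point of X and s an element of the stalk F_x. Then the following are equivalent: (i) s is
the germ of a section t over some open neighbourhood U of x whose support in U is contained in the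
closure of {x} (that is, s belongs to the subgroup Γ_x(F) of F_x); (ii) for every generization y ≠ x
of x the image of s under the cospecialisation map F_x → F_y is zero (that is, viewed as a global
section of the inverse image of F on Spec O_{X,x}, s is supported at the closed point). -/
theorem result {X : Scheme.{u}}
    (hX : ∀ x : X, ∃ U : X.Opens, x ∈ U ∧ TopologicalSpace.NoetherianSpace U)
    (F : TopCat.Sheaf AddCommGrpCat.{u} X.carrier) (x : X) (s : F.presheaf.stalk x) :
    (∃ (U : X.Opens) (hx : x ∈ U) (t : F.presheaf.obj (Opposite.op U)),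
        F.presheaf.germ U x hx t = s ∧
          ∀ (u : X) (hu : u ∈ U), F.presheaf.germ U u hu t ≠ 0 → u ∈ closure ({x} : Set X)) ↔
      ∀ (y : X) (h : y ⤳ x), y ≠ x → F.presheaf.stalkSpecializes h s = 0 := by
  exact ⟨forward F x s, backward hX F x s⟩

end Groth.Agent.S14005
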