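import Groth.Statements.S14007
import Mathlib
import Groth.Agent.Lib.Helper30.PerfSupport
import Groth.Agent.S3201

set_option autoImplicit false
universe u
open CategoryTheory AlgebraicGeometry
attribute [local instance] HasDerivedCategory.standard
open KZero

namespace Groth.Agent.S14007

/-- Let X be a Noetherian scheme and Y' ⊆ X a closed subset, and suppose that every coherent O_X-module
with support in Y', viewed in degree 0, is a perfect object of D(O_X). Write K_0(C) for the
Grothendieck group of the abelian category C of coherent O_X-modules supported in Y' (objects modulo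
short exact sequences) and K_0(D) for that of the full triangulated subcategory D of D(O_X) on the
perfect complexes all of whose cohomology sheaves are supported in Y' (objects modulo distinguished
triangles with vertices in D). Then the homomorphism K_0(C) → K_0(D) induced by G ↦ G[0] is an
isomorphism: there is an isomorphism of groups carrying the class of every G in C to the class of
G[0]. -/
theorem result (X : Scheme.{u}) [IsNoetherian X]
    (Y' : Set X) (hY' : IsClosed Y')
    (hperf : ∀ G : X.Modules, Coh.IsCoh G → CohB1.support G ⊆ Y' → DCoh.IsPerfect (DCoh.inD X G)) :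
    ∃ φ : KZero.K0sub (fun G : X.Modules => Coh.IsCoh G ∧ CohB1.support G ⊆ Y') ≃+
        KZero.K0tr (fun K : DCoh.D X => DCoh.IsPerfect K ∧ ∀ i : ℤ, CohB1.support (DCoh.HD K i) ⊆ Y'),
      ∀ G : X.Modules, Coh.IsCoh G → CohB1.support G ⊆ Y' →
        φ (KZero.clSub (fun G : X.Modules => Coh.IsCoh G ∧ CohB1.support G ⊆ Y') G) =
          KZero.clTr (fun K : DCoh.D X => DCoh.IsPerfect K ∧ ∀ i : ℤ, CohB1.support (DCoh.HD K i) ⊆ Y')
            (DCoh.inD X G) := by
  have : CompactSpace X := inferInstance
  have key : (fun K : DCoh.D X => DCoh.IsPerfect K ∧ ∀ i : ℤ, CohB1.support (DCoh.HD K i) ⊆ Y') =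
      (fun K : DerivedCategory X.Modules =>
        (∀ i : ℤ, Groth.Agent.Lib.Helper30.PerfSupport.cohSuppP X Y'
          ((DerivedCategory.homologyFunctor X.Modules i).obj K)) ∧
        ∃ a b : ℤ, (DerivedCategory.TStructure.t (C := X.Modules)).IsGE K a ∧
          (DerivedCategory.TStructure.t (C := X.Modules)).IsLE K b) := by
    funext K
    apply propext
    constructor
    · rintro ⟨hK, hs⟩
      exact ⟨fun i => ⟨Groth.Agent.Lib.Helper30.PerfRegular.isCohD_of_isPerfect K hK i, hs i⟩,
        Groth.Agent.Lib.Helper30.PerfRegular.exists_bounds_of_isPerfect K hK⟩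
    · rintro ⟨hc, a, b, ha, hb⟩
      refine ⟨?_, fun i => (hc i).2⟩
      exact Groth.Agent.Lib.Helper30.PerfSupport.isPerfect_of_bounded_of_homology
        (Groth.Agent.Lib.Helper30.PerfSupport.cohSuppP X Y')
        (fun F hF => hperf F hF.1 hF.2) K a b ha hb hc
  rw [key]
  obtain ⟨φ, hφ⟩ := Groth.Agent.S3201.result
    (Groth.Agent.Lib.Helper30.PerfSupport.cohSuppP X Y')
  exact ⟨φ, fun G h1 h2 => hφ G ⟨h1, h2⟩⟩

end Groth.Agent.S14007
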