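import Groth.Statements.S14017
import Groth.Agent.Lib.Helper15.WCSections
import Groth.Agent.Lib.Helper15.Adic

set_option autoImplicit false
open CategoryTheory CategoryTheory.Limits AlgebraicGeometry Opposite
universe u
open EtModW

namespace Groth.Agent.S14017

/-- Let X be a scheme, Λ a commutative ring and I a finitely generated ideal of Λ; let F be a sheaf of
Λ-modules on the small pro-étale site of X and p : F ⟶ Q a quotient map modulo I (Q is killed by I
and every morphism out of F killed by I factors uniquely through p, so Q = F/IF); let U be a weakly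
contractible object of the pro-étale site. Then the map on sections F(U) → Q(U) is surjective and
its kernel is exactly the submodule I·F(U): sections over a weakly contractible object commute with
forming IF and F/IF. (The published lemma is for sheaves of Λ-modules on an arbitrary site and a
weakly contractible object of it; this row states the case of the small pro-étale site of a scheme.) -/
theorem result
    (Λ : Type (u + 1)) [CommRing Λ] (I : Ideal Λ) (hI : I.FG)
    (X : Scheme.{u}) (F Q : EtModW.ModP Λ X) (p : F ⟶ Q) (hp : ARSys.IsQuot I p)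
    (U : X.ProEt) (hU : ProEtS.IsWC U) :
    Function.Surjective (p.hom.app (op U)).hom ∧
      LinearMap.ker (p.hom.app (op U)).hom = I • (⊤ : Submodule Λ (F.obj.obj (op U))) := by
  classical
  obtain ⟨n, g, hg⟩ := Submodule.fg_iff_exists_fin_generating_family.1 hI
  haveI : HasFiniteBiproducts (EtModW.ModP Λ X) := Abelian.hasFiniteBiproducts
  have hpe : Epi p := Groth.Agent.Lib.Helper15.isQuot_epi hp
  refine ⟨Groth.Agent.Lib.Helper15.WCSections.surj_of_epi Λ p U hU, ?_⟩
  let d : (⨁ fun _ : Fin n => F) ⟶ F := biproduct.desc (fun i => g i • 𝟙 F)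
  have hd : ∀ i, biproduct.ι (fun _ : Fin n => F) i ≫ d = g i • 𝟙 F :=
    fun i => biproduct.ι_desc _ _
  have hgen : ∀ i : Fin n, g i ∈ I := fun i => hg ▸ Submodule.subset_span ⟨i, rfl⟩
  have hdp : d ≫ p = 0 := by
    apply biproduct.hom_ext'
    intro i
    rw [← Category.assoc, hd i, Linear.smul_comp, Category.id_comp, comp_zero,
      ← Category.comp_id p, ← Linear.comp_smul, hp.1 _ (hgen i), comp_zero]
  have hck : ARSys.HomKilledBy I (cokernel.π d) := by
    intro a ha
    rw [← hg] at ha
    induction ha using Submodule.span_induction with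
    | mem x hx =>
      obtain ⟨i, rfl⟩ := hx
      have : g i • cokernel.π d = biproduct.ι (fun _ : Fin n => F) i ≫ d ≫ cokernel.π d := by
        rw [← Category.assoc, hd, Linear.smul_comp, Category.id_comp]
      rw [this, cokernel.condition, comp_zero]
    | zero => exact zero_smul _ _
    | add x y _ _ hx hy => rw [add_smul, hx, hy, add_zero]
    | smul c x _ hx => rw [smul_eq_mul, mul_smul, hx, smul_zero]
  obtain ⟨ψ, hψ, -⟩ := hp.2 _ _ hck
  have hψ' : p ≫ ψ = cokernel.π d := hψ
  have hex : (ShortComplex.mk d p hdp).Exact := by
    rw [ShortComplex.exact_iff_kernel_ι_comp_cokernel_π_zero]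
    change kernel.ι p ≫ cokernel.π d = 0
    rw [← hψ', ← Category.assoc, kernel.condition, zero_comp]
  have hepi : Epi (kernel.lift p d hdp) := (ShortComplex.exact_iff_epi_kernel_lift _).1 hex
  have hdsum : d = ∑ j : Fin n, g j • biproduct.π (fun _ : Fin n => F) j := by
    have htot := biproduct.total (f := fun _ : Fin n => F)
    have h1 : d = (∑ j : Fin n, biproduct.π (fun _ : Fin n => F) j ≫
        biproduct.ι (fun _ : Fin n => F) j) ≫ d :=
      (Category.id_comp d).symm.trans (congrArg (· ≫ d) htot.symm)
    refine h1.trans ((Preadditive.sum_comp _ _ _).trans (Finset.sum_congr rfl fun j _ => ?_))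
    rw [Category.assoc, hd j, Linear.comp_smul, Category.comp_id]
  apply le_antisymm
  · intro x hx
    have hx0 : (p.hom.app (op U)).hom x = 0 := hx
    -- lift to sections of the kernel
    have hK : (ShortComplex.mk (kernel.ι p) p (kernel.condition p)).Exact :=
      ShortComplex.exact_of_f_is_kernel _ (kernelIsKernel p)
    have hK' := hK.map_of_mono_of_preservesKernel (Groth.Agent.Lib.Helper15.WCSections.ev Λ U) inferInstance inferInstance
    rw [ShortComplex.moduleCat_exact_iff] at hK'
    obtain ⟨k, hk⟩ := hK' x hx0
    obtain ⟨z, hz⟩ := Groth.Agent.Lib.Helper15.WCSections.surj_of_epi Λ (kernel.lift p d hdp) U hU k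
    have hxz : x = (d.hom.app (op U)).hom z := by
      have h1 : kernel.lift p d hdp ≫ kernel.ι p = d := kernel.lift_ι _ _ _
      rw [← h1, ← hk, ← hz]
      rfl
    rw [hxz, hdsum]
    have hev : ((∑ j : Fin n, g j • biproduct.π (fun _ : Fin n => F) j).hom.app (op U)) =
        ∑ j : Fin n, g j • ((biproduct.π (fun _ : Fin n => F) j).hom.app (op U)) := by
      have := (Groth.Agent.Lib.Helper15.WCSections.ev Λ U).map_sum (fun j : Fin n => g j • biproduct.π (fun _ : Fin n => F) j)
        Finset.univ
      exact this
    rw [hev, ModuleCat.hom_sum, LinearMap.sum_apply]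
    refine Submodule.sum_mem _ fun j _ => ?_
    rw [ModuleCat.hom_smul, LinearMap.smul_apply]
    exact Submodule.smul_mem_smul (hgen j) trivial
  · rw [Submodule.smul_le]
    intro a ha x _
    change (p.hom.app (op U)).hom (a • x) = 0
    rw [map_smul]
    have h1 := hp.1 a ha
    have h2 : ((a • 𝟙 Q : Q ⟶ Q).hom.app (op U)).hom ((p.hom.app (op U)).hom x) = 0 := by
      rw [h1]; rfl
    exact h2

end Groth.Agent.S14017
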