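import Groth.Statements.S14018
import Mathlib

set_option autoImplicit false
open CategoryTheory CategoryTheory.Limits Opposite
universe w v u
open CohSite

namespace Groth.Agent.S14018


section helpers

variable {C : Type u} [Category.{v} C] (J : GrothendieckTopology C)
  (F : ℕᵒᵖ ⥤ Sheaf J (Type w))

/-- sections over `U` of the `m`-th sheaf. -/
abbrev Sec (U : C) (m : ℕ) : Type w := (F.obj (op m)).obj.obj (op U)

/-- transition map on sections -/
abbrev tr (U : C) {m₁ m₂ : ℕ} (h : m₁ ≤ m₂) : Sec J F U m₂ → Sec J F U m₁ :=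
  (F.map (homOfLE h).op).hom.app (op U)

theorem tr_tr (U : C) {m₁ m₂ m₃ : ℕ} (h₁ : m₁ ≤ m₂) (h₂ : m₂ ≤ m₃) (x : Sec J F U m₃) :
    tr J F U h₁ (tr J F U h₂ x) = tr J F U (h₁.trans h₂) x := by
  have : (homOfLE (h₁.trans h₂)).op = (homOfLE h₂).op ≫ (homOfLE h₁).op := rfl
  simp only [tr, this, F.map_comp]
  rfl

theorem tr_refl (U : C) (m : ℕ) (x : Sec J F U m) : tr J F U (le_refl m) x = x := by
  have : (homOfLE (le_refl m)).op = 𝟙 (op m : ℕᵒᵖ) := rfl
  simp only [tr, this, F.map_id]
  rfl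


section seq

variable (U : C) (hsurj : ∀ m, Function.Surjective (tr J F U (Nat.le_succ m)))

/-- successive lifts of a section -/
noncomputable def yseq (n : ℕ) (s₀ : Sec J F U n) : ∀ k : ℕ, Sec J F U (n + k)
  | 0 => s₀
  | k + 1 => (hsurj (n + k) (yseq n s₀ k)).choose

theorem yseq_succ (n : ℕ) (s₀ : Sec J F U n) (k : ℕ) :
    tr J F U (Nat.le_succ (n + k)) (yseq J F U hsurj n s₀ (k + 1)) = yseq J F U hsurj n s₀ k :=
  (hsurj (n + k) (yseq J F U hsurj n s₀ k)).choose_spec

theorem yseq_compat (n : ℕ) (s₀ : Sec J F U n) (k₁ k₂ : ℕ) (h : k₁ ≤ k₂) :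
    tr J F U (Nat.add_le_add_left h n) (yseq J F U hsurj n s₀ k₂) = yseq J F U hsurj n s₀ k₁ := by
  induction k₂, h using Nat.le_induction with
  | base => exact tr_refl J F U _ _
  | succ k₂ h ih =>
    rw [← ih, ← yseq_succ J F U hsurj n s₀ k₂, tr_tr]

/-- the compatible family -/
noncomputable def xseq (n : ℕ) (s₀ : Sec J F U n) (m : ℕ) : Sec J F U m :=
  tr J F U (Nat.le_add_left m n) (yseq J F U hsurj n s₀ m)

theorem xseq_compat (n : ℕ) (s₀ : Sec J F U n) (m₁ m₂ : ℕ) (h : m₁ ≤ m₂) :
    tr J F U h (xseq J F U hsurj n s₀ m₂) = xseq J F U hsurj n s₀ m₁ := by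
  unfold xseq
  rw [tr_tr, ← yseq_compat J F U hsurj n s₀ m₁ m₂ h, tr_tr]

theorem xseq_self (n : ℕ) (s₀ : Sec J F U n) : xseq J F U hsurj n s₀ n = s₀ := by
  unfold xseq
  have := yseq_compat J F U hsurj n s₀ 0 n (Nat.zero_le n)
  exact this

end seq


theorem exists_lift (c : Cone F) (hc : IsLimit c) (U : C)
    (hsurj : ∀ m, Function.Surjective (tr J F U (Nat.le_succ m))) (n : ℕ) (s₀ : Sec J F U n) :
    ∃ t : c.pt.obj.obj (op U), (c.π.app (op n)).hom.app (op U) t = s₀ := by
  let E : Sheaf J (Type w) ⥤ Type w :=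
    sheafToPresheaf J (Type w) ⋙ (evaluation Cᵒᵖ (Type w)).obj (op U)
  have hc' : IsLimit (E.mapCone c) := isLimitOfPreserves E hc
  let x : (F ⋙ E).sections :=
    ⟨fun j => xseq J F U hsurj n s₀ j.unop, by
      rintro ⟨m₂⟩ ⟨m₁⟩ f
      have h : m₁ ≤ m₂ := leOfHom f.unop
      have hf : f = (homOfLE h).op := Subsingleton.elim _ _
      subst hf
      exact xseq_compat J F U hsurj n s₀ m₁ m₂ h⟩
  refine ⟨(Types.isLimitEquivSections hc').symm x, ?_⟩
  have := Types.isLimitEquivSections_symm_apply hc' x (op n)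
  rw [← xseq_self J F U hsurj n s₀]
  exact this

end helpers



/-- Let (C, J) be a site with enough weakly contractible objects — every object V has a covering sieve
all of whose arrows factor through some weakly contractible object, an object U being weakly
contractible when every epimorphism of sheaves of sets (valued in a fixed universe) is surjective on
sections over U. Then the topos of sheaves of sets is replete: if (F_n) is an inverse system of
sheaves of sets indexed by ℕ with every transition map F_(n+1) ⟶ F_n an epimorphism, then each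
projection lim_n F_n ⟶ F_n is an epimorphism; the limit is taken as any limit cone. (The small
pro-étale site of a scheme is such a site.) -/
theorem result
    {C : Type u} [Category.{v} C] (J : GrothendieckTopology C)
    (hwc : ∀ V : C, ∃ S : Sieve V, S ∈ J V ∧ ∀ ⦃W : C⦄ (f : W ⟶ V), S.arrows f →
      ∃ (U : C) (g : W ⟶ U) (h : U ⟶ V), (∀ (A B : Sheaf J (Type w)) (ψ : A ⟶ B), Epi ψ → Function.Surjective (ψ.hom.app (op U))) ∧ g ≫ h = f)
    (F : ℕᵒᵖ ⥤ Sheaf J (Type w))
    (hF : ∀ n : ℕ, Epi (F.map (homOfLE (Nat.le_succ n)).op))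
    (c : Cone F) (hc : IsLimit c) (n : ℕ) :
    Epi (c.π.app (op n)) := by
  have hls : Sheaf.IsLocallySurjective (c.π.app (op n)) := by
    refine ⟨fun {V} s => ?_⟩
    obtain ⟨S, hS, hfac⟩ := hwc V
    refine J.superset_covering ?_ hS
    intro W f hf
    obtain ⟨U, g, h, hU, rfl⟩ := hfac f hf
    have hsurj : ∀ m, Function.Surjective (tr J F U (Nat.le_succ m)) :=
      fun m => hU _ _ _ (hF m)
    obtain ⟨t', ht'⟩ := exists_lift J F c hc U hsurj n ((F.obj (op n)).obj.map h.op s)
    refine ⟨c.pt.obj.map g.op t', ?_⟩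
    have hnat := NatTrans.naturality_apply (c.π.app (op n)).hom g.op t'
    refine hnat.trans ?_
    rw [ht', op_comp, Functor.map_comp]
    rfl
  infer_instance

end Groth.Agent.S14018
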