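import Groth.Statements.S14020
import Mathlib.Algebra.Module.Torsion.Basic
import Mathlib.RingTheory.Finiteness.Ideal

set_option autoImplicit false
universe u
open CAlg

namespace Groth.Agent.S14020

/-- `R ⧸ J` is artinian as an `R`-module, stated for the inductive argument. -/
theorem isArtinian_quotient_pow (R : Type u) [CommRing R] (I : Ideal R) (hI : I.FG)
    [IsArtinianRing (R ⧸ I)] (n : ℕ) : IsArtinian R (R ⧸ I ^ n) := by
  induction n with
  | zero =>
    rw [pow_zero, Ideal.one_eq_top]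
    infer_instance
  | succ n ih =>
    -- exact sequence `I^n → R/I^(n+1) → R/I^n`
    have hIn : (I ^ n).FG := hI.pow
    -- `I^n ⧸ I • ⊤` is a finite module over `R ⧸ I`, hence artinian
    have : Module.Finite R ↥(I ^ n) := Module.Finite.iff_fg.mpr hIn
    have : Module.Finite (R ⧸ I) (↥(I ^ n) ⧸ I • (⊤ : Submodule R ↥(I ^ n))) :=
      Module.Finite.of_restrictScalars_finite R _ _
    have h1 : IsArtinian (R ⧸ I) (↥(I ^ n) ⧸ I • (⊤ : Submodule R ↥(I ^ n))) := inferInstance
    -- as an `R`-module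
    have h2 : IsArtinian R (↥(I ^ n) ⧸ I • (⊤ : Submodule R ↥(I ^ n))) :=
      isArtinian_of_surjective_algebraMap (R := R ⧸ I) Ideal.Quotient.mk_surjective
    have hle : I • (⊤ : Submodule R ↥(I ^ n)) ≤
        LinearMap.ker ((I ^ (n + 1)).mkQ ∘ₗ (I ^ n).subtype) := by
      rw [Submodule.smul_le]
      intro r hr x _
      rw [LinearMap.mem_ker, LinearMap.comp_apply, Submodule.mkQ_apply,
        Submodule.Quotient.mk_eq_zero, pow_succ']
      exact Ideal.mul_mem_mul hr x.2
    let f : (↥(I ^ n) ⧸ I • (⊤ : Submodule R ↥(I ^ n))) →ₗ[R] R ⧸ I ^ (n + 1) :=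
      Submodule.liftQ _ ((I ^ (n + 1)).mkQ ∘ₗ (I ^ n).subtype) hle
    let g : (R ⧸ I ^ (n + 1)) →ₗ[R] R ⧸ I ^ n :=
      Submodule.mapQ (I ^ (n + 1)) (I ^ n) LinearMap.id
        (fun x hx => Ideal.pow_le_pow_right n.le_succ hx)
    refine isArtinian_of_range_eq_ker f g ?_
    ext x
    constructor
    · rintro ⟨y, rfl⟩
      obtain ⟨y, rfl⟩ := Submodule.Quotient.mk_surjective _ y
      rw [LinearMap.mem_ker]
      simp only [f, g, Submodule.liftQ_apply, LinearMap.comp_apply, Submodule.mkQ_apply,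
        Submodule.subtype_apply, Submodule.mapQ_apply, LinearMap.id_apply,
        Submodule.Quotient.mk_eq_zero]
      exact y.2
    · intro hx
      obtain ⟨r, rfl⟩ := Submodule.Quotient.mk_surjective _ x
      rw [LinearMap.mem_ker] at hx
      simp only [g, Submodule.mapQ_apply, LinearMap.id_apply,
        Submodule.Quotient.mk_eq_zero] at hx
      exact ⟨Submodule.Quotient.mk ⟨r, hx⟩, rfl⟩

theorem result
    (R : Type u) [CommRing R] (I : Ideal R) (hI : I.FG) [IsArtinianRing (R ⧸ I)] (n : ℕ) :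
    IsArtinianRing (R ⧸ I ^ n) :=
  isArtinian_of_tower R (isArtinian_quotient_pow R I hI n)

end Groth.Agent.S14020
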