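import Groth.Statements.S14023
import Mathlib.Tactic
import Mathlib.CategoryTheory.Limits.FunctorCategory.EpiMono
import Mathlib.CategoryTheory.Functor.OfSequence

set_option autoImplicit false
open CategoryTheory CategoryTheory.Limits Opposite
universe v u
open ARSys

namespace Groth.Agent.S14023

section backward

variable {A : Type u} [Category.{v} A] [Abelian A] (I : ℕ → A)

/-- `J(m) = I_0 × ⋯ × I_m`. -/
noncomputable def Jobj (m : ℕ) : A := ∏ᶜ (fun i : Fin (m + 1) => I (i : ℕ))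

noncomputable def Jπ (m : ℕ) (i : ℕ) (hi : i ≤ m) : Jobj I m ⟶ I i :=
  Pi.π (fun j : Fin (m + 1) => I (j : ℕ)) ⟨i, Nat.lt_succ_of_le hi⟩

theorem Jobj_hom_ext {m : ℕ} {X : A} (f g : X ⟶ Jobj I m)
    (h : ∀ (i : ℕ) (hi : i ≤ m), f ≫ Jπ I m i hi = g ≫ Jπ I m i hi) : f = g := by
  apply Pi.hom_ext
  rintro ⟨i, hi⟩
  exact h i (Nat.le_of_lt_succ hi)

noncomputable def Jlift {m : ℕ} {X : A} (f : ∀ (i : ℕ), i ≤ m → (X ⟶ I i)) : X ⟶ Jobj I m :=
  Pi.lift (fun j : Fin (m + 1) => f j (Nat.le_of_lt_succ j.2))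

@[reassoc (attr := simp)]
theorem Jlift_π {m : ℕ} {X : A} (f : ∀ (i : ℕ), i ≤ m → (X ⟶ I i)) (i : ℕ) (hi : i ≤ m) :
    Jlift I f ≫ Jπ I m i hi = f i hi :=
  Pi.lift_π (fun j : Fin (m + 1) => f j (Nat.le_of_lt_succ j.2)) ⟨i, Nat.lt_succ_of_le hi⟩

noncomputable def Jmap {a b : ℕ} (h : b ≤ a) : Jobj I a ⟶ Jobj I b :=
  Jlift I (fun i hi => Jπ I a i (hi.trans h))

@[reassoc (attr := simp)]
theorem Jmap_π {a b : ℕ} (h : b ≤ a) (i : ℕ) (hi : i ≤ b) :
    Jmap I h ≫ Jπ I b i hi = Jπ I a i (hi.trans h) := by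
  simp [Jmap]

noncomputable def J : ℕᵒᵖ ⥤ A where
  obj m := Jobj I m.unop
  map f := Jmap I (leOfHom f.unop)
  map_id m := by
    apply Jobj_hom_ext
    intro i hi
    simp
  map_comp f g := by
    apply Jobj_hom_ext
    intro i hi
    simp


/-- Projection from `(J I).obj (op m)`. -/
noncomputable def Jp (m i : ℕ) (hi : i ≤ m) : (J I).obj (op m) ⟶ I i := Jπ I m i hi

theorem J_map_p {a b : ℕ} (f : (op a : ℕᵒᵖ) ⟶ op b) (i : ℕ) (hi : i ≤ b) :
    (J I).map f ≫ Jp I b i hi = Jp I a i (hi.trans (leOfHom f.unop)) :=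
  Jmap_π I (leOfHom f.unop) i hi

theorem J_hom_ext {G : ℕᵒᵖ ⥤ A} (φ ψ : G ⟶ J I)
    (h : ∀ (m i : ℕ) (hi : i ≤ m), φ.app (op m) ≫ Jp I m i hi = ψ.app (op m) ≫ Jp I m i hi) :
    φ = ψ := by
  ext ⟨m⟩
  exact Jobj_hom_ext I _ _ (fun i hi => h m i hi)

/-- A morphism into `J I` is determined by its "diagonal" components. -/
noncomputable def toJ (G : ℕᵒᵖ ⥤ A) (d : ∀ n : ℕ, G.obj (op n) ⟶ I n) : G ⟶ J I where
  app m := Jlift I (fun i hi => G.map (homOfLE hi).op ≫ d i)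
  naturality a b f := by
    apply Jobj_hom_ext
    intro i hi
    have hba : b.unop ≤ a.unop := leOfHom f.unop
    simp only [J, Category.assoc, Jlift_π, Jmap_π]
    rw [← Category.assoc, ← G.map_comp]
    rfl

theorem toJ_app_p (G : ℕᵒᵖ ⥤ A) (d : ∀ n : ℕ, G.obj (op n) ⟶ I n) (m i : ℕ) (hi : i ≤ m) :
    (toJ I G d).app (op m) ≫ Jp I m i hi = G.map (homOfLE hi).op ≫ d i :=
  Jlift_π I (fun i hi => G.map (homOfLE hi).op ≫ d i) i hi

theorem eq_toJ (G : ℕᵒᵖ ⥤ A) (φ : G ⟶ J I) :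
    φ = toJ I G (fun n => φ.app (op n) ≫ Jp I n n le_rfl) := by
  apply J_hom_ext
  intro m i hi
  rw [toJ_app_p, ← Category.assoc, φ.naturality, Category.assoc, J_map_p]

theorem injective_J (hI : ∀ n, Injective (I n)) : Injective (J I) := by
  refine ⟨fun {G H} φ η _ => ?_⟩
  have hmono : ∀ n : ℕ, Mono (η.app (op n)) := fun n =>
    (NatTrans.mono_iff_mono_app η).mp inferInstance (op n)
  let d : ∀ n : ℕ, G.obj (op n) ⟶ I n := fun n => φ.app (op n) ≫ Jp I n n le_rfl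
  let e : ∀ n : ℕ, H.obj (op n) ⟶ I n := fun n => Injective.factorThru (d n) (η.app (op n))
  refine ⟨toJ I H e, ?_⟩
  rw [eq_toJ I G φ]
  apply J_hom_ext
  intro m i hi
  rw [NatTrans.comp_app, Category.assoc, toJ_app_p, toJ_app_p, ← Category.assoc,
    ← η.naturality, Category.assoc]
  congr 1
  exact Injective.comp_factorThru (d i) (η.app (op i))


theorem enough_backward [EnoughInjectives A] : EnoughInjectives (ℕᵒᵖ ⥤ A) := by
  refine ⟨fun F => ?_⟩
  let I' : ℕ → A := fun n => Injective.under (F.obj (op n))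
  let θ : F ⟶ J I' := toJ I' F (fun n => Injective.ι (F.obj (op n)))
  have hθ : Mono θ := by
    have : ∀ m : ℕᵒᵖ, Mono (θ.app m) := by
      rintro ⟨m⟩
      have h1 : θ.app (op m) ≫ Jp I' m m le_rfl = Injective.ι (F.obj (op m)) := by
        rw [toJ_app_p]
        have : (homOfLE (le_refl m)).op = 𝟙 (op m : ℕᵒᵖ) := rfl
        rw [this, F.map_id, Category.id_comp]
      have : Mono (θ.app (op m) ≫ Jp I' m m le_rfl) := by
        rw [h1]; infer_instance
      exact mono_of_mono (θ.app (op m)) (Jp I' m m le_rfl)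
    exact NatTrans.mono_of_mono_app θ
  exact ⟨⟨J I', injective_J I' (fun n => inferInstance), θ, hθ⟩⟩

end backward

section forward

open ZeroObject

variable {A : Type u} [Category.{v} A] [Abelian A]

/-- objects of the system `X ← 0 ← 0 ← ⋯` -/
noncomputable def L0obj (X : A) : ℕ → A
  | 0 => X
  | _ + 1 => 0

noncomputable def L0 (X : A) : ℕᵒᵖ ⥤ A :=
  Functor.ofOpSequence (X := L0obj X) (fun n => (0 : L0obj X (n + 1) ⟶ L0obj X n))

theorem L0_isZero (X : A) (n : ℕ) : IsZero ((L0 X).obj (op (n + 1))) :=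
  show IsZero (0 : A) from isZero_zero A

noncomputable def L0appAux (X : A) (G : ℕᵒᵖ ⥤ A) (f : X ⟶ G.obj (op 0)) :
    ∀ n : ℕ, (L0 X).obj (op n) ⟶ G.obj (op n)
  | 0 => f
  | _ + 1 => 0

noncomputable def L0desc (X : A) (G : ℕᵒᵖ ⥤ A) (f : X ⟶ G.obj (op 0)) : L0 X ⟶ G :=
  NatTrans.ofOpSequence (L0appAux X G f) (fun n => (L0_isZero X n).eq_of_src _ _)

theorem L0desc_app_zero (X : A) (G : ℕᵒᵖ ⥤ A) (f : X ⟶ G.obj (op 0)) :
    (L0desc X G f).app (op 0) = f := rfl

theorem L0desc_mono {X Y : A} (g : X ⟶ Y) [Mono g] : Mono (L0desc X (L0 Y) g) := by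
  have : ∀ m : ℕᵒᵖ, Mono ((L0desc X (L0 Y) g).app m) := by
    rintro ⟨m | m⟩
    · show Mono g
      infer_instance
    · exact (L0_isZero X m).mono _
  exact NatTrans.mono_of_mono_app _

theorem injective_eval_zero (Q : ℕᵒᵖ ⥤ A) [Injective Q] : Injective (Q.obj (op 0)) := by
  refine ⟨fun {X Y} f g _ => ?_⟩
  have := L0desc_mono g
  refine ⟨(Injective.factorThru (L0desc X Q f) (L0desc X (L0 Y) g)).app (op 0), ?_⟩
  have h := Injective.comp_factorThru (L0desc X Q f) (L0desc X (L0 Y) g)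
  have h2 := congrArg (fun φ => φ.app (op 0)) h
  exact h2

theorem enough_forward [EnoughInjectives (ℕᵒᵖ ⥤ A)] : EnoughInjectives A := by
  refine ⟨fun X => ?_⟩
  let Q : ℕᵒᵖ ⥤ A := Injective.under (L0 X)
  let ι : L0 X ⟶ Q := Injective.ι (L0 X)
  have : Injective (Q.obj (op 0)) := injective_eval_zero Q
  have : Mono (ι.app (op 0)) := (NatTrans.mono_iff_mono_app ι).mp inferInstance (op 0)
  exact ⟨⟨Q.obj (op 0), inferInstance, (ι.app (op 0) : X ⟶ Q.obj (op 0)), ‹_›⟩⟩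

end forward

/-- For an abelian category A, the category of inverse systems (A_n)_n indexed by ℕ, i.e. of functors
ℕᵒᵖ ⥤ A, has enough injectives if and only if A has enough injectives. (The second assertion of the
published proposition, describing the injective systems, is not part of this row.) -/
theorem result
    (A : Type u) [Category.{v} A] [Abelian A] :
    EnoughInjectives (ℕᵒᵖ ⥤ A) ↔ EnoughInjectives A := by
  exact ⟨fun _ => enough_forward, fun _ => enough_backward⟩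

end Groth.Agent.S14023
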