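import Groth.Statements.S14029
import Groth.Agent.Lib.Helper71.OverSubterminal

set_option autoImplicit false
open CategoryTheory CategoryTheory.Limits Opposite
universe v u
open CohSite

namespace Groth.Agent.S14029

/-- Let (C, J) be a site and U an object such that every object has at most one morphism to U; assume
extension by the empty set j_! from sheaves of sets on the localized site C/U to sheaves of sets on
C exists (through sheafification on C and left Kan extensions along C/U → C). If V is weakly
contractible in C — every epimorphism of sheaves of sets on C is surjective on sections over V —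
then for any morphism a : V ⟶ U the object V → U of C/U is weakly contractible in C/U: every
epimorphism of sheaves of sets on C/U is surjective on sections over it. Hence C/U has enough weakly
contractible objects when C does. -/
theorem result
    {C : Type u} [Category.{v} C] (J : GrothendieckTopology C) (U : C)
    (hU : ∀ W : C, Subsingleton (W ⟶ U))
    [HasWeakSheafify J (Type (max u v))]
    [∀ (P : (Over U)ᵒᵖ ⥤ Type (max u v)), (Over.forget U).op.HasLeftKanExtension P]
    (V : C) (hV : (∀ (A B : Sheaf J (Type (max u v))) (ψ : A ⟶ B), Epi ψ → Function.Surjective (ψ.hom.app (op V)))) (a : V ⟶ U) :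
    ∀ (A B : Sheaf (J.over U) (Type (max u v))) (ψ : A ⟶ B), Epi ψ →
      Function.Surjective (ψ.hom.app (op (Over.mk a))) := by
  intro A B ψ hψ b
  have hunit := Groth.Agent.Lib.Helper71.isIso_unit_sheafAdjunctionContinuous_of_subterminal J U hU
    (Type (max u v))
  set adj := (Over.forget U).sheafAdjunctionContinuous (Type (max u v)) (J.over U) J with hadj
  have : ((Over.forget U).sheafPullback (Type (max u v)) (J.over U) J).PreservesEpimorphisms :=
    Functor.preservesEpimorphisms_of_adjunction adj
  have hepi : Epi (((Over.forget U).sheafPullback (Type (max u v)) (J.over U) J).map ψ) :=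
    inferInstance
  have hsurj := hV _ _ _ hepi
  -- components of the unit are bijective
  have hbij : ∀ (F : Sheaf (J.over U) (Type (max u v))) (X : (Over U)ᵒᵖ),
      Function.Bijective ((adj.unit.app F).hom.app X) := by
    intro F X
    have h1 : IsIso (adj.unit.app F) := inferInstance
    have h2 : IsIso ((sheafToPresheaf _ _ ⋙ (evaluation _ _).obj X).map (adj.unit.app F)) :=
      inferInstance
    exact (isIso_iff_bijective _).1 h2
  obtain ⟨a', ha'⟩ := hsurj ((adj.unit.app B).hom.app (op (Over.mk a)) b)
  obtain ⟨a0, ha0⟩ := (hbij A (op (Over.mk a))).2 a'
  refine ⟨a0, (hbij B (op (Over.mk a))).1 ?_⟩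
  have hnat := adj.unit.naturality ψ
  have hnat' := congrArg (fun f => f.hom.app (op (Over.mk a))) hnat
  have hnat'' := ConcreteCategory.congr_hom hnat' a0
  rw [← ha0] at ha'
  exact hnat''.trans ha'

end Groth.Agent.S14029
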