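import Groth.Statements.S14032
import Mathlib.Tactic
import Mathlib.LinearAlgebra.TensorProduct.Quotient
import Mathlib.RingTheory.Noetherian.Nilpotent
import Mathlib.RingTheory.Ideal.Operations

set_option autoImplicit false
universe u v
open W4c1frobunstiva

namespace Groth.Agent.S14032

open TensorProduct

section aux

variable {R : Type u} [CommRing R] {M : Type v} [AddCommGroup M] [Module R M] (I : Ideal R)

theorem one_tmul_eq_zero_iff (x : M) :
    (1 : R ⧸ I) ⊗ₜ[R] x = 0 ↔ x ∈ I • (⊤ : Submodule R M) := by
  rw [← (TensorProduct.quotTensorEquivQuotSMul M I).map_eq_zero_iff,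
    TensorProduct.quotTensorEquivQuotSMul_mk_one_tmul, Submodule.Quotient.mk_eq_zero]

theorem exists_one_tmul (t : (R ⧸ I) ⊗[R] M) : ∃ x : M, (1 : R ⧸ I) ⊗ₜ[R] x = t := by
  obtain ⟨x, hx⟩ := Submodule.Quotient.mk_surjective _
    (TensorProduct.quotTensorEquivQuotSMul M I t)
  refine ⟨x, ?_⟩
  apply (TensorProduct.quotTensorEquivQuotSMul M I).injective
  rw [TensorProduct.quotTensorEquivQuotSMul_mk_one_tmul, hx]

theorem mk_smul_one_tmul (a : R) (x : M) :
    (Ideal.Quotient.mk I a) • ((1 : R ⧸ I) ⊗ₜ[R] x) = (1 : R ⧸ I) ⊗ₜ[R] (a • x) := by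
  rw [TensorProduct.smul_tmul', smul_eq_mul, mul_one, TensorProduct.tmul_smul,
    TensorProduct.smul_tmul']
  congr 1
  rw [Algebra.smul_def, mul_one]
  rfl

theorem sum_mk_smul_one_tmul {ι : Type*} (s : Finset ι) (a : ι → R) (m : ι → M) :
    ∑ i ∈ s, (Ideal.Quotient.mk I (a i)) • ((1 : R ⧸ I) ⊗ₜ[R] m i) =
      (1 : R ⧸ I) ⊗ₜ[R] (∑ i ∈ s, a i • m i) := by
  rw [TensorProduct.tmul_sum]
  exact Finset.sum_congr rfl fun i _ => mk_smul_one_tmul I (a i) (m i)

/-- Nakayama for nilpotent ideals, no finiteness needed. -/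
theorem eq_top_of_sup_smul_of_isNilpotent (hI : IsNilpotent I) (P : Submodule R M)
    (h : P ⊔ I • (⊤ : Submodule R M) = ⊤) : P = ⊤ := by
  obtain ⟨k, hk⟩ := hI
  have key : ∀ j : ℕ, P ⊔ (I ^ j) • (⊤ : Submodule R M) = ⊤ := by
    intro j
    induction j with
    | zero => simp
    | succ j ih =>
      apply top_unique
      calc (⊤ : Submodule R M) = P ⊔ I • (⊤ : Submodule R M) := h.symm
        _ = P ⊔ I • (P ⊔ (I ^ j) • (⊤ : Submodule R M)) := by rw [ih]
        _ = P ⊔ (I • P ⊔ I • (I ^ j) • (⊤ : Submodule R M)) := by rw [Submodule.smul_sup]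
        _ ≤ P ⊔ (I ^ (j + 1)) • (⊤ : Submodule R M) := by
          rw [← Submodule.mul_smul, ← pow_succ']
          exact sup_le le_sup_left (sup_le (Submodule.smul_le_right.trans le_sup_left) le_sup_right)
  have := key k
  rwa [hk, Ideal.zero_eq_bot, Submodule.bot_smul, sup_bot_eq] at this

end aux

open TensorProduct in
/-- Let R be a commutative Noetherian ring with nilradical n, M an R-module and r a natural number. Then
M is NR-free of rank r — generated by r elements such that every linear relation among them has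
nilpotent coefficients — if and only if (R/n) ⊗_R M is free of rank r over R/n, in the sense of
admitting a basis indexed by r elements. (The published statement assumes M finitely generated and
also gives the converse when R is local; over a Noetherian ring the nilradical is nilpotent, the
case used here, and finite generation is not needed.) -/
theorem result (R : Type u) [CommRing R]
    [IsNoetherianRing R] (M : Type v) [AddCommGroup M] [Module R M] (r : ℕ) :
    W4c1frobunstiva.IsNRFree R M r ↔
      Nonempty (Module.Basis (Fin r) (R ⧸ nilradical R) ((R ⧸ nilradical R) ⊗[R] M)) := by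
  set N := nilradical R with hN
  constructor
  · rintro ⟨m, hspan, hrel⟩
    refine ⟨Module.Basis.mk (v := fun i => (1 : R ⧸ N) ⊗ₜ[R] m i) ?_ ?_⟩
    · rw [Fintype.linearIndependent_iff]
      intro g hg i
      choose a ha using fun i => Ideal.Quotient.mk_surjective (g i)
      have hg' : ∑ i, (Ideal.Quotient.mk N (a i)) • ((1 : R ⧸ N) ⊗ₜ[R] m i) = 0 := by
        simpa [ha] using hg
      rw [sum_mk_smul_one_tmul, one_tmul_eq_zero_iff, ← hspan,
        Submodule.mem_ideal_smul_span_iff_exists_sum] at hg'
      obtain ⟨c, hc, hsum⟩ := hg'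
      rw [Finsupp.sum_fintype c _ (fun i => zero_smul R (m i))] at hsum
      have h0 : ∑ i, (a i - c i) • m i = 0 := by
        simp only [sub_smul, Finset.sum_sub_distrib, hsum, sub_self]
      have hnil := hrel _ h0 i
      have hmem : a i ∈ N := by
        have h1 : a i - c i ∈ N := (mem_nilradical).mpr hnil
        have := N.add_mem h1 (hc i)
        simpa using this
      rw [← ha i]
      exact Ideal.Quotient.eq_zero_iff_mem.mpr hmem
    · rintro t -
      obtain ⟨x, rfl⟩ := exists_one_tmul N t
      have hx : x ∈ Submodule.span R (Set.range m) := hspan ▸ Submodule.mem_top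
      obtain ⟨c, rfl⟩ := (Submodule.mem_span_range_iff_exists_fun R).mp hx
      rw [← sum_mk_smul_one_tmul]
      exact Submodule.sum_mem _ fun i _ =>
        Submodule.smul_mem _ _ (Submodule.subset_span ⟨i, rfl⟩)
  · rintro ⟨b⟩
    choose m hm using fun i => exists_one_tmul N (b i)
    refine ⟨m, ?_, ?_⟩
    · apply eq_top_of_sup_smul_of_isNilpotent N (IsNoetherianRing.isNilpotent_nilradical R)
      apply top_unique
      rintro x -
      -- expand `1 ⊗ x` in the basis
      choose a ha using fun i => Ideal.Quotient.mk_surjective (b.repr ((1 : R ⧸ N) ⊗ₜ[R] x) i)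
      have h1 : (1 : R ⧸ N) ⊗ₜ[R] x = (1 : R ⧸ N) ⊗ₜ[R] (∑ i, a i • m i) := by
        rw [← sum_mk_smul_one_tmul]
        conv_lhs => rw [← b.sum_repr ((1 : R ⧸ N) ⊗ₜ[R] x)]
        exact Finset.sum_congr rfl fun i _ => by rw [ha, hm]
      have h2 : x - ∑ i, a i • m i ∈ N • (⊤ : Submodule R M) := by
        rw [← one_tmul_eq_zero_iff, TensorProduct.tmul_sub, h1, sub_self]
      have h3 : ∑ i, a i • m i ∈ Submodule.span R (Set.range m) :=
        Submodule.sum_mem _ fun i _ =>
          Submodule.smul_mem _ _ (Submodule.subset_span ⟨i, rfl⟩)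
      have : x = ∑ i, a i • m i + (x - ∑ i, a i • m i) := by abel
      rw [this]
      exact Submodule.add_mem_sup h3 h2
    · intro a ha i
      have h1 : ∑ i, (Ideal.Quotient.mk N (a i)) • b i = 0 := by
        have := sum_mk_smul_one_tmul N Finset.univ a m
        rw [ha, TensorProduct.tmul_zero] at this
        simpa [hm] using this
      have h2 := (Fintype.linearIndependent_iff.mp b.linearIndependent) _ h1 i
      exact mem_nilradical.mp (Ideal.Quotient.eq_zero_iff_mem.mp h2)

end Groth.Agent.S14032
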