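import Groth.Statements.S14033
import Mathlib.Tactic
import Mathlib.LinearAlgebra.Dimension.OrzechProperty
import Mathlib.LinearAlgebra.Dimension.StrongRankCondition

set_option autoImplicit false
universe u v
open W4c1frobunstiva

namespace Groth.Agent.S14033

open DualNumber Pointwise TrivSqZeroExt

section aux

variable {R : Type u} [CommRing R] {M : Type v} [AddCommGroup M] [Module R[ε] M] [Module R M]
  [IsScalarTower R R[ε] M]

theorem smul_eq (x : R[ε]) (m : M) :
    x • m = x.fst • m + x.snd • ((ε : R[ε]) • m) := by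
  conv_lhs => rw [← TrivSqZeroExt.inl_fst_add_inr_snd_eq x]
  rw [add_smul, DualNumber.inr_eq_smul_eps, smul_assoc]
  congr 1
  rw [show (inl x.fst : R[ε]) = algebraMap R R[ε] x.fst from rfl, algebraMap_smul]

theorem eps_eps (m : M) : (ε : R[ε]) • ((ε : R[ε]) • m) = 0 := by
  rw [smul_smul, DualNumber.eps_mul_eps, zero_smul]

theorem eps_smul (x : R[ε]) (m : M) :
    (ε : R[ε]) • (x • m) = x.fst • ((ε : R[ε]) • m) := by
  rw [smul_eq x m, smul_add, smul_comm (ε : R[ε]) x.fst m, smul_comm (ε : R[ε]) x.snd, eps_eps,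
    smul_zero, add_zero]

theorem mem_epsM (m : M) :
    m ∈ (ε : R[ε]) • (⊤ : Submodule R[ε] M) ↔ ∃ y : M, (ε : R[ε]) • y = m := by
  rw [Submodule.mem_smul_pointwise_iff_exists]
  simp


theorem repr_smul_basis (r : ℕ) (b : Module.Basis (Fin r) R[ε] M) (a : Fin r → R) (j : Fin r) :
    (b.repr (∑ i, a i • b i) j) = algebraMap R R[ε] (a j) := by
  have : ∑ i, a i • b i = ∑ i, (algebraMap R R[ε] (a i)) • b i := by
    simp only [algebraMap_smul]
  rw [this, Module.Basis.repr_sum_self]

theorem forward (r : ℕ) (b : Module.Basis (Fin r) R[ε] M) :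
    Nonempty (Module.Basis (Fin r) R (M ⧸ ((ε : R[ε]) • (⊤ : Submodule R[ε] M)))) ∧
      Nonempty (Module.Basis (Fin r) R
        (((ε : R[ε]) • (⊤ : Submodule R[ε] M)).restrictScalars R)) := by
  constructor
  · refine ⟨Module.Basis.mk (v := fun i =>
      (Submodule.Quotient.mk (b i) : M ⧸ ((ε : R[ε]) • (⊤ : Submodule R[ε] M)))) ?_ ?_⟩
    · rw [Fintype.linearIndependent_iff]
      intro a ha j
      have h1 : (Submodule.Quotient.mk (∑ i, a i • b i) :
          M ⧸ ((ε : R[ε]) • (⊤ : Submodule R[ε] M))) = 0 := by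
        rw [← ha, ← Submodule.mkQ_apply, map_sum]
        rfl
      rw [Submodule.Quotient.mk_eq_zero, mem_epsM] at h1
      obtain ⟨y, hy⟩ := h1
      have h2 := congrArg (fun m => (b.repr m j).fst) hy
      simp only [map_smul, Finsupp.smul_apply, smul_eq_mul, TrivSqZeroExt.fst_mul,
        DualNumber.fst_eps, zero_mul] at h2
      rw [repr_smul_basis, TrivSqZeroExt.algebraMap_eq_inl, TrivSqZeroExt.fst_inl] at h2
      exact h2.symm
    · rintro x -
      obtain ⟨m, rfl⟩ := Submodule.Quotient.mk_surjective _ x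
      have hm : m = ∑ i, ((b.repr m i).fst • b i + (b.repr m i).snd • ((ε : R[ε]) • b i)) := by
        conv_lhs => rw [← b.sum_repr m]
        exact Finset.sum_congr rfl fun i _ => smul_eq _ _
      rw [hm, ← Submodule.mkQ_apply, map_sum]
      refine Submodule.sum_mem _ fun i _ => ?_
      rw [Submodule.mkQ_apply]
      rw [Submodule.Quotient.mk_add, Submodule.Quotient.mk_smul, Submodule.Quotient.mk_smul]
      have h0 : (Submodule.Quotient.mk ((ε : R[ε]) • b i) :
          M ⧸ ((ε : R[ε]) • (⊤ : Submodule R[ε] M))) = 0 := by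
        rw [Submodule.Quotient.mk_eq_zero, mem_epsM]
        exact ⟨_, rfl⟩
      rw [h0, smul_zero, add_zero]
      exact Submodule.smul_mem _ _ (Submodule.subset_span ⟨i, rfl⟩)
  · have hmem : ∀ i, (ε : R[ε]) • b i ∈
        ((ε : R[ε]) • (⊤ : Submodule R[ε] M)).restrictScalars R := fun i =>
      (mem_epsM _).mpr ⟨_, rfl⟩
    refine ⟨Module.Basis.mk (v := fun i => (⟨(ε : R[ε]) • b i, hmem i⟩ :
      ((ε : R[ε]) • (⊤ : Submodule R[ε] M)).restrictScalars R)) ?_ ?_⟩
    · rw [Fintype.linearIndependent_iff]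
      intro a ha j
      have h1 : ∑ i, a i • ((ε : R[ε]) • b i) = 0 := by
        have := congrArg Subtype.val ha
        simpa using this
      have h2 : ∑ i, (a i • (ε : R[ε])) • b i = 0 := by
        rw [← h1]
        exact Finset.sum_congr rfl fun i _ => smul_assoc _ _ _
      have h3 := (Fintype.linearIndependent_iff.mp b.linearIndependent) _ h2 j
      have h4 := congrArg TrivSqZeroExt.snd h3
      simpa using h4
    · rintro ⟨x, hx⟩ -
      obtain ⟨y, rfl⟩ := (mem_epsM x).mp hx
      have hy : (ε : R[ε]) • y = ∑ i, (b.repr y i).fst • ((ε : R[ε]) • b i) := by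
        conv_lhs => rw [← b.sum_repr y, Finset.smul_sum]
        exact Finset.sum_congr rfl fun i _ => eps_smul _ _
      have : (⟨(ε : R[ε]) • y, hx⟩ :
          ((ε : R[ε]) • (⊤ : Submodule R[ε] M)).restrictScalars R) =
          ∑ i, (b.repr y i).fst • (⟨(ε : R[ε]) • b i, hmem i⟩ :
            ((ε : R[ε]) • (⊤ : Submodule R[ε] M)).restrictScalars R) := by
        apply Subtype.ext
        simp only [hy]
        simp
      rw [this]
      exact Submodule.sum_mem _ fun i _ =>
        Submodule.smul_mem _ _ (Submodule.subset_span ⟨i, rfl⟩)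


theorem backward (r : ℕ)
    (ub : Module.Basis (Fin r) R (M ⧸ ((ε : R[ε]) • (⊤ : Submodule R[ε] M))))
    (vb : Module.Basis (Fin r) R (((ε : R[ε]) • (⊤ : Submodule R[ε] M)).restrictScalars R)) :
    Nonempty (Module.Basis (Fin r) R[ε] M) := by
  choose u hu using fun i => Submodule.Quotient.mk_surjective _ (ub i)
  have hdecomp1 : ∀ m : M, ∃ a : Fin r → R, ∃ y : M,
      m = ∑ i, a i • u i + (ε : R[ε]) • y := by
    intro m
    have h1 : (Submodule.Quotient.mk (m - ∑ i, (ub.repr (Submodule.Quotient.mk m) i) • u i) :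
        M ⧸ ((ε : R[ε]) • (⊤ : Submodule R[ε] M))) = 0 := by
      rw [Submodule.Quotient.mk_sub, ← Submodule.mkQ_apply _ (∑ i, _), map_sum]
      simp only [Submodule.mkQ_apply, Submodule.Quotient.mk_smul, hu]
      rw [ub.sum_repr, sub_self]
    rw [Submodule.Quotient.mk_eq_zero, mem_epsM] at h1
    obtain ⟨y, hy⟩ := h1
    exact ⟨fun i => ub.repr (Submodule.Quotient.mk m) i, y, by rw [hy]; abel⟩
  have hspan : ∀ m : M, ∃ x : Fin r → R[ε], m = ∑ i, x i • u i := by
    intro m
    obtain ⟨a, y, rfl⟩ := hdecomp1 m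
    obtain ⟨c, y', rfl⟩ := hdecomp1 y
    refine ⟨fun i => TrivSqZeroExt.inl (a i) + TrivSqZeroExt.inr (c i), ?_⟩
    rw [smul_add, eps_eps, add_zero, Finset.smul_sum, ← Finset.sum_add_distrib]
    refine Finset.sum_congr rfl fun i _ => ?_
    rw [smul_eq (TrivSqZeroExt.inl (a i) + TrivSqZeroExt.inr (c i)) (u i), smul_comm]
    simp
  have hmem : ∀ i, (ε : R[ε]) • u i ∈
      ((ε : R[ε]) • (⊤ : Submodule R[ε] M)).restrictScalars R := fun i =>
    (mem_epsM _).mpr ⟨_, rfl⟩
  refine ⟨Module.Basis.mk (v := u) ?_ ?_⟩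
  · rw [Fintype.linearIndependent_iff]
    intro x hx j
    rcases subsingleton_or_nontrivial R with hR | hR
    · exact TrivSqZeroExt.ext (Subsingleton.elim _ _) (Subsingleton.elim _ _)
    -- the family `ε • u i` is `R`-linearly independent
    have hw : LinearIndependent R (fun i => (⟨(ε : R[ε]) • u i, hmem i⟩ :
        ((ε : R[ε]) • (⊤ : Submodule R[ε] M)).restrictScalars R)) := by
      apply linearIndependent_of_top_le_span_of_card_eq_finrank
      · rintro ⟨z, hz⟩ -
        obtain ⟨m, rfl⟩ := (mem_epsM z).mp hz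
        obtain ⟨x, rfl⟩ := hspan m
        have hy : (ε : R[ε]) • ∑ i, x i • u i = ∑ i, (x i).fst • ((ε : R[ε]) • u i) := by
          rw [Finset.smul_sum]
          exact Finset.sum_congr rfl fun i _ => eps_smul _ _
        have : (⟨(ε : R[ε]) • ∑ i, x i • u i, hz⟩ :
            ((ε : R[ε]) • (⊤ : Submodule R[ε] M)).restrictScalars R) =
            ∑ i, (x i).fst • (⟨(ε : R[ε]) • u i, hmem i⟩ :
              ((ε : R[ε]) • (⊤ : Submodule R[ε] M)).restrictScalars R) := by
          apply Subtype.ext
          simp only [hy]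
          simp
        rw [this]
        exact Submodule.sum_mem _ fun i _ =>
          Submodule.smul_mem _ _ (Submodule.subset_span ⟨i, rfl⟩)
      · rw [Module.finrank_eq_card_basis vb]
    -- split the relation
    have hx' : ∑ i, ((x i).fst • u i + (x i).snd • ((ε : R[ε]) • u i)) = 0 := by
      rw [← hx]
      exact Finset.sum_congr rfl fun i _ => (smul_eq _ _).symm
    have h1 : ∑ i, (x i).fst • ub i = 0 := by
      have := congrArg (Submodule.mkQ ((ε : R[ε]) • (⊤ : Submodule R[ε] M))) hx'
      rw [map_sum, map_zero] at this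
      rw [← this]
      refine Finset.sum_congr rfl fun i _ => ?_
      rw [Submodule.mkQ_apply, Submodule.Quotient.mk_add, Submodule.Quotient.mk_smul,
        Submodule.Quotient.mk_smul, hu]
      have h0 : (Submodule.Quotient.mk ((ε : R[ε]) • u i) :
          M ⧸ ((ε : R[ε]) • (⊤ : Submodule R[ε] M))) = 0 := by
        rw [Submodule.Quotient.mk_eq_zero, mem_epsM]
        exact ⟨_, rfl⟩
      rw [h0, smul_zero, add_zero]
    have hfst : ∀ i, (x i).fst = 0 := Fintype.linearIndependent_iff.mp ub.linearIndependent _ h1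
    have h2 : ∑ i, (x i).snd • (⟨(ε : R[ε]) • u i, hmem i⟩ :
        ((ε : R[ε]) • (⊤ : Submodule R[ε] M)).restrictScalars R) = 0 := by
      apply Subtype.ext
      simp only [hfst, zero_smul, zero_add] at hx'
      simpa using hx'
    have hsnd : ∀ i, (x i).snd = 0 := Fintype.linearIndependent_iff.mp hw _ h2
    exact TrivSqZeroExt.ext (hfst j) (hsnd j)
  · rintro m -
    obtain ⟨x, rfl⟩ := hspan m
    exact Submodule.sum_mem _ fun i _ =>
      Submodule.smul_mem _ _ (Submodule.subset_span ⟨i, rfl⟩)

end aux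

open DualNumber Pointwise in
/-- Let R be a commutative ring, R[ε] its ring of dual numbers (ε² = 0), M an R[ε]-module and r a
natural number. Then M is free of rank r over R[ε] (admits a basis of r elements) if and only if the
R-modules M/εM and εM are both free of rank r. (The published statement concerns a coherent sheaf on
the product of a scheme S with Spec ℤ[ε] and local freeness of rank r; that assertion is local, and
this row is its form over one ring, with no finiteness assumption on M and no hypothesis on R.) -/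
theorem result (R : Type u) [CommRing R] (M : Type v)
    [AddCommGroup M] [Module R[ε] M] [Module R M] [IsScalarTower R R[ε] M] (r : ℕ) :
    Nonempty (Module.Basis (Fin r) R[ε] M) ↔
      (Nonempty (Module.Basis (Fin r) R (M ⧸ ((ε : R[ε]) • (⊤ : Submodule R[ε] M)))) ∧
        Nonempty (Module.Basis (Fin r) R (((ε : R[ε]) • (⊤ : Submodule R[ε] M)).restrictScalars R))) := by
  constructor
  · rintro ⟨b⟩
    exact forward r b
  · rintro ⟨⟨ub⟩, ⟨vb⟩⟩
    exact backward r ub vb

end Groth.Agent.S14033
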