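import Groth.Statements.S14034
import Mathlib
-- import your own Groth.Agent.* helpers here

set_option autoImplicit false
universe u
open W4c1frobunstiva

namespace Groth.Agent.S14034

section Helpers

variable {R : Type*} [CommRing R] [IsLocalRing R]

theorem ker_free_of_surjective {a s : ℕ} {M : Type*} [AddCommGroup M] [Module R M]
    [Module.Free R M] [Module.Finite R M]
    (ha : Module.finrank R M = a) (Ψ : M →ₗ[R] (Fin s → R)) (hΨ : Function.Surjective Ψ) :
    ∃ (_ : Module.Basis (Fin (a - s)) R (LinearMap.ker Ψ)) (P : M →ₗ[R] LinearMap.ker Ψ),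
      ∀ k : LinearMap.ker Ψ, P k = k := by
  obtain ⟨σ, hσ⟩ := Module.projective_lifting_property Ψ LinearMap.id hΨ
  have hσ' : ∀ w, Ψ (σ w) = w := fun w => LinearMap.congr_fun hσ w
  let P : M →ₗ[R] LinearMap.ker Ψ :=
    LinearMap.codRestrict (LinearMap.ker Ψ) (LinearMap.id - σ ∘ₗ Ψ) (fun x => by
      rw [LinearMap.mem_ker]; simp [hσ'])
  have hP : ∀ k : LinearMap.ker Ψ, P k = k := by
    intro k
    apply Subtype.ext
    have hk : Ψ (k : M) = 0 := k.2
    simp [P, hk]
  have : Module.Projective R (LinearMap.ker Ψ) :=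
    Module.Projective.of_split (LinearMap.ker Ψ).subtype P (LinearMap.ext hP)
  have : Module.Finite R (LinearMap.ker Ψ) :=
    Module.Finite.of_surjective P (fun k => ⟨k, hP k⟩)
  have : Module.Free R (LinearMap.ker Ψ) := Module.free_of_flat_of_isLocalRing
  let e : M ≃ₗ[R] (LinearMap.ker Ψ × (Fin s → R)) :=
    LinearEquiv.ofLinearMap (P.prod Ψ) ((LinearMap.ker Ψ).subtype.coprod σ)
      (by
        apply LinearMap.ext
        rintro ⟨k, w⟩
        have hk : Ψ (k : M) = 0 := k.2
        apply Prod.ext
        · apply Subtype.ext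
          simp [P, hσ', hk]
        · simp [hσ', hk])
      (by
        apply LinearMap.ext
        intro x
        simp [P])
  have hrank : Module.finrank R (LinearMap.ker Ψ) + s = a := by
    rw [← ha, e.finrank_eq, Module.finrank_prod, Module.finrank_fin_fun]
  exact ⟨Module.finBasisOfFinrankEq R _ (by omega), P, hP⟩

end Helpers


/-- Let R be a Noetherian local ring and f an element of R whose annihilator consists of nilpotent
elements (a f = 0 forces a nilpotent), r, s and l ≤ s natural numbers, N the quotient of the free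
module R^s by the submodule spanned by f e_1, …, f e_l (e_i the standard basis vectors), and φ : R^r
→ N a surjective linear map. Then the kernel of φ is NR-free of rank r + l − s: it is generated by r
+ l − s elements every linear relation among which has nilpotent coefficients; and when l = 0 the
kernel is free of rank r − s. (The published statement takes R Noetherian with irreducible spectrum
and R_red a domain, not necessarily local, and f arbitrary. Over the coordinate ring of the real
2-sphere the kernel of (x, y, z) : R³ → R is not free, and over k[x, y]/(y², xy) localised at (x, y)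
with f = y the kernel of R → R/(y) is spanned by y with the non-nilpotent relation x·y = 0. The
published argument uses that the kernel of a surjection of free modules is free, true over a local
ring, and that a f = 0 forces a nilpotent, which is the hypothesis taken here; it holds when R_red
is a domain and f is not nilpotent, and also for f = ε in A[ε] with A a domain, so primality of the
nilradical is not assumed.) -/
theorem result (R : Type u)
    [CommRing R] [IsNoetherianRing R] [IsLocalRing R] (f : R)
    (hann : ∀ a : R, a * f = 0 → IsNilpotent a) (r s l : ℕ) (hls : l ≤ s)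
    (φ : (Fin r → R) →ₗ[R]
      ((Fin s → R) ⧸ Submodule.span R (Set.range fun i : Fin l => (Pi.single (Fin.castLE hls i) f : Fin s → R))))
    (hφ : Function.Surjective φ) :
    W4c1frobunstiva.IsNRFree R (LinearMap.ker φ) (r + l - s) ∧
      (l = 0 → Nonempty (Module.Basis (Fin (r - s)) R (LinearMap.ker φ))) := by
  classical
  obtain ⟨gens, hgens⟩ : ∃ gens : Fin l → (Fin s → R),
      gens = fun i => (Pi.single (Fin.castLE hls i) f : Fin s → R) := ⟨_, rfl⟩
  obtain ⟨Q, hQ⟩ : ∃ Q : Submodule R (Fin s → R), Q = Submodule.span R (Set.range gens) :=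
    ⟨_, rfl⟩
  have hQ' : Q = Submodule.span R
      (Set.range fun i : Fin l => (Pi.single (Fin.castLE hls i) f : Fin s → R)) := by
    rw [hQ, hgens]
  subst hQ'
  obtain ⟨Φ, hΦ⟩ := Module.projective_lifting_property
    (Submodule.span R (Set.range fun i : Fin l =>
      (Pi.single (Fin.castLE hls i) f : Fin s → R))).mkQ φ (Submodule.mkQ_surjective _)
  have hΦ' : ∀ u, Submodule.Quotient.mk (Φ u) = φ u := fun u => LinearMap.congr_fun hΦ u
  let Λ : (Fin l → R) →ₗ[R] (Fin s → R) := Fintype.linearCombination R gens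
  have hΛmem : ∀ v, Λ v ∈ Submodule.span R (Set.range fun i : Fin l =>
      (Pi.single (Fin.castLE hls i) f : Fin s → R)) := by
    intro v
    have : Λ v ∈ LinearMap.range Λ := LinearMap.mem_range_self Λ v
    rwa [Fintype.range_linearCombination, hgens] at this
  have hΛsurj : ∀ w ∈ Submodule.span R (Set.range fun i : Fin l =>
      (Pi.single (Fin.castLE hls i) f : Fin s → R)), ∃ v, Λ v = w := by
    intro w hw
    have : w ∈ LinearMap.range Λ := by
      rw [Fintype.range_linearCombination, hgens]; exact hw
    exact this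
  have hΛzero : ∀ v, Λ v = 0 → ∀ j, v j * f = 0 := by
    intro v hv j
    have h1 := congrFun hv (Fin.castLE hls j)
    rw [Fintype.linearCombination_apply, Finset.sum_apply] at h1
    simpa [hgens, Pi.single_apply, Fin.castLE_inj] using h1
  let Ψ : ((Fin r → R) × (Fin l → R)) →ₗ[R] (Fin s → R) := Φ.coprod Λ
  have hΨ : Function.Surjective Ψ := by
    intro w
    obtain ⟨u, hu⟩ := hφ (Submodule.Quotient.mk w)
    have h1 : w - Φ u ∈ Submodule.span R (Set.range fun i : Fin l =>
        (Pi.single (Fin.castLE hls i) f : Fin s → R)) := by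
      rw [← Submodule.Quotient.mk_eq_zero, Submodule.Quotient.mk_sub, hΦ', hu, sub_self]
    obtain ⟨v, hv⟩ := hΛsurj _ h1
    exact ⟨(u, v), by simp [Ψ, hv]⟩
  have hrk : Module.finrank R ((Fin r → R) × (Fin l → R)) = r + l := by
    rw [Module.finrank_prod, Module.finrank_fin_fun, Module.finrank_fin_fun]
  obtain ⟨b, P, hP⟩ := ker_free_of_surjective hrk Ψ hΨ
  -- projection to the first factor
  let pr : LinearMap.ker Ψ →ₗ[R] (Fin r → R) :=
    (LinearMap.fst R (Fin r → R) (Fin l → R)) ∘ₗ (LinearMap.ker Ψ).subtype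
  have hK1 : ∀ k : LinearMap.ker Ψ, pr k ∈ LinearMap.ker φ := by
    intro k
    have hk : Φ (k : (Fin r → R) × (Fin l → R)).1 + Λ (k : (Fin r → R) × (Fin l → R)).2 = 0 := k.2
    have h1 : Φ (k : (Fin r → R) × (Fin l → R)).1 = -Λ (k : (Fin r → R) × (Fin l → R)).2 :=
      eq_neg_of_add_eq_zero_left hk
    rw [LinearMap.mem_ker]
    show φ (k : (Fin r → R) × (Fin l → R)).1 = 0
    rw [← hΦ', h1, Submodule.Quotient.mk_eq_zero]
    exact Submodule.neg_mem _ (hΛmem _)
  let m : Fin (r + l - s) → LinearMap.ker φ := fun i => ⟨pr (b i), hK1 (b i)⟩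
  have hm : ∀ (c : Fin (r + l - s) → R),
      ((∑ i, c i • m i : LinearMap.ker φ) : Fin r → R) = pr (∑ i, c i • b i) := by
    intro c
    rw [map_sum, ← Submodule.subtype_apply, map_sum]
    refine Finset.sum_congr rfl (fun i _ => ?_)
    rw [map_smul, map_smul]
    rfl
  -- relations
  have hrel : ∀ a : Fin (r + l - s) → R, (∑ i, a i • m i) = 0 →
      ∃ v : Fin l → R, Λ v = 0 ∧ ∀ i, a i = (b.coord i) (P (LinearMap.inr R (Fin r → R) (Fin l → R) v)) := by
    intro a ha
    have h1 : pr (∑ i, a i • b i) = 0 := by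
      rw [← hm, ha]; rfl
    obtain ⟨k₀, hk₀⟩ : ∃ k₀ : LinearMap.ker Ψ, k₀ = ∑ i, a i • b i := ⟨_, rfl⟩
    rw [← hk₀] at h1
    have h2 : (k₀ : (Fin r → R) × (Fin l → R)) =
        LinearMap.inr R (Fin r → R) (Fin l → R) (k₀ : (Fin r → R) × (Fin l → R)).2 := by
      apply Prod.ext
      · exact h1
      · rfl
    refine ⟨(k₀ : (Fin r → R) × (Fin l → R)).2, ?_, ?_⟩
    · have hk : Φ (k₀ : (Fin r → R) × (Fin l → R)).1 + Λ (k₀ : (Fin r → R) × (Fin l → R)).2 = 0 :=
        k₀.2
      have h3 : (k₀ : (Fin r → R) × (Fin l → R)).1 = 0 := h1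
      rw [h3, map_zero, zero_add] at hk
      exact hk
    · intro i
      rw [← h2, hP, hk₀, Module.Basis.coord_apply, Module.Basis.repr_sum_self]
  refine ⟨⟨m, ?_, ?_⟩, ?_⟩
  · -- span
    rw [Submodule.eq_top_iff']
    rintro ⟨u, hu⟩
    have h1 : Φ u ∈ Submodule.span R (Set.range fun i : Fin l =>
        (Pi.single (Fin.castLE hls i) f : Fin s → R)) := by
      rw [← Submodule.Quotient.mk_eq_zero, hΦ']
      exact hu
    obtain ⟨v, hv⟩ := hΛsurj _ h1
    have hk : ((u, -v) : (Fin r → R) × (Fin l → R)) ∈ LinearMap.ker Ψ := by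
      rw [LinearMap.mem_ker]
      simp [Ψ, hv]
    have hx : (⟨u, hu⟩ : LinearMap.ker φ) = ∑ i, (b.repr ⟨(u, -v), hk⟩ i) • m i := by
      apply Subtype.ext
      rw [hm, b.sum_repr]
      rfl
    rw [hx]
    exact Submodule.sum_mem _ (fun i _ => Submodule.smul_mem _ _ (Submodule.subset_span ⟨i, rfl⟩))
  · -- relations are nilpotent
    intro a ha i
    obtain ⟨v, hv0, hv⟩ := hrel a ha
    rw [hv i]
    have h1 := LinearMap.pi_apply_eq_sum_univ
      ((b.coord i) ∘ₗ P ∘ₗ (LinearMap.inr R (Fin r → R) (Fin l → R))) v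
    rw [LinearMap.comp_apply, LinearMap.comp_apply] at h1
    rw [h1, ← mem_nilradical]
    refine Ideal.sum_mem _ (fun j _ => ?_)
    rw [smul_eq_mul]
    exact Ideal.mul_mem_right _ _ (mem_nilradical.mpr (hann _ (hΛzero v hv0 j)))
  · -- l = 0
    intro hl0
    have hli : LinearIndependent R m := by
      rw [Fintype.linearIndependent_iff]
      intro a ha i
      obtain ⟨v, -, hv⟩ := hrel a ha
      have hv0 : v = 0 := by
        funext j
        have hj := j.2
        omega
      rw [hv i, hv0, map_zero, map_zero, map_zero]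
    have hsp : ⊤ ≤ Submodule.span R (Set.range m) := by
      rw [top_le_iff, Submodule.eq_top_iff']
      rintro ⟨u, hu⟩
      have h1 : Φ u ∈ Submodule.span R (Set.range fun i : Fin l =>
          (Pi.single (Fin.castLE hls i) f : Fin s → R)) := by
        rw [← Submodule.Quotient.mk_eq_zero, hΦ']
        exact hu
      obtain ⟨v, hv⟩ := hΛsurj _ h1
      have hk : ((u, -v) : (Fin r → R) × (Fin l → R)) ∈ LinearMap.ker Ψ := by
        rw [LinearMap.mem_ker]
        simp [Ψ, hv]
      have hx : (⟨u, hu⟩ : LinearMap.ker φ) = ∑ i, (b.repr ⟨(u, -v), hk⟩ i) • m i := by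
        apply Subtype.ext
        rw [hm, b.sum_repr]
        rfl
      rw [hx]
      exact Submodule.sum_mem _
        (fun i _ => Submodule.smul_mem _ _ (Submodule.subset_span ⟨i, rfl⟩))
    exact ⟨(Module.Basis.mk hli hsp).reindex (finCongr (by omega))⟩

end Groth.Agent.S14034
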