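import Groth.Statements.S14035
import Groth.Agent.Lib.Helper71.FlatQuot
import Mathlib.LinearAlgebra.Matrix.Charpoly.LinearMap

set_option autoImplicit false
universe u v
open W4c1frobunstiva

namespace Groth.Agent.S14035

open TensorProduct Groth.Agent.Lib.Helper71

section aux

variable {A : Type u} {B : Type v} [CommRing A] [CommRing B] [Algebra A B]

/-- Step A: a nilpotent element of `B` is, up to an element of `A ∖ p`, in `p · nil(B)`. -/
theorem stepA [Module.Flat A (B ⧸ nilradical B)] (p : Ideal A) [p.IsPrime]
    (hfib : IsReduced (p.ResidueField ⊗[A] B)) (n : B) (hn : n ∈ nilradical B) :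
    ∃ s : A, s ∉ p ∧ algebraMap A B s * n ∈ p.map (algebraMap A B) * nilradical B := by
  -- `1 ⊗ n` is nilpotent hence zero
  have h1 : (1 : p.ResidueField) ⊗ₜ[A] n = 0 := by
    apply IsReduced.eq_zero
    obtain ⟨k, hk⟩ := mem_nilradical.mp hn
    exact ⟨k, by rw [Algebra.TensorProduct.tmul_pow, hk, one_pow, TensorProduct.tmul_zero]⟩
  obtain ⟨s, hs, hsn⟩ := exists_smul_mem_of_one_tmul_eq_zero p n h1
  refine ⟨s, hs, ?_⟩
  have hflat : Module.Flat A (B ⧸ (nilradical B).restrictScalars A) :=
    Module.Flat.of_linearEquiv (Submodule.Quotient.restrictScalarsEquiv A (nilradical B))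
  have hmem : s • n ∈ p • (⊤ : Submodule A B) ⊓ (nilradical B).restrictScalars A :=
    ⟨hsn, by
      show s • n ∈ nilradical B
      rw [Algebra.smul_def]
      exact Ideal.mul_mem_left _ _ hn⟩
  have h2 := inf_le_smul_of_flat_quotient p ((nilradical B).restrictScalars A) hmem
  have h3 : ∀ y ∈ p • (nilradical B).restrictScalars A,
      y ∈ p.map (algebraMap A B) * nilradical B := by
    intro y hy
    refine Submodule.smul_induction_on hy (fun a ha m hm => ?_) (fun x y hx hy => add_mem hx hy)
    rw [Algebra.smul_def]
    exact Ideal.mul_mem_mul (Ideal.mem_map_of_mem _ ha) hm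
  have h4 := h3 _ h2
  rwa [Algebra.smul_def] at h4

/-- Step B: every prime `q` of `B` misses some element killing the nilradical. -/
theorem stepB [IsNoetherianRing B] [Module.Flat A (B ⧸ nilradical B)]
    (hfib : ∀ p : PrimeSpectrum A, IsReduced (p.asIdeal.ResidueField ⊗[A] B))
    (q : Ideal B) [hq : q.IsPrime] :
    ∃ t : B, t ∉ q ∧ ∀ n ∈ nilradical B, t * n = 0 := by
  classical
  set N := nilradical B with hN
  let p : Ideal A := q.comap (algebraMap A B)
  have hp : p.IsPrime := Ideal.comap_isPrime _ _
  -- generators of `N`
  obtain ⟨G, hG⟩ := (isNoetherianRing_iff_ideal_fg B).mp inferInstance N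
  have hGN : ∀ g ∈ G, g ∈ N := fun g hg => hG ▸ Ideal.subset_span hg
  have hA : ∀ g : G, ∃ s : A, s ∉ p ∧
      algebraMap A B s * (g : B) ∈ p.map (algebraMap A B) * N := fun g =>
    stepA p (hfib ⟨p, hp⟩) g (hGN g g.2)
  choose σ hσp hσ using hA
  let s : A := ∏ g : G, σ g
  have hsp : s ∉ p := by
    intro h
    obtain ⟨g, _, hg⟩ := (hp.prod_mem_iff).mp h
    exact hσp g hg
  have hsq : algebraMap A B s ∉ q := hsp
  -- `s N ⊆ p N`
  have hsG : ∀ g : G, algebraMap A B s * (g : B) ∈ p.map (algebraMap A B) * N := by
    intro g
    have : s = (∏ g' ∈ Finset.univ.erase g, σ g') * σ g :=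
      (Finset.prod_erase_mul _ _ (Finset.mem_univ g)).symm
    rw [this, map_mul, mul_assoc]
    exact Ideal.mul_mem_left _ _ (hσ g)
  have hsN : ∀ n ∈ N, algebraMap A B s * n ∈ q * N := by
    intro n hn
    have hle : p.map (algebraMap A B) * N ≤ q * N :=
      Ideal.mul_mono_left (Ideal.map_le_iff_le_comap.mpr le_rfl)
    rw [← hG] at hn
    refine Submodule.span_induction (p := fun n _ => algebraMap A B s * n ∈ q * N)
      (fun g hg => hle (hsG ⟨g, hg⟩)) (by simp) (fun x y _ _ hx hy => ?_)
      (fun b x _ hx => ?_) hn
    · rw [mul_add]; exact add_mem hx hy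
    · rw [smul_eq_mul, mul_left_comm]; exact Ideal.mul_mem_left _ _ hx
  -- Cayley–Hamilton on the `B`-module `N`
  let f : Module.End B N := LinearMap.lsmul B N (algebraMap A B s)
  have hrange : LinearMap.range f ≤ q • (⊤ : Submodule B N) := by
    rintro _ ⟨n, rfl⟩
    have h1 : ((f n : N) : B) ∈ q • N := hsN n n.2
    have h2 : (q • (⊤ : Submodule B N)).map N.subtype = q • N := by
      rw [Submodule.map_smul'', Submodule.map_subtype_top]
    rw [← h2] at h1
    obtain ⟨y, hy, hyx⟩ := h1
    have : y = f n := Subtype.ext hyx
    exact this ▸ hy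
  obtain ⟨P, hPmonic, -, hPcoeff, hPf⟩ :=
    LinearMap.exists_monic_and_natDegree_eq_and_coeff_mem_pow_and_aeval_eq_zero B f q hrange
  -- `t = P(s)`
  refine ⟨Polynomial.eval (algebraMap A B s) P, ?_, ?_⟩
  · -- `P(s) ≡ s^d mod q`
    intro hmem
    rw [Polynomial.eval_eq_sum_range, Finset.sum_range_succ, hPmonic.coeff_natDegree, one_mul]
      at hmem
    have hrest : ∑ k ∈ Finset.range P.natDegree, P.coeff k * algebraMap A B s ^ k ∈ q := by
      refine Ideal.sum_mem _ fun k hk => Ideal.mul_mem_right _ _ ?_
      have hk' : k < P.natDegree := Finset.mem_range.mp hk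
      have hpow : q ^ (P.natDegree - k) ≤ q := Ideal.pow_le_self (by omega)
      exact hpow (hPcoeff k)
    have : algebraMap A B s ^ P.natDegree ∈ q := (Ideal.add_mem_iff_right q hrest).mp hmem
    exact hsq (hq.mem_of_pow_mem _ this)
  · intro n hn
    have h1 : (Polynomial.aeval f P) ⟨n, hn⟩ = 0 := by rw [hPf]; rfl
    have h2 : ∀ (Q : Polynomial B) (x : N),
        ((Polynomial.aeval f Q) x : B) = Polynomial.eval (algebraMap A B s) Q * x := by
      intro Q x
      induction Q using Polynomial.induction_on' with
      | add a b ha hb => simp [map_add, ha, hb, add_mul]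
      | monomial k c =>
        simp only [Polynomial.aeval_monomial, Polynomial.eval_monomial]
        have hpow : ∀ k : ℕ, ((f ^ k) x : B) = algebraMap A B s ^ k * x := by
          intro k
          induction k with
          | zero => simp
          | succ k ih =>
            rw [pow_succ', Module.End.mul_apply]
            simp only [f, LinearMap.lsmul_apply, Submodule.coe_smul, smul_eq_mul]
            rw [show ((LinearMap.lsmul B N) ((algebraMap A B) s) ^ k) x = (f ^ k) x from rfl, ih]
            ring
        simp only [Module.End.mul_apply, Module.algebraMap_end_apply, Submodule.coe_smul,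
          smul_eq_mul, hpow]
        ring
    have := h2 P ⟨n, hn⟩
    rw [h1] at this
    simpa using this.symm

end aux

open TensorProduct in
/-- Let A → B be a ring homomorphism with B Noetherian. If B modulo its nilradical is flat over A and
every fibre ring κ(p) ⊗_A B, p a prime of A, is reduced, then B is reduced. (This is the affine form
of the statement for a morphism of schemes X → Y all of whose fibres are reduced and whose
restriction to the reduced closed subscheme X_red is flat. The published statement does not say X is
locally Noetherian, but its proof applies Nakayama's lemma to the nilradical as a finitely generated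
ideal; without it the square-zero extension of a discrete valuation ring A by Frac(A)/A is a
counterexample.) -/
theorem result (A : Type u) (B : Type v)
    [CommRing A] [CommRing B] [Algebra A B] [IsNoetherianRing B]
    [Module.Flat A (B ⧸ nilradical B)]
    (hfib : ∀ p : PrimeSpectrum A, IsReduced (p.asIdeal.ResidueField ⊗[A] B)) :
    IsReduced B := by
  rw [← nilradical_eq_bot_iff]
  -- the annihilator of the nilradical is the unit ideal
  let J : Ideal B := Submodule.annihilator (nilradical B)
  have hJ : J = ⊤ := by
    by_contra hne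
    obtain ⟨q, hq, hle⟩ := Ideal.exists_le_maximal J hne
    have := hq.isPrime
    obtain ⟨t, htq, ht⟩ := stepB (A := A) hfib q
    exact htq (hle (Submodule.mem_annihilator.mpr fun n hn => by simpa using ht n hn))
  rw [eq_bot_iff]
  intro n hn
  have h1 : (1 : B) ∈ J := hJ ▸ Submodule.mem_top
  have := Submodule.mem_annihilator.mp h1 n hn
  simpa using this

end Groth.Agent.S14035
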