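import Groth.Statements.S14039
import Mathlib

set_option autoImplicit false
open W4c1frobunstiva

namespace Groth.Agent.S14039

section helpers

open PowerSeries

/-- the generating series `X + X^2 + ⋯ + X^(p-1)`. -/
noncomputable def P (p : ℕ) : ℤ⟦X⟧ :=
  ∑ j ∈ (Finset.univ : Finset (Fin p)).filter (fun j : Fin p => 1 ≤ (j : ℕ)), (X : ℤ⟦X⟧) ^ (j : ℕ)

theorem card_eq_coeff (p n s : ℕ) :
    (Fintype.card {e : Fin n → Fin p // (∀ i, 1 ≤ (e i : ℕ)) ∧ ∑ i, (e i : ℕ) = s} : ℤ) =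
      coeff s ((P p) ^ n) := by
  have h1 : (P p) ^ n = ∑ e ∈ Fintype.piFinset (fun _ : Fin n =>
      (Finset.univ : Finset (Fin p)).filter (fun j : Fin p => 1 ≤ (j : ℕ))),
      (X : ℤ⟦X⟧) ^ (∑ i, (e i : ℕ)) := by
    have : (P p) ^ n = ∏ _i : Fin n, P p := by simp
    rw [this]
    unfold P
    rw [Finset.prod_univ_sum]
    refine Finset.sum_congr rfl (fun e _ => ?_)
    rw [Finset.prod_pow_eq_pow_sum]
  rw [h1, map_sum]
  simp_rw [coeff_X_pow]
  rw [Finset.sum_ite, Finset.sum_const_zero, add_zero, Finset.sum_const, nsmul_eq_mul, mul_one,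
    Fintype.card_subtype]
  congr 2
  ext e
  simp only [Finset.mem_filter, Finset.mem_univ, true_and, Fintype.mem_piFinset]
  constructor
  · rintro ⟨h1, h2⟩; exact ⟨h1, h2.symm⟩
  · rintro ⟨h1, h2⟩; exact ⟨h1, h2.symm⟩


theorem P_eq_range (p : ℕ) :
    P p = ∑ j ∈ Finset.range p, (if 1 ≤ j then (X : ℤ⟦X⟧) ^ j else 0) := by
  unfold P
  rw [Finset.sum_filter]
  exact Fin.sum_univ_eq_sum_range (fun j => if 1 ≤ j then (X : ℤ⟦X⟧) ^ j else 0) p

theorem P_mul (p : ℕ) (hp : 1 ≤ p) : P p * ((X : ℤ⟦X⟧) - 1) = X ^ p - X := by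
  rw [P_eq_range]
  induction p, hp using Nat.le_induction with
  | base => simp
  | succ p hp ih =>
    rw [Finset.sum_range_succ, add_mul, ih, if_pos hp]
    ring

theorem P_pow (p n : ℕ) (hp : 1 ≤ p) :
    (P p) ^ n = X ^ n * (-(X : ℤ⟦X⟧) ^ (p - 1) + 1) ^ n * (mk 1 : ℤ⟦X⟧) ^ n := by
  have h1 : P p * (1 - (X : ℤ⟦X⟧)) = X * (-(X : ℤ⟦X⟧) ^ (p - 1) + 1) := by
    have := P_mul p hp
    have hX : (X : ℤ⟦X⟧) ^ p = X * X ^ (p - 1) := by
      rw [← pow_succ']; congr 1; omega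
    rw [hX] at this
    linear_combination -this
  have h2 : (1 - (X : ℤ⟦X⟧)) ^ n * (mk 1 : ℤ⟦X⟧) ^ n = 1 := by
    rw [← mul_pow, mul_comm, mk_one_mul_one_sub_eq_one, one_pow]
  calc (P p) ^ n = (P p) ^ n * ((1 - (X : ℤ⟦X⟧)) ^ n * (mk 1 : ℤ⟦X⟧) ^ n) := by rw [h2, mul_one]
    _ = (P p * (1 - (X : ℤ⟦X⟧))) ^ n * (mk 1 : ℤ⟦X⟧) ^ n := by rw [mul_pow, mul_assoc]
    _ = _ := by rw [h1, mul_pow]


theorem coeff_formula (p n s : ℕ) (hn : 1 ≤ n) (hp : 1 ≤ p) :
    coeff s ((P p) ^ n) = ∑ i ∈ Finset.range (n + 1),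
        (-1 : ℤ) ^ i * (n.choose i : ℤ) *
          (if i * (p - 1) + n ≤ s then (((s - i * (p - 1) - 1).choose (n - 1) : ℕ) : ℤ) else 0) := by
  rw [P_pow p n hp]
  obtain ⟨d, rfl⟩ : ∃ d, n = d + 1 := ⟨n - 1, by omega⟩
  rw [mk_one_pow_eq_mk_choose_add, add_pow]
  simp only [one_pow, mul_one]
  rw [Finset.mul_sum, Finset.sum_mul, map_sum]
  refine Finset.sum_congr rfl (fun i _ => ?_)
  have h1 : (X : ℤ⟦X⟧) ^ (d + 1) * ((-(X : ℤ⟦X⟧) ^ (p - 1)) ^ i * ((d + 1).choose i : ℤ⟦X⟧)) *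
        mk (fun m => (((d + m).choose d : ℕ) : ℤ))
      = C ((-1) ^ i * ((d + 1).choose i : ℤ)) *
        (X ^ (d + 1 + (p - 1) * i) * mk (fun m => (((d + m).choose d : ℕ) : ℤ))) := by
    rw [neg_pow, ← pow_mul, map_mul, map_pow, map_neg, map_one, map_natCast, pow_add]
    ring
  rw [h1, coeff_C_mul, coeff_X_pow_mul', coeff_mk]
  congr 1
  have hcond : (d + 1 + (p - 1) * i ≤ s) ↔ (i * (p - 1) + (d + 1) ≤ s) := by
    rw [Nat.mul_comm]; omega
  by_cases hc : i * (p - 1) + (d + 1) ≤ s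
  · rw [if_pos hc, if_pos (hcond.mpr hc)]
    congr 2
    · rw [Nat.mul_comm (p - 1) i]; omega
  · rw [if_neg hc, if_neg (fun h => hc (hcond.mp h))]


end helpers


/-- For natural numbers p, n ≥ 1 and s, the number of monomials of degree s in n variables in which
every variable occurs with a positive exponent strictly less than p — that is, of exponent vectors
(e_1, …, e_n) with sum s and 1 ≤ e_i ≤ p − 1 — equals the inclusion–exclusion sum over i from 0 to n
of (−1)^i · C(n, i) · C(s − i(p − 1) − 1, n − 1), the last factor counting monomials of degree s −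
i(p − 1) − n in n variables and read as 0 when s < i(p − 1) + n. (A companion count, by how many
exponents lie below p/2, and a remark on polynomiality in s and p are not part of this row.) -/
theorem result (p n s : ℕ)
    (hn : 1 ≤ n) :
    (Fintype.card {e : Fin n → Fin p // (∀ i, 1 ≤ (e i : ℕ)) ∧ ∑ i, (e i : ℕ) = s} : ℤ) =
      ∑ i ∈ Finset.range (n + 1),
        (-1 : ℤ) ^ i * (n.choose i : ℤ) *
          (if i * (p - 1) + n ≤ s then (((s - i * (p - 1) - 1).choose (n - 1) : ℕ) : ℤ) else 0) := by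
  rw [card_eq_coeff]
  rcases Nat.eq_zero_or_pos p with rfl | hp
  · -- `p = 0`: both sides agree with the case `p = 1`
    have h1 := coeff_formula 1 n s hn le_rfl
    have hP : P 0 = P 1 := by
      unfold P
      rw [Finset.sum_eq_zero, Finset.sum_eq_zero]
      · intro j hj
        rw [Finset.mem_filter] at hj
        have := j.2
        omega
      · intro j hj
        exact j.elim0
    rw [hP, h1]
  · exact coeff_formula p n s hn hp

end Groth.Agent.S14039
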