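import Groth.Statements.S14040
import Groth.Agent.S14035
import Mathlib.RingTheory.Flat.TorsionFree

set_option autoImplicit false
universe u v
open W4c1frobunstiva

namespace Groth.Agent.S14040

open TensorProduct in
/-- Let A be a discrete valuation ring and B a Noetherian A-algebra such that the nilradical of B is
prime and meets the image of A only in 0 — the spectrum of B is irreducible and its generic point
lies over the generic point of A. If every fibre ring κ(p) ⊗_A B, p a prime of A, is reduced, then B
is reduced and flat over A. (Affine form of the statement for a dominant morphism from an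
irreducible scheme to the spectrum of a discrete valuation ring with reduced fibres. The published
statement also covers a scheme that is already reduced and does not assume it locally Noetherian;
this row treats reduced fibres with B Noetherian, without which the square-zero extension A ⊕
Frac(A)/A is a counterexample.) -/
theorem result (A : Type u) [CommRing A]
    [IsDomain A] [IsDiscreteValuationRing A] (B : Type v) [CommRing B] [Algebra A B]
    [IsNoetherianRing B] (hirr : (nilradical B).IsPrime)
    (hdom : (nilradical B).comap (algebraMap A B) = ⊥)
    (hfib : ∀ p : PrimeSpectrum A, IsReduced (p.asIdeal.ResidueField ⊗[A] B)) :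
    IsReduced B ∧ Module.Flat A B := by
  have hflat : Module.Flat A (B ⧸ nilradical B) := by
    rw [Module.Flat.flat_iff_torsion_eq_bot_of_isBezout, eq_bot_iff]
    intro x hx
    obtain ⟨a, ha⟩ := (Submodule.mem_torsion_iff x).mp hx
    obtain ⟨b, rfl⟩ := Ideal.Quotient.mk_surjective x
    have h1 : algebraMap A B (a : A) * b ∈ nilradical B := by
      rw [← Ideal.Quotient.eq_zero_iff_mem, map_mul]
      rw [Submonoid.smul_def, Algebra.smul_def] at ha
      exact ha
    rcases hirr.mem_or_mem h1 with h | h
    · have : (a : A) ∈ (nilradical B).comap (algebraMap A B) := h
      rw [hdom, Ideal.mem_bot] at this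
      exact absurd this (nonZeroDivisors.coe_ne_zero a)
    · rw [Submodule.mem_bot]
      exact Ideal.Quotient.eq_zero_iff_mem.mpr h
  have hred : IsReduced B := Groth.Agent.S14035.result A B hfib
  refine ⟨hred, ?_⟩
  have hbot : nilradical B = ⊥ := nilradical_eq_bot_iff.mpr hred
  have e : (B ⧸ nilradical B) ≃ₗ[A] B :=
    (Submodule.Quotient.restrictScalarsEquiv A (nilradical B)).symm ≪≫ₗ
      Submodule.quotEquivOfEqBot _ (by rw [hbot]; rfl)
  exact Module.Flat.of_linearEquiv e.symm

end Groth.Agent.S14040
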