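import Groth.Statements.S14041
import Mathlib
import Groth.Agent.Lib.Helper63.GenFinRankA
import Groth.Agent.Lib.Helper63.GenFinRankB
import Groth.Agent.Lib.Helper2.GenericFlatness
-- import your own Groth.Agent.* helpers here

set_option autoImplicit false
set_option linter.style.haveILetI false
universe u
open CategoryTheory CategoryTheory.Limits AlgebraicGeometry
open W4c1frobunstiva

namespace Groth.Agent.S14041

/-- Let k be a field, X and Y integral schemes of finite type over k of the same (topological Krull)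
dimension, and f : X → Y a dominant k-morphism, so that f sends the generic point ξ of X to the
generic point of Y. Then κ(ξ) is a finite extension of the residue field at f(ξ), say of degree d,
and there is a non-empty open subset U of Y such that for every point y of U the fibre X_y = X ×_Y
Spec κ(y) is finite over κ(y) and its ring of global sections has dimension exactly d over κ(y).
(The published statement speaks of the length of X_y; the κ(y)-dimension of Γ(X_y, O) is the
invariant for which the equality holds on U, including at the generic point.) -/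
theorem result (k : Type u) [Field k] {X Y : Scheme.{u}}
    [X.Over (Spec (CommRingCat.of k))] [Y.Over (Spec (CommRingCat.of k))]
    [LocallyOfFiniteType (X ↘ Spec (CommRingCat.of k))] [QuasiCompact (X ↘ Spec (CommRingCat.of k))]
    [LocallyOfFiniteType (Y ↘ Spec (CommRingCat.of k))] [QuasiCompact (Y ↘ Spec (CommRingCat.of k))]
    [IsIntegral X] [IsIntegral Y] (f : X ⟶ Y) [IsDominant f]
    (hf : f ≫ (Y ↘ Spec (CommRingCat.of k)) = X ↘ Spec (CommRingCat.of k))
    (hdim : topologicalKrullDim ↥X = topologicalKrullDim ↥Y) :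
    (letI := (f.residueFieldMap (genericPoint ↥X)).hom.toAlgebra;
      Module.Finite (Y.residueField (f.base (genericPoint ↥X))) (X.residueField (genericPoint ↥X))) ∧
    ∃ U : Y.Opens, Nonempty ↥U ∧ ∀ y : Y, y ∈ U →
      IsFinite (pullback.snd f (Y.fromSpecResidueField y)) ∧
        (letI := ((Scheme.ΓSpecIso (CommRingCat.of (Y.residueField y))).inv ≫
            (pullback.snd f (Y.fromSpecResidueField y)).appTop).hom.toAlgebra;
          Module.finrank (Y.residueField y) ↑(Γ(pullback f (Y.fromSpecResidueField y), ⊤))) =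
        (letI := (f.residueFieldMap (genericPoint ↥X)).hom.toAlgebra;
          Module.finrank (Y.residueField (f.base (genericPoint ↥X))) (X.residueField (genericPoint ↥X))) := by
  classical
  set ξ := genericPoint ↥X with hξdef
  have hXk : LocallyOfFiniteType (f ≫ (Y ↘ Spec (CommRingCat.of k))) := by rw [hf]; infer_instance
  have hfLFT : LocallyOfFiniteType f :=
    locallyOfFiniteType_of_comp f (Y ↘ Spec (CommRingCat.of k))
  have hcX : CompactSpace X :=
    (quasiCompact_iff_compactSpace (X ↘ Spec (CommRingCat.of k))).mp inferInstance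
  have hNX : IsNoetherian X :=
    { __ := LocallyOfFiniteType.isLocallyNoetherian (X ↘ Spec (CommRingCat.of k)) }
  have hqc : QuasiCompact f := inferInstance
  have hη : f ξ = genericPoint ↥Y :=
    Groth.Agent.Lib.Helper55.map_genericPoint_eq_of_denseRange f f.denseRange
  have hC : ∀ x : X, f x = genericPoint ↥Y → x = genericPoint ↥X := fun x hx =>
    Groth.Agent.Lib.Helper63.GenFinRankA.eq_genericPoint_of_map_eq
      (Y ↘ Spec (CommRingCat.of k)) f hdim x hx
  obtain ⟨V, hV, hneV, hfinV⟩ :=
    Groth.Agent.Lib.Helper69.exists_isFinite_morphismRestrict_of_fiber_of_quasiCompact f hC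
  obtain ⟨U₂, hU₂dense, hflatU₂, hlfpU₂⟩ := Groth.Agent.Lib.Helper2.generic_flatness_reduced f
  have hηV : genericPoint ↥Y ∈ V :=
    ((genericPoint_spec ↥Y).mem_open_set_iff V.isOpen).mpr
      (by obtain ⟨⟨a, ha⟩⟩ := hneV; exact ⟨a, trivial, ha⟩)
  have hηU₂ : genericPoint ↥Y ∈ U₂ :=
    ((genericPoint_spec ↥Y).mem_open_set_iff U₂.isOpen).mpr
      (by
        obtain ⟨a, ha⟩ := hU₂dense.nonempty
        exact ⟨a, trivial, ha⟩)
  have hξW : f ξ ∈ V ⊓ U₂ := by rw [hη]; exact ⟨hηV, hηU₂⟩
  haveI hfinW : IsFinite (f ∣_ (V ⊓ U₂)) :=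
    Groth.Agent.Lib.Helper69.restrict_of_le (P := @IsFinite) f inf_le_left hfinV
  haveI hflatW : Flat (f ∣_ (V ⊓ U₂)) :=
    Groth.Agent.Lib.Helper69.restrict_of_le (P := @Flat) f inf_le_right hflatU₂
  haveI hlfpW : LocallyOfFinitePresentation (f ∣_ (V ⊓ U₂)) :=
    Groth.Agent.Lib.Helper69.restrict_of_le (P := @LocallyOfFinitePresentation) f inf_le_right hlfpU₂
  have hneW : Nonempty ↥((V ⊓ U₂).toScheme) := ⟨⟨f ξ, hξW⟩⟩
  have hgen := Groth.Agent.Lib.Helper63.GenFinRankB.finrank_restrict_generic f (V ⊓ U₂)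
    (fun x hx => hC x (hx.trans hη)) hξW
  have hconst : ∀ (y : Y) (hy : y ∈ V ⊓ U₂),
      (f ∣_ (V ⊓ U₂)).finrank ⟨y, hy⟩ = f.residueDegree ξ := by
    intro y hy
    rw [← hgen]
    exact IsLocallyConstant.apply_eq_of_preconnectedSpace
      (Scheme.Hom.isLocallyConstant_finrank (f ∣_ (V ⊓ U₂))) _ _
  refine ⟨?_, V ⊓ U₂, ⟨⟨f ξ, hξW⟩⟩, fun y hy => ?_⟩
  · have h1 := Groth.Agent.Lib.Helper63.GenFinRankB.one_le_finrank_restrict f (V ⊓ U₂) ξ hξW
    rw [hgen] at h1
    unfold Scheme.Hom.residueDegree at h1
    letI := (f.residueFieldMap ξ).hom.toAlgebra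
    exact Module.finite_of_finrank_pos h1
  · obtain ⟨h1, h2⟩ := Groth.Agent.Lib.Helper63.GenFinRankB.fiber_isFinite_and_finrank f (V ⊓ U₂) y hy
    refine ⟨h1, ?_⟩
    rw [hconst y hy] at h2
    exact h2

end Groth.Agent.S14041
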