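import Groth.Statements.S14043
import Mathlib.Tactic
import Mathlib.LinearAlgebra.Matrix.NonsingularInverse
import Mathlib.RingTheory.Nilpotent.Basic
import Mathlib.RingTheory.Ideal.Operations

set_option autoImplicit false
universe u v
open W4c1frobunstiva

namespace Groth.Agent.S14043

section aux

variable {R : Type u} [CommRing R] {M : Type v} [AddCommGroup M] [Module R M] {r : ℕ}

/-- Action of a matrix on a family of vectors. -/
def act (A : Matrix (Fin r) (Fin r) R) (v : Fin r → M) : Fin r → M :=
  fun j => ∑ i, A j i • v i

theorem act_one (v : Fin r → M) : act (1 : Matrix (Fin r) (Fin r) R) v = v := by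
  funext j
  simp [act, Matrix.one_apply]

theorem act_mul (A B : Matrix (Fin r) (Fin r) R) (v : Fin r → M) :
    act (A * B) v = act A (act B v) := by
  funext j
  simp only [act, Matrix.mul_apply, Finset.sum_smul, Finset.smul_sum, smul_smul]
  rw [Finset.sum_comm]

theorem exists_act_eq (n : Fin r → M) (hn : Submodule.span R (Set.range n) = ⊤) (m : Fin r → M) :
    ∃ T : Matrix (Fin r) (Fin r) R, m = act T n := by
  have : ∀ j, ∃ c : Fin r → R, ∑ i, c i • n i = m j := fun j =>
    (Submodule.mem_span_range_iff_exists_fun R).mp (hn ▸ Submodule.mem_top)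
  choose T hT using this
  exact ⟨Matrix.of T, funext fun j => (hT j).symm⟩

theorem isUnit_of_span (n : Fin r → M) (hn : IsNRBasis R M n) (m : Fin r → M)
    (hm : Submodule.span R (Set.range m) = ⊤) (T : Matrix (Fin r) (Fin r) R)
    (hT : m = act T n) : IsUnit T := by
  obtain ⟨S, hS⟩ := exists_act_eq m hm n
  have hST : n = act (S * T) n := by rw [act_mul, ← hT, ← hS]
  have h1 : ∀ i, ∑ k, ((S * T) i k - (1 : Matrix (Fin r) (Fin r) R) i k) • n k = 0 := by
    intro i
    simp only [sub_smul, Finset.sum_sub_distrib]
    have e1 : ∑ k, (S * T) i k • n k = n i := (congrFun hST i).symm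
    have e2 : ∑ k, (1 : Matrix (Fin r) (Fin r) R) i k • n k = n i :=
      congrFun (act_one n) i
    rw [e1, e2, sub_self]
  have h2 : ∀ i k, IsNilpotent ((S * T) i k - (1 : Matrix (Fin r) (Fin r) R) i k) :=
    fun i k => hn.2 _ (h1 i) k
  have h3 : (Ideal.Quotient.mk (nilradical R)) (S * T).det = 1 := by
    rw [RingHom.map_det]
    have : (Ideal.Quotient.mk (nilradical R)).mapMatrix (S * T) = 1 := by
      ext i k
      simp only [RingHom.mapMatrix_apply, Matrix.map_apply]
      rw [Ideal.Quotient.eq.mpr (mem_nilradical.mpr (h2 i k))]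
      by_cases h : i = k <;> simp [Matrix.one_apply, h]
    rw [this, Matrix.det_one]
  have h4 : IsUnit (S * T).det := by
    have : IsNilpotent ((S * T).det - 1) :=
      mem_nilradical.mp (Ideal.Quotient.eq.mp (by rw [h3, map_one]))
    simpa using this.isUnit_add_one
  rw [Matrix.det_mul] at h4
  exact (Matrix.isUnit_iff_isUnit_det T).mpr (isUnit_of_mul_isUnit_right h4)

end aux

/-- Let R be a commutative Noetherian ring, M an R-module that is NR-free of rank r — generated by some
r elements all of whose linear relations have nilpotent coefficients — and m, m' two generating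
families of M, each indexed by the same finite set of size r. Then some invertible r × r matrix T
over R expresses m' in terms of m, m'_j = Σ_i T_{ji} m_i; reducing modulo the nilradical n, such a T
induces the change-of-basis matrix between the bases of M/nM given by the images of m and m' (an
r-element generating family of M is itself an NR-basis), so only the existence of an invertible T is
asserted here. (T is not unique.) -/
theorem result (R : Type u) [CommRing R]
    [IsNoetherianRing R] (M : Type v) [AddCommGroup M] [Module R M] (r : ℕ)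
    (hM : W4c1frobunstiva.IsNRFree R M r) (m m' : Fin r → M)
    (hm : Submodule.span R (Set.range m) = ⊤) (hm' : Submodule.span R (Set.range m') = ⊤) :
    ∃ T : Matrix (Fin r) (Fin r) R, IsUnit T ∧ ∀ j, m' j = ∑ i, T j i • m i := by
  obtain ⟨n, hn⟩ := hM
  obtain ⟨T, hT⟩ := exists_act_eq n hn.1 m
  obtain ⟨T', hT'⟩ := exists_act_eq n hn.1 m'
  have hTu : IsUnit T := isUnit_of_span n hn m hm T hT
  have hT'u : IsUnit T' := isUnit_of_span n hn m' hm' T' hT'
  obtain ⟨U, rfl⟩ := hTu
  refine ⟨T' * (↑U⁻¹ : Matrix (Fin r) (Fin r) R), hT'u.mul (Units.isUnit _), fun j => ?_⟩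
  have : m' = act (T' * (↑U⁻¹ : Matrix (Fin r) (Fin r) R)) m := by
    rw [hT, ← act_mul, mul_assoc, Units.inv_mul, mul_one, hT']
  exact congrFun this j

end Groth.Agent.S14043
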