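import Groth.Statements.S14046
import Mathlib.Tactic
import Mathlib.RingTheory.Flat.Equalizer

set_option autoImplicit false
universe u v w
open W4c1frobunstiva

namespace Groth.Agent.S14046

open TensorProduct

section aux

variable {R : Type u} {A : Type v} [CommRing R] [CommRing A] [Algebra R A] (I J : Ideal A)

/-- `A → A/I`, as an `R`-linear map. -/
def mkI : A →ₗ[R] A ⧸ I := (Ideal.Quotient.mkₐ R I).toLinearMap

/-- `A → A/I × A/J`. -/
def φ : A →ₗ[R] (A ⧸ I) × (A ⧸ J) :=
  (LinearMap.inl R (A ⧸ I) (A ⧸ J)) ∘ₗ mkI (R := R) I + (LinearMap.inr R (A ⧸ I) (A ⧸ J)) ∘ₗ mkI (R := R) J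

/-- `A/I × A/J → A/(I+J)`. -/
def ψ : (A ⧸ I) × (A ⧸ J) →ₗ[R] A ⧸ (I ⊔ J) :=
  (Ideal.Quotient.factorₐ R (le_sup_left : I ≤ I ⊔ J)).toLinearMap ∘ₗ LinearMap.fst R _ _ -
    (Ideal.Quotient.factorₐ R (le_sup_right : J ≤ I ⊔ J)).toLinearMap ∘ₗ LinearMap.snd R _ _

theorem φ_apply (a : A) : φ (R := R) I J a = (Ideal.Quotient.mk I a, Ideal.Quotient.mk J a) := by
  simp [φ, mkI]

theorem ψ_apply_mk (a b : A) :
    ψ (R := R) I J (Ideal.Quotient.mk I a, Ideal.Quotient.mk J b) =
      Ideal.Quotient.mk (I ⊔ J) (a - b) := by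
  simp [ψ]

theorem φ_injective (hIJ : I ⊓ J = ⊥) : Function.Injective (φ (R := R) I J) := by
  rw [← LinearMap.ker_eq_bot, eq_bot_iff]
  intro a ha
  rw [LinearMap.mem_ker, φ_apply, Prod.mk_eq_zero, Ideal.Quotient.eq_zero_iff_mem,
    Ideal.Quotient.eq_zero_iff_mem] at ha
  have : a ∈ I ⊓ J := ha
  rw [hIJ] at this
  exact this

theorem ψ_surjective : Function.Surjective (ψ (R := R) I J) := by
  intro x
  obtain ⟨a, rfl⟩ := Ideal.Quotient.mk_surjective x
  exact ⟨(Ideal.Quotient.mk I a, Ideal.Quotient.mk J 0), by rw [ψ_apply_mk, sub_zero]⟩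

theorem exact_φ_ψ : Function.Exact (φ (R := R) I J) (ψ (R := R) I J) := by
  intro x
  obtain ⟨x1, x2⟩ := x
  obtain ⟨a, rfl⟩ := Ideal.Quotient.mk_surjective x1
  obtain ⟨b, rfl⟩ := Ideal.Quotient.mk_surjective x2
  rw [ψ_apply_mk, Ideal.Quotient.eq_zero_iff_mem, Submodule.mem_sup]
  constructor
  · rintro ⟨i, hi, j, hj, hij⟩
    refine ⟨a - i, ?_⟩
    rw [φ_apply, Prod.mk.injEq]
    constructor
    · rw [Ideal.Quotient.eq]; simpa using I.neg_mem hi
    · rw [Ideal.Quotient.eq]
      have : a - i - b = j := by linear_combination -hij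
      rw [this]; exact hj
  · rintro ⟨c, hc⟩
    rw [φ_apply, Prod.mk.injEq, Ideal.Quotient.eq, Ideal.Quotient.eq] at hc
    refine ⟨a - c, ?_, c - b, hc.2, by ring⟩
    have := I.neg_mem hc.1
    simpa using this

variable (R' : Type w) [CommRing R'] [Algebra R R']

theorem lTensor_mkI_eq_zero {x : R' ⊗[R] A}
    (hx : x ∈ I.map (Algebra.TensorProduct.includeRight : A →ₐ[R] R' ⊗[R] A)) :
    (mkI (R := R) I).lTensor R' x = 0 := by
  let F : R' ⊗[R] A →ₐ[R] R' ⊗[R] (A ⧸ I) :=
    Algebra.TensorProduct.map (AlgHom.id R R') (Ideal.Quotient.mkₐ R I)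
  have hle : I.map (Algebra.TensorProduct.includeRight : A →ₐ[R] R' ⊗[R] A) ≤
      RingHom.ker (F : R' ⊗[R] A →+* R' ⊗[R] (A ⧸ I)) := by
    rw [Ideal.map_le_iff_le_comap]
    intro a ha
    rw [Ideal.mem_comap, RingHom.mem_ker]
    have : Ideal.Quotient.mk I a = 0 := Ideal.Quotient.eq_zero_iff_mem.mpr ha
    simp [F, this]
  have h1 : F x = 0 := hle hx
  have h2 : ∀ y : R' ⊗[R] A, F y = (mkI (R := R) I).lTensor R' y := by
    intro y
    induction y using TensorProduct.induction_on with
    | zero => simp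
    | tmul r a => simp [F, mkI]
    | add a b ha hb => simp only [map_add, ha, hb]
  rw [← h2, h1]

end aux

open TensorProduct in
/-- Let R → A be a homomorphism of commutative rings and I, J ideals of A with I ∩ J = 0 — so that A is
the fibre product of A/I and A/J over A/(I + J), i.e. Spec A is the union of the two closed
subschemes in the strong sense — and suppose A/(I + J) is flat over R. Then this persists under
every base change: for every commutative R-algebra R', the ideals generated by I and J in R' ⊗_R A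
again meet in 0. (This is the ideal-theoretic, affine form of the base-change step; the exact
sequence of unit sheaves deduced from it in the published statement — restriction of units to a
closed subscheme being surjective locally — is not restated. Without flatness of A/(I + J) the
conclusion fails: for A = k[x, y]/(xy) over R = k[u] with u ↦ x + y, I = (x) and J = (y), the base
change to R/(u) gives k[x]/(x²), in which both ideals become (x).) -/
theorem result (R : Type u) (A : Type v)
    [CommRing R] [CommRing A] [Algebra R A] (I J : Ideal A) (hIJ : I ⊓ J = ⊥)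
    [Module.Flat R (A ⧸ (I ⊔ J))] (R' : Type w) [CommRing R'] [Algebra R R'] :
    I.map (Algebra.TensorProduct.includeRight : A →ₐ[R] R' ⊗[R] A) ⊓
      J.map (Algebra.TensorProduct.includeRight : A →ₐ[R] R' ⊗[R] A) = ⊥ := by
  rw [eq_bot_iff]
  rintro x ⟨hxI, hxJ⟩
  have hinj : Function.Injective ((φ (R := R) I J).lTensor R') :=
    LinearMap.lTensor_injective_of_exact_of_flat (ψ (R := R) I J) (ψ_surjective I J)
      (φ (R := R) I J) (φ_injective I J hIJ) (exact_φ_ψ I J) R'
  apply hinj
  rw [map_zero]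
  simp only [φ, LinearMap.lTensor_add, LinearMap.lTensor_comp, LinearMap.add_apply,
    LinearMap.comp_apply]
  rw [lTensor_mkI_eq_zero I R' hxI, lTensor_mkI_eq_zero J R' hxJ, map_zero, map_zero, add_zero]

end Groth.Agent.S14046
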