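import Groth.Statements.S14048
import Mathlib

set_option autoImplicit false
universe u
open TensorProduct
open CAlg

namespace Groth.Agent.S14048

section helpers
open Polynomial



/-- rationals with denominator prime to `p`. -/
def Op (p : ℕ) (hp : p.Prime) : Subring ℚ where
  carrier := {q | ¬ p ∣ q.den}
  mul_mem' {a b} ha hb := fun h => by
    rcases (hp.dvd_mul).1 (h.trans (Rat.mul_den_dvd a b)) with h | h
    exacts [ha h, hb h]
  one_mem' := by
    show ¬ p ∣ (1 : ℚ).den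
    simp [hp.one_lt.ne']
  add_mem' {a b} ha hb := fun h => by
    rcases (hp.dvd_mul).1 (h.trans (Rat.add_den_dvd a b)) with h | h
    exacts [ha h, hb h]
  zero_mem' := by
    show ¬ p ∣ (0 : ℚ).den
    simp [hp.one_lt.ne']
  neg_mem' {a} ha := by
    show ¬ p ∣ (-a).den
    simpa using ha

theorem mem_Op {p : ℕ} (hp : p.Prime) (q : ℚ) : q ∈ Op p hp ↔ ¬ p ∣ q.den := Iff.rfl

theorem inv_two_mem_Op {p : ℕ} (hp : p.Prime) (h2 : 2 < p) : (2 : ℚ)⁻¹ ∈ Op p hp := by
  rw [mem_Op]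
  have : ((2 : ℚ)⁻¹).den = 2 := by norm_num
  rw [this]
  intro h
  have := Nat.le_of_dvd (by norm_num) h
  omega

theorem not_mul_eq_one {p : ℕ} (hp : p.Prime) (y : ℚ) (hy : y ∈ Op p hp) : (p : ℚ) * y ≠ 1 := by
  intro h
  have hp0 : (p : ℚ) ≠ 0 := by exact_mod_cast hp.ne_zero
  have hy' : y = (p : ℚ)⁻¹ := by
    field_simp
    linarith [h]
  rw [mem_Op, hy', Rat.inv_natCast_den_of_pos hp.pos] at hy
  exact hy dvd_rfl

theorem of_two_pow_mul_mem {p : ℕ} (hp : p.Prime) (h2 : 2 < p) (k : ℕ) (y : ℚ)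
    (hy : (2 : ℚ) ^ k * y ∈ Op p hp) : y ∈ Op p hp := by
  have : y = ((2 : ℚ)⁻¹) ^ k * ((2 : ℚ) ^ k * y) := by
    rw [← mul_assoc, ← mul_pow]; norm_num
  rw [this]
  exact Subring.mul_mem _ (Subring.pow_mem _ (inv_two_mem_Op hp h2) k) hy



theorem ringHom_ext_of_t (A : Type u) [CommRing A] (t : A)
    (h1 : Function.Surjective (Polynomial.aeval (R := ℚ) ((1 : ℚ) ⊗ₜ[ℤ] t : ℚ ⊗[ℤ] A)))
    (σ₁ σ₂ : A →+* ℚ) (h : σ₁ t = σ₂ t) : σ₁ = σ₂ := by
  let S1 : ℚ ⊗[ℤ] A →ₐ[ℚ] ℚ :=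
    Algebra.TensorProduct.lift (Algebra.ofId ℚ ℚ) σ₁.toIntAlgHom (fun _ _ => Commute.all _ _)
  let S2 : ℚ ⊗[ℤ] A →ₐ[ℚ] ℚ :=
    Algebra.TensorProduct.lift (Algebra.ofId ℚ ℚ) σ₂.toIntAlgHom (fun _ _ => Commute.all _ _)
  have hcomp : S1.comp (Polynomial.aeval (R := ℚ) ((1 : ℚ) ⊗ₜ[ℤ] t : ℚ ⊗[ℤ] A)) =
      S2.comp (Polynomial.aeval (R := ℚ) ((1 : ℚ) ⊗ₜ[ℤ] t : ℚ ⊗[ℤ] A)) := by
    apply Polynomial.algHom_ext
    simp [S1, S2, h]
  have hS : S1 = S2 := by
    ext x
    obtain ⟨q, hq⟩ := h1 ((1 : ℚ) ⊗ₜ[ℤ] x)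
    have := congrArg (fun φ => φ q) hcomp
    simp only [AlgHom.comp_apply, hq] at this
    simpa using this
  ext a
  have := congrArg (fun φ => φ ((1 : ℚ) ⊗ₜ[ℤ] a)) hS
  simpa [S1, S2] using this

section setup

variable (A : Type u) [CommRing A] (t : A)
    (h1 : Function.Bijective (Polynomial.aeval (R := ℚ) ((1 : ℚ) ⊗ₜ[ℤ] t : ℚ ⊗[ℤ] A)))

/-- The (shifted) embedding `A → ℚ[X]`, sending `t` to `X + 1`. -/
noncomputable def iota : A →+* ℚ[X] :=
  (aeval (X + 1 : ℚ[X]) : ℚ[X] →ₐ[ℚ] ℚ[X]).toRingHom.comp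
    ((AlgEquiv.ofBijective _ h1).symm.toAlgHom.toRingHom.comp
      (Algebra.TensorProduct.includeRight : A →ₐ[ℤ] ℚ ⊗[ℤ] A).toRingHom)

theorem iota_t : iota A t h1 t = X + 1 := by
  have : (AlgEquiv.ofBijective _ h1).symm ((1 : ℚ) ⊗ₜ[ℤ] t) = (X : ℚ[X]) := by
    rw [AlgEquiv.symm_apply_eq]; simp
  simp [iota, this]

end setup

/-- truncated integrality: the first `n` coefficients are `p`-integral. -/
def Q (p : ℕ) (hp : p.Prime) (n : ℕ) (h : ℚ[X]) : Prop := ∀ j < n, h.coeff j ∈ Op p hp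

variable {p : ℕ} (hp : p.Prime)

theorem Q_add {n : ℕ} {h₁ h₂ : ℚ[X]} (H₁ : Q p hp n h₁) (H₂ : Q p hp n h₂) : Q p hp n (h₁ + h₂) := by
  intro j hj
  rw [coeff_add]
  exact Subring.add_mem _ (H₁ j hj) (H₂ j hj)

theorem Q_sum {ι : Type*} (s : Finset ι) {n : ℕ} (h : ι → ℚ[X]) (H : ∀ i ∈ s, Q p hp n (h i)) :
    Q p hp n (∑ i ∈ s, h i) := by
  intro j hj
  rw [finsetSum_coeff]
  exact Subring.sum_mem _ (fun i hi => H i hi j hj)

theorem Q_mul {n : ℕ} {h₁ h₂ : ℚ[X]} (H₁ : Q p hp n h₁) (H₂ : Q p hp n h₂) : Q p hp n (h₁ * h₂) := by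
  intro j hj
  rw [coeff_mul]
  refine Subring.sum_mem _ (fun x hx => ?_)
  obtain ⟨a, b⟩ := x
  have := Finset.HasAntidiagonal.mem_antidiagonal.mp hx
  simp only at this ⊢
  exact Subring.mul_mem _ (H₁ _ (by omega)) (H₂ _ (by omega))

theorem Q_X_mul {n : ℕ} {h : ℚ[X]} (H : Q p hp n h) : Q p hp (n + 1) (X * h) := by
  intro j hj
  rcases j with _ | j
  · simp
  · rw [coeff_X_mul]
    exact H j (by omega)

theorem Q_intCast (n : ℕ) (m : ℤ) : Q p hp n ((m : ℚ[X])) := by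
  intro j _
  have : ((m : ℚ[X])).coeff j = if j = 0 then (m : ℚ) else 0 := by
    rw [← C_eq_intCast, coeff_C]
  rw [this]
  split_ifs
  · exact intCast_mem _ m
  · exact Subring.zero_mem _


theorem main (A : Type u) [CommRing A] (t : A)
    (h1 : Function.Bijective (Polynomial.aeval (R := ℚ) ((1 : ℚ) ⊗ₜ[ℤ] t : ℚ ⊗[ℤ] A)))
    (h0 : ∀ p : ℕ, p.Prime → IsUnit ((p : ℕ) : A ⧸ Ideal.span ({t} : Set A)))
    (s : A →+* Localization.Away (2 : ℤ)) (hs : s t = 1) :
    ¬ IsNoetherianRing A := by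
  intro hN
  set ι : A →+* ℚ[X] := iota A t h1 with hι
  have hιt : ι t = X + 1 := iota_t A t h1
  let σ : A →+* ℚ := (evalRingHom 0).comp ι
  have hσt : σ t = 1 := by simp [σ, hιt]
  let lam : Localization.Away (2 : ℤ) →+* ℚ :=
    IsLocalization.Away.lift (2 : ℤ) (g := Int.castRingHom ℚ) (by norm_num)
  have hσ : σ = lam.comp s := ringHom_ext_of_t A t h1.2 _ _ (by simp [hσt, hs])
  -- values of σ
  have hσval : ∀ f : A, ∃ (k : ℕ) (n : ℤ), σ ((2 : A) ^ k * f - (n : A)) = 0 := by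
    intro f
    obtain ⟨k, n, hkn⟩ := IsLocalization.Away.surj (2 : ℤ) (s f)
    refine ⟨k, n, ?_⟩
    have h3 := congrArg lam hkn
    have h4 : lam (algebraMap ℤ (Localization.Away (2 : ℤ)) n) = (n : ℚ) := by
      simp [lam]
    have h5 : lam (algebraMap ℤ (Localization.Away (2 : ℤ)) 2) = (2 : ℚ) := by
      have := IsLocalization.Away.lift_eq (S := Localization.Away (2 : ℤ)) (2 : ℤ)
        (g := Int.castRingHom ℚ) (by norm_num) 2
      simpa [lam] using this
    rw [map_mul, map_pow, h4, h5] at h3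
    rw [map_sub, map_mul, map_pow, map_intCast, map_ofNat, hσ, RingHom.comp_apply]
    linarith [h3]
  -- the kernel of σ is finitely generated
  obtain ⟨G, hG⟩ := (isNoetherianRing_iff_ideal_fg A).mp hN (RingHom.ker σ)
  have hGσ : ∀ g ∈ G, σ g = 0 := fun g hg => by
    have : g ∈ RingHom.ker σ := hG ▸ Ideal.subset_span hg
    exact this
  have hGX : ∀ g ∈ G, ι g = X * divX (ι g) := fun g hg => by
    have h3 : (ι g).coeff 0 = 0 := by
      rw [coeff_zero_eq_eval_zero]; exact hGσ g hg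
    have h4 := X_mul_divX_add (ι g)
    rw [h3, C_0, add_zero] at h4
    exact h4.symm
  -- choose a large prime
  let T : Finset ℚ := G.biUnion (fun g => (divX (ι g)).coeffs)
  obtain ⟨p, hpN, hp⟩ := Nat.exists_infinite_primes (2 + ∑ q ∈ T, q.den + 1)
  have hp2 : 2 < p := by omega
  have hk : ∀ g ∈ G, ∀ n, Q p hp n (divX (ι g)) := by
    intro g hg n j _
    by_cases h0 : (divX (ι g)).coeff j = 0
    · rw [h0]; exact Subring.zero_mem _
    · have hmem : (divX (ι g)).coeff j ∈ T :=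
        Finset.mem_biUnion.mpr ⟨g, hg, coeff_mem_coeffs h0⟩
      rw [mem_Op]
      intro hdvd
      have h3 : ((divX (ι g)).coeff j).den ≤ ∑ q ∈ T, q.den :=
        Finset.single_le_sum (f := fun q : ℚ => q.den) (fun _ _ => Nat.zero_le _) hmem
      have h4 := Nat.le_of_dvd (Rat.den_pos _) hdvd
      omega
  -- induction
  have hind : ∀ n : ℕ, ∀ f : A, Q p hp n (ι f) := by
    intro n
    induction n with
    | zero => intro f j hj; omega
    | succ n ih =>
      intro f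
      obtain ⟨k, m, hkm⟩ := hσval f
      have hmem : (2 : A) ^ k * f - (m : A) ∈ Ideal.span (G : Set A) := by
        rw [hG]; exact hkm
      obtain ⟨c, -, hc⟩ := Submodule.mem_span_finset.mp hmem
      have h6 : (2 : ℚ[X]) ^ k * ι f = (m : ℚ[X]) + X * ∑ g ∈ G, ι (c g) * divX (ι g) := by
        have h7 := congrArg ι hc
        rw [map_sum, map_sub, map_mul, map_pow, map_intCast, map_ofNat] at h7
        rw [Finset.mul_sum, ← sub_eq_iff_eq_add', ← h7]
        refine Finset.sum_congr rfl (fun g hg => ?_)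
        rw [smul_eq_mul, map_mul]
        conv_lhs => rw [hGX g hg]
        ring
      have h8 : Q p hp (n + 1) ((2 : ℚ[X]) ^ k * ι f) := by
        rw [h6]
        exact Q_add hp (Q_intCast hp _ m)
          (Q_X_mul hp (Q_sum hp G _ (fun g hg => Q_mul hp (ih (c g)) (hk g hg n))))
      intro j hj
      have h9 := h8 j hj
      have h10 : ((2 : ℚ[X]) ^ k * ι f).coeff j = (2 : ℚ) ^ k * (ι f).coeff j := by
        have : (2 : ℚ[X]) ^ k = C ((2 : ℚ) ^ k) := by
          rw [C_pow]; rfl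
        rw [this, coeff_C_mul]
      rw [h10] at h9
      exact of_two_pow_mul_mem hp hp2 k _ h9
  -- final contradiction
  obtain ⟨u, hu⟩ := (h0 p hp).exists_right_inv
  obtain ⟨a, rfl⟩ := Ideal.Quotient.mk_surjective u
  have h11 : (p : A) * a - 1 ∈ Ideal.span ({t} : Set A) := by
    rw [← Ideal.Quotient.eq_zero_iff_mem, map_sub, map_mul, map_natCast, map_one, hu, sub_self]
  obtain ⟨b, hb⟩ := Ideal.mem_span_singleton'.mp h11
  have h12 := congrArg (fun q => eval (-1 : ℚ) (ι q)) hb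
  simp only [map_mul, map_sub, map_one, map_natCast, hιt, eval_mul, eval_sub, eval_add, eval_X,
    eval_one, eval_natCast] at h12
  have h13 : (p : ℚ) * eval (-1 : ℚ) (ι a) = 1 := by linarith [h12]
  refine not_mul_eq_one hp _ ?_ h13
  rw [eval_eq_sum_range]
  refine Subring.sum_mem _ (fun i _ => ?_)
  exact Subring.mul_mem _ (hind _ a i (Finset.mem_range.mp ‹_›))
    (Subring.pow_mem _ (Subring.neg_mem _ (Subring.one_mem _)) i)



end helpers


/-- Let A be an integral domain in which 2 is invertible and let t be an element of A, so that Spec A is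
a scheme over the affine line Spec ℤ[1/2][t]. Assume that (1) the ℚ-algebra map ℚ[X] → ℚ ⊗_ℤ A
sending X to 1 ⊗ t is bijective (the map Spec A → Spec ℤ[1/2][t] becomes an isomorphism after base
change to ℚ); (2) every prime number is invertible in A/(t) (the fibre over t = 0 is of pure
characteristic zero); and (3) there is a ring homomorphism s : A → ℤ[1/2] with s(t) = 1 (the fibre
over t = 1 admits a section). Then A is not Noetherian. -/
theorem result (A : Type u) [CommRing A]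
    [IsDomain A] (h2 : IsUnit (2 : A)) (t : A)
    (h1 : Function.Bijective (Polynomial.aeval (R := ℚ) ((1 : ℚ) ⊗ₜ[ℤ] t : ℚ ⊗[ℤ] A)))
    (h0 : ∀ p : ℕ, p.Prime → IsUnit ((p : ℕ) : A ⧸ Ideal.span ({t} : Set A)))
    (s : A →+* Localization.Away (2 : ℤ)) (hs : s t = 1) :
    ¬ IsNoetherianRing A := by
  exact main A t h1 h0 s hs

end Groth.Agent.S14048
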