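import Groth.Statements.S14049
import Mathlib
import Groth.Agent.Lib.Helper22.NilpSurj
import Groth.Agent.S1302
-- import your own Groth.Agent.* helpers here

set_option autoImplicit false
universe u
open CategoryTheory AlgebraicGeometry
open LocStr

namespace Groth.Agent.S14049

/-- For schemes. Let f : X → Y be a morphism of schemes and let I be a quasi-coherent sheaf of ideals on
X which is nilpotent (some power of I is zero). Let X₁ ⊆ X be the closed subscheme defined by I².
Then f is a closed immersion as soon as the composite X₁ → X → Y is one. (The published statement is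
the same assertion for a morphism of algebraic stacks; it is stated here for schemes.) -/
theorem result (X Y : Scheme.{u}) (f : X ⟶ Y)
    (I : X.IdealSheafData) (hI : IsNilpotent I)
    (h : IsClosedImmersion ((I ^ 2).subschemeι ≫ f)) :
    IsClosedImmersion f := by
  obtain ⟨n, hn⟩ := hI
  have hn1 : I ^ (n + 1) = ⊥ := by rw [pow_succ, hn, zero_mul]; rfl
  have hsupp : I.support = ⊤ := by
    rw [← Scheme.IdealSheafData.support_pow_succ I n, hn1, Scheme.IdealSheafData.support_bot]
  have hsurj : Function.Surjective (I ^ 2).subschemeι := by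
    rw [← Set.range_eq_univ, Scheme.IdealSheafData.range_subschemeι,
      Scheme.IdealSheafData.support_pow _ _ two_ne_zero, hsupp]
    rfl
  rw [isClosedImmersion_iff_isAffineHom] at h ⊢
  obtain ⟨h1, h2⟩ := h
  have haff : ∀ U : Y.Opens, IsAffineOpen U → IsAffineOpen (f ⁻¹ᵁ U) := by
    intro U hU
    apply Groth.Agent.S1302.isAffineOpen_of_thickening (I ^ 2).subschemeι hsurj
    rw [← Scheme.Hom.comp_preimage]
    exact hU.preimage _
  refine ⟨⟨haff⟩, ?_⟩
  intro U hU
  have hV := haff U hU
  have hs := h2 U hU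
  rw [Scheme.Hom.comp_app] at hs
  have hker : RingHom.ker ((I ^ 2).subschemeι.app (f ⁻¹ᵁ U)).hom =
      (I.ideal (⟨f ⁻¹ᵁ U, hV⟩ : X.affineOpens)) ^ 2 :=
    (I ^ 2).ker_subschemeι_app ⟨f ⁻¹ᵁ U, hV⟩
  have hnil : (I.ideal (⟨f ⁻¹ᵁ U, hV⟩ : X.affineOpens)) ^ (n + 1) = ⊥ := by
    have := congrArg (fun J : X.IdealSheafData => J.ideal (⟨f ⁻¹ᵁ U, hV⟩ : X.affineOpens)) hn1
    exact this
  refine Groth.Agent.Lib.Helper22.NilpSurj.surjective_of_forall_sub_mem_sq (f.app U).hom _ _ hnil ?_
  intro b
  obtain ⟨a, ha⟩ := hs (((I ^ 2).subschemeι.app (f ⁻¹ᵁ U)).hom b)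
  refine ⟨a, ?_⟩
  rw [← hker, RingHom.mem_ker, map_sub, sub_eq_zero]
  exact ha.symm

end Groth.Agent.S14049
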