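import Groth.Statements.S1405
import Groth.Agent.Lib.Helper7.NoetherianDescent

set_option autoImplicit false
universe u
open FlatMor

namespace Groth.Agent.S1405

open AlgebraicGeometry CategoryTheory Limits in
/-- Let Y' → Y be flat, locally of finite presentation and surjective and f' the base change of f : X →
Y. Then all fibres of f are locally Noetherian if and only if all fibres of f' are. -/
theorem result {X Y X' Y' : Scheme.{u}} (f : X ⟶ Y) (f' : X' ⟶ Y') (g' : X' ⟶ X) (g : Y' ⟶ Y) [Flat g] [LocallyOfFinitePresentation g] [Surjective g]
    (hc : IsPullback g' f' f g) :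
    (∀ y : Y, IsLocallyNoetherian (f.fiber y)) ↔ ∀ y' : Y', IsLocallyNoetherian (f'.fiber y') := by
  have hess : ∀ y' : Y', (g.residueFieldMap y').hom.EssFiniteType := fun y' =>
    RingHom.EssFiniteType.residueFieldMap (LocallyOfFiniteType.stalkMap g y')
  constructor
  · intro h y'
    have hpb := isPullback_fiberToSpecResidueField_of_isPullback hc y'
    have := h (g y')
    have := Groth.Agent.Lib.Helper7.isLocallyNoetherian_pullback_of_essFiniteType
      (f.fiberToSpecResidueField (g y')) (g.residueFieldMap y') (hess y')
    exact @isLocallyNoetherian_of_isOpenImmersion _ _ hpb.isoPullback.hom _ this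
  · intro h y
    obtain ⟨y', rfl⟩ := g.surjective y
    have hpb := isPullback_fiberToSpecResidueField_of_isPullback hc y'
    have := h y'
    have hff : (g.residueFieldMap y').hom.FaithfullyFlat := by
      let : Algebra (Y.residueField (g y')) (Y'.residueField y') :=
        (g.residueFieldMap y').hom.toAlgebra
      exact (inferInstance : Module.FaithfullyFlat (Y.residueField (g y')) (Y'.residueField y'))
    obtain ⟨hflat, hsurj⟩ := (flat_and_surjective_SpecMap_iff _).mpr hff
    have h1 := MorphismProperty.of_isPullback (P := @Flat) hpb.flip hflat
    have h2 := MorphismProperty.of_isPullback (P := @Surjective) hpb.flip hsurj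
    have h3 := MorphismProperty.of_isPullback (P := @QuasiCompact) hpb.flip inferInstance
    exact @Groth.Agent.Lib.Helper7.isLocallyNoetherian_of_fpqc _ _ _ h1 h3 h2 this

end Groth.Agent.S1405
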