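import Groth.Statements.S14051
import Mathlib.Tactic

set_option autoImplicit false
universe u
open CAlg

namespace Groth.Agent.S14051

section aux

variable {R : Type u} [CommRing R] {A : Type u} [CommRing A] [Algebra R A]
  (𝒜 : ℕ → Submodule R A) [GradedAlgebra 𝒜]
  {M : Type u} [AddCommGroup M] [Module R M] [Module A M] [IsScalarTower R A M]
  (ℳ : ℕ → Submodule R M) [DirectSum.Decomposition ℳ] [SetLike.GradedSMul 𝒜 ℳ]

omit [DirectSum.Decomposition ℳ] in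
theorem mul_le_add (a b : ℕ) : 𝒜 a * 𝒜 b ≤ 𝒜 (a + b) :=
  Submodule.mul_le.mpr fun _ hx _ hy => SetLike.mul_mem_graded hx hy

theorem one_le_zero : (1 : Submodule R A) ≤ 𝒜 0 :=
  Submodule.one_le.mpr (SetLike.GradedOne.one_mem)

include 𝒜 in
theorem add_eq_mul (hA : ∀ n : ℕ, 𝒜 (n + 1) = 𝒜 1 * 𝒜 n) (a b : ℕ) :
    𝒜 (a + b) = 𝒜 a * 𝒜 b := by
  induction a with
  | zero =>
    rw [zero_add]
    apply le_antisymm
    · calc 𝒜 b = 1 * 𝒜 b := (one_mul _).symm
        _ ≤ 𝒜 0 * 𝒜 b := Submodule.smul_mono_left (one_le_zero 𝒜)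
    · have := mul_le_add 𝒜 0 b
      rwa [zero_add] at this
  | succ a ih =>
    rw [show a + 1 + b = (a + b) + 1 by omega, hA, ih, ← mul_assoc, ← hA]

omit [DirectSum.Decomposition ℳ] in
theorem smul_le_add (a b : ℕ) : 𝒜 a • ℳ b ≤ ℳ (a + b) :=
  Submodule.smul_le.mpr fun _ hx _ hy => SetLike.GradedSMul.smul_mem hx hy

/-- The candidate homogeneous pieces. -/
def T (n m : ℕ) : Submodule R M := 𝒜 (m - n) • ℳ (min m n)

omit [DirectSum.Decomposition ℳ] in
theorem T_le (n m : ℕ) : T 𝒜 ℳ n m ≤ ℳ m := by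
  have := smul_le_add 𝒜 ℳ (m - n) (min m n)
  rwa [show m - n + min m n = m by omega] at this

omit [DirectSum.Decomposition ℳ] in
theorem le_T_of_le (n m : ℕ) (h : m ≤ n) : ℳ m ≤ T 𝒜 ℳ n m := by
  unfold T
  rw [Nat.sub_eq_zero_of_le h, min_eq_left h]
  calc ℳ m = (1 : Submodule R A) • ℳ m := (Submodule.one_smul _).symm
    _ ≤ 𝒜 0 • ℳ m := Submodule.smul_mono_left (one_le_zero 𝒜)

omit [DirectSum.Decomposition ℳ] in
theorem smul_le_T (hA : ∀ n : ℕ, 𝒜 (n + 1) = 𝒜 1 * 𝒜 n) (n e j : ℕ) (hj : j ≤ n) :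
    𝒜 e • ℳ j ≤ T 𝒜 ℳ n (e + j) := by
  by_cases h : e + j ≤ n
  · exact (smul_le_add 𝒜 ℳ e j).trans (le_T_of_le 𝒜 ℳ n _ h)
  · push Not at h
    unfold T
    rw [min_eq_right h.le]
    have he : e = (e + j - n) + (n - j) := by omega
    calc 𝒜 e • ℳ j = 𝒜 ((e + j - n) + (n - j)) • ℳ j := by rw [← he]
      _ = (𝒜 (e + j - n) * 𝒜 (n - j)) • ℳ j := by rw [add_eq_mul 𝒜 hA]
      _ = 𝒜 (e + j - n) • (𝒜 (n - j) • ℳ j) := Submodule.smul_assoc _ _ _
      _ ≤ 𝒜 (e + j - n) • ℳ n := by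
        apply Submodule.smul_mono le_rfl
        have := smul_le_add 𝒜 ℳ (n - j) j
        rwa [show n - j + j = n by omega] at this

omit [DirectSum.Decomposition ℳ] in
theorem smul_T_le (hA : ∀ n : ℕ, 𝒜 (n + 1) = 𝒜 1 * 𝒜 n) (n i j : ℕ) :
    𝒜 i • T 𝒜 ℳ n j ≤ T 𝒜 ℳ n (i + j) := by
  unfold T
  rw [← Submodule.smul_assoc]
  calc (𝒜 i • 𝒜 (j - n)) • ℳ (min j n) ≤ 𝒜 (i + (j - n)) • ℳ (min j n) :=
        Submodule.smul_mono_left (mul_le_add 𝒜 i (j - n))
    _ ≤ T 𝒜 ℳ n (i + (j - n) + min j n) := smul_le_T 𝒜 ℳ hA n _ _ (min_le_right _ _)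
    _ = 𝒜 (i + j - n) • ℳ (min (i + j) n) := by
      rw [show i + (j - n) + min j n = i + j by omega]; rfl

theorem smul_mem_iSup_T (hA : ∀ n : ℕ, 𝒜 (n + 1) = 𝒜 1 * 𝒜 n) (n : ℕ) (a : A) (x : M)
    (hx : x ∈ ⨆ m, T 𝒜 ℳ n m) : a • x ∈ ⨆ m, T 𝒜 ℳ n m := by
  classical
  rw [← DirectSum.sum_support_decompose 𝒜 a, Finset.sum_smul]
  refine Submodule.sum_mem _ fun i _ => ?_
  induction hx using Submodule.iSup_induction' with
  | mem j t ht =>
    exact Submodule.mem_iSup_of_mem (i + j)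
      (smul_T_le 𝒜 ℳ hA n i j (Submodule.smul_mem_smul (SetLike.coe_mem _) ht))
  | zero => rw [smul_zero]; exact zero_mem _
  | add x y _ _ hx hy => rw [smul_add]; exact add_mem hx hy

theorem component_mem_T (n : ℕ) (x : M) (hx : x ∈ ⨆ m, T 𝒜 ℳ n m) (m : ℕ) :
    ((DirectSum.decompose ℳ x) m : M) ∈ T 𝒜 ℳ n m := by
  classical
  induction hx using Submodule.iSup_induction' with
  | mem j t ht =>
    have htj : t ∈ ℳ j := T_le 𝒜 ℳ n j ht
    by_cases h : j = m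
    · subst h
      rw [DirectSum.decompose_of_mem_same ℳ htj]
      exact ht
    · rw [DirectSum.decompose_of_mem_ne ℳ htj h]
      exact zero_mem _
  | zero => simp
  | add x y _ _ hx hy =>
    rw [DirectSum.decompose_add, DirectSum.add_apply, Submodule.coe_add]
    exact add_mem hx hy

theorem main (hA : ∀ n : ℕ, 𝒜 (n + 1) = 𝒜 1 * 𝒜 n)
    (s : Set M) (n₀ : ℕ) (hs : ∀ y ∈ s, ∃ d : ℕ, d ≤ n₀ ∧ y ∈ ℳ d)
    (hspan : Submodule.span A s = ⊤)
    (n k : ℕ) (hn : n₀ ≤ n) :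
    ℳ (n + k) = 𝒜 k • ℳ n := by
  apply le_antisymm
  · -- the `A`-submodule generated by the `T n m`
    let N : Submodule A M :=
      { carrier := ((⨆ m, T 𝒜 ℳ n m : Submodule R M) : Set M)
        add_mem' := fun ha hb => add_mem ha hb
        zero_mem' := zero_mem _
        smul_mem' := fun a x hx => smul_mem_iSup_T 𝒜 ℳ hA n a x hx }
    have hsN : s ⊆ N := by
      intro y hy
      obtain ⟨d, hd, hyd⟩ := hs y hy
      exact Submodule.mem_iSup_of_mem d (le_T_of_le 𝒜 ℳ n d (hd.trans hn) hyd)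
    have hN : N = ⊤ := top_unique (hspan ▸ Submodule.span_le.mpr hsN)
    intro x hx
    have hxN : x ∈ (⨆ m, T 𝒜 ℳ n m : Submodule R M) := by
      have : x ∈ N := hN ▸ Submodule.mem_top
      exact this
    have := component_mem_T 𝒜 ℳ n x hxN (n + k)
    rw [DirectSum.decompose_of_mem_same ℳ hx] at this
    unfold T at this
    rwa [show n + k - n = k by omega, min_eq_right (Nat.le_add_right n k)] at this
  · have := smul_le_add 𝒜 ℳ k n
    rwa [add_comm k n] at this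

end aux

/-- Let A be a commutative ℕ-graded algebra over a base ring R which is generated by A_1 as an
A_0-algebra, written as A_{n+1} = A_1 · A_n for every n, and let M be a graded A-module: an A-module
with R-submodules M_n giving a direct-sum decomposition and A_i · M_j ⊆ M_{i+j}. If M is spanned
over A by a set of homogeneous elements all of degree at most n₀, then for every n ≥ n₀ and every k
≥ 0 the degree-(n+k) part of M is A_k · M_n. -/
theorem result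
    (R : Type u) [CommRing R] (A : Type u) [CommRing A] [Algebra R A]
    (𝒜 : ℕ → Submodule R A) [GradedAlgebra 𝒜]
    (hA : ∀ n : ℕ, 𝒜 (n + 1) = 𝒜 1 * 𝒜 n)
    (M : Type u) [AddCommGroup M] [Module R M] [Module A M] [IsScalarTower R A M]
    (ℳ : ℕ → Submodule R M) [DirectSum.Decomposition ℳ] [SetLike.GradedSMul 𝒜 ℳ]
    (s : Set M) (n₀ : ℕ) (hs : ∀ y ∈ s, ∃ d : ℕ, d ≤ n₀ ∧ y ∈ ℳ d)
    (hspan : Submodule.span A s = ⊤)
    (n k : ℕ) (hn : n₀ ≤ n) :
    ℳ (n + k) = 𝒜 k • ℳ n :=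
  main 𝒜 ℳ hA s n₀ hs hspan n k hn

end Groth.Agent.S14051
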