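import Groth.Statements.S14053
import Mathlib

set_option autoImplicit false
universe u
open CAlg

namespace Groth.Agent.S14053

open Submodule

section pigeon
variable {k : Type u} [Field k] {R : Type u} [CommRing R] [Algebra k R]

theorem prod_mem_pow_card (V : Submodule k R) {ι : Type*} (s : Finset ι) (g : ι → R)
    (hg : ∀ i ∈ s, g i ∈ V) : ∏ i ∈ s, g i ∈ V ^ s.card := by
  classical
  induction s using Finset.induction_on with
  | empty => simp [Submodule.one_eq_span]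
  | insert a s ha ih =>
    rw [Finset.prod_insert ha, Finset.card_insert_of_notMem ha, pow_succ']
    exact Submodule.mul_mem_mul (hg a (Finset.mem_insert_self a s))
      (ih (fun i hi => hg i (Finset.mem_insert_of_mem hi)))

/-- pigeonhole: a product of more than `(p-1)·|X|` elements of `X` contains a `p`-th power. -/
theorem pow_le_span_pow_mul (X : Finset R) (p : ℕ) (hp : 0 < p) (n : ℕ)
    (hn : (p - 1) * X.card < n) :
    (X.Nonempty → p ≤ n) ∧ (span k (X : Set R)) ^ n ≤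
      span k ((fun x => x ^ p) '' (X : Set R)) * (span k (X : Set R)) ^ (n - p) := by
  classical
  have hcard : Fintype.card (X : Set R) * (p - 1) < Fintype.card (Fin n) := by
    rw [Fintype.card_fin, mul_comm]
    simpa using hn
  constructor
  · intro hne
    by_contra hlt
    push Not at hlt
    have h1 : 1 ≤ X.card := Finset.card_pos.2 hne
    have h2 : (p - 1) * 1 ≤ (p - 1) * X.card := Nat.mul_le_mul_left _ h1
    omega
  rw [Submodule.span_pow, Submodule.span_le]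
  intro x hx
  rw [Set.mem_pow] at hx
  obtain ⟨f, rfl⟩ := hx
  rw [List.prod_ofFn]
  -- pigeonhole
  obtain ⟨y, hy⟩ := Fintype.exists_lt_card_fiber_of_mul_lt_card f hcard
  have hp' : p ≤ (Finset.univ.filter (fun i => f i = y)).card := by omega
  obtain ⟨T, hTsub, hTcard⟩ := Finset.exists_subset_card_eq hp'
  have hsplit : ∏ i, (f i : R) = (∏ i ∈ T, (f i : R)) * ∏ i ∈ Finset.univ \ T, (f i : R) := by
    rw [← Finset.prod_union Finset.disjoint_sdiff, Finset.union_sdiff_of_subset (Finset.subset_univ T)]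
  rw [hsplit]
  apply Submodule.mul_mem_mul
  · have : ∏ i ∈ T, (f i : R) = (y : R) ^ p := by
      rw [← hTcard, ← Finset.prod_const]
      refine Finset.prod_congr rfl (fun i hi => ?_)
      have := hTsub hi
      rw [Finset.mem_filter] at this
      rw [this.2]
    rw [this]
    exact Submodule.subset_span ⟨y, y.2, rfl⟩
  · have hc : (Finset.univ \ T).card = n - p := by
      rw [Finset.card_sdiff_of_subset (Finset.subset_univ T), Finset.card_univ, Fintype.card_fin, hTcard]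
    rw [← hc]
    exact prod_mem_pow_card _ _ _ (fun i _ => Submodule.subset_span (f i).2)

end pigeon

section graded
variable {k : Type u} [Field k] {R : Type u} [CommRing R] [Algebra k R]
  (ℛ : ℕ → Submodule k R) [GradedAlgebra ℛ]

theorem gmul_le (i j : ℕ) : ℛ i * ℛ j ≤ ℛ (i + j) :=
  Submodule.mul_le.2 (fun _ hx _ hy => SetLike.mul_mem_graded hx hy)

theorem gpow_le (i n : ℕ) : ℛ i ^ n ≤ ℛ (n * i) := by
  induction n with
  | zero =>
    rw [pow_zero, zero_mul, Submodule.one_le]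
    exact SetLike.GradedOne.one_mem
  | succ n ih =>
    rw [pow_succ, Nat.succ_mul]
    exact (mul_le_mul' ih le_rfl).trans (gmul_le ℛ _ _)

/-- the span of 6th powers of degree 1, cubes of degree 2, squares of degree 3 -/
def E : Submodule k R :=
  span k ((fun x => x ^ 6) '' (ℛ 1 : Set R)) ⊔ span k ((fun x => x ^ 3) '' (ℛ 2 : Set R)) ⊔
    span k ((fun x => x ^ 2) '' (ℛ 3 : Set R))

theorem E_le : E ℛ ≤ ℛ 6 := by
  unfold E
  refine sup_le (sup_le ?_ ?_) ?_ <;> rw [Submodule.span_le] <;> rintro _ ⟨x, hx, rfl⟩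
  · exact SetLike.pow_mem_graded 6 hx
  · exact SetLike.pow_mem_graded 3 hx
  · exact SetLike.pow_mem_graded 2 hx

theorem exists_finset_span (V : Submodule k R) [Module.Finite k V] :
    ∃ X : Finset R, X.card ≤ Module.finrank k V ∧ span k (X : Set R) = V := by
  classical
  let b := Module.finBasis k V
  refine ⟨Finset.univ.image (fun j => ((b j : V) : R)), ?_, ?_⟩
  · refine Finset.card_image_le.trans ?_
    simp
  · rw [Finset.coe_image, Finset.coe_univ, Set.image_univ,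
      show (fun j => ((b j : V) : R)) = V.subtype ∘ b from rfl, Set.range_comp,
      ← Submodule.map_span, b.span_eq, Submodule.map_top, Submodule.range_subtype]

theorem extract (i p : ℕ) (hip : p * i = 6) (hp : 0 < p) [Module.Finite k (ℛ i)]
    (hE : span k ((fun x => x ^ p) '' (ℛ i : Set R)) ≤ E ℛ)
    (n : ℕ) (hn : (p - 1) * Module.finrank k (ℛ i) < n)
    (W : Submodule k R) (j : ℕ) (hW : W ≤ ℛ j) (D : ℕ) (hD : n * i + j = D) :
    ℛ i ^ n * W ≤ E ℛ * ℛ (D - 6) := by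
  obtain ⟨X, hXc, hX⟩ := exists_finset_span (ℛ i)
  have hn' : (p - 1) * X.card < n := lt_of_le_of_lt (Nat.mul_le_mul_left _ hXc) hn
  obtain ⟨hpn, h⟩ := pow_le_span_pow_mul (k := k) X p hp n hn'
  rcases X.eq_empty_or_nonempty with hXe | hXne
  · have hbot : ℛ i = 0 := by
      rw [← hX, hXe, Finset.coe_empty, Submodule.span_empty, Submodule.zero_eq_bot]
    rw [hbot, zero_pow (by omega), zero_mul]
    exact bot_le
  replace hpn := hpn hXne
  rw [hX] at h
  have h1 : span k ((fun x => x ^ p) '' (X : Set R)) ≤ E ℛ := by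
    refine le_trans (Submodule.span_mono (Set.image_mono ?_)) hE
    rw [← hX]; exact Submodule.subset_span
  calc ℛ i ^ n * W ≤ (E ℛ * ℛ i ^ (n - p)) * W :=
        mul_le_mul' (h.trans (mul_le_mul' h1 le_rfl)) le_rfl
    _ = E ℛ * (ℛ i ^ (n - p) * W) := mul_assoc _ _ _
    _ ≤ E ℛ * ℛ (D - 6) := by
        refine mul_le_mul' le_rfl ?_
        have : (n - p) * i + j = D - 6 := by
          rw [Nat.sub_mul, hip, ← hD]
          have : 6 ≤ n * i := by rw [← hip]; exact Nat.mul_le_mul_right _ hpn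
          omega
        rw [← this]
        exact (mul_le_mul' (gpow_le ℛ i (n - p)) hW).trans (gmul_le ℛ _ _)

/-- the monomial pieces -/
def P (a b c : ℕ) : Submodule k R := ℛ 1 ^ a * ℛ 2 ^ b * ℛ 3 ^ c

theorem P_le (a b c : ℕ) : P ℛ a b c ≤ ℛ (a * 1 + b * 2 + c * 3) :=
  (mul_le_mul' ((mul_le_mul' (gpow_le ℛ 1 a) (gpow_le ℛ 2 b)).trans (gmul_le ℛ _ _))
    (gpow_le ℛ 3 c)).trans (gmul_le ℛ _ _)

omit [GradedAlgebra ℛ] in
theorem P_mul (a b c a' b' c' : ℕ) :
    P ℛ a b c * P ℛ a' b' c' = P ℛ (a + a') (b + b') (c + c') := by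
  unfold P
  rw [pow_add, pow_add, pow_add]
  ac_rfl

omit [GradedAlgebra ℛ] in
theorem closure_mem_P (u : R)
    (hu : u ∈ Submonoid.closure ((ℛ 1 : Set R) ∪ (ℛ 2 : Set R) ∪ (ℛ 3 : Set R))) :
    ∃ a b c, u ∈ P ℛ a b c := by
  induction hu using Submonoid.closure_induction with
  | mem x hx =>
    rcases hx with (hx | hx) | hx
    · exact ⟨1, 0, 0, by simpa [P] using hx⟩
    · exact ⟨0, 1, 0, by simpa [P] using hx⟩
    · exact ⟨0, 0, 1, by simpa [P] using hx⟩
  | one => exact ⟨0, 0, 0, by simp only [P, pow_zero, mul_one]; exact Submodule.one_le.1 le_rfl⟩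
  | mul x y _ _ hx hy =>
    obtain ⟨a, b, c, h⟩ := hx
    obtain ⟨a', b', c', h'⟩ := hy
    exact ⟨a + a', b + b', c + c', by rw [← P_mul]; exact Submodule.mul_mem_mul h h'⟩

theorem proj_mem_of_top
    (hgen : Algebra.adjoin k ((ℛ 1 : Set R) ∪ (ℛ 2 : Set R) ∪ (ℛ 3 : Set R)) = ⊤)
    (T : Submodule k R) (D : ℕ)
    (hT : ∀ a b c, a * 1 + b * 2 + c * 3 = D → P ℛ a b c ≤ T) (x : R) :
    (GradedAlgebra.proj ℛ D x) ∈ T := by
  have hx : x ∈ span k (Submonoid.closure ((ℛ 1 : Set R) ∪ (ℛ 2 : Set R) ∪ (ℛ 3 : Set R)) : Set R) := by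
    rw [← Algebra.adjoin_eq_span, hgen]; trivial
  induction hx using Submodule.span_induction with
  | mem u hu =>
    obtain ⟨a, b, c, h⟩ := closure_mem_P ℛ u hu
    have hdeg := P_le ℛ a b c h
    by_cases hD : a * 1 + b * 2 + c * 3 = D
    · subst hD
      rw [GradedAlgebra.proj_apply, DirectSum.decompose_of_mem_same ℛ hdeg]
      exact hT a b c rfl h
    · rw [GradedAlgebra.proj_apply, DirectSum.decompose_of_mem_ne ℛ hdeg hD]
      exact T.zero_mem
  | zero => rw [map_zero]; exact T.zero_mem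
  | add x y _ _ hx hy => rw [map_add]; exact T.add_mem hx hy
  | smul r x _ hx => rw [map_smul]; exact T.smul_mem r hx

theorem le_of_pieces
    (hgen : Algebra.adjoin k ((ℛ 1 : Set R) ∪ (ℛ 2 : Set R) ∪ (ℛ 3 : Set R)) = ⊤)
    (T : Submodule k R) (D : ℕ)
    (hT : ∀ a b c, a * 1 + b * 2 + c * 3 = D → P ℛ a b c ≤ T) : ℛ D ≤ T := by
  intro x hx
  have := proj_mem_of_top ℛ hgen T D hT x
  rwa [GradedAlgebra.proj_apply, DirectSum.decompose_of_mem_same ℛ hx] at this

theorem one_step [Module.Finite k (ℛ 1)] [Module.Finite k (ℛ 2)] [Module.Finite k (ℛ 3)]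
    (hgen : Algebra.adjoin k ((ℛ 1 : Set R) ∪ (ℛ 2 : Set R) ∪ (ℛ 3 : Set R)) = ⊤)
    (D : ℕ)
    (hD : 5 * Module.finrank k (ℛ 1) + 4 * Module.finrank k (ℛ 2) + 3 * Module.finrank k (ℛ 3) < D) :
    ℛ D ≤ E ℛ * ℛ (D - 6) := by
  refine le_of_pieces ℛ hgen _ D (fun a b c habc => ?_)
  have hcases : 5 * Module.finrank k (ℛ 1) < a ∨ 2 * Module.finrank k (ℛ 2) < b ∨
      1 * Module.finrank k (ℛ 3) < c := by omega
  rcases hcases with h | h | h
  · have : P ℛ a b c = ℛ 1 ^ a * (ℛ 2 ^ b * ℛ 3 ^ c) := by unfold P; ac_rfl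
    rw [this]
    exact extract ℛ 1 6 rfl (by norm_num) (le_sup_left.trans le_sup_left) a h _ (b * 2 + c * 3)
      ((mul_le_mul' (gpow_le ℛ 2 b) (gpow_le ℛ 3 c)).trans (gmul_le ℛ _ _)) D (by omega)
  · have : P ℛ a b c = ℛ 2 ^ b * (ℛ 1 ^ a * ℛ 3 ^ c) := by unfold P; ac_rfl
    rw [this]
    exact extract ℛ 2 3 rfl (by norm_num) (le_sup_right.trans le_sup_left) b h _ (a * 1 + c * 3)
      ((mul_le_mul' (gpow_le ℛ 1 a) (gpow_le ℛ 3 c)).trans (gmul_le ℛ _ _)) D (by omega)
  · have : P ℛ a b c = ℛ 3 ^ c * (ℛ 1 ^ a * ℛ 2 ^ b) := by unfold P; ac_rfl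
    rw [this]
    exact extract ℛ 3 2 rfl (by norm_num) le_sup_right c h _ (a * 1 + b * 2)
      ((mul_le_mul' (gpow_le ℛ 1 a) (gpow_le ℛ 2 b)).trans (gmul_le ℛ _ _)) D (by omega)

theorem iter [Module.Finite k (ℛ 1)] [Module.Finite k (ℛ 2)] [Module.Finite k (ℛ 3)]
    (hgen : Algebra.adjoin k ((ℛ 1 : Set R) ∪ (ℛ 2 : Set R) ∪ (ℛ 3 : Set R)) = ⊤)
    (D t : ℕ)
    (hD : 5 * Module.finrank k (ℛ 1) + 4 * Module.finrank k (ℛ 2) + 3 * Module.finrank k (ℛ 3) + 6 * t ≤ D) :
    ℛ D ≤ E ℛ ^ t * ℛ (D - 6 * t) := by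
  induction t with
  | zero => simp
  | succ t ih =>
    have h1 := ih (by omega)
    have h2 := one_step ℛ hgen (D - 6 * t) (by omega)
    calc ℛ D ≤ E ℛ ^ t * ℛ (D - 6 * t) := h1
      _ ≤ E ℛ ^ t * (E ℛ * ℛ (D - 6 * t - 6)) := mul_le_mul' le_rfl h2
      _ = E ℛ ^ (t + 1) * ℛ (D - 6 * (t + 1)) := by
        rw [pow_succ, mul_assoc]
        congr 3

end graded



/-- Let k be a field and R a commutative ℕ-graded k-algebra with R_0 = k · 1 which is generated as a
k-algebra by R_1, R_2 and R_3, each a finite-dimensional k-vector space, of dimensions d_1, d_2,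
d_3. Then for every natural number e ≥ 5 d_1 + 4 d_2 + 3 d_3 the (6e)-th Veronese subring of R is
generated in degree one over k: R_{6em} = (R_{6e})^m for every m > 0. -/
theorem result
    (k : Type u) [Field k] (R : Type u) [CommRing R] [Algebra k R]
    (ℛ : ℕ → Submodule k R) [GradedAlgebra ℛ]
    (h0 : ℛ 0 = 1)
    (hgen : Algebra.adjoin k ((ℛ 1 : Set R) ∪ (ℛ 2 : Set R) ∪ (ℛ 3 : Set R)) = ⊤)
    [Module.Finite k (ℛ 1)] [Module.Finite k (ℛ 2)] [Module.Finite k (ℛ 3)]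
    (e : ℕ) (he : 5 * Module.finrank k (ℛ 1) + 4 * Module.finrank k (ℛ 2) + 3 * Module.finrank k (ℛ 3) ≤ e)
    (m : ℕ) (hm : 0 < m) :
    ℛ (m * (6 * e)) = ℛ (6 * e) ^ m := by
  have hle : ∀ n : ℕ, ℛ (6 * e) ^ n ≤ ℛ (n * (6 * e)) := fun n => gpow_le ℛ (6 * e) n
  have key : ∀ n : ℕ, 0 < n → ℛ (n * (6 * e)) ≤ ℛ (6 * e) ^ n := by
    intro n hn
    induction n with
    | zero => exact absurd hn (lt_irrefl 0)
    | succ n ih =>
      rcases Nat.eq_zero_or_pos n with rfl | hpos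
      · simp
      · have h1 := iter ℛ hgen ((n + 1) * (6 * e)) e (by
          have : 1 * (6 * e) ≤ n * (6 * e) := Nat.mul_le_mul_right _ hpos
          have h3 : (n + 1) * (6 * e) = n * (6 * e) + 6 * e := by ring
          omega)
        have h2 : (n + 1) * (6 * e) - 6 * e = n * (6 * e) := by
          have h3 : (n + 1) * (6 * e) = n * (6 * e) + 6 * e := by ring
          omega
        rw [h2] at h1
        calc ℛ ((n + 1) * (6 * e)) ≤ E ℛ ^ e * ℛ (n * (6 * e)) := h1
          _ ≤ ℛ (6 * e) * ℛ (6 * e) ^ n := by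
            refine mul_le_mul' ?_ (ih hpos)
            calc E ℛ ^ e ≤ ℛ 6 ^ e := pow_le_pow_left' (E_le ℛ) e
              _ ≤ ℛ (e * 6) := gpow_le ℛ 6 e
              _ = ℛ (6 * e) := by rw [mul_comm]
          _ = ℛ (6 * e) ^ (n + 1) := (pow_succ' _ _).symm
  exact le_antisymm (key m hm) (hle m)

end Groth.Agent.S14053
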