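import Groth.Statements.S14060
import Mathlib

set_option autoImplicit false
universe u
open CategoryTheory CategoryTheory.Limits TopologicalSpace
open CohTop

namespace Groth.Agent.S14060

set_option linter.unusedSectionVars false
open CategoryTheory.Abelian

universe w' v' u'
section abstract
variable {C : Type u'} [Category.{v'} C] [Abelian C] [HasExt.{w'} C]

lemma ext_eq_zero_of_isZero {Z Y : C} (hY : IsZero Y) {n : ℕ} (x : Ext Z Y n) : x = 0 := by
  have h1 : x = x.comp (Ext.mk₀ (𝟙 Y)) (add_zero n) := by simp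
  rw [h1, hY.eq_of_src (𝟙 Y) 0, Ext.mk₀_zero, Ext.comp_zero]

/-- the short exact sequence `0 → ker f → X₁ → ker g → 0` attached to an exact `X₁ → X₂ → X₃` -/
lemma shortExact_kernel (S : ShortComplex C) (hS : S.Exact) :
    (ShortComplex.mk (kernel.ι S.f) (kernel.lift S.g S.f S.zero)
      (by ext; simp)).ShortExact := by
  have : Epi (kernel.lift S.g S.f S.zero) := S.exact_iff_epi_kernel_lift.1 hS
  have hex : (ShortComplex.mk (kernel.ι S.f) (kernel.lift S.g S.f S.zero)
      (by ext; simp)).Exact := by
    let φ : ShortComplex.mk (kernel.ι S.f) (kernel.lift S.g S.f S.zero) (by ext; simp) ⟶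
        ShortComplex.mk (kernel.ι S.f) S.f (kernel.condition S.f) :=
      { τ₁ := 𝟙 _
        τ₂ := 𝟙 _
        τ₃ := kernel.ι S.g
        comm₁₂ := by simp
        comm₂₃ := by simp }
    have h1 : Epi φ.τ₁ := by dsimp [φ]; infer_instance
    have h2 : IsIso φ.τ₂ := by dsimp [φ]; infer_instance
    have h3 : Mono φ.τ₃ := by dsimp [φ]; infer_instance
    exact (ShortComplex.exact_iff_of_epi_of_isIso_of_mono φ).2 (ShortComplex.exact_kernel S.f)
  exact { exact := hex, mono_f := by dsimp; infer_instance, epi_g := by dsimp; infer_instance }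

lemma ext_subsingleton_kernel (Z : C) (S : ShortComplex C) (hS : S.Exact) (n : ℕ)
    (h1 : Subsingleton (Ext Z S.X₁ n)) (h2 : Subsingleton (Ext Z (kernel S.f) (n + 1))) :
    Subsingleton (Ext Z (kernel S.g) n) := by
  refine subsingleton_of_forall_eq 0 (fun x₃ => ?_)
  obtain ⟨x₂, hx₂⟩ := Ext.covariant_sequence_exact₃ Z (shortExact_kernel S hS) x₃ rfl
    (Subsingleton.elim _ _)
  rw [← hx₂, Subsingleton.elim x₂ 0, Ext.zero_comp]

lemma ext_zero_surjective (Z : C) (S : ShortComplex C) (hS : S.ShortExact)
    (h : Subsingleton (Ext Z S.X₁ 1)) (x₃ : Ext Z S.X₃ 0) :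
    ∃ x₂ : Ext Z S.X₂ 0, x₂.comp (Ext.mk₀ S.g) (add_zero 0) = x₃ :=
  Ext.covariant_sequence_exact₃ Z hS x₃ rfl (Subsingleton.elim _ _)

end abstract



/-- Let X be a topological space, r ≥ 1 an integer and 0 → F_r → ⋯ → F_2 → F_1 → F_0 → 0 an exact
sequence of sheaves of abelian groups on X, presented as a chain complex F of abelian sheaves
indexed by the natural numbers whose differential F_r → F_{r−1} is a monomorphism, whose
differential F_1 → F_0 is an epimorphism of sheaves, and which is exact at F_j for 1 ≤ j ≤ r − 1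
(for r = 1 the single map F_1 → F_0 is mono and epi). Assume the sheaf cohomology groups H^{j−1}(X,
F_j) vanish for 2 ≤ j ≤ r. Then the map on global sections F_1(X) → F_0(X) is surjective. (The
instance hypothesis that the category of abelian sheaves on X has Ext groups in the universe of X
holds for every X, abelian sheaves on a space forming a Grothendieck abelian category; it is the
setting in which sheaf cohomology is defined.) -/
theorem result (X : TopCat.{u})
    [HasExt.{u} (Sheaf (Opens.grothendieckTopology X) AddCommGrpCat.{u})]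
    (r : ℕ) (hr : 1 ≤ r)
    (F : ChainComplex (Sheaf (Opens.grothendieckTopology X) AddCommGrpCat.{u}) ℕ)
    (hmono : Mono (F.d r (r - 1))) (hepi : Epi (F.d 1 0))
    (hex : ∀ j : ℕ, 1 ≤ j → j < r → F.ExactAt j)
    (hvan : ∀ j : ℕ, 2 ≤ j → j ≤ r → Subsingleton (Sheaf.H (F.X j) (j - 1))) :
    Function.Surjective ((F.d 1 0).hom.app (Opposite.op ⊤)) := by
  have key : ∀ k : ℕ, k < r → Subsingleton (Ext
      ((constantSheaf (Opens.grothendieckTopology X) AddCommGrpCat.{u}).obj
        (AddCommGrpCat.of (ULift ℤ)))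
      (kernel (F.d (r - k) (r - k - 1))) (r - k)) := by
    intro k
    induction k with
    | zero =>
      intro _
      exact subsingleton_of_forall_eq 0
        (fun x => ext_eq_zero_of_isZero (isZero_kernel_of_mono _) x)
    | succ k ih =>
      intro hk
      have ih' := ih (by omega)
      obtain ⟨j', hj'⟩ : ∃ j', r - (k + 1) = j' + 1 := ⟨r - (k + 1) - 1, by omega⟩
      have hj1 : r - k = j' + 1 + 1 := by omega
      rw [hj']
      rw [hj1] at ih'
      have hexj := (F.exactAt_iff' (j' + 1 + 1) (j' + 1) j' (by simp) (by simp)).1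
        (hex (j' + 1) (by omega) (by omega))
      exact ext_subsingleton_kernel _ (F.sc' (j' + 1 + 1) (j' + 1) j') hexj (j' + 1)
        (hvan (j' + 1 + 1) (by omega) (by omega)) ih'
  have h1 : Subsingleton (Ext
      ((constantSheaf (Opens.grothendieckTopology X) AddCommGrpCat.{u}).obj
        (AddCommGrpCat.of (ULift ℤ))) (kernel (F.d 1 0)) 1) := by
    have := key (r - 1) (by omega)
    have e : r - (r - 1) = 1 := by omega
    rw [e] at this
    exact this
  have hS : (ShortComplex.mk (kernel.ι (F.d 1 0)) (F.d 1 0) (kernel.condition _)).ShortExact :=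
    { exact := ShortComplex.exact_kernel _
      mono_f := by dsimp; infer_instance
      epi_g := hepi }
  intro y
  obtain ⟨x₂, hx₂⟩ := ext_zero_surjective _ _ hS h1
    ((Sheaf.H.equiv₀ (F.X 0) isTerminalTop).symm y)
  refine ⟨Sheaf.H.equiv₀ (F.X 1) isTerminalTop x₂, ?_⟩
  rw [Sheaf.H.equiv₀_naturality, Sheaf.H.map_apply]
  erw [hx₂]
  rw [AddEquiv.apply_symm_apply]

end Groth.Agent.S14060
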