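import Groth.Statements.S14066
import Groth.Agent.Lib.Helper69.LinEmb
import Groth.Agent.Lib.Helper69.CoprodClosed

set_option autoImplicit false
universe u
open CategoryTheory CategoryTheory.Limits AlgebraicGeometry TopologicalSpace
open Variety

namespace Groth.Agent.S14066

/-- Let k be a field, and let X₁ and X₂ be k-schemes with closed immersions i₁ : X₁ → P^n_k and i₂ : X₂
→ P^m_k over k. Then there is a closed immersion of the disjoint union X₁ ⨿ X₂ into P^{n+m+1}_k over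
k, that is, compatible with the structure morphism of the coproduct induced by those of X₁ and X₂.
(Stated as the step of the published proof showing that a disjoint union of two projective k-schemes
is projective.) -/
theorem result (k : Type u) [Field k] (n m : ℕ)
    (X₁ X₂ : Scheme.{u}) [X₁.Over (Spec (CommRingCat.of k))] [X₂.Over (Spec (CommRingCat.of k))]
    (i₁ : X₁ ⟶ CohB1.ProjSpace n k) [IsClosedImmersion i₁] (h₁ : i₁ ≫ CohB1.ProjSpace.toSpec n k = X₁ ↘ (Spec (CommRingCat.of k)))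
    (i₂ : X₂ ⟶ CohB1.ProjSpace m k) [IsClosedImmersion i₂] (h₂ : i₂ ≫ CohB1.ProjSpace.toSpec m k = X₂ ↘ (Spec (CommRingCat.of k))) :
    ∃ j : X₁ ⨿ X₂ ⟶ CohB1.ProjSpace (n + m + 1) k, IsClosedImmersion j ∧
      j ≫ CohB1.ProjSpace.toSpec (n + m + 1) k = coprod.desc (X₁ ↘ (Spec (CommRingCat.of k))) (X₂ ↘ (Spec (CommRingCat.of k))) := by
  classical
  let σ₁ : Fin (n + 1) → Fin (n + m + 1 + 1) := fun i => ⟨i.1, by omega⟩
  let σ₂ : Fin (m + 1) → Fin (n + m + 1 + 1) := fun i => ⟨i.1 + (n + 1), by omega⟩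
  have hσ₁ : Function.Injective σ₁ := by
    intro a b h
    have := congrArg Fin.val h
    exact Fin.ext this
  have hσ₂ : Function.Injective σ₂ := by
    intro a b h
    have h' : a.1 + (n + 1) = b.1 + (n + 1) := congrArg Fin.val h
    exact Fin.ext (by omega)
  have hd : ∀ i i', σ₁ i ≠ σ₂ i' := by
    intro i i' h
    have h' : i.1 = i'.1 + (n + 1) := congrArg Fin.val h
    have := i.2
    omega
  let l₁ : CohB1.ProjSpace n k ⟶ CohB1.ProjSpace (n + m + 1) k :=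
    Groth.Agent.Lib.Helper69.LinEmb.linEmb k σ₁ hσ₁
  let l₂ : CohB1.ProjSpace m k ⟶ CohB1.ProjSpace (n + m + 1) k :=
    Groth.Agent.Lib.Helper69.LinEmb.linEmb k σ₂ hσ₂
  haveI : IsClosedImmersion l₁ :=
    Groth.Agent.Lib.Helper69.LinEmb.isClosedImmersion_linEmb k σ₁ hσ₁
  haveI : IsClosedImmersion l₂ :=
    Groth.Agent.Lib.Helper69.LinEmb.isClosedImmersion_linEmb k σ₂ hσ₂
  have hl₁ : l₁ ≫ CohB1.ProjSpace.toSpec (n + m + 1) k = CohB1.ProjSpace.toSpec n k :=
    Groth.Agent.Lib.Helper69.LinEmb.linEmb_toSpec k σ₁ hσ₁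
  have hl₂ : l₂ ≫ CohB1.ProjSpace.toSpec (n + m + 1) k = CohB1.ProjSpace.toSpec m k :=
    Groth.Agent.Lib.Helper69.LinEmb.linEmb_toSpec k σ₂ hσ₂
  have hdis : Disjoint (Set.range (i₁ ≫ l₁)) (Set.range (i₂ ≫ l₂)) := by
    have h0 : Disjoint (Set.range l₁) (Set.range l₂) :=
      Groth.Agent.Lib.Helper69.LinEmb.disjoint_range_linEmb k σ₁ σ₂ hσ₁ hσ₂ hd
    refine h0.mono ?_ ?_
    · rintro _ ⟨x, rfl⟩
      exact ⟨i₁ x, (Scheme.Hom.comp_apply i₁ l₁ x).symm⟩
    · rintro _ ⟨x, rfl⟩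
      exact ⟨i₂ x, (Scheme.Hom.comp_apply i₂ l₂ x).symm⟩
  refine ⟨coprod.desc (i₁ ≫ l₁) (i₂ ≫ l₂),
    Groth.Agent.Lib.Helper69.CoprodClosed.isClosedImmersion_coprodDesc _ _ hdis, ?_⟩
  apply coprod.hom_ext
  · rw [coprod.inl_desc_assoc, coprod.inl_desc, Category.assoc, hl₁, h₁]
  · rw [coprod.inr_desc_assoc, coprod.inr_desc, Category.assoc, hl₂, h₂]

end Groth.Agent.S14066
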