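import Groth.Statements.S1407
import Groth.Agent.Lib.Helper24.CMFibreBaseChange
import Groth.Agent.Lib.Helper14.FlatBaseChangeStalk
import Groth.Agent.S1405

set_option autoImplicit false
universe u
open FlatMor

namespace Groth.Agent.S1407

open AlgebraicGeometry CategoryTheory Limits in
/-- Let Y' → Y be flat, locally of finite presentation and surjective and f' the base change of f : X →
Y. Then f has locally Noetherian fibres and is Cohen–Macaulay at every point if and only if the same
holds for f'. -/
theorem result {X Y X' Y' : Scheme.{u}} (f : X ⟶ Y) (f' : X' ⟶ Y') (g' : X' ⟶ X) (g : Y' ⟶ Y) [Flat g] [LocallyOfFinitePresentation g] [Surjective g]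
    (hc : IsPullback g' f' f g) :
    ((∀ y : Y, IsLocallyNoetherian (f.fiber y)) ∧ ∀ x : X, MoreMor.IsCMAt f x) ↔
      (∀ y' : Y', IsLocallyNoetherian (f'.fiber y')) ∧ ∀ x' : X', MoreMor.IsCMAt f' x' := by
  have hlft : LocallyOfFiniteType g := inferInstance
  constructor
  · rintro ⟨hN, hcm⟩
    refine ⟨(Groth.Agent.S1405.result f f' g' g hc).mp hN, fun x' => ⟨?_, ?_⟩⟩
    · exact Groth.Agent.Lib.Helper14.flat_stalkMap_fst_of_isPullback hc.flip x' (hcm (g' x')).1
    · exact (Groth.Agent.Lib.Helper24.isCohenMacaulayLocalRing_fibre_stalk_iff_of_isPullback hc x'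
        (hN _) (Or.inl hlft)).mpr (hcm (g' x')).2
  · rintro ⟨hN', hcm'⟩
    have hN := (Groth.Agent.S1405.result f f' g' g hc).mpr hN'
    refine ⟨hN, fun x => ?_⟩
    have hsurj : Surjective g' := MorphismProperty.of_isPullback (P := @Surjective) hc.flip inferInstance
    obtain ⟨x', rfl⟩ := hsurj.surj x
    have hflat : (g.stalkMap (f' x')).hom.Flat := Flat.stalkMap g (f' x')
    refine ⟨?_, (Groth.Agent.Lib.Helper24.isCohenMacaulayLocalRing_fibre_stalk_iff_of_isPullback hc x'
      (hN _) (Or.inl hlft)).mp (hcm' x').2⟩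
    exact Groth.Agent.Lib.Helper14.flat_stalkMap_of_commSq hc.w x'
      (Groth.Agent.Lib.Helper14.flat_stalkMap_fst_of_isPullback hc x' hflat) (hcm' x').1 hflat

end Groth.Agent.S1407
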