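import Groth.Statements.S14073
import Groth.Agent.Lib.Helper73.FFRDet

set_option autoImplicit false
universe u
open FamCyc

namespace Groth.Agent.S14073

/-- Let A be a Noetherian ring, M an A-module with a finite resolution by finite free modules, and φ an
endomorphism of M. Then there is a unique element of A (the determinant of φ) whose image in A_p is
the determinant of the localized endomorphism φ_p of the free A_p-module M_p, for every prime p of A
at which M_p is free. -/
theorem result (A : Type u) [CommRing A] [IsNoetherianRing A]
    (M : Type u) [AddCommGroup M] [Module A M] (n : ℕ) (hM : FamCyc.HasFiniteFreeResolutionLE A n M)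
    (φ : M →ₗ[A] M) :
    ∃! a : A, ∀ (p : Ideal A) [p.IsPrime],
      Module.Free (Localization.AtPrime p) (LocalizedModule p.primeCompl M) →
        algebraMap A (Localization.AtPrime p) a =
          LinearMap.det (LocalizedModule.map p.primeCompl φ) := by
  classical
  haveI := Groth.Agent.Lib.Helper73.FFRDet.finite_of_ffr n M hM
  obtain ⟨χ, hχm, hχ⟩ := Groth.Agent.Lib.Helper73.FFRDet.exists_charpoly n M hM φ
  refine ⟨(-1) ^ χ.natDegree * χ.coeff 0, ?_, ?_⟩
  · intro p _ hfree
    haveI := hfree
    have h1 := hχ p
    have h2 : Module.finrank (Localization.AtPrime p) (LocalizedModule p.primeCompl M) =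
        χ.natDegree := by
      rw [← LinearMap.charpoly_natDegree (LocalizedModule.map p.primeCompl φ), ← h1,
        hχm.natDegree_map]
    rw [LinearMap.det_eq_sign_charpoly_coeff, h2, ← h1, Polynomial.coeff_map, map_mul, map_pow,
      map_neg, map_one]
  · intro b hb
    rw [← sub_eq_zero]
    refine Groth.Agent.Lib.Helper73.BE.eq_zero_of_forall_associatedPrimes _ fun P hP => ?_
    haveI := hP.isPrime
    have hfree := Groth.Agent.Lib.Helper73.FFRDet.free_localization_of_ffr n M hM P hP
    haveI := hfree
    have h1 := hχ P
    have h2 : Module.finrank (Localization.AtPrime P) (LocalizedModule P.primeCompl M) =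
        χ.natDegree := by
      rw [← LinearMap.charpoly_natDegree (LocalizedModule.map P.primeCompl φ), ← h1,
        hχm.natDegree_map]
    rw [map_sub, hb P hfree, LinearMap.det_eq_sign_charpoly_coeff, h2, ← h1,
      Polynomial.coeff_map, map_mul, map_pow, map_neg, map_one, sub_self]

end Groth.Agent.S14073
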