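import Groth.Statements.S14074
import Groth.Agent.Lib.Helper10.FtdSmooth
import Groth.Agent.Lib.Helper35.StalkTA

set_option autoImplicit false
open CategoryTheory AlgebraicGeometry
universe u
attribute [local instance] HasDerivedCategory.standard
open FamCyc

namespace Groth.Agent.S14074


open Groth.Agent.Lib.Helper35.TA Groth.Agent.Lib.Helper35.FTD Groth.Agent.Lib.Helper35.StalkTA
  Groth.Agent.Lib.Helper10.FtdSm

/-- ring level: the stalk map of a smooth morphism. -/
theorem ftd_stalk_of_smooth {B S : Scheme.{u}} (h : B ⟶ S) [Smooth h] (b : B)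
    (N : ModuleCat.{u} (B.presheaf.stalk b))
    (hN : DRing.HasFiniteTorDim (S.presheaf.stalk (h.base b))
      ((ModuleCat.restrictScalars (h.stalkMap b).hom).obj N)) :
    DRing.HasFiniteTorDim (B.presheaf.stalk b) N := by
  obtain ⟨U, hU, V, hV, hb, e, hsm⟩ := Smooth.exists_isStandardSmooth h b
  have hs : h.base b ∈ U := e hb
  refine ftd_of_smooth_loc (h.appLE U V e).hom (S.presheaf.germ U (h.base b) hs).hom
    (B.presheaf.germ V b hb).hom (h.stalkMap b).hom ?_ hsm ?_
    (hV.primeIdealOf ⟨b, hb⟩).asIdeal.primeCompl (hV.isLocalization_stalk ⟨b, hb⟩) N hN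
  · rw [← CommRingCat.hom_comp, ← CommRingCat.hom_comp]
    congr 1
    rw [Scheme.Hom.germ_stalkMap, Scheme.Hom.appLE, Category.assoc, TopCat.Presheaf.germ_res]
  · letI := (S.presheaf.germ U (h.base b) hs).hom.toAlgebra
    haveI := hU.isLocalization_stalk ⟨h.base b, hs⟩
    exact IsLocalization.flat _ (hU.primeIdealOf ⟨h.base b, hs⟩).asIdeal.primeCompl

/-- Let h : B ⟶ S be a smooth morphism, φ : X ⟶ B a morphism locally of finite type and F a
quasi-coherent O_X-module of pointwise finite tor dimension over S, i.e. at every point x of X the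
stalk F_x is, over the local ring of S below x, isomorphic in the derived category to a bounded
complex of flat modules. Then F has finite tor dimension over B pointwise in the same sense. -/
theorem result {X B S : Scheme.{u}} (h : B ⟶ S) [Smooth h]
    (φ : X ⟶ B) [LocallyOfFiniteType φ] (F : X.Modules) (hF : Coh.IsQCoh F)
    (hS : ∀ x : X, ∃ a b : ℤ,
      DerSch.HasTorAmplitudeAt (φ ≫ h) a b ((HomologicalComplex.single X.Modules (ComplexShape.up ℤ) 0).obj F) x) :
    ∀ x : X, ∃ a b : ℤ,
      DerSch.HasTorAmplitudeAt φ a b ((HomologicalComplex.single X.Modules (ComplexShape.up ℤ) 0).obj F) x := by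
  intro x
  obtain ⟨a, b, hab⟩ := hS x
  let Fs := (HomologicalComplex.single X.Modules (ComplexShape.up ℤ) 0).obj F
  let N : ModuleCat.{u} (B.presheaf.stalk (φ.base x)) := (DerSch.stalkOver φ x).obj F
  let g := (h.stalkMap (φ.base x)).hom
  let c2 : (DerSch.stalkCxOver φ x).obj Fs ≅
      (HomologicalComplex.single (ModuleCat.{u} (B.presheaf.stalk (φ.base x)))
        (ComplexShape.up ℤ) 0).obj N :=
    (HomologicalComplex.singleMapHomologicalComplex (DerSch.stalkOver φ x)
      (ComplexShape.up ℤ) 0).app F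
  let e2 : DRing.toD ((DerSch.stalkCxOver φ x).obj Fs) ≅
      (DerivedCategory.singleFunctor (ModuleCat.{u} (B.presheaf.stalk (φ.base x))) 0).obj N :=
    DerivedCategory.Q.mapIso c2 ≪≫
      ((DerivedCategory.singleFunctorIsoCompQ (ModuleCat.{u} (B.presheaf.stalk (φ.base x))) 0).app
        N).symm
  let c1 : (DerSch.stalkCxOver (φ ≫ h) x).obj Fs ≅
      (HomologicalComplex.single (ModuleCat.{u} (S.presheaf.stalk (h.base (φ.base x))))
        (ComplexShape.up ℤ) 0).obj ((ModuleCat.restrictScalars g).obj N) :=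
    stalkCxOverCompIso φ h x Fs ≪≫ (DRing.restrictCx g).mapIso c2 ≪≫
      (HomologicalComplex.singleMapHomologicalComplex (ModuleCat.restrictScalars g)
        (ComplexShape.up ℤ) 0).app N
  let e1 : DRing.toD ((DerSch.stalkCxOver (φ ≫ h) x).obj Fs) ≅
      (DerivedCategory.singleFunctor (ModuleCat.{u} (S.presheaf.stalk (h.base (φ.base x)))) 0).obj
        ((ModuleCat.restrictScalars g).obj N) :=
    DerivedCategory.Q.mapIso c1 ≪≫
      ((DerivedCategory.singleFunctorIsoCompQ
        (ModuleCat.{u} (S.presheaf.stalk (h.base (φ.base x)))) 0).app _).symm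
  have h1 : TAmp a b ((DerivedCategory.singleFunctor
      (ModuleCat.{u} (S.presheaf.stalk (h.base (φ.base x)))) 0).obj
        ((ModuleCat.restrictScalars g).obj N)) := TAmp.of_iso hab e1
  have h2 : TAmp a 0 ((DerivedCategory.singleFunctor
      (ModuleCat.{u} (S.presheaf.stalk (h.base (φ.base x)))) 0).obj
        ((ModuleCat.restrictScalars g).obj N)) := TAmp.of_isLE h1
  have h3 : TAmp (-(((-a).toNat : ℕ) : ℤ)) 0 ((DerivedCategory.singleFunctor
      (ModuleCat.{u} (S.presheaf.stalk (h.base (φ.base x)))) 0).obj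
        ((ModuleCat.restrictScalars g).obj N)) := h2.mono (by omega) le_rfl
  have hR : DRing.HasFiniteTorDim (S.presheaf.stalk (h.base (φ.base x)))
      ((ModuleCat.restrictScalars g).obj N) :=
    (hasFiniteTorDim_iff _).2 ⟨_, h3⟩
  have hA := ftd_stalk_of_smooth h (φ.base x) N hR
  obtain ⟨n, hn⟩ := (hasFiniteTorDim_iff _).1 hA
  exact ⟨-(n : ℤ), 0, TAmp.of_iso hn e2.symm⟩

end Groth.Agent.S14074
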