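import Groth.Statements.S2594
import Groth.Agent.Lib.Helper55.EquidimAt
import Groth.Agent.Lib.Helper55.FiberBaseChange

set_option autoImplicit false
open CategoryTheory AlgebraicGeometry
universe u
open EGA43

namespace Groth.Agent.S2594

open CategoryTheory.Limits Groth.Agent.Lib.Helper55 in
/-- The base change of a morphism along the inclusion of a fibre over a point `η` is flat over the
fibre, since it is also a base change of a scheme over the field `κ(η)`. -/
theorem flat_snd_fiber {X Y Y' : Scheme.{u}} (f : X ⟶ Y) (g : Y' ⟶ Y) (η : Y) :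
    Flat (pullback.snd (pullback.snd f g) (g.fiberι η)) := by
  have sq1 : IsPullback (pullback.fst (pullback.snd f g) (g.fiberι η))
      (pullback.snd (pullback.snd f g) (g.fiberι η)) (pullback.snd f g) (g.fiberι η) :=
    IsPullback.of_hasPullback _ _
  have sq2 : IsPullback (pullback.fst f g) (pullback.snd f g) f g := IsPullback.of_hasPullback _ _
  have s := sq1.paste_horiz sq2
  have hc : g.fiberι η ≫ g = g.fiberToSpecResidueField η ≫ Y.fromSpecResidueField η :=
    pullback.condition
  rw [hc] at s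
  have t : IsPullback (f.fiberι η) (f.fiberToSpecResidueField η) f (Y.fromSpecResidueField η) :=
    IsPullback.of_hasPullback _ _
  have key := IsPullback.of_right' s t
  exact MorphismProperty.of_isPullback (P := @Flat) key inferInstance

open CategoryTheory.Limits Groth.Agent.Lib.Helper55 in
/-- Maximal points of a flat base change lying over maximal points of the base map to maximal
points. -/
theorem map_maximal_snd_of_flat {X Y Y' : Scheme.{u}} (f : X ⟶ Y) (g : Y' ⟶ Y) [Flat g]
    (ζ' : ↥(pullback f g)) (hmax : ∀ w : ↥(pullback f g), w ⤳ ζ' → ζ' ⤳ w)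
    (hη : ∀ v : Y, v ⤳ f (pullback.fst f g ζ') → f (pullback.fst f g ζ') ⤳ v)
    (y₁ : Y') (hy₁ : y₁ ⤳ pullback.snd f g ζ') : pullback.snd f g ζ' ⤳ y₁ := by
  set η := f (pullback.fst f g ζ') with hηdef
  set y'' := pullback.snd f g ζ' with hy''
  have hgy : g y'' = η := by
    have := congr($(pullback.condition (f := f) (g := g)) ζ')
    exact this.symm
  have hgy₁ : g y₁ = η := by
    have h1 : g y₁ ⤳ η := hgy ▸ hy₁.map g.continuous
    exact (h1.antisymm (hη _ h1)).eq
  obtain ⟨γ'', hγ''⟩ : y'' ∈ Set.range (g.fiberι η) := by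
    rw [g.range_fiberι η]; exact hgy
  obtain ⟨γ₁, hγ₁⟩ : y₁ ∈ Set.range (g.fiberι η) := by
    rw [g.range_fiberι η]; exact hgy₁
  have hsp : γ₁ ⤳ γ'' := by
    rw [← (g.fiberι η).isEmbedding.isInducing.specializes_iff, hγ₁, hγ'']
    exact hy₁
  obtain ⟨φ, hφ1, hφ2⟩ := Scheme.Pullback.exists_preimage_pullback
    (f := pullback.snd f g) (g := g.fiberι η) ζ' γ'' hγ''.symm
  have hflat := flat_snd_fiber f g η
  have hgen := Flat.generalizingMap (pullback.snd (pullback.snd f g) (g.fiberι η))
  obtain ⟨φ₁, hφ₁φ, hφ₁⟩ := hgen (hφ2 ▸ hsp)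
  have h2 : pullback.fst (pullback.snd f g) (g.fiberι η) φ₁ ⤳ ζ' :=
    hφ1 ▸ hφ₁φ.map (pullback.fst (pullback.snd f g) (g.fiberι η)).continuous
  have h3 := (hmax _ h2).map (pullback.snd f g).continuous
  have h4 : pullback.snd f g (pullback.fst (pullback.snd f g) (g.fiberι η) φ₁) = y₁ := by
    have := congr($(pullback.condition (f := pullback.snd f g) (g := g.fiberι η)) φ₁)
    refine this.trans ?_
    change g.fiberι η (pullback.snd (pullback.snd f g) (g.fiberι η) φ₁) = y₁
    rw [hφ₁, hγ₁]
  rw [h4] at h3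
  exact h3

open CategoryTheory.Limits Groth.Agent.Lib.Helper55 in
/-- If the local fibre dimension of `f` is `e` at every point of the open `U`, all irreducible
components of all fibres of `U ⟶ Y` have dimension `e`. -/
theorem fibre_components_dim_of_fibreDimAt {X Y : Scheme.{u}} (f : X ⟶ Y) [LocallyOfFiniteType f]
    (U : X.Opens) (e : ℕ) (hU : ∀ x : X, x ∈ U → FlatMor.fibreDimAt f x = e) :
    ∀ x' : (↥U : Type u), ∀ Z ∈ irreducibleComponents
      (↥((U.ι ≫ f).fiber ((U.ι ≫ f).base x')) : Type u), topologicalKrullDim (↥Z : Type u) = e := by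
  intro x'
  set g := U.ι ≫ f with hg
  have hlft : LocallyOfFiniteType (g.fiberToSpecResidueField (g x')) :=
    MorphismProperty.pullback_snd (P := @LocallyOfFiniteType) _ _ inferInstance
  refine (forall_irreducibleComponents_dim_eq_iff (k := ↑(Y.residueField (g x')))
    (g.fiberToSpecResidueField (g x')) (e : WithBot ℕ∞)).mpr ?_
  intro z
  rw [localDim_fiber_eq_fibreDimAt g (g x') z]
  have h := Groth.Agent.H52.fibreDimAt_eq_of_etale_square U.ι (𝟙 Y) g f
    (by rw [hg, Category.comp_id]) (g.fiberι (g x') z)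
  rw [h]
  exact hU _ (g.fiberι (g x') z).2

/-- In a Noetherian space every point has an open neighbourhood meeting only the irreducible
components through the point. -/
theorem exists_open_nhd_forall_component_mem {T : Type*} [TopologicalSpace T]
    [TopologicalSpace.NoetherianSpace T] (t : T) :
    ∃ O : Set T, IsOpen O ∧ t ∈ O ∧ ∀ a ∈ O, ∀ Z ∈ irreducibleComponents T, a ∈ Z → t ∈ Z := by
  refine ⟨(⋃₀ {Z | Z ∈ irreducibleComponents T ∧ t ∉ Z})ᶜ, ?_, ?_, ?_⟩
  · refine isOpen_compl_iff.mpr ?_
    rw [Set.sUnion_eq_biUnion]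
    refine Set.Finite.isClosed_biUnion
      (TopologicalSpace.NoetherianSpace.finite_irreducibleComponents.subset fun Z hZ => hZ.1) ?_
    intro W hW
    exact isClosed_of_mem_irreducibleComponents W hW.1
  · rintro ⟨Z, ⟨-, hZ⟩, htZ⟩
    exact hZ htZ
  · intro a ha Z hZ haZ
    by_contra htZ
    exact ha ⟨Z, ⟨hZ, htZ⟩, haZ⟩

open CategoryTheory.Limits Groth.Agent.Lib.Helper55 in
/-- In a locally Noetherian scheme, every point `x` of an open `V` has an open neighbourhood
`U ≤ V` all of whose maximal points specialize to `x`. -/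
theorem exists_opens_maximal_specializes {X : Scheme.{u}} [IsLocallyNoetherian X] (V : X.Opens)
    (x : X) (hx : x ∈ V) :
    ∃ U : X.Opens, x ∈ U ∧ U ≤ V ∧
      ∀ ζ : X, ζ ∈ U → (∀ w : X, w ⤳ ζ → ζ ⤳ w) → ζ ⤳ x := by
  obtain ⟨A, hA, hxA, hAV⟩ := exists_isAffineOpen_mem_and_subset (x := x) (U := V) hx
  have hN : TopologicalSpace.NoetherianSpace ↥(A : Scheme.{u}) := by
    have : IsNoetherianRing Γ(X, A) := IsLocallyNoetherian.component_noetherian ⟨A, hA⟩
    have : IsAffine (A : Scheme.{u}) := hA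
    have : IsNoetherian (A : Scheme.{u}) := by
      have : IsLocallyNoetherian (A : Scheme.{u}) :=
        isLocallyNoetherian_of_isOpenImmersion A.ι
      exact { }
    infer_instance
  obtain ⟨O, hO, hxO, hOprop⟩ := exists_open_nhd_forall_component_mem
    (T := ↥(A : Scheme.{u})) ⟨x, hxA⟩
  refine ⟨A.ι ''ᵁ ⟨O, hO⟩, ⟨⟨x, hxA⟩, hxO, rfl⟩, ?_, ?_⟩
  · rintro _ ⟨a, -, rfl⟩
    exact hAV a.2
  · rintro _ ⟨a, haO, rfl⟩ hmax
    have hmax' : ∀ w' : ↥(A : Scheme.{u}), w' ⤳ a → a ⤳ w' := by
      intro w' hw'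
      have h2 : A.ι w' ⤳ A.ι a := hw'.map A.ι.continuous
      exact (A.ι.isOpenEmbedding.isInducing.specializes_iff).mp (hmax _ h2)
    have hcomp := closure_mem_irreducibleComponents_of_maximal a hmax'
    have h3 := hOprop a haO _ hcomp (subset_closure rfl)
    have h4 : a ⤳ (⟨x, hxA⟩ : ↥(A : Scheme.{u})) := specializes_iff_mem_closure.mpr h3
    exact h4.map A.ι.continuous
open CategoryTheory.Limits in
/-- Let f : X ⟶ Y be locally of finite type and equidimensional at a point x, and g : Y' ⟶ Y a flat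
morphism with Y' locally Noetherian (the source states this for arbitrary Y', but its proof reduces
to the case where every irreducible component passes through the point, which needs the irreducible
components to be locally finite). Then the base change X ×_Y Y' ⟶ Y' is equidimensional at every
point lying over x. -/
theorem result {X Y Y' : Scheme.{u}} (f : X ⟶ Y) [LocallyOfFiniteType f] (g : Y' ⟶ Y) [Flat g] [IsLocallyNoetherian Y']
    (x : X) (h : EGA43.IsEquidimAt f x) (x' : ↥(pullback f g)) (hx' : (pullback.fst f g).base x' = x) :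
    EGA43.IsEquidimAt (pullback.snd f g) x' := by
  obtain ⟨e, U, hxU, h1, h2⟩ := h
  subst hx'
  have hN : IsLocallyNoetherian (pullback f g) :=
    LocallyOfFiniteType.isLocallyNoetherian (pullback.snd f g)
  obtain ⟨U', hx'U', hU'V, hU'max⟩ :=
    exists_opens_maximal_specializes ((pullback.fst f g) ⁻¹ᵁ U) x' hxU
  have hfib : ∀ x'' : ↥(pullback f g), x'' ∈ U' →
      FlatMor.fibreDimAt (pullback.snd f g) x'' = e := by
    intro x'' hx''
    rw [Groth.Agent.Lib.Helper55.fibreDimAt_eq_of_isPullback f g (pullback.fst f g)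
      (pullback.snd f g) (IsPullback.of_hasPullback f g) x'']
    exact Groth.Agent.Lib.Helper55.fibreDimAt_eq_of_isEquidimAt f (pullback.fst f g x'') h2
      (hU'V hx'')
  have key : ∀ Z' : Set ↥(U' : Scheme.{u}),
      Z' ∈ irreducibleComponents (↥(U' : Scheme.{u}) : Type u) →
      ∃ W ∈ irreducibleComponents (Y' : Type u), (pullback.snd f g) x' ∈ W ∧
        closure ((U'.ι ≫ pullback.snd f g) '' Z') = W := ?_
  · exact ⟨e, U', hx'U', key, fibre_components_dim_of_fibreDimAt (pullback.snd f g) U' e hfib⟩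
  intro Z' hZ'
  have hZ'cl : IsClosed Z' := isClosed_of_mem_irreducibleComponents Z' hZ'
  set z' := hZ'.1.genericPoint with hz'
  have hz'gen : closure {z'} = Z' := (hZ'.1.isGenericPoint_genericPoint hZ'cl).def
  have hz'max : ∀ w : ↥(U' : Scheme.{u}), w ⤳ z' → z' ⤳ w :=
    Groth.Agent.Lib.Helper55.specializes_of_closure_mem_irreducibleComponents z' (hz'gen ▸ hZ')
  set ζ' := U'.ι z' with hζ'
  have hζ'max : ∀ w : ↥(pullback f g), w ⤳ ζ' → ζ' ⤳ w := by
    intro w hw
    have hwU' : w ∈ U' := hw.mem_open U'.2 z'.2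
    have h3 : (⟨w, hwU'⟩ : ↥(U' : Scheme.{u})) ⤳ z' :=
      (U'.ι.isOpenEmbedding.isInducing.specializes_iff).mp hw
    exact (hz'max _ h3).map U'.ι.continuous
  have hζ'x' : ζ' ⤳ x' := hU'max ζ' z'.2 hζ'max
  have hζmax : ∀ w : X, w ⤳ pullback.fst f g ζ' → pullback.fst f g ζ' ⤳ w := by
    intro w hw
    obtain ⟨w', hw'ζ', hw'⟩ := (Flat.generalizingMap (pullback.fst f g)) hw
    rw [← hw']
    exact (hζ'max w' hw'ζ').map (pullback.fst f g).continuous
  have hηmax := Groth.Agent.Lib.Helper55.map_maximal_of_isEquidimAt f (pullback.fst f g x') h1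
    (pullback.fst f g ζ') (hU'V z'.2) hζmax
  have hy''max := map_maximal_snd_of_flat f g ζ' hζ'max hηmax
  refine ⟨closure {pullback.snd f g ζ'},
    Groth.Agent.Lib.Helper55.closure_mem_irreducibleComponents_of_maximal _ hy''max, ?_, ?_⟩
  · exact specializes_iff_mem_closure.mp (hζ'x'.map (pullback.snd f g).continuous)
  · rw [← hz'gen, closure_image_closure (U'.ι ≫ pullback.snd f g).continuous, Set.image_singleton]
    rfl

end Groth.Agent.S2594
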