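import Groth.Statements.S14076
import Groth.Agent.S2594
import Groth.Agent.Lib.Helper55.EquidimAt
import Groth.Agent.Lib.Helper55.ChevalleyBound
import Groth.Agent.Lib.Helper55.ClosedSubschemeDim
import Groth.Agent.Lib.Helper55.DimSup

set_option autoImplicit false
open CategoryTheory AlgebraicGeometry
universe u
open FamCyc Groth.Agent.Lib.Helper55

namespace Groth.Agent.S14076

theorem residueFieldMap_surjective_of_isPreimmersion {X₁ X : Scheme.{u}} (i : X₁ ⟶ X)
    [IsPreimmersion i] (w : X₁) : Function.Surjective (i.residueFieldMap w).hom := by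
  have h1 : Function.Surjective (i.stalkMap w).hom := i.stalkMap_surjective w
  have h2 : Function.Surjective (X₁.residue w).hom := IsLocalRing.residue_surjective
  have h3 : X.residue (i w) ≫ i.residueFieldMap w = i.stalkMap w ≫ X₁.residue w :=
    Scheme.residue_residueFieldMap i w
  have h4 : Function.Surjective (X.residue (i w) ≫ i.residueFieldMap w).hom := by
    rw [h3]
    exact h2.comp h1
  rw [CommRingCat.hom_comp, RingHom.coe_comp] at h4
  exact Function.Surjective.of_comp h4

open Groth.Agent.Lib.Helper55 in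
/-- The transcendence degree of a residue field extension is unchanged by restricting the source
to a subscheme. -/
theorem trdeg_residueField_preimmersion_comp {X₁ X Y : Scheme.{u}} (i : X₁ ⟶ X)
    [IsPreimmersion i] (f : X ⟶ Y) (w : X₁) :
    @Algebra.trdeg (Y.residueField ((i ≫ f) w)) (X₁.residueField w) _ _
        ((i ≫ f).residueFieldMap w).hom.toAlgebra =
      @Algebra.trdeg (Y.residueField (f (i w))) (X.residueField (i w)) _ _
        (f.residueFieldMap (i w)).hom.toAlgebra := by
  have h := trdeg_residueField_comp i f w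
  have h0 : @Algebra.trdeg (X.residueField (i w)) (X₁.residueField w) _ _
      (i.residueFieldMap w).hom.toAlgebra = 0 := by
    let _ : Algebra (X.residueField (i w)) (X₁.residueField w) :=
      (i.residueFieldMap w).hom.toAlgebra
    have hs : Function.Surjective (algebraMap (X.residueField (i w)) (X₁.residueField w)) :=
      residueFieldMap_surjective_of_isPreimmersion i w
    have := Algebra.isIntegral_of_surjective hs
    exact _root_.trdeg_eq_zero
  rw [h0, add_zero] at h
  exact h.symm

/-- Let f : X ⟶ S be locally of finite type and equidimensional at every point of X. Then every point x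
of X lies on an irreducible component W of X, given its reduced subscheme structure, such that W ⟶ S
is equidimensional at x. -/
theorem result {X S : Scheme.{u}} (f : X ⟶ S) [LocallyOfFiniteType f]
    (h : ∀ x : X, EGA43.IsEquidimAt f x) (x : X) :
    ∃ W : TopologicalSpace.Closeds X, (W : Set X) ∈ irreducibleComponents (X : Type u) ∧
      ∃ w : ↥((Scheme.IdealSheafData.vanishingIdeal W).subscheme),
        (Scheme.IdealSheafData.vanishingIdeal W).subschemeι.base w = x ∧
        EGA43.IsEquidimAt ((Scheme.IdealSheafData.vanishingIdeal W).subschemeι ≫ f) w := by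
  obtain ⟨e, U, hxU, h1, h2⟩ := h x
  have hWc : IsClosed (irreducibleComponent x) := isClosed_irreducibleComponent
  have hWirr : IsIrreducible (irreducibleComponent x) := isIrreducible_irreducibleComponent
  obtain ⟨ξ, hξ⟩ := QuasiSober.sober hWirr hWc
  have hξdef : closure ({ξ} : Set X) = irreducibleComponent x := hξ.def
  refine ⟨⟨irreducibleComponent x, hWc⟩, irreducibleComponent_mem_irreducibleComponents x, ?_⟩
  set I := Scheme.IdealSheafData.vanishingIdeal ⟨irreducibleComponent x, hWc⟩ with hI
  set ι := I.subschemeι with hι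
  have hrange : Set.range ι = irreducibleComponent x := by
    rw [hι, Scheme.IdealSheafData.range_subschemeι, hI,
      Scheme.IdealSheafData.coe_support_vanishingIdeal]
    rfl
  obtain ⟨w, hw⟩ : x ∈ Set.range ι := hrange ▸ mem_irreducibleComponent
  refine ⟨w, hw, ?_⟩
  obtain ⟨ξ', hξ'⟩ : ξ ∈ Set.range ι := by
    rw [hrange, ← hξdef]; exact subset_closure rfl
  have hξmax : ∀ y : X, y ⤳ ξ → ξ ⤳ y :=
    specializes_of_closure_mem_irreducibleComponents ξ
      (hξdef ▸ irreducibleComponent_mem_irreducibleComponents x)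
  have hξx : ξ ⤳ x := specializes_iff_mem_closure.mpr (hξdef ▸ mem_irreducibleComponent)
  have hξU : ξ ∈ U := hξx.mem_open U.2 hxU
  have hξ'gen : ∀ w' : ↥I.subscheme, ξ' ⤳ w' := by
    intro w'
    rw [← ι.isEmbedding.isInducing.specializes_iff, hξ', specializes_iff_mem_closure, hξdef,
      ← hrange]
    exact ⟨w', rfl⟩
  have hfξmax : ∀ v : S, v ⤳ f ξ → f ξ ⤳ v := fun v hv =>
    map_maximal_of_isEquidimAt f x h1 ξ hξU hξmax v hv
  have hWS : closure ({f ξ} : Set S) ∈ irreducibleComponents S :=
    closure_mem_irreducibleComponents_of_maximal (f ξ) hfξmax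
  have hξ'U : ξ' ∈ ι ⁻¹ᵁ U := by
    change ι ξ' ∈ U
    rw [hξ']; exact hξU
  refine ⟨e, ι ⁻¹ᵁ U, ?_, ?_, ?_⟩
  · change ι w ∈ U
    rw [hw]; exact hxU
  · intro Z hZ
    refine ⟨closure {f ξ}, hWS, ?_, ?_⟩
    · rw [Scheme.Hom.comp_apply, hw]
      exact specializes_iff_mem_closure.mp (hξx.map f.continuous)
    · set hh := (ι ⁻¹ᵁ U).ι ≫ ι ≫ f with hhh
      refine subset_antisymm (closure_minimal ?_ isClosed_closure) (closure_minimal ?_ isClosed_closure)
      · rintro _ ⟨z, -, rfl⟩
        have h3 : ξ' ⤳ (ι ⁻¹ᵁ U).ι z := hξ'gen _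
        have h4 := h3.map (ι ≫ f).continuous
        rw [Scheme.Hom.comp_apply, hξ'] at h4
        exact specializes_iff_mem_closure.mp h4
      · rw [Set.singleton_subset_iff]
        set ξ'' : ↥(ι ⁻¹ᵁ U) := ⟨ξ', hξ'U⟩ with hξ''
        have h5 : ∀ z : ↥(ι ⁻¹ᵁ U), ξ'' ⤳ z := by
          intro z
          exact (Topology.IsInducing.subtypeVal.specializes_iff).mp (hξ'gen z.1)
        have h6 : Z ⊆ closure ({ξ''} : Set ↥(ι ⁻¹ᵁ U)) := fun z _ =>
          specializes_iff_mem_closure.mp (h5 z)
        have h7 : ξ'' ∈ Z := hZ.2 isIrreducible_singleton.closure h6 (subset_closure rfl)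
        refine subset_closure ⟨ξ'', h7, ?_⟩
        rw [hhh, Scheme.Hom.comp_apply, Scheme.Hom.comp_apply]
        change f (ι ξ') = f ξ
        rw [hξ']
  · refine Groth.Agent.S2594.fibre_components_dim_of_fibreDimAt (ι ≫ f) (ι ⁻¹ᵁ U) e ?_
    intro w' hw'
    have hw'U : ι w' ∈ U := hw'
    refine le_antisymm ?_ ?_
    · refine (fibreDimAt_preimmersion_comp_le f ι w').trans ?_
      exact (fibreDimAt_eq_of_isEquidimAt f (ι w') h2 hw'U).le
    · refine trdeg_le_fibreDimAt_of_specializes (ι ≫ f) ξ' w' (hξ'gen w') e ?_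
      rw [trdeg_residueField_preimmersion_comp ι f ξ']
      have h8 := trdeg_eq_of_isEquidimAt f h2 (ι ξ') (hξ' ▸ hξU) (by
        intro w₁ _ hw₁
        rw [hξ'] at hw₁ ⊢
        exact hξmax w₁ hw₁)
      exact h8

end Groth.Agent.S14076
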