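import Groth.Statements.S14079
import Groth.Agent.S2594
import Groth.Agent.Lib.Helper55.EquidimAt
import Groth.Agent.Lib.Helper55.ChevalleyBound
import Groth.Agent.Lib.Helper55.ClosedSubschemeDim
import Groth.Agent.Lib.Helper55.DimSup
import Groth.Agent.S14076
import Groth.Agent.Lib.Helper55.FiberTrdeg
import Groth.Agent.Lib.Helper55.Equidim
import Groth.Agent.Lib.Helper55.ChevalleySemicont

set_option autoImplicit false
open CategoryTheory AlgebraicGeometry
universe u
open FamCyc Groth.Agent.Lib.Helper55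

namespace Groth.Agent.S14079

/-- For a scheme with a generic point `ξ'`, every irreducible component of an open subscheme
containing `ξ'` has image with closure `closure {g ξ'}`. -/
theorem closure_image_component_of_generic {W' S : Scheme.{u}} (g : W' ⟶ S) (ξ' : W')
    (hgen : ∀ w' : W', ξ' ⤳ w') (N : W'.Opens) (hξN : ξ' ∈ N)
    (Z : Set ↥N) (hZ : Z ∈ irreducibleComponents ↥N) :
    closure ((N.ι ≫ g) '' Z) = closure {g ξ'} := by
  refine subset_antisymm (closure_minimal ?_ isClosed_closure) (closure_minimal ?_ isClosed_closure)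
  · rintro _ ⟨z, -, rfl⟩
    have h3 : ξ' ⤳ N.ι z := hgen _
    have h4 := h3.map g.continuous
    rw [Scheme.Hom.comp_apply]
    exact specializes_iff_mem_closure.mp h4
  · rw [Set.singleton_subset_iff]
    set ξ'' : ↥N := ⟨ξ', hξN⟩ with hξ''
    have h5 : ∀ z : ↥N, ξ'' ⤳ z := by
      intro z
      exact (Topology.IsInducing.subtypeVal.specializes_iff).mp (hgen z.1)
    have h6 : Z ⊆ closure ({ξ''} : Set ↥N) := fun z _ =>
      specializes_iff_mem_closure.mp (h5 z)
    have h7 : ξ'' ∈ Z := hZ.2 isIrreducible_singleton.closure h6 (subset_closure rfl)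
    refine subset_closure ⟨ξ'', h7, ?_⟩
    rw [Scheme.Hom.comp_apply]
    rfl

/-- (iv) ⇒ (iii): let f : X ⟶ S be locally of finite type. Suppose that every point x of X which is a
maximal point of its fibre (no other point of the fibre over f x specializes to x) lies on an
irreducible component W of X, given its reduced subscheme structure, with W ⟶ S equidimensional at
x. Then every point of X lies on such an irreducible component. -/
theorem result {X S : Scheme.{u}} (f : X ⟶ S) [LocallyOfFiniteType f]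
    (h : ∀ x : X, (∀ x' : X, f.base x' = f.base x → x ∈ closure ({x'} : Set X) → x' = x) →
      ∃ W : TopologicalSpace.Closeds X, (W : Set X) ∈ irreducibleComponents (X : Type u) ∧
      ∃ w : ↥((Scheme.IdealSheafData.vanishingIdeal W).subscheme),
        (Scheme.IdealSheafData.vanishingIdeal W).subschemeι.base w = x ∧
        EGA43.IsEquidimAt ((Scheme.IdealSheafData.vanishingIdeal W).subschemeι ≫ f) w)
    (x : X) :
    ∃ W : TopologicalSpace.Closeds X, (W : Set X) ∈ irreducibleComponents (X : Type u) ∧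
      ∃ w : ↥((Scheme.IdealSheafData.vanishingIdeal W).subscheme),
        (Scheme.IdealSheafData.vanishingIdeal W).subschemeι.base w = x ∧
        EGA43.IsEquidimAt ((Scheme.IdealSheafData.vanishingIdeal W).subschemeι ≫ f) w := by
  -- a maximal point of the fibre through `x` of maximal dimension
  have hlft : LocallyOfFiniteType (f.fiberToSpecResidueField (f x)) :=
    MorphismProperty.pullback_snd (P := @LocallyOfFiniteType) _ _ inferInstance
  obtain ⟨ζ, hζcomp, hζx, hζdim⟩ := exists_mem_irreducibleComponents_dim_eq_localDim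
    (k := ↑(S.residueField (f x))) (f.fiberToSpecResidueField (f x)) (f.asFiber x)
  have hζmax := specializes_of_closure_mem_irreducibleComponents ζ hζcomp
  obtain ⟨x', hx'⟩ : ∃ x' : X, f.fiberι (f x) ζ = x' := ⟨_, rfl⟩
  have hfx' : f x' = f x := by
    have : x' ∈ Set.range (f.fiberι (f x)) := ⟨ζ, hx'⟩
    rw [f.range_fiberι] at this
    exact this
  have hx'x : x' ⤳ x := by
    have := hζx.map (f.fiberι (f x)).continuous
    rwa [f.fiberι_asFiber, hx'] at this
  have hx'max : ∀ x'' : X, f.base x'' = f.base x' → x' ∈ closure ({x''} : Set X) → x'' = x' := by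
    intro x'' hf'' hcl
    have h1 : x'' ∈ Set.range (f.fiberι (f x)) := by
      rw [f.range_fiberι]
      exact hf''.trans hfx'
    obtain ⟨ζ'', hζ''⟩ := h1
    have h2 : x'' ⤳ x' := specializes_iff_mem_closure.mpr hcl
    rw [← hζ'', ← hx'] at h2
    have h3 : ζ'' ⤳ ζ := ((f.fiberι (f x)).isEmbedding.isInducing.specializes_iff).mp h2
    have h4 : ζ ⤳ ζ'' := hζmax ζ'' h3
    rw [← hζ'', ← hx', (h3.antisymm h4).eq]
  obtain ⟨n, hn1, hn2⟩ := exists_dim_closure_fiber_eq_trdeg f (f x) ζ x' hx'
  have hfd : FlatMor.fibreDimAt f x = n := by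
    unfold FlatMor.fibreDimAt
    rw [← hζdim, hn1]
  obtain ⟨W, hW, hex⟩ := h x' hx'max
  refine ⟨W, hW, ?_⟩
  set I := Scheme.IdealSheafData.vanishingIdeal W with hI
  set ι := I.subschemeι with hι
  set g := ι ≫ f with hg
  obtain ⟨w', hw', e, U', hw'U', h1', h2'⟩ := hex
  have hrange : Set.range ι = (W : Set X) := by
    rw [hι, Scheme.IdealSheafData.range_subschemeι, hI,
      Scheme.IdealSheafData.coe_support_vanishingIdeal]
  have hxW : x ∈ (W : Set X) := by
    have h3 : x' ∈ (W : Set X) := hrange ▸ ⟨w', hw'⟩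
    exact (hx'x.mem_closed W.isClosed) h3
  obtain ⟨w, hw⟩ : x ∈ Set.range ι := hrange ▸ hxW
  refine ⟨w, hw, ?_⟩
  -- generic point of `W`
  obtain ⟨ξ, hξ⟩ := QuasiSober.sober hW.1 W.isClosed
  have hξdef : closure ({ξ} : Set X) = (W : Set X) := hξ.def
  obtain ⟨ξ', hξ'⟩ : ξ ∈ Set.range ι := by
    rw [hrange, ← hξdef]; exact subset_closure rfl
  have hξ'gen : ∀ v : ↥I.subscheme, ξ' ⤳ v := by
    intro v
    rw [← ι.isEmbedding.isInducing.specializes_iff, hξ', specializes_iff_mem_closure, hξdef,
      ← hrange]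
    exact ⟨v, rfl⟩
  have hξ'U' : ξ' ∈ U' := (hξ'gen w').mem_open U'.2 hw'U'
  -- trdeg at generic point is `e`
  have hC := trdeg_eq_of_isEquidimAt g h2' ξ' hξ'U' (fun w₁ _ _ => hξ'gen w₁)
  have hD : ∀ v : ↥I.subscheme, (e : WithBot ℕ∞) ≤ FlatMor.fibreDimAt g v := fun v =>
    trdeg_le_fibreDimAt_of_specializes g ξ' v (hξ'gen v) e hC
  -- `e = n`
  have hB := trdeg_eq_of_isEquidimAt g h2' w' hw'U' (by
    intro w₁ hw₁ hsp
    have h3 : ι w₁ ⤳ ι w' := hsp.map ι.continuous
    have h4 : f (ι w₁) = f (ι w') := hw₁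
    rw [hw'] at h3 h4
    have h5 := hx'max (ι w₁) h4 (specializes_iff_mem_closure.mp h3)
    have h6 : w₁ = w' := ι.isEmbedding.injective (h5.trans hw'.symm)
    rw [h6])
  have hen : e = n := by
    have h3 := Groth.Agent.S14076.trdeg_residueField_preimmersion_comp ι f w'
    rw [← hg, hB] at h3
    subst hw'
    rw [hn2] at h3
    exact_mod_cast h3
  have hE : FlatMor.fibreDimAt g w ≤ (e : ℕ) := by
    refine (fibreDimAt_preimmersion_comp_le f ι w).trans ?_
    rw [hw, hfd, hen]
  obtain ⟨N, hwN, hN⟩ := exists_open_forall_fibreDimAt_le g w e hE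
  have hξ'N : ξ' ∈ N := (hξ'gen w).mem_open N.2 hwN
  have hgξmax : ∀ v : S, v ⤳ g ξ' → g ξ' ⤳ v := fun v hv =>
    map_maximal_of_isEquidimAt g w' h1' ξ' hξ'U' (fun y _ => hξ'gen y) v hv
  refine ⟨e, N, hwN, ?_, ?_⟩
  · intro Z hZ
    refine ⟨closure {g ξ'}, closure_mem_irreducibleComponents_of_maximal (g ξ') hgξmax, ?_, ?_⟩
    · exact specializes_iff_mem_closure.mp ((hξ'gen w).map g.continuous)
    · exact closure_image_component_of_generic g ξ' hξ'gen N hξ'N Z hZ
  · exact Groth.Agent.S2594.fibre_components_dim_of_fibreDimAt g N e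
      (fun v hv => le_antisymm (hN v hv) (hD v))

end Groth.Agent.S14079
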