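import Groth.Statements.S14083
import Mathlib
import Groth.Agent.Lib.Helper63.EqNodeInv
-- import your own Groth.Agent.* helpers here

set_option autoImplicit false
universe u
open ArSing

namespace Groth.Agent.S14083

/-- Over an algebraically closed field k of characteristic different from 2, every non-trivial k-algebra
involution σ of the node algebra A_1 = k[[x,y]]/(y^2 - x^2) is conjugate, by a k-algebra
automorphism φ of A_1, to one of the three involutions (x, y) ↦ (x, -y), (x, y) ↦ (-x, -y), (x, y) ↦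
(y, x). -/
theorem result (k : Type u) [Field k] [IsAlgClosed k]
    (h2 : (2 : k) ≠ 0)
    (σ : ArSing.ring k 1 ≃ₐ[k] ArSing.ring k 1) (hσ : ∀ a, σ (σ a) = a) (hne : σ ≠ AlgEquiv.refl) :
    ∃ φ : ArSing.ring k 1 ≃ₐ[k] ArSing.ring k 1,
      (φ.symm (σ (φ (ArSing.x k 1))) = ArSing.x k 1 ∧ φ.symm (σ (φ (ArSing.y k 1))) = -ArSing.y k 1) ∨
      (φ.symm (σ (φ (ArSing.x k 1))) = -ArSing.x k 1 ∧ φ.symm (σ (φ (ArSing.y k 1))) = -ArSing.y k 1) ∨
      (φ.symm (σ (φ (ArSing.x k 1))) = ArSing.y k 1 ∧ φ.symm (σ (φ (ArSing.y k 1))) = ArSing.x k 1) := by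
  classical
  obtain ⟨E', hE0, hE1⟩ := Groth.Agent.Lib.Helper63.EqNodeInv.exists_coordChange_spec (k := k) h2
  have hI : Ideal.span {ArSing.eqn k 1} =
      Ideal.span {(MvPowerSeries.X 1 ^ 2 - MvPowerSeries.X 0 ^ 2 : MvPowerSeries (Fin 2) k)} := by
    unfold ArSing.eqn
    rfl
  let E : ArSing.ring k 1 ≃ₐ[k] Groth.Agent.Lib.Helper63.EqNodeFibre.Node k :=
    (Ideal.quotientEquivAlgOfEq k hI).trans E'
  have hEx : E (ArSing.x k 1) = (2⁻¹ : k) • (Groth.Agent.Lib.Helper63.EqNodeInv.nv k -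
      Groth.Agent.Lib.Helper63.EqNodeInv.nu k) := hE0
  have hEy : E (ArSing.y k 1) = (2⁻¹ : k) • (Groth.Agent.Lib.Helper63.EqNodeInv.nu k +
      Groth.Agent.Lib.Helper63.EqNodeInv.nv k) := hE1
  let σ' : Groth.Agent.Lib.Helper63.EqNodeFibre.Node k ≃ₐ[k]
      Groth.Agent.Lib.Helper63.EqNodeFibre.Node k := (E.symm.trans σ).trans E
  have hσ' : ∀ a, σ' (σ' a) = a := by
    intro a
    change E (σ (E.symm (E (σ (E.symm a))))) = a
    rw [E.symm_apply_apply, hσ, E.apply_symm_apply]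
  have hne' : σ' ≠ AlgEquiv.refl := by
    intro h
    apply hne
    ext a
    have := DFunLike.congr_fun h (E a)
    change E (σ (E.symm (E a))) = E a at this
    rw [E.symm_apply_apply] at this
    exact E.injective this
  obtain ⟨g, hg⟩ := Groth.Agent.Lib.Helper63.EqNodeInv.classify h2 σ' hσ' hne'
  let τ : Groth.Agent.Lib.Helper63.EqNodeFibre.Node k ≃ₐ[k]
      Groth.Agent.Lib.Helper63.EqNodeFibre.Node k := (g.symm.trans σ').trans g
  have hτ : ∀ a, τ a = g (σ' (g.symm a)) := fun a => rfl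
  let φ : ArSing.ring k 1 ≃ₐ[k] ArSing.ring k 1 := (E.trans g.symm).trans E.symm
  have hφ : ∀ a, φ.symm (σ (φ a)) = E.symm (τ (E a)) := by
    intro a
    change E.symm (g (E (σ (E.symm (g.symm (E a)))))) = E.symm (g (E (σ (E.symm (g.symm (E a))))))
    rfl
  have hτx : τ (E (ArSing.x k 1)) = (2⁻¹ : k) • (τ (Groth.Agent.Lib.Helper63.EqNodeInv.nv k) -
      τ (Groth.Agent.Lib.Helper63.EqNodeInv.nu k)) := by rw [hEx, map_smul, map_sub]
  have hτy : τ (E (ArSing.y k 1)) = (2⁻¹ : k) • (τ (Groth.Agent.Lib.Helper63.EqNodeInv.nu k) +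
      τ (Groth.Agent.Lib.Helper63.EqNodeInv.nv k)) := by rw [hEy, map_smul, map_add]
  refine ⟨φ, ?_⟩
  rw [hφ, hφ, hτx, hτy, hτ, hτ]
  rcases hg with ⟨h0, h1⟩ | ⟨h0, h1⟩ | ⟨h0, h1⟩
  · right; left
    rw [h0, h1]
    constructor
    · rw [AlgEquiv.symm_apply_eq, map_neg, hEx, ← smul_neg]
      congr 1; ring
    · rw [AlgEquiv.symm_apply_eq, map_neg, hEy, ← smul_neg]
      congr 1; ring
  · right; right
    rw [h0, h1]
    constructor
    · rw [AlgEquiv.symm_apply_eq, hEy]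
      congr 1; ring
    · rw [AlgEquiv.symm_apply_eq, hEx]
      congr 1; ring
  · left
    rw [h0, h1]
    constructor
    · rw [AlgEquiv.symm_apply_eq, hEx]
      congr 1; ring
    · rw [AlgEquiv.symm_apply_eq, map_neg, hEy, ← smul_neg]
      congr 1; ring

end Groth.Agent.S14083
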