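import Groth.Statements.S14085
import Groth.Agent.Lib.Helper71.FlatKer
import Mathlib.RingTheory.Flat.Stability

set_option autoImplicit false
universe u
open FlatMor

namespace Groth.Agent.S14085

open Groth.Agent.Lib.Helper71

/-- Let R be a ring, A and B flat R-algebras, I an ideal of A and B → A/I an injective finite flat map
of R-algebras. Then the fibre product ring B ×_{A/I} A, realised as the subalgebra of B × A of pairs
with equal image in A/I, is flat over R. (This is the affine statement behind flatness over the base
of the pushout of a closed immersion along a finite flat morphism.) -/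
theorem result (R A B : Type u) [CommRing R] [CommRing A] [CommRing B]
    [Algebra R A] [Algebra R B] [Module.Flat R A] [Module.Flat R B] (I : Ideal A)
    [Algebra B (A ⧸ I)] [IsScalarTower R B (A ⧸ I)] [Module.Finite B (A ⧸ I)] [Module.Flat B (A ⧸ I)]
    (hinj : Function.Injective (algebraMap B (A ⧸ I))) :
    Module.Flat R ↥(AlgHom.equalizer ((IsScalarTower.toAlgHom R B (A ⧸ I)).comp (AlgHom.fst R B A))
          ((Ideal.Quotient.mkₐ R I).comp (AlgHom.snd R B A))) := by
  set f : B × A →ₐ[R] A ⧸ I := (IsScalarTower.toAlgHom R B (A ⧸ I)).comp (AlgHom.fst R B A) with hf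
  set g : B × A →ₐ[R] A ⧸ I := (Ideal.Quotient.mkₐ R I).comp (AlgHom.snd R B A) with hg
  have hflatAI : Module.Flat R (A ⧸ I) := Module.Flat.trans R B (A ⧸ I)
  have hflatBA : Module.Flat R (B × A) := flat_prod
  let δ : B × A →ₗ[R] A ⧸ I := f.toLinearMap - g.toLinearMap
  have hδ : Function.Surjective δ := by
    intro x
    obtain ⟨a, rfl⟩ := Ideal.Quotient.mk_surjective x
    refine ⟨(0, -a), ?_⟩
    simp [δ, f, g]
  have hker : Module.Flat R (LinearMap.ker δ) := flat_ker_of_surjective δ hδ
  have heq : (AlgHom.equalizer f g).toSubmodule = LinearMap.ker δ := by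
    ext x
    simp only [Subalgebra.mem_toSubmodule, AlgHom.mem_equalizer, LinearMap.mem_ker, δ,
      LinearMap.sub_apply, AlgHom.toLinearMap_apply, sub_eq_zero]
  have e : ↥(AlgHom.equalizer f g) ≃ₗ[R] LinearMap.ker δ :=
    LinearEquiv.ofEq (AlgHom.equalizer f g).toSubmodule (LinearMap.ker δ) heq
  exact Module.Flat.of_linearEquiv e

end Groth.Agent.S14085
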