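import Groth.Statements.S14086
import Groth.Agent.Lib.Helper71.FlatKer
import Mathlib.RingTheory.Flat.Stability
import Mathlib.RingTheory.Flat.FaithfullyFlat.Basic
import Mathlib.RingTheory.Finiteness.Nakayama

set_option autoImplicit false
universe u
open FlatMor

namespace Groth.Agent.S14086

open TensorProduct Groth.Agent.Lib.Helper71

section aux

variable {R A B : Type u} [CommRing R] [CommRing A] [CommRing B] [Algebra R A] [Algebra R B]

/-- A finite flat injective ring map is faithfully flat. -/
theorem faithfullyFlat_of_finite_flat_injective (C : Type u) [CommRing C] [Algebra B C]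
    [Module.Finite B C] [Module.Flat B C] (hinj : Function.Injective (algebraMap B C)) :
    Module.FaithfullyFlat B C := by
  refine ⟨fun m hm htop => ?_⟩
  obtain ⟨r, hr1, hr2⟩ := Submodule.exists_sub_one_mem_and_smul_eq_zero_of_fg_of_le_smul m
    (⊤ : Submodule B C) Module.Finite.fg_top htop.ge
  have h1 : algebraMap B C r = 0 := by
    have := hr2 1 Submodule.mem_top
    rwa [Algebra.smul_def, mul_one] at this
  have h2 : r = 0 := hinj (by rw [h1, map_zero])
  rw [h2, zero_sub] at hr1
  exact hm.ne_top ((Ideal.eq_top_iff_one m).mpr (by simpa using m.neg_mem hr1))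

/-- Universal injectivity of a faithfully flat algebra map (as `R`-modules). -/
theorem lTensor_injective_of_faithfullyFlat (C : Type u) [CommRing C] [Algebra B C] [Algebra R C]
    [IsScalarTower R B C] [Module.FaithfullyFlat B C] (R' : Type u) [CommRing R'] [Algebra R R'] :
    Function.Injective ((IsScalarTower.toAlgHom R B C).toLinearMap.lTensor R') := by
  -- first the `rTensor` version
  have hr : Function.Injective ((IsScalarTower.toAlgHom R B C).toLinearMap.rTensor R') := by
    rw [injective_iff_map_eq_zero]
    intro z hz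
    have key : ∀ z : B ⊗[R] R',
        TensorProduct.AlgebraTensorModule.cancelBaseChange R B C C R' ((1 : C) ⊗ₜ[B] z) =
          (IsScalarTower.toAlgHom R B C).toLinearMap.rTensor R' z := by
      intro z
      induction z using TensorProduct.induction_on with
      | zero => simp
      | tmul b r =>
        rw [TensorProduct.AlgebraTensorModule.cancelBaseChange_tmul, LinearMap.rTensor_tmul,
          Algebra.smul_def, mul_one]
        rfl
      | add a b ha hb => rw [TensorProduct.tmul_add, map_add, map_add, ha, hb]
    have h1 : (1 : C) ⊗ₜ[B] z = 0 := by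
      apply (TensorProduct.AlgebraTensorModule.cancelBaseChange R B C C R').injective
      rw [key, hz, map_zero]
    exact (Module.FaithfullyFlat.one_tmul_eq_zero_iff B _ z).mp h1
  have hcomm : (IsScalarTower.toAlgHom R B C).toLinearMap.lTensor R' =
      (TensorProduct.comm R C R').toLinearMap ∘ₗ
        (IsScalarTower.toAlgHom R B C).toLinearMap.rTensor R' ∘ₗ
          (TensorProduct.comm R R' B).toLinearMap := by
    ext; simp
  rw [hcomm]
  exact (TensorProduct.comm R C R').injective.comp (hr.comp (TensorProduct.comm R R' B).injective)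

theorem map_id_eq_lTensor (R' : Type u) [CommRing R'] [Algebra R R'] {X Y : Type u}
    [Semiring X] [Semiring Y] [Algebra R X] [Algebra R Y] (h : X →ₐ[R] Y) (z : R' ⊗[R] X) :
    Algebra.TensorProduct.map (AlgHom.id R' R') h z = h.toLinearMap.lTensor R' z := by
  induction z using TensorProduct.induction_on with
  | zero => simp
  | tmul r x => simp
  | add a b ha hb => simp only [map_add, ha, hb]

variable (I : Ideal A) [Algebra B (A ⧸ I)] [IsScalarTower R B (A ⧸ I)]

/-- The difference map `B × A → A/I`. -/
def δ : B × A →ₗ[R] A ⧸ I :=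
  (IsScalarTower.toAlgHom R B (A ⧸ I)).toLinearMap ∘ₗ LinearMap.fst R B A -
    (Ideal.Quotient.mkₐ R I).toLinearMap ∘ₗ LinearMap.snd R B A

theorem δ_surjective : Function.Surjective (δ (R := R) (B := B) I) := by
  intro x
  obtain ⟨a, rfl⟩ := Ideal.Quotient.mk_surjective x
  exact ⟨(0, -a), by simp [δ]⟩

theorem core [Module.Flat R B] [Module.Finite B (A ⧸ I)] [Module.Flat B (A ⧸ I)]
    (hinj : Function.Injective (algebraMap B (A ⧸ I)))
    (R' : Type u) [CommRing R'] [Algebra R R']
    (P : Submodule R (B × A)) (hP : P = LinearMap.ker (δ (R := R) (B := B) I)) :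
    Function.Injective ((LinearMap.snd R B A ∘ₗ P.subtype).lTensor R') ∧
    ∀ (b : R' ⊗[R] B) (a : R' ⊗[R] A),
      (IsScalarTower.toAlgHom R B (A ⧸ I)).toLinearMap.lTensor R' b =
        (Ideal.Quotient.mkₐ R I).toLinearMap.lTensor R' a →
      ∃ x : R' ⊗[R] P, (LinearMap.fst R B A ∘ₗ P.subtype).lTensor R' x = b ∧
        (LinearMap.snd R B A ∘ₗ P.subtype).lTensor R' x = a := by
  subst hP
  set D := δ (R := R) (B := B) I with hD
  have hFF : Module.FaithfullyFlat B (A ⧸ I) := faithfullyFlat_of_finite_flat_injective _ hinj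
  have hflatC : Module.Flat R (A ⧸ I) := Module.Flat.trans R B (A ⧸ I)
  have hex : Function.Exact (LinearMap.ker D).subtype D := LinearMap.exact_subtype_ker_map D
  have F2 : Function.Injective ((LinearMap.ker D).subtype.lTensor R') :=
    LinearMap.lTensor_injective_of_exact_of_flat D (δ_surjective I) _
      (LinearMap.ker D).injective_subtype hex R'
  have F3 : Function.Exact ((LinearMap.ker D).subtype.lTensor R') (D.lTensor R') :=
    lTensor_exact R' hex (δ_surjective I)
  have F4 : Function.Injective ((IsScalarTower.toAlgHom R B (A ⧸ I)).toLinearMap.lTensor R') :=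
    lTensor_injective_of_faithfullyFlat (A ⧸ I) R'
  have hdec : ∀ y : R' ⊗[R] (B × A),
      y = (LinearMap.inl R B A).lTensor R' ((LinearMap.fst R B A).lTensor R' y) +
        (LinearMap.inr R B A).lTensor R' ((LinearMap.snd R B A).lTensor R' y) := by
    intro y
    have h3 : (LinearMap.inl R B A) ∘ₗ (LinearMap.fst R B A) +
        (LinearMap.inr R B A) ∘ₗ (LinearMap.snd R B A) = LinearMap.id := by
      ext <;> simp
    have h4 : y = (LinearMap.id : B × A →ₗ[R] B × A).lTensor R' y := by simp
    conv_lhs => rw [h4, ← h3]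
    simp only [LinearMap.lTensor_add, LinearMap.add_apply, LinearMap.lTensor_comp,
      LinearMap.comp_apply]
  have hDy : ∀ y : R' ⊗[R] (B × A), D.lTensor R' y =
      (IsScalarTower.toAlgHom R B (A ⧸ I)).toLinearMap.lTensor R'
          ((LinearMap.fst R B A).lTensor R' y) -
        (Ideal.Quotient.mkₐ R I).toLinearMap.lTensor R' ((LinearMap.snd R B A).lTensor R' y) := by
    intro y
    simp only [hD, δ, LinearMap.lTensor_sub, LinearMap.sub_apply, LinearMap.lTensor_comp,
      LinearMap.comp_apply]
  constructor
  · rw [injective_iff_map_eq_zero]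
    intro x hx
    rw [LinearMap.lTensor_comp, LinearMap.comp_apply] at hx
    set y := (LinearMap.ker D).subtype.lTensor R' x with hy
    have h1 : D.lTensor R' y = 0 := F3.apply_apply_eq_zero x
    rw [hDy, hx, map_zero, sub_zero] at h1
    have h2 : (LinearMap.fst R B A).lTensor R' y = 0 := F4 (by rw [h1, map_zero])
    have h3 : y = 0 := by rw [hdec y, h2, hx, map_zero, map_zero, add_zero]
    exact F2 (by rw [← hy, h3, map_zero])
  · intro b a hba
    set y := (LinearMap.inl R B A).lTensor R' b + (LinearMap.inr R B A).lTensor R' a with hy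
    have hfst : (LinearMap.fst R B A).lTensor R' y = b := by
      rw [hy, map_add, ← LinearMap.comp_apply, ← LinearMap.comp_apply, ← LinearMap.lTensor_comp,
        ← LinearMap.lTensor_comp, LinearMap.fst_comp_inl, LinearMap.fst_comp_inr]
      simp
    have hsnd : (LinearMap.snd R B A).lTensor R' y = a := by
      rw [hy, map_add, ← LinearMap.comp_apply, ← LinearMap.comp_apply, ← LinearMap.lTensor_comp,
        ← LinearMap.lTensor_comp, LinearMap.snd_comp_inl, LinearMap.snd_comp_inr]
      simp
    have h1 : D.lTensor R' y = 0 := by rw [hDy, hfst, hsnd, hba, sub_self]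
    obtain ⟨x, hx⟩ := (F3 y).mp h1
    refine ⟨x, ?_, ?_⟩
    · rw [LinearMap.lTensor_comp, LinearMap.comp_apply, hx, hfst]
    · rw [LinearMap.lTensor_comp, LinearMap.comp_apply, hx, hsnd]

end aux

/-- Let R be a ring, A and B flat R-algebras, I an ideal of A, B → A/I an injective finite flat map of
R-algebras and P = B ×_{A/I} A the fibre product ring (pairs in B × A with equal image in A/I). For
any R-algebra R' the base change R' ⊗_R P maps injectively to R' ⊗_R A, and any b' in R' ⊗_R B and
a' in R' ⊗_R A with the same image in R' ⊗_R (A/I) are the two components of some element of R' ⊗_R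
P; that is, R' ⊗_R P is the fibre product of R' ⊗_R B and R' ⊗_R A over R' ⊗_R (A/I). -/
theorem result (R A B R' : Type u) [CommRing R] [CommRing A]
    [CommRing B] [CommRing R'] [Algebra R A] [Algebra R B] [Algebra R R'] [Module.Flat R A] [Module.Flat R B]
    (I : Ideal A) [Algebra B (A ⧸ I)] [IsScalarTower R B (A ⧸ I)] [Module.Finite B (A ⧸ I)] [Module.Flat B (A ⧸ I)]
    (hinj : Function.Injective (algebraMap B (A ⧸ I))) :
    Function.Injective (Algebra.TensorProduct.map (AlgHom.id R' R')
        ((AlgHom.snd R B A).comp (AlgHom.equalizer ((IsScalarTower.toAlgHom R B (A ⧸ I)).comp (AlgHom.fst R B A))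
          ((Ideal.Quotient.mkₐ R I).comp (AlgHom.snd R B A))).val)) ∧
    ∀ (b : TensorProduct R R' B) (a : TensorProduct R R' A),
      Algebra.TensorProduct.map (AlgHom.id R' R') (IsScalarTower.toAlgHom R B (A ⧸ I)) b =
        Algebra.TensorProduct.map (AlgHom.id R' R') (Ideal.Quotient.mkₐ R I) a →
      ∃ x : TensorProduct R R' ↥(AlgHom.equalizer ((IsScalarTower.toAlgHom R B (A ⧸ I)).comp (AlgHom.fst R B A))
          ((Ideal.Quotient.mkₐ R I).comp (AlgHom.snd R B A))),
        Algebra.TensorProduct.map (AlgHom.id R' R') ((AlgHom.fst R B A).comp (AlgHom.equalizer ((IsScalarTower.toAlgHom R B (A ⧸ I)).comp (AlgHom.fst R B A))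
          ((Ideal.Quotient.mkₐ R I).comp (AlgHom.snd R B A))).val) x = b ∧
        Algebra.TensorProduct.map (AlgHom.id R' R') ((AlgHom.snd R B A).comp (AlgHom.equalizer ((IsScalarTower.toAlgHom R B (A ⧸ I)).comp (AlgHom.fst R B A))
          ((Ideal.Quotient.mkₐ R I).comp (AlgHom.snd R B A))).val) x = a := by
  set P := AlgHom.equalizer ((IsScalarTower.toAlgHom R B (A ⧸ I)).comp (AlgHom.fst R B A))
          ((Ideal.Quotient.mkₐ R I).comp (AlgHom.snd R B A)) with hPdef
  have hP : P.toSubmodule = LinearMap.ker (δ (R := R) (B := B) I) := by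
    ext x
    simp only [hPdef, Subalgebra.mem_toSubmodule, AlgHom.mem_equalizer, LinearMap.mem_ker, δ,
      LinearMap.sub_apply, sub_eq_zero]
    rfl
  obtain ⟨h1, h2⟩ := core I hinj R' P.toSubmodule hP
  refine ⟨?_, ?_⟩
  · intro x y hxy
    rw [map_id_eq_lTensor, map_id_eq_lTensor] at hxy
    exact h1 hxy
  · intro b a hba
    rw [map_id_eq_lTensor, map_id_eq_lTensor] at hba
    obtain ⟨x, hx1, hx2⟩ := h2 b a hba
    refine ⟨x, ?_, ?_⟩
    · rw [map_id_eq_lTensor]; exact hx1
    · rw [map_id_eq_lTensor]; exact hx2

end Groth.Agent.S14086
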