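import Groth.Statements.S14087
import Groth.Agent.Lib.Helper71.Truncated

set_option autoImplicit false
universe u
open ArSing

namespace Groth.Agent.S14087

open Polynomial in
/-- Over an algebraically closed field k, if B = k[t]/(t^n) with n ≥ 1 is flat over a k-subalgebra A ⊆ B
(a finite flat extension of pointed finite algebras with curvilinear top), then A is curvilinear
too: A is isomorphic as a k-algebra to k[t]/(t^m) for some m. -/
theorem result (k : Type u) [Field k] [IsAlgClosed k]
    (n : ℕ) (hn : 0 < n)
    (A : Subalgebra k (Polynomial k ⧸ Ideal.span {(X : Polynomial k) ^ n}))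
    [Module.Flat A (Polynomial k ⧸ Ideal.span {(X : Polynomial k) ^ n})] :
    ∃ m : ℕ, Nonempty (A ≃ₐ[k] (Polynomial k ⧸ Ideal.span {(X : Polynomial k) ^ m})) := by
  have hloc := Groth.Agent.Lib.Helper71.truncated_isLocalRing k n hn
  have hfin := Groth.Agent.Lib.Helper71.truncated_finite k n
  obtain ⟨hA, hprin⟩ := Groth.Agent.Lib.Helper71.subalgebra_principal_of_dvd_total k _
    (Groth.Agent.Lib.Helper71.truncated_dvd_total k n) A
  have hfinA : Module.Finite k A := inferInstance
  exact Groth.Agent.Lib.Helper71.curvilinear_aux k A hprin

end Groth.Agent.S14087
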