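import Groth.Statements.S14088
import Mathlib.Tactic

set_option autoImplicit false
universe u
open ArSing

namespace Groth.Agent.S14088

section aux

variable {A : Type u} [CommRing A] (h τ : A)

/-- Rising product `∏_{i<k} (h + iτ)`. -/
def P (k : ℕ) : A := ∏ i ∈ Finset.range k, (h + (i : A) * τ)

theorem P_succ (k : ℕ) : P h τ (k + 1) = P h τ k * (h + (k : A) * τ) := by
  simp [P, Finset.prod_range_succ]

theorem P_mul (k n : ℕ) :
    P h τ k * (h + (n : A) * τ) = P h τ (k + 1) - ((k : A) - n) * τ * P h τ k := by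
  rw [P_succ]; ring

/-- The coefficient. -/
def c (m n s : ℕ) : A :=
  (-1 : A) ^ s * (Nat.factorial s : A) * (Nat.choose n s : A) * (Nat.choose m s : A)

theorem choose_mul_sub (m s : ℕ) :
    (Nat.choose m s : A) * ((m : A) - s) = (Nat.choose m (s + 1) : A) * ((s : A) + 1) := by
  by_cases hs : s ≤ m
  · have := Nat.choose_succ_right_eq m s
    have h2 : ((m - s : ℕ) : A) = (m : A) - s := Nat.cast_sub hs
    rw [← h2]
    have h3 := congrArg (Nat.cast : ℕ → A) this
    push_cast at h3
    rw [← h3]
  · push Not at hs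
    rw [Nat.choose_eq_zero_of_lt hs, Nat.choose_eq_zero_of_lt (by omega)]
    simp

theorem coef (m n s : ℕ) :
    (c m (n + 1) (s + 1) : A) = c m n (s + 1) - c m n s * ((m : A) - s) := by
  unfold c
  have h1 := choose_mul_sub (A := A) m s
  have h2 : (Nat.choose (n + 1) (s + 1) : A) = Nat.choose n s + Nat.choose n (s + 1) := by
    have := congrArg (Nat.cast : ℕ → A) (Nat.choose_succ_succ n s)
    push_cast at this
    exact this
  have h3 : (Nat.factorial (s + 1) : A) = ((s : A) + 1) * Nat.factorial s := by
    rw [Nat.factorial_succ]; push_cast; ring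
  rw [h2, h3, pow_succ]
  linear_combination ((-1 : A) ^ s * (Nat.factorial s : A) * (Nat.choose n s : A)) * h1

theorem c_zero (m n : ℕ) : (c m n 0 : A) = 1 := by simp [c]

theorem c_self_succ (m n : ℕ) : (c m n (n + 1) : A) = 0 := by simp [c]

/-- The right-hand side. -/
def T (m n : ℕ) : A :=
  ∑ s ∈ Finset.range (n + 1), c m n s * τ ^ s * P h τ (m + n - s)

theorem T_succ (m n : ℕ) : T h τ m (n + 1) = T h τ m n * (h + (n : A) * τ) := by
  -- expand `T (n+1)`
  have e1 : T h τ m (n + 1) = (∑ s ∈ Finset.range (n + 1),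
      c m (n + 1) (s + 1) * τ ^ (s + 1) * P h τ (m + n - s)) + P h τ (m + n + 1) := by
    unfold T
    rw [Finset.sum_range_succ']
    congr 1
    · apply Finset.sum_congr rfl
      intro s _
      rw [show m + (n + 1) - (s + 1) = m + n - s by omega]
    · rw [c_zero, pow_zero, one_mul, one_mul, Nat.sub_zero, Nat.add_assoc]
  -- expand `T n * x_n`
  have e2 : T h τ m n * (h + (n : A) * τ) =
      (∑ s ∈ Finset.range (n + 1), c m n s * τ ^ s * P h τ (m + n - s + 1)) -
        ∑ s ∈ Finset.range (n + 1), c m n s * ((m : A) - s) * τ ^ (s + 1) * P h τ (m + n - s) := by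
    unfold T
    rw [Finset.sum_mul, ← Finset.sum_sub_distrib]
    apply Finset.sum_congr rfl
    intro s hs
    have hs' : s ≤ n := Nat.lt_succ_iff.mp (Finset.mem_range.mp hs)
    rw [mul_assoc, P_mul]
    have hk : ((m + n - s : ℕ) : A) = (m : A) + n - s := by
      rw [Nat.cast_sub (by omega)]; push_cast; ring
    rw [hk]
    ring
  have e3 : (∑ s ∈ Finset.range (n + 1), c m n s * τ ^ s * P h τ (m + n - s + 1)) =
      (∑ s ∈ Finset.range (n + 1), c m n (s + 1) * τ ^ (s + 1) * P h τ (m + n - s)) +
        P h τ (m + n + 1) := by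
    rw [Finset.sum_range_succ', Finset.sum_range_succ _ n, c_self_succ]
    congr 1
    · rw [zero_mul, zero_mul, add_zero]
      apply Finset.sum_congr rfl
      intro s hs
      have hs' : s < n := Finset.mem_range.mp hs
      rw [show m + n - (s + 1) + 1 = m + n - s by omega]
    · simp [c_zero]
  rw [e1, e2, e3, add_sub_right_comm, ← Finset.sum_sub_distrib]
  congr 1
  apply Finset.sum_congr rfl
  intro s _
  rw [coef]
  ring

theorem main (m n : ℕ) : P h τ n * P h τ m = T h τ m n := by
  induction n with
  | zero => simp [T, P, c_zero]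
  | succ n ih => rw [T_succ, ← ih, P_succ]; ring

end aux

/-- The identity behind the torus-equivariant classes h_i = h_0 + i τ of the coordinate hyperplanes of a
projective space of binary forms, stated in an arbitrary commutative ring: for n ≤ m, (h_0 ⋯
h_(n-1))^2 · h_n ⋯ h_(m-1) equals the sum over s = 0, …, n of (-1)^s s! (n choose s) (m choose s)
τ^s h_0 ⋯ h_(m+n-s-1), where h_i = h + i τ. (The published statement is in the equivariant Chow ring
of that projective space; only the relations h_i = h_j + (j - i) τ are used, so it holds in any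
commutative ring.) -/
theorem result (A : Type u) [CommRing A] (h τ : A) (n m : ℕ) (hnm : n ≤ m) :
    (∏ i ∈ Finset.range n, (h + (i : A) * τ) ^ 2) * ∏ i ∈ Finset.Ico n m, (h + (i : A) * τ) =
      ∑ s ∈ Finset.range (n + 1), (-1 : A) ^ s * (Nat.factorial s : A) * (Nat.choose n s : A) *
        (Nat.choose m s : A) * τ ^ s * ∏ i ∈ Finset.range (m + n - s), (h + (i : A) * τ) := by
  have h1 := main h τ m n
  unfold T P c at h1
  rw [← h1, Finset.prod_pow, sq, mul_assoc]
  congr 1
  exact Finset.prod_range_mul_prod_Ico _ hnm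

end Groth.Agent.S14088
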