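import Groth.Statements.S1409
import Mathlib.RingTheory.Flat.EquationalCriterion
import Mathlib.RingTheory.Flat.FaithfullyFlat.Algebra
import Mathlib.RingTheory.Ideal.GoingDown
import Mathlib.Algebra.Colimit.Ring
import Mathlib.RingTheory.Ideal.MinimalPrime.Basic
import Mathlib.Data.Set.Card

set_option autoImplicit false
universe u
open FlatMor

namespace Groth.Agent.S1409

section Helpers

theorem comap_mem_minimalPrimes {S S' : Type u} [CommRing S] [CommRing S'] [Algebra S S']
    [Module.Flat S S'] {P : Ideal S'} (hP : P ∈ minimalPrimes S') :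
    P.comap (algebraMap S S') ∈ minimalPrimes S := by
  haveI : P.IsPrime := hP.1.1
  refine ⟨⟨inferInstance, bot_le⟩, ?_⟩
  rintro q ⟨hq, -⟩ hqp
  haveI := hq
  haveI : P.LiesOver (P.comap (algebraMap S S')) := ⟨rfl⟩
  obtain ⟨Q, hQP, hQ, hQq⟩ := Ideal.exists_ideal_le_liesOver_of_le P hqp
  have hPQ : P ≤ Q := hP.2 ⟨hQ, bot_le⟩ hQP
  have : P = Q := le_antisymm hPQ hQP
  rw [this, ← Ideal.under_def, ← hQq.over]

theorem exists_minimalPrimes_comap_eq {S S' : Type u} [CommRing S] [CommRing S'] [Algebra S S']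
    (hcm : ∀ p : Ideal S, (p.map (algebraMap S S')).comap (algebraMap S S') = p)
    {p : Ideal S} (hp : p ∈ minimalPrimes S) :
    ∃ P ∈ minimalPrimes S', P.comap (algebraMap S S') = p := by
  haveI : p.IsPrime := hp.1.1
  obtain ⟨P', hP', hP'p⟩ := (Ideal.comap_map_eq_self_iff_of_isPrime p).mp (hcm p)
  haveI := hP'
  obtain ⟨P, hP, hPP'⟩ := Ideal.exists_minimalPrimes_le (show (⊥ : Ideal S') ≤ P' from bot_le)
  haveI : P.IsPrime := hP.1.1
  refine ⟨P, hP, le_antisymm ?_ ?_⟩
  · rw [← hP'p]; exact Ideal.comap_mono hPP'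
  · exact hp.2 ⟨inferInstance, bot_le⟩ (by rw [← hP'p]; exact Ideal.comap_mono hPP')


section

variable {ι : Type u} [Preorder ι] [IsDirected ι (· ≤ ·)] [Nonempty ι] (G : ι → Type u)
  [∀ i, CommRing (G i)] (f : ∀ i j, i ≤ j → G i →+* G j)
  [DirectedSystem G fun i j h => f i j h]

/-- The structure map into the direct limit. -/
noncomputable abbrev φ (i : ι) : G i →+* Ring.DirectLimit G fun i j h => ⇑(f i j h) :=
  Ring.DirectLimit.of G (fun i j h => ⇑(f i j h)) i

omit [IsDirected ι (· ≤ ·)] [Nonempty ι] [DirectedSystem G fun i j h => f i j h] in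
theorem φ_f {i j : ι} (h : i ≤ j) (x : G i) : φ G f j (f i j h x) = φ G f i x :=
  Ring.DirectLimit.of_f h x

omit [IsDirected ι (· ≤ ·)] [Nonempty ι] in
theorem f_f {i j k : ι} (hij : i ≤ j) (hjk : j ≤ k) (x : G i) :
    f j k hjk (f i j hij x) = f i k (hij.trans hjk) x :=
  DirectedSystem.map_map' (f := f) hij hjk x

/-- A finite family of elements of the colimit lifts to a common level above `i`. -/
theorem exists_lift_family (i : ι) {l : ℕ} (x : Fin l → Ring.DirectLimit G fun i j h => ⇑(f i j h)) :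
    ∃ (j : ι) (_ : i ≤ j) (s : Fin l → G j), ∀ k, φ G f j (s k) = x k := by
  induction l with
  | zero => exact ⟨i, le_rfl, Fin.elim0, fun k => k.elim0⟩
  | succ l ih =>
    obtain ⟨j, hij, s, hs⟩ := ih (fun k => x k.succ)
    obtain ⟨j₀, s₀, hs₀⟩ := Ring.DirectLimit.exists_of (x 0)
    obtain ⟨j', hj, hj₀⟩ := exists_ge_ge j j₀
    refine ⟨j', hij.trans hj, Fin.cons (f j₀ j' hj₀ s₀) (fun k => f j j' hj (s k)), ?_⟩
    intro k
    refine Fin.cases ?_ (fun k => ?_) k
    · rw [Fin.cons_zero, φ_f]; exact hs₀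
    · rw [Fin.cons_succ, φ_f]; exact hs k

theorem φ_eq_zero {i : ι} {x : G i} (h : φ G f i x = 0) : ∃ (j : ι) (hij : i ≤ j), f i j hij x = 0 :=
  Ring.DirectLimit.of.zero_exact h


set_option maxHeartbeats 400000 in
theorem flat_φ (hflat : ∀ i j (h : i ≤ j), letI := (f i j h).toAlgebra; Module.Flat (G i) (G j))
    (i : ι) : letI := (φ G f i).toAlgebra
    Module.Flat (G i) (Ring.DirectLimit G fun i j h => ⇑(f i j h)) := by
  letI := (φ G f i).toAlgebra
  apply Module.Flat.of_forall_isTrivialRelation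
  intro l a x hax
  obtain ⟨j, hij, s, hs⟩ := exists_lift_family G f i x
  have h0 : φ G f j (∑ k, f i j hij (a k) * s k) = 0 := by
    rw [map_sum, ← hax]
    apply Finset.sum_congr rfl
    intro k _
    rw [map_mul, φ_f, hs, Algebra.smul_def]
    rfl
  obtain ⟨j', hjj', h1⟩ := φ_eq_zero G f h0
  letI := (f i j' (hij.trans hjj')).toAlgebra
  haveI := hflat i j' (hij.trans hjj')
  have h2 : ∑ k, a k • (f j j' hjj' (s k)) = 0 := by
    rw [← h1, map_sum]
    apply Finset.sum_congr rfl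
    intro k _
    rw [map_mul, f_f, Algebra.smul_def]
    rfl
  obtain ⟨n, b, y, hy1, hy2⟩ := Module.Flat.isTrivialRelation_of_sum_smul_eq_zero (R := G i) (M := G j')
    (f := a) (x := fun k => f j j' hjj' (s k)) h2
  refine ⟨n, b, fun m => φ G f j' (y m), ?_, hy2⟩
  intro k
  have e1 : x k = φ G f j' (f j j' hjj' (s k)) := by rw [φ_f, hs]
  have e2 : f j j' hjj' (s k) = ∑ m, b k m • y m := hy1 k
  rw [e1, e2, map_sum]
  apply Finset.sum_congr rfl
  intro m _
  rw [Algebra.smul_def, Algebra.smul_def, map_mul]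
  show φ G f j' (f i j' _ (b k m)) * _ = φ G f i (b k m) * _
  rw [φ_f]

omit [IsDirected ι (· ≤ ·)] [Nonempty ι] in
theorem map_map_f {i j k : ι} (hij : i ≤ j) (hjk : j ≤ k) (I : Ideal (G i)) :
    Ideal.map (f j k hjk) (Ideal.map (f i j hij) I) = Ideal.map (f i k (hij.trans hjk)) I := by
  rw [Ideal.map_map]
  congr 1
  ext x
  exact f_f G f hij hjk x

theorem exists_mem_map_of_mem_map (i : ι) (I : Ideal (G i)) (x : G i)
    (hx : φ G f i x ∈ Ideal.map (φ G f i) I) :
    ∃ (j : ι) (hij : i ≤ j), f i j hij x ∈ Ideal.map (f i j hij) I := by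
  have key : ∀ z ∈ Ideal.map (φ G f i) I, ∃ (j : ι) (h : i ≤ j) (y : G j),
      φ G f j y = z ∧ y ∈ Ideal.map (f i j h) I := by
    intro z hz
    refine Submodule.span_induction ?_ ?_ ?_ ?_ hz
    · rintro _ ⟨a, ha, rfl⟩
      refine ⟨i, le_rfl, a, rfl, ?_⟩
      have := Ideal.mem_map_of_mem (f i i le_rfl) ha
      rwa [DirectedSystem.map_self' (f := f)] at this
    · exact ⟨i, le_rfl, 0, map_zero _, zero_mem _⟩
    · rintro z₁ z₂ - - ⟨j₁, h₁, y₁, rfl, hy₁⟩ ⟨j₂, h₂, y₂, rfl, hy₂⟩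
      obtain ⟨j, hj₁, hj₂⟩ := exists_ge_ge j₁ j₂
      refine ⟨j, h₁.trans hj₁, f j₁ j hj₁ y₁ + f j₂ j hj₂ y₂, ?_, ?_⟩
      · rw [map_add, φ_f, φ_f]
      · refine add_mem ?_ ?_
        · rw [← map_map_f G f h₁ hj₁]; exact Ideal.mem_map_of_mem _ hy₁
        · rw [← map_map_f G f h₂ hj₂]; exact Ideal.mem_map_of_mem _ hy₂
    · rintro r z - ⟨j₁, h₁, y₁, rfl, hy₁⟩
      obtain ⟨j₀, t, rfl⟩ := Ring.DirectLimit.exists_of r
      obtain ⟨j, hj₀, hj₁⟩ := exists_ge_ge j₀ j₁
      refine ⟨j, h₁.trans hj₁, f j₀ j hj₀ t * f j₁ j hj₁ y₁, ?_, ?_⟩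
      · rw [map_mul, φ_f, φ_f]; rfl
      · refine Ideal.mul_mem_left _ _ ?_
        rw [← map_map_f G f h₁ hj₁]; exact Ideal.mem_map_of_mem _ hy₁
  obtain ⟨j, h, y, hy, hyI⟩ := key _ hx
  have h0 : φ G f j (y - f i j h x) = 0 := by rw [map_sub, φ_f, hy, sub_self]
  obtain ⟨j', hjj', h1⟩ := φ_eq_zero G f h0
  refine ⟨j', h.trans hjj', ?_⟩
  rw [map_sub, sub_eq_zero, f_f] at h1
  rw [← h1, ← map_map_f G f h hjj']
  exact Ideal.mem_map_of_mem _ hyI

theorem comap_map_φ (hff : ∀ i j (h : i ≤ j), letI := (f i j h).toAlgebra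
      Module.FaithfullyFlat (G i) (G j)) (i : ι) (I : Ideal (G i)) :
    (I.map (φ G f i)).comap (φ G f i) = I := by
  refine le_antisymm ?_ Ideal.le_comap_map
  intro x hx
  obtain ⟨j, hij, hj⟩ := exists_mem_map_of_mem_map G f i I x hx
  letI := (f i j hij).toAlgebra
  haveI := hff i j hij
  have := Ideal.comap_map_eq_self_of_faithfullyFlat (A := G i) (B := G j) I
  rw [← this]
  exact hj

theorem encard_le_of_finite_subset (hff : ∀ i j (h : i ≤ j), letI := (f i j h).toAlgebra
      Module.FaithfullyFlat (G i) (G j))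
    (t : Set (Ideal (Ring.DirectLimit G fun i j h => ⇑(f i j h))))
    (ht : t ⊆ minimalPrimes (Ring.DirectLimit G fun i j h => ⇑(f i j h))) (htfin : t.Finite) :
    ∃ i, t.encard ≤ (minimalPrimes (G i)).encard := by
  classical
  -- separation of distinct minimal primes at a finite level
  have hsep : ∀ P ∈ t, ∀ Q ∈ t, P ≠ Q → ∃ (j : ι) (z : G j), φ G f j z ∈ P ∧ φ G f j z ∉ Q := by
    intro P hP Q hQ hPQ
    have hnle : ¬ P ≤ Q := by
      intro hle
      exact hPQ (le_antisymm hle ((ht hQ).2 ⟨(ht hP).1.1, bot_le⟩ hle))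
    obtain ⟨x, hxP, hxQ⟩ := Set.not_subset.mp hnle
    obtain ⟨j, z, rfl⟩ := Ring.DirectLimit.exists_of x
    exact ⟨j, z, hxP, hxQ⟩
  let sep : Ideal (Ring.DirectLimit G fun i j h => ⇑(f i j h)) →
      Ideal (Ring.DirectLimit G fun i j h => ⇑(f i j h)) → ι := fun P Q =>
    if h : ∃ (j : ι) (z : G j), φ G f j z ∈ P ∧ φ G f j z ∉ Q then h.choose
    else Classical.arbitrary ι
  obtain ⟨i, hi⟩ := Finset.exists_le
    ((htfin.toFinset ×ˢ htfin.toFinset).image (fun pq => sep pq.1 pq.2))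
  refine ⟨i, ?_⟩
  letI := (φ G f i).toAlgebra
  haveI : Module.Flat (G i) (Ring.DirectLimit G fun i j h => ⇑(f i j h)) :=
    flat_φ G f (fun i j h => by
      letI := (f i j h).toAlgebra
      exact (hff i j h).toFlat) i
  refine Set.encard_le_encard_of_injOn (f := Ideal.comap (φ G f i)) ?_ ?_
  · intro P hP
    exact comap_mem_minimalPrimes (ht hP)
  · intro P hP Q hQ hPQ
    by_contra hne
    have hex := hsep P hP Q hQ hne
    have hj : sep P Q ≤ i := hi _ (Finset.mem_image.mpr ⟨(P, Q),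
      Finset.mem_product.mpr ⟨htfin.mem_toFinset.mpr hP, htfin.mem_toFinset.mpr hQ⟩, rfl⟩)
    have hsepdef : sep P Q = hex.choose := dif_pos hex
    obtain ⟨z, hzP, hzQ⟩ := hex.choose_spec
    have hj' : hex.choose ≤ i := hsepdef ▸ hj
    have h1 : f hex.choose i hj' z ∈ Ideal.comap (φ G f i) P := by
      rw [Ideal.mem_comap, φ_f]; exact hzP
    rw [hPQ, Ideal.mem_comap, φ_f] at h1
    exact hzQ h1

end


theorem main {ι : Type u} [Preorder ι] [IsDirected ι (· ≤ ·)] [Nonempty ι] (G : ι → Type u)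
    [∀ i, CommRing (G i)] (f : ∀ i j, i ≤ j → G i →+* G j)
    [DirectedSystem G fun i j h => f i j h]
    (hff : ∀ i j (h : i ≤ j), letI := (f i j h).toAlgebra
      Module.FaithfullyFlat (G i) (G j)) :
    (minimalPrimes (Ring.DirectLimit G fun i j h => ⇑(f i j h))).encard =
      ⨆ i, (minimalPrimes (G i)).encard := by
  apply le_antisymm
  · rw [← ENat.forall_natCast_le_iff_le]
    intro n hn
    obtain ⟨t, ht, htn⟩ := Set.exists_subset_encard_eq hn
    have htfin : t.Finite := Set.finite_of_encard_eq_coe htn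
    obtain ⟨i, hi⟩ := encard_le_of_finite_subset G f hff t ht htfin
    rw [htn] at hi
    exact hi.trans (le_iSup (fun i => (minimalPrimes (G i)).encard) i)
  · refine iSup_le fun i => ?_
    letI := (φ G f i).toAlgebra
    have hsub : minimalPrimes (G i) ⊆ Ideal.comap (φ G f i) ''
        (minimalPrimes (Ring.DirectLimit G fun i j h => ⇑(f i j h))) := by
      intro p hp
      obtain ⟨P, hP, hPp⟩ := exists_minimalPrimes_comap_eq (comap_map_φ G f hff i) hp
      exact ⟨P, hP, hPp⟩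
    exact (Set.encard_le_encard hsub).trans (Set.encard_image_le _ _)

end Helpers

/-- Let (R_i) be a directed system of commutative rings whose transition maps are faithfully flat, with
colimit R. Then, counting in the extended natural numbers, the minimal primes of R are exactly as
numerous as the supremum over i of the count of minimal primes of R_i. -/
theorem result {ι : Type u} [Preorder ι] [IsDirected ι (· ≤ ·)] [Nonempty ι] (G : ι → Type u) [∀ i, CommRing (G i)]
    (f : ∀ i j, i ≤ j → G i →+* G j) [DirectedSystem G fun i j h => f i j h]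
    (hf : ∀ i j (h : i ≤ j), letI := (f i j h).toAlgebra
      Module.FaithfullyFlat (G i) (G j)) :
    (minimalPrimes (Ring.DirectLimit G fun i j h => ⇑(f i j h))).encard = ⨆ i, (minimalPrimes (G i)).encard := by
  exact main G f hf

end Groth.Agent.S1409
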