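import Groth.Statements.S14090
import Groth.Agent.Lib.Helper93.BlowUpAffineCrit

set_option autoImplicit false
universe u
open CategoryTheory AlgebraicGeometry
open BlowUp

namespace Groth.Agent.S14090

/-- Let A → B be an injective ring homomorphism and I an ideal of A such that the ideal I·B of B is
contained in the image of I (so I is an ideal of B as well) and I·B is generated by one
nonzerodivisor of B (I is free of rank one over B). Then Spec B → Spec A is a blowing up of Spec A
in I. (This is the affine statement behind recovering a pair (X̃, D̃), D̃ an effective Cartier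
divisor finite flat over D, as the blow-up of the pushout X̃ ⨿_D̃ D along D.) -/
theorem result (A B : Type u) [CommRing A] [CommRing B] [Algebra A B]
    (hinj : Function.Injective (algebraMap A B)) (I : Ideal A)
    (hIB : (Ideal.map (algebraMap A B) I : Set B) ⊆ algebraMap A B '' (I : Set A))
    (f : B) (hf : f ∈ nonZeroDivisors B) (hgen : Ideal.map (algebraMap A B) I = Ideal.span {f}) :
    BlowUp.IsBlowUp (Spec.map (CommRingCat.ofHom (algebraMap A B))) (Curv2.idealSheaf A I) := by
  change BlowUp.IsBlowUp (Spec.map (CommRingCat.ofHom (algebraMap A B)))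
    (Groth.Agent.Lib.Helper93.BlowUpProj.idealSheaf I)
  refine Groth.Agent.Lib.Helper93.BlowUpAffineCrit.isBlowUp_of_affine _ _ ?_ ?_
  · exact Groth.Agent.Lib.Helper93.BlowUpProj.isEffCartierIdeal_comap_SpecMap I (algebraMap A B)
      f hf hgen
  · intro V _ g t ht hid
    rw [Groth.Agent.Lib.Helper93.BlowUpProj.ideal_comap_top] at hid
    obtain ⟨χ, hχ, hχu⟩ :=
      Groth.Agent.Lib.Helper93.BlowUpAffineCrit.existsUnique_ringHom_of_map_eq_span
        (algebraMap A B) hinj I hIB f hf hgen (Groth.Agent.Lib.Helper93.BlowUpProj.toΓ g) t ht hid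
    refine ⟨V.toSpecΓ ≫ Spec.map (CommRingCat.ofHom χ), ?_, ?_⟩
    · change (V.toSpecΓ ≫ Spec.map (CommRingCat.ofHom χ)) ≫
        Spec.map (CommRingCat.ofHom (algebraMap A B)) = g
      rw [Category.assoc, ← Spec.map_comp, ← CommRingCat.ofHom_comp, hχ]
      exact Groth.Agent.Lib.Helper93.BlowUpProj.toSpecΓ_SpecMap_toΓ g
    · intro k hk
      change k ≫ Spec.map (CommRingCat.ofHom (algebraMap A B)) = g at hk
      have h1 : (Groth.Agent.Lib.Helper93.BlowUpProj.toΓ k).comp (algebraMap A B) =
          Groth.Agent.Lib.Helper93.BlowUpProj.toΓ g := by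
        rw [← Groth.Agent.Lib.Helper93.BlowUpProj.toΓ_comp_SpecMap, hk]
      have h2 := hχu _ h1
      rw [← Groth.Agent.Lib.Helper93.BlowUpProj.toSpecΓ_SpecMap_toΓ k, h2]

end Groth.Agent.S14090
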