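import Groth.Statements.S14096
import Mathlib
import Groth.Agent.Lib.Helper63.NodeSwap
-- import your own Groth.Agent.* helpers here

set_option autoImplicit false
universe u
open ArSing

namespace Groth.Agent.S14096

/-- K algebraically closed of characteristic ≠ 2, σ the involution of the node algebra A_1 =
k[[x,y]]/(y^2 - x^2) exchanging x and y, and φ : A_1 → A_1 the k-algebra map with φ(x + y) = x + y
and φ(y - x) = (y - x)^2 (in the branch coordinates u = x + y, v = y - x with uv = 0: u ↦ u, v ↦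
v^2). Then the invariant subalgebra of σ is the image of φ and φ is injective (so A_1^σ ≅ A_1), and
the fixed locus of σ is the branch v = 0: the ideal generated by the elements σ(a) - a is the ideal
(y - x), a minimal prime ideal generated by a zero-divisor (so not a Cartier divisor). Moreover φ is
not flat. (The published statement asserts that this extension is faithfully flat; it is not: as a
module over the invariant subalgebra B = k[[u,w]]/(uw), w = v^2, A_1 is B ⊕ (B/uB)·v, and B/uB is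
not flat over B — equivalently the fibre length jumps from 1 on the branch w = 0 to 2 at the closed
point.) -/
theorem result (k : Type u) [Field k] [IsAlgClosed k]
    (h2 : (2 : k) ≠ 0)
    (σ : ArSing.ring k 1 ≃ₐ[k] ArSing.ring k 1) (hx : σ (ArSing.x k 1) = ArSing.y k 1)
    (hy : σ (ArSing.y k 1) = ArSing.x k 1)
    (φ : ArSing.ring k 1 →ₐ[k] ArSing.ring k 1) (hφu : φ (ArSing.x k 1 + ArSing.y k 1) = ArSing.x k 1 + ArSing.y k 1)
    (hφv : φ (ArSing.y k 1 - ArSing.x k 1) = (ArSing.y k 1 - ArSing.x k 1) ^ 2) :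
    (∀ a : ArSing.ring k 1, σ a = a ↔ a ∈ φ.range) ∧ Function.Injective φ ∧
    Ideal.span (Set.range fun a : ArSing.ring k 1 => σ a - a) = Ideal.span {ArSing.y k 1 - ArSing.x k 1} ∧
    (ArSing.y k 1 - ArSing.x k 1) ∉ nonZeroDivisors (ArSing.ring k 1) ∧
    Ideal.span {ArSing.y k 1 - ArSing.x k 1} ∈ minimalPrimes (ArSing.ring k 1) ∧
    ¬ φ.toRingHom.Flat := by
  classical
  obtain ⟨E', hE0, hE1⟩ := Groth.Agent.Lib.Helper63.EqNodeInv.exists_coordChange_spec (k := k) h2
  have hI : Ideal.span {ArSing.eqn k 1} =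
      Ideal.span {(MvPowerSeries.X 1 ^ 2 - MvPowerSeries.X 0 ^ 2 : MvPowerSeries (Fin 2) k)} := by
    unfold ArSing.eqn
    rfl
  let E : ArSing.ring k 1 ≃ₐ[k] Groth.Agent.Lib.Helper63.EqNodeFibre.Node k :=
    (Ideal.quotientEquivAlgOfEq k hI).trans E'
  have hEx : E (ArSing.x k 1) = (2⁻¹ : k) • (Groth.Agent.Lib.Helper63.EqNodeInv.nv k -
      Groth.Agent.Lib.Helper63.EqNodeInv.nu k) := hE0
  have hEy : E (ArSing.y k 1) = (2⁻¹ : k) • (Groth.Agent.Lib.Helper63.EqNodeInv.nu k +
      Groth.Agent.Lib.Helper63.EqNodeInv.nv k) := hE1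
  -- branch coordinates
  obtain ⟨u, hu⟩ : ∃ u, u = ArSing.x k 1 + ArSing.y k 1 := ⟨_, rfl⟩
  obtain ⟨v, hv⟩ : ∃ v, v = ArSing.y k 1 - ArSing.x k 1 := ⟨_, rfl⟩
  have h2' : (2⁻¹ : k) * 2 = 1 := inv_mul_cancel₀ h2
  have hEu : E u = Groth.Agent.Lib.Helper63.EqNodeInv.nv k := by
    rw [hu, map_add, hEx, hEy, ← smul_add]
    have : Groth.Agent.Lib.Helper63.EqNodeInv.nv k - Groth.Agent.Lib.Helper63.EqNodeInv.nu k +
        (Groth.Agent.Lib.Helper63.EqNodeInv.nu k + Groth.Agent.Lib.Helper63.EqNodeInv.nv k) =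
        (2 : k) • Groth.Agent.Lib.Helper63.EqNodeInv.nv k := by
      rw [two_smul]; ring
    rw [this, smul_smul, h2', one_smul]
  have hEv : E v = Groth.Agent.Lib.Helper63.EqNodeInv.nu k := by
    rw [hv, map_sub, hEx, hEy, ← smul_sub]
    have : Groth.Agent.Lib.Helper63.EqNodeInv.nu k + Groth.Agent.Lib.Helper63.EqNodeInv.nv k -
        (Groth.Agent.Lib.Helper63.EqNodeInv.nv k - Groth.Agent.Lib.Helper63.EqNodeInv.nu k) =
        (2 : k) • Groth.Agent.Lib.Helper63.EqNodeInv.nu k := by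
      rw [two_smul]; ring
    rw [this, smul_smul, h2', one_smul]
  have hσu : σ u = u := by rw [hu, map_add, hx, hy, add_comm]
  have hσv : σ v = -v := by rw [hv, map_sub, hx, hy, neg_sub]
  rw [← hu] at hφu
  rw [← hv] at hφv ⊢
  -- transported maps
  let σ' : Groth.Agent.Lib.Helper63.EqNodeFibre.Node k ≃ₐ[k]
      Groth.Agent.Lib.Helper63.EqNodeFibre.Node k := (E.symm.trans σ).trans E
  let φ' : Groth.Agent.Lib.Helper63.EqNodeFibre.Node k →ₐ[k]
      Groth.Agent.Lib.Helper63.EqNodeFibre.Node k :=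
    (E : ArSing.ring k 1 →ₐ[k] _).comp (φ.comp (E.symm : _ →ₐ[k] ArSing.ring k 1))
  have hσ'E : ∀ a, σ' (E a) = E (σ a) := by
    intro a
    change E (σ (E.symm (E a))) = _
    rw [E.symm_apply_apply]
  have hφ'E : ∀ a, φ' (E a) = E (φ a) := by
    intro a
    change E (φ (E.symm (E a))) = _
    rw [E.symm_apply_apply]
  have h1 : σ' (Groth.Agent.Lib.Helper63.EqNodeInv.nu k) =
      -Groth.Agent.Lib.Helper63.EqNodeInv.nu k := by
    rw [← hEv, hσ'E, hσv, map_neg]
  have h2v : σ' (Groth.Agent.Lib.Helper63.EqNodeInv.nv k) =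
      Groth.Agent.Lib.Helper63.EqNodeInv.nv k := by
    rw [← hEu, hσ'E, hσu]
  have h3 : φ' (Groth.Agent.Lib.Helper63.EqNodeInv.nu k) =
      Groth.Agent.Lib.Helper63.EqNodeInv.nu k ^ 2 := by
    rw [← hEv, hφ'E, hφv, map_pow]
  have h4 : φ' (Groth.Agent.Lib.Helper63.EqNodeInv.nv k) =
      Groth.Agent.Lib.Helper63.EqNodeInv.nv k := by
    rw [← hEu, hφ'E, hφu]
  have huv : u * v = 0 := by
    apply E.injective
    rw [map_mul, hEu, hEv, map_zero, mul_comm]
    exact Groth.Agent.Lib.Helper63.EqNodeInv.nu_mul_nv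
  have hdvd : ∀ a, Groth.Agent.Lib.Helper63.EqNodeInv.nu k ∣ E a → v ∣ a := by
    intro a ha
    rw [← hEv] at ha
    exact (map_dvd_iff E).1 ha
  refine ⟨?_, ?_, ?_, ?_, ?_, ?_⟩
  · intro a
    have := Groth.Agent.Lib.Helper63.NodeSwap.fixed_iff σ' φ' h1 h2v h3 h4 h2 (E a)
    rw [hσ'E] at this
    constructor
    · intro ha
      obtain ⟨b', hb'⟩ := this.1 (by rw [ha])
      refine ⟨E.symm b', ?_⟩
      apply E.injective
      rw [← hb']
      rfl
    · rintro ⟨b, rfl⟩
      exact E.injective (this.2 ⟨E b, hφ'E b⟩)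
  · intro a b hab
    have := Groth.Agent.Lib.Helper63.NodeSwap.phi_injective φ' h3 h4
      (a₁ := E a) (a₂ := E b) (by rw [hφ'E, hφ'E, hab])
    exact E.injective this
  · apply le_antisymm
    · rw [Ideal.span_le]
      rintro _ ⟨a, rfl⟩
      rw [SetLike.mem_coe, Ideal.mem_span_singleton]
      apply hdvd
      have := Groth.Agent.Lib.Helper63.NodeSwap.sigma_sub_dvd σ' h1 h2v (E a)
      rwa [hσ'E, ← map_sub] at this
    · rw [Ideal.span_singleton_le_iff_mem]
      have h5 : v = algebraMap k (ArSing.ring k 1) (-(2⁻¹ : k)) * (σ v - v) := by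
        rw [hσv]
        have : -v - v = algebraMap k (ArSing.ring k 1) (-2) * v := by
          rw [map_neg, map_ofNat]; ring
        rw [this, ← mul_assoc, ← map_mul]
        have : -(2⁻¹ : k) * -2 = 1 := by rw [neg_mul_neg, h2']
        rw [this, map_one, one_mul]
      rw [h5]
      exact Ideal.mul_mem_left _ _ (Ideal.subset_span ⟨v, rfl⟩)
  · intro hnz
    have : u = 0 := (mul_right_mem_nonZeroDivisors_eq_zero_iff hnz).1 huv
    have h5 : Groth.Agent.Lib.Helper63.EqNodeInv.nv k = 0 := by rw [← hEu, this, map_zero]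
    exact Groth.Agent.Lib.Helper63.EqNodeFibre.mk_X_ne_zero (K := k) 1 h5
  · have h5 := Groth.Agent.Lib.Helper63.EqNodeFibre.span_mk_X_mem_minimalPrimes (K := k) 0
    have h6 := Ideal.minimalPrimes_comap_of_surjective (f := (E : ArSing.ring k 1 →+* Groth.Agent.Lib.Helper63.EqNodeFibre.Node k))
      E.surjective h5
    have h7 : Ideal.comap (E : ArSing.ring k 1 →+* Groth.Agent.Lib.Helper63.EqNodeFibre.Node k) ⊥ = ⊥ := by
      rw [← RingHom.ker_eq_comap_bot]
      exact (RingHom.injective_iff_ker_eq_bot _).1 E.injective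
    have h8 : Ideal.comap (E : ArSing.ring k 1 →+* Groth.Agent.Lib.Helper63.EqNodeFibre.Node k)
        (Ideal.span {Groth.Agent.Lib.Helper63.EqNodeInv.nu k}) = Ideal.span {v} := by
      ext a
      rw [Ideal.mem_comap, Ideal.mem_span_singleton, Ideal.mem_span_singleton]
      change Groth.Agent.Lib.Helper63.EqNodeInv.nu k ∣ E a ↔ _
      rw [← hEv]
      exact map_dvd_iff E
    rw [h7] at h6
    rw [← h8]
    exact h6
  · refine Groth.Agent.Lib.Helper63.NodeSwap.not_flat_of φ.toRingHom u v hφv hφu huv ?_ ?_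
    · intro a ha
      apply hdvd
      apply Groth.Agent.Lib.Helper63.NodeSwap.ann_nv
      rw [← hEu, ← map_mul, ha, map_zero]
    · intro hd
      have := map_dvd E hd
      rw [map_pow, hEv] at this
      exact Groth.Agent.Lib.Helper63.NodeSwap.not_sq_dvd this

end Groth.Agent.S14096
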