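import Groth.Statements.S14097
import Mathlib.Tactic

set_option autoImplicit false
universe u
open ArSing

namespace Groth.Agent.S14097

section aux
variable {A : Type u} [CommRing A]

theorem esymm_zero' (s : Multiset A) : s.esymm 0 = 1 := by
  simp [Multiset.esymm]

theorem esymm_cons_succ (a : A) (s : Multiset A) (n : ℕ) :
    (a ::ₘ s).esymm (n + 1) = s.esymm (n + 1) + a * s.esymm n := by
  simp only [Multiset.esymm, Multiset.powersetCard_cons, Multiset.map_add, Multiset.sum_add,
    Multiset.map_map, Function.comp_def, Multiset.prod_cons]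
  rw [Multiset.sum_map_mul_left]

theorem esymm_card (s : Multiset A) : s.esymm (Multiset.card s) = s.prod := by
  simp [Multiset.esymm, Multiset.powersetCard_self]

/-- `e h k j` is the `j`-th elementary symmetric function of `h 0, …, h (k-1)`. -/
noncomputable def e (h : ℕ → A) (k j : ℕ) : A := ((Finset.range k).val.map h).esymm j

theorem e_zero (h : ℕ → A) (k : ℕ) : e h k 0 = 1 := esymm_zero' _

theorem e_succ (h : ℕ → A) (k j : ℕ) : e h (k + 1) (j + 1) = e h k (j + 1) + h k * e h k j := by
  unfold e
  rw [Finset.range_val, Multiset.range_succ, Multiset.map_cons, esymm_cons_succ]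
  rfl

theorem e_self (h : ℕ → A) (k : ℕ) : e h k k = ∏ i ∈ Finset.range k, h i := by
  unfold e
  have := esymm_card ((Finset.range k).val.map h)
  rw [Multiset.card_map, Finset.card_val, Finset.card_range] at this
  exact this

/-- The right-hand side. -/
noncomputable def Q (τ : A) (h : ℕ → A) (k : ℕ) : A :=
  ∑ j ∈ Finset.range k, τ ^ (k - 1 - j) * e h k j

/-- The left-hand side. -/
noncomputable def P (τ : A) (h : ℕ → A) (k : ℕ) : A :=
  ∏ i ∈ Finset.range (k - 1), (h i + h (i + 1) + τ)

theorem Q_succ (τ : A) (h : ℕ → A) (k : ℕ) (hk : 1 ≤ k) :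
    Q τ h (k + 1) = (τ + h k) * Q τ h k + ∏ i ∈ Finset.range k, h i := by
  obtain ⟨k, rfl⟩ : ∃ k', k = k' + 1 := ⟨k - 1, by omega⟩
  -- Q (k+2)
  have h1 : Q τ h (k + 1 + 1) =
      (∑ j ∈ Finset.range (k + 1), τ ^ (k - j) * e h (k + 1) (j + 1))
        + h (k + 1) * Q τ h (k + 1) + τ ^ (k + 1) := by
    unfold Q
    rw [Finset.sum_range_succ', e_zero, Finset.mul_sum, ← Finset.sum_add_distrib]
    congr 1
    · apply Finset.sum_congr rfl
      intro j hj
      rw [Finset.mem_range] at hj
      rw [e_succ]
      have e1 : k + 1 + 1 - 1 - (j + 1) = k - j := by omega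
      have e2 : k + 1 - 1 - j = k - j := by omega
      rw [e1, e2]
      ring
    · simp
  have h2 : τ * Q τ h (k + 1) =
      (∑ j ∈ Finset.range k, τ ^ (k - j) * e h (k + 1) (j + 1)) + τ ^ (k + 1) := by
    unfold Q
    rw [Finset.sum_range_succ', e_zero, mul_add, Finset.mul_sum]
    congr 1
    · apply Finset.sum_congr rfl
      intro j hj
      rw [Finset.mem_range] at hj
      have e1 : k + 1 - 1 - (j + 1) = k - j - 1 := by omega
      rw [e1, ← mul_assoc, ← pow_succ']
      have e2 : k - j - 1 + 1 = k - j := by omega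
      rw [e2]
    · simp [pow_succ']
  have h3 : (∑ j ∈ Finset.range (k + 1), τ ^ (k - j) * e h (k + 1) (j + 1)) =
      (∑ j ∈ Finset.range k, τ ^ (k - j) * e h (k + 1) (j + 1)) +
        ∏ i ∈ Finset.range (k + 1), h i := by
    rw [Finset.sum_range_succ, Nat.sub_self, pow_zero, one_mul, e_self]
  rw [h1, h3]
  linear_combination -h2

theorem P_succ (τ : A) (h : ℕ → A) (k : ℕ) (hk : 1 ≤ k) :
    P τ h (k + 1) = P τ h k * (h (k - 1) + h k + τ) := by
  obtain ⟨k, rfl⟩ : ∃ k', k = k' + 1 := ⟨k - 1, by omega⟩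
  unfold P
  simp [Finset.prod_range_succ]

theorem hP (τ : A) (h : ℕ → A) (k : ℕ) (hk : 1 ≤ k)
    (hrel : ∀ i, i < k → h i ^ 2 + τ * h i = 0) :
    h (k - 1) * P τ h k = ∏ i ∈ Finset.range k, h i := by
  induction k, hk using Nat.le_induction with
  | base => simp [P]
  | succ k hk ih =>
    rw [P_succ τ h k hk, Finset.prod_range_succ, ← ih (fun i hi => hrel i (by omega))]
    have := hrel k (by omega)
    simp only [Nat.add_sub_cancel]
    linear_combination (P τ h k) * this

theorem main (τ : A) (h : ℕ → A) (k : ℕ) (hk : 1 ≤ k)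
    (hrel : ∀ i, i < k → h i ^ 2 + τ * h i = 0) : P τ h k = Q τ h k := by
  induction k, hk using Nat.le_induction with
  | base => simp [P, Q, e_zero]
  | succ k hk ih =>
    have ih' := ih (fun i hi => hrel i (by omega))
    have hp := hP τ h k hk (fun i hi => hrel i (by omega))
    rw [P_succ τ h k hk, Q_succ τ h k hk, ← hp, ← ih']
    ring

end aux

/-- In any commutative ring, if h_0, …, h_(k-1) (k ≥ 2) and τ satisfy h_i^2 + τ h_i = 0, then ∏_(i ≤
k-2) (h_i + h_(i+1) + τ) = Σ_(j ≤ k-1) τ^(k-1-j) e_j(h), e_j the elementary symmetric functions.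
(The published statement is the resulting formula for the class of the small diagonal in the Chow
ring of (P^1)^k, where the h_i are the hyperplane classes of the factors and satisfy these
relations; only the ring identity is asserted here.) -/
theorem result (A : Type u) [CommRing A] (k : ℕ) (hk : 2 ≤ k) (τ : A)
    (h : ℕ → A) (hrel : ∀ i, i < k → h i ^ 2 + τ * h i = 0) :
    ∏ i ∈ Finset.range (k - 1), (h i + h (i + 1) + τ) =
      ∑ j ∈ Finset.range k, τ ^ (k - 1 - j) * (((Finset.range k).val.map h).esymm j) :=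
  main τ h k (by omega) hrel

end Groth.Agent.S14097
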