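import Groth.Statements.S14100
import Mathlib

set_option autoImplicit false
universe w v u
open DCoh

namespace Groth.Agent.S14100

section helpers


open CategoryTheory Limits DerivedCategory Triangulated Pretriangulated

variable {C : Type u} [Category.{v} C] [Abelian C] [HasDerivedCategory.{w} C]

/-- base case -/
theorem eq_zero_of_single_degree {X Y : DerivedCategory C} (a : ℤ)
    [X.IsGE a] [X.IsLE a] [Y.IsGE a] [Y.IsLE a]
    (f : X ⟶ Y) (hf : (homologyFunctor C a).map f = 0) : f = 0 := by
  obtain ⟨A, ⟨eX⟩⟩ := exists_iso_singleFunctor_obj_of_isGE_of_isLE X a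
  obtain ⟨B, ⟨eY⟩⟩ := exists_iso_singleFunctor_obj_of_isGE_of_isLE Y a
  obtain ⟨g, hg⟩ := (singleFunctor C a).map_surjective (eX.inv ≫ f ≫ eY.hom)
  have hg0 : g = 0 := by
    have h1 : (homologyFunctor C a).map ((singleFunctor C a).map g) = 0 := by
      rw [hg, Functor.map_comp, Functor.map_comp, hf, zero_comp, comp_zero]
    have h2 := NatIso.naturality_1 (singleFunctorCompHomologyFunctorIso C a) g
    dsimp at h2
    rw [← h2, h1, zero_comp, comp_zero]
  rw [hg0, Functor.map_zero] at hg
  have : f = eX.hom ≫ (eX.inv ≫ f ≫ eY.hom) ≫ eY.inv := by simp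
  rw [this, ← hg, zero_comp, comp_zero]


/-- the canonical t-structure -/
noncomputable abbrev tC : TStructure (DerivedCategory C) := DerivedCategory.TStructure.t

theorem exists_factor {X Y : DerivedCategory C} (b : ℤ) [X.IsLE (b + 1)] [Y.IsLE (b + 1)]
    (f : X ⟶ Y) (hf : (homologyFunctor C (b + 1)).map f = 0) :
    ∃ g : X ⟶ ((tC (C := C)).truncLE b).obj Y, g ≫ ((tC (C := C)).truncLEι b).app Y = f := by
  have h0 : ((tC (C := C)).truncGT b).map f = 0 := by
    apply eq_zero_of_single_degree (b + 1)
    have hepi : Epi ((homologyFunctor C (b + 1)).map (((tC (C := C)).truncGTπ b).app X)) :=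
      (HomologySequence.epi_homologyMap_mor₂_iff _
        ((tC (C := C)).triangleLEGT_distinguished b X) (b + 1) (b + 2) (by lia)).mpr
        (IsZero.eq_of_tgt
          (isZero_of_isLE (((tC (C := C)).truncLE b).obj X) b (b + 2) (by lia)) _ _)
    rw [← cancel_epi ((homologyFunctor C (b + 1)).map (((tC (C := C)).truncGTπ b).app X)),
      comp_zero, ← Functor.map_comp, ← ((tC (C := C)).truncGTπ b).naturality f,
      Functor.id_map, Functor.map_comp, hf, zero_comp]
  have h1 : f ≫ ((tC (C := C)).truncGTπ b).app Y = 0 := by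
    have := ((tC (C := C)).truncGTπ b).naturality f
    rw [Functor.id_map] at this
    rw [this, h0, comp_zero]
  obtain ⟨g, hg⟩ := Triangle.coyoneda_exact₂ _ ((tC (C := C)).triangleLEGT_distinguished b Y) f h1
  exact ⟨g, hg.symm⟩

theorem homology_truncLE_map_eq_zero {X Y : DerivedCategory C} (b : ℤ) (f : X ⟶ Y)
    (hf : ∀ q, (homologyFunctor C q).map f = 0) (q : ℤ) :
    (homologyFunctor C q).map (((tC (C := C)).truncLE b).map f) = 0 := by
  by_cases hq : q ≤ b
  · have hmono : Mono ((homologyFunctor C q).map (((tC (C := C)).truncLEι b).app Y)) :=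
      (HomologySequence.mono_homologyMap_mor₁_iff _
        ((tC (C := C)).triangleLEGT_distinguished b Y) (q - 1) q (by lia)).mpr
        (IsZero.eq_of_src
          (isZero_of_isGE (((tC (C := C)).truncGT b).obj Y) (b + 1) (q - 1) (by lia)) _ _)
    rw [← cancel_mono ((homologyFunctor C q).map (((tC (C := C)).truncLEι b).app Y)), zero_comp,
      ← Functor.map_comp, ((tC (C := C)).truncLEι b).naturality f, Functor.id_map,
      Functor.map_comp, hf, comp_zero]
  · exact IsZero.eq_of_src
      (isZero_of_isLE (((tC (C := C)).truncLE b).obj X) b q (by lia)) _ _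


/-- the successor functor on `ℕ` -/
def succF : ℕ ⥤ ℕ := Monotone.functor (f := fun i : ℕ => i + 1) (fun _ _ h => Nat.succ_le_succ h)

theorem main : ∀ (n : ℕ) (a : ℤ) (K : ℕ ⥤ DerivedCategory C),
    (∀ i : ℕ, i ≤ n + 1 → (K.obj i).IsGE a) →
    (∀ i : ℕ, i ≤ n + 1 → (K.obj i).IsLE (a + n)) →
    (∀ i : ℕ, i ≤ n → ∀ q : ℤ,
      (homologyFunctor C q).map (K.map (homOfLE (Nat.le_succ i))) = 0) →
    K.map (homOfLE (Nat.zero_le (n + 1))) = 0 := by
  intro n
  induction n with
  | zero =>
    intro a K hGE hLE hzero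
    have h0 := hGE 0 (by omega)
    have h1 := hGE 1 (by omega)
    have h0' := hLE 0 (by omega)
    have h1' := hLE 1 (by omega)
    simp only [Nat.cast_zero, add_zero] at h0' h1'
    exact eq_zero_of_single_degree a _ (hzero 0 le_rfl a)
  | succ n ih =>
    intro a K hGE hLE hzero
    set b : ℤ := a + n with hb
    have hcast : a + ((n + 1 : ℕ) : ℤ) = b + 1 := by push_cast; ring
    let K' : ℕ ⥤ DerivedCategory C := (succF ⋙ K) ⋙ (tC (C := C)).truncLE b
    have hK' : K'.map (homOfLE (Nat.zero_le (n + 1))) = 0 := by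
      apply ih a K'
      · intro i hi
        have := hGE (i + 1) (by omega)
        show (((tC (C := C)).truncLE b).obj (K.obj (i + 1))).IsGE a
        infer_instance
      · intro i hi
        show (((tC (C := C)).truncLE b).obj (K.obj (i + 1))).IsLE b
        infer_instance
      · intro i hi q
        exact homology_truncLE_map_eq_zero b _ (fun q' => hzero (i + 1) (by omega) q') q
    have hX : (K.obj 0).IsLE (b + 1) := hcast ▸ hLE 0 (by omega)
    have hY : (K.obj 1).IsLE (b + 1) := hcast ▸ hLE 1 (by omega)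
    obtain ⟨g, hg⟩ := exists_factor b (K.map (homOfLE (Nat.le_succ 0))) (hzero 0 (by omega) (b + 1))
    have hcomp : K.map (homOfLE (Nat.zero_le (n + 1 + 1))) =
        K.map (homOfLE (Nat.le_succ 0)) ≫ K.map (homOfLE (show 1 ≤ n + 1 + 1 by omega)) := by
      rw [← K.map_comp]; rfl
    rw [hcomp, ← hg, Category.assoc]
    have hnat := ((tC (C := C)).truncLEι b).naturality
      (K.map (homOfLE (show 1 ≤ n + 1 + 1 by omega)))
    rw [Functor.id_map] at hnat
    rw [← hnat]
    have : ((tC (C := C)).truncLE b).map (K.map (homOfLE (show 1 ≤ n + 1 + 1 by omega))) = 0 := hK'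
    rw [this, zero_comp, comp_zero]


end helpers


open CategoryTheory in
/-- Let C be an abelian category, a an integer and n a natural number, and let K_0 → K_1 → ⋯ → K_{n+1}
be composable morphisms in the derived category of C such that each K_i has cohomology concentrated
in degrees a, …, a+n and each map K_i → K_{i+1} induces zero on every cohomology object. Then the
composite K_0 → K_{n+1} is zero. (The chain is given as a functor from the ordered set of natural
numbers; only its values on 0, …, n+1 matter.) -/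
theorem result
    (C : Type u) [Category.{v} C] [Abelian C] [HasDerivedCategory.{w} C]
    (a : ℤ) (n : ℕ) (K : ℕ ⥤ DerivedCategory C)
    (hGE : ∀ i : ℕ, i ≤ n + 1 → (K.obj i).IsGE a)
    (hLE : ∀ i : ℕ, i ≤ n + 1 → (K.obj i).IsLE (a + n))
    (hzero : ∀ i : ℕ, i ≤ n → ∀ q : ℤ,
      (DerivedCategory.homologyFunctor C q).map (K.map (homOfLE (Nat.le_succ i))) = 0) :
    K.map (homOfLE (Nat.zero_le (n + 1))) = 0 := by
  exact main n a K hGE hLE hzero

end Groth.Agent.S14100
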