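import Groth.Statements.S14102
import Groth.Agent.Lib.Helper15.TensorPowFil
import Groth.Agent.Lib.Helper15.HZeroChain

set_option autoImplicit false
universe w u
open DCoh

namespace Groth.Agent.S14102

open CategoryTheory MonoidalCategory in
/-- Affine form — let A be a Noetherian commutative ring, K a bounded cochain complex of finitely
generated projective A-modules and J an ideal of A that annihilates every cohomology module of K.
Then for some natural number n and every positive integer m, the map J^(n+m) ⊗_A K → J^m ⊗_A K
induced by the inclusion of ideals is zero in the derived category of A-modules. (The published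
statement is for a perfect complex on a noetherian scheme or formal scheme with the derived tensor
product; over an affine scheme a perfect complex is represented by a bounded complex of finitely
generated projective modules, for which the derived tensor product with J^m is the termwise tensor
product used here.) -/
theorem result
    (A : Type u) [CommRing A] [IsNoetherianRing A] [HasDerivedCategory.{w} (ModuleCat.{u} A)]
    (K : CochainComplex (ModuleCat.{u} A) ℤ) (a b : ℤ)
    (hK : ∀ q : ℤ, q < a ∨ b < q → Limits.IsZero (K.X q))
    (hfin : ∀ q : ℤ, Module.Finite A (K.X q)) (hproj : ∀ q : ℤ, Module.Projective A (K.X q))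
    (J : Ideal A) (hJ : ∀ q : ℤ, ∀ x ∈ J, ∀ c : ↑(K.homology q), x • c = 0) :
    ∃ n : ℕ, ∀ m : ℕ, 0 < m →
      DerivedCategory.Q.map
        ((NatTrans.mapHomologicalComplex
          ((curriedTensor (ModuleCat.{u} A)).map
            (ModuleCat.ofHom (Submodule.inclusion (p := J ^ (n + m)) (p' := J ^ m)
              (Ideal.pow_le_pow_right (Nat.le_add_left m n)))))
          (ComplexShape.up ℤ)).app K) = 0 := by
  classical
  have hc : ∀ i : ℤ, ∃ c : ℕ, ∀ (p q : ℕ) (h : q + c + 1 ≤ p),
      HomologicalComplex.homologyMap (Groth.Agent.Lib.Helper15.TensorPowFil.tι J K p q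
        (le_trans (le_trans (Nat.le_add_right q c) (Nat.le_succ _)) h)) i = 0 := fun i => by
    haveI := hfin i
    haveI := hproj i
    exact Groth.Agent.Lib.Helper15.TensorPowFil.exists_homologyMap_eq_zero J K i (hJ i)
  choose c hc using hc
  let C : ℕ := (Finset.Icc a b).sup c
  let s : ℕ := C + 1
  let r : ℕ := (b - a + 1).toNat
  refine ⟨r * s, fun m _ => ?_⟩
  have hX : ∀ p, (Groth.Agent.Lib.Helper15.TensorPowFil.tX J K p).IsStrictlyGE a := fun p => by
    rw [CochainComplex.isStrictlyGE_iff]
    intro i hi
    exact Groth.Agent.Lib.Helper15.TensorPowFil.isZero_tX_X J K p i (hK i (Or.inl hi))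
  have hXle : ∀ p, (Groth.Agent.Lib.Helper15.TensorPowFil.tX J K p).IsStrictlyLE (a + r - 1) :=
    fun p => by
      rw [CochainComplex.isStrictlyLE_iff]
      intro i hi
      refine Groth.Agent.Lib.Helper15.TensorPowFil.isZero_tX_X J K p i (hK i (Or.inr ?_))
      have : b - a + 1 ≤ (r : ℤ) := Int.self_le_toNat _
      omega
  have hs : ∀ (q : ℕ) (i : ℤ), HomologicalComplex.homologyMap
      (Groth.Agent.Lib.Helper15.TensorPowFil.tι J K (q + s) q (Nat.le_add_right q s)) i = 0 := by
    intro q i
    by_cases hi : a ≤ i ∧ i ≤ b
    · have hci : c i ≤ C := Finset.le_sup (f := c) (Finset.mem_Icc.2 hi)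
      exact hc i (q + s) q (by omega)
    · have hz : Limits.IsZero ((Groth.Agent.Lib.Helper15.TensorPowFil.tX J K (q + s)).X i) :=
        Groth.Agent.Lib.Helper15.TensorPowFil.isZero_tX_X J K _ i (hK i (by omega))
      have hz' : Limits.IsZero ((Groth.Agent.Lib.Helper15.TensorPowFil.tX J K (q + s)).homology i) :=
        ShortComplex.isZero_homology_of_isZero_X₂ _ hz
      exact hz'.eq_of_src _ _
  have key := Groth.Agent.Lib.Helper15.HZeroChain.chain_vanish
    (Groth.Agent.Lib.Helper15.TensorPowFil.tX J K) (Groth.Agent.Lib.Helper15.TensorPowFil.tι J K)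
    (Groth.Agent.Lib.Helper15.TensorPowFil.tι_comp J K) a hX s hs r m (r * s + m) (by omega)
    (Groth.Agent.Lib.Helper15.TensorPowFil.tX J K (r * s + m)) (𝟙 _) (hXle _) (hX _)
  rw [Category.id_comp] at key
  exact key

end Groth.Agent.S14102
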