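import Groth.Statements.S14114
import Groth.Agent.H72.QhAffine

set_option autoImplicit false
universe u
open CategoryTheory CategoryTheory.Limits AlgebraicGeometry Opposite TopologicalSpace
attribute [local instance] HasDerivedCategory.standard
open DCoh

namespace Groth.Agent.S14114

/-- Let X be an affine scheme, E a bounded above cochain complex of finite locally free O_X-modules, F a
cochain complex of quasi-coherent O_X-modules and G a cochain complex of O_X-modules; let f : E → F
and g : F → G be chain maps such that g is a quasi-isomorphism and the composite of f and g is null
homotopic. Then f is null homotopic. (The published statement only asks the complexes to have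
quasi-coherent cohomology sheaves; that version fails for E = O_X placed in one degree mapping to an
acyclic complex of O_X-modules whose complex of global sections is not exact, with G = 0; the
published statement is placed, without a printed proof, as a consequence of the comparison of
homotopy classes with derived-category morphisms, which holds when F has quasi-coherent terms; this
row takes F with quasi-coherent terms and G arbitrary.) -/
theorem result {X : Scheme.{u}} [IsAffine X]
    (E F G : CochainComplex X.Modules ℤ) (b : ℤ) (hEb : ∀ i : ℤ, b < i → IsZero (E.X i))
    (hE : ∀ i : ℤ, FlatMod.IsFinLocFree (E.X i)) (hF : ∀ i : ℤ, Coh.IsQCoh (F.X i))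
    (f : E ⟶ F) (g : F ⟶ G) [QuasiIso g] (hgf : Nonempty (Homotopy (f ≫ g) 0)) :
    Nonempty (Homotopy f 0) := by
  obtain ⟨h⟩ := hgf
  have hbij := Groth.Agent.H72.QhAffine.qhBij_of_isAffine E F b hEb hE hF
  have h0 : (HomotopyCategory.quotient X.Modules (ComplexShape.up ℤ)).map (f ≫ g) = 0 := by
    rw [HomotopyCategory.eq_of_homotopy _ _ h]
    simp
  have h1 : (DerivedCategory.Q (C := X.Modules)).map (f ≫ g) = 0 := by
    have := (DerivedCategory.quotientCompQhIso X.Modules).hom.naturality (f ≫ g)
    simp only [Functor.comp_map] at this
    rw [h0, Functor.map_zero, zero_comp] at this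
    have h2 := congrArg (fun t => (DerivedCategory.quotientCompQhIso X.Modules).inv.app E ≫ t) this
    simp only [comp_zero, Iso.inv_hom_id_app_assoc] at h2
    exact h2.symm
  have h2 : (DerivedCategory.Q (C := X.Modules)).map f = 0 := by
    rw [Functor.map_comp] at h1
    haveI : IsIso ((DerivedCategory.Q (C := X.Modules)).map g) := inferInstance
    exact (cancel_mono ((DerivedCategory.Q (C := X.Modules)).map g)).mp (by rw [h1, zero_comp])
  have h3 : (DerivedCategory.Qh (C := X.Modules)).map
      ((HomotopyCategory.quotient X.Modules (ComplexShape.up ℤ)).map f) = 0 := by
    have := (DerivedCategory.quotientCompQhIso X.Modules).hom.naturality f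
    simp only [Functor.comp_map] at this
    rw [h2, comp_zero] at this
    have h4 := congrArg (fun t => t ≫ (DerivedCategory.quotientCompQhIso X.Modules).inv.app F) this
    simp only [zero_comp, Category.assoc, Iso.hom_inv_id_app, Category.comp_id] at h4
    exact h4
  have h4 : (HomotopyCategory.quotient X.Modules (ComplexShape.up ℤ)).map f = 0 := by
    apply hbij.1
    change (DerivedCategory.Qh (C := X.Modules)).map _ = (DerivedCategory.Qh (C := X.Modules)).map 0
    rw [h3, Functor.map_zero]
  refine ⟨HomotopyCategory.homotopyOfEq _ _ ?_⟩
  rw [h4]
  simp

end Groth.Agent.S14114
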