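import Groth.Statements.S6022
import Groth.Agent.Lib.Helper33.LocCohOpens

set_option autoImplicit false
universe u
open CategoryTheory CategoryTheory.Limits TopologicalSpace
open LocCohZ

namespace Groth.Agent.S6022

section Helpers

end Helpers

/-- Consider a topological space X carrying a sheaf of abelian groups F, a natural number n, and a
closed subset Y of X whose complement is the open set U. The local cohomology sheaves ℋ^i_Y(F) are
zero for every i < n exactly when, for each open V of X, the groups H^i_{Y∩V}(V, F) are zero for
every i < n. -/
theorem result {X : TopCat.{u}} (F : CohTop.Ab X) (U : Opens X) (n : ℕ) :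
    (∀ i : ℕ, i < n → IsZero ((LocCohZ.HZsh U i).obj F)) ↔
      ∀ (V : Opens X) (i : ℕ), i < n → Subsingleton (LocCohZ.HZ F i (inf_le_left : V ⊓ U ≤ V)) := by
  constructor
  · intro h V i hi
    exact (Groth.Agent.Lib.Helper33.LocCohSS.HZ_of_isZero_HZsh U V F n h).1 i hi
  · intro h i
    induction i using Nat.strong_induction_on with
    | _ i ih =>
      intro hi
      apply Groth.Agent.Lib.Helper33.LocCohSS.isZero_of_subsingleton_hom
      intro V
      obtain ⟨e⟩ := (Groth.Agent.Lib.Helper33.LocCohSS.HZ_of_isZero_HZsh U V F i
        (fun j hj => ih j hj (hj.trans hi))).2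
      have := h V i hi
      exact e.symm.addCommGroupIsoToAddEquiv.toEquiv.subsingleton

end Groth.Agent.S6022
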