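import Groth.Statements.S6034
import Groth.Agent.Lib.Helper56.HZDepth
import Groth.Agent.Lib.Helper33.LocCohOpens
import Groth.Agent.S6022

set_option autoImplicit false
universe u
open CategoryTheory CategoryTheory.Limits TopologicalSpace AlgebraicGeometry
open LocCohZ

namespace Groth.Agent.S6034


open Groth.Agent.Lib.Helper33.LocCohSS in
/-- an abelian sheaf on a scheme with no nonzero sections over affine opens is zero -/
lemma isZero_of_subsingleton_hom_affine {X : Scheme.{u}} (G : CohTop.Ab X.toTopCat)
    (h : ∀ V : X.Opens, IsAffineOpen V →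
      Subsingleton (CohCx.freeSheaf (Opens.grothendieckTopology X.toTopCat) V ⟶ G)) :
    IsZero G := by
  apply isZero_of_subsingleton_hom
  intro V
  have hsec : ∀ W : X.Opens, IsAffineOpen W → ∀ t : G.obj.obj (Opposite.op W), t = 0 := by
    intro W hW t
    have := h W hW
    apply (CohFree.homEquivSect (Opens.grothendieckTopology X.toTopCat) W G).symm.injective
    exact Subsingleton.elim _ _
  have hV : ∀ t : G.obj.obj (Opposite.op V), t = 0 := by
    intro t
    let ι := {W : X.Opens // IsAffineOpen W ∧ W ≤ V}
    refine TopCat.Sheaf.eq_of_locally_eq' G (fun i : ι => i.1) V (fun i => homOfLE i.2.2) ?_ t 0 ?_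
    · intro x hx
      obtain ⟨W, hW, hxW, hWV⟩ := TopologicalSpace.Opens.isBasis_iff_nbhd.mp
        X.isBasis_affineOpens hx
      exact Opens.mem_iSup.mpr ⟨⟨W, hW, hWV⟩, hxW⟩
    · intro i
      rw [hsec i.1 i.2.1 (G.obj.map (homOfLE i.2.2).op t), map_zero]
  refine ⟨fun a b => ?_⟩
  apply (CohFree.homEquivSect (Opens.grothendieckTopology X.toTopCat) V G).injective
  rw [hV (CohFree.homEquivSect (Opens.grothendieckTopology X.toTopCat) V G a),
    hV (CohFree.homEquivSect (Opens.grothendieckTopology X.toTopCat) V G b)]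

/-- Let X be a locally Noetherian scheme, Y a closed subset with open complement U, M a coherent
O_X-module with underlying abelian sheaf F and n a natural number. Then ℋ^i_Y(F) = 0 for all i < n
if and only if depth M_x ≥ n for every x ∈ Y. -/
theorem result (X : Scheme.{u}) [IsLocallyNoetherian X] (U : X.Opens)
    (M : X.Modules) (hM : Coh.IsCoh M) (n : ℕ) :
    (∀ i : ℕ, i < n → IsZero ((LocCohZ.HZsh (X := X.carrier) U i).obj (Coh.toAb M))) ↔
      ∀ x : X, x ∉ (U : Set X) →
        (n : ℕ∞) ≤ LocCoh.depth (X.presheaf.stalk x) (M.presheaf.stalk x) := by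
  constructor
  · intro h x hx
    have h2 := (Groth.Agent.S6022.result (X := X.toTopCat) (Coh.toAb M) U n).mp h
    obtain ⟨W, hW, hxW, -⟩ := TopologicalSpace.Opens.isBasis_iff_nbhd.mp
      X.isBasis_affineOpens (Opens.mem_top x)
    exact (Groth.Agent.Lib.Helper56.HZDepth.HZ_subsingleton_iff_depth_of_isAffineOpen M hM U hW n).mp
      (fun i hi => h2 W i hi) x hxW hx
  · intro h
    have key : ∀ m : ℕ, m ≤ n → ∀ i : ℕ, i < m →
        IsZero ((LocCohZ.HZsh (X := X.carrier) U i).obj (Coh.toAb M)) := by
      intro m
      induction m with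
      | zero => intro _ i hi; omega
      | succ m ih =>
        intro hm i hi
        have ih' := ih (Nat.le_of_succ_le hm)
        rcases Nat.lt_succ_iff_lt_or_eq.mp hi with hi' | rfl
        · exact ih' i hi'
        · apply isZero_of_subsingleton_hom_affine
          intro V hV
          obtain ⟨-, ⟨e⟩⟩ := Groth.Agent.Lib.Helper33.LocCohSS.HZ_of_isZero_HZsh (X := X.toTopCat)
            U V (Coh.toAb M) i ih'
          have hsub : Subsingleton (LocCohZ.HZ (X := X.toTopCat) (Coh.toAb M) i
              (inf_le_left : V ⊓ U ≤ V)) :=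
            (Groth.Agent.Lib.Helper56.HZDepth.HZ_subsingleton_iff_depth_of_isAffineOpen M hM U hV
              n).mpr (fun x _ hxU => h x hxU) i (Nat.lt_of_succ_le hm)
          exact @Equiv.subsingleton _ _ e.addCommGroupIsoToAddEquiv.symm.toEquiv hsub
    exact key n le_rfl

end Groth.Agent.S6034
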