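import Groth.Statements.S14116
import Groth.Agent.S6034
import Groth.Agent.Lib.Helper33.LocCohOpens
import Groth.Agent.Lib.Helper49.FinLocFree
import Groth.Agent.Lib.Helper49.FibreRank
import Groth.Agent.Lib.Helper12.QuasiFlat
import Groth.Agent.Lib.Helper82.CochainAcyclic
import Groth.Agent.Lib.Helper93.LocCohKoszul

set_option autoImplicit false
universe u
open CategoryTheory CategoryTheory.Limits AlgebraicGeometry Opposite TopologicalSpace
open LocCohZ

namespace Groth.Agent.S14116

/-- Let X be a locally Noetherian scheme, U ⊆ X open with closed complement Y, d a natural number such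
that the depth of O_X along Y is at least d (every local ring O_{X,y}, y ∈ Y, has depth at least d),
and M a finite locally free O_X-module. Then Γ(X, ℋ^d_Y(M)) is isomorphic to H^d_Y(X, M), where
ℋ^d_Y is the d-th right derived functor of the sheaf of sections with support in Y (applied to the
underlying abelian sheaf of M) and H^d_Y(X, M) is cohomology with support in Y. Existence of an
additive isomorphism only; the published statement asserts a canonical functorial isomorphism that
is linear over the global functions Γ(X, O_X) (obtained in its proof as the edge map of the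
local-to-global spectral sequence), and adds that U ↦ H^d_{Y∩U}(U, M), U ⊆ X open, is a sheaf; none
of this is part of this row. (The published statement assumes a flat morphism X → S with
Cohen–Macaulay fibres and relative codimension of Y at least d; these enter only through the depth
bound, which is the hypothesis of this row.) -/
theorem result (X : Scheme.{u}) [IsLocallyNoetherian X]
    (U : X.Opens) (d : ℕ)
    (hdepth : ∀ x : ↥X, x ∉ (U : Set ↥X) → (d : ℕ∞) ≤ LocCoh.depth ↑(X.presheaf.stalk x) ↑(X.presheaf.stalk x))
    (M : X.Modules) (hM : FlatMod.IsFinLocFree M) :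
    Nonempty (↑(((LocCohZ.HZsh (X := X.carrier) U d).obj (Coh.toAb M)).obj.obj (op ⊤)) ≃+ LocCohZ.HZM X M d U) := by
  have hcoh : Coh.IsCoh M := ⟨Groth.Agent.Lib.Helper49.isQuasicoherent_of_isFinLocFree M hM,
    Groth.Agent.Lib.Helper49.isFiniteType_of_isFinLocFree M hM⟩
  have hdM : ∀ x : X, x ∉ (U : Set X) →
      (d : ℕ∞) ≤ LocCoh.depth (X.presheaf.stalk x) (M.presheaf.stalk x) := by
    intro x hx
    have h1 := Groth.Agent.Lib.Helper49.free_stalk_of_isFinLocFree M hM x
    have h2 := Groth.Agent.Lib.Helper12.QuasiFlat.finite_stalk_of_isCoh M hcoh x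
    exact (hdepth x hx).trans
      (Groth.Agent.Lib.Helper82.CochainAcyclic.depth_le_depth_of_free (M.presheaf.stalk x))
  have hz := (Groth.Agent.S6034.result X U M hcoh d).mpr hdM
  obtain ⟨-, ⟨e⟩⟩ := Groth.Agent.Lib.Helper33.LocCohSS.HZ_of_isZero_HZsh (X := X.toTopCat)
    U ⊤ (Coh.toAb M) d hz
  have e1 := e.addCommGroupIsoToAddEquiv
  have e2 := Groth.Agent.Lib.Helper93.LocCohKoszul.evAdd
    ((LocCohZ.HZsh (X := X.carrier) U d).obj (Coh.toAb M)) ⊤
  have e3 : ∀ (W : Opens X.toTopCat) (hW : W = U) (h : W ≤ ⊤),
      LocCohZ.HZ (X := X.toTopCat) (Coh.toAb M) d h ≃+ LocCohZ.HZM X M d U := by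
    intro W hW h
    subst hW
    exact AddEquiv.refl _
  exact ⟨e2.symm.trans (e1.symm.trans (e3 (⊤ ⊓ U) (top_inf_eq U) inf_le_left))⟩

end Groth.Agent.S14116
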