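import Groth.Statements.S14117
import Mathlib.Tactic

set_option autoImplicit false
universe u v w
open SuperComm

namespace Groth.Agent.S14117

section
variable {R : Type u} [CommRing R] {ι : Type v} [Fintype ι] [DecidableEq ι]
  (M : ι → Type w) [∀ i, AddCommGroup (M i)] [∀ i, Module R (M i)]
  [∀ i, Module.Free R (M i)] [∀ i, Module.Finite R (M i)]

theorem sum_comp' {N P Q : Type*} [AddCommGroup N] [Module R N] [AddCommGroup P] [Module R P]
    [AddCommGroup Q] [Module R Q] (f : ι → (P →ₗ[R] Q)) (g : N →ₗ[R] P) :
    (∑ i : ι, f i) ∘ₗ g = ∑ i : ι, (f i ∘ₗ g) := by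
  ext x
  simp only [LinearMap.comp_apply, LinearMap.sum_apply]

/-- The trace of `(Σ_i single_i ∘ (c_i • proj_i)) ∘ φ` is `Σ_i c_i • tr (proj_i ∘ φ ∘ single_i)`. -/
theorem trace_weighted (c : ι → R) (φ : (Π k, M k) →ₗ[R] (Π k, M k)) :
    LinearMap.trace R (Π k, M k)
      ((∑ i : ι, (LinearMap.single R M i) ∘ₗ ((c i) • (LinearMap.proj i : (Π k, M k) →ₗ[R] M i))) ∘ₗ φ) =
    ∑ i : ι, c i * LinearMap.trace R (M i) ((LinearMap.proj i) ∘ₗ φ ∘ₗ (LinearMap.single R M i)) := by
  rw [sum_comp', map_sum]
  apply Finset.sum_congr rfl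
  intro i _
  rw [LinearMap.comp_assoc, LinearMap.trace_comp_comm', LinearMap.smul_comp, LinearMap.smul_comp,
    map_smul, smul_eq_mul, LinearMap.comp_assoc]

end


/-- Let R be a commutative ring and M a finitely ℤ-graded R-module with finitely many nonzero graded
pieces, each finite free, presented as a finite family of finite free R-modules M_i with integer
degrees deg i (the piece of degree n being the product of the M_i with deg i = n); an endomorphism φ
of the total module Π_i M_i has degree a when its (i, j) block vanishes unless deg j = deg i + a;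
the supertrace of an endomorphism is the trace of its composite with the grading involution ε = Σ_i
(-1)^{deg i} pr_i. If φ has degree a ≠ 0 then its supertrace vanishes. (The published statement
allows the graded pieces to be finitely generated projective; this row takes them finite free, where
the trace is the ordinary trace of a free module.) -/
theorem result {R : Type u} [CommRing R] {ι : Type v} [Fintype ι] [DecidableEq ι]
    (deg : ι → ℤ) (M : ι → Type w) [∀ i, AddCommGroup (M i)] [∀ i, Module R (M i)]
    [∀ i, Module.Free R (M i)] [∀ i, Module.Finite R (M i)]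
    (a : ℤ) (ha : a ≠ 0) (φ : (Π k, M k) →ₗ[R] (Π k, M k))
    (hφ : ∀ i j : ι, deg j ≠ deg i + a → (LinearMap.proj j) ∘ₗ φ ∘ₗ (LinearMap.single R M i) = 0) :
    LinearMap.trace R (Π k, M k) ((∑ i : ι, (LinearMap.single R M i) ∘ₗ (((-1 : R) ^ (deg i).natAbs) • (LinearMap.proj i : (Π k, M k) →ₗ[R] M i))) ∘ₗ φ) = 0 := by
  rw [trace_weighted]
  apply Finset.sum_eq_zero
  intro i _
  have hne : deg i ≠ deg i + a := by omega
  rw [hφ i i hne, map_zero, mul_zero]

end Groth.Agent.S14117
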