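import Groth.Statements.S14118
import Groth.Agent.S14117
import Mathlib.Tactic

set_option autoImplicit false
universe u v w
open SuperComm

namespace Groth.Agent.S14118

section
variable {R : Type u} [CommRing R] {ι : Type v} [Fintype ι] [DecidableEq ι]
  (M : ι → Type w) [∀ i, AddCommGroup (M i)] [∀ i, Module R (M i)]

/-- the `(i, j)` block of an endomorphism of the product -/
def blk (φ : (Π k, M k) →ₗ[R] (Π k, M k)) (i j : ι) : M i →ₗ[R] M j :=
  (LinearMap.proj j) ∘ₗ φ ∘ₗ (LinearMap.single R M i)

theorem sum_single_proj : ∑ j : ι, (LinearMap.single R M j) ∘ₗ (LinearMap.proj j) =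
    (LinearMap.id : (Π k, M k) →ₗ[R] (Π k, M k)) := by
  refine LinearMap.ext fun x => ?_
  simp only [LinearMap.sum_apply, LinearMap.comp_apply, LinearMap.proj_apply, LinearMap.id_apply]
  simp only [LinearMap.single_apply]
  exact LinearMap.sum_single_apply M x

theorem blk_comp (φ ψ : (Π k, M k) →ₗ[R] (Π k, M k)) (i k : ι) :
    blk M (φ ∘ₗ ψ) i k = ∑ j : ι, blk M φ j k ∘ₗ blk M ψ i j := by
  unfold blk
  have h : φ ∘ₗ ψ = φ ∘ₗ (∑ j : ι, (LinearMap.single R M j) ∘ₗ (LinearMap.proj j)) ∘ₗ ψ := by
    rw [sum_single_proj, LinearMap.id_comp]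
  rw [h]
  ext x
  simp only [LinearMap.comp_apply, LinearMap.sum_apply, map_sum]

end

theorem sgn_add {R : Type u} [CommRing R] (m n : ℤ) :
    (-1 : R) ^ (m + n).natAbs = (-1 : R) ^ m.natAbs * (-1 : R) ^ n.natAbs := by
  rw [← pow_add, neg_one_pow_eq_pow_mod_two (R := R) (n := (m + n).natAbs),
    neg_one_pow_eq_pow_mod_two (R := R) (n := m.natAbs + n.natAbs)]
  congr 1
  omega

theorem sgn_mul_neg_self {R : Type u} [CommRing R] (a : ℤ) :
    (-1 : R) ^ (a * (-a)).natAbs = (-1 : R) ^ a.natAbs := by
  rw [Int.natAbs_mul, Int.natAbs_neg, pow_mul]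
  rcases Nat.even_or_odd a.natAbs with h | h
  · rw [h.neg_one_pow, one_pow]
  · rw [h.neg_one_pow, h.neg_one_pow]


/-- Let R be a commutative ring and M a finitely ℤ-graded R-module with finitely many nonzero graded
pieces, each finite free, presented as a finite family of finite free R-modules M_i with integer
degrees deg i (the piece of degree n being the product of the M_i with deg i = n); an endomorphism φ
of the total module Π_i M_i has degree a when its (i, j) block vanishes unless deg j = deg i + a;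
the supertrace of an endomorphism is the trace of its composite with the grading involution ε = Σ_i
(-1)^{deg i} pr_i. If φ and ψ have degrees a and b, the supertrace of the supercommutator φψ -
(-1)^{ab} ψφ vanishes. (The published statement allows the graded pieces to be finitely generated
projective; this row takes them finite free, where the trace is the ordinary trace of a free
module.) -/
theorem result {R : Type u} [CommRing R] {ι : Type v} [Fintype ι] [DecidableEq ι]
    (deg : ι → ℤ) (M : ι → Type w) [∀ i, AddCommGroup (M i)] [∀ i, Module R (M i)]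
    [∀ i, Module.Free R (M i)] [∀ i, Module.Finite R (M i)]
    (a b : ℤ) (φ ψ : (Π k, M k) →ₗ[R] (Π k, M k))
    (hφ : ∀ i j : ι, deg j ≠ deg i + a → (LinearMap.proj j) ∘ₗ φ ∘ₗ (LinearMap.single R M i) = 0)
    (hψ : ∀ i j : ι, deg j ≠ deg i + b → (LinearMap.proj j) ∘ₗ ψ ∘ₗ (LinearMap.single R M i) = 0) :
    LinearMap.trace R (Π k, M k)
      ((∑ i : ι, (LinearMap.single R M i) ∘ₗ (((-1 : R) ^ (deg i).natAbs) • (LinearMap.proj i : (Π k, M k) →ₗ[R] M i))) ∘ₗ (φ ∘ₗ ψ - ((-1 : R) ^ (a * b).natAbs) • (ψ ∘ₗ φ))) = 0 := by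
  rw [Groth.Agent.S14117.trace_weighted]
  -- rewrite each diagonal block
  have hblock : ∀ i : ι, (LinearMap.proj i) ∘ₗ (φ ∘ₗ ψ - ((-1 : R) ^ (a * b).natAbs) • (ψ ∘ₗ φ)) ∘ₗ
      (LinearMap.single R M i) =
      ∑ j : ι, (blk M φ j i ∘ₗ blk M ψ i j - ((-1 : R) ^ (a * b).natAbs) • (blk M ψ j i ∘ₗ blk M φ i j)) := by
    intro i
    rw [Finset.sum_sub_distrib, ← Finset.smul_sum, ← blk_comp, ← blk_comp]
    unfold blk
    ext x
    simp only [LinearMap.comp_apply, LinearMap.sub_apply, LinearMap.smul_apply, map_sub, map_smul]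
  have hswap : ∀ i j : ι, LinearMap.trace R (M i) (blk M ψ j i ∘ₗ blk M φ i j) =
      LinearMap.trace R (M j) (blk M φ i j ∘ₗ blk M ψ j i) := fun i j =>
    LinearMap.trace_comp_comm' _ _
  simp only [hblock, map_sum, map_sub, map_smul, smul_eq_mul, Finset.mul_sum, mul_sub, hswap,
    Finset.sum_sub_distrib]
  rw [sub_eq_zero]
  conv_lhs => rw [Finset.sum_comm]
  apply Finset.sum_congr rfl
  intro i _
  apply Finset.sum_congr rfl
  intro j _
  by_cases h1 : deg j = deg i + a
  · by_cases h2 : deg i = deg j + b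
    · have hb : b = -a := by omega
      subst hb
      rw [h1, sgn_add, sgn_mul_neg_self]
      ring
    · have h0 : blk M ψ j i = 0 := hψ j i h2
      rw [h0, LinearMap.comp_zero, map_zero, mul_zero, mul_zero, mul_zero]
  · have h0 : blk M φ i j = 0 := hφ i j h1
    rw [h0, LinearMap.zero_comp, map_zero, mul_zero, mul_zero, mul_zero]

end Groth.Agent.S14118
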