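import Groth.Statements.S14120
import Mathlib
import Groth.Agent.Lib.Helper48.CurveCrit6
import Groth.Agent.H8.QuasiExcellent

set_option autoImplicit false
universe u
open CategoryTheory AlgebraicGeometry
open ValCrit

namespace Groth.Agent.S14120

/-- For schemes, let every affine open of the base `S` have excellent coordinate ring, let `g : Y ⟶ S`
be locally of finite type and `f : X ⟶ Y` quasi-compact and locally of finite type. Then the
existence part of the valuative criterion for `f` over discrete valuation rings (every commutative
square `Spec K ⟶ X`, `Spec R ⟶ Y` with `R` a discrete valuation ring and `K` its fraction field has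
a lift `Spec R ⟶ X`) holds as soon as it holds for the squares whose ring `R` is essentially of
finite type over `S`, i.e. `Spec R ⟶ Y ⟶ S` factors through some affine open `U` of `S` by a ring
map `Γ(S, U) ⟶ R` that is essentially of finite type; and conversely. (The published statement is
for algebraic spaces and treats existence and uniqueness together; this row is the existence half
for schemes.) -/
theorem result (S : Scheme.{u})
    (hS : ∀ U : S.affineOpens, EGA4.IsExcellent Γ(S, U.1))
    {X Y : Scheme.{u}} (f : X ⟶ Y) (g : Y ⟶ S)
    [QuasiCompact f] [LocallyOfFiniteType f] [LocallyOfFiniteType g] :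
    (∀ sq : ValuativeCommSq f, IsDiscreteValuationRing sq.R → sq.commSq.HasLift) ↔
    (∀ sq : ValuativeCommSq f, IsDiscreteValuationRing sq.R →
      (∃ (U : S.affineOpens) (φ : Γ(S, U.1) ⟶ CommRingCat.of sq.R),
        Spec.map φ ≫ U.2.fromSpec = sq.i₂ ≫ g ∧ φ.hom.EssFiniteType) →
      sq.commSq.HasLift) := by
  constructor
  · intro H sq hsq _
    exact H sq hsq
  · intro H sq hsq
    have hSN : ∀ W : S.affineOpens, CAlg.IsNagata Γ(S, W) := fun W =>
      Groth.Agent.H8.QE.isNagata_of_isQuasiExcellent _ ⟨(hS W).1, (hS W).2.2.1, (hS W).2.2.2⟩
    haveI : IsLocallyNoetherian S := ⟨fun W => (hSN W).1⟩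
    haveI : UniversallyClosed f :=
      Groth.Agent.Lib.Helper48.CurveCrit.universallyClosed_of_curveExistence hSN g f
        (Groth.Agent.Lib.Helper48.CurveCrit.curveExistence_of_essFiniteType_dvr f g H)
    have hex : ValuativeCriterion.Existence f :=
      (UniversallyClosed.eq_valuativeCriterion ▸ (inferInstance : UniversallyClosed f)).1
    exact hex sq

end Groth.Agent.S14120
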