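import Groth.Statements.S14122
import Mathlib.Algebra.Module.Lattice
import Mathlib.LinearAlgebra.Matrix.ToLin
import Mathlib.LinearAlgebra.Matrix.Basis
import Mathlib.Tactic

set_option autoImplicit false
universe u
open ValCrit

namespace Groth.Agent.S14122

open Module

section
variable {R : Type u} [CommRing R] [IsDomain R] [IsPrincipalIdealRing R]
  {K : Type u} [Field K] [Algebra R K] [IsFractionRing R K] {N : ℕ}

/-- coordinates in the extended basis of a lattice are the coordinates in the lattice basis -/
theorem repr_extend (L : Submodule R (Fin N → K)) [Submodule.IsLattice K L]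
    (b : Basis (Fin N) R L) (x : Fin N → K) (hx : x ∈ L) (i : Fin N) :
    (b.extendOfIsLattice K).repr x i = algebraMap R K (b.repr ⟨x, hx⟩ i) := by
  have h1 : x = ∑ j, (algebraMap R K (b.repr ⟨x, hx⟩ j)) • (b.extendOfIsLattice K) j := by
    have h2 := b.sum_repr ⟨x, hx⟩
    have h3 := congrArg (Subtype.val) h2
    simp only [Submodule.coe_sum, Submodule.coe_smul] at h3
    refine h3.symm.trans ?_
    apply Finset.sum_congr rfl
    intro j _
    rw [Basis.extendOfIsLattice_apply, algebraMap_smul]
  conv_lhs => rw [h1]
  rw [map_sum]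
  simp only [map_smul, Basis.repr_self, Finsupp.smul_single, smul_eq_mul, mul_one,
    Finsupp.coe_finsetSum, Finset.sum_apply, Finsupp.single_apply, Finset.sum_ite_eq',
    Finset.mem_univ, if_true]


theorem exists_conj_of_stable_lattice (L : Submodule R (Fin N → K)) [Submodule.IsLattice K L]
    (g : GL (Fin N) K)
    (hst : ∀ x ∈ L, (g : Matrix (Fin N) (Fin N) K).mulVec x ∈ L)
    (hst' : ∀ x ∈ L, ((g⁻¹ : GL (Fin N) K) : Matrix (Fin N) (Fin N) K).mulVec x ∈ L) :
    ∃ (h : GL (Fin N) K) (g' : GL (Fin N) R),
      h * g * h⁻¹ = Matrix.GeneralLinearGroup.map (algebraMap R K) g' := by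
  classical
  have hrank : Module.finrank R L = N := by
    simpa using Submodule.IsLattice.finrank_of_pi K L
  let b : Basis (Fin N) R L := Module.finBasisOfFinrankEq R L hrank
  let B : Basis (Fin N) K (Fin N → K) := b.extendOfIsLattice K
  have hB : ∀ j, B j = (b j : Fin N → K) := fun j => Basis.extendOfIsLattice_apply K b j
  let MR : Matrix (Fin N) (Fin N) R := fun i j =>
    b.repr ⟨(g : Matrix (Fin N) (Fin N) K).mulVec (b j), hst _ (b j).2⟩ i
  let MR' : Matrix (Fin N) (Fin N) R := fun i j =>
    b.repr ⟨((g⁻¹ : GL (Fin N) K) : Matrix (Fin N) (Fin N) K).mulVec (b j), hst' _ (b j).2⟩ i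
  have hM : LinearMap.toMatrix B B (Matrix.toLin' (g : Matrix (Fin N) (Fin N) K)) =
      MR.map (algebraMap R K) := by
    ext i j
    rw [LinearMap.toMatrix_apply, Matrix.map_apply, hB, Matrix.toLin'_apply]
    exact repr_extend L b _ _ i
  have hM' : LinearMap.toMatrix B B
      (Matrix.toLin' ((g⁻¹ : GL (Fin N) K) : Matrix (Fin N) (Fin N) K)) =
      MR'.map (algebraMap R K) := by
    ext i j
    rw [LinearMap.toMatrix_apply, Matrix.map_apply, hB, Matrix.toLin'_apply]
    exact repr_extend L b _ _ i
  have hinj : Function.Injective (algebraMap R K) := IsFractionRing.injective R K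
  have h1 : MR * MR' = 1 := by
    apply Matrix.map_injective hinj
    change (MR * MR').map (algebraMap R K) = (1 : Matrix (Fin N) (Fin N) R).map (algebraMap R K)
    rw [Matrix.map_mul, ← hM, ← hM', ← LinearMap.toMatrix_comp, ← Matrix.toLin'_mul,
      ← Units.val_mul, mul_inv_cancel, Units.val_one, Matrix.toLin'_one, LinearMap.toMatrix_id,
      Matrix.map_one _ (map_zero _) (map_one _)]
  have h2 : MR' * MR = 1 := by
    apply Matrix.map_injective hinj
    change (MR' * MR).map (algebraMap R K) = (1 : Matrix (Fin N) (Fin N) R).map (algebraMap R K)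
    rw [Matrix.map_mul, ← hM, ← hM', ← LinearMap.toMatrix_comp, ← Matrix.toLin'_mul,
      ← Units.val_mul, inv_mul_cancel, Units.val_one, Matrix.toLin'_one, LinearMap.toMatrix_id,
      Matrix.map_one _ (map_zero _) (map_one _)]
  let e := Pi.basisFun K (Fin N)
  refine ⟨⟨B.toMatrix e, e.toMatrix B, Basis.toMatrix_mul_toMatrix_flip B e,
    Basis.toMatrix_mul_toMatrix_flip e B⟩, ⟨MR, MR', h1, h2⟩, ?_⟩
  apply Units.ext
  change B.toMatrix e * (g : Matrix (Fin N) (Fin N) K) * e.toMatrix B = MR.map (algebraMap R K)
  rw [← hM, ← basis_toMatrix_mul_linearMap_toMatrix_mul_basis_toMatrix B e B e,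
    LinearMap.toMatrix_eq_toMatrix', LinearMap.toMatrix'_toLin']


theorem exists_stable_lattice (g : GL (Fin N) K) (hg : IsOfFinOrder g) :
    ∃ (L : Submodule R (Fin N → K)) (_ : Submodule.IsLattice K L),
      (∀ x ∈ L, (g : Matrix (Fin N) (Fin N) K).mulVec x ∈ L) ∧
      (∀ x ∈ L, ((g⁻¹ : GL (Fin N) K) : Matrix (Fin N) (Fin N) K).mulVec x ∈ L) := by
  classical
  set m := orderOf g with hm
  have hmpos : 0 < m := hg.orderOf_pos
  let φ : Fin m × Fin N → (Fin N → K) := fun p =>
    ((g ^ (p.1 : ℕ) : GL (Fin N) K) : Matrix (Fin N) (Fin N) K).mulVec (Pi.single p.2 1)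
  let L : Submodule R (Fin N → K) := Submodule.span R (Set.range φ)
  have hfg : L.FG := Submodule.fg_span (Set.finite_range φ)
  have hspan : Submodule.span K (L : Set (Fin N → K)) = ⊤ := by
    rw [eq_top_iff, ← (Pi.basisFun K (Fin N)).span_eq]
    apply Submodule.span_mono
    rintro _ ⟨j, rfl⟩
    apply Submodule.subset_span
    refine ⟨(⟨0, hmpos⟩, j), ?_⟩
    simp only [φ, pow_zero, Units.val_one, Matrix.one_mulVec, Pi.basisFun_apply]
  have hstab : ∀ k : ℕ, ∀ x ∈ L,
      ((g ^ k : GL (Fin N) K) : Matrix (Fin N) (Fin N) K).mulVec x ∈ L := by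
    intro k x hx
    induction hx using Submodule.span_induction with
    | mem x hx =>
      obtain ⟨⟨i, j⟩, rfl⟩ := hx
      apply Submodule.subset_span
      refine ⟨(⟨(k + i) % m, Nat.mod_lt _ hmpos⟩, j), ?_⟩
      simp only [φ]
      have hmod : g ^ ((k + (i : ℕ)) % m) = g ^ (k + (i : ℕ)) := pow_mod_orderOf g _
      rw [Matrix.mulVec_mulVec, ← Units.val_mul, ← pow_add, hmod]
    | zero => rw [Matrix.mulVec_zero]; exact L.zero_mem
    | add x y _ _ hx hy => rw [Matrix.mulVec_add]; exact L.add_mem hx hy
    | smul r x _ hx =>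
      rw [← algebraMap_smul K r x, Matrix.mulVec_smul, algebraMap_smul]
      exact L.smul_mem r hx
  refine ⟨L, ⟨hfg, hspan⟩, ?_, ?_⟩
  · intro x hx
    have := hstab 1 x hx
    rwa [pow_one] at this
  · intro x hx
    have hinv : g⁻¹ = g ^ (m - 1) := by
      apply inv_eq_of_mul_eq_one_right
      rw [← pow_succ', Nat.sub_add_cancel hmpos]
      exact pow_orderOf_eq_one g
    rw [hinv]
    exact hstab (m - 1) x hx

end

/-- Let `R` be a discrete valuation ring with fraction field `K` and `g ∈ GL_N(K)` an element of finite
order. Then after passing to a finite extension `K'` of `K` and a discrete valuation ring `R'` of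
`K'` dominating `R`, the element `g` becomes conjugate in `GL_N(K')` to an element of `GL_N(R')`.
(The published statement is that the classifying stack of `GL_N` over the integers satisfies a
valuative condition, for discrete valuation rings essentially of finite type over the integers, on
extending finite-order generic automorphisms along nearby modifications; since vector bundles over a
discrete valuation ring are trivial, that condition is this conjugacy statement for such rings, and
this row states it for every discrete valuation ring, as the printed argument gives.) -/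
theorem result
    (R : Type u) [CommRing R] [IsDomain R] [IsDiscreteValuationRing R]
    (K : Type u) [Field K] [Algebra R K] [IsFractionRing R K]
    (N : ℕ) (g : GL (Fin N) K) (hg : IsOfFinOrder g) :
    ∃ (R' : Type u) (_ : CommRing R') (_ : IsDomain R') (_ : IsDiscreteValuationRing R')
      (K' : Type u) (_ : Field K') (_ : Algebra R' K') (_ : IsFractionRing R' K')
      (_ : Algebra R R') (_ : Algebra K K') (_ : Algebra R K')
      (_ : IsScalarTower R R' K') (_ : IsScalarTower R K K')
      (_ : Module.Finite K K') (_ : IsLocalHom (algebraMap R R'))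
      (h : GL (Fin N) K') (g' : GL (Fin N) R'),
      h * Matrix.GeneralLinearGroup.map (algebraMap K K') g * h⁻¹ =
        Matrix.GeneralLinearGroup.map (algebraMap R' K') g' := by
  classical
  obtain ⟨L, hL, hst, hst'⟩ := exists_stable_lattice (R := R) g hg
  obtain ⟨h, g', hh⟩ := exists_conj_of_stable_lattice L g hst hst'
  refine ⟨R, inferInstance, inferInstance, inferInstance, K, inferInstance, inferInstance,
    inferInstance, Algebra.id R, Algebra.id K, inferInstance, inferInstance, inferInstance,
    inferInstance, ?_, h, g', ?_⟩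
  · change IsLocalHom (RingHom.id R)
    infer_instance
  · have hid : Matrix.GeneralLinearGroup.map (algebraMap K K) g = g := by
      change Matrix.GeneralLinearGroup.map (RingHom.id K) g = g
      rw [Matrix.GeneralLinearGroup.map_id]
      rfl
    rw [hid]
    exact hh

end Groth.Agent.S14122
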