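import Groth.Statements.S14137
import Groth.Agent.Lib.Helper67.SmCurve6

set_option autoImplicit false
universe u
open CategoryTheory CategoryTheory.Limits AlgebraicGeometry
open VBCurve

namespace Groth.Agent.S14137

/-- Let C be a smooth proper geometrically connected curve over a field k (proper, smooth and
geometrically connected over k, of dimension one), and E a finite locally free O_C-module of rank r
≥ 1 which is stable: for every finite locally free submodule G of E of rank r' ≥ 1 whose inclusion
is not an isomorphism one has deg G · r < deg E · r', the degree of a rank-n locally free module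
being χ(G) − n·χ(O_C) (stability tested on proper submodules, equivalent to the definition through
quotient bundles). Then every nonzero endomorphism of E is an isomorphism, i.e. End(E) is a division
ring. (Over an algebraically closed field it follows that End(E) = k; that consequence is not
restated.) -/
theorem result (k : Type u) [Field k] (X : Scheme.{u}) [X.Over (Spec (CommRingCat.of k))]
    [IsProper (X ↘ Spec (CommRingCat.of k))] [Smooth (X ↘ Spec (CommRingCat.of k))]
    [GeometricallyConnected (X ↘ Spec (CommRingCat.of k))] (hdim : topologicalKrullDim ↥X = 1)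
    (r : ℕ) (hr : 0 < r) (E : X.Modules) (hE : FlatMod.IsFinLocFreeOfRank r E)
    (hEst : (∀ (G : X.Modules) (r' : ℕ) (i : G ⟶ E), Mono i → 0 < r' → FlatMod.IsFinLocFreeOfRank r' G → (¬ IsIso i) →
      Curv2.deg k X G r' * (r : ℤ) < Curv2.deg k X E r * (r' : ℤ)))
    (f : E ⟶ E) (hf : f ≠ 0) : IsIso f := by
  haveI := Groth.Agent.Lib.Helper67.SmCurve.isIntegral_of_smooth_proper_geomConn k X
  have hreg := fun x => Groth.Agent.S1535.result k X x
  obtain ⟨K, I, u, t, a, b, ha, hb, hK, hI, hrk, ht, hts, hdeg, hmono, haf⟩ :=
    Groth.Agent.Lib.Helper67.SmCurve.exists_ker_im k X hreg hdim.le hE hE f hf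
  rcases Nat.eq_zero_or_pos u with hu | hu
  · haveI := hmono hu
    exact (Groth.Agent.Lib.Helper67.SmCurve.deg_le_of_mono_same_rank k X hdim.le hE hE f).2 rfl
  · exfalso
    have hna : ¬ IsIso a := by
      intro hiso
      apply hf
      rw [← cancel_epi a, haf, comp_zero]
    have hnb : ¬ IsIso b := by
      intro hiso
      have h1 := Groth.Agent.Lib.Helper67.TensRank.rk_eq_of_iso (asIso b)
      rw [Groth.Agent.Lib.Helper67.SmCurve.rk_eq_of_rank hI,
        Groth.Agent.Lib.Helper67.SmCurve.rk_eq_of_rank hE] at h1
      omega
    have h1 := hEst K u a ha hu hK hna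
    have h2 := hEst I t b hb ht hI hnb
    have hr' : (r : ℤ) = (u : ℤ) + (t : ℤ) := by exact_mod_cast hrk
    have h3 : Curv2.deg k X E r * (r : ℤ) =
        Curv2.deg k X K u * (r : ℤ) + Curv2.deg k X I t * (r : ℤ) := by
      rw [hdeg]; ring
    have h4 : Curv2.deg k X E r * (r : ℤ) =
        Curv2.deg k X E r * (u : ℤ) + Curv2.deg k X E r * (t : ℤ) := by
      rw [hr']; ring
    linarith

end Groth.Agent.S14137
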