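import Groth.Statements.S14139
import Groth.Agent.Lib.Helper67.SmCurve8

set_option autoImplicit false
universe u
open CategoryTheory CategoryTheory.Limits AlgebraicGeometry
open VBCurve

namespace Groth.Agent.S14139

/-- Let C be a smooth proper geometrically connected curve over a field k (proper, smooth and
geometrically connected over k, of dimension one), and 0 → E₁ → E → E₂ → 0 a short exact sequence of
finite locally free O_C-modules of ranks r₁, r, r₂ ≥ 1 whose slopes are all equal: deg E₁ · r = deg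
E · r₁ and deg E₂ · r = deg E · r₂, the degree of a rank-n locally free module being χ − n·χ(O_C).
Then E is semistable (deg G · r ≤ deg E · r' for every finite locally free submodule G of E of rank
r' ≥ 1) if and only if both E₁ and E₂ are semistable in the same sense. -/
theorem result (k : Type u) [Field k] (X : Scheme.{u}) [X.Over (Spec (CommRingCat.of k))]
    [IsProper (X ↘ Spec (CommRingCat.of k))] [Smooth (X ↘ Spec (CommRingCat.of k))]
    [GeometricallyConnected (X ↘ Spec (CommRingCat.of k))] (hdim : topologicalKrullDim ↥X = 1)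
    (T : ShortComplex X.Modules) (hT : T.ShortExact)
    (r₁ r r₂ : ℕ) (hr₁ : 0 < r₁) (hr : 0 < r) (hr₂ : 0 < r₂)
    (hE₁ : FlatMod.IsFinLocFreeOfRank r₁ T.X₁) (hE : FlatMod.IsFinLocFreeOfRank r T.X₂) (hE₂ : FlatMod.IsFinLocFreeOfRank r₂ T.X₃)
    (hμ₁ : Curv2.deg k X T.X₁ r₁ * (r : ℤ) = Curv2.deg k X T.X₂ r * (r₁ : ℤ))
    (hμ₂ : Curv2.deg k X T.X₃ r₂ * (r : ℤ) = Curv2.deg k X T.X₂ r * (r₂ : ℤ)) :
    (∀ (G : X.Modules) (r' : ℕ) (i : G ⟶ T.X₂), Mono i → 0 < r' → FlatMod.IsFinLocFreeOfRank r' G →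
      Curv2.deg k X G r' * (r : ℤ) ≤ Curv2.deg k X T.X₂ r * (r' : ℤ)) ↔
      ((∀ (G : X.Modules) (r' : ℕ) (i : G ⟶ T.X₁), Mono i → 0 < r' → FlatMod.IsFinLocFreeOfRank r' G →
      Curv2.deg k X G r' * (r₁ : ℤ) ≤ Curv2.deg k X T.X₁ r₁ * (r' : ℤ)) ∧
       (∀ (G : X.Modules) (r' : ℕ) (i : G ⟶ T.X₃), Mono i → 0 < r' → FlatMod.IsFinLocFreeOfRank r' G →
      Curv2.deg k X G r' * (r₂ : ℤ) ≤ Curv2.deg k X T.X₃ r₂ * (r' : ℤ))) := by
  haveI := Groth.Agent.Lib.Helper67.SmCurve.isIntegral_of_smooth_proper_geomConn k X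
  have hreg := fun x => Groth.Agent.S1535.result k X x
  haveI := hT.mono_f
  have hrZ : (0 : ℤ) < (r : ℤ) := by exact_mod_cast hr
  have hr₁Z : (0 : ℤ) < (r₁ : ℤ) := by exact_mod_cast hr₁
  have hr₂Z : (0 : ℤ) < (r₂ : ℤ) := by exact_mod_cast hr₂
  have hrank := Groth.Agent.Lib.Helper67.CurveDeg.rank_additive hT hE₁ hE hE₂
  have hdegT := Groth.Agent.Lib.Helper67.CurveDeg.deg_additive k X hdim.le hT hE₁ hE hE₂
  constructor
  · intro hss
    constructor
    · intro G r' i hi hr' hG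
      haveI := hi
      have h := hss G r' (i ≫ T.f) (mono_comp _ _) hr' hG
      have h' : Curv2.deg k X G r' * (r : ℤ) * (r₁ : ℤ) ≤
          Curv2.deg k X T.X₂ r * (r' : ℤ) * (r₁ : ℤ) :=
        mul_le_mul_of_nonneg_right h hr₁Z.le
      have h'' : Curv2.deg k X G r' * (r₁ : ℤ) * (r : ℤ) ≤
          Curv2.deg k X T.X₁ r₁ * (r' : ℤ) * (r : ℤ) := by
        calc Curv2.deg k X G r' * (r₁ : ℤ) * (r : ℤ)
            = Curv2.deg k X G r' * (r : ℤ) * (r₁ : ℤ) := by ring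
          _ ≤ Curv2.deg k X T.X₂ r * (r' : ℤ) * (r₁ : ℤ) := h'
          _ = (Curv2.deg k X T.X₂ r * (r₁ : ℤ)) * (r' : ℤ) := by ring
          _ = (Curv2.deg k X T.X₁ r₁ * (r : ℤ)) * (r' : ℤ) := by rw [hμ₁]
          _ = Curv2.deg k X T.X₁ r₁ * (r' : ℤ) * (r : ℤ) := by ring
      exact le_of_mul_le_mul_right h'' hrZ
    · intro G r' i hi hr' hG
      haveI := hi
      obtain ⟨G', j, hj, hG', hdegG'⟩ :=
        Groth.Agent.Lib.Helper67.SmCurve.exists_preimage_sub k X hreg hdim.le hT hE₁ hE hE₂ hG i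
      have h := hss G' (r₁ + r') j hj (by omega) hG'
      rw [hdegG'] at h
      push_cast at h
      have h1 : Curv2.deg k X G r' * (r : ℤ) ≤ Curv2.deg k X T.X₂ r * (r' : ℤ) := by
        have : (Curv2.deg k X T.X₁ r₁ + Curv2.deg k X G r') * (r : ℤ) =
            Curv2.deg k X T.X₁ r₁ * (r : ℤ) + Curv2.deg k X G r' * (r : ℤ) := by ring
        rw [this, hμ₁] at h
        linarith
      have h'' : Curv2.deg k X G r' * (r₂ : ℤ) * (r : ℤ) ≤
          Curv2.deg k X T.X₃ r₂ * (r' : ℤ) * (r : ℤ) := by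
        calc Curv2.deg k X G r' * (r₂ : ℤ) * (r : ℤ)
            = Curv2.deg k X G r' * (r : ℤ) * (r₂ : ℤ) := by ring
          _ ≤ Curv2.deg k X T.X₂ r * (r' : ℤ) * (r₂ : ℤ) :=
            mul_le_mul_of_nonneg_right h1 hr₂Z.le
          _ = (Curv2.deg k X T.X₂ r * (r₂ : ℤ)) * (r' : ℤ) := by ring
          _ = (Curv2.deg k X T.X₃ r₂ * (r : ℤ)) * (r' : ℤ) := by rw [hμ₂]
          _ = Curv2.deg k X T.X₃ r₂ * (r' : ℤ) * (r : ℤ) := by ring
      exact le_of_mul_le_mul_right h'' hrZ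
  · rintro ⟨hss₁, hss₂⟩ G r' i hi hr' hG
    haveI := hi
    obtain ⟨K, I, u, t, a, b, ha, hb, hK, hI, hrk, hdeg⟩ :=
      Groth.Agent.Lib.Helper67.SmCurve.exists_sub_split k X hreg hdim.le hT hE₂ hG i
    have hKle : Curv2.deg k X K u * (r : ℤ) ≤ Curv2.deg k X T.X₂ r * (u : ℤ) := by
      rcases Nat.eq_zero_or_pos u with hu | hu
      · subst hu
        rw [Groth.Agent.Lib.Helper67.SmCurve.deg_eq_zero_of_rank_zero k X hK]
        simp
      · have h := hss₁ K u a ha hu hK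
        have h'' : Curv2.deg k X K u * (r : ℤ) * (r₁ : ℤ) ≤
            Curv2.deg k X T.X₂ r * (u : ℤ) * (r₁ : ℤ) := by
          calc Curv2.deg k X K u * (r : ℤ) * (r₁ : ℤ)
              = Curv2.deg k X K u * (r₁ : ℤ) * (r : ℤ) := by ring
            _ ≤ Curv2.deg k X T.X₁ r₁ * (u : ℤ) * (r : ℤ) :=
              mul_le_mul_of_nonneg_right h hrZ.le
            _ = (Curv2.deg k X T.X₁ r₁ * (r : ℤ)) * (u : ℤ) := by ring
            _ = (Curv2.deg k X T.X₂ r * (r₁ : ℤ)) * (u : ℤ) := by rw [hμ₁]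
            _ = Curv2.deg k X T.X₂ r * (u : ℤ) * (r₁ : ℤ) := by ring
        exact le_of_mul_le_mul_right h'' hr₁Z
    have hIle : Curv2.deg k X I t * (r : ℤ) ≤ Curv2.deg k X T.X₂ r * (t : ℤ) := by
      rcases Nat.eq_zero_or_pos t with ht | ht
      · subst ht
        rw [Groth.Agent.Lib.Helper67.SmCurve.deg_eq_zero_of_rank_zero k X hI]
        simp
      · have h := hss₂ I t b hb ht hI
        have h'' : Curv2.deg k X I t * (r : ℤ) * (r₂ : ℤ) ≤
            Curv2.deg k X T.X₂ r * (t : ℤ) * (r₂ : ℤ) := by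
          calc Curv2.deg k X I t * (r : ℤ) * (r₂ : ℤ)
              = Curv2.deg k X I t * (r₂ : ℤ) * (r : ℤ) := by ring
            _ ≤ Curv2.deg k X T.X₃ r₂ * (t : ℤ) * (r : ℤ) :=
              mul_le_mul_of_nonneg_right h hrZ.le
            _ = (Curv2.deg k X T.X₃ r₂ * (r : ℤ)) * (t : ℤ) := by ring
            _ = (Curv2.deg k X T.X₂ r * (r₂ : ℤ)) * (t : ℤ) := by rw [hμ₂]
            _ = Curv2.deg k X T.X₂ r * (t : ℤ) * (r₂ : ℤ) := by ring
        exact le_of_mul_le_mul_right h'' hr₂Z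
    have hr'Z : (r' : ℤ) = (u : ℤ) + (t : ℤ) := by exact_mod_cast hrk
    rw [hdeg, hr'Z]
    have e1 : (Curv2.deg k X K u + Curv2.deg k X I t) * (r : ℤ) =
        Curv2.deg k X K u * (r : ℤ) + Curv2.deg k X I t * (r : ℤ) := by ring
    have e2 : Curv2.deg k X T.X₂ r * ((u : ℤ) + (t : ℤ)) =
        Curv2.deg k X T.X₂ r * (u : ℤ) + Curv2.deg k X T.X₂ r * (t : ℤ) := by ring
    rw [e1, e2]
    linarith

end Groth.Agent.S14139
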