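import Groth.Statements.S14141
import Groth.Agent.Lib.Helper75.RigGI
-- import your own Groth.Agent.* helpers here

set_option autoImplicit false
universe u
open CategoryTheory CategoryTheory.Limits AlgebraicGeometry
open AbSch

namespace Groth.Agent.S14141

/-- Let S be a connected Noetherian scheme, f : X → S a proper flat morphism such that for every point s
of S the natural map κ(s) → H^0(X_s, O_{X_s}) on global sections of the fibre is bijective, g : Y →
S a separated morphism and π : X → Y a morphism over S. If for some point s of S the restriction of
π to the fibre X_s is constant, i.e. factors through the projection X_s → Spec κ(s), then π is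
constant over all of S: it factors as f followed by a section S → Y of g. (The published statement
is for arbitrary Noetherian S with the conclusion over the connected component of s; this row
assumes S connected, the reduction made in the first line of the printed proof.) -/
theorem result {X Y S : Scheme.{u}} [IsNoetherian S] [ConnectedSpace ↥S]
    (f : X ⟶ S) [IsProper f] [Flat f]
    (hfib : ∀ s : ↥S, Function.Bijective (algebraMap (S.residueField s) Γ(f.fiber s, ⊤)))
    (g : Y ⟶ S) [IsSeparated g] (π : X ⟶ Y) (hπ : π ≫ g = f) (s : ↥S)
    (hs : ∃ y : Spec (S.residueField s) ⟶ Y, f.fiberι s ≫ π = f.fiberToSpecResidueField s ≫ y) :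
    ∃ σ : S ⟶ Y, σ ≫ g = 𝟙 S ∧ π = f ≫ σ := by
  have h0 : ∀ s : S, Groth.Agent.Lib.Helper75.RigMain.FibH0 f s := by
    intro s
    exact Groth.Agent.Lib.Helper75.RigGI.bijective_appTop_of_comp_inv (k := S.residueField s)
      (pullback.snd f (S.fromSpecResidueField s)) (hfib s)
  have hcol : s ∈ Groth.Agent.Lib.Helper75.RigMain.collapsed f π := by
    obtain ⟨y, hy⟩ := hs
    refine ⟨y.base default, fun x hx => ?_⟩
    have hx' : x ∈ Set.range (f.fiberι s) := by
      rw [Scheme.Hom.range_fiberι]
      exact hx
    obtain ⟨w, rfl⟩ := hx'
    have h1 := congrArg (fun t : f.fiber s ⟶ Y => t.base w) hy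
    simp only [Scheme.Hom.comp_apply] at h1
    rw [h1]
    congr 1
    exact Subsingleton.elim _ _
  exact Groth.Agent.Lib.Helper75.RigMain.exists_section_of_proper f g π hπ h0 s hcol

end Groth.Agent.S14141
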