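import Groth.Statements.S1415
import Groth.Agent.Lib.Helper7.QuasiFiniteBound

set_option autoImplicit false
universe u
open FlatMor

namespace Groth.Agent.S1415

section Helpers

open AlgebraicGeometry CategoryTheory Limits TopologicalSpace

theorem irreducibleComponents_encard_of_discrete (Z : Type*) [TopologicalSpace Z]
    [DiscreteTopology Z] : (irreducibleComponents Z).encard = ENat.card Z := by
  have : irreducibleComponents Z = Set.range (fun z : Z => ({z} : Set Z)) := by
    ext s
    constructor
    · intro hs
      have hirr : IsIrreducible s := hs.1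
      obtain ⟨z, hz⟩ := hirr.1
      refine ⟨z, ?_⟩
      have := hirr.2.subsingleton
      exact (Set.Subsingleton.eq_singleton_of_mem this hz).symm
    · rintro ⟨z, rfl⟩
      refine ⟨isIrreducible_singleton, ?_⟩
      intro t ht hzt
      have := ht.2.subsingleton
      rw [Set.Subsingleton.eq_singleton_of_mem this (hzt rfl)]
  rw [this, ← Set.image_univ, Set.singleton_injective.encard_image, Set.encard_univ]

theorem connectedComponents_card_of_discrete (Z : Type*) [TopologicalSpace Z]
    [DiscreteTopology Z] : ENat.card (ConnectedComponents Z) = ENat.card Z := by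
  symm
  apply ENat.card_congr
  refine Equiv.ofBijective (ConnectedComponents.mk) ⟨?_, ConnectedComponents.surjective_coe⟩
  intro a b hab
  rw [ConnectedComponents.coe_eq_coe, connectedComponent_eq_singleton,
    connectedComponent_eq_singleton] at hab
  exact Set.singleton_injective hab

theorem discreteTopology_geomFiber {X Y : Scheme.{u}} (f : X ⟶ Y) [LocallyQuasiFinite f] (y : Y) :
    DiscreteTopology ↥(MoreMor.geomFiber f y) := by
  haveI : LocallyQuasiFinite (f.fiberToSpecResidueField y) :=
    inferInstanceAs (LocallyQuasiFinite (pullback.snd _ _))
  let h : MoreMor.geomFiber f y ⟶ Spec (CommRingCat.of (SeparableClosure (Y.residueField y))) :=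
    pullback.snd _ _
  haveI : LocallyQuasiFinite h := inferInstanceAs (LocallyQuasiFinite (pullback.snd _ _))
  have hd := h.isDiscrete_preimage_singleton default
  have : (h ⁻¹' {default}) = Set.univ := by
    ext z
    simp only [Set.mem_preimage, Set.mem_singleton_iff, Set.mem_univ, iff_true]
    exact Subsingleton.elim _ _
  rw [this] at hd
  exact isDiscrete_univ_iff.mp hd


theorem card_geomFiber_eq {X Y : Scheme.{u}} (f : X ⟶ Y) (y : Y) :
    ENat.card ↥(MoreMor.geomFiber f y) =
      ENat.card ↥(pullback f (Spec.map (CommRingCat.ofHom
        (algebraMap (Y.residueField y) (SeparableClosure (Y.residueField y)))) ≫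
          Y.fromSpecResidueField y)) :=
  ENat.card_congr (Scheme.homeoOfIso (pullbackLeftPullbackSndIso f (Y.fromSpecResidueField y)
    (Spec.map (CommRingCat.ofHom
      (algebraMap (Y.residueField y) (SeparableClosure (Y.residueField y))))))).toEquiv

end Helpers

open AlgebraicGeometry CategoryTheory Limits in
/-- Let f : X → Y be locally quasi-finite. Then (1) for every y the number of irreducible components and
the number of connected components of the geometric fibre over y agree, and (2) if X is
quasi-compact these numbers are bounded by some natural number. -/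
theorem result {X Y : Scheme.{u}} (f : X ⟶ Y) [LocallyQuasiFinite f] [LocallyOfFiniteType f] :
    (∀ y : Y, MoreMor.nGeomIrredComp f y = MoreMor.nGeomConnComp f y) ∧
      (CompactSpace ↑X → ∃ d : ℕ, ∀ y : Y, MoreMor.nGeomConnComp f y ≤ d) := by
  have key : ∀ y : Y, MoreMor.nGeomConnComp f y = ENat.card ↥(MoreMor.geomFiber f y) := by
    intro y
    haveI := discreteTopology_geomFiber f y
    exact connectedComponents_card_of_discrete _
  refine ⟨fun y => ?_, fun hX => ?_⟩
  · haveI := discreteTopology_geomFiber f y
    rw [key]
    exact irreducibleComponents_encard_of_discrete _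
  · haveI := hX
    obtain ⟨N, hN⟩ := Groth.Agent.Lib.Helper7.exists_bound_card_pullback f
    refine ⟨N, fun y => ?_⟩
    rw [key, card_geomFiber_eq]
    exact hN _ _

end Groth.Agent.S1415
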