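import Groth.Statements.S1417
import Mathlib
import Groth.Agent.Lib.Helper62.LocalJacobian

set_option autoImplicit false
universe u
open FlatMor

namespace Groth.Agent.S1417.Aux

set_option linter.style.haveILetI false

open IsLocalRing Groth.Agent.Lib.Helper62.LocalJacobian Groth.Agent.Lib.Helper62.JacobianFS
open AlgebraicGeometry CategoryTheory

/-- quotients of the local ring at a maximal ideal by an `m`-primary ideal are quotients of `A` -/
theorem surjective_to_quot {A : Type u} [CommRing A] (q' : Ideal A) [hq : q'.IsMaximal]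
    (K : Ideal (Localization.AtPrime q')) (k : ℕ)
    (hK : maximalIdeal (Localization.AtPrime q') ^ k ≤ K) :
    Function.Surjective ((Ideal.Quotient.mk K).comp (algebraMap A (Localization.AtPrime q'))) := by
  intro y
  obtain ⟨x, rfl⟩ := Ideal.Quotient.mk_surjective y
  obtain ⟨a, s, rfl⟩ := IsLocalization.exists_mk'_eq q'.primeCompl x
  have hs : (s : A) ∉ q' := s.2
  obtain ⟨b, c, hc, huc⟩ := Ideal.IsMaximal.exists_inv_pow q' hs k
  refine ⟨a * b, ?_⟩
  rw [RingHom.comp_apply, Ideal.Quotient.eq]
  -- a b - a/s = a (b s - 1)/s = - a c / s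
  have hcK : algebraMap A (Localization.AtPrime q') c ∈ K := by
    apply hK
    rw [← Localization.AtPrime.map_eq_maximalIdeal, ← Ideal.map_pow]
    exact Ideal.mem_map_of_mem _ hc
  have : algebraMap A (Localization.AtPrime q') (a * b) - IsLocalization.mk' _ a s =
      - (IsLocalization.mk' (Localization.AtPrime q') a s * algebraMap A _ c) := by
    have hs1 : IsLocalization.mk' (Localization.AtPrime q') a s * algebraMap A _ (s : A) =
        algebraMap A _ a := IsLocalization.mk'_spec _ a s
    have h1' : algebraMap A (Localization.AtPrime q') (b * s) + algebraMap A _ c = 1 := by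
      rw [← map_add, huc, map_one]
    rw [map_mul] at h1' ⊢
    have : algebraMap A (Localization.AtPrime q') c = 1 - algebraMap A _ b * algebraMap A _ (s : A) := by
      rw [← h1']; ring
    rw [this, ← hs1]; ring
  rw [this]
  exact K.neg_mem (K.mul_mem_left _ hcK)

theorem finiteType_quot {R A : Type u} [CommRing R] [CommRing A] [Algebra R A]
    [Algebra.FiniteType R A] (q' : Ideal A) [hq : q'.IsMaximal]
    (K : Ideal (Localization.AtPrime q')) (k : ℕ)
    (hK : maximalIdeal (Localization.AtPrime q') ^ k ≤ K) :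
    Algebra.FiniteType R (Localization.AtPrime q' ⧸ K) := by
  let F : A →ₐ[R] (Localization.AtPrime q' ⧸ K) :=
    (Ideal.Quotient.mkₐ R K).comp (IsScalarTower.toAlgHom R A (Localization.AtPrime q'))
  exact Algebra.FiniteType.of_surjective F (surjective_to_quot q' K k hK)

theorem aux_ft {R S : Type u} [CommRing R] [IsNoetherianRing R]
    [CommRing S] [Algebra R S] (A : Type u) [CommRing A] [Algebra R A] [Algebra A S]
    [IsScalarTower R A S] [IsNoetherianRing A] [Algebra.FormallySmooth R A] [Algebra.FiniteType R A]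
    (q : Ideal S) [hqmax : q.IsMaximal] (hsurjAS : Function.Surjective (algebraMap A S))
    (H : ∀ (B' B : Type u) [CommRing B'] [CommRing B] [IsLocalRing B'] [IsLocalRing B]
        [IsArtinianRing B'] [IsArtinianRing B] [Algebra R B'] [Algebra R B]
        [Algebra.FiniteType R B'] (π : B' →ₐ[R] B),
        Function.Surjective π →
        (∃ t : B', RingHom.ker π.toRingHom = Ideal.span {t} ∧
          ∀ a ∈ IsLocalRing.maximalIdeal B', a * t = 0) →
        ∀ g : S →ₐ[R] B, (IsLocalRing.maximalIdeal B).comap g = q →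
          ∃ g' : S →ₐ[R] B', π.comp g' = g) :
    Algebra.FormallySmooth R (Localization.AtPrime q) := by
  classical
  let q' : Ideal A := q.comap (algebraMap A S)
  haveI hq'max : q'.IsMaximal := Ideal.comap_isMaximal_of_surjective _ hsurjAS
  haveI : q'.IsPrime := hq'max.isPrime
  haveI : q.LiesOver q' := ⟨rfl⟩
  letI := Localization.AtPrime.algebraOfLiesOver q' q
  have hsurj : Function.Surjective
      (algebraMap (Localization.AtPrime q') (Localization.AtPrime q)) :=
    localRingHom_surjective q' q hsurjAS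
  haveI : Algebra.FormallyEtale A (Localization.AtPrime q') :=
    Algebra.FormallyEtale.of_isLocalization q'.primeCompl
  haveI : Algebra.FormallySmooth R (Localization.AtPrime q') :=
    Algebra.FormallySmooth.comp R A (Localization.AtPrime q')
  haveI : IsNoetherianRing (Localization.AtPrime q') :=
    IsLocalization.isNoetherianRing q'.primeCompl _ inferInstance
  apply formallySmooth_of_small_lifts hsurj
  intro K L hKL k t hmk hmL hLK hkerL hLm
  have hKm : K ≤ maximalIdeal (Localization.AtPrime q') := hKL.trans hLm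
  haveI := isLocalRing_quotient hKm
  haveI := isLocalRing_quotient hLm
  haveI := isArtinianRing_quotient hKm k hmk
  haveI := isArtinianRing_quotient hLm k (hmk.trans hKL)
  haveI : Algebra.FiniteType R (Localization.AtPrime q' ⧸ K) := finiteType_quot q' K k hmk
  let π : (Localization.AtPrime q' ⧸ K) →ₐ[R] (Localization.AtPrime q' ⧸ L) :=
    Ideal.Quotient.factorₐ R hKL
  have hπ : Function.Surjective π := Ideal.Quotient.factor_surjective hKL
  have htL : t ∈ L := by
    rw [hLK]; exact Ideal.mem_sup_right (Ideal.subset_span rfl)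
  have hker : RingHom.ker π.toRingHom = Ideal.span {Ideal.Quotient.mk K t} :=
    ker_factor hKL t hLK
  have hkill : ∀ a ∈ maximalIdeal (Localization.AtPrime q' ⧸ K),
      a * Ideal.Quotient.mk K t = 0 := by
    intro a ha
    obtain ⟨a₀, rfl⟩ := Ideal.Quotient.mk_surjective a
    rw [mk_mem_maximalIdeal_iff hKm] at ha
    rw [← map_mul, Ideal.Quotient.eq_zero_iff_mem]
    exact hmL (Ideal.mul_mem_mul ha htL)
  -- the canonical map `C → P/L`
  let γ : Localization.AtPrime q →ₐ[R] (Localization.AtPrime q' ⧸ L) :=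
    AlgHom.liftOfSurjective
      (IsScalarTower.toAlgHom R (Localization.AtPrime q') (Localization.AtPrime q)) hsurj
      (Ideal.Quotient.mkₐ R L) (by
        intro x hx
        have : x ∈ L := hkerL hx
        rw [RingHom.mem_ker]
        exact Ideal.Quotient.eq_zero_iff_mem.mpr this)
  have hγ : ∀ x : Localization.AtPrime q',
      γ (algebraMap (Localization.AtPrime q') (Localization.AtPrime q) x) =
        Ideal.Quotient.mk L x := fun x =>
    AlgHom.liftOfSurjective_apply _ hsurj _ _ x
  let g : S →ₐ[R] (Localization.AtPrime q' ⧸ L) :=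
    γ.comp (IsScalarTower.toAlgHom R S (Localization.AtPrime q))
  have hgA : ∀ y : A, g (algebraMap A S y) =
      Ideal.Quotient.mk L (algebraMap A (Localization.AtPrime q') y) := by
    intro y
    show γ (algebraMap S (Localization.AtPrime q) (algebraMap A S y)) = _
    rw [← hγ, ← IsScalarTower.algebraMap_apply A S (Localization.AtPrime q),
      ← IsScalarTower.algebraMap_apply A (Localization.AtPrime q') (Localization.AtPrime q)]
  have hcomap : (maximalIdeal (Localization.AtPrime q' ⧸ L)).comap g = q := by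
    ext x
    obtain ⟨y, rfl⟩ := hsurjAS x
    rw [Ideal.mem_comap, hgA, mk_mem_maximalIdeal_iff hLm,
      IsLocalization.AtPrime.to_map_mem_maximal_iff (Localization.AtPrime q') q']
    rfl
  obtain ⟨g'₀, hg'₀⟩ := H _ _ π hπ ⟨_, hker, hkill⟩ g hcomap
  have hπg : ∀ s : S, π (g'₀ s) = g s := fun s => AlgHom.congr_fun hg'₀ s
  have hunit : ∀ y : q.primeCompl, IsUnit (g'₀ y) := by
    intro y
    by_contra h
    have h1 : g'₀ y ∈ maximalIdeal (Localization.AtPrime q' ⧸ K) :=
      (IsLocalRing.mem_maximalIdeal _).mpr h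
    obtain ⟨z, hz⟩ := Ideal.Quotient.mk_surjective (g'₀ (y : S))
    rw [← hz, mk_mem_maximalIdeal_iff hKm] at h1
    have h2 : π (g'₀ y) ∈ maximalIdeal (Localization.AtPrime q' ⧸ L) := by
      rw [← hz]
      show Ideal.Quotient.factor hKL (Ideal.Quotient.mk K z) ∈ _
      rw [Ideal.Quotient.factor_mk, mk_mem_maximalIdeal_iff hLm]
      exact h1
    rw [hπg] at h2
    have h3 : (y : S) ∈ q := hcomap.le (Ideal.mem_comap.mpr h2)
    exact y.2 h3
  let g' : Localization.AtPrime q →ₐ[R] (Localization.AtPrime q' ⧸ K) :=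
    IsLocalization.liftAlgHom (M := q.primeCompl) (f := g'₀) hunit
  have hg's : ∀ s : S, g' (algebraMap S (Localization.AtPrime q) s) = g'₀ s := by
    intro s
    show IsLocalization.lift (M := q.primeCompl) hunit (algebraMap S _ s) = g'₀ s
    rw [IsLocalization.lift_eq]
    rfl
  refine ⟨g', fun x => ?_⟩
  have hhom : ((Ideal.Quotient.factor hKL).comp (g'.toRingHom.comp
      (algebraMap (Localization.AtPrime q') (Localization.AtPrime q)))) =
      Ideal.Quotient.mk L := by
    apply IsLocalization.ringHom_ext q'.primeCompl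
    ext y
    show Ideal.Quotient.factor hKL (g' (algebraMap (Localization.AtPrime q')
      (Localization.AtPrime q) (algebraMap A (Localization.AtPrime q') y))) =
      Ideal.Quotient.mk L (algebraMap A (Localization.AtPrime q') y)
    rw [← IsScalarTower.algebraMap_apply A (Localization.AtPrime q') (Localization.AtPrime q),
      IsScalarTower.algebraMap_apply A S (Localization.AtPrime q), hg's, ← hgA, ← hπg]
    rfl
  exact RingHom.congr_fun hhom x



theorem smooth_of_lifts {R T : Type u} [CommRing R] [IsNoetherianRing R] [CommRing T] [Algebra R T]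
    [Algebra.FiniteType R T]
    (H : ∀ (B' B : Type u) [CommRing B'] [CommRing B] [IsLocalRing B'] [IsLocalRing B]
        [IsArtinianRing B'] [IsArtinianRing B] [Algebra R B'] [Algebra R B]
        [Algebra.FiniteType R B'] (π : B' →ₐ[R] B),
        Function.Surjective π →
        (∃ t : B', RingHom.ker π.toRingHom = Ideal.span {t} ∧
          ∀ a ∈ IsLocalRing.maximalIdeal B', a * t = 0) →
        ∀ g : T →ₐ[R] B, ∃ g' : T →ₐ[R] B', π.comp g' = g) :
    Algebra.Smooth R T := by
  have hfp : Algebra.FinitePresentation R T := Algebra.FinitePresentation.of_finiteType.mp inferInstance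
  refine ⟨?_, hfp⟩
  obtain ⟨n, F, hF⟩ := Algebra.FiniteType.iff_quotient_mvPolynomial''.mp
    (inferInstance : Algebra.FiniteType R T)
  letI : Algebra (MvPolynomial (Fin n) R) T := F.toRingHom.toAlgebra
  haveI : IsScalarTower R (MvPolynomial (Fin n) R) T :=
    IsScalarTower.of_algebraMap_eq (fun r => (F.commutes r).symm)
  rw [← Algebra.smoothLocus_eq_univ_iff, Set.eq_univ_iff_forall]
  by_contra h
  push Not at h
  obtain ⟨p, hp⟩ := h
  obtain ⟨M, hM, hpM⟩ := Ideal.exists_le_maximal p.asIdeal p.2.ne_top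
  have hspec : p ⤳ (⟨M, hM.isPrime⟩ : PrimeSpectrum T) :=
    (PrimeSpectrum.le_iff_specializes _ _).mp hpM
  have hcl : IsClosed (Algebra.smoothLocus R T)ᶜ := Algebra.isOpen_smoothLocus.isClosed_compl
  have hM' : (⟨M, hM.isPrime⟩ : PrimeSpectrum T) ∈ (Algebra.smoothLocus R T)ᶜ :=
    hspec.mem_closed hcl hp
  apply hM'
  show Algebra.FormallySmooth R (Localization.AtPrime M)
  exact aux_ft (MvPolynomial (Fin n) R) M hF
    (fun B' B _ _ _ _ _ _ _ _ _ π hπ ht g _ => H B' B π hπ ht g)

/-- the closed point of the spectrum of a local ring, as a point of the scheme -/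
def cp (C : Type u) [CommRing C] [IsLocalRing C] : ↥(Spec (CommRingCat.of C)) :=
  closedPoint C

theorem exists_factor {X : Scheme.{u}} {C : Type u} [CommRing C] [IsLocalRing C]
    (h : Spec (CommRingCat.of C) ⟶ X) (V : X.Opens) (hV : IsAffineOpen V)
    (hx : h.base (cp C) ∈ V) :
    ∃ a : Γ(X, V) ⟶ CommRingCat.of C, h = Spec.map a ≫ hV.fromSpec := by
  have htop : h ⁻¹ᵁ V = ⊤ := (closedPoint_mem_iff (R := C) (h ⁻¹ᵁ V)).mp hx
  have hrange : Set.range h.base ⊆ Set.range hV.fromSpec.base := by
    rw [hV.range_fromSpec]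
    rintro _ ⟨y, rfl⟩
    have : y ∈ h ⁻¹ᵁ V := by rw [htop]; trivial
    exact this
  refine ⟨Spec.preimage (IsOpenImmersion.lift hV.fromSpec h hrange), ?_⟩
  rw [Spec.map_preimage, IsOpenImmersion.lift_fac]

theorem ring_lift {R T B B' : Type u} [CommRing R] [CommRing T] [CommRing B] [CommRing B']
    (φ₀ : R →+* T) (hφ₀ : φ₀.FormallySmooth) (φ : B' →+* B) (hφ : Function.Surjective φ)
    (hnil : IsNilpotent (RingHom.ker φ)) (a : T →+* B) (b : R →+* B')
    (h : φ.comp b = a.comp φ₀) :
    ∃ a' : T →+* B', φ.comp a' = a ∧ a'.comp φ₀ = b := by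
  letI : Algebra R T := φ₀.toAlgebra
  letI : Algebra R B' := b.toAlgebra
  letI : Algebra R B := (φ.comp b).toAlgebra
  haveI : Algebra.FormallySmooth R T := hφ₀
  let φA : B' →ₐ[R] B := { φ with commutes' := fun r => rfl }
  let aA : T →ₐ[R] B := { a with commutes' := fun r => (RingHom.congr_fun h r).symm }
  let l := Algebra.FormallySmooth.liftOfSurjective aA φA hφ hnil
  refine ⟨l.toRingHom, ?_, ?_⟩
  · ext x
    exact Algebra.FormallySmooth.liftOfSurjective_apply aA φA hφ hnil x
  · ext r
    exact l.commutes r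

theorem isNilpotent_ker_of_small {B B' : Type u} [CommRing B] [CommRing B'] [IsLocalRing B]
    [IsLocalRing B'] (φ : B' →+* B) (ε : B') (hker : RingHom.ker φ = Ideal.span {ε})
    (hkill : ∀ m ∈ maximalIdeal B', ε * m = 0) : IsNilpotent (RingHom.ker φ) := by
  have htm : ε ∈ maximalIdeal B' := by
    by_contra h
    have hu : IsUnit ε := by
      rwa [IsLocalRing.mem_maximalIdeal, mem_nonunits_iff, not_not] at h
    have h0 : RingHom.ker φ = ⊤ := by
      rw [hker]; exact Ideal.span_singleton_eq_top.mpr hu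
    have h1 : (1 : B') ∈ RingHom.ker φ := by rw [h0]; trivial
    rw [RingHom.mem_ker, map_one] at h1
    exact one_ne_zero h1
  refine ⟨2, ?_⟩
  rw [hker, Ideal.span_singleton_pow, Ideal.zero_eq_bot, Ideal.span_singleton_eq_bot, pow_two]
  exact hkill ε htm

def LiftS {X S : Scheme.{u}} (f : X ⟶ S) : Prop :=
  ∀ (B B' : Type u) [CommRing B] [CommRing B'] [IsArtinianRing B] [IsArtinianRing B'] [IsLocalRing B] [IsLocalRing B']
      (φ : B' →+* B) (ε : B'), Function.Surjective φ → RingHom.ker φ = Ideal.span {ε} → (∀ m ∈ IsLocalRing.maximalIdeal B', ε * m = 0) →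
      ∀ (α : Spec (CommRingCat.of B) ⟶ X) (β : Spec (CommRingCat.of B') ⟶ S), LocallyOfFiniteType β →
        Spec.map (CommRingCat.ofHom φ) ≫ β = α ≫ f →
        ∃ γ : Spec (CommRingCat.of B') ⟶ X, Spec.map (CommRingCat.ofHom φ) ≫ γ = α ∧ γ ≫ f = β

theorem closedPoint_map {B B' : Type u} [CommRing B] [CommRing B'] [IsLocalRing B]
    [IsLocalRing B'] (φ : B' →+* B) (hφ : Function.Surjective φ) :
    (Spec.map (CommRingCat.ofHom φ)).base (cp B) = cp B' := by
  haveI : IsLocalHom φ := hφ.isLocalHom
  exact comap_closedPoint φ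

theorem liftS_of_smooth {X S : Scheme.{u}} (f : X ⟶ S) [Smooth f] : LiftS f := by
  intro B B' _ _ _ _ _ _ φ ε hφ hker hkill α β _ hsq
  obtain ⟨U, hU0, hsU, -⟩ := (TopologicalSpace.Opens.isBasis_iff_nbhd.mp S.isBasis_affineOpens)
    (show f.base (α.base (cp B)) ∈ (⊤ : S.Opens) from trivial)
  obtain ⟨V, hV0, hxV, hVU⟩ := (TopologicalSpace.Opens.isBasis_iff_nbhd.mp X.isBasis_affineOpens)
    (show α.base (cp B) ∈ f ⁻¹ᵁ U from hsU)
  have hU : IsAffineOpen U := hU0
  have hV : IsAffineOpen V := hV0
  obtain ⟨a, ha⟩ := exists_factor α V hV hxV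
  have hβx : β.base (cp B') ∈ U := by
    rw [← closedPoint_map φ hφ, ← Scheme.Hom.comp_apply, hsq]
    exact hsU
  obtain ⟨b, hb⟩ := exists_factor β U hU hβx
  have hring : b ≫ CommRingCat.ofHom φ = f.appLE U V hVU ≫ a := by
    apply Spec.map_injective
    rw [← cancel_mono hU.fromSpec, Spec.map_comp, Spec.map_comp, Category.assoc, Category.assoc,
      ← hb, hsq, ha, Category.assoc, IsAffineOpen.SpecMap_appLE_fromSpec f hU hV hVU]
  have hsm : (f.appLE U V hVU).hom.FormallySmooth :=
    (HasRingHomProperty.appLE (P := @Smooth) f ‹_› ⟨U, hU⟩ ⟨V, hV⟩ hVU).formallySmooth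
  obtain ⟨a', ha'1, ha'2⟩ := ring_lift (f.appLE U V hVU).hom hsm φ hφ
    (isNilpotent_ker_of_small φ ε hker hkill) a.hom b.hom (by
      have := congrArg CommRingCat.Hom.hom hring
      simpa using this)
  refine ⟨Spec.map (CommRingCat.ofHom a') ≫ hV.fromSpec, ?_, ?_⟩
  · rw [ha, ← Category.assoc, ← Spec.map_comp]
    congr 2
    ext x
    exact RingHom.congr_fun ha'1 x
  · rw [hb, Category.assoc, ← IsAffineOpen.SpecMap_appLE_fromSpec f hU hV hVU, ← Category.assoc,
      ← Spec.map_comp]
    congr 2
    ext x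
    exact RingHom.congr_fun ha'2 x


theorem smooth_of_liftS {X S : Scheme.{u}} (f : X ⟶ S) [IsLocallyNoetherian S]
    [LocallyOfFiniteType f] (H : LiftS f) : Smooth f := by
  rw [HasRingHomProperty.iff_appLE (P := @Smooth)]
  intro U V e
  have hU : IsAffineOpen U.1 := U.2
  have hV : IsAffineOpen V.1 := V.2
  have hft : (f.appLE U V e).hom.FiniteType :=
    HasRingHomProperty.appLE (P := @LocallyOfFiniteType) f ‹_› U V e
  haveI : IsNoetherianRing Γ(S, U.1) := IsLocallyNoetherian.component_noetherian U
  letI : Algebra Γ(S, U.1) Γ(X, V.1) := (f.appLE U V e).hom.toAlgebra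
  haveI : Algebra.FiniteType Γ(S, U.1) Γ(X, V.1) := hft
  show Algebra.Smooth Γ(S, U.1) Γ(X, V.1)
  apply smooth_of_lifts
  intro B' B _ _ _ _ _ _ _ _ _ π hπ ⟨t, hker, hkill⟩ g
  let α : Spec (CommRingCat.of B) ⟶ X :=
    Spec.map (CommRingCat.ofHom g.toRingHom) ≫ hV.fromSpec
  let β : Spec (CommRingCat.of B') ⟶ S :=
    Spec.map (CommRingCat.ofHom (algebraMap Γ(S, U.1) B')) ≫ hU.fromSpec
  have hβ : LocallyOfFiniteType β := by
    haveI : LocallyOfFiniteType (Spec.map (CommRingCat.ofHom (algebraMap Γ(S, U.1) B'))) := by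
      rw [HasRingHomProperty.Spec_iff (P := @LocallyOfFiniteType)]
      exact RingHom.finiteType_algebraMap.mpr inferInstance
    infer_instance
  have hsq : Spec.map (CommRingCat.ofHom π.toRingHom) ≫ β = α ≫ f := by
    simp only [α, β, Category.assoc]
    rw [← IsAffineOpen.SpecMap_appLE_fromSpec f hU hV e, ← Category.assoc, ← Category.assoc,
      ← Spec.map_comp, ← Spec.map_comp]
    congr 2
    ext r
    show π (algebraMap _ B' r) = g (algebraMap _ _ r)
    rw [π.commutes, g.commutes]
  obtain ⟨γ, hγ1, hγ2⟩ := H B B' π.toRingHom t hπ hker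
    (fun m hm => by rw [mul_comm]; exact hkill m hm) α β hβ hsq
  have hγx : γ.base (cp B') ∈ V.1 := by
    rw [← closedPoint_map π.toRingHom hπ, ← Scheme.Hom.comp_apply, hγ1]
    have hr := hV.range_fromSpec
    have : α.base (cp B) ∈ Set.range hV.fromSpec.base :=
      ⟨(Spec.map (CommRingCat.ofHom g.toRingHom)).base (cp B), rfl⟩
    rw [hr] at this
    exact this
  obtain ⟨c, hc⟩ := exists_factor γ V.1 hV hγx
  have h1 : c ≫ CommRingCat.ofHom π.toRingHom = CommRingCat.ofHom g.toRingHom := by
    apply Spec.map_injective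
    rw [← cancel_mono hV.fromSpec, Spec.map_comp, Category.assoc, ← hc, hγ1]
  have h2 : f.appLE U V e ≫ c = CommRingCat.ofHom (algebraMap Γ(S, U.1) B') := by
    apply Spec.map_injective
    rw [← cancel_mono hU.fromSpec, Spec.map_comp, Category.assoc,
      IsAffineOpen.SpecMap_appLE_fromSpec f hU hV e, ← Category.assoc, ← hc, hγ2]
  refine ⟨{ c.hom with commutes' := fun r => ?_ }, ?_⟩
  · exact congr($h2 r)
  · ext x
    exact congr($h1 x)

end Groth.Agent.S1417.Aux

namespace Groth.Agent.S1417

open AlgebraicGeometry CategoryTheory Limits in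
/-- Let S be locally Noetherian and f : X → S locally of finite type. Then f is smooth if and only if
for every small extension B' → B of Artinian local rings (a surjection whose kernel is generated by
one element annihilated by the maximal ideal), every morphism Spec B → X and every morphism Spec B'
→ S locally of finite type making the square commute, there is a lift Spec B' → X. -/
theorem result {X S : Scheme.{u}} (f : X ⟶ S) [IsLocallyNoetherian S] [LocallyOfFiniteType f] :
    Smooth f ↔ ∀ (B B' : Type u) [CommRing B] [CommRing B'] [IsArtinianRing B] [IsArtinianRing B'] [IsLocalRing B] [IsLocalRing B']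
      (φ : B' →+* B) (ε : B'), Function.Surjective φ → RingHom.ker φ = Ideal.span {ε} → (∀ m ∈ IsLocalRing.maximalIdeal B', ε * m = 0) →
      ∀ (α : Spec (CommRingCat.of B) ⟶ X) (β : Spec (CommRingCat.of B') ⟶ S), LocallyOfFiniteType β →
        Spec.map (CommRingCat.ofHom φ) ≫ β = α ≫ f →
        ∃ γ : Spec (CommRingCat.of B') ⟶ X, Spec.map (CommRingCat.ofHom φ) ≫ γ = α ∧ γ ≫ f = β := by
  constructor
  · intro h
    exact Aux.liftS_of_smooth f
  · intro H
    exact Aux.smooth_of_liftS f H

end Groth.Agent.S1417
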