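import Groth.Statements.S14175
import Mathlib.Tactic

set_option autoImplicit false
universe u v w
open GalCoh

namespace Groth.Agent.S14175

section
variable {k : Type u} {V : Type w} [CommRing k] [AddCommGroup V] [Module k V]

/-- geometric sum `1 + T + ... + T^(j-1)` -/
noncomputable def gs (T : Module.End k V) (j : ℕ) : Module.End k V := ∑ i ∈ Finset.range j, T ^ i

theorem gs_add (T : Module.End k V) (a b : ℕ) : gs T (a + b) = gs T a + T ^ a * gs T b := by
  unfold gs
  rw [Finset.sum_range_add, Finset.mul_sum]
  congr 1
  apply Finset.sum_congr rfl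
  intro i _
  rw [pow_add]

theorem gs_zero (T : Module.End k V) : gs T 0 = 0 := by simp [gs]

theorem gs_one (T : Module.End k V) : gs T 1 = 1 := by simp [gs]

theorem gs_mul_of_pow_eq_one (T : Module.End k V) (e : ℕ) (hT : T ^ e = 1) (c : ℕ) :
    gs T (e * c) = c • gs T e := by
  induction c with
  | zero => simp [gs]
  | succ c ih => rw [Nat.mul_succ, gs_add, ih, pow_mul, hT, one_pow, one_mul, succ_nsmul]

theorem mul_gs (T : Module.End k V) (j : ℕ) : (T - 1) * gs T j = T ^ j - 1 := mul_geom_sum T j

end


/-- Let G be a finite cyclic group generated by t, let m be a natural number dividing the order of G,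
and let ρ be a linear representation of G on a module V over a commutative ring k such that m·V = 0
and every element of G whose m-th power is the identity acts trivially on V. Then evaluating a
crossed homomorphism at t induces a bijection from the first cohomology of G with values in V
(crossed homomorphisms f, i.e. f(gh) = ρ(g)f(h) + f(g), modulo the principal ones g ↦ ρ(g)x − x)
onto the coinvariants V_G (the quotient of V by the span of all ρ(g)v − v): the class of f(t) in V_G
vanishes exactly when f is principal, and every class of V_G is the class of f(t) for some crossed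
homomorphism f. The bijection depends on the choice of the generator t. -/
theorem result
    {k : Type u} {G : Type v} {V : Type w} [CommRing k] [Group G] [Finite G]
    [AddCommGroup V] [Module k V] (ρ : Representation k G V)
    (t : G) (ht : ∀ g : G, g ∈ Subgroup.zpowers t)
    (m : ℕ) (hm : m ∣ Nat.card G) (htors : ∀ v : V, m • v = 0)
    (htriv : ∀ g : G, g ^ m = 1 → ∀ v : V, ρ g v = v) :
    (∀ f : G → V, (∀ g h : G, f (g * h) = ρ g (f h) + f g) →
        (Representation.Coinvariants.mk ρ (f t) = 0 ↔ ∃ x : V, ∀ g : G, f g = ρ g x - x)) ∧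
    (∀ v : V, ∃ f : G → V, (∀ g h : G, f (g * h) = ρ g (f h) + f g) ∧
        Representation.Coinvariants.mk ρ (f t) = Representation.Coinvariants.mk ρ v) := by
  classical
  set T : Module.End k V := ρ t with hT
  set n := Nat.card G with hn
  have hρpow : ∀ j : ℕ, ρ (t ^ j) = T ^ j := fun j => map_pow ρ t j
  have htn : t ^ n = 1 := pow_card_eq_one'
  -- every element is a natural power of `t`
  have hpow : ∀ g : G, ∃ j : ℕ, t ^ j = g := by
    intro g
    have h1 := ht g
    rw [← mem_powers_iff_mem_zpowers] at h1
    exact h1
  obtain ⟨e, he⟩ := hm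
  have hTe : T ^ e = 1 := by
    rw [← hρpow]
    ext v
    apply htriv (t ^ e) _ v
    rw [← pow_mul, mul_comm, ← he]
    exact htn
  have hNn : ∀ v, gs T n v = 0 := by
    intro v
    rw [he, mul_comm, gs_mul_of_pow_eq_one T e hTe m, LinearMap.smul_apply]
    exact htors _
  have hTn : T ^ n = 1 := by rw [← hρpow, htn, map_one]
  have hNmod : ∀ (a : ℕ) v, gs T a v = gs T (a % n) v := by
    intro a v
    conv_lhs => rw [← Nat.div_add_mod a n]
    rw [gs_add, gs_mul_of_pow_eq_one T n hTn, pow_mul, hTn, one_pow, one_mul, LinearMap.add_apply,
      LinearMap.smul_apply, hNn, smul_zero, zero_add]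
  have hNeq : ∀ (a b : ℕ) v, t ^ a = t ^ b → gs T a v = gs T b v := by
    intro a b v hab
    rw [hNmod a, hNmod b]
    have h1 := pow_eq_pow_iff_modEq.mp hab
    rw [orderOf_eq_card_of_forall_mem_zpowers ht] at h1
    have h2 : a % n = b % n := h1
    rw [h2]
  refine ⟨?_, ?_⟩
  · intro f hf
    have hf1 : f 1 = 0 := by
      have h1 := hf 1 1
      rw [mul_one, map_one, Module.End.one_apply] at h1
      have h2 : f 1 + f 1 = f 1 + 0 := by rw [add_zero]; exact h1.symm
      exact add_left_cancel h2
    constructor
    · intro h0
      rw [Representation.Coinvariants.mk_eq_zero] at h0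
      have hker : Representation.Coinvariants.ker ρ ≤ LinearMap.range (T - 1) := by
        unfold Representation.Coinvariants.ker
        rw [Submodule.span_le]
        rintro _ ⟨⟨g, x⟩, rfl⟩
        obtain ⟨j, rfl⟩ := hpow g
        refine ⟨gs T j x, ?_⟩
        change ((T - 1) * gs T j) x = ρ (t ^ j) x - x
        rw [mul_gs, hρpow]
        rfl
      obtain ⟨x, hx⟩ := hker h0
      refine ⟨x, ?_⟩
      have hx' : f t = ρ t x - x := by
        rw [← hx]; rfl
      have key : ∀ j : ℕ, f (t ^ j) = ρ (t ^ j) x - x := by
        intro j
        induction j with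
        | zero => rw [pow_zero, hf1, map_one, Module.End.one_apply, sub_self]
        | succ j ih =>
          rw [pow_succ', hf, ih, hx', map_mul, Module.End.mul_apply, map_sub]
          abel
      intro g
      obtain ⟨j, rfl⟩ := hpow g
      exact key j
    · rintro ⟨x, hx⟩
      rw [Representation.Coinvariants.mk_eq_zero, hx t]
      exact Representation.Coinvariants.sub_mem_ker t x
  · intro v
    choose kk hkk using hpow
    refine ⟨fun g => gs T (kk g) v, ?_, ?_⟩
    · intro g h
      have h1 : gs T (kk (g * h)) v = gs T (kk g + kk h) v :=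
        hNeq _ _ v (by rw [hkk, pow_add, hkk, hkk])
      change gs T (kk (g * h)) v = ρ g (gs T (kk h) v) + gs T (kk g) v
      rw [h1, gs_add, LinearMap.add_apply, Module.End.mul_apply, ← hρpow, hkk, add_comm]
    · congr 1
      change gs T (kk t) v = v
      have h1 := hNeq (kk t) 1 v (by rw [hkk, pow_one])
      rw [h1, gs_one, Module.End.one_apply]

end Groth.Agent.S14175
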