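import Groth.Statements.S14176
import Mathlib

set_option autoImplicit false
set_option linter.style.haveILetI false
set_option linter.unusedSectionVars false
universe u

namespace Groth.Agent.S14176.Aux


abbrev C (n : ℕ) := Multiplicative (ZMod n)

theorem pow_n_eq_one (n : ℕ) (x : C n) : x ^ n = 1 := by
  apply Multiplicative.toAdd.injective
  simp

instance hasEnough (n : ℕ) [NeZero n] : HasEnoughRootsOfUnity (C n) n where
  prim := ⟨Multiplicative.ofAdd (1 : ZMod n), by
    have h := IsPrimitiveRoot.orderOf (Multiplicative.ofAdd (1 : ZMod n))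
    rwa [orderOf_ofAdd_eq_addOrderOf, ZMod.addOrderOf_one] at h⟩
  cyc := by
    haveI : IsCyclic (C n)ˣ := isCyclic_of_surjective (toUnits (G := C n)) (toUnits (G := C n)).surjective
    infer_instance

variable (A : Type u) [CommGroup A] [Finite A] (n : ℕ) [NeZero n]

theorem exists_char_ne_one (hA : ∀ a : A, a ^ n = 1) {a : A} (ha : a ≠ 1) :
    ∃ φ : A →* C n, φ a ≠ 1 := by
  have hdvd : Monoid.exponent A ∣ n := Monoid.exponent_dvd_of_forall_pow_eq_one hA
  haveI : HasEnoughRootsOfUnity (C n) (Monoid.exponent A) := HasEnoughRootsOfUnity.of_dvd (C n) hdvd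
  obtain ⟨φ, hφ⟩ := CommGroup.exists_apply_ne_one_of_hasEnoughRootsOfUnity A (C n) ha
  refine ⟨(toUnits (G := C n)).symm.toMonoidHom.comp φ, ?_⟩
  intro h
  apply hφ
  have : (toUnits (G := C n)).symm (φ a) = 1 := h
  simpa using this

theorem card_char (hA : ∀ a : A, a ^ n = 1) : Nat.card (A →* C n) = Nat.card A := by
  have hdvd : Monoid.exponent A ∣ n := Monoid.exponent_dvd_of_forall_pow_eq_one hA
  haveI : HasEnoughRootsOfUnity (C n) (Monoid.exponent A) := HasEnoughRootsOfUnity.of_dvd (C n) hdvd
  rw [← CommGroup.card_monoidHom_of_hasEnoughRootsOfUnity A (C n)]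
  exact Nat.card_congr (MulEquiv.monoidHomCongrRight (toUnits (G := C n))).toEquiv


open W4c1etcurveeff2

section Top

variable {G : Type u} [Group G] [TopologicalSpace G] [IsTopologicalGroup G] (n : ℕ)

/-- the subgroup generated by `n`-th powers and commutators -/
def N : Subgroup G := Subgroup.closure (Set.range fun g : G => g ^ n) ⊔ commutator G

theorem comm_le_N : commutator G ≤ N (G := G) n := le_sup_right

theorem pow_mem_N (g : G) : g ^ n ∈ N (G := G) n :=
  (le_sup_left : Subgroup.closure (Set.range fun g : G => g ^ n) ≤ N (G := G) n)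
    (Subgroup.subset_closure ⟨g, rfl⟩)

theorem N_le_of {H : Subgroup G} (h1 : ∀ g : G, g ^ n ∈ H) (h2 : commutator G ≤ H) :
    N (G := G) n ≤ H :=
  sup_le ((Subgroup.closure_le _).2 (by rintro _ ⟨g, rfl⟩; exact h1 g)) h2

instance N_normal : (N (G := G) n).Normal := Subgroup.Normal.of_commutator_le (h := comm_le_N n)

/-- `S = powCommClosure G n` -/
abbrev S : Subgroup G := (N (G := G) n).topologicalClosure

theorem powCommClosure_eq : powCommClosure G n = S (G := G) n := rfl

instance S_normal : (S (G := G) n).Normal := Subgroup.is_normal_topologicalClosure _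

instance S_closed : IsClosed (S (G := G) n : Set G) := Subgroup.isClosed_topologicalClosure _

theorem N_le_S : N (G := G) n ≤ S (G := G) n := Subgroup.le_topologicalClosure _

theorem S_le_of {H : Subgroup G} (hH : IsClosed (H : Set G)) (h1 : ∀ g : G, g ^ n ∈ H)
    (h2 : commutator G ≤ H) : S (G := G) n ≤ H :=
  Subgroup.topologicalClosure_minimal _ (N_le_of n h1 h2) hH

noncomputable instance instCommQ : CommGroup (G ⧸ S (G := G) n) :=
  { (inferInstance : Group (G ⧸ S (G := G) n)) with
    mul_comm := fun a b =>
      ((Subgroup.Normal.quotient_commutative_iff_commutator_le (N := S (G := G) n)).mpr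
        ((comm_le_N n).trans (N_le_S n))).is_comm.comm a b }

theorem pow_n_Q (q : G ⧸ S (G := G) n) : q ^ n = 1 := by
  obtain ⟨g, rfl⟩ := QuotientGroup.mk'_surjective _ q
  rw [QuotientGroup.mk'_apply, ← QuotientGroup.mk_pow, QuotientGroup.eq_one_iff]
  exact N_le_S n (pow_mem_N n g)

theorem finite_Q [NeZero n] (s : Finset G)
    (hs : Dense ((Subgroup.closure (s : Set G) : Subgroup G) : Set G)) :
    Finite (G ⧸ S (G := G) n) := by
  classical
  let π := QuotientGroup.mk' (S (G := G) n)
  let Γ' : Subgroup (G ⧸ S (G := G) n) := (Subgroup.closure (s : Set G)).map π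
  have hfg : Γ'.FG := by
    refine ⟨s.image π, ?_⟩
    show _ = (Subgroup.closure (s : Set G)).map π
    rw [MonoidHom.map_closure, Finset.coe_image]
  haveI : Group.FG Γ' := (Group.fg_iff_subgroup_fg _).mpr hfg
  have htors : IsMulTorsion Γ' := fun x =>
    isOfFinOrder_iff_pow_eq_one.mpr ⟨n, NeZero.pos n, by
      apply Subtype.ext
      simp [pow_n_Q]⟩
  haveI : Finite Γ' := CommGroup.finite_of_fg_isMulTorsion (hG := htors)
  have hcl : IsClosed (Γ' : Set (G ⧸ S (G := G) n)) := (Set.toFinite _).isClosed
  have hpre : IsClosed (π ⁻¹' (Γ' : Set (G ⧸ S (G := G) n))) :=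
    hcl.preimage QuotientGroup.continuous_mk
  have hsub : ((Subgroup.closure (s : Set G) : Subgroup G) : Set G) ⊆
      π ⁻¹' (Γ' : Set (G ⧸ S (G := G) n)) := fun g hg => ⟨g, hg, rfl⟩
  have huniv : π ⁻¹' (Γ' : Set (G ⧸ S (G := G) n)) = Set.univ := by
    rw [← Set.univ_subset_iff, ← hs.closure_eq]
    exact closure_minimal hsub hpre
  have htop : Γ' = ⊤ := by
    rw [eq_top_iff]
    intro q _
    obtain ⟨g, rfl⟩ := QuotientGroup.mk'_surjective _ q
    have : g ∈ π ⁻¹' (Γ' : Set (G ⧸ S (G := G) n)) := huniv ▸ Set.mem_univ g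
    exact this
  have : Finite (⊤ : Subgroup (G ⧸ S (G := G) n)) := htop ▸ ‹Finite Γ'›
  exact Finite.of_equiv _ Subgroup.topEquiv.toEquiv

end Top


open W4c1etcurveeff2

section Top

variable {G : Type u} [Group G] [TopologicalSpace G] [IsTopologicalGroup G] (n : ℕ)

theorem N_map_le (φ : G ≃* G) : (N (G := G) n).map φ.toMonoidHom ≤ N (G := G) n := by
  rw [Subgroup.map_le_iff_le_comap]
  apply N_le_of
  · intro g
    rw [Subgroup.mem_comap, map_pow]
    exact pow_mem_N n _
  · rw [← Subgroup.map_le_iff_le_comap]
    refine le_trans ?_ (comm_le_N n)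
    rw [commutator_def, Subgroup.map_commutator]
    exact Subgroup.commutator_mono le_top le_top

theorem S_map_le (φ : G ≃* G) (hφ : Continuous φ) :
    (S (G := G) n).map φ.toMonoidHom ≤ S (G := G) n := by
  rintro _ ⟨x, hx, rfl⟩
  have hx' : x ∈ closure ((N (G := G) n : Subgroup G) : Set G) := by
    rwa [← Subgroup.topologicalClosure_coe]
  have h2 : φ x ∈ closure ((N (G := G) n : Subgroup G) : Set G) :=
    map_mem_closure hφ hx' (fun y hy => N_map_le n φ ⟨y, hy, rfl⟩)
  have h3 : φ x ∈ ((S (G := G) n : Subgroup G) : Set G) := by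
    rwa [Subgroup.topologicalClosure_coe]
  exact h3

theorem S_map_eq (φ : G ≃* G) (hφ : Continuous φ) (hφ' : Continuous φ.symm) :
    (S (G := G) n).map φ.toMonoidHom = S (G := G) n := by
  apply le_antisymm (S_map_le n φ hφ)
  intro x hx
  refine ⟨φ.symm x, S_map_le n φ.symm hφ' ⟨x, hx, rfl⟩, ?_⟩
  simp

theorem S_open [NeZero n] (s : Finset G)
    (hs : Dense ((Subgroup.closure (s : Set G) : Subgroup G) : Set G)) :
    IsOpen ((S (G := G) n : Subgroup G) : Set G) := by
  haveI := finite_Q n s hs
  haveI : (S (G := G) n).FiniteIndex := Subgroup.finiteIndex_of_finite_quotient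
  exact Subgroup.isOpen_of_isClosed_of_finiteIndex _ (S_closed n)

theorem char_kills_S (χ : G →* C n) (hχ : IsOpen ((χ.ker : Subgroup G) : Set G)) :
    S (G := G) n ≤ χ.ker := by
  apply S_le_of n (Subgroup.isClosed_of_isOpen _ hχ)
  · intro g
    rw [MonoidHom.mem_ker, map_pow]
    exact pow_n_eq_one n _
  · exact Abelianization.commutator_subset_ker χ

theorem exists_char_of_not_mem [NeZero n] (s : Finset G)
    (hs : Dense ((Subgroup.closure (s : Set G) : Subgroup G) : Set G)) {g : G}
    (hg : g ∉ S (G := G) n) :
    ∃ χ : G →* C n, IsOpen ((χ.ker : Subgroup G) : Set G) ∧ χ g ≠ 1 := by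
  haveI := finite_Q n s hs
  have hne : (QuotientGroup.mk' (S (G := G) n) g) ≠ 1 := by
    rwa [Ne, QuotientGroup.mk'_apply, QuotientGroup.eq_one_iff]
  obtain ⟨φ, hφ⟩ := exists_char_ne_one (G ⧸ S (G := G) n) n (pow_n_Q n) hne
  refine ⟨φ.comp (QuotientGroup.mk' (S (G := G) n)), ?_, hφ⟩
  refine Subgroup.isOpen_mono (H₁ := S (G := G) n) ?_ (S_open n s hs)
  intro x hx
  rw [MonoidHom.mem_ker, MonoidHom.comp_apply, QuotientGroup.mk'_apply,
    (QuotientGroup.eq_one_iff x).mpr hx, map_one]

theorem mem_S_iff [NeZero n] (s : Finset G)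
    (hs : Dense ((Subgroup.closure (s : Set G) : Subgroup G) : Set G)) (g : G) :
    g ∈ S (G := G) n ↔
      ∀ χ : G →* C n, IsOpen ((χ.ker : Subgroup G) : Set G) → χ g = 1 := by
  constructor
  · intro hg χ hχ
    exact char_kills_S n χ hχ hg
  · intro h
    by_contra hg
    obtain ⟨χ, hχ, hne⟩ := exists_char_of_not_mem n s hs hg
    exact hne (h χ hχ)

/-- evaluation -/
def ev : G →* (ContChar G n →* C n) where
  toFun g := { toFun := fun χ => χ.1 g, map_one' := rfl, map_mul' := fun _ _ => rfl }
  map_one' := by ext χ; simp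
  map_mul' a b := by ext χ; simp

theorem ev_ker [NeZero n] (s : Finset G)
    (hs : Dense ((Subgroup.closure (s : Set G) : Subgroup G) : Set G)) :
    (ev (G := G) n).ker = S (G := G) n := by
  ext g
  rw [MonoidHom.mem_ker, mem_S_iff n s hs]
  constructor
  · intro h χ hχ
    have := DFunLike.congr_fun h ⟨χ, hχ⟩
    exact this
  · intro h
    ext χ
    exact congrArg _ (h χ.1 χ.2)

theorem contChar_pow (χ : ContChar G n) : χ ^ n = 1 := by
  apply Subtype.ext
  ext g
  simp [pow_n_eq_one]

/-- characters of the quotient to continuous characters -/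
def toContChar [NeZero n] (s : Finset G)
    (hs : Dense ((Subgroup.closure (s : Set G) : Subgroup G) : Set G))
    (φ : (G ⧸ S (G := G) n) →* C n) : ContChar G n :=
  ⟨φ.comp (QuotientGroup.mk' (S (G := G) n)), by
    show IsOpen _
    refine Subgroup.isOpen_mono (H₁ := S (G := G) n) ?_ (S_open n s hs)
    intro x hx
    rw [MonoidHom.mem_ker, MonoidHom.comp_apply, QuotientGroup.mk'_apply,
      (QuotientGroup.eq_one_iff x).mpr hx, map_one]⟩

theorem toContChar_bijective [NeZero n] (s : Finset G)
    (hs : Dense ((Subgroup.closure (s : Set G) : Subgroup G) : Set G)) :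
    Function.Bijective (toContChar n s hs) := by
  constructor
  · intro φ ψ h
    refine MonoidHom.ext fun q => ?_
    obtain ⟨g, rfl⟩ := QuotientGroup.mk'_surjective _ q
    have := congrArg (fun χ : ContChar G n => χ.1 g) h
    exact this
  · intro χ
    refine ⟨QuotientGroup.lift (S (G := G) n) χ.1 (fun g hg => char_kills_S n χ.1 χ.2 hg), ?_⟩
    apply Subtype.ext
    ext g
    rfl

theorem ev_surjective [NeZero n] (s : Finset G)
    (hs : Dense ((Subgroup.closure (s : Set G) : Subgroup G) : Set G)) :
    Function.Surjective (ev (G := G) n) ∧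
      Nat.card (ContChar G n →* C n) = Nat.card (G ⧸ S (G := G) n) ∧
      Finite (ContChar G n →* C n) := by
  haveI := finite_Q n s hs
  haveI : Finite ((G ⧸ S (G := G) n) →* C n) :=
    Finite.of_injective (fun f : (G ⧸ S (G := G) n) →* C n => (f : (G ⧸ S (G := G) n) → C n))
      DFunLike.coe_injective
  haveI : Finite (ContChar G n) := Finite.of_surjective _ (toContChar_bijective n s hs).2
  have hcardD : Nat.card (ContChar G n) = Nat.card (G ⧸ S (G := G) n) := by
    rw [← Nat.card_eq_of_bijective _ (toContChar_bijective n s hs)]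
    exact card_char _ n (pow_n_Q n)
  have hcardDD : Nat.card (ContChar G n →* C n) = Nat.card (G ⧸ S (G := G) n) := by
    rw [card_char (ContChar G n) n (contChar_pow n), hcardD]
  haveI : Finite (ContChar G n →* C n) :=
    Finite.of_injective (fun f : ContChar G n →* C n => (f : ContChar G n → C n))
      DFunLike.coe_injective
  refine ⟨?_, hcardDD, inferInstance⟩
  rw [← MonoidHom.range_eq_top]
  apply Subgroup.eq_top_of_card_eq
  rw [← Subgroup.index_ker, ev_ker n s hs, hcardDD]
  rfl

end Top


open W4c1etcurveeff2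

section Top

variable {G : Type u} [Group G] [TopologicalSpace G] [IsTopologicalGroup G] (n : ℕ)

theorem unique_S [NeZero n] (s : Finset G)
    (hs : Dense ((Subgroup.closure (s : Set G) : Subgroup G) : Set G))
    (H : Subgroup G) [H.Normal] (hH : IsClosed ((H : Subgroup G) : Set G))
    (e : G ⧸ H ≃* (ContChar G n →* C n)) : H = S (G := G) n := by
  obtain ⟨-, hcard, hfin⟩ := ev_surjective n s hs
  haveI := hfin
  haveI := finite_Q n s hs
  have hle : S (G := G) n ≤ H := by
    apply S_le_of n hH
    · intro g
      rw [← QuotientGroup.eq_one_iff, QuotientGroup.mk_pow]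
      apply e.injective
      rw [map_pow, map_one]
      ext χ
      simp [pow_n_eq_one]
    · apply Subgroup.Normal.quotient_commutative_iff_commutator_le.mp
      exact ⟨⟨fun a b => e.injective (by rw [map_mul, map_mul, mul_comm])⟩⟩
  have hidx : H.index = (S (G := G) n).index := by
    rw [Subgroup.index_eq_card, Subgroup.index_eq_card, Nat.card_congr e.toEquiv, hcard]
  haveI : Finite (G ⧸ H) := Finite.of_equiv _ e.symm.toEquiv
  have hne : H.index ≠ 0 := by
    rw [Subgroup.index_eq_card]
    exact Nat.card_pos.ne'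
  have hrel := Subgroup.relIndex_mul_index hle
  rw [← hidx] at hrel
  have h1 : (S (G := G) n).relIndex H = 1 := by
    have : (S (G := G) n).relIndex H * H.index = 1 * H.index := by rw [hrel, one_mul]
    exact Nat.eq_of_mul_eq_mul_right (Nat.pos_of_ne_zero hne) this
  exact le_antisymm (Subgroup.relIndex_eq_one.mp h1) hle

end Top


end Groth.Agent.S14176.Aux

open Pi1

namespace Groth.Agent.S14176
open Groth.Agent.S14176.Aux

open W4c1etcurveeff2 in
/-- Let G be a topological group in which some finite subset generates a dense subgroup, let n ≥ 1, and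
let S be the closure of the subgroup generated by all n-th powers and all commutators. Write D for
the group of continuous homomorphisms from G to the discrete cyclic group ℤ/n, that is,
homomorphisms with open kernel (the first cohomology of G with coefficients in the trivial module
ℤ/n), and D^∨ for its ℤ/n-dual, the group of homomorphisms D → ℤ/n. Then: S is carried onto itself
by every group automorphism of G that is a homeomorphism; an element g of G lies in S exactly when
every element of D kills g, and every element of D^∨ is evaluation at some element of G, so that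
evaluation identifies G/S with D^∨; and S is the only closed normal subgroup H of G with G/H
isomorphic to D^∨. (The published statement is for a topologically finitely generated group, calls S
characteristic and does not restrict the competing subgroups H; this row asks the automorphisms to
be homeomorphisms and H to be closed, which is what the argument uses: for the integers with the
p-adic topology times a cyclic group of prime order q ≠ p, the subgroup qℤ × ℤ/q is normal, not
closed, and has quotient isomorphic to D^∨ ≅ ℤ/q, while S = ℤ × 0.) -/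
theorem result
    {G : Type u} [Group G] [TopologicalSpace G] [IsTopologicalGroup G]
    (s : Finset G) (hs : Dense ((Subgroup.closure (s : Set G) : Subgroup G) : Set G))
    (n : ℕ) [NeZero n] (S : Subgroup G) (hS : S = powCommClosure G n) :
    (∀ φ : G ≃* G, Continuous φ → Continuous φ.symm → S.map φ.toMonoidHom = S) ∧
    (∀ g : G, g ∈ S ↔
        ∀ χ : G →* Multiplicative (ZMod n), IsOpen ((χ.ker : Subgroup G) : Set G) → χ g = 1) ∧
    (∀ F : ContChar G n →* Multiplicative (ZMod n), ∃ g : G,
        ∀ χ : ContChar G n, F χ = (χ.1 : G →* Multiplicative (ZMod n)) g) ∧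
    (∀ (H : Subgroup G) [H.Normal], IsClosed (H : Set G) →
        Nonempty (G ⧸ H ≃* (ContChar G n →* Multiplicative (ZMod n))) → H = S) := by
  subst hS
  refine ⟨fun φ h1 h2 => S_map_eq n φ h1 h2, fun g => mem_S_iff n s hs g, fun F => ?_,
    fun H _ hH ⟨e⟩ => unique_S n s hs H hH e⟩
  obtain ⟨g, hg⟩ := (ev_surjective n s hs).1 F
  refine ⟨g, fun χ => ?_⟩
  rw [← hg]
  rfl

end Groth.Agent.S14176
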