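import Groth.Statements.S14178
import Mathlib.FieldTheory.KummerExtension
import Mathlib.Tactic

set_option autoImplicit false
universe u v w
open scoped nonZeroDivisors
open EtAlg

namespace Groth.Agent.S14178

open Polynomial IntermediateField in
/-- With enough roots of unity, `X ^ n - a` is irreducible as soon as `a` is not a `p`-th power
for the primes `p ∣ n`. -/
theorem irreducible_X_pow_sub_C_of_primitiveRoot {K : Type u} [Field K]
    {n : ℕ} (hn0 : n ≠ 0) {ζ : K} (hζ : IsPrimitiveRoot ζ n) {a : K}
    (ha : ∀ p : ℕ, p.Prime → p ∣ n → ∀ b : K, b ^ p ≠ a) :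
    Irreducible (X ^ n - C a) := by
  induction n using induction_on_primes generalizing K a with
  | zero => exact absurd rfl hn0
  | one => simpa using irreducible_X_sub_C a
  | prime_mul p n hp IH =>
    have hn : n ≠ 0 := fun h => hn0 (by rw [h, mul_zero])
    rw [mul_comm]
    apply X_pow_mul_sub_C_irreducible
      (X_pow_sub_C_irreducible_of_prime hp (ha p hp (dvd_mul_right _ _)))
    intro E _ _ x hx
    have hint : IsIntegral K x := not_not.mp fun h ↦ by
      simpa only [degree_zero, degree_X_pow_sub_C hp.pos,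
        WithBot.natCast_ne_bot] using congr_arg degree (hx.symm.trans (dif_neg h))
    have hζ' : IsPrimitiveRoot (algebraMap K K⟮x⟯ (ζ ^ p)) n :=
      (hζ.pow (Nat.pos_of_ne_zero hn0) rfl).map_of_injective (algebraMap K K⟮x⟯).injective
    apply IH hn hζ'
    intro q hq hqn b hb
    -- norm computation
    have hnorm : (Algebra.norm K b) ^ q = (-1) ^ (p + 1) * a := by
      rw [← map_pow, hb, ← adjoin.powerBasis_gen hint,
        Algebra.PowerBasis.norm_gen_eq_coeff_zero_minpoly]
      simp [minpoly_gen, hx, hp.ne_zero.symm, pow_succ]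
    rcases hp.eq_two_or_odd' with rfl | hpodd
    · rcases hq.eq_two_or_odd' with rfl | hqodd
      · -- `p = q = 2`, so `4 ∣ 2 * n` and `-1` is a square
        obtain ⟨n', rfl⟩ := hqn
        have h2 : IsPrimitiveRoot (ζ ^ (2 * n')) 2 :=
          hζ.pow (Nat.pos_of_ne_zero hn0) (by ring)
        have hi : (ζ ^ n') ^ 2 = -1 := by
          rw [← pow_mul, mul_comm]
          exact h2.eq_neg_one_of_two_right
        apply ha 2 Nat.prime_two (dvd_mul_right _ _) (ζ ^ n' * Algebra.norm K b)
        rw [mul_pow, hi, hnorm]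
        ring
      · apply ha q hq (dvd_mul_of_dvd_right hqn 2) (-Algebra.norm K b)
        rw [hqodd.neg_pow, hnorm]
        ring
    · apply ha q hq (dvd_mul_of_dvd_right hqn p) (Algebra.norm K b)
      rw [hnorm, (hpodd.add_odd odd_one).neg_one_pow, one_mul]


section ideal
variable {A : Type u} {K : Type v} [CommRing A] [IsDedekindDomain A] [Field K] [Algebra A K]
  [IsFractionRing A K]

theorem pow_mem_pow' (J : FractionalIdeal A⁰ K) (x : K) (hx : x ∈ J) (q : ℕ) : x ^ q ∈ J ^ q := by
  induction q with
  | zero => rw [pow_zero, pow_zero]; exact FractionalIdeal.one_mem_one _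
  | succ k ih => rw [pow_succ, pow_succ]; exact FractionalIdeal.mul_mem_mul ih hx

/-- a fractional ideal whose `q`-th power is `1` is contained in `1`. -/
theorem le_one_of_pow_eq_one (J : FractionalIdeal A⁰ K) (q : ℕ) (hq : 0 < q) (h : J ^ q = 1) :
    J ≤ 1 := by
  intro x hx
  have hxq : x ^ q ∈ J ^ q := pow_mem_pow' J x hx q
  rw [h, FractionalIdeal.mem_one_iff] at hxq
  obtain ⟨a, ha⟩ := hxq
  rw [FractionalIdeal.mem_one_iff]
  have hint : IsIntegral A (x ^ q) := ha ▸ isIntegral_algebraMap
  exact IsIntegrallyClosed.exists_algebraMap_eq_of_isIntegral_pow hq hint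

/-- the group of invertible fractional ideals of a Dedekind domain has no torsion -/
theorem eq_one_of_pow_eq_one (J : (FractionalIdeal A⁰ K)ˣ) (q : ℕ) (hq : 0 < q) (h : J ^ q = 1) :
    J = 1 := by
  have h1 : (J : FractionalIdeal A⁰ K) ≤ 1 :=
    le_one_of_pow_eq_one _ q hq (by rw [← Units.val_pow_eq_pow_val, h, Units.val_one])
  have h2 : ((J⁻¹ : (FractionalIdeal A⁰ K)ˣ) : FractionalIdeal A⁰ K) ≤ 1 :=
    le_one_of_pow_eq_one _ q hq (by rw [← Units.val_pow_eq_pow_val, inv_pow, h, inv_one, Units.val_one])
  apply Units.ext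
  apply le_antisymm h1
  calc (1 : FractionalIdeal A⁰ K) = (J : FractionalIdeal A⁰ K) * ((J⁻¹ : (FractionalIdeal A⁰ K)ˣ) : FractionalIdeal A⁰ K) := by
        rw [Units.mul_inv]
    _ ≤ (J : FractionalIdeal A⁰ K) * 1 := mul_le_mul_right h2 _
    _ = J := mul_one _

end ideal

open Polynomial in
/-- Let A be a Dedekind domain with fraction field K, let n be a natural number invertible in A such
that K contains a primitive n-th root of unity, let f be a nonzero element of K and I an invertible
fractional ideal of A with (f) = I^n whose class in the ideal class group of A has order exactly n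
(the divisor of f is n times a divisor whose class has order n), and let L = K(α) be a field
extension of K generated by a single element α with α^n = f. Then L is Galois over K of degree n
with cyclic Galois group. (The published statement is for an integral smooth curve over a perfect
field containing a primitive n-th root of unity, with the Picard group of the curve in place of the
class group; this row states it for any Dedekind domain.) -/
theorem result
    {A : Type u} {K : Type v} {L : Type w} [CommRing A] [IsDedekindDomain A]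
    [Field K] [Algebra A K] [IsFractionRing A K]
    [Field L] [Algebra K L]
    (n : ℕ) (hn : IsUnit (n : A)) (ζ : K) (hζ : IsPrimitiveRoot ζ n) (f : K) (hf : f ≠ 0)
    (I : (FractionalIdeal A⁰ K)ˣ) (hI : FractionalIdeal.spanSingleton A⁰ f = (I : FractionalIdeal A⁰ K) ^ n)
    (hord : orderOf (ClassGroup.mk K I) = n)
    (α : L) (hα : α ^ n = algebraMap K L f) (hgen : IntermediateField.adjoin K {α} = ⊤) :
    IsGalois K L ∧ IsCyclic (L ≃ₐ[K] L) ∧ Module.finrank K L = n := by
  classical
  have hn0 : n ≠ 0 := by
    rintro rfl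
    rw [Nat.cast_zero] at hn
    exact not_isUnit_zero hn
  have hnpos : 0 < n := Nat.pos_of_ne_zero hn0
  have : NeZero n := ⟨hn0⟩
  have hζne : (primitiveRoots n K).Nonempty := ⟨ζ, (mem_primitiveRoots hnpos).mpr hζ⟩
  -- `f` is not a `q`-th power
  have hpow : ∀ q : ℕ, q.Prime → q ∣ n → ∀ b : K, b ^ q ≠ f := by
    intro q hq hqn b hb
    obtain ⟨m, rfl⟩ := hqn
    have hb0 : b ≠ 0 := by
      rintro rfl
      rw [zero_pow hq.ne_zero] at hb
      exact hf hb.symm
    set P : (FractionalIdeal A⁰ K)ˣ := toPrincipalIdeal A K (Units.mk0 b hb0) with hP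
    have hPq : P ^ q = I ^ (q * m) := by
      apply Units.ext
      rw [Units.val_pow_eq_pow_val, Units.val_pow_eq_pow_val, coe_toPrincipalIdeal,
        FractionalIdeal.spanSingleton_pow, Units.val_mk0, hb, hI]
    have hJ : (P * (I ^ m)⁻¹) ^ q = 1 := by
      rw [mul_pow, inv_pow, ← pow_mul, mul_comm m q, hPq, mul_inv_cancel]
    have hJ1 := eq_one_of_pow_eq_one _ q hq.pos hJ
    have hPI : P = I ^ m := by rwa [mul_inv_eq_one] at hJ1
    have hcls : (ClassGroup.mk K I) ^ m = 1 := by
      rw [← map_pow, ← hPI, ClassGroup.mk_eq_one_iff]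
      refine ⟨⟨b, ?_⟩⟩
      rw [hP, coe_toPrincipalIdeal, FractionalIdeal.coe_spanSingleton, Units.val_mk0]
    have hdvd := orderOf_dvd_of_pow_eq_one hcls
    rw [hord] at hdvd
    have hm0 : m ≠ 0 := by
      rintro rfl
      exact hn0 (mul_zero q)
    have hle := Nat.le_of_dvd (Nat.pos_of_ne_zero hm0) hdvd
    have h2 := hq.two_le
    nlinarith
  have hirr : Irreducible (X ^ n - C f) := irreducible_X_pow_sub_C_of_primitiveRoot hn0 hζ hpow
  have halg : IsAlgebraic K α :=
    ⟨X ^ n - C f, X_pow_sub_C_ne_zero hnpos f, by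
      rw [aeval_def, eval₂_sub, eval₂_X_pow, eval₂_C, hα, sub_self]⟩
  have : IsSplittingField K L (X ^ n - C f) := by
    constructor
    · rw [Polynomial.map_sub, Polynomial.map_pow, Polynomial.map_C, Polynomial.map_X]
      exact X_pow_sub_C_splits_of_isPrimitiveRoot
        (hζ.map_of_injective (algebraMap K L).injective) hα
    · rw [eq_top_iff, ← IntermediateField.top_toSubalgebra, ← hgen,
        IntermediateField.adjoin_simple_toSubalgebra_of_isAlgebraic halg]
      apply Algebra.adjoin_mono
      rw [Set.singleton_subset_iff, mem_rootSet_of_ne (X_pow_sub_C_ne_zero hnpos f),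
        aeval_def, eval₂_sub, eval₂_X_pow, eval₂_C, hα, sub_self]
  exact ⟨isGalois_of_isSplittingField_X_pow_sub_C hζne hirr L,
    isCyclic_of_isSplittingField_X_pow_sub_C hζne hirr L,
    finrank_of_isSplittingField_X_pow_sub_C hζne hirr L⟩

end Groth.Agent.S14178
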