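import Groth.Statements.S14181
import Mathlib.Tactic

set_option autoImplicit false
universe u
open CategoryTheory
open GalCoh

namespace Groth.Agent.S14181

open groupCohomology

section
variable {k G : Type u} [CommRing k] [Group G] (A : Rep.{u} k G) (P : Subgroup G) [P.Normal]
  [Fintype P]
  (hP : Function.Bijective fun a : A => (Fintype.card P : k) • a)

/-- multiplication by `|P|` as a linear equivalence -/
noncomputable def cardEquiv : A.V ≃ₗ[k] A.V :=
  LinearEquiv.ofBijective ((Fintype.card P : k) • LinearMap.id) hP

theorem cardEquiv_apply (a : A.V) : cardEquiv A P hP a = (Fintype.card P : k) • a := rfl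

/-- the averaged value of a cochain on `P` -/
noncomputable def avg (f : G → A.V) : A.V := (cardEquiv A P hP).symm (∑ p : P, f p)

theorem card_smul_avg (f : G → A.V) : (Fintype.card P : k) • avg A P hP f = ∑ p : P, f p := by
  rw [← cardEquiv_apply A P hP, avg, LinearEquiv.apply_symm_apply]

theorem avg_add (f f' : G → A.V) : avg A P hP (f + f') = avg A P hP f + avg A P hP f' := by
  unfold avg
  rw [← map_add]
  congr 1
  simp [Finset.sum_add_distrib]

theorem avg_smul (c : k) (f : G → A.V) : avg A P hP (c • f) = c • avg A P hP f := by
  unfold avg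
  rw [← map_smul]
  congr 1
  simp [Finset.smul_sum]

/-- the corrected cochain `f + d(avg f)` -/
noncomputable def corr (f : G → A.V) : G → A.V := fun g => f g + A.ρ g (avg A P hP f) - avg A P hP f


variable {A P}

theorem corr_mul (f : G → A.V) (hf : ∀ g h : G, f (g * h) = A.ρ g (f h) + f g) (g h : G) :
    corr A P hP f (g * h) = A.ρ g (corr A P hP f h) + corr A P hP f g := by
  unfold corr
  rw [hf, map_mul, map_sub, map_add, Module.End.mul_apply]
  abel

theorem corr_mem (f : G → A.V) (hf : ∀ g h : G, f (g * h) = A.ρ g (f h) + f g) (p' : P) :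
    corr A P hP f (p' : G) = 0 := by
  apply hP.1
  change (Fintype.card P : k) • corr A P hP f (p' : G) = (Fintype.card P : k) • (0 : A.V)
  rw [smul_zero]
  unfold corr
  rw [smul_sub, smul_add, ← map_smul, card_smul_avg, map_sum]
  have h1 : ∀ p : P, A.ρ (p' : G) (f p) = f ((p' * p : P) : G) - f (p' : G) := by
    intro p
    rw [Subgroup.coe_mul, hf]
    abel
  simp only [h1, Finset.sum_sub_distrib, Finset.sum_const, Finset.card_univ]
  have h2 : ∑ p : P, f ((p' * p : P) : G) = ∑ p : P, f (p : G) :=
    Equiv.sum_comp (Equiv.mulLeft p') (fun p : P => f (p : G))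
  rw [h2, Nat.cast_smul_eq_nsmul]
  abel

theorem corr_mul_mem (f : G → A.V) (hf : ∀ g h : G, f (g * h) = A.ρ g (f h) + f g) (g : G) (p : P) :
    corr A P hP f (g * p) = corr A P hP f g := by
  rw [corr_mul hP f hf, corr_mem hP f hf, map_zero, zero_add]

theorem corr_invariant (f : G → A.V) (hf : ∀ g h : G, f (g * h) = A.ρ g (f h) + f g) (g : G) (p : P) :
    A.ρ (p : G) (corr A P hP f g) = corr A P hP f g := by
  have h1 : corr A P hP f ((p : G) * g) = A.ρ (p : G) (corr A P hP f g) := by
    rw [corr_mul hP f hf, corr_mem hP f hf, add_zero]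
  have h2 : (p : G) * g = g * ((⟨g⁻¹ * p * g, Subgroup.Normal.conj_mem' inferInstance _ p.2 g⟩ : P) : G) := by
    simp [mul_assoc]
  rw [← h1, h2, corr_mul_mem hP f hf]


theorem cocycle_cond (f : cocycles₁ A) : ∀ g h : G, f (g * h) = A.ρ g (f h) + f g :=
  (mem_cocycles₁_iff f).1 f.2

/-- the induced function on the quotient with values in the invariants -/
noncomputable def rFun (f : cocycles₁ A) : G ⧸ P → (A.quotientToInvariants P) :=
  fun x => ⟨corr A P hP f x.out, fun p => corr_invariant hP f (cocycle_cond f) x.out p⟩

theorem rFun_mk (f : cocycles₁ A) (g : G) :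
    ((rFun hP f (QuotientGroup.mk g) : (A.quotientToInvariants P)) : A.V) = corr A P hP f g := by
  obtain ⟨h, hh⟩ := QuotientGroup.mk_out_eq_mul P g
  change corr A P hP f (QuotientGroup.mk g : G ⧸ P).out = _
  rw [hh, corr_mul_mem hP f (cocycle_cond f)]

theorem rFun_mem (f : cocycles₁ A) : rFun hP f ∈ cocycles₁ (A.quotientToInvariants P) := by
  rw [mem_cocycles₁_iff]
  intro x y
  induction x using QuotientGroup.induction_on with
  | H g =>
    induction y using QuotientGroup.induction_on with
    | H h =>
      apply Subtype.ext
      rw [← QuotientGroup.mk_mul, rFun_mk]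
      change _ = A.ρ g ((rFun hP f (QuotientGroup.mk h) : (A.quotientToInvariants P)) : A.V) +
        ((rFun hP f (QuotientGroup.mk g) : (A.quotientToInvariants P)) : A.V)
      rw [rFun_mk, rFun_mk, corr_mul hP f (cocycle_cond f)]


/-- the retraction of inflation on 1-cocycles -/
noncomputable def rLin : cocycles₁ A →ₗ[k] cocycles₁ (A.quotientToInvariants P) where
  toFun f := ⟨rFun hP f, rFun_mem hP f⟩
  map_add' f f' := by
    apply cocycles₁_ext
    intro x
    induction x using QuotientGroup.induction_on with
    | H g =>
      apply Subtype.ext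
      change ((rFun hP (f + f') (QuotientGroup.mk g) : (A.quotientToInvariants P)) : A.V) =
        ((rFun hP f (QuotientGroup.mk g) : (A.quotientToInvariants P)) : A.V) +
        ((rFun hP f' (QuotientGroup.mk g) : (A.quotientToInvariants P)) : A.V)
      rw [rFun_mk, rFun_mk, rFun_mk]
      unfold corr
      have h1 : ((f + f' : cocycles₁ A) : G → A.V) = (f : G → A.V) + (f' : G → A.V) := rfl
      rw [h1, avg_add, map_add, Pi.add_apply]
      abel
  map_smul' c f := by
    apply cocycles₁_ext
    intro x
    induction x using QuotientGroup.induction_on with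
    | H g =>
      apply Subtype.ext
      change ((rFun hP (c • f) (QuotientGroup.mk g) : (A.quotientToInvariants P)) : A.V) =
        c • ((rFun hP f (QuotientGroup.mk g) : (A.quotientToInvariants P)) : A.V)
      rw [rFun_mk, rFun_mk]
      unfold corr
      have h1 : ((c • f : cocycles₁ A) : G → A.V) = c • (f : G → A.V) := rfl
      rw [h1, avg_smul, map_smul, Pi.smul_apply, smul_sub, smul_add]

end

/-- Let G be a group with a finite normal subgroup P, k a commutative ring and A a k-linear
representation of G such that multiplication by the order of P is a bijection of A. Then the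
inflation map on 1-cocycles (crossed homomorphisms) Z¹(G/P, A^P) → Z¹(G, A) has a k-linear left
inverse. (The published statement is for the inertia group of a Galois cover of smooth curves at a
point, its normal Sylow p-subgroup P and a module of n-torsion with n prime to p; the argument uses
only that the order of P acts invertibly, which is the hypothesis taken here.) -/
theorem result
    {k G : Type u} [CommRing k] [Group G] (A : Rep.{u} k G) (P : Subgroup G) [P.Normal] [Finite P]
    (hP : Function.Bijective fun a : A => (Nat.card P : k) • a) :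
    ∃ r : ModuleCat.of k (groupCohomology.cocycles₁ A) ⟶
        ModuleCat.of k (groupCohomology.cocycles₁ (A.quotientToInvariants P)),
      (groupCohomology.mapCocycles₁ (QuotientGroup.mk' P) (Rep.ofHom (A.ρ.quotientToInvariants_lift P)) :
          ModuleCat.of k (groupCohomology.cocycles₁ (A.quotientToInvariants P)) ⟶
            ModuleCat.of k (groupCohomology.cocycles₁ A)) ≫ r = 𝟙 _ := by
  classical
  letI : Fintype P := Fintype.ofFinite P
  have hP' : Function.Bijective fun a : A => (Fintype.card P : k) • a := by
    simpa [Nat.card_eq_fintype_card] using hP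
  refine ⟨ModuleCat.ofHom (rLin hP'), ?_⟩
  apply ModuleCat.hom_ext
  apply LinearMap.ext
  intro φ
  apply cocycles₁_ext
  intro x
  induction x using QuotientGroup.induction_on with
  | H g =>
    apply Subtype.ext
    set ψ : cocycles₁ A := (ModuleCat.Hom.hom (mapCocycles₁ (QuotientGroup.mk' P)
      (Rep.ofHom (A.ρ.quotientToInvariants_lift P)))) φ with hψ
    have hψ_apply : ∀ h : G,
        ψ h = ((φ (QuotientGroup.mk h) : (A.quotientToInvariants P)) : A.V) := fun h => rfl
    change ((rFun hP' ψ (QuotientGroup.mk g) : (A.quotientToInvariants P)) : A.V) =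
      ((φ (QuotientGroup.mk g) : (A.quotientToInvariants P)) : A.V)
    rw [rFun_mk]
    have havg : avg A P hP' ψ = 0 := by
      unfold avg
      have h0 : ∑ p : P, ψ (p : G) = 0 := by
        apply Finset.sum_eq_zero
        intro p _
        rw [hψ_apply]
        have h1 : (QuotientGroup.mk (p : G) : G ⧸ P) = 1 := (QuotientGroup.eq_one_iff _).mpr p.2
        rw [h1, cocycles₁_map_one]
        rfl
      rw [h0, map_zero]
    unfold corr
    rw [havg, map_zero, add_zero, sub_zero, hψ_apply]

end Groth.Agent.S14181
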