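import Groth.Statements.S14192
import Mathlib

set_option autoImplicit false
open PowerSeries
open StackCount

namespace Groth.Agent.S14192

/-- `E f = exp ∘ f`. -/
noncomputable def E (f : ℚ⟦X⟧) : ℚ⟦X⟧ := (PowerSeries.exp ℚ).subst f

lemma hs {f : ℚ⟦X⟧} (hf : constantCoeff f = 0) : HasSubst f :=
  HasSubst.of_constantCoeff_zero' hf

lemma constantCoeff_E {f : ℚ⟦X⟧} (hf : constantCoeff f = 0) : constantCoeff (E f) = 1 := by
  have h1 : PowerSeries.exp ℚ = (PowerSeries.exp ℚ - 1) + C 1 := by simp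
  unfold E
  rw [h1, subst_add (hs hf), map_add]
  have := constantCoeff_subst_eq_zero (S := ℚ) hf (PowerSeries.exp ℚ - 1) (by simp)
  erw [this]
  rw [← coe_substAlgHom (hs hf), map_one]
  simp

lemma derivative_E {f : ℚ⟦X⟧} (hf : constantCoeff f = 0) :
    d⁄dX ℚ (E f) = d⁄dX ℚ f * E f := by
  unfold E
  rw [derivative_subst (hs hf), derivative_exp, mul_comm]

lemma uniq {Φ Ψ h : ℚ⟦X⟧} (hΦ : d⁄dX ℚ Φ = h * Φ) (hΨ : d⁄dX ℚ Ψ = h * Ψ)
    (h0 : constantCoeff Φ = constantCoeff Ψ) : Φ = Ψ := by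
  have key : ∀ D : ℚ⟦X⟧, d⁄dX ℚ D = h * D → constantCoeff D = 0 → ∀ n, coeff n D = 0 := by
    intro D hD h0 n
    induction n using Nat.strong_induction_on with
    | _ n ih =>
      cases n with
      | zero => simpa using h0
      | succ n =>
        have h1 : coeff n (d⁄dX ℚ D) = coeff (n+1) D * (n+1) := coeff_derivative D n
        rw [hD, coeff_mul] at h1
        have h2 : ∑ p ∈ Finset.HasAntidiagonal.antidiagonal n, coeff p.1 h * coeff p.2 D = 0 := by
          apply Finset.sum_eq_zero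
          intro p hp
          rw [ih p.2 (by have := Finset.HasAntidiagonal.mem_antidiagonal.mp hp; omega), mul_zero]
        rw [h2] at h1
        have h3 : ((n:ℚ)+1) ≠ 0 := by positivity
        rcases mul_eq_zero.mp h1.symm with h | h
        · exact h
        · exact absurd h h3
  have := key (Φ - Ψ) (by rw [map_sub, hΦ, hΨ, mul_sub]) (by rw [map_sub, h0, sub_self])
  ext n
  have := this n
  rw [map_sub] at this
  exact sub_eq_zero.mp this

lemma E_add {f g : ℚ⟦X⟧} (hf : constantCoeff f = 0) (hg : constantCoeff g = 0) :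
    E (f + g) = E f * E g := by
  have hfg : constantCoeff (f + g) = 0 := by rw [map_add, hf, hg, add_zero]
  apply uniq (h := d⁄dX ℚ f + d⁄dX ℚ g)
  · rw [derivative_E hfg, map_add]
  · rw [Derivation.leibniz, derivative_E hf, derivative_E hg]
    simp only [smul_eq_mul]
    ring
  · rw [map_mul, constantCoeff_E hf, constantCoeff_E hg, constantCoeff_E hfg, mul_one]

lemma E_zero : E 0 = 1 := by
  unfold E
  rw [subst_zero_eq_C_constantCoeff]
  simp

lemma E_neg {f : ℚ⟦X⟧} (hf : constantCoeff f = 0) : E (-f) * E f = 1 := by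
  rw [← E_add (by rw [map_neg, hf, neg_zero]) hf, neg_add_cancel, E_zero]

lemma E_nsmul {f : ℚ⟦X⟧} (hf : constantCoeff f = 0) (m : ℕ) : E (m • f) = E f ^ m := by
  induction m with
  | zero => simp [E_zero]
  | succ m ih =>
    rw [succ_nsmul, E_add (by simp [hf]) hf, ih, pow_succ]

lemma E_sum {ι : Type*} (s : Finset ι) (f : ι → ℚ⟦X⟧) (hf : ∀ i ∈ s, constantCoeff (f i) = 0) :
    E (∑ i ∈ s, f i) = ∏ i ∈ s, E (f i) := by
  classical
  induction s using Finset.induction_on with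
  | empty => simp [E_zero]
  | insert a s ha ih =>
    rw [Finset.sum_insert ha, Finset.prod_insert ha, E_add (hf a (Finset.mem_insert_self a s)),
      ih (fun i hi => hf i (Finset.mem_insert_of_mem hi))]
    rw [map_sum]
    exact Finset.sum_eq_zero (fun i hi => hf i (Finset.mem_insert_of_mem hi))

/-- the log series `-log(1 - aX)`. -/
noncomputable def ℓ (a : ℚ) : ℚ⟦X⟧ := PowerSeries.mk fun v : ℕ => if v = 0 then (0:ℚ) else a ^ v / v

lemma constantCoeff_ℓ (a : ℚ) : constantCoeff (ℓ a) = 0 := by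
  rw [← coeff_zero_eq_constantCoeff_apply, ℓ, coeff_mk]; simp

lemma derivative_ℓ (a : ℚ) : d⁄dX ℚ (ℓ a) * (1 - C a * X) = C a := by
  have h1 : d⁄dX ℚ (ℓ a) = PowerSeries.mk fun n => a ^ (n+1) := by
    ext n
    rw [coeff_derivative, ℓ, coeff_mk, coeff_mk, if_neg (Nat.succ_ne_zero n)]
    have : ((n:ℚ)+1) ≠ 0 := by positivity
    push_cast
    field_simp
  rw [h1, mul_sub, mul_one]
  ext n
  rw [map_sub, coeff_mk, mul_comm (C a) X, ← mul_assoc, coeff_mul_C, coeff_C]
  cases n with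
  | zero => simp
  | succ n => rw [coeff_succ_mul_X, coeff_mk]; simp; ring

lemma E_ℓ (a : ℚ) : E (ℓ a) * (1 - C a * X) = 1 := by
  apply derivative.ext
  · rw [Derivation.leibniz, derivative_E (constantCoeff_ℓ a), Derivation.map_one_eq_zero]
    have : d⁄dX ℚ (1 - C a * X : ℚ⟦X⟧) = - C a := by
      rw [map_sub, Derivation.map_one_eq_zero, Derivation.leibniz]
      simp
    rw [this]
    simp only [smul_eq_mul]
    have := derivative_ℓ a
    linear_combination (E (ℓ a)) * this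
  · rw [map_mul, constantCoeff_E (constantCoeff_ℓ a)]
    simp

lemma E_zsmul_ℓ (a : ℚ) (r : ℤ) :
    E ((r : ℚ) • ℓ a) * (1 - C a * X) ^ r.toNat = (1 - C a * X) ^ (-r).toNat := by
  have hc := constantCoeff_ℓ a
  rcases le_or_gt 0 r with hr | hr
  · obtain ⟨m, rfl⟩ := Int.eq_ofNat_of_zero_le hr
    have h1 : (-(m:ℤ)).toNat = 0 := by omega
    rw [h1, pow_zero, Int.toNat_natCast]
    have : (((m:ℤ) : ℚ)) • ℓ a = m • ℓ a := by
      rw [Int.cast_natCast, Nat.cast_smul_eq_nsmul]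
    rw [this, E_nsmul hc, ← mul_pow, E_ℓ, one_pow]
  · obtain ⟨m, rfl⟩ : ∃ m : ℕ, r = -(m:ℤ) := ⟨(-r).toNat, by omega⟩
    have h1 : (-(m:ℤ)).toNat = 0 := by omega
    rw [h1, pow_zero, mul_one, neg_neg, Int.toNat_natCast]
    have h2 : (((-(m:ℤ) : ℤ) : ℚ)) • ℓ a = - (m • ℓ a) := by
      rw [Int.cast_neg, Int.cast_natCast, neg_smul, Nat.cast_smul_eq_nsmul]
    have hc' : constantCoeff (m • ℓ a) = 0 := by simp [hc]
    rw [h2]
    calc E (-(m • ℓ a)) = E (-(m • ℓ a)) * (E (m • ℓ a) * (1 - C a * X) ^ m) := by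
          rw [E_nsmul hc, ← mul_pow, E_ℓ, one_pow, mul_one]
      _ = (1 - C a * X) ^ m := by rw [← mul_assoc, E_neg hc', one_mul]


/-- Let R = Σ_n r_n X^n be a Laurent polynomial with integer coefficients and q > 1 an integer. In the
ring of formal power series in t over ℚ, the exponential of Σ_{v ≥ 1} R(q^v) t^v / v equals the
finite product Π_n (1 - q^n t)^(-r_n). Stated here with denominators cleared: the exponential series
multiplied by Π_{n : r_n > 0} (1 - q^n t)^(r_n) equals Π_{n : r_n < 0} (1 - q^n t)^(-r_n) (each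
factor 1 - q^n t is a unit, so this is equivalent). -/
theorem result (R : LaurentPolynomial ℤ) (q : ℤ) (hq : 1 < q) :
    (PowerSeries.exp ℚ).subst
        (PowerSeries.mk fun v : ℕ => if v = 0 then (0 : ℚ)
          else (R.coeff.sum fun (n : ℤ) (r : ℤ) => (r : ℚ) * (q : ℚ) ^ (n * (v : ℤ))) / (v : ℚ))
      * ∏ n ∈ R.coeff.support, (1 - PowerSeries.C ((q : ℚ) ^ n) * PowerSeries.X) ^ (R.coeff n).toNat
    = ∏ n ∈ R.coeff.support, (1 - PowerSeries.C ((q : ℚ) ^ n) * PowerSeries.X) ^ (-(R.coeff n)).toNat := by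
  have hL : (PowerSeries.mk fun v : ℕ => if v = 0 then (0 : ℚ)
          else (R.coeff.sum fun (n : ℤ) (r : ℤ) => (r : ℚ) * (q : ℚ) ^ (n * (v : ℤ))) / (v : ℚ))
      = ∑ n ∈ R.coeff.support, ((R.coeff n : ℤ) : ℚ) • ℓ ((q : ℚ) ^ n) := by
    ext v
    rw [coeff_mk, map_sum]
    simp only [coeff_smul, ℓ, coeff_mk, smul_eq_mul]
    split_ifs with hv
    · simp
    · rw [Finsupp.sum, Finset.sum_div]
      refine Finset.sum_congr rfl fun n _ => ?_
      rw [zpow_mul, zpow_natCast, mul_div_assoc]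
  rw [hL]
  change E _ * _ = _
  rw [E_sum _ _ (fun i _ => by
    rw [← coeff_zero_eq_constantCoeff_apply, coeff_smul, coeff_zero_eq_constantCoeff_apply,
      constantCoeff_ℓ, smul_zero]), ← Finset.prod_mul_distrib]
  exact Finset.prod_congr rfl fun n _ => E_zsmul_ℓ _ _

end Groth.Agent.S14192
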