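import Mathlib
import Groth.Statements.S14195

set_option autoImplicit false
universe u v
open StackCount

namespace Groth.Agent.S14195

universe w
set_option linter.unusedSectionVars false
set_option linter.style.haveILetI false
open GpH1

section
variable {k : Type u} [Field k] [Finite k] {L : Type w} [Field L] [Algebra k L]
  (π : L ≃ₐ[k] L) (hπ : ∀ x : L, π x = x ^ Nat.card k)

include hπ in
lemma pi_pow_apply (n : ℕ) (x : L) : (π ^ n) x = x ^ (Nat.card k ^ n) := by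
  induction n generalizing x with
  | zero => simp
  | succ n ih =>
    rw [pow_succ, AlgEquiv.mul_apply, hπ, ih, ← pow_mul, pow_succ, mul_comm]

include hπ in
lemma pi_comm (σ : L ≃ₐ[k] L) : Commute σ π := by
  ext x
  simp [AlgEquiv.mul_apply, hπ, map_pow]

include hπ in
lemma dense_pow [Algebra.IsAlgebraic k L] (σ : L ≃ₐ[k] L) (U : Set (L ≃ₐ[k] L))
    (hU : IsOpen U) (hσ : σ ∈ U) : ∃ n : ℕ, π ^ n ∈ U := by
  classical
  cases nonempty_fintype k
  have h1 : (fun τ => σ * τ) ⁻¹' U ∈ nhds (1 : L ≃ₐ[k] L) := by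
    apply (continuous_const_mul σ).continuousAt.preimage_mem_nhds
    rw [mul_one]; exact hU.mem_nhds hσ
  obtain ⟨E, hEfin, hE⟩ := (krullTopology_mem_nhds_one_iff k L _).mp h1
  haveI := hEfin
  haveI : Finite E := Module.finite_of_finite k
  obtain ⟨n, hn⟩ :=
    (FiniteField.bijective_frobeniusAlgEquivOfAlgebraic_pow k E).2 (σ.restrictNormal E)
  refine ⟨n.1, ?_⟩
  have hfrob : ∀ y : E, (FiniteField.frobeniusAlgEquivOfAlgebraic k E) y = y ^ Nat.card k := by
    intro y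
    rw [Nat.card_eq_fintype_card]
    rfl
  have hmem : σ⁻¹ * π ^ n.1 ∈ E.fixingSubgroup := by
    rw [IntermediateField.mem_fixingSubgroup_iff]
    intro x hx
    have e1 := AlgEquiv.restrictNormal_commutes σ E ⟨x, hx⟩
    have e2 : (σ.restrictNormal E) ⟨x, hx⟩ = (⟨x, hx⟩ : E) ^ (Nat.card k ^ n.1) := by
      have := pi_pow_apply (FiniteField.frobeniusAlgEquivOfAlgebraic k E) hfrob n.1 ⟨x, hx⟩
      rw [← this]
      exact (DFunLike.congr_fun hn _).symm
    rw [e2] at e1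
    have e3 : (π ^ n.1) x = σ x := by
      rw [pi_pow_apply π hπ]
      simpa using e1
    rw [AlgEquiv.mul_apply, e3]
    exact σ.symm_apply_apply x
  have := hE hmem
  simpa using this

end

section coc
variable {G : Type u} {A : Type v} [Group G] [Group A] [MulDistribMulAction G A]

lemma cocycle_one (z : OneCocycle G A) : z 1 = 1 := by
  have := z.2 1 1
  rw [mul_one, one_smul] at this
  exact (mul_left_cancel (a := z 1) (by rw [mul_one]; exact this)).symm

lemma cocycle_pow_eq (z z' : OneCocycle G A) (g : G) (h : z g = z' g) (n : ℕ) :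
    z (g ^ n) = z' (g ^ n) := by
  induction n with
  | zero => simp [cocycle_one]
  | succ n ih => rw [pow_succ, z.2, z'.2, ih, h]

end coc

section
variable {k : Type u} [Field k] [Finite k] {L : Type w} [Field L] [Algebra k L]
  (π : L ≃ₐ[k] L) (hπ : ∀ x : L, π x = x ^ Nat.card k)
  {A : Type v} [Group A] [MulDistribMulAction (L ≃ₐ[k] L) A]

include hπ in
lemma inj [Algebra.IsAlgebraic k L] (z z' : OneCocycleLC (L ≃ₐ[k] L) A) (h : z.1 π = z'.1 π) :
    z = z' := by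
  apply Subtype.ext
  apply OneCocycle.ext
  intro σ
  have hU : IsOpen ({τ | z.1 τ = z.1 σ} ∩ {τ | z'.1 τ = z'.1 σ}) :=
    (z.2.isOpen_fiber _).inter (z'.2.isOpen_fiber _)
  obtain ⟨n, hn⟩ := dense_pow π hπ σ _ hU ⟨rfl, rfl⟩
  rw [← hn.1, ← hn.2]
  exact cocycle_pow_eq z.1 z'.1 π h n

end
section surj
variable {k : Type u} [Field k] [Finite k] {L : Type w} [Field L] [Algebra k L]
  (π : L ≃ₐ[k] L) (hπ : ∀ x : L, π x = x ^ Nat.card k)
  {A : Type v} [Group A] [MulDistribMulAction (L ≃ₐ[k] L) A]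

/-- partial norms -/
def Nrm (a : A) : ℕ → A
  | 0 => 1
  | n+1 => Nrm a n * (π ^ n) • a

lemma Nrm_add (a : A) (n n' : ℕ) : Nrm π a (n + n') = Nrm π a n * (π ^ n) • Nrm π a n' := by
  induction n' with
  | zero => simp [Nrm]
  | succ j ih => rw [← add_assoc, Nrm, ih, Nrm, smul_mul', mul_assoc, ← mul_smul, ← pow_add]

lemma Nrm_mem (H : Subgroup A) (hH : ∀ (σ : L ≃ₐ[k] L) (x : A), x ∈ H → σ • x ∈ H) (a : A)
    (ha : a ∈ H) (n : ℕ) : Nrm π a n ∈ H := by
  induction n with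
  | zero => exact H.one_mem
  | succ n ih => exact H.mul_mem ih (hH _ _ ha)

include hπ in
lemma exists_zeta [IsAlgClosed L] (M : ℕ) (hM : 0 < M) :
    ∃ ζ : L, ∀ j : ℕ, (π ^ j) ζ = ζ → M ∣ j := by
  cases nonempty_fintype k
  set q := Nat.card k with hq
  have hq2 : 2 ≤ q := by
    rw [hq, Nat.card_eq_fintype_card]; exact Fintype.one_lt_card
  have hqM : 2 ≤ q ^ M := le_trans hq2 (Nat.le_self_pow hM.ne' q)
  have hne : NeZero ((q ^ M - 1 : ℕ) : L) := by
    constructor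
    have hqL : (q : L) = 0 := by
      have h0 : ((Fintype.card k : ℕ) : k) = 0 := FiniteField.cast_card_eq_zero k
      rw [hq, Nat.card_eq_fintype_card]
      have h00 : (algebraMap k L) ((Fintype.card k : ℕ) : k) = 0 := by rw [h0, map_zero]
      rwa [map_natCast] at h00
    rw [Nat.cast_sub (by omega), Nat.cast_pow, hqL, zero_pow hM.ne']
    simp
  obtain ⟨ζ, hζ⟩ := HasEnoughRootsOfUnity.exists_primitiveRoot L (q ^ M - 1)
  refine ⟨ζ, fun j hj => ?_⟩
  rw [pi_pow_apply π hπ] at hj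
  have hζ0 : ζ ≠ 0 := hζ.ne_zero (by omega)
  have hqj : 1 ≤ q ^ j := Nat.one_le_pow _ _ (by omega)
  have h1 : ζ ^ (q ^ j - 1) = 1 := by
    have h : ζ ^ (q ^ j - 1) * ζ = 1 * ζ := by
      rw [← pow_succ, Nat.sub_add_cancel hqj, one_mul]; exact hj
    exact mul_right_cancel₀ hζ0 h
  have h2 : q ^ M - 1 ∣ q ^ j - 1 := (hζ.pow_eq_one_iff_dvd _).mp h1
  have h3 : Nat.gcd (q ^ M - 1) (q ^ j - 1) = q ^ M - 1 := Nat.gcd_eq_left h2
  rw [Nat.pow_sub_one_gcd_pow_sub_one] at h3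
  have h4 : q ^ Nat.gcd M j = q ^ M := by
    have := Nat.one_le_pow (Nat.gcd M j) q (by omega)
    omega
  have h5 : Nat.gcd M j = M := Nat.pow_right_injective hq2 h4
  rw [← h5]; exact Nat.gcd_dvd_right M j

include hπ in
lemma surj [IsAlgClosed L] [Algebra.IsAlgebraic k L]
    (hcont : ∀ a : A, IsOpen {σ : L ≃ₐ[k] L | σ • a = a})
    (hfin : ∀ a : A, ∃ H : Subgroup A, (H : Set A).Finite ∧ a ∈ H ∧
      ∀ (σ : L ≃ₐ[k] L) (x : A), x ∈ H → σ • x ∈ H)
    (a : A) : ∃ z : OneCocycleLC (L ≃ₐ[k] L) A, z.1 π = a := by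
  classical
  obtain ⟨H, hHfin, haH, hHst⟩ := hfin a
  haveI : Finite H := hHfin.to_subtype
  -- m: π^m acts trivially on H
  obtain ⟨m, hm0, hm⟩ : ∃ m : ℕ, 0 < m ∧ ∀ h ∈ H, (π ^ m) • h = h := by
    let f : H → H := fun h => ⟨π • (h : A), hHst π h h.2⟩
    have hf : Function.Injective f := fun x y hxy =>
      Subtype.ext (MulAction.injective π (congrArg Subtype.val hxy))
    let e : Equiv.Perm H := Equiv.ofBijective f (Finite.injective_iff_bijective.mp hf)
    have key : ∀ (n : ℕ) (x : H), ((e ^ n) x : A) = (π ^ n) • (x : A) := by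
      intro n
      induction n with
      | zero => intro x; simp
      | succ n ih =>
        intro x
        rw [pow_succ, Equiv.Perm.mul_apply, ih, pow_succ, mul_smul]
        rfl
    refine ⟨orderOf e, orderOf_pos e, fun h hh => ?_⟩
    have h1 : (e ^ orderOf e) ⟨h, hh⟩ = ⟨h, hh⟩ := by rw [pow_orderOf_eq_one]; rfl
    have h2 := congrArg Subtype.val h1
    rw [key] at h2
    exact h2
  have hmj : ∀ (j : ℕ), ∀ h ∈ H, (π ^ (m * j)) • h = h := by
    intro j
    induction j with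
    | zero => intro h _; simp
    | succ j ih =>
      intro h hh
      rw [Nat.mul_succ, pow_add, mul_smul, hm h hh, ih h hh]
  have hNH : ∀ n, Nrm π a n ∈ H := Nrm_mem π H hHst a haH
  set b := Nrm π a m with hb
  have hbH : b ∈ H := hNH m
  have hNmj : ∀ j : ℕ, Nrm π a (m * j) = b ^ j := by
    intro j
    induction j with
    | zero => simp [Nrm]
    | succ j ih => rw [Nat.mul_succ, Nrm_add, ih, hmj j b hbH, pow_succ]
  obtain ⟨e, he0, he⟩ : ∃ e : ℕ, 0 < e ∧ b ^ e = 1 := by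
    refine ⟨orderOf (⟨b, hbH⟩ : H), orderOf_pos _, ?_⟩
    have := pow_orderOf_eq_one (⟨b, hbH⟩ : H)
    exact congrArg Subtype.val this
  set M := m * e with hM
  have hM0 : 0 < M := Nat.mul_pos hm0 he0
  have hNM : Nrm π a M = 1 := by rw [hM, hNmj, he]
  have hper : ∀ (n t : ℕ), Nrm π a (n + M * t) = Nrm π a n := by
    intro n t
    induction t with
    | zero => simp
    | succ t ih => rw [Nat.mul_succ, ← add_assoc, Nrm_add, hNM, smul_one, mul_one, ih]
  obtain ⟨ζ, hζ⟩ := exists_zeta π hπ M hM0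
  -- the open subgroup V
  let V : Subgroup (L ≃ₐ[k] L) :=
    { carrier := {σ | σ ζ = ζ ∧ ∀ h ∈ H, σ • h = h}
      mul_mem' := by
        rintro σ τ ⟨h1, h2⟩ ⟨h3, h4⟩
        refine ⟨by rw [AlgEquiv.mul_apply, h3, h1], fun h hh => ?_⟩
        rw [mul_smul, h4 h hh, h2 h hh]
      one_mem' := ⟨rfl, fun h _ => one_smul _ h⟩
      inv_mem' := by
        rintro σ ⟨h1, h2⟩
        refine ⟨?_, fun h hh => ?_⟩
        · have : σ⁻¹ (σ ζ) = ζ := σ.symm_apply_apply ζ
          rwa [h1] at this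
        · have : σ⁻¹ • σ • h = h := inv_smul_smul σ h
          rwa [h2 h hh] at this }
  have hVmem : ∀ σ, σ ∈ V ↔ (σ ζ = ζ ∧ ∀ h ∈ H, σ • h = h) := fun σ => Iff.rfl
  have hVopen : IsOpen (V : Set (L ≃ₐ[k] L)) := by
    haveI : Algebra.IsIntegral k L := Algebra.IsAlgebraic.isIntegral
    have h1 : IsOpen {σ : L ≃ₐ[k] L | σ ζ = ζ} := by
      have := stabilizer_isOpen_of_isIntegral (K := k) (L := L) ζ
      convert this using 1
      ext σ
      simp [MulAction.mem_stabilizer_iff, AlgEquiv.smul_def]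
    have h2 : IsOpen (⋂ h ∈ (H : Set A), {σ : L ≃ₐ[k] L | σ • h = h}) :=
      hHfin.isOpen_biInter (fun h _ => hcont h)
    have h3 : (V : Set (L ≃ₐ[k] L)) =
        {σ : L ≃ₐ[k] L | σ ζ = ζ} ∩ ⋂ h ∈ (H : Set A), {σ : L ≃ₐ[k] L | σ • h = h} := by
      ext σ
      simp only [SetLike.mem_coe, hVmem, Set.mem_inter_iff, Set.mem_ofPred_eq, Set.mem_iInter]
    rw [h3]
    exact h1.inter h2
  -- choice of exponents
  have hex : ∀ σ : L ≃ₐ[k] L, ∃ n : ℕ, σ⁻¹ * π ^ n ∈ V := by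
    intro σ
    have hopen : IsOpen {τ : L ≃ₐ[k] L | σ⁻¹ * τ ∈ V} :=
      hVopen.preimage (continuous_const_mul σ⁻¹)
    exact dense_pow π hπ σ _ hopen (by simp [V.one_mem])
  choose n hn using hex
  -- power of π in V
  have hpowV : ∀ d : ℕ, π ^ d ∈ V → M ∣ d := fun d hd => hζ d hd.1
  have key : ∀ (σ : L ≃ₐ[k] L) (j : ℕ), σ⁻¹ * π ^ j ∈ V → Nrm π a j = Nrm π a (n σ) := by
    intro σ j hj
    rcases le_total j (n σ) with hle | hle
    · obtain ⟨d, hd⟩ := Nat.exists_eq_add_of_le hle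
      have : π ^ d ∈ V := by
        have h1 := V.mul_mem (V.inv_mem hj) (hn σ)
        have h2 : (σ⁻¹ * π ^ j)⁻¹ * (σ⁻¹ * π ^ n σ) = π ^ d := by
          rw [hd, pow_add]; group
        rwa [h2] at h1
      obtain ⟨t, rfl⟩ := hpowV d this
      rw [hd, hper]
    · obtain ⟨d, hd⟩ := Nat.exists_eq_add_of_le hle
      have : π ^ d ∈ V := by
        have h1 := V.mul_mem (V.inv_mem (hn σ)) hj
        have h2 : (σ⁻¹ * π ^ n σ)⁻¹ * (σ⁻¹ * π ^ j) = π ^ d := by
          rw [hd, pow_add]; group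
        rwa [h2] at h1
      obtain ⟨t, rfl⟩ := hpowV d this
      rw [hd, hper]
  have hzH : ∀ σ, Nrm π a (n σ) ∈ H := fun σ => hNH _
  have hcoc : IsOneCocycle (fun σ : L ≃ₐ[k] L => Nrm π a (n σ)) := by
    intro σ τ
    have hv : σ⁻¹ * π ^ n σ ∈ V := hn σ
    have hmem : (σ * τ)⁻¹ * π ^ (n σ + n τ) ∈ V := by
      have hc : Commute (σ⁻¹ * π ^ n σ) (π ^ n τ) :=
        (pi_comm π hπ (σ⁻¹ * π ^ n σ)).pow_right _
      have h2 : (σ * τ)⁻¹ * π ^ (n σ + n τ) = (τ⁻¹ * π ^ n τ) * (σ⁻¹ * π ^ n σ) := by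
        rw [mul_assoc (τ⁻¹), ← hc.eq, pow_add]; group
      rw [h2]
      exact V.mul_mem (hn τ) hv
    show Nrm π a (n (σ * τ)) = Nrm π a (n σ) * σ • Nrm π a (n τ)
    rw [← key (σ * τ) _ hmem, Nrm_add]
    congr 1
    have h3 : π ^ n σ = σ * (σ⁻¹ * π ^ n σ) := by group
    rw [h3, mul_smul, hv.2 _ (hzH τ)]
  have hlc : IsLocallyConstant (fun σ : L ≃ₐ[k] L => Nrm π a (n σ)) := by
    rw [IsLocallyConstant.iff_exists_open]
    intro σ
    refine ⟨{τ : L ≃ₐ[k] L | σ⁻¹ * τ ∈ V}, hVopen.preimage (continuous_const_mul σ⁻¹),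
      by simp [V.one_mem], fun τ hτ => ?_⟩
    have h1 : τ⁻¹ * π ^ n σ ∈ V := by
      have h2 : τ⁻¹ * π ^ n σ = (σ⁻¹ * τ)⁻¹ * (σ⁻¹ * π ^ n σ) := by group
      rw [h2]
      exact V.mul_mem (V.inv_mem hτ) (hn σ)
    exact (key τ _ h1).symm
  refine ⟨⟨⟨_, hcoc⟩, hlc⟩, ?_⟩
  show Nrm π a (n π) = a
  have h1 : π⁻¹ * π ^ 1 ∈ V := by simp [V.one_mem]
  rw [← key π 1 h1]
  simp [Nrm]

end surj

section part2
variable {k : Type u} [Field k] [Finite k] {L : Type w} [Field L] [Algebra k L]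
  (π : L ≃ₐ[k] L) (hπ : ∀ x : L, π x = x ^ Nat.card k)
  {A : Type v} [Group A] [MulDistribMulAction (L ≃ₐ[k] L) A]

lemma lc_smul (hcont : ∀ a : A, IsOpen {σ : L ≃ₐ[k] L | σ • a = a}) (g : A) :
    IsLocallyConstant (fun σ : L ≃ₐ[k] L => σ • g) := by
  rw [IsLocallyConstant.iff_exists_open]
  intro σ
  refine ⟨{τ : L ≃ₐ[k] L | (σ⁻¹ * τ) • g = g}, (hcont g).preimage (continuous_const_mul σ⁻¹),
    by simp, fun τ hτ => ?_⟩
  have h : τ = σ * (σ⁻¹ * τ) := by group
  show τ • g = σ • g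
  rw [h, mul_smul]
  exact congrArg (σ • ·) hτ

include hπ in
lemma part2 [Algebra.IsAlgebraic k L] (hcont : ∀ a : A, IsOpen {σ : L ≃ₐ[k] L | σ • a = a})
    (z z' : OneCocycleLC (L ≃ₐ[k] L) A) :
    z.cl = z'.cl ↔ ∃ g : A, z'.1 π = g * z.1 π * (π • g)⁻¹ := by
  rw [OneCocycleLC.cl_eq_cl_iff]
  constructor
  · rintro ⟨c, hc⟩
    refine ⟨c, ?_⟩
    rw [hc π]; group
  · rintro ⟨g, hg⟩
    have hcoc : IsOneCocycle (fun σ : L ≃ₐ[k] L => g⁻¹ * z'.1 σ * σ • g) := by
      intro σ τ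
      show g⁻¹ * z'.1 (σ * τ) * (σ * τ) • g = g⁻¹ * z'.1 σ * σ • g * σ • (g⁻¹ * z'.1 τ * τ • g)
      rw [z'.1.2 σ τ, smul_mul', smul_mul', smul_inv', mul_smul]
      group
    have hlc : IsLocallyConstant (fun σ : L ≃ₐ[k] L => g⁻¹ * z'.1 σ * σ • g) :=
      ((IsLocallyConstant.const g⁻¹).mul z'.2).mul (lc_smul hcont g)
    let w : OneCocycleLC (L ≃ₐ[k] L) A := ⟨⟨_, hcoc⟩, hlc⟩
    have hw : w.1 π = z.1 π := by
      show g⁻¹ * z'.1 π * π • g = z.1 π
      rw [hg]; group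
    have := inj π hπ w z hw
    refine ⟨g, fun σ => ?_⟩
    rw [← this]

end part2


/-- Let k be a finite field, k̄ an algebraic closure, Γ = Aut(k̄/k) with the Krull topology and π ∈ Γ
the Frobenius x ↦ x^(#k). Let A be a group on which Γ acts by group automorphisms, with open
stabilisers, such that every element of A lies in a finite Γ-stable subgroup. Then z ↦ z(π) is a
bijection from the locally constant 1-cocycles Γ → A (the continuous cocycles for discrete A) onto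
A, and two such cocycles z, z' are cohomologous if and only if z'(π) = g · z(π) · (π g)^(-1) for
some g in A; hence it induces a bijection of the continuous first cohomology set with the quotient
of A by the twisted conjugation g · x = g x (π g)^(-1). (The published statement takes A to be the
group of k̄-points of a smooth algebraic group over k with its Galois action; this row assumes only
the two properties of that action which the proof uses.) -/
theorem result (k : Type u) [Field k] [Finite k]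
    (π : AlgebraicClosure k ≃ₐ[k] AlgebraicClosure k)
    (hπ : ∀ x : AlgebraicClosure k, π x = x ^ Nat.card k)
    (A : Type v) [Group A] [MulDistribMulAction (AlgebraicClosure k ≃ₐ[k] AlgebraicClosure k) A]
    (hcont : ∀ a : A, IsOpen {σ : AlgebraicClosure k ≃ₐ[k] AlgebraicClosure k | σ • a = a})
    (hfin : ∀ a : A, ∃ H : Subgroup A, (H : Set A).Finite ∧ a ∈ H ∧
      ∀ (σ : AlgebraicClosure k ≃ₐ[k] AlgebraicClosure k) (x : A), x ∈ H → σ • x ∈ H) :
    Function.Bijective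
        (fun z : GpH1.OneCocycleLC (AlgebraicClosure k ≃ₐ[k] AlgebraicClosure k) A => z.1 π) ∧
      ∀ z z' : GpH1.OneCocycleLC (AlgebraicClosure k ≃ₐ[k] AlgebraicClosure k) A,
        z.cl = z'.cl ↔ ∃ g : A, z'.1 π = g * z.1 π * (π • g)⁻¹ := by
  refine ⟨⟨fun z z' h => inj π hπ z z' h, fun a => surj π hπ hcont hfin a⟩, fun z z' => ?_⟩
  exact part2 π hπ hcont z z'

end Groth.Agent.S14195
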