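import Groth.Statements.S14253
import Groth.Agent.H72.PerfUH

set_option autoImplicit false
set_option linter.style.haveILetI false
universe u
open CategoryTheory AlgebraicGeometry
open PerfSch

namespace Groth.Agent.S14253

/-- A universal homeomorphism f : X ⟶ Y between perfect schemes of prime characteristic p (on every open
of X and of Y, p = 0 in the ring of sections and the p-th power map is bijective) is an isomorphism. -/
theorem result (p : ℕ) [Fact p.Prime] {X Y : Scheme.{u}} (f : X ⟶ Y)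
    (hX : PerfSch.IsPerfect p X) (hY : PerfSch.IsPerfect p Y) (hf : FlatMor.IsUnivHomeo f) : IsIso f := by
  obtain ⟨h1, h2, h3⟩ := (Groth.Agent.H72.Perf.isUnivHomeo_iff f).mp hf
  haveI := h1
  haveI := h2
  haveI := h3
  have hhomeo : IsHomeomorph f := Groth.Agent.H72.Perf.isHomeomorph_of_univ f
  haveI : IsAffineHom f := isAffineHom_of_isInducing f hhomeo.isInducing
    (by rw [hhomeo.surjective.range_eq]; exact isClosed_univ)
  rw [← MorphismProperty.isomorphisms.iff,
    HasAffineProperty.eq_targetAffineLocally (MorphismProperty.isomorphisms Scheme)]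
  intro U
  have hUaff : IsAffineOpen (f ⁻¹ᵁ U.1) := U.2.preimage f
  haveI : IsAffine (U.1 : Scheme) := U.2
  haveI : IsAffine ((f ⁻¹ᵁ U.1 : X.Opens) : Scheme) := hUaff
  refine ⟨hUaff, ?_⟩
  rw [ConcreteCategory.isIso_iff_bijective]
  -- the restriction is a universal homeomorphism between affine schemes
  haveI : (FlatMor.IsUnivHomeo : MorphismProperty Scheme.{u}).IsStableUnderBaseChange := by
    unfold FlatMor.IsUnivHomeo; infer_instance
  haveI : (FlatMor.IsUnivHomeo : MorphismProperty Scheme.{u}).RespectsIso := by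
    unfold FlatMor.IsUnivHomeo; infer_instance
  have hres : FlatMor.IsUnivHomeo (f ∣_ U.1) :=
    MorphismProperty.of_isPullback (P := FlatMor.IsUnivHomeo)
      (isPullback_morphismRestrict f U.1).flip hf
  have hSpec : FlatMor.IsUnivHomeo (Spec.map (f ∣_ U.1).appTop) :=
    ((FlatMor.IsUnivHomeo).arrow_mk_iso_iff (arrowIsoSpecΓOfIsAffine (f ∣_ U.1))).mp hres
  rcases isEmpty_or_nonempty (U.1 : Scheme) with hE | hN
  · -- both rings of sections are zero
    haveI : IsEmpty ((f ⁻¹ᵁ U.1 : X.Opens) : Scheme) := ⟨fun x => hE.false ((f ∣_ U.1) x)⟩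
    have hsub : ∀ (Z : Scheme.{u}) [IsEmpty Z], Subsingleton Γ(Z, ⊤) := by
      intro Z _
      have : (⊤ : Z.Opens) = ⊥ := by
        rw [eq_bot_iff]; intro x _; exact (IsEmpty.false x).elim
      rw [this]
      exact CommRingCat.subsingleton_of_isTerminal (Z.sheaf.isTerminalOfEqEmpty rfl)
    haveI := hsub (U.1 : Scheme)
    haveI := hsub ((f ⁻¹ᵁ U.1 : X.Opens) : Scheme)
    exact ⟨fun a b _ => Subsingleton.elim a b, fun b => ⟨0, Subsingleton.elim _ _⟩⟩
  · haveI : Nonempty ((f ⁻¹ᵁ U.1 : X.Opens) : Scheme) := by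
      obtain ⟨y⟩ := hN
      obtain ⟨x, hx⟩ := h3.surj y.1
      exact ⟨⟨x, by show f x ∈ U.1; rw [hx]; exact y.2⟩⟩
    have hnt : ∀ (Z : Scheme.{u}) [Nonempty Z], Nontrivial Γ(Z, ⊤) := by
      intro Z hZ
      haveI : Nonempty (⊤ : Z.Opens) := by
        obtain ⟨x⟩ := hZ
        exact ⟨⟨x, trivial⟩⟩
      exact Scheme.component_nontrivial Z ⊤
    haveI := hnt (U.1 : Scheme)
    haveI := hnt ((f ⁻¹ᵁ U.1 : X.Opens) : Scheme)
    have hYU := hY (U.1.ι ''ᵁ ⊤)
    have hXU := hX ((f ⁻¹ᵁ U.1).ι ''ᵁ ⊤)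
    haveI : CharP Γ((U.1 : Scheme), ⊤) p := (CharP.charP_iff_prime_eq_zero Fact.out).2 hYU.1
    haveI : CharP Γ(((f ⁻¹ᵁ U.1 : X.Opens) : Scheme), ⊤) p :=
      (CharP.charP_iff_prime_eq_zero Fact.out).2 hXU.1
    haveI : PerfectRing Γ((U.1 : Scheme), ⊤) p := ⟨hYU.2⟩
    haveI : PerfectRing Γ(((f ⁻¹ᵁ U.1 : X.Opens) : Scheme), ⊤) p := ⟨hXU.2⟩
    exact Groth.Agent.H72.PerfUH.bijective_of_isUnivHomeo p (f ∣_ U.1).appTop.hom hSpec

end Groth.Agent.S14253
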