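import Groth.Statements.S14256
import Mathlib.Tactic

set_option autoImplicit false
universe u
open FrobAlg

namespace Groth.Agent.S14256

section
variable (p : ℕ) [Fact p.Prime] {A A' : Type u} [CommRing A] [CommRing A'] [CharP A p] [CharP A' p]
  [PerfectRing A' p]

/-- a perfect closure map is integral -/
theorem isIntegral_of_isPRadical (i : A →+* A') [IsPRadical i p] : i.IsIntegral := by
  intro x
  obtain ⟨n, y, hy⟩ := IsPRadical.pow_mem i p x
  letI := i.toAlgebra
  have h1 : IsIntegral A (x ^ p ^ n) := by
    rw [← hy]
    exact isIntegral_algebraMap (R := A) (A := A') (x := y)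
  exact IsIntegral.of_pow (pow_pos (Fact.out : p.Prime).pos n) h1

end


/-- Let p be a prime, φ : A → B a map of commutative rings of characteristic p, i : A → A' and j : B →
B' perfect closures (A', B' perfect rings of characteristic p, every element of A' resp. B' has a
p^n-th power in the image of i resp. j, the kernels of i and j consist of nilpotent elements), and
φ' : A' → B' the induced map, φ' ∘ i = j ∘ φ. Then φ is integral if and only if φ' is integral. (The
published statement is that a morphism of schemes over the prime field is integral exactly when its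
perfection is; this row is its affine case, to which the published proof reduces.) -/
theorem result (p : ℕ) [Fact p.Prime]
    {A B A' B' : Type u} [CommRing A] [CommRing B] [CommRing A'] [CommRing B']
    [CharP A p] [CharP B p] [CharP A' p] [CharP B' p] [PerfectRing A' p] [PerfectRing B' p]
    (φ : A →+* B) (i : A →+* A') (j : B →+* B') [IsPerfectClosure i p] [IsPerfectClosure j p]
    (φ' : A' →+* B') (hφ : φ'.comp i = j.comp φ) : φ.IsIntegral ↔ φ'.IsIntegral := by
  have hp : p.Prime := Fact.out
  constructor
  · intro hint x'
    obtain ⟨n, b, hb⟩ := IsPRadical.pow_mem j p x'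
    obtain ⟨P, hPm, hP⟩ := hint b
    have h1 : φ'.IsIntegralElem (x' ^ p ^ n) := by
      refine ⟨P.map i, hPm.map i, ?_⟩
      rw [Polynomial.eval₂_map, hφ, ← hb, ← Polynomial.hom_eval₂, hP, map_zero]
    letI := φ'.toAlgebra
    exact IsIntegral.of_pow (pow_pos hp.pos n) h1
  · intro hint b
    -- `j b` is integral over `A'`, hence over `A`
    have hi : i.IsIntegral := isIntegral_of_isPRadical p i
    have h1 : (φ'.comp i).IsIntegralElem (j b) := by
      letI := i.toAlgebra
      letI := φ'.toAlgebra
      letI := (φ'.comp i).toAlgebra
      haveI : IsScalarTower A A' B' := IsScalarTower.of_algebraMap_eq (fun _ => rfl)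
      haveI : Algebra.IsIntegral A A' := ⟨hi⟩
      exact isIntegral_trans (R := A) (A := A') (j b) (hint (j b))
    obtain ⟨P, hPm, hP⟩ := h1
    rw [hφ, ← Polynomial.hom_eval₂] at hP
    have hker : Polynomial.eval₂ φ b P ∈ RingHom.ker j := hP
    have hnil := IsPRadical.ker_le j p hker
    rw [pNilradical_prime hp, mem_nilradical] at hnil
    obtain ⟨m, hm⟩ := hnil
    exact ⟨P ^ m, hPm.pow m, by rw [Polynomial.eval₂_pow, hm]⟩

end Groth.Agent.S14256
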