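import Groth.Statements.S14257
import Groth.Agent.H72.Perfection

set_option autoImplicit false
set_option linter.style.haveILetI false
universe u
open TensorProduct
open FrobAlg
open CategoryTheory CategoryTheory.Limits AlgebraicGeometry FrobSch

namespace Groth.Agent.S14257

/-- Let p be a prime, A a commutative ring of characteristic p, B an etale A-algebra of characteristic
p, A → A' and B → B' perfect closures (A', B' perfect rings of characteristic p, every element of A'
resp. B' has a p^n-th power in the image of A resp. B, and the structure maps have kernels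
consisting of nilpotent elements), B' viewed as an A-algebra through B, and φ' : A' → B' a map of
A-algebras. Then the natural map A' ⊗_A B → B', a ⊗ b ↦ φ'(a) b, is bijective. (The published
statement is for an etale morphism X → Y of schemes over the prime field, where X_perf → X ×_Y
Y_perf is an isomorphism; this row is the affine case.) -/
theorem result (p : ℕ) [Fact p.Prime]
    (A B A' B' : Type u) [CommRing A] [CommRing B] [CommRing A'] [CommRing B']
    [CharP A p] [CharP B p] [CharP A' p] [CharP B' p] [PerfectRing A' p] [PerfectRing B' p]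
    [Algebra A B] [Algebra.Etale A B] [Algebra A A'] [Algebra B B'] [Algebra A B'] [IsScalarTower A B B']
    [IsPerfectClosure (algebraMap A A') p] [IsPerfectClosure (algebraMap B B') p]
    (φ' : A' →ₐ[A] B') :
    Function.Bijective (Algebra.TensorProduct.lift φ' (IsScalarTower.toAlgHom A B B')
      (fun a b => Commute.all (φ' a) (IsScalarTower.toAlgHom A B B' b))) := by
  let iA : CommRingCat.of A ⟶ CommRingCat.of A' := CommRingCat.ofHom (algebraMap A A')
  let iB : CommRingCat.of B ⟶ CommRingCat.of B' := CommRingCat.ofHom (algebraMap B B')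
  let f : CommRingCat.of A ⟶ CommRingCat.of B := CommRingCat.ofHom (algebraMap A B)
  let φc : CommRingCat.of A' ⟶ CommRingCat.of B' := CommRingCat.ofHom φ'.toRingHom
  let inl : CommRingCat.of A' ⟶ CommRingCat.of (A' ⊗[A] B) :=
    CommRingCat.ofHom Algebra.TensorProduct.includeLeftRingHom
  let inr : CommRingCat.of B ⟶ CommRingCat.of (A' ⊗[A] B) :=
    CommRingCat.ofHom Algebra.TensorProduct.includeRight.toRingHom
  let ψ : CommRingCat.of (A' ⊗[A] B) ⟶ CommRingCat.of B' :=
    CommRingCat.ofHom (Algebra.TensorProduct.lift φ' (IsScalarTower.toAlgHom A B B')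
      (fun a b => Commute.all (φ' a) (IsScalarTower.toAlgHom A B B' b))).toRingHom
  haveI : IsPRadical iA.hom p := ‹IsPerfectClosure (algebraMap A A') p›
  haveI : IsPRadical iB.hom p := ‹IsPerfectClosure (algebraMap B B') p›
  have hY := Groth.Agent.H72.Perf.isPerfection_Spec_of_isPRadical p (CommRingCat.of A)
    (CommRingCat.of A') iA
  have hX := Groth.Agent.H72.Perf.isPerfection_Spec_of_isPRadical p (CommRingCat.of B)
    (CommRingCat.of B') iB
  haveI : Etale (Spec.map f) := by
    rw [HasRingHomProperty.Spec_iff (P := @Etale)]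
    exact RingHom.etale_algebraMap.mpr inferInstance
  have w0 : iA ≫ φc = f ≫ iB := by
    ext a
    show φ' (algebraMap A A' a) = algebraMap B B' (algebraMap A B a)
    rw [φ'.commutes, IsScalarTower.algebraMap_apply A B B']
  have w : Spec.map φc ≫ Spec.map iA = Spec.map iB ≫ Spec.map f := by
    rw [← Spec.map_comp, ← Spec.map_comp, w0]
  have hpb1 := Groth.Agent.H72.Perf.isPullback_perfection_of_etale p (Spec.map iB) (Spec.map iA)
    hX hY (Spec.map f) (Spec.map φc) w
  have hpb2 : IsPullback (Spec.map inl) (Spec.map inr) (Spec.map iA) (Spec.map f) :=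
    isPullback_SpecMap_of_isPushout _ _ _ _ (CommRingCat.isPushout_tensorProduct A A' B)
  have h1 : inl ≫ ψ = φc := by
    ext a
    show (Algebra.TensorProduct.lift φ' (IsScalarTower.toAlgHom A B B')
      (fun a b => Commute.all (φ' a) (IsScalarTower.toAlgHom A B B' b))) (a ⊗ₜ 1) = φ' a
    simp
  have h2 : inr ≫ ψ = iB := by
    ext b
    show (Algebra.TensorProduct.lift φ' (IsScalarTower.toAlgHom A B B')
      (fun a b => Commute.all (φ' a) (IsScalarTower.toAlgHom A B B' b))) (1 ⊗ₜ b) = algebraMap B B' b
    simp
  have h3 : Spec.map ψ = (hpb1.isoIsPullback _ _ hpb2).hom := by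
    apply hpb2.hom_ext
    · rw [IsPullback.isoIsPullback_hom_fst, ← Spec.map_comp, h1]
    · rw [IsPullback.isoIsPullback_hom_snd, ← Spec.map_comp, h2]
  have h4 : IsIso (Spec.map ψ) := by rw [h3]; infer_instance
  exact isIso_SpecMap_iff.mp h4

end Groth.Agent.S14257
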