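import Groth.Statements.S14260
import Groth.Agent.S14255
import Groth.Agent.S14256
import Mathlib.RingTheory.Ideal.GoingUp
import Mathlib.Tactic

set_option autoImplicit false
universe u
open FrobAlg

namespace Groth.Agent.S14260

section
variable (p : ℕ) [Fact p.Prime] {A A' : Type u} [CommRing A] [CommRing A'] [CharP A p] [CharP A' p]
  [PerfectRing A' p]

/-- `Spec` of a `p`-radical map is surjective. -/
theorem comap_surjective_of_isPRadical (i : A →+* A') [IsPRadical i p] :
    Function.Surjective (PrimeSpectrum.comap i) := by
  intro q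
  have hp : p.Prime := Fact.out
  have hi : i.IsIntegral := Groth.Agent.S14256.isIntegral_of_isPRadical p i
  letI := i.toAlgebra
  haveI : Algebra.IsIntegral A A' := ⟨hi⟩
  haveI := q.isPrime
  have hker : (⊥ : Ideal A').comap (algebraMap A A') ≤ q.asIdeal := by
    rw [← RingHom.ker_eq_comap_bot]
    intro x hx
    have h1 := IsPRadical.ker_le i p hx
    rw [pNilradical_prime hp] at h1
    exact (nilradical_le_prime q.asIdeal) h1
  obtain ⟨Q, -, hQ, hQ'⟩ := Ideal.exists_ideal_over_prime_of_isIntegral q.asIdeal ⊥ hker
  exact ⟨⟨Q, hQ⟩, PrimeSpectrum.ext hQ'⟩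

/-- `Spec` of a `p`-radical map is injective. -/
theorem comap_injective_of_isPRadical (i : A →+* A') [IsPRadical i p] :
    Function.Injective (PrimeSpectrum.comap i) := by
  have key : ∀ q1 q2 : PrimeSpectrum A', PrimeSpectrum.comap i q1 = PrimeSpectrum.comap i q2 →
      q1.asIdeal ≤ q2.asIdeal := by
    intro q1 q2 h x hx
    obtain ⟨n, y, hy⟩ := IsPRadical.pow_mem i p x
    have h1 : y ∈ (PrimeSpectrum.comap i q1).asIdeal := by
      change i y ∈ q1.asIdeal
      rw [hy]; exact Ideal.pow_mem_of_mem _ hx _ (pow_pos (Fact.out : p.Prime).pos n)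
    rw [h] at h1
    have h2 : i y ∈ q2.asIdeal := h1
    rw [hy] at h2
    exact q2.isPrime.mem_of_pow_mem _ h2
  intro q1 q2 h
  exact PrimeSpectrum.ext (le_antisymm (key q1 q2 h) (key q2 q1 h.symm))

end


/-- Let p be a prime, φ : A → B a faithfully flat map of commutative rings of characteristic p, i : A →
A' and j : B → B' perfect closures (A', B' perfect rings of characteristic p, every element of A'
resp. B' has a p^n-th power in the image of i resp. j, the kernels of i and j consist of nilpotent
elements), and φ' : A' → B' the induced map, φ' ∘ i = j ∘ φ. Then φ' is faithfully flat. (The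
published statement is that the perfection of a faithfully flat morphism of schemes over the prime
field is faithfully flat; this row is its affine case, to which the published proof reduces.) -/
theorem result (p : ℕ) [Fact p.Prime]
    {A B A' B' : Type u} [CommRing A] [CommRing B] [CommRing A'] [CommRing B']
    [CharP A p] [CharP B p] [CharP A' p] [CharP B' p] [PerfectRing A' p] [PerfectRing B' p]
    (φ : A →+* B) (hflat : φ.FaithfullyFlat) (i : A →+* A') (j : B →+* B') [IsPerfectClosure i p]
    [IsPerfectClosure j p] (φ' : A' →+* B') (hφ : φ'.comp i = j.comp φ) : φ'.FaithfullyFlat := by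
  rw [RingHom.FaithfullyFlat.iff_flat_and_comap_surjective] at hflat ⊢
  refine ⟨Groth.Agent.S14255.result p φ hflat.1 i j φ' hφ, ?_⟩
  intro q'
  obtain ⟨P, hP⟩ := hflat.2 (PrimeSpectrum.comap i q')
  obtain ⟨P', hP'⟩ := comap_surjective_of_isPRadical p j P
  refine ⟨P', ?_⟩
  apply comap_injective_of_isPRadical p i
  rw [← PrimeSpectrum.comap_comp_apply, hφ, PrimeSpectrum.comap_comp_apply, hP', hP]

end Groth.Agent.S14260
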