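import Groth.Statements.S14262
import Mathlib.RingTheory.Flat.EquationalCriterion
import Mathlib.Tactic
-- import your own Groth.Agent.* helpers here

set_option autoImplicit false
universe u
open FrobAlg

namespace Groth.Agent.S14262

section
variable (p : ℕ) [Fact p.Prime] (A : Type u) [CommRing A] [CharP A p] [PerfectRing A p]

/-- the `p^n`-th root -/
noncomputable def root (n : ℕ) (f : A) : A := (iterateFrobeniusEquiv A p n).symm f

theorem root_pow (n : ℕ) (f : A) : (root p A n f) ^ (p ^ n) = f := by
  have := (iterateFrobeniusEquiv A p n).apply_symm_apply f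
  rwa [iterateFrobeniusEquiv_def] at this

theorem root_of_pow (n : ℕ) (x : A) : root p A n (x ^ (p ^ n)) = x := by
  have := (iterateFrobeniusEquiv A p n).symm_apply_apply x
  rwa [iterateFrobeniusEquiv_def] at this

theorem root_mul (n : ℕ) (x y : A) : root p A n (x * y) = root p A n x * root p A n y :=
  map_mul _ _ _

theorem root_succ_pow (n : ℕ) (f : A) : (root p A (n + 1) f) ^ p = root p A n f := by
  have h1 : ((root p A (n + 1) f) ^ p) ^ (p ^ n) = f := by
    rw [← pow_mul, ← pow_succ']; exact root_pow p A (n + 1) f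
  have h2 := root_of_pow p A n ((root p A (n + 1) f) ^ p)
  rw [h1] at h2
  exact h2.symm

theorem root_add_pow (n k : ℕ) (f : A) : (root p A (n + k) f) ^ (p ^ k) = root p A n f := by
  have h1 : ((root p A (n + k) f) ^ (p ^ k)) ^ (p ^ n) = f := by
    rw [← pow_mul, ← pow_add, add_comm k n]; exact root_pow p A (n + k) f
  have h2 := root_of_pow p A n ((root p A (n + k) f) ^ (p ^ k))
  rw [h1] at h2
  exact h2.symm

theorem root_mem_radical (n : ℕ) (f : A) : root p A n f ∈ (Ideal.span {f}).radical :=
  ⟨p ^ n, by rw [root_pow]; exact Ideal.subset_span rfl⟩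

theorem exists_root_of_mem_radical (f x : A) (hx : x ∈ (Ideal.span {f}).radical) :
    ∃ n b, x = b * root p A n f := by
  obtain ⟨m, hm⟩ := hx
  obtain ⟨r, hr⟩ := Ideal.mem_span_singleton'.mp hm
  have hp : 1 < p := (Fact.out : p.Prime).one_lt
  have hmp : m ≤ p ^ m := (Nat.lt_pow_self hp).le
  refine ⟨m, root p A m (x ^ (p ^ m - m) * r), ?_⟩
  rw [← root_mul, mul_assoc, hr, ← pow_add, Nat.sub_add_cancel hmp, root_of_pow]

theorem exists_root_of_le (f x : A) (n N : ℕ) (hnN : n ≤ N) (h : ∃ b, x = b * root p A n f) :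
    ∃ b, x = b * root p A N f := by
  obtain ⟨b, rfl⟩ := h
  obtain ⟨k, rfl⟩ := Nat.exists_eq_add_of_le hnN
  have hpk : 0 < p ^ k := pow_pos (Fact.out : p.Prime).pos k
  refine ⟨b * (root p A (n + k) f) ^ (p ^ k - 1), ?_⟩
  rw [mul_assoc, ← pow_succ, Nat.sub_add_cancel hpk, root_add_pow]

theorem exists_common_root (f : A) (l : ℕ) (x : Fin l → A)
    (hx : ∀ i, x i ∈ (Ideal.span {f}).radical) :
    ∃ n, ∀ i, ∃ b, x i = b * root p A n f := by
  choose n b hb using fun i => exists_root_of_mem_radical p A f (x i) (hx i)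
  refine ⟨Finset.univ.sup n, fun i => ?_⟩
  exact exists_root_of_le p A f (x i) (n i) _ (Finset.le_sup (Finset.mem_univ i)) ⟨b i, hb i⟩

theorem mul_root_succ_eq_zero (f c : A) (n : ℕ) (h : c * root p A n f = 0) :
    c * root p A (n + 1) f = 0 := by
  apply injective_pow_p A p
  have hp : 0 < p := (Fact.out : p.Prime).pos
  rw [mul_pow, root_succ_pow, zero_pow hp.ne']
  have hc : c ^ p = c ^ (p - 1) * c := by rw [← pow_succ, Nat.sub_add_cancel hp]
  rw [hc, mul_assoc, h, mul_zero]

end

/-- Let p be a prime, A a perfect ring of characteristic p and f ∈ A. The radical of the principal ideal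
(f) — equivalently the ideal generated by all p^n-th roots of f, n ≥ 0 — is a flat A-module. -/
theorem result (p : ℕ) [Fact p.Prime] (A : Type u) [CommRing A]
    [CharP A p] [PerfectRing A p] (f : A) :
    Module.Flat A ((Ideal.span {f}).radical) := by
  apply Module.Flat.of_forall_isTrivialRelation
  intro l g x hrel
  obtain ⟨n, hn⟩ := exists_common_root p A f l (fun i => (x i : A)) (fun i => (x i).2)
  choose b hb using hn
  have hrel' : (∑ i, g i * b i) * root p A n f = 0 := by
    have := congrArg (Subtype.val) hrel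
    simp only [Submodule.coe_sum, Submodule.coe_smul, smul_eq_mul, Submodule.coe_zero] at this
    rw [Finset.sum_mul, ← this]
    exact Finset.sum_congr rfl fun i _ => by rw [hb i, mul_assoc]
  have hrel'' := mul_root_succ_eq_zero p A f _ n hrel'
  have hp : 1 < p := (Fact.out : p.Prime).one_lt
  obtain ⟨q, hq⟩ := Nat.exists_eq_add_of_le' hp
  -- p = q + 2
  refine ⟨1, fun i _ => b i * (root p A (n + 1) f) ^ (p - 1),
    fun _ => ⟨root p A (n + 1) f, root_mem_radical p A (n + 1) f⟩, fun i => ?_, fun j => ?_⟩
  · apply Subtype.ext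
    simp only [Finset.univ_unique, Finset.sum_singleton, Submodule.coe_smul, smul_eq_mul]
    rw [hb i, mul_assoc, ← pow_succ, Nat.sub_add_cancel hp.le, root_succ_pow]
  · have : p - 1 = q + 1 := by omega
    rw [this]
    calc ∑ i, g i * (b i * root p A (n + 1) f ^ (q + 1))
        = (∑ i, g i * b i) * root p A (n + 1) f * root p A (n + 1) f ^ q := by
          rw [Finset.sum_mul, Finset.sum_mul]
          exact Finset.sum_congr rfl fun i _ => by ring
      _ = 0 := by rw [hrel'', zero_mul]

end Groth.Agent.S14262
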