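import Groth.Statements.S14274
import Groth.Agent.H72.HartogsOver
import Groth.Agent.Lib.Helper26.NormalTorsorSection

set_option autoImplicit false
universe u
open scoped CategoryTheory.Obj
open NonAbH1

namespace Groth.Agent.S14274

open AlgebraicGeometry CategoryTheory CategoryTheory.Limits MonoidalCategory in
/-- Let X be a scheme, G a finite locally free X-group scheme (finite, flat and locally of finite
presentation over X, not necessarily commutative), and U an open subscheme of X whose inclusion is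
quasi-compact, such that for every point z of X outside U the local ring of X at z is regular of
Krull dimension at least 2. Let Q₁ and Q₂ be fppf G-torsors over X. Then every U-morphism between
their base changes to U that is equivariant for the base-changed group is the base change of a
unique G-equivariant X-morphism Q₁ -> Q₂. (With the essential-surjectivity row this is the statement
that pullback is an equivalence from G-torsors over X to torsors over U under the base change of G.) -/
theorem result {X : Scheme.{u}} (G : Over X) [GrpObj G]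
    [IsFinite G.hom] [Flat G.hom] [LocallyOfFinitePresentation G.hom]
    (U : X.Opens) [QuasiCompact U.ι]
    (hZ : ∀ z : X, z ∉ U → IsRegularLocalRing (X.presheaf.stalk z) ∧ (2 : WithBot ℕ∞) ≤ ringKrullDim (X.presheaf.stalk z))
    (Q₁ Q₂ : Over X) (a₁ : AlgGrp.Action G Q₁) (a₂ : AlgGrp.Action G Q₂)
    (h₁ : NonAbH1.IsTorsorFor Scheme.fppfPrecoverage a₁) (h₂ : NonAbH1.IsTorsorFor Scheme.fppfPrecoverage a₂)
    (h' : (Over.pullback U.ι).obj Q₁ ⟶ (Over.pullback U.ι).obj Q₂)
    (hh' : (Functor.LaxMonoidal.μ (Over.pullback U.ι) G Q₁ ≫ (Over.pullback U.ι).map a₁.act) ≫ h' =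
      ((Over.pullback U.ι).obj G ◁ h') ≫ (Functor.LaxMonoidal.μ (Over.pullback U.ι) G Q₂ ≫ (Over.pullback U.ι).map a₂.act)) :
    ∃! h : Q₁ ⟶ Q₂, a₁.act ≫ h = (G ◁ h) ≫ a₂.act ∧ (Over.pullback U.ι).map h = h' := by
  have hHZ := Groth.Agent.H72.HartogsOver.HZ_of_regular U hZ
  haveI hloc : MorphismProperty.IsLocalAtTarget (@Flat : MorphismProperty Scheme.{u})
      Scheme.fppfPrecoverage := Groth.Agent.Lib.Helper51.isLocalAtTarget_fppf_of_descendsAlong _
  haveI hfl1 : Flat Q₁.hom :=
    Groth.Agent.Lib.Helper26.TorsorLocal.prop_of_isTorsorFor Scheme.fppfPrecoverage a₁ h₁ @Flat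
      inferInstance
  haveI hfin2 : IsFinite Q₂.hom :=
    Groth.Agent.Lib.Helper26.NormalTorsorSection.isFinite_of_isTorsorFor G Q₂ a₂ h₂
  haveI hfp2 : LocallyOfFinitePresentation Q₂.hom :=
    Groth.Agent.Lib.Helper26.TorsorLocal.prop_of_isTorsorFor Scheme.fppfPrecoverage a₂ h₂
      @LocallyOfFinitePresentation inferInstance
  haveI hflP : Flat (G ⊗ Q₁).hom :=
    inferInstanceAs (Flat (pullback.fst G.hom Q₁.hom ≫ G.hom))
  obtain ⟨h, hh⟩ := Groth.Agent.H72.HartogsOver.full U hHZ Q₁ Q₂ h'
  have hequiv : a₁.act ≫ h = (G ◁ h) ≫ a₂.act := by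
    apply Groth.Agent.H72.HartogsOver.faithful U hHZ (G ⊗ Q₁) Q₂
    rw [Functor.map_comp, Functor.map_comp, hh]
    rw [← cancel_epi (Functor.LaxMonoidal.μ (Over.pullback U.ι) G Q₁)]
    have hnat := Functor.LaxMonoidal.μ_natural_right (Over.pullback U.ι) G h
    rw [hh] at hnat
    rw [← Category.assoc, hh', ← reassoc_of% hnat]
  refine ⟨h, ⟨hequiv, hh⟩, ?_⟩
  rintro k ⟨-, hk⟩
  exact Groth.Agent.H72.HartogsOver.faithful U hHZ Q₁ Q₂ k h (hk.trans hh.symm)

end Groth.Agent.S14274
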