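import Groth.Statements.S14285
import Groth.Agent.Lib.Helper75.RigNbhd
-- import your own Groth.Agent.* helpers here

set_option autoImplicit false
universe u
open CategoryTheory AlgebraicGeometry
open EllLift

namespace Groth.Agent.S14285

/-- Let R be a complete Noetherian local ring with maximal ideal m and residue field k = R/m, g : X →
Spec R a proper and flat morphism, and i : X₀ → X the fibre of g over the closed point, i.e. a
pullback of g along Spec k → Spec R, with structure map f₀ : X₀ → Spec k. If the induced ring map k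
→ Γ(X₀, O_{X₀}) is bijective, then so is R → Γ(X, O_X). -/
theorem result (R : Type u) [CommRing R]
    [IsLocalRing R] [IsNoetherianRing R] [IsAdicComplete (IsLocalRing.maximalIdeal R) R]
    (X X₀ : Scheme.{u}) (g : X ⟶ Spec (CommRingCat.of R)) [IsProper g] [Flat g]
    (i : X₀ ⟶ X) (f₀ : X₀ ⟶ Spec (CommRingCat.of (R ⧸ IsLocalRing.maximalIdeal R)))
    (hsq : IsPullback i f₀ g
      (Spec.map (CommRingCat.ofHom (Ideal.Quotient.mk (IsLocalRing.maximalIdeal R)))))
    (h0 : Function.Bijective ((Scheme.ΓSpecIso (CommRingCat.of (R ⧸ IsLocalRing.maximalIdeal R))).inv ≫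
      f₀.appTop)) :
    Function.Bijective ((Scheme.ΓSpecIso (CommRingCat.of R)).inv ≫ g.appTop) := by
  let m := IsLocalRing.maximalIdeal R
  let σ₁ : Spec (CommRingCat.of (R ⧸ m)) ⟶ Spec (CommRingCat.of R) :=
    Spec.map (CommRingCat.ofHom (Ideal.Quotient.mk m))
  let x : Spec (CommRingCat.of R) := IsLocalRing.closedPoint R
  -- the fibre over `Spec (R/m)`
  have hb0 : Function.Bijective f₀.appTop.hom := by
    have h2 : Function.Bijective (Scheme.ΓSpecIso (CommRingCat.of (R ⧸ m))).hom.hom :=
      (ConcreteCategory.isIso_iff_bijective (Scheme.ΓSpecIso (CommRingCat.of (R ⧸ m))).hom).mp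
        inferInstance
    have h3 : f₀.appTop = (Scheme.ΓSpecIso (CommRingCat.of (R ⧸ m))).hom ≫
        ((Scheme.ΓSpecIso (CommRingCat.of (R ⧸ m))).inv ≫ f₀.appTop) := by
      rw [Iso.hom_inv_id_assoc]
    rw [h3]
    exact h0.comp h2
  have hb1 : Function.Bijective (Limits.pullback.snd g σ₁).appTop.hom := by
    have h4 : hsq.isoPullback.hom ≫ Limits.pullback.snd g σ₁ = f₀ := hsq.isoPullback_hom_snd
    have h5 : Function.Bijective hsq.isoPullback.inv.appTop.hom :=
      Groth.Agent.Lib.Helper75.RigFib.bijective_appTop_of_isIso _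
    have h6 : Limits.pullback.snd g σ₁ = hsq.isoPullback.inv ≫ f₀ :=
      ((Iso.inv_comp_eq _).mpr h4.symm).symm
    rw [h6, Scheme.Hom.comp_appTop]
    exact h5.comp hb0
  -- pass to the residue field of the closed point
  have hbij : Function.Bijective (algebraMap (R ⧸ m) m.ResidueField) :=
    Ideal.bijective_algebraMap_quotient_residueField m
  have hiso1 : IsIso (CommRingCat.ofHom (algebraMap (R ⧸ m) m.ResidueField)) :=
    (ConcreteCategory.isIso_iff_bijective _).mpr hbij
  let ε : Spec ((Spec (CommRingCat.of R)).residueField x) ⟶ Spec (CommRingCat.of (R ⧸ m)) :=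
    Spec.map (Scheme.Spec.residueFieldIso (CommRingCat.of R) x).inv ≫
      Spec.map (CommRingCat.ofHom (algebraMap (R ⧸ m) m.ResidueField))
  have hiso2 : IsIso (Spec.map (CommRingCat.ofHom (algebraMap (R ⧸ m) m.ResidueField))) :=
    inferInstance
  have hiso3 : IsIso (Spec.map (Scheme.Spec.residueFieldIso (CommRingCat.of R) x).inv) :=
    inferInstance
  have hεiso : IsIso ε := by
    exact @IsIso.comp_isIso _ _ _ _ _ _ _ hiso3 hiso2
  have hε : ε ≫ σ₁ = (Spec (CommRingCat.of R)).fromSpecResidueField x := by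
    rw [← Scheme.Spec.map_residueFieldIso_inv_eq_fromSpecResidueField (CommRingCat.of R) x]
    show (Spec.map _ ≫ Spec.map _) ≫ Spec.map _ = _
    rw [Category.assoc, ← Spec.map_comp]
    rfl
  have hfib : Groth.Agent.Lib.Helper75.RigMain.FibH0 g x :=
    Groth.Agent.Lib.Helper75.RigFib.bijective_snd_appTop_congr g hε
      (Groth.Agent.Lib.Helper75.RigFib.bijective_snd_appTop_of_iso g σ₁ ε hb1)
  obtain ⟨U, hxU, hU⟩ :=
    Groth.Agent.Lib.Helper75.RigNbhd.exists_open_forall_isIso_app g x hfib
  have hUtop : U = ⊤ := (IsLocalRing.closedPoint_mem_iff U).mp hxU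
  have hiso : IsIso (g.app ⊤) := hU ⊤ (hUtop ▸ le_refl _)
  have hb2 : Function.Bijective g.appTop.hom := (ConcreteCategory.isIso_iff_bijective _).mp hiso
  have hb3 : Function.Bijective (Scheme.ΓSpecIso (CommRingCat.of R)).inv.hom :=
    (ConcreteCategory.isIso_iff_bijective (Scheme.ΓSpecIso (CommRingCat.of R)).inv).mp
      inferInstance
  exact hb2.comp hb3

end Groth.Agent.S14285
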