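import Groth.Statements.S14292
import Mathlib

set_option autoImplicit false
set_option linter.style.haveILetI false
universe u
open EllLift

namespace Groth.Agent.S14292

open WeierstrassCurve

section PureAlgebra

variable {R : Type u} [CommRing R]

theorem cancel_of_mul_eq_one {a k x y : R} (hk : a * k = 1) (h : a * x = a * y) : x = y := by
  linear_combination k * h - (x - y) * hk

theorem pow_mul_pow_one {a k : R} (hk : a * k = 1) (n : ℕ) : a ^ n * k ^ n = 1 := by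
  rw [← mul_pow, hk, one_pow]

/-- The hypotheses carried through the reduction. -/
structure Hyp (W₁ W₂ : WeierstrassCurve R) : Prop where
  Δ₁ : IsUnit W₁.Δ
  Δ₂ : IsUnit W₂.Δ
  c₄₁ : IsUnit W₁.c₄
  c₄₂ : IsUnit W₂.c₄
  c₆₁ : IsUnit W₁.c₆
  c₆₂ : IsUnit W₂.c₆
  hj : W₁.c₄ ^ 3 * W₂.Δ = W₂.c₄ ^ 3 * W₁.Δ

theorem Hyp.map {W₁ W₂ : WeierstrassCurve R} (H : Hyp W₁ W₂) {S : Type u} [CommRing S]
    (f : R →+* S) : Hyp (W₁.map f) (W₂.map f) where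
  Δ₁ := by rw [WeierstrassCurve.map_Δ]; exact H.Δ₁.map f
  Δ₂ := by rw [WeierstrassCurve.map_Δ]; exact H.Δ₂.map f
  c₄₁ := by rw [WeierstrassCurve.map_c₄]; exact H.c₄₁.map f
  c₄₂ := by rw [WeierstrassCurve.map_c₄]; exact H.c₄₂.map f
  c₆₁ := by rw [WeierstrassCurve.map_c₆]; exact H.c₆₁.map f
  c₆₂ := by rw [WeierstrassCurve.map_c₆]; exact H.c₆₂.map f
  hj := by
    rw [WeierstrassCurve.map_c₄, WeierstrassCurve.map_c₄, WeierstrassCurve.map_Δ,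
      WeierstrassCurve.map_Δ, ← map_pow, ← map_pow, ← map_mul, ← map_mul, H.hj]

theorem Hyp.smul_left {W₁ W₂ : WeierstrassCurve R} (H : Hyp W₁ W₂) (C : VariableChange R) :
    Hyp (C • W₁) W₂ where
  Δ₁ := by rw [variableChange_Δ]; exact (C.u⁻¹.isUnit.pow 12).mul H.Δ₁
  Δ₂ := H.Δ₂
  c₄₁ := by rw [variableChange_c₄]; exact (C.u⁻¹.isUnit.pow 4).mul H.c₄₁
  c₄₂ := H.c₄₂
  c₆₁ := by rw [variableChange_c₆]; exact (C.u⁻¹.isUnit.pow 6).mul H.c₆₁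
  c₆₂ := H.c₆₂
  hj := by
    rw [variableChange_c₄, variableChange_Δ]
    linear_combination (((C.u⁻¹ : Rˣ) : R) ^ 12) * H.hj

theorem Hyp.smul_right {W₁ W₂ : WeierstrassCurve R} (H : Hyp W₁ W₂) (C : VariableChange R) :
    Hyp W₁ (C • W₂) where
  Δ₁ := H.Δ₁
  Δ₂ := by rw [variableChange_Δ]; exact (C.u⁻¹.isUnit.pow 12).mul H.Δ₂
  c₄₁ := H.c₄₁
  c₄₂ := by rw [variableChange_c₄]; exact (C.u⁻¹.isUnit.pow 4).mul H.c₄₂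
  c₆₁ := H.c₆₁
  c₆₂ := by rw [variableChange_c₆]; exact (C.u⁻¹.isUnit.pow 6).mul H.c₆₂
  hj := by
    rw [variableChange_c₄, variableChange_Δ]
    linear_combination (((C.u⁻¹ : Rˣ) : R) ^ 12) * H.hj

theorem isUnit_b₂_of_b₄ (W : WeierstrassCurve R) (h : W.b₄ = 0) (hc : IsUnit W.c₄) :
    IsUnit W.b₂ := by
  have e : W.c₄ = W.b₂ ^ 2 := by
    rw [show W.c₄ = W.b₂ ^ 2 - 24 * W.b₄ from rfl, h]; ring
  rw [e] at hc
  exact (isUnit_pow_iff two_ne_zero).mp hc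

theorem ext_of_two (W W' : WeierstrassCurve R) (i2 : R) (h2 : 2 * i2 = 1)
    (h₁ : W.a₁ = W'.a₁) (h₃ : W.a₃ = W'.a₃) (hb₂ : W.b₂ = W'.b₂) (hb₄ : W.b₄ = W'.b₄)
    (hb₆ : W.b₆ = W'.b₆) : W = W' := by
  have e₂ : W.b₂ = W.a₁ ^ 2 + 4 * W.a₂ := rfl
  have e₂' : W'.b₂ = W'.a₁ ^ 2 + 4 * W'.a₂ := rfl
  have e₄ : W.b₄ = 2 * W.a₄ + W.a₁ * W.a₃ := rfl
  have e₄' : W'.b₄ = 2 * W'.a₄ + W'.a₁ * W'.a₃ := rfl
  have e₆ : W.b₆ = W.a₃ ^ 2 + 4 * W.a₆ := rfl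
  have e₆' : W'.b₆ = W'.a₃ ^ 2 + 4 * W'.a₆ := rfl
  have h4 : (4 : R) * i2 ^ 2 = 1 := by linear_combination (2 * i2 + 1) * h2
  rw [h₁] at e₂
  rw [h₁, h₃] at e₄
  rw [h₃] at e₆
  have ha₂ : W.a₂ = W'.a₂ := by
    apply cancel_of_mul_eq_one h4
    linear_combination e₂' - e₂ + hb₂
  have ha₄ : W.a₄ = W'.a₄ := by
    apply cancel_of_mul_eq_one h2
    linear_combination e₄' - e₄ + hb₄
  have ha₆ : W.a₆ = W'.a₆ := by
    apply cancel_of_mul_eq_one h4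
    linear_combination e₆' - e₆ + hb₆
  exact WeierstrassCurve.ext h₁ ha₂ h₃ ha₄ ha₆

theorem ext_of_six (W W' : WeierstrassCurve R) (i2 i3 : R) (h2 : 2 * i2 = 1) (h3 : 3 * i3 = 1)
    (h₁ : W.a₁ = W'.a₁) (h₃ : W.a₃ = W'.a₃) (hb₂ : W.b₂ = W'.b₂) (hc₄ : W.c₄ = W'.c₄)
    (hc₆ : W.c₆ = W'.c₆) : W = W' := by
  have ec₄ : W.c₄ = W.b₂ ^ 2 - 24 * W.b₄ := rfl
  have ec₄' : W'.c₄ = W'.b₂ ^ 2 - 24 * W'.b₄ := rfl
  have ec₆ : W.c₆ = -W.b₂ ^ 3 + 36 * W.b₂ * W.b₄ - 216 * W.b₆ := rfl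
  have ec₆' : W'.c₆ = -W'.b₂ ^ 3 + 36 * W'.b₂ * W'.b₄ - 216 * W'.b₆ := rfl
  have h8 : (8 : R) * i2 ^ 3 = 1 := by linear_combination (4 * i2 ^ 2 + 2 * i2 + 1) * h2
  have h27 : (27 : R) * i3 ^ 3 = 1 := by linear_combination (9 * i3 ^ 2 + 3 * i3 + 1) * h3
  have h24 : (24 : R) * (i2 ^ 3 * i3) = 1 := by linear_combination (3 * i3) * h8 + h3
  have h216 : (216 : R) * (i2 ^ 3 * i3 ^ 3) = 1 := by
    linear_combination (27 * i3 ^ 3) * h8 + h27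
  rw [hb₂] at ec₄
  have hb₄ : W.b₄ = W'.b₄ := by
    apply cancel_of_mul_eq_one h24
    linear_combination ec₄ - ec₄' - hc₄
  rw [hb₂, hb₄] at ec₆
  have hb₆ : W.b₆ = W'.b₆ := by
    apply cancel_of_mul_eq_one h216
    linear_combination ec₆ - ec₆' - hc₆
  exact ext_of_two W W' i2 h2 h₁ h₃ hb₂ hb₄ hb₆

theorem ext_of_b₂_unit (W W' : WeierstrassCurve R) (h₁ : W.a₁ = W'.a₁) (h₂ : W.a₂ = W'.a₂)
    (h₃ : W.a₃ = W'.a₃) (h₄ : W.a₄ = W'.a₄) (hb₆ : W.b₆ = W'.b₆) (hΔ : W.Δ = W'.Δ)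
    (k : R) (hk : W'.b₂ * k = 1) : W = W' := by
  have hb₂ : W.b₂ = W'.b₂ := by
    rw [show W.b₂ = W.a₁ ^ 2 + 4 * W.a₂ from rfl, h₁, h₂]; rfl
  have hb₄ : W.b₄ = W'.b₄ := by
    rw [show W.b₄ = 2 * W.a₄ + W.a₁ * W.a₃ from rfl, h₁, h₃, h₄]; rfl
  have e8 : W.b₈ = W.b₂ * W.a₆ - W.a₁ * W.a₃ * W.a₄ + W.a₂ * W.a₃ ^ 2 - W.a₄ ^ 2 := by
    simp only [WeierstrassCurve.b₈, WeierstrassCurve.b₂]; ring
  have e8' : W'.b₈ = W'.b₂ * W'.a₆ - W'.a₁ * W'.a₃ * W'.a₄ + W'.a₂ * W'.a₃ ^ 2 - W'.a₄ ^ 2 := by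
    simp only [WeierstrassCurve.b₈, WeierstrassCurve.b₂]; ring
  have hΔ1 : W.Δ = -W.b₂ ^ 2 * W.b₈ - 8 * W.b₄ ^ 3 - 27 * W.b₆ ^ 2 + 9 * W.b₂ * W.b₄ * W.b₆ := rfl
  have hΔ2 : W'.Δ = -W'.b₂ ^ 2 * W'.b₈ - 8 * W'.b₄ ^ 3 - 27 * W'.b₆ ^ 2
      + 9 * W'.b₂ * W'.b₄ * W'.b₆ := rfl
  rw [hb₂, hb₄, hb₆] at hΔ1
  rw [hb₂, h₁, h₂, h₃, h₄] at e8
  have h8 : W'.b₂ ^ 2 * W.b₈ = W'.b₂ ^ 2 * W'.b₈ := by linear_combination hΔ1 - hΔ2 - hΔ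
  have h9 : W'.b₂ ^ 3 * W.a₆ = W'.b₂ ^ 3 * W'.a₆ := by
    linear_combination h8 - W'.b₂ ^ 2 * e8 + W'.b₂ ^ 2 * e8'
  have h6 : W.a₆ = W'.a₆ := cancel_of_mul_eq_one (pow_mul_pow_one hk 3) h9
  exact WeierstrassCurve.ext h₁ h₂ h₃ h₄ h6

theorem four_Δ_of_b₄ (W : WeierstrassCurve R) (h : W.b₄ = 0) :
    4 * W.Δ = -W.b₂ ^ 3 * W.b₆ - 108 * W.b₆ ^ 2 := by
  have hΔ : W.Δ = -W.b₂ ^ 2 * W.b₈ - 8 * W.b₄ ^ 3 - 27 * W.b₆ ^ 2 + 9 * W.b₂ * W.b₄ * W.b₆ := rfl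
  linear_combination 4 * hΔ - W.b₂ ^ 2 * W.b_relation
    + (W.b₂ ^ 2 * W.b₄ - 32 * W.b₄ ^ 2 + 36 * W.b₂ * W.b₆) * h

theorem c₄_of_b₄ (W : WeierstrassCurve R) (h : W.b₄ = 0) : W.c₄ = W.b₂ ^ 2 := by
  rw [show W.c₄ = W.b₂ ^ 2 - 24 * W.b₄ from rfl, h]; ring

theorem hX_of_D (W₁ W₂ : WeierstrassCurve R) (h₁ : W₁.b₄ = 0) (h₂ : W₂.b₄ = 0)
    (hj : W₁.c₄ ^ 3 * W₂.Δ = W₂.c₄ ^ 3 * W₁.Δ)
    (hD : IsUnit (W₁.b₂ ^ 3 * W₂.b₂ ^ 3 + 108 * (W₁.b₆ * W₂.b₂ ^ 3 + W₂.b₆ * W₁.b₂ ^ 3))) :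
    W₁.b₆ * W₂.b₂ ^ 3 = W₂.b₆ * W₁.b₂ ^ 3 := by
  obtain ⟨d, hd⟩ := hD.exists_right_inv
  have e1 := four_Δ_of_b₄ W₁ h₁
  have e2 := four_Δ_of_b₄ W₂ h₂
  rw [c₄_of_b₄ W₁ h₁, c₄_of_b₄ W₂ h₂] at hj
  apply cancel_of_mul_eq_one hd
  linear_combination (W₂.b₂ ^ 6) * e1 - (W₁.b₂ ^ 6) * e2 + 4 * hj

theorem kill_alg (W : WeierstrassCurve R) (z : R) (hz : z ^ 2 + W.b₂ * z + 6 * W.b₄ = 0)
    (hv : IsUnit (z + W.b₂)) : ∃ C : VariableChange R, (C • W).b₄ = 0 := by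
  obtain ⟨v, hv⟩ := hv.exists_right_inv
  refine ⟨⟨1, -W.b₄ * v, 0, 0⟩, ?_⟩
  rw [variableChange_b₄]
  have : W.b₄ + (-W.b₄ * v) * W.b₂ + 6 * (-W.b₄ * v) ^ 2 = 0 := by
    linear_combination (W.b₄ * v ^ 2) * hz - (W.b₄ + W.b₄ * v * z) * hv
  show _ * (W.b₄ + (-W.b₄ * v) * W.b₂ + 6 * (-W.b₄ * v) ^ 2) = 0
  rw [this, mul_zero]

theorem exists_III (W₁ W₂ : WeierstrassCurve R) (h2 : IsUnit (2 : R)) (hb : IsUnit W₁.b₂)
    (hb' : IsUnit W₂.b₂) (h₁ : W₁.b₄ = 0) (h₂ : W₂.b₄ = 0)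
    (hX : W₁.b₆ * W₂.b₂ ^ 3 = W₂.b₆ * W₁.b₂ ^ 3) (z : R) (hz : z ^ 2 * W₂.b₂ = W₁.b₂) :
    ∃ C : VariableChange R, C • W₁ = W₂ := by
  obtain ⟨i2, h2⟩ := h2.exists_right_inv
  obtain ⟨k, hk⟩ := hb.exists_right_inv
  obtain ⟨k', hk'⟩ := hb'.exists_right_inv
  obtain ⟨ui, hzu⟩ : ∃ ui, z * ui = 1 :=
    ⟨z * W₂.b₂ * k, by linear_combination k * hz + hk⟩
  have hzu2 := pow_mul_pow_one hzu 2
  have hzu3 := pow_mul_pow_one hzu 3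
  have hzu4 := pow_mul_pow_one hzu 4
  have hzu6 := pow_mul_pow_one hzu 6
  have hb6 : W₁.b₆ = z ^ 6 * W₂.b₆ := by
    apply cancel_of_mul_eq_one (pow_mul_pow_one hk' 3)
    linear_combination hX
      - W₂.b₆ * ((z ^ 2 * W₂.b₂) ^ 2 + z ^ 2 * W₂.b₂ * W₁.b₂ + W₁.b₂ ^ 2) * hz
  refine ⟨⟨⟨z, ui, hzu, by rw [mul_comm]; exact hzu⟩, 0, i2 * (z * W₂.a₁ - W₁.a₁),
    i2 * (z ^ 3 * W₂.a₃ - W₁.a₃)⟩, ?_⟩
  refine ext_of_two _ W₂ i2 h2 ?_ ?_ ?_ ?_ ?_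
  · show ui * (W₁.a₁ + 2 * (i2 * (z * W₂.a₁ - W₁.a₁))) = W₂.a₁
    linear_combination W₂.a₁ * hzu + ui * (z * W₂.a₁ - W₁.a₁) * h2
  · show ui ^ 3 * (W₁.a₃ + 0 * W₁.a₁ + 2 * (i2 * (z ^ 3 * W₂.a₃ - W₁.a₃))) = W₂.a₃
    linear_combination W₂.a₃ * hzu3 + ui ^ 3 * (z ^ 3 * W₂.a₃ - W₁.a₃) * h2
  · rw [variableChange_b₂]
    show ui ^ 2 * (W₁.b₂ + 12 * 0) = W₂.b₂
    linear_combination (-(ui ^ 2)) * hz + W₂.b₂ * hzu2
  · rw [variableChange_b₄]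
    show ui ^ 4 * (W₁.b₄ + 0 * W₁.b₂ + 6 * 0 ^ 2) = W₂.b₄
    rw [h₁, h₂]; ring
  · rw [variableChange_b₆]
    show ui ^ 6 * (W₁.b₆ + 2 * 0 * W₁.b₄ + 0 ^ 2 * W₁.b₂ + 4 * 0 ^ 3) = W₂.b₆
    linear_combination ui ^ 6 * hb6 + W₂.b₆ * hzu6

theorem exists_I (W₁ W₂ : WeierstrassCurve R) (H : Hyp W₁ W₂) (h6 : IsUnit (6 : R)) (z : R)
    (hz : z ^ 2 * (W₁.c₄ * W₂.c₆) = W₁.c₆ * W₂.c₄) :
    ∃ C : VariableChange R, C • W₁ = W₂ := by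
  obtain ⟨i6, hi6⟩ := h6.exists_right_inv
  have h2 : (2 : R) * (3 * i6) = 1 := by linear_combination hi6
  have h3 : (3 : R) * (2 * i6) = 1 := by linear_combination hi6
  obtain ⟨i2, hi2⟩ : ∃ i2 : R, 2 * i2 = 1 := ⟨_, h2⟩
  obtain ⟨i3, hi3⟩ : ∃ i3 : R, 3 * i3 = 1 := ⟨_, h3⟩
  obtain ⟨k₄, hk₄⟩ := H.c₄₁.exists_right_inv
  obtain ⟨k₄', hk₄'⟩ := H.c₄₂.exists_right_inv
  obtain ⟨k₆, hk₆⟩ := H.c₆₁.exists_right_inv
  obtain ⟨k₆', hk₆'⟩ := H.c₆₂.exists_right_inv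
  have E1 : W₁.c₆ ^ 2 * W₂.c₄ ^ 3 = W₁.c₄ ^ 3 * W₂.c₆ ^ 2 := by
    linear_combination W₂.c₄ ^ 3 * W₁.c_relation - W₁.c₄ ^ 3 * W₂.c_relation + 1728 * H.hj
  -- z is a unit
  obtain ⟨ui, hzu⟩ : ∃ ui, z * ui = 1 :=
    ⟨z * (W₁.c₄ * W₂.c₆) * (k₆ * k₄'), by
      linear_combination (k₆ * k₄') * hz + (W₁.c₆ * k₆) * hk₄' + hk₆⟩
  have hzu2 := pow_mul_pow_one hzu 2
  have hzu3 := pow_mul_pow_one hzu 3
  have hzu4 := pow_mul_pow_one hzu 4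
  have hzu6 := pow_mul_pow_one hzu 6
  -- `c₄ = z⁴ c₄'`: multiply by the unit `c₄ ^ 2 * c₆' ^ 2`
  have hc₄ : W₁.c₄ = z ^ 4 * W₂.c₄ := by
    have hinv : (W₁.c₄ ^ 2 * W₂.c₆ ^ 2) * (k₄ ^ 2 * k₆' ^ 2) = 1 := by
      have h1 := pow_mul_pow_one hk₄ 2
      have h2 := pow_mul_pow_one hk₆' 2
      linear_combination (W₂.c₆ ^ 2 * k₆' ^ 2) * h1 + h2
    apply cancel_of_mul_eq_one hinv
    linear_combination (-1 : R) * E1
      - W₂.c₄ * (z ^ 2 * (W₁.c₄ * W₂.c₆) + W₁.c₆ * W₂.c₄) * hz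
  have hc₆ : W₁.c₆ = z ^ 6 * W₂.c₆ := by
    have hinv : (W₁.c₄ ^ 3 * W₂.c₆ ^ 3) * (k₄ ^ 3 * k₆' ^ 3) = 1 := by
      have h1 := pow_mul_pow_one hk₄ 3
      have h2 := pow_mul_pow_one hk₆' 3
      linear_combination (W₂.c₆ ^ 3 * k₆' ^ 3) * h1 + h2
    apply cancel_of_mul_eq_one hinv
    linear_combination (-(W₁.c₆ * W₂.c₆)) * E1
      - W₂.c₆ * ((z ^ 2 * (W₁.c₄ * W₂.c₆)) ^ 2 + z ^ 2 * (W₁.c₄ * W₂.c₆) * (W₁.c₆ * W₂.c₄)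
        + (W₁.c₆ * W₂.c₄) ^ 2) * hz
  have h4 : (4 : R) * i2 ^ 2 = 1 := by linear_combination (2 * i2 + 1) * hi2
  have h12 : (12 : R) * (i3 * i2 ^ 2) = 1 := by linear_combination (4 * i2 ^ 2) * hi3 + h4
  obtain ⟨r, hr⟩ : ∃ r : R, 12 * r = z ^ 2 * W₂.b₂ - W₁.b₂ :=
    ⟨i3 * i2 ^ 2 * (z ^ 2 * W₂.b₂ - W₁.b₂), by
      linear_combination (z ^ 2 * W₂.b₂ - W₁.b₂) * h12⟩
  refine ⟨⟨⟨z, ui, hzu, by rw [mul_comm]; exact hzu⟩, r, i2 * (z * W₂.a₁ - W₁.a₁),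
    i2 * (z ^ 3 * W₂.a₃ - W₁.a₃ - r * W₁.a₁)⟩, ?_⟩
  refine ext_of_six _ W₂ i2 i3 hi2 hi3 ?_ ?_ ?_ ?_ ?_
  · show ui * (W₁.a₁ + 2 * (i2 * (z * W₂.a₁ - W₁.a₁))) = W₂.a₁
    linear_combination W₂.a₁ * hzu + ui * (z * W₂.a₁ - W₁.a₁) * hi2
  · show ui ^ 3 * (W₁.a₃ + r * W₁.a₁ + 2 * (i2 * (z ^ 3 * W₂.a₃ - W₁.a₃ - r * W₁.a₁))) = W₂.a₃
    linear_combination W₂.a₃ * hzu3 + ui ^ 3 * (z ^ 3 * W₂.a₃ - W₁.a₃ - r * W₁.a₁) * hi2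
  · rw [variableChange_b₂]
    show ui ^ 2 * (W₁.b₂ + 12 * r) = W₂.b₂
    linear_combination ui ^ 2 * hr + W₂.b₂ * hzu2
  · rw [variableChange_c₄]
    show ui ^ 4 * W₁.c₄ = W₂.c₄
    linear_combination ui ^ 4 * hc₄ + W₂.c₄ * hzu4
  · rw [variableChange_c₆]
    show ui ^ 6 * W₁.c₆ = W₂.c₆
    linear_combination ui ^ 6 * hc₆ + W₂.c₆ * hzu6

theorem exists_II (W₁ W₂ : WeierstrassCurve R) (hb' : IsUnit W₂.b₂) (ha' : IsUnit W₂.a₁)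
    (h₁ : W₁.b₄ = 0) (h₂ : W₂.b₄ = 0)
    (hX : W₁.b₆ * W₂.b₂ ^ 3 = W₂.b₆ * W₁.b₂ ^ 3)
    (hj : W₁.c₄ ^ 3 * W₂.Δ = W₂.c₄ ^ 3 * W₁.Δ) (s : R)
    (hs : W₂.b₂ * (s ^ 2 + W₁.a₁ * s) + (W₂.a₂ * W₁.a₁ ^ 2 - W₁.a₂ * W₂.a₁ ^ 2) = 0)
    (hv : IsUnit (2 * s + W₁.a₁)) : ∃ C : VariableChange R, C • W₁ = W₂ := by
  obtain ⟨k', hk'⟩ := hb'.exists_right_inv
  obtain ⟨α', hα'⟩ := ha'.exists_right_inv
  obtain ⟨v, hv⟩ := hv.exists_right_inv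
  have e₂ : W₁.b₂ = W₁.a₁ ^ 2 + 4 * W₁.a₂ := rfl
  have e₂' : W₂.b₂ = W₂.a₁ ^ 2 + 4 * W₂.a₂ := rfl
  have e₄ : W₁.b₄ = 2 * W₁.a₄ + W₁.a₁ * W₁.a₃ := rfl
  have e₄' : W₂.b₄ = 2 * W₂.a₄ + W₂.a₁ * W₂.a₃ := rfl
  -- the unit `u`
  obtain ⟨u, hua⟩ : ∃ u, u * W₂.a₁ = 2 * s + W₁.a₁ :=
    ⟨(2 * s + W₁.a₁) * α', by linear_combination (2 * s + W₁.a₁) * hα'⟩
  obtain ⟨ui, huv⟩ : ∃ ui, u * ui = 1 :=
    ⟨W₂.a₁ * v, by linear_combination v * hua + hv⟩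
  have huv2 := pow_mul_pow_one huv 2
  have huv3 := pow_mul_pow_one huv 3
  have huv4 := pow_mul_pow_one huv 4
  have huv6 := pow_mul_pow_one huv 6
  have huv12 := pow_mul_pow_one huv 12
  have F1 : (2 * s + W₁.a₁) ^ 2 * W₂.b₂ = W₂.a₁ ^ 2 * W₁.b₂ := by
    linear_combination 4 * hs + W₁.a₁ ^ 2 * e₂' - W₂.a₁ ^ 2 * e₂
  have F2 : u ^ 2 * W₂.b₂ = W₁.b₂ := by
    apply cancel_of_mul_eq_one (pow_mul_pow_one hα' 2)
    linear_combination W₂.b₂ * (u * W₂.a₁ + (2 * s + W₁.a₁)) * hua + F1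
  have F3 : W₁.a₂ - s * W₁.a₁ - s ^ 2 = u ^ 2 * W₂.a₂ := by
    apply cancel_of_mul_eq_one hk'
    linear_combination (-1 : R) * hs + W₁.a₂ * e₂' - W₂.a₂ * e₂ - W₂.a₂ * F2
  obtain ⟨t, ht⟩ : ∃ t, t * (2 * s + W₁.a₁) = W₁.a₄ - s * W₁.a₃ - W₂.a₄ * u ^ 4 :=
    ⟨(W₁.a₄ - s * W₁.a₃ - W₂.a₄ * u ^ 4) * v, by
      linear_combination (W₁.a₄ - s * W₁.a₃ - W₂.a₄ * u ^ 4) * hv⟩
  have G3 : W₁.a₃ + 2 * t = u ^ 3 * W₂.a₃ := by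
    apply cancel_of_mul_eq_one hv
    linear_combination h₁ - e₄ + 2 * ht - u ^ 4 * h₂ + u ^ 4 * e₄' + u ^ 3 * W₂.a₃ * hua
  have hb6 : W₁.b₆ = u ^ 6 * W₂.b₆ := by
    apply cancel_of_mul_eq_one (pow_mul_pow_one hk' 3)
    linear_combination hX
      - W₂.b₆ * ((u ^ 2 * W₂.b₂) ^ 2 + u ^ 2 * W₂.b₂ * W₁.b₂ + W₁.b₂ ^ 2) * F2
  have hcc : W₁.c₄ = u ^ 4 * W₂.c₄ := by
    rw [c₄_of_b₄ W₁ h₁, c₄_of_b₄ W₂ h₂, ← F2]; ring
  have hkc : W₂.c₄ ^ 3 * (k' ^ 2) ^ 3 = 1 := by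
    rw [c₄_of_b₄ W₂ h₂, ← mul_pow, ← mul_pow, hk', one_pow, one_pow]
  have hΔ : W₁.Δ = u ^ 12 * W₂.Δ := by
    rw [hcc] at hj
    apply cancel_of_mul_eq_one hkc
    linear_combination (-1 : R) * hj
  refine ⟨⟨⟨u, ui, huv, by rw [mul_comm]; exact huv⟩, 0, s, t⟩, ?_⟩
  refine ext_of_b₂_unit _ W₂ ?_ ?_ ?_ ?_ ?_ ?_ k' hk'
  · show ui * (W₁.a₁ + 2 * s) = W₂.a₁
    linear_combination (-ui) * hua + W₂.a₁ * huv
  · show ui ^ 2 * (W₁.a₂ - s * W₁.a₁ + 3 * 0 - s ^ 2) = W₂.a₂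
    linear_combination ui ^ 2 * F3 + W₂.a₂ * huv2
  · show ui ^ 3 * (W₁.a₃ + 0 * W₁.a₁ + 2 * t) = W₂.a₃
    linear_combination ui ^ 3 * G3 + W₂.a₃ * huv3
  · show ui ^ 4 * (W₁.a₄ - s * W₁.a₃ + 2 * 0 * W₁.a₂ - (t + 0 * s) * W₁.a₁ + 3 * 0 ^ 2
      - 2 * s * t) = W₂.a₄
    linear_combination (-(ui ^ 4)) * ht + W₂.a₄ * huv4
  · rw [variableChange_b₆]
    show ui ^ 6 * (W₁.b₆ + 2 * 0 * W₁.b₄ + 0 ^ 2 * W₁.b₂ + 4 * 0 ^ 3) = W₂.b₆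
    linear_combination ui ^ 6 * hb6 + W₂.b₆ * huv6
  · rw [variableChange_Δ]
    show ui ^ 12 * W₁.Δ = W₂.Δ
    linear_combination ui ^ 12 * hΔ + W₂.Δ * huv12

end PureAlgebra

section Etale

open Polynomial

variable {Ω : Type u} [Field Ω]

/-- The étale-local goal: on some étale neighbourhood `B` of the geometric point `φ`, the two
curves are related by a change of variables. -/
def Goal (A : Type u) [CommRing A] (φ : A →+* Ω) (W₁ W₂ : WeierstrassCurve A) : Prop :=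
  ∃ (B : Type u) (_ : CommRing B) (_ : Algebra A B), Algebra.Etale A B ∧
    (∃ ψ : B →+* Ω, ψ.comp (algebraMap A B) = φ) ∧
    ∃ C : VariableChange B, C • W₁.map (algebraMap A B) = W₂.map (algebraMap A B)

theorem Goal.of_exists {A : Type u} [CommRing A] (φ : A →+* Ω) (W₁ W₂ : WeierstrassCurve A)
    (h : ∃ C : VariableChange A, C • W₁ = W₂) : Goal A φ W₁ W₂ := by
  obtain ⟨C, hC⟩ := h
  refine ⟨A, inferInstance, Algebra.id A, inferInstance, ⟨φ, ?_⟩, C, ?_⟩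
  · exact RingHom.comp_id φ
  · rw [Algebra.algebraMap_self, WeierstrassCurve.map_id, WeierstrassCurve.map_id]; exact hC

theorem Goal.of_nbhd {A : Type u} [CommRing A] (φ : A →+* Ω) (W₁ W₂ : WeierstrassCurve A)
    (B : Type u) [CommRing B] [Algebra A B] [Algebra.Etale A B] (ψ : B →+* Ω)
    (hψ : ψ.comp (algebraMap A B) = φ) (C₁ C₂ : VariableChange B)
    (h : Goal B ψ (C₁ • W₁.map (algebraMap A B)) (C₂ • W₂.map (algebraMap A B))) :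
    Goal A φ W₁ W₂ := by
  obtain ⟨B', iB', iBB', hét', ⟨ψ', hψ'⟩, C, hC⟩ := h
  haveI := hét'
  letI : Algebra A B' := ((algebraMap B B').comp (algebraMap A B)).toAlgebra
  haveI : IsScalarTower A B B' := IsScalarTower.of_algebraMap_eq (fun x => rfl)
  refine ⟨B', iB', inferInstance, Algebra.Etale.comp A B B', ⟨ψ', ?_⟩,
    (C₂.map (algebraMap B B'))⁻¹ * C * C₁.map (algebraMap B B'), ?_⟩
  · show ψ'.comp ((algebraMap B B').comp (algebraMap A B)) = φ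
    rw [← RingHom.comp_assoc, hψ', hψ]
  · have e1 : W₁.map (algebraMap A B') = (W₁.map (algebraMap A B)).map (algebraMap B B') :=
      (W₁.map_map (algebraMap A B) (algebraMap B B')).symm
    have e2 : W₂.map (algebraMap A B') = (W₂.map (algebraMap A B)).map (algebraMap B B') :=
      (W₂.map_map (algebraMap A B) (algebraMap B B')).symm
    rw [e1, e2, mul_smul, mul_smul, map_variableChange, hC, ← map_variableChange, inv_smul_smul]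

theorem Goal.of_etale {A : Type u} [CommRing A] (φ : A →+* Ω) (W₁ W₂ : WeierstrassCurve A)
    (B : Type u) [CommRing B] [Algebra A B] [Algebra.Etale A B] (ψ : B →+* Ω)
    (hψ : ψ.comp (algebraMap A B) = φ)
    (h : Goal B ψ (W₁.map (algebraMap A B)) (W₂.map (algebraMap A B))) : Goal A φ W₁ W₂ := by
  refine Goal.of_nbhd φ W₁ W₂ B ψ hψ 1 1 ?_
  rwa [one_smul, one_smul]

theorem Goal.of_away {A : Type u} [CommRing A] (φ : A →+* Ω) (W₁ W₂ : WeierstrassCurve A)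
    (h : A) (hh : φ h ≠ 0)
    (H : ∀ (B : Type u) [CommRing B] [Algebra A B] (ψ : B →+* Ω),
      ψ.comp (algebraMap A B) = φ → IsUnit (algebraMap A B h) →
      Goal B ψ (W₁.map (algebraMap A B)) (W₂.map (algebraMap A B))) : Goal A φ W₁ W₂ := by
  haveI : Algebra.Etale A (Localization.Away h) := Algebra.Etale.of_isLocalizationAway h
  have hu : IsUnit (φ h) := isUnit_iff_ne_zero.mpr hh
  exact Goal.of_etale φ W₁ W₂ (Localization.Away h) (IsLocalization.Away.lift h hu)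
    (IsLocalization.Away.lift_comp h hu)
    (H _ _ (IsLocalization.Away.lift_comp h hu) (IsLocalization.Away.algebraMap_isUnit h))

theorem quad_derivative {A : Type u} [CommRing A] (a b : A) :
    derivative (X ^ 2 + (C a * X + C b) : A[X]) = C 2 * X + C a := by
  rw [derivative_add, derivative_add, derivative_X_pow, derivative_C, add_zero, derivative_mul,
    derivative_C, zero_mul, zero_add, derivative_X, mul_one]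
  norm_num

/-- The standard étale pair `(X² + aX + b, (2X + a) h)`. -/
noncomputable def quadPair {A : Type u} [CommRing A] (a b : A) (h : A[X]) :
    StandardEtalePair A where
  f := X ^ 2 + (C a * X + C b)
  monic_f := monic_X_pow_add degree_linear_lt
  g := (C 2 * X + C a) * h
  cond := ⟨h, 0, 1, by rw [quad_derivative, mul_zero, add_zero, pow_one]⟩

/-- A root `ω` of `X² + aX + b` at the geometric point with `2ω + a ≠ 0` and `h(ω) ≠ 0` lifts to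
an étale neighbourhood. -/
theorem quad_nbhd {A : Type u} [CommRing A] (φ : A →+* Ω) (a b : A) (h : A[X]) (ω : Ω)
    (hω : ω ^ 2 + φ a * ω + φ b = 0) (hd : 2 * ω + φ a ≠ 0) (hh : h.eval₂ φ ω ≠ 0) :
    ∃ (B : Type u) (_ : CommRing B) (_ : Algebra A B), Algebra.Etale A B ∧
      ∃ ψ : B →+* Ω, ψ.comp (algebraMap A B) = φ ∧ ∃ z : B,
        z ^ 2 + algebraMap A B a * z + algebraMap A B b = 0 ∧
        IsUnit (2 * z + algebraMap A B a) ∧ IsUnit (aeval z h) := by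
  letI : Algebra A Ω := φ.toAlgebra
  have hmap : (quadPair a b h).HasMap ω := by
    refine ⟨?_, ?_⟩
    · show aeval ω (X ^ 2 + (C a * X + C b) : A[X]) = 0
      rw [aeval_def, eval₂_add, eval₂_add, eval₂_pow, eval₂_X, eval₂_mul, eval₂_C, eval₂_X,
        eval₂_C]
      show ω ^ 2 + (φ a * ω + φ b) = 0
      rw [← add_assoc]; exact hω
    · show IsUnit (aeval ω ((C 2 * X + C a) * h : A[X]))
      rw [aeval_def, eval₂_mul, eval₂_add, eval₂_mul, eval₂_C, eval₂_X, eval₂_C]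
      refine isUnit_iff_ne_zero.mpr (mul_ne_zero ?_ hh)
      show φ 2 * ω + φ a ≠ 0
      rw [map_ofNat]; exact hd
  refine ⟨(quadPair a b h).Ring, inferInstance, inferInstance, inferInstance,
    ((quadPair a b h).lift ω hmap).toRingHom, ?_, (quadPair a b h).X, ?_, ?_, ?_⟩
  · exact ((quadPair a b h).lift ω hmap).comp_algebraMap
  · have h1 : aeval (quadPair a b h).X (X ^ 2 + (C a * X + C b) : A[X]) = 0 :=
      (quadPair a b h).hasMap_X.1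
    simp only [map_add, map_mul, map_pow, aeval_X, aeval_C] at h1
    rw [← add_assoc] at h1; exact h1
  · have h2 : IsUnit (aeval (quadPair a b h).X ((C 2 * X + C a) * h : A[X])) :=
      (quadPair a b h).hasMap_X.2
    rw [map_mul] at h2
    have h3 := (IsUnit.mul_iff.mp h2).1
    simp only [map_add, map_mul, aeval_X, aeval_C, map_ofNat] at h3
    exact h3
  · have h2 : IsUnit (aeval (quadPair a b h).X ((C 2 * X + C a) * h : A[X])) :=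
      (quadPair a b h).hasMap_X.2
    rw [map_mul] at h2
    exact (IsUnit.mul_iff.mp h2).2

theorem exists_quad_root [IsAlgClosed Ω] (a b : Ω) : ∃ ω : Ω, ω ^ 2 + a * ω + b = 0 := by
  have hlt : degree (C a * X + C b : Polynomial Ω) < degree ((X : Polynomial Ω) ^ 2) := by
    rw [degree_X_pow]; exact degree_linear_lt
  have hdeg : degree ((X : Polynomial Ω) ^ 2 + (C a * X + C b)) ≠ 0 := by
    rw [degree_add_eq_left_of_degree_lt hlt, degree_X_pow]; norm_num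
  obtain ⟨ω, hω⟩ := IsAlgClosed.exists_root _ hdeg
  refine ⟨ω, ?_⟩
  simp only [IsRoot.def, eval_add, eval_pow, eval_X, eval_mul, eval_C] at hω
  rw [add_assoc]; exact hω

/-- Adjoining a square root of a unit when `2` is invertible. -/
theorem sqrt_nbhd {A : Type u} [CommRing A] [IsAlgClosed Ω] (φ : A →+* Ω) (h2 : IsUnit (2 : A))
    (μ : A) (hμ : IsUnit μ) :
    ∃ (B : Type u) (_ : CommRing B) (_ : Algebra A B), Algebra.Etale A B ∧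
      ∃ ψ : B →+* Ω, ψ.comp (algebraMap A B) = φ ∧ ∃ z : B, z ^ 2 = algebraMap A B μ := by
  obtain ⟨ω, hω⟩ := IsAlgClosed.exists_pow_nat_eq (φ μ) (n := 2) two_pos
  have hω0 : ω ≠ 0 := by
    rintro rfl
    rw [zero_pow two_ne_zero] at hω
    exact (hμ.map φ).ne_zero hω.symm
  have h2Ω : (2 : Ω) ≠ 0 := by
    have := (h2.map φ).ne_zero
    rwa [map_ofNat] at this
  obtain ⟨B, iB, iAB, hét, ψ, hψ, z, hz, -, -⟩ := quad_nbhd φ 0 (-μ) 1 ω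
    (by rw [map_zero, zero_mul, add_zero, map_neg, hω, add_neg_cancel])
    (by rw [map_zero, add_zero]; exact mul_ne_zero h2Ω hω0)
    (by rw [eval₂_one]; exact one_ne_zero)
  refine ⟨B, iB, iAB, hét, ψ, hψ, z, ?_⟩
  rw [map_zero, zero_mul, add_zero, map_neg] at hz
  linear_combination hz

theorem b₄_map {A B : Type u} [CommRing A] [CommRing B] (f : A →+* B) (W : WeierstrassCurve A)
    (h : W.b₄ = 0) : (W.map f).b₄ = 0 := by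
  rw [WeierstrassCurve.map_b₄, h, map_zero]

theorem hX_map {A B : Type u} [CommRing A] [CommRing B] (f : A →+* B)
    (W₁ W₂ : WeierstrassCurve A) (hX : W₁.b₆ * W₂.b₂ ^ 3 = W₂.b₆ * W₁.b₂ ^ 3) :
    (W₁.map f).b₆ * (W₂.map f).b₂ ^ 3 = (W₂.map f).b₆ * (W₁.map f).b₂ ^ 3 := by
  simp only [WeierstrassCurve.map_b₆, WeierstrassCurve.map_b₂, ← map_pow, ← map_mul, hX]

theorem phi_a₁_ne {A : Type u} [CommRing A] (φ : A →+* Ω) (h2 : (2 : Ω) = 0)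
    (W : WeierstrassCurve A) (hb : IsUnit W.b₂) : φ W.a₁ ≠ 0 := by
  intro h0
  have h4 : φ 4 = 0 := by
    rw [show (4 : A) = 2 * 2 by norm_num, map_mul, map_ofNat, h2, zero_mul]
  have : φ W.b₂ = 0 := by
    rw [show W.b₂ = W.a₁ ^ 2 + 4 * W.a₂ from rfl, map_add, map_pow, map_mul, h0, h4]; ring
  exact (hb.map φ).ne_zero this

theorem phi_b₂_ne {A : Type u} [CommRing A] (φ : A →+* Ω) (h6 : (6 : Ω) = 0)
    (W : WeierstrassCurve A) (hc : IsUnit W.c₄) : φ W.b₂ ≠ 0 := by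
  intro h0
  have h24 : φ 24 = 0 := by
    rw [show (24 : A) = 6 * 4 by norm_num, map_mul, map_ofNat, h6, zero_mul]
  have : φ W.c₄ = 0 := by
    rw [show W.c₄ = W.b₂ ^ 2 - 24 * W.b₄ from rfl, map_sub, map_pow, map_mul, h0, h24]; ring
  exact (hc.map φ).ne_zero this

/-- Step 1: kill `b₄` on an étale neighbourhood (residue characteristic 2 or 3). -/
theorem kill_b₄ {A : Type u} [CommRing A] (φ : A →+* Ω) (h6 : (6 : Ω) = 0)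
    (W : WeierstrassCurve A) (hb : φ W.b₂ ≠ 0) :
    ∃ (B : Type u) (_ : CommRing B) (_ : Algebra A B), Algebra.Etale A B ∧
      ∃ ψ : B →+* Ω, ψ.comp (algebraMap A B) = φ ∧
        ∃ C : VariableChange B, (C • W.map (algebraMap A B)).b₄ = 0 := by
  obtain ⟨B, iB, iAB, hét, ψ, hψ, z, hz, -, hu⟩ :=
    quad_nbhd φ W.b₂ (6 * W.b₄) (X + C W.b₂) 0
      (by rw [map_mul, map_ofNat, h6]; ring)
      (by rw [mul_zero, zero_add]; exact hb)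
      (by rw [eval₂_add, eval₂_X, eval₂_C, zero_add]; exact hb)
  refine ⟨B, iB, iAB, hét, ψ, hψ, ?_⟩
  apply kill_alg (W.map (algebraMap A B)) z
  · rw [WeierstrassCurve.map_b₂, WeierstrassCurve.map_b₄]
    rw [map_mul, map_ofNat] at hz
    exact hz
  · rw [WeierstrassCurve.map_b₂]
    rw [map_add, aeval_X, aeval_C] at hu
    exact hu

theorem conclude_I' {A : Type u} [CommRing A] [IsAlgClosed Ω] (φ : A →+* Ω)
    (W₁ W₂ : WeierstrassCurve A) (H : Hyp W₁ W₂) (h6 : IsUnit (6 : A)) : Goal A φ W₁ W₂ := by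
  have h2 : IsUnit (2 : A) := by
    have : IsUnit ((2 : A) * 3) := by norm_num; exact h6
    exact isUnit_of_mul_isUnit_left this
  obtain ⟨k₄, hk₄⟩ := H.c₄₁.exists_right_inv
  obtain ⟨k₆', hk₆'⟩ := H.c₆₂.exists_right_inv
  have hk₄u : IsUnit k₄ := IsUnit.of_mul_eq_one_right W₁.c₄ hk₄
  have hk₆'u : IsUnit k₆' := IsUnit.of_mul_eq_one_right W₂.c₆ hk₆'
  have hμ : IsUnit (W₁.c₆ * W₂.c₄ * k₄ * k₆') := ((H.c₆₁.mul H.c₄₂).mul hk₄u).mul hk₆'u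
  have hA : (W₁.c₆ * W₂.c₄ * k₄ * k₆') * (W₁.c₄ * W₂.c₆) = W₁.c₆ * W₂.c₄ := by
    linear_combination (W₁.c₆ * W₂.c₄) * (W₁.c₄ * k₄) * hk₆' + (W₁.c₆ * W₂.c₄) * hk₄
  obtain ⟨B, iB, iAB, hét, ψ, hψ, z, hz⟩ := sqrt_nbhd φ h2 _ hμ
  haveI := hét
  refine Goal.of_etale φ W₁ W₂ B ψ hψ (Goal.of_exists ψ _ _ ?_)
  refine exists_I _ _ (H.map (algebraMap A B)) ?_ z ?_
  · have := h6.map (algebraMap A B)
    rwa [map_ofNat] at this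
  · rw [WeierstrassCurve.map_c₄, WeierstrassCurve.map_c₄, WeierstrassCurve.map_c₆,
      WeierstrassCurve.map_c₆, hz, ← map_mul, ← map_mul, ← map_mul, hA]

theorem conclude_I {A : Type u} [CommRing A] [IsAlgClosed Ω] (φ : A →+* Ω) (h6 : (6 : Ω) ≠ 0)
    (W₁ W₂ : WeierstrassCurve A) (H : Hyp W₁ W₂) : Goal A φ W₁ W₂ := by
  refine Goal.of_away φ W₁ W₂ 6 (by rw [map_ofNat]; exact h6) ?_
  intro B _ _ ψ _ hu
  rw [map_ofNat] at hu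
  exact conclude_I' ψ _ _ (H.map _) hu

theorem conclude_III' {A : Type u} [CommRing A] [IsAlgClosed Ω] (φ : A →+* Ω)
    (W₁ W₂ : WeierstrassCurve A) (H : Hyp W₁ W₂) (h₁ : W₁.b₄ = 0) (h₂ : W₂.b₄ = 0)
    (hX : W₁.b₆ * W₂.b₂ ^ 3 = W₂.b₆ * W₁.b₂ ^ 3) (h2 : IsUnit (2 : A)) : Goal A φ W₁ W₂ := by
  have hb := isUnit_b₂_of_b₄ W₁ h₁ H.c₄₁
  have hb' := isUnit_b₂_of_b₄ W₂ h₂ H.c₄₂
  obtain ⟨k', hk'⟩ := hb'.exists_right_inv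
  have hk'u : IsUnit k' := IsUnit.of_mul_eq_one_right W₂.b₂ hk'
  have hA : (W₁.b₂ * k') * W₂.b₂ = W₁.b₂ := by linear_combination W₁.b₂ * hk'
  obtain ⟨B, iB, iAB, hét, ψ, hψ, z, hz⟩ := sqrt_nbhd φ h2 _ (hb.mul hk'u)
  haveI := hét
  refine Goal.of_etale φ W₁ W₂ B ψ hψ (Goal.of_exists ψ _ _ ?_)
  refine exists_III _ _ ?_ ?_ ?_ (b₄_map _ _ h₁) (b₄_map _ _ h₂) (hX_map _ _ _ hX) z ?_
  · have := h2.map (algebraMap A B)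
    rwa [map_ofNat] at this
  · rw [WeierstrassCurve.map_b₂]; exact hb.map _
  · rw [WeierstrassCurve.map_b₂]; exact hb'.map _
  · rw [WeierstrassCurve.map_b₂, WeierstrassCurve.map_b₂, hz, ← map_mul, hA]

theorem conclude_II' {A : Type u} [CommRing A] [IsAlgClosed Ω] (φ : A →+* Ω) (h2 : (2 : Ω) = 0)
    (W₁ W₂ : WeierstrassCurve A) (H : Hyp W₁ W₂) (h₁ : W₁.b₄ = 0) (h₂ : W₂.b₄ = 0)
    (hX : W₁.b₆ * W₂.b₂ ^ 3 = W₂.b₆ * W₁.b₂ ^ 3) (ha' : IsUnit W₂.a₁) : Goal A φ W₁ W₂ := by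
  have hb := isUnit_b₂_of_b₄ W₁ h₁ H.c₄₁
  have hb' := isUnit_b₂_of_b₄ W₂ h₂ H.c₄₂
  obtain ⟨k', hk'⟩ := hb'.exists_right_inv
  have hφa : φ W₁.a₁ ≠ 0 := phi_a₁_ne φ h2 W₁ hb
  obtain ⟨ω, hω⟩ := exists_quad_root (φ W₁.a₁)
    (φ (k' * (W₂.a₂ * W₁.a₁ ^ 2 - W₁.a₂ * W₂.a₁ ^ 2)))
  obtain ⟨B, iB, iAB, hét, ψ, hψ, s, hs, hu, -⟩ :=
    quad_nbhd φ W₁.a₁ (k' * (W₂.a₂ * W₁.a₁ ^ 2 - W₁.a₂ * W₂.a₁ ^ 2)) 1 ω hω
      (by rw [h2, zero_mul, zero_add]; exact hφa)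
      (by rw [eval₂_one]; exact one_ne_zero)
  haveI := hét
  refine Goal.of_etale φ W₁ W₂ B ψ hψ (Goal.of_exists ψ _ _ ?_)
  have hA : W₂.b₂ * (k' * (W₂.a₂ * W₁.a₁ ^ 2 - W₁.a₂ * W₂.a₁ ^ 2))
      = W₂.a₂ * W₁.a₁ ^ 2 - W₁.a₂ * W₂.a₁ ^ 2 := by
    linear_combination (W₂.a₂ * W₁.a₁ ^ 2 - W₁.a₂ * W₂.a₁ ^ 2) * hk'
  have hA' := congrArg (algebraMap A B) hA
  simp only [map_mul, map_sub, map_pow] at hA' hs
  refine exists_II _ _ ?_ (ha'.map (algebraMap A B)) (b₄_map _ _ h₁) (b₄_map _ _ h₂)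
    (hX_map _ _ _ hX) (H.map _).hj s ?_ hu
  · rw [WeierstrassCurve.map_b₂]; exact hb'.map _
  · rw [WeierstrassCurve.map_b₂]
    show algebraMap A B W₂.b₂ * (s ^ 2 + algebraMap A B W₁.a₁ * s)
      + (algebraMap A B W₂.a₂ * algebraMap A B W₁.a₁ ^ 2
        - algebraMap A B W₁.a₂ * algebraMap A B W₂.a₁ ^ 2) = 0
    linear_combination algebraMap A B W₂.b₂ * hs - hA'

theorem main_X {A : Type u} [CommRing A] [IsAlgClosed Ω] (φ : A →+* Ω)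
    (W₁ W₂ : WeierstrassCurve A) (H : Hyp W₁ W₂) (h₁ : W₁.b₄ = 0) (h₂ : W₂.b₄ = 0)
    (hX : W₁.b₆ * W₂.b₂ ^ 3 = W₂.b₆ * W₁.b₂ ^ 3) : Goal A φ W₁ W₂ := by
  by_cases h2 : (2 : Ω) = 0
  · have hb' := isUnit_b₂_of_b₄ W₂ h₂ H.c₄₂
    refine Goal.of_away φ W₁ W₂ W₂.a₁ (phi_a₁_ne φ h2 W₂ hb') ?_
    intro B _ _ ψ _ hu
    exact conclude_II' ψ h2 _ _ (H.map _) (b₄_map _ _ h₁) (b₄_map _ _ h₂) (hX_map _ _ _ hX) hu
  · refine Goal.of_away φ W₁ W₂ 2 (by rw [map_ofNat]; exact h2) ?_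
    intro B _ _ ψ _ hu
    rw [map_ofNat] at hu
    exact conclude_III' ψ _ _ (H.map _) (b₄_map _ _ h₁) (b₄_map _ _ h₂) (hX_map _ _ _ hX) hu

theorem main_b₄ {A : Type u} [CommRing A] [IsAlgClosed Ω] (φ : A →+* Ω) (h6 : (6 : Ω) = 0)
    (W₁ W₂ : WeierstrassCurve A) (H : Hyp W₁ W₂) (h₁ : W₁.b₄ = 0) (h₂ : W₂.b₄ = 0) :
    Goal A φ W₁ W₂ := by
  have hb := isUnit_b₂_of_b₄ W₁ h₁ H.c₄₁
  have hb' := isUnit_b₂_of_b₄ W₂ h₂ H.c₄₂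
  have h108 : φ 108 = 0 := by
    rw [show (108 : A) = 6 * 18 by norm_num, map_mul, map_ofNat, h6, zero_mul]
  have hD : φ (W₁.b₂ ^ 3 * W₂.b₂ ^ 3 + 108 * (W₁.b₆ * W₂.b₂ ^ 3 + W₂.b₆ * W₁.b₂ ^ 3)) ≠ 0 := by
    rw [map_add, map_mul φ 108, h108, zero_mul, add_zero]
    exact (((hb.pow 3).mul (hb'.pow 3)).map φ).ne_zero
  refine Goal.of_away φ W₁ W₂ _ hD ?_
  intro B _ _ ψ _ hu
  have h₁' := b₄_map (algebraMap A B) W₁ h₁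
  have h₂' := b₄_map (algebraMap A B) W₂ h₂
  refine main_X ψ _ _ (H.map _) h₁' h₂' (hX_of_D _ _ h₁' h₂' (H.map _).hj ?_)
  have e : (W₁.map (algebraMap A B)).b₂ ^ 3 * (W₂.map (algebraMap A B)).b₂ ^ 3
      + 108 * ((W₁.map (algebraMap A B)).b₆ * (W₂.map (algebraMap A B)).b₂ ^ 3
        + (W₂.map (algebraMap A B)).b₆ * (W₁.map (algebraMap A B)).b₂ ^ 3)
      = algebraMap A B (W₁.b₂ ^ 3 * W₂.b₂ ^ 3
        + 108 * (W₁.b₆ * W₂.b₂ ^ 3 + W₂.b₆ * W₁.b₂ ^ 3)) := by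
    simp only [WeierstrassCurve.map_b₂, WeierstrassCurve.map_b₆, map_add, map_mul, map_pow,
      map_ofNat]
  rw [e]; exact hu

theorem main {A : Type u} [CommRing A] [IsAlgClosed Ω] (φ : A →+* Ω)
    (W₁ W₂ : WeierstrassCurve A) (H : Hyp W₁ W₂) : Goal A φ W₁ W₂ := by
  by_cases h6 : (6 : Ω) = 0
  · obtain ⟨B₁, iB₁, iAB₁, hét₁, ψ₁, hψ₁, C₁, hC₁⟩ :=
      kill_b₄ φ h6 W₁ (phi_b₂_ne φ h6 W₁ H.c₄₁)
    haveI := hét₁
    refine Goal.of_nbhd φ W₁ W₂ B₁ ψ₁ hψ₁ C₁ 1 ?_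
    rw [one_smul]
    have H₁ : Hyp (C₁ • W₁.map (algebraMap A B₁)) (W₂.map (algebraMap A B₁)) :=
      (H.map _).smul_left C₁
    obtain ⟨B₂, iB₂, iAB₂, hét₂, ψ₂, hψ₂, C₂, hC₂⟩ :=
      kill_b₄ ψ₁ h6 (W₂.map (algebraMap A B₁)) (phi_b₂_ne ψ₁ h6 _ H₁.c₄₂)
    haveI := hét₂
    refine Goal.of_nbhd ψ₁ _ _ B₂ ψ₂ hψ₂ 1 C₂ ?_
    rw [one_smul]
    exact main_b₄ ψ₂ h6 _ _ ((H₁.map _).smul_right C₂) (b₄_map _ _ hC₁) hC₂
  · exact conclude_I φ h6 W₁ W₂ H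

end Etale

/-- Let A be a commutative ring and W₁, W₂ Weierstrass cubics over A with unit discriminants and the
same j-invariant j, such that j and j - 1728 are both units of A (the modular invariant avoids the
special values 0 and 1728 at every point). Then for every prime ideal p of A there exist an étale
A-algebra B with a prime lying over p and a change of variables over B carrying the base change of
W₁ to that of W₂; that is, the two elliptic curves become isomorphic on an étale neighbourhood of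
every point of Spec A. (The published statement is about Weierstrass curves with possibly nodal,
geometrically irreducible fibres over an arbitrary base scheme whose modular invariant avoids 0,
1728 and ∞; this row is the case of unit discriminant over an affine base.) -/
theorem result (A : Type u) [CommRing A]
    (W₁ W₂ : WeierstrassCurve A) [W₁.IsElliptic] [W₂.IsElliptic] (hj : W₁.j = W₂.j)
    (h0 : IsUnit W₁.j) (h1728 : IsUnit (W₁.j - 1728)) (p : PrimeSpectrum A) :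
    ∃ (B : Type u) (_ : CommRing B) (_ : Algebra A B), Algebra.Etale A B ∧
      p ∈ Set.range (PrimeSpectrum.comap (algebraMap A B)) ∧
      ∃ C : WeierstrassCurve.VariableChange B, C • (W₁.map (algebraMap A B)) = W₂.map (algebraMap A B) := by
  have hinv₁ : W₁.Δ * ↑W₁.Δ'⁻¹ = 1 := by rw [← W₁.coe_Δ']; exact W₁.Δ'.mul_inv
  have hinv₂ : W₂.Δ * ↑W₂.Δ'⁻¹ = 1 := by rw [← W₂.coe_Δ']; exact W₂.Δ'.mul_inv
  have hJ₁ : W₁.c₄ ^ 3 = W₁.Δ * W₁.j := by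
    rw [show W₁.j = ↑W₁.Δ'⁻¹ * W₁.c₄ ^ 3 from rfl]
    linear_combination (-(W₁.c₄ ^ 3)) * hinv₁
  have hJ₂ : W₂.c₄ ^ 3 = W₂.Δ * W₁.j := by
    rw [hj, show W₂.j = ↑W₂.Δ'⁻¹ * W₂.c₄ ^ 3 from rfl]
    linear_combination (-(W₂.c₄ ^ 3)) * hinv₂
  have H : Hyp W₁ W₂ := by
    refine ⟨W₁.isUnit_Δ, W₂.isUnit_Δ, ?_, ?_, ?_, ?_, ?_⟩
    · have : IsUnit (W₁.c₄ ^ 3) := by rw [hJ₁]; exact W₁.isUnit_Δ.mul h0
      exact (isUnit_pow_iff three_ne_zero).mp this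
    · have : IsUnit (W₂.c₄ ^ 3) := by rw [hJ₂]; exact W₂.isUnit_Δ.mul h0
      exact (isUnit_pow_iff three_ne_zero).mp this
    · have e : W₁.c₆ ^ 2 = W₁.Δ * (W₁.j - 1728) := by
        linear_combination W₁.c_relation + hJ₁
      have : IsUnit (W₁.c₆ ^ 2) := by rw [e]; exact W₁.isUnit_Δ.mul h1728
      exact (isUnit_pow_iff two_ne_zero).mp this
    · have e : W₂.c₆ ^ 2 = W₂.Δ * (W₁.j - 1728) := by
        linear_combination W₂.c_relation + hJ₂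
      have : IsUnit (W₂.c₆ ^ 2) := by rw [e]; exact W₂.isUnit_Δ.mul h1728
      exact (isUnit_pow_iff two_ne_zero).mp this
    · linear_combination W₂.Δ * hJ₁ - W₁.Δ * hJ₂
  obtain ⟨φ, hφ⟩ : ∃ φ : A →+* AlgebraicClosure p.asIdeal.ResidueField,
      ∀ x, φ x = 0 ↔ x ∈ p.asIdeal :=
    ⟨(algebraMap p.asIdeal.ResidueField (AlgebraicClosure p.asIdeal.ResidueField)).comp
      (algebraMap A p.asIdeal.ResidueField), fun x => by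
        rw [RingHom.comp_apply, map_eq_zero, Ideal.algebraMap_residueField_eq_zero]⟩
  obtain ⟨B, iB, iAB, hét, ⟨ψ, hψ⟩, C, hC⟩ := main φ W₁ W₂ H
  refine ⟨B, iB, iAB, hét, ⟨⟨RingHom.ker ψ, RingHom.ker_isPrime ψ⟩, ?_⟩, C, hC⟩
  apply PrimeSpectrum.ext
  ext x
  rw [PrimeSpectrum.comap_asIdeal, Ideal.mem_comap, RingHom.mem_ker, ← hφ x, ← hψ]
  rfl

end Groth.Agent.S14292
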