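import Groth.Statements.S14295
import Mathlib.Tactic
-- import your own Groth.Agent.* helpers here

set_option autoImplicit false
universe u v
open PtDeg

namespace Groth.Agent.S14295

theorem f_zero {A : Type u} {G : Type v} [AddCommGroup A] [AddCommGroup G]
    (f : A → G) (hf : ∀ x y z : A, f (x + y + z) + f x + f y + f z = f (x + y) + f (x + z) + f (y + z)) :
    f 0 = 0 := by
  have h := hf 0 0 0
  simp only [add_zero] at h
  have e : f 0 = (f 0 + f 0 + f 0 + f 0) - (f 0 + f 0 + f 0) := by abel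
  rw [e, h, sub_self]

theorem rec_step {A : Type u} {G : Type v} [AddCommGroup A] [AddCommGroup G]
    (f : A → G) (hf : ∀ x y z : A, f (x + y + z) + f x + f y + f z = f (x + y) + f (x + z) + f (y + z))
    (m : ℤ) (x : A) :
    f ((m + 1) • x) = 2 • f (m • x) - f ((m - 1) • x) + f x + f (-x) := by
  have h := hf (m • x) x (-x)
  have h0 := f_zero f hf
  have e1 : m • x + x + -x = m • x := by abel
  have e2 : m • x + x = (m + 1) • x := by rw [add_smul, one_smul]
  have e3 : m • x + -x = (m - 1) • x := by rw [sub_smul, one_smul, sub_eq_add_neg]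
  have e4 : x + -x = 0 := by abel
  rw [e1, e2, e3, e4, h0, add_zero] at h
  rw [← sub_eq_zero]
  have : f ((m + 1) • x) = f (m • x) + f (m • x) + f x + f (-x) - f ((m - 1) • x) := by
    rw [h]; abel
  rw [this]; abel

theorem nat_case {A : Type u} {G : Type v} [AddCommGroup A] [AddCommGroup G]
    (f : A → G) (hf : ∀ x y z : A, f (x + y + z) + f x + f y + f z = f (x + y) + f (x + z) + f (y + z))
    (x : A) (n : ℕ) :
    f ((n : ℤ) • x) = ((n : ℤ) * ((n : ℤ) + 1) / 2) • f x + ((n : ℤ) * ((n : ℤ) - 1) / 2) • f (-x) ∧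
    f (((n : ℤ) + 1) • x) = (((n : ℤ) + 1) * ((n : ℤ) + 2) / 2) • f x + (((n : ℤ) + 1) * (n : ℤ) / 2) • f (-x) := by
  induction n with
  | zero =>
    refine ⟨?_, ?_⟩
    · simp [f_zero f hf]
    · simp
  | succ k ih =>
    obtain ⟨ih1, ih2⟩ := ih
    refine ⟨?_, ?_⟩
    · push_cast
      convert ih2 using 3
      · ring_nf
      · ring_nf
    · have h := rec_step f hf ((k : ℤ) + 1) x
      have e : ((k : ℤ) + 1 - 1) = (k : ℤ) := by ring
      rw [e, ih1, ih2] at h
      push_cast
      rw [h]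
      obtain ⟨a, ha⟩ : ∃ a : ℤ, (k : ℤ) * ((k : ℤ) + 1) = 2 * a := by
        obtain ⟨r, hr⟩ := Int.even_mul_succ_self (k : ℤ)
        exact ⟨r, by rw [hr]; ring⟩
      obtain ⟨b, hb⟩ : ∃ b : ℤ, (k : ℤ) * ((k : ℤ) - 1) = 2 * b := by
        obtain ⟨r, hr⟩ := Int.even_mul_succ_self ((k : ℤ) - 1)
        exact ⟨r, by rw [← two_mul] at hr; rw [← hr]; ring⟩
      have e1 : ((k : ℤ) + 1) * ((k : ℤ) + 2) = 2 * (a + k + 1) := by linear_combination ha
      have e2 : ((k : ℤ) + 1) * (k : ℤ) = 2 * a := by linear_combination ha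
      have e3 : ((k : ℤ) + 1 + 1) * ((k : ℤ) + 1 + 2) = 2 * (a + 2 * k + 3) := by linear_combination ha
      have e4 : ((k : ℤ) + 1 + 1) * ((k : ℤ) + 1) = 2 * (a + k + 1) := by linear_combination ha
      rw [ha, hb, e1, e2, e3, e4]
      simp only [Int.mul_ediv_cancel_left _ (two_ne_zero)]
      have hab : a = b + k := by linarith
      subst hab
      simp only [add_smul, smul_add, two_smul, one_smul, mul_smul, natCast_zsmul]
      abel

/-- Let A and G be abelian groups, written additively, and f : A → G a map which is pointed of degree 2,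
that is f(x+y+z) + f(x) + f(y) + f(z) = f(x+y) + f(x+z) + f(y+z) for all x, y, z in A. Then for
every integer n and every x in A one has f(n·x) = (n(n+1)/2)·f(x) + (n(n−1)/2)·f(−x) (the two
coefficients are the integers n(n+1)/2 and n(n−1)/2). -/
theorem result {A : Type u} {G : Type v} [AddCommGroup A] [AddCommGroup G]
    (f : A → G) (hf : ∀ x y z : A, f (x + y + z) + f x + f y + f z = f (x + y) + f (x + z) + f (y + z))
    (n : ℤ) (x : A) :
    f (n • x) = (n * (n + 1) / 2) • f x + (n * (n - 1) / 2) • f (-x) := by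
  obtain ⟨k, rfl | rfl⟩ := Int.eq_nat_or_neg n
  · exact (nat_case f hf x k).1
  · have h := (nat_case f hf (-x) k).1
    rw [neg_neg] at h
    have e : (-(k : ℤ)) • x = (k : ℤ) • (-x) := by rw [neg_smul, smul_neg]
    rw [e, h]
    have e1 : -(k : ℤ) * (-(k : ℤ) + 1) = (k : ℤ) * ((k : ℤ) - 1) := by ring
    have e2 : -(k : ℤ) * (-(k : ℤ) - 1) = (k : ℤ) * ((k : ℤ) + 1) := by ring
    rw [e1, e2, add_comm]

end Groth.Agent.S14295
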