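import Groth.Statements.S14294
import Groth.Agent.S14295
-- import your own Groth.Agent.* helpers here

set_option autoImplicit false
universe u v
open PtDeg

namespace Groth.Agent.S14294

theorem key {A : Type u} {G : Type v} [AddCommGroup A] [AddCommGroup G]
    (f : A → G) (hf : ∀ x y z : A, f (x + y + z) + f x + f y + f z = f (x + y) + f (x + z) + f (y + z))
    (n : ℤ) (hn : ∀ x : A, n • x = 0) (x : A) :
    n • (f x + f (-x)) = 0 ∧ ∃ a : ℤ, n * (n - 1) = 2 * a ∧ a • (f x + f (-x)) + n • f x = 0 := by
  have h0 := Groth.Agent.S14295.f_zero f hf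
  have h1 := Groth.Agent.S14295.result f hf n x
  have h2 := Groth.Agent.S14295.result f hf (n + 1) x
  rw [hn, h0] at h1
  have e : (n + 1) • x = x := by rw [add_smul, one_smul, hn, zero_add]
  rw [e] at h2
  obtain ⟨a, ha⟩ : ∃ a : ℤ, n * (n - 1) = 2 * a := by
    obtain ⟨r, hr⟩ := Int.even_mul_succ_self (n - 1)
    exact ⟨r, by rw [← two_mul] at hr; rw [← hr]; ring⟩
  have e1 : n * (n + 1) = 2 * (a + n) := by linear_combination ha
  have e2 : (n + 1) * (n + 1 + 1) = 2 * (a + 2 * n + 1) := by linear_combination ha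
  have e3 : (n + 1) * (n + 1 - 1) = 2 * (a + n) := by linear_combination ha
  rw [e1, ha] at h1
  rw [e2, e3] at h2
  simp only [Int.mul_ediv_cancel_left _ (two_ne_zero)] at h1 h2
  have h3 : n • (f x + f (-x)) = 0 := by
    have : n • (f x + f (-x)) = ((a + 2 * n + 1) • f x + (a + n) • f (-x)) - ((a + n) • f x + a • f (-x)) - f x := by
      simp only [add_smul, smul_add, two_smul, one_smul, mul_smul]
      abel
    rw [this, ← h1, ← h2]; abel
  refine ⟨h3, a, ha, ?_⟩
  rw [h1]
  simp only [add_smul, smul_add]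
  abel

/-- Let A and G be abelian groups, written additively, and f : A → G a map which is pointed of degree 2,
that is f(x+y+z) + f(x) + f(y) + f(z) = f(x+y) + f(x+z) + f(y+z) for all x, y, z in A. If an integer
n satisfies n·x = 0 for every x in A, then 2n·f(x) = 0 for every x in A, and if moreover n is odd
then n·f(x) = 0 for every x in A. -/
theorem result {A : Type u} {G : Type v} [AddCommGroup A] [AddCommGroup G]
    (f : A → G) (hf : ∀ x y z : A, f (x + y + z) + f x + f y + f z = f (x + y) + f (x + z) + f (y + z))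
    (n : ℤ) (hn : ∀ x : A, n • x = 0) :
    (∀ x : A, (2 * n) • f x = 0) ∧ (Odd n → ∀ x : A, n • f x = 0) := by
  refine ⟨fun x => ?_, fun hodd x => ?_⟩
  · obtain ⟨h3, a, ha, h4⟩ := key f hf n hn x
    have : (2 * n) • f x = 2 • (a • (f x + f (-x)) + n • f x) - (n - 1) • (n • (f x + f (-x))) := by
      rw [← mul_smul (n - 1) n, mul_comm (n - 1) n, ha]
      simp only [smul_add, two_smul, mul_smul]
      abel
    rw [this, h3, h4]; simp
  · obtain ⟨h3, a, ha, h4⟩ := key f hf n hn x
    obtain ⟨k, hk⟩ := hodd
    have hak : a = n * k := by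
      have : 2 * a = 2 * (n * k) := by rw [← ha, hk]; ring
      linarith
    have : n • f x = (a • (f x + f (-x)) + n • f x) - k • (n • (f x + f (-x))) := by
      rw [← mul_smul k n, mul_comm k n, ← hak]; abel
    rw [this, h3, h4]; simp

end Groth.Agent.S14294
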