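import Groth.Statements.S14297
import Mathlib
import Groth.Agent.Lib.Helper68.HaarCocycle

set_option autoImplicit false
universe u
open MeasureTheory
open PtDeg

namespace Groth.Agent.S14297

/-- Let G be a compact Hausdorff commutative topological group, written additively, μ its Haar measure
of total mass 1, m ≥ 1 an integer and ψ : G^{m+1} → ℝ a continuous function which is a 2-cocycle
with respect to every pair of variables: for all positions i ≠ j, every point x of G^{m+1} and all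
a, b, c in G, writing x[i ↦ a, j ↦ c] for x with its i-th coordinate replaced by a and its j-th by
c, one has ψ(x[i ↦ a+b, j ↦ c]) + ψ(x[i ↦ a, j ↦ b]) = ψ(x[i ↦ a, j ↦ b+c]) + ψ(x[i ↦ b, j ↦ c]).
Let φ : G → ℝ be φ(g) = (−1)^m ∫_{G^m} ψ(g, u_1, …, u_m) dμ^{⊗m}(u). Then ψ is the (m+1)-st
deviation of φ, namely ψ(x) = Σ_{∅ ≠ I ⊆ {0,…,m}} (−1)^{m+1+|I|} φ(Σ_{i ∈ I} x_i) for every x; φ is
continuous; and φ is the unique continuous function G → ℝ with this property. -/
theorem result {G : Type u} [AddCommGroup G] [TopologicalSpace G] [IsTopologicalAddGroup G] [CompactSpace G] [T2Space G]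
    [MeasurableSpace G] [BorelSpace G] (μ : MeasureTheory.Measure G) [μ.IsAddHaarMeasure] [MeasureTheory.IsProbabilityMeasure μ]
    (m : ℕ) (hm : 1 ≤ m) (ψ : (Fin (m + 1) → G) → ℝ) (hψc : Continuous ψ)
    (hψ : ∀ (i j : Fin (m + 1)), i ≠ j → ∀ (x : Fin (m + 1) → G) (a b c : G),
      ψ (Function.update (Function.update x i (a + b)) j c) + ψ (Function.update (Function.update x i a) j b) =
        ψ (Function.update (Function.update x i a) j (b + c)) + ψ (Function.update (Function.update x i b) j c)) :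
    (∀ x : Fin (m + 1) → G,
      ψ x = ∑ I ∈ ((Finset.univ : Finset (Fin (m + 1))).powerset.erase ∅),
        (-1 : ℝ) ^ (m + 1 + I.card) * ((-1 : ℝ) ^ m *
          ∫ u, ψ (Fin.cons (∑ i ∈ I, x i) u) ∂(MeasureTheory.Measure.pi (fun _ : Fin m => μ)))) ∧
    Continuous (fun g : G => (-1 : ℝ) ^ m * ∫ u, ψ (Fin.cons g u) ∂(MeasureTheory.Measure.pi (fun _ : Fin m => μ))) ∧
    (∀ φ : G → ℝ, Continuous φ → (∀ x : Fin (m + 1) → G,
      ψ x = ∑ I ∈ ((Finset.univ : Finset (Fin (m + 1))).powerset.erase ∅), (-1 : ℝ) ^ (m + 1 + I.card) * φ (∑ i ∈ I, x i)) →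
      φ = fun g => (-1 : ℝ) ^ m * ∫ u, ψ (Fin.cons g u) ∂(MeasureTheory.Measure.pi (fun _ : Fin m => μ))) := by
  have hcoc : Groth.Agent.Lib.Helper68.HaarCocycle.IsCocycle m ψ := hψ
  obtain ⟨φ₀, hφ₀c, hφ₀⟩ := Groth.Agent.Lib.Helper68.HaarCocycle.exists_eq_T μ m ψ hψc hcoc
  have havg : ∀ g, φ₀ g = (-1 : ℝ) ^ m *
      ∫ u, ψ (Fin.cons g u) ∂(MeasureTheory.Measure.pi (fun _ : Fin m => μ)) :=
    Groth.Agent.Lib.Helper68.HaarCocycle.eq_avg_of_eq_T μ m ψ φ₀ hφ₀c hφ₀
  refine ⟨fun x => ?_, ?_, ?_⟩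
  · have h1 := Groth.Agent.Lib.Helper68.HaarCocycle.S_eq m φ₀ x
    rw [hφ₀ x, ← h1]
    apply Finset.sum_congr rfl
    intro I _
    rw [havg]
  · exact continuous_const.mul
      (Groth.Agent.Lib.Helper68.HaarCocycle.continuous_integral_param
        (MeasureTheory.Measure.pi (fun _ : Fin m => μ))
        (fun h hh => Groth.Agent.Lib.Helper68.HaarCocycle.integrable_of_continuous_pi hh _)
        (fun g u => ψ (Fin.cons g u))
        (hψc.comp (Groth.Agent.Lib.Helper68.HaarCocycle.continuous_cons_uncurry' m)))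
  · intro φ hφc hφ
    funext g
    exact Groth.Agent.Lib.Helper68.HaarCocycle.eq_avg_of_eq_T μ m ψ φ hφc
      (fun x => by rw [hφ x, Groth.Agent.Lib.Helper68.HaarCocycle.S_eq]) g

end Groth.Agent.S14297
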