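import Groth.Statements.S14305
import Mathlib.Tactic

set_option autoImplicit false
universe u v
open PtDeg

namespace Groth.Agent.S14305

section
variable {A : Type u} {G : Type v} [AddCommGroup A] [AddCommGroup G] (f : A → G)

/-- alternating sum over all subsets, with a base point -/
def E {ι : Type} [DecidableEq ι] (s : Finset ι) (x : ι → A) (c : A) : G :=
  ∑ I ∈ s.powerset, ((-1 : ℤ) ^ I.card) • f (c + ∑ i ∈ I, x i)

theorem E_insert {ι : Type} [DecidableEq ι] (s : Finset ι) (x : ι → A) (c : A) (j : ι) (hj : j ∉ s) :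
    E f (insert j s) x c = E f s x c - E f s x (c + x j) := by
  unfold E
  rw [Finset.sum_powerset_insert hj, sub_eq_add_neg, ← Finset.sum_neg_distrib]
  congr 1
  apply Finset.sum_congr rfl
  intro I hI
  have hjI : j ∉ I := fun h => hj (Finset.mem_powerset.mp hI h)
  rw [Finset.card_insert_of_notMem hjI, Finset.sum_insert hjI, pow_succ, mul_neg_one, neg_smul,
    add_assoc]

theorem E_congr {ι : Type} [DecidableEq ι] (s : Finset ι) (x x' : ι → A) (c : A)
    (h : ∀ i ∈ s, x i = x' i) : E f s x c = E f s x' c := by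
  unfold E
  apply Finset.sum_congr rfl
  intro I hI
  congr 3
  exact Finset.sum_congr rfl fun i hi => h i (Finset.mem_powerset.mp hI hi)

theorem E_update {ι : Type} [DecidableEq ι] (s : Finset ι) (y : ι → A) (c t : A) (j : ι) (hj : j ∈ s) :
    E f s (Function.update y j t) c = E f (s.erase j) y c - E f (s.erase j) y (c + t) := by
  conv_lhs => rw [← Finset.insert_erase hj]
  rw [E_insert f _ _ _ _ (Finset.notMem_erase j s), Function.update_self]
  have h1 : ∀ c', E f (s.erase j) (Function.update y j t) c' = E f (s.erase j) y c' := fun c' =>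
    E_congr f _ _ _ _ fun i hi => Function.update_of_ne (Finset.ne_of_mem_erase hi) _ _
  rw [h1, h1]

theorem powerset_map' {α β : Type} (e : α ↪ β) (s : Finset α) :
    (s.map e).powerset = s.powerset.map (Finset.mapEmbedding e).toEmbedding := by
  ext I
  simp only [Finset.mem_powerset, Finset.mem_map, Finset.subset_map_iff]
  constructor
  · rintro ⟨u, hu, rfl⟩
    exact ⟨u, hu, rfl⟩
  · rintro ⟨u, hu, rfl⟩
    exact ⟨u, hu, rfl⟩

theorem E_map {α β : Type} [DecidableEq α] [DecidableEq β] (e : α ↪ β) (s : Finset α) (x : β → A)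
    (c : A) : E f (s.map e) x c = E f s (x ∘ e) c := by
  unfold E
  rw [powerset_map', Finset.sum_map]
  apply Finset.sum_congr rfl
  intro I _
  change ((-1 : ℤ) ^ (I.map e).card) • f (c + ∑ i ∈ I.map e, x i) = _
  rw [Finset.card_map, Finset.sum_map]
  rfl

theorem E_snoc (n : ℕ) (z : Fin n → A) (b c : A) :
    E f (Finset.univ : Finset (Fin (n + 1))) (Fin.snoc z b : Fin (n + 1) → A) c =
      E f Finset.univ z c - E f Finset.univ z (c + b) := by
  rw [Fin.univ_castSuccEmb, Finset.cons_eq_insert, E_insert f _ _ _ _ (by simp), Fin.snoc_last,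
    E_map, E_map]
  have h1 : (Fin.snoc z b : Fin (n + 1) → A) ∘ Fin.castSuccEmb = z := by
    funext i
    simp
  rw [h1]

/-- the deviation in terms of `E` -/
theorem dev_eq (n : ℕ) (x : Fin n → A) :
    ∑ I ∈ ((Finset.univ : Finset (Fin n)).powerset.erase ∅), ((-1 : ℤ) ^ (n + I.card)) • f (∑ i ∈ I, x i) =
      ((-1 : ℤ) ^ n) • (E f Finset.univ x 0 - f 0) := by
  rw [Finset.sum_erase_eq_sub (Finset.empty_mem_powerset _)]
  unfold E
  simp only [Finset.card_empty, add_zero, Finset.sum_empty, zero_add]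
  rw [smul_sub, Finset.smul_sum]
  congr 1
  apply Finset.sum_congr rfl
  intro I _
  rw [pow_add, mul_smul]


/-- the deviation recursion: the `(n+1)`-st deviation measures the failure of additivity of the `n`-th -/
theorem key (n : ℕ) (j : Fin n) (y : Fin n → A) (a b : A) :
    ∑ I ∈ ((Finset.univ : Finset (Fin (n + 1))).powerset.erase ∅), ((-1 : ℤ) ^ (n + 1 + I.card)) •
        f (∑ i ∈ I, (Fin.snoc (Function.update y j a) b : Fin (n + 1) → A) i) =
      ∑ I ∈ ((Finset.univ : Finset (Fin n)).powerset.erase ∅), ((-1 : ℤ) ^ (n + I.card)) • f (∑ i ∈ I, (Function.update y j (a + b)) i) -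
      ∑ I ∈ ((Finset.univ : Finset (Fin n)).powerset.erase ∅), ((-1 : ℤ) ^ (n + I.card)) • f (∑ i ∈ I, (Function.update y j a) i) -
      ∑ I ∈ ((Finset.univ : Finset (Fin n)).powerset.erase ∅), ((-1 : ℤ) ^ (n + I.card)) • f (∑ i ∈ I, (Function.update y j b) i) := by
  rw [dev_eq f (n + 1), dev_eq f n, dev_eq f n, dev_eq f n, E_snoc,
    E_update f _ _ _ _ j (Finset.mem_univ j), E_update f _ _ _ _ j (Finset.mem_univ j),
    E_update f _ _ _ _ j (Finset.mem_univ j), E_update f _ _ _ _ j (Finset.mem_univ j)]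
  simp only [zero_add]
  rw [add_comm b a, pow_succ, mul_neg_one, neg_smul]
  simp only [smul_sub]
  abel

end

/-- Let A and G be abelian groups, written additively, f : A → G a map and n ≥ 1. For k ≥ 0 the k-th
deviation of f is the map A^k → G, (y_1, …, y_k) ↦ Σ_{∅ ≠ I ⊆ {1,…,k}} (−1)^{k+|I|} f(Σ_{i ∈ I}
y_i). Then f is pointed of degree n, meaning that its (n+1)-st deviation vanishes identically, if
and only if its n-th deviation is additive in each variable separately (with the other variables
fixed). -/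
theorem result {A : Type u} {G : Type v} [AddCommGroup A] [AddCommGroup G]
    (f : A → G) (n : ℕ) (hn : 1 ≤ n) :
    (∀ x : Fin (n + 1) → A, ∑ I ∈ ((Finset.univ : Finset (Fin (n + 1))).powerset.erase ∅), ((-1 : ℤ) ^ (n + 1 + I.card)) • f (∑ i ∈ I, x i) = 0) ↔
      (∀ (j : Fin n) (y : Fin n → A) (a b : A),
        ∑ I ∈ ((Finset.univ : Finset (Fin n)).powerset.erase ∅), ((-1 : ℤ) ^ (n + I.card)) • f (∑ i ∈ I, (Function.update y j (a + b)) i) =
          ∑ I ∈ ((Finset.univ : Finset (Fin n)).powerset.erase ∅), ((-1 : ℤ) ^ (n + I.card)) • f (∑ i ∈ I, (Function.update y j a) i) + ∑ I ∈ ((Finset.univ : Finset (Fin n)).powerset.erase ∅), ((-1 : ℤ) ^ (n + I.card)) • f (∑ i ∈ I, (Function.update y j b) i)) := by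
  constructor
  · intro h j y a b
    have hk := key f n j y a b
    rw [h] at hk
    have hk' := hk.symm
    rw [sub_sub, sub_eq_zero] at hk'
    exact hk'
  · intro h x
    obtain ⟨j⟩ : Nonempty (Fin n) := ⟨⟨0, hn⟩⟩
    have hx : x = (Fin.snoc (Function.update (Fin.init x) j (Fin.init x j)) (x (Fin.last n)) :
        Fin (n + 1) → A) := by
      rw [Function.update_eq_self, Fin.snoc_init_self]
    rw [hx, key f n j (Fin.init x) (Fin.init x j) (x (Fin.last n)), h j, add_sub_cancel_left, sub_self]

end Groth.Agent.S14305
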