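import Groth.Statements.S14309
import Mathlib.Tactic

set_option autoImplicit false
universe u v w x y
open CAlg

namespace Groth.Agent.S14309

theorem decomp {R : Type u} [CommRing R] {σ : Type y} (F : MvPolynomial (Option σ) R) :
    ∃ (F0 : MvPolynomial σ R) (F1 : MvPolynomial (Option σ) R),
      F = MvPolynomial.rename (Option.some : σ → Option σ) F0 + MvPolynomial.X none * F1 := by
  induction F using MvPolynomial.induction_on with
  | C r => exact ⟨MvPolynomial.C r, 0, by simp⟩
  | add f g hf hg =>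
    obtain ⟨f0, f1, rfl⟩ := hf
    obtain ⟨g0, g1, rfl⟩ := hg
    exact ⟨f0 + g0, f1 + g1, by rw [map_add]; ring⟩
  | mul_X f i hf =>
    obtain ⟨f0, f1, rfl⟩ := hf
    cases i with
    | none => exact ⟨0, MvPolynomial.rename (Option.some : σ → Option σ) f0 + MvPolynomial.X none * f1, by
        rw [map_zero]; ring⟩
    | some s => exact ⟨f0 * MvPolynomial.X s, f1 * MvPolynomial.X (some s), by
        rw [map_mul, MvPolynomial.rename_X]; ring⟩


/-- Let R be a commutative ring; A, B, C commutative R-algebras; i : A → B and j : A → C jointly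
injective R-algebra maps; c a non-zero-divisor of B; u : C → B/(c) a ring map with u ∘ j equal to i
followed by reduction modulo c; ζ in A with i ζ = c and j ζ = 0; η : R[X_σ, Z] → A an R-algebra map
with η(Z) = ζ; a : R[Y_τ] → B a surjective R-algebra map; η_Z : R[X_σ, Z] → R[Y_τ] a surjective
R-algebra map with a ∘ η_Z = i ∘ η. Fix c̃ in R[Y_τ] with a(c̃) = c, a family (p_h) generating the
kernel of the composite R[X_σ] → R[X_σ, Z] → A → C, a family (q'_h) generating the kernel of a
together with lifts q_h along η_Z, a family (v_h) generating the kernel of η_Z, and elements g'_h of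
R[Y_τ] with η_Z(p_h) + g'_h c̃ in the ideal (q'_h), together with lifts g_h along η_Z. Then the
kernel of η is the ideal generated by the elements Z q_h, Z v_h and p_h + Z g_h. (The published
statement is for the rings of cycle classes, with coefficients ℤ[1/6], of a smooth quotient stack, a
smooth closed substack whose normal bundle has top Chern class c a non-zero-divisor, and the open
complement; this row states the ring-theoretic content for any such square of commutative rings in
which A embeds in B × C.) -/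
theorem result
    {R : Type u} [CommRing R] {A : Type v} {B : Type w} {C : Type x}
    [CommRing A] [CommRing B] [CommRing C] [Algebra R A] [Algebra R B] [Algebra R C]
    (i : A →ₐ[R] B) (j : A →ₐ[R] C)
    (hinj : ∀ t : A, i t = 0 → j t = 0 → t = 0)
    (c : B) (hc : c ∈ nonZeroDivisors B) (u : C →+* B ⧸ Ideal.span ({c} : Set B))
    (hu : ∀ t : A, u (j t) = Ideal.Quotient.mk (Ideal.span ({c} : Set B)) (i t))
    (ζ : A) (hiζ : i ζ = c) (hjζ : j ζ = 0)
    {σ τ ιp ιq ιv : Type y}
    (η : MvPolynomial (Option σ) R →ₐ[R] A) (hη : η (MvPolynomial.X none) = ζ)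
    (a : MvPolynomial τ R →ₐ[R] B) (ha : Function.Surjective a)
    (ηZ : MvPolynomial (Option σ) R →ₐ[R] MvPolynomial τ R)
    (hcomm : ∀ t, a (ηZ t) = i (η t)) (hηZ : Function.Surjective ηZ)
    (cZ : MvPolynomial τ R) (hcZ : a cZ = c)
    (p : ιp → MvPolynomial σ R)
    (hp : Ideal.span (Set.range p) =
      RingHom.ker ((j.comp η).comp (MvPolynomial.rename (Option.some : σ → Option σ))))
    (q' : ιq → MvPolynomial τ R) (hq' : Ideal.span (Set.range q') = RingHom.ker a)
    (q : ιq → MvPolynomial (Option σ) R) (hq : ∀ h, ηZ (q h) = q' h)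
    (v : ιv → MvPolynomial (Option σ) R) (hv : Ideal.span (Set.range v) = RingHom.ker ηZ)
    (g' : ιp → MvPolynomial τ R)
    (hg' : ∀ h, ηZ (MvPolynomial.rename (Option.some : σ → Option σ) (p h)) + g' h * cZ ∈
      Ideal.span (Set.range q'))
    (g : ιp → MvPolynomial (Option σ) R) (hg : ∀ h, ηZ (g h) = g' h) :
    RingHom.ker η = Ideal.span
      (Set.range (fun h : ιq => MvPolynomial.X none * q h) ∪
        Set.range (fun h : ιv => MvPolynomial.X none * v h) ∪
        Set.range (fun h : ιp =>
          MvPolynomial.rename (Option.some : σ → Option σ) (p h) + MvPolynomial.X none * g h)) := by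
  set Z : MvPolynomial (Option σ) R := MvPolynomial.X none with hZ
  set ρ := MvPolynomial.rename (R := R) (Option.some : σ → Option σ) with hρ
  set I : Ideal (MvPolynomial (Option σ) R) := Ideal.span
      (Set.range (fun h : ιq => Z * q h) ∪
        Set.range (fun h : ιv => Z * v h) ∪
        Set.range (fun h : ιp => ρ (p h) + Z * g h)) with hI
  have hq_mem : ∀ h, Z * q h ∈ I := fun h =>
    Ideal.subset_span (Or.inl (Or.inl ⟨h, rfl⟩))
  have hv_mem : ∀ h, Z * v h ∈ I := fun h =>
    Ideal.subset_span (Or.inl (Or.inr ⟨h, rfl⟩))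
  have hp_mem : ∀ h, ρ (p h) + Z * g h ∈ I := fun h =>
    Ideal.subset_span (Or.inr ⟨h, rfl⟩)
  have hηZmul : ∀ G, η (Z * G) = ζ * η G := fun G => by rw [map_mul, hη]
  -- I ≤ ker η
  have hle : I ≤ RingHom.ker η := by
    rw [hI, Ideal.span_le]
    rintro _ ((⟨h, rfl⟩ | ⟨h, rfl⟩) | ⟨h, rfl⟩)
    · rw [SetLike.mem_coe, RingHom.mem_ker]
      apply hinj
      · have : q' h ∈ RingHom.ker a := by rw [← hq']; exact Ideal.subset_span ⟨h, rfl⟩
        rw [hηZmul, map_mul, hiζ, ← hcomm, hq, (RingHom.mem_ker).mp this, mul_zero]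
      · rw [hηZmul, map_mul, hjζ, zero_mul]
    · rw [SetLike.mem_coe, RingHom.mem_ker]
      apply hinj
      · have : v h ∈ RingHom.ker ηZ := by rw [← hv]; exact Ideal.subset_span ⟨h, rfl⟩
        rw [hηZmul, map_mul, hiζ, ← hcomm, (RingHom.mem_ker).mp this, map_zero, mul_zero]
      · rw [hηZmul, map_mul, hjζ, zero_mul]
    · rw [SetLike.mem_coe, RingHom.mem_ker]
      apply hinj
      · have h1 := hg' h
        rw [hq', RingHom.mem_ker, map_add, map_mul, hcZ, hcomm, ← hg, hcomm] at h1
        rw [map_add, hηZmul, map_add, map_mul, hiζ, ← h1]; ring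
      · have : p h ∈ RingHom.ker ((j.comp η).comp (MvPolynomial.rename (Option.some : σ → Option σ))) := by
          rw [← hp]; exact Ideal.subset_span ⟨h, rfl⟩
        rw [RingHom.mem_ker] at this
        simp only [AlgHom.coe_comp, Function.comp_apply] at this
        rw [map_add, hηZmul, map_add, map_mul, hjζ, zero_mul, add_zero]
        exact this
  -- lemma A: for F0 in span (range p), exists G with ρ F0 + Z * G ∈ I
  have hA : ∀ F0 ∈ Ideal.span (Set.range p), ∃ G, ρ F0 + Z * G ∈ I := by
    intro F0 hF0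
    induction hF0 using Submodule.span_induction with
    | mem x hx =>
      obtain ⟨h, rfl⟩ := hx
      exact ⟨g h, hp_mem h⟩
    | zero => exact ⟨0, by simp⟩
    | add x y _ _ hx hy =>
      obtain ⟨G1, h1⟩ := hx
      obtain ⟨G2, h2⟩ := hy
      refine ⟨G1 + G2, ?_⟩
      have : ρ (x + y) + Z * (G1 + G2) = (ρ x + Z * G1) + (ρ y + Z * G2) := by
        rw [map_add]; ring
      rw [this]; exact I.add_mem h1 h2
    | smul c x _ hx =>
      obtain ⟨G1, h1⟩ := hx
      refine ⟨ρ c * G1, ?_⟩
      have : ρ (c • x) + Z * (ρ c * G1) = ρ c * (ρ x + Z * G1) := by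
        rw [smul_eq_mul, map_mul]; ring
      rw [this]; exact I.mul_mem_left _ h1
  -- lemma B: for V in span (range v), Z * V ∈ I
  have hB : ∀ V ∈ Ideal.span (Set.range v), Z * V ∈ I := by
    intro V hV
    induction hV using Submodule.span_induction with
    | mem x hx =>
      obtain ⟨h, rfl⟩ := hx
      exact hv_mem h
    | zero => simp
    | add x y _ _ hx hy => rw [mul_add]; exact I.add_mem hx hy
    | smul c x _ hx =>
      have : Z * (c • x) = c * (Z * x) := by rw [smul_eq_mul]; ring
      rw [this]; exact I.mul_mem_left _ hx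
  -- lemma C: for T in span (range q'), exists G0 with ηZ G0 = T and Z * G0 ∈ I
  have hC : ∀ T ∈ Ideal.span (Set.range q'), ∃ G0, ηZ G0 = T ∧ Z * G0 ∈ I := by
    intro T hT
    induction hT using Submodule.span_induction with
    | mem x hx =>
      obtain ⟨h, rfl⟩ := hx
      exact ⟨q h, hq h, hq_mem h⟩
    | zero => exact ⟨0, by simp, by simp⟩
    | add x y _ _ hx hy =>
      obtain ⟨G1, e1, h1⟩ := hx
      obtain ⟨G2, e2, h2⟩ := hy
      exact ⟨G1 + G2, by rw [map_add, e1, e2], by rw [mul_add]; exact I.add_mem h1 h2⟩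
    | smul c x _ hx =>
      obtain ⟨G1, e1, h1⟩ := hx
      obtain ⟨c', hc'⟩ := hηZ c
      refine ⟨c' * G1, by rw [map_mul, hc', e1, smul_eq_mul], ?_⟩
      have : Z * (c' * G1) = c' * (Z * G1) := by ring
      rw [this]; exact I.mul_mem_left _ h1
  apply le_antisymm _ hle
  intro F hF
  rw [RingHom.mem_ker] at hF
  obtain ⟨F0, F1, rfl⟩ := decomp F
  change η (ρ F0 + Z * F1) = 0 at hF
  change ρ F0 + Z * F1 ∈ I
  have hF0 : F0 ∈ Ideal.span (Set.range p) := by
    rw [hp, RingHom.mem_ker]
    simp only [AlgHom.coe_comp, Function.comp_apply]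
    have := congrArg j hF
    rw [map_add, hηZmul, map_add, map_mul, hjζ, zero_mul, add_zero, map_zero] at this
    exact this
  obtain ⟨G1, hG1⟩ := hA F0 hF0
  -- ρ F0 + Z * F1 = (ρ F0 + Z * G1) + Z * (F1 - G1)
  have hsplit : ρ F0 + Z * F1 = (ρ F0 + Z * G1) + Z * (F1 - G1) := by ring
  rw [hsplit]
  refine I.add_mem hG1 ?_
  have hker : η (Z * (F1 - G1)) = 0 := by
    have h1 : η (ρ F0 + Z * G1) = 0 := hle hG1
    have h2 : η (Z * (F1 - G1)) = η (ρ F0 + Z * F1) - η (ρ F0 + Z * G1) := by
      rw [← map_sub]; congr 1; ring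
    rw [h2, hF, h1, sub_zero]
  have hiG : a (ηZ (F1 - G1)) = 0 := by
    have h1 := congrArg i hker
    rw [hηZmul, map_mul, hiζ, map_zero, ← hcomm] at h1
    exact (mul_left_mem_nonZeroDivisors_eq_zero_iff hc).mp h1
  have hT : ηZ (F1 - G1) ∈ Ideal.span (Set.range q') := by
    rw [hq', RingHom.mem_ker]; exact hiG
  obtain ⟨G0, e0, h0⟩ := hC _ hT
  have hV : (F1 - G1) - G0 ∈ Ideal.span (Set.range v) := by
    rw [hv, RingHom.mem_ker, map_sub, e0, sub_self]
  have := I.add_mem h0 (hB _ hV)
  have e : Z * G0 + Z * (F1 - G1 - G0) = Z * (F1 - G1) := by ring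
  rwa [e] at this

end Groth.Agent.S14309
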