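import Groth.Statements.S14310
import Mathlib
import Groth.Agent.Lib.Helper63.ASingTaylor
import Groth.Agent.Lib.Helper63.SqPoly
-- import your own Groth.Agent.* helpers here

set_option autoImplicit false
universe u
open ArSing

namespace Groth.Agent.S14310.Aux

open Groth.Agent.Lib.Helper63.ASingTaylor Groth.Agent.Lib.Helper63.ASingGen
  Groth.Agent.Lib.Helper63.SqFormal Groth.Agent.Lib.Helper63.SqPoly

variable {k : Type u} [Field k]

lemma tr_tr_neg (a : Fin 2 → k) (g : MvPolynomial (Fin 2) k) : tr a (tr (-a) g) = g := by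
  have h : (tr a).comp (tr (-a)) = AlgHom.id k (MvPolynomial (Fin 2) k) := by
    apply MvPolynomial.algHom_ext
    intro i
    rw [AlgHom.comp_apply, tr_X, map_add, tr_X, tr_C, AlgHom.id_apply, Pi.neg_apply, map_neg]
    ring
  exact AlgHom.congr_fun h g

lemma tr_neg_tr (a : Fin 2 → k) (g : MvPolynomial (Fin 2) k) : tr (-a) (tr a g) = g := by
  have h := tr_tr_neg (-a) g
  rwa [neg_neg] at h

lemma F_mul (a : Fin 2 → k) (x y : MvPolynomial (Fin 2) k) : F a (x * y) = F a x * F a y := by
  rw [F, map_mul, MvPolynomial.coe_mul, F, F]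

lemma F_pow (a : Fin 2 → k) (x : MvPolynomial (Fin 2) k) (n : ℕ) : F a (x ^ n) = F a x ^ n := by
  rw [F, map_pow, MvPolynomial.coe_pow, F]

theorem main [IsAlgClosed k] (f : MvPolynomial (Fin 2) k) (a : Fin 2 → k) :
    Nonempty ((PS k ⧸ Ideal.span {F a f}) ≃ₐ[k]
      (PS k ⧸ Ideal.span ({MvPowerSeries.X 1 ^ 2} : Set (PS k)))) ↔
    ∃ g h : MvPolynomial (Fin 2) k, f = g ^ 2 * h ∧ MvPolynomial.eval a h ≠ 0 ∧
      MvPolynomial.eval a g = 0 ∧
      ∃ i : Fin 2, MvPolynomial.eval a (MvPolynomial.pderiv i g) ≠ 0 := by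
  constructor
  · rintro ⟨e⟩
    obtain ⟨Y, u, hu, hY, hYm, hY2, hFu⟩ := formal_main (F a f) e
    obtain ⟨g', h', hgh, hh0, hg0, i, hi⟩ := poly_main (tr a f) Y u hu hY hYm hY2 hFu
    refine ⟨tr (-a) g', tr (-a) h', ?_, ?_, ?_, i, ?_⟩
    · rw [← map_pow, ← map_mul, ← hgh, tr_neg_tr]
    · rw [← constantCoeff_F, F, tr_tr_neg]
      exact hh0
    · rw [← constantCoeff_F, F, tr_tr_neg]
      exact hg0
    · rw [← coeff_single_F, F, tr_tr_neg]
      exact hi
  · rintro ⟨g, h, rfl, hh, hg, i, hi⟩
    rw [F_mul, F_pow]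
    apply formal_converse (F a g) (F a h) _ i
    · rw [coeff_single_F]
      exact hi
    · rw [MvPowerSeries.isUnit_iff_constantCoeff, constantCoeff_F, isUnit_iff_ne_zero]
      exact hh
    · rw [constantCoeff_F]
      exact hg

end Groth.Agent.S14310.Aux

namespace Groth.Agent.S14310

/-- Let k be an algebraically closed field, f a polynomial in two variables x = X_0, y = X_1 over k, and
a a point of k². The quotient of the power series ring k[[x,y]] by the polynomial f recentred at a
(which is the completed local ring at a of the plane curve f = 0) is isomorphic as a k-algebra to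
k[[x,y]]/(y^2) if and only if f = g^2 h for polynomials g and h with h(a) ≠ 0, g(a) = 0 and some
first partial derivative of g non-zero at a. (The published statement asks for the component through
a to be the square of a smooth plane curve; only smoothness at a matters and is what is stated here
— for the square of a nodal cubic the completed local ring at a smooth point of the cubic is still
k[[x,y]]/(y^2). No hypothesis on the characteristic of k is imposed; the published setting assumes a
characteristic different from 2, 3, 5 and 7, which the argument does not use.) -/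
theorem result
    {k : Type u} [Field k] [IsAlgClosed k] (f : MvPolynomial (Fin 2) k) (a : Fin 2 → k) :
    Nonempty ((MvPowerSeries (Fin 2) k ⧸ Ideal.span
        ({(MvPolynomial.aeval (fun i : Fin 2 => MvPolynomial.X i + MvPolynomial.C (a i)) f).toMvPowerSeries} :
          Set (MvPowerSeries (Fin 2) k))) ≃ₐ[k]
      (MvPowerSeries (Fin 2) k ⧸ Ideal.span ({MvPowerSeries.X 1 ^ 2} : Set (MvPowerSeries (Fin 2) k)))) ↔
    ∃ g h : MvPolynomial (Fin 2) k, f = g ^ 2 * h ∧ MvPolynomial.eval a h ≠ 0 ∧ MvPolynomial.eval a g = 0 ∧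
      ∃ i : Fin 2, MvPolynomial.eval a (MvPolynomial.pderiv i g) ≠ 0 := Aux.main f a

end Groth.Agent.S14310
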