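import Groth.Statements.S14311
import Mathlib
import Groth.Agent.Lib.Helper63.ASingTaylor
import Groth.Agent.Lib.Helper63.ASingMain

set_option autoImplicit false
universe u
open ArSing

namespace Groth.Agent.S14311.Aux

open MvPowerSeries IsLocalRing Groth.Agent.Lib.Helper63.ASingGen Groth.Agent.Lib.Helper63.ASingA1
  Groth.Agent.Lib.Helper63.WeierSing2 Groth.Agent.Lib.Helper63.ASingWeier
  Groth.Agent.Lib.Helper63.ASingSmooth Groth.Agent.Lib.Helper63.ASingNot
  Groth.Agent.Lib.Helper63.ASingMain Groth.Agent.Lib.Helper90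

variable {k : Type u} [Field k]

lemma coeff_pA_ne (n : ℕ) : coeff (mon 0 2) (ArSing.eqn k n) ≠ 0 := by
  have h1 : (X 1 ^ 2 : PS k) = X 0 ^ 0 * X 1 ^ 2 := by rw [pow_zero, one_mul]
  have h2 : (X 0 ^ (n + 1) : PS k) = X 0 ^ (n + 1) * X 1 ^ 0 := by rw [pow_zero, mul_one]
  rw [ArSing.eqn, map_sub, h1, h2, coeff_mon_mul_pow, coeff_mon_mul_pow]
  simp

lemma coeff_X1_sq_ne : coeff (mon 0 2) (X 1 ^ 2 : PS k) ≠ 0 := by
  have h1 : (X 1 ^ 2 : PS k) = X 0 ^ 0 * X 1 ^ 2 := by rw [pow_zero, one_mul]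
  rw [h1, coeff_mon_mul_pow]
  simp

theorem main [IsAlgClosed k] (h2 : (2 : k) ≠ 0) (F : PS k) (hF0 : constantCoeff F = 0) :
    ((∀ i : Fin 2, coeff (Finsupp.single i 1) F = 0) ∧ coeff (mon 2 0) F = 0 ∧
      coeff (mon 1 1) F = 0 ∧ coeff (mon 0 2) F = 0) ↔
    ¬ ((∃ n : ℕ, Nonempty ((PS k ⧸ Ideal.span {F}) ≃ₐ[k] ArSing.ring k n)) ∨
      Nonempty ((PS k ⧸ Ideal.span {F}) ≃ₐ[k]
        (PS k ⧸ Ideal.span ({X 1 ^ 2} : Set (PS k))))) := by
  constructor
  · rintro ⟨h1, hα, hβ, hγ⟩
    have hF3 : F ∈ mI k ^ 3 := by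
      rw [mem_mI_pow_iff]
      intro d hd
      obtain ⟨e, n, rfl⟩ : ∃ e n, d = mon e n := ⟨_, _, eq_mon d⟩
      rw [degree_mon] at hd
      have h6 : (e = 0 ∧ n = 0) ∨ (e = 1 ∧ n = 0) ∨ (e = 0 ∧ n = 1) ∨ (e = 2 ∧ n = 0) ∨
          (e = 1 ∧ n = 1) ∨ (e = 0 ∧ n = 2) := by omega
      rcases h6 with ⟨rfl, rfl⟩ | ⟨rfl, rfl⟩ | ⟨rfl, rfl⟩ | ⟨rfl, rfl⟩ | ⟨rfl, rfl⟩ | ⟨rfl, rfl⟩
      · have : mon 0 0 = 0 := by simp [mon]
        rw [this, coeff_zero_eq_constantCoeff_apply, hF0]
      · rw [← single_zero_eq]; exact h1 0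
      · rw [← single_one_eq]; exact h1 1
      · exact hα
      · exact hβ
      · exact hγ
    rintro (⟨n, hn⟩ | hsq)
    · refine not_nonempty_quot_equiv F hF3 (pA k n) ?_ ?_ ?_
      · rw [coe_pA, mem_mI_iff, ArSing.eqn, map_sub, map_pow, map_pow, constantCoeff_X,
          constantCoeff_X, zero_pow (by norm_num), zero_pow (by omega), sub_zero]
      · rw [coe_pA, mem_mI_pow_iff]
        intro hcon
        exact coeff_pA_ne n (hcon _ (by rw [degree_mon]; norm_num))
      · rw [coe_pA]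
        exact hn
    · refine not_nonempty_quot_equiv F hF3 ((MvPolynomial.X 1 : MvPolynomial (Fin 2) k) ^ 2) ?_ ?_ ?_
      · rw [coe_X1_sq, mem_mI_iff, map_pow, constantCoeff_X, zero_pow (by norm_num)]
      · rw [coe_X1_sq, mem_mI_pow_iff]
        intro hcon
        exact coeff_X1_sq_ne (hcon _ (by rw [degree_mon]; norm_num))
      · rw [coe_X1_sq]
        exact hsq
  · intro hnot
    by_contra hcon
    apply hnot
    by_cases h1 : ∀ i : Fin 2, coeff (Finsupp.single i 1) F = 0
    · have hF2 : F ∈ mI k ^ 2 := by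
        rw [mem_mI_pow_iff]
        intro d hd
        rcases PSSurj.eq_zero_or_single_of_degree_lt_two d hd with rfl | ⟨l, rfl⟩
        · rw [coeff_zero_eq_constantCoeff_apply, hF0]
        · exact h1 l
      apply quad_case h2 F hF2
      by_contra hq
      push Not at hq
      exact hcon ⟨h1, hq.1, hq.2.1, hq.2.2⟩
    · push Not at h1
      obtain ⟨i, hi⟩ := h1
      exact Or.inl ⟨0, smooth_case F hF0 i hi⟩

end Groth.Agent.S14311.Aux

namespace Groth.Agent.S14311

/-- Let k be an algebraically closed field in which 2 ≠ 0, f a polynomial in x = X_0, y = X_1 over k and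
a a zero of f in k². Then the gradient and all second partial derivatives of f vanish at a if and
only if the completed local ring k[[x,y]]/(f recentred at a) of the plane curve f = 0 at a is
isomorphic as a k-algebra neither to k[[x,y]]/(y^2 - x^(n+1)) for any natural number n nor to
k[[x,y]]/(y^2). (Here n = 0, a smooth point, is allowed; with n ≥ 1 only, as in the published
definition of an A-singularity, the equivalence fails at smooth points of the curve. Only 2 ≠ 0 is
assumed of the characteristic; the published setting assumes a characteristic different from 2, 3, 5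
and 7.) -/
theorem result
    {k : Type u} [Field k] [IsAlgClosed k] (h2 : (2 : k) ≠ 0) (f : MvPolynomial (Fin 2) k) (a : Fin 2 → k)
    (hfa : MvPolynomial.eval a f = 0) :
    ((∀ i : Fin 2, MvPolynomial.eval a (MvPolynomial.pderiv i f) = 0) ∧
      ∀ i j : Fin 2, MvPolynomial.eval a (MvPolynomial.pderiv i (MvPolynomial.pderiv j f)) = 0) ↔
    ¬ ((∃ n : ℕ, Nonempty ((MvPowerSeries (Fin 2) k ⧸ Ideal.span
        ({(MvPolynomial.aeval (fun i : Fin 2 => MvPolynomial.X i + MvPolynomial.C (a i)) f).toMvPowerSeries} :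
          Set (MvPowerSeries (Fin 2) k))) ≃ₐ[k] ArSing.ring k n)) ∨
        Nonempty ((MvPowerSeries (Fin 2) k ⧸ Ideal.span
        ({(MvPolynomial.aeval (fun i : Fin 2 => MvPolynomial.X i + MvPolynomial.C (a i)) f).toMvPowerSeries} :
          Set (MvPowerSeries (Fin 2) k))) ≃ₐ[k]
          (MvPowerSeries (Fin 2) k ⧸ Ideal.span ({MvPowerSeries.X 1 ^ 2} : Set (MvPowerSeries (Fin 2) k))))) := by
  have hF0 : MvPowerSeries.constantCoeff (Groth.Agent.Lib.Helper63.ASingTaylor.F a f) = 0 := by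
    rw [Groth.Agent.Lib.Helper63.ASingTaylor.constantCoeff_F, hfa]
  have hmain := Aux.main h2 (Groth.Agent.Lib.Helper63.ASingTaylor.F a f) hF0
  have hT1 : ∀ i : Fin 2, MvPowerSeries.coeff (Finsupp.single i 1)
      (Groth.Agent.Lib.Helper63.ASingTaylor.F a f) = MvPolynomial.eval a (MvPolynomial.pderiv i f) :=
    fun i => Groth.Agent.Lib.Helper63.ASingTaylor.coeff_single_F a f i
  have hT2 := Groth.Agent.Lib.Helper63.ASingTaylor.coeff_single_add_single_F a f
  have h00 : MvPowerSeries.coeff (Groth.Agent.Lib.Helper63.WeierSing2.mon 2 0)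
      (Groth.Agent.Lib.Helper63.ASingTaylor.F a f) * 2 =
      MvPolynomial.eval a (MvPolynomial.pderiv 0 (MvPolynomial.pderiv 0 f)) := by
    have := hT2 0 0
    rw [← Finsupp.single_add, Finsupp.single_eq_same] at this
    rw [← this]
    congr 2
    · simp [Groth.Agent.Lib.Helper63.WeierSing2.mon]
    · norm_num
  have h11 : MvPowerSeries.coeff (Groth.Agent.Lib.Helper63.WeierSing2.mon 0 2)
      (Groth.Agent.Lib.Helper63.ASingTaylor.F a f) * 2 =
      MvPolynomial.eval a (MvPolynomial.pderiv 1 (MvPolynomial.pderiv 1 f)) := by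
    have := hT2 1 1
    rw [← Finsupp.single_add, Finsupp.single_eq_same] at this
    rw [← this]
    congr 2
    · simp [Groth.Agent.Lib.Helper63.WeierSing2.mon]
    · norm_num
  have h01 : MvPowerSeries.coeff (Groth.Agent.Lib.Helper63.WeierSing2.mon 1 1)
      (Groth.Agent.Lib.Helper63.ASingTaylor.F a f) =
      MvPolynomial.eval a (MvPolynomial.pderiv 0 (MvPolynomial.pderiv 1 f)) := by
    have := hT2 0 1
    rw [Finsupp.single_eq_of_ne (by decide)] at this
    rw [← this]
    simp [Groth.Agent.Lib.Helper63.WeierSing2.mon]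
  have h10 : MvPowerSeries.coeff (Groth.Agent.Lib.Helper63.WeierSing2.mon 1 1)
      (Groth.Agent.Lib.Helper63.ASingTaylor.F a f) =
      MvPolynomial.eval a (MvPolynomial.pderiv 1 (MvPolynomial.pderiv 0 f)) := by
    have := hT2 1 0
    rw [Finsupp.single_eq_of_ne (by decide), add_comm (Finsupp.single 1 1)] at this
    rw [← this]
    simp [Groth.Agent.Lib.Helper63.WeierSing2.mon]
  refine Iff.trans ?_ hmain
  constructor
  · rintro ⟨hg, hh⟩
    refine ⟨fun i => by rw [hT1]; exact hg i, ?_, ?_, ?_⟩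
    · have := hh 0 0
      rw [← h00] at this
      exact (mul_eq_zero.mp this).resolve_right h2
    · rw [h01]; exact hh 0 1
    · have := hh 1 1
      rw [← h11] at this
      exact (mul_eq_zero.mp this).resolve_right h2
  · rintro ⟨hg, hα, hβ, hγ⟩
    refine ⟨fun i => by rw [← hT1]; exact hg i, ?_⟩
    intro i j
    fin_cases i <;> fin_cases j
    · change MvPolynomial.eval a (MvPolynomial.pderiv 0 (MvPolynomial.pderiv 0 f)) = 0
      rw [← h00, hα, zero_mul]
    · change MvPolynomial.eval a (MvPolynomial.pderiv 0 (MvPolynomial.pderiv 1 f)) = 0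
      rw [← h01, hβ]
    · change MvPolynomial.eval a (MvPolynomial.pderiv 1 (MvPolynomial.pderiv 0 f)) = 0
      rw [← h10, hβ]
    · change MvPolynomial.eval a (MvPolynomial.pderiv 1 (MvPolynomial.pderiv 1 f)) = 0
      rw [← h11, hγ, zero_mul]

end Groth.Agent.S14311
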