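import Groth.Statements.S14312
import Mathlib
import Groth.Agent.Lib.Helper92.Bz6
-- import your own Groth.Agent.* helpers here

set_option autoImplicit false
universe u
open Curves

namespace Groth.Agent.S14312

/-- Over an algebraically closed field k, a reduced plane quartic — the zero locus in the projective
plane of a square-free homogeneous polynomial f of degree 4 in three variables — has at most 6
singular points, a singular point being a point of the projective plane at which f and its three
first partial derivatives vanish. (No hypothesis on the characteristic of k is imposed here. The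
further assertions describing the quartics with exactly 5 or exactly 6 singular points are not part
of this row.) -/
theorem result
    {k : Type u} [Field k] [IsAlgClosed k] (f : MvPolynomial (Fin 3) k)
    (hf : f.IsHomogeneous 4) (hred : Squarefree f) :
    ∃ s : Finset (Projectivization k (Fin 3 → k)), s.card ≤ 6 ∧
      ∀ p : Projectivization k (Fin 3 → k),
        MvPolynomial.eval p.rep f = 0 →
          (∀ i : Fin 3, MvPolynomial.eval p.rep (MvPolynomial.pderiv i f) = 0) → p ∈ s := by
  classical
  have key : ∀ s : Finset (Projectivization k (Fin 3 → k)),
      (∀ p ∈ s, MvPolynomial.eval p.rep f = 0 ∧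
        ∀ i : Fin 3, MvPolynomial.eval p.rep (MvPolynomial.pderiv i f) = 0) → s.card ≤ 6 := by
    intro s hs
    have := Groth.Agent.Lib.Helper92.Bezout.two_mul_card_sing_le f hf (by norm_num) hred s hs
    omega
  let Sing : Set (Projectivization k (Fin 3 → k)) :=
    {p | MvPolynomial.eval p.rep f = 0 ∧
      ∀ i : Fin 3, MvPolynomial.eval p.rep (MvPolynomial.pderiv i f) = 0}
  have hfin : Sing.Finite := by
    by_contra hinf
    obtain ⟨t, ht, htc⟩ := Set.Infinite.exists_subset_card_eq hinf 7
    have := key t (fun p hp => ht hp)
    omega
  refine ⟨hfin.toFinset, key _ ?_, ?_⟩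
  · intro p hp
    exact (Set.Finite.mem_toFinset hfin).1 hp
  · intro p h1 h2
    exact (Set.Finite.mem_toFinset hfin).2 ⟨h1, h2⟩

end Groth.Agent.S14312
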