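import Groth.Statements.S1432
import Mathlib.AlgebraicGeometry.Morphisms.Immersion
import Mathlib.AlgebraicGeometry.Morphisms.ClosedImmersion
import Mathlib.AlgebraicGeometry.Morphisms.SchemeTheoreticallyDominant
import Mathlib.AlgebraicGeometry.Morphisms.QuasiCompact
import Mathlib.AlgebraicGeometry.Limits
import Mathlib.AlgebraicGeometry.IdealSheaf.Subscheme

set_option autoImplicit false
universe u
open FlatMor

namespace Groth.Agent.S1432

section Helpers

open AlgebraicGeometry CategoryTheory Limits TopologicalSpace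

/-- The lifting property against `Spec` of injective ring maps. -/
def LiftInj {X Y : Scheme.{u}} (f : X ⟶ Y) : Prop :=
  ∀ (A B : Type u) [CommRing A] [CommRing B] (φ : A →+* B), Function.Injective φ →
      ∀ (a : Spec (CommRingCat.of B) ⟶ X) (b : Spec (CommRingCat.of A) ⟶ Y), Spec.map (CommRingCat.ofHom φ) ≫ b = a ≫ f →
        ∃ l : Spec (CommRingCat.of A) ⟶ X, Spec.map (CommRingCat.ofHom φ) ≫ l = a ∧ l ≫ f = b

/-- `Spec` of an injective ring map is injective on sections over every open. -/
theorem SpecMap_app_injective {A B : CommRingCat.{u}} (φ : A ⟶ B) (hφ : Function.Injective φ.hom)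
    (W : (Spec A).Opens) : Function.Injective ((Spec.map φ).app W).hom := by
  haveI : IsSchemeTheoreticallyDominant (Spec.map φ) := by
    rw [isSchemeTheoreticallyDominant_iff, Scheme.ker_of_isAffine]
    apply Scheme.IdealSheafData.ext_of_isAffine
    simp only [Scheme.IdealSheafData.ofIdealTop_ideal, homOfLE_refl, op_id,
      CategoryTheory.Functor.map_id, CommRingCat.hom_id, Ideal.map_id,
      Scheme.IdealSheafData.ideal_bot, Pi.bot_apply]
    rw [← RingHom.injective_iff_ker_eq_bot]
    have h := Scheme.ΓSpecIso_naturality φ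
    have hinj : Function.Injective ((Spec.map φ).appTop ≫ (Scheme.ΓSpecIso B).hom).hom := by
      rw [h]
      exact hφ.comp (ConcreteCategory.bijective_of_isIso (Scheme.ΓSpecIso A).hom).1
    exact Function.Injective.of_comp hinj
  exact (Spec.map φ).app_injective W

theorem liftInj_of_isClosedImmersion {X Y : Scheme.{u}} (f : X ⟶ Y) [IsClosedImmersion f] :
    LiftInj f := by
  intro A B _ _ φ hφ a b w
  have H : f.ker ≤ b.ker := by
    refine Scheme.IdealSheafData.le_ofIdeals_iff.mpr ?_
    intro U x hx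
    have h1 : x ∈ (a ≫ f).ker.ideal U := Scheme.Hom.le_ker_comp a f U hx
    have h2 := Scheme.Hom.ideal_ker_le (a ≫ f) U h1
    rw [RingHom.mem_ker] at h2 ⊢
    have h3 : ((Spec.map (CommRingCat.ofHom φ) ≫ b).app U.1).hom x = 0 := by
      rw [w]; exact h2
    rw [Scheme.Hom.comp_app] at h3
    apply SpecMap_app_injective (CommRingCat.ofHom φ) hφ (b ⁻¹ᵁ U.1)
    rw [map_zero]
    exact h3
  refine ⟨IsClosedImmersion.lift f b H, ?_, IsClosedImmersion.lift_fac f b H⟩
  rw [← cancel_mono f, Category.assoc, IsClosedImmersion.lift_fac, w]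

theorem isClosedImmersion_of_liftInj_affine {X : Scheme.{u}} {A : CommRingCat.{u}}
    (f : X ⟶ Spec A) [CompactSpace X] (L : LiftInj f) : IsClosedImmersion f := by
  let 𝒲 := X.affineCover.finiteSubcover
  haveI : ∀ j, IsAffine (𝒲.X j) := fun j => by
    show IsAffine (X.affineCover.X _); infer_instance
  let T : Scheme.{u} := ∐ 𝒲.X
  let p : T ⟶ X := Sigma.desc 𝒲.f
  have hp : Function.Surjective p := by
    intro x
    obtain ⟨j, y, rfl⟩ := 𝒲.exists_eq x
    refine ⟨Sigma.ι 𝒲.X j y, ?_⟩
    rw [← Scheme.Hom.comp_apply, Sigma.ι_desc]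
  haveI : IsAffine T := inferInstance
  let B : Type u := Γ(T, ⊤)
  let a : Spec (CommRingCat.of B) ⟶ X := T.isoSpec.inv ≫ p
  have ha : Function.Surjective a := by
    intro x
    obtain ⟨y, rfl⟩ := hp x
    refine ⟨T.isoSpec.hom y, ?_⟩
    show (T.isoSpec.inv ≫ p) (T.isoSpec.hom y) = p y
    rw [← Scheme.Hom.comp_apply, Iso.hom_inv_id_assoc]
  let ψ : A ⟶ CommRingCat.of B := Spec.preimage (a ≫ f)
  have hψ : Spec.map ψ = a ≫ f := Spec.map_preimage _
  let I : Ideal A := RingHom.ker ψ.hom
  let φ : A ⧸ I →+* B := RingHom.kerLift ψ.hom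
  have hφ : Function.Injective φ := RingHom.kerLift_injective ψ.hom
  have hφψ : CommRingCat.ofHom (Ideal.Quotient.mk I) ≫ CommRingCat.ofHom φ = ψ := by
    ext x
    exact RingHom.kerLift_mk ψ.hom x
  let b : Spec (CommRingCat.of (A ⧸ I)) ⟶ Spec A := Spec.map (CommRingCat.ofHom (Ideal.Quotient.mk I))
  have w : Spec.map (CommRingCat.ofHom φ) ≫ b = a ≫ f := by
    rw [← hψ, ← hφψ, Spec.map_comp]
  obtain ⟨l, hl1, hl2⟩ := L (A ⧸ I) B φ hφ a b w
  haveI : IsClosedImmersion b := IsClosedImmersion.spec_of_quotient_mk I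
  haveI : IsImmersion (l ≫ f) := by rw [hl2]; infer_instance
  haveI : IsImmersion l := IsImmersion.of_comp l f
  have hlsurj : Function.Surjective l := by
    intro x
    obtain ⟨y, rfl⟩ := ha x
    refine ⟨Spec.map (CommRingCat.ofHom φ) y, ?_⟩
    rw [← Scheme.Hom.comp_apply, hl1]
  haveI : IsClosedImmersion l := IsClosedImmersion.of_isPreimmersion l (by
    rw [Set.range_eq_univ.mpr hlsurj]; exact isClosed_univ)
  have hker : l.ker = ⊥ := by
    rw [eq_bot_iff, ← Scheme.Hom.ker_eq_bot_of_isIso (𝟙 X),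
      ← Scheme.Hom.iInf_ker_openCover_map_comp (𝟙 X) 𝒲, le_iInf_iff]
    intro j
    have : 𝒲.f j ≫ 𝟙 X = (Sigma.ι 𝒲.X j ≫ T.isoSpec.hom ≫ Spec.map (CommRingCat.ofHom φ)) ≫ l := by
      rw [Category.assoc, Category.assoc, hl1, Category.comp_id]
      show _ = Sigma.ι 𝒲.X j ≫ T.isoSpec.hom ≫ T.isoSpec.inv ≫ p
      rw [Iso.hom_inv_id_assoc, Sigma.ι_desc]
    rw [this]
    exact Scheme.Hom.le_ker_comp _ l
  haveI : IsIso l := IsClosedImmersion.isIso_iff_ker_eq_bot.mpr hker
  have : f = inv l ≫ b := by rw [IsIso.eq_inv_comp, hl2]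
  rw [this]
  infer_instance

theorem liftInj_pullback_snd {X Y Z : Scheme.{u}} (f : X ⟶ Y) (g : Z ⟶ Y) (L : LiftInj f) :
    LiftInj (pullback.snd f g) := by
  intro A B _ _ φ hφ a b w
  obtain ⟨l, hl1, hl2⟩ := L A B φ hφ (a ≫ pullback.fst f g) (b ≫ g) (by
    rw [← Category.assoc, w, Category.assoc, Category.assoc, pullback.condition])
  refine ⟨pullback.lift l b hl2, ?_, pullback.lift_snd _ _ _⟩
  apply pullback.hom_ext
  · rw [Category.assoc, pullback.lift_fst, hl1]
  · rw [Category.assoc, pullback.lift_snd, w]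

theorem isClosedImmersion_of_liftInj {X Y : Scheme.{u}} (f : X ⟶ Y) [QuasiCompact f]
    (L : LiftInj f) : IsClosedImmersion f := by
  apply IsZariskiLocalAtTarget.of_openCover (P := @IsClosedImmersion) Y.affineCover
  intro i
  haveI : CompactSpace ↥(pullback f (Y.affineCover.f i)) :=
    (quasiCompact_iff_compactSpace (pullback.snd f (Y.affineCover.f i))).mp inferInstance
  exact isClosedImmersion_of_liftInj_affine (pullback.snd f (Y.affineCover.f i))
    (liftInj_pullback_snd f _ L)


end Helpers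

open AlgebraicGeometry CategoryTheory Limits in
/-- For a quasi-compact morphism f : X → Y, being a closed immersion is equivalent to the following
lifting property: for each injective ring map A → B and each commutative square with Spec B → X on
top and Spec A → Y at the bottom there is a lift Spec A → X making both triangles commute. -/
theorem result {X Y : Scheme.{u}} (f : X ⟶ Y) [QuasiCompact f] :
    IsClosedImmersion f ↔ ∀ (A B : Type u) [CommRing A] [CommRing B] (φ : A →+* B), Function.Injective φ →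
      ∀ (a : Spec (CommRingCat.of B) ⟶ X) (b : Spec (CommRingCat.of A) ⟶ Y), Spec.map (CommRingCat.ofHom φ) ≫ b = a ≫ f →
        ∃ l : Spec (CommRingCat.of A) ⟶ X, Spec.map (CommRingCat.ofHom φ) ≫ l = a ∧ l ≫ f = b := by
  exact ⟨fun _ => liftInj_of_isClosedImmersion f, fun h => isClosedImmersion_of_liftInj f h⟩

end Groth.Agent.S1432
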