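import Groth.Statements.S14330
import Mathlib
import Groth.Agent.Lib.Helper80.HartogsGlue
import Groth.Agent.Lib.Helper80.SheafBasis
import Groth.Agent.S3844

set_option autoImplicit false
universe u
open CategoryTheory CategoryTheory.Limits AlgebraicGeometry Opposite
open GrpSch

namespace Groth.Agent.S14330

open AlgebraicGeometry CategoryTheory CategoryTheory.Limits TopologicalSpace Opposite
open Groth.Agent.Lib.Helper80 Groth.Agent.Lib.Helper80.SheafBasis

theorem transfer_aux {A : Scheme.{u}} (L : A.Modules) (U : A.Opens)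
    (e : L.restrict U.ι ≅ Coh.structureModule (U : Scheme.{u})) {V' O' : (U : Scheme.{u}).Opens}
    (h : O' ≤ V') (s : Γ(L, U.ι ''ᵁ V')) :
    e.hom.app O' (r L.presheaf (U.ι.image_mono h) s) =
      (r A.presheaf (U.ι.image_mono h) (e.hom.app V' s) : Γ(A, U.ι ''ᵁ O')) := by
  have := congr($(e.hom.mapPresheaf.naturality (homOfLE h).op) s)
  exact this

/-- the trivialisation as a function on sections -/
noncomputable def eFun {A : Scheme.{u}} (L : A.Modules) (U : A.Opens)
    (e : L.restrict U.ι ≅ Coh.structureModule (U : Scheme.{u})) (V' : (U : Scheme.{u}).Opens) :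
    ToType (L.presheaf.obj (op (U.ι ''ᵁ V'))) → ToType (A.presheaf.obj (op (U.ι ''ᵁ V'))) :=
  fun s => e.hom.app V' s

theorem eFun_bijective {A : Scheme.{u}} (L : A.Modules) (U : A.Opens)
    (e : L.restrict U.ι ≅ Coh.structureModule (U : Scheme.{u})) (V' : (U : Scheme.{u}).Opens) :
    Function.Bijective (eFun L U e V') := by
  have : Function.Bijective (e.hom.app V') := ConcreteCategory.bijective_of_isIso _
  exact this

theorem eFun_comm {A : Scheme.{u}} (L : A.Modules) (U : A.Opens)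
    (e : L.restrict U.ι ≅ Coh.structureModule (U : Scheme.{u})) {V' O' : (U : Scheme.{u}).Opens}
    (h : O' ≤ V') :
    eFun L U e O' ∘ r L.presheaf (U.ι.image_mono h) =
      r A.presheaf (U.ι.image_mono h) ∘ eFun L U e V' := by
  funext s
  exact transfer_aux L U e h s

theorem transfer_bijective {A : Scheme.{u}} (L : A.Modules) (U : A.Opens)
    (e : L.restrict U.ι ≅ Coh.structureModule (U : Scheme.{u})) {V' O' : (U : Scheme.{u}).Opens}
    (h : O' ≤ V') (hb : Function.Bijective (r A.presheaf (U.ι.image_mono h))) :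
    Function.Bijective (r L.presheaf (U.ι.image_mono h)) := by
  rw [← Function.Bijective.of_comp_iff' (eFun_bijective L U e O'), eFun_comm L U e h,
    Function.Bijective.of_comp_iff _ (eFun_bijective L U e V')]
  exact hb

theorem transfer_injective {A : Scheme.{u}} (L : A.Modules) (U : A.Opens)
    (e : L.restrict U.ι ≅ Coh.structureModule (U : Scheme.{u})) {V' O' : (U : Scheme.{u}).Opens}
    (h : O' ≤ V') (hb : Function.Injective (r A.presheaf (U.ι.image_mono h))) :
    Function.Injective (r L.presheaf (U.ι.image_mono h)) := by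
  rw [← Function.Injective.of_comp_iff (eFun_bijective L U e O').1, eFun_comm L U e h,
    Function.Injective.of_comp_iff' _ (eFun_bijective L U e V')]
  exact hb

/-- opens contained in a trivialising open -/
def trivOpens {A : Scheme.{u}} (L : A.Modules) : Set A.Opens :=
  {V₀ | ∃ U : A.Opens, V₀ ≤ U ∧ Nonempty (L.restrict U.ι ≅ Coh.structureModule (U : Scheme.{u}))}

theorem trivOpens_basis {A : Scheme.{u}} (L : A.Modules) (hL : PicF.IsInvertible L) :
    ∀ V : A.Opens, ∀ x ∈ V, ∃ V' ∈ trivOpens L, x ∈ V' ∧ V' ≤ V := by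
  intro V x hx
  obtain ⟨U, hxU, hU⟩ := hL x
  exact ⟨V ⊓ U, ⟨U, inf_le_right, hU⟩, ⟨hx, hxU⟩, inf_le_left⟩

theorem image_preimage_of_le {A : Scheme.{u}} (U : A.Opens) {V₀ : A.Opens} (h : V₀ ≤ U) :
    U.ι ''ᵁ (U.ι ⁻¹ᵁ V₀) = V₀ := by
  rw [Scheme.Hom.image_preimage_eq_opensRange_inf, Scheme.Opens.opensRange_ι]
  exact inf_eq_right.mpr h

theorem bijective_of_mem_trivOpens {A : Scheme.{u}} (L : A.Modules) (O : A.Opens) {V₀ : A.Opens}
    (hV₀ : V₀ ∈ trivOpens L)
    (hb : Function.Bijective (r A.presheaf (inf_le_left : V₀ ⊓ O ≤ V₀))) :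
    Function.Bijective (r L.presheaf (inf_le_left : V₀ ⊓ O ≤ V₀)) := by
  obtain ⟨U, hV₀U, ⟨e⟩⟩ := hV₀
  have h : U.ι ⁻¹ᵁ (V₀ ⊓ O) ≤ U.ι ⁻¹ᵁ V₀ := U.ι.preimage_mono inf_le_left
  have hV : U.ι ''ᵁ (U.ι ⁻¹ᵁ V₀) = V₀ := image_preimage_of_le U hV₀U
  have hO : U.ι ''ᵁ (U.ι ⁻¹ᵁ (V₀ ⊓ O)) = V₀ ⊓ O := image_preimage_of_le U (inf_le_left.trans hV₀U)
  rw [← r_bijective_congr _ hV hO (U.ι.image_mono h)] at hb ⊢
  exact transfer_bijective L U e h hb

theorem injective_of_mem_trivOpens {A : Scheme.{u}} (L : A.Modules) (O : A.Opens) {V₀ : A.Opens}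
    (hV₀ : V₀ ∈ trivOpens L)
    (hb : Function.Injective (r A.presheaf (inf_le_left : V₀ ⊓ O ≤ V₀))) :
    Function.Injective (r L.presheaf (inf_le_left : V₀ ⊓ O ≤ V₀)) := by
  obtain ⟨U, hV₀U, ⟨e⟩⟩ := hV₀
  have h : U.ι ⁻¹ᵁ (V₀ ⊓ O) ≤ U.ι ⁻¹ᵁ V₀ := U.ι.preimage_mono inf_le_left
  have hV : U.ι ''ᵁ (U.ι ⁻¹ᵁ V₀) = V₀ := image_preimage_of_le U hV₀U
  have hO : U.ι ''ᵁ (U.ι ⁻¹ᵁ (V₀ ⊓ O)) = V₀ ⊓ O := image_preimage_of_le U (inf_le_left.trans hV₀U)
  rw [← r_injective_congr _ hV hO (U.ι.image_mono h)] at hb ⊢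
  exact transfer_injective L U e h hb

/-- Let S be a locally Noetherian scheme, f : A → S a smooth morphism, L an invertible O_A-module and V
an open subscheme of S; for an open W of S consider the restriction of sections of L from f⁻¹(W) to
f⁻¹(W) ∩ f⁻¹(V), that is the component over W of the natural map f_*L → j_*j^*(f_*L), j : V → S the
inclusion. If V is schematically dense in S, all these restrictions are injective. If V is a big
open of S, meaning that the local ring of S at every point outside V has depth at least 2, all these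
restrictions are bijective. (The published statement is for a semi-stable group scheme A; its proof
uses only the smoothness of A over S and the local freeness of L, which are the hypotheses kept
here.) -/
theorem result {S A : Scheme.{u}} [IsLocallyNoetherian S]
    (f : A ⟶ S) [Smooth f] (L : A.Modules) (hL : PicF.IsInvertible L) (V : S.Opens) :
    (CInt.IsSchematicallyDense V →
      ∀ W : S.Opens, Function.Injective (L.val.map (homOfLE (inf_le_left : f ⁻¹ᵁ W ⊓ f ⁻¹ᵁ V ≤ f ⁻¹ᵁ W)).op)) ∧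
    ((∀ x : S, x ∉ V → 2 ≤ LocCoh.depth (S.presheaf.stalk x) (S.presheaf.stalk x)) →
      ∀ W : S.Opens, Function.Bijective (L.val.map (homOfLE (inf_le_left : f ⁻¹ᵁ W ⊓ f ⁻¹ᵁ V ≤ f ⁻¹ᵁ W)).op)) := by
  let F : TopCat.Sheaf Ab A := ⟨L.presheaf, L.isSheaf⟩
  refine ⟨fun hdense W => ?_, fun hdepth W => ?_⟩
  · have hdense₁ : CInt.IsSchematicallyDense (f ⁻¹ᵁ V) := Groth.Agent.S3844.result f V hdense
    have key : Function.Injective (r F.1 (inf_le_left : f ⁻¹ᵁ W ⊓ f ⁻¹ᵁ V ≤ f ⁻¹ᵁ W)) := by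
      refine r_injective_of_basis F (f ⁻¹ᵁ V) (trivOpens L) (trivOpens_basis L hL) ?_ _
      intro V₀ hV₀
      exact injective_of_mem_trivOpens L _ hV₀ (hdense₁ V₀)
    exact key
  · have key : Function.Bijective (r F.1 (inf_le_left : f ⁻¹ᵁ W ⊓ f ⁻¹ᵁ V ≤ f ⁻¹ᵁ W)) := by
      refine r_bijective_of_basis F (f ⁻¹ᵁ V) (trivOpens L) (trivOpens_basis L hL) ?_ _
      intro V₀ hV₀
      exact bijective_of_mem_trivOpens L _ hV₀ (res_bijective_of_depth V hdepth f V₀)
    exact key

end Groth.Agent.S14330
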