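import Groth.Statements.S14337
import Mathlib.RingTheory.Flat.EquationalCriterion
import Mathlib.Algebra.Module.FinitePresentation
import Mathlib.Tactic

set_option autoImplicit false
universe u
open scoped TensorProduct
open CAlg

namespace Groth.Agent.S14337

/-- Let B be a Noetherian ring, K and K' finitely generated flat B-modules and φ : K → K' a B-linear
map; for a prime y of B write κ(y) for its residue field and φ_y for the base change κ(y) ⊗ K → κ(y)
⊗ K'. If the cokernel K'/Im φ is a projective (locally free) B-module, then Im φ is projective, and
the formation of Im φ commutes with every base change: for every commutative B-algebra B' the map B'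
⊗ Im φ → B' ⊗ K' induced by the inclusion is injective and its range is the range of the base change
B' ⊗ K → B' ⊗ K' of φ. -/
theorem result (B : Type u) [CommRing B] [IsNoetherianRing B] (K K' : Type u) [AddCommGroup K] [Module B K] [Module.Finite B K] [Module.Flat B K] [AddCommGroup K'] [Module B K'] [Module.Finite B K'] [Module.Flat B K'] (φ : K →ₗ[B] K') (hc : Module.Projective B (K' ⧸ LinearMap.range φ)) : Module.Projective B ↥(LinearMap.range φ) ∧ ∀ (B' : Type u) [CommRing B'] [Algebra B B'], Function.Injective ((LinearMap.range φ).subtype.baseChange B') ∧ LinearMap.range ((LinearMap.range φ).subtype.baseChange B') = LinearMap.range (φ.baseChange B') := by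
  have : Module.FinitePresentation B K' := Module.finitePresentation_of_finite B K'
  have : Module.Projective B K' := Module.Flat.projective_of_finitePresentation
  -- a section of the quotient map
  obtain ⟨s, hs⟩ := Module.projective_lifting_property (LinearMap.range φ).mkQ
    (LinearMap.id : (K' ⧸ LinearMap.range φ) →ₗ[B] (K' ⧸ LinearMap.range φ))
    (Submodule.mkQ_surjective _)
  -- the retraction K' → range φ
  have hmem : ∀ x : K', x - s ((LinearMap.range φ).mkQ x) ∈ LinearMap.range φ := by
    intro x
    have h0 : (LinearMap.range φ).mkQ (x - s ((LinearMap.range φ).mkQ x)) = 0 := by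
      rw [map_sub]
      have := LinearMap.congr_fun hs ((LinearMap.range φ).mkQ x)
      simp only [LinearMap.comp_apply, LinearMap.id_apply] at this
      rw [this, sub_self]
    rwa [← LinearMap.mem_ker, Submodule.ker_mkQ] at h0
  let r : K' →ₗ[B] ↥(LinearMap.range φ) :=
    LinearMap.codRestrict (LinearMap.range φ) (LinearMap.id - s ∘ₗ (LinearMap.range φ).mkQ)
      (fun x => by simpa using hmem x)
  have hr : r ∘ₗ (LinearMap.range φ).subtype = LinearMap.id := by
    ext ⟨x, hx⟩
    simp only [r, LinearMap.comp_apply, Submodule.subtype_apply, LinearMap.codRestrict_apply,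
      LinearMap.sub_apply, LinearMap.id_apply]
    have : (LinearMap.range φ).mkQ x = 0 := by
      rw [← LinearMap.mem_ker, Submodule.ker_mkQ]; exact hx
    rw [this, map_zero, sub_zero]
  refine ⟨Module.Projective.of_split (LinearMap.range φ).subtype r hr, ?_⟩
  intro B' _ _
  refine ⟨?_, ?_⟩
  · have h1 : (r.baseChange B') ∘ₗ ((LinearMap.range φ).subtype.baseChange B') = LinearMap.id := by
      rw [← LinearMap.baseChange_comp, hr, LinearMap.baseChange_id]
    exact Function.LeftInverse.injective (g := r.baseChange B') (fun x => LinearMap.congr_fun h1 x)
  · have hφ : φ = (LinearMap.range φ).subtype ∘ₗ φ.rangeRestrict := by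
      ext x; rfl
    have h2 : φ.baseChange B' =
        ((LinearMap.range φ).subtype.baseChange B') ∘ₗ (φ.rangeRestrict.baseChange B') := by
      rw [← LinearMap.baseChange_comp, ← hφ]
    have hsurj : Function.Surjective (φ.rangeRestrict.baseChange B') :=
      LinearMap.lTensor_surjective _ φ.surjective_rangeRestrict
    rw [h2, LinearMap.range_comp_of_range_eq_top _ (LinearMap.range_eq_top.mpr hsurj)]

end Groth.Agent.S14337
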