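import Groth.Statements.S1434
import Mathlib.AlgebraicGeometry.Morphisms.ClosedImmersion
import Mathlib.AlgebraicGeometry.IdealSheaf.Functorial

set_option autoImplicit false
universe u
open FlatMor

namespace Groth.Agent.S1434

open AlgebraicGeometry CategoryTheory Limits in
/-- Sections killed by a closed immersion with square-zero kernel multiply to zero. -/
theorem mul_eq_zero_of_ker_mul_ker_eq_bot {T T' : Scheme.{u}} (t : T ⟶ T') [IsClosedImmersion t]
    (hsq : t.ker * t.ker = ⊥) (W : T'.Opens) (s s' : Γ(T', W))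
    (hs : t.app W s = 0) (hs' : t.app W s' = 0) : s * s' = 0 := by
  refine T'.IsSheaf.section_ext fun x hx ↦ ?_
  obtain ⟨_, ⟨V, hV, rfl⟩, hxV, hVW⟩ :=
    T'.isBasis_affineOpens.exists_subset_of_mem_open hx W.isOpen
  refine ⟨V, hVW, hxV, ?_⟩
  have hmem : ∀ r : Γ(T', W), t.app W r = 0 →
      T'.presheaf.map (homOfLE hVW).op r ∈ t.ker.ideal ⟨V, hV⟩ := by
    intro r hr
    rw [Scheme.Hom.ker_apply, RingHom.mem_ker]
    have := congr($(t.naturality (homOfLE hVW).op) r)
    simp only [CommRingCat.comp_apply] at this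
    change (t.app V) (T'.presheaf.map (homOfLE hVW).op r) = 0
    rw [this, hr, map_zero]
  have h1 := hmem s hs
  have h2 := hmem s' hs'
  have h3 : T'.presheaf.map (homOfLE hVW).op s * T'.presheaf.map (homOfLE hVW).op s' ∈
      (t.ker * t.ker).ideal ⟨V, hV⟩ := by
    simp only [Scheme.IdealSheafData.ideal_mul, Pi.mul_apply]
    exact Ideal.mul_mem_mul h1 h2
  rw [hsq] at h3
  simp only [Scheme.IdealSheafData.ideal_bot, Pi.bot_apply, Ideal.mem_bot] at h3
  rw [map_mul, map_zero]
  exact h3

open AlgebraicGeometry CategoryTheory Limits in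
/-- Part (1), for a closed subscheme: let Z ⊂ X be the closed subscheme cut out by an ideal sheaf I and
Z' the one cut out by I², its first order infinitesimal neighbourhood. Given a first order
thickening T → T', a morphism a : T → Z and a morphism b : T' → X compatible with them, there is a
unique morphism T' → Z' through which b factors (compatibility with a is then automatic). -/
theorem result {X T T' : Scheme.{u}} (I : X.IdealSheafData) (t : T ⟶ T') (ht : MoreMor.IsFirstOrderThickening t)
    (a : T ⟶ I.subscheme) (b : T' ⟶ X) (w : a ≫ I.subschemeι = t ≫ b) :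
    ∃! a' : T' ⟶ (I ^ 2).subscheme, a' ≫ (I ^ 2).subschemeι = b := by
  obtain ⟨⟨hci, hsurj⟩, hsq⟩ := ht
  have := hci
  have hI : I ≤ (t ≫ b).ker := by
    rw [← w]
    calc I = I.subschemeι.ker := (Scheme.IdealSheafData.ker_subschemeι I).symm
      _ ≤ (a ≫ I.subschemeι).ker := Scheme.Hom.le_ker_comp _ _
  have key : (I ^ 2) ≤ b.ker := by
    rw [Scheme.Hom.ker, Scheme.IdealSheafData.le_ofIdeals_iff]
    intro U
    simp only [Scheme.IdealSheafData.ideal_pow, Pi.pow_apply]
    rw [pow_two, Ideal.mul_le]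
    intro x hx y hy
    rw [RingHom.mem_ker, map_mul]
    have hker : ∀ z ∈ I.ideal U, t.app (b ⁻¹ᵁ U.1) (b.app U.1 z) = 0 := by
      intro z hz
      have h1 := Scheme.Hom.ideal_ker_le (t ≫ b) U (hI U hz)
      rw [RingHom.mem_ker] at h1
      exact h1
    exact mul_eq_zero_of_ker_mul_ker_eq_bot t hsq _ _ _ (hker x hx) (hker y hy)
  refine ⟨IsClosedImmersion.lift (I ^ 2).subschemeι b ?_, IsClosedImmersion.lift_fac _ _ _, ?_⟩
  · rw [Scheme.IdealSheafData.ker_subschemeι]
    exact key
  · intro a' ha'
    rw [← cancel_mono (I ^ 2).subschemeι, ha', IsClosedImmersion.lift_fac]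

end Groth.Agent.S1434
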