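import Groth.Statements.S14341
import Groth.Agent.Lib.Helper93.GenusOnePoint
import Groth.Agent.S1535

set_option autoImplicit false
universe u
open CategoryTheory CategoryTheory.Limits AlgebraicGeometry
open Curves

namespace Groth.Agent.S14341

/-- Let k be a field and X a smooth proper geometrically connected curve over k (of dimension one) of
genus dim_k H^1(X, O_X) = 1, with a k-rational point O (a closed point with residue field k); for a
k-rational point P write I_P for the ideal sheaf of the reduced point P, an invertible ideal with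
inverse O_X(P). Then for every invertible O_X-module L of degree 0 there is exactly one k-rational
point P with L ⊗ I_P ≅ I_O, that is L ≅ O_X(P − O): the map P ↦ O_X(P − O) is a bijection from X(k)
onto the isomorphism classes of invertible modules of degree zero. -/
theorem result (k : Type u) [Field k] (X : Scheme.{u}) [X.Over (Spec (CommRingCat.of k))] [IsProper (X ↘ Spec (CommRingCat.of k))] [Smooth (X ↘ Spec (CommRingCat.of k))] [GeometricallyConnected (X ↘ Spec (CommRingCat.of k))] (hX : topologicalKrullDim X = 1) (hg : Curv2.genus k X = 1) (O : X) (hOc : IsClosed ({O} : Set X)) (hO : Function.Bijective (Curv2.resMap k X O)) (L : X.Modules) (hL : PicF.IsInvertible L) (hdeg : Curv2.deg k X L 1 = 0) : ∃! P : {x : X // IsClosed ({x} : Set X) ∧ Function.Bijective (Curv2.resMap k X x)}, Nonempty (CohB1.tensorMod L (ClSub.idealMod (Scheme.IdealSheafData.vanishingIdeal ⟨{P.1}, P.2.1⟩)) ≅ ClSub.idealMod (Scheme.IdealSheafData.vanishingIdeal ⟨{O}, hOc⟩)) := by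
  classical
  have : IsNoetherian X :=
    Groth.Agent.Lib.Helper67.CurveP1.isNoetherian_of_proper k (X ↘ Spec (CommRingCat.of k))
  have hreg : ∀ x : X, IsRegularLocalRing (X.presheaf.stalk x) :=
    fun x => Groth.Agent.S1535.result k X x
  have hdom : ∀ x : X, IsDomain (X.presheaf.stalk x) := fun x => by
    have := hreg x
    exact Groth.Agent.Lib.Helper85.isDomain_of_isRegularLocalRing _
  have hsub : Subsingleton ↥(Spec (CommRingCat.of k)) :=
    show Subsingleton (PrimeSpectrum k) from inferInstance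
  have hne : Nonempty ↥(Spec (CommRingCat.of k)) :=
    show Nonempty (PrimeSpectrum k) from inferInstance
  have : ConnectedSpace X :=
    GeometricallyConnected.connectedSpace_of_subsingleton (f := X ↘ Spec (CommRingCat.of k))
  have : IsIntegral X := Groth.Agent.Lib.Helper93.GenusOnePoint.isIntegral_of_isDomain_stalk X hdom
  have h0 := Groth.Agent.Lib.Helper93.RatPoint.finrank_HH_zero_structureModule_of_rational k X O hO.2
  -- an inverse of `L`
  obtain ⟨Linv, hLinv, ⟨ε⟩⟩ := Groth.Agent.Lib.Helper11.NegPowers.exists_inverse hL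
  have hL1 := Groth.Agent.Lib.Helper67.CurveTors.rank_one_of_isInvertible hL
  have hLinv1 := Groth.Agent.Lib.Helper67.CurveTors.rank_one_of_isInvertible hLinv
  have hdegLinv : Curv2.deg k X Linv 1 = 0 := by
    have h1 := Groth.Agent.S7637.result k X hX.le 1 1 Linv L hLinv1 hL1
    have h2 := Groth.Agent.Lib.Helper67.TensRank.euler_eq_of_iso k ε
    have h3 : Curv2.deg k X (CohB1.tensorMod Linv L) (1 * 1) = 0 := by
      unfold Curv2.deg
      rw [h2]
      simp
    rw [h3, hdeg] at h1
    push_cast at h1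
    linarith
  -- the ideal of `O`
  obtain ⟨hIOinv, hIOdeg⟩ :=
    Groth.Agent.Lib.Helper93.GenusOnePoint.deg_idealMod_ptI k X hX O hOc (hreg O)
  rw [Groth.Agent.Lib.Helper93.GenusOnePoint.finrank_of_bijective_resMap k X O hO] at hIOdeg
  have hIO1 := Groth.Agent.Lib.Helper67.CurveTors.rank_one_of_isInvertible hIOinv
  have hA := Groth.Agent.Lib.Helper11.GenLocus.isInvertible_tensorMod hLinv hIOinv
  have hdegA : Curv2.deg k X (CohB1.tensorMod Linv
      (ClSub.idealMod (Groth.Agent.Lib.Helper93.RatPoint.ptI O hOc))) 1 = -1 := by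
    have h1 := Groth.Agent.S7637.result k X hX.le 1 1 Linv _ hLinv1 hIO1
    rw [hdegLinv, hIOdeg] at h1
    push_cast at h1
    have h3 : Curv2.deg k X (CohB1.tensorMod Linv
        (ClSub.idealMod (Groth.Agent.Lib.Helper93.RatPoint.ptI O hOc))) (1 * 1) =
        Curv2.deg k X (CohB1.tensorMod Linv
        (ClSub.idealMod (Groth.Agent.Lib.Helper93.RatPoint.ptI O hOc))) 1 := by rw [Nat.mul_one]
    rw [h3] at h1
    linarith
  obtain ⟨P, hP, hPrat, ⟨a⟩⟩ :=
    Groth.Agent.Lib.Helper93.GenusOnePoint.exists_point_iso k X hX hreg h0 hg hA hdegA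
  -- `L ⊗ I_P ≅ I_O`
  let φ : CohB1.tensorMod L (ClSub.idealMod (Groth.Agent.Lib.Helper93.RatPoint.ptI P hP)) ≅
      ClSub.idealMod (Groth.Agent.Lib.Helper93.RatPoint.ptI O hOc) :=
    Groth.Agent.Lib.Helper11.GenLocus.tensorModCongr (Iso.refl L) a.symm ≪≫
      (Groth.Agent.Lib.Helper11.GenLocus.tensorModAssoc L Linv _).symm ≪≫
      Groth.Agent.Lib.Helper11.GenLocus.tensorModCongr
        (Groth.Agent.Lib.Helper11.GenLocus.tensorModBraid L Linv ≪≫ ε) (Iso.refl _) ≪≫
      Groth.Agent.Lib.Helper11.GenLocus.unitTensorIso _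
  refine ⟨⟨P, hP, hPrat⟩, ⟨φ⟩, ?_⟩
  rintro ⟨P', hP', hP'rat⟩ ⟨φ'⟩
  apply Subtype.ext
  change P' = P
  have θ : CohB1.tensorMod L (ClSub.idealMod (Groth.Agent.Lib.Helper93.RatPoint.ptI P hP)) ≅
      CohB1.tensorMod L (ClSub.idealMod (Groth.Agent.Lib.Helper93.RatPoint.ptI P' hP')) :=
    φ ≪≫ φ'.symm
  exact (Groth.Agent.Lib.Helper93.GenusOnePoint.point_unique k X hX hreg h0 hg P P' hP hP'
    (Groth.Agent.Lib.Helper93.GenusOnePoint.finrank_of_bijective_resMap k X P hPrat)
    (Groth.Agent.Lib.Helper93.GenusOnePoint.cancelIso ε θ)).symm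

end Groth.Agent.S14341
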