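import Groth.Statements.S14345
import Mathlib
import Groth.Agent.Lib.Helper10.Fitting
-- import your own Groth.Agent.* helpers here

set_option autoImplicit false
universe u v
open TensorProduct
open QuotLF

namespace Groth.Agent.S14345

open Groth.Agent.Lib.Helper10.Fitting

/-- Let R be a commutative ring, M a finitely generated R-module and k ≥ 0. If for an R-algebra A the
module A ⊗_R M admits a quotient that is finite projective of constant rank k (an A-valued point of
the Quot scheme of rank-k locally free quotients of M), then every Fitting ideal Fit_j(M) with j < k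
extends to the zero ideal of A; that is, the structure map of the Quot scheme of rank-k locally free
quotients factors through the closed subscheme cut out by Fit_{k-1}(M). -/
theorem result (R : Type u) [CommRing R]
    (M : Type v) [AddCommGroup M] [Module R M] [Module.Finite R M] (k : ℕ)
    (A : Type u) [CommRing A] [Algebra R A] (N : Module.Grassmannian A (A ⊗[R] M) k)
    (j : ℕ) (hj : j < k) :
    (Fitt.ideal R M j).map (algebraMap R A) = ⊥ := by
  classical
  rw [← fitt_baseChange A j]
  rw [eq_bot_iff]
  refine le_trans (fitt_le_of_surjective N.toSubmodule.mkQ (Submodule.mkQ_surjective _) j) ?_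
  rw [le_bot_iff]
  apply ideal_eq_bot_of_localization'
  intro J hJ
  have hJp : J.IsPrime := hJ.isPrime
  rw [← fitt_isLocalizedModule J.primeCompl (Localization.AtPrime J)
    (LocalizedModule.mkLinearMap J.primeCompl ((A ⊗[R] M) ⧸ N.toSubmodule)) j]
  haveI : Module.Free (Localization.AtPrime J)
      (LocalizedModule J.primeCompl ((A ⊗[R] M) ⧸ N.toSubmodule)) :=
    Module.free_of_flat_of_isLocalRing
  let b := Module.finBasis (Localization.AtPrime J)
    (LocalizedModule J.primeCompl ((A ⊗[R] M) ⧸ N.toSubmodule))
  apply fitt_eq_bot_of_basis b
  rw [Fintype.card_fin]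
  have h1 := N.rankAtStalk_eq ⟨J, hJp⟩
  have h2 : Module.rankAtStalk ((A ⊗[R] M) ⧸ N.toSubmodule) ⟨J, hJp⟩ =
      Module.finrank (Localization.AtPrime J)
        (LocalizedModule J.primeCompl ((A ⊗[R] M) ⧸ N.toSubmodule)) := rfl
  rw [← h2, h1]
  exact hj

end Groth.Agent.S14345
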