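import Groth.Statements.S14346
import Mathlib.Tactic

set_option autoImplicit false
universe u v
open TensorProduct
open QuotLF

namespace Groth.Agent.S14346

section
variable {A : Type u} [CommRing A] {N : Type v} [AddCommGroup N] [Module A N]

/-- A submodule with projective quotient is a direct factor. -/
noncomputable def splitEquiv (P : Submodule A N) (s : (N ⧸ P) →ₗ[A] N)
    (hs : P.mkQ ∘ₗ s = LinearMap.id) : N ≃ₗ[A] (↥P × (N ⧸ P)) where
  toFun x := (⟨x - s (P.mkQ x), by
    have h0 : P.mkQ (x - s (P.mkQ x)) = 0 := by
      rw [map_sub]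
      have := LinearMap.congr_fun hs (P.mkQ x)
      simp only [LinearMap.comp_apply, LinearMap.id_apply] at this
      rw [this, sub_self]
    rwa [← LinearMap.mem_ker, Submodule.ker_mkQ] at h0⟩, P.mkQ x)
  map_add' x y := by
    ext
    · simp only [map_add, Prod.mk_add_mk, Submodule.coe_add]; abel
    · simp
  map_smul' c x := by
    ext
    · simp only [map_smul, RingHom.id_apply, Prod.smul_mk, Submodule.coe_smul, smul_sub]
    · simp
  invFun y := (y.1 : N) + s y.2
  left_inv x := by simp
  right_inv y := by
    obtain ⟨⟨y, hy⟩, q⟩ := y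
    have h1 : P.mkQ y = 0 := by rw [← LinearMap.mem_ker, Submodule.ker_mkQ]; exact hy
    have h2 : P.mkQ (s q) = q := by
      have := LinearMap.congr_fun hs q
      simpa only [LinearMap.comp_apply, LinearMap.id_apply] using this
    ext
    · simp only [map_add, h1, h2, zero_add, add_sub_cancel_right]
    · simp only [map_add, h1, h2, zero_add]

end


/-- Let R be a commutative ring, M an R-module, k ≥ 0, and A an R-algebra for which A ⊗_R M is finite
projective of constant rank k, i.e. Spec A → Spec R factors through the locally closed stratum where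
M is locally free of rank k. Then A ⊗_R M has exactly one rank-k locally free quotient: the zero
submodule has finite projective quotient of constant rank k, and every submodule with such a
quotient is zero. In other words the Quot scheme of rank-k locally free quotients of M restricted to
that stratum maps isomorphically onto it. -/
theorem result (R : Type u) [CommRing R]
    (M : Type v) [AddCommGroup M] [Module R M] (k : ℕ)
    (A : Type u) [CommRing A] [Algebra R A] [Module.Finite A (A ⊗[R] M)] [Module.Projective A (A ⊗[R] M)]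
    (hk : ∀ p : PrimeSpectrum A, Module.rankAtStalk (R := A) (A ⊗[R] M) p = k) :
    (∃ N : Module.Grassmannian A (A ⊗[R] M) k, N.toSubmodule = ⊥) ∧
      ∀ N : Module.Grassmannian A (A ⊗[R] M) k, N.toSubmodule = ⊥ := by
  have hflat : Module.Flat A (A ⊗[R] M) := inferInstance
  refine ⟨⟨⟨⊥, ?_, ?_, ?_⟩, rfl⟩, ?_⟩
  · exact Module.Finite.equiv (Submodule.quotEquivOfEqBot (⊥ : Submodule A (A ⊗[R] M)) rfl).symm
  · exact Module.Projective.of_equiv (Submodule.quotEquivOfEqBot (⊥ : Submodule A (A ⊗[R] M)) rfl).symm
  · intro p
    rw [Module.rankAtStalk_eq_of_equiv (Submodule.quotEquivOfEqBot (⊥ : Submodule A (A ⊗[R] M)) rfl)]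
    exact hk p
  · intro G
    set P := G.toSubmodule with hP
    have hQfin : Module.Finite A ((A ⊗[R] M) ⧸ P) := G.finite_quotient
    have hQproj : Module.Projective A ((A ⊗[R] M) ⧸ P) := G.projective_quotient
    obtain ⟨s, hs⟩ := Module.projective_lifting_property P.mkQ
      (LinearMap.id : ((A ⊗[R] M) ⧸ P) →ₗ[A] ((A ⊗[R] M) ⧸ P)) (Submodule.mkQ_surjective _)
    let e := splitEquiv P s hs
    have hprodproj : Module.Projective A (↥P × ((A ⊗[R] M) ⧸ P)) := Module.Projective.of_equiv e
    -- P is finite projective, as a direct factor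
    have hPproj : Module.Projective A ↥P :=
      Module.Projective.of_split (LinearMap.inl A ↥P ((A ⊗[R] M) ⧸ P))
        (LinearMap.fst A ↥P ((A ⊗[R] M) ⧸ P)) (by ext; simp)
    have hPfin : Module.Finite A ↥P := by
      refine Module.Finite.of_surjective ((LinearMap.fst A ↥P ((A ⊗[R] M) ⧸ P)) ∘ₗ e.toLinearMap) ?_
      intro y
      refine ⟨e.symm (y, 0), ?_⟩
      simp
    have hrank := Module.rankAtStalk_prod (R := A) (↥P) ((A ⊗[R] M) ⧸ P)
    have hrank' := Module.rankAtStalk_eq_of_equiv (R := A) (M := A ⊗[R] M) (N := ↥P × ((A ⊗[R] M) ⧸ P)) e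
    have hzero : Module.rankAtStalk (R := A) ↥P = 0 := by
      ext p
      have h1 := congrFun hrank p
      have h2 := congrFun hrank' p
      have h3 : Module.rankAtStalk (R := A) ((A ⊗[R] M) ⧸ P) p = k := G.rankAtStalk_eq p
      have h4 := hk p
      simp only [Pi.add_apply] at h1
      simp only [Pi.zero_apply]
      omega
    have hsub : Subsingleton ↥P := Module.rankAtStalk_eq_zero_iff_subsingleton.mp hzero
    exact (Submodule.subsingleton_iff_eq_bot).mp hsub

end Groth.Agent.S14346
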