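import Groth.Statements.S14347
import Mathlib
import Groth.Agent.Lib.Helper10.FittingMinors
-- import your own Groth.Agent.* helpers here

set_option autoImplicit false
universe u
open QuotLF

namespace Groth.Agent.S14347

open Groth.Agent.Lib.Helper10.Fitting

theorem lin_apply {R : Type*} [CommRing R] {ι : Type*} [Fintype ι] [DecidableEq ι] {N : Type*}
    [AddCommGroup N] [Module R N] (g : (ι → R) →ₗ[R] N) (v : ι → R) :
    g v = ∑ i, v i • g (Pi.single i 1) := by
  conv_lhs => rw [pi_eq_sum_univ' v]
  rw [map_sum]
  apply Finset.sum_congr rfl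
  intro i _
  rw [map_smul]

theorem span_single {R : Type*} [CommRing R] {ι : Type*} [Fintype ι] [DecidableEq ι] :
    Submodule.span R (Set.range (fun j : ι => (Pi.single j 1 : ι → R))) = ⊤ := by
  have := (Pi.basisFun R ι).span_eq
  convert this using 3
  funext j
  rw [Pi.basisFun_apply]

/-- Let R be a commutative ring and σ : R^m → R^n an injective linear map with cokernel M, so that M has
a length-one resolution by finite free modules and rank δ = n − m; let K be the cokernel of the dual
map (R^n)^∨ → (R^m)^∨, which is the module Ext¹_R(M, R). Then the Fitting ideals satisfy Fit_{δ +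
j}(M) = Fit_j(K) for all j ≥ 0, and Fit_i(M) = 0 for i < δ (the degeneracy loci of M and of K agree
after the shift by δ). -/
theorem result (R : Type u) [CommRing R] (m n : ℕ)
    (σ : (Fin m → R) →ₗ[R] (Fin n → R)) (hσ : Function.Injective σ) :
    (∀ j : ℕ, Fitt.ideal R ((Fin n → R) ⧸ LinearMap.range σ) (n - m + j) =
        Fitt.ideal R (Module.Dual R (Fin m → R) ⧸ LinearMap.range σ.dualMap) j) ∧
      ∀ i : ℕ, i < n - m → Fitt.ideal R ((Fin n → R) ⧸ LinearMap.range σ) i = ⊥ := by
  classical
  cases subsingleton_or_nontrivial R with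
  | inl hsub =>
    haveI : Subsingleton (Ideal R) :=
      ⟨fun I J => Ideal.ext fun x => by simp [Subsingleton.elim x 0]⟩
    exact ⟨fun j => Subsingleton.elim _ _, fun i _ => Subsingleton.elim _ _⟩
  | inr hnt =>
    have hmn : m ≤ n := le_of_fin_injective R σ hσ
    -- the matrix of `σ`
    set A : Fin n → Fin m → R := fun i j => σ (Pi.single j 1) i with hA
    have hσA : ∀ (v : Fin m → R) (i : Fin n), σ v i = ∑ j, A i j * v j := by
      intro v i
      rw [lin_apply σ v, Finset.sum_apply]
      apply Finset.sum_congr rfl
      intro j _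
      rw [Pi.smul_apply, smul_eq_mul, mul_comm]
    -- presentation of `M`
    set W := LinearMap.range σ with hW
    let x : Fin n → (Fin n → R) ⧸ W := fun i => W.mkQ (Pi.single i 1)
    have hx : Submodule.span R (Set.range x) = ⊤ := by
      have h1 : Set.range x = W.mkQ '' Set.range (fun i : Fin n => (Pi.single i 1 : Fin n → R)) := by
        rw [← Set.range_comp]
        rfl
      rw [h1, ← Submodule.map_span, span_single, Submodule.map_top, Submodule.range_mkQ]
    have hsum : ∀ v : Fin n → R, ∑ i, v i • x i = W.mkQ v := by
      intro v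
      rw [lin_apply W.mkQ v]
    have hRel : ∀ v, v ∈ Rel R x ↔ v ∈ W := by
      intro v
      rw [mem_Rel, hsum, Submodule.mkQ_apply, Submodule.Quotient.mk_eq_zero]
    let SM : Set (Fin n → R) := Set.range (fun j : Fin m => σ (Pi.single j 1))
    have hSM1 : SM ⊆ Rel R x := by
      rintro _ ⟨j, rfl⟩
      exact (hRel _).mpr ⟨_, rfl⟩
    have hSM2 : Rel R x ≤ Submodule.span R SM := by
      intro v hv
      obtain ⟨w, rfl⟩ := (hRel v).mp hv
      rw [lin_apply σ w]
      apply Submodule.sum_mem
      intro j _
      exact Submodule.smul_mem _ _ (Submodule.subset_span ⟨j, rfl⟩)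
    -- presentation of `K`
    set W' := LinearMap.range σ.dualMap with hW'
    let y : Fin m → Module.Dual R (Fin m → R) ⧸ W' := fun j => W'.mkQ (LinearMap.proj j)
    have hdual : ∀ ψ : Module.Dual R (Fin m → R),
        ψ = ∑ j, ψ (Pi.single j 1) • (LinearMap.proj j : (Fin m → R) →ₗ[R] R) := by
      intro ψ
      apply LinearMap.ext
      intro v
      rw [lin_apply ψ v, LinearMap.sum_apply]
      apply Finset.sum_congr rfl
      intro j _
      rw [LinearMap.smul_apply, LinearMap.proj_apply, smul_eq_mul, smul_eq_mul, mul_comm]
    have hsum' : ∀ w : Fin m → R, ∑ j, w j • y j =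
        W'.mkQ (∑ j, w j • (LinearMap.proj j : (Fin m → R) →ₗ[R] R)) := by
      intro w
      rw [map_sum]
      apply Finset.sum_congr rfl
      intro j _
      rw [map_smul]
    have hy : Submodule.span R (Set.range y) = ⊤ := by
      rw [eq_top_iff]
      rintro q -
      obtain ⟨ψ, rfl⟩ := Submodule.mkQ_surjective W' q
      rw [hdual ψ, ← hsum']
      apply Submodule.sum_mem
      intro j _
      exact Submodule.smul_mem _ _ (Submodule.subset_span ⟨j, rfl⟩)
    have hevalsum : ∀ (w : Fin m → R) (j₀ : Fin m),
        (∑ j, w j • (LinearMap.proj j : (Fin m → R) →ₗ[R] R)) (Pi.single j₀ 1) = w j₀ := by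
      intro w j₀
      rw [LinearMap.sum_apply, Finset.sum_eq_single j₀]
      · simp
      · intro j _ hj
        simp [Pi.single_eq_of_ne hj]
      · intro h
        exact absurd (Finset.mem_univ j₀) h
    let SK : Set (Fin m → R) := Set.range (fun i : Fin n => A i)
    have hrow : ∀ i : Fin n, ∑ j, A i j • (LinearMap.proj j : (Fin m → R) →ₗ[R] R) =
        σ.dualMap (LinearMap.proj i) := by
      intro i
      apply LinearMap.ext
      intro v
      rw [LinearMap.dualMap_apply, LinearMap.proj_apply, hσA v i, LinearMap.sum_apply]
      apply Finset.sum_congr rfl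
      intro j _
      rw [LinearMap.smul_apply, LinearMap.proj_apply, smul_eq_mul]
    have hSK1 : SK ⊆ Rel R y := by
      rintro _ ⟨i, rfl⟩
      show A i ∈ Rel R y
      rw [mem_Rel, hsum', hrow, Submodule.mkQ_apply, Submodule.Quotient.mk_eq_zero]
      exact ⟨_, rfl⟩
    have hSK2 : Rel R y ≤ Submodule.span R SK := by
      intro w hw
      rw [mem_Rel, hsum', Submodule.mkQ_apply, Submodule.Quotient.mk_eq_zero] at hw
      obtain ⟨φ, hφ⟩ := hw
      have hw' : w = ∑ i, φ (Pi.single i 1) • A i := by
        funext j₀
        rw [← hevalsum w j₀, ← hφ, LinearMap.dualMap_apply, lin_apply φ (σ (Pi.single j₀ 1)),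
          Finset.sum_apply]
        apply Finset.sum_congr rfl
        intro i _
        rw [Pi.smul_apply, smul_eq_mul, smul_eq_mul, mul_comm]
      rw [hw']
      apply Submodule.sum_mem
      intro i _
      exact Submodule.smul_mem _ _ (Submodule.subset_span ⟨i, rfl⟩)
    -- the two ideals of minors agree
    have hminors : ∀ p : ℕ, Minors SM p = Minors SK p := by
      intro p
      apply le_antisymm
      · unfold Minors
        rw [Ideal.span_le]
        rintro d ⟨z, e, hz, rfl⟩
        choose c hc using hz
        apply Ideal.subset_span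
        refine ⟨fun b => A (e b), c, fun b => ⟨e b, rfl⟩, ?_⟩
        rw [← Matrix.det_transpose]
        congr 1
        ext a b
        show z a (e b) = A (e b) (c a)
        rw [← hc a]
      · unfold Minors
        rw [Ideal.span_le]
        rintro d ⟨z, e, hz, rfl⟩
        choose r hr using hz
        apply Ideal.subset_span
        refine ⟨fun b => σ (Pi.single (e b) 1), r, fun b => ⟨e b, rfl⟩, ?_⟩
        rw [← Matrix.det_transpose]
        congr 1
        ext a b
        show z a (e b) = σ (Pi.single (e b) 1) (r a)
        rw [← hr a]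
    constructor
    · intro j
      by_cases hjm : j ≤ m
      · rw [fitt_eq_G x hx, fitt_eq_G y hy,
          G_eq_Minors x SM hSM1 hSM2 (m - j) (n - m + j) (by rw [Fintype.card_fin]; omega),
          G_eq_Minors y SK hSK1 hSK2 (m - j) j (by rw [Fintype.card_fin]; omega)]
        exact hminors _
      · rw [not_le] at hjm
        rw [fitt_eq_top_of_span x hx (by omega), fitt_eq_top_of_span y hy hjm.le]
    · intro i hi
      rw [fitt_eq_G x hx,
        G_eq_Minors x SM hSM1 hSM2 (n - i) i (by rw [Fintype.card_fin]; omega)]
      rw [eq_bot_iff]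
      unfold Minors
      rw [Ideal.span_le]
      rintro d ⟨z, e, hz, rfl⟩
      choose c hc using hz
      obtain ⟨b, b', hne, hbb'⟩ := Fintype.exists_ne_map_eq_of_card_lt c (by
        rw [Fintype.card_fin, Fintype.card_fin]
        omega)
      have : (Matrix.of fun a b => z b (e a)).det = 0 := by
        apply Matrix.det_zero_of_column_eq hne
        intro a
        show z b (e a) = z b' (e a)
        rw [← hc b, ← hc b', hbb']
      rw [this]
      exact zero_mem _

end Groth.Agent.S14347
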