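import Groth.Statements.S14351
import Mathlib

set_option autoImplicit false
universe u
open CAlg

namespace Groth.Agent.S14351

open TensorProduct in
/-- For ring maps A → B → C with C faithfully flat over B and C faithfully flat over A, the ring B is
faithfully flat over A. -/
theorem result (A B C : Type u) [CommRing A] [CommRing B]
    [CommRing C] [Algebra A B] [Algebra B C] [Algebra A C] [IsScalarTower A B C]
    [Module.FaithfullyFlat B C] [Module.FaithfullyFlat A C] : Module.FaithfullyFlat A B := by
  have hflat : Module.Flat A B := by
    rw [Module.Flat.iff_lTensor_preserves_injective_linearMap]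
    intro N P _ _ _ _ f hf
    let g : B ⊗[A] N →ₗ[B] B ⊗[A] P := AlgebraTensorModule.map (LinearMap.id : B →ₗ[B] B) f
    have hg : ⇑g = ⇑(f.lTensor B) := by
      ext x
      induction x using TensorProduct.induction_on with
      | zero => simp
      | tmul b n => simp [g]
      | add x y hx hy => simp [map_add, hx, hy]
    rw [← hg, ← Module.FaithfullyFlat.lTensor_injective_iff_injective B C g]
    have key : ∀ x, AlgebraTensorModule.cancelBaseChange A B C C P (g.lTensor C x) =
        f.lTensor C (AlgebraTensorModule.cancelBaseChange A B C C N x) := by
      intro x
      induction x using TensorProduct.induction_on with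
      | zero => simp
      | tmul c y =>
        induction y using TensorProduct.induction_on with
        | zero => simp
        | tmul b n => simp [g]
        | add x y hx hy => simp only [tmul_add, map_add, hx, hy]
      | add x y hx hy => simp only [map_add, hx, hy]
    intro x y hxy
    have h1 := congrArg (AlgebraTensorModule.cancelBaseChange A B C C P) hxy
    rw [key, key] at h1
    have h2 := Module.Flat.lTensor_preserves_injective_linearMap (M := C) f hf h1
    exact (AlgebraTensorModule.cancelBaseChange A B C C N).injective h2
  rw [Module.FaithfullyFlat.iff_flat_and_ideal_smul_eq_top]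
  refine ⟨hflat, fun I hI => ?_⟩
  have hC := (Module.FaithfullyFlat.iff_flat_and_ideal_smul_eq_top A C).mp inferInstance
  apply hC.2 I
  rw [eq_top_iff]
  rintro c -
  have h1 : (1 : B) ∈ I • (⊤ : Submodule A B) := by rw [hI]; exact Submodule.mem_top
  have h2 : c * (algebraMap B C) 1 ∈ I • (⊤ : Submodule A C) := by
    refine Submodule.smul_induction_on h1 ?_ ?_
    · intro r hr b _
      rw [Algebra.smul_def r b, map_mul, ← IsScalarTower.algebraMap_apply, ← mul_assoc,
        mul_comm c, mul_assoc, ← Algebra.smul_def]
      exact Submodule.smul_mem_smul hr Submodule.mem_top
    · intro x y hx hy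
      rw [map_add, mul_add]; exact Submodule.add_mem _ hx hy
  simpa using h2

end Groth.Agent.S14351
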