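import Groth.Statements.S14352
import Mathlib
import Groth.Agent.Lib.Helper61.GeomFibUnram2
import Groth.Agent.Lib.Helper24.UnramifiedLocus

set_option autoImplicit false
universe u
open Mor

namespace Groth.Agent.S14352

set_option backward.isDefEq.respectTransparency.types false in
open CategoryTheory CategoryTheory.Limits AlgebraicGeometry in
/-- A morphism of schemes f : X → S which is locally of finite presentation is unramified (formally
unramified) if and only if all its geometric fibres are reduced with discrete underlying space: for
every algebraically closed field K and every S-point Spec K → S, the fibre product X ×_S Spec K is a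
reduced scheme whose topological space is discrete. -/
theorem result {X S : Scheme.{u}} (f : X ⟶ S)
    [LocallyOfFinitePresentation f] :
    FormallyUnramified f ↔
      ∀ (K : Type u) [Field K] [IsAlgClosed K] (s : Spec (CommRingCat.of K) ⟶ S),
        IsReduced (pullback f s) ∧ DiscreteTopology ↥(pullback f s) := by
  open Groth.Agent.Lib.Helper61.GeomFibUnram Groth.Agent.Lib.Helper24 in
  constructor
  · intro hf K _ _ s
    have : FormallyUnramified (pullback.snd f s) :=
      MorphismProperty.pullback_snd (P := @FormallyUnramified) _ _ hf
    exact isReduced_and_discrete_of_formallyUnramified_field K (pullback.snd f s)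
  · intro H
    have hloc : ∀ x : X, ∃ U : X.Opens, x ∈ U ∧ FormallyUnramified (U.ι ≫ f) := by
      intro x
      let K := AlgebraicClosure (X.residueField x)
      let t : Spec (CommRingCat.of K) ⟶ X :=
        Spec.map (CommRingCat.ofHom (algebraMap (X.residueField x) K)) ≫
          X.fromSpecResidueField x
      let s := t ≫ f
      obtain ⟨hr, hd⟩ := H K s
      have hfu : FormallyUnramified (pullback.snd f s) :=
        formallyUnramified_of_isReduced_of_discrete_field K _
      let σ : Spec (CommRingCat.of K) ⟶ pullback f s := pullback.lift t (𝟙 _) (by simp [s])
      let pt : Spec (CommRingCat.of K) := IsLocalRing.closedPoint K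
      have hx' : (pullback.fst f s) (σ pt) = x := by
        rw [← Scheme.Hom.comp_apply, pullback.lift_fst]
        exact Scheme.fromSpecResidueField_apply x _
      have h := (exists_opens_formallyUnramified_iff_of_isPullback
        (IsPullback.of_hasPullback f s) (σ pt)).mp
        ⟨⊤, trivial, IsZariskiLocalAtSource.comp (P := @FormallyUnramified) hfu _⟩
      rwa [hx'] at h
    choose U hxU hU using hloc
    refine IsZariskiLocalAtSource.of_iSup_eq_top (P := @FormallyUnramified) U ?_ hU
    exact top_le_iff.mp fun x _ => TopologicalSpace.Opens.mem_iSup.mpr ⟨x, hxU x⟩

end Groth.Agent.S14352
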