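import Groth.Statements.S8355
import Mathlib

set_option autoImplicit false
universe v u
open CategoryTheory CategoryTheory.Limits
open SpSeq

namespace Groth.Agent.S8355

section
variable {C : Type u} [Category.{v} C] [Abelian C] {r₀ : ℤ}
  (E : CohomologicalSpectralSequence C r₀)

/-- vanishing propagates to the next page -/
lemma isZero_succ (k : ℤ) (hk : r₀ ≤ k) (pq : ℤ × ℤ) (h : IsZero ((E.page k hk).X pq)) :
    IsZero ((E.page (k + 1) (by lia)).X pq) := by
  have h1 : IsZero ((E.page k hk).homology pq) :=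
    (HomologicalComplex.exactAt_iff_isZero_homology _ _).mp (HomologicalComplex.ExactAt.of_isZero h)
  exact h1.of_iso (E.iso k (k + 1) pq rfl hk).symm

lemma isZero_of_le (r : ℤ) (hr : r₀ ≤ r) (pq : ℤ × ℤ) (h : IsZero ((E.page r hr).X pq))
    (k : ℤ) (hk : r ≤ k) : IsZero ((E.page k (hr.trans hk)).X pq) := by
  induction k, hk using Int.le_induction with
  | base => exact h
  | succ k hk ih => exact isZero_succ E k (hr.trans hk) pq ih

/-- when the differentials at `pq` vanish the term does not change -/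
noncomputable def isoSucc (k : ℤ) (hk : r₀ ≤ k) (pq : ℤ × ℤ)
    (h1 : (E.page k hk).d (pq - (k, 1 - k)) pq = 0) (h2 : (E.page k hk).d pq (pq + (k, 1 - k)) = 0) :
    (E.page k hk).X pq ≅ (E.page (k + 1) (by lia)).X pq :=
  ((E.page k hk).iCyclesIso pq (pq + (k, 1 - k)) (ComplexShape.next_eq' _ rfl) h2).symm ≪≫
    (E.page k hk).isoHomologyπ (pq - (k, 1 - k)) pq
      (ComplexShape.prev_eq' _ (show pq - (k, 1 - k) + (k, 1 - k) = pq by simp)) h1 ≪≫
    E.iso k (k + 1) pq rfl hk

lemma nonempty_iso_of_stationary (pq : ℤ × ℤ) (r : ℤ) (hs : SpSeq.StationaryAt E pq r)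
    (k : ℤ) (hk : r ≤ k) :
    Nonempty ((E.page r hs.1).X pq ≅ (E.page k (hs.1.trans hk)).X pq) := by
  induction k, hk using Int.le_induction with
  | base => exact ⟨Iso.refl _⟩
  | succ k hk ih =>
    obtain ⟨e⟩ := ih
    obtain ⟨h1, h2⟩ := hs.2 k (hs.1.trans hk) hk
    exact ⟨e ≪≫ isoSucc E k (hs.1.trans hk) pq h1 h2⟩

end


/-- Let E be a spectral sequence in an abelian category and suppose E_r^{p,q} = 0. Then E_k^{p,q} = 0
for every k ≥ r, and E_∞^{p,q} = 0: for any abutment data (H^n) of E, the graded piece gr^p H^{p+q},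
identified by the abutment with the limit term at (p, q), is zero. -/
theorem result {C : Type u} [Category.{v} C] [Abelian C] {r₀ : ℤ}
    (E : CohomologicalSpectralSequence C r₀) (r : ℤ) (hr : r₀ ≤ r) (pq : ℤ × ℤ)
    (h : IsZero ((E.page r hr).X pq)) :
    (∀ (k : ℤ) (hk : r ≤ k), IsZero ((E.page k (hr.trans hk)).X pq)) ∧
      ∀ (H : ℤ → C) (a : SpSeq.Abutment E H),
        IsZero (SpSeq.grPiece (a.fil (pq.1 + pq.2)) (a.anti (pq.1 + pq.2)) pq.1) := by
  refine ⟨isZero_of_le E r hr pq h, fun H a => ?_⟩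
  refine IsZero.of_iso ?_ (a.β pq).symm
  rcases le_total r (a.rk pq) with hle | hle
  · exact isZero_of_le E r hr pq h _ hle
  · obtain ⟨e⟩ := nonempty_iso_of_stationary E pq (a.rk pq) (a.stat pq) r hle
    exact h.of_iso e

end Groth.Agent.S8355
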