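import Groth.Statements.S14355
import Groth.Agent.S8355

set_option autoImplicit false
universe v u
open CategoryTheory CategoryTheory.Limits
open SpSeqMor

namespace Groth.Agent.S14355

section Helpers

variable {C : Type u} [Category.{v} C] [Abelian C]

/-- The map on homology induced by a chain map vanishing in degree `i` is zero. -/
lemma homologyMap_eq_zero_of_f {ι : Type*} {c : ComplexShape ι} {K L : HomologicalComplex C c}
    (φ : K ⟶ L) (i : ι) (h : φ.f i = 0) : HomologicalComplex.homologyMap φ i = 0 := by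
  rw [← cancel_epi (K.homologyπ i), comp_zero, HomologicalComplex.homologyπ_naturality]
  have : HomologicalComplex.cyclesMap φ i = 0 := by
    rw [← cancel_mono (L.iCycles i), zero_comp, HomologicalComplex.cyclesMap_i, h, comp_zero]
  rw [this, zero_comp]

/-- If a morphism of spectral sequences vanishes at a position on some page, it vanishes at that
position on all later pages. -/
lemma hom_f_eq_zero_of_le {r₀ : ℤ} {E E' : CohomologicalSpectralSequence C r₀} (φ : E ⟶ E')
    (pq : ℤ × ℤ) (r : ℤ) (hr : r₀ ≤ r) (h : (φ.hom r hr).f pq = 0) (k : ℤ) (hk : r ≤ k) :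
    (φ.hom k (hr.trans hk)).f pq = 0 := by
  induction k, hk using Int.le_induction with
  | base => exact h
  | succ k hk ih =>
    have := φ.comm k (k + 1) pq rfl (hr.trans hk)
    rw [homologyMap_eq_zero_of_f _ _ ih, zero_comp] at this
    rw [← cancel_epi (E.iso k (k + 1) pq rfl (hr.trans hk)).hom, ← this, comp_zero]

lemma isZero_of_eq_bot {X : C} (S : Subobject X) (h : S = ⊥) : IsZero (S : C) := by
  subst h
  exact IsZero.of_iso (isZero_zero C) Subobject.botCoeIsoZero

open SpSeq

lemma fil_succ_eq_of_isZero_gr (L : FilObj C) (p : ℤ) (h : IsZero (L.gr p)) :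
    L.fil (p + 1) = L.fil p := by
  apply le_antisymm (L.anti (by omega))
  have hepi : Epi ((L.fil (p + 1)).ofLE (L.fil p) (L.anti (Int.le_add_one le_rfl))) :=
    Preadditive.epi_of_isZero_cokernel _ h
  have hiso : IsIso ((L.fil (p + 1)).ofLE (L.fil p) (L.anti (Int.le_add_one le_rfl))) :=
    isIso_of_mono_of_epi _
  refine Subobject.le_of_comm (inv ((L.fil (p + 1)).ofLE (L.fil p)
    (L.anti (Int.le_add_one le_rfl)))) ?_
  rw [IsIso.inv_comp_eq, Subobject.ofLE_arrow]

lemma fil_eq_top_of (L : FilObj C) (hfin : ∃ t : ℤ, L.fil t = ⊤) (a₀ : ℤ)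
    (h : ∀ i : ℤ, i < a₀ → IsZero (L.gr i)) : L.fil a₀ = ⊤ := by
  obtain ⟨t, ht⟩ := hfin
  by_cases hle : a₀ ≤ t
  · exact top_le_iff.1 (ht ▸ L.anti hle)
  · have key : ∀ k : ℕ, t + k ≤ a₀ → L.fil (t + k) = ⊤ := by
      intro k
      induction k with
      | zero => intro _; simpa using ht
      | succ k ih =>
        intro hk
        have h1 := ih (by push_cast at hk; omega)
        have h2 := fil_succ_eq_of_isZero_gr L (t + k) (h _ (by push_cast at hk; omega))
        have e : t + ((k + 1 : ℕ) : ℤ) = t + k + 1 := by push_cast; ring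
        rw [e, h2, h1]
    have := key (a₀ - t).toNat (by omega)
    have e : t + ((a₀ - t).toNat : ℤ) = a₀ := by omega
    rwa [e] at this

lemma fil_eq_bot_of (L : FilObj C) (hfin : ∃ b : ℤ, L.fil b = ⊥) (a₀ : ℤ)
    (h : ∀ i : ℤ, a₀ < i → IsZero (L.gr i)) : L.fil (a₀ + 1) = ⊥ := by
  obtain ⟨b, hb⟩ := hfin
  by_cases hle : b ≤ a₀ + 1
  · exact le_bot_iff.1 (hb ▸ L.anti hle)
  · have key : ∀ k : ℕ, a₀ + 1 ≤ b - k → L.fil (b - k) = ⊥ := by
      intro k
      induction k with
      | zero => intro _; simpa using hb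
      | succ k ih =>
        intro hk
        have h1 := ih (by push_cast at hk; omega)
        have h2 := fil_succ_eq_of_isZero_gr L (b - ((k + 1 : ℕ) : ℤ))
          (h _ (by push_cast at hk ⊢; omega))
        have e : b - ((k + 1 : ℕ) : ℤ) + 1 = b - k := by push_cast; ring
        rw [e] at h2
        rw [← h2, h1]
    have := key (b - (a₀ + 1)).toNat (by omega)
    have e : b - ((b - (a₀ + 1)).toNat : ℤ) = a₀ + 1 := by omega
    rwa [e] at this

/-- A filtered map which is zero on `gr^{a₀}`, from an object with `F^{a₀} = ⊤` to an object with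
`F^{a₀+1} = ⊥`, is zero. -/
lemma filLift_hom_eq_zero {L L' : FilObj C} (F : FilLift L L') (a₀ : ℤ) (htop : L.fil a₀ = ⊤)
    (hbot : L'.fil (a₀ + 1) = ⊥) (hgr : F.gr a₀ = 0) : F.hom = 0 := by
  have h1 : F.lift a₀ ≫ cokernel.π (L'.stepLE (Int.le_add_one (le_refl a₀))) = 0 := by
    have : cokernel.π (L.stepLE (Int.le_add_one (le_refl a₀))) ≫ F.gr a₀ =
        F.lift a₀ ≫ cokernel.π (L'.stepLE (Int.le_add_one (le_refl a₀))) := by
      unfold FilLift.gr
      exact cokernel.π_desc _ _ _
    rw [← this, hgr]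
    exact comp_zero
  have h2 : F.lift a₀ = 0 := by
    have e := Abelian.monoLift_comp (L'.stepLE (Int.le_add_one (le_refl a₀))) (F.lift a₀) h1
    rw [← e]
    have : Abelian.monoLift (L'.stepLE (Int.le_add_one (le_refl a₀))) (F.lift a₀) h1 = 0 :=
      (isZero_of_eq_bot _ hbot).eq_of_tgt _ _
    rw [this, zero_comp]
  have h3 : (L.fil a₀).arrow ≫ F.hom = 0 := by
    rw [← F.lift_arrow, h2, zero_comp]
  have hiso : IsIso (L.fil a₀).arrow := (Subobject.isIso_arrow_iff_eq_top _).2 htop
  rw [← cancel_epi (L.fil a₀).arrow, h3, comp_zero]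

/-- Vanishing of a term on the second page gives vanishing of the graded piece of the abutment. -/
lemma isZero_gr_of {H : ℤ → C} {E : E₂CohomologicalSpectralSequence C} (a : SpSeq.Abutment E H)
    (i l : ℤ) (h : IsZero ((E.page 2 le_rfl).X (i, l - i))) : IsZero ((a.filObj l).gr i) := by
  have h1 := (Groth.Agent.S8355.result E 2 le_rfl (i, l - i) h).2 H a
  dsimp only at h1
  have e : i + (l - i) = l := by omega
  rw [e] at h1
  exact h1

end Helpers

/-- Let φ : E ⟶ E' be a morphism of E_2-cohomological spectral sequences in an abelian category, with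
abutments H and H' whose filtrations are finite in each degree, and f a morphism of abutment data
over φ. Fix integers l and a₀. If E_2^{i, l-i} = 0 for i < a₀, E'_2^{i, l-i} = 0 for i > a₀ and
φ_2^{a₀, l-a₀} = 0, then f^l : H^l ⟶ H'^l is zero. (The published statement prints the two vanishing
hypotheses at positions (i, l); the argument works on the line of total degree l, at positions (i, l
- i), which is the form stated here.) -/
theorem result (C : Type u) [Category.{v} C] [Abelian C]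
    (E E' : E₂CohomologicalSpectralSequence C) (φ : E ⟶ E') (H H' : ℤ → C)
    (a : SpSeq.Abutment E H) (a' : SpSeq.Abutment E' H')
    (ha : ∀ n : ℤ, a.IsFinite n) (ha' : ∀ n : ℤ, a'.IsFinite n)
    (f : SpSeqMor.AbutHom φ a a') (l a₀ : ℤ)
    (hE : ∀ i : ℤ, i < a₀ → IsZero ((E.page 2 le_rfl).X (i, l - i)))
    (hE' : ∀ i : ℤ, a₀ < i → IsZero ((E'.page 2 le_rfl).X (i, l - i)))
    (hφ : (φ.hom 2 le_rfl).f (a₀, l - a₀) = 0) :
    f.hom l = 0 := by
  obtain ⟨q, rfl⟩ : ∃ q, l = a₀ + q := ⟨l - a₀, by omega⟩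
  have h1 : ∀ i, i < a₀ → IsZero ((a.filObj (a₀ + q)).gr i) :=
    fun i hi => isZero_gr_of a i (a₀ + q) (hE i hi)
  have h2 : ∀ i, a₀ < i → IsZero ((a'.filObj (a₀ + q)).gr i) :=
    fun i hi => isZero_gr_of a' i (a₀ + q) (hE' i hi)
  have htop := fil_eq_top_of (a.filObj (a₀ + q)) (ha (a₀ + q)).1 a₀ h1
  have hbot := fil_eq_bot_of (a'.filObj (a₀ + q)) (ha' (a₀ + q)).2 a₀ h2
  have hpos : ((a₀, a₀ + q - a₀) : ℤ × ℤ) = (a₀, q) := by simp
  rw [hpos] at hφ
  have hgr : (f.fil (a₀ + q)).gr a₀ = 0 := by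
    have hr : (2 : ℤ) ≤ a.rk (a₀, q) := (a.stat (a₀, q)).1
    have hr' : (2 : ℤ) ≤ a'.rk (a₀, q) := (a'.stat (a₀, q)).1
    have hkk : a.rk (a₀, q) + ((a'.rk (a₀, q) - 2).toNat : ℤ) =
        a'.rk (a₀, q) + ((a.rk (a₀, q) - 2).toNat : ℤ) := by omega
    have hc := f.comm (a₀, q) (a'.rk (a₀, q) - 2).toNat (a.rk (a₀, q) - 2).toNat hkk
    have hz : (φ.hom (a'.rk (a₀, q) + ((a.rk (a₀, q) - 2).toNat : ℤ))
        (page_le (a'.stat (a₀, q)).1 _)).f (a₀, q) = 0 :=
      hom_f_eq_zero_of_le φ (a₀, q) 2 le_rfl hφ _ (by omega)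
    rw [hz] at hc
    simp only [zero_comp, comp_zero] at hc
    exact (cancel_epi (a.β (a₀, q)).hom).1 (hc.trans comp_zero.symm)
  exact filLift_hom_eq_zero (f.fil (a₀ + q)) a₀ htop hbot hgr

end Groth.Agent.S14355
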