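import Mathlib
import Groth.Statements.S14357

set_option autoImplicit false
universe u
open AlgebraicGeometry
open Proj

namespace Groth.Agent.S14357

open CategoryTheory MvPolynomial

section
variable (k : Type u) [Field k]

/-- degree-zero part is Artinian -/
lemma artinian_zero : IsArtinianRing (CohB1.polyGrading 1 k 0) := by
  have hs : Function.Surjective (algebraMap k (CohB1.polyGrading 1 k 0)) := by
    intro x
    have hx : x.1.IsHomogeneous 0 := x.2
    have h0 : x.1.totalDegree = 0 := (totalDegree_zero_iff_isHomogeneous _).mpr hx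
    rw [totalDegree_eq_zero_iff_eq_C] at h0
    refine ⟨coeff 0 x.1, ?_⟩
    apply Subtype.ext
    rw [SetLike.GradeZero.coe_algebraMap]
    exact h0.symm
  exact hs.isArtinianRing

instance : IsScalarTower k (CohB1.polyGrading 1 k 0) (MvPolynomial (Fin 2) k) :=
  IsScalarTower.of_algebraMap_eq (R := k) (S := CohB1.polyGrading 1 k 0)
    (A := MvPolynomial (Fin 2) k) (fun _ => rfl)

lemma finiteType_zero :
    Algebra.FiniteType (CohB1.polyGrading 1 k 0) (MvPolynomial (Fin 2) k) := by
  have : Algebra.FiniteType k (MvPolynomial (Fin 2) k) := inferInstance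
  exact Algebra.FiniteType.of_restrictScalars_finiteType k _ _

/-- the generic point -/
noncomputable def ptGen : ProjectiveSpectrum (CohB1.polyGrading 1 k) where
  asHomogeneousIdeal := ⊥
  isPrime := by
    rw [HomogeneousIdeal.toIdeal_bot]
    exact Ideal.isPrime_bot
  not_irrelevant_le := by
    intro hle
    have h1 : (X 0 : MvPolynomial (Fin 2) k) ∈ HomogeneousIdeal.irrelevant (CohB1.polyGrading 1 k) := by
      rw [HomogeneousIdeal.mem_irrelevant_iff]
      have : (X 0 : MvPolynomial (Fin 2) k) ∈ CohB1.polyGrading 1 k 1 := isHomogeneous_X _ _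
      rw [GradedRing.proj_apply, DirectSum.decompose_of_mem_ne _ this (by norm_num)]
    have h2 : (X 0 : MvPolynomial (Fin 2) k) ∈
      (⊥ : HomogeneousIdeal (CohB1.polyGrading 1 k)).toIdeal := hle h1
    rw [HomogeneousIdeal.toIdeal_bot, Ideal.mem_bot] at h2
    exact X_ne_zero _ h2

/-- the point `(X 0)` -/
noncomputable def ptX : ProjectiveSpectrum (CohB1.polyGrading 1 k) where
  asHomogeneousIdeal := ⟨Ideal.span {(X 0 : MvPolynomial (Fin 2) k)},
    Ideal.homogeneous_span _ _ (by
      intro x hx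
      rw [Set.mem_singleton_iff] at hx
      subst hx
      exact ⟨1, isHomogeneous_X _ _⟩)⟩
  isPrime := by
    change (Ideal.span {(X 0 : MvPolynomial (Fin 2) k)}).IsPrime
    rw [Ideal.span_singleton_prime (X_ne_zero _)]
    exact X_prime
  not_irrelevant_le := by
    intro hle
    have h1 : (X 1 : MvPolynomial (Fin 2) k) ∈ HomogeneousIdeal.irrelevant (CohB1.polyGrading 1 k) := by
      rw [HomogeneousIdeal.mem_irrelevant_iff]
      have : (X 1 : MvPolynomial (Fin 2) k) ∈ CohB1.polyGrading 1 k 1 := isHomogeneous_X _ _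
      rw [GradedRing.proj_apply, DirectSum.decompose_of_mem_ne _ this (by norm_num)]
    have h2 := hle h1
    have h3 : (X 1 : MvPolynomial (Fin 2) k) ∈ Ideal.span {(X 0 : MvPolynomial (Fin 2) k)} := h2
    rw [Ideal.mem_span_singleton, X_dvd_X] at h3
    exact absurd h3 (by decide)

lemma ptGen_le : ptGen k ≤ ptX k := by
  rw [← ProjectiveSpectrum.as_ideal_le_as_ideal]
  exact bot_le

lemma ptGen_ne : ptGen k ≠ ptX k := by
  intro h
  have h1 : (X 0 : MvPolynomial (Fin 2) k) ∈ (ptX k).asHomogeneousIdeal :=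
    Ideal.subset_span (Set.mem_singleton _)
  rw [← h] at h1
  have h2 : (X 0 : MvPolynomial (Fin 2) k) ∈
    (⊥ : HomogeneousIdeal (CohB1.polyGrading 1 k)).toIdeal := h1
  rw [HomogeneousIdeal.toIdeal_bot, Ideal.mem_bot] at h2
  exact X_ne_zero _ h2

end

theorem result (k : Type u) [Field k] :
    ¬ IsAffine (CohB1.ProjSpace 1 k) := by
  intro hA
  change IsAffine (Proj (CohB1.polyGrading 1 k)) at hA
  have hft := finiteType_zero k
  have hart := artinian_zero k
  have hprop : IsProper (Proj.toSpecZero (CohB1.polyGrading 1 k)) := inferInstance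
  have haff : IsAffineHom (Proj.toSpecZero (CohB1.polyGrading 1 k)) := inferInstance
  have hfin : IsFinite (Proj.toSpecZero (CohB1.polyGrading 1 k)) :=
    IsFinite.iff_isProper_and_isAffineHom.mpr ⟨hprop, haff⟩
  have hfin' := (Proj.toSpecZero (CohB1.polyGrading 1 k)).finite_appTop
  have hart' : IsArtinianRing Γ(Spec (.of (CohB1.polyGrading 1 k 0)), ⊤) :=
    (Scheme.ΓSpecIso (.of (CohB1.polyGrading 1 k 0))).symm.commRingCatIsoToRingEquiv.isArtinianRing
  have hartB : IsArtinianRing Γ(Proj (CohB1.polyGrading 1 k), ⊤) := by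
    let := (Proj.toSpecZero (CohB1.polyGrading 1 k)).appTop.hom.toAlgebra
    have : Module.Finite Γ(Spec (.of (CohB1.polyGrading 1 k 0)), ⊤)
      Γ(Proj (CohB1.polyGrading 1 k), ⊤) := hfin'
    exact IsArtinianRing.of_finite Γ(Spec (.of (CohB1.polyGrading 1 k 0)), ⊤) _
  have hdisc : DiscreteTopology (Spec Γ(Proj (CohB1.polyGrading 1 k), ⊤)) :=
    inferInstanceAs (DiscreteTopology (PrimeSpectrum Γ(Proj (CohB1.polyGrading 1 k), ⊤)))
  have ht1 : T1Space (Proj (CohB1.polyGrading 1 k)) :=
    (Proj (CohB1.polyGrading 1 k)).isoSpec.hom.isOpenEmbedding.isEmbedding.t1Space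
  have ht1' : T1Space (ProjectiveSpectrum (CohB1.polyGrading 1 k)) := ht1
  have hcl := (ProjectiveSpectrum.le_iff_mem_closure _ (ptGen k) (ptX k)).mp (ptGen_le k)
  rw [closure_singleton, Set.mem_singleton_iff] at hcl
  exact ptGen_ne k hcl.symm

end Groth.Agent.S14357
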