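import Groth.Statements.S14359
import Mathlib

set_option autoImplicit false
universe u
open CAlg

namespace Groth.Agent.S14359

/-- Let A be a Noetherian integrally closed integral domain and b a nonzero element of A. Then every
associated prime of the A-module A/(b) has height one, so that A/(b) has no embedded associated
primes. -/
theorem result
    (A : Type u) [CommRing A] [IsDomain A] [IsNoetherianRing A] [IsIntegrallyClosed A]
    (b : A) (hb : b ≠ 0) (p : Ideal A) (hp : p ∈ associatedPrimes A (A ⧸ Ideal.span {b})) :
    p.height = 1 := by
  rw [AssociatedPrimes.mem_iff, isAssociatedPrime_iff] at hp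
  obtain ⟨hprime, xbar, hpx⟩ := hp
  obtain ⟨x, rfl⟩ := Ideal.Quotient.mk_surjective xbar
  -- membership in p
  have hmem : ∀ a : A, a ∈ p ↔ ∃ c, c * b = a * x := by
    intro a
    rw [hpx, Submodule.mem_colon_singleton, Submodule.mem_bot]
    have : a • (Ideal.Quotient.mk (Ideal.span {b}) x) = Ideal.Quotient.mk (Ideal.span {b}) (a * x) := by
      rw [map_mul]; rfl
    rw [this, Ideal.Quotient.eq_zero_iff_mem, Ideal.mem_span_singleton']
  have hbp : b ∈ p := (hmem b).mpr ⟨x, mul_comm _ _⟩
  have hpbot : p ≠ ⊥ := fun h => hb (by rw [h] at hbp; exact hbp)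
  -- upper bound
  have hle : p.height ≤ 1 := by
    by_cases hcase : ∀ a ∈ p, ∀ c, c * b = a * x → c ∈ p
    · -- integrality: contradiction
      exfalso
      let K := FractionRing A
      let y : K := algebraMap A K x / algebraMap A K b
      have hbK : algebraMap A K b ≠ 0 := by
        intro h
        exact hb ((IsFractionRing.injective A K) (by rw [h, map_zero]))
      let N : Submodule A K := Submodule.map (Algebra.linearMap A K) p
      have hN : N ≠ ⊥ := by
        intro h
        have : algebraMap A K b ∈ N := ⟨b, hbp, rfl⟩
        rw [h, Submodule.mem_bot] at this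
        exact hbK this
      have hNfg : N.FG := Submodule.FG.map (Algebra.linearMap A K)
        ((isNoetherianRing_iff_ideal_fg A).mp inferInstance p)
      have hyN : ∀ n ∈ N, y • n ∈ N := by
        rintro _ ⟨a, ha, rfl⟩
        obtain ⟨c, hc⟩ := (hmem a).mp ha
        refine ⟨c, hcase a ha c hc, ?_⟩
        show algebraMap A K c = algebraMap A K x / algebraMap A K b * algebraMap A K a
        have : algebraMap A K c * algebraMap A K b = algebraMap A K a * algebraMap A K x := by
          rw [← map_mul, ← map_mul, hc]
        rw [div_mul_eq_mul_div, eq_div_iff hbK, this, mul_comm]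
      have hint : IsIntegral A y := isIntegral_of_smul_mem_submodule N hN hNfg y hyN
      obtain ⟨w, hw⟩ := IsIntegrallyClosed.isIntegral_iff.mp hint
      have hxw : x = w * b := by
        apply IsFractionRing.injective A K
        rw [map_mul, hw]
        show algebraMap A K x = algebraMap A K x / algebraMap A K b * algebraMap A K b
        rw [div_mul_cancel₀ _ hbK]
      have h1 : (1 : A) ∈ p := (hmem 1).mpr ⟨w, by rw [one_mul, hxw]⟩
      exact hprime.ne_top ((Ideal.eq_top_iff_one p).mpr h1)
    · push Not at hcase
      obtain ⟨a, hap, u, hu, hup⟩ := hcase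
      have hmin : p ∈ (Ideal.span {a}).minimalPrimes := by
        refine ⟨⟨hprime, (Ideal.span_singleton_le_iff_mem _).mpr hap⟩, ?_⟩
        rintro q ⟨hq, haq⟩ hqp c hc
        obtain ⟨c', hc'⟩ := (hmem c).mp hc
        have h2 : u * c = c' * a := by
          apply mul_right_cancel₀ hb
          calc u * c * b = c * (u * b) := by ring
            _ = c * (a * x) := by rw [hu]
            _ = a * (c * x) := by ring
            _ = a * (c' * b) := by rw [hc']
            _ = c' * a * b := by ring
        have h3 : u * c ∈ q := by
          rw [h2]
          exact q.mul_mem_left _ (haq (Ideal.mem_span_singleton_self a))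
        exact (hq.mem_or_mem h3).resolve_left (fun huq => hup (hqp huq))
      exact Ideal.height_le_one_of_isPrincipal_of_mem_minimalPrimes (Ideal.span {a}) p hmin
  -- lower bound
  have hne : p.height ≠ 0 := by
    rw [Ne, Ideal.height_eq_zero_iff_eq_bot]
    exact hpbot
  have hpos : 1 ≤ p.height := Order.one_le_iff_pos.mpr (pos_iff_ne_zero.mpr hne)
  exact le_antisymm hle hpos

end Groth.Agent.S14359
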