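import Mathlib
import Groth.Statements.S14360

set_option autoImplicit false
universe u
open AlgebraicGeometry
open Variety

namespace Groth.Agent.S14360

open CategoryTheory

lemma core {X Y : Scheme.{u}} [IrreducibleSpace X] [IrreducibleSpace Y]
    (W : X.Opens) (W' : Y.Opens) (hWne : (W : Set X).Nonempty) (hW'ne : (W' : Set Y).Nonempty)
    (α : W.toScheme ⟶ Y) (β : W'.toScheme ⟶ X) [IsDominant α] [IsDominant β]
    (hA : (α ∣_ W') ≫ β = (α ⁻¹ᵁ W').ι ≫ W.ι)
    (hB : (β ∣_ W) ≫ α = (β ⁻¹ᵁ W).ι ≫ W'.ι) : Scheme.Birational X Y := by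
  have hφr : Set.range (α ∣_ W') ⊆ Set.range (β ⁻¹ᵁ W).ι := by
    rintro _ ⟨u, rfl⟩
    rw [Scheme.Opens.range_ι]
    change β ((α ∣_ W') u) ∈ W
    have h := congr(($hA) u)
    rw [Scheme.Hom.comp_apply, Scheme.Hom.comp_apply] at h
    rw [h]
    exact (((α ⁻¹ᵁ W').ι u)).2
  have hψr : Set.range (β ∣_ W) ⊆ Set.range (α ⁻¹ᵁ W').ι := by
    rintro _ ⟨u, rfl⟩
    rw [Scheme.Opens.range_ι]
    change α ((β ∣_ W) u) ∈ W'
    have h := congr(($hB) u)
    rw [Scheme.Hom.comp_apply, Scheme.Hom.comp_apply] at h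
    rw [h]
    exact (((β ⁻¹ᵁ W).ι u)).2
  let φ : (α ⁻¹ᵁ W').toScheme ⟶ (β ⁻¹ᵁ W).toScheme :=
    IsOpenImmersion.lift (β ⁻¹ᵁ W).ι (α ∣_ W') hφr
  let ψ : (β ⁻¹ᵁ W).toScheme ⟶ (α ⁻¹ᵁ W').toScheme :=
    IsOpenImmersion.lift (α ⁻¹ᵁ W').ι (β ∣_ W) hψr
  have hφ : φ ≫ (β ⁻¹ᵁ W).ι = α ∣_ W' := IsOpenImmersion.lift_fac _ _ _
  have hψ : ψ ≫ (α ⁻¹ᵁ W').ι = β ∣_ W := IsOpenImmersion.lift_fac _ _ _
  have h1 : φ ≫ ψ = 𝟙 _ := by
    rw [← cancel_mono ((α ⁻¹ᵁ W').ι ≫ W.ι)]
    rw [Category.assoc, reassoc_of% hψ, morphismRestrict_ι, reassoc_of% hφ, hA, Category.id_comp]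
  have h2 : ψ ≫ φ = 𝟙 _ := by
    rw [← cancel_mono ((β ⁻¹ᵁ W).ι ≫ W'.ι)]
    rw [Category.assoc, reassoc_of% hφ, morphismRestrict_ι, reassoc_of% hψ, hB, Category.id_comp]
  have hU₀ne : ((α ⁻¹ᵁ W' : W.toScheme.Opens) : Set W.toScheme).Nonempty := by
    have := α.denseRange.inter_open_nonempty _ W'.2 hW'ne
    obtain ⟨_, hy, ⟨x, rfl⟩⟩ := this
    exact ⟨x, hy⟩
  have hV₀ne : ((β ⁻¹ᵁ W : W'.toScheme.Opens) : Set W'.toScheme).Nonempty := by
    have := β.denseRange.inter_open_nonempty _ W.2 hWne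
    obtain ⟨_, hy, ⟨x, rfl⟩⟩ := this
    exact ⟨x, hy⟩
  exact ⟨{
    source := W.ι ''ᵁ (α ⁻¹ᵁ W')
    dense_source := (W.ι ''ᵁ (α ⁻¹ᵁ W')).2.dense (hU₀ne.image _)
    target := W'.ι ''ᵁ (β ⁻¹ᵁ W)
    dense_target := (W'.ι ''ᵁ (β ⁻¹ᵁ W)).2.dense (hV₀ne.image _)
    iso := (W.ι.isoImage (α ⁻¹ᵁ W')).symm ≪≫ ⟨φ, ψ, h1, h2⟩ ≪≫ W'.ι.isoImage (β ⁻¹ᵁ W) }⟩

/-- The composite of a partial iso with its inverse is the identity rational map. -/
lemma comp_symm_aux {X Y : Scheme.{u}} [IrreducibleSpace X] [IrreducibleSpace Y]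
    (U : X.Opens) (hU : Dense (U : Set X)) (V : Y.Opens) (hV : Dense (V : Set Y))
    (e : U.toScheme ≅ V.toScheme) [IsDominant (e.hom ≫ V.ι)] :
    Scheme.PartialMap.equiv
      (Scheme.PartialMap.comp (⟨U, hU, e.hom ≫ V.ι⟩ : X.PartialMap Y) ⟨V, hV, e.inv ≫ U.ι⟩)
      (Scheme.PartialMap.id X) := by
  refine ⟨_, Scheme.PartialMap.dense_domain _, le_rfl,
    (show _ ≤ (Scheme.PartialMap.id X).domain from le_top), ?_⟩
  simp only [Scheme.PartialMap.restrict_hom, Scheme.PartialMap.comp_hom,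
    Scheme.PartialMap.comp_domain, Scheme.Hom.toPartialMap_hom]
  have key : (e.hom ≫ V.ι) ∣_ V = ((e.hom ≫ V.ι) ⁻¹ᵁ V).ι ≫ e.hom := by
    rw [← cancel_mono V.ι, morphismRestrict_ι, Category.assoc]
  rw [key]
  simp
  exact (X.homOfLE_ι _).symm

lemma comp_symm {X Y : Scheme.{u}} [IrreducibleSpace X] [IrreducibleSpace Y]
    (φ : X.PartialIso Y) [h : IsDominant φ.toPartialMap.hom] :
    (φ.toPartialMap.comp φ.symm.toPartialMap).equiv (Scheme.PartialMap.id X) := by
  have : IsDominant (φ.iso.hom ≫ φ.target.ι) := h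
  exact comp_symm_aux φ.source φ.dense_source φ.target φ.dense_target φ.iso

/-- Unpacking `f.comp g = id`. -/
lemma exists_data {X Y : Scheme.{u}} [IsIntegral X] [IsIntegral Y]
    (f : X ⤏ Y) (g : Y ⤏ X) [f.IsDominant]
    (hfg : f.comp g = Scheme.RationalMap.id X) :
    ∃ (W : X.Opens) (hW : Dense (W : Set X)) (a' : W.toScheme ⟶ g.representative.domain.toScheme)
      (hWf : W ≤ f.representative.domain),
      a' ≫ g.representative.hom = W.ι ∧
      a' ≫ g.representative.domain.ι = X.homOfLE hWf ≫ f.representative.hom := by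
  have hfg' : (f.representative.comp g.representative).equiv (Scheme.PartialMap.id X) := by
    rw [← Scheme.PartialMap.toRationalMap_eq_iff, ← Scheme.RationalMap.comp_def,
      g.toRationalMap_representative]
    exact hfg
  obtain ⟨W, hW, hWl, hWr, e⟩ := hfg'
  have hWl' : W ≤ f.representative.domain.ι ''ᵁ
      f.representative.hom ⁻¹ᵁ g.representative.domain := hWl
  have hWr' : W ≤ (⊤ : X.Opens) := le_top
  have e' : X.homOfLE hWl' ≫ (f.representative.domain.ι.isoImage _).inv ≫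
      f.representative.hom ∣_ g.representative.domain ≫ g.representative.hom = W.ι := by
    refine Eq.trans ?_ (e.trans ?_)
    · rfl
    · change X.homOfLE hWr' ≫ (X.topIso.hom ≫ 𝟙 X) = W.ι
      rw [Category.comp_id]
      exact X.homOfLE_ι hWr'
  have hWf : W ≤ f.representative.domain := hWl'.trans (Scheme.Opens.ι_image_le _ _)
  refine ⟨W, hW, X.homOfLE hWl' ≫ (f.representative.domain.ι.isoImage _).inv ≫
    f.representative.hom ∣_ g.representative.domain, hWf, ?_, ?_⟩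
  · simp only [Category.assoc]
    exact e'
  · simp only [Category.assoc]
    rw [morphismRestrict_ι, Scheme.Opens.isoImage_ι_inv_ι_assoc, Scheme.homOfLE_homOfLE_assoc]

/-- Direction `←`. -/
lemma birational_of_inverse {X Y : Scheme.{u}} [IsIntegral X] [IsIntegral Y]
    (f : X ⤏ Y) (g : Y ⤏ X) [f.IsDominant] [g.IsDominant]
    (hfg : f.comp g = Scheme.RationalMap.id X) (hgf : g.comp f = Scheme.RationalMap.id Y) :
    Scheme.Birational X Y := by
  obtain ⟨W, hW, a', hWf, ha1, ha3⟩ := exists_data f g hfg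
  obtain ⟨W', hW', b', hW'g, hb1, hb3⟩ := exists_data g f hgf
  have hα : IsDominant (a' ≫ g.representative.domain.ι) := by
    rw [ha3]
    exact Scheme.PartialMap.isDominant_restrict_hom f.representative W hW hWf
  have hβ : IsDominant (b' ≫ f.representative.domain.ι) := by
    rw [hb3]
    exact Scheme.PartialMap.isDominant_restrict_hom g.representative W' hW' hW'g
  refine core W W' hW.nonempty hW'.nonempty (a' ≫ g.representative.domain.ι)
    (b' ≫ f.representative.domain.ι) ?_ ?_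
  · have h1 : ((a' ≫ g.representative.domain.ι) ∣_ W') ≫ Y.homOfLE hW'g =
        ((a' ≫ g.representative.domain.ι) ⁻¹ᵁ W').ι ≫ a' := by
      rw [← cancel_mono g.representative.domain.ι, Category.assoc, Scheme.homOfLE_ι,
        morphismRestrict_ι, Category.assoc]
    rw [hb3, reassoc_of% h1, ha1]
  · have h1 : ((b' ≫ f.representative.domain.ι) ∣_ W) ≫ X.homOfLE hWf =
        ((b' ≫ f.representative.domain.ι) ⁻¹ᵁ W).ι ≫ b' := by
      rw [← cancel_mono f.representative.domain.ι, Category.assoc, Scheme.homOfLE_ι,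
        morphismRestrict_ι, Category.assoc]
    rw [ha3, reassoc_of% h1, hb1]

theorem result (X Y : Scheme.{u})
    [IsIntegral X] [IsIntegral Y] :
    Scheme.Birational X Y ↔
      ∃ (f : X ⤏ Y) (g : Y ⤏ X) (_ : f.IsDominant) (_ : g.IsDominant),
        f.comp g = Scheme.RationalMap.id X ∧ g.comp f = Scheme.RationalMap.id Y := by
  constructor
  · rintro ⟨φ⟩
    have h1 : IsDominant φ.toPartialMap.hom := by
      have := AlgebraicGeometry.Opens.isDominant_ι φ.dense_target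
      change IsDominant (φ.iso.hom ≫ φ.target.ι)
      infer_instance
    have h2 : IsDominant φ.symm.toPartialMap.hom := by
      have := AlgebraicGeometry.Opens.isDominant_ι φ.dense_source
      change IsDominant (φ.iso.inv ≫ φ.source.ι)
      infer_instance
    refine ⟨φ.toRationalMap, φ.symm.toRationalMap, inferInstance, inferInstance, ?_, ?_⟩
    · rw [Scheme.RationalMap.toRationalMap_comp, Scheme.PartialMap.toRationalMap_eq_iff]
      exact comp_symm φ
    · rw [Scheme.RationalMap.toRationalMap_comp, Scheme.PartialMap.toRationalMap_eq_iff]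
      exact comp_symm φ.symm
  · rintro ⟨f, g, hf, hg, hfg, hgf⟩
    exact birational_of_inverse f g hfg hgf

end Groth.Agent.S14360
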