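import Groth.Statements.S14361
import Mathlib

set_option autoImplicit false
universe u
open AlgebraicGeometry
open SchImage

namespace Groth.Agent.S14361

open CategoryTheory TopologicalSpace

/-- On a reduced scheme, if `x` vanishes on `D(f)` then `f * x = 0`. -/
theorem mul_eq_zero_of_res_basicOpen_eq_zero (X : Scheme.{u}) [IsReduced X]
    {U : X.Opens} (x f : Γ(X, U)) (H : x |_ (X.basicOpen f) = 0) : f * x = 0 := by
  rw [← basicOpen_eq_bot_iff, Scheme.basicOpen_mul]
  have h1 : X.basicOpen (x |_ (X.basicOpen f)) = ⊥ := by rw [H]; simp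
  have h2 : X.basicOpen (x |_ (X.basicOpen f)) = X.basicOpen f ⊓ X.basicOpen x :=
    Scheme.basicOpen_res _ _ _
  rw [← h2, h1]

set_option backward.defeqAttrib.useBackward true in
set_option backward.isDefEq.respectTransparency false in
/-- The componentwise kernels of a morphism from a reduced scheme form an ideal sheaf. -/
theorem ker_apply_of_isReduced {X Y : Scheme.{u}} [IsReduced X] (f : X.Hom Y)
    (U : Y.affineOpens) :
    f.ker.ideal U = RingHom.ker (f.app U).hom := by
  let I : Scheme.IdealSheafData Y := ⟨fun U ↦ RingHom.ker (f.app U).hom, ?_, _, rfl⟩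
  · exact congr($(Scheme.IdealSheafData.ofIdeals_ideal I).ideal U)
  intro U s
  apply le_antisymm
  · refine Ideal.map_le_iff_le_comap.mpr fun x hx ↦ ?_
    simp_rw [RingHom.comap_ker, ← CommRingCat.hom_comp, Scheme.affineBasicOpen_coe, f.naturality,
      CommRingCat.hom_comp, ← RingHom.comap_ker]
    exact Ideal.ker_le_comap _ hx
  · intro x hx
    have := U.2.isLocalization_basicOpen s
    obtain ⟨x, ⟨_, n, rfl⟩, rfl⟩ := IsLocalization.exists_mk'_eq (.powers s) x
    refine (IsLocalization.mk'_mem_map_algebraMap_iff _ _ _ _ _).mpr ?_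
    suffices ∃ (V : X.Opens) (hV : V = X.basicOpen ((f.app U).hom s)),
        letI := hV.trans_le (X.basicOpen_le _); ((f.app U).hom x |_ V) = 0 by
      obtain ⟨_, rfl, H⟩ := this
      have hn := mul_eq_zero_of_res_basicOpen_eq_zero X (f.app U x) (f.app U s) H
      exact ⟨_, ⟨1, rfl⟩, by simpa using hn⟩
    refine ⟨f ⁻¹ᵁ Y.basicOpen s, by simp, ?_⟩
    replace hx : (Y.presheaf.map (homOfLE (Y.basicOpen_le s)).op ≫ f.app _).hom x = 0 := by
      trans (f.app (Y.basicOpen s)).hom (algebraMap Γ(Y, U) _ x)
      · simp [-NatTrans.naturality, RingHom.algebraMap_toAlgebra]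
      · simp only [Scheme.affineBasicOpen_coe, RingHom.mem_ker] at hx
        rw [← IsLocalization.mk'_spec' (M := .powers s), map_mul, hx, mul_zero]
    rwa [f.naturality] at hx

theorem result (X Y : Scheme.{u}) [IsReduced X]
    (π : X ⟶ Y) (U : Y.affineOpens) :
    π.ker.ideal U = RingHom.ker (π.app U).hom :=
  ker_apply_of_isReduced π U

end Groth.Agent.S14361
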