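import Groth.Statements.S14362
import Groth.Agent.S14361

set_option autoImplicit false
universe u
open AlgebraicGeometry
open SchImage

namespace Groth.Agent.S14362

open CategoryTheory TopologicalSpace

theorem result (X Y : Scheme.{u}) [IsReduced X]
    (π : X ⟶ Y) :
    (π.ker.support : Set Y) = closure (Set.range π) := by
  apply subset_antisymm
  · intro y hy
    by_contra hyc
    -- an affine open neighbourhood of y missing the closure of the range
    obtain ⟨_, ⟨U, hU, rfl⟩, hyU, hUsub⟩ :=
      Y.isBasis_affineOpens.exists_subset_of_mem_open (show y ∈ (closure (Set.range π))ᶜ from hyc)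
        isClosed_closure.isOpen_compl
    have hpre : π ⁻¹ᵁ U = ⊥ := by
      ext x
      simp only [Scheme.Hom.mem_preimage, Opens.coe_bot, Set.mem_empty_iff_false, iff_false]
      intro hx
      exact hUsub hx (subset_closure ⟨x, rfl⟩)
    have hsub : Subsingleton Γ(X, π ⁻¹ᵁ U) := by
      rw [hpre]; infer_instance
    have h1 : (1 : Γ(Y, U)) ∈ π.ker.ideal ⟨U, hU⟩ := by
      rw [Groth.Agent.S14361.result X Y π ⟨U, hU⟩, RingHom.mem_ker]
      exact Subsingleton.elim _ _
    have hy' := (Scheme.IdealSheafData.mem_support_iff_of_mem (I := π.ker) (U := ⟨U, hU⟩) hyU).mp hy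
    rw [Scheme.mem_zeroLocus_iff] at hy'
    apply hy' 1 h1
    rw [Scheme.basicOpen_of_isUnit _ isUnit_one]
    exact hyU
  · rw [(Scheme.IdealSheafData.support _).isClosed.closure_subset_iff]
    exact π.range_subset_ker_support

end Groth.Agent.S14362
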