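import Groth.Statements.S14363
import Mathlib

set_option autoImplicit false
universe u
open CAlg

namespace Groth.Agent.S14363

/-- Let A be a Noetherian ring and 0 → M' → M → M'' → 0 a short exact sequence of A-modules. If a prime
p of A is an associated prime of M'' and is not in the support of M', then p is an associated prime
of M. -/
theorem result (A : Type u) [CommRing A] [IsNoetherianRing A]
    (M' M M'' : Type u) [AddCommGroup M'] [Module A M'] [AddCommGroup M] [Module A M]
    [AddCommGroup M''] [Module A M'']
    (f : M' →ₗ[A] M) (g : M →ₗ[A] M'') (hf : Function.Injective f) (hg : Function.Surjective g)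
    (hfg : Function.Exact f g)
    (p : PrimeSpectrum A) (hp : p.asIdeal ∈ associatedPrimes A M'') (hsupp : p ∉ Module.support A M') :
    p.asIdeal ∈ associatedPrimes A M := by
  classical
  rw [AssociatedPrimes.mem_iff, isAssociatedPrime_iff] at hp ⊢
  obtain ⟨hprime, x'', hx''⟩ := hp
  refine ⟨hprime, ?_⟩
  obtain ⟨x, rfl⟩ := hg x''
  rw [Module.notMem_support_iff'] at hsupp
  -- p is finitely generated
  obtain ⟨s, hs⟩ := (isNoetherianRing_iff_ideal_fg A).mp inferInstance p.asIdeal
  -- for each generator a, a • x lies in the range of f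
  have h1 : ∀ a ∈ p.asIdeal, ∃ m' : M', f m' = a • x := by
    intro a ha
    rw [hx'', Submodule.mem_colon_singleton, Submodule.mem_bot, ← map_smul] at ha
    exact (hfg (a • x)).mp ha
  choose! m' hm' using h1
  choose t ht ht0 using hsupp
  set T : A := ∏ a ∈ s, t (m' a) with hT
  have hTp : T ∉ p.asIdeal := by
    rw [hT]
    intro h
    obtain ⟨a, _, ha⟩ := (Ideal.IsPrime.prod_mem_iff).mp h
    exact ht _ ha
  refine ⟨T • x, ?_⟩
  ext b
  rw [Submodule.mem_colon_singleton, Submodule.mem_bot]
  constructor
  · intro hb
    -- b ∈ p = span s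
    have hb' : b ∈ Ideal.span (s : Set A) := by rw [hs]; exact hb
    have key : ∀ c ∈ Ideal.span (s : Set A), c • T • x = 0 := by
      intro c hc
      refine Submodule.span_induction ?_ ?_ ?_ ?_ hc
      · intro a ha
        have hap : a ∈ p.asIdeal := by rw [← hs]; exact Ideal.subset_span ha
        rw [smul_comm, ← hm' a hap, ← map_smul]
        have : T • m' a = 0 := by
          rw [hT, ← Finset.mul_prod_erase s _ ha, mul_comm, mul_smul, ht0, smul_zero]
        rw [this, map_zero]
      · simp
      · intro c d _ _ hc hd
        rw [add_smul, hc, hd, add_zero]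
      · intro r c _ hc
        rw [smul_eq_mul, mul_smul, hc, smul_zero]
    exact key b hb'
  · intro hb
    have h2 : (b * T) • g x = 0 := by
      rw [mul_smul, ← map_smul, ← map_smul, hb, map_zero]
    have h3 : b * T ∈ p.asIdeal := by
      rw [hx'', Submodule.mem_colon_singleton, Submodule.mem_bot]; exact h2
    exact (hprime.mem_or_mem h3).resolve_right hTp

end Groth.Agent.S14363
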