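import Groth.Statements.S14366
-- import your own Groth.Agent.* helpers here
import Groth.Agent.Lib.Helper32.RGammaTri

set_option autoImplicit false
universe u
open CategoryTheory CategoryTheory.Limits AlgebraicGeometry
attribute [local instance] HasDerivedCategory.standard
open CxOX

namespace Groth.Agent.S14366

open Groth.Agent.Lib.Helper32.KInjDerived
  Groth.Agent.Lib.Helper32.OpenKInj Groth.Agent.Lib.Helper32.MVTriangle
  Groth.Agent.Lib.Helper32.OpenSupp Groth.Agent.Lib.Helper32.RGammaZ
  Groth.Agent.Lib.Helper32.RGammaTri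

lemma mem_of_ι {Y : Scheme.{u}} (O : Y.Opens) (a : (O : Scheme.{u})) : O.ι a ∈ O := by
  have : O.ι a ∈ Set.range O.ι := ⟨a, rfl⟩
  rw [Scheme.Opens.range_ι] at this
  exact this

/-- Let j : X ⟶ X̄ be an open immersion of Noetherian schemes, U ⊆ X an open subscheme with closed
complement Z, U' ⊆ X̄ the open complement of the closure Z̄ of j(Z) in X̄, and T = U' ∪ j(X), the
open complement of the closed subset Z̄ ∖ j(X). Let Rj_* exist and preserve complexes with
quasi-coherent cohomology, and let an adjunction j^* ⊣ Rj_* between D(O_X̄) and D(O_X) be given.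
Then Rj_* and j^* are inverse equivalences between the objects of D_qc(O_X) whose cohomology sheaves
are supported on Z and the objects of D_qc(O_X̄) whose cohomology sheaves are supported on Z̄ and on
which RΓ_{Z̄ ∖ j(X)} vanishes: for F in the first class, Rj_* F has cohomology supported on Z̄ and
RΓ_{Z̄ ∖ j(X)}(Rj_* F) is zero; the counit j^* Rj_* F ⟶ F is an isomorphism for every F; and for G
in the second class the unit G ⟶ Rj_* j^* G is an isomorphism and j^* G is in the first class.
(Throughout, RΓ with support is the total right derived functor of the sheaf of sections supported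
in the closed subset. The published statement derives instead the functor of sections killed by some
power of a defining ideal; on complexes with quasi-coherent cohomology sheaves over a Noetherian
scheme the two derived functors agree.) -/
theorem result {X Xbar : Scheme.{u}} [IsNoetherian Xbar] [IsNoetherian X]
    (j : X ⟶ Xbar) [IsOpenImmersion j] (U : X.Opens) (U' T : Xbar.Opens)
    (hU' : (U' : Set Xbar) = (closure (j.base '' ((U : Set X)ᶜ)))ᶜ)
    (hT : (T : Set Xbar) = (U' : Set Xbar) ∪ Set.range j.base)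
    [DCoh.HasRpush j] [CxOX.HasRgammaZ T.ι] (hj : DCoh.RpushPreservesQCoh j)
    (adj : DCoh.restrictD j ⊣ DCoh.Rpush j) :
    (∀ F : DCoh.D X, DCoh.IsQCohD F → CxOX.IsSuppD U.ι F →
        CxOX.IsSuppD U'.ι ((DCoh.Rpush j).obj F) ∧ IsZero ((CxOX.RgammaZ T.ι).obj ((DCoh.Rpush j).obj F))) ∧
    (∀ F : DCoh.D X, IsIso (adj.counit.app F)) ∧
    (∀ G : DCoh.D Xbar, DCoh.IsQCohD G → CxOX.IsSuppD U'.ι G → IsZero ((CxOX.RgammaZ T.ι).obj G) →
        IsIso (adj.unit.app G) ∧ DCoh.IsQCohD ((DCoh.restrictD j).obj G) ∧ CxOX.IsSuppD U.ι ((DCoh.restrictD j).obj G)) := by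
  obtain ⟨ff⟩ := nonempty_fullyFaithful_Rpush j
  haveI := ff.full
  haveI := ff.faithful
  have hjT : j.opensRange ≤ T := by
    intro x hx
    have : x ∈ (T : Set Xbar) := by rw [hT]; exact Or.inr hx
    exact this
  have hpre : j ⁻¹ᵁ U' ≤ U := by
    intro x hx
    by_contra hxU
    have h1 : j x ∈ (U' : Set Xbar) := hx
    rw [hU'] at h1
    exact h1 (subset_closure ⟨x, hxU, rfl⟩)
  have himg : ∀ x : X, x ∈ U → j x ∈ U' := by
    intro x hx
    change j x ∈ (U' : Set Xbar)
    rw [hU']
    intro hcl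
    have hopen : IsOpen (j.base '' (U : Set X)) := j.isOpenEmbedding.isOpenMap _ U.isOpen
    obtain ⟨y, hy1, hy2⟩ := mem_closure_iff.mp hcl _ hopen ⟨x, hx, rfl⟩
    obtain ⟨x1, hx1, rfl⟩ := hy1
    obtain ⟨x2, hx2, h12⟩ := hy2
    have h3 : x2 = x1 := j.isOpenEmbedding.injective h12
    subst h3
    exact hx2 hx1
  refine ⟨?_, ?_, ?_⟩
  · intro F hF hFs
    constructor
    · apply isSuppD_of_isZero_restrictD
      apply isZero_restrictD_Rpush
      apply isZero_restrictD_of_support
      intro i x hx hsupp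
      have := hFs i hsupp
      rw [Scheme.Opens.range_ι] at this
      exact this (hpre hx)
    · exact isZero_RgammaZ_Rpush j T hjT F
  · intro F
    infer_instance
  · intro G hG hGs hGz
    haveI hRT : DCoh.HasRpush T.ι := hasRightDerivedFunctor (hasKInjRes (T : Scheme.{u})) _
    obtain ⟨e1⟩ := nonempty_iso_Rpush_of_isZero_RgammaZ T G hGz
    let A : (T : Scheme.{u}).Opens := T.ι ⁻¹ᵁ U'
    let B : (T : Scheme.{u}).Opens := T.ι ⁻¹ᵁ j.opensRange
    have hBA : B ⊔ A = ⊤ := by
      ext t
      simp only [TopologicalSpace.Opens.coe_sup, TopologicalSpace.Opens.coe_top, Set.mem_union,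
        SetLike.mem_coe, Set.mem_univ, iff_true]
      have ht : T.ι t ∈ (T : Set Xbar) := mem_of_ι T t
      rw [hT] at ht
      rcases ht with h | h
      · exact Or.inr h
      · exact Or.inl h
    have hGU' : IsZero ((DCoh.restrictD U'.ι).obj G) := by
      apply isZero_restrictD_of_support
      intro i x hx hs
      have := hGs i hs
      rw [Scheme.Opens.range_ι] at this
      exact this hx
    have hrA : Set.range (A.ι ≫ T.ι) ⊆ Set.range U'.ι := by
      rintro _ ⟨a, rfl⟩
      rw [Scheme.Opens.range_ι]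
      exact mem_of_ι A a
    have hrBA : Set.range ((B ⊓ A).ι ≫ T.ι) ⊆ Set.range U'.ι := by
      rintro _ ⟨a, rfl⟩
      rw [Scheme.Opens.range_ι]
      exact (mem_of_ι (B ⊓ A) a).2
    have hA0 : IsZero ((DCoh.restrictD A.ι).obj ((DCoh.restrictD T.ι).obj G)) :=
      isZero_restrictD_restrictD A.ι T.ι U'.ι hrA G hGU'
    have hBA0 : IsZero ((DCoh.restrictD (B ⊓ A).ι).obj ((DCoh.restrictD T.ι).obj G)) :=
      isZero_restrictD_restrictD (B ⊓ A).ι T.ι U'.ι hrBA G hGU'
    haveI : DCoh.HasRpush B.ι := hasRightDerivedFunctor (hasKInjRes (B : Scheme.{u})) _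
    obtain ⟨e2⟩ := nonempty_iso_Rpush_restrictD B A hBA ((DCoh.restrictD T.ι).obj G) hA0 hBA0
    haveI : DCoh.HasRpush (B.ι ≫ T.ι) := hasRightDerivedFunctor (hasKInjRes (B : Scheme.{u})) _
    obtain ⟨e3⟩ := nonempty_Rpush_comp_iso B.ι T.ι
      ((DCoh.restrictD B.ι).obj ((DCoh.restrictD T.ι).obj G))
    have hr : Set.range (B.ι ≫ T.ι) = Set.range j := by
      apply le_antisymm
      · rintro _ ⟨b, rfl⟩
        exact mem_of_ι B b
      · rintro _ ⟨x, rfl⟩
        have hxT : j x ∈ T := hjT ⟨x, rfl⟩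
        have h1 : j x ∈ Set.range T.ι := by rw [Scheme.Opens.range_ι]; exact hxT
        obtain ⟨t, ht⟩ := h1
        have htB : t ∈ B := by
          change T.ι t ∈ j.opensRange
          rw [ht]
          exact ⟨x, rfl⟩
        have h2 : t ∈ Set.range B.ι := by rw [Scheme.Opens.range_ι]; exact htB
        obtain ⟨b, hb⟩ := h2
        refine ⟨b, ?_⟩
        change T.ι (B.ι b) = j x
        rw [hb, ht]
    obtain ⟨N, ⟨e4⟩⟩ := exists_iso_Rpush_of_range_eq (B.ι ≫ T.ι) j hr
      ((DCoh.restrictD B.ι).obj ((DCoh.restrictD T.ι).obj G))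
    have hiso : G ≅ (DCoh.Rpush j).obj N := e1 ≪≫ (DCoh.Rpush T.ι).mapIso e2 ≪≫ e3 ≪≫ e4
    refine ⟨adj.isIso_unit_app_of_iso hiso, isQCohD_restrictD j G hG, ?_⟩
    apply isSuppD_of_isZero_restrictD
    have hrU : Set.range (U.ι ≫ j) ⊆ Set.range U'.ι := by
      rintro _ ⟨a, rfl⟩
      rw [Scheme.Opens.range_ι]
      exact himg _ (mem_of_ι U a)
    exact isZero_restrictD_restrictD U.ι j U'.ι hrU G hGU'

end Groth.Agent.S14366
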