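import Groth.Statements.S14375
import Groth.Agent.Lib.Helper12.GeomAlgClosed

set_option autoImplicit false
universe u
open CategoryTheory CategoryTheory.Limits AlgebraicGeometry
open Variety

namespace Groth.Agent.S14375

/-- Let k be an algebraically closed field, F an irreducible scheme of finite type over k, and f : X → Y
a k-morphism of schemes of finite type over k with Y irreducible which is locally trivial with fibre
F: every point of Y has an open neighbourhood V such that f⁻¹(V) is isomorphic over V to V ×_k F.
Then X is irreducible. (The published statement is for varieties, i.e. reduced separated schemes;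
this row assumes neither.) -/
theorem result (k : Type u) [Field k] [IsAlgClosed k]
    {X Y F : Scheme.{u}} (qX : X ⟶ Spec (CommRingCat.of k)) (qY : Y ⟶ Spec (CommRingCat.of k))
    (qF : F ⟶ Spec (CommRingCat.of k))
    [LocallyOfFiniteType qX] [QuasiCompact qX] [LocallyOfFiniteType qY] [QuasiCompact qY]
    [LocallyOfFiniteType qF] [QuasiCompact qF] [IrreducibleSpace ↥F] [IrreducibleSpace ↥Y]
    (f : X ⟶ Y) (hf : f ≫ qY = qX)
    (htriv : ∀ y : ↥Y, ∃ V : Y.Opens, y ∈ V ∧
      ∃ e : (↑(f ⁻¹ᵁ V) : Scheme.{u}) ≅ pullback (V.ι ≫ qY) qF, e.hom ≫ pullback.fst (V.ι ≫ qY) qF = f ∣_ V) :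
    IrreducibleSpace ↥X := by
  have hF : GeometricallyIrreducible qF :=
    Groth.Agent.Lib.Helper12.GeomAlgClosed.geometricallyIrreducible_of_irreducibleSpace qF
  have hsub : Subsingleton (Spec (CommRingCat.of k)) :=
    inferInstanceAs (Subsingleton (PrimeSpectrum k))
  have hFo : UniversallyOpen qF := inferInstance
  have hloc : IsZariskiLocalAtTarget @GeometricallyIrreducible := by
    rw [GeometricallyIrreducible.eq_geometrically]
    infer_instance
  have hri : MorphismProperty.RespectsIso @GeometricallyIrreducible.{u} :=
    MorphismProperty.IsStableUnderBaseChange.respectsIso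
  have hgi : GeometricallyIrreducible f := by
    refine IsZariskiLocalAtTarget.of_forall_exists_morphismRestrict
      (P := @GeometricallyIrreducible) fun y => ?_
    obtain ⟨V, hyV, e, he⟩ := htriv y
    refine ⟨V, hyV, ?_⟩
    rw [← he, MorphismProperty.cancel_left_of_respectsIso (P := @GeometricallyIrreducible)]
    infer_instance
  have huo : UniversallyOpen f := by
    refine IsZariskiLocalAtTarget.of_forall_exists_morphismRestrict
      (P := @UniversallyOpen) fun y => ?_
    obtain ⟨V, hyV, e, he⟩ := htriv y
    refine ⟨V, hyV, ?_⟩
    rw [← he, MorphismProperty.cancel_left_of_respectsIso (P := @UniversallyOpen)]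
    infer_instance
  exact GeometricallyIrreducible.irreducibleSpace f f.isOpenMap

end Groth.Agent.S14375
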