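import Groth.Statements.S1438
import Mathlib.AlgebraicGeometry.Morphisms.Separated
import Mathlib.AlgebraicGeometry.Morphisms.Immersion
import Mathlib.AlgebraicGeometry.IdealSheaf.Subscheme
import Mathlib.AlgebraicGeometry.Limits

set_option autoImplicit false
universe u
open FlatMor

namespace Groth.Agent.S1438

section Helpers

open AlgebraicGeometry CategoryTheory Limits TopologicalSpace

/-- A scheme with a finite cover by pairwise disjoint affine opens is affine. -/
theorem isAffine_of_finite_disjoint_cover {S : Scheme.{u}} {σ : Type} [Finite σ] (V : σ → S.Opens)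
    (hV : ∀ k, IsAffineOpen (V k)) (hcov : ⨆ k, V k = ⊤)
    (hdisj : Pairwise (Function.onFun Disjoint V)) : IsAffine S := by
  have : ∀ k, IsAffine (V k).toScheme := hV
  have h1 : ⨆ k, ((V k).ι).opensRange = ⊤ := by simpa using hcov
  have h2 : Pairwise (Function.onFun Disjoint (fun k => ((V k).ι).opensRange)) := by
    intro a b hab
    simpa [Function.onFun] using hdisj hab
  obtain ⟨hcolim⟩ := nonempty_isColimit_cofanMk_of (fun k => (V k).ι) h1 h2
  let e : S ≅ ∐ (fun k => (V k).toScheme) :=
    hcolim.coconePointUniqueUpToIso (coproductIsCoproduct _)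
  exact IsAffine.of_isIso e.hom

end Helpers

open AlgebraicGeometry CategoryTheory Limits in
/-- A separated scheme with an open covering by n + 1 affine opens has affine stratification number at
most n: it admits an affine stratification with index set {0, …, n}. -/
theorem result (X : Scheme.{u}) [X.IsSeparated] (n : ℕ) (U : Fin (n + 1) → X.Opens)
    (hU : ∀ i, IsAffineOpen (U i)) (hcov : ⨆ i, U i = ⊤) :
    MoreMor.HasAffineStratification X n := by
  classical
  let F : X → Finset (Fin (n + 1)) := fun x => Finset.univ.filter (fun j => x ∈ U j)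
  have hF : ∀ x j, j ∈ F x ↔ x ∈ U j := fun x j => by simp [F]
  let c : X → ℕ := fun x => (F x).card
  have hc_pos : ∀ x, 1 ≤ c x := fun x => by
    have hx : x ∈ ⨆ i, U i := by rw [hcov]; trivial
    obtain ⟨j, hj⟩ := TopologicalSpace.Opens.mem_iSup.mp hx
    exact Finset.card_pos.mpr ⟨j, (hF x j).mpr hj⟩
  have hc_le : ∀ x, c x ≤ n + 1 := fun x =>
    (Finset.card_le_univ _).trans (by simp)
  have hopen : ∀ p : ℕ, IsOpen {x : X | p ≤ c x} := fun p => by
    rw [isOpen_iff_forall_mem_open]
    intro x hx
    refine ⟨⋂ j ∈ F x, (U j : Set X), ?_, isOpen_biInter_finset (fun j _ => (U j).2), ?_⟩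
    · intro y hy
      have hsub : F x ⊆ F y := fun j hj =>
        (hF y j).mpr (Set.mem_iInter₂.mp hy j hj)
      exact le_trans hx (Finset.card_le_card hsub)
    · exact Set.mem_iInter₂.mpr fun j hj => (hF x j).mp hj
  let s : X → Fin (n + 1) := fun x => ⟨c x - 1, by
    have := hc_pos x; have := hc_le x; omega⟩
  have hs : ∀ x, (s x : ℕ) = c x - 1 := fun x => rfl
  refine ⟨s, fun i => ?_, fun i => ?_⟩
  · have : {x : X | s x ≤ i} = {x : X | (i : ℕ) + 2 ≤ c x}ᶜ := by
      ext x
      simp only [Set.mem_ofPred_eq, Set.mem_compl_iff, Fin.le_def, hs]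
      have := hc_pos x
      omega
    rw [this]
    exact (hopen _).isClosed_compl
  · let O : X.Opens := ⟨{x : X | (i : ℕ) + 1 ≤ c x}, hopen _⟩
    have hCclosed : IsClosed {x : X | (i : ℕ) + 2 ≤ c x}ᶜ := (hopen _).isClosed_compl
    let C : TopologicalSpace.Closeds O.toScheme :=
      ⟨O.ι ⁻¹' {x : X | (i : ℕ) + 2 ≤ c x}ᶜ, hCclosed.preimage O.ι.continuous⟩
    let I := Scheme.IdealSheafData.vanishingIdeal C
    let ι : I.subscheme ⟶ X := I.subschemeι ≫ O.ι
    have hlevel : ∀ x : X, s x = i ↔ c x = (i : ℕ) + 1 := fun x => by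
      rw [Fin.ext_iff, hs]
      have := hc_pos x
      omega
    have hrange : Set.range ι = {x : X | s x = i} := by
      simp only [ι, Scheme.Hom.comp_base, TopCat.coe_comp, Set.range_comp,
        Scheme.IdealSheafData.range_subschemeι]
      ext x
      simp only [I, Scheme.IdealSheafData.coe_support_vanishingIdeal, Set.mem_image,
        Set.mem_ofPred_eq, hlevel]
      constructor
      · rintro ⟨y, hy, rfl⟩
        have h1 : (i : ℕ) + 1 ≤ c (O.ι y) := y.2
        have h2 : ¬ (i : ℕ) + 2 ≤ c (O.ι y) := hy
        omega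
      · intro hx
        refine ⟨⟨x, (by show (i : ℕ) + 1 ≤ c x; omega)⟩, ?_, rfl⟩
        show ¬ (i : ℕ) + 2 ≤ c x
        omega
    have hcι : ∀ z : I.subscheme, c (ι z) = (i : ℕ) + 1 := fun z =>
      (hlevel _).mp (hrange.le ⟨z, rfl⟩)
    -- `Z` is affine
    have hZ : IsAffine I.subscheme := by
      let σ := {J : Finset (Fin (n + 1)) // J.card = (i : ℕ) + 1}
      have hne : ∀ J : σ, Nonempty {j // j ∈ J.1} := fun J => by
        have : 0 < J.1.card := by rw [J.2]; omega
        obtain ⟨j, hj⟩ := Finset.card_pos.mp this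
        exact ⟨⟨j, hj⟩⟩
      let UJ : σ → X.Opens := fun J => ⨅ j : {j // j ∈ J.1}, U j.1
      have hUJ_mem : ∀ (J : σ) (x : X), x ∈ UJ J ↔ ∀ j ∈ J.1, x ∈ U j := fun J x => by
        rw [← SetLike.mem_coe, TopologicalSpace.Opens.coe_iInf]
        simp
      have hUJ_aff : ∀ J, IsAffineOpen (UJ J) := fun J =>
        have := hne J
        IsAffineOpen.iInf (fun j => hU j.1)
      have hUJ_c : ∀ (J : σ) (x : X), x ∈ UJ J → J.1 ⊆ F x := fun J x hx j hj =>
        (hF x j).mpr ((hUJ_mem J x).mp hx j hj)
      let V : σ → I.subscheme.Opens := fun J => ι ⁻¹ᵁ UJ J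
      refine isAffine_of_finite_disjoint_cover V ?_ ?_ ?_
      · intro J
        have hpre : IsPreimmersion (ι ∣_ UJ J) := inferInstance
        have hcl : IsClosed (Set.range (ι ∣_ UJ J)) := by
          have : Set.range (ι ∣_ UJ J) = Subtype.val ⁻¹' {x : X | (i : ℕ) + 2 ≤ c x}ᶜ := by
            ext ⟨x, hx⟩
            have hge : (i : ℕ) + 1 ≤ c x := by
              rw [← J.2]; exact Finset.card_le_card (hUJ_c J x hx)
            constructor
            · rintro ⟨z, hz⟩
              have hzx : ι z.1 = x := by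
                rw [← morphismRestrict_base_coe, hz]
              have := hcι z.1
              rw [hzx] at this
              show ¬ ((i : ℕ) + 2 ≤ c x)
              omega
            · intro (h : ¬ ((i : ℕ) + 2 ≤ c x))
              have hx' : x ∈ Set.range ι := by
                rw [hrange]; exact (hlevel x).mpr (by omega)
              obtain ⟨z, rfl⟩ := hx'
              exact ⟨⟨z, hx⟩, Subtype.ext (morphismRestrict_base_coe ι (UJ J) ⟨z, hx⟩)⟩
          rw [this]
          exact hCclosed.preimage continuous_subtype_val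
        have : IsClosedImmersion (ι ∣_ UJ J) := .of_isPreimmersion _ hcl
        have : IsAffine (UJ J).toScheme := hUJ_aff J
        exact (IsClosedImmersion.isAffine_surjective_of_isAffine (ι ∣_ UJ J)).1
      · rw [eq_top_iff]
        intro z _
        rw [TopologicalSpace.Opens.mem_iSup]
        refine ⟨⟨F (ι z), hcι z⟩, ?_⟩
        show ι z ∈ UJ _
        rw [hUJ_mem]
        intro j hj
        exact (hF _ j).mp hj
      · intro J J' hJJ'
        rw [Function.onFun, disjoint_iff_inf_le]
        rintro z ⟨h1, h2⟩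
        exfalso
        apply hJJ'
        have e1 : J.1 = F (ι z) :=
          Finset.eq_of_subset_of_card_le (hUJ_c J _ h1) (by rw [J.2]; exact (hcι z).le)
        have e2 : J'.1 = F (ι z) :=
          Finset.eq_of_subset_of_card_le (hUJ_c J' _ h2) (by rw [J'.2]; exact (hcι z).le)
        exact Subtype.ext (e1.trans e2.symm)
    refine ⟨I.subscheme, ι, inferInstance, hZ, ?_, hrange⟩
    have : IsAffineHom (ι ≫ terminal.from X) := inferInstance
    exact IsAffineHom.of_comp ι (terminal.from X)

end Groth.Agent.S1438
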