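import Groth.Statements.S14388
import Groth.Agent.Lib.Helper6.TStr

set_option autoImplicit false
open CategoryTheory CategoryTheory.Limits
universe w v u
open CohDer

namespace Groth.Agent.S14388

/-- Let A be an abelian category, D(A) its derived category with the canonical t-structure and
truncation functors τ_{≥a}, τ_{<b}, and write τ_[a,b] = τ_{≥a} ∘ τ_{<b+1}, so that τ_[q,q] K is
H^q(K) placed in degree q. Let f : K → K' be a morphism in D(A) and q an integer such that the
induced maps H^(q-1)(K) → H^(q-1)(K') and H^q(K) → H^q(K') are both zero. Then there is a unique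
morphism L : τ_[q,q] K → τ_[q-1,q-1] K' such that τ_[q-1,q](f) : τ_[q-1,q] K → τ_[q-1,q] K' is the
composite of the canonical projection τ_[q-1,q] K → τ_[q,q] K, the morphism L, and the canonical
inclusion τ_[q-1,q-1] K' → τ_[q-1,q] K'. (Under τ_[n,n] ≅ H^n(−)[−n] the morphism L corresponds to a
morphism L_f[−q] : H^q(K)[−q] → H^(q-1)(K')[1−q].) -/
theorem result {C : Type u} [Category.{v} C] [Abelian C]
    [HasDerivedCategory.{w} C] {K K' : DerivedCategory C} (f : K ⟶ K') (q : ℤ)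
    (h₁ : (DerivedCategory.homologyFunctor C (q - 1)).map f = 0)
    (h₂ : (DerivedCategory.homologyFunctor C q).map f = 0) :
    ∃! L : ((DerivedCategory.TStructure.t (C := C)).truncGELT q (q + 1)).obj K ⟶
        ((DerivedCategory.TStructure.t (C := C)).truncGELT (q - 1) q).obj K',
      ((DerivedCategory.TStructure.t (C := C)).truncGELT (q - 1) (q + 1)).map f =
        ((DerivedCategory.TStructure.t (C := C)).natTransTruncGEOfLE (q - 1) q (sub_one_lt q).le).app
            (((DerivedCategory.TStructure.t (C := C)).truncLT (q + 1)).obj K) ≫ L ≫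
          ((DerivedCategory.TStructure.t (C := C)).truncGE (q - 1)).map
            (((DerivedCategory.TStructure.t (C := C)).natTransTruncLTOfLE q (q + 1) (lt_add_one q).le).app K') := by
  have hab : ((q - 1 : ℤ) : EInt) ≤ ((q : ℤ) : EInt) :=
    WithBotTop.coe_le_coe.2 (sub_one_lt q).le
  have hbc : ((q : ℤ) : EInt) ≤ ((q + 1 : ℤ) : EInt) :=
    WithBotTop.coe_le_coe.2 (lt_add_one q).le
  let t := DerivedCategory.TStructure.t (C := C)
  let T := (t.triangleω₁δ _ _ _ hab hbc).obj K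
  let T' := (t.triangleω₁δ _ _ _ hab hbc).obj K'
  have hT : T ∈ distTriang _ := t.triangleω₁δ_distinguished _ _ _ hab hbc K
  have hT' : T' ∈ distTriang _ := t.triangleω₁δ_distinguished _ _ _ hab hbc K'
  have i1 : t.IsLE T.obj₁ (q - 1) := by
    change t.IsLE ((t.truncGE (q - 1)).obj ((t.truncLT q).obj K)) (q - 1)
    infer_instance
  have i2 : t.IsLE T.obj₂ q := by
    change t.IsLE ((t.truncGE (q - 1)).obj ((t.truncLT (q + 1)).obj K)) q
    infer_instance
  have i3 : t.IsGE T'.obj₁ (q - 1) := by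
    change t.IsGE ((t.truncGE (q - 1)).obj ((t.truncLT q).obj K')) (q - 1)
    infer_instance
  have i4 : t.IsGE T'.obj₃ q := by
    change t.IsGE ((t.truncGE q).obj ((t.truncLT (q + 1)).obj K')) q
    infer_instance
  let Φ := (t.triangleω₁δ _ _ _ hab hbc).map f
  have hΦ1 : Φ.hom₁ = (t.truncGELT (q - 1) q).map f := rfl
  have hΦ2 : Φ.hom₂ = (t.truncGELT (q - 1) (q + 1)).map f := rfl
  have hΦ3 : Φ.hom₃ = (t.truncGELT q (q + 1)).map f := rfl
  have z1 : Φ.hom₁ = 0 := by
    rw [hΦ1]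
    exact Lib.Helper6.TStr.truncGELT_map_eq_zero f (q - 1) q (by omega) h₁
  have z3 : Φ.hom₃ = 0 := by
    rw [hΦ3]
    exact Lib.Helper6.TStr.truncGELT_map_eq_zero f q (q + 1) rfl h₂
  have cm1 : T.mor₁ ≫ Φ.hom₂ = Φ.hom₁ ≫ T'.mor₁ := Φ.comm₁
  have cm2 : T.mor₂ ≫ Φ.hom₃ = Φ.hom₂ ≫ T'.mor₂ := Φ.comm₂
  have c1 : T.mor₁ ≫ Φ.hom₂ = 0 := by
    rw [cm1, z1, zero_comp]
  have c2 : Φ.hom₂ ≫ T'.mor₂ = 0 := by
    rw [← cm2, z3, comp_zero]
  have key := Lib.Helper6.TStr.existsUnique_factor t q T T' hT hT' Φ.hom₂ c1 c2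
  have e1 : T'.mor₁ =
      (t.truncGE (q - 1)).map ((t.natTransTruncLTOfLE q (q + 1) (lt_add_one q).le).app K') := by
    change ((t.triangleω₁δ _ _ _ hab hbc).obj K').mor₁ = _
    rw [Triangulated.TStructure.triangleω₁δ_obj_mor₁]
    rfl
  have e2 : T.mor₂ =
      (t.natTransTruncGEOfLE (q - 1) q (sub_one_lt q).le).app ((t.truncLT (q + 1)).obj K) := by
    change ((t.triangleω₁δ _ _ _ hab hbc).obj K).mor₂ = _
    rw [Triangulated.TStructure.triangleω₁δ_obj_mor₂]
    rfl
  obtain ⟨L, hL, hu⟩ := key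
  refine ⟨L, ?_, ?_⟩
  · exact (hΦ2.symm.trans hL).trans (by rw [e1, e2]; rfl)
  · intro L' hL'
    apply hu L'
    exact (hΦ2.trans hL').trans (by rw [e1, e2]; rfl)

end Groth.Agent.S14388
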