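import Groth.Statements.S14389
-- import your own Groth.Agent.* helpers here
import Groth.Agent.Lib.Helper55.HmapComp
import Groth.Agent.S8536

set_option autoImplicit false
open CategoryTheory CategoryTheory.Limits AlgebraicGeometry Opposite
universe u
open EtLim

namespace Groth.Agent.S14389

open Abelian Groth.Agent.Lib.Helper55.HmapComp

lemma pullbackCongr_rfl {A C : Scheme.{u}} (k : A ⟶ C) :
    (MorphismProperty.Over.pullbackCongr (P := EtCoh.etaleMP) (Q := ⊤) (rfl : k = k)) = Iso.refl _ := by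
  ext U
  simp [MorphismProperty.Over.pullbackCongr]
  rfl

set_option backward.isDefEq.respectTransparency.types false in
lemma pushCongr_rfl_hom_app {A C : Scheme.{u}} (k : A ⟶ C) (G : EtCoh.Ab A) :
    (EtCoh.pushCongr (rfl : k = k)).hom.app G = 𝟙 _ := by
  apply Sheaf.hom_ext
  ext U : 2
  have h1 : ((EtCoh.pushCongr (rfl : k = k)).hom.app G).hom.app U =
      G.obj.map ((MorphismProperty.Over.pullbackCongr (P := EtCoh.etaleMP) (Q := ⊤) (rfl : k = k)).inv.app U.unop).op := rfl
  rw [h1, pullbackCongr_rfl]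
  exact G.obj.map_id _

lemma unit_comp_push_pullComp {A B C : Scheme.{u}} (a : A ⟶ B) (b : B ⟶ C) (G : EtCoh.Ab C) :
    (EtCoh.pullPushAdj (a ≫ b)).unit.app G ≫
        (EtCoh.push (a ≫ b)).map ((EtCore.pullComp a b).hom.app G) =
      ((EtCoh.pullPushAdj b).unit.app G ≫
        (EtCoh.push b).map ((EtCoh.pullPushAdj a).unit.app ((EtCoh.pull b).obj G))) ≫
        (EtCoh.pushComp b a).hom.app ((EtCoh.pull a).obj ((EtCoh.pull b).obj G)) := by
  have h1 := Adjunction.unit_leftAdjointUniq_hom_app (EtCoh.pullPushAdj (a ≫ b))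
    (((EtCoh.pullPushAdj b).comp (EtCoh.pullPushAdj a)).ofNatIsoRight (EtCoh.pushComp b a)) G
  refine h1.trans ?_
  simp [Adjunction.ofNatIsoRight]

lemma unit_comp_push_bc0 {X Y X' Y' : Scheme.{u}} (f : X ⟶ Y) (g : Y' ⟶ Y) (f' : X' ⟶ Y')
    (g' : X' ⟶ X) (w : g' ≫ f = f' ≫ g) (F : EtCoh.Ab X) :
    (EtCoh.pullPushAdj g).unit.app ((EtCoh.push f).obj F) ≫
        (EtCoh.push g).map (EtCoh.baseChange0 f g f' g' w F) =
      (EtCoh.push f).map ((EtCoh.pullPushAdj g').unit.app F) ≫
        (EtCoh.pushComp f g').hom.app _ ≫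
        (EtCoh.pushCongr w).hom.app _ ≫ (EtCoh.pushComp g f').inv.app _ := by
  have h1 := (EtCoh.pullPushAdj g).homEquiv_unit (f := EtCoh.baseChange0 f g f' g' w F)
  exact h1.symm.trans (Equiv.apply_symm_apply _ _)

/-- transpose under `(a ≫ b)^* ⊣ (a ≫ b)_*` of a morphism built from `φ : b^*G ⟶ a_*M` -/
lemma transpose_comp {A B C : Scheme.{u}} (a : A ⟶ B) (b : B ⟶ C) (G : EtCoh.Ab C) (M : EtCoh.Ab A)
    (φ : (EtCoh.pull b).obj G ⟶ (EtCoh.push a).obj M) :
    (EtCoh.pullPushAdj (a ≫ b)).unit.app G ≫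
        (EtCoh.push (a ≫ b)).map ((EtCore.pullComp a b).hom.app G ≫ (EtCoh.pull a).map φ ≫
          (EtCoh.pullPushAdj a).counit.app M) =
      (EtCoh.pullPushAdj b).unit.app G ≫ (EtCoh.push b).map φ ≫ (EtCoh.pushComp b a).hom.app M := by
  have n1 : (EtCoh.push b).map ((EtCoh.push a).map ((EtCoh.pull a).map φ ≫
        (EtCoh.pullPushAdj a).counit.app M)) ≫ (EtCoh.pushComp b a).hom.app M =
      (EtCoh.pushComp b a).hom.app _ ≫ (EtCoh.push (a ≫ b)).map ((EtCoh.pull a).map φ ≫
        (EtCoh.pullPushAdj a).counit.app M) :=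
    (EtCoh.pushComp b a).hom.naturality _
  have n2 : φ ≫ (EtCoh.pullPushAdj a).unit.app _ =
      (EtCoh.pullPushAdj a).unit.app _ ≫ (EtCoh.push a).map ((EtCoh.pull a).map φ) :=
    (EtCoh.pullPushAdj a).unit.naturality φ
  have n3 := (EtCoh.pullPushAdj a).right_triangle_components M
  have key0 : (EtCoh.pullPushAdj a).unit.app _ ≫ (EtCoh.push a).map ((EtCoh.pull a).map φ ≫
        (EtCoh.pullPushAdj a).counit.app M) = φ := by
    have h1 := (EtCoh.pullPushAdj a).homEquiv_unit (f := (EtCoh.pull a).map φ ≫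
        (EtCoh.pullPushAdj a).counit.app M)
    have h2 := (EtCoh.pullPushAdj a).homEquiv_counit (g := φ)
    exact h1.symm.trans ((congrArg _ h2.symm).trans (Equiv.apply_symm_apply _ _))
  have key : (EtCoh.push b).map ((EtCoh.pullPushAdj a).unit.app ((EtCoh.pull b).obj G)) ≫
      (EtCoh.push b).map ((EtCoh.push a).map ((EtCoh.pull a).map φ ≫
        (EtCoh.pullPushAdj a).counit.app M)) = (EtCoh.push b).map φ :=
    ((EtCoh.push b).map_comp _ _).symm.trans (congrArg (EtCoh.push b).map key0)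
  rw [Functor.map_comp, ← Category.assoc, unit_comp_push_pullComp]
  simp only [Category.assoc]
  rw [← n1, reassoc_of% key]

lemma transpose_congr {A C : Scheme.{u}} {k k' : A ⟶ C} (e : k = k') (G : EtCoh.Ab C)
    (M : EtCoh.Ab A) (ψ : (EtCoh.pull k').obj G ⟶ M) :
    ((EtCoh.pullPushAdj k).unit.app G ≫
        (EtCoh.push k).map ((EtCore.pullCongr e).hom.app G ≫ ψ)) ≫ (EtCoh.pushCongr e).hom.app M =
      (EtCoh.pullPushAdj k').unit.app G ≫ (EtCoh.push k').map ψ := by
  subst e
  rw [pushCongr_rfl_hom_app, Category.comp_id]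
  simp [EtCore.pullCongr]

theorem psi_eq {X Y X' Y' : Scheme.{u}} (f : X ⟶ Y) (g : Y' ⟶ Y) (f' : X' ⟶ Y')
    (g' : X' ⟶ X) (w : g' ≫ f = f' ≫ g) (F : EtCoh.Ab X) :
    (EtCore.pullComp g' f).hom.app ((EtCoh.push f).obj F) ≫
        (EtCoh.pull g').map ((EtCoh.pullPushAdj f).counit.app F) =
      (EtCore.pullCongr w).hom.app ((EtCoh.push f).obj F) ≫
        (EtCore.pullComp f' g).hom.app ((EtCoh.push f).obj F) ≫
          (EtCoh.pull f').map (EtCoh.baseChange0 f g f' g' w F) ≫
            (EtCoh.pullPushAdj f').counit.app ((EtCoh.pull g').obj F) := by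
  apply ((EtCoh.pullPushAdj (g' ≫ f)).homEquiv _ _).injective
  rw [Adjunction.homEquiv_unit, Adjunction.homEquiv_unit,
    ← cancel_mono ((EtCoh.pushCongr w).hom.app ((EtCoh.pull g').obj F))]
  rw [transpose_congr w ((EtCoh.push f).obj F) ((EtCoh.pull g').obj F)
    ((EtCore.pullComp f' g).hom.app ((EtCoh.push f).obj F) ≫
          (EtCoh.pull f').map (EtCoh.baseChange0 f g f' g' w F) ≫
            (EtCoh.pullPushAdj f').counit.app ((EtCoh.pull g').obj F)),
    transpose_comp, ← Category.assoc, unit_comp_push_bc0]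
  have t := (EtCoh.pullPushAdj g').left_triangle_components F
  have e1 : (EtCoh.pull g').map ((EtCoh.pullPushAdj f).counit.app F) =
      (EtCoh.pull g').map ((EtCoh.pullPushAdj f).counit.app F ≫ (EtCoh.pullPushAdj g').unit.app F) ≫
        (EtCoh.pullPushAdj g').counit.app ((EtCoh.pull g').obj F) :=
    ((Category.comp_id _).symm.trans
      (congrArg (fun t => (EtCoh.pull g').map ((EtCoh.pullPushAdj f).counit.app F) ≫ t) t.symm)).trans
      ((Category.assoc _ _ _).symm.trans
        (congrArg (fun t => t ≫ (EtCoh.pullPushAdj g').counit.app ((EtCoh.pull g').obj F))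
          ((EtCoh.pull g').map_comp _ _).symm))
  rw [e1, transpose_comp]
  simp

theorem Hpull_congr {A C : Scheme.{u}} {k k' : A ⟶ C} (e : k = k')
    [PreservesFiniteLimits (EtCoh.pull k)] [PreservesFiniteLimits (EtCoh.pull k')]
    (G : EtCoh.Ab C) (n : ℕ) (x : EtCoh.H C G n) :
    EtCore.Hpull k' G n x =
      (EtCore.Hpull k G n x).comp (Ext.mk₀ ((EtCore.pullCongr e).hom.app G)) (add_zero n) := by
  subst e
  have h1 : (EtCore.pullCongr (rfl : k = k)).hom.app G = 𝟙 _ := by simp [EtCore.pullCongr]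
  rw [h1, Ext.comp_mk₀_id]

end Groth.Agent.S14389

namespace Groth.Agent.S14389

/-- For small étale sites of schemes: let g' ≫ f = f' ≫ g be a commutative square of schemes with f : X
→ Y, g : Y' → Y, f' : X' → Y', g' : X' → X, and let F be an abelian sheaf on the small étale site of
X. For every q and every class ζ in H^q(Y_ét, f_*F), the pullback along g' of the image of ζ under
the canonical map H^q(Y, f_*F) → H^q(X, F) (pull back along f, then apply the counit f⁻¹f_*F → F)
equals the image of g^*ζ ∈ H^q(Y', g⁻¹f_*F) under the map induced by the base-change morphism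
g⁻¹f_*F → f'_*g'⁻¹F followed by the canonical map H^q(Y', f'_*g'⁻¹F) → H^q(X', g'⁻¹F). (The
published statement is for a commutative square of topoi with a chosen isomorphism f_*g'_* ≅
g_*f'_*; this row is the square of étale topoi of schemes. Exactness of pullback of abelian sheaves,
which always holds, is carried as instance hypotheses.) -/
theorem result {X Y X' Y' : Scheme.{u}} (f : X ⟶ Y)
    (g : Y' ⟶ Y) (f' : X' ⟶ Y') (g' : X' ⟶ X) (w : g' ≫ f = f' ≫ g) (F : EtCoh.Ab X) (q : ℕ)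
    [PreservesFiniteLimits (EtCoh.pull f)] [PreservesFiniteLimits (EtCoh.pull g)]
    [PreservesFiniteLimits (EtCoh.pull f')] [PreservesFiniteLimits (EtCoh.pull g')]
    (ζ : EtCoh.H Y ((EtCoh.push f).obj F) q) :
    EtCore.Hpull g' F q (EtLim.HofPush f F q ζ) =
      EtLim.HofPush f' ((EtCoh.pull g').obj F) q
        (((EtCoh.HF Y' q).map (EtCoh.baseChange0 f g f' g' w F)).hom
          (EtCore.Hpull g ((EtCoh.push f).obj F) q ζ)) := by
  have hL : EtCore.Hpull g' F q (EtLim.HofPush f F q ζ) =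
      (EtCore.Hpull (g' ≫ f) ((EtCoh.push f).obj F) q ζ).comp
        (Abelian.Ext.mk₀ ((EtCore.pullComp g' f).hom.app ((EtCoh.push f).obj F) ≫
          (EtCoh.pull g').map ((EtCoh.pullPushAdj f).counit.app F))) (add_zero q) := by
    have h0 : EtLim.HofPush f F q ζ = (EtCore.Hpull f ((EtCoh.push f).obj F) q ζ).comp
        (Abelian.Ext.mk₀ ((EtCoh.pullPushAdj f).counit.app F)) (add_zero q) := rfl
    rw [h0, Groth.Agent.S8536.Hpull_comp_mk₀,
      Groth.Agent.Lib.Helper55.HmapComp.Hpull_comp g' f ((EtCoh.push f).obj F) q ζ,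
      Abelian.Ext.comp_assoc_of_third_deg_zero, Abelian.Ext.mk₀_comp_mk₀, Iso.inv_hom_id_app_assoc]
  have hR : EtLim.HofPush f' ((EtCoh.pull g').obj F) q
        (((EtCoh.HF Y' q).map (EtCoh.baseChange0 f g f' g' w F)).hom
          (EtCore.Hpull g ((EtCoh.push f).obj F) q ζ)) =
      (EtCore.Hpull (f' ≫ g) ((EtCoh.push f).obj F) q ζ).comp
        (Abelian.Ext.mk₀ ((EtCore.pullComp f' g).hom.app ((EtCoh.push f).obj F) ≫
          (EtCoh.pull f').map (EtCoh.baseChange0 f g f' g' w F) ≫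
            (EtCoh.pullPushAdj f').counit.app ((EtCoh.pull g').obj F))) (add_zero q) := by
    have h0 : EtLim.HofPush f' ((EtCoh.pull g').obj F) q
        (((EtCoh.HF Y' q).map (EtCoh.baseChange0 f g f' g' w F)).hom
          (EtCore.Hpull g ((EtCoh.push f).obj F) q ζ)) =
        (EtCore.Hpull f' _ q ((EtCore.Hpull g ((EtCoh.push f).obj F) q ζ).comp
          (Abelian.Ext.mk₀ (EtCoh.baseChange0 f g f' g' w F)) (add_zero q))).comp
        (Abelian.Ext.mk₀ ((EtCoh.pullPushAdj f').counit.app ((EtCoh.pull g').obj F))) (add_zero q) := rfl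
    rw [h0, Groth.Agent.S8536.Hpull_comp_mk₀,
      Groth.Agent.Lib.Helper55.HmapComp.Hpull_comp f' g ((EtCoh.push f).obj F) q ζ]
    simp only [Abelian.Ext.comp_assoc_of_third_deg_zero, Abelian.Ext.mk₀_comp_mk₀,
      Iso.inv_hom_id_app_assoc]
  rw [hL, hR, Hpull_congr w ((EtCoh.push f).obj F) q ζ, Abelian.Ext.comp_assoc_of_third_deg_zero,
    Abelian.Ext.mk₀_comp_mk₀, psi_eq f g f' g' w F]


end Groth.Agent.S14389
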