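import Mathlib
import Groth.Statements.S14390

set_option autoImplicit false
open CategoryTheory CategoryTheory.Limits AlgebraicGeometry Opposite
universe u
open CAlg

namespace Groth.Agent.S14390

theorem result (V : Type u) [CommRing V] [IsDomain V]
    [IsDiscreteValuationRing V] [CharZero V] (ϖ : V) (hϖ : Irreducible ϖ) (p : ℕ) [Fact p.Prime]
    [CharP (IsLocalRing.ResidueField V) p] [PerfectField (IsLocalRing.ResidueField V)]
    {X Y : Scheme.{u}} (pX : X ⟶ Spec (CommRingCat.of V)) (pY : Y ⟶ Spec (CommRingCat.of V))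
    [LocallyOfFiniteType pX] [QuasiCompact pX] [LocallyOfFiniteType pY] [QuasiCompact pY]
    (f : X ⟶ Y) (w : f ≫ pY = pX) (hcl : IsClosedMap f.base)
    (hη : ∃ U : X.Opens, U ⊔ pX ⁻¹ᵁ (PrimeSpectrum.basicOpen ϖ : (Spec (CommRingCat.of V)).Opens) = ⊤ ∧
      Etale ((U ⊓ pX ⁻¹ᵁ (PrimeSpectrum.basicOpen ϖ : (Spec (CommRingCat.of V)).Opens)).ι ≫ f)) :
    ∃ W : Y.Opens, W ⊔ pY ⁻¹ᵁ (PrimeSpectrum.basicOpen ϖ : (Spec (CommRingCat.of V)).Opens) = ⊤ ∧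
      Etale ((f ⁻¹ᵁ W ⊓ pX ⁻¹ᵁ (PrimeSpectrum.basicOpen ϖ : (Spec (CommRingCat.of V)).Opens)).ι ≫ f) := by
  obtain ⟨U, hU, hEt⟩ := hη
  set D : (Spec (CommRingCat.of V)).Opens := PrimeSpectrum.basicOpen ϖ with hD
  let W : Y.Opens := ⟨(f.base '' ((U : Set X)ᶜ))ᶜ,
    (hcl _ U.isOpen.isClosed_compl).isOpen_compl⟩
  have hWU : f ⁻¹ᵁ W ≤ U := by
    intro x hx
    by_contra hxU
    exact hx ⟨x, hxU, rfl⟩
  refine ⟨W, ?_, ?_⟩
  · rw [eq_top_iff]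
    intro y _
    by_cases hy : y ∈ W
    · exact Or.inl hy
    · right
      have hy' : y ∈ f.base '' ((U : Set X)ᶜ) := by
        by_contra h
        exact hy h
      obtain ⟨x, hxU, rfl⟩ := hy'
      have hx : x ∈ U ⊔ pX ⁻¹ᵁ D := by rw [hU]; trivial
      rcases hx with hx | hx
      · exact absurd hx hxU
      · change pY.base (f.base x) ∈ D
        have : pY.base (f.base x) = pX.base x := by
          rw [← w]; rfl
        rw [this]
        exact hx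
  · have hle : f ⁻¹ᵁ W ⊓ pX ⁻¹ᵁ D ≤ U ⊓ pX ⁻¹ᵁ D := inf_le_inf_right _ hWU
    have : (f ⁻¹ᵁ W ⊓ pX ⁻¹ᵁ D).ι ≫ f = X.homOfLE hle ≫ ((U ⊓ pX ⁻¹ᵁ D).ι ≫ f) := by
      rw [← Category.assoc, Scheme.homOfLE_ι]
    rw [this]
    infer_instance

end Groth.Agent.S14390
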