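import Groth.Statements.S14397
-- import your own Groth.Agent.* helpers here

set_option autoImplicit false
universe u
open DualGr

namespace Groth.Agent.S14397

/-- Let (V, E) with endpoint map E → V × V be a finite multigraph (loops and parallel edges allowed; the
order of the two endpoints is an auxiliary orientation), and let D_1, …, D_n be finite sets of edges
such that every edge lies outside at least one D_i. For each i let Γ_i be the multigraph obtained by
contracting the edges of D_i, and let H₁(Γ, ℤ) → H₁(Γ_i, ℤ) be the map of cycle lattices (integer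
edge vectors with zero boundary) given by restriction to the surviving edges. Then the map H₁(Γ, ℤ)
→ ⊕_i H₁(Γ_i, ℤ) has torsion-free cokernel. (The published statement is about the connected labelled
dual graph of the closed fibre of a nodal curve, smooth outside a normal crossing divisor with
components D_1, …, D_n, over a Noetherian regular strictly local base; Γ_i is the dual graph of the
fibre over the generic point of D_i, the lattices are identified with the character groups of the
toric parts of the Picard schemes of these fibres, and the map is the generization map of character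
groups; this row states the assertion about cycle lattices, for any finite multigraph, which is what
the argument establishes.) -/
theorem result
    {V E : Type u} [Fintype V] [Fintype E] [DecidableEq V] [DecidableEq E]
    (ends : E → V × V) {n : ℕ} (D : Fin n → Finset E) (hcover : ∀ e : E, ∃ i : Fin n, e ∉ D i) :
    IsAddTorsionFree (((i : Fin n) → ↥(DualGr.cycleLattice (DualGr.ctrEnds ends (D i)))) ⧸
      LinearMap.range (LinearMap.pi fun i : Fin n => DualGr.genMap ends (D i))) := by
  constructor
  intro k hk a b hab
  simp only at hab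
  obtain ⟨x, rfl⟩ := Submodule.Quotient.mk_surjective _ a
  obtain ⟨y, rfl⟩ := Submodule.Quotient.mk_surjective _ b
  rw [← Submodule.Quotient.mk_smul, ← Submodule.Quotient.mk_smul, Submodule.Quotient.eq] at hab
  rw [Submodule.Quotient.eq]
  obtain ⟨γ, hγ⟩ := hab
  have hkZ : (k : ℤ) ≠ 0 := by exact_mod_cast hk
  have hval : ∀ (i : Fin n) (e' : DualGr.CtrEdge (D i)),
      γ.1 e'.1 = (k : ℤ) * ((x i).1 e' - (y i).1 e') := by
    intro i e'
    have h1 := congrFun hγ i
    have h2 := congrArg (fun z : ↥(DualGr.cycleLattice (DualGr.ctrEnds ends (D i))) =>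
      (z : DualGr.CtrEdge (D i) → ℤ) e') h1
    simp only [LinearMap.pi_apply, Pi.sub_apply, Pi.smul_apply] at h2
    have h3 : ((DualGr.genMap ends (D i) γ : ↥(DualGr.cycleLattice (DualGr.ctrEnds ends (D i)))) :
        DualGr.CtrEdge (D i) → ℤ) e' = γ.1 e'.1 := rfl
    rw [h3] at h2
    rw [h2]
    simp only [Submodule.coe_sub, AddSubmonoidClass.coe_nsmul, Pi.sub_apply, Pi.smul_apply]
    simp only [nsmul_eq_mul]
    ring
  have hdiv : ∀ e : E, (k : ℤ) ∣ γ.1 e := by
    intro e
    obtain ⟨i, hi⟩ := hcover e
    exact ⟨_, hval i ⟨e, hi⟩⟩
  choose γ' hγ' using hdiv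
  have hγ'cyc : γ' ∈ DualGr.cycleLattice ends := by
    change DualGr.boundaryHom ends γ' = 0
    have h1 : DualGr.boundaryHom ends γ.1 = 0 := γ.2
    have h2 : γ.1 = (k : ℤ) • γ' := by
      funext e
      rw [hγ' e]
      rfl
    rw [h2, map_smul] at h1
    funext v
    have h3 := congrFun h1 v
    simp only [Pi.smul_apply, smul_eq_mul, Pi.zero_apply] at h3
    rcases mul_eq_zero.mp h3 with h4 | h4
    · exact absurd h4 hkZ
    · exact h4
  refine ⟨⟨γ', hγ'cyc⟩, ?_⟩
  funext i
  apply Subtype.ext
  funext e'
  have h3 : ((DualGr.genMap ends (D i) ⟨γ', hγ'cyc⟩ :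
      ↥(DualGr.cycleLattice (DualGr.ctrEnds ends (D i)))) :
      DualGr.CtrEdge (D i) → ℤ) e' = γ' e'.1 := rfl
  have h4 := hval i e'
  rw [hγ' e'.1] at h4
  have h5 := mul_left_cancel₀ hkZ h4
  simp only [LinearMap.pi_apply, Pi.sub_apply, Submodule.coe_sub]
  rw [h3, h5]


end Groth.Agent.S14397
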