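import Groth.Statements.S1440
import Groth.Agent.H72.SpreadSectionSch
import Groth.Agent.Lib.Helper16.ProCons

set_option autoImplicit false
universe u
open FlatMor

namespace Groth.Agent.S1440

open AlgebraicGeometry CategoryTheory Limits in
/-- Let f : X → Y be locally of finite presentation with Y quasi-compact and quasi-separated, and assume
f is completely decomposed: every point y of Y is the image of a point x at which the residue field
extension is trivial. Then there are finitely many immersions Z_i → Y of finite presentation,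
jointly surjective, such that each base change X ×_Y Z_i → Z_i admits a section. -/
theorem result {X Y : Scheme.{u}} (f : X ⟶ Y) [LocallyOfFinitePresentation f] [CompactSpace ↑Y] [QuasiSeparatedSpace ↑Y]
    (hcd : ∀ y : Y, ∃ x : X, f x = y ∧ Function.Bijective (f.residueFieldMap x)) :
    ∃ (n : ℕ) (Z : Fin n → Scheme.{u}) (z : ∀ i, Z i ⟶ Y), (∀ y : Y, ∃ i, y ∈ Set.range ⇑(z i)) ∧
      ∀ i, IsImmersion (z i) ∧ LocallyOfFinitePresentation (z i) ∧ QuasiCompact (z i) ∧ QuasiSeparated (z i) ∧
        ∃ s : Z i ⟶ pullback f (z i), s ≫ pullback.snd f (z i) = 𝟙 (Z i) := by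
  classical
  have key : ∀ y : Y, ∃ (Z : Scheme.{u}) (z : Z ⟶ Y), y ∈ Set.range ⇑z ∧ IsImmersion z ∧
      LocallyOfFinitePresentation z ∧ QuasiCompact z ∧ QuasiSeparated z ∧
      ∃ s : Z ⟶ pullback f z, s ≫ pullback.snd f z = 𝟙 Z := by
    intro y
    obtain ⟨x, rfl, hbij⟩ := hcd y
    obtain ⟨U, hU, hyU, -⟩ := TopologicalSpace.Opens.isBasis_iff_nbhd.mp Y.isBasis_affineOpens
      (show f x ∈ (⊤ : Y.Opens) from trivial)
    obtain ⟨V, hV, hxV, hVU⟩ := TopologicalSpace.Opens.isBasis_iff_nbhd.mp X.isBasis_affineOpens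
      (show x ∈ f ⁻¹ᵁ U from hyU)
    exact Groth.Agent.H72.SpreadSectionSch.local_claim f x hbij hU hV hyU hxV hVU
  choose Z z hy himm hfp hqc hqs hs using key
  have hcons : ∀ y, Topology.IsConstructible (Set.range (z y))ᶜ := fun y => by
    have := (z y).isConstructible_image (s := Set.univ) Topology.IsConstructible.univ
    rw [Set.image_univ] at this
    exact this.compl
  obtain ⟨t, ht⟩ := Groth.Agent.Lib.Helper16.exists_finset_iInter_eq_empty
    (fun y => (Set.range (z y))ᶜ) hcons (by
      ext y'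
      simp only [Set.mem_iInter, Set.mem_compl_iff, Set.mem_empty_iff_false, iff_false, not_forall,
        not_not]
      exact ⟨y', hy y'⟩)
  refine ⟨t.card, fun i => Z (t.equivFin.symm i), fun i => z (t.equivFin.symm i), ?_, ?_⟩
  · intro y'
    have : y' ∉ ⋂ i ∈ t, (Set.range (z i))ᶜ := by rw [ht]; exact Set.notMem_empty _
    simp only [Set.mem_iInter, Set.mem_compl_iff, not_forall, not_not] at this
    obtain ⟨i, hi, hyi⟩ := this
    refine ⟨t.equivFin ⟨i, hi⟩, ?_⟩
    have key2 : ∀ (j : {y // y ∈ t}), (j : Y) = i → y' ∈ Set.range ⇑(z ↑j) := by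
      rintro ⟨j, hj⟩ rfl
      exact hyi
    exact key2 _ (by rw [Equiv.symm_apply_apply])
  · intro i
    exact ⟨himm _, hfp _, hqc _, hqs _, hs _⟩

end Groth.Agent.S1440
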