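import Groth.Statements.S14400
import Groth.Agent.Lib.Helper38.GaloisDescMor
import Groth.Agent.Lib.Helper50.GeomScheme

set_option autoImplicit false
universe u
open CategoryTheory CategoryTheory.Limits AlgebraicGeometry
open Desc

namespace Groth.Agent.S14400

/-- Let K/k be a finite Galois extension of fields, X and Y schemes over k with base changes X_K and
Y_K, and g : X_K ⟶ Y_K a morphism over Spec K. Then g is the base change of a k-morphism f : X ⟶ Y
(that is, g followed by the projection Y_K ⟶ Y is the projection X_K ⟶ X followed by f) if and only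
if g commutes with the action of every k-automorphism σ of K on X_K and on Y_K (the identity on X,
resp. Y, and Spec σ on the factor Spec K). In other words the image of the k-morphisms X ⟶ Y among
the K-morphisms X_K ⟶ Y_K is exactly the set of Galois-invariant ones. -/
theorem result (k : Type u) [Field k] (K : Type u) [Field K]
    [Algebra k K] [FiniteDimensional k K] [IsGalois k K]
    (X Y : Scheme.{u}) [X.Over (Spec (CommRingCat.of k))] [Y.Over (Spec (CommRingCat.of k))]
    (g : Curv2.bc k X K ⟶ Curv2.bc k Y K) (hg : g ≫ Curv2.bcSnd k Y K = Curv2.bcSnd k X K) :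
    (∃ f : X ⟶ Y, f ≫ (Y ↘ Spec (CommRingCat.of k)) = X ↘ Spec (CommRingCat.of k) ∧
        g ≫ Curv2.bcFst k Y K = Curv2.bcFst k X K ≫ f) ↔
      ∀ σ : K ≃ₐ[k] K, Curv2.galAct k X K σ ≫ g = g ≫ Curv2.galAct k Y K σ := by
  constructor
  · rintro ⟨f, hf, hgf⟩ σ
    apply pullback.hom_ext
    · have e1 := Groth.Agent.Lib.Helper38.GaloisOrbit.galAct_fst k Y K σ
      have e2 := Groth.Agent.Lib.Helper38.GaloisOrbit.galAct_fst k X K σ
      rw [Category.assoc, Category.assoc]
      erw [e1, hgf]
      rw [← Category.assoc]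
      erw [e2]
    · have e1 := Groth.Agent.Lib.Helper38.GaloisOrbit.galAct_snd k Y K σ
      have e2 := Groth.Agent.Lib.Helper38.GaloisOrbit.galAct_snd k X K σ
      rw [Category.assoc, Category.assoc]
      erw [e1, hg]
      rw [← Category.assoc]
      erw [hg, e2]
  · intro hσ
    set h := g ≫ Curv2.bcFst k Y K with hh
    have hinv : ∀ σ : K ≃ₐ[k] K, Curv2.galAct k X K σ ≫ h = h := by
      intro σ
      have e1 := Groth.Agent.Lib.Helper38.GaloisOrbit.galAct_fst k Y K σ
      rw [hh, ← Category.assoc, hσ σ, Category.assoc, e1]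
    haveI : Flat (Curv2.bcFst k X K) := inferInstance
    haveI : Surjective (Curv2.bcFst k X K) :=
      MorphismProperty.pullback_fst _ _ (Groth.Agent.Lib.Helper50.surjective_specMap_field _)
    haveI : QuasiCompact (Curv2.bcFst k X K) := inferInstance
    haveI : EffectiveEpi (Curv2.bcFst k X K) := inferInstance
    have compat : ∀ {Z : Scheme.{u}} (g₁ g₂ : Z ⟶ Curv2.bc k X K),
        g₁ ≫ Curv2.bcFst k X K = g₂ ≫ Curv2.bcFst k X K → g₁ ≫ h = g₂ ≫ h :=
      fun g₁ g₂ hg12 =>
        Groth.Agent.Lib.Helper38.GaloisDescMor.comp_eq_of_galois_invariant k K X h hinv g₁ g₂ hg12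
    let f := EffectiveEpi.desc (Curv2.bcFst k X K) h compat
    have hfac : Curv2.bcFst k X K ≫ f = h := EffectiveEpi.fac _ _ _
    refine ⟨f, ?_, hfac.symm⟩
    rw [← cancel_epi (Curv2.bcFst k X K), ← Category.assoc, hfac, hh, Category.assoc]
    have c1 : Curv2.bcFst k Y K ≫ (Y ↘ Spec (CommRingCat.of k)) =
        Curv2.bcSnd k Y K ≫ Spec.map (CommRingCat.ofHom (algebraMap k K)) := pullback.condition
    have c2 : Curv2.bcFst k X K ≫ (X ↘ Spec (CommRingCat.of k)) =
        Curv2.bcSnd k X K ≫ Spec.map (CommRingCat.ofHom (algebraMap k K)) := pullback.condition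
    rw [c1, c2, ← Category.assoc, hg]

end Groth.Agent.S14400
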