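import Mathlib
import Groth.Statements.S14401

set_option autoImplicit false
universe u
open CategoryTheory AlgebraicGeometry
open Props

namespace Groth.Agent.S14401

theorem result (X : Scheme.{u}) [AlgebraicGeometry.IsNoetherian X]
    (hX : ∀ x : X, IsDomain (X.presheaf.stalk x)) :
    (∀ Z ∈ irreducibleComponents (X : Type u), IsOpen Z) ∧
      ∀ x : X, ∃! Z, Z ∈ irreducibleComponents (X : Type u) ∧ x ∈ Z := by
  have key : ∀ x : X, ∀ Z ∈ irreducibleComponents X, x ∈ Z →
      Z = closure {X.fromSpecStalk x ⟨⊥, (have := hX x; Ideal.isPrime_bot)⟩} := by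
    intro x Z hZ hxZ
    have := hX x
    have hZcl := isClosed_of_mem_irreducibleComponents Z hZ
    obtain ⟨η, hη⟩ := QuasiSober.sober hZ.1 hZcl
    have hηx : η ⤳ x := by
      rw [specializes_iff_mem_closure, hη.def]; exact hxZ
    obtain ⟨q, hq⟩ : η ∈ Set.range (X.fromSpecStalk x) := by
      rw [Scheme.range_fromSpecStalk]; exact hηx
    let ξ : Spec (X.presheaf.stalk x) := ⟨⊥, Ideal.isPrime_bot⟩
    have h1 : ξ ⤳ q := (PrimeSpectrum.le_iff_specializes ξ q).mp bot_le
    have h2 : X.fromSpecStalk x ξ ⤳ η := hq ▸ h1.map (X.fromSpecStalk x).continuous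
    have h3 : Z ⊆ closure {X.fromSpecStalk x ξ} := by
      rw [← hη.def]
      exact closure_minimal (Set.singleton_subset_iff.mpr (specializes_iff_mem_closure.mp h2))
        isClosed_closure
    have h4 : closure {X.fromSpecStalk x ξ} ⊆ Z := hZ.2 isIrreducible_singleton.closure h3
    exact h3.antisymm h4
  have huniq : ∀ x : X, ∃! Z, Z ∈ irreducibleComponents X ∧ x ∈ Z := by
    intro x
    refine ⟨irreducibleComponent x,
      ⟨irreducibleComponent_mem_irreducibleComponents x, mem_irreducibleComponent⟩, ?_⟩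
    rintro Z ⟨hZ, hxZ⟩
    rw [key x Z hZ hxZ, key x _ (irreducibleComponent_mem_irreducibleComponents x)
      mem_irreducibleComponent]
  refine ⟨?_, huniq⟩
  intro Z hZ
  have hfin : (irreducibleComponents X).Finite :=
    TopologicalSpace.NoetherianSpace.finite_irreducibleComponents
  have hc : Zᶜ = ⋃₀ (irreducibleComponents X \ {Z}) := by
    ext y
    constructor
    · intro hy
      refine ⟨irreducibleComponent y,
        ⟨irreducibleComponent_mem_irreducibleComponents y, ?_⟩, mem_irreducibleComponent⟩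
      intro h
      rw [Set.mem_singleton_iff] at h
      exact hy (h ▸ mem_irreducibleComponent)
    · rintro ⟨Z', ⟨hZ', hne⟩, hyZ'⟩ hyZ
      exact hne ((huniq y).unique ⟨hZ', hyZ'⟩ ⟨hZ, hyZ⟩)
  rw [← isClosed_compl_iff, hc, Set.sUnion_eq_biUnion]
  exact Set.Finite.isClosed_biUnion (hfin.subset Set.sdiff_subset)
    (fun s hs => isClosed_of_mem_irreducibleComponents s hs.1)

end Groth.Agent.S14401
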