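import Groth.Statements.S14404
-- import your own Groth.Agent.* helpers here
import Groth.Agent.Lib.Helper55.FlatDim

set_option autoImplicit false
universe u
open CategoryTheory AlgebraicGeometry
open FlatMor

namespace Groth.Agent.S14404

open Groth.Agent.Lib.Helper55

/-- The pointwise dimension formula for a flat morphism between irreducible schemes locally of
finite type over a field. -/
theorem dim_eq_add (k : Type u) [Field k] {X Y : Scheme.{u}}
    (qY : Y ⟶ Spec (CommRingCat.of k)) [LocallyOfFiniteType qY]
    [IrreducibleSpace X] [IrreducibleSpace Y] (f : X ⟶ Y) [LocallyOfFiniteType f] [Flat f]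
    (y : Y) (z : ↥(f.fiber y)) :
    topologicalKrullDim X =
      (topologicalKrullDim ↥(closure ({z} : Set ↥(f.fiber y))) +
        ringKrullDim ((f.fiber y).presheaf.stalk z)) + topologicalKrullDim Y := by
  have hX : IsLocallyNoetherian X := LocallyOfFiniteType.isLocallyNoetherian (f ≫ qY)
  have hY : IsLocallyNoetherian Y := LocallyOfFiniteType.isLocallyNoetherian qY
  set x : X := f.fiberι y z with hx
  obtain ⟨a, b, ha, hb, hab⟩ := exists_dim_closure_eq_add' qY f y z x rfl
  have h1 := localDim_eq_topologicalKrullDim_of_irreducibleSpace (f ≫ qY) x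
  have h2 := localDim_eq_dim_closure_add_dim_stalk (f ≫ qY) x
  have h3 := localDim_eq_topologicalKrullDim_of_irreducibleSpace qY (f x)
  have h4 := localDim_eq_dim_closure_add_dim_stalk qY (f x)
  have h5 := dim_stalk_eq_of_flat f y z
  rw [← h1, h2, ← h3, h4, hab, ha, hb]
  change _ + ringKrullDim (X.presheaf.stalk x) = _
  rw [h5]
  push_cast
  change ((a : WithBot ℕ∞) + (b : WithBot ℕ∞)) + (ringKrullDim (Y.presheaf.stalk (f x)) +
      ringKrullDim ((f.fiber y).presheaf.stalk z)) =
    ((b : WithBot ℕ∞) + ringKrullDim ((f.fiber y).presheaf.stalk z)) +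
      ((a : WithBot ℕ∞) + ringKrullDim (Y.presheaf.stalk (f x)))
  abel

/-- Let k be a field, X and Y irreducible schemes of finite type over k and f : X ⟶ Y a flat k-morphism.
Then dim Y ≤ dim X, and for every point y of Y every irreducible component Z of the scheme-theoretic
fibre of f over y has dim Z + dim Y = dim X; that is, every non-empty fibre has all its irreducible
components of dimension dim X − dim Y. -/
theorem result (k : Type u) [Field k]
    {X Y : Scheme.{u}} (qX : X ⟶ Spec (CommRingCat.of k)) (qY : Y ⟶ Spec (CommRingCat.of k))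
    [LocallyOfFiniteType qX] [QuasiCompact qX] [LocallyOfFiniteType qY] [QuasiCompact qY]
    [IrreducibleSpace X] [IrreducibleSpace Y] (f : X ⟶ Y) (hf : f ≫ qY = qX) [Flat f] :
    topologicalKrullDim Y ≤ topologicalKrullDim X ∧
      ∀ (y : Y), ∀ Z ∈ irreducibleComponents (f.fiber y : Type u),
        topologicalKrullDim Z + topologicalKrullDim Y = topologicalKrullDim X := by
  have hlf : LocallyOfFiniteType (f ≫ qY) := hf ▸ ‹LocallyOfFiniteType qX›
  have hf' : LocallyOfFiniteType f := locallyOfFiniteType_of_comp f qY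
  constructor
  · obtain ⟨x⟩ : Nonempty X := inferInstance
    rw [dim_eq_add k qY f (f x) (f.asFiber x)]
    refine le_add_of_nonneg_left ?_
    obtain ⟨n, hn, -⟩ := exists_dim_closure_fiber_eq_trdeg f (f x) (f.asFiber x) _ rfl
    rw [hn]
    have h0 : (0 : WithBot ℕ∞) ≤ (n : WithBot ℕ∞) := by exact_mod_cast Nat.zero_le n
    exact add_nonneg h0 ringKrullDim_nonneg_of_nontrivial
  · intro y Z hZ
    obtain ⟨ζ, hζ⟩ := QuasiSober.sober hZ.1 (isClosed_of_mem_irreducibleComponents Z hZ)
    have hcl : closure ({ζ} : Set ↥(f.fiber y)) = Z := hζ.def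
    have hcomp : closure ({ζ} : Set ↥(f.fiber y)) ∈ irreducibleComponents (f.fiber y : Type u) := by
      rw [hcl]; exact hZ
    rw [dim_eq_add k qY f y ζ,
      ringKrullDim_stalk_eq_zero_of_closure_mem_irreducibleComponents ζ hcomp, add_zero, hcl]

end Groth.Agent.S14404
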