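import Groth.Statements.S14405
import Mathlib

set_option autoImplicit false
open Polynomial
open HilbNum

namespace Groth.Agent.S14405

/-- The polynomial `S_j` with `S_j(x) - S_j(x - 1) = x ^ j`. -/
noncomputable def S (j : ℕ) : ℚ[X] :=
  C ((j + 1 : ℚ)⁻¹) * (Polynomial.bernoulli (j + 1)).comp (1 + X)

theorem natDegree_bernoulli' (n : ℕ) : (Polynomial.bernoulli n).natDegree = n := by
  apply le_antisymm
  · rw [natDegree_le_iff_coeff_eq_zero]
    intro N hN
    rw [coeff_bernoulli, if_neg (by omega)]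
  · apply le_natDegree_of_ne_zero
    rw [coeff_bernoulli, if_pos le_rfl]
    simp

theorem natDegree_S (j : ℕ) : (S j).natDegree = j + 1 := by
  unfold S
  rw [natDegree_C_mul (by positivity), natDegree_comp, natDegree_bernoulli']
  have : (1 + X : ℚ[X]) = X + C 1 := by simp [add_comm]
  rw [this, natDegree_X_add_C, mul_one]

theorem eval_S_sub (j : ℕ) (x : ℚ) : (S j).eval x - (S j).eval (x - 1) = x ^ j := by
  unfold S
  simp only [eval_mul, eval_C, eval_comp, eval_add, eval_one, eval_X]
  have h := Polynomial.bernoulli_eval_one_add (j + 1) x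
  have h2 : (1 : ℚ) + (x - 1) = x := by ring
  rw [h2, h]
  have hj : (j + 1 : ℚ) ≠ 0 := by positivity
  simp only [Nat.add_sub_cancel, Nat.cast_add, Nat.cast_one]
  field_simp
  ring

theorem result (φ : ℤ → ℚ) (d : ℕ) (Q : ℚ[X]) (hQ : Q ≠ 0)
    (hd : Q.natDegree = d) (h : ∀ m : ℤ, φ m - φ (m - 1) = Q.eval (m : ℚ)) :
    ∃ P : ℚ[X], P.natDegree = d + 1 ∧ ∀ m : ℤ, φ m = P.eval (m : ℚ) := by
  set P₀ : ℚ[X] := ∑ j ∈ Finset.range (d + 1), C (Q.coeff j) * S j with hP₀
  have hP₀eval : ∀ x : ℚ, P₀.eval x - P₀.eval (x - 1) = Q.eval x := by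
    intro x
    rw [hP₀, eval_finsetSum, eval_finsetSum, ← Finset.sum_sub_distrib]
    rw [eval_eq_sum_range, hd]
    refine Finset.sum_congr rfl fun j _ => ?_
    rw [eval_mul, eval_mul, eval_C, eval_C, ← mul_sub, eval_S_sub]
  have hdeg : P₀.natDegree = d + 1 := by
    rw [hP₀, Finset.sum_range_succ]
    have hlead : (C (Q.coeff d) * S d).natDegree = d + 1 := by
      rw [natDegree_C_mul, natDegree_S]
      rw [← hd]
      exact leadingCoeff_ne_zero.mpr hQ
    have hlow : (∑ j ∈ Finset.range d, C (Q.coeff j) * S j).natDegree ≤ d := by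
      refine natDegree_sum_le_of_forall_le _ _ fun j hj => ?_
      refine (natDegree_C_mul_le _ _).trans ?_
      rw [natDegree_S]
      have := Finset.mem_range.mp hj
      omega
    rw [natDegree_add_eq_right_of_natDegree_lt (by omega), hlead]
  refine ⟨P₀ + C (φ 0 - P₀.eval 0), ?_, ?_⟩
  · rw [natDegree_add_C, hdeg]
  · have hstep : ∀ m : ℤ, φ m - (P₀ + C (φ 0 - P₀.eval 0)).eval (m : ℚ) =
        φ (m - 1) - (P₀ + C (φ 0 - P₀.eval 0)).eval ((m - 1 : ℤ) : ℚ) := by
      intro m
      have h1 := h m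
      have h2 := hP₀eval (m : ℚ)
      simp only [eval_add, eval_C, Int.cast_sub, Int.cast_one]
      linarith
    have hzero : ∀ m : ℤ, φ m - (P₀ + C (φ 0 - P₀.eval 0)).eval (m : ℚ) = 0 := by
      intro m
      induction m using Int.induction_on with
      | zero => simp
      | succ i ih =>
        have := hstep (i + 1)
        rw [add_sub_cancel_right] at this
        rw [this]; exact ih
      | pred i ih =>
        have := hstep (-i)
        rw [← this]; exact ih
    intro m
    linarith [hzero m]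

end Groth.Agent.S14405
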