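import Mathlib
import Groth.Statements.S14410

set_option autoImplicit false
universe u
open CategoryTheory TopologicalSpace
open CohTop

namespace Groth.Agent.S14410

open Opposite TopCat

theorem result (X : TopCat.{u})
    (S : ShortComplex (TopCat.Sheaf AddCommGrpCat.{u} X)) (hS : S.ShortExact)
    [S.X₁.IsFlasque] [S.X₃.IsFlasque] : S.X₂.IsFlasque := by
  constructor
  intro U V i
  rw [AddCommGrpCat.epi_iff_surjective]
  intro s
  -- lift g(s) to r on U
  obtain ⟨r, hr⟩ := (AddCommGrpCat.epi_iff_surjective (S.X₃.obj.map i)).mp inferInstance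
    (S.g.hom.app V s)
  -- r = g(t₁)
  have hepi : Epi (S.g.hom.app (op U.unop)) := TopCat.Sheaf.IsFlasque.epi_of_shortExact hS
  obtain ⟨t₁, ht₁⟩ := (AddCommGrpCat.epi_iff_surjective _).mp hepi r
  have hnat : ∀ x, S.g.hom.app V (S.X₂.obj.map i x) = S.X₃.obj.map i (S.g.hom.app U x) := by
    intro x
    have := S.g.hom.naturality i
    exact (ConcreteCategory.congr_hom this x)
  have hnatf : ∀ x, S.f.hom.app V (S.X₁.obj.map i x) = S.X₂.obj.map i (S.f.hom.app U x) := by
    intro x
    have := S.f.hom.naturality i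
    exact (ConcreteCategory.congr_hom this x)
  have h0 : S.g.hom.app (op V.unop) (S.X₂.obj.map i t₁ - s) = 0 := by
    change S.g.hom.app V (S.X₂.obj.map i t₁ - s) = 0
    rw [map_sub, hnat]
    change S.X₃.obj.map i (S.g.hom.app (op U.unop) t₁) - _ = 0
    rw [ht₁, hr, sub_self]
  obtain ⟨a, ha⟩ := TopCat.Sheaf.sections_exact_of_left_exact hS.1 hS.2 _ h0
  obtain ⟨a', ha'⟩ := (AddCommGrpCat.epi_iff_surjective (S.X₁.obj.map i)).mp inferInstance a
  refine ⟨t₁ - S.f.hom.app U a', ?_⟩
  rw [map_sub, ← hnatf, ha']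
  change _ - S.f.hom.app (op V.unop) a = s
  rw [ha]
  abel

end Groth.Agent.S14410
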