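import Groth.Statements.S14416
import Mathlib

set_option autoImplicit false
universe u
open scoped TensorProduct
open CAlg

namespace Groth.Agent.S14416

/-- Let B → A be a ring map with A a finitely generated B-module such that for every prime ideal p of B
the fibre κ(p) ⊗_B A has dimension at most one over the residue field κ(p). Then B → A is
surjective. -/
theorem result
    (B A : Type u) [CommRing B] [CommRing A] [Algebra B A] [Module.Finite B A]
    (h : ∀ p : PrimeSpectrum B,
      Module.finrank p.asIdeal.ResidueField (p.asIdeal.ResidueField ⊗[B] A) ≤ 1) :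
    Function.Surjective (algebraMap B A) := by
  set R : Submodule B A := LinearMap.range (Algebra.linearMap B A) with hR
  have h1R : (1 : A) ∈ R := ⟨1, by simp⟩
  suffices hC : Subsingleton (A ⧸ R) by
    have hRtop : R = ⊤ := Submodule.Quotient.subsingleton_iff.mp hC
    intro a
    have : a ∈ R := hRtop ▸ Submodule.mem_top
    obtain ⟨b, hb⟩ := this
    exact ⟨b, by simpa using hb⟩
  rw [← Module.support_eq_empty_iff (R := B)]
  rw [Set.eq_empty_iff_forall_notMem]
  intro p
  rw [Module.mem_support_iff_nontrivial_residueField_tensorProduct, not_nontrivial_iff_subsingleton]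
  -- every element of κ ⊗ A is a multiple of 1 ⊗ 1
  have key : ∀ z : p.asIdeal.ResidueField ⊗[B] A, ∃ c : p.asIdeal.ResidueField,
      z = c ⊗ₜ[B] (1 : A) := by
    obtain ⟨v, hv⟩ := finrank_le_one_iff.mp (h p)
    obtain ⟨c₀, hc₀⟩ := hv (1 : p.asIdeal.ResidueField ⊗[B] A)
    intro z
    by_cases hc0 : c₀ = 0
    · refine ⟨0, ?_⟩
      have h10 : (1 : p.asIdeal.ResidueField ⊗[B] A) = 0 := by rw [← hc₀, hc0, zero_smul]
      rw [TensorProduct.zero_tmul, ← mul_one z, h10, mul_zero]
    · obtain ⟨c, hc⟩ := hv z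
      refine ⟨c * c₀⁻¹, ?_⟩
      have hv' : v = c₀⁻¹ • (1 : p.asIdeal.ResidueField ⊗[B] A) := by
        rw [← hc₀, smul_smul, inv_mul_cancel₀ hc0, one_smul]
      rw [← hc, hv', smul_smul, Algebra.TensorProduct.one_def, TensorProduct.smul_tmul', smul_eq_mul,
        mul_one]
  refine ⟨fun x y => ?_⟩
  have hzero : ∀ w : p.asIdeal.ResidueField ⊗[B] (A ⧸ R), w = 0 := by
    intro w
    obtain ⟨z, rfl⟩ := LinearMap.lTensor_surjective p.asIdeal.ResidueField
      (Submodule.mkQ_surjective R) w
    obtain ⟨c, rfl⟩ := key z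
    rw [LinearMap.lTensor_tmul, Submodule.mkQ_apply, (Submodule.Quotient.mk_eq_zero R).mpr h1R,
      TensorProduct.tmul_zero]
  rw [hzero x, hzero y]

end Groth.Agent.S14416
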