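import Mathlib
import Groth.Statements.S14418

set_option autoImplicit false
universe u
open CategoryTheory
open CAlg

namespace Groth.Agent.S14418

section
variable {B A : Type u} [CommRing B] [CommRing A]
    [IsNoetherianRing B] [IsLocalRing B] [IsNoetherianRing A] [IsLocalRing A] [Algebra B A]
    [IsLocalHom (algebraMap B A)] (T : ModuleCat.{u} B ⥤ ModuleCat.{u} A) [T.Additive]
    (hlin : ∀ (N : ModuleCat.{u} B) (b : B),
      T.map (ModuleCat.ofHom (b • (LinearMap.id : N →ₗ[B] N))) =
        ModuleCat.ofHom (algebraMap B A b • (LinearMap.id : T.obj N →ₗ[A] T.obj N)))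
    (hfin : ∀ N : ModuleCat.{u} B, Module.Finite B N → Module.Finite A (T.obj N))
    (hex : ∀ S : ShortComplex (ModuleCat.{u} B), S.ShortExact → Module.Finite B S.X₁ →
      Module.Finite B S.X₂ → Module.Finite B S.X₃ → (S.map T).Exact)

include hex in
lemma isZero_mid {M₁ M₂ M₃ : Type u} [AddCommGroup M₁] [AddCommGroup M₂] [AddCommGroup M₃]
    [Module B M₁] [Module B M₂] [Module B M₃]
    [Module.Finite B M₁] [Module.Finite B M₂] [Module.Finite B M₃]
    (f : M₁ →ₗ[B] M₂) (g : M₂ →ₗ[B] M₃) (hfg : Function.Exact f g)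
    (hf : Function.Injective f) (hg : Function.Surjective g)
    (h1 : Limits.IsZero (T.obj (ModuleCat.of B M₁)))
    (h3 : Limits.IsZero (T.obj (ModuleCat.of B M₃))) :
    Limits.IsZero (T.obj (ModuleCat.of B M₂)) := by
  let S := ModuleCat.shortComplexOfCompEqZero f g hfg.linearMap_comp_eq_zero
  have hS : S.ShortExact := ModuleCat.shortComplex_shortExact S hfg hf hg
  have := hex S hS ‹_› ‹_› ‹_›
  exact this.isZero_of_both_isZero h1 h3

include hex hlin hfin in
lemma isZero_of_regular {N : Type u} [AddCommGroup N] [Module B N] [Module.Finite B N]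
    (b : B) (hb : b ∈ IsLocalRing.maximalIdeal B)
    (hinj : Function.Injective (b • (LinearMap.id : N →ₗ[B] N)))
    (h3 : Limits.IsZero (T.obj (ModuleCat.of B
      (N ⧸ LinearMap.range (b • (LinearMap.id : N →ₗ[B] N)))))) :
    Limits.IsZero (T.obj (ModuleCat.of B N)) := by
  let f : N →ₗ[B] N := b • (LinearMap.id : N →ₗ[B] N)
  let S := ModuleCat.shortComplexOfCompEqZero f (LinearMap.range f).mkQ
    f.exact_map_mkQ_range.linearMap_comp_eq_zero
  have hS : S.ShortExact := ModuleCat.shortComplex_shortExact S f.exact_map_mkQ_range hinj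
    (Submodule.mkQ_surjective _)
  have hN : Module.Finite B (ModuleCat.of B N) := ‹_›
  have hQ : Module.Finite B (ModuleCat.of B (N ⧸ LinearMap.range f)) :=
    inferInstanceAs (Module.Finite B (N ⧸ LinearMap.range f))
  have hex' := hex S hS hN hN hQ
  have hepi : Epi (T.map S.f) := hex'.epi_f (h3.eq_zero_of_tgt _)
  have hSf : S.f = ModuleCat.ofHom (b • (LinearMap.id : (ModuleCat.of B N) →ₗ[B] _)) := rfl
  rw [hSf, hlin, ModuleCat.epi_iff_surjective] at hepi
  have hfinT : Module.Finite A (T.obj (ModuleCat.of B N)) := hfin _ hN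
  have hbA : algebraMap B A b ∈ IsLocalRing.maximalIdeal A := by
    rw [IsLocalRing.mem_maximalIdeal] at hb ⊢
    exact (map_mem_nonunits_iff (algebraMap B A) b).mpr hb
  have hle : (⊤ : Submodule A (T.obj (ModuleCat.of B N))) ≤
      IsLocalRing.maximalIdeal A • (⊤ : Submodule A (T.obj (ModuleCat.of B N))) := by
    intro x _
    obtain ⟨y, rfl⟩ := hepi x
    exact Submodule.smul_mem_smul hbA (Submodule.mem_top (x := y))
  have hbot := Submodule.eq_bot_of_le_smul_of_le_jacobson_bot (IsLocalRing.maximalIdeal A) ⊤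
    Module.Finite.fg_top hle (IsLocalRing.maximalIdeal_le_jacobson ⊥)
  have : Subsingleton (T.obj (ModuleCat.of B N)) := by
    rw [← Submodule.subsingleton_iff A]
    exact subsingleton_of_bot_eq_top hbot.symm
  exact ModuleCat.isZero_of_subsingleton _

include hex hlin hfin in
lemma core (h0 : Limits.IsZero (T.obj (ModuleCat.of B (B ⧸ IsLocalRing.maximalIdeal B))))
    {N : Type u} [AddCommGroup N] [Module B N] [Module.Finite B N]
    (hmin : ∀ N'' : Submodule B N, N'' ≠ ⊥ → Limits.IsZero (T.obj (ModuleCat.of B (N ⧸ N'')))) :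
    Limits.IsZero (T.obj (ModuleCat.of B N)) := by
  by_contra hT
  have hNnt : Nontrivial N := by
    by_contra hnt
    rw [not_nontrivial_iff_subsingleton] at hnt
    exact hT (T.map_isZero (ModuleCat.isZero_of_subsingleton _))
  -- every element of the maximal ideal kills `N`
  have hkill : ∀ b ∈ IsLocalRing.maximalIdeal B,
      LinearMap.range (b • (LinearMap.id : N →ₗ[B] N)) = ⊥ := by
    intro b hb
    by_contra hr
    by_cases hk : LinearMap.ker (b • (LinearMap.id : N →ₗ[B] N)) = ⊥
    · exact hT (isZero_of_regular T hlin hfin hex b hb (LinearMap.ker_eq_bot.mp hk) (hmin _ hr))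
    · -- `T (range) = 0` via `N ⧸ ker ≃ range`
      have h1 : Limits.IsZero (T.obj (ModuleCat.of B
          (LinearMap.range (b • (LinearMap.id : N →ₗ[B] N))))) :=
        (hmin _ hk).of_iso (T.mapIso
          (LinearMap.quotKerEquivRange (b • (LinearMap.id : N →ₗ[B] N))).symm.toModuleIso)
      exact hT (isZero_mid T hex (LinearMap.range (b • (LinearMap.id : N →ₗ[B] N))).subtype
        (LinearMap.range (b • (LinearMap.id : N →ₗ[B] N))).mkQ
        (LinearMap.exact_subtype_mkQ _) (Submodule.injective_subtype _)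
        (Submodule.mkQ_surjective _) h1 (hmin _ hr))
  obtain ⟨x, hx⟩ := exists_ne (0 : N)
  have hker : LinearMap.ker (LinearMap.toSpanSingleton B N x) = IsLocalRing.maximalIdeal B := by
    apply le_antisymm
    · apply IsLocalRing.le_maximalIdeal
      intro htop
      have : (1 : B) ∈ LinearMap.ker (LinearMap.toSpanSingleton B N x) := by
        rw [htop]; trivial
      rw [LinearMap.mem_ker, LinearMap.toSpanSingleton_apply, one_smul] at this
      exact hx this
    · intro b hb
      rw [LinearMap.mem_ker, LinearMap.toSpanSingleton_apply]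
      have : b • x ∈ LinearMap.range (b • (LinearMap.id : N →ₗ[B] N)) := ⟨x, rfl⟩
      rw [hkill b hb] at this
      exact this
  let g : (B ⧸ IsLocalRing.maximalIdeal B) →ₗ[B] N :=
    Submodule.liftQ _ (LinearMap.toSpanSingleton B N x) hker.ge
  have hg : Function.Injective g := by
    rw [← LinearMap.ker_eq_bot]
    exact Submodule.ker_liftQ_eq_bot _ _ _ hker.le
  have hrg : LinearMap.range g ≠ ⊥ := by
    intro h
    have : x ∈ LinearMap.range g := ⟨Submodule.Quotient.mk 1, by
      change (LinearMap.toSpanSingleton B N x) 1 = x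
      simp⟩
    rw [h] at this
    exact hx this
  exact hT (isZero_mid T hex g (LinearMap.range g).mkQ g.exact_map_mkQ_range hg
    (Submodule.mkQ_surjective _) h0 (hmin _ hrg))

end

theorem result {B A : Type u} [CommRing B] [CommRing A]
    [IsNoetherianRing B] [IsLocalRing B] [IsNoetherianRing A] [IsLocalRing A] [Algebra B A]
    [IsLocalHom (algebraMap B A)] (T : ModuleCat.{u} B ⥤ ModuleCat.{u} A) [T.Additive]
    (hlin : ∀ (N : ModuleCat.{u} B) (b : B),
      T.map (ModuleCat.ofHom (b • (LinearMap.id : N →ₗ[B] N))) =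
        ModuleCat.ofHom (algebraMap B A b • (LinearMap.id : T.obj N →ₗ[A] T.obj N)))
    (hfin : ∀ N : ModuleCat.{u} B, Module.Finite B N → Module.Finite A (T.obj N))
    (hex : ∀ S : ShortComplex (ModuleCat.{u} B), S.ShortExact → Module.Finite B S.X₁ →
      Module.Finite B S.X₂ → Module.Finite B S.X₃ → (S.map T).Exact)
    (h0 : Limits.IsZero (T.obj (ModuleCat.of B (B ⧸ IsLocalRing.maximalIdeal B))))
    (N : ModuleCat.{u} B) [Module.Finite B N] : Limits.IsZero (T.obj N) := by
  have main : ∀ N' : Submodule B N, Limits.IsZero (T.obj (ModuleCat.of B (N ⧸ N'))) := by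
    intro N'
    induction N' using IsNoetherian.induction with
    | hgt I ih =>
      apply core T hlin hfin hex h0
      intro N'' hne
      let φ : N →ₗ[B] ((N ⧸ I) ⧸ N'') := N''.mkQ ∘ₗ I.mkQ
      have hφ : Function.Surjective φ :=
        (Submodule.mkQ_surjective _).comp (Submodule.mkQ_surjective _)
      have hlt : I < LinearMap.ker φ := by
        refine lt_of_le_of_ne ?_ ?_
        · intro x hx
          rw [LinearMap.mem_ker]
          simp [φ, (Submodule.Quotient.mk_eq_zero I).mpr hx]
        · intro heq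
          apply hne
          rw [eq_bot_iff]
          intro y hy
          obtain ⟨x, rfl⟩ := Submodule.mkQ_surjective I y
          have hx : x ∈ LinearMap.ker φ := by
            rw [LinearMap.mem_ker]
            simpa [φ, Submodule.Quotient.mk_eq_zero] using hy
          rw [← heq] at hx
          simpa [Submodule.Quotient.mk_eq_zero] using hx
      exact (ih _ hlt).of_iso (T.mapIso (φ.quotKerEquivOfSurjective hφ).symm.toModuleIso)
  exact (main ⊥).of_iso (T.mapIso (Submodule.quotEquivOfEqBot (⊥ : Submodule B N) rfl).symm.toModuleIso)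

end Groth.Agent.S14418
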