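import Groth.Statements.S14420
import Groth.Agent.Lib.Helper29.DepthExt
import Mathlib.Algebra.Category.ModuleCat.Ext.Finite
import Mathlib.RingTheory.Regular.Category

set_option autoImplicit false
universe u
open CategoryTheory
open LocCoh

namespace Groth.Agent.S14420

open CategoryTheory Abelian in
theorem mk₀_smul_id_comp {A : Type u} [CommRing A] {X Y : ModuleCat.{u} A} {n : ℕ}
    (c : Ext X Y n) (x : A) : (Ext.mk₀ (x • 𝟙 X)).comp c (zero_add n) = x • c := by
  rw [Ext.mk₀_smul, Ext.smul_comp, Ext.mk₀_id_comp]

open Groth.Agent.Lib.Helper29 IsLocalRing CategoryTheory Abelian in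
/-- Ischebeck's theorem, inductive form. -/
theorem ischebeck_aux (A : Type u) [CommRing A] [IsNoetherianRing A] [IsLocalRing A]
    (M : Type u) [AddCommGroup M] [Module A M] [Module.Finite A M] [Nontrivial M]
    (d : ℕ) (hd : LocCoh.depth A M = d) (r : ℕ) :
    ∀ (N : Type u) [AddCommGroup N] [Module A N] [Module.Finite A N],
      Module.supportDim A N ≤ (r : WithBot ℕ∞) → ∀ i : ℕ, i + r < d →
      Subsingleton (Ext (ModuleCat.of A N) (ModuleCat.of A M) i) := by
  induction r using Nat.strong_induction_on with
  | _ r IH =>
    intro N _ _ hfin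
    refine IsNoetherianRing.induction_on_isQuotientEquivQuotientPrime A
      (motive := fun N _ _ _ => Module.supportDim A N ≤ (r : WithBot ℕ∞) → ∀ i : ℕ, i + r < d →
        Subsingleton (Ext (ModuleCat.of A N) (ModuleCat.of A M) i)) hfin ?_ ?_ ?_
    · -- zero module
      intro N _ _ _ _ _ i _
      have hz : Limits.IsZero (ModuleCat.of A N) := ModuleCat.isZero_of_subsingleton _
      have h0 : ∀ c : Ext (ModuleCat.of A N) (ModuleCat.of A M) i, c = 0 := fun c => by
        rw [← c.mk₀_id_comp, hz.eq_of_src (𝟙 _) 0, Ext.mk₀_zero, Ext.zero_comp]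
      exact ⟨fun a b => (h0 a).trans (h0 b).symm⟩
    · -- `A/p`
      intro N _ _ _ p e hdim i hi
      refine ext_subsingleton_of_iso_left (ModuleCat.of A M) i e.symm.toModuleIso ?_
      rw [Module.supportDim_eq_of_equiv e, Module.supportDim_quotient_eq_ringKrullDim] at hdim
      by_cases hpm : p.asIdeal = maximalIdeal A
      · rw [hpm]
        exact (le_idealDepth_iff_ext (maximalIdeal A) M (maximalIdeal_smul_top_ne_top A M) d).mp
          hd.ge i (by omega)
      · have hlt : p.asIdeal < maximalIdeal A :=
          lt_of_le_of_ne (le_maximalIdeal p.isPrime.ne_top) hpm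
        obtain ⟨x, hxm, hxp⟩ := SetLike.exists_of_lt hlt
        have hxreg : IsSMulRegular (A ⧸ p.asIdeal) x := by
          intro y z hyz
          have h1 : Ideal.Quotient.mk p.asIdeal x * y = Ideal.Quotient.mk p.asIdeal x * z := by
            simpa [Algebra.smul_def] using hyz
          have h2 : Ideal.Quotient.mk p.asIdeal x ≠ 0 := by
            rw [Ne, Ideal.Quotient.eq_zero_iff_mem]
            exact hxp
          have : IsDomain (A ⧸ p.asIdeal) := Ideal.Quotient.isDomain _
          exact mul_left_cancel₀ h2 h1
        have hS := hxreg.smulShortComplex_shortExact (M := ModuleCat.of A (A ⧸ p.asIdeal))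
        have hdimQ := Module.supportDim_quotSMulTop_succ_eq_supportDim hxreg hxm
        rw [Module.supportDim_quotient_eq_ringKrullDim] at hdimQ
        have h3 : Subsingleton (Ext (ModuleCat.of A (QuotSMulTop x (A ⧸ p.asIdeal)))
            (ModuleCat.of A M) (i + 1)) := by
          rcases r with _ | r'
          · have hle : Module.supportDim A (QuotSMulTop x (A ⧸ p.asIdeal)) + 1 ≤ 0 := by
              rw [hdimQ]; exact_mod_cast hdim
            have hbot : Module.supportDim A (QuotSMulTop x (A ⧸ p.asIdeal)) = ⊥ := by
              generalize Module.supportDim A (QuotSMulTop x (A ⧸ p.asIdeal)) = e' at hle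
              induction e' with
              | bot => rfl
              | coe k =>
                exfalso
                have : k + 1 ≤ 0 := by exact_mod_cast hle
                simp at this
            have hsub : Subsingleton (QuotSMulTop x (A ⧸ p.asIdeal)) :=
              (Module.supportDim_eq_bot_iff_subsingleton A _).mp hbot
            have hz : Limits.IsZero (ModuleCat.of A (QuotSMulTop x (A ⧸ p.asIdeal))) :=
              ModuleCat.isZero_of_subsingleton _
            have h0 : ∀ c : Ext (ModuleCat.of A (QuotSMulTop x (A ⧸ p.asIdeal)))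
                (ModuleCat.of A M) (i + 1), c = 0 := fun c => by
              rw [← c.mk₀_id_comp, hz.eq_of_src (𝟙 _) 0, Ext.mk₀_zero, Ext.zero_comp]
            exact ⟨fun a b => (h0 a).trans (h0 b).symm⟩
          · apply IH r' (Nat.lt_succ_self r') (QuotSMulTop x (A ⧸ p.asIdeal)) ?_ (i + 1) (by omega)
            have hle : Module.supportDim A (QuotSMulTop x (A ⧸ p.asIdeal)) + 1 ≤
                ((r' : ℕ) : WithBot ℕ∞) + 1 := by
              rw [hdimQ]; exact_mod_cast hdim
            generalize Module.supportDim A (QuotSMulTop x (A ⧸ p.asIdeal)) = e' at hle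
            induction e' with
            | bot => exact bot_le
            | coe k =>
              have h5 : k + 1 ≤ (r' : ℕ∞) + 1 := by exact_mod_cast hle
              have h6 : k ≤ (r' : ℕ∞) := (ENat.add_le_add_iff_right (by simp)).mp h5
              exact_mod_cast h6
        -- multiplication by `x` is surjective on `Ext^i(A/p, M)`
        have hsurj : ∀ c : Ext (ModuleCat.of A (A ⧸ p.asIdeal)) (ModuleCat.of A M) i,
            ∃ c' : Ext (ModuleCat.of A (A ⧸ p.asIdeal)) (ModuleCat.of A M) i, x • c' = c := by
          intro c
          obtain ⟨c₂, hc₂⟩ := Ext.contravariant_sequence_exact₁ hS (ModuleCat.of A M) c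
            (add_comm 1 i) (@Subsingleton.elim _ h3 _ _)
          refine ⟨c₂, ?_⟩
          rw [← hc₂]
          exact (mk₀_smul_id_comp (X := ModuleCat.of A (A ⧸ p.asIdeal)) c₂ x).symm
        have hle : (⊤ : Submodule A (Ext (ModuleCat.of A (A ⧸ p.asIdeal)) (ModuleCat.of A M) i)) ≤
            maximalIdeal A • ⊤ := by
          intro c _
          obtain ⟨c', rfl⟩ := hsurj c
          exact Submodule.smul_mem_smul hxm Submodule.mem_top
        have hbot := Submodule.eq_bot_of_le_smul_of_le_jacobson_bot (maximalIdeal A) _
          Module.Finite.fg_top hle (maximalIdeal_le_jacobson ⊥)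
        exact (Submodule.subsingleton_iff A).mp ⟨fun a b => by
          have ha : a = ⊥ := by rw [eq_bot_iff, ← hbot]; exact le_top
          have hb : b = ⊥ := by rw [eq_bot_iff, ← hbot]; exact le_top
          rw [ha, hb]⟩
    · -- extensions
      intro N₁ _ _ _ N₂ _ _ _ N₃ _ _ _ f g hf hg hfg h1 h3 hdim i hi
      have hd1 : Module.supportDim A N₁ ≤ (r : WithBot ℕ∞) :=
        (Module.supportDim_le_of_injective f hf).trans hdim
      have hd3 : Module.supportDim A N₃ ≤ (r : WithBot ℕ∞) :=
        (Module.supportDim_le_of_surjective g hg).trans hdim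
      have s1 := h1 hd1 i hi
      have s3 := h3 hd3 i hi
      let S : ShortComplex (ModuleCat.{u} A) :=
        ModuleCat.shortComplexOfCompEqZero f g hfg.linearMap_comp_eq_zero
      have hS : S.ShortExact := ModuleCat.shortComplex_shortExact S hfg hf hg
      have h0 : ∀ c : Ext (ModuleCat.of A N₂) (ModuleCat.of A M) i, c = 0 := fun c => by
        obtain ⟨c₃, hc₃⟩ := Ext.contravariant_sequence_exact₂ hS (ModuleCat.of A M) c
          (Subsingleton.elim _ _)
        rw [← hc₃, Subsingleton.elim c₃ 0, Ext.comp_zero]
      exact ⟨fun a b => (h0 a).trans (h0 b).symm⟩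

/-- Let A be a Noetherian local ring and M, N nonzero finitely generated A-modules. Then Ext^i_A(N, M) =
0 for all i < depth M − dim Supp N. Here depth M = d and the Krull dimension of the support of N = r
are given as natural numbers and the conclusion is stated for every i with i + r < d. -/
theorem result (A : Type u) [CommRing A] [IsNoetherianRing A]
    [IsLocalRing A] (M N : Type u) [AddCommGroup M] [Module A M] [AddCommGroup N] [Module A N]
    [Module.Finite A M] [Module.Finite A N] [Nontrivial M] [Nontrivial N]
    (d r i : ℕ) (hd : LocCoh.depth A M = d) (hr : Module.supportDim A N = r) (hi : i + r < d) :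
    Subsingleton (Abelian.Ext (ModuleCat.of A N) (ModuleCat.of A M) i) := by
  exact ischebeck_aux A M d hd r N hr.le i hi

end Groth.Agent.S14420
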