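import Groth.Statements.S14427
import Mathlib.Algebra.Order.Antidiag.FinsuppEquiv
import Mathlib.RingTheory.MvPolynomial.Basic
import Mathlib.LinearAlgebra.Basis.VectorSpace
import Mathlib.LinearAlgebra.Dimension.RankNullity
import Mathlib.LinearAlgebra.FiniteDimensional.Lemmas
-- import your own Groth.Agent.* helpers here

set_option autoImplicit false
universe u
open CAlgX

namespace Groth.Agent.S14427

theorem degree_set_eq (d : ℕ) :
    {e : Fin 3 →₀ ℕ | e.degree = d} = ↑((Finset.univ : Finset (Fin 3)).finsuppAntidiag d) := by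
  ext e
  simp [Finset.mem_finsuppAntidiag, Finsupp.degree_eq_sum]

theorem finrank_homog (k : Type u) [Field k] (d : ℕ) :
    Module.finrank k (MvPolynomial.homogeneousSubmodule (Fin 3) k d) = Nat.choose (d + 2) 2 := by
  rw [MvPolynomial.homogeneousSubmodule_eq_finsupp_supported]
  change Module.finrank k (MvPolynomial.restrictSupport k {e : Fin 3 →₀ ℕ | e.degree = d}) = _
  rw [Module.finrank_eq_nat_card_basis (MvPolynomial.basisRestrictSupport k {e : Fin 3 →₀ ℕ | e.degree = d})]
  rw [Nat.card_coe_set_eq, degree_set_eq, Set.ncard_coe_finset, Finset.card_finsuppAntidiag_nat_eq_choose]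
  simp only [Finset.card_univ, Fintype.card_fin]
  have : 3 + d - 1 = d + 2 := by omega
  rw [this, ← Nat.choose_symm_add]

/-- the linear form attached to a functional -/
noncomputable def L {k : Type u} [Field k] (φ : (Fin 3 → k) →ₗ[k] k) : MvPolynomial (Fin 3) k :=
  ∑ i : Fin 3, MvPolynomial.C (φ (Pi.single i 1)) * MvPolynomial.X i

theorem L_homog {k : Type u} [Field k] (φ : (Fin 3 → k) →ₗ[k] k) : (L φ).IsHomogeneous 1 := by
  unfold L
  refine MvPolynomial.IsHomogeneous.sum _ _ _ fun i _ => ?_
  exact MvPolynomial.isHomogeneous_C_mul_X _ _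

theorem aeval_L {k : Type u} [Field k] (φ : (Fin 3 → k) →ₗ[k] k) (u : Fin 3 → k) :
    MvPolynomial.aeval u (L φ) = φ u := by
  unfold L
  rw [map_sum]
  simp only [map_mul, MvPolynomial.aeval_C, MvPolynomial.aeval_X, Algebra.algebraMap_self,
    RingHom.id_apply]
  conv_rhs => rw [LinearMap.pi_apply_eq_sum_univ φ u]
  refine Finset.sum_congr rfl fun i _ => ?_
  rw [smul_eq_mul, mul_comm]
  congr 2
  ext j
  simp [Pi.single_apply, eq_comm]

theorem exists_sep (k : Type u) [Field k]
    (Λ : Finset (Fin 3 → k)) (h0 : ∀ v ∈ Λ, v ≠ 0)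
    (hdist : ∀ v ∈ Λ, ∀ w ∈ Λ, v ≠ w → LinearIndependent k ![v, w]) (v : Fin 3 → k) (hv : v ∈ Λ) :
    ∃ g : MvPolynomial (Fin 3) k, g.IsHomogeneous (Λ.card - 1) ∧ MvPolynomial.aeval v g ≠ 0 ∧
      ∀ w ∈ Λ, w ≠ v → MvPolynomial.aeval w g = 0 := by
  classical
  have h : ∀ w ∈ Λ.erase v, ∃ φ : (Fin 3 → k) →ₗ[k] k, φ v ≠ 0 ∧ φ w = 0 := by
    intro w hw
    rw [Finset.mem_erase] at hw
    have hli := hdist w hw.2 v hv hw.1
    rw [LinearIndependent.pair_iff' (h0 w hw.2)] at hli
    have hnot : v ∉ Submodule.span k {w} := by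
      rw [Submodule.mem_span_singleton]
      rintro ⟨a, ha⟩
      exact hli a ha
    obtain ⟨φ, hφv, hφ⟩ := Submodule.exists_le_ker_of_notMem hnot
    exact ⟨φ, hφv, hφ (Submodule.mem_span_singleton_self w)⟩
  choose! φ hφ using h
  refine ⟨∏ w ∈ Λ.erase v, L (φ w), ?_, ?_, ?_⟩
  · have := MvPolynomial.IsHomogeneous.prod (Λ.erase v) (fun w => L (φ w)) (fun _ => 1)
      (fun w _ => L_homog (φ w))
    simpa [Finset.card_erase_of_mem hv] using this
  · rw [map_prod]
    refine Finset.prod_ne_zero_iff.mpr fun w hw => ?_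
    rw [aeval_L]
    exact (hφ w hw).1
  · intro w hw hwv
    rw [map_prod]
    refine Finset.prod_eq_zero (Finset.mem_erase.mpr ⟨hwv, hw⟩) ?_
    rw [aeval_L]
    exact (hφ w (Finset.mem_erase.mpr ⟨hwv, hw⟩)).2

/-- Let k be a field and Λ a set of n ≥ 3 nonzero vectors of k^3 which are pairwise linearly
independent, i.e. n distinct k-rational points of the projective plane. Then the space of
homogeneous forms of degree n − 1 in k[x_0, x_1, x_2] vanishing at every point of Λ — the global
sections of I_Λ(n − 1) — has dimension C(n+1, 2) − n over k, the same for all such Λ. (The published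
statement is over an algebraically closed field; this row allows any field and k-rational points,
which is all its argument uses.) -/
theorem result (k : Type u) [Field k] (n : ℕ) (hn : 3 ≤ n)
    (Λ : Finset (Fin 3 → k)) (hcard : Λ.card = n) (h0 : ∀ v ∈ Λ, v ≠ 0)
    (hdist : ∀ v ∈ Λ, ∀ w ∈ Λ, v ≠ w → LinearIndependent k ![v, w]) :
    Module.finrank k ↥(MvPolynomial.homogeneousSubmodule (Fin 3) k (n - 1) ⊓ ⨅ v ∈ Λ, LinearMap.ker (MvPolynomial.aeval v).toLinearMap) = Nat.choose (n + 1) 2 - n := by
  classical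
  set H := MvPolynomial.homogeneousSubmodule (Fin 3) k (n - 1) with hH
  set K : Submodule k (MvPolynomial (Fin 3) k) :=
    ⨅ v ∈ Λ, LinearMap.ker (MvPolynomial.aeval (R := k) (S₁ := k) v).toLinearMap with hK
  have hfin : Module.Finite k H :=
    Module.Finite.iff_fg.mpr (MvPolynomial.homogeneousSubmodule_fg _ _ _)
  let ev : H →ₗ[k] (Λ → k) :=
    LinearMap.pi fun v =>
      (MvPolynomial.aeval (R := k) (S₁ := k) (v : Fin 3 → k)).toLinearMap ∘ₗ H.subtype
  have hker : LinearMap.ker ev = Submodule.comap H.subtype K := by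
    ext f
    simp [ev, hK, LinearMap.mem_ker, funext_iff, Submodule.mem_iInf]
  have hmap : (LinearMap.ker ev).map H.subtype = H ⊓ K := by
    rw [hker, Submodule.map_comap_subtype]
  have hsurj : Function.Surjective ev := by
    intro c
    have hsep := exists_sep k Λ h0 hdist
    choose! g hg using hsep
    have hmem : ∑ v ∈ Λ.attach, (c v / MvPolynomial.aeval (v : Fin 3 → k) (g v)) • g v ∈ H := by
      refine Submodule.sum_mem _ fun v _ => Submodule.smul_mem _ _ ?_
      have := (hg v v.2).1
      rw [hcard] at this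
      exact this
    refine ⟨⟨_, hmem⟩, ?_⟩
    ext w
    simp only [ev, LinearMap.pi_apply, LinearMap.coe_comp, Function.comp_apply,
      Submodule.subtype_apply, AlgHom.toLinearMap_apply, map_sum, map_smul]
    rw [Finset.sum_eq_single w]
    · rw [smul_eq_mul, div_mul_cancel₀ _ (hg w w.2).2.1]
    · intro v _ hvw
      rw [(hg v v.2).2.2 w w.2 (fun h => hvw (Subtype.ext h.symm)), smul_zero]
    · intro h; exact (h (Finset.mem_attach _ _)).elim
  have hrn := LinearMap.finrank_range_add_finrank_ker ev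
  rw [LinearMap.range_eq_top.mpr hsurj, finrank_top, Module.finrank_fintype_fun_eq_card,
    Fintype.card_coe, hcard] at hrn
  have hfr : Module.finrank k H = Nat.choose (n + 1) 2 := by
    rw [hH, finrank_homog]; congr 1; omega
  rw [← hmap, Submodule.finrank_map_subtype_eq]
  omega

end Groth.Agent.S14427
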