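import Groth.Statements.S14428
import Groth.Agent.S14427
-- import your own Groth.Agent.* helpers here

set_option autoImplicit false
universe u
open CAlgX

namespace Groth.Agent.S14428

open Groth.Agent.S14427 in
theorem dir (k : Type u) [Field k] (n : ℕ) (hn : 3 ≤ n)
    (Λ : Finset (Fin 3 → k)) (hcard : Λ.card = n)
    (hline : ¬ ∃ ℓ : (Fin 3 → k) →ₗ[k] k, ℓ ≠ 0 ∧ ∀ v ∈ Λ, ℓ v = 0)
    (w : Fin 3 → k)
    (hw : ∀ F ∈ (MvPolynomial.homogeneousSubmodule (Fin 3) k (n - 1) ⊓
      ⨅ v ∈ Λ, LinearMap.ker (MvPolynomial.aeval (R := k) (S₁ := k) v).toLinearMap),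
      MvPolynomial.aeval w F = 0) :
    ∃ v ∈ Λ, ∃ c : k, w = c • v := by
  classical
  by_contra hcon
  push Not at hcon
  -- Step 1: two points of Λ whose line misses w
  have step1 : ∃ a ∈ Λ, ∃ b ∈ Λ, a ≠ b ∧ w ∉ Submodule.span k {a, b} := by
    by_contra h1
    push Not at h1
    obtain ⟨a, ha⟩ : Λ.Nonempty := by
      rw [← Finset.card_pos]; omega
    have hlt : Submodule.span k ({a, w} : Set (Fin 3 → k)) < ⊤ := by
      rw [lt_top_iff_ne_top]
      intro htop
      have h2 := finrank_span_finset_le_card (R := k) ({a, w} : Finset (Fin 3 → k))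
      rw [Set.finrank] at h2
      have h3 : Submodule.span k (↑({a, w} : Finset (Fin 3 → k)) : Set (Fin 3 → k)) = ⊤ := by
        rw [← htop]; congr 1; simp
      rw [h3, finrank_top, Module.finrank_fintype_fun_eq_card, Fintype.card_fin] at h2
      have h4 : ({a, w} : Finset (Fin 3 → k)).card ≤ 2 := Finset.card_le_two
      omega
    obtain ⟨ψ, hψ0, hψ⟩ := Submodule.exists_le_ker_of_lt_top _ hlt
    have hψa : ψ a = 0 := hψ (Submodule.subset_span (by simp))
    have hψw : ψ w = 0 := hψ (Submodule.subset_span (by simp))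
    apply hline
    refine ⟨ψ, hψ0, fun b hb => ?_⟩
    by_cases hab : a = b
    · rw [← hab]; exact hψa
    · obtain ⟨α, β, hαβ⟩ := Submodule.mem_span_pair.mp (h1 a ha b hb hab)
      have hβ : β ≠ 0 := by
        intro hβ
        rw [hβ, zero_smul, add_zero] at hαβ
        exact hcon a ha α hαβ.symm
      have := congrArg ψ hαβ
      rw [map_add, map_smul, map_smul, hψa, hψw, smul_zero, zero_add, smul_eq_mul] at this
      exact (mul_eq_zero.mp this).resolve_left hβ
  obtain ⟨a, ha, b, hb, hab, hwab⟩ := step1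
  obtain ⟨ℓ, hℓw, hℓ⟩ := Submodule.exists_le_ker_of_notMem hwab
  have hℓa : ℓ a = 0 := hℓ (Submodule.subset_span (by simp))
  have hℓb : ℓ b = 0 := hℓ (Submodule.subset_span (by simp))
  -- Step 2: lines through the other points missing w
  have h : ∀ c ∈ (Λ.erase a).erase b, ∃ φ : (Fin 3 → k) →ₗ[k] k, φ w ≠ 0 ∧ φ c = 0 := by
    intro c hc
    have hcΛ : c ∈ Λ := Finset.mem_of_mem_erase (Finset.mem_of_mem_erase hc)
    have hnot : w ∉ Submodule.span k {c} := by
      rw [Submodule.mem_span_singleton]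
      rintro ⟨α, hα⟩
      exact hcon c hcΛ α hα.symm
    obtain ⟨φ, hφw, hφ⟩ := Submodule.exists_le_ker_of_notMem hnot
    exact ⟨φ, hφw, hφ (Submodule.mem_span_singleton_self c)⟩
  choose! φ hφ using h
  set F : MvPolynomial (Fin 3) k := L ℓ * ∏ c ∈ (Λ.erase a).erase b, L (φ c) with hF
  have hFw : MvPolynomial.aeval w F ≠ 0 := by
    rw [hF, map_mul, map_prod, aeval_L]
    refine mul_ne_zero hℓw (Finset.prod_ne_zero_iff.mpr fun c hc => ?_)
    rw [aeval_L]
    exact (hφ c hc).1
  apply hFw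
  apply hw
  rw [Submodule.mem_inf]
  refine ⟨?_, ?_⟩
  · have h1 := MvPolynomial.IsHomogeneous.prod ((Λ.erase a).erase b) (fun c => L (φ c)) (fun _ => 1)
      (fun c _ => L_homog (φ c))
    have h2 := (L_homog ℓ).mul h1
    have hb' : b ∈ Λ.erase a := Finset.mem_erase.mpr ⟨fun h => hab h.symm, hb⟩
    have hcnt : 1 + ∑ _c ∈ (Λ.erase a).erase b, 1 = n - 1 := by
      rw [Finset.sum_const, smul_eq_mul, mul_one, Finset.card_erase_of_mem hb',
        Finset.card_erase_of_mem ha, hcard]
      omega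
    rw [hcnt] at h2
    exact h2
  · simp only [Submodule.mem_iInf, LinearMap.mem_ker, AlgHom.toLinearMap_apply]
    intro u hu
    rw [hF, map_mul, aeval_L]
    by_cases hua : u = a
    · rw [hua, hℓa, zero_mul]
    by_cases hub : u = b
    · rw [hub, hℓb, zero_mul]
    have hmem : u ∈ (Λ.erase a).erase b :=
      Finset.mem_erase.mpr ⟨hub, Finset.mem_erase.mpr ⟨hua, hu⟩⟩
    rw [map_prod, Finset.prod_eq_zero hmem, mul_zero]
    rw [aeval_L]
    exact (hφ u hmem).2

/-- Let k be a field, n ≥ 3, and let Λ and Λ' be two sets of n nonzero, pairwise linearly independent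
vectors of k^3 (n distinct k-rational points of the projective plane each), neither lying on a line
(no nonzero linear form vanishes on all of Λ, resp. Λ'). If the spaces of homogeneous forms of
degree n − 1 vanishing on Λ and on Λ' coincide, then Λ and Λ' define the same set of points of the
plane: the assignment Λ ↦ H^0(P^2, I_Λ(n − 1)), with values in a Grassmannian, is injective on
non-collinear sets. (The published statement is over an algebraically closed field; this row allows
any field and k-rational points, which is all its argument uses.) -/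
theorem result (k : Type u) [Field k] (n : ℕ) (hn : 3 ≤ n)
    (Λ Λ' : Finset (Fin 3 → k)) (hcard : Λ.card = n) (hcard' : Λ'.card = n)
    (h0 : ∀ v ∈ Λ, v ≠ 0) (h0' : ∀ v ∈ Λ', v ≠ 0)
    (hdist : ∀ v ∈ Λ, ∀ w ∈ Λ, v ≠ w → LinearIndependent k ![v, w])
    (hdist' : ∀ v ∈ Λ', ∀ w ∈ Λ', v ≠ w → LinearIndependent k ![v, w])
    (hline : ¬ ∃ ℓ : (Fin 3 → k) →ₗ[k] k, ℓ ≠ 0 ∧ ∀ v ∈ Λ, ℓ v = 0)
    (hline' : ¬ ∃ ℓ : (Fin 3 → k) →ₗ[k] k, ℓ ≠ 0 ∧ ∀ v ∈ Λ', ℓ v = 0)
    (heq : (MvPolynomial.homogeneousSubmodule (Fin 3) k (n - 1) ⊓ ⨅ v ∈ Λ, LinearMap.ker (MvPolynomial.aeval v).toLinearMap) = (MvPolynomial.homogeneousSubmodule (Fin 3) k (n - 1) ⊓ ⨅ v ∈ Λ', LinearMap.ker (MvPolynomial.aeval v).toLinearMap)) :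
    (∀ v ∈ Λ, ∃ w ∈ Λ', ∃ c : k, v = c • w) ∧ (∀ w ∈ Λ', ∃ v ∈ Λ, ∃ c : k, w = c • v) := by
  constructor
  · intro v hv
    refine dir k n hn Λ' hcard' hline' v ?_
    intro F hF
    rw [← heq] at hF
    have := (Submodule.mem_inf.mp hF).2
    simp only [Submodule.mem_iInf, LinearMap.mem_ker, AlgHom.toLinearMap_apply] at this
    exact this v hv
  · intro w hw
    refine dir k n hn Λ hcard hline w ?_
    intro F hF
    rw [heq] at hF
    have := (Submodule.mem_inf.mp hF).2
    simp only [Submodule.mem_iInf, LinearMap.mem_ker, AlgHom.toLinearMap_apply] at this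
    exact this w hw

end Groth.Agent.S14428
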