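import Groth.Statements.S14434
import Groth.Agent.Lib.Helper73.ProjRes

set_option autoImplicit false
set_option backward.isDefEq.respectTransparency false
universe u
open CAlg

namespace Groth.Agent.S14434

open CategoryTheory CategoryTheory.Limits MonoidalCategory Groth.Agent.Lib.Helper73 Pointwise

/-- Let R be a commutative ring, M an R-module and x ∈ R a non-zero-divisor on R and on M. Then
Tor_i^R(M, R/(x)) = 0 for all i ≥ 1 (Tor computed as the left derived functors of the tensor product
on R-modules). -/
theorem result {R : Type u} [CommRing R] (M : Type u) [AddCommGroup M] [Module R M]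
    (x : R) (hxR : IsSMulRegular R x) (hxM : IsSMulRegular M x) (i : ℕ) (hi : 1 ≤ i) :
    Subsingleton (DRing.Tor R i M (R ⧸ Ideal.span {x})) := by
  let S := ModuleCat.smulShortComplex (ModuleCat.of R R) x
  have hS : S.ShortExact := IsSMulRegular.smulShortComplex_shortExact (M := ModuleCat.of R R) hxR
  have hproj : Projective (ModuleCat.of R R) :=
    ModuleCat.projective_of_categoryTheory_projective (ModuleCat.of R R)
  have : Projective S.X₁ := hproj
  have : Projective S.X₂ := hproj
  let Q : ProjectiveResolution S.X₁ := ProjectiveResolution.self S.X₁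
  let P : ProjectiveResolution S.X₃ := spliceSE S Q hS
  have hideal : (x • (⊤ : Submodule R R)) = Ideal.span {x} := by
    ext y
    rw [Submodule.mem_smul_pointwise_iff_exists, Ideal.mem_span_singleton']
    constructor
    · rintro ⟨b, -, rfl⟩; exact ⟨b, by rw [smul_eq_mul, mul_comm]⟩
    · rintro ⟨b, rfl⟩; exact ⟨b, trivial, by rw [smul_eq_mul, mul_comm]⟩
  let e : S.X₃ ≅ ModuleCat.of R (R ⧸ Ideal.span {x}) :=
    (Submodule.quotEquivOfEq _ _ hideal).toModuleIso
  apply ModuleCat.subsingleton_of_isZero
  refine IsZero.of_iso ?_ (((Tor (ModuleCat.{u} R) i).obj (ModuleCat.of R M)).mapIso e.symm)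
  obtain ⟨j, rfl⟩ : ∃ j, i = j + 1 := ⟨i - 1, by omega⟩
  have hzero : ∀ n : ℕ, IsZero (P.complex.X (n + 2)) := by
    intro n
    show IsZero (Q.complex.X (n + 1))
    apply HomologicalComplex.isZero_single_obj_X
    omega
  cases j with
  | zero =>
    refine isZero_leftDerived_obj_of_mono _ P 0 (hzero 0) ?_
    have hd : P.complex.d 1 0 = S.f := by
      show Q.π.f 0 ≫ S.f = S.f
      have : Q.π.f 0 = 𝟙 _ := rfl
      rw [this, Category.id_comp]
    rw [hd, ModuleCat.mono_iff_injective]
    show Function.Injective ((ModuleCat.of R M) ◁ S.f).hom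
    rw [ModuleCat.hom_whiskerLeft]
    have hf : S.f.hom = x • (LinearMap.id : R →ₗ[R] R) := by
      rfl
    rw [hf, LinearMap.lTensor_smul, LinearMap.lTensor_id]
    intro z z' hzz'
    have hzz'' : x • z = x • z' := hzz'
    have h1 := congrArg (TensorProduct.rid R M) hzz''
    rw [map_smul, map_smul] at h1
    exact (TensorProduct.rid R M).injective (hxM h1)
  | succ j =>
    exact isZero_leftDerived_obj_of_isZero_resolution _ P (j + 2) (hzero j)

end Groth.Agent.S14434
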