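import Groth.Statements.S14436
import Mathlib

set_option autoImplicit false
universe u
open CAlg

namespace Groth.Agent.S14436

open scoped IntermediateField.algebraAdjoinAdjoin in
theorem result (K L : Type u) [Field K] [Field L] [Algebra K L]
    (hfg : ∃ s : Finset L, IntermediateField.adjoin K (s : Set L) = ⊤)
    (n : ℕ) (a : Fin n → L) (ha : IsTranscendenceBasis K a)
    (hsep : Algebra.IsSeparable ↥(IntermediateField.adjoin K (Set.range a)) L) :
    Module.finrank L (Ω[L⁄K]) = n := by
  have hS : Algebra.FormallyEtale (Algebra.adjoin K (Set.range a)) L := by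
    have h1 : Algebra.FormallyEtale (Algebra.adjoin K (Set.range a))
        (IntermediateField.adjoin K (Set.range a)) :=
      .of_isLocalization (nonZeroDivisors _)
    have h2 : Algebra.FormallyEtale (IntermediateField.adjoin K (Set.range a)) L :=
      Algebra.FormallyEtale.of_isSeparable _ L
    exact .comp (Algebra.adjoin K (Set.range a)) (IntermediateField.adjoin K (Set.range a)) L
  let e : MvPolynomial (Fin n) K ≃ₐ[K] Algebra.adjoin K (Set.range a) := ha.1.aevalEquiv
  let algPS : Algebra (MvPolynomial (Fin n) K) (Algebra.adjoin K (Set.range a)) :=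
    e.toAlgHom.toRingHom.toAlgebra
  let algPL : Algebra (MvPolynomial (Fin n) K) L := (MvPolynomial.aeval a).toRingHom.toAlgebra
  have : IsScalarTower K (MvPolynomial (Fin n) K) L :=
    .of_algebraMap_eq fun x => by
      show algebraMap K L x = MvPolynomial.aeval a (algebraMap K _ x)
      simp
  have : IsScalarTower (MvPolynomial (Fin n) K) (Algebra.adjoin K (Set.range a)) L :=
    .of_algebraMap_eq fun x => by
      show MvPolynomial.aeval a x = ((e x : Algebra.adjoin K (Set.range a)) : L)
      simp [e]
  have : Algebra.FormallyEtale (MvPolynomial (Fin n) K) (Algebra.adjoin K (Set.range a)) :=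
    Algebra.FormallyEtale.of_equiv (A := MvPolynomial (Fin n) K)
      { e with commutes' := fun r => rfl }
  have : Algebra.FormallyEtale (MvPolynomial (Fin n) K) L :=
    .comp (MvPolynomial (Fin n) K) (Algebra.adjoin K (Set.range a)) L
  let eq := KaehlerDifferential.tensorKaehlerEquivOfFormallyEtale K (MvPolynomial (Fin n) K) L
  rw [← eq.finrank_eq, Module.finrank_baseChange,
    Module.finrank_eq_card_basis (KaehlerDifferential.mvPolynomialBasis K (Fin n))]
  simp

end Groth.Agent.S14436
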