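import Groth.Statements.S14437
import Mathlib

set_option autoImplicit false
universe u
open CAlg

namespace Groth.Agent.S14437

open scoped TensorProduct
open KaehlerDifferential IsLocalRing

section general
variable (k : Type u) [Field k] (B : Type u) [CommRing B] [IsLocalRing B] [Algebra k B]
  (hB : Function.Bijective (algebraMap k (ResidueField B)))

/-- the "constant term" ring hom `B → k` -/
noncomputable def cst : B →+* k :=
  ((RingEquiv.ofBijective (algebraMap k (ResidueField B)) hB).symm : ResidueField B →+* k).comp
    (residue B)

lemma algebraMap_cst (b : B) : algebraMap k (ResidueField B) (cst k B hB b) = residue B b := by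
  simp only [cst, RingHom.comp_apply]
  exact (RingEquiv.ofBijective (algebraMap k (ResidueField B)) hB).apply_symm_apply _

lemma cst_algebraMap (z : k) : cst k B hB (algebraMap k B z) = z := by
  apply hB.1
  rw [algebraMap_cst]
  exact (IsScalarTower.algebraMap_apply k B (ResidueField B) z).symm

lemma sub_cst_mem (b : B) : b - algebraMap k B (cst k B hB b) ∈ maximalIdeal B := by
  rw [← residue_eq_zero_iff, map_sub, sub_eq_zero]
  have := algebraMap_cst k B hB b
  rw [IsScalarTower.algebraMap_apply k B (ResidueField B)] at this
  exact this.symm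

lemma cst_eq_zero_of_mem {b : B} (hb : b ∈ maximalIdeal B) : cst k B hB b = 0 := by
  apply hB.1
  rw [algebraMap_cst, map_zero]
  exact (residue_eq_zero_iff b).mpr hb

/-- the projection `b ↦ [b - c(b)]` to the cotangent space -/
noncomputable def proj (b : B) : CotangentSpace B :=
  (maximalIdeal B).toCotangent ⟨b - algebraMap k B (cst k B hB b), sub_cst_mem k B hB b⟩

lemma proj_add (b b' : B) : proj k B hB (b + b') = proj k B hB b + proj k B hB b' := by
  simp only [proj, ← map_add]
  congr 1
  ext
  simp only [map_add, Submodule.coe_add]
  ring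

lemma proj_of_mem {b : B} (hb : b ∈ maximalIdeal B) :
    proj k B hB b = (maximalIdeal B).toCotangent ⟨b, hb⟩ := by
  simp only [proj]
  congr 1
  ext
  simp [cst_eq_zero_of_mem k B hB hb]

lemma proj_mul (b b' : B) : proj k B hB (b * b') =
    cst k B hB b • proj k B hB b' + cst k B hB b' • proj k B hB b := by
  simp only [proj, ← LinearMap.map_smul_of_tower, ← map_add]
  rw [Ideal.toCotangent_eq, pow_two]
  have h : b * b' - algebraMap k B (cst k B hB (b * b')) -
      ((cst k B hB b • (⟨b' - algebraMap k B (cst k B hB b'), sub_cst_mem k B hB b'⟩ :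
          maximalIdeal B) +
        cst k B hB b' • (⟨b - algebraMap k B (cst k B hB b), sub_cst_mem k B hB b⟩ :
          maximalIdeal B) : maximalIdeal B) : B) =
      (b - algebraMap k B (cst k B hB b)) * (b' - algebraMap k B (cst k B hB b')) := by
    simp only [Submodule.coe_add, Submodule.coe_smul_of_tower, Algebra.smul_def, map_mul]
    ring
  rw [h]
  exact Ideal.mul_mem_mul (sub_cst_mem k B hB b) (sub_cst_mem k B hB b')

end general


section rel
variable (k : Type u) [Field k]
    (A B : Type u) [CommRing A] [CommRing B] [IsLocalRing A] [IsLocalRing B]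
    [Algebra k A] [Algebra k B] [Algebra A B] [IsScalarTower k A B]
    (hle : maximalIdeal A ≤ Ideal.comap (IsScalarTower.toAlgHom k A B) (maximalIdeal B))
    (hA : Function.Bijective (algebraMap k (ResidueField A)))
    (hB : Function.Bijective (algebraMap k (ResidueField B)))

include hle in
lemma cst_algebraMap_AB (a : A) : cst k B hB (algebraMap A B a) = cst k A hA a := by
  apply hB.1
  rw [algebraMap_cst]
  have h1 : algebraMap A B (a - algebraMap k A (cst k A hA a)) ∈ maximalIdeal B :=
    hle (sub_cst_mem k A hA a)
  rw [← residue_eq_zero_iff, map_sub, map_sub, sub_eq_zero,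
    ← IsScalarTower.algebraMap_apply k A B] at h1
  rw [h1]
  exact (IsScalarTower.algebraMap_apply k B (ResidueField B) _).symm

include hle in
lemma proj_algebraMap_AB (a : A) :
    proj k B hB (algebraMap A B a) =
      Ideal.mapCotangent (maximalIdeal A) (maximalIdeal B) (IsScalarTower.toAlgHom k A B) hle
        (proj k A hA a) := by
  simp only [proj, Ideal.mapCotangent_toCotangent]
  congr 1
  ext
  simp only [IsScalarTower.coe_toAlgHom', map_sub]
  rw [cst_algebraMap_AB k A B hle hA hB, ← IsScalarTower.algebraMap_apply k A B]

/-- the derivation attached to a functional vanishing on the image of `𝔪_A/𝔪_A²` -/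
noncomputable def derivOfFunctional (l : CotangentSpace B →ₗ[k] k)
    (hl : ∀ v, l (Ideal.mapCotangent (maximalIdeal A) (maximalIdeal B)
      (IsScalarTower.toAlgHom k A B) hle v) = 0) :
    Derivation A B (ResidueField B) where
  toFun b := algebraMap k (ResidueField B) (l (proj k B hB b))
  map_add' b b' := by rw [proj_add, map_add, map_add]
  map_smul' a b := by
    simp only [RingHom.id_apply, Algebra.smul_def (R := A) (A := B)]
    rw [proj_mul, map_add, map_smul, map_smul, proj_algebraMap_AB k A B hle hA hB, hl]
    simp only [smul_eq_mul, mul_zero, add_zero, map_mul, algebraMap_cst]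
    rw [Algebra.smul_def, IsScalarTower.algebraMap_apply A B (ResidueField B),
      ResidueField.algebraMap_eq]
  map_one_eq_zero' := by
    have h1 : proj k B hB 1 = 0 := by
      have := proj_mul k B hB 1 1
      simp only [mul_one, map_one, one_smul] at this
      have h2 : proj k B hB 1 + proj k B hB 1 - proj k B hB 1 = proj k B hB 1 := by abel
      rw [← this] at h2
      simpa using h2.symm
    show algebraMap k (ResidueField B) (l (proj k B hB 1)) = 0
    simp only [h1, map_zero]
  leibniz' b b' := by
    show algebraMap k (ResidueField B) (l (proj k B hB (b * b'))) =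
      b • algebraMap k (ResidueField B) (l (proj k B hB b')) +
      b' • algebraMap k (ResidueField B) (l (proj k B hB b))
    rw [proj_mul, map_add, map_smul, map_smul]
    simp only [smul_eq_mul, map_add, map_mul, algebraMap_cst]
    rw [Algebra.smul_def, Algebra.smul_def, ResidueField.algebraMap_eq]

/-- `𝔪_B/𝔪_B² → κ_B ⊗ Ω_{B/A}`, `[x] ↦ 1 ⊗ dx` -/
noncomputable def psi : CotangentSpace B →ₗ[B] ResidueField B ⊗[B] Ω[B⁄A] :=
  (kerCotangentToTensor A B (ResidueField B)) ∘ₗ
    (Ideal.mapCotangent (maximalIdeal B) (RingHom.ker (algebraMap B (ResidueField B)))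
      (AlgHom.id B B) (by
        intro x hx
        simpa [Ideal.mem_comap, RingHom.mem_ker] using hx))

lemma psi_toCotangent (x : maximalIdeal B) :
    psi A B ((maximalIdeal B).toCotangent x) = 1 ⊗ₜ D A B x.1 := by
  simp only [psi, LinearMap.comp_apply, Ideal.mapCotangent_toCotangent,
    kerCotangentToTensor_toCotangent]
  rfl

include hB in
lemma surj_algebraMap_A_res : Function.Surjective (algebraMap A (ResidueField B)) := by
  intro r
  obtain ⟨z, rfl⟩ := hB.2 r
  refine ⟨algebraMap k A z, ?_⟩
  rw [IsScalarTower.algebraMap_apply A B (ResidueField B),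
    ← IsScalarTower.algebraMap_apply k A B, ← IsScalarTower.algebraMap_apply k B (ResidueField B)]

include hB in
lemma psi_surjective : Function.Surjective (psi A B) := by
  intro w
  have hs := surj_algebraMap_A_res k A B hB
  have : Subsingleton (Ω[ResidueField B⁄A]) := subsingleton_of_surjective A _ hs
  obtain ⟨x, rfl⟩ := (exact_kerCotangentToTensor_mapBaseChange A B
    (ResidueField B) Ideal.Quotient.mk_surjective w).mp (Subsingleton.elim _ _)
  obtain ⟨⟨x, hx⟩, rfl⟩ := Ideal.toCotangent_surjective _ x
  have hx' : x ∈ maximalIdeal B := by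
    simpa [RingHom.mem_ker] using hx
  refine ⟨(maximalIdeal B).toCotangent ⟨x, hx'⟩, ?_⟩
  rw [psi_toCotangent, kerCotangentToTensor_toCotangent]

lemma psi_mapCotangent (v : CotangentSpace A) :
    psi A B (Ideal.mapCotangent (maximalIdeal A) (maximalIdeal B)
      (IsScalarTower.toAlgHom k A B) hle v) = 0 := by
  obtain ⟨x, rfl⟩ := Ideal.toCotangent_surjective _ v
  rw [Ideal.mapCotangent_toCotangent, psi_toCotangent]
  simp

include hA hB in
lemma ker_psi_le (v : CotangentSpace B) (hv : psi A B v = 0) :
    v ∈ LinearMap.range (Ideal.mapCotangent (maximalIdeal A) (maximalIdeal B)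
      (IsScalarTower.toAlgHom k A B) hle) := by
  by_contra hne
  obtain ⟨l, hlv, hl⟩ := Submodule.exists_le_ker_of_notMem hne
  have hl' : ∀ w, l (Ideal.mapCotangent (maximalIdeal A) (maximalIdeal B)
      (IsScalarTower.toAlgHom k A B) hle w) = 0 := fun w => hl ⟨w, rfl⟩
  set Dl := derivOfFunctional k A B hle hA hB l hl' with hDl
  obtain ⟨x, rfl⟩ := Ideal.toCotangent_surjective _ v
  rw [psi_toCotangent] at hv
  have h2 := congrArg (LinearMap.liftBaseChange (ResidueField B) Dl.liftKaehlerDifferential) hv
  simp only [LinearMap.liftBaseChange_tmul, Derivation.liftKaehlerDifferential_comp_D, map_zero,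
    one_smul] at h2
  have h3 : Dl x.1 = algebraMap k (ResidueField B) (l (proj k B hB x.1)) := rfl
  rw [h3, proj_of_mem k B hB x.2] at h2
  apply hlv
  apply hB.1
  rw [map_zero]
  exact h2


include hA hB in
theorem main [IsNoetherianRing B] :
    Module.finrank (ResidueField B) (ResidueField B ⊗[B] Ω[B⁄A]) +
      Module.finrank k (LinearMap.range (Ideal.mapCotangent (maximalIdeal A) (maximalIdeal B)
        (IsScalarTower.toAlgHom k A B) hle)) =
      Module.finrank k (CotangentSpace B) := by
  -- k ≃ κ_B
  let e : k ≃ₗ[k] ResidueField B := LinearEquiv.ofBijective (Algebra.linearMap k _) hB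
  have h1 : Module.finrank k (ResidueField B) = 1 := by
    rw [← e.finrank_eq, Module.finrank_self]
  have hfin1 : Module.Finite k (ResidueField B) := Module.Finite.equiv e
  have hst : IsScalarTower k (ResidueField B) (CotangentSpace B) := by
    apply IsScalarTower.of_algebraMap_smul
    intro z v
    rw [IsScalarTower.algebraMap_apply k B (ResidueField B), algebraMap_smul, algebraMap_smul]
  have hfin : Module.Finite k (CotangentSpace B) :=
    Module.Finite.trans (ResidueField B) (CotangentSpace B)
  have h2 : Module.finrank (ResidueField B) (ResidueField B ⊗[B] Ω[B⁄A]) =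
      Module.finrank k (ResidueField B ⊗[B] Ω[B⁄A]) := by
    rw [← Module.finrank_mul_finrank k (ResidueField B), h1, one_mul]
  let ψ : CotangentSpace B →ₗ[k] ResidueField B ⊗[B] Ω[B⁄A] := (psi A B).restrictScalars k
  have hr : LinearMap.range ψ = ⊤ := by
    rw [LinearMap.range_eq_top]
    exact psi_surjective k A B hB
  have hk : LinearMap.ker ψ = LinearMap.range (Ideal.mapCotangent (maximalIdeal A) (maximalIdeal B)
        (IsScalarTower.toAlgHom k A B) hle) := by
    apply le_antisymm
    · intro v hv
      exact ker_psi_le k A B hle hA hB v hv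
    · rintro _ ⟨w, rfl⟩
      exact psi_mapCotangent k A B hle w
  have := LinearMap.finrank_range_add_finrank_ker ψ
  rw [hr, hk, finrank_top] at this
  rw [h2]
  exact this

end rel


/-- Let k be a field and A → B a local homomorphism of Noetherian local k-algebras with residue fields k
(k → A/m_A and k → B/m_B bijective) — for instance the local rings at a closed point x and at its
image y under a morphism of schemes of finite type over an algebraically closed k. Then dim_k
(Ω_{B/A} ⊗_B B/m_B) + rank(m_A/m_A² → m_B/m_B²) = dim_k (m_B/m_B²): the fibre at x of the sheaf of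
relative differentials is dual to the kernel of the tangent map T_x X → T_y Y. (The published
statement is the canonical isomorphism (Ω_{X/Y})_(x)^∨ ≅ ker(df_x); stated here as the resulting
equality of dimensions. Its second assertion, dim (Ω_{X/Y})_(x) ≥ r when the fibre has an
r-dimensional component through x, is not included.) -/
theorem result (k : Type u) [Field k]
    (A B : Type u) [CommRing A] [CommRing B] [IsLocalRing A] [IsLocalRing B] [IsNoetherianRing A] [IsNoetherianRing B]
    [Algebra k A] [Algebra k B] [Algebra A B] [IsScalarTower k A B]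
    (hle : IsLocalRing.maximalIdeal A ≤ Ideal.comap (IsScalarTower.toAlgHom k A B) (IsLocalRing.maximalIdeal B))
    (hA : Function.Bijective (algebraMap k (IsLocalRing.ResidueField A)))
    (hB : Function.Bijective (algebraMap k (IsLocalRing.ResidueField B))) :
    Module.finrank (IsLocalRing.ResidueField B) (TensorProduct B (IsLocalRing.ResidueField B) (Ω[B⁄A])) +
      Module.finrank k ↥(LinearMap.range (Ideal.mapCotangent (IsLocalRing.maximalIdeal A) (IsLocalRing.maximalIdeal B)
        (IsScalarTower.toAlgHom k A B) hle)) =
      Module.finrank k (IsLocalRing.CotangentSpace B) := by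
  exact main k A B hle hA hB

end Groth.Agent.S14437
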