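import Groth.Statements.S14438
import Mathlib
import Groth.Agent.S6320
-- import your own Groth.Agent.* helpers here

set_option autoImplicit false
universe u
open CAlg

namespace Groth.Agent.S14438

/-- Let (A, m) be a local ring, B a commutative A-algebra which is free of finite rank d as an A-module,
and assume that for every maximal ideal n of B containing mB the induced map of residue fields A/m →
B/n is bijective (as for the points of a fibre of a finite flat morphism of varieties over an
algebraically closed field). Then the multiplicities of the points of the fibre add up to the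
degree: the sum over all such n of the length of the B_n-module (B/mB)_n equals d. -/
theorem result (A B : Type u) [CommRing A] [IsLocalRing A] [CommRing B] [Algebra A B]
    [Module.Free A B] [Module.Finite A B] (d : ℕ) (hd : Module.finrank A B = d)
    (hres : ∀ (n : Ideal B) [n.IsMaximal] (h : Ideal.map (algebraMap A B) (IsLocalRing.maximalIdeal A) ≤ n),
      Function.Bijective (Ideal.quotientMap n (algebraMap A B) (Ideal.map_le_iff_le_comap.mp h))) :
    finsum (fun n : {n : MaximalSpectrum B // Ideal.map (algebraMap A B) (IsLocalRing.maximalIdeal A) ≤ n.asIdeal} =>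
      Module.length (Localization.AtPrime n.1.asIdeal)
        (LocalizedModule n.1.asIdeal.primeCompl (B ⧸ Ideal.map (algebraMap A B) (IsLocalRing.maximalIdeal A)))) = (d : ℕ∞) := by
  classical
  have hint : Algebra.IsIntegral A B := Algebra.IsIntegral.of_finite A B
  have hover : ∀ n : MaximalSpectrum B,
      n.asIdeal.comap (algebraMap A B) = IsLocalRing.maximalIdeal A := fun n => by
    haveI := n.isMaximal
    exact IsLocalRing.eq_maximalIdeal (Ideal.isMaximal_comap_of_isIntegral_of_isMaximal n.asIdeal)
  have hle : ∀ n : MaximalSpectrum B,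
      Ideal.map (algebraMap A B) (IsLocalRing.maximalIdeal A) ≤ n.asIdeal := fun n =>
    Ideal.map_le_iff_le_comap.mpr (hover n).ge
  letI : Field (A ⧸ IsLocalRing.maximalIdeal A) := Ideal.Quotient.field _
  have hfink : Module.Finite (A ⧸ IsLocalRing.maximalIdeal A)
      (B ⧸ Ideal.map (algebraMap A B) (IsLocalRing.maximalIdeal A)) :=
    Module.Finite.of_restrictScalars_finite A _ _
  have hart : IsArtinianRing (B ⧸ Ideal.map (algebraMap A B) (IsLocalRing.maximalIdeal A)) :=
    IsArtinianRing.of_finite (A ⧸ IsLocalRing.maximalIdeal A) _
  have hfinite : Finite (MaximalSpectrum B) := by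
    let f : MaximalSpectrum (B ⧸ Ideal.map (algebraMap A B) (IsLocalRing.maximalIdeal A)) →
        MaximalSpectrum B := fun q =>
      ⟨q.asIdeal.comap (Ideal.Quotient.mk _),
        haveI := q.isMaximal
        Ideal.comap_isMaximal_of_surjective _ Ideal.Quotient.mk_surjective⟩
    refine Finite.of_surjective f fun n => ?_
    haveI := n.isMaximal
    refine ⟨⟨n.asIdeal.map (Ideal.Quotient.mk _),
      Ideal.IsMaximal.map_of_surjective_of_ker_le Ideal.Quotient.mk_surjective
        (by rw [Ideal.mk_ker]; exact hle n)⟩, ?_⟩
    apply MaximalSpectrum.ext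
    exact Ideal.comap_map_mk (hle n)
  have hfin : ∀ n : MaximalSpectrum B,
      Module.Finite (A ⧸ n.asIdeal.comap (algebraMap A B)) (B ⧸ n.asIdeal) := fun n =>
    Module.Finite.of_restrictScalars_finite A _ _
  have hrank : ∀ n : MaximalSpectrum B,
      Module.finrank (A ⧸ n.asIdeal.comap (algebraMap A B)) (B ⧸ n.asIdeal) = 1 := fun n => by
    haveI := n.isMaximal
    have hb := hres n.asIdeal (hle n)
    have hbij : Function.Bijective
        (Algebra.linearMap (A ⧸ n.asIdeal.comap (algebraMap A B)) (B ⧸ n.asIdeal)) := by
      constructor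
      · exact Ideal.algebraMap_quotient_injective
      · intro b
        obtain ⟨a, ha⟩ := hb.2 b
        obtain ⟨a0, rfl⟩ := Ideal.Quotient.mk_surjective a
        refine ⟨Ideal.Quotient.mk _ a0, ?_⟩
        rw [← ha]
        rfl
    rw [← (LinearEquiv.ofBijective _ hbij).finrank_eq, Module.finrank_self]
  have hlenA : Module.length A (B ⧸ Ideal.map (algebraMap A B) (IsLocalRing.maximalIdeal A)) = d := by
    rw [Module.length_eq_of_surjective (S := A) (R := A ⧸ IsLocalRing.maximalIdeal A)
      (M := B ⧸ Ideal.map (algebraMap A B) (IsLocalRing.maximalIdeal A)) Ideal.Quotient.mk_surjective,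
      Module.length_eq_finrank, IsLocalRing.finrank_quotient_map, hd]
  have hM : IsFiniteLength B (B ⧸ Ideal.map (algebraMap A B) (IsLocalRing.maximalIdeal A)) := by
    rw [← Module.length_ne_top_iff]
    have h1 := Submodule.length_le_length_restrictScalars A
      (⊤ : Submodule B (B ⧸ Ideal.map (algebraMap A B) (IsLocalRing.maximalIdeal A)))
    rw [Module.length_top, Submodule.restrictScalars_top, Module.length_top, hlenA] at h1
    exact ne_top_of_le_ne_top (ENat.natCast_ne_top d) h1
  have key := Groth.Agent.S6320.result hover hfin
    (B ⧸ Ideal.map (algebraMap A B) (IsLocalRing.maximalIdeal A)) hM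
  rw [hlenA] at key
  rw [key]
  rw [← finsum_comp_equiv (Equiv.subtypeUnivEquiv hle)]
  refine finsum_congr fun n => ?_
  rw [hrank, Nat.cast_one, one_mul]
  rfl

end Groth.Agent.S14438
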