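import Groth.Statements.S14442
import Mathlib

set_option autoImplicit false
universe u
open GrNak

namespace Groth.Agent.S14442

theorem result {R : Type u} [CommRing R] {σ : Type u} [SetLike σ R] [AddSubmonoidClass σ R]
    (𝒜 : ℕ → σ) [GradedRing 𝒜]
    {M : Type u} [AddCommGroup M] [Module R M] {τ : Type u} [SetLike τ M] [AddSubmonoidClass τ M]
    (ℳ : ℕ → τ) [DirectSum.Decomposition ℳ] [SetLike.GradedSMul 𝒜 ℳ]
    (N : Submodule R M) (hN : ∀ x ∈ N, ∀ i : ℕ, (DirectSum.decompose ℳ x i : M) ∈ N)
    (h : (HomogeneousIdeal.irrelevant 𝒜).toIdeal • (⊤ : Submodule R M) ⊔ N = ⊤) :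
    N = ⊤ := by
  classical
  have hmem : ∀ i : ℕ, ∀ x : M, x ∈ ℳ i → x ∈ N := by
    intro i
    induction i using Nat.strong_induction_on with
    | _ i ih =>
      intro x hx
      have hxtop : x ∈ (HomogeneousIdeal.irrelevant 𝒜).toIdeal • (⊤ : Submodule R M) ⊔ N := by
        rw [h]; trivial
      obtain ⟨y, hy, n, hn, rfl⟩ := Submodule.mem_sup.mp hxtop
      have hcomp : (DirectSum.decompose ℳ (y + n) i : M) = y + n :=
        DirectSum.decompose_of_mem_same ℳ hx
      rw [← hcomp, DirectSum.decompose_add, DirectSum.add_apply, AddMemClass.coe_add]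
      refine N.add_mem ?_ (hN n hn i)
      refine Submodule.smul_induction_on hy ?_ ?_
      · intro r hr m _
        have hr0 : (DirectSum.decompose 𝒜 r 0 : R) = 0 := by
          have := (HomogeneousIdeal.mem_irrelevant_iff 𝒜 r).mp hr
          simpa [GradedRing.proj_apply] using this
        have hrsum := DirectSum.sum_support_decompose 𝒜 r
        have hmsum := DirectSum.sum_support_decompose ℳ m
        rw [← hrsum, ← hmsum, Finset.sum_smul]
        simp_rw [Finset.smul_sum]
        rw [DirectSum.decompose_sum, DFinsupp.finsetSum_apply, AddSubmonoidClass.coe_finsetSum]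
        refine N.sum_mem fun a ha => ?_
        rw [DirectSum.decompose_sum, DFinsupp.finsetSum_apply, AddSubmonoidClass.coe_finsetSum]
        refine N.sum_mem fun b hb => ?_
        have hab : ((DirectSum.decompose 𝒜 r a : R) • (DirectSum.decompose ℳ m b : M)) ∈ ℳ (a + b) :=
          SetLike.GradedSMul.smul_mem (DirectSum.decompose 𝒜 r a).2 (DirectSum.decompose ℳ m b).2
        by_cases hi : a + b = i
        · subst hi
          rw [DirectSum.decompose_of_mem_same ℳ hab]
          have ha0 : a ≠ 0 := by
            rintro rfl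
            rw [DFinsupp.mem_support_iff] at ha
            apply ha
            exact Subtype.ext hr0
          exact N.smul_mem _ (ih b (by omega) _ (DirectSum.decompose ℳ m b).2)
        · rw [DirectSum.decompose_of_mem_ne ℳ hab hi]
          exact N.zero_mem
      · intro a b ha hb
        rw [DirectSum.decompose_add, DirectSum.add_apply, AddMemClass.coe_add]
        exact N.add_mem ha hb
  rw [eq_top_iff]
  rintro x -
  rw [← DirectSum.sum_support_decompose ℳ x]
  exact N.sum_mem fun i _ => hmem i _ (DirectSum.decompose ℳ x i).2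

end Groth.Agent.S14442
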