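import Mathlib
import Groth.Statements.S14447

set_option autoImplicit false
universe w v u
open AlgGrp

namespace Groth.Agent.S14447

open CategoryTheory CategoryTheory.Limits

section
variable {C : Type u} [Category.{v} C] [HasFiniteProducts C] [HasCoproducts.{w} C]

lemma ι_map (I J : Type w) (f : I ⟶ J) (i : I) :
    Sigma.ι (fun _ : I => ⊤_ C) i ≫ (sigmaConst.{w}.obj (⊤_ C)).map f =
      Sigma.ι (fun _ : J => ⊤_ C) (f i) := by
  simp [sigmaConst]

/-- the comparison map `D (I × J) ⟶ D I ⨯ D J`. -/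
noncomputable def psi (I J : Type w) :
    (sigmaConst.{w}.obj (⊤_ C)).obj (I × J) ⟶
      (sigmaConst.{w}.obj (⊤_ C)).obj I ⨯ (sigmaConst.{w}.obj (⊤_ C)).obj J :=
  prod.lift ((sigmaConst.{w}.obj (⊤_ C)).map (↾_root_.Prod.fst))
    ((sigmaConst.{w}.obj (⊤_ C)).map (↾_root_.Prod.snd))

/-- `∐_{i} D J ⟶ D (I × J)` -/
noncomputable def theta (I J : Type w) :
    (∐ fun _ : I => (sigmaConst.{w}.obj (⊤_ C)).obj J) ⟶
      (sigmaConst.{w}.obj (⊤_ C)).obj (I × J) :=
  Sigma.desc fun i => Sigma.desc fun j => Sigma.ι (fun _ : I × J => ⊤_ C) (i, j)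

/-- inverse of `theta` -/
noncomputable def theta' (I J : Type w) :
    (sigmaConst.{w}.obj (⊤_ C)).obj (I × J) ⟶
    (∐ fun _ : I => (sigmaConst.{w}.obj (⊤_ C)).obj J) :=
  Sigma.desc fun p => Sigma.ι (fun _ : J => ⊤_ C) p.2 ≫
    Sigma.ι (fun _ : I => (sigmaConst.{w}.obj (⊤_ C)).obj J) p.1

lemma theta_theta' (I J : Type w) : theta (C := C) I J ≫ theta' I J = 𝟙 _ := by
  apply Sigma.hom_ext
  intro i
  apply Sigma.hom_ext
  intro j
  simp [theta, theta']

lemma theta'_theta (I J : Type w) : theta' (C := C) I J ≫ theta I J = 𝟙 _ := by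
  apply Sigma.hom_ext
  rintro ⟨i, j⟩
  simp [theta, theta']

instance (I J : Type w) : IsIso (theta (C := C) I J) :=
  ⟨theta' I J, theta_theta' I J, theta'_theta I J⟩

lemma theta_psi (I J : Type w) :
    theta (C := C) I J ≫ psi I J =
      Sigma.desc fun i : I =>
        prod.lift (terminal.from ((sigmaConst.{w}.obj (⊤_ C)).obj J) ≫
          Sigma.ι (fun _ : I => ⊤_ C) i) (𝟙 _) := by
  apply Sigma.hom_ext
  intro i
  apply Sigma.hom_ext
  intro j
  apply Limits.prod.hom_ext
  · simp only [theta, psi, Category.assoc, colimit.ι_desc_assoc, Cofan.mk_ι_app,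
      colimit.ι_desc, prod.lift_fst, ι_map, prod.comp_lift]
    rw [← Category.assoc]
    have : Sigma.ι (fun _ : J => ⊤_ C) j ≫
        terminal.from ((sigmaConst.{w}.obj (⊤_ C)).obj J) = 𝟙 _ := Subsingleton.elim _ _
    rw [this, Category.id_comp]
    rfl
  · simp only [theta, psi, Category.assoc, colimit.ι_desc_assoc, Cofan.mk_ι_app,
      colimit.ι_desc, prod.lift_snd, ι_map, prod.comp_lift]
    erw [prod.lift_snd]
    exact (Category.comp_id _).symm

end

open CategoryTheory CategoryTheory.Limits in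
theorem result {C : Type u} [Category.{v} C]
    [HasFiniteProducts C] [HasCoproducts.{w} C]
    (h : ∀ (I : Type w) (U : C), IsIso (Sigma.desc fun i : I =>
      prod.lift (terminal.from U ≫ Sigma.ι (fun _ : I => ⊤_ C) i) (𝟙 U))) :
    PreservesFiniteProducts (sigmaConst.{w}.obj (⊤_ C)) := by
  have hpsi : ∀ I J : Type w, IsIso (psi (C := C) I J) := by
    intro I J
    have h1 : IsIso (theta (C := C) I J ≫ psi I J) := by
      rw [theta_psi]
      exact h I _
    exact IsIso.of_isIso_comp_left (theta (C := C) I J) (psi I J)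
  have hbin : PreservesLimitsOfShape (Discrete WalkingPair) (sigmaConst.{w}.obj (⊤_ C)) := by
    refine @preservesBinaryProducts_of_isIso_prodComparison _ _ _ _ _ _ _ (fun {I J} => ?_)
    have e : prodComparison (sigmaConst.{w}.obj (⊤_ C)) I J =
        (sigmaConst.{w}.obj (⊤_ C)).map (Types.binaryProductIso I J).hom ≫ psi I J := by
      apply Limits.prod.hom_ext
      · simp only [prodComparison_fst, psi, Category.assoc, prod.lift_fst, ← Functor.map_comp,
          Types.binaryProductIso_hom_comp_fst]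
      · simp only [prodComparison_snd, psi, Category.assoc, prod.lift_snd, ← Functor.map_comp,
          Types.binaryProductIso_hom_comp_snd]
    rw [e]
    have := hpsi I J
    infer_instance
  have hterm : PreservesLimitsOfShape (Discrete PEmpty.{1}) (sigmaConst.{w}.obj (⊤_ C)) := by
    have : Unique (⊤_ (Type w)) := Equiv.unique (Types.terminalIso.{w}).toEquiv
    have : PreservesLimit (Functor.empty.{0} (Type w)) (sigmaConst.{w}.obj (⊤_ C)) :=
      preservesTerminal_of_iso _ (coproductUniqueIso (fun _ : (⊤_ (Type w)) => ⊤_ C))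
    exact preservesLimitsOfShape_pempty_of_preservesTerminal _
  exact PreservesFiniteProducts.of_preserves_binary_and_terminal _

end Groth.Agent.S14447
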