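import Groth.Statements.S14448
-- import your own Groth.Agent.* helpers here

set_option autoImplicit false
universe u
open Coherent

namespace Groth.Agent.S14448


section Abstract

open CategoryTheory

variable {C D : Type*} [Category C] [Category D] {L₁ L₂ : C ⥤ D} {R₁ R₂ : D ⥤ C}
  (adj₁ : L₁ ⊣ R₁) (adj₂ : L₂ ⊣ R₂) (e : L₁ ≅ L₂) (r : R₁ ≅ R₂)
  (hconj : conjugateEquiv adj₁ adj₂ e.inv = r.hom)

include hconj

lemma unit_eq_of_conj (A : C) :
    adj₁.unit.app A ≫ R₁.map (e.hom.app A) = adj₂.unit.app A ≫ r.inv.app (L₂.obj A) := by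
  have h := unit_conjugateEquiv adj₁ adj₂ e.inv A
  rw [hconj] at h
  have h2 : adj₁.unit.app A = adj₂.unit.app A ≫ R₂.map (e.inv.app A) ≫ r.inv.app (L₁.obj A) := by
    rw [← Category.assoc, ← h]; simp
  rw [h2, Category.assoc, Category.assoc]
  congr 1
  rw [← r.inv.naturality, ← Category.assoc, ← R₂.map_comp]; simp

lemma transpose_eq_of_conj (A : C) (B : D) (m : A ⟶ R₂.obj B) :
    e.hom.app A ≫ (adj₂.homEquiv A B).symm m =
      (adj₁.homEquiv A B).symm (m ≫ r.inv.app B) := by
  apply (adj₁.homEquiv A B).injective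
  rw [Equiv.apply_symm_apply, Adjunction.homEquiv_unit, R₁.map_comp, ← Category.assoc,
    unit_eq_of_conj adj₁ adj₂ e r hconj A, Category.assoc, ← r.inv.naturality, ← Category.assoc]
  congr 1
  rw [← Adjunction.homEquiv_unit, Equiv.apply_symm_apply]

end Abstract

open AlgebraicGeometry CategoryTheory Scheme.Modules Opposite in
lemma key {Y X : Scheme.{u}} (f : X ⟶ Y) {P₀ : Y.Modules} {P Q : X.Modules}
    (uf : P₀ ⟶ (pushforward f).obj P) (α : P ⟶ Q) {A B : Y.Opens} {C : X.Opens}
    (p : op A = op B) (q : op (f ⁻¹ᵁ B) = op C) (r : op (f ⁻¹ᵁ A) = op C) :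
    uf.app A ≫ α.app (f ⁻¹ᵁ A) ≫ Q.presheaf.map (eqToHom r) =
      P₀.presheaf.map (eqToHom p) ≫ uf.app B ≫ P.presheaf.map (eqToHom q) ≫ α.app C := by
  obtain rfl : A = B := op_injective p
  obtain rfl : f ⁻¹ᵁ A = C := op_injective q
  simp

open AlgebraicGeometry CategoryTheory Scheme.Modules in
/-- Take two commutative squares of schemes side by side, f : X → Y over φ : U → V (vertical maps ξ : X
→ U and η : Y → V, f ≫ η = ξ ≫ φ) and g : Y → Z over ψ : V → W (vertical map ζ : Z → W, g ≫ ζ = η ≫
ψ), and an O_Z-module L. For a commutative square the base change map β_{f,φ}(M) : φ^* η_* M → ξ_*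
f^* M is the adjoint of η_*(unit) : η_* M → η_* f_* f^* M = φ_* ξ_* f^* M, and α denotes the
composition isomorphisms of module pullbacks. Then the composite of α_{φ,ψ}(ζ_* L) : φ^* ψ^* ζ_* L →
(φ ≫ ψ)^* ζ_* L with β_{f ≫ g, φ ≫ ψ}(L) equals the composite of φ^* β_{g,ψ}(L), β_{f,φ}(g^* L) and
ξ_* α_{f,g}(L), as maps φ^* ψ^* ζ_* L → ξ_* (f ≫ g)^* L. No cartesian or finiteness hypothesis is
made; the outer square is used through any proof hw of its commutativity. -/
theorem result {X Y Z U V W : Scheme.{u}} (f : X ⟶ Y) (g : Y ⟶ Z)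
    (ξ : X ⟶ U) (η : Y ⟶ V) (ζ : Z ⟶ W) (φ : U ⟶ V) (ψ : V ⟶ W)
    (h₁ : f ≫ η = ξ ≫ φ) (h₂ : g ≫ ζ = η ≫ ψ) (hw : (f ≫ g) ≫ ζ = ξ ≫ (φ ≫ ψ)) (L : Z.Modules) :
    (pullbackComp φ ψ).hom.app ((pushforward ζ).obj L) ≫
        (((pullbackPushforwardAdjunction (φ ≫ ψ)).homEquiv ((pushforward ζ).obj L)
            ((pushforward ξ).obj ((pullback (f ≫ g)).obj L))).symm
          ((pushforward ζ).map ((pullbackPushforwardAdjunction (f ≫ g)).unit.app L) ≫
            (pushforwardComp (f ≫ g) ζ).hom.app ((pullback (f ≫ g)).obj L) ≫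
            (pushforwardCongr hw).hom.app ((pullback (f ≫ g)).obj L) ≫
            (pushforwardComp ξ (φ ≫ ψ)).inv.app ((pullback (f ≫ g)).obj L))) =
      (pullback φ).map (((pullbackPushforwardAdjunction ψ).homEquiv ((pushforward ζ).obj L)
            ((pushforward η).obj ((pullback g).obj L))).symm
          ((pushforward ζ).map ((pullbackPushforwardAdjunction g).unit.app L) ≫
            (pushforwardComp g ζ).hom.app ((pullback g).obj L) ≫
            (pushforwardCongr h₂).hom.app ((pullback g).obj L) ≫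
            (pushforwardComp η ψ).inv.app ((pullback g).obj L))) ≫
        (((pullbackPushforwardAdjunction φ).homEquiv ((pushforward η).obj ((pullback g).obj L))
            ((pushforward ξ).obj ((pullback f).obj ((pullback g).obj L)))).symm
          ((pushforward η).map ((pullbackPushforwardAdjunction f).unit.app ((pullback g).obj L)) ≫
            (pushforwardComp f η).hom.app ((pullback f).obj ((pullback g).obj L)) ≫
            (pushforwardCongr h₁).hom.app ((pullback f).obj ((pullback g).obj L)) ≫
            (pushforwardComp ξ φ).inv.app ((pullback f).obj ((pullback g).obj L)))) ≫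
        (pushforward ξ).map ((pullbackComp f g).hom.app L) := by
  have hu := unit_eq_of_conj
    ((pullbackPushforwardAdjunction g).comp (pullbackPushforwardAdjunction f))
    (pullbackPushforwardAdjunction (f ≫ g)) (pullbackComp f g) (pushforwardComp f g)
    (conjugateEquiv_pullbackComp_inv f g) L
  rw [transpose_eq_of_conj
    ((pullbackPushforwardAdjunction ψ).comp (pullbackPushforwardAdjunction φ))
    (pullbackPushforwardAdjunction (φ ≫ ψ)) (pullbackComp φ ψ) (pushforwardComp φ ψ)
    (conjugateEquiv_pullbackComp_inv φ ψ), Equiv.symm_apply_eq, Adjunction.comp_homEquiv]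
  dsimp only [Equiv.trans_apply]
  rw [Adjunction.homEquiv_naturality_left, Adjunction.homEquiv_naturality_right,
    Equiv.apply_symm_apply, Adjunction.homEquiv_naturality_right, Equiv.apply_symm_apply]
  have hu' : (pullbackPushforwardAdjunction (f ≫ g)).unit.app L =
      ((pullbackPushforwardAdjunction g).comp (pullbackPushforwardAdjunction f)).unit.app L ≫
        (pushforward f ⋙ pushforward g).map ((pullbackComp f g).hom.app L) ≫
          (pushforwardComp f g).hom.app ((pullback (f ≫ g)).obj L) := by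
    rw [← Category.assoc, hu, Category.assoc, Iso.inv_hom_id_app]
    exact (Category.comp_id _).symm
  rw [hu']
  refine Scheme.Modules.hom_ext _ _ fun O => ?_
  simp
  congr 1
  exact key f ((pullbackPushforwardAdjunction f).unit.app ((pullback g).obj L))
    ((pullbackComp f g).hom.app L) _ _ _

end Groth.Agent.S14448
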