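import Groth.Statements.S14453
import Mathlib
import Groth.Agent.Lib.Helper43.EtOpenSub
import Groth.Agent.Lib.Helper43.ClopenExt

set_option autoImplicit false
universe w u
open CategoryTheory AlgebraicGeometry
open EtCore

namespace Groth.Agent.S14453

open Opposite Groth.Agent.Lib.Helper43 Groth.Agent.Lib.Helper43.ClopenExt

/-- scheme-level refinement: an open map is, near any point, a surjection between affine opens -/
lemma exists_affine_opens {TL WL : Scheme.{u}} (g : WL ⟶ TL) (hg : IsOpenMap g.base) (w : WL) :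
    ∃ (T₁ : TL.Opens) (W₁ : WL.Opens), IsAffineOpen T₁ ∧ IsAffineOpen W₁ ∧ w ∈ W₁ ∧
      W₁ ≤ g ⁻¹ᵁ T₁ ∧ (T₁ : Set TL) ⊆ g.base '' (W₁ : Set WL) := by
  obtain ⟨T₀, hT₀, hxT₀, -⟩ := exists_isAffineOpen_mem_and_subset
    (X := TL) (x := g.base w) (U := ⊤) trivial
  have hw0 : w ∈ g ⁻¹ᵁ T₀ := hxT₀
  obtain ⟨W₀, hW₀, hwW₀, hW₀T₀⟩ := exists_isAffineOpen_mem_and_subset hw0
  let V : TL.Opens := ⟨g.base '' (W₀ : Set WL), hg _ W₀.isOpen⟩
  have hxV : g.base w ∈ V := ⟨w, hwW₀, rfl⟩
  obtain ⟨r, hrV, hxr⟩ := hT₀.exists_basicOpen_le ⟨g.base w, hxV⟩ hxT₀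
  have hle : W₀ ≤ g ⁻¹ᵁ T₀ := hW₀T₀
  let r' : Γ(WL, W₀) := WL.presheaf.map (homOfLE hle).op (g.app T₀ r)
  refine ⟨TL.basicOpen r, WL.basicOpen r', hT₀.basicOpen r, hW₀.basicOpen r', ?_, ?_, ?_⟩
  · rw [Scheme.basicOpen_res, ← Scheme.preimage_basicOpen]
    exact ⟨hwW₀, hxr⟩
  · rw [Scheme.basicOpen_res, ← Scheme.preimage_basicOpen]
    exact inf_le_right
  · intro y hy
    obtain ⟨w', hw', rfl⟩ := hrV hy
    refine ⟨w', ?_, rfl⟩
    rw [Scheme.basicOpen_res, ← Scheme.preimage_basicOpen]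
    exact ⟨hw', hy⟩

/-- refinement in the small étale site -/
lemma exists_affine_refinement {X : Scheme.{u}} {T W : X.Etale} (g : W ⟶ T) (w : W.left) :
    ∃ (T₁ W₁ : X.Etale) (ι : T₁ ⟶ T) (κ : W₁ ⟶ W) (g₁ : W₁ ⟶ T₁),
      IsAffine T₁.left ∧ IsAffine W₁.left ∧ Surjective g₁.left ∧ IsOpenImmersion ι.left ∧
      g₁ ≫ ι = κ ≫ g ∧ g.left.base w ∈ Set.range ι.left.base := by
  obtain ⟨TL, th, hth, rfl⟩ : ∃ (TL : Scheme.{u}) (th : TL ⟶ X) (hth : Etale th),
      T = @Scheme.Etale.mk _ _ th hth := ⟨T.left, T.hom, inferInstance, rfl⟩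
  obtain ⟨WL, wh, hwh, rfl⟩ : ∃ (WL : Scheme.{u}) (wh : WL ⟶ X) (hwh : Etale wh),
      W = @Scheme.Etale.mk _ _ wh hwh := ⟨W.left, W.hom, inferInstance, rfl⟩
  let gl : WL ⟶ TL := g.left
  have hgl : Etale gl := inferInstanceAs (Etale g.left)
  obtain ⟨T₁, W₁, hT₁, hW₁, hw, hle, hsurj⟩ := exists_affine_opens gl gl.isOpenMap w
  have hrange : Set.range (subι wh W₁ ≫ g).left.base ⊆ (T₁ : Set TL) := by
    rintro _ ⟨p, rfl⟩
    exact hle p.2
  let g₁ : sub wh W₁ ⟶ sub th T₁ := liftSub th T₁ (subι wh W₁ ≫ g) hrange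
  have hg₁ : g₁ ≫ subι th T₁ = subι wh W₁ ≫ g := liftSub_ι th T₁ _ hrange
  have hg₁l : (g₁.left : (W₁ : Scheme.{u}) ⟶ (T₁ : Scheme.{u})) ≫ T₁.ι = W₁.ι ≫ gl :=
    congrArg (fun t => t.left) hg₁
  refine ⟨sub th T₁, sub wh W₁, subι th T₁, subι wh W₁, g₁, hT₁, hW₁, ?_, ?_, hg₁, ?_⟩
  · constructor
    intro y
    obtain ⟨w', hw', hw'y⟩ := hsurj y.2
    refine ⟨⟨w', hw'⟩, ?_⟩
    apply T₁.ι.isOpenEmbedding.injective
    have h1 : T₁.ι.base ((g₁.left : (W₁ : Scheme.{u}) ⟶ (T₁ : Scheme.{u})).base ⟨w', hw'⟩) =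
        gl.base (W₁.ι.base ⟨w', hw'⟩) := congrArg (fun m => m.base ⟨w', hw'⟩) hg₁l
    exact h1.trans hw'y
  · exact inferInstanceAs (IsOpenImmersion T₁.ι)
  · have : (T₁ : Set TL) = Set.range (subι th T₁).left.base := (range_subι th T₁).symm
    rw [← this]
    exact hle hw

lemma openImmersion_le_etale :
    (@IsOpenImmersion : MorphismProperty Scheme.{u}) ≤ @Etale := by
  intro A B f hf
  have : IsOpenImmersion f := hf
  infer_instance

set_option backward.isDefEq.respectTransparency.types false in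
lemma mem_zar_iff {X : Scheme.{u}} (U : X.Etale) (R : Sieve U) :
    R ∈ X.smallGrothendieckTopology (P := @IsOpenImmersion) U ↔
      ∀ x : U.left, ∃ (V : X.Etale) (f : V ⟶ U) (y : V.left),
        R f ∧ IsOpenImmersion f.left ∧ f.left y = x := by
  have h0 : X.smallGrothendieckTopology (P := @IsOpenImmersion) (Q := @Etale) =
      (X.smallPretopology (Q := @Etale) (P := @IsOpenImmersion)).toGrothendieck :=
    Scheme.smallGrothendieckTopology_eq_toGrothendieck_smallPretopology _ openImmersion_le_etale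
  rw [h0]
  exact Scheme.mem_toGrothendieck_smallPretopology (P := @IsOpenImmersion) (Q := @Etale) U R

lemma zar_le_etale (X : Scheme.{u}) :
    X.smallGrothendieckTopology (P := @IsOpenImmersion) ≤ X.smallEtaleTopology := by
  intro U R hR
  have hR' := (mem_zar_iff U R).1 hR
  refine (EtOpenSub.mem_smallEtaleTopology_iff' U R).2 (fun x => ?_)
  obtain ⟨V, f, y, h1, -, h3⟩ := hR' x
  exact ⟨V, f, y, h1, h3⟩

lemma generate_singleton_mem {X : Scheme.{u}} {U V : X.Etale} (f : V ⟶ U) [Surjective f.left] :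
    Sieve.generate (Presieve.singleton f) ∈ X.smallEtaleTopology U := by
  refine (EtOpenSub.mem_smallEtaleTopology_iff' U _).2 (fun x => ?_)
  obtain ⟨y, hy⟩ := f.left.surjective x
  exact ⟨V, f, y, ⟨V, 𝟙 V, f, Presieve.singleton_self f, Category.id_comp f⟩, hy⟩

section Sheaf

variable {X : Scheme.{u}} (F : X.Etaleᵒᵖ ⥤ Type w)
  (hzar : Presieve.IsSheaf (X.smallGrothendieckTopology (P := @IsOpenImmersion)) F)
  (haff : ∀ (U V : X.Etale) [IsAffine U.left] [IsAffine V.left] (f : V ⟶ U) [Surjective f.left],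
          Presieve.IsSheafFor F (Presieve.singleton f))

include hzar haff

lemma ext_of_cover {T : X.Etale} (R : Sieve T) (hR : R ∈ X.smallEtaleTopology T)
    (s s' : F.obj (op T)) (h : ∀ (W : X.Etale) (g : W ⟶ T), R g → F.map g.op s = F.map g.op s') :
    s = s' := by
  let Z : Sieve T :=
    { arrows := fun T' k => F.map k.op s = F.map k.op s'
      downward_closed := by
        intro T₁ T₂ k hk k'
        rw [op_comp, Functor.map_comp_apply, Functor.map_comp_apply, hk] }
  have hZ : Z ∈ X.smallGrothendieckTopology (P := @IsOpenImmersion) T := by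
    refine (mem_zar_iff T Z).2 (fun x => ?_)
    obtain ⟨W, g, w, hg, hw⟩ := (EtOpenSub.mem_smallEtaleTopology_iff' T R).1 hR x
    obtain ⟨T₁, W₁, ι, κ, g₁, hT₁, hW₁, hs, hι, hcomm, hmem⟩ := exists_affine_refinement g w
    obtain ⟨y, hy⟩ := hmem
    refine ⟨T₁, ι, y, ?_, hι, hy.trans hw⟩
    have hinj : Function.Injective (F.map g₁.op) :=
      Presieve.isSeparatedFor_singleton.1 (haff T₁ W₁ g₁).isSeparatedFor
    apply hinj
    change F.map g₁.op (F.map ι.op s) = F.map g₁.op (F.map ι.op s')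
    rw [← Functor.map_comp_apply, ← Functor.map_comp_apply, ← op_comp, hcomm, op_comp,
      Functor.map_comp_apply, Functor.map_comp_apply, h W g hg]
  exact (hzar Z hZ).isSeparatedFor.ext (fun T' k hk => hk)

omit hzar haff in
lemma fam_congr {T : X.Etale} {R : Sieve T} (x : Presieve.FamilyOfElements F R.arrows)
    {Z : X.Etale} {f f' : Z ⟶ T} (e : f = f') (hf : R f) (hf' : R f') : x f hf = x f' hf' := by
  subst e; rfl

lemma isSheafFor_of_mem {T : X.Etale} (R : Sieve T) (hR : R ∈ X.smallEtaleTopology T) :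
    Presieve.IsSheafFor F R.arrows := by
  intro x hx
  have hxs := (Presieve.compatible_iff_sieveCompatible x).1 hx
  have hdata : ∀ p : T.left, ∃ (T₁ W₁ W : X.Etale) (ι : T₁ ⟶ T) (g : W ⟶ T) (κ : W₁ ⟶ W)
      (g₁ : W₁ ⟶ T₁), IsAffine T₁.left ∧ IsAffine W₁.left ∧ Surjective g₁.left ∧
      IsOpenImmersion ι.left ∧ g₁ ≫ ι = κ ≫ g ∧ R g ∧ p ∈ Set.range ι.left.base := by
    intro p
    obtain ⟨W, g, w, hg, hw⟩ := (EtOpenSub.mem_smallEtaleTopology_iff' T R).1 hR p
    obtain ⟨T₁, W₁, ι, κ, g₁, hT₁, hW₁, hs, hι, hcomm, hmem⟩ := exists_affine_refinement g w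
    exact ⟨T₁, W₁, W, ι, g, κ, g₁, hT₁, hW₁, hs, hι, hcomm, hg, hw ▸ hmem⟩
  choose T₁ W₁ W ι g κ g₁ hT₁ hW₁ hs hι hcomm hg hmem using hdata
  have hR₁ : ∀ p, R (g₁ p ≫ ι p) := fun p => by
    rw [hcomm]; exact R.downward_closed (hg p) (κ p)
  have ht : ∀ p, ∃ y : F.obj (op (T₁ p)), F.map (g₁ p).op y = x (g₁ p ≫ ι p) (hR₁ p) := by
    intro p
    have := hT₁ p
    have := hW₁ p
    have := hs p
    refine (Presieve.isSheafFor_singleton.1 (haff (T₁ p) (W₁ p) (g₁ p)) _ ?_).exists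
    intro Z p₁ p₂ h12
    rw [← hxs, ← hxs]
    exact fam_congr F x (by rw [← Category.assoc, h12, Category.assoc]) _ _
  choose t ht1 using ht
  have claim : ∀ p (Z : X.Etale) (h : Z ⟶ T₁ p) (hh : R (h ≫ ι p)),
      F.map h.op (t p) = x (h ≫ ι p) hh := by
    intro p Z h hh
    have := hs p
    have hcov : (Sieve.generate (Presieve.singleton (g₁ p))).pullback h ∈
        X.smallEtaleTopology Z :=
      X.smallEtaleTopology.pullback_stable h (generate_singleton_mem (g₁ p))
    refine ext_of_cover F hzar haff _ hcov _ _ ?_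
    intro Z' k hk
    obtain ⟨Y, l, m, hm, hlm⟩ := hk
    obtain ⟨⟩ := hm
    rw [← Functor.map_comp_apply, ← op_comp, ← hlm, op_comp, Functor.map_comp_apply, ht1 p,
      ← hxs, ← hxs]
    exact fam_congr F x (by rw [← Category.assoc, hlm, Category.assoc]) _ _
  have hcompat : Presieve.Arrows.Compatible F ι t := by
    intro p q Z a b hab
    have hcov : R.pullback (a ≫ ι p) ∈ X.smallEtaleTopology Z :=
      X.smallEtaleTopology.pullback_stable _ hR
    refine ext_of_cover F hzar haff _ hcov _ _ ?_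
    intro Z' m hm
    have h1 : R ((m ≫ a) ≫ ι p) := by rw [Category.assoc]; exact hm
    have h2 : R ((m ≫ b) ≫ ι q) := by rw [Category.assoc, ← hab]; exact hm
    rw [← Functor.map_comp_apply, ← op_comp, ← Functor.map_comp_apply, ← op_comp,
      claim p Z' (m ≫ a) h1, claim q Z' (m ≫ b) h2]
    exact fam_congr F x (by rw [Category.assoc, Category.assoc, hab]) _ _
  have hzcov : Sieve.generate (Presieve.ofArrows T₁ ι) ∈
      X.smallGrothendieckTopology (P := @IsOpenImmersion) T := by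
    refine (mem_zar_iff T _).2 (fun p => ?_)
    obtain ⟨y, hy⟩ := hmem p
    exact ⟨T₁ p, ι p, y, ⟨T₁ p, 𝟙 _, ι p, Presieve.ofArrows.mk p, Category.id_comp _⟩, hι p, hy⟩
  have hshf : Presieve.IsSheafFor F (Presieve.ofArrows T₁ ι) :=
    (Presieve.isSheafFor_iff_generate _).2 (hzar _ hzcov)
  obtain ⟨tt, htt, -⟩ := (Presieve.isSheafFor_arrows_iff F ι).1 hshf t hcompat
  have hamalg : x.IsAmalgamation tt := by
    intro Z k hk
    have hcov : (Sieve.generate (Presieve.ofArrows T₁ ι)).pullback k ∈ X.smallEtaleTopology Z :=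
      X.smallEtaleTopology.pullback_stable k (zar_le_etale X _ hzcov)
    refine ext_of_cover F hzar haff _ hcov _ _ ?_
    intro Z' m hm
    obtain ⟨Y, a, ι', hι', ham⟩ := hm
    obtain ⟨p⟩ := hι'
    have h1 : R (a ≫ ι p) := by rw [ham]; exact R.downward_closed hk m
    rw [← Functor.map_comp_apply, ← op_comp, ← ham, op_comp, Functor.map_comp_apply, htt p,
      claim p Z' a h1, ← hxs]
    exact fam_congr F x ham _ _
  refine ⟨tt, hamalg, ?_⟩
  intro t' ht'
  refine ext_of_cover F hzar haff R hR _ _ ?_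
  intro W' g' hg'
  rw [ht' g' hg', hamalg g' hg']

end Sheaf


/-- Let X be a scheme and F a presheaf of sets on the small étale site of X. Then F is an étale sheaf if
and only if F is a sheaf for the Zariski topology on the same category (coverings are jointly
surjective families of open immersions between étale X-schemes) and, for every morphism f : V ⟶ U of
étale X-schemes with U and V affine and f surjective, F satisfies the sheaf condition for the single
arrow f. -/
theorem result (X : Scheme.{u})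
    (F : X.Etaleᵒᵖ ⥤ Type w) :
    Presieve.IsSheaf X.smallEtaleTopology F ↔
      Presieve.IsSheaf (X.smallGrothendieckTopology (P := @IsOpenImmersion)) F ∧
        ∀ (U V : X.Etale) [IsAffine U.left] [IsAffine V.left] (f : V ⟶ U) [Surjective f.left],
          Presieve.IsSheafFor F (Presieve.singleton f) := by
  constructor
  · intro hF
    refine ⟨Presieve.isSheaf_of_le _ (zar_le_etale X) hF, ?_⟩
    intro U V _ _ f _
    rw [Presieve.isSheafFor_iff_generate]
    exact hF _ (generate_singleton_mem f)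
  · rintro ⟨hzar, haff⟩ T R hR
    exact isSheafFor_of_mem F hzar haff R hR

end Groth.Agent.S14453
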