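import Groth.Statements.S14456
import Groth.Agent.H76.AdicFlat

set_option autoImplicit false
universe u
open CAlg

namespace Groth.Agent.S14456

theorem result {A B : Type u} [CommRing A] [CommRing B]
    [IsNoetherianRing A] [IsNoetherianRing B] [IsLocalRing A] [IsLocalRing B] [Algebra A B]
    [IsLocalHom (algebraMap A B)] (M : Type u) [AddCommGroup M] [Module B M] [Module A M]
    [IsScalarTower A B M] [Module.Finite B M] (f : B) (hf : f ∈ IsLocalRing.maximalIdeal B)
    (hflat : ∀ n : ℕ, Module.Flat A (M ⧸ (Ideal.span {f ^ (n + 1)} • (⊤ : Submodule B M)))) :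
    Module.Flat A M := by
  have hI : Ideal.span {f} ≠ ⊤ := by
    intro h
    have : f ∈ IsLocalRing.maximalIdeal B := hf
    rw [Ideal.span_singleton_eq_top] at h
    exact (IsLocalRing.mem_maximalIdeal f).mp hf h
  apply Groth.Agent.H76.AdicFlat.flat_of_flat_quotients (Ideal.span {f}) hI M
  intro n
  rw [Ideal.span_singleton_pow]
  exact hflat n

end Groth.Agent.S14456
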