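import Groth.Statements.S1446
import Groth.Agent.H76.RelAssChartMin
import Groth.Agent.Lib.Helper45.FiniteType

set_option autoImplicit false
universe u
open FlatMor

namespace Groth.Agent.S1446

open AlgebraicGeometry CategoryTheory Limits in
/-- Let f : X → S be locally of finite type, F a quasi-coherent O_X-module of finite type, and ξ a point
of the relative assassin of F with closure Z. Then there is a nonempty subset V of Z, open in Z,
such that for every point x of V, if x is a generic point of an irreducible component of the fibre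
of V through x then x lies in the relative assassin of F. -/
theorem result {X S : Scheme.{u}} (f : X ⟶ S) [LocallyOfFiniteType f]
    (F : X.Modules) (hF : Coh.IsCoh F) (ξ : X) (hξ : ξ ∈ MoreMor.relAss f F) :
    ∃ V : Set ↑X, V ⊆ closure {ξ} ∧ IsOpen (Subtype.val ⁻¹' V : Set ↑(closure ({ξ} : Set ↑X))) ∧ V.Nonempty ∧
      ∀ (x : X) (hx : x ∈ V), (∃ C ∈ irreducibleComponents ↑(V ∩ f ⁻¹' {f x}), IsGenericPoint (⟨x, hx, rfl⟩ : ↑(V ∩ f ⁻¹' {f x})) C) →
        x ∈ MoreMor.relAss f F := by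
  classical
  haveI : F.IsQuasicoherent := hF.1
  -- affine charts
  obtain ⟨_, ⟨V₀, hV₀, rfl⟩, hξV₀, -⟩ :=
    S.isBasis_affineOpens.exists_subset_of_mem_open (Set.mem_univ (f ξ)) isOpen_univ
  have hV₀' : IsAffineOpen V₀ := hV₀
  have hξV₀' : ξ ∈ f ⁻¹ᵁ V₀ := hξV₀
  obtain ⟨_, ⟨W, hW, rfl⟩, hξW, hWle⟩ :=
    X.isBasis_affineOpens.exists_subset_of_mem_open hξV₀' (f ⁻¹ᵁ V₀).2
  have hW' : IsAffineOpen W := hW
  have hle : W ≤ f ⁻¹ᵁ V₀ := hWle
  haveI : Module.Finite Γ(X, W) Γ(F, W) :=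
    Groth.Agent.Lib.Helper45.finite_sections_of_isCoh hW' F hF
  have hft : (f.appLE V₀ W hle).hom.FiniteType :=
    HasRingHomProperty.appLE (P := @LocallyOfFiniteType) f inferInstance ⟨V₀, hV₀'⟩ ⟨_, hW'⟩ hle
  obtain ⟨a, ha, key⟩ := Groth.Agent.H76.RelAss.chart_generic_minimal f hle hV₀' hW' F hft
    ⟨ξ, hξW⟩ hξ
  set O : X.Opens := W ⊓ f ⁻¹ᵁ (S.basicOpen a) with hO
  refine ⟨closure {ξ} ∩ (O : Set X), Set.inter_subset_left, ?_, ⟨ξ, subset_closure rfl, hξW, ?_⟩, ?_⟩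
  · have : (Subtype.val ⁻¹' (closure {ξ} ∩ (O : Set X)) : Set ↑(closure ({ξ} : Set ↑X))) =
        Subtype.val ⁻¹' (O : Set X) := by
      ext z
      simp only [Set.mem_preimage, Set.mem_inter_iff, z.2, true_and]
    rw [this]
    exact O.2.preimage continuous_subtype_val
  · exact (Groth.Agent.Lib.Helper45.mem_basicOpen_iff_not_mem_primeIdealOf hV₀'
      ⟨f ξ, hle hξW⟩ a).mpr ha
  · rintro x hx ⟨C, hC, hgen⟩
    obtain ⟨hxcl, hxW, hxa⟩ := hx
    have hxW' : x ∈ W := hxW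
    have hxa' : f x ∈ S.basicOpen a := hxa
    refine key ⟨x, hxW'⟩ (specializes_iff_mem_closure.mpr hxcl) ?_ ?_
    · exact (Groth.Agent.Lib.Helper45.mem_basicOpen_iff_not_mem_primeIdealOf hV₀'
        ⟨f x, hle hxW'⟩ a).mp hxa'
    · rintro ⟨z', hz'W⟩ h1 h2 h3
      apply Subtype.ext
      change z' = x
      -- `z'` is a point of `T`
      have hz'T : z' ∈ (closure {ξ} ∩ (O : Set X)) ∩ f ⁻¹' {f x} :=
        ⟨⟨specializes_iff_mem_closure.mp h1, hz'W, by change f z' ∈ S.basicOpen a; rw [h3]; exact hxa'⟩, h3⟩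
      have hsp : (⟨z', hz'T⟩ : ↑((closure {ξ} ∩ (O : Set X)) ∩ f ⁻¹' {f x})) ⤳
          ⟨x, ⟨hxcl, hxW, hxa⟩, rfl⟩ := (subtype_specializes_iff _ _).mpr h2
      have hCt : closure ({⟨x, ⟨hxcl, hxW, hxa⟩, rfl⟩} :
          Set ↑((closure {ξ} ∩ (O : Set X)) ∩ f ⁻¹' {f x})) = C := hgen
      have hirr : IsIrreducible (closure ({⟨z', hz'T⟩} :
          Set ↑((closure {ξ} ∩ (O : Set X)) ∩ f ⁻¹' {f x}))) := isIrreducible_singleton.closure
      have hle' : C ≤ closure ({⟨z', hz'T⟩} :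
          Set ↑((closure {ξ} ∩ (O : Set X)) ∩ f ⁻¹' {f x})) := by
        rw [← hCt]
        exact closure_minimal (Set.singleton_subset_iff.mpr (specializes_iff_mem_closure.mp hsp))
          isClosed_closure
      have hmax := hC.le_of_ge hirr hle'
      have ht'C : (⟨z', hz'T⟩ : ↑((closure {ξ} ∩ (O : Set X)) ∩ f ⁻¹' {f x})) ∈
          closure ({⟨x, ⟨hxcl, hxW, hxa⟩, rfl⟩} :
            Set ↑((closure {ξ} ∩ (O : Set X)) ∩ f ⁻¹' {f x})) := by
        rw [hCt]; exact hmax (subset_closure rfl)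
      have hsp' := specializes_iff_mem_closure.mpr ht'C
      have hsp'' : x ⤳ z' := (subtype_specializes_iff _ _).mp hsp'
      exact (h2.antisymm hsp'').eq

end Groth.Agent.S1446
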