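import Groth.Statements.S14477
import Mathlib
import Groth.Agent.Lib.Helper63.LocalBasisFun
import Groth.Agent.Lib.Helper63.WedgeLemmas
-- import your own Groth.Agent.* helpers here

set_option autoImplicit false
universe u
open KaehlerDifferential
open LocInt

namespace Groth.Agent.S14477.Aux

open TensorProduct

/-- The determinant as an `R`-linear alternating map on rows with entries in an `R`-algebra `S`. -/
noncomputable def detAltR (R S : Type*) [CommRing R] [CommRing S] [Algebra R S] (n : ℕ) :
    (Fin n → S) [⋀^Fin n]→ₗ[R] S :=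
  { (Matrix.detRowAlternating (R := S) (n := Fin n)).toMultilinearMap.restrictScalars R with
    map_eq_zero_of_eq' := fun v _ _ h hij =>
      (Matrix.detRowAlternating (R := S) (n := Fin n)).map_eq_zero_of_eq v h hij }

theorem detAltR_apply (R S : Type*) [CommRing R] [CommRing S] [Algebra R S] (n : ℕ)
    (v : Fin n → Fin n → S) : detAltR R S n v = Matrix.det (Matrix.of v) := rfl

section

variable (A B R : Type u) [CommRing A] [CommRing B] [CommRing R]
    [Algebra A B] [Algebra B R] [Algebra A R] [IsScalarTower A B R]

/-- Descent of a linear form on `Ω[B⁄A]` to a linear form on `Ω[R⁄A]` with values in `R ⧸ J`. -/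
theorem exists_descend (g : B) (hsurj : Function.Surjective (algebraMap B R))
    (hker : RingHom.ker (algebraMap B R) = Ideal.span {g}) (J : Ideal R)
    (φ : Ω[B⁄A] →ₗ[B] B) (hφ : algebraMap B R (φ (KaehlerDifferential.D A B g)) ∈ J) :
    ∃ φb : Ω[R⁄A] →ₗ[R] (R ⧸ J), ∀ ω : Ω[B⁄A],
      φb (KaehlerDifferential.map A A B R ω) = Ideal.Quotient.mk J (algebraMap B R (φ ω)) := by
  classical
  let θ₀ : Ω[B⁄A] →ₗ[B] (R ⧸ J) :=
    ((Ideal.Quotient.mkₐ B J).toLinearMap ∘ₗ (Algebra.linearMap B R)) ∘ₗ φ
  have hθ₀ : ∀ ω, θ₀ ω = Ideal.Quotient.mk J (algebraMap B R (φ ω)) := fun ω => rfl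
  let θ : R ⊗[B] Ω[B⁄A] →ₗ[R] (R ⧸ J) := LinearMap.liftBaseChange R θ₀
  have hg0 : algebraMap B R g = 0 := by
    have : g ∈ RingHom.ker (algebraMap B R) := hker ▸ Ideal.mem_span_singleton_self g
    exact this
  have hle : LinearMap.ker (KaehlerDifferential.mapBaseChange A B R) ≤ LinearMap.ker θ := by
    intro z hz
    have hz' : z ∈ (LinearMap.ker (KaehlerDifferential.mapBaseChange A B R)).restrictScalars B := hz
    rw [← KaehlerDifferential.range_kerCotangentToTensor A B R hsurj] at hz'
    obtain ⟨c, rfl⟩ := hz'
    obtain ⟨x, rfl⟩ := Ideal.toCotangent_surjective _ c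
    rw [KaehlerDifferential.kerCotangentToTensor_toCotangent, LinearMap.mem_ker,
      LinearMap.liftBaseChange_tmul, one_smul, hθ₀]
    have hx : (x : B) ∈ Ideal.span {g} := hker ▸ x.2
    obtain ⟨c, hc⟩ := Ideal.mem_span_singleton'.mp hx
    rw [Ideal.Quotient.eq_zero_iff_mem, ← hc, Derivation.leibniz, map_add, map_smul, map_smul,
      smul_eq_mul, smul_eq_mul, map_add, map_mul, map_mul, hg0, zero_mul, add_zero]
    exact J.mul_mem_left _ hφ
  let e := (KaehlerDifferential.mapBaseChange A B R).quotKerEquivOfSurjective
    (KaehlerDifferential.mapBaseChange_surjective A B R hsurj)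
  refine ⟨(Submodule.liftQ _ θ hle) ∘ₗ e.symm.toLinearMap, fun ω => ?_⟩
  have h1 : e.symm (KaehlerDifferential.map A A B R ω) =
      Submodule.Quotient.mk ((1 : R) ⊗ₜ[B] ω) := by
    rw [LinearEquiv.symm_apply_eq, LinearMap.quotKerEquivOfSurjective_apply_mk,
      KaehlerDifferential.mapBaseChange_tmul, one_smul]
  rw [LinearMap.comp_apply, LinearEquiv.coe_coe, h1, Submodule.liftQ_apply,
    LinearMap.liftBaseChange_tmul, one_smul, hθ₀]

end

end Groth.Agent.S14477.Aux

namespace Groth.Agent.S14477

/-- Let A → B be a smooth ring map with Ω_{B/A} of rank n at every prime of B, g ∈ B a nonzerodivisor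
and R = B/gB, a hypersurface of virtual relative dimension n - 1 over A; let J ⊆ R be the
annihilator of the n-th exterior power of Ω_{R/A} and Z = Spec R/J. Then J is the ideal of R
generated by the classes of the elements φ(dg), φ ranging over the B-linear forms on Ω_{B/A}; where
Ω_{B/A} is free on dt_1, …, dt_n this says that Z is cut out by the partial derivatives ∂g/∂t_1, …,
∂g/∂t_n. In particular every φ(dg) vanishes in R/J; since Ω_{B/A} is finite projective this says
that dg ⊗ 1 = 0 in Ω_{B/A} ⊗_B R/J, i.e. the map from the conormal module gB/g²B ⊗ R/J to Ω_{B/A}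
⊗_B R/J induced by d vanishes, and with the cotangent complex of R over A represented by the
two-term complex (gB/g²B → Ω_{B/A} ⊗_B R) this is the statement that the canonical map from L_Z =
L_1 i^* L_{R/A} to the conormal module restricted to Z is an isomorphism. (The published statement
also asserts that, for a regular immersion of any codimension into a smooth scheme, this map from
L_Z is a locally split injection; that part is not stated here. The published statement is the
isomorphism alone, which amounts to the inclusion of the ideal generated by the φ(dg) in J; this row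
states the equality, whose other inclusion is the local description of Z by the partial derivatives
given with the definition of Z.) -/
theorem result (A B R : Type u) [CommRing A] [CommRing B] [CommRing R]
    [Algebra A B] [Algebra B R] [Algebra A R] [IsScalarTower A B R] [Algebra.Smooth A B] (n : ℕ)
    (hn : ∀ p : PrimeSpectrum B, Module.rankAtStalk (Ω[B⁄A]) p = n)
    (g : B) (hg : IsSMulRegular B g) (hsurj : Function.Surjective (algebraMap B R))
    (hker : RingHom.ker (algebraMap B R) = Ideal.span {g}) :
    (⋀[R]^n (Ω[R⁄A])).annihilator =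
      Ideal.span (Set.range fun φ : Ω[B⁄A] →ₗ[B] B => algebraMap B R (φ (KaehlerDifferential.D A B g))) := by
  classical
  set J : Ideal R := Ideal.span (Set.range fun φ : Ω[B⁄A] →ₗ[B] B =>
    algebraMap B R (φ (KaehlerDifferential.D A B g))) with hJ
  set π : Ω[B⁄A] →ₗ[B] Ω[R⁄A] := KaehlerDifferential.map A A B R with hπ
  have hπsurj : Function.Surjective π :=
    KaehlerDifferential.map_surjective_of_surjective A A B R hsurj
  have hg0 : algebraMap B R g = 0 := by
    have : g ∈ RingHom.ker (algebraMap B R) := hker ▸ Ideal.mem_span_singleton_self g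
    exact this
  have hπdg : π (KaehlerDifferential.D A B g) = 0 := by
    rw [hπ, KaehlerDifferential.map_D, hg0, map_zero]
  have hπsmul : ∀ (b : B) (ω : Ω[B⁄A]), π (b • ω) = algebraMap B R b • π ω := by
    intro b ω
    rw [map_smul, algebraMap_smul]
  have hJmem : ∀ φ : Ω[B⁄A] →ₗ[B] B, algebraMap B R (φ (KaehlerDifferential.D A B g)) ∈ J :=
    fun φ => Ideal.subset_span ⟨φ, rfl⟩
  -- local bases with dual functionals at every prime of `B`
  have hloc : ∀ (𝔭 : Ideal B) [𝔭.IsPrime], ∃ (a : Fin n → Ω[B⁄A]) (s : B)
      (φ : Fin n → (Ω[B⁄A] →ₗ[B] B)), s ∉ 𝔭 ∧ (∀ i j, φ i (a j) = if i = j then s else 0) ∧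
      ∀ q : Ω[B⁄A], s • q = ∑ i, φ i q • a i := by
    intro 𝔭 h𝔭
    obtain ⟨m, a, s, φ, hs, hm, h1, h2⟩ :=
      Groth.Agent.Lib.Helper63.LocalBasis.local_basis_fun 𝔭 (id : Ω[B⁄A] → Ω[B⁄A]) (by simp)
    have hmn : m = n := by
      rw [hm]
      exact hn ⟨𝔭, h𝔭⟩
    subst hmn
    exact ⟨a, s, φ, hs, h1, h2⟩
  apply le_antisymm
  · -- every annihilating element lies in `J`
    intro r hr
    have hr' : ∀ x : ↥(⋀[R]^n (Ω[R⁄A])), r • x = 0 := Module.mem_annihilator.mp hr
    by_contra hrJ
    set I : Ideal R :=
      LinearMap.ker (LinearMap.toSpanSingleton R (R ⧸ J) (Ideal.Quotient.mk J r)) with hI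
    have hIne : I ≠ ⊤ := by
      intro h
      have h1 : (1 : R) ∈ I := h ▸ Submodule.mem_top
      rw [hI, LinearMap.mem_ker, LinearMap.toSpanSingleton_apply, one_smul,
        Ideal.Quotient.eq_zero_iff_mem] at h1
      exact hrJ h1
    obtain ⟨𝔮, h𝔮max, hI𝔮⟩ := Ideal.exists_le_maximal I hIne
    have := h𝔮max.isPrime
    obtain ⟨a, s, φ, hs, h1, h2⟩ := hloc (𝔮.comap (algebraMap B R))
    choose φb hφb using fun i => Aux.exists_descend A B R g hsurj hker J (φ i) (hJmem (φ i))
    let Dalt : Ω[R⁄A] [⋀^Fin n]→ₗ[R] (R ⧸ J) :=
      (Aux.detAltR R (R ⧸ J) n).compLinearMap (LinearMap.pi φb)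
    let L := exteriorPower.alternatingMapLinearEquiv Dalt
    have hx := congrArg L (hr' (exteriorPower.ιMulti R n (fun j => π (a j))))
    rw [map_smul, map_zero, exteriorPower.alternatingMapLinearEquiv_apply_ιMulti] at hx
    have hD : Dalt (fun j => π (a j)) = (Ideal.Quotient.mk J (algebraMap B R s)) ^ n := by
      change Matrix.det (Matrix.of fun j i => φb i (π (a j))) = _
      have : (Matrix.of fun j i => φb i (π (a j))) =
          Matrix.diagonal (fun _ : Fin n => Ideal.Quotient.mk J (algebraMap B R s)) := by
        ext j i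
        rw [Matrix.of_apply, hφb, h1, Matrix.diagonal_apply]
        by_cases hij : i = j
        · subst hij; simp
        · have hji : ¬ j = i := fun h => hij h.symm
          simp [hij, hji]
      rw [this, Matrix.det_diagonal, Finset.prod_const, Finset.card_univ, Fintype.card_fin]
    rw [hD] at hx
    have hmem : (algebraMap B R s) ^ n ∈ I := by
      rw [hI, LinearMap.mem_ker, LinearMap.toSpanSingleton_apply, Algebra.smul_def,
        Ideal.Quotient.algebraMap_eq, map_pow, mul_comm]
      rw [Algebra.smul_def, Ideal.Quotient.algebraMap_eq] at hx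
      exact hx
    have := (inferInstance : 𝔮.IsPrime).mem_of_pow_mem n (hI𝔮 hmem)
    exact hs this
  · -- every generator of `J` annihilates
    rw [Ideal.span_le]
    rintro _ ⟨φ0, rfl⟩
    apply Module.mem_annihilator.mpr
    intro x
    set t : R := algebraMap B R (φ0 (KaehlerDifferential.D A B g)) with ht
    have hxmem : x ∈ Submodule.span R (Set.range (exteriorPower.ιMulti R n (M := Ω[R⁄A]))) := by
      rw [exteriorPower.ιMulti_span]
      exact Submodule.mem_top
    induction hxmem using Submodule.span_induction with
    | zero => rw [smul_zero]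
    | add x y _ _ hx hy => rw [smul_add, hx, hy, add_zero]
    | smul c x _ hx => rw [smul_comm, hx, smul_zero]
    | mem x hx =>
      obtain ⟨y, rfl⟩ := hx
      choose ω hω using fun j => hπsurj (y j)
      by_contra hne
      set I : Ideal R := LinearMap.ker (LinearMap.toSpanSingleton R (↥(⋀[R]^n (Ω[R⁄A])))
        (t • exteriorPower.ιMulti R n y)) with hI
      have hIne : I.comap (algebraMap B R) ≠ ⊤ := by
        intro h
        have h1 : (1 : B) ∈ I.comap (algebraMap B R) := h ▸ Submodule.mem_top
        rw [Ideal.mem_comap, map_one, hI, LinearMap.mem_ker, LinearMap.toSpanSingleton_apply,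
          one_smul] at h1
        exact hne h1
      obtain ⟨𝔭, h𝔭max, hI𝔭⟩ := Ideal.exists_le_maximal _ hIne
      have := h𝔭max.isPrime
      obtain ⟨a, s, φ, hs, h1, h2⟩ := hloc 𝔭
      -- (iv): `s * t` kills the wedge of the `π (a i)`
      have hrel : ∑ k, algebraMap B R (φ k (KaehlerDifferential.D A B g)) • π (a k) = 0 := by
        have := congrArg π (h2 (KaehlerDifferential.D A B g))
        rw [hπsmul, hπdg, smul_zero, map_sum] at this
        rw [this]
        apply Finset.sum_congr rfl
        intro k _
        rw [hπsmul]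
      have hW2 : ∀ k, algebraMap B R (φ k (KaehlerDifferential.D A B g)) •
          exteriorPower.ιMulti R n (fun j => π (a j)) = 0 := fun k =>
        Groth.Agent.Lib.Helper63.Wedge.smul_map_eq_zero_of_sum_smul_eq_zero
          (exteriorPower.ιMulti R n) (fun j => π (a j)) _ hrel k
      have hst : (algebraMap B R s * t) • exteriorPower.ιMulti R n (fun j => π (a j)) = 0 := by
        have e1 : algebraMap B R s * t =
            ∑ k, algebraMap B R (φ0 (a k)) * algebraMap B R (φ k (KaehlerDifferential.D A B g)) := by
          rw [ht, ← map_mul, ← smul_eq_mul, ← map_smul, h2 (KaehlerDifferential.D A B g), map_sum,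
            map_sum]
          apply Finset.sum_congr rfl
          intro k _
          rw [map_smul, smul_eq_mul, map_mul, mul_comm]
        rw [e1, Finset.sum_smul]
        apply Finset.sum_eq_zero
        intro k _
        rw [mul_smul, hW2, smul_zero]
      -- (i)-(iii)
      have hpow : (algebraMap B R s) ^ n • exteriorPower.ιMulti R n y =
          (Matrix.det (Matrix.of fun j i => algebraMap B R (φ i (ω j)))) •
            exteriorPower.ιMulti R n (fun j => π (a j)) := by
        have e1 : (algebraMap B R s) ^ n • exteriorPower.ιMulti R n y =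
            exteriorPower.ιMulti R n (fun j => algebraMap B R s • y j) := by
          rw [AlternatingMap.map_smul_univ, Finset.prod_const, Finset.card_univ, Fintype.card_fin]
        have e2 : (fun j => algebraMap B R s • y j) =
            fun j => ∑ i, (Matrix.of fun j i => algebraMap B R (φ i (ω j))) j i • π (a i) := by
          funext j
          rw [← hω j, ← hπsmul, h2 (ω j), map_sum]
          apply Finset.sum_congr rfl
          intro i _
          rw [hπsmul, Matrix.of_apply]
        rw [e1, e2]
        exact Groth.Agent.Lib.Helper63.Wedge.map_sum_smul (exteriorPower.ιMulti R n)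
          (fun j => π (a j)) _
      have hmem : s ^ (n + 1) ∈ I.comap (algebraMap B R) := by
        rw [Ideal.mem_comap, hI, LinearMap.mem_ker, LinearMap.toSpanSingleton_apply, map_pow,
          pow_succ, smul_smul, mul_assoc, mul_comm, ← smul_smul, hpow, smul_comm, hst, smul_zero]
      exact hs ((inferInstance : 𝔭.IsPrime).mem_of_pow_mem _ (hI𝔭 hmem))

end Groth.Agent.S14477
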