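import Groth.Statements.S14478
-- import your own Groth.Agent.* helpers here

set_option autoImplicit false
universe u
open CharCyc

namespace Groth.Agent.S14478

section aux

variable {K : Type*} {V : Type*} [Field K] [AddCommGroup V] [Module K V] [FiniteDimensional K V]

open Module

/-- two proper subspaces do not cover the space -/
theorem exists_notMem_of_ne_top (A B : Submodule K V) (hA : A ≠ ⊤) (hB : B ≠ ⊤) :
    ∃ x : V, x ∉ A ∧ x ∉ B := by
  obtain ⟨a, ha⟩ : ∃ a, a ∉ A := by
    by_contra h
    push Not at h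
    exact hA (eq_top_iff.mpr fun x _ => h x)
  obtain ⟨b, hb⟩ : ∃ b, b ∉ B := by
    by_contra h
    push Not at h
    exact hB (eq_top_iff.mpr fun x _ => h x)
  by_cases haB : a ∈ B
  · by_cases hbA : b ∈ A
    · refine ⟨a + b, fun h => ha ?_, fun h => hb ?_⟩
      · have := A.sub_mem h hbA
        rwa [add_sub_cancel_right] at this
      · have := B.sub_mem h haB
        rwa [add_sub_cancel_left] at this
    · exact ⟨b, hbA, hb⟩
  · exact ⟨a, ha, haB⟩

theorem isCompl_of_sup_eq_top_of_finrank_le (A C : Submodule K V) (h1 : A ⊔ C = ⊤)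
    (h2 : finrank K A + finrank K C ≤ finrank K V) : IsCompl A C := by
  refine ⟨?_, codisjoint_iff.mpr h1⟩
  rw [disjoint_iff]
  have h3 := Submodule.finrank_sup_add_finrank_inf_eq A C
  rw [h1, finrank_top] at h3
  have h4 : finrank K ↥(A ⊓ C) = 0 := by omega
  exact Submodule.finrank_eq_zero.mp h4

theorem finrank_sup_span_singleton (A : Submodule K V) {x : V} (hx : x ∉ A) :
    finrank K ↥(A ⊔ Submodule.span K {x}) = finrank K A + 1 := by
  have hx0 : x ≠ 0 := fun h => hx (h ▸ A.zero_mem)
  have h3 := Submodule.finrank_sup_add_finrank_inf_eq A (Submodule.span K {x})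
  have h4 : A ⊓ Submodule.span K {x} = ⊥ := by
    rw [eq_bot_iff]
    rintro y ⟨hyA, hy⟩
    obtain ⟨c, rfl⟩ := Submodule.mem_span_singleton.mp hy
    by_cases hc : c = 0
    · rw [hc, zero_smul]; exact Submodule.zero_mem _
    · exfalso
      apply hx
      have := A.smul_mem c⁻¹ hyA
      rwa [smul_smul, inv_mul_cancel₀ hc, one_smul] at this
  rw [h4, finrank_bot, add_zero, finrank_span_singleton hx0] at h3
  exact h3

/-- common complement, in the dimension-bounded form -/
theorem exists_common_sup (d : ℕ) : ∀ (A B : Submodule K V), finrank K A = finrank K B →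
    finrank K A + d = finrank K V →
    ∃ C : Submodule K V, A ⊔ C = ⊤ ∧ B ⊔ C = ⊤ ∧ finrank K C ≤ d := by
  induction d with
  | zero =>
    intro A B hAB hA
    have hA' : A = ⊤ := Submodule.eq_top_of_finrank_eq (by omega)
    have hB' : B = ⊤ := Submodule.eq_top_of_finrank_eq (by omega)
    refine ⟨⊥, by rw [hA', sup_bot_eq], by rw [hB', sup_bot_eq], ?_⟩
    rw [finrank_bot]
  | succ d ih =>
    intro A B hAB hA
    have hA' : A ≠ ⊤ := by
      intro h
      rw [h, finrank_top] at hA
      omega
    have hB' : B ≠ ⊤ := by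
      intro h
      rw [h, finrank_top] at hAB
      omega
    obtain ⟨x, hxA, hxB⟩ := exists_notMem_of_ne_top A B hA' hB'
    have h1 := finrank_sup_span_singleton A hxA
    have h2 := finrank_sup_span_singleton B hxB
    obtain ⟨C', hC1, hC2, hC3⟩ := ih (A ⊔ Submodule.span K {x}) (B ⊔ Submodule.span K {x})
      (by omega) (by omega)
    refine ⟨C' ⊔ Submodule.span K {x}, ?_, ?_, ?_⟩
    · rw [sup_comm C', ← sup_assoc, hC1]
    · rw [sup_comm C', ← sup_assoc, hC2]
    · have h5 := Submodule.finrank_add_le_finrank_add_finrank C' (Submodule.span K {x})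
      have h6 : finrank K ↥(Submodule.span K {x}) ≤ 1 := by
        have := finrank_span_le_card (R := K) ({x} : Set V)
        simpa using this
      omega

theorem exists_common_compl (A B : Submodule K V) (h : finrank K A = finrank K B) :
    ∃ C : Submodule K V, IsCompl A C ∧ IsCompl B C := by
  have hle : finrank K A ≤ finrank K V := Submodule.finrank_le A
  obtain ⟨C, h1, h2, h3⟩ := exists_common_sup (finrank K V - finrank K A) A B h (by omega)
  exact ⟨C, isCompl_of_sup_eq_top_of_finrank_le A C h1 (by omega),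
    isCompl_of_sup_eq_top_of_finrank_le B C h2 (by omega)⟩

end aux

/-- Let V be a finite-dimensional vector space over a field k, let W = V × V^∨ with V^∨ the dual space,
and let T ⊆ W be a subspace with dim T = dim V; put V₁ = V ∩ T, where V sits in W as V × 0. Then
there is a complement V₂ of V₁ in V with the following property: for every injective linear map A₁ :
V₁ → V₁^∨, the map A : V → V^∨ extending A₁ by zero along the decompositions V = V₁ ⊕ V₂ and V^∨ =
V₁^∨ ⊕ V₂^∨ (so A v = A₁(p v) ∘ p, with p : V → V₁ the projection along V₂) has graph Γ ⊆ W with Γ ∩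
T = 0. -/
theorem result (k V : Type u) [Field k] [AddCommGroup V] [Module k V]
    [FiniteDimensional k V] (T : Submodule k (V × Module.Dual k V))
    (hT : Module.finrank k T = Module.finrank k V) :
    ∃ (V₂ : Submodule k V) (h : IsCompl (T.comap (LinearMap.inl k V (Module.Dual k V))) V₂),
      ∀ A₁ : T.comap (LinearMap.inl k V (Module.Dual k V)) →ₗ[k]
          Module.Dual k (T.comap (LinearMap.inl k V (Module.Dual k V))),
        Function.Injective A₁ →
          LinearMap.graph ((Submodule.projectionOnto _ V₂ h).dualMap ∘ₗ A₁ ∘ₗ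
              Submodule.projectionOnto _ V₂ h) ⊓ T = ⊥ := by
  classical
  set V₁ : Submodule k V := T.comap (LinearMap.inl k V (Module.Dual k V)) with hV₁
  -- the image of `T` in the dual and its coannihilator
  let g : T →ₗ[k] Module.Dual k V := (LinearMap.snd k V (Module.Dual k V)) ∘ₗ T.subtype
  let Q : Submodule k (Module.Dual k V) := LinearMap.range g
  let P : Submodule k V := Q.dualCoannihilator
  -- the kernel of `g` is `V₁`
  let e : LinearMap.ker g ≃ₗ[k] V₁ :=
    { toFun := fun t => ⟨(t.1 : V × Module.Dual k V).1, by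
        have h0 : (t.1 : V × Module.Dual k V).2 = 0 := LinearMap.mem_ker.mp t.2
        change ((t.1 : V × Module.Dual k V).1, (0 : Module.Dual k V)) ∈ T
        rw [← h0]
        exact t.1.2⟩
      map_add' := fun t t' => rfl
      map_smul' := fun c t => rfl
      invFun := fun v => ⟨⟨(v.1, 0), v.2⟩, by
        rw [LinearMap.mem_ker]; rfl⟩
      left_inv := fun t => by
        apply Subtype.ext
        apply Subtype.ext
        have h0 : (t.1 : V × Module.Dual k V).2 = 0 := LinearMap.mem_ker.mp t.2
        exact Prod.ext rfl h0.symm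
      right_inv := fun v => rfl }
  have hdim1 : Module.finrank k (LinearMap.ker g) = Module.finrank k V₁ := e.finrank_eq
  have hdim2 := LinearMap.finrank_range_add_finrank_ker (K := k) (V := ↥T) (V₂ := Module.Dual k V) g
  have hdim3 := Subspace.finrank_add_finrank_dualCoannihilator_eq Q
  have hdim : Module.finrank k V₁ = Module.finrank k P := by
    change Module.finrank k Q + Module.finrank k (LinearMap.ker g) = _ at hdim2
    change Module.finrank k Q + Module.finrank k P = _ at hdim3
    omega
  obtain ⟨V₂, hc1, hc2⟩ := exists_common_compl V₁ P hdim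
  refine ⟨V₂, hc1, fun A₁ hA₁ => ?_⟩
  rw [eq_bot_iff]
  rintro ⟨v, φ⟩ ⟨hgraph, hT⟩
  rw [SetLike.mem_coe, LinearMap.mem_graph_iff] at hgraph
  change φ = _ at hgraph
  set p := Submodule.projectionOnto V₁ V₂ hc1 with hp
  have hφ : ∀ u : V, φ u = A₁ (p v) (p u) := by
    intro u
    rw [hgraph]
    rfl
  -- `φ = 0`
  have hφQ : φ ∈ Q := ⟨⟨(v, φ), hT⟩, rfl⟩
  have hφ0 : φ = 0 := by
    apply LinearMap.ext
    intro u
    obtain ⟨uP, u2, huu, -⟩ := Submodule.existsUnique_add_of_isCompl hc2 u
    rw [← huu, map_add]
    have h1 : φ (uP : V) = 0 := (Submodule.mem_dualCoannihilator _).mp uP.2 φ hφQ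
    have h2 : φ (u2 : V) = 0 := by
      rw [hφ, (Submodule.projectionOnto_apply_eq_zero_iff hc1).mpr u2.2, map_zero]
    rw [h1, h2, add_zero]
    rfl
  -- `p v = 0`
  have hpv : p v = 0 := by
    apply hA₁
    rw [map_zero]
    apply LinearMap.ext
    intro y
    have := hφ (y : V)
    rw [hφ0, Submodule.projectionOnto_apply_left hc1 y] at this
    exact this.symm
  have hv2 : v ∈ V₂ := (Submodule.projectionOnto_apply_eq_zero_iff hc1).mp hpv
  have hv1 : v ∈ V₁ := by
    change (v, (0 : Module.Dual k V)) ∈ T
    rw [← hφ0]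
    exact hT
  have hv0 : v = 0 := by
    have : v ∈ V₁ ⊓ V₂ := ⟨hv1, hv2⟩
    rw [hc1.inf_eq_bot] at this
    exact this
  rw [Submodule.mem_bot, hv0, hφ0]
  rfl

end Groth.Agent.S14478
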