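import Groth.Statements.S14479
import Mathlib

set_option autoImplicit false
universe u
open CharCyc

namespace Groth.Agent.S14479

open Module in
theorem key {k V : Type u} [Field k] [AddCommGroup V] [Module k V]
    {ι : Type} [Fintype ι] [DecidableEq ι] (b : Basis ι k V) (M : Matrix ι ι k)
    (hM : (M + M.transpose).det ≠ 0) :
    ∃ B : LinearMap.BilinForm k V, (B + B.flip).Nondegenerate := by
  refine ⟨Matrix.toBilin b M, ?_⟩
  refine LinearMap.BilinForm.nondegenerate_of_det_ne_zero _ b ?_
  have h1 : LinearMap.BilinForm.toMatrix b (Matrix.toBilin b M) = M :=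
    LinearMap.BilinForm.toMatrix_toBilin b M
  have h2 : LinearMap.BilinForm.toMatrix b (Matrix.toBilin b M).flip = M.transpose := by
    ext i j
    rw [LinearMap.BilinForm.toMatrix_apply, LinearMap.BilinForm.flip_apply,
      ← LinearMap.BilinForm.toMatrix_apply b, h1, Matrix.transpose_apply]
  rw [map_add, h1, h2]
  exact hM

theorem result (k V : Type u) [Field k] [AddCommGroup V] [Module k V]
    [FiniteDimensional k V] (h : Even (Module.finrank k V) ∨ ringChar k ≠ 2) :
    ∃ B : LinearMap.BilinForm k V, (B + B.flip).Nondegenerate := by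
  rcases h with ⟨m, hm⟩ | h
  · let e : Fin (Module.finrank k V) ≃ Fin m ⊕ Fin m := (finCongr hm).trans finSumFinEquiv.symm
    refine key ((Module.finBasis k V).reindex e)
      (Matrix.fromBlocks (0 : Matrix (Fin m) (Fin m) k) (1 : Matrix (Fin m) (Fin m) k)
        (0 : Matrix (Fin m) (Fin m) k) (0 : Matrix (Fin m) (Fin m) k)) ?_
    rw [Matrix.fromBlocks_transpose, Matrix.fromBlocks_add]
    simp only [Matrix.transpose_zero, Matrix.transpose_one, add_zero, zero_add]
    intro hdet
    have hJ : (Matrix.fromBlocks (0 : Matrix (Fin m) (Fin m) k) (1 : Matrix (Fin m) (Fin m) k)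
        (1 : Matrix (Fin m) (Fin m) k) (0 : Matrix (Fin m) (Fin m) k)) *
        (Matrix.fromBlocks (0 : Matrix (Fin m) (Fin m) k) (1 : Matrix (Fin m) (Fin m) k)
        (1 : Matrix (Fin m) (Fin m) k) (0 : Matrix (Fin m) (Fin m) k)) = 1 := by
      rw [Matrix.fromBlocks_multiply]
      simp [Matrix.fromBlocks_one]
    have := congrArg Matrix.det hJ
    rw [Matrix.det_mul, hdet, Matrix.det_one, mul_zero] at this
    exact zero_ne_one this
  · refine key (Module.finBasis k V) (1 : Matrix _ _ k) ?_
    have h2 : (2 : k) ≠ 0 := Ring.two_ne_zero h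
    rw [Matrix.transpose_one, ← two_smul k (1 : Matrix (Fin (Module.finrank k V)) (Fin (Module.finrank k V)) k),
      Matrix.det_smul, Matrix.det_one, mul_one]
    exact pow_ne_zero _ h2

end Groth.Agent.S14479
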