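import Groth.Statements.S14481
-- import your own Groth.Agent.* helpers here
import Groth.Agent.Lib.Helper55.ProperIntersection
import Groth.Agent.Lib.Helper55.FibreDimStrata

set_option autoImplicit false
universe u
open CategoryTheory AlgebraicGeometry
open CharCyc

namespace Groth.Agent.S14481

/-- First equivalence: let k be a field, let π : C → X be a morphism between k-schemes of finite type
such that every irreducible component of C has dimension n, and let ι : W → X be a regular immersion
of codimension c. The following are equivalent: (a) ι meets C properly, that is, whenever P is an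
irreducible component of C and Q is an irreducible component of P ×_X W (the subspace P ∩ π⁻¹(ι(W))
of C), one has dim Q = dim P − c; (b) dim C ×_X W ≤ n − c (the subspace π⁻¹(ι(W)) of C). Dimensions
are written additively: dim Q + c = n and dim π⁻¹(ι(W)) + c ≤ n, the empty space having dimension ⊥.
(Stated for each of the four kinds of regular immersion of codimension c — regular, Koszul-regular,
H₁-regular, quasi-regular; the published statement does not distinguish kinds.) -/
theorem result (k : Type u) [Field k] (C X W : Scheme.{u})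
    (q : X ⟶ Spec (CommRingCat.of k)) (π : C ⟶ X) (ι : W ⟶ X)
    [LocallyOfFiniteType q] [CompactSpace X] [LocallyOfFiniteType π] [CompactSpace C]
    (κ : RegImm.Kind) (n c : ℕ) (hι : RegImm.IsRegularImmersionOfCodim κ c ι)
    (hC : ∀ P ∈ irreducibleComponents (C : Type u), topologicalKrullDim P = n) :
    (∀ P ∈ irreducibleComponents (C : Type u), ∀ Q ∈ irreducibleComponents (P ∩ π ⁻¹' Set.range ι : Set C),
        topologicalKrullDim Q + (c : WithBot ℕ∞) = n) ↔
      topologicalKrullDim (π ⁻¹' Set.range ι : Set C) + (c : WithBot ℕ∞) ≤ n := by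
  classical
  open Groth.Agent.Lib.Helper55 in
  have hιimm : IsImmersion ι := hι.1
  have hlft : LocallyOfFiniteType (π ≫ q) := inferInstance
  have hT' : IsLocallyClosed (π ⁻¹' Set.range ι) := ι.isLocallyClosed_range.preimage π.continuous
  -- the Krull bound
  have key : ∀ P ∈ irreducibleComponents (C : Type u), ∀ ξ ∈ P ∩ π ⁻¹' Set.range ι,
      (∀ ξ' ∈ P ∩ π ⁻¹' Set.range ι, ξ' ⤳ ξ → ξ' = ξ) →
      (n : WithBot ℕ∞) ≤ topologicalKrullDim ↥(closure ({ξ} : Set C)) + (c : WithBot ℕ∞) := by
    intro P hP ξ hξ hmax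
    obtain ⟨η, hη⟩ := QuasiSober.sober hP.1 (isClosed_of_mem_irreducibleComponents P hP)
    have hdimη : topologicalKrullDim ↥(closure ({η} : Set C)) = n := by
      rw [hη.def]
      exact hC P hP
    have hηξ : η ⤳ ξ := by
      rw [specializes_iff_mem_closure, hη.def]
      exact hξ.1
    obtain ⟨w, hw⟩ := hξ.2
    obtain ⟨U, hwU, hcl, rs, hlen, -, hker⟩ := hι.2 w
    rw [← hdimη]
    refine dim_closure_le_add_of_maximal_preimage (π ≫ q) π ι c η ξ hηξ w hw U hwU rs hlen hker ?_
    intro ξ' hξ'T hηξ' hξ'ξ
    refine hmax ξ' ⟨?_, hξ'T⟩ hξ'ξ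
    rw [← hη.def]
    exact specializes_iff_mem_closure.mp hηξ'
  constructor
  · intro h
    have hqs : QuasiSober ↥(π ⁻¹' Set.range ι) := quasiSober_of_isLocallyClosed hT'
    rw [topologicalKrullDim_add_le_iff]
    intro z
    obtain ⟨P, hP, hzP⟩ := exists_mem_irreducibleComponents_subset_of_isIrreducible
      ({z.1} : Set C) isIrreducible_singleton
    have hzP' : z.1 ∈ P := hzP rfl
    have hS : IsLocallyClosed (P ∩ π ⁻¹' Set.range ι) :=
      (isClosed_of_mem_irreducibleComponents P hP).isLocallyClosed.inter hT'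
    obtain ⟨Q, hQ, hzQ⟩ := exists_mem_irreducibleComponents_subset_of_isIrreducible
      ({(⟨z.1, hzP', z.2⟩ : ↥(P ∩ π ⁻¹' Set.range ι))} : Set ↥(P ∩ π ⁻¹' Set.range ι))
      isIrreducible_singleton
    have ha := h P hP Q hQ
    have h1 : topologicalKrullDim ↥(closure ({z} : Set ↥(π ⁻¹' Set.range ι))) =
        topologicalKrullDim ↥(closure
          ({(⟨z.1, hzP', z.2⟩ : ↥(P ∩ π ⁻¹' Set.range ι))} : Set ↥(P ∩ π ⁻¹' Set.range ι))) := by
      rw [topologicalKrullDim_closure_subtype_inter, topologicalKrullDim_closure_subtype_inter,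
        topologicalKrullDim_closure_inter_eq_of_isLocallyClosed (π ≫ q) hT' z.1 z.2,
        topologicalKrullDim_closure_inter_eq_of_isLocallyClosed (π ≫ q) hS z.1 ⟨hzP', z.2⟩]
    have h2 : topologicalKrullDim ↥(closure
        ({(⟨z.1, hzP', z.2⟩ : ↥(P ∩ π ⁻¹' Set.range ι))} : Set ↥(P ∩ π ⁻¹' Set.range ι))) ≤
        topologicalKrullDim ↥Q := by
      refine topologicalKrullDim_mono_set ?_
      exact (isClosed_of_mem_irreducibleComponents Q hQ).closure_subset_iff.mpr hzQ
    rw [h1, ← ha]
    gcongr
  · intro h P hP Q hQ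
    have hS : IsLocallyClosed (P ∩ π ⁻¹' Set.range ι) :=
      (isClosed_of_mem_irreducibleComponents P hP).isLocallyClosed.inter hT'
    obtain ⟨ξ, hξS, hmax, rfl⟩ := exists_maximal_of_mem_irreducibleComponents hS Q hQ
    have hd : topologicalKrullDim ↥(closure
        ({(⟨ξ, hξS⟩ : ↥(P ∩ π ⁻¹' Set.range ι))} : Set ↥(P ∩ π ⁻¹' Set.range ι))) =
        topologicalKrullDim ↥(closure ({ξ} : Set C)) := by
      rw [topologicalKrullDim_closure_subtype_inter,
        topologicalKrullDim_closure_inter_eq_of_isLocallyClosed (π ≫ q) hS ξ hξS]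
    rw [hd]
    refine le_antisymm ?_ (key P hP ξ hξS hmax)
    refine le_trans ?_ h
    gcongr
    rw [← topologicalKrullDim_closure_inter_eq_of_isLocallyClosed (π ≫ q) hT' ξ hξS.2]
    exact topologicalKrullDim_mono_set Set.inter_subset_right

end Groth.Agent.S14481
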