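import Groth.Statements.S14482
-- import your own Groth.Agent.* helpers here
import Groth.Agent.Lib.Helper55.FibreDimStrata

set_option autoImplicit false
universe u
open CategoryTheory AlgebraicGeometry
open CharCyc

namespace Groth.Agent.S14482

open CategoryTheory.Limits in
/-- The fibres of the base change of `π` along an immersion `ι` have the dimension of the
corresponding fibres of `π`. -/
theorem dim_fiber_snd_eq {C X W : Scheme.{u}} (π : C ⟶ X) (ι : W ⟶ X) [IsImmersion ι] (w : W) :
    topologicalKrullDim ↥((pullback.snd π ι).fiber w) = topologicalKrullDim ↥(π.fiber (ι w)) := by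
  have h1 := IsHomeomorph.topologicalKrullDim_eq _
    ((pullback.snd π ι).fiberHomeo w).isHomeomorph
  have h2 := IsHomeomorph.topologicalKrullDim_eq _ (π.fiberHomeo (ι w)).isHomeomorph
  rw [h1, h2]
  have hemb : Topology.IsEmbedding (pullback.fst π ι) := (pullback.fst π ι).isEmbedding
  let g : ↥((pullback.snd π ι) ⁻¹' {w}) → ↥(π ⁻¹' {ι w}) := fun z =>
    ⟨pullback.fst π ι z.1, by
      have hz : pullback.snd π ι z.1 = w := z.2
      have hcomm : π (pullback.fst π ι z.1) = ι (pullback.snd π ι z.1) := by
        rw [← Scheme.Hom.comp_apply, ← Scheme.Hom.comp_apply, pullback.condition]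
      change π (pullback.fst π ι z.1) = ι w
      exact hcomm.trans (congrArg _ hz)⟩
  have hg : Topology.IsEmbedding g := by
    refine Topology.IsEmbedding.of_comp ?_ continuous_subtype_val ?_
    · exact (hemb.continuous.comp continuous_subtype_val).subtype_mk _
    · exact hemb.comp Topology.IsEmbedding.subtypeVal
  have hsurj : Function.Surjective g := by
    rintro ⟨c, hc⟩
    obtain ⟨z, hz1, hz2⟩ := Scheme.Pullback.exists_preimage_pullback (f := π) (g := ι) c w hc
    exact ⟨⟨z, hz2⟩, Subtype.ext hz1⟩
  exact IsHomeomorph.topologicalKrullDim_eq g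
    (isHomeomorph_iff_isEmbedding_surjective.mpr ⟨hg, hsurj⟩)

/-- Second assertion: let k be a field, let π : C → X be a morphism between k-schemes of finite type
such that every irreducible component of C has dimension n, let ι : W → X be a regular immersion of
codimension c, and for j ≥ 0 let B_j ⊆ X be the set of points whose fibre under π has dimension at
least j. Assume that every B_j is closed in X. Then dim B_j + j ≤ n for every j, and the condition
dim π⁻¹(ι(W)) + c ≤ n (that is, dim C ×_X W ≤ n − c) holds if and only if dim ι⁻¹(B_j) + c + j ≤ n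
for every j (that is, ι meets the sequence (B_j) n-semi-properly). Dimensions are topological Krull
dimensions of subspaces, the empty space having dimension ⊥. (Stated for each of the four kinds of
regular immersion of codimension c — regular, Koszul-regular, H₁-regular, quasi-regular; the
published statement does not distinguish kinds.) -/
theorem result (k : Type u) [Field k] (C X W : Scheme.{u})
    (q : X ⟶ Spec (CommRingCat.of k)) (π : C ⟶ X) (ι : W ⟶ X)
    [LocallyOfFiniteType q] [CompactSpace X] [LocallyOfFiniteType π] [CompactSpace C]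
    (κ : RegImm.Kind) (n c : ℕ) (hι : RegImm.IsRegularImmersionOfCodim κ c ι)
    (hC : ∀ P ∈ irreducibleComponents (C : Type u), topologicalKrullDim P = n)
    (hB : ∀ j : ℕ, IsClosed {x : X | (j : WithBot ℕ∞) ≤ topologicalKrullDim (π.fiber x)}) :
    (∀ j : ℕ, topologicalKrullDim {x : X | (j : WithBot ℕ∞) ≤ topologicalKrullDim (π.fiber x)} + (j : WithBot ℕ∞) ≤ n) ∧
      (topologicalKrullDim (π ⁻¹' Set.range ι : Set C) + (c : WithBot ℕ∞) ≤ n ↔
        ∀ j : ℕ, topologicalKrullDim (ι ⁻¹' {x : X | (j : WithBot ℕ∞) ≤ topologicalKrullDim (π.fiber x)} : Set W) + (c : WithBot ℕ∞) + (j : WithBot ℕ∞) ≤ n) := by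
  have hιimm : IsImmersion ι := hι.1
  have hCloc : IsLocallyNoetherian C := LocallyOfFiniteType.isLocallyNoetherian (π ≫ q)
  have hCN : IsNoetherian C := { }
  have hXloc : IsLocallyNoetherian X := LocallyOfFiniteType.isLocallyNoetherian q
  have hXN : IsNoetherian X := { }
  -- `dim C ≤ n`
  have hdimC : topologicalKrullDim C + ((0 : ℕ) : WithBot ℕ∞) ≤ n := by
    rw [Lib.Helper55.topologicalKrullDim_add_le_iff]
    intro x
    obtain ⟨P, hP, hxP⟩ := exists_mem_irreducibleComponents_subset_of_isIrreducible
      (closure ({x} : Set C)) isIrreducible_singleton.closure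
    have h1 := Lib.Helper55.topologicalKrullDim_mono_set hxP
    rw [hC P hP] at h1
    simpa using h1
  refine ⟨?_, ?_⟩
  · intro j
    have h := (Lib.Helper55.topologicalKrullDim_add_le_iff_strata q π n 0).mp hdimC j
    rw [(hB j).closure_eq] at h
    simpa using h
  · -- base change to `W`
    have hWN : TopologicalSpace.NoetherianSpace W := ι.isEmbedding.isInducing.noetherianSpace
    have hCWN : TopologicalSpace.NoetherianSpace ↥(Limits.pullback π ι) :=
      (Limits.pullback.fst π ι).isEmbedding.isInducing.noetherianSpace
    have hcore := Lib.Helper55.topologicalKrullDim_add_le_iff_strata (ι ≫ q)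
      (Limits.pullback.snd π ι) n c
    -- the total space
    have hdim1 : topologicalKrullDim ↥(Limits.pullback π ι) =
        topologicalKrullDim ↥(π ⁻¹' Set.range ι : Set C) := by
      have h1 := IsHomeomorph.topologicalKrullDim_eq _
        ((Limits.pullback.fst π ι).isEmbedding.toHomeomorph).isHomeomorph
      rw [h1, Scheme.Pullback.range_fst]
    -- the strata
    have hstr : ∀ j : ℕ, closure {w : W | (j : WithBot ℕ∞) ≤
        topologicalKrullDim ↥((Limits.pullback.snd π ι).fiber w)} =
        ι ⁻¹' {x : X | (j : WithBot ℕ∞) ≤ topologicalKrullDim ↥(π.fiber x)} := by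
      intro j
      have : {w : W | (j : WithBot ℕ∞) ≤
          topologicalKrullDim ↥((Limits.pullback.snd π ι).fiber w)} =
          ι ⁻¹' {x : X | (j : WithBot ℕ∞) ≤ topologicalKrullDim ↥(π.fiber x)} := by
        ext w
        simp only [Set.mem_ofPred_eq, Set.mem_preimage]
        rw [dim_fiber_snd_eq π ι w]
      rw [this]
      exact ((hB j).preimage ι.continuous).closure_eq
    rw [hdim1] at hcore
    rw [hcore]
    refine forall_congr' fun j => ?_
    rw [hstr j]

end Groth.Agent.S14482
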