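import Groth.Statements.S14483
-- import your own Groth.Agent.* helpers here
import Groth.Agent.Lib.Helper55.WellIntersect

set_option autoImplicit false
universe u
open CategoryTheory CategoryTheory.Limits AlgebraicGeometry
open CharCyc

namespace Groth.Agent.S14483

/-- Let k be a field and let f : X → S be a morphism between separated k-schemes of finite type. Two
closed subsets Y, Z of X are said to well intersect with respect to f when dim(Y ×_S Z ∖ Y ×_X Z) ≤
dim Y + dim Z − dim S; here Y ×_S Z ∖ Y ×_X Z is taken as the subspace of X ×_S X of points whose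
two projections lie in Y and in Z and which are not in the image of the diagonal, and the inequality
is written additively as dim(Y ×_S Z ∖ Y ×_X Z) + dim S ≤ dim Y + dim Z (topological Krull
dimensions, the empty space having dimension ⊥). Let Y ⊆ X be closed and irreducible with dim Y <
dim S, and suppose that the pair Y, Y well intersects with respect to f. Then Y → S is generically
radicial onto its image: there is an open subset V of X meeting Y such that f is injective on V ∩ Y
and, at every point of V ∩ Y, the residue field extension induced by f is purely inseparable. -/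
theorem result (k : Type u) [Field k] (X S : Scheme.{u})
    (q : S ⟶ Spec (CommRingCat.of k)) (f : X ⟶ S)
    [LocallyOfFiniteType q] [CompactSpace S] [IsSeparated q] [LocallyOfFiniteType f] [CompactSpace X] [IsSeparated f]
    (Y : Set X) (hYc : IsClosed Y) (hYi : IsIrreducible Y)
    (hWI : topologicalKrullDim {p : ↥(pullback f f) | pullback.fst f f p ∈ Y ∧ pullback.snd f f p ∈ Y ∧ p ∉ Set.range (pullback.diagonal f)} + topologicalKrullDim S ≤ topologicalKrullDim Y + topologicalKrullDim Y)
    (hYS : topologicalKrullDim Y < topologicalKrullDim S) :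
    ∃ V : Set X, IsOpen V ∧ (V ∩ Y).Nonempty ∧ Set.InjOn f.base (V ∩ Y) ∧
      ∀ x ∈ V ∩ Y, (f.residueFieldMap x).hom.IsPurelyInseparable := by
  classical
  open Groth.Agent.Lib.Helper55 in
  have hXloc : IsLocallyNoetherian X := LocallyOfFiniteType.isLocallyNoetherian (f ≫ q)
  have hXN : IsNoetherian X := { }
  have hSloc : IsLocallyNoetherian S := LocallyOfFiniteType.isLocallyNoetherian q
  have hSN : IsNoetherian S := { }
  have hPloc : IsLocallyNoetherian (pullback f f) :=
    LocallyOfFiniteType.isLocallyNoetherian (pullback.fst f f)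
  have hPN : IsNoetherian (pullback f f) := { }
  obtain ⟨η, hη⟩ := QuasiSober.sober hYi hYc
  -- the off-diagonal part of `Y ×_S Y`
  obtain ⟨W, hWdef⟩ : ∃ W : Set ↥(pullback f f), W = {p : ↥(pullback f f) |
      pullback.fst f f p ∈ Y ∧ pullback.snd f f p ∈ Y ∧ p ∉ Set.range (pullback.diagonal f)} :=
    ⟨_, rfl⟩
  have hWmem : ∀ p : ↥(pullback f f), p ∈ W ↔ pullback.fst f f p ∈ Y ∧ pullback.snd f f p ∈ Y ∧
      p ∉ Set.range (pullback.diagonal f) := by
    intro p
    rw [hWdef]
    rfl
  rw [← hWdef] at hWI
  have h1 : IsClosed ((pullback.fst f f) ⁻¹' Y ∩ (pullback.snd f f) ⁻¹' Y) :=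
    (hYc.preimage (pullback.fst f f).continuous).inter
      (hYc.preimage (pullback.snd f f).continuous)
  have h2 : IsOpen (Set.range (pullback.diagonal f))ᶜ :=
    (pullback.diagonal f).isClosedEmbedding.isClosed_range.isOpen_compl
  have hWeq : W = ((pullback.fst f f) ⁻¹' Y ∩ (pullback.snd f f) ⁻¹' Y) ∩
      (Set.range (pullback.diagonal f))ᶜ := by
    ext p
    rw [hWmem]
    simp only [Set.mem_inter_iff, Set.mem_preimage, Set.mem_compl_iff]
    tauto
  have hW : IsLocallyClosed W := by
    rw [hWeq]
    exact h1.isLocallyClosed.inter h2.isLocallyClosed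
  have hWc : Topology.IsConstructible W := by
    rw [hWeq]
    exact (Groth.Agent.Lib.Helper12.ConstrTop.isConstructible_of_isClosed h1).inter
      (Groth.Agent.Lib.Helper12.ConstrTop.isConstructible_of_isOpen h2)
  -- Claim A: no point of `W` projects to the generic point of `Y`
  have hA : ∀ p ∈ W, pullback.fst f f p ≠ η := by
    intro p hpW hp1
    have hdim := dim_closure_map_le_of_mem_isLocallyClosed (f ≫ q) (pullback.fst f f) hW p hpW
    rw [hp1, hη.def] at hdim
    obtain ⟨a, b, ha, -, -⟩ := exists_dim_closure_eq_add (f ≫ q) (pullback.fst f f) p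
    rw [hp1, hη.def] at ha
    have h3 : topologicalKrullDim ↥Y + topologicalKrullDim ↥S ≤
        topologicalKrullDim ↥Y + topologicalKrullDim ↥Y :=
      (add_le_add_left hdim _).trans hWI
    rw [ha] at h3
    have h4 := withBot_enat_le_of_add_le_add_left a h3
    rw [← ha] at h4
    exact absurd h4 (not_le.mpr hYS)
  -- Claim B: `η` is not in the closure of the first projection of `W`
  have hB : η ∉ closure ((pullback.fst f f) '' W) := by
    intro hcl
    have hfp : LocallyOfFinitePresentation (pullback.fst f f) :=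
      LocallyOfFinitePresentation.iff_locallyOfFiniteType.mpr inferInstance
    have hE : Topology.IsConstructible ((pullback.fst f f) '' W) :=
      (pullback.fst f f).isConstructible_image hWc
    have hEY : (pullback.fst f f) '' W ⊆ Y := by
      rintro _ ⟨p, hp, rfl⟩
      exact ((hWmem p).mp hp).1
    have hd : Y ⊆ closure ((pullback.fst f f) '' W ∩ Y) := by
      rw [Set.inter_eq_left.mpr hEY, ← hη.def]
      exact closure_minimal (Set.singleton_subset_iff.mpr hcl) isClosed_closure
    obtain ⟨U, hU, ⟨s, hsU, hsY⟩, hsub⟩ :=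
      Groth.Agent.Lib.Helper12.ConstrTop.exists_open_of_dense_trace hE hYi hd
    have hηs : η ⤳ s := by
      rw [specializes_iff_mem_closure, hη.def]
      exact hsY
    have hηU : η ∈ U := hηs.mem_open hU hsU
    obtain ⟨p, hpW, hp⟩ := hsub ⟨hηU, hη.mem⟩
    exact hA p hpW hp
  refine ⟨(closure ((pullback.fst f f) '' W))ᶜ, isClosed_closure.isOpen_compl,
    ⟨η, hB, hη.mem⟩, ?_, ?_⟩
  · rintro x ⟨hxV, hxY⟩ x' ⟨-, hx'Y⟩ hxx'
    by_contra hne
    obtain ⟨p, hp1, hp2, hp3⟩ := exists_pullback_point_not_mem_diagonal f x x' hxx' hne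
    have hpW : p ∈ W := (hWmem p).mpr ⟨hp1 ▸ hxY, hp2 ▸ hx'Y, hp3⟩
    exact hxV (subset_closure ⟨p, hpW, hp1⟩)
  · rintro x ⟨hxV, hxY⟩
    refine isPurelyInseparable_residueFieldMap_of_forall_mem_diagonal f x ?_
    intro p hp1 hp2
    by_contra hp3
    have hpW : p ∈ W := (hWmem p).mpr ⟨hp1 ▸ hxY, hp2 ▸ hxY, hp3⟩
    exact hxV (subset_closure ⟨p, hpW, hp1⟩)

end Groth.Agent.S14483
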