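import Groth.Statements.S14484
-- import your own Groth.Agent.* helpers here
import Groth.Agent.Lib.Helper55.WellIntersect

set_option autoImplicit false
universe u
open CategoryTheory CategoryTheory.Limits AlgebraicGeometry
open CharCyc

namespace Groth.Agent.S14484

/-- Let k be a field and let f : X → S be a morphism between separated k-schemes of finite type. Two
closed subsets Y, Z of X are said to well intersect with respect to f when dim(Y ×_S Z ∖ Y ×_X Z) ≤
dim Y + dim Z − dim S; here Y ×_S Z ∖ Y ×_X Z is taken as the subspace of X ×_S X of points whose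
two projections lie in Y and in Z and which are not in the image of the diagonal, and the inequality
is written additively as dim(Y ×_S Z ∖ Y ×_X Z) + dim S ≤ dim Y + dim Z (topological Krull
dimensions, the empty space having dimension ⊥). Let Y, Z ⊆ X be closed irreducible subsets that
well intersect with respect to f, with dim Y < dim S and dim Z < dim S, and assume Y ⊄ Z. Then f(Y)
is not contained in the closure of f(Y) ∩ f(Z); in particular f(Y) ⊄ f(Z). -/
theorem result (k : Type u) [Field k] (X S : Scheme.{u})
    (q : S ⟶ Spec (CommRingCat.of k)) (f : X ⟶ S)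
    [LocallyOfFiniteType q] [CompactSpace S] [IsSeparated q] [LocallyOfFiniteType f] [CompactSpace X] [IsSeparated f]
    (Y Z : Set X) (hYc : IsClosed Y) (hYi : IsIrreducible Y) (hZc : IsClosed Z) (hZi : IsIrreducible Z)
    (hWI : topologicalKrullDim {p : ↥(pullback f f) | pullback.fst f f p ∈ Y ∧ pullback.snd f f p ∈ Z ∧ p ∉ Set.range (pullback.diagonal f)} + topologicalKrullDim S ≤ topologicalKrullDim Y + topologicalKrullDim Z)
    (hYS : topologicalKrullDim Y < topologicalKrullDim S) (hZS : topologicalKrullDim Z < topologicalKrullDim S)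
    (hYZ : ¬ Y ⊆ Z) :
    ¬ (f.base '' Y ⊆ closure (f.base '' Y ∩ f.base '' Z)) ∧ ¬ (f.base '' Y ⊆ f.base '' Z) := by
  classical
  open Groth.Agent.Lib.Helper55 in
  have hXloc : IsLocallyNoetherian X := LocallyOfFiniteType.isLocallyNoetherian (f ≫ q)
  have hXN : IsNoetherian X := { }
  have hSloc : IsLocallyNoetherian S := LocallyOfFiniteType.isLocallyNoetherian q
  have hSN : IsNoetherian S := { }
  have hA : ¬ (f.base '' Y ⊆ closure (f.base '' Y ∩ f.base '' Z)) := by
    intro h
    obtain ⟨η, hη⟩ := QuasiSober.sober hYi hYc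
    obtain ⟨z, hzZ, hz⟩ := map_genericPoint_mem_image f Y Z hZc η hη h
    have hne : η ≠ z := by
      rintro rfl
      apply hYZ
      rw [← hη.def]
      exact hZc.closure_subset_iff.mpr (Set.singleton_subset_iff.mpr hzZ)
    obtain ⟨p, hp1, hp2, hp3⟩ := exists_pullback_point_not_mem_diagonal f η z hz.symm hne
    have hW : IsLocallyClosed {p : ↥(pullback f f) | pullback.fst f f p ∈ Y ∧
        pullback.snd f f p ∈ Z ∧ p ∉ Set.range (pullback.diagonal f)} := by
      have h1 : IsClosed ((pullback.fst f f) ⁻¹' Y ∩ (pullback.snd f f) ⁻¹' Z) :=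
        (hYc.preimage (pullback.fst f f).continuous).inter
          (hZc.preimage (pullback.snd f f).continuous)
      have h2 : IsOpen (Set.range (pullback.diagonal f))ᶜ :=
        (pullback.diagonal f).isClosedEmbedding.isClosed_range.isOpen_compl
      have h3 := h1.isLocallyClosed.inter h2.isLocallyClosed
      convert h3 using 1
      ext p
      simp only [Set.mem_ofPred_eq, Set.mem_inter_iff, Set.mem_preimage, Set.mem_compl_iff]
      tauto
    have hpW : p ∈ {p : ↥(pullback f f) | pullback.fst f f p ∈ Y ∧
        pullback.snd f f p ∈ Z ∧ p ∉ Set.range (pullback.diagonal f)} :=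
      ⟨hp1 ▸ hη.mem, hp2 ▸ hzZ, hp3⟩
    have hdim := dim_closure_map_le_of_mem_isLocallyClosed (f ≫ q) (pullback.fst f f) hW p hpW
    rw [hp1, hη.def] at hdim
    obtain ⟨a, b, ha, -, -⟩ := exists_dim_closure_eq_add (f ≫ q) (pullback.fst f f) p
    rw [hp1, hη.def] at ha
    have h1 : topologicalKrullDim ↥Y + topologicalKrullDim ↥S ≤
        topologicalKrullDim ↥Y + topologicalKrullDim ↥Z :=
      (add_le_add_left hdim _).trans hWI
    rw [ha] at h1
    exact absurd (withBot_enat_le_of_add_le_add_left a h1) (not_le.mpr hZS)
  refine ⟨hA, fun h => hA ?_⟩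
  rw [Set.inter_eq_left.mpr h]
  exact subset_closure

end Groth.Agent.S14484
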