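import Groth.Statements.S14485
-- import your own Groth.Agent.* helpers here
import Groth.Agent.Lib.Helper55.PreimageDim

set_option autoImplicit false
universe u
open CategoryTheory CategoryTheory.Limits AlgebraicGeometry
open CharCyc

namespace Groth.Agent.S14485

/-- Let k be a field and let f : X → S be a morphism between separated k-schemes of finite type. Two
closed subsets Y, Z of X are said to well intersect with respect to f when dim(Y ×_S Z ∖ Y ×_X Z) ≤
dim Y + dim Z − dim S; here Y ×_S Z ∖ Y ×_X Z is taken as the subspace of X ×_S X of points whose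
two projections lie in Y and in Z and which are not in the image of the diagonal, and the inequality
is written additively as dim(Y ×_S Z ∖ Y ×_X Z) + dim S ≤ dim Y + dim Z (topological Krull
dimensions, the empty space having dimension ⊥). Let Y, Z ⊆ X be closed subsets, and let g : S' → S
be faithfully flat with every fibre of dimension d (relative constant dimension d), where S' is
again a separated k-scheme of finite type. Write f' : X' = X ×_S S' → S' for the base change and Y',
Z' ⊆ X' for the preimages of Y, Z. Then well-intersection of Y, Z with respect to f is equivalent to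
well-intersection of Y', Z' with respect to f'. -/
theorem result (k : Type u) [Field k] (X S S' : Scheme.{u})
    (q : S ⟶ Spec (CommRingCat.of k)) (f : X ⟶ S) (g : S' ⟶ S)
    [LocallyOfFiniteType q] [CompactSpace S] [IsSeparated q] [LocallyOfFiniteType f] [CompactSpace X] [IsSeparated f]
    [LocallyOfFiniteType g] [CompactSpace S'] [IsSeparated g] [Flat g] [Surjective g]
    (d : ℕ) (hd : ∀ s : S, topologicalKrullDim (g.fiber s) = d)
    (Y Z : Set X) (hYc : IsClosed Y) (hZc : IsClosed Z) :
    (topologicalKrullDim {p : ↥(pullback f f) | pullback.fst f f p ∈ Y ∧ pullback.snd f f p ∈ Z ∧ p ∉ Set.range (pullback.diagonal f)} + topologicalKrullDim S ≤ topologicalKrullDim Y + topologicalKrullDim Z) ↔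
      (topologicalKrullDim {p : ↥(pullback (pullback.snd f g) (pullback.snd f g)) | pullback.fst (pullback.snd f g) (pullback.snd f g) p ∈ ((pullback.fst f g) ⁻¹' Y) ∧ pullback.snd (pullback.snd f g) (pullback.snd f g) p ∈ ((pullback.fst f g) ⁻¹' Z) ∧ p ∉ Set.range (pullback.diagonal (pullback.snd f g))} + topologicalKrullDim S' ≤ topologicalKrullDim ((pullback.fst f g) ⁻¹' Y) + topologicalKrullDim ((pullback.fst f g) ⁻¹' Z)) := by
  classical
  open Groth.Agent.Lib.Helper55 in
  -- the off-diagonal part of `Y ×_S Z`
  obtain ⟨W, hWdef⟩ : ∃ W : Set ↥(pullback f f), W = {p : ↥(pullback f f) |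
      pullback.fst f f p ∈ Y ∧ pullback.snd f f p ∈ Z ∧ p ∉ Set.range (pullback.diagonal f)} :=
    ⟨_, rfl⟩
  have hWmem : ∀ p : ↥(pullback f f), p ∈ W ↔ pullback.fst f f p ∈ Y ∧ pullback.snd f f p ∈ Z ∧
      p ∉ Set.range (pullback.diagonal f) := by
    intro p
    rw [hWdef]
    rfl
  rw [← hWdef]
  have h1 : IsClosed ((pullback.fst f f) ⁻¹' Y ∩ (pullback.snd f f) ⁻¹' Z) :=
    (hYc.preimage (pullback.fst f f).continuous).inter
      (hZc.preimage (pullback.snd f f).continuous)
  have h2 : IsOpen (Set.range (pullback.diagonal f))ᶜ :=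
    (pullback.diagonal f).isClosedEmbedding.isClosed_range.isOpen_compl
  have hWeq : W = ((pullback.fst f f) ⁻¹' Y ∩ (pullback.snd f f) ⁻¹' Z) ∩
      (Set.range (pullback.diagonal f))ᶜ := by
    ext p
    rw [hWmem]
    simp only [Set.mem_inter_iff, Set.mem_preimage, Set.mem_compl_iff]
    tauto
  have hW : IsLocallyClosed W := by
    rw [hWeq]
    exact h1.isLocallyClosed.inter h2.isLocallyClosed
  -- its base change
  have hW' : {p : ↥(pullback (pullback.snd f g) (pullback.snd f g)) |
      pullback.fst (pullback.snd f g) (pullback.snd f g) p ∈ ((pullback.fst f g) ⁻¹' Y) ∧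
      pullback.snd (pullback.snd f g) (pullback.snd f g) p ∈ ((pullback.fst f g) ⁻¹' Z) ∧
      p ∉ Set.range (pullback.diagonal (pullback.snd f g))} = (pullbackSqMap f g) ⁻¹' W := by
    ext p
    rw [Set.mem_preimage, hWmem, range_diagonal_pullbackSqMap]
    have e1 : pullback.fst f f (pullbackSqMap f g p) =
        pullback.fst f g (pullback.fst (pullback.snd f g) (pullback.snd f g) p) :=
      congr(($(pullbackSqMap_fst f g)) p)
    have e2 : pullback.snd f f (pullbackSqMap f g p) =
        pullback.fst f g (pullback.snd (pullback.snd f g) (pullback.snd f g) p) :=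
      congr(($(pullbackSqMap_snd f g)) p)
    rw [e1, e2]
    rfl
  rw [hW']
  -- dimensions
  have hdS : topologicalKrullDim ↥S' = topologicalKrullDim ↥S + (d : WithBot ℕ∞) := by
    have h := topologicalKrullDim_preimage_eq_add q g (T := Set.univ)
      isClosed_univ.isLocallyClosed d (fun s _ => hd s)
    rw [Set.preimage_univ] at h
    rwa [IsHomeomorph.topologicalKrullDim_eq _ (Homeomorph.Set.univ ↥S').isHomeomorph,
      IsHomeomorph.topologicalKrullDim_eq _ (Homeomorph.Set.univ ↥S).isHomeomorph] at h
  have hfib : ∀ x : X, topologicalKrullDim ↥((pullback.fst f g).fiber x) = d := by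
    intro x
    rw [topologicalKrullDim_fiber_eq_of_isPullback g f (pullback.snd f g) (pullback.fst f g)
      (IsPullback.of_hasPullback f g).flip x]
    exact hd (f x)
  have hdY : topologicalKrullDim ↥((pullback.fst f g) ⁻¹' Y) =
      topologicalKrullDim ↥Y + (d : WithBot ℕ∞) :=
    topologicalKrullDim_preimage_eq_add (f ≫ q) (pullback.fst f g) hYc.isLocallyClosed d
      (fun x _ => hfib x)
  have hdZ : topologicalKrullDim ↥((pullback.fst f g) ⁻¹' Z) =
      topologicalKrullDim ↥Z + (d : WithBot ℕ∞) :=
    topologicalKrullDim_preimage_eq_add (f ≫ q) (pullback.fst f g) hZc.isLocallyClosed d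
      (fun x _ => hfib x)
  have hΦlft : LocallyOfFiniteType (pullbackSqMap f g) :=
    MorphismProperty.of_isPullback (P := @LocallyOfFiniteType)
      (isPullback_pullbackSqMap f g).flip ‹_›
  have hdW : topologicalKrullDim ↥((pullbackSqMap f g) ⁻¹' W) =
      topologicalKrullDim ↥W + (d : WithBot ℕ∞) := by
    refine topologicalKrullDim_preimage_eq_add (pullback.fst f f ≫ f ≫ q) (pullbackSqMap f g) hW d
      (fun p _ => ?_)
    rw [topologicalKrullDim_fiber_eq_of_isPullback g (pullback.fst f f ≫ f)
      (pullback.fst (pullback.snd f g) (pullback.snd f g) ≫ pullback.snd f g) (pullbackSqMap f g)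
      (isPullback_pullbackSqMap f g).flip p]
    exact hd _
  rw [hdS, hdY, hdZ, hdW]
  -- arithmetic
  have hcast : ((d + d : ℕ) : WithBot ℕ∞) = (d : WithBot ℕ∞) + (d : WithBot ℕ∞) := by
    push_cast
    rfl
  rw [add_add_add_comm (topologicalKrullDim ↥W), add_add_add_comm (topologicalKrullDim ↥Y),
    ← hcast, add_comm _ ((d + d : ℕ) : WithBot ℕ∞), add_comm _ ((d + d : ℕ) : WithBot ℕ∞)]
  exact ⟨fun h => add_le_add_right h _, fun h => withBot_enat_le_of_add_le_add_left (d + d) h⟩

end Groth.Agent.S14485
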