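import Groth.Statements.S14493
import Groth.Agent.Lib.Helper15.IndCof

set_option autoImplicit false
universe v
open IndCof

namespace Groth.Agent.S14493

open CategoryTheory CategoryTheory.Limits in
/-- Let C be a small abelian category all of whose objects are Artinian and killed by some power of a
prime p. The ind-objects of cofinite type (those A in Ind C with every p^n-torsion sub-object A[p^n]
isomorphic to an object of C) form an abelian subcategory of Ind C: for a morphism f : A ⟶ B between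
ind-objects of cofinite type, the kernel and the cokernel of f in Ind C are of cofinite type. -/
theorem result {C : Type v} [SmallCategory C] [Abelian C]
    (hart : ∀ X : C, IsArtinianObject X) (p : ℕ) (hp : p.Prime)
    (htor : ∀ X : C, ∃ n : ℕ, (p ^ n) • 𝟙 X = 0)
    (A B : Ind C) (hA : ∀ n : ℕ, (Ind.yoneda (C := C)).essImage (kernel ((p ^ n) • 𝟙 A))) (hB : ∀ n : ℕ, (Ind.yoneda (C := C)).essImage (kernel ((p ^ n) • 𝟙 B))) (f : A ⟶ B) :
    (∀ n : ℕ, (Ind.yoneda (C := C)).essImage (kernel ((p ^ n) • 𝟙 (kernel f)))) ∧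
      (∀ n : ℕ, (Ind.yoneda (C := C)).essImage (kernel ((p ^ n) • 𝟙 (cokernel f)))) := by
  open Groth.Agent.Lib.Helper15.IndCof in
  have hN := sys_primePow hp
  open Groth.Agent.Lib.Helper15.IndCof in
  have htor' : IsTor {k | ∃ e : ℕ, k = p ^ e} C := fun X => by
    obtain ⟨n, h⟩ := htor X; exact ⟨p ^ n, ⟨n, rfl⟩, h⟩
  open Groth.Agent.Lib.Helper15.IndCof in
  have hA' : IsCof {k | ∃ e : ℕ, k = p ^ e} A := by rintro k ⟨e, rfl⟩; exact hA e
  open Groth.Agent.Lib.Helper15.IndCof in
  have hB' : IsCof {k | ∃ e : ℕ, k = p ^ e} B := by rintro k ⟨e, rfl⟩; exact hB e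
  open Groth.Agent.Lib.Helper15.IndCof in
  exact ⟨fun n => isCof_kernel hA' hB' f _ ⟨n, rfl⟩,
    fun n => isCof_cokernel hN hart htor' hA' hB' f _ ⟨n, rfl⟩⟩

end Groth.Agent.S14493
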