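import Groth.Statements.S14494
import Groth.Agent.Lib.Helper15.IndCof

set_option autoImplicit false
universe v
open IndCof

namespace Groth.Agent.S14494

open CategoryTheory CategoryTheory.Limits in
/-- Let C be a small abelian category all of whose objects are Artinian and killed by some power of a
prime p, and let A be an ind-object of C of cofinite type (every A[p^n] is isomorphic to an object
of C). Then the decreasing sequence of sub-objects ⋯ ⊆ p²A ⊆ pA ⊆ A stabilizes: the image of
multiplication by p^n on A is the same sub-object for all large n. -/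
theorem result {C : Type v} [SmallCategory C] [Abelian C]
    (hart : ∀ X : C, IsArtinianObject X) (p : ℕ) (hp : p.Prime)
    (htor : ∀ X : C, ∃ n : ℕ, (p ^ n) • 𝟙 X = 0)
    (A : Ind C) (hA : ∀ n : ℕ, (Ind.yoneda (C := C)).essImage (kernel ((p ^ n) • 𝟙 A))) :
    ∃ N : ℕ, ∀ n : ℕ, N ≤ n →
      imageSubobject ((p ^ n) • 𝟙 A) = imageSubobject ((p ^ N) • 𝟙 A) := by
  open Groth.Agent.Lib.Helper15.IndCof in
  obtain ⟨M, ⟨e, rfl⟩, hepi⟩ := exists_epi_torsion_cokernel (sys_primePow hp) hart
    (fun X => by obtain ⟨n, h⟩ := htor X; exact ⟨p ^ n, ⟨n, rfl⟩, h⟩)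
    (A := A) (by rintro k ⟨e, rfl⟩; exact hA e) (n := p) ⟨1, (pow_one p).symm⟩
  refine ⟨e, fun n hn => ?_⟩
  obtain ⟨j, rfl⟩ := Nat.exists_eq_add_of_le hn
  rw [pow_add]
  open Groth.Agent.Lib.Helper15.IndCof in
  exact image_nsmul_stable hepi j

end Groth.Agent.S14494
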