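import Groth.Statements.S14497
import Groth.Agent.Lib.Helper74.SubobjRefine

set_option autoImplicit false
universe v u
open IndCof

namespace Groth.Agent.S14497

section aux
open CategoryTheory CategoryTheory.Limits Groth.Agent.Lib.Helper74

variable {V : Type u} [Category.{v} V] [Abelian V] {B : V}

/-- If `B'` is divisible and `M` kills `B / B'`, then `(M * j) B = B'` for all `j > 0`. -/
theorem image_eq_of_div (B' : Subobject B) (hdiv : ∀ k : ℕ, 0 < k → Epi (k • 𝟙 (B' : V)))
    (M : ℕ) (hM : M • 𝟙 (cokernel B'.arrow) = 0) (j : ℕ) (hj : 0 < M * j) :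
    imageSubobject ((M * j) • 𝟙 B) = B' := by
  apply le_antisymm
  · have h0 : ((M * j) • 𝟙 B) ≫ cokernel.π B'.arrow = 0 := by
      rw [Preadditive.nsmul_comp, Category.id_comp, mul_nsmul]
      have : M • cokernel.π B'.arrow = 0 := by
        have := congrArg (cokernel.π B'.arrow ≫ ·) hM
        simpa [Preadditive.comp_nsmul] using this
      rw [this, smul_zero]
    obtain ⟨l, hl⟩ := exists_lift_of_comp_cokernel_π_eq_zero B' _ h0
    exact imageSubobject_le _ l hl
  · have := hdiv (M * j) hj
    refine le_imageSubobject_of_refinement B' _ ((M * j) • 𝟙 (B' : V)) B'.arrow ?_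
    rw [Preadditive.nsmul_comp, Category.id_comp, Preadditive.comp_nsmul, Category.comp_id]

theorem le_of_div (B' : Subobject B) (M : ℕ) (hM0 : 0 < M)
    (hM : M • 𝟙 (cokernel B'.arrow) = 0) (D : Subobject B)
    (hD : ∀ k : ℕ, 0 < k → Epi (k • 𝟙 (D : V))) : D ≤ B' := by
  have := hD M hM0
  have h0 : D.arrow ≫ cokernel.π B'.arrow = 0 := by
    rw [← cancel_epi (M • 𝟙 (D : V)), Preadditive.nsmul_comp, Category.id_comp, comp_zero]
    have : M • (D.arrow ≫ cokernel.π B'.arrow) = (D.arrow ≫ cokernel.π B'.arrow) ≫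
        (M • 𝟙 (cokernel B'.arrow)) := by
      rw [Preadditive.comp_nsmul, Category.comp_id]
    rw [this, hM, comp_zero]
  obtain ⟨l, hl⟩ := exists_lift_of_comp_cokernel_π_eq_zero B' _ h0
  exact Subobject.le_of_comm l hl

end aux

open CategoryTheory CategoryTheory.Limits in
/-- Let B be an object of an abelian category and consider the inverse system, indexed by the positive
integers ordered by divisibility, with every term equal to B and transition map from the m-th to the
n-th term (n ∣ m) given by multiplication by m/n. This system is Mittag-Leffler, i.e. for every n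
the images in the n-th term of the transition maps are eventually constant, if and only if B has a
divisible sub-object B' (multiplication by every positive integer is an epimorphism of B') with B/B'
killed by some positive integer. Moreover such a B' is the largest divisible sub-object of B. -/
theorem result
    {V : Type u} [Category.{v} V] [Abelian V] (B : V) :
    ((∀ n : ℕ, 0 < n → ∃ m : ℕ, 0 < m ∧ n ∣ m ∧ ∀ m' : ℕ, 0 < m' → m ∣ m' →
        imageSubobject ((m' / n) • 𝟙 B) = imageSubobject ((m / n) • 𝟙 B)) ↔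
      ∃ B' : Subobject B, (∀ k : ℕ, 0 < k → Epi (k • 𝟙 (B' : V))) ∧
        ∃ M : ℕ, 0 < M ∧ M • 𝟙 (cokernel B'.arrow) = 0) ∧
    (∀ B' : Subobject B, (∀ k : ℕ, 0 < k → Epi (k • 𝟙 (B' : V))) →
      (∃ M : ℕ, 0 < M ∧ M • 𝟙 (cokernel B'.arrow) = 0) →
      ∀ D : Subobject B, (∀ k : ℕ, 0 < k → Epi (k • 𝟙 (D : V))) → D ≤ B') := by
  refine ⟨⟨?_, ?_⟩, ?_⟩
  · -- Mittag-Leffler ⇒ divisible subobject with bounded quotient
    intro h
    obtain ⟨m, hm0, -, hm⟩ := h 1 Nat.one_pos
    simp only [Nat.div_one] at hm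
    refine ⟨imageSubobject (m • 𝟙 B), ?_, m, hm0, ?_⟩
    · intro k hk
      rw [epi_iff_surjective_up_to_refinements]
      intro A y
      have hle : imageSubobject (m • 𝟙 B) ≤ imageSubobject ((m * k) • 𝟙 B) :=
        (hm (m * k) (Nat.mul_pos hm0 hk) (Dvd.intro k rfl)).ge
      obtain ⟨A', p, hp, z, hz⟩ :=
        Groth.Agent.Lib.Helper74.refinement_of_le_imageSubobject _ _ hle y
      refine ⟨A', p, hp, z ≫ factorThruImageSubobject (m • 𝟙 B), ?_⟩
      have hπι := imageSubobject_arrow_comp (m • 𝟙 B)
      have e1 : ((z ≫ factorThruImageSubobject (m • 𝟙 B)) ≫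
          (k • 𝟙 ((imageSubobject (m • 𝟙 B) : Subobject B) : V))) ≫
            (imageSubobject (m • 𝟙 B)).arrow = k • (z ≫ (m • 𝟙 B)) := by
        rw [Category.assoc, Category.assoc, Preadditive.nsmul_comp, Category.id_comp,
          Preadditive.comp_nsmul, Preadditive.comp_nsmul, hπι]
      have e2 : z ≫ ((m * k) • 𝟙 B) = k • (z ≫ (m • 𝟙 B)) := by
        rw [Preadditive.comp_nsmul, Category.comp_id, Preadditive.comp_nsmul, Category.comp_id,
          mul_nsmul]
      rw [← cancel_mono (imageSubobject (m • 𝟙 B)).arrow, e1, Category.assoc, hz, e2]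
    · rw [← cancel_epi (cokernel.π (imageSubobject (m • 𝟙 B)).arrow), comp_zero,
        Preadditive.comp_nsmul, Category.comp_id]
      have : m • cokernel.π (imageSubobject (m • 𝟙 B)).arrow =
          (m • 𝟙 B) ≫ cokernel.π (imageSubobject (m • 𝟙 B)).arrow := by
        rw [Preadditive.nsmul_comp, Category.id_comp]
      rw [this]
      have h := imageSubobject_arrow_comp (m • 𝟙 B)
      calc (m • 𝟙 B) ≫ cokernel.π (imageSubobject (m • 𝟙 B)).arrow
          = (factorThruImageSubobject (m • 𝟙 B) ≫ (imageSubobject (m • 𝟙 B)).arrow) ≫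
              cokernel.π (imageSubobject (m • 𝟙 B)).arrow := by rw [h]
        _ = 0 := by rw [Category.assoc, cokernel.condition, comp_zero]
  · -- divisible subobject with bounded quotient ⇒ Mittag-Leffler
    rintro ⟨B', hdiv, M, hM0, hM⟩ n hn
    refine ⟨n * M, Nat.mul_pos hn hM0, Dvd.intro M rfl, ?_⟩
    rintro m' hm'0 ⟨j, rfl⟩
    have hj : 0 < j := by
      rcases Nat.eq_zero_or_pos j with h | h
      · subst h; simp at hm'0
      · exact h
    have e1 : n * M * j / n = M * j := by
      rw [Nat.mul_assoc, Nat.mul_div_cancel_left _ hn]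
    have e2 : n * M / n = M * 1 := by
      rw [Nat.mul_div_cancel_left _ hn, Nat.mul_one]
    rw [e1, e2, image_eq_of_div B' hdiv M hM j (Nat.mul_pos hM0 hj),
      image_eq_of_div B' hdiv M hM 1 (Nat.mul_pos hM0 Nat.one_pos)]
  · rintro B' hdiv ⟨M, hM0, hM⟩ D hD
    exact le_of_div B' M hM0 hM D hD

end Groth.Agent.S14497
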