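import Groth.Statements.S14498
import Mathlib.CategoryTheory.Abelian.Refinements

set_option autoImplicit false
universe v u
open AbDiag

namespace Groth.Agent.S14498

open CategoryTheory CategoryTheory.Limits in
/-- In an abelian category, let 0 → F → W → E' → 0 (maps a, b) and 0 → E → W → F' → G → G' → 0 (maps c,
d, e, g) be exact sequences such that the composite F → W → F' is a monomorphism. Then the composite
E → W → E' is a monomorphism, and there is a short exact sequence 0 → Coker(E → E') → Coker(F → F')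
→ Ker(G → G') → 0 whose first map is induced by d (through the quotient map b) and whose second map
is induced by e. -/
theorem result
    {V : Type u} [Category.{v} V] [Abelian V] {F W E' E F' G G' : V}
    (a : F ⟶ W) (b : W ⟶ E') (c : E ⟶ W) (d : W ⟶ F') (e : F' ⟶ G) (g : G ⟶ G')
    [Mono a] [Epi b] (wab : a ≫ b = 0) (hab : (ShortComplex.mk a b wab).Exact)
    [Mono c] (wcd : c ≫ d = 0) (hcd : (ShortComplex.mk c d wcd).Exact)
    (wde : d ≫ e = 0) (hde : (ShortComplex.mk d e wde).Exact)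
    (weg : e ≫ g = 0) (heg : (ShortComplex.mk e g weg).Exact) [Epi g]
    (hmono : Mono (a ≫ d)) :
    Mono (c ≫ b) ∧
      ∃ (φ : cokernel (c ≫ b) ⟶ cokernel (a ≫ d)) (ψ : cokernel (a ≫ d) ⟶ kernel g)
        (w : φ ≫ ψ = 0),
        b ≫ cokernel.π (c ≫ b) ≫ φ = d ≫ cokernel.π (a ≫ d) ∧
        cokernel.π (a ≫ d) ≫ ψ ≫ kernel.ι g = e ∧
        (ShortComplex.mk φ ψ w).ShortExact := by
  -- `c ≫ b` is a monomorphism
  have hmono_cb : Mono (c ≫ b) := by
    apply Preadditive.mono_of_cancel_zero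
    intro A x hx
    have h1 : (x ≫ c) ≫ b = 0 := by rw [Category.assoc]; exact hx
    obtain ⟨y, hy⟩ := hab.lift' (x ≫ c) h1
    dsimp at y hy
    have h2 : y ≫ (a ≫ d) = 0 := by
      rw [← Category.assoc, hy, Category.assoc, wcd, comp_zero]
    have hy0 : y = 0 := by
      rw [← cancel_mono (a ≫ d), h2, zero_comp]
    rw [hy0, zero_comp] at hy
    rw [← cancel_mono c, zero_comp, ← hy]
  refine ⟨hmono_cb, ?_⟩
  -- the map `E' ⟶ coker (a ≫ d)` induced by `d`
  have hk : a ≫ (d ≫ cokernel.π (a ≫ d)) = 0 := by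
    rw [← Category.assoc, cokernel.condition]
  obtain ⟨δ', hδ'⟩ := hab.desc' (d ≫ cokernel.π (a ≫ d)) hk
  dsimp at δ' hδ'
  have hφ0 : (c ≫ b) ≫ δ' = 0 := by
    rw [Category.assoc, hδ', ← Category.assoc, wcd, zero_comp]
  let φ : cokernel (c ≫ b) ⟶ cokernel (a ≫ d) := cokernel.desc (c ≫ b) δ' hφ0
  have hψ0 : (a ≫ d) ≫ kernel.lift g e weg = 0 := by
    rw [← cancel_mono (kernel.ι g), Category.assoc, kernel.lift_ι, Category.assoc, wde,
      comp_zero, zero_comp]
  let ψ : cokernel (a ≫ d) ⟶ kernel g := cokernel.desc (a ≫ d) (kernel.lift g e weg) hψ0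
  have hbφ : b ≫ cokernel.π (c ≫ b) ≫ φ = d ≫ cokernel.π (a ≫ d) := by
    rw [cokernel.π_desc, hδ']
  have hπψ : cokernel.π (a ≫ d) ≫ ψ = kernel.lift g e weg := cokernel.π_desc _ _ _
  have w : φ ≫ ψ = 0 := by
    rw [← cancel_epi (cokernel.π (c ≫ b)), ← cancel_epi b, ← cancel_mono (kernel.ι g)]
    simp only [Category.assoc, comp_zero, zero_comp]
    rw [reassoc_of% hbφ, reassoc_of% hπψ, kernel.lift_ι, wde]
  refine ⟨φ, ψ, w, hbφ, ?_, ?_⟩
  · rw [reassoc_of% hπψ, kernel.lift_ι]
  · -- short exactness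
    have hepiψ : Epi ψ := by
      have : Epi (kernel.lift g e weg) := heg.epi_kernelLift
      exact epi_of_epi_fac hπψ
    have hmonoφ : Mono φ := by
      apply Preadditive.mono_of_cancel_zero
      intro A x hx
      obtain ⟨A', p, hp, x', hx'⟩ :=
        surjective_up_to_refinements_of_epi (b ≫ cokernel.π (c ≫ b)) x
      have h1 : (x' ≫ d) ≫ cokernel.π (a ≫ d) = 0 := by
        rw [Category.assoc, ← hbφ, ← Category.assoc, ← Category.assoc, Category.assoc x',
          ← hx', Category.assoc, hx, comp_zero]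
      have hmf : Mono (ShortComplex.cokernelSequence (a ≫ d)).f := hmono
      obtain ⟨y, hy⟩ := (ShortComplex.cokernelSequence_exact (a ≫ d)).lift' (x' ≫ d) h1
      change A' ⟶ F at y
      change y ≫ a ≫ d = x' ≫ d at hy
      have h2 : (x' - y ≫ a) ≫ d = 0 := by
        rw [Preadditive.sub_comp, Category.assoc, hy, sub_self]
      obtain ⟨z, hz⟩ := hcd.lift' (x' - y ≫ a) h2
      dsimp at z hz
      have h3 : p ≫ x = 0 := by
        rw [hx']
        have : x' = z ≫ c + y ≫ a := by rw [hz]; abel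
        rw [this, Preadditive.add_comp]
        have e1 : (z ≫ c) ≫ b ≫ cokernel.π (c ≫ b) = 0 := by
          rw [Category.assoc, ← Category.assoc c, cokernel.condition, comp_zero]
        have e2 : (y ≫ a) ≫ b ≫ cokernel.π (c ≫ b) = 0 := by
          rw [Category.assoc, reassoc_of% wab, zero_comp, comp_zero]
        rw [e1, e2, add_zero]
      rwa [← cancel_epi p, comp_zero]
    have hexact : (ShortComplex.mk φ ψ w).Exact := by
      rw [ShortComplex.exact_iff_exact_up_to_refinements]
      intro A x hx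
      dsimp at x hx
      obtain ⟨A₁, p₁, hp₁, x₁, hx₁⟩ :=
        surjective_up_to_refinements_of_epi (cokernel.π (a ≫ d)) x
      have h1 : x₁ ≫ e = 0 := by
        have : x₁ ≫ cokernel.π (a ≫ d) ≫ ψ = 0 := by
          rw [← Category.assoc, ← hx₁, Category.assoc, hx, comp_zero]
        rw [hπψ] at this
        rw [← kernel.lift_ι g e weg, ← Category.assoc, this, zero_comp]
      obtain ⟨A₂, p₂, hp₂, x₂, hx₂⟩ := hde.exact_up_to_refinements x₁ h1
      dsimp at x₂ hx₂
      refine ⟨A₂, p₂ ≫ p₁, epi_comp _ _, x₂ ≫ b ≫ cokernel.π (c ≫ b), ?_⟩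
      dsimp
      simp only [Category.assoc]
      rw [hbφ, ← Category.assoc x₂, ← hx₂, Category.assoc, hx₁]
    exact { exact := hexact, mono_f := hmonoφ, epi_g := hepiψ }

end Groth.Agent.S14498
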