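import Groth.Statements.S14501
import Groth.Agent.Lib.Helper74.LatticeLength

set_option autoImplicit false
universe u
open IntTh

namespace Groth.Agent.S14501

/-- Take a one-dimensional Noetherian local domain A with fraction field K, V a finite-dimensional
K-vector space and M₁, M₂, M₃ lattices in V (finitely generated A-submodules spanning V over K).
Define the distance d(M, M') as length_A(M/(M ∩ M')) − length_A(M'/(M ∩ M')), with the (finite)
lengths read as natural numbers. Then d(M₁, M₃) = d(M₁, M₂) + d(M₂, M₃). -/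
theorem result (A : Type u) [CommRing A] [IsDomain A] [IsNoetherianRing A]
    [IsLocalRing A] (hA : ringKrullDim A = 1) (K : Type u) [Field K] [Algebra A K]
    [IsFractionRing A K] (V : Type u) [AddCommGroup V] [Module K V] [Module A V]
    [IsScalarTower A K V] [FiniteDimensional K V]
    (M₁ M₂ M₃ : Submodule A V) [Submodule.IsLattice K M₁] [Submodule.IsLattice K M₂]
    [Submodule.IsLattice K M₃] :
    ((Module.length A (↥M₁ ⧸ (M₁ ⊓ M₃).submoduleOf M₁)).toNat : ℤ) -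
        ((Module.length A (↥M₃ ⧸ (M₁ ⊓ M₃).submoduleOf M₃)).toNat : ℤ) =
      (((Module.length A (↥M₁ ⧸ (M₁ ⊓ M₂).submoduleOf M₁)).toNat : ℤ) -
        ((Module.length A (↥M₂ ⧸ (M₁ ⊓ M₂).submoduleOf M₂)).toNat : ℤ)) +
      (((Module.length A (↥M₂ ⧸ (M₂ ⊓ M₃).submoduleOf M₂)).toNat : ℤ) -
        ((Module.length A (↥M₃ ⧸ (M₂ ⊓ M₃).submoduleOf M₃)).toNat : ℤ)) := by
  have hdim : Ring.KrullDimLE 1 A := Ring.krullDimLE_iff.mpr (le_of_eq hA)
  -- the common sublattice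
  set L : Submodule A V := M₁ ⊓ M₂ ⊓ M₃ with hL
  have hfg₁ : M₁.FG := Submodule.IsLattice.fg
  have hfg₂ : M₂.FG := Submodule.IsLattice.fg
  have hfg₃ : M₃.FG := Submodule.IsLattice.fg
  have hsp₁ : Submodule.span K (M₁ : Set V) = ⊤ := Submodule.IsLattice.span_eq_top
  have hsp₂ : Submodule.span K (M₂ : Set V) = ⊤ := Submodule.IsLattice.span_eq_top
  have hsp₃ : Submodule.span K (M₃ : Set V) = ⊤ := Submodule.IsLattice.span_eq_top
  -- `L` spans `V`
  have hspL : Submodule.span K (L : Set V) = ⊤ := by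
    obtain ⟨a, ha, h12⟩ :=
      Groth.Agent.Lib.Helper74.exists_ne_zero_smul_le_of_fg_of_span_eq_top K M₁ M₂ hfg₁ hsp₂
    obtain ⟨b, hb, h13⟩ :=
      Groth.Agent.Lib.Helper74.exists_ne_zero_smul_le_of_fg_of_span_eq_top K M₁ M₃ hfg₁ hsp₃
    rw [eq_top_iff, ← hsp₁, Submodule.span_le]
    intro m hm
    have hmem : (a * b) • m ∈ L := by
      refine ⟨⟨M₁.smul_mem _ hm, ?_⟩, ?_⟩
      · rw [mul_comm, mul_smul]; exact M₂.smul_mem b (h12 m hm)
      · rw [mul_smul]; exact M₃.smul_mem a (h13 m hm)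
    have hab : algebraMap A K (a * b) ≠ 0 := by
      rw [Ne, map_eq_zero_iff _ (IsFractionRing.injective A K)]
      exact mul_ne_zero ha hb
    have : m = (algebraMap A K (a * b))⁻¹ • ((a * b) • m) := by
      rw [← algebraMap_smul K (a * b) m, smul_smul, inv_mul_cancel₀ hab, one_smul]
    rw [this]
    exact Submodule.smul_mem _ _ (Submodule.subset_span hmem)
  -- inclusions
  have hL₁ : L ≤ M₁ := inf_le_left.trans inf_le_left
  have hL₂ : L ≤ M₂ := inf_le_left.trans inf_le_right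
  have hL₃ : L ≤ M₃ := inf_le_right
  have hL₁₂ : L ≤ M₁ ⊓ M₂ := inf_le_left
  have hL₁₃ : L ≤ M₁ ⊓ M₃ := le_inf hL₁ hL₃
  have hL₂₃ : L ≤ M₂ ⊓ M₃ := le_inf hL₂ hL₃
  -- finiteness
  have fin₁ := Groth.Agent.Lib.Helper74.length_quotient_submoduleOf_lt_top K L M₁ hfg₁ hspL
  have fin₂ := Groth.Agent.Lib.Helper74.length_quotient_submoduleOf_lt_top K L M₂ hfg₂ hspL
  have fin₃ := Groth.Agent.Lib.Helper74.length_quotient_submoduleOf_lt_top K L M₃ hfg₃ hspL
  -- additivity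
  have a₁₂ := Groth.Agent.Lib.Helper74.length_quotient_submoduleOf_add hL₁₂
    (inf_le_left : M₁ ⊓ M₂ ≤ M₁)
  have a₂₁ := Groth.Agent.Lib.Helper74.length_quotient_submoduleOf_add hL₁₂
    (inf_le_right : M₁ ⊓ M₂ ≤ M₂)
  have a₁₃ := Groth.Agent.Lib.Helper74.length_quotient_submoduleOf_add hL₁₃
    (inf_le_left : M₁ ⊓ M₃ ≤ M₁)
  have a₃₁ := Groth.Agent.Lib.Helper74.length_quotient_submoduleOf_add hL₁₃
    (inf_le_right : M₁ ⊓ M₃ ≤ M₃)
  have a₂₃ := Groth.Agent.Lib.Helper74.length_quotient_submoduleOf_add hL₂₃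
    (inf_le_left : M₂ ⊓ M₃ ≤ M₂)
  have a₃₂ := Groth.Agent.Lib.Helper74.length_quotient_submoduleOf_add hL₂₃
    (inf_le_right : M₂ ⊓ M₃ ≤ M₃)
  -- pass to natural numbers
  have key : ∀ {x y z : ℕ∞}, x < ⊤ → x = y + z →
      (x.toNat : ℤ) = (y.toNat : ℤ) + (z.toNat : ℤ) := by
    intro x y z hx hxyz
    have hy : y ≠ ⊤ := by
      rintro rfl
      rw [top_add] at hxyz
      exact hx.ne hxyz
    have hz : z ≠ ⊤ := by
      rintro rfl
      rw [add_top] at hxyz
      exact hx.ne hxyz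
    rw [hxyz, ENat.toNat_add hy hz]
    push_cast
    rfl
  have k₁₂ := key fin₁ a₁₂
  have k₂₁ := key fin₂ a₂₁
  have k₁₃ := key fin₁ a₁₃
  have k₃₁ := key fin₃ a₃₁
  have k₂₃ := key fin₂ a₂₃
  have k₃₂ := key fin₃ a₃₂
  linarith

end Groth.Agent.S14501
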