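import Groth.Statements.S14502
import Groth.Agent.Lib.Helper74.LatticeDet

set_option autoImplicit false
universe u
open IntTh

namespace Groth.Agent.S14502

/-- Let A be a Noetherian local domain of Krull dimension one with fraction field K, V a
finite-dimensional K-vector space, M a lattice in V (a finitely generated A-submodule spanning V
over K) and φ a K-linear automorphism of V. Then φ(M) is a lattice, the A-modules M/(M ∩ φ(M)) and
φ(M)/(M ∩ φ(M)) have finite length, and the distance length_A(M/(M ∩ φ(M))) − length_A(φ(M)/(M ∩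
φ(M))) equals the order of det φ at the closed point, i.e. length_A(A/(a)) − length_A(A/(b)) for det
φ = a/b. -/
theorem result (A : Type u) [CommRing A] [IsDomain A] [IsNoetherianRing A]
    [IsLocalRing A] (hA : ringKrullDim A = 1) (K : Type u) [Field K] [Algebra A K]
    [IsFractionRing A K] (V : Type u) [AddCommGroup V] [Module K V] [Module A V]
    [IsScalarTower A K V] [FiniteDimensional K V]
    (M : Submodule A V) [Submodule.IsLattice K M] (φ : V ≃ₗ[K] V) :
    Submodule.IsLattice K (M.map (φ.toLinearMap.restrictScalars A)) ∧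
      Module.length A (↥M ⧸ (M ⊓ M.map (φ.toLinearMap.restrictScalars A)).submoduleOf M) < ⊤ ∧
      Module.length A (↥(M.map (φ.toLinearMap.restrictScalars A)) ⧸
          (M ⊓ M.map (φ.toLinearMap.restrictScalars A)).submoduleOf
            (M.map (φ.toLinearMap.restrictScalars A))) < ⊤ ∧
      ((Module.length A (↥M ⧸ (M ⊓ M.map (φ.toLinearMap.restrictScalars A)).submoduleOf M)).toNat : ℤ) -
          ((Module.length A (↥(M.map (φ.toLinearMap.restrictScalars A)) ⧸
            (M ⊓ M.map (φ.toLinearMap.restrictScalars A)).submoduleOf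
              (M.map (φ.toLinearMap.restrictScalars A)))).toNat : ℤ) =
        CycAlg.ordFrac A K (LinearMap.det φ.toLinearMap) := by
  have hdim : Ring.KrullDimLE 1 A := Ring.krullDimLE_iff.mpr (le_of_eq hA)
  have hM : Groth.Agent.Lib.Helper74.IsLat K M :=
    ⟨Submodule.IsLattice.fg, Submodule.IsLattice.span_eq_top⟩
  have hφM : Groth.Agent.Lib.Helper74.IsLat K (M.map (φ.toLinearMap.restrictScalars A)) :=
    hM.map K φ
  have hinf : Submodule.span K ((M ⊓ M.map (φ.toLinearMap.restrictScalars A) : Submodule A V) :
      Set V) = ⊤ := by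
    have := Groth.Agent.Lib.Helper74.IsLat.inf₃ K hM hφM hφM
    rwa [inf_assoc, inf_idem] at this
  refine ⟨⟨hφM.1, hφM.2⟩, ?_, ?_, ?_⟩
  · exact Groth.Agent.Lib.Helper74.length_quotient_submoduleOf_lt_top K _ M hM.1 hinf
  · exact Groth.Agent.Lib.Helper74.length_quotient_submoduleOf_lt_top K _ _ hφM.1 hinf
  · exact Groth.Agent.Lib.Helper74.latDist_map_eq_ordFrac_det K hM φ

end Groth.Agent.S14502
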