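import Groth.Statements.S14511
-- import your own Groth.Agent.* helpers here

set_option autoImplicit false
universe u
open CAlgX

namespace Groth.Agent.S14511

theorem ones_apply (r : ℕ) (j : Fin r) :
    (∑ i : Fin r, Finsupp.single i 1 : Fin r →₀ ℕ) j = 1 := by
  classical
  rw [Finsupp.finsetSum_apply]
  simp [Finsupp.single_apply]

theorem key (R : Type u) [CommRing R] (r : ℕ) (d : Fin r →₀ ℕ) (hd : ∑ i, d i ≤ r) :
    ∑ J : Finset (Fin r), (-1 : R) ^ J.card * ∏ i, (if i ∈ J then (-1 : R) else 0) ^ d i =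
      if d = ∑ i : Fin r, Finsupp.single i 1 then 1 else 0 := by
  classical
  have h1 : ∀ J : Finset (Fin r),
      (-1 : R) ^ J.card * ∏ i, (if i ∈ J then (-1 : R) else 0) ^ d i =
        (∏ i ∈ J, (-((-1 : R) ^ d i))) * ∏ i ∈ Finset.univ \ J, (0 : R) ^ d i := by
    intro J
    rw [← Finset.prod_sdiff (Finset.subset_univ J) (f := fun i => (if i ∈ J then (-1 : R) else 0) ^ d i)]
    have e1 : ∏ i ∈ Finset.univ \ J, (if i ∈ J then (-1 : R) else 0) ^ d i =
        ∏ i ∈ Finset.univ \ J, (0 : R) ^ d i := by
      apply Finset.prod_congr rfl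
      intro i hi
      rw [if_neg (Finset.mem_sdiff.mp hi).2]
    have e2 : ∏ i ∈ J, (if i ∈ J then (-1 : R) else 0) ^ d i = ∏ i ∈ J, (-1 : R) ^ d i := by
      apply Finset.prod_congr rfl
      intro i hi
      rw [if_pos hi]
    have e3 : ∏ i ∈ J, (-((-1 : R) ^ d i)) = (-1 : R) ^ J.card * ∏ i ∈ J, (-1 : R) ^ d i := by
      rw [← Finset.prod_const, ← Finset.prod_mul_distrib]
      apply Finset.prod_congr rfl
      intro i _
      ring
    rw [e1, e2, e3]
    ring
  rw [Finset.sum_congr rfl (fun J _ => h1 J)]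
  have h2 := (Finset.prod_add (fun i => -((-1 : R) ^ d i)) (fun i => (0 : R) ^ d i)
    (Finset.univ : Finset (Fin r))).symm
  rw [Finset.powerset_univ] at h2
  rw [h2]
  by_cases hall : ∀ i, 1 ≤ d i
  · -- then d i = 1 for all i
    have hone : ∀ i, d i = 1 := by
      by_contra hne
      push Not at hne
      obtain ⟨i₀, hi₀⟩ := hne
      have hlt : ∑ i : Fin r, 1 < ∑ i, d i := by
        apply Finset.sum_lt_sum (fun i _ => hall i)
        exact ⟨i₀, Finset.mem_univ _, lt_of_le_of_ne (hall i₀) (Ne.symm hi₀)⟩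
      simp at hlt
      omega
    have hd1 : d = ∑ i : Fin r, Finsupp.single i 1 := by
      ext j
      rw [ones_apply, hone]
    rw [if_pos hd1]
    apply Finset.prod_eq_one
    intro i _
    rw [hone i]
    ring
  · push Not at hall
    obtain ⟨i₀, hi₀⟩ := hall
    have hi₀' : d i₀ = 0 := by omega
    have hd1 : d ≠ ∑ i : Fin r, Finsupp.single i 1 := by
      intro h
      have := congrArg (fun f => f i₀) h
      simp only [ones_apply] at this
      omega
    rw [if_neg hd1]
    apply Finset.prod_eq_zero (Finset.mem_univ i₀)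
    rw [hi₀']
    ring

/-- Let R be a commutative ring and P ∈ R[x_1, …, x_r] a polynomial of total degree at most r. Then the
coefficient of the monomial x_1 ⋯ x_r in P equals Σ_J (−1)^{|J|} P(δ_J), the sum over all subsets J
⊆ {1, …, r} (the empty one included), where δ_J is the point with coordinate −1 at the indices in J
and 0 at the others. -/
theorem result (R : Type u) [CommRing R] (r : ℕ)
    (P : MvPolynomial (Fin r) R) (hP : P.totalDegree ≤ r) :
    MvPolynomial.coeff (∑ i : Fin r, Finsupp.single i 1) P =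
      ∑ J : Finset (Fin r), (-1 : R) ^ J.card * MvPolynomial.eval (fun j => if j ∈ J then (-1 : R) else 0) P := by
  classical
  have hdeg : ∀ d ∈ P.support, ∑ i, d i ≤ r := by
    intro d hd
    have := MvPolynomial.le_totalDegree hd
    rw [Finsupp.sum_fintype _ _ (fun _ => rfl)] at this
    exact this.trans hP
  simp_rw [MvPolynomial.eval_eq', Finset.mul_sum]
  rw [Finset.sum_comm]
  have h3 : ∀ d ∈ P.support,
      ∑ J : Finset (Fin r), (-1 : R) ^ J.card *
          (MvPolynomial.coeff d P * ∏ i, (if i ∈ J then (-1 : R) else 0) ^ d i) =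
        MvPolynomial.coeff d P * (if d = ∑ i : Fin r, Finsupp.single i 1 then 1 else 0) := by
    intro d hd
    rw [← key R r d (hdeg d hd), Finset.mul_sum]
    apply Finset.sum_congr rfl
    intro J _
    ring
  rw [Finset.sum_congr rfl h3]
  simp only [mul_ite, mul_one, mul_zero]
  rw [Finset.sum_ite_eq']
  split_ifs with h
  · rfl
  · exact MvPolynomial.notMem_support_iff.mp h

end Groth.Agent.S14511
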