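import Groth.Statements.S14514
import Mathlib
import Groth.Agent.Lib.Helper55.FiberTrdeg

set_option autoImplicit false
universe u
open CategoryTheory CategoryTheory.Limits AlgebraicGeometry
open Variety

namespace Groth.Agent.S14514

section helpers

open CategoryTheory CategoryTheory.Limits AlgebraicGeometry TopologicalSpace

/-- A continuous map with dense range from a Noetherian quasi-sober space to an irreducible T0
quasi-sober space hits the generic point. -/
theorem exists_map_eq_genericPoint {S T : Type*} [TopologicalSpace S] [TopologicalSpace T]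
    [NoetherianSpace S] [QuasiSober S] [IrreducibleSpace T] [QuasiSober T] [T0Space T]
    (g : S → T) (hg : Continuous g) (hd : DenseRange g) : ∃ x, g x = genericPoint T := by
  classical
  have hfin : (irreducibleComponents S).Finite := NoetherianSpace.finite_irreducibleComponents
  -- the closures of the images of the components cover
  have hcover : (Set.univ : Set T) ⊆ ⋃₀ ((fun C => closure (g '' C)) '' irreducibleComponents S) := by
    intro y _
    have hy : y ∈ closure (Set.range g) := hd y
    have hrange : Set.range g = ⋃ C ∈ irreducibleComponents S, g '' C := by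
      ext t
      constructor
      · rintro ⟨x, rfl⟩
        have hx : x ∈ ⋃₀ irreducibleComponents S := by
          rw [sUnion_irreducibleComponents]; trivial
        obtain ⟨C, hC, hxC⟩ := hx
        exact Set.mem_biUnion hC ⟨x, hxC, rfl⟩
      · intro ht
        obtain ⟨C, -, x, -, rfl⟩ := Set.mem_iUnion₂.mp ht
        exact ⟨x, rfl⟩
    rw [hrange, hfin.closure_biUnion] at hy
    obtain ⟨C, hC, hyC⟩ := Set.mem_iUnion₂.mp hy
    exact ⟨_, ⟨C, hC, rfl⟩, hyC⟩
  have hirr : IsIrreducible (Set.univ : Set T) := IrreducibleSpace.isIrreducible_univ T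
  have hfin' : ((fun C => closure (g '' C)) '' irreducibleComponents S).Finite := hfin.image _
  obtain ⟨z, hz, hCuniv'⟩ :=
    (isIrreducible_iff_sUnion_isClosed.mp hirr) hfin'.toFinset
      (by
        intro z hz
        rw [Set.Finite.mem_toFinset] at hz
        obtain ⟨C, -, rfl⟩ := hz
        exact isClosed_closure)
      (by rw [Set.Finite.coe_toFinset]; exact hcover)
  rw [Set.Finite.mem_toFinset] at hz
  obtain ⟨C, hC, rfl⟩ := hz
  have hCuniv : (Set.univ : Set T) ⊆ closure (g '' C) := hCuniv'
  -- the generic point of the component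
  have hCirr : IsIrreducible C := hC.1
  have hCcl : IsClosed C := isClosed_of_mem_irreducibleComponents C hC
  obtain ⟨ξ, hξ⟩ := QuasiSober.sober hCirr hCcl
  refine ⟨ξ, ?_⟩
  have h1 : closure ({g ξ} : Set T) = Set.univ := by
    apply Set.eq_univ_of_univ_subset
    refine hCuniv.trans ?_
    rw [← hξ.def]
    calc closure (g '' closure {ξ}) ⊆ closure (closure (g '' {ξ})) :=
          closure_mono (image_closure_subset_closure_image hg)
      _ = closure {g ξ} := by rw [closure_closure, Set.image_singleton]
  have h2 : IsGenericPoint (g ξ) (Set.univ : Set T) := h1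
  exact h2.eq (genericPoint_spec T)

end helpers

/-- Let k be an algebraically closed field and f : X → Y a morphism of algebraic varieties over k (X, Y
reduced, separated and of finite type over k) such that Y is irreducible and the image f(X) is dense
in Y. Then X contains an irreducible closed subset Z with dim Z = dim Y such that f(Z) is dense in
Y. -/
theorem result (k : Type u) [Field k] [IsAlgClosed k]
    (X Y : Scheme.{u}) [X.Over (Spec (CommRingCat.of k))] [Y.Over (Spec (CommRingCat.of k))]
    [IsReduced X] [IsSeparated (X ↘ (Spec (CommRingCat.of k)))] [LocallyOfFiniteType (X ↘ (Spec (CommRingCat.of k)))] [QuasiCompact (X ↘ (Spec (CommRingCat.of k)))]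
    [IsReduced Y] [IsSeparated (Y ↘ (Spec (CommRingCat.of k)))] [LocallyOfFiniteType (Y ↘ (Spec (CommRingCat.of k)))] [QuasiCompact (Y ↘ (Spec (CommRingCat.of k)))] [IrreducibleSpace Y]
    (f : X ⟶ Y) (hf : f ≫ (Y ↘ (Spec (CommRingCat.of k))) = (X ↘ (Spec (CommRingCat.of k)))) [IsDominant f] :
    ∃ Z : Set X, IsClosed Z ∧ IsIrreducible Z ∧ topologicalKrullDim ↥Z = topologicalKrullDim Y ∧
      Dense (f '' Z) := by
  classical
  have hlnX : IsLocallyNoetherian X :=
    LocallyOfFiniteType.isLocallyNoetherian (X ↘ Spec (CommRingCat.of k))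
  have hcX : CompactSpace X :=
    QuasiCompact.compactSpace_of_compactSpace (X ↘ Spec (CommRingCat.of k))
  have hnX : IsNoetherian X := ⟨⟩
  have hlftf : LocallyOfFiniteType f := by
    have : LocallyOfFiniteType (f ≫ (Y ↘ Spec (CommRingCat.of k))) := by
      rw [hf]; infer_instance
    exact locallyOfFiniteType_of_comp f (Y ↘ Spec (CommRingCat.of k))
  -- a point over the generic point
  obtain ⟨x₀, hx₀⟩ := exists_map_eq_genericPoint (S := X) (T := Y) f f.continuous
    (Scheme.Hom.denseRange f)
  -- a closed point of the generic fibre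
  obtain ⟨z', -, hz'⟩ := IsClosed.exists_closed_singleton (X := ↥(f.fiber (f x₀)))
    isClosed_univ ⟨f.asFiber x₀, trivial⟩
  set x := f.fiberι (f x₀) z' with hx
  have hfx : f x = f x₀ := by
    have : x ∈ Set.range (f.fiberι (f x₀)) := ⟨z', rfl⟩
    rw [f.range_fiberι (f x₀)] at this
    exact this
  obtain ⟨a, b, ha, hb, hab⟩ :=
    Groth.Agent.Lib.Helper55.exists_dim_closure_eq_add' (Y ↘ Spec (CommRingCat.of k)) f
      (f x₀) z' x rfl
  -- the closed point has dimension zero
  have hb0 : b = 0 := by
    rw [hz'.closure_eq] at hb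
    have h1 : topologicalKrullDim ↥({z'} : Set ↥(f.fiber (f x₀))) ≤ 0 :=
      topologicalKrullDim_zero_of_discreteTopology _
    rw [hb] at h1
    have : (b : WithBot ℕ∞) ≤ ((0 : ℕ) : WithBot ℕ∞) := by simpa using h1
    have h2 : b ≤ 0 := by exact_mod_cast this
    omega
  -- the dimension of Y
  have hdimY : topologicalKrullDim Y = a := by
    rw [hfx, hx₀] at ha
    have h1 : closure ({genericPoint Y} : Set Y) = Set.univ := (genericPoint_spec Y).def
    rw [h1] at ha
    rw [← ha]
    exact ((Homeomorph.Set.univ Y).isHomeomorph.topologicalKrullDim_eq _).symm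
  refine ⟨closure {x}, isClosed_closure, isIrreducible_singleton.closure, ?_, ?_⟩
  · rw [hab, hdimY, hb0, add_zero]
  · have h1 : closure ({genericPoint Y} : Set Y) = Set.univ := (genericPoint_spec Y).def
    rw [dense_iff_closure_eq, ← Set.univ_subset_iff, ← h1]
    apply closure_mono
    rintro _ rfl
    exact ⟨x, subset_closure rfl, hfx.trans hx₀⟩

end Groth.Agent.S14514
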