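import Groth.Statements.S14519
import Groth.Agent.Lib.Helper78.Birational
import Groth.Agent.Lib.Helper78.SmoothNormalField
import Groth.Agent.Lib.Helper23.BirationalNormal

set_option autoImplicit false
universe u
open CategoryTheory CategoryTheory.Limits AlgebraicGeometry
open Curves

namespace Groth.Agent.S14519

/-- Let k be an algebraically closed field and f : X → Y a birational morphism over k between smooth
curves (X, Y integral, separated, of finite type and smooth over k, of dimension one; f sends the
generic point of X to that of Y and the induced map of function fields K(Y) → K(X) is bijective).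
Then f is an open immersion. -/
theorem result (k : Type u) [Field k] [IsAlgClosed k]
    (X Y : Scheme.{u}) [X.Over (Spec (CommRingCat.of k))] [Y.Over (Spec (CommRingCat.of k))]
    [IsIntegral X] [IsSeparated (X ↘ (Spec (CommRingCat.of k)))] [LocallyOfFiniteType (X ↘ (Spec (CommRingCat.of k)))] [QuasiCompact (X ↘ (Spec (CommRingCat.of k)))] [Smooth (X ↘ (Spec (CommRingCat.of k)))] (hdimX : topologicalKrullDim X = 1)
    [IsIntegral Y] [IsSeparated (Y ↘ (Spec (CommRingCat.of k)))] [LocallyOfFiniteType (Y ↘ (Spec (CommRingCat.of k)))] [QuasiCompact (Y ↘ (Spec (CommRingCat.of k)))] [Smooth (Y ↘ (Spec (CommRingCat.of k)))] (hdimY : topologicalKrullDim Y = 1)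
    (f : X ⟶ Y) (hf : f ≫ (Y ↘ (Spec (CommRingCat.of k))) = (X ↘ (Spec (CommRingCat.of k))))
    (e : f (genericPoint X) = genericPoint Y)
    (hbir : Function.Bijective (Y.presheaf.stalkSpecializes (specializes_of_eq e) ≫ f.stalkMap (genericPoint X)).hom) :
    IsOpenImmersion f := by
  classical
  have hft : LocallyOfFiniteType (f ≫ (Y ↘ (Spec (CommRingCat.of k)))) := hf ▸ inferInstance
  have hsep : IsSeparated (f ≫ (Y ↘ (Spec (CommRingCat.of k)))) := hf ▸ inferInstance
  have hqc : QuasiCompact (f ≫ (Y ↘ (Spec (CommRingCat.of k)))) := hf ▸ inferInstance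
  have : LocallyOfFiniteType f := locallyOfFiniteType_of_comp f (Y ↘ (Spec (CommRingCat.of k)))
  have : IsSeparated f := IsSeparated.of_comp f (Y ↘ (Spec (CommRingCat.of k)))
  have : QuasiCompact f := QuasiCompact.of_comp f (Y ↘ (Spec (CommRingCat.of k)))
  have : IsLocallyNoetherian Y :=
    LocallyOfFiniteType.isLocallyNoetherian (Y ↘ (Spec (CommRingCat.of k)))
  have hN : ∀ y : Y, IsIntegrallyClosed (Y.presheaf.stalk y) := fun y ↦
    (Groth.Agent.Lib.Helper78.isIntegrallyClosed_stalk_of_smooth_field k
      (Y ↘ (Spec (CommRingCat.of k))) y).2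
  have hV : ∀ y : Y, ValuationRing (Y.presheaf.stalk y) := fun y ↦
    Groth.Agent.Lib.Helper78.valuationRing_stalk y (hN y)
      ((Groth.Agent.Lib.Helper78.ringKrullDim_stalk_le_topologicalKrullDim Y y).trans hdimY.le)
  have hst : ∀ x : X, Function.Bijective (f.stalkMap x).hom := fun x ↦
    have := hV (f x)
    Groth.Agent.Lib.Helper78.stalkMap_bijective_of_valuationRing f e hbir x
  have : LocallyQuasiFinite f :=
    Groth.Agent.Lib.Helper78.locallyQuasiFinite_of_stalkMap_bijective f hst
  exact Groth.Agent.Lib.Helper23.isOpenImmersion_of_birational_quasiFinite_of_normal hN f e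
    ((ConcreteCategory.isIso_iff_bijective _).mpr (hst _))

end Groth.Agent.S14519
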