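import Groth.Statements.S1452
import Mathlib
import Groth.Agent.Lib.Helper61.GU7
import Groth.Agent.Lib.Helper24.SmoothSourceDescentScheme
import Groth.Agent.S0115

set_option autoImplicit false
universe u
open FlatMor

namespace Groth.Agent.S1452


open AlgebraicGeometry CategoryTheory Limits in
/-- Part 1: `f` is étale near `x`. -/
theorem exists_etale_nhd {X Y Z : Scheme.{u}} (f : X ⟶ Y) (g : Y ⟶ Z) [IsIntegral Y] (x : X)
    (hY : CAlg2.IsGeomUnibranch (Y.presheaf.stalk (f x)))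
    (het : ∃ U : X.Opens, x ∈ U ∧ Etale (U.ι ≫ f ≫ g))
    (hsp : ∃ x' : X, x' ⤳ x ∧ f x' = genericPoint ↑Y) :
    ∃ U : X.Opens, x ∈ U ∧ Etale (U.ι ≫ f) ∧ Etale (U.ι ≫ f ≫ g) := by
  obtain ⟨U₀, hxU₀, het₀⟩ := het
  obtain ⟨x', hx'x, hx'η⟩ := hsp
  have hx'U₀ : x' ∈ U₀ := hx'x.mem_open U₀.isOpen hxU₀
  -- work on U₀
  have hcomp : (U₀.ι ≫ f) ≫ g = U₀.ι ≫ f ≫ g := Category.assoc _ _ _
  have : Etale ((U₀.ι ≫ f) ≫ g) := by rw [hcomp]; exact het₀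
  have hlft : LocallyOfFiniteType (U₀.ι ≫ f) := locallyOfFiniteType_of_comp (U₀.ι ≫ f) g
  have hun : FormallyUnramified (U₀.ι ≫ f) := FormallyUnramified.of_comp (U₀.ι ≫ f) g
  have hsp₀ : ∃ w : U₀.toScheme, w ⤳ (⟨x, hxU₀⟩ : U₀.toScheme) ∧
      (U₀.ι ≫ f) w = genericPoint ↑Y := by
    refine ⟨⟨x', hx'U₀⟩, ?_, hx'η⟩
    exact (U₀.ι.isOpenEmbedding.isInducing.specializes_iff).mp hx'x
  have hinj := Groth.Agent.Lib.Helper61.GU.stalkMap_injective_of_exists_generization (U₀.ι ≫ f)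
    (⟨x, hxU₀⟩ : U₀.toScheme) hsp₀
  obtain ⟨V₀, hxV₀, hetV₀⟩ :=
    Groth.Agent.Lib.Helper61.GU.exists_etale_nhd_of_stalkMap_of_isGeomUnibranch (U₀.ι ≫ f)
      (⟨x, hxU₀⟩ : U₀.toScheme) hY hinj (FormallyUnramified.stalkMap (U₀.ι ≫ f) _)
  refine ⟨U₀.ι ''ᵁ V₀, ⟨⟨x, hxU₀⟩, hxV₀, rfl⟩, ?_, ?_⟩
  · have h1 : (U₀.ι ''ᵁ V₀).ι ≫ f = (U₀.ι.isoImage V₀).inv ≫ V₀.ι ≫ U₀.ι ≫ f := by
      rw [← Scheme.Hom.isoImage_inv_ι U₀.ι V₀]
      simp only [Category.assoc]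
    rw [h1]
    infer_instance
  · have h1 : (U₀.ι ''ᵁ V₀).ι ≫ f ≫ g = (U₀.ι.isoImage V₀).inv ≫ V₀.ι ≫ U₀.ι ≫ f ≫ g := by
      rw [← Scheme.Hom.isoImage_inv_ι U₀.ι V₀]
      simp only [Category.assoc]
    rw [h1]
    infer_instance

open AlgebraicGeometry CategoryTheory Limits in
/-- Let f : X → Y and g : Y → Z with Y integral and the local ring of Y at y = f x geometrically
unibranch; assume g ∘ f is étale on an open neighbourhood of x and some generization of x maps to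
the generic point of Y. Then f is étale on an open neighbourhood of x and g is étale on an open
neighbourhood of y. -/
theorem result {X Y Z : Scheme.{u}} (f : X ⟶ Y) (g : Y ⟶ Z) [IsIntegral Y] (x : X)
    (hY : CAlg2.IsGeomUnibranch (Y.presheaf.stalk (f x))) (het : ∃ U : X.Opens, x ∈ U ∧ Etale (U.ι ≫ f ≫ g))
    (hsp : ∃ x' : X, x' ⤳ x ∧ f x' = genericPoint ↑Y) :
    (∃ U : X.Opens, x ∈ U ∧ Etale (U.ι ≫ f)) ∧ ∃ V : Y.Opens, f x ∈ V ∧ Etale (V.ι ≫ g) := by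
  obtain ⟨U, hxU, het₁, het₂⟩ := exists_etale_nhd f g x hY het hsp
  refine ⟨⟨U, hxU, het₁⟩, ?_⟩
  -- the open image of `U`
  let V : Y.Opens := ⟨Set.range (U.ι ≫ f), (U.ι ≫ f).isOpenMap.isOpen_range⟩
  have hrange : Set.range (U.ι ≫ f) ⊆ Set.range V.ι := by
    rw [Scheme.Opens.range_ι]
    exact subset_rfl
  let f' : U.toScheme ⟶ V.toScheme := IsOpenImmersion.lift V.ι (U.ι ≫ f) hrange
  have hf' : f' ≫ V.ι = U.ι ≫ f := IsOpenImmersion.lift_fac _ _ _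
  have : Etale (f' ≫ V.ι) := by rw [hf']; exact het₁
  have hetf' : Etale f' := MorphismProperty.of_postcomp (W := @Etale) (W' := @Etale) f' V.ι
    inferInstance inferInstance
  have hsurj : Surjective f' := by
    constructor
    rintro ⟨v, u, hu⟩
    refine ⟨u, ?_⟩
    apply V.ι.isOpenEmbedding.injective
    rw [← Scheme.Hom.comp_apply, hf']
    exact hu
  have hcomp : f' ≫ (V.ι ≫ g) = U.ι ≫ f ≫ g := by rw [← Category.assoc, hf', Category.assoc]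
  have : Etale (f' ≫ (V.ι ≫ g)) := by rw [hcomp]; exact het₂
  have hsm : Smooth (V.ι ≫ g) := Groth.Agent.S0115.result f' (V.ι ≫ g)
  have hunr : FormallyUnramified (V.ι ≫ g) :=
    Groth.Agent.Lib.Helper24.formallyUnramified_of_etale_surjective_comp f' (V.ι ≫ g)
  exact ⟨V, ⟨⟨x, hxU⟩, rfl⟩, Etale.of_formallyUnramified_of_flat _⟩

end Groth.Agent.S1452
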