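import Groth.Statements.S14521
import Groth.Agent.Lib.Helper45.Dev.IntNumBridge

set_option autoImplicit false
universe u
open CategoryTheory CategoryTheory.Limits AlgebraicGeometry
open Variety

namespace Groth.Agent.S14521

/-- Let k be an algebraically closed field, X a complete variety over k (reduced and proper over k) of
dimension at most d, L_1, …, L_r line bundles with tensor inverses M_1, …, M_r, and F a coherent
O_X-module whose support has dimension at most r. Let Y_1, …, Y_s be the r-dimensional irreducible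
components of Supp F, with generic points ξ_1, …, ξ_s (given as a finite set s of points: ξ ∈ s iff
ξ ∈ Supp F and the closure of ξ has dimension r), each Y_i with its reduced structure. Then
(L_1⋯L_r; F) = Σ_i length_{O_{X,ξ_i}}(F_{ξ_i}) · (L_1⋯L_r · Y_i), where all intersection numbers are
the alternating Euler-characteristic sums in the M_i (the prelude's FGA.intNum). -/
theorem result (k : Type u) [Field k] [IsAlgClosed k]
    (X : Scheme.{u}) [X.Over (Spec (CommRingCat.of k))] [IsReduced X] [IsProper (X ↘ (Spec (CommRingCat.of k)))] (d : ℕ) (hd : topologicalKrullDim X ≤ d)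
    {r : ℕ} (M : Fin r → X.Modules) (hM : ∀ i, PicF.IsInvertible (M i))
    (F : X.Modules) (hF : Coh.IsCoh F) (hsupp : topologicalKrullDim ↥(CohB1.support F) ≤ r)
    (s : Finset X) (hs : ∀ ξ : X, ξ ∈ s ↔ ξ ∈ CohB1.support F ∧ topologicalKrullDim ↥(closure ({ξ} : Set X)) = r) :
    FGA.intNum k X d M F =
      ∑ ξ ∈ s, ((Module.length (X.presheaf.stalk ξ) (F.presheaf.stalk ξ)).toNat : ℤ) *
        FGA.intNum k X d M (ClSub.quotMod (Scheme.IdealSheafData.vanishingIdeal ⟨closure ({ξ} : Set X), isClosed_closure⟩)) := by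
  classical
  have hXN : IsLocallyNoetherian X :=
    LocallyOfFiniteType.isLocallyNoetherian (X ↘ (Spec (CommRingCat.of k)))
  have hXC : CompactSpace X :=
    QuasiCompact.compactSpace_of_compactSpace (X ↘ (Spec (CommRingCat.of k)))
  have hXNoeth : IsNoetherian X := {}
  obtain ⟨hfin, hcorr⟩ := Groth.Agent.Lib.Helper45.Snapper.snapper_refined k X r F hF hsupp
  obtain ⟨Q, hQ, hQe⟩ := hcorr r M hM
  have hs' : Groth.Agent.Lib.Helper45.Snapper.maxPts X r F = ↑s := by
    ext ξ
    rw [Finset.mem_coe, hs ξ]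
    exact and_comm
  have hsum : ∀ n : Fin r → ℕ,
      ∑ᶠ ξ : X, Groth.Agent.Lib.Helper45.Snapper.corrTerm k X r F r M n ξ =
      ∑ ξ ∈ s, ((Module.length (X.presheaf.stalk ξ) (F.presheaf.stalk ξ)).toNat : ℚ) *
        (Curv2.euler k X (Curv2.tensorPows (ClSub.quotMod (Scheme.IdealSheafData.vanishingIdeal
          ⟨closure ({ξ} : Set X), isClosed_closure⟩)) r M n) : ℚ) := by
    intro n
    rw [finsum_eq_sum_of_support_subset _ (by
      rw [← hs']
      exact Groth.Agent.Lib.Helper45.Snapper.support_corrTerm_subset r F r M n)]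
    refine Finset.sum_congr rfl fun ξ hξ => ?_
    unfold Groth.Agent.Lib.Helper45.Snapper.corrTerm
    rw [if_pos ((hs ξ).mp hξ).2]
  have hQdeg : Q.totalDegree ≤ r := by
    rcases hQ with h | h
    · rw [h, MvPolynomial.totalDegree_zero]
      exact Nat.zero_le _
    · omega
  have hQ0 : ∑ I : Finset (Fin r), (-1 : ℚ) ^ (r - I.card) *
      MvPolynomial.eval (fun i => ((Groth.Agent.Lib.Helper45.SnapperNum.ind I i : ℕ) : ℚ)) Q = 0 := by
    rw [← Groth.Agent.Lib.Helper45.SnapperNum.coeff_one_eq_sum Q hQdeg]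
    refine hQ.coeff_eq_zero _ ?_
    rw [Finsupp.sum_fintype _ _ (fun _ => rfl)]
    simp
  have hsign : ∀ I : Finset (Fin r), (-1 : ℚ) ^ I.card = (-1) ^ r * (-1) ^ (r - I.card) := by
    intro I
    have hI : I.card ≤ r := by
      have := Finset.card_le_univ I
      simpa using this
    rw [← pow_add]
    have : r + (r - I.card) = 2 * (r - I.card) + I.card := by omega
    rw [this, pow_add, pow_mul]
    norm_num
  have hQ0' : ∑ I : Finset (Fin r), (-1 : ℚ) ^ I.card *
      MvPolynomial.eval (fun i => ((Groth.Agent.Lib.Helper45.SnapperNum.ind I i : ℕ) : ℚ)) Q = 0 := by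
    have : ∀ I : Finset (Fin r), (-1 : ℚ) ^ I.card *
        MvPolynomial.eval (fun i => ((Groth.Agent.Lib.Helper45.SnapperNum.ind I i : ℕ) : ℚ)) Q =
        (-1) ^ r * ((-1 : ℚ) ^ (r - I.card) *
          MvPolynomial.eval (fun i => ((Groth.Agent.Lib.Helper45.SnapperNum.ind I i : ℕ) : ℚ)) Q) := by
      intro I
      rw [hsign I]
      ring
    rw [Finset.sum_congr rfl (fun I _ => this I), ← Finset.mul_sum, hQ0, mul_zero]
  rw [Groth.Agent.Lib.Helper45.Snapper.intNum_eq_sum k X d hd M F]
  have hrhs : ∀ ξ : X, FGA.intNum k X d M (ClSub.quotMod (Scheme.IdealSheafData.vanishingIdeal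
      ⟨closure ({ξ} : Set X), isClosed_closure⟩)) = _ :=
    fun ξ => Groth.Agent.Lib.Helper45.Snapper.intNum_eq_sum k X d hd M _
  simp only [hrhs]
  apply Int.cast_injective (α := ℚ)
  push_cast
  have key : ∀ I : Finset (Fin r),
      (Curv2.euler k X (Curv2.tensorPows F r M (Groth.Agent.Lib.Helper45.SnapperNum.ind I)) : ℚ) =
      MvPolynomial.eval (fun i => ((Groth.Agent.Lib.Helper45.SnapperNum.ind I i : ℕ) : ℚ)) Q +
      ∑ ξ ∈ s, ((Module.length (X.presheaf.stalk ξ) (F.presheaf.stalk ξ)).toNat : ℚ) *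
        (Curv2.euler k X (Curv2.tensorPows (ClSub.quotMod (Scheme.IdealSheafData.vanishingIdeal
          ⟨closure ({ξ} : Set X), isClosed_closure⟩)) r M
            (Groth.Agent.Lib.Helper45.SnapperNum.ind I)) : ℚ) := by
    intro I
    have := hQe (Groth.Agent.Lib.Helper45.SnapperNum.ind I)
    rw [hsum] at this
    linarith
  rw [Finset.sum_congr rfl (fun I _ => by rw [key I])]
  simp only [mul_add, Finset.sum_add_distrib, hQ0', zero_add, Finset.mul_sum]
  rw [Finset.sum_comm]
  refine Finset.sum_congr rfl fun ξ _ => Finset.sum_congr rfl fun I _ => ?_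
  ring

end Groth.Agent.S14521
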