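import Groth.Statements.S14523
import Groth.Agent.Lib.Helper78.ProperBirational

set_option autoImplicit false
universe u
open CategoryTheory CategoryTheory.Limits AlgebraicGeometry
open Variety

namespace Groth.Agent.S14523

/-- Let k be an algebraically closed field and f : X → Y a proper, birational morphism over k of
irreducible varieties (X, Y integral, separated and of finite type over k; f restricts to an
isomorphism over some nonempty open subset of Y), with Y normal (all local rings integrally closed).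
Let U ⊆ Y be the largest open subset over which f is an isomorphism (the domain of f^{-1}). Then
codim_Y(Y ∖ U) ≥ 2: for every point y of Y whose local ring has Krull dimension at most one, f
restricts to an isomorphism over some open neighbourhood of y. -/
theorem result (k : Type u) [Field k] [IsAlgClosed k]
    (X Y : Scheme.{u}) [X.Over (Spec (CommRingCat.of k))] [Y.Over (Spec (CommRingCat.of k))]
    [IsIntegral X] [IsSeparated (X ↘ (Spec (CommRingCat.of k)))] [LocallyOfFiniteType (X ↘ (Spec (CommRingCat.of k)))] [QuasiCompact (X ↘ (Spec (CommRingCat.of k)))]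
    [IsIntegral Y] [IsSeparated (Y ↘ (Spec (CommRingCat.of k)))] [LocallyOfFiniteType (Y ↘ (Spec (CommRingCat.of k)))] [QuasiCompact (Y ↘ (Spec (CommRingCat.of k)))] (hY : ∀ y : Y, IsIntegrallyClosed (Y.presheaf.stalk y))
    (f : X ⟶ Y) (hf : f ≫ (Y ↘ (Spec (CommRingCat.of k))) = (X ↘ (Spec (CommRingCat.of k)))) [IsProper f]
    (hbir : ∃ V : Y.Opens, (V : Set Y).Nonempty ∧ IsIso (f ∣_ V))
    (y : Y) (hy : ringKrullDim (Y.presheaf.stalk y) ≤ 1) :
    ∃ V : Y.Opens, y ∈ V ∧ IsIso (f ∣_ V) := by
  classical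
  have : IsLocallyNoetherian Y :=
    LocallyOfFiniteType.isLocallyNoetherian (Y ↘ (Spec (CommRingCat.of k)))
  have : IsLocallyNoetherian X :=
    LocallyOfFiniteType.isLocallyNoetherian (X ↘ (Spec (CommRingCat.of k)))
  obtain ⟨V, ⟨v, hv⟩, hV⟩ := hbir
  have hsurj : Function.Surjective (f ∣_ V) := (f ∣_ V).homeomorph.surjective
  obtain ⟨x', hx'⟩ := hsurj ⟨v, hv⟩
  have : Nonempty (f ⁻¹ᵁ V) := ⟨x'⟩
  have hη : genericPoint X ∈ f ⁻¹ᵁ V :=
    ((genericPoint_spec X).mem_open_set_iff (f ⁻¹ᵁ V).isOpen).mpr ⟨x'.1, trivial, x'.2⟩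
  have e : f (genericPoint X) = genericPoint Y := by
    have h1 : IsOpenImmersion ((f ⁻¹ᵁ V).ι ≫ f) := by
      rw [← morphismRestrict_ι]; infer_instance
    have h2 := genericPoint_eq_of_isOpenImmersion ((f ⁻¹ᵁ V).ι ≫ f)
    have h3 := genericPoint_eq_of_isOpenImmersion (f ⁻¹ᵁ V).ι
    rw [Scheme.Hom.comp_apply, h3] at h2
    exact h2
  have hst : IsIso (f.stalkMap (genericPoint X)) :=
    Groth.Agent.Lib.Helper78.isIso_stalkMap_of_isIso_morphismRestrict f V _ hη
  have := hY y
  have : ValuationRing (Y.presheaf.stalk y) :=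
    Groth.Agent.Lib.Helper78.valuationRing_stalk y (hY y) hy
  exact Groth.Agent.Lib.Helper78.exists_isIso_morphismRestrict_of_valuationRing hY f e hst y

end Groth.Agent.S14523
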