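import Groth.Statements.S14536
import Groth.Agent.Lib.Helper84.AffGrpHopf
import Groth.Agent.Lib.Helper84.PointExtHom
-- import your own Groth.Agent.* helpers here

set_option autoImplicit false
universe u
open CategoryTheory MonoidalCategory CartesianMonoidalCategory MonObj GrpObj AlgebraicGeometry
open PrincBund

namespace Groth.Agent.S14536

open Groth.Agent.Lib.Helper84.AffGrpHopf Groth.Agent.Lib.Helper84.PointExtHom

noncomputable instance instHopfGAk (k : Type u) [Field k] (G : Over (Spec (CommRingCat.of k)))
    [GrpObj G] [IsAffine G.left] : HopfAlgebra k (GA G) :=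
  instHopfGA G

/-- Let k be an algebraically closed field and h : G → G' a homomorphism of affine group schemes over k
(not necessarily of finite type) which is surjective on underlying spaces. Then h is surjective on
k-points: every k-point of G' is the image of a k-point of G. -/
theorem result (k : Type u) [Field k] [IsAlgClosed k]
    (G G' : Over (Spec (CommRingCat.of k))) [GrpObj G] [GrpObj G'] [IsAffine G.left] [IsAffine G'.left]
    (h : G ⟶ G') [IsMonHom h] (hs : Surjective h.left) (x : 𝟙_ (Over (Spec (CommRingCat.of k))) ⟶ G') :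
    ∃ g : 𝟙_ (Over (Spec (CommRingCat.of k))) ⟶ G, g ≫ h = x := by
  obtain ⟨p', rfl⟩ := ptOf'_surjective G' x
  have hk : ∀ a : GA G', (gammaBialgHom h) a = 0 → (algOf p') a = 0 := by
    intro a ha
    have hnil := isNilpotent_of_gammaAlgHom_eq_zero h hs a ha
    exact (hnil.map (algOf p')).eq_zero
  obtain ⟨g, hg⟩ := exists_extension_hom (k := k) (gammaBialgHom h) (algOf p') hk
  refine ⟨ptOf' G (ofAlg g), ?_⟩
  rw [ptOf'_comp]
  congr 1
  have key : algOf (ofAlg g ≫ algSpec.fullyFaithful.preimage (gMap h)) = algOf p' := by
    rw [algOf_comp, algOf_ofAlg]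
    exact AlgHom.ext hg
  calc ofAlg g ≫ algSpec.fullyFaithful.preimage (gMap h)
      = ofAlg (algOf (ofAlg g ≫ algSpec.fullyFaithful.preimage (gMap h))) := (ofAlg_algOf _).symm
    _ = ofAlg (algOf p') := by rw [key]
    _ = p' := ofAlg_algOf p'

end Groth.Agent.S14536
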