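import Groth.Statements.S14537
import Groth.Agent.Lib.Helper84.PointDenseSpec
-- import your own Groth.Agent.* helpers here

set_option autoImplicit false
universe u
open CategoryTheory MonoidalCategory CartesianMonoidalCategory MonObj GrpObj AlgebraicGeometry
open PrincBund

namespace Groth.Agent.S14537

section Aux

variable (k : Type u) [Field k] (G : Over (Spec (CommRingCat.of k))) [GrpObj G] [IsAffine G.left]

/-- the Hopf algebra structure on the global sections (Mathlib's instance, made explicit). -/
@[reducible] noncomputable def hopfI : HopfAlgebra k Γ(G.left, ⊤) :=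
  @instHopfAlgebraCarrierObjOppositeOpensCarrierCarrierCommRingCatPresheafOpOpensTopOfGrpObjOverSchemeSpecAsOverOfIsAffine
    (CommRingCat.of k) G.left _ ‹GrpObj G› _

theorem specMap_algebraMap :
    Spec.map (CommRingCat.ofHom (@algebraMap k Γ(G.left, ⊤) _ _ (hopfI k G).toAlgebra)) =
      G.left.isoSpec.inv ≫ G.hom := by
  have h : @algebraMap k Γ(G.left, ⊤) _ _ (hopfI k G).toAlgebra =
      (Spec.fullyFaithful.preimage <| G.left.isoSpec.inv ≫ G.hom).unop.hom := rfl
  rw [h]
  exact Spec.fullyFaithful.map_preimage (G.left.isoSpec.inv ≫ G.hom)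

/-- the rational point of `G` defined by an algebra map. -/
noncomputable def ptOf (χ : @AlgHom k Γ(G.left, ⊤) k _ _ _ (hopfI k G).toAlgebra _) :
    𝟙_ (Over (Spec (CommRingCat.of k))) ⟶ G :=
  Over.homMk (Spec.map (CommRingCat.ofHom (χ : Γ(G.left, ⊤) →+* k)) ≫ G.left.isoSpec.inv) (by
    letI := hopfI k G
    rw [Category.assoc, ← specMap_algebraMap, ← Spec.map_comp, ← CommRingCat.ofHom_comp]
    have h1 : (χ : Γ(G.left, ⊤) →+* k).comp (algebraMap k Γ(G.left, ⊤)) = RingHom.id k := by
      ext r
      exact χ.commutes r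
    rw [h1]
    exact Spec.map_id _)

end Aux

/-- Let k be an algebraically closed field and G an affine group scheme over k, not necessarily of
finite type. Then the set of k-rational points of G is dense in the underlying space of G. -/
theorem result (k : Type u) [Field k] [IsAlgClosed k]
    (G : Over (Spec (CommRingCat.of k))) [GrpObj G] [IsAffine G.left] :
    Dense {x : ↥G.left | ∃ g : 𝟙_ (Over (Spec (CommRingCat.of k))) ⟶ G, g.left.base (IsLocalRing.closedPoint k) = x} := by
  letI := hopfI k G
  have hD := Groth.Agent.Lib.Helper84.PointDenseSpec.dense_points k Γ(G.left, ⊤)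
  have hcont : Continuous G.left.isoSpec.inv.base := G.left.isoSpec.inv.continuous
  have hsurj : Function.Surjective G.left.isoSpec.inv.base := G.left.isoSpec.inv.surjective
  have hD2 := hsurj.denseRange.dense_image hcont hD
  refine hD2.mono ?_
  rintro _ ⟨p, ⟨χ, hχ⟩, rfl⟩
  refine ⟨ptOf k G χ, ?_⟩
  change G.left.isoSpec.inv.base
    ((Spec.map (CommRingCat.ofHom (χ : Γ(G.left, ⊤) →+* k))).base (IsLocalRing.closedPoint k)) = _
  congr 1
  apply PrimeSpectrum.ext
  rw [hχ]
  change Ideal.comap (χ : Γ(G.left, ⊤) →+* k) (IsLocalRing.maximalIdeal k) = _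
  rw [IsLocalRing.maximalIdeal_eq_bot]
  rfl

end Groth.Agent.S14537
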