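import Groth.Statements.S14576
import Groth.Agent.Lib.Helper84.Affn.Basic
-- import your own Groth.Agent.* helpers here

set_option autoImplicit false
universe u
open CategoryTheory MonoidalCategory CartesianMonoidalCategory MonObj GrpObj AlgebraicGeometry CategoryTheory.Limits
open AlgGrp

namespace Groth.Agent.S14576

/-- Let k be a field and G a k-group scheme of finite type acting on an affine k-scheme X. If the action
is faithful, in the sense that for every k-scheme T a T-valued point of G acting as the identity on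
X_T is the unit, then G is affine. -/
theorem result (k : Type u) [Field k]
    (G X : Over (Spec (CommRingCat.of k))) [GrpObj G] [LocallyOfFiniteType G.hom] [QuasiCompact G.hom] [IsAffine X.left]
    (a : AlgGrp.Action G X)
    (hf : ∀ (T : Over (Spec (CommRingCat.of k))) (g : T ⟶ G),
      (∀ (T' : Over (Spec (CommRingCat.of k))) (t : T' ⟶ T) (x : T' ⟶ X), lift (t ≫ g) x ≫ a.act = x) → g = 1) :
    IsAffine G.left := by
  obtain ⟨hG1, hG2⟩ := Groth.Agent.Lib.Helper84.Affn.qcqs_of_grp G
  obtain ⟨inst, hmon⟩ := Groth.Agent.Lib.Helper84.Affn.exists_grpObj_affObj G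
  have hX1 : CompactSpace X.left := inferInstance
  have hX2 : QuasiSeparatedSpace X.left := inferInstance
  have hid : IsIso (𝟙 X : X ⟶ X).left.appTop := by
    have : (𝟙 X : X ⟶ X).left = 𝟙 X.left := rfl
    rw [this]
    exact inferInstanceAs (IsIso (Scheme.Γ.map (𝟙 X.left).op))
  have hqx : IsIso (Groth.Agent.Lib.Helper84.Affn.affMap G ⊗ₘ 𝟙 X).left.appTop :=
    Groth.Agent.Lib.Helper14.QuasiAffineGroup.isIso_tensorHom_left_appTop _ _
  obtain ⟨act', hact'⟩ :=
    Groth.Agent.Lib.Helper14.QuasiAffineGroup.over_exists_lift_of_isIso_appTop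
      (Groth.Agent.Lib.Helper84.Affn.affMap G ⊗ₘ 𝟙 X) a.act
  -- an element of the kernel acts trivially
  have hker : ∀ (T : Over (Spec (CommRingCat.of k))) (g : T ⟶ G),
      g ≫ Groth.Agent.Lib.Helper84.Affn.affMap G = 1 → g = 1 := by
    intro T g hg
    apply hf T g
    intro T' t x
    have h1 : lift (t ≫ g) x ≫ (Groth.Agent.Lib.Helper84.Affn.affMap G ⊗ₘ 𝟙 X) =
        lift (1 : T' ⟶ G) x ≫ (Groth.Agent.Lib.Helper84.Affn.affMap G ⊗ₘ 𝟙 X) := by
      rw [lift_map, lift_map, Category.assoc, hg, MonObj.comp_one, MonObj.one_comp]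
    have h2 : lift (1 : T' ⟶ G) x ≫ a.act = x := by
      have e1 : lift (1 : T' ⟶ G) x = lift (toUnit T') x ≫ (η[G] ▷ X) := by
        rw [Hom.one_def]
        apply CartesianMonoidalCategory.hom_ext
        · simp
        · simp
      rw [e1, Category.assoc, a.one_act]
      simp
    rw [← hact', ← Category.assoc, h1, Category.assoc, hact', h2]
  have hmono : Mono (Groth.Agent.Lib.Helper84.Affn.affMap G) := by
    constructor
    intro T x y hxy
    have h1 : (x * y⁻¹) ≫ Groth.Agent.Lib.Helper84.Affn.affMap G = 1 := by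
      rw [MonObj.mul_comp, GrpObj.inv_comp, hxy, mul_inv_cancel]
    have h2 := hker T _ h1
    exact mul_inv_eq_one.mp h2
  have hmono' : Mono (Groth.Agent.Lib.Helper84.Affn.affMap G).left :=
    inferInstanceAs (Mono ((Over.forget _).map (Groth.Agent.Lib.Helper84.Affn.affMap G)))
  have hlft : LocallyOfFiniteType (Groth.Agent.Lib.Helper84.Affn.affMap G).left := by
    have h3 : LocallyOfFiniteType ((Groth.Agent.Lib.Helper84.Affn.affMap G).left ≫
        (Groth.Agent.Lib.Helper84.Affn.affObj G).hom) := by
      rw [Over.w]; infer_instance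
    exact locallyOfFiniteType_of_comp _ (Groth.Agent.Lib.Helper84.Affn.affObj G).hom
  have hqc : QuasiCompact (Groth.Agent.Lib.Helper84.Affn.affMap G).left := by
    have h3 : QuasiCompact ((Groth.Agent.Lib.Helper84.Affn.affMap G).left ≫
        (Groth.Agent.Lib.Helper84.Affn.affObj G).hom) := by
      rw [Over.w]; infer_instance
    exact QuasiCompact.of_comp _ (Groth.Agent.Lib.Helper84.Affn.affObj G).hom
  exact Groth.Agent.Lib.Helper84.Affn.isAffine_of_mono_grp G
    (Groth.Agent.Lib.Helper84.Affn.affMap G).left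

end Groth.Agent.S14576
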