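import Groth.Statements.S14577
import Groth.Agent.Lib.Helper75.AAIntegral
import Groth.Agent.Lib.Helper75.AARigidity
-- import your own Groth.Agent.* helpers here

set_option autoImplicit false
universe u
open CategoryTheory MonoidalCategory CartesianMonoidalCategory MonObj GrpObj AlgebraicGeometry CategoryTheory.Limits
open AlgGrp

namespace Groth.Agent.S14577

/-- Let k be a field, X a quasi-compact separated k-scheme with O(X) = k, Y a separated, reduced and
irreducible locally Noetherian k-scheme, Z a separated k-scheme, and x₀, y₀ rational points of X, Y.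
If a k-morphism f : X × Y → Z satisfies f(x, y₀) = f(x₀, y₀) identically (as morphisms from X), then
f(x, y) = f(x₀, y) identically on X × Y. (The published statement does not ask Y to be reduced; the
final density step of its proof uses that the infinitesimal neighbourhoods of y₀ are schematically
dense in Y, which holds when Y is moreover reduced, so Y is taken reduced, hence integral, here.) -/
theorem result (k : Type u) [Field k]
    (X Y Z : Over (Spec (CommRingCat.of k))) [QuasiCompact X.hom] [IsSeparated X.hom]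
    (hX : Function.Bijective ((Scheme.ΓSpecIso (CommRingCat.of k)).inv ≫ X.hom.appTop).hom)
    [IsSeparated Y.hom] [IsLocallyNoetherian Y.left] [IrreducibleSpace ↥Y.left] [IsReduced Y.left] [IsSeparated Z.hom]
    (x₀ : 𝟙_ (Over (Spec (CommRingCat.of k))) ⟶ X) (y₀ : 𝟙_ (Over (Spec (CommRingCat.of k))) ⟶ Y) (f : X ⊗ Y ⟶ Z)
    (hf : (X ◁ y₀) ≫ f = toUnit _ ≫ lift x₀ y₀ ≫ f) :
    f = snd X Y ≫ lift (toUnit Y ≫ x₀) (𝟙 Y) ≫ f := by
  have hcomp : CompactSpace X.left := (quasiCompact_iff_compactSpace X.hom).mp inferInstance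
  have hqs : QuasiSeparatedSpace X.left :=
    (quasiSeparated_iff_quasiSeparatedSpace X.hom).mp inferInstance
  have hint : IsIntegral Y.left := isIntegral_of_irreducibleSpace_of_isReduced _
  have ha := Groth.Agent.Lib.Helper75.AARigidity.isIso_appTop_of_bijective X.hom hX
  let σ : Y.left ⟶ pullback X.hom Y.hom := (lift (toUnit Y ≫ x₀) (𝟙 Y)).left
  have hσ : σ ≫ pullback.snd X.hom Y.hom = 𝟙 Y.left := by
    have : (lift (toUnit Y ≫ x₀) (𝟙 Y) ≫ snd X Y).left = (𝟙 Y : Y ⟶ Y).left := by
      rw [lift_snd]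
    exact this
  have hF : f.left ≫ Z.hom = pullback.fst X.hom Y.hom ≫ X.hom := Over.w f
  let pt : ↥(𝟙_ (Over (Spec (CommRingCat.of k)))).left := (⊥ : PrimeSpectrum k)
  have key := Groth.Agent.Lib.Helper75.AAIntegral.eq_of_integral X.hom Y.hom Z.hom ha σ hσ f.left hF
    (y₀.left pt) ?_
  · ext
    exact key
  · intro q hq
    obtain ⟨q', hq', -⟩ := Groth.Agent.Lib.Helper75.AARigidity.exists_of_isPullback'
      (Groth.Agent.Lib.Helper75.AARigidity.isPullback_whiskerLeft_snd' X y₀) q pt hq
    have e1 : (X ◁ y₀) ≫ snd X Y ≫ lift (toUnit Y ≫ x₀) (𝟙 Y) =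
        toUnit _ ≫ lift x₀ y₀ := by
      rw [← Category.assoc, whiskerLeft_snd, Category.assoc, comp_lift, comp_lift,
        ← Category.assoc y₀, toUnit_unique (y₀ ≫ toUnit Y) (𝟙 _), Category.id_comp,
        Category.comp_id, toUnit_unique (snd X (𝟙_ _)) (toUnit _)]
      exact (comp_lift _ _ _).symm
    have e2 : (X ◁ y₀) ≫ f = (X ◁ y₀) ≫ snd X Y ≫ lift (toUnit Y ≫ x₀) (𝟙 Y) ≫ f := by
      rw [hf, ← Category.assoc (snd X Y), ← Category.assoc (X ◁ y₀), e1, Category.assoc]
    have h1 := congrArg (fun t => t.left q') e2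
    rw [← hq']
    exact h1

end Groth.Agent.S14577
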