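import Groth.Statements.S1458
import Mathlib.LinearAlgebra.TensorProduct.Vanishing
import Mathlib.RingTheory.FinitePresentation
import Mathlib.Algebra.Module.FinitePresentation
import Mathlib.RingTheory.Finiteness.ModuleFinitePresentation

set_option autoImplicit false
universe u
open FlatMor

namespace Groth.Agent.S1458

section Helpers

open TensorProduct

variable {A B : Type u} [CommRing A] [CommRing B] [Algebra A B]

/-- Every element of `B ⊗ A'` is `∑ b k ⊗ a k` for a spanning family `b`. -/
theorem exists_sum_tmul_of_span {n : ℕ} (b : Fin n → B)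
    (hb : Submodule.span A (Set.range b) = ⊤) (A' : Type u) [CommRing A'] [Algebra A A']
    (x : B ⊗[A] A') : ∃ a : Fin n → A', x = ∑ k, b k ⊗ₜ[A] a k := by
  induction x with
  | zero => exact ⟨0, by simp⟩
  | tmul x y =>
    have hx : x ∈ Submodule.span A (Set.range b) := hb ▸ Submodule.mem_top
    obtain ⟨c, rfl⟩ := (Submodule.mem_span_range_iff_exists_fun A).mp hx
    refine ⟨fun k => c k • y, ?_⟩
    simp [sum_tmul, smul_tmul]
  | add x y hx hy =>
    obtain ⟨ax, rfl⟩ := hx
    obtain ⟨ay, rfl⟩ := hy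
    refine ⟨ax + ay, ?_⟩
    simp [tmul_add, Finset.sum_add_distrib]

/-- The square identity. -/
theorem sq_sub_self_eq {n : ℕ} (b : Fin n → B) (c : Fin n → Fin n → Fin n → A)
    (hc : ∀ i j, b i * b j = ∑ k, c i j k • b k)
    (A' : Type u) [CommRing A'] [Algebra A A'] (a : Fin n → A') :
    (∑ k, b k ⊗ₜ[A] a k) * (∑ k, b k ⊗ₜ[A] a k) - ∑ k, b k ⊗ₜ[A] a k =
      ∑ k, b k ⊗ₜ[A] (∑ i, ∑ j, c i j k • (a i * a j) - a k) := by
  simp only [tmul_sub, Finset.sum_sub_distrib]
  congr 1
  simp only [Finset.sum_mul, Finset.mul_sum, Algebra.TensorProduct.tmul_mul_tmul, hc, sum_tmul,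
    tmul_sum, smul_tmul]
  rw [Finset.sum_comm]
  calc _ = ∑ i, ∑ k, ∑ x, b k ⊗ₜ[A] (c i x k • (a i * a x)) :=
        Finset.sum_congr rfl fun i _ => Finset.sum_comm
    _ = _ := Finset.sum_comm

end Helpers

open TensorProduct in
/-- Let A → B be a finite ring map of finite presentation. Then there are a finitely presented A-algebra
A_u and an idempotent e_u of B ⊗_A A_u such that for every A-algebra A' and every idempotent e of B
⊗_A A' there is an A-algebra map A_u → A' whose induced map B ⊗ A_u → B ⊗ A' sends e_u to e. -/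
theorem result {A B : Type u} [CommRing A] [CommRing B] [Algebra A B] [Module.Finite A B] [Algebra.FinitePresentation A B] :
    ∃ (Au : Type u) (_ : CommRing Au) (_ : Algebra A Au) (eu : B ⊗[A] Au), Algebra.FinitePresentation A Au ∧ IsIdempotentElem eu ∧
      ∀ (A' : Type u) [CommRing A'] [Algebra A A'] (e : B ⊗[A] A'), IsIdempotentElem e →
        ∃ φ : Au →ₐ[A] A', Algebra.TensorProduct.map (AlgHom.id A B) φ eu = e := by
  classical
  obtain ⟨n, b, hb⟩ := Module.Finite.exists_fin (R := A) (M := B)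
  set π : (Fin n → A) →ₗ[A] B := Fintype.linearCombination A b with hπdef
  have hπ_apply : ∀ v : Fin n → A, π v = ∑ k, v k • b k := fun v => by
    simp [hπdef, Fintype.linearCombination_apply]
  have hπs : Function.Surjective π := by
    rw [← LinearMap.range_eq_top, hπdef, Fintype.range_linearCombination, hb]
  have : Module.FinitePresentation A B :=
    Module.FinitePresentation.of_finite_of_finitePresentation A B
  have hker : (LinearMap.ker π).FG := Module.FinitePresentation.fg_ker π hπs
  obtain ⟨m, ρ, hρ⟩ := Submodule.fg_iff_exists_fin_generating_family.mp hker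
  have hρker : ∀ l, ∑ k, ρ l k • b k = 0 := fun l => by
    have : ρ l ∈ LinearMap.ker π := hρ ▸ Submodule.subset_span ⟨l, rfl⟩
    rw [LinearMap.mem_ker, hπ_apply] at this
    exact this
  have hc : ∀ i j, ∃ c : Fin n → A, b i * b j = ∑ k, c k • b k := fun i j => by
    have : b i * b j ∈ Submodule.span A (Set.range b) := hb ▸ Submodule.mem_top
    obtain ⟨c, hc⟩ := (Submodule.mem_span_range_iff_exists_fun A).mp this
    exact ⟨c, hc.symm⟩
  choose c hc using hc
  let E : Fin n → MvPolynomial (Fin n ⊕ Fin m) A := fun k =>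
    ∑ i, ∑ j, c i j k • (MvPolynomial.X (Sum.inl i) * MvPolynomial.X (Sum.inl j))
      - MvPolynomial.X (Sum.inl k) - ∑ l, ρ l k • MvPolynomial.X (Sum.inr l)
  let I : Ideal (MvPolynomial (Fin n ⊕ Fin m) A) := Ideal.span (Set.range E)
  let q : MvPolynomial (Fin n ⊕ Fin m) A →ₐ[A] MvPolynomial (Fin n ⊕ Fin m) A ⧸ I := Ideal.Quotient.mkₐ A I
  let x : Fin n → MvPolynomial (Fin n ⊕ Fin m) A ⧸ I := fun i => q (MvPolynomial.X (Sum.inl i))
  let y : Fin m → MvPolynomial (Fin n ⊕ Fin m) A ⧸ I := fun l => q (MvPolynomial.X (Sum.inr l))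
  have hxy : ∀ k, ∑ i, ∑ j, c i j k • (x i * x j) - x k = ∑ l, ρ l k • y l := fun k => by
    have hE : q (E k) = 0 :=
      Ideal.Quotient.eq_zero_iff_mem.mpr (Ideal.subset_span ⟨k, rfl⟩)
    rw [← sub_eq_zero, ← hE]
    simp only [E, x, y, map_sub, map_sum, map_mul, map_smul]
  refine ⟨MvPolynomial (Fin n ⊕ Fin m) A ⧸ I, inferInstance, inferInstance, ∑ k, b k ⊗ₜ[A] x k, ?_, ?_, ?_⟩
  · exact Algebra.FinitePresentation.quotient (Submodule.fg_span (Set.finite_range E))
  · rw [IsIdempotentElem, ← sub_eq_zero, sq_sub_self_eq b c hc]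
    refine TensorProduct.sum_tmul_eq_zero_of_vanishesTrivially A
      (TensorProduct.VanishesTrivially.of_fintype (fun k l => ρ l k) y hxy hρker)
  · intro A' _ _ e he
    obtain ⟨a, rfl⟩ := exists_sum_tmul_of_span b hb A' e
    have h0 : ∑ k, b k ⊗ₜ[A] (∑ i, ∑ j, c i j k • (a i * a j) - a k) = 0 := by
      rw [← sq_sub_self_eq b c hc, sub_eq_zero]
      exact he
    obtain ⟨k', α, z, hαz, hαb⟩ := TensorProduct.vanishesTrivially_of_sum_tmul_eq_zero A hb h0
    have hr : ∀ j, ∃ r : Fin m → A, ∑ l, r l • ρ l = fun k => α k j := fun j => by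
      have : (fun k => α k j) ∈ LinearMap.ker π := by
        rw [LinearMap.mem_ker, hπ_apply]
        exact hαb j
      rw [← hρ] at this
      exact (Submodule.mem_span_range_iff_exists_fun A).mp this
    choose r hr using hr
    let y' : Fin m → A' := fun l => ∑ j, r j l • z j
    have hd : ∀ k, ∑ i, ∑ j, c i j k • (a i * a j) - a k = ∑ l, ρ l k • y' l := fun k => by
      rw [show (∑ i, ∑ j, c i j k • (a i * a j) - a k) = _ from hαz k]
      have hα : ∀ j, α k j = ∑ l, r j l * ρ l k := fun j => by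
        have := congrFun (hr j) k
        simpa using this.symm
      simp only [hα, y', Finset.sum_smul, Finset.smul_sum, smul_smul]
      rw [Finset.sum_comm]
      refine Finset.sum_congr rfl fun l _ => Finset.sum_congr rfl fun j _ => ?_
      rw [mul_comm]
    let ψ : MvPolynomial (Fin n ⊕ Fin m) A →ₐ[A] A' := MvPolynomial.aeval (Sum.elim a y')
    have hψ : ∀ p ∈ I, ψ p = 0 := by
      have : I ≤ RingHom.ker ψ.toRingHom := by
        refine Ideal.span_le.mpr ?_
        rintro _ ⟨k, rfl⟩
        show ψ (E k) = 0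
        simp only [E, ψ, map_sub, map_sum, map_mul, map_smul, MvPolynomial.aeval_X,
          Sum.elim_inl, Sum.elim_inr]
        rw [sub_eq_zero]
        exact hd k
      exact fun p hp => this hp
    refine ⟨Ideal.Quotient.liftₐ I ψ hψ, ?_⟩
    simp only [map_sum, Algebra.TensorProduct.map_tmul, AlgHom.id_apply]
    refine Finset.sum_congr rfl fun k _ => ?_
    congr 1
    simp [x, q, ψ]

end Groth.Agent.S1458
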