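import Groth.Statements.S14596
import Groth.Agent.Lib.Helper41.FiniteQuotient
import Groth.Agent.Lib.Helper41.ConnectedToFinite
import Groth.Agent.Lib.Helper23.ConnBij

set_option autoImplicit false
universe u
open CategoryTheory MonoidalCategory CartesianMonoidalCategory MonObj GrpObj AlgebraicGeometry CategoryTheory.Limits
open AlgGrp

namespace Groth.Agent.S14596

/-- Let k be a perfect field, G a k-group scheme of finite type and r₀ : G⁰_red → G the reduced neutral
component of G, i.e. a homomorphism and closed immersion from a reduced k-group scheme whose image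
is the connected component of the identity. Then the homogeneous space G/G⁰_red is finite, and
G⁰_red is the smallest closed subgroup scheme H of G such that G/H is finite: every such H contains
G⁰_red. -/
theorem result (k : Type u) [Field k] [PerfectField k]
    (G G₀ : Over (Spec (CommRingCat.of k))) [GrpObj G] [GrpObj G₀] [LocallyOfFiniteType G.hom] [QuasiCompact G.hom]
    [LocallyOfFiniteType G₀.hom] [QuasiCompact G₀.hom]
    (r₀ : G₀ ⟶ G) [IsMonHom r₀] [IsClosedImmersion r₀.left] [IsReduced G₀.left] (t : ↥((𝟙_ (Over (Spec (CommRingCat.of k)))).left))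
    (hr₀ : Set.range ⇑r₀.left.base = connectedComponent ((η[G]).left.base t)) :
    (∀ (X : Over (Spec (CommRingCat.of k))) (a : AlgGrp.Action G X) (o : 𝟙_ (Over (Spec (CommRingCat.of k))) ⟶ X), AGF.IsQuotient r₀ X a o → IsFinite X.hom) ∧
    ∀ (H : Over (Spec (CommRingCat.of k))) [GrpObj H] (h : H ⟶ G) [IsMonHom h] [IsClosedImmersion h.left]
      (X : Over (Spec (CommRingCat.of k))) (a : AlgGrp.Action G X) (o : 𝟙_ (Over (Spec (CommRingCat.of k))) ⟶ X),
      AGF.IsQuotient h X a o → IsFinite X.hom → ∃ g : G₀ ⟶ H, g ≫ h = r₀ := by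
  classical
  have hGnoeth : IsLocallyNoetherian G.left := LocallyOfFiniteType.isLocallyNoetherian G.hom
  have hGc : CompactSpace G.left := QuasiCompact.compactSpace_of_compactSpace G.hom
  have hGn : IsNoetherian G.left := {}
  have hNS : TopologicalSpace.NoetherianSpace G.left := inferInstance
  have hopen : IsOpen (Set.range r₀.left.base) := by
    rw [hr₀]
    exact Groth.Agent.Lib.Helper23.isOpen_connectedComponent_of_finite
      (Groth.Agent.Lib.Helper23.finite_range_connectedComponent
        TopologicalSpace.NoetherianSpace.finite_irreducibleComponents) _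
  -- G₀ is connected
  have hconn : ConnectedSpace G₀.left := by
    have hind : Topology.IsInducing r₀.left.base := r₀.left.isClosedEmbedding.isInducing
    have hpre : _root_.IsPreconnected (Set.univ : Set G₀.left) := by
      rw [← hind.isPreconnected_image, Set.image_univ, hr₀]
      exact isPreconnected_connectedComponent
    have hne : Nonempty G₀.left := ⟨η[G₀].left.base t⟩
    exact { isPreconnected_univ := hpre, toNonempty := hne }
  refine ⟨?_, ?_⟩
  · intro X a o hX
    exact Groth.Agent.Lib.Helper41.FiniteQuotient.isFinite_of_isOpen_range hX hopen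
  · intro H _ h _ _ X a o hX hfin
    have h1 := Groth.Agent.Lib.Helper41.ConnectedToFinite.eq_toUnit_comp_of_isFinite
      (r₀ ≫ a.orbitMap o) η[G₀]
    have h2 : η[G₀] ≫ r₀ ≫ a.orbitMap o = o := by
      rw [← Category.assoc, IsMonHom.one_hom]
      have := Groth.Agent.Lib.Helper41.QuotientPoints.one_orbit a o
        (T := 𝟙_ (Over (Spec (CommRingCat.of k))))
      rw [Hom.one_def, toUnit_unique (toUnit (𝟙_ (Over (Spec (CommRingCat.of k))))) (𝟙 _),
        Category.id_comp, Category.id_comp] at this
      exact this
    rw [h2] at h1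
    have h3 : (1 : G₀ ⟶ G) ≫ a.orbitMap o = r₀ ≫ a.orbitMap o := by
      rw [Groth.Agent.Lib.Helper41.QuotientPoints.one_orbit, h1]
    obtain ⟨g, hg⟩ := Groth.Agent.Lib.Helper41.QuotientPoints.exists_of_orbit_eq hX _ _ h3
    refine ⟨g, ?_⟩
    rw [hg, _root_.one_mul]

end Groth.Agent.S14596
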