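import Groth.Statements.S1460
import Groth.Agent.Lib.Helper7.NoetherianApprox
import Mathlib.AlgebraicGeometry.Morphisms.FinitePresentation
import Mathlib.AlgebraicGeometry.Morphisms.FiniteType
import Mathlib.AlgebraicGeometry.Pullbacks

set_option autoImplicit false
universe u
open FlatMor

namespace Groth.Agent.S1460

open AlgebraicGeometry CategoryTheory Limits in
/-- Let f : X → S be a morphism of finite presentation between affine schemes. Then f is the base change
of a morphism of finite type f₀ : X₀ → S₀ between affine schemes with S₀ of finite type over ℤ. -/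
theorem result {X S : Scheme.{u}} (f : X ⟶ S) [IsAffine X] [IsAffine S] [LocallyOfFinitePresentation f] :
    ∃ (X₀ S₀ : Scheme.{u}) (f₀ : X₀ ⟶ S₀) (g : S ⟶ S₀) (g' : X ⟶ X₀), IsAffine X₀ ∧ IsAffine S₀ ∧ IsPullback g' f f₀ g ∧
      Algebra.FiniteType ℤ Γ(S₀, ⊤) ∧ LocallyOfFiniteType f₀ := by
  have hφ : f.appTop.hom.FinitePresentation :=
    (HasRingHomProperty.iff_of_isAffine (P := @LocallyOfFinitePresentation)).mp inferInstance
  obtain ⟨A₀, B₀, a, b, ψ, hA₀, hb, hpo⟩ :=
    Groth.Agent.Lib.Helper7.exists_finiteType_int_model f.appTop.hom hφ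
  have hpo' : IsPushout a b f.appTop ψ := hpo
  have hpb := (isPullback_SpecMap_of_isPushout a b f.appTop ψ hpo').flip
  have hsq : IsPullback X.isoSpec.hom f (Spec.map f.appTop) S.isoSpec.hom :=
    IsPullback.of_horiz_isIso ⟨Scheme.isoSpec_hom_naturality f⟩
  refine ⟨Spec B₀, Spec A₀, Spec.map b, S.isoSpec.hom ≫ Spec.map a, X.isoSpec.hom ≫ Spec.map ψ,
    inferInstance, inferInstance, hsq.paste_horiz hpb, ?_, ?_⟩
  · let e : A₀ ≃+* Γ(Spec A₀, ⊤) := (Scheme.ΓSpecIso A₀).symm.commRingCatIsoToRingEquiv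
    have : Algebra.FiniteType ℤ A₀ := hA₀
    exact Algebra.FiniteType.equiv this
      { e with commutes' := fun n => by simp }
  · rw [HasRingHomProperty.Spec_iff (P := @LocallyOfFiniteType)]
    exact RingHom.FiniteType.of_finitePresentation hb

end Groth.Agent.S1460
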