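import Groth.Statements.S14606
import Mathlib.Algebra.Algebra.IsSimpleRing
import Mathlib.RingTheory.FiniteStability
import Mathlib.RingTheory.Flat.TorsionFree
import Mathlib.RingTheory.Henselian
import Mathlib.RingTheory.Nilpotent.GeometricallyReduced
import Mathlib.RingTheory.RegularLocalRing.Defs
import Mathlib.RingTheory.SimpleRing.Principal
import Mathlib.Tactic

set_option autoImplicit false
universe u
open FrobAlg
open TensorProduct

namespace Groth.Agent.S14606

/-- Let k be a field of characteristic p > 0 and R a finitely generated commutative k-algebra. The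
scheme-theoretic image of the n-th relative Frobenius morphism of Spec R is the spectrum of the
k-subalgebra k[R^(p^n)] generated by all p^n-th powers; for n large enough this image is
geometrically reduced: there is an n such that k[R^(p^n)] is a geometrically reduced k-algebra.
(Stated in affine, ring-theoretic form.) -/
theorem result (k : Type u) [Field k] (p : ℕ) [Fact p.Prime] [CharP k p]
    (R : Type u) [CommRing R] [Algebra k R] [Algebra.FiniteType k R] :
    ∃ n : ℕ, Algebra.IsGeometricallyReduced k ↥(Algebra.adjoin k (Set.range (fun x : R => x ^ (p ^ n)))) := by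
  let K := AlgebraicClosure k
  have hnoeth : IsNoetherianRing (K ⊗[k] R) := Algebra.FiniteType.isNoetherianRing K _
  obtain ⟨m, hm⟩ := IsNoetherianRing.isNilpotent_nilradical (K ⊗[k] R)
  refine ⟨m, ?_⟩
  rw [Algebra.isGeometricallyReduced_field_iff]
  have hq : 0 < p ^ m := pow_pos (Fact.out : p.Prime).pos m
  have hmq : m ≤ p ^ m := (Nat.lt_pow_self (Fact.out : p.Prime).one_lt).le
  let ι : K ⊗[k] (Algebra.adjoin k (Set.range (fun x : R => x ^ (p ^ m)))) →ₐ[K] K ⊗[k] R :=
    Algebra.TensorProduct.map (AlgHom.id K K) (Subalgebra.val _)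
  have hι : Function.Injective ι :=
    Module.Flat.lTensor_preserves_injective_linearMap _ Subtype.val_injective
  rcases subsingleton_or_nontrivial (K ⊗[k] R) with hs | hn
  · have : Subsingleton (K ⊗[k] (Algebra.adjoin k (Set.range (fun x : R => x ^ (p ^ m))))) :=
      hι.subsingleton
    exact ⟨fun x _ => Subsingleton.elim _ _⟩
  · have hcharK : CharP K p := charP_of_injective_algebraMap (algebraMap k K).injective p
    have hchar : CharP (K ⊗[k] R) p :=
      charP_of_injective_algebraMap (algebraMap K (K ⊗[k] R)).injective p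
    -- elements of `R` in the subalgebra give `p^m`-th powers
    have hB : ∀ b ∈ Algebra.adjoin k (Set.range (fun x : R => x ^ (p ^ m))),
        ∃ x : K ⊗[k] R, (1 : K) ⊗ₜ[k] b = x ^ (p ^ m) := by
      intro b hb
      induction hb using Algebra.adjoin_induction with
      | mem r hr =>
        obtain ⟨r, rfl⟩ := hr
        exact ⟨1 ⊗ₜ r, by rw [Algebra.TensorProduct.tmul_pow, one_pow]⟩
      | algebraMap c =>
        obtain ⟨μ, hμ⟩ := IsAlgClosed.exists_pow_nat_eq (algebraMap k K c) hq
        refine ⟨μ ⊗ₜ 1, ?_⟩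
        rw [Algebra.TensorProduct.tmul_pow, one_pow, hμ, Algebra.algebraMap_eq_smul_one,
          Algebra.algebraMap_eq_smul_one, TensorProduct.smul_tmul]
      | add x y _ _ hx hy =>
        obtain ⟨x', hx'⟩ := hx
        obtain ⟨y', hy'⟩ := hy
        exact ⟨x' + y', by rw [TensorProduct.tmul_add, hx', hy', add_pow_char_pow]⟩
      | mul x y _ _ hx hy =>
        obtain ⟨x', hx'⟩ := hx
        obtain ⟨y', hy'⟩ := hy
        refine ⟨x' * y', ?_⟩
        rw [mul_pow, ← hx', ← hy', Algebra.TensorProduct.tmul_mul_tmul, one_mul]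
    have hpow : ∀ z : K ⊗[k] (Algebra.adjoin k (Set.range (fun x : R => x ^ (p ^ m)))),
        ∃ x : K ⊗[k] R, ι z = x ^ (p ^ m) := by
      intro z
      induction z with
      | zero => exact ⟨0, by rw [map_zero, zero_pow hq.ne']⟩
      | tmul lam b =>
        obtain ⟨μ, hμ⟩ := IsAlgClosed.exists_pow_nat_eq lam hq
        obtain ⟨y, hy⟩ := hB b.1 b.2
        refine ⟨μ ⊗ₜ 1 * y, ?_⟩
        rw [mul_pow, ← hy, Algebra.TensorProduct.tmul_pow, one_pow, hμ,
          Algebra.TensorProduct.tmul_mul_tmul, mul_one, one_mul]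
        rfl
      | add z z' hz hz' =>
        obtain ⟨x, hx⟩ := hz
        obtain ⟨x', hx'⟩ := hz'
        exact ⟨x + x', by rw [map_add, hx, hx', add_pow_char_pow]⟩
    refine ⟨fun z hz => ?_⟩
    obtain ⟨x, hx⟩ := hpow z
    have h1 : IsNilpotent (ι z) := hz.map ι
    rw [hx] at h1
    have hxn : x ∈ nilradical (K ⊗[k] R) := by
      rw [mem_nilradical]
      exact h1.of_pow
    have hxm : x ^ m = 0 := by
      have := Ideal.pow_mem_pow hxn m
      rwa [hm, Ideal.zero_eq_bot, Ideal.mem_bot] at this
    have hxq : x ^ (p ^ m) = 0 := pow_eq_zero_of_le hmq hxm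
    apply hι
    rw [hx, hxq, map_zero]

end Groth.Agent.S14606
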