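import Groth.Statements.S14608
import Groth.Agent.Lib.Helper74.LocalCriterion
import Groth.Agent.Lib.Helper74.FlatKer

set_option autoImplicit false
universe u v
open CAlg

namespace Groth.Agent.S14608

open TensorProduct in
/-- Let A be a Noetherian ring, M a finitely generated A-module, F a finitely generated free A-module, δ
: M → F an A-linear map and p a prime of A with residue field κ(p). The following are equivalent:
(a) the natural map (ker δ) ⊗ κ(p) → ker(δ ⊗ κ(p)) is surjective (its image is the whole kernel);
(b) that map is bijective; (c) (F / im δ) localized at p is a free module over the local ring A_p.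
Moreover, if these hold then (im δ) localized at p is free over A_p. (The published statement takes
M to be the cokernel of a map of finitely generated free modules; over a Noetherian ring this is
every finitely generated M, which is what this row takes.) -/
theorem result (A : Type u) [CommRing A] [IsNoetherianRing A]
    (M : Type v) (F : Type v) [AddCommGroup M] [Module A M] [Module.Finite A M]
    [AddCommGroup F] [Module A F] [Module.Finite A F] [Module.Free A F]
    (δ : M →ₗ[A] F) (p : Ideal A) [p.IsPrime] :
    [ Function.Exact (LinearMap.lTensor p.ResidueField (LinearMap.ker δ).subtype)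
        (LinearMap.lTensor p.ResidueField δ),
      Function.Exact (LinearMap.lTensor p.ResidueField (LinearMap.ker δ).subtype)
        (LinearMap.lTensor p.ResidueField δ) ∧
        Function.Injective (LinearMap.lTensor p.ResidueField (LinearMap.ker δ).subtype),
      Module.Free (Localization.AtPrime p)
        (LocalizedModule p.primeCompl (F ⧸ LinearMap.range δ)) ].TFAE ∧
    (Function.Exact (LinearMap.lTensor p.ResidueField (LinearMap.ker δ).subtype)
        (LinearMap.lTensor p.ResidueField δ) →
      Module.Free (Localization.AtPrime p)
        (LocalizedModule p.primeCompl (LinearMap.range δ))) := by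
  classical
  -- notation
  set κ := p.ResidueField with hκ
  set R := Localization.AtPrime p with hR
  let K := LinearMap.ker δ
  let N := LinearMap.range δ
  let δ' : M →ₗ[A] N := δ.rangeRestrict
  let j : N →ₗ[A] F := N.subtype
  let q : F →ₗ[A] F ⧸ N := N.mkQ
  have hδ : δ = j ∘ₗ δ' := by ext x; rfl
  have hδ'surj : Function.Surjective δ' := δ.surjective_rangeRestrict
  have hexK : Function.Exact K.subtype δ' := by
    rw [LinearMap.exact_iff, Submodule.range_subtype]
    ext x
    simp [K, δ', LinearMap.mem_ker]
  have hexN : Function.Exact j q := LinearMap.exact_subtype_mkQ N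
  have hqsurj : Function.Surjective q := Submodule.mkQ_surjective N
  have hjinj : Function.Injective j := Submodule.injective_subtype N
  -- right exactness
  have hexκ : Function.Exact (LinearMap.lTensor κ K.subtype) (LinearMap.lTensor κ δ') :=
    lTensor_exact κ hexK hδ'surj
  have hsurjκ : Function.Surjective (LinearMap.lTensor κ δ') :=
    LinearMap.lTensor_surjective κ hδ'surj
  have hcomp : ∀ x, LinearMap.lTensor κ δ x = LinearMap.lTensor κ j (LinearMap.lTensor κ δ' x) := by
    intro x
    rw [hδ, LinearMap.lTensor_comp]
    rfl
  have : IsNoetherian A F := isNoetherian_of_isNoetherianRing_of_finite A F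
  have hNfin : Module.Finite A N := Module.Finite.of_fg (IsNoetherian.noetherian _)
  -- (a) implies injectivity of `κ ⊗ N → κ ⊗ F`
  have ha_inj : Function.Exact (LinearMap.lTensor κ K.subtype) (LinearMap.lTensor κ δ) →
      Function.Injective (LinearMap.lTensor κ j) := by
    intro ha
    rw [← LinearMap.ker_eq_bot, LinearMap.ker_eq_bot']
    intro t ht
    obtain ⟨s, rfl⟩ := hsurjκ t
    rw [← hcomp] at ht
    obtain ⟨r, rfl⟩ := (ha s).mp ht
    exact hexκ.apply_apply_eq_zero r
  -- injectivity of `κ ⊗ N → κ ⊗ F` implies (a)
  have hinj_a : Function.Injective (LinearMap.lTensor κ j) →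
      Function.Exact (LinearMap.lTensor κ K.subtype) (LinearMap.lTensor κ δ) := by
    intro hinj x
    rw [hcomp, ← hexκ x]
    constructor
    · intro h
      apply hinj
      rw [h, map_zero]
    · intro h
      rw [h, map_zero]
  -- freeness transfers between the two models of the localization
  have hfree_iff : ∀ (X : Type v) [AddCommGroup X] [Module A X],
      Module.Free R (LocalizedModule p.primeCompl X) ↔ Module.Free R (R ⊗[A] X) := by
    intro X _ _
    constructor
    · intro h
      exact Module.Free.of_equiv (LocalizedModule.equivTensorProduct p.primeCompl X)
    · intro h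
      exact Module.Free.of_equiv (LocalizedModule.equivTensorProduct p.primeCompl X).symm
  -- flatness of `N_p` from freeness of `C_p`
  have hNflat : Module.Free R (R ⊗[A] (F ⧸ N)) → Module.Flat R (R ⊗[A] N) := by
    intro h
    have hex : Function.Exact (j.baseChange R) (q.baseChange R) :=
      Module.Flat.lTensor_exact R hexN
    have hsurj : Function.Surjective (q.baseChange R) := LinearMap.lTensor_surjective R hqsurj
    have hinj : Function.Injective (j.baseChange R) :=
      Module.Flat.lTensor_preserves_injective_linearMap j hjinj
    exact Groth.Agent.Lib.Helper74.flat_of_exact_of_flat_of_flat (j.baseChange R) (q.baseChange R)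
      hinj hsurj hex
  have h13 : Function.Exact (LinearMap.lTensor κ K.subtype) (LinearMap.lTensor κ δ) →
      Module.Free R (R ⊗[A] (F ⧸ N)) := by
    intro ha
    exact Groth.Agent.Lib.Helper74.free_baseChange_localization_of_lTensor_residueField_injective
      j q hqsurj hexN p (ha_inj ha)
  refine ⟨?_, ?_⟩
  · tfae_have 1 → 3 := by
      intro ha
      exact (hfree_iff _).2 (h13 ha)
    tfae_have 3 → 2 := by
      intro hc
      have hc' := (hfree_iff _).1 hc
      have hCflat : Module.Flat R (R ⊗[A] (F ⧸ N)) := inferInstance
      have hjκ : Function.Injective (LinearMap.lTensor κ j) :=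
        Groth.Agent.Lib.Helper74.lTensor_residueField_injective_of_flat_baseChange j q hjinj hqsurj
          hexN p
      have := hNflat hc'
      have hKinj : Function.Injective K.subtype := Submodule.injective_subtype K
      exact ⟨hinj_a hjκ,
        Groth.Agent.Lib.Helper74.lTensor_residueField_injective_of_flat_baseChange K.subtype δ'
          hKinj hδ'surj hexK p⟩
    tfae_have 2 → 1 := fun h => h.1
    tfae_finish
  · intro ha
    have hc' := h13 ha
    have := hNflat hc'
    rw [hfree_iff]
    exact Module.free_of_flat_of_isLocalRing

end Groth.Agent.S14608
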