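import Groth.Statements.S14609
import Groth.Agent.Lib.Helper74.FiberRank

set_option autoImplicit false
universe u v
open CAlg

namespace Groth.Agent.S14609

open TensorProduct in
/-- Let A be a Noetherian ring, M a finitely generated A-module, F a finitely generated free A-module
and δ : M → F an A-linear map. Then the function on Spec A sending a prime p with residue field κ(p)
to the κ(p)-dimension of the kernel of δ ⊗ κ(p) : M ⊗ κ(p) → F ⊗ κ(p) is upper semicontinuous. -/
theorem result (A : Type u) [CommRing A]
    [IsNoetherianRing A] (M : Type v) (F : Type v) [AddCommGroup M] [Module A M] [Module.Finite A M]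
    [AddCommGroup F] [Module A F] [Module.Finite A F] [Module.Free A F] (δ : M →ₗ[A] F) :
    UpperSemicontinuous (fun x : PrimeSpectrum A =>
      Module.finrank x.asIdeal.ResidueField
        (LinearMap.ker (δ.baseChange x.asIdeal.ResidueField))) := by
  classical
  -- fibre dimensions of `M` and of the cokernel `F ⧸ range δ`
  have hM := Groth.Agent.Lib.Helper74.upperSemicontinuous_finrank_residueField_tensor A M
  have hQ := Groth.Agent.Lib.Helper74.upperSemicontinuous_finrank_residueField_tensor A
    (F ⧸ LinearMap.range δ)
  -- the key formula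
  have key : ∀ x : PrimeSpectrum A,
      Module.finrank x.asIdeal.ResidueField (LinearMap.ker (δ.baseChange x.asIdeal.ResidueField))
        + Module.finrank A F =
      Module.finrank x.asIdeal.ResidueField (x.asIdeal.ResidueField ⊗[A] M) +
        Module.finrank x.asIdeal.ResidueField
          (x.asIdeal.ResidueField ⊗[A] (F ⧸ LinearMap.range δ)) := by
    intro x
    let κ := x.asIdeal.ResidueField
    have h1 := LinearMap.finrank_range_add_finrank_ker (δ.baseChange κ)
    have h2 := LinearMap.finrank_range_add_finrank_ker
      ((LinearMap.range δ).mkQ.baseChange κ)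
    have hex : Function.Exact (LinearMap.lTensor κ δ) (LinearMap.lTensor κ (LinearMap.range δ).mkQ) :=
      lTensor_exact κ (LinearMap.exact_map_mkQ_range δ) (Submodule.mkQ_surjective _)
    have hker : LinearMap.ker ((LinearMap.range δ).mkQ.baseChange κ) =
        LinearMap.range (δ.baseChange κ) := by
      ext t
      exact hex t
    have hrange : LinearMap.range ((LinearMap.range δ).mkQ.baseChange κ) = ⊤ := by
      rw [LinearMap.range_eq_top]
      exact LinearMap.lTensor_surjective κ (Submodule.mkQ_surjective _)
    have : Nontrivial A := ⟨⟨0, 1, fun h => x.isPrime.ne_top (by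
      rw [Ideal.eq_top_iff_one, ← h]; exact zero_mem _)⟩⟩
    have hF : Module.finrank κ (κ ⊗[A] F) = Module.finrank A F := Module.finrank_baseChange
    rw [hker, hrange, finrank_top, hF] at h2
    change _ = Module.finrank κ (κ ⊗[A] M) + Module.finrank κ (κ ⊗[A] (F ⧸ LinearMap.range δ))
    change Module.finrank κ (LinearMap.ker (δ.baseChange κ)) + _ = _
    omega
  intro x c hc
  have hxM := hM x (Module.finrank x.asIdeal.ResidueField (x.asIdeal.ResidueField ⊗[A] M) + 1)
    (Nat.lt_succ_self _)
  have hxQ := hQ x (Module.finrank x.asIdeal.ResidueField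
    (x.asIdeal.ResidueField ⊗[A] (F ⧸ LinearMap.range δ)) + 1) (Nat.lt_succ_self _)
  filter_upwards [hxM, hxQ] with y hy1 hy2
  have kx := key x
  have ky := key y
  simp only at hc hy1 hy2 ⊢
  omega

end Groth.Agent.S14609
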