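import Groth.Statements.S14610
import Groth.Agent.Lib.Helper74.ReducedFree

set_option autoImplicit false
universe u v
open CAlg

namespace Groth.Agent.S14610

open TensorProduct in
/-- Let A be a reduced Noetherian ring, M a finitely generated A-module, F a finitely generated free
A-module and δ : M → F an A-linear map such that the function p ↦ dim_{κ(p)} ker(δ ⊗ κ(p)) is
locally constant on Spec A. Then M, ker δ and coker δ = F / im δ are projective A-modules, and for
every A-module N the natural map (ker δ) ⊗ N → M ⊗ N is injective with image equal to the kernel of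
δ ⊗ N. -/
theorem result (A : Type u) [CommRing A]
    [IsNoetherianRing A] [IsReduced A] (M : Type v) (F : Type v) [AddCommGroup M] [Module A M]
    [Module.Finite A M] [AddCommGroup F] [Module A F] [Module.Finite A F] [Module.Free A F]
    (δ : M →ₗ[A] F)
    (h : IsLocallyConstant (fun x : PrimeSpectrum A =>
      Module.finrank x.asIdeal.ResidueField
        (LinearMap.ker (δ.baseChange x.asIdeal.ResidueField)))) :
    Module.Projective A M ∧ Module.Projective A (LinearMap.ker δ) ∧
      Module.Projective A (F ⧸ LinearMap.range δ) ∧
      ∀ (N : Type v) [AddCommGroup N] [Module A N],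
        Function.Injective (LinearMap.rTensor N (LinearMap.ker δ).subtype) ∧
        Function.Exact (LinearMap.rTensor N (LinearMap.ker δ).subtype) (LinearMap.rTensor N δ) := by
  classical
  -- fibre dimensions of `M` and of the cokernel `F ⧸ range δ`
  have hM := Groth.Agent.Lib.Helper74.upperSemicontinuous_finrank_residueField_tensor A M
  have hQ := Groth.Agent.Lib.Helper74.upperSemicontinuous_finrank_residueField_tensor A
    (F ⧸ LinearMap.range δ)
  -- the key formula
  have key : ∀ x : PrimeSpectrum A,
      Module.finrank x.asIdeal.ResidueField (LinearMap.ker (δ.baseChange x.asIdeal.ResidueField))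
        + Module.finrank A F =
      Module.finrank x.asIdeal.ResidueField (x.asIdeal.ResidueField ⊗[A] M) +
        Module.finrank x.asIdeal.ResidueField
          (x.asIdeal.ResidueField ⊗[A] (F ⧸ LinearMap.range δ)) := by
    intro x
    let κ := x.asIdeal.ResidueField
    have h1 := LinearMap.finrank_range_add_finrank_ker (δ.baseChange κ)
    have h2 := LinearMap.finrank_range_add_finrank_ker
      ((LinearMap.range δ).mkQ.baseChange κ)
    have hex : Function.Exact (LinearMap.lTensor κ δ) (LinearMap.lTensor κ (LinearMap.range δ).mkQ) :=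
      lTensor_exact κ (LinearMap.exact_map_mkQ_range δ) (Submodule.mkQ_surjective _)
    have hker : LinearMap.ker ((LinearMap.range δ).mkQ.baseChange κ) =
        LinearMap.range (δ.baseChange κ) := by
      ext t
      exact hex t
    have hrange : LinearMap.range ((LinearMap.range δ).mkQ.baseChange κ) = ⊤ := by
      rw [LinearMap.range_eq_top]
      exact LinearMap.lTensor_surjective κ (Submodule.mkQ_surjective _)
    have : Nontrivial A := ⟨⟨0, 1, fun h => x.isPrime.ne_top (by
      rw [Ideal.eq_top_iff_one, ← h]; exact zero_mem _)⟩⟩
    have hF : Module.finrank κ (κ ⊗[A] F) = Module.finrank A F := Module.finrank_baseChange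
    rw [hker, hrange, finrank_top, hF] at h2
    change _ = Module.finrank κ (κ ⊗[A] M) + Module.finrank κ (κ ⊗[A] (F ⧸ LinearMap.range δ))
    change Module.finrank κ (LinearMap.ker (δ.baseChange κ)) + _ = _
    omega
  -- both fibre dimensions are locally constant
  have hloc : ∀ x : PrimeSpectrum A, ∀ᶠ y in nhds x,
      Module.finrank y.asIdeal.ResidueField (y.asIdeal.ResidueField ⊗[A] M) =
        Module.finrank x.asIdeal.ResidueField (x.asIdeal.ResidueField ⊗[A] M) ∧
      Module.finrank y.asIdeal.ResidueField
          (y.asIdeal.ResidueField ⊗[A] (F ⧸ LinearMap.range δ)) =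
        Module.finrank x.asIdeal.ResidueField
          (x.asIdeal.ResidueField ⊗[A] (F ⧸ LinearMap.range δ)) := by
    intro x
    have hxM := hM x (Module.finrank x.asIdeal.ResidueField (x.asIdeal.ResidueField ⊗[A] M) + 1)
      (Nat.lt_succ_self _)
    have hxQ := hQ x (Module.finrank x.asIdeal.ResidueField
      (x.asIdeal.ResidueField ⊗[A] (F ⧸ LinearMap.range δ)) + 1) (Nat.lt_succ_self _)
    filter_upwards [hxM, hxQ, h.eventually_eq x] with y hy1 hy2 hy3
    have kx := key x
    have ky := key y
    omega
  have hlocM : IsLocallyConstant (fun x : PrimeSpectrum A =>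
      Module.finrank x.asIdeal.ResidueField (x.asIdeal.ResidueField ⊗[A] M)) := by
    rw [IsLocallyConstant.iff_eventually_eq]
    intro x
    exact (hloc x).mono fun y hy => hy.1
  have hlocQ : IsLocallyConstant (fun x : PrimeSpectrum A =>
      Module.finrank x.asIdeal.ResidueField
        (x.asIdeal.ResidueField ⊗[A] (F ⧸ LinearMap.range δ))) := by
    rw [IsLocallyConstant.iff_eventually_eq]
    intro x
    exact (hloc x).mono fun y hy => hy.2
  have hMproj : Module.Projective A M :=
    Groth.Agent.Lib.Helper74.projective_of_isLocallyConstant_finrank M hlocM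
  have hCproj : Module.Projective A (F ⧸ LinearMap.range δ) :=
    Groth.Agent.Lib.Helper74.projective_of_isLocallyConstant_finrank _ hlocQ
  -- splittings
  let K := LinearMap.ker δ
  let N' := LinearMap.range δ
  let δ' : M →ₗ[A] N' := δ.rangeRestrict
  let j : N' →ₗ[A] F := N'.subtype
  let q : F →ₗ[A] F ⧸ N' := N'.mkQ
  have hδ : δ = j ∘ₗ δ' := by ext x; rfl
  have hδ'surj : Function.Surjective δ' := δ.surjective_rangeRestrict
  have hexK : Function.Exact K.subtype δ' := by
    rw [LinearMap.exact_iff, Submodule.range_subtype]
    ext x
    simp [K, δ', LinearMap.mem_ker]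
  have hexN : Function.Exact j q := LinearMap.exact_subtype_mkQ N'
  have hqsurj : Function.Surjective q := Submodule.mkQ_surjective N'
  have hjinj : Function.Injective j := Submodule.injective_subtype N'
  have hKinj : Function.Injective K.subtype := Submodule.injective_subtype K
  obtain ⟨s, hs⟩ := Module.projective_lifting_property q LinearMap.id hqsurj
  have hsN : ∃ l, q ∘ₗ l = LinearMap.id := ⟨s, hs⟩
  have hsplitN : ∃ l, l ∘ₗ j = LinearMap.id :=
    ((Function.Exact.split_tfae hexN hjinj hqsurj).out 0 1).mp hsN
  obtain ⟨πN, hπN⟩ := hsplitN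
  have hNproj : Module.Projective A N' := Module.Projective.of_split j πN hπN
  obtain ⟨s', hs'⟩ := Module.projective_lifting_property δ' LinearMap.id hδ'surj
  have hsK : ∃ l, δ' ∘ₗ l = LinearMap.id := ⟨s', hs'⟩
  have hsplitK : ∃ l, l ∘ₗ K.subtype = LinearMap.id :=
    ((Function.Exact.split_tfae hexK hKinj hδ'surj).out 0 1).mp hsK
  obtain ⟨πK, hπK⟩ := hsplitK
  have hKproj : Module.Projective A K := Module.Projective.of_split K.subtype πK hπK
  refine ⟨hMproj, hKproj, hCproj, ?_⟩
  intro X _ _
  have hinjK : Function.Injective (LinearMap.rTensor X K.subtype) := by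
    have : LinearMap.rTensor X πK ∘ₗ LinearMap.rTensor X K.subtype = LinearMap.id := by
      rw [← LinearMap.rTensor_comp, hπK, LinearMap.rTensor_id]
    exact Function.LeftInverse.injective (g := LinearMap.rTensor X πK)
      (fun x => LinearMap.congr_fun this x)
  have hinjN : Function.Injective (LinearMap.rTensor X j) := by
    have : LinearMap.rTensor X πN ∘ₗ LinearMap.rTensor X j = LinearMap.id := by
      rw [← LinearMap.rTensor_comp, hπN, LinearMap.rTensor_id]
    exact Function.LeftInverse.injective (g := LinearMap.rTensor X πN)
      (fun x => LinearMap.congr_fun this x)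
  refine ⟨hinjK, ?_⟩
  have hexX : Function.Exact (LinearMap.rTensor X K.subtype) (LinearMap.rTensor X δ') :=
    rTensor_exact X hexK hδ'surj
  intro x
  have hcomp : LinearMap.rTensor X δ x = LinearMap.rTensor X j (LinearMap.rTensor X δ' x) := by
    rw [hδ, LinearMap.rTensor_comp]
    rfl
  rw [hcomp, ← hexX x]
  constructor
  · intro h0
    apply hinjN
    rw [h0, map_zero]
  · intro h0
    rw [h0, map_zero]

end Groth.Agent.S14610
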