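import Groth.Statements.S14614
import Mathlib.AlgebraicGeometry.Morphisms.FlatMono
import Mathlib.RingTheory.Filtration
import Mathlib.RingTheory.HopkinsLevitzki
-- import your own Groth.Agent.* helpers here

set_option autoImplicit false
universe u
open Mor

namespace Groth.Agent.S14614

open CategoryTheory AlgebraicGeometry in
private lemma germ_stalkClosedPointTo_congr {X : Scheme.{u}} {A : CommRingCat.{u}} [IsLocalRing A]
    {g₁ g₂ : Spec A ⟶ X} (e : g₁ = g₂) (U : X.Opens)
    (hU : g₁ (IsLocalRing.closedPoint A) ∈ U) :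
    X.presheaf.germ U _ hU ≫ Scheme.stalkClosedPointTo g₁ =
      X.presheaf.germ U (g₂ (IsLocalRing.closedPoint A)) (e ▸ hU) ≫ Scheme.stalkClosedPointTo g₂ := by
  subst e; rfl

open CategoryTheory AlgebraicGeometry in
private lemma key {X Y : Scheme.{u}} (f : X ⟶ Y) {A : CommRingCat.{u}} [IsLocalRing A] (x : X)
    (ρ : Y.presheaf.stalk (f x) ⟶ A) [IsLocalHom ρ.hom] (g' : Spec A ⟶ X)
    (hg : g' ≫ f = Spec.map ρ ≫ Y.fromSpecStalk (f x))
    (hx : g' (IsLocalRing.closedPoint A) = x)
    (a : Y.presheaf.stalk (f x)) (ha : (f.stalkMap x).hom a = 0) : ρ.hom a = 0 := by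
  subst hx
  obtain ⟨U, hU, σ, rfl⟩ := Y.presheaf.exists_germ_eq a
  have h1 := Scheme.germ_stalkClosedPointTo_Spec_fromSpecStalk (X := Y) ρ U
    (by simpa using hU)
  have h2 := germ_stalkClosedPointTo_congr hg U hU
  rw [Scheme.stalkClosedPointTo_comp] at h2
  have h3 : (Y.presheaf.germ U _ hU ≫ ρ).hom σ = 0 := by
    rw [← h1, ← h2]
    change (Scheme.stalkClosedPointTo g').hom ((f.stalkMap _).hom (Y.presheaf.germ U _ hU σ)) = 0
    rw [ha, map_zero]
  exact h3

section quot
variable (R : Type u) [CommRing R] [IsLocalRing R] (n : ℕ)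

private lemma pow_ne_top (hn : n ≠ 0) : (IsLocalRing.maximalIdeal R) ^ n ≠ ⊤ := by
  intro htop
  have hle : (IsLocalRing.maximalIdeal R) ^ n ≤ IsLocalRing.maximalIdeal R :=
    Ideal.pow_le_self hn
  rw [htop] at hle
  exact (IsLocalRing.maximalIdeal.isMaximal R).ne_top (top_le_iff.mp hle)

private lemma quot_nontrivial (hn : n ≠ 0) : Nontrivial (R ⧸ (IsLocalRing.maximalIdeal R) ^ n) :=
  Ideal.Quotient.nontrivial_iff.mpr (pow_ne_top R n hn)

private lemma quot_isLocalRing (hn : n ≠ 0) : IsLocalRing (R ⧸ (IsLocalRing.maximalIdeal R) ^ n) :=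
  haveI := quot_nontrivial R n hn
  IsLocalRing.of_surjective' (Ideal.Quotient.mk _) Ideal.Quotient.mk_surjective

private lemma quot_isLocalHom (hn : n ≠ 0) :
    IsLocalHom (Ideal.Quotient.mk ((IsLocalRing.maximalIdeal R) ^ n)) :=
  haveI := quot_nontrivial R n hn
  (Ideal.Quotient.mk_surjective).isLocalHom

private lemma quot_isArtinianRing [IsNoetherianRing R] (hn : n ≠ 0) :
    IsArtinianRing (R ⧸ (IsLocalRing.maximalIdeal R) ^ n) := by
  haveI := quot_isLocalRing R n hn
  haveI := quot_isLocalHom R n hn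
  set q := Ideal.Quotient.mk ((IsLocalRing.maximalIdeal R) ^ n) with hq
  have hqs : Function.Surjective q := Ideal.Quotient.mk_surjective
  have hmax : IsLocalRing.maximalIdeal (R ⧸ (IsLocalRing.maximalIdeal R) ^ n) =
      (IsLocalRing.maximalIdeal R).map q := by
    have h1 := IsLocalRing.maximalIdeal_comap q
    have h2 := Ideal.map_comap_of_surjective q hqs
      (IsLocalRing.maximalIdeal (R ⧸ (IsLocalRing.maximalIdeal R) ^ n))
    rw [h1] at h2
    exact h2.symm
  rw [isArtinianRing_iff_isNilpotent_maximalIdeal]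
  refine ⟨n, ?_⟩
  rw [hmax, ← Ideal.map_pow, Ideal.zero_eq_bot]
  exact Ideal.map_quotient_self _

end quot

open CategoryTheory AlgebraicGeometry in
private lemma core (S : Scheme.{u}) {Z : Scheme.{u}} (i : Z ⟶ S) [IsClosedImmersion i] (z : Z)
    (A : Type u) [CommRing A] [IsLocalRing A]
    (q : S.presheaf.stalk (i z) →+* A) [IsLocalHom q]
    (h : ∀ (g : Spec (CommRingCat.of A) ⟶ S),
      (∃ t : Spec (CommRingCat.of (IsLocalRing.ResidueField A)) ⟶ Z,
          t ≫ i = Spec.map (CommRingCat.ofHom (IsLocalRing.residue A)) ≫ g) →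
        ∃ g' : Spec (CommRingCat.of A) ⟶ Z, g' ≫ i = g)
    (x : S.presheaf.stalk (i z)) (hx : (i.stalkMap z).hom x = 0) : q x = 0 := by
  have hsurj := i.stalkMap_surjective z
  set φ : S.presheaf.stalk (i z) →+* Z.presheaf.stalk z := (i.stalkMap z).hom with hφ
  let r : S.presheaf.stalk (i z) →+* IsLocalRing.ResidueField A := (IsLocalRing.residue A).comp q
  have hker : RingHom.ker φ ≤ RingHom.ker r := by
    intro y hy
    have hy' : y ∈ IsLocalRing.maximalIdeal (S.presheaf.stalk (i z)) := by
      rw [IsLocalRing.mem_maximalIdeal, mem_nonunits_iff]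
      intro hu
      have hu' := hu.map φ
      rw [RingHom.mem_ker] at hy
      rw [hy] at hu'
      exact not_isUnit_zero hu'
    rw [RingHom.mem_ker, RingHom.comp_apply, IsLocalRing.residue_eq_zero_iff]
    exact (IsLocalRing.map_maximalIdeal_le q) (Ideal.mem_map_of_mem q hy')
  let ψ : Z.presheaf.stalk z →+* IsLocalRing.ResidueField A :=
    RingHom.liftOfSurjective φ hsurj ⟨r, hker⟩
  have hψ : ψ.comp φ = r := RingHom.liftOfSurjective_comp φ hsurj ⟨r, hker⟩
  let g : Spec (CommRingCat.of A) ⟶ S := Spec.map (CommRingCat.ofHom q) ≫ S.fromSpecStalk (i z)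
  obtain ⟨g', hg'⟩ := h g ⟨Spec.map (CommRingCat.ofHom ψ) ≫ Z.fromSpecStalk z, by
    rw [Category.assoc, ← Scheme.SpecMap_stalkMap_fromSpecStalk, ← Spec.map_comp_assoc,
      ← Spec.map_comp_assoc]
    congr 2
    ext y
    exact congrArg (fun f => f y) hψ⟩
  have hpt : g' (IsLocalRing.closedPoint A) = z := by
    apply i.isEmbedding.injective
    rw [← Scheme.Hom.comp_apply, hg', Scheme.Hom.comp_apply]
    erw [Spec_closedPoint]
    exact Scheme.fromSpecStalk_closedPoint
  exact key i z (CommRingCat.ofHom q) g' hg' hpt x hx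

open CategoryTheory AlgebraicGeometry in
private lemma stalkMap_injective (S : Scheme.{u}) [IsLocallyNoetherian S]
    {Z : Scheme.{u}} (i : Z ⟶ S) [IsClosedImmersion i]
    (h : ∀ (A : Type u) [CommRing A] [IsArtinianRing A] [IsLocalRing A] (g : Spec (CommRingCat.of A) ⟶ S),
      (∃ t : Spec (CommRingCat.of (IsLocalRing.ResidueField A)) ⟶ Z,
          t ≫ i = Spec.map (CommRingCat.ofHom (IsLocalRing.residue A)) ≫ g) →
        ∃ g' : Spec (CommRingCat.of A) ⟶ Z, g' ≫ i = g) (z : Z) :
    Function.Injective (i.stalkMap z).hom := by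
  rw [injective_iff_map_eq_zero]
  intro x hx
  have hsurj := i.stalkMap_surjective z
  have hK := Ideal.iInf_pow_eq_bot_of_isLocalRing (IsLocalRing.maximalIdeal (S.presheaf.stalk (i z)))
    (IsLocalRing.maximalIdeal.isMaximal _).ne_top
  have : x ∈ (⨅ n : ℕ, (IsLocalRing.maximalIdeal (S.presheaf.stalk (i z))) ^ n) := by
    rw [Ideal.mem_iInf]
    intro n
    by_cases hn : n = 0
    · subst hn; simp
    haveI := quot_isLocalRing (S.presheaf.stalk (i z)) n hn
    haveI := quot_isLocalHom (S.presheaf.stalk (i z)) n hn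
    haveI := quot_isArtinianRing (S.presheaf.stalk (i z)) n hn
    have hcore := core S i z
      ((S.presheaf.stalk (i z)) ⧸ (IsLocalRing.maximalIdeal (S.presheaf.stalk (i z))) ^ n)
      (Ideal.Quotient.mk _) (h _) x hx
    exact Ideal.Quotient.eq_zero_iff_mem.mp hcore
  rw [hK] at this
  exact this

open CategoryTheory AlgebraicGeometry in
/-- Let S be a locally Noetherian scheme and i : Z → S a closed immersion with the following property:
for every Artinian local ring A with residue field k and every morphism g : Spec A → S, if the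
restriction Spec k → Spec A → S of g factors through i then so does g. Then i is also an open
immersion, i.e. the closed subscheme Z is open in S as a subscheme. (The published hypothesis is an
equivalence; its other direction always holds, so this row assumes only the implication.) -/
theorem result (S : Scheme.{u}) [IsLocallyNoetherian S]
    {Z : Scheme.{u}} (i : Z ⟶ S) [IsClosedImmersion i]
    (h : ∀ (A : Type u) [CommRing A] [IsArtinianRing A] [IsLocalRing A] (g : Spec (CommRingCat.of A) ⟶ S),
      (∃ t : Spec (CommRingCat.of (IsLocalRing.ResidueField A)) ⟶ Z,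
          t ≫ i = Spec.map (CommRingCat.ofHom (IsLocalRing.residue A)) ≫ g) →
        ∃ g' : Spec (CommRingCat.of A) ⟶ Z, g' ≫ i = g) :
    IsOpenImmersion i := by
  have : LocallyOfFinitePresentation i := inferInstance
  have : Flat i := by
    refine Flat.of_stalkMap i fun z => ?_
    exact RingHom.Flat.of_bijective ⟨stalkMap_injective S i h z, i.stalkMap_surjective z⟩
  exact IsOpenImmersion.of_flat_of_mono i

end Groth.Agent.S14614
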