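import Groth.Statements.S14615
import Groth.Agent.Lib.Helper74.Tower

set_option autoImplicit false
universe u
open Formal2

namespace Groth.Agent.S14615

/-- Let … → G_2 → G_1 → G_0 be an inverse system of abelian groups with transition maps t_n : G_{n+1} →
G_n, and suppose that for every i there is j ≥ i such that the composite transition map G_j → G_i is
zero; this is expressed by asking that every sequence (x_n) ∈ ∏ G_n satisfying x_n = t_n(x_{n+1})
for i ≤ n < j has x_i = 0. Then both lim G_n and lim¹ G_n vanish: the map (x_n) ↦ (x_n −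
t_n(x_{n+1})) on ∏ G_n, whose kernel is lim and whose cokernel is lim¹, is injective and surjective. -/
theorem result (G : ℕ → Type u)
    [∀ n, AddCommGroup (G n)] (t : ∀ n, G (n + 1) →+ G n)
    (h : ∀ i : ℕ, ∃ j : ℕ, i ≤ j ∧
      ∀ x : ∀ n, G n, (∀ n, i ≤ n → n < j → x n = t n (x (n + 1))) → x i = 0) :
    Formal2.limZero G t = ⊥ ∧ Function.Surjective (Formal2.towerDiff G t) := by
  constructor
  · rw [eq_bot_iff]
    intro x hx
    rw [Groth.Agent.Lib.Helper74.mem_limZero_iff] at hx
    rw [AddSubgroup.mem_bot]
    ext i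
    obtain ⟨j, _, hj⟩ := h i
    exact hj x (fun n _ _ => hx n)
  · apply Groth.Agent.Lib.Helper74.towerDiff_surjective_of_iterate_shift_eq_zero
    intro i
    obtain ⟨j, _, hj⟩ := h i
    exact ⟨j - i, fun k hk z =>
      Groth.Agent.Lib.Helper74.iterate_shift_eq_zero_of_seq G t hj k hk z⟩

end Groth.Agent.S14615
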