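import Groth.Statements.S14617
import Groth.Agent.Lib.Helper74.Tower

set_option autoImplicit false
universe u
open Formal2

namespace Groth.Agent.S14617

section aux
open Groth.Agent.Lib.Helper74

variable {G' G : ℕ → Type u} [∀ n, AddCommGroup (G' n)] [∀ n, AddCommGroup (G n)]
  (t' : ∀ n, G' (n + 1) →+ G' n) (t : ∀ n, G (n + 1) →+ G n)
  (u : ∀ n, G' n →+ G n)

/-- The product of a family of homomorphisms. -/
def prodMap : (∀ n, G' n) →+ (∀ n, G n) where
  toFun x := fun n => u n (x n)
  map_zero' := by ext n; simp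
  map_add' x y := by ext n; simp

theorem prodMap_apply (x : ∀ n, G' n) (n : ℕ) : prodMap u x n = u n (x n) := rfl

theorem prodMap_injective (h : ∀ n, Function.Injective (u n)) :
    Function.Injective (prodMap u) := by
  intro x y hxy
  ext n
  exact h n (congrFun hxy n)

theorem prodMap_surjective (h : ∀ n, Function.Surjective (u n)) :
    Function.Surjective (prodMap u) := by
  intro y
  choose x hx using fun n => h n (y n)
  exact ⟨x, funext hx⟩

theorem towerDiff_prodMap (hu : ∀ n x, t n (u (n + 1) x) = u n (t' n x)) (x : ∀ n, G' n) :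
    Formal2.towerDiff G t (prodMap u x) = prodMap u (Formal2.towerDiff G' t' x) := by
  ext n
  rw [towerDiff_apply, prodMap_apply, prodMap_apply, prodMap_apply, towerDiff_apply, map_sub, hu]

end aux

/-- Let 0 → (G'_n) → (G_n) → (G''_n) → 0 be a short exact sequence of inverse systems of abelian groups
indexed by ℕ: maps u_n : G'_n → G_n and v_n : G_n → G''_n commuting with the transition maps, with
u_n injective, v_n surjective and ker v_n = im u_n for every n. Writing lim and lim¹ for the kernel
and cokernel of (x_n) ↦ (x_n − t_n(x_{n+1})) on the product, there is an exact sequence 0 → lim G' →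
lim G → lim G'' → lim¹ G' → lim¹ G → lim¹ G'' → 0 in which the four outer maps are the ones induced
by u and v on products and the connecting map δ sends a compatible sequence (z_n) to the class of
the unique (w_n) with u_n(w_n) = y_n − t_n(y_{n+1}), for any levelwise lift (y_n) of (z_n). -/
theorem result (G' G G'' : ℕ → Type u)
    [∀ n, AddCommGroup (G' n)] [∀ n, AddCommGroup (G n)] [∀ n, AddCommGroup (G'' n)]
    (t' : ∀ n, G' (n + 1) →+ G' n) (t : ∀ n, G (n + 1) →+ G n) (t'' : ∀ n, G'' (n + 1) →+ G'' n)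
    (u : ∀ n, G' n →+ G n) (v : ∀ n, G n →+ G'' n)
    (hu : ∀ n x, t n (u (n + 1) x) = u n (t' n x)) (hv : ∀ n x, t'' n (v (n + 1) x) = v n (t n x))
    (hinj : ∀ n, Function.Injective (u n)) (hsurj : ∀ n, Function.Surjective (v n))
    (hex : ∀ n, (v n).ker = (u n).range) :
    ∃ (α : Formal2.limZero G' t' →+ Formal2.limZero G t) (β : Formal2.limZero G t →+ Formal2.limZero G'' t'')
      (δ : Formal2.limZero G'' t'' →+ Formal2.limOne G' t')
      (ε : Formal2.limOne G' t' →+ Formal2.limOne G t) (ζ : Formal2.limOne G t →+ Formal2.limOne G'' t''),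
      (∀ (x : Formal2.limZero G' t') (n : ℕ), (α x : ∀ n, G n) n = u n ((x : ∀ n, G' n) n)) ∧
      (∀ (x : Formal2.limZero G t) (n : ℕ), (β x : ∀ n, G'' n) n = v n ((x : ∀ n, G n) n)) ∧
      (∀ (z : Formal2.limZero G'' t'') (y : ∀ n, G n) (w : ∀ n, G' n),
          (∀ n, v n (y n) = (z : ∀ n, G'' n) n) → (∀ n, u n (w n) = Formal2.towerDiff G t y n) →
            δ z = (QuotientAddGroup.mk w : Formal2.limOne G' t')) ∧
      (∀ y : ∀ n, G' n, ε (QuotientAddGroup.mk y : Formal2.limOne G' t') =
          (QuotientAddGroup.mk (fun n => u n (y n)) : Formal2.limOne G t)) ∧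
      (∀ y : ∀ n, G n, ζ (QuotientAddGroup.mk y : Formal2.limOne G t) =
          (QuotientAddGroup.mk (fun n => v n (y n)) : Formal2.limOne G'' t'')) ∧
      Function.Injective α ∧ α.range = β.ker ∧ β.range = δ.ker ∧ δ.range = ε.ker ∧ ε.range = ζ.ker ∧
      Function.Surjective ζ := by
  classical
  -- notation
  set U := prodMap u with hU
  set V := prodMap v with hV
  set D' := Formal2.towerDiff G' t' with hD'
  set D := Formal2.towerDiff G t with hD
  set D'' := Formal2.towerDiff G'' t'' with hD''
  have hUinj : Function.Injective U := prodMap_injective u hinj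
  have hVsurj : Function.Surjective V := prodMap_surjective v hsurj
  have hDU : ∀ x, D (U x) = U (D' x) := towerDiff_prodMap t' t u hu
  have hDV : ∀ x, D'' (V x) = V (D x) := towerDiff_prodMap t t'' v hv
  have hVU : ∀ x, V (U x) = 0 := by
    intro x
    ext n
    show v n (u n (x n)) = 0
    have : u n (x n) ∈ (v n).ker := by rw [hex n]; exact ⟨_, rfl⟩
    exact this
  have hkerV : ∀ y, V y = 0 → ∃ w, U w = y := by
    intro y hy
    have : ∀ n, ∃ a, u n a = y n := by
      intro n
      have h1 : y n ∈ (v n).ker := congrFun hy n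
      rw [hex n] at h1
      exact h1
    choose w hw using this
    exact ⟨w, funext hw⟩
  -- the maps on lim
  let α : Formal2.limZero G' t' →+ Formal2.limZero G t :=
    (U.comp (Formal2.limZero G' t').subtype).codRestrict (Formal2.limZero G t) (by
      intro x
      show D (U x.1) = 0
      rw [hDU]
      have : D' x.1 = 0 := x.2
      rw [this, map_zero])
  let β : Formal2.limZero G t →+ Formal2.limZero G'' t'' :=
    (V.comp (Formal2.limZero G t).subtype).codRestrict (Formal2.limZero G'' t'') (by
      intro x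
      show D'' (V x.1) = 0
      rw [hDV]
      have : D x.1 = 0 := x.2
      rw [this, map_zero])
  let ε : Formal2.limOne G' t' →+ Formal2.limOne G t :=
    QuotientAddGroup.map _ _ U (by
      rintro _ ⟨a, rfl⟩
      exact ⟨U a, hDU a⟩)
  let ζ : Formal2.limOne G t →+ Formal2.limOne G'' t'' :=
    QuotientAddGroup.map _ _ V (by
      rintro _ ⟨a, rfl⟩
      exact ⟨V a, hDV a⟩)
  -- the connecting map
  have exists_pair : ∀ z : Formal2.limZero G'' t'', ∃ (y : ∀ n, G n) (w : ∀ n, G' n),
      V y = z.1 ∧ U w = D y := by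
    intro z
    obtain ⟨y, hy⟩ := hVsurj z.1
    have : V (D y) = 0 := by
      rw [← hDV, hy]; exact z.2
    obtain ⟨w, hw⟩ := hkerV _ this
    exact ⟨y, w, hy, hw⟩
  have wd : ∀ (y y' : ∀ n, G n) (w w' : ∀ n, G' n), V y = V y' → U w = D y → U w' = D y' →
      (QuotientAddGroup.mk w : Formal2.limOne G' t') = QuotientAddGroup.mk w' := by
    intro y y' w w' hyy hw hw'
    have h0 : V (y - y') = 0 := by rw [map_sub, hyy, sub_self]
    obtain ⟨a, ha⟩ := hkerV _ h0
    have : w - w' = D' a := by
      apply hUinj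
      rw [map_sub, hw, hw', ← map_sub, ← ha, hDU]
    rw [QuotientAddGroup.eq_iff_sub_mem, this]
    exact ⟨a, rfl⟩
  choose Y W hY hW using exists_pair
  have δ_char : ∀ (z : Formal2.limZero G'' t'') (y : ∀ n, G n) (w : ∀ n, G' n),
      V y = z.1 → U w = D y →
      (QuotientAddGroup.mk (W z) : Formal2.limOne G' t') = QuotientAddGroup.mk w := by
    intro z y w hy hw
    exact wd (Y z) y (W z) w ((hY z).trans hy.symm) (hW z) hw
  let δ : Formal2.limZero G'' t'' →+ Formal2.limOne G' t' :=
    AddMonoidHom.mk' (fun z => (QuotientAddGroup.mk (W z) : Formal2.limOne G' t')) (by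
      intro z₁ z₂
      show (QuotientAddGroup.mk (W (z₁ + z₂)) : Formal2.limOne G' t') =
        QuotientAddGroup.mk (W z₁) + QuotientAddGroup.mk (W z₂)
      rw [← QuotientAddGroup.mk_add]
      apply δ_char (z₁ + z₂) (Y z₁ + Y z₂) (W z₁ + W z₂)
      · rw [map_add, hY, hY]; rfl
      · rw [map_add, map_add, hW, hW])
  have δ_apply : ∀ (z : Formal2.limZero G'' t'') (y : ∀ n, G n) (w : ∀ n, G' n),
      V y = z.1 → U w = D y → δ z = QuotientAddGroup.mk w := δ_char
  refine ⟨α, β, δ, ε, ζ, fun x n => rfl, fun x n => rfl, ?_, fun y => rfl, fun y => rfl,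
    ?_, ?_, ?_, ?_, ?_, ?_⟩
  · -- characterization of δ
    intro z y w hy hw
    exact δ_apply z y w (funext hy) (funext hw)
  · -- α injective
    intro x x' hxx
    apply Subtype.ext
    apply hUinj
    exact congrArg Subtype.val hxx
  · -- exactness at lim G
    ext x
    constructor
    · rintro ⟨a, rfl⟩
      rw [AddMonoidHom.mem_ker]
      apply Subtype.ext
      exact hVU a.1
    · intro hx
      rw [AddMonoidHom.mem_ker] at hx
      have hx' : V x.1 = 0 := congrArg Subtype.val hx
      obtain ⟨a, ha⟩ := hkerV _ hx'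
      have ha' : D' a = 0 := by
        apply hUinj
        rw [← hDU, ha, map_zero]
        exact x.2
      exact ⟨⟨a, ha'⟩, Subtype.ext ha⟩
  · -- exactness at lim G''
    ext z
    constructor
    · rintro ⟨x, rfl⟩
      rw [AddMonoidHom.mem_ker]
      have : δ (β x) = QuotientAddGroup.mk (0 : ∀ n, G' n) := by
        apply δ_apply (β x) x.1 0 rfl
        rw [map_zero]
        exact x.2.symm
      rw [this]; rfl
    · intro hz
      rw [AddMonoidHom.mem_ker] at hz
      have h1 : (QuotientAddGroup.mk (W z) : Formal2.limOne G' t') = 0 := hz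
      rw [QuotientAddGroup.eq_zero_iff] at h1
      obtain ⟨a, ha⟩ := h1
      have hmem : D (Y z - U a) = 0 := by
        rw [map_sub, hDU, ← hW z]
        show U (W z) - U (D' a) = 0
        rw [ha, sub_self]
      refine ⟨⟨Y z - U a, hmem⟩, ?_⟩
      apply Subtype.ext
      show V (Y z - U a) = z.1
      rw [map_sub, hVU, sub_zero, hY]
  · -- exactness at lim¹ G'
    ext c
    constructor
    · rintro ⟨z, rfl⟩
      rw [AddMonoidHom.mem_ker]
      show ε (QuotientAddGroup.mk (W z)) = 0
      show (QuotientAddGroup.mk (U (W z)) : Formal2.limOne G t) = 0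
      rw [QuotientAddGroup.eq_zero_iff, hW z]
      exact ⟨_, rfl⟩
    · intro hc
      rw [AddMonoidHom.mem_ker] at hc
      obtain ⟨w, rfl⟩ := QuotientAddGroup.mk_surjective c
      have h1 : (QuotientAddGroup.mk (U w) : Formal2.limOne G t) = 0 := hc
      rw [QuotientAddGroup.eq_zero_iff] at h1
      obtain ⟨y, hy⟩ := h1
      have hz : D'' (V y) = 0 := by
        rw [hDV]
        show V (D y) = 0
        rw [hy, hVU]
      exact ⟨⟨V y, hz⟩, δ_apply ⟨V y, hz⟩ y w rfl hy.symm⟩
  · -- exactness at lim¹ G
    ext c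
    constructor
    · rintro ⟨c', rfl⟩
      rw [AddMonoidHom.mem_ker]
      obtain ⟨w, rfl⟩ := QuotientAddGroup.mk_surjective c'
      show (QuotientAddGroup.mk (V (U w)) : Formal2.limOne G'' t'') = 0
      rw [hVU]; rfl
    · intro hc
      rw [AddMonoidHom.mem_ker] at hc
      obtain ⟨y, rfl⟩ := QuotientAddGroup.mk_surjective c
      have h1 : (QuotientAddGroup.mk (V y) : Formal2.limOne G'' t'') = 0 := hc
      rw [QuotientAddGroup.eq_zero_iff] at h1
      obtain ⟨c₀, hc₀⟩ := h1
      obtain ⟨b, rfl⟩ := hVsurj c₀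
      have h2 : V (y - D b) = 0 := by
        rw [map_sub, ← hDV]
        show V y - D'' (V b) = 0
        rw [hc₀, sub_self]
      obtain ⟨w, hw⟩ := hkerV _ h2
      refine ⟨QuotientAddGroup.mk w, ?_⟩
      show (QuotientAddGroup.mk (U w) : Formal2.limOne G t) = QuotientAddGroup.mk y
      rw [QuotientAddGroup.eq_iff_sub_mem, hw]
      refine ⟨-b, ?_⟩
      rw [map_neg]
      show -(D b) = y - D b - y
      abel
  · -- ζ surjective
    intro c
    obtain ⟨z, rfl⟩ := QuotientAddGroup.mk_surjective c
    obtain ⟨y, rfl⟩ := hVsurj z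
    exact ⟨QuotientAddGroup.mk y, rfl⟩

end Groth.Agent.S14617
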