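import Groth.Statements.S14619
import Groth.Agent.Lib.Helper38.CBMain

set_option autoImplicit false
universe u
open Coherent

namespace Groth.Agent.S14619

open CategoryTheory CategoryTheory.Limits AlgebraicGeometry in
/-- Let A be a Noetherian ring, X a proper scheme over Spec A and F a coherent O_X-module flat over Spec
A. Suppose H^p(X, F) = 0 for all p > d and H^p(X_y, F|X_y) = 0 for every point y of Spec A and every
p < d'. Then there is a cochain complex L of finitely generated projective A-modules, with L^i = 0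
unless d' ≤ i ≤ d and with L = 0 when all H^p(X, F) vanish, such that for every A-algebra B and
every p the cohomology H^p(X ×_A Spec B, ξ^*F) of the pulled-back module is isomorphic to H^p(L ⊗_A
B). Only the existence of these isomorphisms of abelian groups is asserted (no naturality in B). -/
theorem result (A : Type u) [CommRing A] [IsNoetherianRing A] (X : Scheme.{u}) [X.Over (Spec (CommRingCat.of A))]
    [IsProper (X ↘ Spec (CommRingCat.of A))] (F : X.Modules) (hF : Coh.IsCoh F)
    (hfl : FlatMod.IsFlatOver (X ↘ Spec (CommRingCat.of A)) F) (d' d : ℕ)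
    (hd : ∀ p : ℕ, d < p → Subsingleton (Coh.HH X F p))
    (hd' : ∀ (y : ↑(Spec (CommRingCat.of A))) (p : ℕ), p < d' →
      Subsingleton (CohIII.fiberH (X ↘ Spec (CommRingCat.of A)) F y p)) :
    ∃ L : CochainComplex (ModuleCat.{u} A) ℤ,
      (∀ i, Module.Finite A (L.X i) ∧ Module.Projective A (L.X i)) ∧
      (∀ i : ℤ, i < (d' : ℤ) ∨ (d : ℤ) < i → IsZero (L.X i)) ∧
      ((∀ p : ℕ, Subsingleton (Coh.HH X F p)) → ∀ i, IsZero (L.X i)) ∧
      ∀ (B : Type u) [CommRing B] [Algebra A B] (p : ℕ),
        Nonempty (Coh.HH (pullback (X ↘ Spec (CommRingCat.of A)) (Spec.map (CommRingCat.ofHom (algebraMap A B))))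
            ((Scheme.Modules.pullback (pullback.fst (X ↘ Spec (CommRingCat.of A))
              (Spec.map (CommRingCat.ofHom (algebraMap A B))))).obj F) p ≃+
          CohIII.T L (p : ℤ) (ModuleCat.of A B)) := by
  classical
  by_cases hall : ∀ p : ℕ, Subsingleton (Coh.HH X F p)
  · obtain ⟨L, hFP, hz, hB⟩ :=
      Groth.Agent.Lib.Helper38.CBMain.exists_grothendieck_complex
        (X ↘ Spec (CommRingCat.of A)) F hF hfl d' (-1) (fun p _ => hall p) hd'
    have hzero : ∀ i : ℤ, IsZero (L.X i) := fun i => hz i (by omega)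
    refine ⟨L, hFP, fun i _ => hzero i, fun _ i => hzero i, ?_⟩
    intro B _ _ p
    exact hB B _ _ (IsPullback.of_hasPullback _ _) p
  · obtain ⟨L, hFP, hz, hB⟩ :=
      Groth.Agent.Lib.Helper38.CBMain.exists_grothendieck_complex
        (X ↘ Spec (CommRingCat.of A)) F hF hfl d' (d : ℤ)
        (fun p hp => hd p (by exact_mod_cast hp)) hd'
    refine ⟨L, hFP, hz, fun h => absurd h hall, ?_⟩
    intro B _ _ p
    exact hB B _ _ (IsPullback.of_hasPullback _ _) p

end Groth.Agent.S14619
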