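import Groth.Statements.S14620
import Groth.Agent.S0505

set_option autoImplicit false
universe u
open Hensel

namespace Groth.Agent.S14620

/-- In the strictly henselian case, let f : A → B be a finite local homomorphism of local rings. If A is
strictly henselian (henselian local with separably closed residue field), then so is B. -/
theorem result {A B : Type u} [CommRing A] [IsLocalRing A]
    [CommRing B] [IsLocalRing B] (f : A →+* B) (hf : f.Finite) [IsLocalHom f]
    (hA : EtCoh.IsStrictlyHenselianLocalRing A) : EtCoh.IsStrictlyHenselianLocalRing B := by
  obtain ⟨hH, hS⟩ := hA
  algebraize [f]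
  have hfin : Module.Finite A B := hf
  have hloc : IsLocalHom (algebraMap A B) := ‹IsLocalHom f›
  have hB : HenselianLocalRing B := Groth.Agent.S0505.result A B
  refine ⟨hB, ?_⟩
  have : Module.Finite (IsLocalRing.ResidueField A) (IsLocalRing.ResidueField B) := inferInstance
  exact Algebra.IsAlgebraic.isSepClosed (F := IsLocalRing.ResidueField A)

end Groth.Agent.S14620
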