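import Groth.Statements.S14622
import Groth.Agent.Lib.Helper43.EtOpenSub

set_option autoImplicit false
open CategoryTheory AlgebraicGeometry
universe u
open EtBase

namespace Groth.Agent.S14622

open CategoryTheory.Limits Opposite Groth.Agent.Lib.Helper43

section Filt

variable {I : Type (u + 1)} [Category.{u} I] [IsFiltered I] {F : I ⥤ AddCommGrpCat.{u + 1}}
  {c : Cocone F}

lemma eq_zero_stage (hc : IsColimit c) {j : I} (y : F.obj j) (h : c.ι.app j y = 0) :
    ∃ (k : I) (f : j ⟶ k), F.map f y = 0 := by
  have : PreservesFilteredColimitsOfSize.{u, u + 1} (forget AddCommGrpCat.{u + 1}) :=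
    preservesFilteredColimitsOfSize_shrink.{u + 1, u + 1, u, u + 1} _
  have : PreservesColimitsOfShape I (forget AddCommGrpCat.{u + 1}) :=
    PreservesFilteredColimitsOfSize.preserves_filtered_colimits I
  have hc' := isColimitOfPreserves (forget AddCommGrpCat.{u + 1}) hc
  have h' : ((forget AddCommGrpCat.{u + 1}).mapCocone c).ι.app j y =
      ((forget AddCommGrpCat.{u + 1}).mapCocone c).ι.app j (0 : F.obj j) := by
    change c.ι.app j y = c.ι.app j 0
    rw [h, map_zero]
  obtain ⟨k, f, hf⟩ := (Types.FilteredColimit.isColimit_eq_iff' hc' _ _).1 h'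
  refine ⟨k, f, ?_⟩
  change F.map f y = F.map f 0 at hf
  rw [hf, map_zero]

end Filt

section Main

variable {Y Y' : Scheme.{u}} (g : Y' ⟶ Y)

/-- the unit of the Kan-extension construction of the adjunction, on underlying presheaves. -/
lemma constr_unit_hom (F : EtCoh.Ab Y) :
    ((Functor.sheafPullbackConstruction.sheafAdjunctionContinuous (EtCoh.bc g) AddCommGrpCat.{u + 1}
      Y.smallEtaleTopology Y'.smallEtaleTopology).unit.app F).hom =
    (EtCoh.bc g).op.lanUnit.app F.obj ≫ Functor.whiskerLeft (EtCoh.bc g).op
      (toSheafify Y'.smallEtaleTopology ((EtCoh.bc g).op.lan.obj F.obj)) := by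
  have h := Adjunction.map_restrictFullyFaithful_unit_app
    (L := Functor.sheafPullbackConstruction.sheafPullback (EtCoh.bc g) AddCommGrpCat.{u + 1}
      Y.smallEtaleTopology Y'.smallEtaleTopology)
    (R := (EtCoh.bc g).sheafPushforwardContinuous AddCommGrpCat.{u + 1}
      Y.smallEtaleTopology Y'.smallEtaleTopology)
    (adj := ((EtCoh.bc g).op.lanAdjunction AddCommGrpCat.{u + 1}).comp
      (sheafificationAdjunction Y'.smallEtaleTopology AddCommGrpCat.{u + 1}))
    (fullyFaithfulSheafToPresheaf Y.smallEtaleTopology AddCommGrpCat.{u + 1})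
    (Functor.FullyFaithful.id _) (Iso.refl _) (Iso.refl _) F
  simp only [Adjunction.comp_unit_app, Functor.lanAdjunction_unit, Iso.refl_hom, NatTrans.id_app] at h
  refine h.trans ?_
  erw [CategoryTheory.Functor.map_id, Category.id_comp, Category.comp_id]

/-- Elementwise: a section killed by the unit of the Kan-extension adjunction dies on a covering. -/
lemma exists_sieve_of_unit_eq_zero [Surjective g] (F : EtCoh.Ab Y) (U : Y.Etale)
    (s : F.obj.obj (op U))
    (hs : (toSheafify Y'.smallEtaleTopology ((EtCoh.bc g).op.lan.obj F.obj)).app (op ((EtCoh.bc g).obj U))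
      (((EtCoh.bc g).op.lanUnit.app F.obj).app (op U) s) = 0) :
    ∀ x : U.left, ∃ (W : Y.Etale) (w : W ⟶ U) (y : W.left), F.obj.map w.op s = 0 ∧ w.left y = x := by
  intro x
  let G := EtCoh.bc g
  let P := G.op.lan.obj F.obj
  let a := (G.op.lanUnit.app F.obj).app (op U) s
  -- local injectivity of sheafification
  have hloc := Presheaf.equalizerSieve_mem Y'.smallEtaleTopology (toSheafify Y'.smallEtaleTopology P)
    (X := op (G.obj U)) a 0 (by rw [hs, map_zero])
  rw [EtOpenSub.mem_smallEtaleTopology_iff'] at hloc
  -- a point of `G U` above `x`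
  obtain ⟨y', hy'⟩ := (inferInstance : Surjective g).surj (U.hom x)
  obtain ⟨z, hz1, -⟩ := Scheme.Pullback.exists_preimage_pullback (f := U.hom) (g := g) x y' hy'.symm
  obtain ⟨V', h, v', hh, hv'⟩ := hloc z
  change P.map h.op a = P.map h.op 0 at hh
  rw [map_zero] at hh
  -- pointwise Kan extension
  have hpt := Functor.isPointwiseLeftKanExtensionOfIsLeftKanExtension (G.op.lan.obj F.obj)
    (G.op.lanUnit.app F.obj) (op V')
  let j0 : CostructuredArrow G.op (op V') := CostructuredArrow.mk (Y := op U) h.op
  have hj0 : ((Functor.LeftExtension.mk _ (G.op.lanUnit.app F.obj)).coconeAt (op V')).ι.app j0 s = 0 := by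
    exact hh
  obtain ⟨k, f, hf⟩ := eq_zero_stage hpt (j := j0) s hj0
  let W : Y.Etale := k.left.unop
  let w : W ⟶ U := f.left.unop
  let k' : V' ⟶ G.obj W := k.hom.unop
  have hw : k' ≫ G.map w = h := by
    have := CostructuredArrow.w f
    exact congrArg Quiver.Hom.unop this
  have hsq := (EtCoh.isPullback_bc_map g w).w
  refine ⟨W, w, (pullback.fst W.hom g) (k'.left v'), hf, ?_⟩
  have e1 : (pullback.fst W.hom g ≫ w.left) (k'.left v') = x := by
    have h4 : (pullback.fst W.hom g ≫ w.left) (k'.left v') =
        ((G.map w).left ≫ pullback.fst U.hom g) (k'.left v') :=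
      congrArg (fun m : (G.obj W).left ⟶ U.left => m (k'.left v')) hsq.symm
    have e2 : (k'.left ≫ (G.map w).left) v' = z := by
      have : k'.left ≫ (G.map w).left = h.left := by
        rw [← hw]; rfl
      rw [this, hv']
    have e3 : ((G.map w).left ≫ pullback.fst U.hom g) (k'.left v') =
        (pullback.fst U.hom g) ((k'.left ≫ (G.map w).left) v') := rfl
    rw [h4, e3, e2, hz1]
  exact e1

end Main


/-- Let g : Y' → Y be a morphism of schemes which is surjective on points. Then for every abelian sheaf
F on the small étale site of Y the unit F → g_* g⁻¹ F of the adjunction between inverse image and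
direct image is a monomorphism. -/
theorem result {Y Y' : Scheme.{u}} (g : Y' ⟶ Y) [Surjective g]
    (F : EtCoh.Ab Y) : Mono ((EtCoh.pullPushAdj g).unit.app F) := by
  let adj₁ := EtCoh.pullPushAdj g
  let adj₂ := Functor.sheafPullbackConstruction.sheafAdjunctionContinuous (EtCoh.bc g)
    AddCommGrpCat.{u + 1} Y.smallEtaleTopology Y'.smallEtaleTopology
  have hfac : adj₁.unit.app F ≫ (EtCoh.push g).map ((Adjunction.leftAdjointUniq adj₁ adj₂).hom.app F) =
      adj₂.unit.app F := Adjunction.unit_leftAdjointUniq_hom_app adj₁ adj₂ F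
  have hmono' : Mono (adj₂.unit.app F).hom := by
    apply (config := { allowSynthFailures := true }) NatTrans.mono_of_mono_app
    intro U
    obtain ⟨U⟩ := U
    rw [AddCommGrpCat.mono_iff_injective, injective_iff_map_eq_zero]
    intro s hs
    have hs' : (toSheafify Y'.smallEtaleTopology ((EtCoh.bc g).op.lan.obj F.obj)).app
        (op ((EtCoh.bc g).obj U)) (((EtCoh.bc g).op.lanUnit.app F.obj).app (op U) s) = 0 := by
      have h1 := constr_unit_hom g F
      have h2 := congrArg (fun (α : F.obj ⟶ _) => α.app (op U) s) h1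
      exact h2.symm.trans hs
    have hcov := exists_sieve_of_unit_eq_zero g F U s hs'
    let T : Sieve U :=
      { arrows := fun W w => F.obj.map w.op s = 0
        downward_closed := by
          intro W W' w hw w'
          change F.obj.map (w' ≫ w).op s = 0
          rw [op_comp, F.obj.map_comp, ConcreteCategory.comp_apply, hw, map_zero] }
    have hT : T ∈ Y.smallEtaleTopology U := by
      rw [EtOpenSub.mem_smallEtaleTopology_iff']
      intro x
      obtain ⟨W, w, y, h1, h2⟩ := hcov x
      exact ⟨W, w, y, h1, h2⟩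
    refine (Sheaf.isSeparated F) U T hT s 0 ?_
    intro W w hw
    rw [map_zero]
    exact hw
  have hmono : Mono (adj₂.unit.app F) := Sheaf.Hom.mono_of_presheaf_mono _ _ _
  exact mono_of_mono_fac hfac

end Groth.Agent.S14622
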