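import Groth.Statements.S14624
-- import your own Groth.Agent.* helpers here
import Groth.Agent.H46.ColimFP2

set_option autoImplicit false
open CategoryTheory CategoryTheory.Limits
universe u
open Hensel

namespace Groth.Agent.S14624


open Groth.Agent.H46 CategoryTheory.Limits

/-- Let A be a commutative ring, m a proper ideal of A and Â the m-adic completion. Assume the
approximation property for polynomial systems: whenever finitely many polynomials over A in finitely
many variables have a common zero â in Â, then for every c there is a common zero a in A which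
agrees with â in A/m^c. Let F be a functor from A-algebras (commutative rings under A) to sets which
preserves filtered colimits, c a natural number and ξ ∈ F(Â). Then there is η ∈ F(A) whose image in
F(A/m^c) equals the image of ξ; here π is the A-algebra map Â → A/m^c (pinned by its underlying ring
map) and ρ the A-algebra map A → A/m^c. (The published statement takes for A the henselization at a
prime ideal of an algebra of finite type over a field or over an excellent discrete valuation ring,
for which the approximation property of polynomial systems is quoted; this row carries that property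
as a hypothesis and draws the published conclusion for functors.) -/
theorem result (A : Type u) [CommRing A]
    (m : Ideal A) (hm : m ≠ ⊤)
    (hAP : ∀ (k l c : ℕ) (f : Fin l → MvPolynomial (Fin k) A) (â : Fin k → AdicCompletion m A),
      (∀ i, MvPolynomial.aeval â (f i) = 0) →
      ∃ a : Fin k → A, (∀ i, MvPolynomial.eval a (f i) = 0) ∧
        ∀ j, Ideal.Quotient.mk (m ^ c) (a j) = AdicCompletion.evalₐ m c (â j))
    (F : Under (CommRingCat.of A) ⥤ Type u)
    (hF : ∀ (J : Type u) [SmallCategory J] [IsFiltered J], PreservesColimitsOfShape J F)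
    (c : ℕ)
    (π : Under.mk (CommRingCat.ofHom (algebraMap A (AdicCompletion m A))) ⟶
      Under.mk (CommRingCat.ofHom (algebraMap A (A ⧸ m ^ c))))
    (hπ : π.right = CommRingCat.ofHom
      (AdicCompletion.evalₐ m c : AdicCompletion m A →ₐ[A] A ⧸ m ^ c).toRingHom)
    (ρ : Under.mk (𝟙 (CommRingCat.of A)) ⟶ Under.mk (CommRingCat.ofHom (algebraMap A (A ⧸ m ^ c))))
    (ξ : F.obj (Under.mk (CommRingCat.ofHom (algebraMap A (AdicCompletion m A))))) :
    ∃ η : F.obj (Under.mk (𝟙 (CommRingCat.of A))), F.map ρ η = F.map π ξ := by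
  classical
  -- `F` preserves the colimit presentation of the completion by finitely presented algebras
  haveI := hF (ColimFP2.Idx A (AdicCompletion m A))
  have hcol : IsColimit (F.mapCocone (ColimFP2.cocone (R := A) (A := AdicCompletion m A))) :=
    isColimitOfPreserves F ColimFP2.isColimit
  obtain ⟨i, ξ', hξ'⟩ := Types.jointly_surjective_of_isColimit hcol ξ
  -- enumerate variables and relations
  let T : Finset (AdicCompletion m A) := i.1.1
  let e : T ≃ Fin T.card := T.equivFin
  have hSfin : {x : ColimFP2.Sub i | ColimFP2.ext A (AdicCompletion m A) i.1.1 x ∈ i.1.2}.Finite :=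
    Set.Finite.preimage ((ColimFP2.ext_injective i.1.1).injOn) i.1.2.finite_toSet
  let Sfin : Finset (ColimFP2.Sub i) := hSfin.toFinset
  let el : Sfin ≃ Fin Sfin.card := Sfin.equivFin
  let f : Fin Sfin.card → MvPolynomial (Fin T.card) A := fun j =>
    MvPolynomial.rename e (el.symm j).1
  let â : Fin T.card → AdicCompletion m A := fun j => (e.symm j).1
  have hmemS : ∀ x : ColimFP2.Sub i, x ∈ Sfin ↔
      ColimFP2.ext A (AdicCompletion m A) i.1.1 x ∈ i.1.2 := fun x => by
    simp [Sfin]
  have hâ : ∀ j, MvPolynomial.aeval â (f j) = 0 := by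
    intro j
    have h1 : ColimFP2.ext A (AdicCompletion m A) i.1.1 (el.symm j).1 ∈ i.1.2 :=
      (hmemS _).mp (el.symm j).2
    have h2 := (i.2 _ h1).2
    unfold ColimFP2.ev ColimFP2.ext at h2
    rw [MvPolynomial.aeval_rename] at h2
    show MvPolynomial.aeval â (MvPolynomial.rename e (el.symm j).1) = 0
    rw [MvPolynomial.aeval_rename]
    have h3 : (â ∘ e) = (id ∘ Subtype.val : T → AdicCompletion m A) := by
      funext t
      show ((e.symm (e t)) : T).1 = t.1
      rw [Equiv.symm_apply_apply]
    rw [h3]
    exact h2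
  obtain ⟨a, ha0, hac⟩ := hAP T.card Sfin.card c f â hâ
  -- the section `A' → A`
  let σ₀ : ColimFP2.Sub i →ₐ[A] A := MvPolynomial.aeval (fun t : T => a (e t))
  have hσ₀ : ∀ x ∈ ColimFP2.rel i, σ₀.toRingHom x = 0 := by
    intro x hx
    have hle : ColimFP2.rel i ≤ RingHom.ker σ₀.toRingHom := by
      rw [ColimFP2.rel, Ideal.span_le]
      intro y hy
      have hyS : y ∈ Sfin := (hmemS y).mpr hy
      rw [SetLike.mem_coe, RingHom.mem_ker]
      have h1 := ha0 (el ⟨y, hyS⟩)
      show MvPolynomial.aeval (fun t : T => a (e t)) y = 0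
      have h2 : f (el ⟨y, hyS⟩) = MvPolynomial.rename e y := by
        show MvPolynomial.rename e (el.symm (el ⟨y, hyS⟩)).1 = _
        rw [Equiv.symm_apply_apply]
      rw [h2, MvPolynomial.eval_rename] at h1
      have h3 : MvPolynomial.aeval (fun t : T => a (e t)) y =
          MvPolynomial.eval (fun t : T => a (e t)) y :=
        DFunLike.congr_fun (MvPolynomial.coe_aeval_eq_eval (fun t : T => a (e t))) y
      rw [h3]
      exact h1
    exact hle hx
  let σ : (ColimFP2.Sub i ⧸ ColimFP2.rel i) →+* A :=
    Ideal.Quotient.lift (ColimFP2.rel i) σ₀.toRingHom hσ₀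
  have hσmk : ∀ p : ColimFP2.Sub i, σ (Ideal.Quotient.mk (ColimFP2.rel i) p) = σ₀ p := fun p =>
    Ideal.Quotient.lift_mk _ _ _
  have hσalg : ∀ r : A, σ (algebraMap A (ColimFP2.Sub i ⧸ ColimFP2.rel i) r) = r := by
    intro r
    rw [IsScalarTower.algebraMap_apply A (ColimFP2.Sub i) (ColimFP2.Sub i ⧸ ColimFP2.rel i),
      Ideal.Quotient.algebraMap_eq, hσmk, AlgHom.commutes]
    rfl
  let σ' : (ColimFP2.diagram (R := A) (A := AdicCompletion m A)).obj i ⟶
      Under.mk (𝟙 (CommRingCat.of A)) :=
    Under.homMk (CommRingCat.ofHom σ) (by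
      ext r
      exact hσalg r)
  let ι : (ColimFP2.diagram (R := A) (A := AdicCompletion m A)).obj i ⟶
      Under.mk (CommRingCat.ofHom (algebraMap A (AdicCompletion m A))) :=
    (ColimFP2.cocone (R := A) (A := AdicCompletion m A)).ι.app i
  have hξ'' : F.map ι ξ' = ξ := hξ'
  refine ⟨F.map σ' ξ', ?_⟩
  rw [← hξ'']
  have e1 : F.map ρ (F.map σ' ξ') = F.map (σ' ≫ ρ) ξ' := (F.map_comp_apply σ' ρ ξ').symm
  have e2 : F.map π (F.map ι ξ') = F.map (ι ≫ π) ξ' := (F.map_comp_apply ι π ξ').symm
  rw [e1, e2]
  have hρ : ρ.right = CommRingCat.ofHom (algebraMap A (A ⧸ m ^ c)) := by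
    have := Under.w ρ
    simpa using this
  have hcomp : σ' ≫ ρ = ι ≫ π := by
    apply Under.UnderMorphism.ext
    rw [Under.comp_right, Under.comp_right, hρ, hπ]
    ext x
    obtain ⟨p, rfl⟩ := Ideal.Quotient.mk_surjective x
    show algebraMap A (A ⧸ m ^ c) (σ (Ideal.Quotient.mk _ p)) =
      AdicCompletion.evalₐ m c (ColimFP2.leg i (Ideal.Quotient.mk _ p))
    rw [hσmk, ColimFP2.leg_mk]
    -- two ring maps out of the polynomial ring
    let g1 : ColimFP2.Sub i →+* A ⧸ m ^ c := (algebraMap A (A ⧸ m ^ c)).comp σ₀.toRingHom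
    let g2 : ColimFP2.Sub i →+* A ⧸ m ^ c :=
      (AdicCompletion.evalₐ m c : AdicCompletion m A →ₐ[A] A ⧸ m ^ c).toRingHom.comp
        ((ColimFP2.ev A (AdicCompletion m A)).toRingHom.comp
          (ColimFP2.ext A (AdicCompletion m A) i.1.1).toRingHom)
    have hg : g1 = g2 := by
      apply MvPolynomial.ringHom_ext
      · intro r
        show algebraMap A (A ⧸ m ^ c) (σ₀ (MvPolynomial.C r)) =
          AdicCompletion.evalₐ m c (ColimFP2.ev A (AdicCompletion m A)
            (ColimFP2.ext A (AdicCompletion m A) i.1.1 (MvPolynomial.C r)))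
        rw [← MvPolynomial.algebraMap_eq, AlgHom.commutes, AlgHom.commutes, AlgHom.commutes,
          AlgHom.commutes]
        rfl
      · intro t
        show algebraMap A (A ⧸ m ^ c) (σ₀ (MvPolynomial.X t)) =
          AdicCompletion.evalₐ m c (ColimFP2.ev A (AdicCompletion m A)
            (ColimFP2.ext A (AdicCompletion m A) i.1.1 (MvPolynomial.X t)))
        have h1 : σ₀ (MvPolynomial.X t) = a (e t) := MvPolynomial.aeval_X _ _
        have h2 : ColimFP2.ev A (AdicCompletion m A)
            (ColimFP2.ext A (AdicCompletion m A) i.1.1 (MvPolynomial.X t)) = t.1 := by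
          unfold ColimFP2.ev ColimFP2.ext
          rw [MvPolynomial.rename_X, MvPolynomial.aeval_X]
          rfl
        rw [h1, h2]
        have h3 := hac (e t)
        have h4 : â (e t) = t.1 := by
          show ((e.symm (e t)) : T).1 = t.1
          rw [Equiv.symm_apply_apply]
        rw [h4] at h3
        exact h3
    exact DFunLike.congr_fun hg p
  rw [hcomp]

end Groth.Agent.S14624
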